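import Groth.Statements.S16090
import Groth.Agent.Lib.Helper1.RefHull13
import Groth.Agent.Lib.Helper18.SDiv.SecOrd

set_option autoImplicit false
universe u
open CategoryTheory CategoryTheory.Limits AlgebraicGeometry TopologicalSpace
open SDiv

namespace Groth.Agent.S16090

open RefHull Groth.Agent.Lib.Helper1.RefHullLib
open Groth.Agent.Lib.Helper28.QCohLoc Groth.Agent.Lib.Helper29.QCohStalk
open Groth.Agent.Lib.Helper28.GenLocus Groth.Agent.Lib.Helper18 Groth.Agent.Lib.Helper28.TensorGen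
  Groth.Agent.Lib.Helper28.InvTensor
open Groth.Agent.Lib.Helper18.C1Core Groth.Agent.Lib.Helper18.InvStalk Groth.Agent.Lib.Helper18.SDivLib
  Groth.Agent.Lib.Helper18.CycDiv

/-- a generator over `W` gives free generators of the stalks at the points of `W`. -/
theorem freeGen_gm_of_isGen {X : Scheme.{u}} {F : X.Modules} {W : X.Opens} {g : Γ(F, W)}
    (hg : IsGen F W g) (x : X) (hx : x ∈ W) :
    FreeGen (X.presheaf.stalk x) (gm F W x hx g) := by
  have hb := bijective_smul_gm_of_isGen hg x hx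
  constructor
  · rw [eq_top_iff]
    rintro m -
    obtain ⟨a, ha⟩ := hb.2 m
    exact Submodule.mem_span_singleton.2 ⟨a, ha⟩
  · intro a ha
    apply hb.1
    simp only [ha, zero_smul]

/-- the order of a rational section written on the specialization of a free generator at `x`
whose specialization is a free generator at `ξ`. -/
theorem secOrdAt_smul_mk_of_freeGen' {X : Scheme.{u}} [IsLocallyNoetherian X] (L : X.Modules)
    {ξ x : X} (h : ξ ⤳ x)
    (hd : Ring.KrullDimLE 1 (Cyc.LocQuot x ξ h)) {t : L.presheaf.stalk x}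
    (ht : FreeGen (X.presheaf.stalk x) t)
    (htξ : FreeGen (X.presheaf.stalk ξ) (L.presheaf.stalkSpecializes h t))
    (φ : X.presheaf.stalk ξ) (hφ : X.residue ξ φ ≠ 0) :
    Cyc.secOrdAt L ξ x h (φ • (Submodule.Quotient.mk
      ((L.presheaf.stalkSpecializes h) t) : Cyc.secFibre L ξ)) =
      Cyc.ordAt x ξ h (X.residue ξ φ) := by
  have ht0 : ∃ t : L.presheaf.stalk x, Submodule.span (X.presheaf.stalk x) {t} = ⊤ := ⟨t, ht.1⟩
  obtain ⟨u, hu, hfree0⟩ := ht.of_span_eq_top (Classical.choose_spec ht0)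
  have hspec : L.presheaf.stalkSpecializes h (Classical.choose ht0) =
      X.presheaf.stalkSpecializes h (u : X.presheaf.stalk x) • L.presheaf.stalkSpecializes h t := by
    conv_lhs => rw [hu, stalkSpecializes_smul]
  have hu' : IsUnit (X.presheaf.stalkSpecializes h (u : X.presheaf.stalk x)) :=
    u.isUnit.map (X.presheaf.stalkSpecializes h).hom
  have hφ' : ∃ φ' : X.presheaf.stalk ξ,
      φ • (Submodule.Quotient.mk ((L.presheaf.stalkSpecializes h) t) : Cyc.secFibre L ξ) =
      φ' • (Submodule.Quotient.mk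
        ((L.presheaf.stalkSpecializes h) (Classical.choose ht0)) : Cyc.secFibre L ξ) := by
    refine ⟨φ * ↑hu'.unit⁻¹, ?_⟩
    rw [hspec, Submodule.Quotient.mk_smul, ← mul_smul, mul_assoc]
    have : (↑hu'.unit⁻¹ : X.presheaf.stalk ξ) * X.presheaf.stalkSpecializes h (u : X.presheaf.stalk x) = 1 :=
      hu'.val_inv_mul
    rw [this, mul_one]
  unfold Cyc.secOrdAt
  rw [dif_pos ht0, dif_pos hφ']
  have h1 := Classical.choose_spec hφ'
  generalize Classical.choose hφ' = ψ at h1 ⊢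
  rw [hspec, Submodule.Quotient.mk_smul, ← mul_smul] at h1
  have h2 := residue_eq_of_smul_mk_eq L htξ _ _ h1
  rw [map_mul] at h2
  have h3 : X.residue ξ (X.presheaf.stalkSpecializes h (u : X.presheaf.stalk x)) =
      Cyc.specMap x ξ h (u : X.presheaf.stalk x) := rfl
  rw [h3] at h2
  have hu0 : Cyc.specMap x ξ h (u : X.presheaf.stalk x) ≠ 0 :=
    (u.isUnit.map (Cyc.specMap x ξ h)).ne_zero
  have h4 : Cyc.ordAt x ξ h (Cyc.specMap x ξ h (u : X.presheaf.stalk x)) = 0 :=
    ordAt_eq_zero_of_isUnit h _ u 1 (by simp)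
  have hψ0 : X.residue ξ ψ ≠ 0 := by
    intro h0
    rw [h0, zero_mul] at h2
    exact hφ h2
  rw [h2, ordAt_mul h hd hψ0 hu0, h4, add_zero]

/-- The class map is additive for the reflexive tensor product: suppose X is a scheme that is integral,
normal and locally Noetherian, write η for its generic point, and take F and G to be rank one
coherent reflexive O_X-modules with s ∈ F_η, t ∈ G_η nonzero rational sections, with orders
ord_{x,F}(s), ord_{x,G}(t) at the points x of codimension 1 taken with respect to generators of the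
free rank one stalks. Then the reflexive hull (F ⊗_{O_X} G)^** admits a nonzero rational section w
whose order at every codimension-1 point x is ord_{x,F}(s) + ord_{x,G}(t); so the Weil divisor class
of (F ⊗ G)^** is the sum of the classes of F and G. -/
theorem result (X : Scheme.{u}) [IsIntegral X] [IsLocallyNoetherian X]
    (hX : Pi1.IsNormalScheme X) (F G : X.Modules) (hF : RefHull.IsRef1 F) (hG : RefHull.IsRef1 G)
    (s : Cyc.secFibre F (genericPoint ↥X)) (hs : s ≠ 0) (t : Cyc.secFibre G (genericPoint ↥X)) (ht : t ≠ 0) :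
    ∃ w : Cyc.secFibre (RefHull.ddual (CohB1.tensorMod F G)) (genericPoint ↥X), w ≠ 0 ∧
      ∀ (x : ↥X), Order.coheight x = 1 →
        Cyc.secOrdAt (RefHull.ddual (CohB1.tensorMod F G)) (genericPoint ↥X) x
            ((genericPoint_spec ↥X).specializes (Set.mem_univ x)) w =
          Cyc.secOrdAt F (genericPoint ↥X) x ((genericPoint_spec ↥X).specializes (Set.mem_univ x)) s +
            Cyc.secOrdAt G (genericPoint ↥X) x ((genericPoint_spec ↥X).specializes (Set.mem_univ x)) t := by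
  classical
  obtain ⟨W, g, hηW, hg⟩ := exists_isGen_generic F hF.2.2
  obtain ⟨W', g', hηW', hg'⟩ := exists_isGen_generic G hG.2.2
  have hηW₀ : genericPoint ↥X ∈ W ⊓ W' := ⟨hηW, hηW'⟩
  let d : Gen1 F (W ⊓ W') := ⟨res F inf_le_left g, hg.res inf_le_left⟩
  let d' : Gen1 G (W ⊓ W') := ⟨res G inf_le_right g', hg'.res inf_le_right⟩
  have hT := isGen_tmulSec F G d.2 d'.2
  have hD := isGen_ddualGenS hT
  have fg := freeGen_gm_of_isGen d.2 (genericPoint ↥X) hηW₀
  have fg' := freeGen_gm_of_isGen d'.2 (genericPoint ↥X) hηW₀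
  have fD := freeGen_gm_of_isGen hD (genericPoint ↥X) hηW₀
  obtain ⟨a, ha⟩ := exists_smul_mk F fg s
  obtain ⟨b, hb⟩ := exists_smul_mk G fg' t
  have ha0 : X.residue (genericPoint ↥X) a ≠ 0 := residue_ne_zero_of_smul_mk_ne_zero F a (ha ▸ hs)
  have hb0 : X.residue (genericPoint ↥X) b ≠ 0 := residue_ne_zero_of_smul_mk_ne_zero G b (hb ▸ ht)
  refine ⟨(a * b) • Submodule.Quotient.mk (gm (ddual (CohB1.tensorMod F G)) (W ⊓ W') (genericPoint ↥X) hηW₀
    (ddualGenS (tmulSec F G d.1 d'.1))), ?_, ?_⟩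
  · intro h0
    have h1 := residue_eq_of_smul_mk_eq _ fD (a * b) 0 (by rw [h0, zero_smul])
    rw [map_mul, map_zero] at h1
    exact mul_ne_zero ha0 hb0 h1
  · intro x hx
    have hdim : ringKrullDim (X.presheaf.stalk x) = 1 := by
      rw [ringKrullDim_stalk_eq_coheight, hx]
      rfl
    have hx2 : ¬ (2 : WithBot ℕ∞) ≤ ringKrullDim (X.presheaf.stalk x) := by
      rw [hdim]
      decide
    have hsp : genericPoint ↥X ⤳ x := (genericPoint_spec ↥X).specializes (Set.mem_univ x)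
    have hd := krullDimLE_one_locQuot_of_dim hsp hdim
    obtain ⟨U, hxU, ⟨e⟩⟩ := exists_gen1 hX F hF x hx2
    obtain ⟨U', hxU', ⟨e'⟩⟩ := exists_gen1 hX G hG x hx2
    have hxU₀ : x ∈ U ⊓ U' := ⟨hxU, hxU'⟩
    have hηU₀ : genericPoint ↥X ∈ U ⊓ U' := hsp.mem_open (U ⊓ U').isOpen hxU₀
    let γ : Gen1 F (U ⊓ U') := e.rs inf_le_left
    let γ' : Gen1 G (U ⊓ U') := e'.rs inf_le_right
    have hTγ := isGen_tmulSec F G γ.2 γ'.2
    have hDγ := isGen_ddualGenS hTγ
    have hηV : genericPoint ↥X ∈ (W ⊓ W') ⊓ (U ⊓ U') := ⟨hηW₀, hηU₀⟩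
    have hVW : (W ⊓ W') ⊓ (U ⊓ U') ≤ W ⊓ W' := inf_le_left
    have hVU : (W ⊓ W') ⊓ (U ⊓ U') ≤ U ⊓ U' := inf_le_right
    obtain ⟨r, hr⟩ := Gen1.exists_smul (d.rs hVW) (γ.rs hVU)
    obtain ⟨r', hr'⟩ := Gen1.exists_smul (d'.rs hVW) (γ'.rs hVU)
    have e1 : gm F (W ⊓ W') (genericPoint ↥X) hηW₀ d.1 =
        X.presheaf.germ _ (genericPoint ↥X) hηV r • gm F (U ⊓ U') (genericPoint ↥X) hηU₀ γ.1 := by
      rw [← gm_res F hVW (genericPoint ↥X) hηV, ← gm_res F hVU (genericPoint ↥X) hηV γ.1, ← gm_smul]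
      exact congrArg _ hr
    have e2 : gm G (W ⊓ W') (genericPoint ↥X) hηW₀ d'.1 =
        X.presheaf.germ _ (genericPoint ↥X) hηV r' • gm G (U ⊓ U') (genericPoint ↥X) hηU₀ γ'.1 := by
      rw [← gm_res G hVW (genericPoint ↥X) hηV, ← gm_res G hVU (genericPoint ↥X) hηV γ'.1, ← gm_smul]
      exact congrArg _ hr'
    have e3 : gm (ddual (CohB1.tensorMod F G)) (W ⊓ W') (genericPoint ↥X) hηW₀
          (ddualGenS (tmulSec F G d.1 d'.1)) =
        (X.presheaf.germ _ (genericPoint ↥X) hηV r * X.presheaf.germ _ (genericPoint ↥X) hηV r') •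
          gm (ddual (CohB1.tensorMod F G)) (U ⊓ U') (genericPoint ↥X) hηU₀
            (ddualGenS (tmulSec F G γ.1 γ'.1)) := by
      rw [← gm_res _ hVW (genericPoint ↥X) hηV, ← gm_res _ hVU (genericPoint ↥X) hηV
        (ddualGenS (tmulSec F G γ.1 γ'.1)), ← map_mul, ← gm_smul]
      congr 1
      rw [res_ddualGenS hT, res_ddualGenS hTγ, tmulSec_res, tmulSec_res]
      have hgV := isGen_tmulSec F G (d.rs hVW).2 (d'.rs hVW).2
      show ddualGenS (tmulSec F G (d.rs hVW).1 (d'.rs hVW).1) = _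
      rw [hr, hr', tmulSec_smul_left, tmulSec_smul_right, ← mul_smul] at hgV ⊢
      rw [ddualGenS_smul (isGen_tmulSec F G (γ.rs hVU).2 (γ'.rs hVU).2) (r * r') hgV]
      rfl
    have sp1 : F.presheaf.stalkSpecializes hsp (gm F (U ⊓ U') x hxU₀ γ.1) =
        gm F (U ⊓ U') (genericPoint ↥X) hηU₀ γ.1 :=
      TopCat.Presheaf.germ_stalkSpecializes_apply _ _ _ _
    have sp2 : G.presheaf.stalkSpecializes hsp (gm G (U ⊓ U') x hxU₀ γ'.1) =
        gm G (U ⊓ U') (genericPoint ↥X) hηU₀ γ'.1 :=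
      TopCat.Presheaf.germ_stalkSpecializes_apply _ _ _ _
    have sp3 : (ddual (CohB1.tensorMod F G)).presheaf.stalkSpecializes hsp
        (gm (ddual (CohB1.tensorMod F G)) (U ⊓ U') x hxU₀ (ddualGenS (tmulSec F G γ.1 γ'.1))) =
        gm (ddual (CohB1.tensorMod F G)) (U ⊓ U') (genericPoint ↥X) hηU₀
          (ddualGenS (tmulSec F G γ.1 γ'.1)) :=
      TopCat.Presheaf.germ_stalkSpecializes_apply _ _ _ _
    have hs' : s = (a * X.presheaf.germ _ (genericPoint ↥X) hηV r) •
        (Submodule.Quotient.mk (F.presheaf.stalkSpecializes hsp (gm F (U ⊓ U') x hxU₀ γ.1)) :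
          Cyc.secFibre F (genericPoint ↥X)) := by
      rw [ha, e1, sp1, Submodule.Quotient.mk_smul, mul_smul]
    have ht' : t = (b * X.presheaf.germ _ (genericPoint ↥X) hηV r') •
        (Submodule.Quotient.mk (G.presheaf.stalkSpecializes hsp (gm G (U ⊓ U') x hxU₀ γ'.1)) :
          Cyc.secFibre G (genericPoint ↥X)) := by
      rw [hb, e2, sp2, Submodule.Quotient.mk_smul, mul_smul]
    have hA : X.residue (genericPoint ↥X) (a * X.presheaf.germ _ (genericPoint ↥X) hηV r) ≠ 0 :=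
      residue_ne_zero_of_smul_mk_ne_zero F _ (hs' ▸ hs)
    have hB : X.residue (genericPoint ↥X) (b * X.presheaf.germ _ (genericPoint ↥X) hηV r') ≠ 0 :=
      residue_ne_zero_of_smul_mk_ne_zero G _ (ht' ▸ ht)
    have hw' : ((a * b) • Submodule.Quotient.mk (gm (ddual (CohB1.tensorMod F G)) (W ⊓ W')
          (genericPoint ↥X) hηW₀ (ddualGenS (tmulSec F G d.1 d'.1))) :
          Cyc.secFibre (ddual (CohB1.tensorMod F G)) (genericPoint ↥X)) =
        ((a * X.presheaf.germ _ (genericPoint ↥X) hηV r) *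
          (b * X.presheaf.germ _ (genericPoint ↥X) hηV r')) •
        (Submodule.Quotient.mk ((ddual (CohB1.tensorMod F G)).presheaf.stalkSpecializes hsp
          (gm (ddual (CohB1.tensorMod F G)) (U ⊓ U') x hxU₀ (ddualGenS (tmulSec F G γ.1 γ'.1)))) :
          Cyc.secFibre (ddual (CohB1.tensorMod F G)) (genericPoint ↥X)) := by
      rw [e3, sp3, Submodule.Quotient.mk_smul, ← mul_smul]
      congr 1
      ring
    have hAB : X.residue (genericPoint ↥X) ((a * X.presheaf.germ _ (genericPoint ↥X) hηV r) *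
          (b * X.presheaf.germ _ (genericPoint ↥X) hηV r')) ≠ 0 := by
      rw [map_mul]
      exact mul_ne_zero hA hB
    rw [hw', hs', ht',
      secOrdAt_smul_mk_of_freeGen' _ hsp hd (freeGen_gm_of_isGen hDγ x hxU₀)
        (by rw [sp3]; exact freeGen_gm_of_isGen hDγ (genericPoint ↥X) hηU₀) _ hAB,
      secOrdAt_smul_mk_of_freeGen' F hsp hd (freeGen_gm_of_isGen γ.2 x hxU₀)
        (by rw [sp1]; exact freeGen_gm_of_isGen γ.2 (genericPoint ↥X) hηU₀) _ hA,
      secOrdAt_smul_mk_of_freeGen' G hsp hd (freeGen_gm_of_isGen γ'.2 x hxU₀)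
        (by rw [sp2]; exact freeGen_gm_of_isGen γ'.2 (genericPoint ↥X) hηU₀) _ hB,
      map_mul, ordAt_mul hsp hd hA hB]

end Groth.Agent.S16090
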