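import Groth.Statements.S16104
import Mathlib.RingTheory.HopkinsLevitzki
import Mathlib.RingTheory.Ideal.Quotient.Noetherian
import Mathlib.RingTheory.LocalRing.Quotient
import Mathlib.Tactic.Ring

set_option autoImplicit false
universe u v
open LunaSt

namespace Groth.Agent.S16104

/-- `A / m^(n+1)` has finite length over `A`. -/
theorem length_quot_ne_top (A : Type u) [CommRing A] [IsLocalRing A] [IsNoetherianRing A] (n : ℕ) :
    Module.length A (A ⧸ IsLocalRing.maximalIdeal A ^ (n + 1)) ≠ ⊤ := by
  have hI : IsLocalRing.maximalIdeal A ^ (n + 1) ≠ ⊤ := by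
    intro h
    have h1 : IsLocalRing.maximalIdeal A ^ (n + 1) ≤ IsLocalRing.maximalIdeal A :=
      Ideal.pow_le_self (by omega)
    rw [h] at h1
    exact (IsLocalRing.maximalIdeal.isMaximal A).ne_top (top_le_iff.mp h1)
  have : Nontrivial (A ⧸ IsLocalRing.maximalIdeal A ^ (n + 1)) :=
    Ideal.Quotient.nontrivial_iff.mpr hI
  have := IsLocalRing.of_surjective' (Ideal.Quotient.mk (IsLocalRing.maximalIdeal A ^ (n + 1)))
    Ideal.Quotient.mk_surjective
  have := IsLocalHom.of_surjective (Ideal.Quotient.mk (IsLocalRing.maximalIdeal A ^ (n + 1)))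
    Ideal.Quotient.mk_surjective
  have hmap : (IsLocalRing.maximalIdeal A).map
      (Ideal.Quotient.mk (IsLocalRing.maximalIdeal A ^ (n + 1))) =
      IsLocalRing.maximalIdeal (A ⧸ IsLocalRing.maximalIdeal A ^ (n + 1)) := by
    ext x
    obtain ⟨x, rfl⟩ := Ideal.Quotient.mk_surjective x
    simp [sup_eq_left.mpr (IsLocalRing.le_maximalIdeal hI)]
  have hart : IsArtinianRing (A ⧸ IsLocalRing.maximalIdeal A ^ (n + 1)) := by
    rw [isArtinianRing_iff_isNilpotent_maximalIdeal]
    refine ⟨n + 1, ?_⟩
    rw [← hmap, ← Ideal.map_pow, Ideal.zero_eq_bot, Ideal.map_eq_bot_iff_le_ker, Ideal.mk_ker]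
  rw [Module.length_eq_of_surjective (S := A)
    (R := A ⧸ IsLocalRing.maximalIdeal A ^ (n + 1)) Ideal.Quotient.mk_surjective]
  exact Module.length_ne_top

/-- Case of local rings. Let φ : A → B be a local homomorphism of Noetherian local rings whose composite
A → B/m_B² is surjective (the first infinitesimal neighbourhoods give a closed immersion), and
assume that A/m_A^(n+1) and B/m_B^(n+1) have the same length for every n (the associated graded
modules of the two maximal ideals have pieces of the same dimension over the common residue field).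
Then for every n the composite A → B/m_B^(n+1) is surjective with kernel m_A^(n+1): φ identifies all
infinitesimal neighbourhoods. (The published statement is for a pointed morphism of Noetherian local
algebraic stacks; its proof reduces to this case of local rings.) -/
theorem result
    (A : Type u) (B : Type v) [CommRing A] [CommRing B] [IsLocalRing A] [IsLocalRing B]
    [IsNoetherianRing A] [IsNoetherianRing B] (φ : A →+* B) [IsLocalHom φ]
    (h1 : Function.Surjective ((Ideal.Quotient.mk (IsLocalRing.maximalIdeal B ^ 2)).comp φ))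
    (hlen : ∀ n : ℕ, Module.length A (A ⧸ IsLocalRing.maximalIdeal A ^ (n + 1)) =
      Module.length B (B ⧸ IsLocalRing.maximalIdeal B ^ (n + 1))) (n : ℕ) :
    Function.Surjective ((Ideal.Quotient.mk (IsLocalRing.maximalIdeal B ^ (n + 1))).comp φ) ∧
      RingHom.ker ((Ideal.Quotient.mk (IsLocalRing.maximalIdeal B ^ (n + 1))).comp φ) =
        IsLocalRing.maximalIdeal A ^ (n + 1) := by
  classical
  have hφm : ∀ a ∈ IsLocalRing.maximalIdeal A, φ a ∈ IsLocalRing.maximalIdeal B := by
    intro a ha
    rw [IsLocalRing.mem_maximalIdeal, mem_nonunits_iff] at ha ⊢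
    exact fun h => ha (isUnit_of_map_unit φ a h)
  have hB2 : ∀ y : B, ∃ a : A, y - φ a ∈ IsLocalRing.maximalIdeal B ^ 2 := by
    intro y
    obtain ⟨a, ha⟩ := h1 (Ideal.Quotient.mk _ y)
    refine ⟨a, ?_⟩
    rw [← Ideal.Quotient.eq]
    exact ha.symm
  have hm2 : ∀ y ∈ IsLocalRing.maximalIdeal B, ∃ a ∈ IsLocalRing.maximalIdeal A,
      y - φ a ∈ IsLocalRing.maximalIdeal B ^ 2 := by
    intro y hy
    obtain ⟨a, ha⟩ := hB2 y
    refine ⟨a, ?_, ha⟩
    have h2 : y - φ a ∈ IsLocalRing.maximalIdeal B := Ideal.pow_le_self two_ne_zero ha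
    have h3 : φ a ∈ IsLocalRing.maximalIdeal B := by
      have := (IsLocalRing.maximalIdeal B).sub_mem hy h2
      simpa using this
    rw [IsLocalRing.mem_maximalIdeal, mem_nonunits_iff] at h3 ⊢
    exact fun h => h3 (h.map φ)
  have hsurj : ∀ n : ℕ, ∀ y : B, ∃ a : A, y - φ a ∈ IsLocalRing.maximalIdeal B ^ (n + 1) := by
    intro n
    induction n with
    | zero =>
      intro y
      obtain ⟨a, ha⟩ := hB2 y
      exact ⟨a, Ideal.pow_le_pow_right (by norm_num) ha⟩
    | succ n ih =>
      have key : ∀ w ∈ IsLocalRing.maximalIdeal B ^ (n + 1),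
          ∃ a : A, w - φ a ∈ IsLocalRing.maximalIdeal B ^ (n + 2) := by
        intro w hw
        rw [pow_succ'] at hw
        refine Submodule.mul_induction_on hw ?_ ?_
        · intro y hy v hv
          obtain ⟨a, ha, haz⟩ := hm2 y hy
          obtain ⟨a', ha'⟩ := ih v
          refine ⟨a * a', ?_⟩
          have e : y * v - φ (a * a') = (y - φ a) * v + φ a * (v - φ a') := by
            rw [map_mul]; ring
          rw [e]
          apply Ideal.add_mem
          · have := Ideal.mul_mem_mul haz hv
            rwa [← pow_add, add_comm] at this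
          · have := Ideal.mul_mem_mul (hφm a ha) ha'
            rwa [← pow_succ'] at this
        · rintro x y ⟨a, ha⟩ ⟨b, hb⟩
          refine ⟨a + b, ?_⟩
          have e : x + y - φ (a + b) = (x - φ a) + (y - φ b) := by rw [map_add]; ring
          rw [e]
          exact Ideal.add_mem _ ha hb
      intro y
      obtain ⟨a, ha⟩ := ih y
      obtain ⟨b, hb⟩ := key _ ha
      refine ⟨a + b, ?_⟩
      have e : y - φ (a + b) = (y - φ a) - φ b := by rw [map_add]; ring
      rw [e]
      exact hb
  have hsurjn : Function.Surjective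
      ((Ideal.Quotient.mk (IsLocalRing.maximalIdeal B ^ (n + 1))).comp φ) := by
    intro q
    obtain ⟨y, rfl⟩ := Ideal.Quotient.mk_surjective q
    obtain ⟨a, ha⟩ := hsurj n y
    refine ⟨a, ?_⟩
    rw [RingHom.comp_apply, eq_comm, Ideal.Quotient.eq]
    exact ha
  refine ⟨hsurjn, ?_⟩
  have hle : IsLocalRing.maximalIdeal A ^ (n + 1) ≤
      RingHom.ker ((Ideal.Quotient.mk (IsLocalRing.maximalIdeal B ^ (n + 1))).comp φ) := by
    intro a ha
    rw [RingHom.mem_ker, RingHom.comp_apply, Ideal.Quotient.eq_zero_iff_mem]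
    have h2 : Ideal.map φ (IsLocalRing.maximalIdeal A ^ (n + 1)) ≤
        IsLocalRing.maximalIdeal B ^ (n + 1) := by
      rw [Ideal.map_pow]
      exact Ideal.pow_right_mono (Ideal.map_le_iff_le_comap.mpr
        (show IsLocalRing.maximalIdeal A ≤ Ideal.comap φ (IsLocalRing.maximalIdeal B) from
          fun a ha => hφm a ha)) _
    exact h2 (Ideal.mem_map_of_mem _ ha)
  apply le_antisymm ?_ hle
  -- the length argument
  letI algQ : Algebra A (B ⧸ IsLocalRing.maximalIdeal B ^ (n + 1)) :=
    ((Ideal.Quotient.mk (IsLocalRing.maximalIdeal B ^ (n + 1))).comp φ).toAlgebra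
  have hlenQ : Module.length A (B ⧸ IsLocalRing.maximalIdeal B ^ (n + 1)) =
      Module.length A (A ⧸ IsLocalRing.maximalIdeal A ^ (n + 1)) := by
    rw [hlen n, Module.length_eq_of_surjective (S := A)
      (R := B ⧸ IsLocalRing.maximalIdeal B ^ (n + 1)) hsurjn,
      Module.length_eq_of_surjective (S := B)
      (R := B ⧸ IsLocalRing.maximalIdeal B ^ (n + 1)) Ideal.Quotient.mk_surjective]
  let g : (A ⧸ IsLocalRing.maximalIdeal A ^ (n + 1)) →ₗ[A]
      (B ⧸ IsLocalRing.maximalIdeal B ^ (n + 1)) :=
    Submodule.liftQ _ (Algebra.linearMap A (B ⧸ IsLocalRing.maximalIdeal B ^ (n + 1)))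
      (fun a ha => hle ha)
  have hg : ∀ a : A, g (Ideal.Quotient.mk _ a) =
      (Ideal.Quotient.mk (IsLocalRing.maximalIdeal B ^ (n + 1))) (φ a) := fun a => rfl
  have hgs : Function.Surjective g := by
    intro q
    obtain ⟨a, ha⟩ := hsurjn q
    exact ⟨Ideal.Quotient.mk _ a, ha⟩
  have hadd := Module.length_eq_add_of_exact (LinearMap.ker g).subtype g
    (Submodule.injective_subtype _) hgs (LinearMap.exact_subtype_ker_map g)
  rw [hlenQ] at hadd
  have hfin := length_quot_ne_top A n
  have hker0 : Module.length A (LinearMap.ker g) = 0 := by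
    have h3 : Module.length A (LinearMap.ker g) +
        Module.length A (A ⧸ IsLocalRing.maximalIdeal A ^ (n + 1)) =
        0 + Module.length A (A ⧸ IsLocalRing.maximalIdeal A ^ (n + 1)) := by
      rw [zero_add]; exact hadd.symm
    exact ENat.add_left_injective_of_ne_top hfin h3
  rw [Module.length_eq_zero_iff] at hker0
  intro a ha
  have h4 : (Ideal.Quotient.mk (IsLocalRing.maximalIdeal A ^ (n + 1)) a) ∈ LinearMap.ker g := by
    rw [LinearMap.mem_ker, hg]
    exact ha
  have h5 : (⟨_, h4⟩ : LinearMap.ker g) = 0 := Subsingleton.elim _ _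
  have h6 : Ideal.Quotient.mk (IsLocalRing.maximalIdeal A ^ (n + 1)) a = 0 :=
    congrArg Subtype.val h5
  exact Ideal.Quotient.eq_zero_iff_mem.mp h6

end Groth.Agent.S16104
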