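import Groth.Statements.S16124
import Groth.Agent.Lib.Helper9.GalD3
import Groth.Agent.Lib.Helper28.FinQuotExistA

set_option autoImplicit false
universe u
open CategoryTheory MonoidalCategory CartesianMonoidalCategory MonObj GrpObj AlgebraicGeometry CategoryTheory.Limits
open AlgGrp

namespace Groth.Agent.S16124

/-- Over an algebraically closed field k, let X be a quasi-projective variety (a reduced separated
k-scheme, quasi-projective over k) with an action of a finite group Γ by k-automorphisms. Then X is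
covered by Γ-stable affine open subschemes: every point x of X lies in an affine open U with σ⁻¹(U)
= U for every σ in Γ. -/
theorem result (k : Type u) [Field k] [IsAlgClosed k]
    (X : Over (Spec (CommRingCat.of k))) [IsReduced X.left] [IsSeparated X.hom] (hX : RelProj.IsQuasiProjective X.hom)
    (Γgrp : Type u) [Group Γgrp] [Finite Γgrp] (ρ : Γgrp →* Aut X.left)
    (hρ : ∀ σ : Γgrp, (ρ σ).hom ≫ X.hom = X.hom) (x : ↥X.left) :
    ∃ U : X.left.Opens, x ∈ U ∧ IsAffineOpen U ∧ ∀ σ : Γgrp, (ρ σ).hom ⁻¹ᵁ U = U := by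
  have h : ∀ y : X.left, ∃ U : X.left.Opens, IsAffineOpen U ∧ ∀ g : Γgrp, (ρ g).hom.base y ∈ U := by
    intro y
    obtain ⟨W, hW, hFW⟩ := Groth.Agent.Lib.Helper9.GalD.exists_affine_of_finite X hX
      (Set.range fun g : Γgrp => (ρ g).hom y) (Set.finite_range _)
    exact ⟨W, hW, fun g => hFW ⟨g, rfl⟩⟩
  obtain ⟨W, hWa, hWs, hxW, -⟩ := Groth.Agent.Lib.Helper28.FinQuotExist.exists_stable_affine ρ h ⊤
    (fun g => rfl) x trivial
  exact ⟨W, hxW, hWa, hWs⟩

end Groth.Agent.S16124
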