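import Groth.Statements.S16149
import Groth.Agent.Lib.Helper29.IsoOpen
import Groth.Agent.Lib.Helper17.Serre
import Groth.Agent.Lib.Helper17.FinTypeConv

set_option autoImplicit false
universe u
open CategoryTheory CategoryTheory.Limits AlgebraicGeometry TopologicalSpace
open SDiv

namespace Groth.Agent.S16149



section Helpers
open CategoryTheory CategoryTheory.Limits AlgebraicGeometry TopologicalSpace Opposite

variable {X : Scheme.{u}}

open Groth.Agent.Lib.Helper17.Serre in
theorem isCoh_structureModule : Coh.IsCoh (Coh.structureModule X) := by
  refine ⟨inferInstance, Groth.Agent.Lib.Helper17.FinTypeConv.isFiniteType_of_forall_finite_sections _ fun U => ?_⟩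
  refine Module.Finite.of_surjective
    (LinearMap.toSpanSingleton Γ(X, U.1) Γ(Coh.structureModule X, U.1)
      (show Γ(Coh.structureModule X, U.1) from (1 : Γ(X, U.1)))) ?_
  intro y
  refine ⟨(show Γ(X, U.1) from y), ?_⟩
  rw [LinearMap.toSpanSingleton_apply, structureModule_smul]
  exact mul_one (show Γ(X, U.1) from y)

end Helpers

/-- Let X be a locally Noetherian scheme, F a coherent O_X-module (quasi-coherent of finite type) and s
: O_X → F a global section of F. Then the set of points x of X at which the stalk map (O_X)_x → F_x
of s is bijective is open. (The published statement assumes moreover X integral and normal and F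
reflexive of rank one; the openness assertion uses only that F is coherent on a locally Noetherian
scheme, and it can fail for F quasi-coherent of finite type on a scheme that is not locally
Noetherian.) -/
theorem result (X : Scheme.{u}) [IsLocallyNoetherian X] (F : X.Modules) (hF : Coh.IsCoh F)
    (s : Coh.structureModule X ⟶ F) : IsOpen (RefPow.isoLocus s) := by
  haveI : F.IsQuasicoherent := hF.1
  haveI : SheafOfModules.IsFiniteType.{u} (R := X.ringCatSheaf) F := hF.2
  haveI : (Coh.structureModule X).IsQuasicoherent := isCoh_structureModule.1
  haveI : SheafOfModules.IsFiniteType.{u} (R := X.ringCatSheaf) (Coh.structureModule X) :=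
    isCoh_structureModule.2
  rw [isOpen_iff_forall_mem_open]
  intro x hx
  have hx' : Function.Bijective (Groth.Agent.Lib.Helper17.StalkExact.stalkLinearMap s x) := hx
  obtain ⟨W, hxW, hW⟩ := Groth.Agent.Lib.Helper29.IsoOpen.exists_open_bijective s x hx'
  exact ⟨W, fun y hy => hW y hy, W.2, hxW⟩



end Groth.Agent.S16149
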