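import Groth.Statements.S1615
-- import your own Groth.Agent.* helpers here

set_option autoImplicit false
universe u
open CategoryTheory CategoryTheory.Limits AlgebraicGeometry
open Constr

namespace Groth.Agent.S1615

/-- For a graded ring A, quasi-compactness of Proj A is equivalent to the existence of finitely many
homogeneous elements of positive degree generating an ideal whose radical contains the irrelevant
ideal A_+. -/
theorem result {R A : Type u} [CommRing R] [CommRing A] [Algebra R A] (𝒜 : ℕ → Submodule R A) [GradedAlgebra 𝒜] :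
    CompactSpace ↥(Proj 𝒜) ↔ ∃ s : Finset A, (∀ f ∈ s, ∃ d : ℕ, 0 < d ∧ f ∈ 𝒜 d) ∧
      (HomogeneousIdeal.irrelevant 𝒜).toIdeal ≤ (Ideal.span (s : Set A)).radical := by
  classical
  constructor
  · intro hc
    -- the cover by `D₊(f)`, `f` homogeneous of positive degree
    have hcover : ∀ x : Proj 𝒜, ∃ f : A, (∃ d : ℕ, 0 < d ∧ f ∈ 𝒜 d) ∧ x ∈ Proj.basicOpen 𝒜 f := by
      intro x
      have hx := x.not_irrelevant_le
      obtain ⟨a, ha, hax⟩ := SetLike.not_le_iff_exists.mp hx
      have hex : ∃ i, GradedRing.proj 𝒜 i a ∉ x.asHomogeneousIdeal := by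
        by_contra hcon
        push Not at hcon
        apply hax
        rw [← DirectSum.sum_support_decompose 𝒜 a]
        exact sum_mem fun i _ => hcon i
      obtain ⟨i, hi⟩ := hex
      have hi0 : i ≠ 0 := by
        rintro rfl
        rw [(HomogeneousIdeal.mem_irrelevant_iff _ _).mp ha] at hi
        exact hi (zero_mem _)
      exact ⟨GradedRing.proj 𝒜 i a, ⟨i, Nat.pos_of_ne_zero hi0,
        by rw [GradedRing.proj_apply]; exact SetLike.coe_mem _⟩, hi⟩
    choose F hF hxF using hcover
    obtain ⟨t, ht⟩ := isCompact_univ.elim_finite_subcover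
      (fun x : Proj 𝒜 => ((Proj.basicOpen 𝒜 (F x) : (Proj 𝒜).Opens) : Set (Proj 𝒜)))
      (fun x => (Proj.basicOpen 𝒜 (F x)).isOpen)
      (fun x _ => Set.mem_iUnion.mpr ⟨x, hxF x⟩)
    refine ⟨t.image F, ?_, ?_⟩
    · intro f hf
      obtain ⟨x, _, rfl⟩ := Finset.mem_image.mp hf
      exact hF x
    · have hhom : (Ideal.span ((t.image F : Finset A) : Set A)).IsHomogeneous 𝒜 := by
        apply Ideal.homogeneous_span
        intro f hf
        obtain ⟨x, _, rfl⟩ := Finset.mem_image.mp (Finset.mem_coe.mp hf)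
        obtain ⟨d, _, hd⟩ := hF x
        exact ⟨d, hd⟩
      rw [hhom.radical_eq]
      refine le_sInf ?_
      rintro J ⟨hJhom, hJle, hJprime⟩
      by_contra hcon
      let y : Proj 𝒜 := ⟨⟨J, hJhom⟩, hJprime, hcon⟩
      have hy : y ∈ (Set.univ : Set (Proj 𝒜)) := trivial
      obtain ⟨x, hxt, hyx⟩ := Set.mem_iUnion₂.mp (ht hy)
      apply hyx
      apply hJle
      exact Ideal.subset_span (Finset.mem_coe.mpr (Finset.mem_image_of_mem F hxt))
  · rintro ⟨s, hs, hle⟩
    have hcov : (Set.univ : Set (Proj 𝒜)) =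
        ⋃ f ∈ s, ((Proj.basicOpen 𝒜 f : (Proj 𝒜).Opens) : Set (Proj 𝒜)) := by
      symm
      rw [Set.eq_univ_iff_forall]
      intro x
      by_contra hcon
      apply x.not_irrelevant_le
      refine hle.trans ?_
      have h1 : Ideal.span (s : Set A) ≤ x.asHomogeneousIdeal.toIdeal := by
        rw [Ideal.span_le]
        intro f hf
        by_contra hfx
        apply hcon
        exact Set.mem_iUnion₂.mpr ⟨f, hf, hfx⟩
      exact (Ideal.IsPrime.radical_le_iff x.isPrime).mpr h1
    constructor
    rw [hcov]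
    refine s.isCompact_biUnion fun f hf => ?_
    obtain ⟨d, hd0, hd⟩ := hs f hf
    exact (Proj.isAffineOpen_basicOpen 𝒜 f hd hd0).isCompact

end Groth.Agent.S1615
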