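import Groth.Statements.S16156
import Mathlib

set_option autoImplicit false
universe u
open MukaiVec

namespace Groth.Agent.S16156

section Aux

theorem main_int (a n r d χ p q : ℤ) (hn : 0 < n) (hr : 2 ≤ r) (hd : 0 < d) (hχ : χ < 0)
    (hp : 0 ≤ p) (hodge : 4 * n * p * q ≤ a ^ 2)
    (hm1 : 1 ≤ |d * a - r * q - χ * p|) (hm2 : |d * a - r * q - χ * p| ≤ 2)
    (hexc : ¬ (d = 1 ∧ χ = -1 ∧ a = 1 ∧ 2 * p * q = 0))
    (hr2 : r = 2 → ¬ (p = 0 ∧ a = 0)) :
    (0 ≤ 2 * n * d * p - r * a ↔ 0 ≤ χ * a - 2 * n * d * q) := by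
  obtain ⟨hml, hmu⟩ := abs_le.mp hm2
  have hnd : 0 < n * d := mul_pos hn hd
  constructor
  · intro hA
    by_contra hC
    rw [not_le] at hC
    rcases hp.eq_or_lt with hp0 | hp0
    · -- p = 0
      subst hp0
      have ha : a ≤ 0 := by nlinarith
      have hχa : 0 ≤ χ * a := by nlinarith
      have hq : 0 < q := by
        by_contra hq
        rw [not_lt] at hq
        nlinarith
      have hrq : 2 ≤ r * q := by nlinarith
      have hda : 0 ≤ d * a := by linarith
      have ha0 : a = 0 := by
        have : 0 ≤ a := by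
          by_contra h; rw [not_le] at h; nlinarith
        omega
      subst ha0
      have hrq2 : r * q = 2 := by linarith
      have hr2' : r = 2 := by
        by_contra hne
        have : 3 ≤ r := by omega
        nlinarith
      exact hr2 hr2' ⟨rfl, rfl⟩
    · -- p > 0
      rcases le_or_gt a 0 with ha | ha
      · -- a ≤ 0
        have hχa : 0 ≤ χ * a := by nlinarith
        have hq : 0 < q := by
          by_contra hq
          rw [not_lt] at hq
          nlinarith
        -- d * a^2 ≥ 4 n d p q > 2 p χ a
        have h1 : 2 * p * (χ * a) < d * a ^ 2 := by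
          have e1 : 2 * p * (χ * a) < 2 * p * (2 * n * d * q) := by nlinarith
          have e2 : d * (4 * n * p * q) ≤ d * a ^ 2 := by nlinarith
          nlinarith
        have ha' : a < 0 := by
          rcases ha.eq_or_lt with h | h
          · subst h; simp at h1
          · exact h
        -- a * (d a - 2 p χ) > 0 with a < 0 ⇒ d a < 2 p χ
        have h3 : d * a < 2 * p * χ := by
          by_contra h
          rw [not_lt] at h
          nlinarith
        have hpx : 1 ≤ p * (-χ) := by nlinarith
        have hrq : 2 ≤ r * q := by nlinarith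
        nlinarith
      · -- a > 0
        have hda : 1 ≤ d * a := by nlinarith
        have hq : 0 ≤ q := by
          by_contra hq
          rw [not_le] at hq
          have : p * (-χ) ≥ 0 := by nlinarith
          nlinarith
        rcases hq.eq_or_lt with hq0 | hq0
        · subst hq0
          have hpx : 1 ≤ p * (-χ) := by nlinarith
          have hda1 : d * a = 1 := by nlinarith
          have hpx1 : p * (-χ) = 1 := by nlinarith
          have hd1 : d = 1 := by
            by_contra hne
            have : 2 ≤ d := by omega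
            nlinarith
          have hχ1 : χ = -1 := by
            by_contra hne
            have : χ ≤ -2 := by omega
            nlinarith
          have ha1 : a = 1 := by subst hd1; linarith
          exact hexc ⟨hd1, hχ1, ha1, by ring⟩
        · have h2 : 2 * (r * q) ≤ d * a := by
            have e1 : r * (4 * n * p * q) ≤ r * a ^ 2 := by nlinarith
            have e2 : r * a ^ 2 ≤ 2 * n * d * p * a := by nlinarith
            have e3 : 0 < 2 * n * p := by positivity
            by_contra h
            rw [not_le] at h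
            nlinarith
          have hrq : 2 ≤ r * q := by nlinarith
          have hpx : 1 ≤ p * (-χ) := by nlinarith
          nlinarith
  · intro hC
    by_contra hA
    rw [not_le] at hA
    have ha : 0 < a := by
      by_contra h
      rw [not_lt] at h
      have : 0 ≤ 2 * n * d * p := by positivity
      nlinarith
    have hχa : χ * a < 0 := by nlinarith
    have hq : q < 0 := by
      by_contra h
      rw [not_lt] at h
      have : 0 ≤ 2 * n * d * q := by positivity
      nlinarith
    have h1 : 1 ≤ d * a := by nlinarith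
    have h2 : 2 ≤ r * (-q) := by nlinarith
    have h3 : 0 ≤ p * (-χ) := by nlinarith
    nlinarith

theorem main
    (N : Type u) [AddCommGroup N] (B : LinearMap.BilinForm ℤ N) (hB : ∀ x y : N, B x y = B y x)
    (H : N) (n : ℤ) (hn : 0 < n) (hH : B H H = 2 * n) (hodge : ∀ x : N, B x H = 0 → B x x ≤ 0)
    (r d χ p q : ℤ) (η : N) (hr : 2 ≤ r) (hd : 0 < d) (hχ : χ < 0) (hp : 0 ≤ p)
    (hiso : B η η = 2 * p * q)
    (hvu : 1 ≤ |d * B H η - r * q - χ * p| ∧ |d * B H η - r * q - χ * p| ≤ 2)
    (hexc : ¬ (d = 1 ∧ χ = -1 ∧ B H η = 1 ∧ B η η = 0))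
    (hr2 : r = 2 → ¬ (p = 0 ∧ B H η = 0)) :
    (0 ≤ 2 * n * d * p - r * B H η ↔ 0 ≤ χ * B H η - 2 * n * d * q) := by
  have hsym : B η H = B H η := hB η H
  have h0 : B ((2 * n) • η - (B H η) • H) H = 0 := by
    simp only [map_sub, map_smul, LinearMap.sub_apply, LinearMap.smul_apply, smul_eq_mul, hsym, hH]
    ring
  have h1 := hodge _ h0
  simp only [map_sub, map_smul, LinearMap.sub_apply, LinearMap.smul_apply, smul_eq_mul, hsym, hH,
    hiso] at h1
  have hodge' : 4 * n * p * q ≤ (B H η) ^ 2 := by
    by_contra h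
    rw [not_le] at h
    nlinarith
  refine main_int (B H η) n r d χ p q hn hr hd hχ hp hodge' hvu.1 hvu.2 ?_ hr2
  rw [hiso] at hexc
  exact hexc


end Aux

/-- Let N be an abelian group with a symmetric integer-valued bilinear form and H an element with H·H =
2n for some n > 0 such that every x with x·H = 0 satisfies x·x ≤ 0 (the Hodge index inequality). Fix
integers r ≥ 2, d > 0 and χ < 0 (a Mukai vector v = (r, dH, χ)) and an isotropic Mukai vector u =
(p, η, q), p ≥ 0, η ∈ N, η·η = 2pq, whose pairing ⟨v, u⟩ = d(H·η) − rq − χp has absolute value 1 or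
2. Exclude the case d = 1, χ = −1, H·η = 1, η·η = 0, and when r = 2 also the case p = 0, H·η = 0.
Then the pairings of u∨ = (p, −η, q) with w₀ = (0, rH, −2nd) and with w₁ = (2nd, −χH, 0) are both
non-negative or both negative: 2ndp − r(H·η) ≥ 0 holds if and only if χ(H·η) − 2ndq ≥ 0 holds. -/
theorem result
    (N : Type u) [AddCommGroup N] (B : LinearMap.BilinForm ℤ N) (hB : ∀ x y : N, B x y = B y x)
    (H : N) (n : ℤ) (hn : 0 < n) (hH : B H H = 2 * n) (hodge : ∀ x : N, B x H = 0 → B x x ≤ 0)
    (r d χ p q : ℤ) (η : N) (hr : 2 ≤ r) (hd : 0 < d) (hχ : χ < 0) (hp : 0 ≤ p)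
    (hiso : B η η = 2 * p * q)
    (hvu : 1 ≤ |d * B H η - r * q - χ * p| ∧ |d * B H η - r * q - χ * p| ≤ 2)
    (hexc : ¬ (d = 1 ∧ χ = -1 ∧ B H η = 1 ∧ B η η = 0))
    (hr2 : r = 2 → ¬ (p = 0 ∧ B H η = 0)) :
    (0 ≤ 2 * n * d * p - r * B H η ↔ 0 ≤ χ * B H η - 2 * n * d * q) := by
  exact main N B hB H n hn hH hodge r d χ p q η hr hd hχ hp hiso hvu hexc hr2

end Groth.Agent.S16156
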