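import Groth.Statements.S16158
import Mathlib.RingTheory.Ideal.AssociatedPrime.Finiteness
import Mathlib.Algebra.Module.Torsion.Basic
import Mathlib.LinearAlgebra.Dimension.StrongRankCondition
import Mathlib.LinearAlgebra.FreeModule.StrongRankCondition

set_option autoImplicit false
universe u v w
open MadRed

namespace Groth.Agent.S16158

theorem of_coe {R : Type u} [CommRing R] {M : Type v} [AddCommGroup M] [Module R M]
    {ι : Type w} [DecidableEq ι] (N : ι → Submodule R M) (i j : ι) (y : N i) :
    ((DirectSum.of (fun i => N i) i y) j : M) = if i = j then (y : M) else 0 := by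
  by_cases h : i = j
  · subst h
    rw [DirectSum.of_eq_same, if_pos rfl]
  · rw [DirectSum.of_eq_of_ne _ _ _ (Ne.symm h), if_neg h]
    rfl

theorem key {R : Type u} [CommRing R] {M : Type v} [AddCommGroup M] [Module R M]
    (p : Ideal R) [hp : p.IsPrime] (G : Finset M)
    (hG : Submodule.span R (G : Set M) = Submodule.torsionBySet R M p)
    {ι : Type w} [DecidableEq ι] (N : ι → Submodule R M) (hN : DirectSum.IsInternal N)
    (t : Finset ι) (x : ι → M) (hx : ∀ i ∈ t, x i ∈ N i)
    (hann : ∀ i ∈ t, ∀ c : R, c • x i = 0 ↔ c ∈ p) : t.card ≤ G.card := by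
  classical
  haveI : Nontrivial (R ⧸ p) := Ideal.Quotient.nontrivial_iff.mpr hp.ne_top
  have hxT : ∀ i : t, x i ∈ Submodule.torsionBySet R M p := by
    intro i
    rw [Submodule.mem_torsionBySet_iff]
    intro a
    exact (hann i i.2 a).mpr a.2
  let v : t → Submodule.torsionBySet R M p := fun i => ⟨x i, hxT i⟩
  have hli : LinearIndependent (R ⧸ p) v := by
    rw [linearIndependent_iff']
    intro s g hg i₀ hi₀
    choose c hc using fun i => Ideal.Quotient.mk_surjective (g i)
    have h1 : ∑ i ∈ s, c i • x i = 0 := by
      have h2 := congrArg (fun z : Submodule.torsionBySet R M p => (z : M)) hg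
      simp only [Submodule.coe_sum, ZeroMemClass.coe_zero] at h2
      rw [← h2]
      apply Finset.sum_congr rfl
      intro i _
      rw [← hc i, Submodule.torsionBySet.mk_smul]
      rfl
    have hmem : ∀ i : t, c i • x i ∈ N i := fun i => (N i).smul_mem _ (hx i i.2)
    let d : DirectSum ι (fun i => N i) :=
      ∑ i ∈ s, DirectSum.of (fun i => N i) (i : ι) ⟨c i • x i, hmem i⟩
    have hd : DirectSum.coeLinearMap N d = 0 := by
      rw [map_sum, ← h1]
      apply Finset.sum_congr rfl
      intro i _
      rw [DirectSum.coeLinearMap_of]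
    have hd0 : d = 0 := hN.injective (by
      show DirectSum.coeLinearMap N d = DirectSum.coeLinearMap N 0
      rw [hd, map_zero])
    have h3 : ((d (i₀ : ι)) : M) = c i₀ • x i₀ := by
      show (((∑ i ∈ s, DirectSum.of (fun i => N i) (i : ι) ⟨c i • x i, hmem i⟩ :
        DirectSum ι (fun i => N i)) (i₀ : ι) : N i₀) : M) = _
      rw [DFinsupp.finset_sum_apply, Submodule.coe_sum]
      rw [Finset.sum_eq_single i₀]
      · rw [of_coe, if_pos rfl]
      · intro i _ hne
        rw [of_coe, if_neg]
        intro h
        exact hne (Subtype.ext h)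
      · intro h
        exact absurd hi₀ h
    rw [hd0] at h3
    have h4 : c i₀ • x i₀ = 0 := by
      rw [← h3]; rfl
    have h5 := (hann i₀ i₀.2 (c i₀)).mp h4
    rw [← hc i₀]
    exact Ideal.Quotient.eq_zero_iff_mem.mpr h5
  -- spanning set
  have hGT : ∀ g ∈ G, g ∈ Submodule.torsionBySet R M p := by
    intro g hg
    rw [← hG]
    exact Submodule.subset_span hg
  let w : Finset (Submodule.torsionBySet R M p) := G.attach.image (fun g => ⟨g.1, hGT g.1 g.2⟩)
  have hwcard : w.card ≤ G.card := by
    calc w.card ≤ G.attach.card := Finset.card_image_le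
      _ = G.card := Finset.card_attach
  have hspan : Submodule.span (R ⧸ p) (w : Set (Submodule.torsionBySet R M p)) = ⊤ := by
    rw [eq_top_iff]
    rintro ⟨y, hy⟩ _
    have hy' : y ∈ Submodule.span R (G : Set M) := by rw [hG]; exact hy
    have : ∀ z ∈ Submodule.span R (G : Set M), ∀ hz : z ∈ Submodule.torsionBySet R M p,
        (⟨z, hz⟩ : Submodule.torsionBySet R M p) ∈
          Submodule.span (R ⧸ p) (w : Set (Submodule.torsionBySet R M p)) := by
      intro z hz
      induction hz using Submodule.span_induction with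
      | mem z hz =>
        intro hz'
        apply Submodule.subset_span
        rw [Finset.mem_coe, Finset.mem_image]
        exact ⟨⟨z, hz⟩, Finset.mem_attach _ _, rfl⟩
      | zero =>
        intro hz'
        exact Submodule.zero_mem _
      | add a b ha hb iha ihb =>
        intro hz'
        have ha' : a ∈ Submodule.torsionBySet R M p := by rw [← hG]; exact ha
        have hb' : b ∈ Submodule.torsionBySet R M p := by rw [← hG]; exact hb
        have : (⟨a + b, hz'⟩ : Submodule.torsionBySet R M p) = ⟨a, ha'⟩ + ⟨b, hb'⟩ := rfl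
        rw [this]
        exact Submodule.add_mem _ (iha ha') (ihb hb')
      | smul r a ha iha =>
        intro hz'
        have ha' : a ∈ Submodule.torsionBySet R M p := by rw [← hG]; exact ha
        have : (⟨r • a, hz'⟩ : Submodule.torsionBySet R M p) =
            (Ideal.Quotient.mk p r) • (⟨a, ha'⟩ : Submodule.torsionBySet R M p) := by
          rw [Submodule.torsionBySet.mk_smul]
          rfl
        rw [this]
        exact Submodule.smul_mem _ _ (iha ha')
    exact this y hy' hy
  have hcard := linearIndependent_le_span_finset v hli w hspan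
  rw [Cardinal.mk_fintype, Fintype.card_coe] at hcard
  exact (Nat.cast_le.mp hcard).trans hwcard

/-- Let R be a commutative Noetherian ring and M a finitely generated R-module. Then there is a natural
number n such that in every decomposition of M as an internal direct sum of a family of submodules,
at most n of the summands are nonzero (the nonzero summands are indexed by a finite set of size at
most n). -/
theorem result (R : Type u) [CommRing R] [IsNoetherianRing R]
    (M : Type v) [AddCommGroup M] [Module R M] [Module.Finite R M] :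
    ∃ n : ℕ, ∀ (ι : Type w) [DecidableEq ι] (N : ι → Submodule R M), DirectSum.IsInternal N →
      ∃ s : Finset ι, s.card ≤ n ∧ ∀ i, N i ≠ ⊥ → i ∈ s := by
  classical
  have hfinP := associatedPrimes.finite R M
  have hGex : ∀ q : Ideal R, ∃ G : Finset M,
      Submodule.span R (G : Set M) = Submodule.torsionBySet R M q := fun q =>
    IsNoetherian.noetherian (Submodule.torsionBySet R M q)
  choose G hG using hGex
  refine ⟨∑ q ∈ hfinP.toFinset, (G q).card, ?_⟩
  intro ι _ N hN
  have hex : ∀ i, N i ≠ ⊥ → ∃ (q : Ideal R) (y : M), q ∈ associatedPrimes R M ∧ q.IsPrime ∧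
      y ∈ N i ∧ ∀ c : R, c • y = 0 ↔ c ∈ q := by
    intro i hi
    haveI : Nontrivial (N i) := (Submodule.nontrivial_iff_ne_bot).mpr hi
    obtain ⟨q, hq⟩ := associatedPrimes.nonempty R (N i)
    have hqM : q ∈ associatedPrimes R M :=
      associatedPrimes.subset_of_injective (Submodule.injective_subtype (N i)) hq
    obtain ⟨hqp, y, hy⟩ := (isAssociatedPrime_iff).mp hq
    refine ⟨q, y.1, hqM, hqp, y.2, ?_⟩
    intro c
    rw [hy, Submodule.mem_colon_singleton, Submodule.mem_bot]
    constructor
    · intro h
      exact Subtype.ext h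
    · intro h
      exact congrArg Subtype.val h
  choose! q y hq using hex
  -- fibres are finite with bounded size
  have hfib : ∀ q₀ ∈ hfinP.toFinset, ∀ t : Finset ι, (∀ i ∈ t, N i ≠ ⊥ ∧ q i = q₀) →
      t.card ≤ (G q₀).card := by
    intro q₀ hq₀ t ht
    rw [Set.Finite.mem_toFinset] at hq₀
    haveI : q₀.IsPrime := hq₀.isPrime
    apply key q₀ (G q₀) (hG q₀) N hN t y
    · intro i hi
      exact (hq i (ht i hi).1).2.2.1
    · intro i hi c
      rw [← (ht i hi).2]
      exact (hq i (ht i hi).1).2.2.2 c
  have hfin : ∀ q₀ ∈ hfinP.toFinset, {i | N i ≠ ⊥ ∧ q i = q₀}.Finite := by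
    intro q₀ hq₀
    by_contra hinf
    obtain ⟨t, ht, htc⟩ := Set.Infinite.exists_subset_card_eq hinf ((G q₀).card + 1)
    have := hfib q₀ hq₀ t (fun i hi => ht hi)
    omega
  refine ⟨hfinP.toFinset.attach.biUnion (fun q₀ => (hfin q₀.1 q₀.2).toFinset), ?_, ?_⟩
  · calc (hfinP.toFinset.attach.biUnion (fun q₀ => (hfin q₀.1 q₀.2).toFinset)).card
        ≤ ∑ q₀ ∈ hfinP.toFinset.attach, ((hfin q₀.1 q₀.2).toFinset).card :=
          Finset.card_biUnion_le
      _ ≤ ∑ q₀ ∈ hfinP.toFinset.attach, (G q₀.1).card := by
          apply Finset.sum_le_sum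
          intro q₀ _
          apply hfib q₀.1 q₀.2
          intro i hi
          rw [Set.Finite.mem_toFinset] at hi
          exact hi
      _ = ∑ q₀ ∈ hfinP.toFinset, (G q₀).card :=
          Finset.sum_attach _ (fun q₀ => (G q₀).card)
  · intro i hi
    rw [Finset.mem_biUnion]
    have hqi : q i ∈ hfinP.toFinset := by
      rw [Set.Finite.mem_toFinset]
      exact (hq i hi).1
    refine ⟨⟨q i, hqi⟩, Finset.mem_attach _ _, ?_⟩
    rw [Set.Finite.mem_toFinset]
    exact ⟨hi, rfl⟩

end Groth.Agent.S16158
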