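import Groth.Statements.S16159

set_option autoImplicit false
universe u v w x
open MadRed

namespace Groth.Agent.S16159

open Module.End

section lemma1
variable {K V : Type*} [Field K] [AddCommGroup V] [Module K V]

theorem comp_mem (f : Module.End K V) (p : Submodule K V) (h : ∀ x ∈ p, f x ∈ p) (s : Finset K) :
    ∀ (c : K → V), (∀ μ ∈ s, c μ ∈ f.eigenspace μ) → (∑ μ ∈ s, c μ) ∈ p → ∀ μ ∈ s, c μ ∈ p := by
  classical
  induction s using Finset.induction_on with
  | empty => intro c _ _ μ hμ; simp at hμ
  | insert a s ha ih =>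
    intro c hc hsum
    have hc' : ∀ μ ∈ s, (μ - a) • c μ ∈ f.eigenspace μ := fun μ hμ =>
      Submodule.smul_mem _ _ (hc μ (Finset.mem_insert_of_mem hμ))
    have hsum' : (∑ μ ∈ s, (μ - a) • c μ) ∈ p := by
      have h1 : f (∑ μ ∈ insert a s, c μ) - a • (∑ μ ∈ insert a s, c μ) ∈ p :=
        p.sub_mem (h _ hsum) (p.smul_mem _ hsum)
      convert h1 using 1
      rw [map_sum, Finset.smul_sum, ← Finset.sum_sub_distrib, Finset.sum_insert ha]
      have h0 : f (c a) - a • c a = 0 := by
        have := hc a (Finset.mem_insert_self _ _)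
        rw [mem_eigenspace_iff] at this; rw [this, sub_self]
      rw [h0, zero_add]
      refine Finset.sum_congr rfl fun μ hμ => ?_
      have := hc μ (Finset.mem_insert_of_mem hμ)
      rw [mem_eigenspace_iff] at this; rw [this, sub_smul]
    have ih' := ih _ hc' hsum'
    have hs : ∀ μ ∈ s, c μ ∈ p := fun μ hμ => by
      have hne : μ - a ≠ 0 := sub_ne_zero.mpr (fun e => ha (e ▸ hμ))
      have := p.smul_mem (μ - a)⁻¹ (ih' μ hμ)
      rwa [smul_smul, inv_mul_cancel₀ hne, one_smul] at this
    intro μ hμ
    rcases Finset.mem_insert.mp hμ with rfl | hμ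
    · have : c μ = (∑ ν ∈ insert μ s, c ν) - ∑ ν ∈ s, c ν := by
        rw [Finset.sum_insert ha]; abel
      rw [this]; exact p.sub_mem hsum (p.sum_mem hs)
    · exact hs μ hμ

theorem eq_iSup_inf_eigenspace (f : Module.End K V) (p : Submodule K V) (h : ∀ x ∈ p, f x ∈ p)
    (htop : ⨆ μ, f.eigenspace μ = ⊤) :
    p = ⨆ μ, p ⊓ f.eigenspace μ := by
  classical
  refine le_antisymm (fun m hm => ?_) (iSup_le fun μ => inf_le_left)
  have hm1 : m ∈ ⨆ μ, f.eigenspace μ := htop ▸ Submodule.mem_top
  obtain ⟨c, hc, rfl⟩ := (Submodule.mem_iSup_iff_exists_finsupp _ _).mp hm1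
  have key := comp_mem f p h c.support (fun μ => c μ) (fun μ _ => hc μ) hm
  refine (Submodule.mem_iSup_iff_exists_finsupp _ _).mpr ⟨c, fun μ => ?_, rfl⟩
  by_cases hμ : μ ∈ c.support
  · exact ⟨key μ hμ, hc μ⟩
  · simp [Finsupp.notMem_support_iff.mp hμ]

end lemma1


section main
variable (k : Type*) [Field k] (R : Type*) [CommRing R] [Algebra k R]
  (M : Type*) [AddCommGroup M] [Module R M] [Module k M] [IsScalarTower k R M]
  {ι : Type*} (g : ι → Module.End R M)

/-- the span of the joint eigenvectors -/
def T : Submodule k M := ⨆ χ : ι → k, ⨅ i, eigenspace ((g i).restrictScalars k) (χ i)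

/-- eigenspace as an `R`-submodule -/
def E (j : ι) (μ : k) : Submodule R M := eigenspace (g j) (algebraMap k R μ)

variable {k R M}

theorem mem_E {j : ι} {μ : k} {w : M} : w ∈ E k R M g j μ ↔ g j w = μ • w := by
  rw [E, mem_eigenspace_iff, algebraMap_smul]

theorem mem_eig {j : ι} {μ : k} {w : M} :
    w ∈ eigenspace ((g j).restrictScalars k) μ ↔ g j w = μ • w := by
  rw [mem_eigenspace_iff]; rfl

theorem E_stable (hcomm : ∀ i j, Commute (g i) (g j)) (i j : ι) (μ : k) (w : M)
    (hw : w ∈ E k R M g j μ) : g i w ∈ E k R M g j μ := by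
  rw [mem_E] at hw ⊢
  have : g j (g i w) = g i (g j w) := by
    have := (hcomm j i).eq
    exact LinearMap.congr_fun this w
  rw [this, hw, LinearMap.map_smul_of_tower]

theorem claim [IsNoetherian R M] (hcomm : ∀ i j, Commute (g i) (g j))
    (hdiag : ∀ i, ⨆ μ : k, eigenspace ((g i).restrictScalars k) μ = ⊤) (N : Submodule R M) :
    ∀ C : Submodule R M, (∀ i, ∀ w ∈ C, g i w ∈ C) → Disjoint N C →
      C.restrictScalars k ≤ T k R M g := by
  classical
  induction N using IsNoetherian.induction with
  | hgt N ih =>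
  intro C hC hdisj
  by_cases hA : ∀ j, ∃ μ : k, ∀ w ∈ C, g j w = μ • w
  · choose χ hχ using hA
    intro w hw
    exact Submodule.mem_iSup_of_mem χ
      ((Submodule.mem_iInf _).2 fun i => (mem_eig g).2 (hχ i w hw))
  · push Not at hA
    obtain ⟨j, hj⟩ := hA
    set f : Module.End k M := (g j).restrictScalars k with hf
    have hp : ∀ x ∈ C.restrictScalars k, f x ∈ C.restrictScalars k := fun x hx => hC j x hx
    rw [eq_iSup_inf_eigenspace f (C.restrictScalars k) hp (hdiag j)]
    refine iSup_le fun μ => ?_
    -- the pieces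
    set Cμ : Submodule R M := C ⊓ E k R M g j μ with hCμ
    set C' : Submodule R M := ⨆ (ν : k) (_ : ν ≠ μ), C ⊓ E k R M g j ν with hC'
    have hCμ_st : ∀ i, ∀ w ∈ Cμ, g i w ∈ Cμ := fun i w hw =>
      ⟨hC i w hw.1, E_stable g hcomm i j μ w hw.2⟩
    have hC'_le : C' ≤ C := iSup₂_le fun ν _ => inf_le_left
    have hC'_eig : ∀ x ∈ C', x ∈ ⨆ (ν : k) (_ : ν ≠ μ), eigenspace f ν := by
      intro x hx
      refine Submodule.iSup_induction _ (motive := fun x => x ∈ ⨆ (ν : k) (_ : ν ≠ μ), eigenspace f ν)
        hx (fun ν y hy => ?_) (Submodule.zero_mem _) (fun a b ha hb => Submodule.add_mem _ ha hb)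
      by_cases hν : ν ≠ μ
      · simp only [hν, ne_eq, not_false_eq_true, iSup_pos] at hy
        exact Submodule.mem_iSup_of_mem ν (Submodule.mem_iSup_of_mem hν ((mem_eig g).2 ((mem_E g).1 hy.2)))
      · simp only [hν, iSup_false, Submodule.mem_bot] at hy
        rw [hy]; exact Submodule.zero_mem _
    have hlt : N < N ⊔ C' := by
      refine lt_of_le_of_ne le_sup_left fun heq => ?_
      have hC'N : C' ≤ N := by rw [heq]; exact le_sup_right
      have hC'bot : C' = ⊥ := by
        rw [eq_bot_iff]; exact fun x hx => (Submodule.disjoint_def.1 hdisj) x (hC'N hx) (hC'_le hx)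
      -- then g j = μ on C
      obtain ⟨w, hwC, hw⟩ := hj μ
      apply hw
      have hwp : w ∈ C.restrictScalars k := hwC
      rw [eq_iSup_inf_eigenspace f (C.restrictScalars k) hp (hdiag j)] at hwp
      refine Submodule.iSup_induction _ (motive := fun x => g j x = μ • x)
        hwp (fun ν y hy => ?_) (by simp) (fun a b ha hb => by rw [map_add, ha, hb, smul_add])
      by_cases hν : ν = μ
      · subst hν; exact (mem_eig g).1 hy.2
      · have : y ∈ C' := by
          refine Submodule.mem_iSup_of_mem ν (Submodule.mem_iSup_of_mem hν ⟨hy.1, (mem_E g).2 ((mem_eig g).1 hy.2)⟩)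
        rw [hC'bot, Submodule.mem_bot] at this
        rw [this]; simp
    have hdisj' : Disjoint (N ⊔ C') Cμ := by
      rw [Submodule.disjoint_def]
      intro x hx hxμ
      obtain ⟨n, hn, c', hc', rfl⟩ := Submodule.mem_sup.1 hx
      have hnC : n ∈ C := by
        have : n = (n + c') - c' := by abel
        rw [this]; exact C.sub_mem hxμ.1 (hC'_le hc')
      have hn0 : n = 0 := (Submodule.disjoint_def.1 hdisj) n hn hnC
      subst hn0
      rw [zero_add] at hxμ ⊢
      have h1 : c' ∈ eigenspace f μ := (mem_eig g).2 ((mem_E g).1 hxμ.2)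
      have h2 := hC'_eig c' hc'
      have hind := (eigenspaces_iSupIndep f) μ
      exact (Submodule.disjoint_def.1 hind) c' h1 h2
    have := ih (N ⊔ C') hlt Cμ hCμ_st hdisj'
    refine le_trans ?_ this
    intro x hx
    exact ⟨hx.1, (mem_E g).2 ((mem_eig g).1 hx.2)⟩

theorem main_noeth [IsNoetherian R M] (hcomm : ∀ i j, Commute (g i) (g j))
    (hdiag : ∀ i, ⨆ μ : k, eigenspace ((g i).restrictScalars k) μ = ⊤) :
    T k R M g = ⊤ := by
  rw [eq_top_iff]
  have := claim g hcomm hdiag ⊥ ⊤ (fun _ _ _ => Submodule.mem_top) disjoint_bot_left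
  intro x _
  exact this (Submodule.mem_top)

end main


/-- Let k be a field, R a commutative Noetherian k-algebra and V an R-module, viewed also as a k-vector
space through k → R. Let (f_i) be a family of pairwise commuting R-linear endomorphisms of V such
that each f_i, as a k-linear map, is diagonalizable over k (its eigenspaces span V), and such that
every vector of V lies in a finitely generated R-submodule stable under every f_i. Then the family
is simultaneously diagonalizable over k: the common eigenspaces ⨅_i Eig(f_i, χ(i)), over all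
assignments χ of eigenvalues in k, span V. The source states this for the endomorphisms given by an
abelian group acting R-linearly; the row takes any commuting family, which is what the argument
uses, and neither k algebraically closed nor of characteristic zero is needed. -/
theorem result
    (k : Type u) [Field k] (R : Type v) [CommRing R] [Algebra k R] [IsNoetherianRing R]
    (V : Type w) [AddCommGroup V] [Module R V] [Module k V] [IsScalarTower k R V]
    (ι : Type x) (f : ι → Module.End R V)
    (hcomm : ∀ i j, Commute (f i) (f j))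
    (hdiag : ∀ i, ⨆ μ : k, Module.End.eigenspace ((f i).restrictScalars k) μ = ⊤)
    (hfin : ∀ v : V, ∃ W : Submodule R V, v ∈ W ∧ W.FG ∧ ∀ i, ∀ w ∈ W, f i w ∈ W) :
    ⨆ χ : ι → k, ⨅ i, Module.End.eigenspace ((f i).restrictScalars k) (χ i) = ⊤ := by
  rw [eq_top_iff]
  intro v _
  obtain ⟨W, hvW, hWfg, hWst⟩ := hfin v
  have : Module.Finite R W := Module.Finite.iff_fg.2 hWfg
  have : IsNoetherian R W := inferInstance
  let g : ι → Module.End R W := fun i => (f i).restrict (hWst i)
  have hgcomm : ∀ i j, Commute (g i) (g j) := by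
    intro i j
    ext w
    have := LinearMap.congr_fun (hcomm i j).eq (w : V)
    simpa [g] using this
  have hgdiag : ∀ i, ⨆ μ : k, Module.End.eigenspace ((g i).restrictScalars k) μ = ⊤ := by
    intro i
    rw [eq_top_iff]
    intro w _
    have hp : ∀ x ∈ W.restrictScalars k, ((f i).restrictScalars k) x ∈ W.restrictScalars k :=
      fun x hx => hWst i x hx
    have hw : (w : V) ∈ W.restrictScalars k := w.2
    rw [eq_iSup_inf_eigenspace ((f i).restrictScalars k) (W.restrictScalars k) hp (hdiag i)] at hw
    obtain ⟨c, hc, hsum⟩ := (Submodule.mem_iSup_iff_exists_finsupp _ _).mp hw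
    have hw' : w = ∑ μ ∈ c.support, (⟨c μ, (hc μ).1⟩ : W) := by
      apply Subtype.ext
      rw [← hsum, Finsupp.sum]
      simp
    rw [hw']
    refine Submodule.sum_mem _ fun μ _ => Submodule.mem_iSup_of_mem μ ?_
    rw [mem_eig]
    apply Subtype.ext
    have := (mem_eig f).1 (hc μ).2
    simpa [g] using this
  have hT := main_noeth (k := k) (R := R) (M := W) g hgcomm hgdiag
  have hvT : (⟨v, hvW⟩ : W) ∈ T k R W g := hT ▸ Submodule.mem_top
  -- push forward to V
  have hmap : (T k R W g).map (W.subtype.restrictScalars k) ≤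
      ⨆ χ : ι → k, ⨅ i, Module.End.eigenspace ((f i).restrictScalars k) (χ i) := by
    rw [T, Submodule.map_iSup]
    refine iSup_mono fun χ => ?_
    rintro _ ⟨y, hy, rfl⟩
    rw [SetLike.mem_coe, Submodule.mem_iInf] at hy
    rw [Submodule.mem_iInf]
    intro i
    have := hy i
    rw [mem_eig] at this ⊢
    have h2 := congrArg Subtype.val this
    simpa [g] using h2
  exact hmap ⟨⟨v, hvW⟩, hvT, rfl⟩

end Groth.Agent.S16159
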