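import Groth.Statements.S16162
-- import your own Groth.Agent.* helpers here

set_option autoImplicit false
open CategoryTheory MonoidalCategory CartesianMonoidalCategory MonObj GrpObj AlgebraicGeometry
universe u
open MadRed

namespace Groth.Agent.S16162

/-- Let S be a scheme, G a group scheme over S, and X an S-scheme with an action of G making X → S a
principal G-bundle (a torsor in the representable fppf sense: X → S surjective, flat and locally of
finite presentation, and G ×_S X → X ×_S X, (g, x) ↦ (g·x, x), an isomorphism). Let P be a closed
subset of X stable under the action: the action map sends into P every point of G ×_S X whose second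
projection lies in P. Then the image of P in S is closed, and P is the full preimage of its image.
(The source works with varieties over the complex numbers and an affine algebraic group; the
assertion holds over any base. Its second assertion, that P → image is again a principal bundle for
the induced reduced structures, then comes from base change and is not part of this row.) -/
theorem result {S : Scheme.{u}}
    {G X : Over S} [GrpObj G] (a : AlgGrp.Action G X) (ha : RedSub.IsTorsor a)
    (P : Set X.left) (hP : IsClosed P)
    (hstab : ∀ w : (G ⊗ X).left, (snd G X).left.base w ∈ P → a.act.left.base w ∈ P) :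
    IsClosed (X.hom.base '' P) ∧ X.hom.base ⁻¹' (X.hom.base '' P) = P := by
  obtain ⟨hsurj, hflat, hlfp, hiso⟩ := ha
  haveI := hflat
  haveI := hlfp
  haveI := hiso
  set θ : G ⊗ X ⟶ X ⊗ X := lift a.act (snd G X) with hθ
  -- saturation
  have hsat : ∀ x p : X.left, X.hom.base x = X.hom.base p → p ∈ P → x ∈ P := by
    intro x p hxp hp
    obtain ⟨t, ht1, ht2⟩ := AlgebraicGeometry.Scheme.Pullback.exists_preimage_pullback
      (f := X.hom) (g := X.hom) x p hxp
    let w : (G ⊗ X).left := (inv θ).left.base t
    have hw : θ.left.base w = t := by
      change (θ.left.base) ((inv θ).left.base t) = t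
      rw [← Scheme.Hom.comp_apply, ← Over.comp_left, IsIso.inv_hom_id]
      rfl
    have h1 : a.act.left.base w = x := by
      have : a.act = θ ≫ fst X X := (lift_fst _ _).symm
      rw [this, Over.comp_left, Scheme.Hom.comp_apply, hw]
      exact ht1
    have h2 : (snd G X).left.base w = p := by
      have : snd G X = θ ≫ snd X X := (lift_snd _ _).symm
      rw [this, Over.comp_left, Scheme.Hom.comp_apply, hw]
      exact ht2
    rw [← h1]
    exact hstab w (by rw [h2]; exact hp)
  have hpre : X.hom.base ⁻¹' (X.hom.base '' P) = P := by
    ext x
    constructor
    · rintro ⟨p, hp, hpx⟩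
      exact hsat x p hpx.symm hp
    · intro hx
      exact ⟨x, hx, rfl⟩
  refine ⟨?_, hpre⟩
  have hopen : IsOpenMap X.hom.base := X.hom.isOpenMap
  have hcompl : X.hom.base '' P = (X.hom.base '' Pᶜ)ᶜ := by
    ext s
    constructor
    · rintro ⟨p, hp, rfl⟩ ⟨x, hx, hxs⟩
      exact hx (hsat x p hxs hp)
    · intro hs
      haveI := hsurj
      obtain ⟨x, rfl⟩ := X.hom.surjective s
      by_contra hx
      exact hs ⟨x, fun hxP => hx ⟨x, hxP, rfl⟩, rfl⟩
  rw [hcompl, isClosed_compl_iff]
  exact hopen _ hP.isOpen_compl

end Groth.Agent.S16162
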