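import Groth.Statements.S16164
import Mathlib

set_option autoImplicit false
open Neron

namespace Groth.Agent.S16164

open Matrix in
theorem quad_add {κ : Type} [Fintype κ] (Ψ : Matrix κ κ ℤ) (hΨ : Ψ.IsSymm) (a b : κ → ℤ) :
    (a + b) ⬝ᵥ Ψ.mulVec (a + b) = a ⬝ᵥ Ψ.mulVec a + 2 * (a ⬝ᵥ Ψ.mulVec b) + b ⬝ᵥ Ψ.mulVec b := by
  have hsymm : b ⬝ᵥ Ψ.mulVec a = a ⬝ᵥ Ψ.mulVec b := by
    rw [Matrix.dotProduct_mulVec, ← Matrix.mulVec_transpose, hΨ.eq, dotProduct_comm]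
  rw [Matrix.mulVec_add, add_dotProduct, dotProduct_add, dotProduct_add, hsymm]
  ring

open Matrix in
theorem quad_nonneg {κ : Type} [Fintype κ] (Ψ : Matrix κ κ ℤ)
    (hpos : ∀ y : κ → ℤ, y ≠ 0 → 0 < y ⬝ᵥ Ψ.mulVec y) (y : κ → ℤ) : 0 ≤ y ⬝ᵥ Ψ.mulVec y := by
  by_cases h : y = 0
  · subst h; simp
  · exact (hpos y h).le

open Matrix in
theorem quad_eq_zero {κ : Type} [Fintype κ] (Ψ : Matrix κ κ ℤ)
    (hpos : ∀ y : κ → ℤ, y ≠ 0 → 0 < y ⬝ᵥ Ψ.mulVec y) (y : κ → ℤ) (h : y ⬝ᵥ Ψ.mulVec y ≤ 0) :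
    y = 0 := by
  by_contra h0
  exact absurd (hpos y h0) (not_lt.mpr h)

open Matrix in
theorem key {ι κ₁ κ₂ : Type} [Fintype ι] [Fintype κ₁] [Fintype κ₂]
    (P : Matrix κ₁ ι ℤ) (Q : Matrix κ₂ ι ℤ) (hP : Function.Surjective P.mulVec)
    (Ψ₁ : Matrix κ₁ κ₁ ℤ) (Ψ₂ : Matrix κ₂ κ₂ ℤ) (hΨ₁ : Ψ₁.IsSymm) (hΨ₂ : Ψ₂.IsSymm)
    (hΨ₁pos : ∀ y : κ₁ → ℤ, y ≠ 0 → 0 < y ⬝ᵥ Ψ₁.mulVec y)
    (hΨ₂pos : ∀ y : κ₂ → ℤ, y ≠ 0 → 0 < y ⬝ᵥ Ψ₂.mulVec y)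
    (H : ∀ (y₁ : κ₁ → ℤ) (y₂ : κ₂ → ℤ), ∃ (x : ι → ℤ) (n₁ : κ₁ → ℤ) (n₂ : κ₂ → ℤ),
      y₁ = P.mulVec x + n₁ ∧ y₂ = Q.mulVec x + n₂ ∧
      ∀ x' : ι → ℤ, (P.mulVec x') ⬝ᵥ Ψ₁.mulVec n₁ + (Q.mulVec x') ⬝ᵥ Ψ₂.mulVec n₂ = 0) :
    ∀ y₁ : κ₁ → ℤ, ∃ x : ι → ℤ, P.mulVec x = y₁ ∧ Q.mulVec x = 0 := by
  intro y₁
  induction' hK : (y₁ ⬝ᵥ Ψ₁.mulVec y₁).toNat using Nat.strong_induction_on with K IH generalizing y₁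
  obtain ⟨x, n₁, n₂, h1, h2, horth⟩ := H y₁ 0
  have e1 := quad_add Ψ₁ hΨ₁ (P.mulVec x) n₁
  have e2 := quad_add Ψ₂ hΨ₂ (Q.mulVec x) n₂
  rw [← h1] at e1
  rw [← h2] at e2
  have e3 := horth x
  simp only [zero_dotProduct] at e2
  have p1 := quad_nonneg Ψ₁ hΨ₁pos (P.mulVec x)
  have p2 := quad_nonneg Ψ₁ hΨ₁pos n₁
  have p3 := quad_nonneg Ψ₂ hΨ₂pos (Q.mulVec x)
  have p4 := quad_nonneg Ψ₂ hΨ₂pos n₂
  have p0 := quad_nonneg Ψ₁ hΨ₁pos y₁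
  have hKK : y₁ ⬝ᵥ Ψ₁.mulVec y₁ = (K : ℤ) := by rw [← hK]; exact (Int.toNat_of_nonneg p0).symm
  by_cases c1 : y₁ ⬝ᵥ Ψ₁.mulVec y₁ ≤ n₁ ⬝ᵥ Ψ₁.mulVec n₁
  · -- then P x = 0, Q x = 0, n₂ = 0, y₁ = n₁
    have hPx : P.mulVec x = 0 := quad_eq_zero Ψ₁ hΨ₁pos _ (by linarith)
    obtain ⟨x', hx'⟩ := hP y₁
    have hn₂ : n₂ = 0 := quad_eq_zero Ψ₂ hΨ₂pos _ (by linarith)
    have hy : y₁ = n₁ := by rw [h1, hPx, zero_add]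
    have := horth x'
    rw [hx', hn₂, ← hy] at this
    simp only [mulVec_zero, dotProduct_zero, add_zero] at this
    have hy0 : y₁ = 0 := quad_eq_zero Ψ₁ hΨ₁pos _ this.le
    exact ⟨0, by simp [hy0], by simp⟩
  · by_cases c2 : y₁ ⬝ᵥ Ψ₁.mulVec y₁ ≤ (P.mulVec x) ⬝ᵥ Ψ₁.mulVec (P.mulVec x)
    · have hn₁ : n₁ = 0 := quad_eq_zero Ψ₁ hΨ₁pos _ (by linarith)
      have hn₂ : n₂ = 0 := quad_eq_zero Ψ₂ hΨ₂pos _ (by linarith)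
      refine ⟨x, by rw [h1, hn₁, add_zero], ?_⟩
      rw [hn₂, add_zero] at h2
      exact h2.symm
    · push Not at c1 c2
      obtain ⟨x₁, hx₁, hx₁'⟩ := IH ((P.mulVec x) ⬝ᵥ Ψ₁.mulVec (P.mulVec x)).toNat (by omega)
        (P.mulVec x) rfl
      obtain ⟨x₂, hx₂, hx₂'⟩ := IH (n₁ ⬝ᵥ Ψ₁.mulVec n₁).toNat (by omega) n₁ rfl
      exact ⟨x₁ + x₂, by rw [Matrix.mulVec_add, hx₁, hx₂, ← h1],
        by rw [Matrix.mulVec_add, hx₁', hx₂', add_zero]⟩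

/-- Let X, Y₁, Y₂ be finitely generated free abelian groups with chosen bases, so that homomorphisms are
integer matrices acting on column vectors and each group is identified with its dual; let P : X → Y₁
and Q : X → Y₂ be surjective with A = (P over Q) : X → Y₁ ⊕ Y₂ injective, and let Ψ₁, Ψ₂ be
symmetric positive-definite integer matrices on Y₁ and Y₂, Ψ their block-diagonal sum. If the image
of Aᵀ Ψ : Y₁ ⊕ Y₂ → X coincides with the image of Aᵀ Ψ A : X → X (the reverse inclusion always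
holds), then A is bijective. (In the source X, Y₁, Y₂ are character groups of maximal tori, P and Q
specialization maps, Ψ₁ and Ψ₂ monodromy pairings, and the hypothesis expresses that two groups of
components coincide.) -/
theorem result
    {ι κ₁ κ₂ : Type} [Fintype ι] [Fintype κ₁] [Fintype κ₂]
    (P : Matrix κ₁ ι ℤ) (Q : Matrix κ₂ ι ℤ)
    (hP : Function.Surjective P.mulVec) (hQ : Function.Surjective Q.mulVec)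
    (hA : Function.Injective (Matrix.fromRows P Q).mulVec)
    (Ψ₁ : Matrix κ₁ κ₁ ℤ) (Ψ₂ : Matrix κ₂ κ₂ ℤ) (hΨ₁ : Ψ₁.IsSymm) (hΨ₂ : Ψ₂.IsSymm)
    (hΨ₁pos : ∀ y : κ₁ → ℤ, y ≠ 0 → 0 < y ⬝ᵥ Ψ₁.mulVec y)
    (hΨ₂pos : ∀ y : κ₂ → ℤ, y ≠ 0 → 0 < y ⬝ᵥ Ψ₂.mulVec y)
    (himage : LinearMap.range ((Matrix.fromRows P Q).transpose * Matrix.fromBlocks Ψ₁ 0 0 Ψ₂).mulVecLin =
      LinearMap.range ((Matrix.fromRows P Q).transpose * Matrix.fromBlocks Ψ₁ 0 0 Ψ₂ * Matrix.fromRows P Q).mulVecLin) :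
    Function.Bijective (Matrix.fromRows P Q).mulVec := by
  classical
  -- derive the orthogonal decomposition hypothesis
  have H : ∀ (y₁ : κ₁ → ℤ) (y₂ : κ₂ → ℤ), ∃ (x : ι → ℤ) (n₁ : κ₁ → ℤ) (n₂ : κ₂ → ℤ),
      y₁ = P.mulVec x + n₁ ∧ y₂ = Q.mulVec x + n₂ ∧
      ∀ x' : ι → ℤ, (P.mulVec x') ⬝ᵥ Ψ₁.mulVec n₁ + (Q.mulVec x') ⬝ᵥ Ψ₂.mulVec n₂ = 0 := by
    intro y₁ y₂
    have hmem : ((Matrix.fromRows P Q).transpose * Matrix.fromBlocks Ψ₁ 0 0 Ψ₂).mulVecLin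
        (Sum.elim y₁ y₂) ∈ LinearMap.range ((Matrix.fromRows P Q).transpose *
          Matrix.fromBlocks Ψ₁ 0 0 Ψ₂ * Matrix.fromRows P Q).mulVecLin := by
      rw [← himage]
      exact LinearMap.mem_range_self _ _
    obtain ⟨x, hx⟩ := hmem
    simp only [Matrix.mulVecLin_apply] at hx
    refine ⟨x, y₁ - P.mulVec x, y₂ - Q.mulVec x, by abel, by abel, ?_⟩
    intro x'
    have hz : ((Matrix.fromRows P Q).transpose * Matrix.fromBlocks Ψ₁ 0 0 Ψ₂).mulVec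
        (Sum.elim (y₁ - P.mulVec x) (y₂ - Q.mulVec x)) = 0 := by
      have : Sum.elim (y₁ - P.mulVec x) (y₂ - Q.mulVec x) =
          Sum.elim y₁ y₂ - (Matrix.fromRows P Q).mulVec x := by
        ext (i | i) <;> simp [Matrix.fromRows_mulVec]
      rw [this, Matrix.mulVec_sub, Matrix.mulVec_mulVec, hx, sub_self]
    have hdot := congrArg (fun v => x' ⬝ᵥ v) hz
    simp only [dotProduct_zero] at hdot
    rw [← Matrix.mulVec_mulVec, Matrix.dotProduct_mulVec, Matrix.vecMul_transpose,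
      Matrix.fromBlocks_mulVec, Matrix.fromRows_mulVec] at hdot
    simpa [dotProduct, Fintype.sum_sum_type] using hdot
  have k1 := key P Q hP Ψ₁ Ψ₂ hΨ₁ hΨ₂ hΨ₁pos hΨ₂pos H
  have H' : ∀ (y₂ : κ₂ → ℤ) (y₁ : κ₁ → ℤ), ∃ (x : ι → ℤ) (n₂ : κ₂ → ℤ) (n₁ : κ₁ → ℤ),
      y₂ = Q.mulVec x + n₂ ∧ y₁ = P.mulVec x + n₁ ∧
      ∀ x' : ι → ℤ, (Q.mulVec x') ⬝ᵥ Ψ₂.mulVec n₂ + (P.mulVec x') ⬝ᵥ Ψ₁.mulVec n₁ = 0 := by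
    intro y₂ y₁
    obtain ⟨x, n₁, n₂, h1, h2, h3⟩ := H y₁ y₂
    exact ⟨x, n₂, n₁, h2, h1, fun x' => by rw [add_comm]; exact h3 x'⟩
  have k2 := key Q P hQ Ψ₂ Ψ₁ hΨ₂ hΨ₁ hΨ₂pos hΨ₁pos H'
  refine ⟨hA, fun y => ?_⟩
  obtain ⟨x₁, hx₁, hx₁'⟩ := k1 (y ∘ Sum.inl)
  obtain ⟨x₂, hx₂, hx₂'⟩ := k2 (y ∘ Sum.inr)
  refine ⟨x₁ + x₂, ?_⟩
  rw [Matrix.fromRows_mulVec, Matrix.mulVec_add, Matrix.mulVec_add, hx₁, hx₁', hx₂, hx₂']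
  ext (i | i) <;> simp

end Groth.Agent.S16164
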