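import Groth.Statements.S16174
import Mathlib

set_option autoImplicit false
universe u
open Hensel

namespace Groth.Agent.S16174

open Polynomial IsLocalRing

/-- A quotient of a Henselian local ring by a proper ideal is Henselian. -/
theorem henselian_quotient (V : Type*) [CommRing V] [HenselianLocalRing V] (p : Ideal V)
    (hp : p ≠ ⊤) : HenselianLocalRing (V ⧸ p) := by
  have : Nontrivial (V ⧸ p) := Ideal.Quotient.nontrivial_iff.mpr hp
  have hloc : IsLocalRing (V ⧸ p) :=
    IsLocalRing.of_surjective' (Ideal.Quotient.mk p) Ideal.Quotient.mk_surjective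
  have hle : p ≤ maximalIdeal V := IsLocalRing.le_maximalIdeal hp
  have hlh : IsLocalHom (Ideal.Quotient.mk p) := by
    refine ⟨fun a ha => ?_⟩
    by_contra hna
    have ha' : a ∈ maximalIdeal V := hna
    -- image of the maximal ideal is proper
    obtain ⟨b, hb⟩ := isUnit_iff_exists_inv.mp ha
    obtain ⟨b, rfl⟩ := Ideal.Quotient.mk_surjective b
    rw [← map_mul, ← map_one (Ideal.Quotient.mk p), Ideal.Quotient.eq] at hb
    have h1 : a * b - 1 ∈ maximalIdeal V := hle hb
    have h2 : a * b ∈ maximalIdeal V := Ideal.mul_mem_right _ _ ha'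
    have h3 : (1 : V) ∈ maximalIdeal V := by
      have := Ideal.sub_mem _ h2 h1
      rwa [sub_sub_cancel] at this
    exact (Ideal.ne_top_iff_one _).mp (maximalIdeal.isMaximal V).ne_top h3
  refine { hloc with is_henselian := ?_ }
  intro f hf a₀ h₁ h₂
  obtain ⟨F, hF, -, hFm⟩ := Polynomial.lifts_and_degree_eq_and_monic
    (Polynomial.map_surjective (Ideal.Quotient.mk p) Ideal.Quotient.mk_surjective f |>.elim
      fun g hg => (Polynomial.mem_lifts f).mpr ⟨g, hg⟩) hf
  obtain ⟨b₀, rfl⟩ := Ideal.Quotient.mk_surjective a₀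
  have e1 : f.eval (Ideal.Quotient.mk p b₀) = Ideal.Quotient.mk p (F.eval b₀) := by
    rw [← hF, Polynomial.eval_map, Polynomial.eval₂_at_apply]
  have e2 : f.derivative.eval (Ideal.Quotient.mk p b₀) =
      Ideal.Quotient.mk p (F.derivative.eval b₀) := by
    rw [← hF, Polynomial.derivative_map, Polynomial.eval_map, Polynomial.eval₂_at_apply]
  have hF1 : F.eval b₀ ∈ maximalIdeal V := by
    rw [e1] at h₁
    by_contra hn
    have hu : IsUnit (F.eval b₀) := by
      rwa [IsLocalRing.mem_maximalIdeal, mem_nonunits_iff, not_not] at hn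
    exact ((IsLocalRing.mem_maximalIdeal _).mp h₁) (hu.map _)
  have hF2 : IsUnit (F.derivative.eval b₀) := by
    rw [e2] at h₂
    exact hlh.map_nonunit _ h₂
  obtain ⟨b, hb1, hb2⟩ := HenselianLocalRing.is_henselian F hFm b₀ hF1 hF2
  refine ⟨Ideal.Quotient.mk p b, ?_, ?_⟩
  · rw [Polynomial.IsRoot.def, ← hF, Polynomial.eval_map, Polynomial.eval₂_at_apply, hb1, map_zero]
  · rw [← map_sub]
    rw [IsLocalRing.mem_maximalIdeal, mem_nonunits_iff]
    intro hu
    exact ((IsLocalRing.mem_maximalIdeal _).mp hb2) (hlh.map_nonunit _ hu)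

section
variable (V : Type*) [CommRing V] [IsDomain V] [ValuationRing V] (p : Ideal V) [p.IsPrime]

/-- In a valuation ring, every element of the maximal ideal of `V_p` comes from `p`. -/
theorem exists_mem_of_mem_maximalIdeal_atPrime (w : Localization.AtPrime p)
    (hw : w ∈ maximalIdeal (Localization.AtPrime p)) :
    ∃ a ∈ p, algebraMap V (Localization.AtPrime p) a = w := by
  obtain ⟨a, s, rfl⟩ := IsLocalization.exists_mk'_eq p.primeCompl w
  rw [IsLocalization.AtPrime.mk'_mem_maximal_iff (Localization.AtPrime p) p] at hw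
  obtain ⟨c, hc | hc⟩ := ValuationRing.cond a (s : V)
  · exact absurd (hc ▸ Ideal.mul_mem_right c p hw) s.2
  · have hcp : c ∈ p := by
      rcases Ideal.IsPrime.mem_or_mem ‹p.IsPrime› (hc ▸ hw : (s : V) * c ∈ p) with h | h
      · exact absurd h s.2
      · exact h
    refine ⟨c, hcp, ?_⟩
    rw [← hc, IsLocalization.mk'_mul_cancel_left]

theorem core [HenselianLocalRing V] (g : (Localization.AtPrime p)[X]) (hgm : g.Monic)
    (hc0 : g.coeff 0 ∈ maximalIdeal (Localization.AtPrime p)) (hc1 : IsUnit (g.coeff 1)) :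
    ∃ x ∈ maximalIdeal (Localization.AtPrime p), g.eval x = 0 := by
  classical
  have hple : p ≤ maximalIdeal V := IsLocalRing.le_maximalIdeal (Ideal.IsPrime.ne_top ‹_›)
  obtain ⟨m, hm⟩ : ∃ m, g.natDegree = m + 1 := by
    refine Nat.exists_eq_succ_of_ne_zero fun h0 => ?_
    have : g.coeff 1 = 0 := Polynomial.coeff_eq_zero_of_natDegree_lt (by omega)
    rw [this] at hc1
    exact not_isUnit_zero hc1
  obtain ⟨v, hv⟩ := hc1.exists_right_inv
  set c := g.coeff with hc
  have hcm : c (m + 1) = 1 := by rw [hc, ← hm]; exact hgm.coeff_natDegree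
  set u := -c 0 * v with hu
  have hum : u ∈ maximalIdeal (Localization.AtPrime p) :=
    Ideal.mul_mem_right _ _ (Ideal.neg_mem_iff _ |>.mpr hc0)
  have hc0u : c 0 = -(c 1 * u) := by
    rw [hu]; linear_combination (-c 0) * hv
  have hb : ∀ j : ℕ, c (j + 2) * v * u ^ (j + 1) ∈ maximalIdeal (Localization.AtPrime p) :=
    fun j => Ideal.mul_mem_left _ _ (Ideal.pow_mem_of_mem _ hum _ (Nat.succ_pos j))
  choose β hβp hβ using fun j => exists_mem_of_mem_maximalIdeal_atPrime V p _ (hb j)
  set S : V[X] := ∑ j ∈ Finset.range m, C (β j) * X ^ (m - 1 - j) with hS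
  set G : V[X] := X ^ (m + 1) - (X ^ m + S) with hG
  have hSdeg : S.degree ≤ m := by
    refine (Polynomial.degree_sum_le _ _).trans ?_
    refine Finset.sup_le fun j _ => ?_
    refine (Polynomial.degree_C_mul_X_pow_le _ _).trans ?_
    exact_mod_cast (by omega : m - 1 - j ≤ m)
  have hGm : G.Monic := by
    refine Polynomial.monic_X_pow_sub ?_
    refine lt_of_le_of_lt ((Polynomial.degree_add_le _ _).trans
      (max_le (Polynomial.degree_X_pow_le m) hSdeg)) ?_
    exact_mod_cast Nat.lt_succ_self m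
  have hS1 : S.eval 1 ∈ p := by
    rw [hS, Polynomial.eval_finsetSum]
    refine Ideal.sum_mem _ fun j _ => ?_
    simpa using hβp j
  have hS2 : S.derivative.eval 1 ∈ p := by
    rw [hS, Polynomial.derivative_sum, Polynomial.eval_finsetSum]
    refine Ideal.sum_mem _ fun j _ => ?_
    rw [Polynomial.derivative_C_mul_X_pow]
    simp only [eval_mul, eval_C, eval_pow, eval_X, one_pow, mul_one]
    exact Ideal.mul_mem_right _ _ (hβp j)
  have hG1 : G.eval 1 ∈ maximalIdeal V := by
    have : G.eval 1 = -S.eval 1 := by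
      rw [hG]; simp
    rw [this]
    exact hple (Ideal.neg_mem_iff _ |>.mpr hS1)
  have hG2 : IsUnit (G.derivative.eval 1) := by
    have : G.derivative.eval 1 = 1 - S.derivative.eval 1 := by
      rw [hG]
      simp only [derivative_sub, derivative_add, derivative_X_pow, eval_sub, eval_add, eval_mul,
        eval_pow, eval_X, one_pow, mul_one, eval_C, Nat.add_sub_cancel]
      push_cast
      ring
    rw [this]
    by_contra hn
    have h1 : 1 - S.derivative.eval 1 ∈ maximalIdeal V := hn
    have h2 : S.derivative.eval 1 ∈ maximalIdeal V := hple hS2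
    have := Ideal.add_mem _ h1 h2
    rw [sub_add_cancel] at this
    exact (Ideal.ne_top_iff_one _).mp (maximalIdeal.isMaximal V).ne_top this
  obtain ⟨t, ht1, ht2⟩ := HenselianLocalRing.is_henselian G hGm 1 hG1 hG2
  have htu : IsUnit t := by
    by_contra hn
    have h1 : t ∈ maximalIdeal V := hn
    have := Ideal.sub_mem _ h1 ht2
    rw [sub_sub_cancel] at this
    exact (Ideal.ne_top_iff_one _).mp (maximalIdeal.isMaximal V).ne_top this
  obtain ⟨s, hs⟩ := htu.exists_right_inv
  set τ := algebraMap V (Localization.AtPrime p) t with hτ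
  set σ := algebraMap V (Localization.AtPrime p) s with hσ
  have hτσ : τ * σ = 1 := by rw [hτ, hσ, ← map_mul, hs, map_one]
  -- the root identity in W
  have hroot : τ ^ (m + 1) - (τ ^ m + ∑ j ∈ Finset.range m,
      (c (j + 2) * v * u ^ (j + 1)) * τ ^ (m - 1 - j)) = 0 := by
    have := congrArg (algebraMap V (Localization.AtPrime p)) ht1
    rw [hG, hS] at this
    simp only [eval_sub, eval_add, eval_pow, eval_X, eval_finsetSum, eval_mul, eval_C, map_sub,
      map_add, map_pow, map_sum, map_mul, map_zero, hβ] at this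
    exact this
  refine ⟨u * σ, Ideal.mul_mem_right _ _ hum, ?_⟩
  have hτu : IsUnit (τ ^ (m + 1)) := (htu.map _).pow _
  rw [← hτu.mul_right_eq_zero]
  rw [Polynomial.eval_eq_sum_range, hm, Finset.sum_range_succ', Finset.sum_range_succ']
  have key : ∀ j ∈ Finset.range m, τ ^ (m + 1) * (c (j + 2) * (u * σ) ^ (j + 2)) =
      c 1 * u * ((c (j + 2) * v * u ^ (j + 1)) * τ ^ (m - 1 - j)) := by
    intro j hj
    have hj' : j < m := Finset.mem_range.mp hj
    have e : m + 1 = (m - 1 - j) + (j + 2) := by omega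
    have e2 : τ ^ (m + 1) * σ ^ (j + 2) = τ ^ (m - 1 - j) := by
      rw [e, pow_add, mul_assoc, ← mul_pow, hτσ, one_pow, mul_one]
    calc τ ^ (m + 1) * (c (j + 2) * (u * σ) ^ (j + 2))
        = c (j + 2) * u ^ (j + 2) * (τ ^ (m + 1) * σ ^ (j + 2)) := by rw [mul_pow]; ring
      _ = c (j + 2) * u ^ (j + 2) * τ ^ (m - 1 - j) := by rw [e2]
      _ = c 1 * u * ((c (j + 2) * v * u ^ (j + 1)) * τ ^ (m - 1 - j)) := by
          rw [pow_succ u (j + 1)]; linear_combination (-(c (j + 2) * u ^ (j + 1) * u * τ ^ (m - 1 - j))) * hv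
  rw [mul_add, mul_add, Finset.mul_sum, Finset.sum_congr rfl key, ← Finset.mul_sum]
  have e3 : τ ^ (m + 1) * (c (0 + 1) * (u * σ) ^ (0 + 1)) = c 1 * u * τ ^ m := by
    have : τ ^ (m + 1) * σ = τ ^ m := by rw [pow_succ, mul_assoc, hτσ, mul_one]
    simp only [zero_add, pow_one]
    linear_combination (c 1 * u) * this
  have hc0u' : g.coeff 0 = -(c 1 * u) := hc0u
  rw [e3, pow_zero, mul_one, hc0u']
  linear_combination (-(c 1 * u)) * hroot

end

/-- Let V be a Henselian valuation ring and p a prime ideal of V. Then the local rings V_p (localisation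
at p) and V/p are Henselian. (Both are again valuation rings, which is elementary and not restated.) -/
theorem result (V : Type u) [CommRing V]
    [IsDomain V] [ValuationRing V] [HenselianLocalRing V] (p : Ideal V) [p.IsPrime] :
    HenselianLocalRing (Localization.AtPrime p) ∧ HenselianLocalRing (V ⧸ p) := by
  refine ⟨?_, henselian_quotient V p (Ideal.IsPrime.ne_top ‹_›)⟩
  refine { (inferInstance : IsLocalRing (Localization.AtPrime p)) with is_henselian := ?_ }
  intro f hf a₀ h₁ h₂
  have hgm : (taylor a₀ f).Monic := by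
    rw [Polynomial.Monic, Polynomial.leadingCoeff_taylor]; exact hf
  obtain ⟨x, hx, hx0⟩ := core V p (taylor a₀ f) hgm
    (by rw [taylor_coeff_zero]; exact h₁) (by rw [taylor_coeff_one]; exact h₂)
  refine ⟨x + a₀, ?_, by simpa using hx⟩
  rw [IsRoot.def, ← taylor_eval]; exact hx0

end Groth.Agent.S16174
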