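import Groth.Statements.S16178
import Groth.Agent.Lib.Helper7.FibrePDLocal

set_option autoImplicit false
universe u
open CategoryTheory
open CAlg TensorProduct

namespace Groth.Agent.S16178

/-- Let V be a valuation ring, B a flat V-algebra of finite presentation, q a prime ideal of B lying
over the prime p of V, A = B_q the local ring of Spec B at q, and suppose that the local ring A/pA
of the fibre over p at q is a regular local ring of dimension n. Then every finitely presented
A-module M which is flat as a V-module has projective dimension at most n over A. -/
theorem result (V : Type u) [CommRing V] [IsDomain V] [ValuationRing V]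
    (B : Type u) [CommRing B] [Algebra V B] [Module.Flat V B] [Algebra.FinitePresentation V B]
    (q : Ideal B) [q.IsPrime] (n : ℕ)
    (hreg : IsRegularLocalRing (Localization.AtPrime q ⧸ Ideal.map (algebraMap V (Localization.AtPrime q)) (Ideal.comap (algebraMap V B) q)))
    (hn : ringKrullDim (Localization.AtPrime q ⧸ Ideal.map (algebraMap V (Localization.AtPrime q)) (Ideal.comap (algebraMap V B) q)) = n)
    (M : Type u) [AddCommGroup M] [Module (Localization.AtPrime q) M] [Module.FinitePresentation (Localization.AtPrime q) M]
    [Module V M] [IsScalarTower V (Localization.AtPrime q) M] [Module.Flat V M] :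
    HasProjectiveDimensionLE (ModuleCat.of (Localization.AtPrime q) M) n := by
  haveI := hreg
  haveI : Module.Flat V (Localization.AtPrime q) := Module.Flat.trans V B (Localization.AtPrime q)
  have hS := Groth.Agent.Lib.helper11.GlDimRegular.hasProjectiveDimensionLT_of_isRegularLocalRing n hn
    (ModuleCat.of (Groth.Agent.Lib.Helper7.FibrePDLocal.Sbar V (Localization.AtPrime q)
      (Ideal.comap (algebraMap V B) q))
      (Groth.Agent.Lib.Helper7.FibrePDLocal.Sbar V (Localization.AtPrime q)
        (Ideal.comap (algebraMap V B) q) ⊗[Localization.AtPrime q] M))
  exact Groth.Agent.Lib.Helper7.FibrePDLocal.hasPDLT_succ_of_fibre V (Localization.AtPrime q)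
    (Ideal.comap (algebraMap V B) q)
    (fun N _ _ _ _ _ _ hfib =>
      Groth.Agent.Lib.Helper7.FibrePDLocal.flat_of_quotient_flat_atPrime V B q N hfib)
    (fun N _ _ _ _ _ _ k π hπ =>
      Groth.Agent.Lib.Helper7.FibrePDLocal.fp_ker_of_flat_essFP V (Localization.AtPrime q) B
        q.primeCompl N π hπ)
    n M hS

end Groth.Agent.S16178
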