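import Groth.Statements.S16179
import Groth.Agent.Lib.Helper7.ValFP
import Groth.Agent.Lib.Helper7.FibrePD
import Groth.Agent.S16178

set_option autoImplicit false
universe u
open CategoryTheory
open CAlg

namespace Groth.Agent.S16179

/-- Let V be a valuation ring, B a flat V-algebra of finite presentation, q a prime ideal of B lying
over the prime p of V, A = B_q the local ring of Spec B at q, and suppose that the local ring A/pA
of the fibre over p at q is a regular local ring of dimension n. Then every finitely presented
A-module M has projective dimension at most n + 1 over A. -/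
theorem result (V : Type u) [CommRing V] [IsDomain V] [ValuationRing V]
    (B : Type u) [CommRing B] [Algebra V B] [Module.Flat V B] [Algebra.FinitePresentation V B]
    (q : Ideal B) [q.IsPrime] (n : ℕ)
    (hreg : IsRegularLocalRing (Localization.AtPrime q ⧸ Ideal.map (algebraMap V (Localization.AtPrime q)) (Ideal.comap (algebraMap V B) q)))
    (hn : ringKrullDim (Localization.AtPrime q ⧸ Ideal.map (algebraMap V (Localization.AtPrime q)) (Ideal.comap (algebraMap V B) q)) = n)
    (M : Type u) [AddCommGroup M] [Module (Localization.AtPrime q) M] [Module.FinitePresentation (Localization.AtPrime q) M] :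
    HasProjectiveDimensionLE (ModuleCat.of (Localization.AtPrime q) M) (n + 1) := by
  letI mV : Module V M := Module.compHom M (algebraMap V (Localization.AtPrime q))
  haveI tV : IsScalarTower V (Localization.AtPrime q) M :=
    IsScalarTower.of_algebraMap_smul fun _ _ => rfl
  haveI : Module.Flat V (Localization.AtPrime q) := Module.Flat.trans V B (Localization.AtPrime q)
  haveI hess : Algebra.EssFiniteType V (Localization.AtPrime q) := by
    haveI : Algebra.EssFiniteType B (Localization.AtPrime q) :=
      Algebra.EssFiniteType.of_isLocalization (Localization.AtPrime q) q.primeCompl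
    exact Algebra.EssFiniteType.comp V B (Localization.AtPrime q)
  obtain ⟨k, π, hπ⟩ := Module.Finite.exists_fin' (Localization.AtPrime q) M
  have hKfg : (LinearMap.ker π).FG := Module.FinitePresentation.fg_ker π hπ
  haveI : Module.Finite (Localization.AtPrime q) (LinearMap.ker π) := Module.Finite.iff_fg.2 hKfg
  have htf : ∀ (a : V) (x : LinearMap.ker π), a ≠ 0 → a • x = 0 → x = 0 := by
    intro a x ha hax
    have hreg : IsSMulRegular (Localization.AtPrime q) a :=
      Module.Flat.isSMulRegular_of_nonZeroDivisors (mem_nonZeroDivisors_of_ne_zero ha)
    apply Subtype.ext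
    funext c
    have h1 : a • ((x : Fin k → Localization.AtPrime q) c) = 0 := by
      have := congrArg (fun y : LinearMap.ker π => (y : Fin k → Localization.AtPrime q) c) hax
      simpa using this
    exact hreg.right_eq_zero_of_smul h1
  haveI hfp : Module.FinitePresentation (Localization.AtPrime q) (LinearMap.ker π) :=
    Groth.Agent.Lib.Helper7.ValFP.finitePresentation_of_torsionFree (A := V)
      (B := Localization.AtPrime q) (LinearMap.ker π) htf
  haveI hfl : Module.Flat V (LinearMap.ker π) := by
    rw [Module.Flat.flat_iff_torsion_eq_bot_of_isBezout, eq_bot_iff]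
    rintro x ⟨⟨a, ha⟩, hax⟩
    exact (Submodule.mem_bot _).2 (htf a x (nonZeroDivisors.ne_zero ha) hax)
  have hK := Groth.Agent.S16178.result V B q n hreg hn (LinearMap.ker π)
  have hj : Function.Injective (LinearMap.ker π).subtype := (LinearMap.ker π).injective_subtype
  have hex : Function.Exact (LinearMap.ker π).subtype π := LinearMap.exact_subtype_ker_map π
  exact (Groth.Agent.Lib.Helper7.FibrePD.hasPDLT_iff_of_shortExact (LinearMap.ker π).subtype π
    hj hex hπ n).2 hK

end Groth.Agent.S16179
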