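import Groth.Statements.S16180
import Groth.Agent.Lib.Helper7.ValRefl
import Groth.Agent.S16178

set_option autoImplicit false
universe u
open CategoryTheory
open CAlg

namespace Groth.Agent.S16180

/-- Let V be a valuation ring, B a flat V-algebra of finite presentation, q a prime ideal of B lying
over the prime p of V, A = B_q the local ring of Spec B at q, and suppose that the local ring A/pA
of the fibre over p at q is a regular local ring of dimension n. Then every finitely presented
A-module M which is reflexive (the evaluation map into its double A-dual is bijective) has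
projective dimension at most max(0, n - 1) over A (written with truncated subtraction of natural
numbers). -/
theorem result (V : Type u) [CommRing V] [IsDomain V] [ValuationRing V]
    (B : Type u) [CommRing B] [Algebra V B] [Module.Flat V B] [Algebra.FinitePresentation V B]
    (q : Ideal B) [q.IsPrime] (n : ℕ)
    (hreg : IsRegularLocalRing (Localization.AtPrime q ⧸ Ideal.map (algebraMap V (Localization.AtPrime q)) (Ideal.comap (algebraMap V B) q)))
    (hn : ringKrullDim (Localization.AtPrime q ⧸ Ideal.map (algebraMap V (Localization.AtPrime q)) (Ideal.comap (algebraMap V B) q)) = n)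
    (M : Type u) [AddCommGroup M] [Module (Localization.AtPrime q) M] [Module.FinitePresentation (Localization.AtPrime q) M]
    [Module.IsReflexive (Localization.AtPrime q) M] :
    HasProjectiveDimensionLE (ModuleCat.of (Localization.AtPrime q) M) (n - 1) := by
  haveI : Module.Flat V (Localization.AtPrime q) := Module.Flat.trans V B (Localization.AtPrime q)
  haveI hess : Algebra.EssFiniteType V (Localization.AtPrime q) := by
    haveI : Algebra.EssFiniteType B (Localization.AtPrime q) :=
      Algebra.EssFiniteType.of_isLocalization (Localization.AtPrime q) q.primeCompl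
    exact Algebra.EssFiniteType.comp V B (Localization.AtPrime q)
  have hS : ∀ (a : V) (b : Localization.AtPrime q), a ≠ 0 →
      algebraMap V (Localization.AtPrime q) a * b = 0 → b = 0 := by
    intro a b ha h
    have hreg : IsSMulRegular (Localization.AtPrime q) a :=
      Module.Flat.isSMulRegular_of_nonZeroDivisors (mem_nonZeroDivisors_of_ne_zero ha)
    apply hreg.right_eq_zero_of_smul
    rw [Algebra.smul_def]
    exact h
  obtain ⟨b, j, hj, hsat⟩ :=
    Groth.Agent.Lib.Helper7.ValRefl.exists_saturated_embedding (A := V) hS M
  have htf : ∀ (a : V) (c : Module.Dual (Localization.AtPrime q) (Fin b → Localization.AtPrime q) ⧸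
      LinearMap.range j), a ≠ 0 → a • c = 0 → c = 0 := by
    intro a c ha h
    obtain ⟨f, rfl⟩ := Submodule.Quotient.mk_surjective _ c
    have h1 : algebraMap V (Localization.AtPrime q) a • f ∈ LinearMap.range j := by
      rw [← Submodule.Quotient.mk_eq_zero, Submodule.Quotient.mk_smul, algebraMap_smul]
      exact h
    exact (Submodule.Quotient.mk_eq_zero _).2 (hsat a f ha h1)
  haveI hfp : Module.FinitePresentation (Localization.AtPrime q)
      (Module.Dual (Localization.AtPrime q) (Fin b → Localization.AtPrime q) ⧸
        LinearMap.range j) :=
    Groth.Agent.Lib.Helper7.ValFP.finitePresentation_of_torsionFree (A := V)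
      (B := Localization.AtPrime q) _ htf
  haveI hfl : Module.Flat V (Module.Dual (Localization.AtPrime q)
      (Fin b → Localization.AtPrime q) ⧸ LinearMap.range j) := by
    rw [Module.Flat.flat_iff_torsion_eq_bot_of_isBezout, eq_bot_iff]
    rintro x ⟨⟨a, ha⟩, hax⟩
    exact (Submodule.mem_bot _).2 (htf a x (nonZeroDivisors.ne_zero ha) hax)
  have hC : HasProjectiveDimensionLT (ModuleCat.of (Localization.AtPrime q)
      (Module.Dual (Localization.AtPrime q) (Fin b → Localization.AtPrime q) ⧸
        LinearMap.range j)) (n + 1) := Groth.Agent.S16178.result V B q n hreg hn _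
  have hex : Function.Exact j (LinearMap.range j).mkQ := LinearMap.exact_map_mkQ_range j
  have hsurj : Function.Surjective (LinearMap.range j).mkQ := Submodule.mkQ_surjective _
  have hSE : (CategoryTheory.ShortComplex.mk (ModuleCat.ofHom j)
      (ModuleCat.ofHom (LinearMap.range j).mkQ)
      (by ext x; exact hex.apply_apply_eq_zero x)).ShortExact :=
    ModuleCat.shortComplex_shortExact _ hex hj hsurj
  haveI hFproj : CategoryTheory.Projective (ModuleCat.of (Localization.AtPrime q)
      (Module.Dual (Localization.AtPrime q) (Fin b → Localization.AtPrime q))) :=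
    (IsProjective.iff_projective (R := Localization.AtPrime q)
      (P := Module.Dual (Localization.AtPrime q) (Fin b → Localization.AtPrime q))).mp inferInstance
  have hF1 : HasProjectiveDimensionLT (ModuleCat.of (Localization.AtPrime q)
      (Module.Dual (Localization.AtPrime q) (Fin b → Localization.AtPrime q))) 1 :=
    CategoryTheory.projective_iff_hasProjectiveDimensionLT_one.1 hFproj
  have hF : HasProjectiveDimensionLT (ModuleCat.of (Localization.AtPrime q)
      (Module.Dual (Localization.AtPrime q) (Fin b → Localization.AtPrime q))) (n - 1 + 1) :=
    CategoryTheory.hasProjectiveDimensionLT_of_ge _ 1 (n - 1 + 1) (by omega)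
  have hC' : HasProjectiveDimensionLT (ModuleCat.of (Localization.AtPrime q)
      (Module.Dual (Localization.AtPrime q) (Fin b → Localization.AtPrime q) ⧸
        LinearMap.range j)) (n - 1 + 1 + 1) :=
    CategoryTheory.hasProjectiveDimensionLT_of_ge _ (n + 1) (n - 1 + 1 + 1) (by omega)
  exact hSE.hasProjectiveDimensionLT_X₁ (n - 1 + 1) hF hC'

end Groth.Agent.S16180
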