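import Groth.Statements.S16185
import Groth.Agent.Lib.Helper5.ClosedFibre
import Groth.Agent.Lib.Helper5.FibreStalkB
import Groth.Agent.Lib.Helper5.GorIso
-- import your own Groth.Agent.* helpers here

set_option autoImplicit false
universe u
open CategoryTheory CategoryTheory.Limits AlgebraicGeometry
open Dual3

namespace Groth.Agent.S16185

/-- Let A be an Artinian local ring with maximal ideal m and let f : P → Spec A be a flat morphism of
schemes whose closed fibre X = P ×_{Spec A} Spec (A/m) is a Gorenstein scheme (locally Noetherian,
all local rings Gorenstein). Then f is a Gorenstein morphism: flat at every point with Gorenstein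
local rings on its fibres. (The source takes A to be a local Artinian algebra over a field k with
residue field k and X a k-scheme deformed flatly over A; the k-algebra structure plays no role, so
the residue field of A is used directly.) -/
theorem result
    {A : Type u} [CommRing A] [IsArtinianRing A] [IsLocalRing A]
    {P X : Scheme.{u}} (f : P ⟶ Spec (CommRingCat.of A)) [Flat f]
    (i : X ⟶ P) (q : X ⟶ Spec (CommRingCat.of (IsLocalRing.ResidueField A)))
    (hsq : IsPullback i q f (Spec.map (CommRingCat.ofHom (IsLocalRing.residue A))))
    (hX : Dual3.IsGorenstein X) : Dual3.IsGorensteinMor f := by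
  intro p
  have hfl : (f.stalkMap p).hom.Flat := Flat.stalkMap f p
  refine ⟨hfl, ?_⟩
  have hp : f p = IsLocalRing.closedPoint A := Subsingleton.elim (α := PrimeSpectrum A) _ _
  have hq : ∀ z : Spec (CommRingCat.of (IsLocalRing.ResidueField A)),
      (Spec.map (CommRingCat.ofHom (IsLocalRing.residue A))) z = IsLocalRing.closedPoint A :=
    fun z => Subsingleton.elim (α := PrimeSpectrum A) _ _
  obtain ⟨x, hx, -⟩ := Scheme.exists_preimage_of_isPullback hsq p
    (default : PrimeSpectrum (IsLocalRing.ResidueField A)) (hp.trans (hq _).symm)
  subst hx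
  obtain ⟨e1⟩ := Groth.Agent.Lib.Helper5.ClosedFibre.nonempty_stalk_equiv f i q hsq x
  obtain ⟨e2⟩ := Groth.Agent.Lib.Helper5.FibreStalk.nonempty_fibreStalk_equiv f (i x)
  have := hX.2 x
  exact Groth.Agent.Lib.Helper5.GorIso.isGorensteinLocalRing_of_ringEquiv (e1.trans e2.symm)


end Groth.Agent.S16185
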