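import Groth.Statements.S16188
import Mathlib
-- import your own Groth.Agent.* helpers here

set_option autoImplicit false
universe u
open CategoryTheory AlgebraicGeometry TopologicalSpace
open SchMor

namespace Groth.Agent.S16188

section H
open CategoryTheory CategoryTheory.Limits AlgebraicGeometry TopologicalSpace
namespace W17
set_option backward.isDefEq.respectTransparency.types false

theorem isReduced_subscheme_vanishingIdeal {Y : Scheme.{u}} (Z : Closeds Y) :
    IsReduced (Scheme.IdealSheafData.vanishingIdeal Z).subscheme := by
  let I := Scheme.IdealSheafData.vanishingIdeal Z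
  have : ∀ U, IsReduced (I.subschemeCover.openCover.X U) := by
    intro U
    show IsReduced (Spec (CommRingCat.of (Γ(Y, U.1) ⧸ I.ideal U)))
    rw [affine_isReduced_iff]
    show _root_.IsReduced (Γ(Y, U.1) ⧸ I.ideal U)
    rw [← Ideal.isRadical_iff_quotient_reduced]
    show ((Scheme.IdealSheafData.vanishingIdeal Z).ideal U).IsRadical
    rw [Scheme.IdealSheafData.vanishingIdeal_ideal]
    exact PrimeSpectrum.isRadical_vanishingIdeal _
  exact IsReduced.of_openCover _ I.subschemeCover.openCover

theorem main {X Y : Scheme.{u}} (f : X ⟶ Y) [IsReduced X] [IrreducibleSpace X] :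
    ∃ (Z : Closeds Y) (_ : (Z : Set Y) ∈ irreducibleComponents Y)
      (_ : IsIntegral (Scheme.IdealSheafData.vanishingIdeal Z).subscheme)
      (g : X ⟶ (Scheme.IdealSheafData.vanishingIdeal Z).subscheme),
      g ≫ (Scheme.IdealSheafData.vanishingIdeal Z).subschemeι = f := by
  have hirr : IsIrreducible (closure (Set.range f)) := by
    have h := (IrreducibleSpace.isIrreducible_univ X).image f f.continuous.continuousOn
    rw [Set.image_univ] at h
    exact h.closure
  obtain ⟨Z₀, hZ₀, hle, hmax⟩ := exists_preirreducible _ hirr.isPreirreducible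
  have hZirr : IsIrreducible Z₀ := ⟨hirr.nonempty.mono hle, hZ₀⟩
  have hZcomp : Z₀ ∈ irreducibleComponents Y :=
    ⟨hZirr, fun t ht hle' => (hmax t ht.2 hle').le⟩
  have hZcl : IsClosed Z₀ := isClosed_of_mem_irreducibleComponents Z₀ hZcomp
  let Z : Closeds Y := ⟨Z₀, hZcl⟩
  refine ⟨Z, hZcomp, ?_, ?_⟩
  · have h1 : IsReduced (Scheme.IdealSheafData.vanishingIdeal Z).subscheme :=
      isReduced_subscheme_vanishingIdeal Z
    have h2 : IrreducibleSpace (Scheme.IdealSheafData.vanishingIdeal Z).subscheme := by
      have h3 : IsIrreducible ((Scheme.IdealSheafData.vanishingIdeal Z).support : Set Y) := by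
        rw [Scheme.IdealSheafData.coe_support_vanishingIdeal]
        exact hZirr
      exact Subtype.irreducibleSpace h3
    exact isIntegral_of_irreducibleSpace_of_isReduced _
  · have hker : (Scheme.IdealSheafData.vanishingIdeal Z).subschemeι.ker ≤ f.ker := by
      rw [Scheme.IdealSheafData.ker_subschemeι]
      have h1 : f.ker = Scheme.IdealSheafData.vanishingIdeal (.closure (f '' (⊤ : Closeds X))) := by
        rw [← Scheme.IdealSheafData.map_vanishingIdeal, Scheme.IdealSheafData.vanishingIdeal_top,
          Scheme.nilradical_eq_bot, Scheme.IdealSheafData.map_bot]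
      rw [h1]
      apply Scheme.IdealSheafData.vanishingIdeal_antimono
      show closure (f '' (Set.univ)) ⊆ Z₀
      rw [Set.image_univ]
      exact hle
    exact ⟨IsClosedImmersion.lift _ f hker, IsClosedImmersion.lift_fac _ f hker⟩

end W17
end H


/-- Let f : X → Y be a morphism of schemes with X reduced and irreducible. Then f factors through an
irreducible component of Y carrying its reduced closed-subscheme structure: there are an irreducible
component Z of Y and a morphism g from X to the closed subscheme of Y cut out by the vanishing ideal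
sheaf of Z with g followed by the inclusion equal to f; that closed subscheme is integral. -/
theorem result
    {X Y : Scheme.{u}} (f : X ⟶ Y) [IsReduced X] [IrreducibleSpace X] :
    ∃ (Z : Closeds Y) (_ : (Z : Set Y) ∈ irreducibleComponents Y)
      (_ : IsIntegral (Scheme.IdealSheafData.vanishingIdeal Z).subscheme)
      (g : X ⟶ (Scheme.IdealSheafData.vanishingIdeal Z).subscheme),
      g ≫ (Scheme.IdealSheafData.vanishingIdeal Z).subschemeι = f := by
  exact W17.main f

end Groth.Agent.S16188
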