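import Groth.Statements.S16196
import Mathlib
-- import your own Groth.Agent.* helpers here

set_option autoImplicit false
universe u v
open DivAlg

namespace Groth.Agent.S16196

/-- Let R be a ring (associative, unital, not necessarily commutative) and M a left R-module which is a
generator, in the form: for some n there is an R-linear surjection from M^n onto R. Then the natural
ring homomorphism from R to the double endomorphism ring BiEnd_R(M) = End_{End_R(M)}(M)
(endomorphisms of M commuting with every R-linear endomorphism), r ↦ multiplication by r, is
bijective. (The printed form takes R an algebra over a commutative ring k, embeds R in E = End_k(M)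
and asserts R = C_E(C_E(R)); the double centralizer there is BiEnd_R(M).) -/
theorem result {R : Type u} [Ring R] (M : Type v)
    [AddCommGroup M] [Module R M]
    (hgen : ∃ (n : ℕ) (f : (Fin n → M) →ₗ[R] R), Function.Surjective f) :
    Function.Bijective (Module.toModuleEnd (Module.End R M) (S := R) M) := by
  classical
  obtain ⟨n, f, hf⟩ := hgen
  obtain ⟨v, hv⟩ := hf 1
  have hsum : ∀ w : Fin n → M, f w = ∑ i, f (Pi.single i (w i)) := by
    intro w
    conv_lhs => rw [← Finset.univ_sum_single w]
    rw [map_sum]
  constructor
  · rw [injective_iff_map_eq_zero]
    intro r hr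
    have h1 : ∀ m : M, r • m = 0 := fun m => by
      have := LinearMap.congr_fun hr m
      simpa using this
    have h2 : r • v = 0 := by
      funext i
      exact h1 (v i)
    calc r = r * 1 := (mul_one r).symm
      _ = r • f v := by rw [hv, smul_eq_mul]
      _ = f (r • v) := (map_smul f r v).symm
      _ = 0 := by rw [h2, map_zero]
  · intro φ
    refine ⟨f (fun i => φ (v i)), ?_⟩
    apply LinearMap.ext
    intro m
    let g : Fin n → Module.End R M := fun i =>
      (LinearMap.toSpanSingleton R M m) ∘ₗ f ∘ₗ (LinearMap.single R (fun _ => M) i)
    have hg : ∀ i x, g i x = f (Pi.single i x) • m := fun i x => rfl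
    have hm : m = ∑ i, g i (v i) := by
      simp only [hg]
      rw [← Finset.sum_smul, ← hsum, hv, one_smul]
    have hφ : ∀ i x, φ (g i x) = g i (φ x) := by
      intro i x
      have := φ.map_smul (g i) x
      simpa using this
    show f (fun i => φ (v i)) • m = φ m
    have key : φ m = ∑ i, g i (φ (v i)) := by
      calc φ m = φ (∑ i, g i (v i)) := congrArg φ hm
        _ = ∑ i, φ (g i (v i)) := map_sum φ _ _
        _ = ∑ i, g i (φ (v i)) := Finset.sum_congr rfl (fun i _ => hφ i _)
    rw [key]
    simp only [hg]
    rw [← Finset.sum_smul, ← hsum (fun i => φ (v i))]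

end Groth.Agent.S16196
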