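import Groth.Statements.S16197
import Mathlib
-- import your own Groth.Agent.* helpers here

set_option autoImplicit false
universe u v w
open DivAlg

namespace Groth.Agent.S16197

/-- Let R be a ring (associative, unital, not necessarily commutative) and M a left R-module which is a
generator, used here only through the existence of an R-linear surjection from a direct sum of
copies of M, indexed by an arbitrary type, onto R. Then some finite power M^n decomposes as R × Q
for a submodule Q of M^n. (The published statement is an equivalence; this row states only the
implication from the existence of such a surjection to the splitting.) -/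
theorem result {R : Type u} [Ring R] (M : Type v)
    [AddCommGroup M] [Module R M]
    (hgen : ∃ (ι : Type w) (f : (ι →₀ M) →ₗ[R] R), Function.Surjective f) :
    ∃ (n : ℕ) (Q : Submodule R (Fin n → M)), Nonempty ((Fin n → M) ≃ₗ[R] (R × Q)) := by
  classical
  obtain ⟨ι, f, hf⟩ := hgen
  obtain ⟨x, hx⟩ := hf 1
  let s := x.support
  let n := s.card
  let e : Fin n ≃ s := s.equivFin.symm
  let h : (Fin n → M) →ₗ[R] R :=
    f ∘ₗ (∑ j : Fin n, (Finsupp.lsingle ((e j : s) : ι)) ∘ₗ (LinearMap.proj j))
  let w₀ : Fin n → M := fun j => x (e j)
  have hw₀ : h w₀ = 1 := by
    simp only [h, LinearMap.comp_apply, LinearMap.sum_apply, LinearMap.proj_apply,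
      Finsupp.lsingle_apply]
    rw [← hx]
    congr 1
    show ∑ j : Fin n, Finsupp.single ((e j : s) : ι) (x (e j)) = x
    rw [Equiv.sum_comp e (fun i : s => Finsupp.single (i : ι) (x i))]
    rw [Finset.sum_coe_sort s (fun i => Finsupp.single i (x i))]
    exact Finsupp.sum_single x
  refine ⟨n, LinearMap.ker h, ⟨?_⟩⟩
  exact
    { toFun := fun w => (h w, ⟨w - h w • w₀, by
        rw [LinearMap.mem_ker, map_sub, map_smul, hw₀, smul_eq_mul, mul_one, sub_self]⟩)
      map_add' := by
        intro a b
        ext
        · simp
        · simp only [map_add, add_smul, Prod.snd_add, Submodule.coe_add, Pi.add_apply,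
            Pi.sub_apply]
          abel
      map_smul' := by
        intro r a
        ext
        · simp
        · simp only [map_smul, smul_eq_mul, mul_smul, RingHom.id_apply, Prod.smul_snd,
            Submodule.coe_smul, smul_sub]
      invFun := fun p => p.1 • w₀ + p.2.1
      left_inv := by
        intro w
        simp
      right_inv := by
        rintro ⟨r, q, hq⟩
        have hq' : h q = 0 := hq
        ext
        · simp [map_add, map_smul, hw₀, hq']
        · simp [map_add, map_smul, hw₀, hq'] }

end Groth.Agent.S16197
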