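import Groth.Statements.S16200
-- import your own Groth.Agent.* helpers here
import Groth.Agent.Lib.Helper23.Steinitz

set_option autoImplicit false
universe u v
open DivAlg

namespace Groth.Agent.S16200

/-- Let R be a Dedekind domain, N an invertible R-module and n a natural number with [N]^n = 1 in
Pic(R). Then the direct sum N^n is isomorphic to R^n; thus over a Dedekind domain the invertible
modules N with N^n ≅ R^n are exactly the n-torsion classes of Pic(R), the other inclusion holding
over any commutative ring. -/
theorem result {R : Type u} [CommRing R]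
    [IsDedekindDomain R] (N : Type v) [AddCommGroup N] [Module R N] [Module.Invertible R N]
    (n : ℕ) (h : CommRing.Pic.mk R N ^ n = 1) :
    Nonempty ((Fin n → N) ≃ₗ[R] (Fin n → R)) := by
  rcases n with _ | k
  · exact ⟨LinearEquiv.ofSubsingleton (Fin 0 → N) (Fin 0 → R)⟩
  · obtain ⟨e⟩ := Helper23.Steinitz.steinitz_pow (R := R) (N := N) k
    have e1 : (CommRing.Pic.mk R N ^ (k + 1) : CommRing.Pic R) ≃ₗ[R] R := by
      have : Nonempty ((CommRing.Pic.mk R N ^ (k + 1) : CommRing.Pic R) ≃ₗ[R] R) := by
        rw [h]
        exact CommRing.Pic.mk_eq_one_iff.mp CommRing.Pic.mk_eq_self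
      exact this.some
    have e6 : (R × (Fin k → R)) ≃ₗ[R] (Fin (k + 1) → R) :=
      Fin.consLinearEquiv R (fun _ : Fin (k + 1) => R)
    exact ⟨e.trans ((LinearEquiv.prodCongr (LinearEquiv.refl R _) e1).trans
      ((LinearEquiv.prodComm R _ _).trans e6))⟩


end Groth.Agent.S16200
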