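import Groth.Statements.S16206
import Mathlib
-- import your own Groth.Agent.* helpers here

set_option autoImplicit false
set_option linter.unusedSectionVars false
set_option linter.style.haveILetI false
set_option linter.unusedVariables false
set_option linter.deprecated false
open RatCurv

namespace Groth.Agent.S16206

open W4c3cyccovratcurv

section A
variable {V : Type} [DecidableEq V]

def psi (r w : V) (v : V) : V := if v = w then r else v

lemma psi_ne (r w : V) (hrw : r ≠ w) (v : V) : psi r w v ≠ w := by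
  unfold psi
  split_ifs with h
  · exact hrw
  · exact h

lemma psi_of_ne (r w : V) {v : V} (h : v ≠ w) : psi r w v = v := if_neg h

lemma psi_self (r w : V) : psi r w w = r := if_pos rfl

def slide (G : SimpleGraph V) (r w : V) : SimpleGraph V where
  Adj a b := a ≠ b ∧ ((∃ a' b', G.Adj a' b' ∧ psi r w a' = a ∧ psi r w b' = b) ∨ s(a, b) = s(r, w))
  symm := ⟨by
    rintro a b ⟨hab, h⟩
    refine ⟨hab.symm, ?_⟩
    rcases h with ⟨a', b', h1, h2, h3⟩ | h
    · exact Or.inl ⟨b', a', h1.symm, h3, h2⟩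
    · exact Or.inr (by rw [Sym2.eq_swap]; exact h)⟩
  loopless := ⟨fun a h => h.1 rfl⟩

lemma slide_adj_iff (G : SimpleGraph V) (r w : V) (hrw : r ≠ w) {a b : V} (ha : a ≠ w) (hb : b ≠ w)
    (hab : a ≠ b) :
    (slide G r w).Adj a b ↔ G.Adj a b ∨ (a = r ∧ G.Adj w b) ∨ (b = r ∧ G.Adj w a) := by
  constructor
  · rintro ⟨-, h⟩
    rcases h with ⟨a', b', h1, h2, h3⟩ | h
    · by_cases ha' : a' = w
      · subst ha'
        rw [psi_self] at h2
        by_cases hb' : b' = a'
        · subst hb'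
          exact absurd h1 (G.loopless.irrefl _)
        · rw [psi_of_ne r a' hb'] at h3
          subst h3
          exact Or.inr (Or.inl ⟨h2.symm, h1⟩)
      · rw [psi_of_ne r w ha'] at h2
        subst h2
        by_cases hb' : b' = w
        · subst hb'
          rw [psi_self] at h3
          exact Or.inr (Or.inr ⟨h3.symm, h1.symm⟩)
        · rw [psi_of_ne r w hb'] at h3
          subst h3
          exact Or.inl h1
    · rw [Sym2.eq_iff] at h
      rcases h with ⟨-, h⟩ | ⟨h, -⟩
      · exact absurd h hb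
      · exact absurd h ha
  · intro h
    refine ⟨hab, Or.inl ?_⟩
    rcases h with h | ⟨h1, h2⟩ | ⟨h1, h2⟩
    · exact ⟨a, b, h, psi_of_ne r w ha, psi_of_ne r w hb⟩
    · exact ⟨w, b, h2, by rw [psi_self, h1], psi_of_ne r w hb⟩
    · exact ⟨a, w, h2.symm, psi_of_ne r w ha, by rw [psi_self, h1]⟩

lemma slide_adj_w_iff (G : SimpleGraph V) (r w : V) (hrw : r ≠ w) {b : V} (hb : b ≠ w) :
    (slide G r w).Adj w b ↔ b = r := by
  constructor
  · rintro ⟨-, h⟩
    rcases h with ⟨a', b', h1, h2, h3⟩ | h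
    · exact absurd h2 (psi_ne r w hrw a')
    · rw [Sym2.eq_iff] at h
      rcases h with ⟨-, h⟩ | ⟨-, h⟩
      · exact absurd h hb
      · exact h
  · rintro rfl
    exact ⟨hb.symm, Or.inr (Sym2.eq_swap)⟩

end A

section B
variable {V : Type} [Fintype V] [DecidableEq V]

lemma slide_adj_of_adj (G : SimpleGraph V) (r w : V) {a b : V} (h : G.Adj a b) :
    psi r w a = psi r w b ∨ (slide G r w).Adj (psi r w a) (psi r w b) := by
  by_cases e : psi r w a = psi r w b
  · exact Or.inl e
  · exact Or.inr ⟨e, Or.inl ⟨a, b, h, rfl, rfl⟩⟩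

lemma slide_reachable (G : SimpleGraph V) (r w : V) {a b : V} (h : G.Reachable a b) :
    (slide G r w).Reachable (psi r w a) (psi r w b) := by
  rw [SimpleGraph.reachable_iff_reflTransGen] at h ⊢
  refine Relation.ReflTransGen.lift' (psi r w) ?_ _ _ h
  intro x y hxy
  change Relation.ReflTransGen (slide G r w).Adj (psi r w x) (psi r w y)
  rcases slide_adj_of_adj G r w hxy with e | e
  · rw [e]
  · exact Relation.ReflTransGen.single e

lemma slide_connected (G : SimpleGraph V) (hG : G.Connected) (r w : V) (hrw : r ≠ w) :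
    (slide G r w).Connected := by
  have hw : (slide G r w).Adj r w := ⟨hrw, Or.inr rfl⟩
  have key : ∀ v, (slide G r w).Reachable r v := by
    intro v
    by_cases hv : v = w
    · subst hv
      exact hw.reachable
    · have := slide_reachable G r w (hG.preconnected r v)
      rwa [psi_of_ne r w hrw, psi_of_ne r w hv] at this
  have : Nonempty V := ⟨r⟩
  exact ⟨fun a b => (key a).symm.trans (key b)⟩

lemma slide_edgeSet_subset (G : SimpleGraph V) (r w : V) (h : G.Adj r w) :
    (slide G r w).edgeSet ⊆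
      (fun e => if e = s(r, w) then s(r, w) else Sym2.map (psi r w) e) '' G.edgeSet := by
  intro e
  induction e using Sym2.ind with
  | _ a b =>
    intro hab
    rw [SimpleGraph.mem_edgeSet] at hab
    obtain ⟨hne, h1⟩ := hab
    rcases h1 with ⟨a', b', h1, h2, h3⟩ | h1
    · refine ⟨s(a', b'), h1, ?_⟩
      have : s(a', b') ≠ s(r, w) := by
        intro e
        rw [Sym2.eq_iff] at e
        rcases e with ⟨rfl, rfl⟩ | ⟨rfl, rfl⟩
        · rw [psi_of_ne a' b' h.ne, psi_self] at *
          exact hne (h2.symm.trans h3)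
        · rw [psi_of_ne b' a' h.ne, psi_self] at *
          exact hne (h2.symm.trans h3)
      simp only [this, if_false, Sym2.map_pair_eq, h2, h3]
    · refine ⟨s(r, w), h, ?_⟩
      simp only [if_true, h1]

lemma slide_isTree (G : SimpleGraph V) (hG : G.IsTree) (r w : V) (h : G.Adj r w) :
    (slide G r w).IsTree := by
  classical
  rw [SimpleGraph.isTree_iff_connected_and_card]
  have hc := slide_connected G hG.connected r w h.ne
  refine ⟨hc, ?_⟩
  have h1 := hc.card_vert_le_card_edgeSet_add_one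
  have h2 := (SimpleGraph.isTree_iff_connected_and_card.mp hG).2
  have h3 : Nat.card (slide G r w).edgeSet ≤ Nat.card G.edgeSet := by
    rw [Nat.card_coe_set_eq, Nat.card_coe_set_eq]
    exact (Set.ncard_le_ncard (slide_edgeSet_subset G r w h) (Set.toFinite _)).trans
      (Set.ncard_image_le (Set.toFinite _))
  omega


end B


variable {k n : ℕ}

lemma contract_slide_adj_iff (G : SimpleGraph (Fin n)) (r w : Fin n) (hrw : r ≠ w)
    (a b : {v : Fin n // v ≠ w}) :
    (contract (slide G r w) r w).Adj a b ↔ (contract G r w).Adj a b := by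
  unfold contract
  rw [SimpleGraph.fromRel_adj, SimpleGraph.fromRel_adj]
  by_cases hab : a = b
  · simp [hab]
  have hab' : a.1 ≠ b.1 := fun h => hab (Subtype.ext h)
  rw [slide_adj_iff G r w hrw a.2 b.2 hab', slide_adj_iff G r w hrw b.2 a.2 (Ne.symm hab'),
    slide_adj_w_iff G r w hrw a.2, slide_adj_w_iff G r w hrw b.2]
  have hs : G.Adj b.1 a.1 ↔ G.Adj a.1 b.1 := ⟨fun h => h.symm, fun h => h.symm⟩
  constructor
  · rintro ⟨h0, h⟩
    refine ⟨h0, ?_⟩
    rcases h with (h | ⟨h1, h2⟩) | (h | ⟨h1, h2⟩)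
    · rcases h with h | h | h
      · exact Or.inl (Or.inl h)
      · exact Or.inl (Or.inr h)
      · exact Or.inr (Or.inr h)
    · exact absurd (h1.trans h2.symm) hab'
    · rcases h with h | h | h
      · exact Or.inl (Or.inl h.symm)
      · exact Or.inr (Or.inr h)
      · exact Or.inl (Or.inr h)
    · exact absurd (h2.trans h1.symm) hab'
  · rintro ⟨h0, h⟩
    refine ⟨h0, ?_⟩
    rcases h with (h | h) | (h | h)
    · exact Or.inl (Or.inl (Or.inl h))
    · exact Or.inl (Or.inl (Or.inr (Or.inl h)))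
    · exact Or.inl (Or.inl (Or.inl h.symm))
    · exact Or.inl (Or.inl (Or.inr (Or.inr h)))


/-- package data on `Fin n` as a marked tree. -/
abbrev mk (G : SimpleGraph (Fin n)) (hG : G.IsTree) (m : Fin k → Fin n) : MarkedTree k := ⟨n, G, hG, m⟩

lemma slide_adj_r (G : SimpleGraph (Fin n)) (r w : Fin n) (hrw : G.Adj r w) {v : Fin n}
    (hv : G.Adj r v) : (slide G r w).Adj r v := by
  by_cases h : v = w
  · subst h
    exact ⟨hrw.ne, Or.inr rfl⟩
  · exact ⟨hv.ne, Or.inl ⟨r, v, hv, psi_of_ne r w hrw.ne, psi_of_ne r w h⟩⟩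

lemma slide_adj_r_new (G : SimpleGraph (Fin n)) (r w : Fin n) {x : Fin n}
    (hwx : G.Adj w x) (hx : x ≠ r) : (slide G r w).Adj r x :=
  ⟨hx.symm, Or.inl ⟨w, x, hwx, psi_self r w, psi_of_ne r w hwx.ne.symm⟩⟩

lemma conicAdj_slide (G : SimpleGraph (Fin n)) (hG : G.IsTree) (m : Fin k → Fin n) (r w : Fin n)
    (h : G.Adj r w) :
    ConicAdj (mk G hG m) (mk (slide G r w) (slide_isTree G hG r w h) (fun i => psi r w (m i))) := by
  have h' : (slide G r w).Adj r w := ⟨h.ne, Or.inr rfl⟩
  refine ⟨r, w, r, w, h, h', ⟨Equiv.refl _, ?_⟩, rfl, ?_⟩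
  · intro a b
    exact contract_slide_adj_iff G r w h.ne a b
  · intro i
    change contractMark m r w h.ne i = contractMark (fun i => psi r w (m i)) r w h.ne i
    unfold contractMark
    have hne : psi r w (m i) ≠ w := psi_ne r w h.ne _
    by_cases hi : m i = w
    · rw [dif_pos hi, dif_neg hne]
      apply Subtype.ext
      simp only [hi, psi_self]
    · rw [dif_neg hi, dif_neg hne]
      apply Subtype.ext
      simp only [psi_of_ne r w hi]

lemma phase1 : ∀ (N : ℕ) (G : SimpleGraph (Fin n)) (hG : G.IsTree) (m : Fin k → Fin n) (r : Fin n),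
    ({v | v ≠ r ∧ ¬ G.Adj r v} : Set (Fin n)).ncard = N →
    ∃ (G' : SimpleGraph (Fin n)) (hG' : G'.IsTree) (m' : Fin k → Fin n),
      Relation.ReflTransGen ConicAdj (mk G hG m) (mk G' hG' m') ∧ ∀ v, v ≠ r → G'.Adj r v := by
  intro N
  induction N using Nat.strong_induction_on with
  | _ N ih =>
    intro G hG m r hN
    by_cases hstar : ∀ v, v ≠ r → G.Adj r v
    · exact ⟨G, hG, m, Relation.ReflTransGen.refl, hstar⟩
    · push Not at hstar
      obtain ⟨v, hvr, hv⟩ := hstar
      let S : Set (Fin n) := {u | u = r ∨ G.Adj r u}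
      obtain ⟨p⟩ := hG.connected.preconnected r v
      have hvS : v ∉ S := by
        rintro (h | h)
        · exact hvr h
        · exact hv h
      obtain ⟨d, -, hd1, hd2⟩ := p.exists_boundary_dart S (Or.inl rfl) hvS
      have hadj := d.adj
      set w := d.fst with hw
      set x := d.snd with hx
      have hrw : G.Adj r w := by
        rcases hd1 with h | h
        · exfalso
          apply hd2
          right
          rw [← h]
          exact hadj
        · exact h
      have hxr : x ≠ r := fun h => hd2 (Or.inl h)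
      have hrx : ¬ G.Adj r x := fun h => hd2 (Or.inr h)
      have hlt : ({v | v ≠ r ∧ ¬ (slide G r w).Adj r v} : Set (Fin n)).ncard < N := by
        rw [← hN]
        apply Set.ncard_lt_ncard _ (Set.toFinite _)
        refine ⟨?_, ?_⟩
        · rintro u ⟨hu1, hu2⟩
          exact ⟨hu1, fun h => hu2 (slide_adj_r G r w hrw h)⟩
        · intro hsub
          have : x ∈ {v | v ≠ r ∧ ¬ (slide G r w).Adj r v} := hsub ⟨hxr, hrx⟩
          exact this.2 (slide_adj_r_new G r w hadj hxr)
      obtain ⟨G', hG', m', hch, hst⟩ := ih _ hlt (slide G r w) (slide_isTree G hG r w hrw)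
        (fun i => psi r w (m i)) r rfl
      exact ⟨G', hG', m', Relation.ReflTransGen.head (conicAdj_slide G hG m r w hrw) hch, hst⟩

lemma phase2 : ∀ (N : ℕ) (G : SimpleGraph (Fin n)) (hG : G.IsTree) (m : Fin k → Fin n) (r : Fin n),
    (∀ v, v ≠ r → G.Adj r v) → ({i | m i ≠ r} : Set (Fin k)).ncard = N →
    ∃ (G' : SimpleGraph (Fin n)) (hG' : G'.IsTree) (m' : Fin k → Fin n),
      Relation.ReflTransGen ConicAdj (mk G hG m) (mk G' hG' m') ∧ (∀ v, v ≠ r → G'.Adj r v) ∧
        ∀ i, m' i = r := by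
  intro N
  induction N using Nat.strong_induction_on with
  | _ N ih =>
    intro G hG m r hstar hN
    by_cases hm : ∀ i, m i = r
    · exact ⟨G, hG, m, Relation.ReflTransGen.refl, hstar, hm⟩
    · push Not at hm
      obtain ⟨i₀, hi₀⟩ := hm
      set w := m i₀ with hw
      have hrw : G.Adj r w := hstar w hi₀
      have hlt : ({i | psi r w (m i) ≠ r} : Set (Fin k)).ncard < N := by
        rw [← hN]
        apply Set.ncard_lt_ncard _ (Set.toFinite _)
        refine ⟨?_, ?_⟩
        · intro i hi h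
          apply hi
          rw [h]
          exact psi_of_ne r w hrw.ne
        · intro hsub
          have : i₀ ∈ {i | psi r w (m i) ≠ r} := hsub hi₀
          apply this
          rw [← hw]
          exact psi_self r w
      have hstar' : ∀ v, v ≠ r → (slide G r w).Adj r v :=
        fun v hv => slide_adj_r G r w hrw (hstar v hv)
      obtain ⟨G', hG', m', hch, hst, hmk⟩ := ih _ hlt (slide G r w) (slide_isTree G hG r w hrw)
        (fun i => psi r w (m i)) r hstar' rfl
      exact ⟨G', hG', m', Relation.ReflTransGen.head (conicAdj_slide G hG m r w hrw) hch, hst, hmk⟩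

lemma star_no_edge (G : SimpleGraph (Fin n)) (hG : G.IsTree) (r : Fin n)
    (hstar : ∀ v, v ≠ r → G.Adj r v) {a b : Fin n} (ha : a ≠ r) (hb : b ≠ r) : ¬ G.Adj a b := by
  intro hab
  exact hG.IsAcyclic.cliqueFree (le_refl 3) {r, a, b}
    (SimpleGraph.is3Clique_triple_iff.mpr ⟨hstar a ha, hstar b hb, hab⟩)

lemma contract_star_adj_iff (G : SimpleGraph (Fin n)) (hG : G.IsTree) (r w : Fin n)
    (hstar : ∀ v, v ≠ r → G.Adj r v) (a b : {v : Fin n // v ≠ w}) :
    (contract G r w).Adj a b ↔ a ≠ b ∧ (a.1 = r ∨ b.1 = r) := by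
  unfold contract
  rw [SimpleGraph.fromRel_adj]
  constructor
  · rintro ⟨h0, h⟩
    refine ⟨h0, ?_⟩
    by_contra hc
    push Not at hc
    rcases h with (h | ⟨h1, -⟩) | (h | ⟨h1, -⟩)
    · exact star_no_edge G hG r hstar hc.1 hc.2 h
    · exact hc.1 h1
    · exact star_no_edge G hG r hstar hc.2 hc.1 h
    · exact hc.2 h1
  · rintro ⟨h0, h⟩
    refine ⟨h0, ?_⟩
    have hab' : a.1 ≠ b.1 := fun h => h0 (Subtype.ext h)
    rcases h with h | h
    · left; left
      rw [h]
      exact hstar b.1 (fun hb => hab' (h.trans hb.symm))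
    · right; left
      rw [h]
      exact hstar a.1 (fun ha => hab' (ha.trans h.symm))

lemma star_conicAdj (hn : 2 ≤ n) (G₁ : SimpleGraph (Fin n)) (hG₁ : G₁.IsTree) (m₁ : Fin k → Fin n)
    (r₁ : Fin n) (hs₁ : ∀ v, v ≠ r₁ → G₁.Adj r₁ v) (hm₁ : ∀ i, m₁ i = r₁)
    (G₂ : SimpleGraph (Fin n)) (hG₂ : G₂.IsTree) (m₂ : Fin k → Fin n)
    (r₂ : Fin n) (hs₂ : ∀ v, v ≠ r₂ → G₂.Adj r₂ v) (hm₂ : ∀ i, m₂ i = r₂) :
    ConicAdj (mk G₁ hG₁ m₁) (mk G₂ hG₂ m₂) := by
  classical
  have : Nontrivial (Fin n) := Fin.nontrivial_iff_two_le.mpr hn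
  obtain ⟨w₁, hw₁⟩ := exists_ne r₁
  obtain ⟨w₂, hw₂⟩ := exists_ne r₂
  have h₁ : G₁.Adj r₁ w₁ := hs₁ w₁ hw₁
  have h₂ : G₂.Adj r₂ w₂ := hs₂ w₂ hw₂
  have hc : Fintype.card {v : Fin n // v ≠ w₁} = Fintype.card {v : Fin n // v ≠ w₂} := by
    simp
  let e₀ : {v : Fin n // v ≠ w₁} ≃ {v : Fin n // v ≠ w₂} := Fintype.equivOfCardEq hc
  let e : {v : Fin n // v ≠ w₁} ≃ {v : Fin n // v ≠ w₂} :=
    e₀.trans (Equiv.swap (e₀ ⟨r₁, h₁.ne⟩) ⟨r₂, h₂.ne⟩)
  have he : e ⟨r₁, h₁.ne⟩ = ⟨r₂, h₂.ne⟩ := by
    change Equiv.swap (e₀ ⟨r₁, h₁.ne⟩) ⟨r₂, h₂.ne⟩ (e₀ ⟨r₁, h₁.ne⟩) = _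
    exact Equiv.swap_apply_left _ _
  have he' : ∀ a : {v : Fin n // v ≠ w₁}, (e a).1 = r₂ ↔ a.1 = r₁ := by
    intro a
    constructor
    · intro h
      have : e a = e ⟨r₁, h₁.ne⟩ := by rw [he]; exact Subtype.ext h
      exact congrArg Subtype.val (e.injective this)
    · intro h
      have : a = ⟨r₁, h₁.ne⟩ := Subtype.ext h
      rw [this, he]
  refine ⟨r₁, w₁, r₂, w₂, h₁, h₂, ⟨e, ?_⟩, he, ?_⟩
  · intro a b
    change (contract G₂ r₂ w₂).Adj (e a) (e b) ↔ (contract G₁ r₁ w₁).Adj a b
    rw [contract_star_adj_iff G₂ hG₂ r₂ w₂ hs₂, contract_star_adj_iff G₁ hG₁ r₁ w₁ hs₁, he', he']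
    constructor
    · rintro ⟨h0, h⟩
      exact ⟨fun hab => h0 (by rw [hab]), h⟩
    · rintro ⟨h0, h⟩
      exact ⟨fun hab => h0 (e.injective hab), h⟩
  · intro i
    have e1 : contractMark (mk G₁ hG₁ m₁).mark r₁ w₁ h₁.ne i = ⟨r₁, h₁.ne⟩ := by
      unfold contractMark
      have : (mk G₁ hG₁ m₁).mark i ≠ w₁ := by
        change m₁ i ≠ w₁
        rw [hm₁]; exact h₁.ne
      rw [dif_neg this]
      apply Subtype.ext
      exact hm₁ i
    have e2 : contractMark (mk G₂ hG₂ m₂).mark r₂ w₂ h₂.ne i = ⟨r₂, h₂.ne⟩ := by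
      unfold contractMark
      have : (mk G₂ hG₂ m₂).mark i ≠ w₂ := by
        change m₂ i ≠ w₂
        rw [hm₂]; exact h₂.ne
      rw [dif_neg this]
      apply Subtype.ext
      exact hm₂ i
    rw [e1, e2]
    exact he

lemma conicAdj_symm : ∀ T₁ T₂ : MarkedTree k, ConicAdj T₁ T₂ → ConicAdj T₂ T₁ := by
  rintro T₁ T₂ ⟨u₁, w₁, u₂, w₂, h₁, h₂, φ, h3, h4⟩
  refine ⟨u₂, w₂, u₁, w₁, h₂, h₁, φ.symm, ?_, ?_⟩
  · rw [← h3]; exact φ.symm_apply_apply _
  · intro i
    rw [← h4 i]; exact φ.symm_apply_apply _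

/-- Let G₁ and G₂ be dual graphs of linear trees of the same total degree e and with k marked points
each, that is finite trees with e vertices, every vertex of degree one, together with a list of k
marked vertices (repetitions allowed). Then a finite chain of conic deformations leads from G₁ to
G₂. Here a conic deformation of such a graph is the marked graph obtained by contracting one edge
(the contracted vertex being the unique vertex of degree two), two marked trees are one step apart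
when they have isomorphic conic deformations, the isomorphism matching the contracted vertices and
the i-th marked vertices, and the conclusion is that G₁ and G₂ are related by the
reflexive-transitive closure of this one-step relation. -/
theorem result (k : ℕ) (T₁ T₂ : W4c3cyccovratcurv.MarkedTree k)
    (h : T₁.n = T₂.n) :
    Relation.ReflTransGen W4c3cyccovratcurv.ConicAdj T₁ T₂ := by
  obtain ⟨n, G₁, hG₁, m₁⟩ := T₁
  obtain ⟨n₂, G₂, hG₂, m₂⟩ := T₂
  change n = n₂ at h
  subst h
  have : Nonempty (Fin n) := hG₁.connected.nonempty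
  by_cases hn : 2 ≤ n
  · let r : Fin n := Classical.arbitrary _
    obtain ⟨G₁', hG₁', m₁', c1, s1⟩ := phase1 (k := k) _ G₁ hG₁ m₁ r rfl
    obtain ⟨G₁'', hG₁'', m₁'', c1', s1', k1⟩ := phase2 _ G₁' hG₁' m₁' r s1 rfl
    obtain ⟨G₂', hG₂', m₂', c2, s2⟩ := phase1 (k := k) _ G₂ hG₂ m₂ r rfl
    obtain ⟨G₂'', hG₂'', m₂'', c2', s2', k2⟩ := phase2 _ G₂' hG₂' m₂' r s2 rfl
    have hA := star_conicAdj hn G₁'' hG₁'' m₁'' r s1' k1 G₂'' hG₂'' m₂'' r s2' k2
    have hB : Relation.ReflTransGen ConicAdj (mk G₂'' hG₂'' m₂'') (mk G₂ hG₂ m₂) :=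
      haveI : Std.Symm (ConicAdj (k := k)) := ⟨conicAdj_symm⟩
      Std.Symm.symm _ _ (c2.trans c2')
    exact (c1.trans c1').trans (Relation.ReflTransGen.head hA hB)
  · have hsub : Subsingleton (Fin n) := by
      rw [Fin.subsingleton_iff_le_one]
      omega
    have e1 : G₁ = G₂ := by
      ext a b
      have : a = b := Subsingleton.elim a b
      subst this
      simp
    have e2 : m₁ = m₂ := by
      funext i
      exact Subsingleton.elim _ _
    subst e1 e2
    exact Relation.ReflTransGen.refl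

end Groth.Agent.S16206
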