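import Groth.Statements.S16211

set_option autoImplicit false
universe u v
open InvTh

namespace Groth.Agent.S16211

section avg
variable {R : Type*} [CommRing R] {O : Type*} [CommRing O] [Algebra R O]
  {G : Type*} [Group G] [Fintype G] [MulSemiringAction G O] [SMulCommClass G R O]
  {B : Type*} [CommRing B] [Algebra R B] (I : Ideal B) (hI : I ^ 2 = ⊥)
  (ψ : O →ₐ[R] B) (hdiff : ∀ (g : G) (a : O), ψ (g • a) - ψ a ∈ I)
  (u : R) (hu : u * (Fintype.card G : R) = 1)

/-- the averaged linear map -/
noncomputable def avgLin : O →ₗ[R] B :=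
  u • ∑ g : G, (ψ.comp (MulSemiringAction.toAlgHom R O g)).toLinearMap

theorem avgLin_apply (a : O) : avgLin (G := G) ψ u a = u • ∑ g : G, ψ (g • a) := by
  simp [avgLin, LinearMap.sum_apply]

include hu in
theorem avgLin_one : avgLin (G := G) ψ u 1 = 1 := by
  rw [avgLin_apply]
  simp only [smul_one, map_one, Finset.sum_const, Finset.card_univ]
  rw [← Nat.cast_smul_eq_nsmul R, smul_smul, hu, one_smul]

include hI hdiff hu in
theorem avgLin_mul (a b : O) :
    avgLin (G := G) ψ u (a * b) = avgLin (G := G) ψ u a * avgLin (G := G) ψ u b := by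
  simp only [avgLin_apply]
  set sα : B := ∑ g : G, (ψ (g • a) - ψ a) with hsα
  set sβ : B := ∑ g : G, (ψ (g • b) - ψ b) with hsβ
  have hsαI : sα ∈ I := Ideal.sum_mem _ fun g _ => hdiff g a
  have hsβI : sβ ∈ I := Ideal.sum_mem _ fun g _ => hdiff g b
  have hII : ∀ x ∈ I, ∀ y ∈ I, x * y = 0 := by
    intro x hx y hy
    have : x * y ∈ I ^ 2 := by rw [pow_two]; exact Ideal.mul_mem_mul hx hy
    rwa [hI, Ideal.mem_bot] at this
  have hαβ : sα * sβ = 0 := hII _ hsαI _ hsβI
  set N : B := (Fintype.card G : B) with hN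
  have e1 : ∑ g : G, ψ (g • a) = N * ψ a + sα := by
    rw [hsα, Finset.sum_sub_distrib, Finset.sum_const, Finset.card_univ, nsmul_eq_mul]; ring
  have e2 : ∑ g : G, ψ (g • b) = N * ψ b + sβ := by
    rw [hsβ, Finset.sum_sub_distrib, Finset.sum_const, Finset.card_univ, nsmul_eq_mul]; ring
  have e3 : ∑ g : G, ψ (g • (a * b)) = N * (ψ a * ψ b) + ψ a * sβ + sα * ψ b := by
    have : ∀ g : G, ψ (g • (a * b)) =
        ψ a * ψ b + ψ a * (ψ (g • b) - ψ b) + (ψ (g • a) - ψ a) * ψ b := by
      intro g
      have h0 := hII _ (hdiff g a) _ (hdiff g b)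
      rw [smul_mul', map_mul]
      linear_combination h0
    rw [Finset.sum_congr rfl fun g _ => this g]
    rw [Finset.sum_add_distrib, Finset.sum_add_distrib, Finset.sum_const, Finset.card_univ,
      nsmul_eq_mul, ← Finset.mul_sum, ← Finset.sum_mul]
  rw [e1, e2, e3]
  set c : B := algebraMap R B u with hc
  have hcN : c * N = 1 := by
    rw [hc, hN, ← map_natCast (algebraMap R B), ← map_mul, hu, map_one]
  simp only [Algebra.smul_def]
  linear_combination (-(c * N * ψ a * ψ b + c * (ψ a * sβ + sα * ψ b))) * hcN + (-(c ^ 2)) * hαβ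


theorem avgLin_smul (h : G) (a : O) : avgLin (G := G) ψ u (h • a) = avgLin (G := G) ψ u a := by
  simp only [avgLin_apply]
  congr 1
  refine Fintype.sum_equiv (Equiv.mulRight h) _ _ fun g => ?_
  simp [mul_smul]

/-- the averaged algebra hom -/
noncomputable def avgHom : O →ₐ[R] B :=
  AlgHom.ofLinearMap (avgLin (G := G) ψ u) (avgLin_one ψ u hu) (avgLin_mul I hI ψ hdiff u hu)

theorem avgHom_apply (a : O) :
    avgHom (G := G) I hI ψ hdiff u hu a = u • ∑ g : G, ψ (g • a) := avgLin_apply ψ u a

end avg


/-- Let R be a commutative ring, O a formally smooth R-algebra and G a finite group whose order is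
invertible in R, acting on O by R-algebra automorphisms. Then the largest quotient algebra of O on
which G acts trivially, namely the quotient of O by the ideal generated by all g • f - f (the
coordinate ring of the subscheme of G-fixed points of Spec O), is again formally smooth over R:
invariant homomorphisms lift along square-zero extensions. The published statement is about a scheme
X smooth and of finite presentation over the base and concludes that its fixed-point scheme is
smooth; this row, the affine step of its proof, assumes only that O is formally smooth over R and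
concludes only formal smoothness. -/
theorem result (R : Type u) [CommRing R]
    (O : Type u) [CommRing O] [Algebra R O] [Algebra.FormallySmooth R O]
    (G : Type v) [Group G] [Finite G] [MulSemiringAction G O] [SMulCommClass G R O]
    (hG : IsUnit (Nat.card G : R)) :
    Algebra.FormallySmooth R (O ⧸ Ideal.span {x : O | ∃ (g : G) (f : O), x = g • f - f}) := by
  classical
  have : Fintype G := Fintype.ofFinite G
  set J : Ideal O := Ideal.span {x : O | ∃ (g : G) (f : O), x = g • f - f} with hJ
  apply Algebra.FormallySmooth.of_comp_surjective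
  intro B _ _ I hI φ
  obtain ⟨ψ, hψ⟩ := Algebra.FormallySmooth.comp_surjective R O I hI
    (φ.comp (Ideal.Quotient.mkₐ R J))
  have hmk : ∀ (g : G) (a : O), Ideal.Quotient.mk J (g • a) = Ideal.Quotient.mk J a := by
    intro g a
    rw [Ideal.Quotient.eq]
    exact Ideal.subset_span ⟨g, a, rfl⟩
  have hψ' : ∀ a : O, Ideal.Quotient.mk I (ψ a) = φ (Ideal.Quotient.mk J a) := fun a =>
    AlgHom.congr_fun hψ a
  have hdiff : ∀ (g : G) (a : O), ψ (g • a) - ψ a ∈ I := by
    intro g a
    rw [← Ideal.Quotient.eq, hψ', hψ', hmk]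
  obtain ⟨u, hu⟩ := hG.exists_left_inv
  rw [Nat.card_eq_fintype_card] at hu
  let Φ := avgHom (G := G) I hI ψ hdiff u hu
  have hΦJ : ∀ a ∈ J, Φ a = 0 := by
    intro a ha
    have : J ≤ RingHom.ker Φ.toRingHom := by
      rw [hJ, Ideal.span_le]
      rintro _ ⟨g, f, rfl⟩
      change Φ (g • f - f) = 0
      rw [map_sub, sub_eq_zero]
      exact avgLin_smul ψ u g f
    exact this ha
  refine ⟨Ideal.Quotient.liftₐ J Φ hΦJ, ?_⟩
  apply AlgHom.ext
  intro x
  obtain ⟨a, rfl⟩ := Ideal.Quotient.mk_surjective x
  change Ideal.Quotient.mk I (Φ a) = φ (Ideal.Quotient.mk J a)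
  rw [avgHom_apply]
  have : Ideal.Quotient.mk I (u • ∑ g : G, ψ (g • a)) =
      u • ∑ g : G, Ideal.Quotient.mk I (ψ (g • a)) := by
    rw [← Ideal.Quotient.mkₐ_eq_mk R, map_smul, map_sum]
  rw [this]
  simp only [hψ', hmk, Finset.sum_const, Finset.card_univ]
  rw [← Nat.cast_smul_eq_nsmul R, smul_smul, hu, one_smul]

end Groth.Agent.S16211
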