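import Groth.Statements.S1622
import Groth.Agent.Lib.Helper9.BlowReg7

set_option autoImplicit false
universe u
open CategoryTheory CategoryTheory.Limits AlgebraicGeometry
open Resolve

namespace Groth.Agent.S1622

/-- Let A be a regular local ring of dimension two and b : X → Spec A a blowing up of Spec A in the
maximal ideal (characterised by its universal property). Then X is irreducible and all of its local
rings are regular. -/
theorem result (A : Type u) [CommRing A] [IsRegularLocalRing A] (hA : ringKrullDim A = 2)
    (X : Scheme.{u}) (b : X ⟶ Spec (CommRingCat.of A)) (hb : BlowUp.IsBlowUp b (Curv2.idealSheaf A (IsLocalRing.maximalIdeal A))) :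
    IrreducibleSpace X ∧ ∀ x : X, IsRegularLocalRing (X.presheaf.stalk x) := by
  open Groth.Agent.Lib.Helper9.BlowPt in
  obtain ⟨s, hs⟩ := exists_two_gens A hA
  have hb' := isBlowUp_curv2 _ hb
  have hpair : Ideal.span {s 0, s 1} = IsLocalRing.maximalIdeal A := by
    rw [← hs]
    congr 1
    ext a
    constructor
    · rintro (rfl | rfl)
      · exact ⟨0, rfl⟩
      · exact ⟨1, rfl⟩
    · rintro ⟨i, rfl⟩
      fin_cases i
      · exact Or.inl rfl
      · exact Or.inr rfl
  exact Groth.Agent.Lib.Helper9.BlowReg.blowup_point_regular hA hb' (s 0) (s 1) hpair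

end Groth.Agent.S1622
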