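import Groth.Statements.S16539
-- import your own Groth.Agent.* helpers here

set_option autoImplicit false
universe u v
open Disp

namespace Groth.Agent.S16539


open Dieu

noncomputable section Helpers

variable {p : ℕ} [Fact p.Prime] {k : Type u} [CommRing k] [CharP k p] [PerfectRing k p]
variable {M : Type v} [AddCommGroup M] [Module (WittVector p k) M]

local notation "σ" => (WittVector.frobenius : WittVector p k →+* WittVector p k)
local notation "σi" => (RingEquiv.symm (WittVector.frobeniusEquiv p k) : WittVector p k →+* WittVector p k)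

theorem frob_symm (w : WittVector p k) : σ (σi w) = w :=
  (WittVector.frobeniusEquiv p k).apply_symm_apply w

theorem symm_frob (w : WittVector p k) : σi (σ w) = w :=
  (WittVector.frobeniusEquiv p k).symm_apply_apply w

theorem pow_symm_frob (n : ℕ) (w : WittVector p k) : (σi ^ n) ((σ ^ n) w) = w := by
  induction n generalizing w with
  | zero => rfl
  | succ n ih =>
    rw [pow_succ, pow_succ']
    change (σi ^ n) (σi (σ ((σ ^ n) w))) = w
    rw [symm_frob, ih]

/-- The operator `V^#` of a Dieudonné module. -/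
def vs (Dm : DieuMod p k M) : M →ₗ[WittVector p k] BC σ M where
  toFun m := BC.tmul σ 1 (Dm.V m)
  map_add' x y := by rw [map_add, BC.tmul_add]
  map_smul' w x := by
    rw [RingHom.id_apply, Dm.V.map_smulₛₗ, ← BC.tmul_mul_apply, frob_symm, one_mul,
      BC.tmul_eq_smul_tmul_one]

theorem vs_apply (Dm : DieuMod p k M) (m : M) : vs Dm m = BC.tmul σ 1 (Dm.V m) := rfl

theorem isVSharp_vs (Dm : DieuMod p k M) (D : W4c1extbt610.Display3n p k M)
    (hF : D.F = Dm.F) (hQ : ∀ x : M, x ∈ D.Q ↔ x ∈ Set.range Dm.V)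
    (hV : ∀ (m : M) (h : Dm.V m ∈ D.Q), D.Vinv ⟨Dm.V m, h⟩ = m) : IsVSharp D (vs Dm) where
  app_smul_F w x := by
    rw [map_smul, hF, vs_apply, Dm.V_F, ← BC.tmul_mul_apply, map_natCast, BC.smul_tmul,
      BC.smul_tmul, one_mul, mul_comm]
  app_smul_Vinv w y := by
    obtain ⟨y, hy⟩ := y
    obtain ⟨m, rfl⟩ := (hQ y).1 hy
    rw [hV m hy, map_smul, vs_apply, BC.smul_tmul, mul_one]

theorem eq_vs_of_isVSharp (Dm : DieuMod p k M) (D : W4c1extbt610.Display3n p k M)
    (hQ : ∀ x : M, x ∈ D.Q ↔ x ∈ Set.range Dm.V)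
    (hV : ∀ (m : M) (h : Dm.V m ∈ D.Q), D.Vinv ⟨Dm.V m, h⟩ = m)
    (Vs : M →ₗ[WittVector p k] BC σ M) (h : IsVSharp D Vs) : Vs = vs Dm := by
  apply LinearMap.ext
  intro m
  have hm : Dm.V m ∈ D.Q := (hQ _).2 ⟨m, rfl⟩
  have := h.app_smul_Vinv 1 ⟨Dm.V m, hm⟩
  rw [one_smul, hV m hm] at this
  rw [this, vs_apply]

theorem vSharpPow_vs (Dm : DieuMod p k M) (n : ℕ) (x : M) :
    vSharpPow (vs Dm) n x = BC.tmul (σ ^ (n + 1)) 1 ((⇑Dm.V)^[n + 1] x) := by
  induction n generalizing x with
  | zero =>
    rw [vSharpPow_zero_apply, vs_apply, BC.castHom_tmul]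
    rfl
  | succ n ih =>
    rw [vSharpPow_succ_apply, vs_apply, BC.map_tmul, ih, BC.lift_tmul, one_smul, BC.push_tmul,
      BC.castHom_tmul, map_one, Function.iterate_succ_apply (n := n + 1)]

theorem IV_sup_eq : W4c1extbt610.IV p k ⊔ Ideal.span {(p : WittVector p k)} =
    Ideal.span {(p : WittVector p k)} := by
  rw [sup_eq_right, W4c1extbt610.IV, Ideal.span_le]
  rintro _ ⟨w, rfl⟩
  rw [SetLike.mem_coe, Ideal.mem_span_singleton']
  refine ⟨σi w, ?_⟩
  rw [← WittVector.verschiebung_frobenius]
  exact congrArg _ (frob_symm w)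

omit [CharP k p] [PerfectRing k p] in
theorem mem_span_p_smul_top {N : Type*} [AddCommGroup N] [Module (WittVector p k) N] (z : N) :
    z ∈ Ideal.span {(p : WittVector p k)} • (⊤ : Submodule (WittVector p k) N) ↔
      ∃ y : N, (p : WittVector p k) • y = z := by
  rw [Submodule.ideal_span_singleton_smul, Submodule.mem_smul_pointwise_iff_exists]
  simp

/-- The inverse twist `w ⊗ x ↦ σ⁻ᴺ(w) x` as an additive map. -/
def unBil (N : ℕ) : Res (σ ^ N) →ₗ[WittVector p k] M →ₗ[WittVector p k] M where
  toFun t := ((σi ^ N) t.val) • LinearMap.id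
  map_add' s t := by rw [Res.val_add, map_add, add_smul]
  map_smul' a t := by rw [Res.val_smul, map_mul, pow_symm_frob, mul_smul]; rfl

def un (N : ℕ) : BC (σ ^ N) M →+ M :=
  (TensorProduct.lift (unBil (M := M) N)).toAddMonoidHom

theorem un_tmul (N : ℕ) (b : WittVector p k) (x : M) :
    un N (BC.tmul (σ ^ N) b x) = (σi ^ N) b • x := by
  change TensorProduct.lift (unBil (M := M) N) ((Res.mk (σ ^ N) b) ⊗ₜ[WittVector p k] x) = _
  rw [TensorProduct.lift.tmul]
  rfl

theorem un_p_smul (N : ℕ) (z : BC (σ ^ N) M) :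
    un N ((p : WittVector p k) • z) = (p : WittVector p k) • un N z := by
  induction z using BC.induction_on with
  | zero => rw [smul_zero, map_zero, smul_zero]
  | tmul b x => rw [BC.smul_tmul, un_tmul, un_tmul, map_mul, map_natCast, mul_smul]
  | add z₁ z₂ h₁ h₂ => rw [smul_add, map_add, map_add, h₁, h₂, smul_add]

theorem V_natCast_smul (Dm : DieuMod p k M) (c : ℕ) (m : M) :
    Dm.V ((c : WittVector p k) • m) = (c : WittVector p k) • Dm.V m := by
  rw [Dm.V.map_smulₛₗ, map_natCast]

theorem V_iterate_natCast_smul (Dm : DieuMod p k M) (n c : ℕ) (m : M) :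
    (⇑Dm.V)^[n] ((c : WittVector p k) • m) = (c : WittVector p k) • (⇑Dm.V)^[n] m := by
  induction n generalizing m with
  | zero => rfl
  | succ n ih => rw [Function.iterate_succ_apply, Function.iterate_succ_apply, V_natCast_smul, ih]

/-- The nilpotence condition for `vs` unwound. -/
theorem isVNilpotent_vs_iff (Dm : DieuMod p k M) :
    IsVNilpotent (vs Dm) ↔ ∃ n : ℕ, ∀ x : M, ∃ y : M, (p : WittVector p k) • y = (⇑Dm.V)^[n + 1] x := by
  unfold IsVNilpotent
  refine exists_congr fun n => forall_congr' fun x => ?_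
  rw [IV_sup_eq, mem_span_p_smul_top, vSharpPow_vs]
  constructor
  · rintro ⟨z, hz⟩
    refine ⟨un (n + 1) z, ?_⟩
    rw [← un_p_smul, hz, un_tmul, map_one, one_smul]
  · rintro ⟨y, hy⟩
    refine ⟨BC.tmul (σ ^ (n + 1)) 1 y, ?_⟩
    rw [← hy, ← BC.tmul_mul_apply, map_natCast, BC.smul_tmul, mul_comm]

end Helpers

/-- Let p be a prime, k a perfect commutative ring of characteristic p, W = W(k) with Frobenius
automorphism σ, and M a finitely generated projective W-module carrying a Dieudonné module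
structure, a σ-semilinear F and a σ⁻¹-semilinear V with FV = VF = p. Let D be the associated
3n-display (M, VM, F, V⁻¹): the 3n-display structure on M whose submodule is the image of V, whose
Frobenius operator is F and whose inverse operator sends V m to m. Then D is a display, i.e. its
operator V# satisfies the nilpotence condition, if and only if V is topologically nilpotent for the
p-adic topology on M: for every e some power of V maps M into p^e M. -/
theorem result (p : ℕ) [Fact p.Prime] (k : Type u) [CommRing k]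
    [CharP k p] [PerfectRing k p]
    (M : Type v) [AddCommGroup M] [Module (WittVector p k) M] [Module.Finite (WittVector p k) M]
    [Module.Projective (WittVector p k) M] (Dm : Dieu.DieuMod p k M) (D : W4c1extbt610.Display3n p k M)
    (hF : D.F = Dm.F) (hQ : ∀ x : M, x ∈ D.Q ↔ x ∈ Set.range Dm.V)
    (hV : ∀ (m : M) (h : Dm.V m ∈ D.Q), D.Vinv ⟨Dm.V m, h⟩ = m) :
    Dieu.IsDisplay D ↔ Dm.VTopNilp := by
  constructor
  · rintro ⟨Vs, hVs, hnil⟩
    rw [eq_vs_of_isVSharp Dm D hQ hV Vs hVs, isVNilpotent_vs_iff] at hnil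
    obtain ⟨n, hn⟩ := hnil
    have key : ∀ e : ℕ, ∀ m : M, ∃ y : M,
        ((p ^ e : ℕ) : WittVector p k) • y = (⇑Dm.V)^[(n + 1) * e] m := by
      intro e
      induction e with
      | zero => intro m; exact ⟨m, by simp⟩
      | succ e ih =>
        intro m
        obtain ⟨y, hy⟩ := hn m
        obtain ⟨y', hy'⟩ := ih y
        refine ⟨y', ?_⟩
        rw [mul_add, mul_one, Function.iterate_add_apply, ← hy, V_iterate_natCast_smul, ← hy',
          smul_smul, pow_succ, Nat.cast_mul, mul_comm]
    intro e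
    refine ⟨(n + 1) * e, fun m => ?_⟩
    obtain ⟨y, hy⟩ := key e m
    rw [← hy, Ideal.span_singleton_pow, Submodule.ideal_span_singleton_smul]
    refine Submodule.smul_mem_pointwise_smul _ _ _ ?_ |> fun h => by simpa using h
    exact Submodule.mem_top
  · intro h
    refine ⟨vs Dm, isVSharp_vs Dm D hF hQ hV, ?_⟩
    rw [isVNilpotent_vs_iff]
    obtain ⟨n, hn⟩ := h 1
    refine ⟨n, fun x => ?_⟩
    have := hn (Dm.V x)
    rw [pow_one, mem_span_p_smul_top] at this
    obtain ⟨y, hy⟩ := this
    exact ⟨y, by rw [hy, Function.iterate_succ_apply]⟩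

end Groth.Agent.S16539
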