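import Groth.Statements.S16220
-- import your own Groth.Agent.* helpers here
import Groth.Agent.S16539
import Mathlib.RingTheory.Finiteness.Projective
import Mathlib.FieldTheory.Perfect
import Mathlib.RingTheory.WittVector.Identities

set_option autoImplicit false
universe u v
open Disp

namespace Groth.Agent.S16220


section Helpers

variable {p : ℕ} [Fact p.Prime] {k : Type u} [CommRing k] [CharP k p] [PerfectRing k p]

theorem p_mul_cancel (x : WittVector p k) (h : x * p = 0) : x = 0 := by
  ext i
  have h1 := congrArg (fun w => w.coeff (i + 1)) h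
  simp only [WittVector.mul_charP_coeff_succ, WittVector.zero_coeff] at h1
  rw [WittVector.zero_coeff]
  exact (injective_frobenius k p) (by rw [frobenius_def, h1, map_zero])

theorem quot_torsion (n : ℕ) (hn : 2 ≤ n)
    (c : WittVector p k ⧸ Ideal.span {(p : WittVector p k) ^ n})
    (hc : (Ideal.Quotient.mk _ (p : WittVector p k)) * c = 0) :
    ∃ c', c = (Ideal.Quotient.mk _ (p : WittVector p k)) * c' := by
  obtain ⟨c, rfl⟩ := Ideal.Quotient.mk_surjective c
  rw [← map_mul, Ideal.Quotient.eq_zero_iff_mem, Ideal.mem_span_singleton'] at hc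
  obtain ⟨d, hd⟩ := hc
  obtain ⟨n, rfl⟩ : ∃ n', n = n' + 2 := ⟨n - 2, by omega⟩
  have h1 : (c - d * (p : WittVector p k) ^ (n + 1)) * p = 0 := by
    rw [sub_mul, mul_comm c, ← hd]
    ring
  have h2 := p_mul_cancel _ h1
  rw [sub_eq_zero] at h2
  refine ⟨Ideal.Quotient.mk _ (d * (p : WittVector p k) ^ n), ?_⟩
  rw [← map_mul, h2]
  congr 1
  ring

variable {M : Type v} [AddCommGroup M] [Module (WittVector p k) M]

theorem torsion_le (n : ℕ) (hn : 2 ≤ n)
    [Module (WittVector p k ⧸ Ideal.span {(p : WittVector p k) ^ n}) M]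
    [IsScalarTower (WittVector p k) (WittVector p k ⧸ Ideal.span {(p : WittVector p k) ^ n}) M]
    [Module.Finite (WittVector p k ⧸ Ideal.span {(p : WittVector p k) ^ n}) M]
    [Module.Projective (WittVector p k ⧸ Ideal.span {(p : WittVector p k) ^ n}) M]
    (x : M) (hx : (p : WittVector p k) • x = 0) : ∃ y : M, x = (p : WittVector p k) • y := by
  obtain ⟨r, f, g, _, _, hfg⟩ := Module.Finite.exists_comp_eq_id_of_projective
    (WittVector p k ⧸ Ideal.span {(p : WittVector p k) ^ n}) M
  have hsm : ∀ z : M, (p : WittVector p k) • z =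
      (Ideal.Quotient.mk (Ideal.span {(p : WittVector p k) ^ n}) (p : WittVector p k)) • z := by
    intro z
    rw [← Ideal.Quotient.algebraMap_eq, algebraMap_smul]
  have h1 : ∀ i, (Ideal.Quotient.mk (Ideal.span {(p : WittVector p k) ^ n}) (p : WittVector p k)) * g x i = 0 := by
    intro i
    have : (Ideal.Quotient.mk (Ideal.span {(p : WittVector p k) ^ n}) (p : WittVector p k)) • g x = 0 := by
      rw [← map_smul, ← hsm, hx, map_zero]
    have := congrFun this i
    simpa using this
  choose c' hc' using fun i => quot_torsion n hn (g x i) (h1 i)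
  refine ⟨f c', ?_⟩
  have h2 : g x = (Ideal.Quotient.mk (Ideal.span {(p : WittVector p k) ^ n}) (p : WittVector p k)) • c' := by
    funext i
    rw [hc' i]
    rfl
  have h3 : f (g x) = x := LinearMap.congr_fun hfg x
  rw [hsm, ← map_smul, ← h2, h3]

end Helpers

/-- Let p be a prime and k a perfect ring of characteristic p, so that the Frobenius σ of W = W(k) is
bijective, W has no p-torsion and W/p^n W = W_n(k) (the ideal p^n W is the kernel of the truncation
to length n). Let n ≥ 2 and let M be a truncated Dieudonné module of level n over k: a W-module on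
which W acts through W/p^n W, finitely generated and projective over W/p^n W, with a σ-semilinear F
: M → M and a σ⁻¹-semilinear V : M → M such that FV = VF = p. Then on M/pM the kernel of F is the
image of V and the kernel of V is the image of F; stated inside M: the preimage of pM under F is VM
+ pM, and the preimage of pM under V is FM + pM. -/
theorem result (p : ℕ) [Fact p.Prime] (k : Type u) [CommRing k]
    [CharP k p] [PerfectRing k p] (n : ℕ) (hn : 2 ≤ n)
    (M : Type v) [AddCommGroup M] [Module (WittVector p k) M]
    [Module (WittVector p k ⧸ Ideal.span {(p : WittVector p k) ^ n}) M] [IsScalarTower (WittVector p k) (WittVector p k ⧸ Ideal.span {(p : WittVector p k) ^ n}) M]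
    [Module.Finite (WittVector p k ⧸ Ideal.span {(p : WittVector p k) ^ n}) M] [Module.Projective (WittVector p k ⧸ Ideal.span {(p : WittVector p k) ^ n}) M]
    (F : M →ₛₗ[(WittVector.frobenius : WittVector p k →+* WittVector p k)] M)
    (V : M →ₛₗ[((WittVector.frobeniusEquiv p k).symm : WittVector p k →+* WittVector p k)] M)
    (hFV : ∀ m : M, F (V m) = (p : WittVector p k) • m) (hVF : ∀ m : M, V (F m) = (p : WittVector p k) • m) :
    (Ideal.span {(p : WittVector p k)} • (⊤ : Submodule (WittVector p k) M)).comap F =
        Submodule.span (WittVector p k) (Set.range V) ⊔ Ideal.span {(p : WittVector p k)} • (⊤ : Submodule (WittVector p k) M) ∧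
      (Ideal.span {(p : WittVector p k)} • (⊤ : Submodule (WittVector p k) M)).comap V =
        Submodule.span (WittVector p k) (Set.range F) ⊔ Ideal.span {(p : WittVector p k)} • (⊤ : Submodule (WittVector p k) M) := by
  have hF0 : ∀ y : M, F ((p : WittVector p k) • y) = (p : WittVector p k) • F y := fun y => by
    rw [F.map_smulₛₗ, map_natCast]
  have hV0 : ∀ y : M, V ((p : WittVector p k) • y) = (p : WittVector p k) • V y := fun y => by
    rw [V.map_smulₛₗ, map_natCast]
  constructor
  · apply le_antisymm
    · intro m hm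
      rw [Submodule.mem_comap, Groth.Agent.S16539.mem_span_p_smul_top] at hm
      obtain ⟨m', hm'⟩ := hm
      have h1 : F (m - V m') = 0 := by rw [map_sub, hFV, hm', sub_self]
      have h2 : (p : WittVector p k) • (m - V m') = 0 := by rw [← hVF, h1, map_zero]
      obtain ⟨y, hy⟩ := torsion_le n hn _ h2
      have : m = V m' + (p : WittVector p k) • y := by rw [← hy]; abel
      rw [this]
      exact Submodule.add_mem_sup (Submodule.subset_span ⟨m', rfl⟩)
        ((Groth.Agent.S16539.mem_span_p_smul_top _).2 ⟨y, rfl⟩)
    · refine sup_le (Submodule.span_le.2 ?_) ?_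
      · rintro _ ⟨m', rfl⟩
        rw [SetLike.mem_coe, Submodule.mem_comap, hFV]
        exact (Groth.Agent.S16539.mem_span_p_smul_top _).2 ⟨m', rfl⟩
      · intro z hz
        obtain ⟨y, rfl⟩ := (Groth.Agent.S16539.mem_span_p_smul_top z).1 hz
        rw [Submodule.mem_comap, hF0]
        exact (Groth.Agent.S16539.mem_span_p_smul_top _).2 ⟨F y, rfl⟩
  · apply le_antisymm
    · intro m hm
      rw [Submodule.mem_comap, Groth.Agent.S16539.mem_span_p_smul_top] at hm
      obtain ⟨m', hm'⟩ := hm
      have h1 : V (m - F m') = 0 := by rw [map_sub, hVF, hm', sub_self]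
      have h2 : (p : WittVector p k) • (m - F m') = 0 := by rw [← hFV, h1, map_zero]
      obtain ⟨y, hy⟩ := torsion_le n hn _ h2
      have : m = F m' + (p : WittVector p k) • y := by rw [← hy]; abel
      rw [this]
      exact Submodule.add_mem_sup (Submodule.subset_span ⟨m', rfl⟩)
        ((Groth.Agent.S16539.mem_span_p_smul_top _).2 ⟨y, rfl⟩)
    · refine sup_le (Submodule.span_le.2 ?_) ?_
      · rintro _ ⟨m', rfl⟩
        rw [SetLike.mem_coe, Submodule.mem_comap, hVF]
        exact (Groth.Agent.S16539.mem_span_p_smul_top _).2 ⟨m', rfl⟩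
      · intro z hz
        obtain ⟨y, rfl⟩ := (Groth.Agent.S16539.mem_span_p_smul_top z).1 hz
        rw [Submodule.mem_comap, hV0]
        exact (Groth.Agent.S16539.mem_span_p_smul_top _).2 ⟨V y, rfl⟩

end Groth.Agent.S16220
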