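import Groth.Statements.S16225
import Mathlib
-- import your own Groth.Agent.* helpers here

set_option autoImplicit false
open scoped TensorProduct
universe u v
open CAlg

namespace Groth.Agent.S16225

/-- Let p be a prime, n a natural number and R → R' a faithfully flat homomorphism of commutative rings
in which p is nilpotent. Regard W_n(R') and W_n(R' ⊗_R R') as W_n(R)-algebras through the
componentwise maps induced by R → R' and R → R' ⊗_R R', and let ψ₁, ψ₂ : W_n(R') → W_n(R' ⊗_R R') be
the componentwise maps induced by the two inclusions of R' (these are W_n(R)-algebra maps). Then for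
every flat W_n(R)-module M the sequence 0 → M → M ⊗_{W_n(R)} W_n(R') ⇉ M ⊗_{W_n(R)} W_n(R' ⊗_R R')
is exact: m ↦ m ⊗ 1 is injective and its image is the equalizer of id ⊗ ψ₁ and id ⊗ ψ₂. (This is the
beginning, in degrees 0 and 1, of a complex continued by the higher tensor powers of R', which the
published proof asserts to be exact throughout; W_n(R) → W_n(R') is not flat in general, so this is
not faithfully flat descent.) -/
theorem result (p : ℕ) [Fact p.Prime] (n : ℕ)
    (R R' : Type u) [CommRing R] [CommRing R'] [Algebra R R'] [Module.FaithfullyFlat R R']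
    (hp : IsNilpotent (p : R))
    [Algebra (TruncatedWittVector p n R) (TruncatedWittVector p n R')]
    (h₁ : algebraMap (TruncatedWittVector p n R) (TruncatedWittVector p n R') = WittGrp.truncMap p n (algebraMap R R'))
    [Algebra (TruncatedWittVector p n R) (TruncatedWittVector p n (TensorProduct R R' R'))]
    (h₂ : algebraMap (TruncatedWittVector p n R) (TruncatedWittVector p n (TensorProduct R R' R')) =
      WittGrp.truncMap p n (algebraMap R (TensorProduct R R' R')))
    (ψ₁ ψ₂ : TruncatedWittVector p n R' →ₐ[TruncatedWittVector p n R] TruncatedWittVector p n (TensorProduct R R' R'))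
    (hψ₁ : (ψ₁ : TruncatedWittVector p n R' →+* TruncatedWittVector p n (TensorProduct R R' R')) =
      WittGrp.truncMap p n (Algebra.TensorProduct.includeLeftRingHom : R' →+* TensorProduct R R' R'))
    (hψ₂ : (ψ₂ : TruncatedWittVector p n R' →+* TruncatedWittVector p n (TensorProduct R R' R')) =
      WittGrp.truncMap p n ((Algebra.TensorProduct.includeRight : R' →ₐ[R] TensorProduct R R' R') : R' →+* TensorProduct R R' R'))
    (M : Type v) [AddCommGroup M] [Module (TruncatedWittVector p n R) M] [Module.Flat (TruncatedWittVector p n R) M] :
    Function.Injective (fun m : M => m ⊗ₜ[TruncatedWittVector p n R] (1 : TruncatedWittVector p n R')) ∧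
      ∀ x : M ⊗[TruncatedWittVector p n R] TruncatedWittVector p n R',
        LinearMap.lTensor M ψ₁.toLinearMap x = LinearMap.lTensor M ψ₂.toLinearMap x →
          x ∈ Set.range (fun m : M => m ⊗ₜ[TruncatedWittVector p n R] (1 : TruncatedWittVector p n R')) := by
  have hinjR : Function.Injective (algebraMap R R') := FaithfulSMul.algebraMap_injective R R'
  have hinjAB : Function.Injective (algebraMap (TruncatedWittVector p n R)
      (TruncatedWittVector p n R')) := by
    rw [h₁]
    intro x y hxy
    ext i
    apply hinjR
    have := congrArg (fun z => z.coeff i) hxy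
    simpa only [WittGrp.coeff_truncMap] using this
  let d : TruncatedWittVector p n R' →ₗ[TruncatedWittVector p n R]
      TruncatedWittVector p n (TensorProduct R R' R') := ψ₁.toLinearMap - ψ₂.toLinearMap
  have hex : Function.Exact (Algebra.linearMap (TruncatedWittVector p n R)
      (TruncatedWittVector p n R')) d := by
    intro b
    constructor
    · intro hb
      have hb' : ψ₁ b = ψ₂ b := sub_eq_zero.mp hb
      have hcoeff : ∀ i, b.coeff i ∈ Set.range (algebraMap R R') := by
        intro i
        have h1 : (ψ₁ b).coeff i = (ψ₂ b).coeff i := by rw [hb']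
        have e1 : ψ₁ b = WittGrp.truncMap p n
            (Algebra.TensorProduct.includeLeftRingHom : R' →+* TensorProduct R R' R') b := by
          rw [← hψ₁]; rfl
        have e2 : ψ₂ b = WittGrp.truncMap p n
            ((Algebra.TensorProduct.includeRight : R' →ₐ[R] TensorProduct R R' R') :
              R' →+* TensorProduct R R' R') b := by
          rw [← hψ₂]; rfl
        rw [e1, e2, WittGrp.coeff_truncMap, WittGrp.coeff_truncMap] at h1
        have := (Algebra.IsEffective.of_faithfullyFlat R R') (b.coeff i)
        exact this.mp (by
          rw [Algebra.TensorProduct.includeLeftSubRight_apply, sub_eq_zero]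
          exact h1)
      choose a ha using hcoeff
      refine ⟨TruncatedWittVector.mk p a, ?_⟩
      show algebraMap (TruncatedWittVector p n R) (TruncatedWittVector p n R') _ = b
      rw [h₁]
      ext i
      rw [WittGrp.coeff_truncMap, TruncatedWittVector.coeff_mk, ha]
    · rintro ⟨a, rfl⟩
      show ψ₁ (algebraMap _ _ a) - ψ₂ (algebraMap _ _ a) = 0
      rw [AlgHom.commutes, AlgHom.commutes, sub_self]
  have hexM := Module.Flat.lTensor_exact M hex
  have key : ∀ y : M ⊗[TruncatedWittVector p n R] TruncatedWittVector p n R,
      (TensorProduct.rid (TruncatedWittVector p n R) M y) ⊗ₜ[TruncatedWittVector p n R]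
        (1 : TruncatedWittVector p n R') =
      LinearMap.lTensor M (Algebra.linearMap (TruncatedWittVector p n R)
        (TruncatedWittVector p n R')) y := by
    intro y
    induction y using TensorProduct.induction_on with
    | zero => rw [map_zero, map_zero, TensorProduct.zero_tmul]
    | tmul m a =>
      rw [TensorProduct.rid_tmul, LinearMap.lTensor_tmul, TensorProduct.smul_tmul,
        Algebra.linearMap_apply, Algebra.smul_def, mul_one]
    | add x y hx hy => rw [map_add, map_add, TensorProduct.add_tmul, hx, hy]
  constructor
  · have h3 : Function.Injective (LinearMap.lTensor M (Algebra.linearMap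
        (TruncatedWittVector p n R) (TruncatedWittVector p n R'))) :=
      Module.Flat.lTensor_preserves_injective_linearMap _ hinjAB
    intro m m' hmm'
    have e : ∀ m : M, m ⊗ₜ[TruncatedWittVector p n R] (1 : TruncatedWittVector p n R') =
        LinearMap.lTensor M (Algebra.linearMap (TruncatedWittVector p n R)
          (TruncatedWittVector p n R')) (m ⊗ₜ 1) := by
      intro m
      rw [LinearMap.lTensor_tmul, Algebra.linearMap_apply, map_one]
    have h4 : m ⊗ₜ[TruncatedWittVector p n R] (1 : TruncatedWittVector p n R) =
        m' ⊗ₜ[TruncatedWittVector p n R] (1 : TruncatedWittVector p n R) :=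
      h3 (by rw [← e, ← e]; exact hmm')
    have h5 := congrArg (TensorProduct.rid (TruncatedWittVector p n R) M) h4
    rwa [TensorProduct.rid_tmul, TensorProduct.rid_tmul, one_smul, one_smul] at h5
  · intro x hx
    have h4 : LinearMap.lTensor M d x = 0 := by
      show LinearMap.lTensor M (ψ₁.toLinearMap - ψ₂.toLinearMap) x = 0
      rw [LinearMap.lTensor_sub, LinearMap.sub_apply, hx, sub_self]
    obtain ⟨y, rfl⟩ := (hexM x).mp h4
    exact ⟨TensorProduct.rid (TruncatedWittVector p n R) M y, key y⟩

end Groth.Agent.S16225
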