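import Groth.Statements.S1623
import Groth.Agent.Lib.Helper9.BlowPt2

set_option autoImplicit false
universe u
open CategoryTheory CategoryTheory.Limits AlgebraicGeometry
open Resolve

namespace Groth.Agent.S1623

/-- Let A be a regular local ring of dimension two and b : X → Spec A a blowing up in the maximal ideal.
For every quasi-coherent O_X-module F and every p ≥ 2, H^p(X, F) = 0. -/
theorem result (A : Type u) [CommRing A] [IsRegularLocalRing A] (hA : ringKrullDim A = 2)
    (X : Scheme.{u}) (b : X ⟶ Spec (CommRingCat.of A)) (hb : BlowUp.IsBlowUp b (Curv2.idealSheaf A (IsLocalRing.maximalIdeal A)))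
    (F : X.Modules) (hF : Coh.IsQCoh F) (p : ℕ) (hp : 2 ≤ p) : Subsingleton (Coh.HH X F p) := by
  open Groth.Agent.Lib.Helper9.BlowPt in
  obtain ⟨s, hs⟩ := exists_two_gens A hA
  haveI : F.IsQuasicoherent := hF
  exact subsingleton_HH_of_span (isBlowUp_curv2 _ hb) s hs F p hp

end Groth.Agent.S1623
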