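import Groth.Statements.S16231
import Mathlib
import Groth.Agent.S16230
-- import your own Groth.Agent.* helpers here

set_option autoImplicit false
set_option linter.unusedSectionVars false
set_option linter.style.haveILetI false
set_option linter.unusedVariables false
universe u
open VanCyc

namespace Groth.Agent.S16231

noncomputable section

open scoped MvPowerSeries.WithPiTopology

section Comb

variable {n : ℕ}

/-- the exponent of `x_i x_j` -/
def sx (i j : Fin n) : Fin n →₀ ℕ := Finsupp.single i 1 + Finsupp.single j 1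

lemma degree_sx (i j : Fin n) : (sx i j).degree = 2 := by
  simp [sx, Finsupp.degree_single]

lemma deg_one_eq {e : Fin n →₀ ℕ} (h : e.degree = 1) : ∃ a, e = Finsupp.single a 1 := by
  have hne : e ≠ 0 := by rintro rfl; simp at h
  obtain ⟨a, ha⟩ : ∃ a, e a ≠ 0 := by
    by_contra hcon; push Not at hcon; exact hne (Finsupp.ext hcon)
  refine ⟨a, ?_⟩
  have h1 : Finsupp.single a 1 ≤ e := by
    rw [Finsupp.single_le_iff]; omega
  have h2 : e = Finsupp.single a 1 + (e - Finsupp.single a 1) := (add_tsub_cancel_of_le h1).symm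
  have h3 : (e - Finsupp.single a 1).degree = 0 := by
    have := congrArg Finsupp.degree h2
    rw [map_add, Finsupp.degree_single, h] at this
    omega
  rw [Finsupp.degree_eq_zero_iff] at h3
  rw [h2, h3, add_zero]

lemma deg_two_eq {e : Fin n →₀ ℕ} (h : e.degree = 2) : ∃ a b, a ≤ b ∧ e = sx a b := by
  have hne : e ≠ 0 := by rintro rfl; simp at h
  obtain ⟨a, ha⟩ : ∃ a, e a ≠ 0 := by
    by_contra hcon; push Not at hcon; exact hne (Finsupp.ext hcon)
  have h1 : Finsupp.single a 1 ≤ e := by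
    rw [Finsupp.single_le_iff]; omega
  have h2 : e = Finsupp.single a 1 + (e - Finsupp.single a 1) := (add_tsub_cancel_of_le h1).symm
  have h3 : (e - Finsupp.single a 1).degree = 1 := by
    have := congrArg Finsupp.degree h2
    rw [map_add, Finsupp.degree_single, h] at this
    omega
  obtain ⟨b, hb⟩ := deg_one_eq h3
  rcases le_total a b with hab | hab
  · exact ⟨a, b, hab, by rw [h2, hb, sx]⟩
  · exact ⟨b, a, hab, by rw [h2, hb, sx, add_comm]⟩

lemma sx_inj {i j a b : Fin n} (hij : i ≤ j) (hab : a ≤ b) (h : sx i j = sx a b) :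
    i = a ∧ j = b := by
  have hia : i = a := by
    by_contra hia
    have hi := DFunLike.congr_fun h i
    have ha := DFunLike.congr_fun h a
    simp only [sx, Finsupp.add_apply, Finsupp.single_apply, if_true, if_neg hia,
      if_neg (Ne.symm hia)] at hi ha
    have hbi : b = i := by
      by_contra hbi
      rw [if_neg hbi] at hi
      split_ifs at hi
    have hja : j = a := by
      by_contra hja
      rw [if_neg hja] at ha
      split_ifs at ha
    subst hbi hja
    exact hia (le_antisymm hij hab)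
  subst hia
  refine ⟨rfl, ?_⟩
  have h' : Finsupp.single j 1 = Finsupp.single b (1 : ℕ) := add_left_cancel (a := Finsupp.single i 1) h
  exact Finsupp.single_left_injective one_ne_zero h'

variable {A : Type u} [CommRing A]

lemma coeff_quadPoly (q : Fin n → Fin n → A) (e : Fin n →₀ ℕ) :
    MvPolynomial.coeff e (VanCyc.quadPoly q) =
      ∑ i, ∑ j, if i ≤ j ∧ sx i j = e then q i j else 0 := by
  classical
  unfold VanCyc.quadPoly
  rw [MvPolynomial.coeff_sum]
  refine Finset.sum_congr rfl fun i _ => ?_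
  rw [MvPolynomial.coeff_sum]
  refine Finset.sum_congr rfl fun j _ => ?_
  by_cases hij : i ≤ j
  · rw [if_pos hij]
    have : (MvPolynomial.C (q i j) * MvPolynomial.X i * MvPolynomial.X j : MvPolynomial (Fin n) A) =
        MvPolynomial.monomial (sx i j) (q i j) := by
      rw [mul_assoc, MvPolynomial.X, MvPolynomial.X, MvPolynomial.monomial_mul, MvPolynomial.C_mul_monomial,
        mul_one, mul_one, sx]
    rw [this, MvPolynomial.coeff_monomial]
    simp only [hij, true_and]
  · rw [if_neg hij, MvPolynomial.coeff_zero, if_neg (fun h => hij h.1)]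

lemma coeff_quadPoly_sx (q : Fin n → Fin n → A) {a b : Fin n} (hab : a ≤ b) :
    MvPolynomial.coeff (sx a b) (VanCyc.quadPoly q) = q a b := by
  classical
  rw [coeff_quadPoly]
  have : ∀ i j, (if i ≤ j ∧ sx i j = sx a b then q i j else 0) =
      if i = a then (if j = b then q i j else 0) else 0 := by
    intro i j
    by_cases h : i ≤ j ∧ sx i j = sx a b
    · obtain ⟨h1, h2⟩ := sx_inj h.1 hab h.2
      rw [if_pos h, if_pos h1, if_pos h2]
    · rw [if_neg h]
      split_ifs with h1 h2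
      · subst h1 h2; exact absurd ⟨hab, rfl⟩ h
      · rfl
      · rfl
  simp_rw [this]
  simp

lemma coeff_quadPoly_of_degree_ne (q : Fin n → Fin n → A) {e : Fin n →₀ ℕ} (he : e.degree ≠ 2) :
    MvPolynomial.coeff e (VanCyc.quadPoly q) = 0 := by
  rw [coeff_quadPoly]
  refine Finset.sum_eq_zero fun i _ => Finset.sum_eq_zero fun j _ => ?_
  rw [if_neg]
  rintro ⟨_, rfl⟩
  exact he (degree_sx i j)

end Comb

section Top

variable {A : Type u} [CommRing A] [IsLocalRing A] [UniformSpace A] [IsUniformAddGroup A]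
  [IsTopologicalRing A] [CompleteSpace A] [T2Space A] [IsLinearTopology A A] {n : ℕ}
  (hA : IsAdic (IsLocalRing.maximalIdeal A))

local notation "𝔪" => IsLocalRing.maximalIdeal A
local notation "S" => MvPowerSeries (Fin n) A

include hA in
lemma isOpen_pow (k : ℕ) : IsOpen ((𝔪 ^ k : Ideal A) : Set A) := (isAdic_iff.mp hA).1 k

include hA in
lemma isClosed_pow (k : ℕ) : IsClosed ((𝔪 ^ k : Ideal A) : Set A) :=
  AddSubgroup.isClosed_of_isOpen (𝔪 ^ k).toAddSubgroup (isOpen_pow hA k)

include hA in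
lemma topNilp {c : A} (hc : c ∈ 𝔪) : IsTopologicallyNilpotent c := by
  rw [IsTopologicallyNilpotent, hA.hasBasis_nhds_zero.tendsto_right_iff]
  intro k _
  filter_upwards [Filter.eventually_ge_atTop k] with j hj
  exact Ideal.pow_le_pow_right hj (Ideal.pow_mem_pow hc j)

include hA in
lemma hasEval_c {c : Fin n → A} (hc : ∀ i, c i ∈ 𝔪) : MvPowerSeries.HasEval c where
  hpow i := topNilp hA (hc i)
  tendsto_zero := by simp

include hA in
lemma hasEval_tr {c : Fin n → A} (hc : ∀ i, c i ∈ 𝔪) :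
    MvPowerSeries.HasEval (fun i => (MvPowerSeries.X i + MvPowerSeries.C (c i) : S)) :=
  MvPowerSeries.HasEval.add MvPowerSeries.HasEval.X
    ((hasEval_c hA hc).map MvPowerSeries.WithPiTopology.continuous_C)

/-- translation -/
def tr {c : Fin n → A} (hc : ∀ i, c i ∈ 𝔪) : S →ₐ[A] S :=
  MvPowerSeries.aeval (hasEval_tr hA hc)

lemma tr_continuous {c : Fin n → A} (hc : ∀ i, c i ∈ 𝔪) : Continuous (tr hA hc) :=
  MvPowerSeries.continuous_aeval _

lemma tr_coe {c : Fin n → A} (hc : ∀ i, c i ∈ 𝔪) (p : MvPolynomial (Fin n) A) :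
    tr hA hc (p : S) = MvPolynomial.aeval (fun i => (MvPowerSeries.X i + MvPowerSeries.C (c i) : S)) p :=
  MvPowerSeries.aeval_coe _ p

lemma tr_X {c : Fin n → A} (hc : ∀ i, c i ∈ 𝔪) (i : Fin n) :
    tr hA hc (MvPowerSeries.X i : S) = MvPowerSeries.X i + MvPowerSeries.C (c i) := by
  have := tr_coe hA hc (MvPolynomial.X i)
  simpa using this

/-- uniqueness: a continuous algebra endomorphism is determined by the images of the variables -/
lemma algHom_ext_cont {f g : S →ₐ[A] S} (hf : Continuous f) (hg : Continuous g)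
    (h : ∀ i, f (MvPowerSeries.X i) = g (MvPowerSeries.X i)) : f = g := by
  rw [← MvPowerSeries.aeval_unique hf, ← MvPowerSeries.aeval_unique hg]
  congr 1
  funext i
  exact h i

lemma tr_tr {c d : Fin n → A} (hc : ∀ i, c i ∈ 𝔪) (hd : ∀ i, d i ∈ 𝔪)
    (hcd : ∀ i, (c + d) i ∈ 𝔪) (H : S) :
    tr hA hd (tr hA hc H) = tr hA hcd H := by
  have : (tr hA hd).comp (tr hA hc) = tr hA hcd := by
    have hcont : Continuous ((tr hA hd).comp (tr hA hc)) := by
      rw [AlgHom.coe_comp]
      exact (tr_continuous hA hd).comp (tr_continuous hA hc)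
    apply algHom_ext_cont hcont (tr_continuous hA hcd)
    intro i
    simp only [AlgHom.comp_apply, tr_X, map_add, Pi.add_apply]
    have hC : tr hA hd (MvPowerSeries.C (c i) : S) = MvPowerSeries.C (c i) := by
      have := (tr hA hd).commutes (c i)
      simpa [MvPowerSeries.algebraMap_apply] using this
    rw [hC]; ring
  exact congr($this H)

lemma tr_zero (h0 : ∀ i, (0 : Fin n → A) i ∈ 𝔪) (H : S) : tr hA h0 H = H := by
  have : tr hA h0 = AlgHom.id A S := by
    apply algHom_ext_cont (tr_continuous hA h0) continuous_id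
    intro i
    simp [tr_X]
  exact congr($this H)

lemma add_mem' {c d : Fin n → A} (hc : ∀ i, c i ∈ 𝔪) (hd : ∀ i, d i ∈ 𝔪) :
    ∀ i, (c + d) i ∈ 𝔪 := fun i => Ideal.add_mem _ (hc i) (hd i)

lemma neg_mem' {c : Fin n → A} (hc : ∀ i, c i ∈ 𝔪) : ∀ i, (-c) i ∈ 𝔪 :=
  fun i => Ideal.neg_mem_iff _ |>.mpr (hc i)

/-- translation as an equivalence -/
def trEquiv {c : Fin n → A} (hc : ∀ i, c i ∈ 𝔪) : S ≃ₐ[A] S :=
  AlgEquiv.ofAlgHom (tr hA hc) (tr hA (neg_mem' hc))
    (by
      ext H : 1
      simp only [AlgHom.comp_apply, AlgHom.id_apply]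
      rw [tr_tr hA (neg_mem' hc) hc (by simp)]
      have : ∀ h0, tr hA (c := -c + c) h0 H = H := by
        rw [neg_add_cancel]; intro h0; exact tr_zero hA h0 H
      exact this _)
    (by
      ext H : 1
      simp only [AlgHom.comp_apply, AlgHom.id_apply]
      rw [tr_tr hA hc (neg_mem' hc) (by simp)]
      have : ∀ h0, tr hA (c := c + -c) h0 H = H := by
        rw [add_neg_cancel]; intro h0; exact tr_zero hA h0 H
      exact this _)

lemma trEquiv_apply {c : Fin n → A} (hc : ∀ i, c i ∈ 𝔪) (H : S) :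
    trEquiv hA hc H = tr hA hc H := rfl

/-- power series with all coefficients in `J` -/
def cI (J : Ideal A) : Ideal S where
  carrier := {G | ∀ e, MvPowerSeries.coeff e G ∈ J}
  add_mem' := fun {G G'} hG hG' e => by rw [map_add]; exact J.add_mem (hG e) (hG' e)
  zero_mem' := fun e => by simp
  smul_mem' := fun T G hG e => by
    classical
    rw [smul_eq_mul, MvPowerSeries.coeff_mul]
    exact J.sum_mem (fun p _ => J.mul_mem_left _ (hG _))

lemma mem_cI {J : Ideal A} {G : S} : G ∈ cI (n := n) J ↔ ∀ e, MvPowerSeries.coeff e G ∈ J := Iff.rfl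

lemma isClosed_cI {J : Ideal A} (hJ : IsClosed (J : Set A)) : IsClosed ((cI (n := n) J : Ideal S) : Set S) := by
  have : ((cI (n := n) J : Ideal S) : Set S) = ⋂ e, (MvPowerSeries.coeff e) ⁻¹' (J : Set A) := by
    ext G; simp [mem_cI]
  rw [this]
  exact isClosed_iInter fun e => hJ.preimage (MvPowerSeries.WithPiTopology.continuous_coeff A e)

lemma C_mem_cI {J : Ideal A} {a : A} (ha : a ∈ J) : (MvPowerSeries.C a : S) ∈ cI (n := n) J := by
  classical
  intro e
  rw [MvPowerSeries.coeff_C]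
  split_ifs
  · exact ha
  · exact J.zero_mem

lemma cI_mono {J J' : Ideal A} (h : J ≤ J') : cI (n := n) J ≤ cI J' := fun G hG e => h (hG e)

/-- density argument -/
lemma dense_induction {P : S → Prop} (hP : IsClosed {H | P H})
    (hpoly : ∀ p : MvPolynomial (Fin n) A, P (p : S)) (H : S) : P H := by
  have hd : DenseRange (fun p : MvPolynomial (Fin n) A => (p : S)) :=
    MvPowerSeries.WithPiTopology.denseRange_toMvPowerSeries
  have : (Set.univ : Set S) ⊆ {H | P H} := by
    rw [← hd.closure_range]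
    apply closure_minimal _ hP
    rintro _ ⟨p, rfl⟩
    exact hpoly p
  exact this (Set.mem_univ H)

/-- first congruence: translation by elements of `J` is the identity modulo `J` -/
lemma tr_sub_mem {c : Fin n → A} (hc : ∀ i, c i ∈ 𝔪) {J : Ideal A} (hJ : IsClosed (J : Set A))
    (hcJ : ∀ i, c i ∈ J) (H : S) : tr hA hc H - H ∈ cI (n := n) J := by
  refine dense_induction (P := fun H => tr hA hc H - H ∈ cI (n := n) J) ?_ ?_ H
  · exact (isClosed_cI hJ).preimage ((tr_continuous hA hc).sub continuous_id)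
  · intro p
    induction p using MvPolynomial.induction_on with
    | C a =>
      have : tr hA hc ((MvPolynomial.C a : MvPolynomial (Fin n) A) : S) = MvPowerSeries.C a := by
        have := (tr hA hc).commutes a
        simpa [MvPowerSeries.algebraMap_apply] using this
      rw [MvPolynomial.coe_C] at this ⊢
      rw [this, sub_self]
      exact Ideal.zero_mem _
    | add p q hp hq =>
      have : tr hA hc ((p + q : MvPolynomial (Fin n) A) : S) - ((p + q : MvPolynomial (Fin n) A) : S) =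
          (tr hA hc (p : S) - (p : S)) + (tr hA hc (q : S) - (q : S)) := by
        rw [MvPolynomial.coe_add, map_add]; ring
      rw [this]
      exact Ideal.add_mem _ hp hq
    | mul_X p i hp =>
      have : tr hA hc ((p * MvPolynomial.X i : MvPolynomial (Fin n) A) : S) -
          ((p * MvPolynomial.X i : MvPolynomial (Fin n) A) : S) =
          (tr hA hc (p : S) - (p : S)) * MvPowerSeries.X i + tr hA hc (p : S) * MvPowerSeries.C (c i) := by
        rw [MvPolynomial.coe_mul, map_mul, MvPolynomial.coe_X, tr_X]; ring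
      rw [this]
      exact Ideal.add_mem _ (Ideal.mul_mem_right _ _ hp) (Ideal.mul_mem_left _ _ (C_mem_cI (hcJ i)))

/-- the first order Taylor remainder of a polynomial -/
def rem {δ : Fin n → A} (hδ : ∀ i, δ i ∈ 𝔪) (p : MvPolynomial (Fin n) A) : S :=
  tr hA hδ (p : S) - (p : S) -
    ∑ j, MvPowerSeries.C (δ j) * ((MvPolynomial.pderiv j p : MvPolynomial (Fin n) A) : S)

lemma rem_mul_X {δ : Fin n → A} (hδ : ∀ i, δ i ∈ 𝔪) (p : MvPolynomial (Fin n) A) (i : Fin n) :
    rem hA hδ (p * MvPolynomial.X i) =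
      rem hA hδ p * (MvPowerSeries.X i + MvPowerSeries.C (δ i)) +
      (∑ j, MvPowerSeries.C (δ j) * ((MvPolynomial.pderiv j p : MvPolynomial (Fin n) A) : S)) *
        MvPowerSeries.C (δ i) := by
  classical
  have hsum : ∑ j, MvPowerSeries.C (δ j) *
      ((MvPolynomial.pderiv j (p * MvPolynomial.X i) : MvPolynomial (Fin n) A) : S) =
      MvPowerSeries.C (δ i) * (p : S) +
      (∑ j, MvPowerSeries.C (δ j) * ((MvPolynomial.pderiv j p : MvPolynomial (Fin n) A) : S)) *
        MvPowerSeries.X i := by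
    have : ∀ j, MvPowerSeries.C (δ j) *
        ((MvPolynomial.pderiv j (p * MvPolynomial.X i) : MvPolynomial (Fin n) A) : S) =
        (if j = i then MvPowerSeries.C (δ j) * (p : S) else 0) +
        MvPowerSeries.C (δ j) * ((MvPolynomial.pderiv j p : MvPolynomial (Fin n) A) : S) *
          MvPowerSeries.X i := by
      intro j
      rw [Derivation.leibniz, MvPolynomial.pderiv_X, smul_eq_mul, smul_eq_mul, MvPolynomial.coe_add,
        MvPolynomial.coe_mul, MvPolynomial.coe_mul, MvPolynomial.coe_X]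
      by_cases hji : j = i
      · subst hji
        simp only [Pi.single_eq_same, MvPolynomial.coe_one, mul_one, if_true]
        ring
      · rw [Pi.single_eq_of_ne (Ne.symm hji), if_neg hji]
        simp only [MvPolynomial.coe_zero, mul_zero, zero_add]
        ring
    simp_rw [this]
    rw [Finset.sum_add_distrib, Finset.sum_ite_eq' Finset.univ i, if_pos (Finset.mem_univ _),
      Finset.sum_mul]
  rw [rem, hsum, rem, MvPolynomial.coe_mul, map_mul, MvPolynomial.coe_X, tr_X]
  ring

lemma rem_mem {δ : Fin n → A} (hδ : ∀ i, δ i ∈ 𝔪) {J J2 : Ideal A} (hδJ : ∀ i, δ i ∈ J)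
    (hJ2 : J * J ≤ J2) (p : MvPolynomial (Fin n) A) : rem hA hδ p ∈ cI (n := n) J2 := by
  induction p using MvPolynomial.induction_on with
  | C a =>
    have : tr hA hδ ((MvPolynomial.C a : MvPolynomial (Fin n) A) : S) = MvPowerSeries.C a := by
      have := (tr hA hδ).commutes a
      simpa [MvPowerSeries.algebraMap_apply] using this
    rw [rem, this, MvPolynomial.coe_C, sub_self]
    simp only [MvPolynomial.pderiv_C, MvPolynomial.coe_zero, mul_zero, Finset.sum_const_zero,
      sub_zero]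
    exact Ideal.zero_mem _
  | add p q hp hq =>
    have : rem hA hδ (p + q) = rem hA hδ p + rem hA hδ q := by
      simp only [rem, MvPolynomial.coe_add, map_add, mul_add, Finset.sum_add_distrib]
      ring
    rw [this]
    exact Ideal.add_mem _ hp hq
  | mul_X p i hp =>
    rw [rem_mul_X]
    refine Ideal.add_mem _ (Ideal.mul_mem_right _ _ hp) ?_
    rw [Finset.sum_mul]
    refine Ideal.sum_mem _ fun j _ => ?_
    have : MvPowerSeries.C (δ j) * ((MvPolynomial.pderiv j p : MvPolynomial (Fin n) A) : S) *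
        MvPowerSeries.C (δ i) =
        ((MvPolynomial.pderiv j p : MvPolynomial (Fin n) A) : S) * MvPowerSeries.C (δ j * δ i) := by
      rw [map_mul]; ring
    rw [this]
    exact Ideal.mul_mem_left _ _ (C_mem_cI (hJ2 (Ideal.mul_mem_mul (hδJ j) (hδJ i))))

/-- polar coefficients of a power series -/
def PM (H : S) (i j : Fin n) : A :=
  MvPowerSeries.coeff (Finsupp.single i 1 + Finsupp.single j 1) H *
    (((Finsupp.single i 1 : Fin n →₀ ℕ) j : A) + 1)

lemma continuous_PM (i j : Fin n) : Continuous (fun H : S => PM H i j) :=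
  (MvPowerSeries.WithPiTopology.continuous_coeff A _).mul continuous_const

lemma taylor_lin {δ : Fin n → A} (hδ : ∀ i, δ i ∈ 𝔪) {J J2 : Ideal A}
    (hJ2c : IsClosed (J2 : Set A)) (hδJ : ∀ i, δ i ∈ J)
    (hJ2 : J * J ≤ J2) (H : S) (i : Fin n) :
    MvPowerSeries.coeff (Finsupp.single i 1) (tr hA hδ H) -
      MvPowerSeries.coeff (Finsupp.single i 1) H - ∑ j, PM H i j * δ j ∈ J2 := by
  refine dense_induction (P := fun H => MvPowerSeries.coeff (Finsupp.single i 1) (tr hA hδ H) -
      MvPowerSeries.coeff (Finsupp.single i 1) H - ∑ j, PM H i j * δ j ∈ J2) ?_ ?_ H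
  · refine hJ2c.preimage ?_
    refine (((MvPowerSeries.WithPiTopology.continuous_coeff A _).comp (tr_continuous hA hδ)).sub
      (MvPowerSeries.WithPiTopology.continuous_coeff A _)).sub ?_
    exact continuous_finsetSum _ fun j _ => (continuous_PM i j).mul continuous_const
  · intro p
    have h := rem_mem hA hδ hδJ hJ2 p (Finsupp.single i 1)
    have e : MvPowerSeries.coeff (Finsupp.single i 1) (rem hA hδ p) =
        MvPowerSeries.coeff (Finsupp.single i 1) (tr hA hδ (p : S)) -
        MvPowerSeries.coeff (Finsupp.single i 1) (p : S) - ∑ j, PM (p : S) i j * δ j := by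
      rw [rem, map_sub, map_sub, map_sum]
      congr 1
      refine Finset.sum_congr rfl fun j _ => ?_
      rw [MvPowerSeries.coeff_C_mul, MvPolynomial.coeff_coe, MvPolynomial.coeff_pderiv, PM,
        MvPolynomial.coeff_coe]
      ring
    rw [← e]; exact h

open Classical in
/-- total version of the translation -/
def trv (c : Fin n → A) : S →ₐ[A] S :=
  if h : ∀ i, c i ∈ 𝔪 then tr hA h else AlgHom.id A S

lemma trv_eq {c : Fin n → A} (hc : ∀ i, c i ∈ 𝔪) : trv hA c = tr hA hc := by
  classical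
  exact dif_pos hc

/-- the linear coefficients after translation -/
def Gv (F : S) (c : Fin n → A) : Fin n → A :=
  fun i => MvPowerSeries.coeff (Finsupp.single i 1) (trv hA c F)

/-- Newton/Picard step -/
def step (F : S) (P : Matrix (Fin n) (Fin n) A) (c : Fin n → A) : Fin n → A :=
  c - P⁻¹.mulVec (Gv hA F c)

lemma mulVec_mem {J : Ideal A} (M : Matrix (Fin n) (Fin n) A) {v : Fin n → A} (hv : ∀ i, v i ∈ J)
    (i : Fin n) : M.mulVec v i ∈ J := by
  rw [Matrix.mulVec, dotProduct]
  exact J.sum_mem fun j _ => J.mul_mem_left _ (hv j)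

lemma PM_sub_mem {J : Ideal A} {H H' : S} (h : H - H' ∈ cI (n := n) J) (i j : Fin n) :
    PM H i j - PM H' i j ∈ J := by
  rw [PM, PM, ← sub_mul, ← map_sub]
  exact J.mul_mem_right _ (h _)

lemma step_spec (F : S) (P : Matrix (Fin n) (Fin n) A) (hP : IsUnit P.det)
    (hPF : ∀ i j, PM F i j - P i j ∈ 𝔪) {c : Fin n → A} (hc : ∀ i, c i ∈ 𝔪) (k : ℕ)
    (hG : ∀ i, Gv hA F c i ∈ 𝔪 ^ (k + 1)) :
    (∀ i, step hA F P c i ∈ 𝔪) ∧ (∀ i, step hA F P c i - c i ∈ 𝔪 ^ (k + 1)) ∧
      (∀ i, Gv hA F (step hA F P c) i ∈ 𝔪 ^ (k + 2)) := by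
  set δ : Fin n → A := -(P⁻¹.mulVec (Gv hA F c)) with hδdef
  have hstep : step hA F P c = c + δ := by rw [step, hδdef, sub_eq_add_neg]
  have hδk : ∀ i, δ i ∈ 𝔪 ^ (k + 1) := fun i => by
    rw [hδdef, Pi.neg_apply, Ideal.neg_mem_iff]
    exact mulVec_mem _ hG i
  have hle : 𝔪 ^ (k + 1) ≤ 𝔪 := Ideal.pow_le_self (Nat.succ_ne_zero k)
  have hδ : ∀ i, δ i ∈ 𝔪 := fun i => hle (hδk i)
  have hcδ : ∀ i, (c + δ) i ∈ 𝔪 := add_mem' hc hδ
  refine ⟨fun i => hstep ▸ hcδ i, fun i => ?_, fun i => ?_⟩
  · rw [hstep, Pi.add_apply, add_sub_cancel_left]; exact hδk i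
  · rw [hstep]
    set H : S := tr hA hc F with hH
    have e1 : Gv hA F (c + δ) i = MvPowerSeries.coeff (Finsupp.single i 1) (tr hA hδ H) := by
      rw [Gv, trv_eq hA hcδ, hH, tr_tr hA hc hδ hcδ]
    have e2 : Gv hA F c i = MvPowerSeries.coeff (Finsupp.single i 1) H := by
      rw [Gv, trv_eq hA hc]
    have h1 := taylor_lin hA hδ (J := 𝔪 ^ (k + 1)) (J2 := 𝔪 ^ (k + 2)) (isClosed_pow hA _) hδk
      (by rw [← pow_add]; exact Ideal.pow_le_pow_right (by omega)) H i
    rw [← e1, ← e2] at h1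
    have h2 : ∀ j, PM H i j - P i j ∈ 𝔪 := fun j => by
      have := PM_sub_mem (tr_sub_mem hA hc (isClosed_pow hA 1) (by simpa using hc) F) i j
      rw [pow_one] at this
      have := Ideal.add_mem _ this (hPF i j)
      rwa [sub_add_sub_cancel] at this
    have h3 : ∑ j, (PM H i j - P i j) * δ j ∈ 𝔪 ^ (k + 2) := by
      refine Ideal.sum_mem _ fun j _ => ?_
      have : 𝔪 ^ (k + 2) = 𝔪 * 𝔪 ^ (k + 1) := by rw [← pow_succ']
      rw [this]
      exact Ideal.mul_mem_mul (h2 j) (hδk j)
    have h4 : ∑ j, P i j * δ j = - Gv hA F c i := by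
      have : P.mulVec δ = - Gv hA F c := by
        rw [hδdef, Matrix.mulVec_neg, Matrix.mulVec_mulVec, Matrix.mul_nonsing_inv _ hP,
          Matrix.one_mulVec]
      have := congrFun this i
      rwa [Matrix.mulVec, dotProduct] at this
    have h5 : Gv hA F (c + δ) i =
        (Gv hA F (c + δ) i - Gv hA F c i - ∑ j, PM H i j * δ j) +
        ∑ j, (PM H i j - P i j) * δ j := by
      simp only [sub_mul, Finset.sum_sub_distrib, h4]
      ring
    rw [h5]
    exact Ideal.add_mem _ h1 h3

lemma tr_congr {c c' : Fin n → A} (h : c = c') (hc : ∀ i, c i ∈ 𝔪) (hc' : ∀ i, c' i ∈ 𝔪) :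
    tr hA hc = tr hA hc' := by
  subst h; rfl

/-- the iteration -/
def seq (F : S) (P : Matrix (Fin n) (Fin n) A) : ℕ → (Fin n → A)
  | 0 => 0
  | k + 1 => step hA F P (seq F P k)

lemma seq_spec (F : S) (P : Matrix (Fin n) (Fin n) A) (hP : IsUnit P.det)
    (hPF : ∀ i j, PM F i j - P i j ∈ 𝔪)
    (hℓ : ∀ i, MvPowerSeries.coeff (Finsupp.single i 1) F ∈ 𝔪) (k : ℕ) :
    (∀ i, seq hA F P k i ∈ 𝔪) ∧ (∀ i, Gv hA F (seq hA F P k) i ∈ 𝔪 ^ (k + 1)) := by
  induction k with
  | zero =>
    have h0 : ∀ i, (0 : Fin n → A) i ∈ 𝔪 := fun i => by simp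
    refine ⟨h0, fun i => ?_⟩
    rw [seq, Gv, trv_eq hA h0, tr_zero, zero_add, pow_one]
    exact hℓ i
  | succ k ih =>
    obtain ⟨h1, h2, h3⟩ := step_spec hA F P hP hPF ih.1 k ih.2
    exact ⟨h1, h3⟩

lemma seq_succ_sub (F : S) (P : Matrix (Fin n) (Fin n) A) (hP : IsUnit P.det)
    (hPF : ∀ i j, PM F i j - P i j ∈ 𝔪)
    (hℓ : ∀ i, MvPowerSeries.coeff (Finsupp.single i 1) F ∈ 𝔪) (k : ℕ) (i : Fin n) :
    seq hA F P (k + 1) i - seq hA F P k i ∈ 𝔪 ^ (k + 1) := by
  obtain ⟨ih1, ih2⟩ := seq_spec hA F P hP hPF hℓ k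
  exact (step_spec hA F P hP hPF ih1 k ih2).2.1 i

lemma seq_add_sub (F : S) (P : Matrix (Fin n) (Fin n) A) (hP : IsUnit P.det)
    (hPF : ∀ i j, PM F i j - P i j ∈ 𝔪)
    (hℓ : ∀ i, MvPowerSeries.coeff (Finsupp.single i 1) F ∈ 𝔪) (a d : ℕ) (i : Fin n) :
    seq hA F P (a + d) i - seq hA F P a i ∈ 𝔪 ^ (a + 1) := by
  induction d with
  | zero => simp
  | succ d ih =>
    have h1 := seq_succ_sub hA F P hP hPF hℓ (a + d) i
    have h2 : 𝔪 ^ (a + d + 1) ≤ 𝔪 ^ (a + 1) := Ideal.pow_le_pow_right (by omega)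
    have := Ideal.add_mem _ (h2 h1) ih
    rwa [sub_add_sub_cancel] at this

lemma exists_root [IsAdicComplete 𝔪 A] (F : S) (P : Matrix (Fin n) (Fin n) A) (hP : IsUnit P.det)
    (hPF : ∀ i j, PM F i j - P i j ∈ 𝔪)
    (hℓ : ∀ i, MvPowerSeries.coeff (Finsupp.single i 1) F ∈ 𝔪) :
    ∃ c : Fin n → A, ∃ hc : ∀ i, c i ∈ 𝔪,
      ∀ i, MvPowerSeries.coeff (Finsupp.single i 1) (tr hA hc F) = 0 := by
  have hcau : ∀ i, ∃ L : A, ∀ k, seq hA F P k i ≡ L [SMOD (𝔪 ^ k • ⊤ : Submodule A A)] := by
    intro i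
    apply IsPrecomplete.prec' (I := 𝔪) (fun k => seq hA F P k i)
    intro a b hab
    obtain ⟨d, rfl⟩ := Nat.exists_eq_add_of_le hab
    rw [SModEq.comm, SModEq.sub_mem, smul_eq_mul, Ideal.mul_top]
    exact Ideal.pow_le_pow_right (Nat.le_succ a) (seq_add_sub hA F P hP hPF hℓ a d i)
  choose L hL using hcau
  have hL' : ∀ k i, seq hA F P k i - L i ∈ 𝔪 ^ k := fun k i => by
    have := hL i k
    rwa [SModEq.sub_mem, smul_eq_mul, Ideal.mul_top] at this
  have hLm : ∀ i, L i ∈ 𝔪 := fun i => by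
    have h1 := hL' 1 i
    rw [pow_one] at h1
    have h2 := (seq_spec hA F P hP hPF hℓ 1).1 i
    have := Ideal.sub_mem _ h2 h1
    rwa [sub_sub_cancel] at this
  refine ⟨L, hLm, fun i => ?_⟩
  apply IsHausdorff.haus (I := 𝔪) inferInstance
  intro k
  rw [SModEq.zero, smul_eq_mul, Ideal.mul_top]
  rcases Nat.eq_zero_or_pos k with rfl | hk
  · simp
  obtain ⟨hs1, hs2⟩ := seq_spec hA F P hP hPF hℓ k
  set c := seq hA F P k with hcdef
  have hle : 𝔪 ^ k ≤ 𝔪 := Ideal.pow_le_self (by omega)
  have hd : ∀ i, (L - c) i ∈ 𝔪 ^ k := fun i => by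
    have := hL' k i
    rw [← Ideal.neg_mem_iff, neg_sub] at this
    exact this
  have hd' : ∀ i, (L - c) i ∈ 𝔪 := fun i => hle (hd i)
  have hsum : ∀ i, (c + (L - c)) i ∈ 𝔪 := fun i => by simpa using hLm i
  have e1 : tr hA hLm F = tr hA hd' (tr hA hs1 F) := by
    rw [tr_tr hA hs1 hd' hsum]
    exact congr($(tr_congr hA (by simp) hLm hsum) F)
  have h1 := tr_sub_mem hA hd' (isClosed_pow hA k) hd (tr hA hs1 F) (Finsupp.single i 1)
  rw [← e1, map_sub] at h1
  have h2 : MvPowerSeries.coeff (Finsupp.single i 1) (tr hA hs1 F) ∈ 𝔪 ^ k := by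
    have := hs2 i
    rw [Gv, trv_eq hA hs1] at this
    exact Ideal.pow_le_pow_right (Nat.le_succ k) this
  have := Ideal.add_mem _ h1 h2
  rwa [sub_add_cancel] at this

lemma PM_eq (H : S) (q' : Fin n → Fin n → A)
    (hq' : ∀ a b, a ≤ b → MvPowerSeries.coeff (sx a b) H = q' a b) (i j : Fin n) :
    PM H i j = VanCyc.polarMatrix q' i j := by
  unfold PM VanCyc.polarMatrix
  rcases lt_trichotomy i j with h | h | h
  · rw [if_neg h.ne, if_pos h, ← hq' i j h.le, Finsupp.single_apply, if_neg h.ne]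
    simp [sx]
  · subst h
    rw [if_pos rfl, ← hq' i i le_rfl]
    simp only [Finsupp.single_eq_same, Nat.cast_one, sx]
    ring
  · rw [if_neg h.ne', if_neg (not_lt.mpr h.le), ← hq' j i h.le, Finsupp.single_apply, if_neg h.ne']
    simp [sx, add_comm]

lemma det_sub_mem {J : Ideal A} (M M' : Matrix (Fin n) (Fin n) A) (h : ∀ i j, M i j - M' i j ∈ J) :
    M.det - M'.det ∈ J := by
  rw [← Ideal.Quotient.eq, RingHom.map_det, RingHom.map_det]
  congr 1
  ext i j
  simp only [RingHom.mapMatrix_apply, Matrix.map_apply]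
  exact Ideal.Quotient.eq.mpr (h i j)

lemma isUnit_of_sub_mem {x u : A} (hu : IsUnit u) (h : x - u ∈ 𝔪) : IsUnit x := by
  by_contra hx
  have hx' : x ∈ 𝔪 := (IsLocalRing.mem_maximalIdeal x).mpr hx
  have : u ∈ 𝔪 := by
    have := Ideal.sub_mem _ hx' h
    rwa [sub_sub_cancel] at this
  exact (IsLocalRing.mem_maximalIdeal u).mp this hu

include hA in
theorem main_top [IsAdicComplete 𝔪 A] (q : Fin n → Fin n → A) (hq : VanCyc.QuadNondeg q)
    (a : A) (ha : a ∈ 𝔪) (ℓ : Fin n → A) (hℓ : ∀ i, ℓ i ∈ 𝔪) (F : S)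
    (hF : ∀ e : Fin n →₀ ℕ, e.degree ≤ 2 →
      MvPowerSeries.coeff e F = MvPowerSeries.coeff e ((VanCyc.quadPoly q +
        ∑ i, MvPolynomial.C (ℓ i) * MvPolynomial.X i + MvPolynomial.C a :
          MvPolynomial (Fin n) A) : S)) :
    ∃ (a' : A) (q' : Fin n → Fin n → A), a' ∈ 𝔪 ∧ VanCyc.QuadNondeg q' ∧
      Nonempty ((S ⧸ Ideal.span {F}) ≃ₐ[A]
        (S ⧸ Ideal.span {((VanCyc.quadPoly q' + MvPolynomial.C a' :
          MvPolynomial (Fin n) A) : S)})) := by
  classical
  -- the low coefficients of `F`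
  have hlin : ∀ (e : Fin n →₀ ℕ), MvPolynomial.coeff e
      (∑ i, MvPolynomial.C (ℓ i) * MvPolynomial.X i : MvPolynomial (Fin n) A) =
      ∑ i, if Finsupp.single i 1 = e then ℓ i else 0 := by
    intro e
    rw [MvPolynomial.coeff_sum]
    refine Finset.sum_congr rfl fun i _ => ?_
    rw [MvPolynomial.coeff_C_mul, MvPolynomial.coeff_X]
    split_ifs <;> simp
  have hF0 : MvPowerSeries.coeff 0 F = a := by
    rw [hF 0 (by simp), MvPolynomial.coeff_coe, MvPolynomial.coeff_add, MvPolynomial.coeff_add,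
      coeff_quadPoly_of_degree_ne q (by simp), hlin, MvPolynomial.coeff_C, if_pos rfl]
    simp [Finsupp.single_eq_zero]
  have hF1 : ∀ i, MvPowerSeries.coeff (Finsupp.single i 1) F = ℓ i := by
    intro i
    rw [hF _ (by simp [Finsupp.degree_single]), MvPolynomial.coeff_coe, MvPolynomial.coeff_add,
      MvPolynomial.coeff_add, coeff_quadPoly_of_degree_ne q (by simp [Finsupp.degree_single]), hlin,
      MvPolynomial.coeff_C, if_neg (by simp [eq_comm, Finsupp.single_eq_zero])]
    simp [Finsupp.single_left_inj]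
  have hF2 : ∀ a b, a ≤ b → MvPowerSeries.coeff (sx a b) F = q a b := by
    intro i j hij
    rw [hF _ (by rw [degree_sx]), MvPolynomial.coeff_coe, MvPolynomial.coeff_add,
      MvPolynomial.coeff_add, coeff_quadPoly_sx q hij, hlin,
      MvPolynomial.coeff_C, if_neg]
    · rw [Finset.sum_eq_zero, add_zero, add_zero]
      intro k _
      rw [if_neg]
      intro h
      have := congrArg Finsupp.degree h
      rw [Finsupp.degree_single, degree_sx] at this
      omega
    · intro h
      have := congrArg Finsupp.degree h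
      rw [degree_sx] at this
      simp at this
  set P := VanCyc.polarMatrix q with hPdef
  have hPF : ∀ i j, PM F i j - P i j ∈ 𝔪 := fun i j => by
    rw [PM_eq F q hF2 i j, sub_self]; exact Ideal.zero_mem _
  obtain ⟨c, hc, hroot⟩ := exists_root hA F P hq hPF (fun i => by rw [hF1]; exact hℓ i)
  set H : S := tr hA hc F with hH
  have hHF : H - F ∈ cI (n := n) 𝔪 := by
    have := tr_sub_mem hA hc (isClosed_pow hA 1) (by simpa using hc) F
    rwa [pow_one] at this
  let a' : A := MvPowerSeries.coeff 0 H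
  let q' : Fin n → Fin n → A := fun i j => if i ≤ j then MvPowerSeries.coeff (sx i j) H else 0
  have hq'2 : ∀ a b, a ≤ b → MvPowerSeries.coeff (sx a b) H = q' a b := fun i j hij => by
    simp only [q', if_pos hij]
  have ha' : a' ∈ 𝔪 := by
    have h1 := hHF 0
    rw [map_sub, hF0] at h1
    have := Ideal.add_mem _ h1 ha
    rwa [sub_add_cancel] at this
  have hq' : VanCyc.QuadNondeg q' := by
    unfold VanCyc.QuadNondeg
    refine isUnit_of_sub_mem hq (det_sub_mem _ _ fun i j => ?_)
    rw [← PM_eq H q' hq'2, ← PM_eq F q hF2]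
    exact PM_sub_mem hHF i j
  refine ⟨a', q', ha', hq', ?_⟩
  have hH2 : ∀ e : Fin n →₀ ℕ, e.degree ≤ 2 →
      MvPowerSeries.coeff e H = MvPowerSeries.coeff e ((VanCyc.quadPoly q' + MvPolynomial.C a' :
        MvPolynomial (Fin n) A) : S) := by
    intro e he
    rw [MvPolynomial.coeff_coe, MvPolynomial.coeff_add, MvPolynomial.coeff_C]
    have hcases : e.degree = 0 ∨ e.degree = 1 ∨ e.degree = 2 := by omega
    rcases hcases with h0 | h1 | h2
    · rw [Finsupp.degree_eq_zero_iff] at h0
      subst h0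
      rw [coeff_quadPoly_of_degree_ne q' (by simp), if_pos rfl, zero_add]
    · obtain ⟨i, rfl⟩ := deg_one_eq h1
      rw [coeff_quadPoly_of_degree_ne q' (by simp [Finsupp.degree_single]), hroot i,
        if_neg (by simp [eq_comm, Finsupp.single_eq_zero]), add_zero]
    · obtain ⟨i, j, hij, rfl⟩ := deg_two_eq h2
      rw [coeff_quadPoly_sx q' hij, hq'2 i j hij, if_neg, add_zero]
      intro h
      have := congrArg Finsupp.degree h
      rw [degree_sx] at this
      simp at this
  obtain ⟨_, _, _, _, ⟨e2⟩⟩ := Groth.Agent.S16230.result A n 2 le_rfl q' hq' a' H hH2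
  have hmap : Ideal.span {H} = (Ideal.span {F}).map (trEquiv hA hc : S →+* S) := by
    rw [Ideal.map_span, Set.image_singleton]; rfl
  exact ⟨(Ideal.quotientEquivAlg _ _ (trEquiv hA hc) hmap).trans e2⟩

end Top

end

/-- Let A be a local ring with maximal ideal m that is separated and complete for the m-adic topology (A
is not assumed Noetherian), n a natural number, q an n × n coefficient table over A whose quadratic
form Q(x) = Σ_{i≤j} q_ij x_i x_j is non-degenerate (unit Gram determinant of the polar bilinear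
form), a and ℓ_1, …, ℓ_n elements of m, and F a formal power series in x_1, …, x_n over A whose
coefficients in total degree at most 2 agree with those of a + Σ ℓ_i x_i + Q(x). Then there are an
element a' of m and a non-degenerate coefficient table q' such that A[[x]]/(F) and A[[x]]/(Q'(x) +
a') are isomorphic as A-algebras, Q' the quadratic form of q'. -/
theorem result
    (A : Type u) [CommRing A] [IsLocalRing A]
    [IsAdicComplete (IsLocalRing.maximalIdeal A) A] (n : ℕ)
    (q : Fin n → Fin n → A) (hq : VanCyc.QuadNondeg q)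
    (a : A) (ha : a ∈ IsLocalRing.maximalIdeal A)
    (ℓ : Fin n → A) (hℓ : ∀ i, ℓ i ∈ IsLocalRing.maximalIdeal A)
    (F : MvPowerSeries (Fin n) A)
    (hF : ∀ e : Fin n →₀ ℕ, e.degree ≤ 2 →
      MvPowerSeries.coeff e F = MvPowerSeries.coeff e ((VanCyc.quadPoly q + ∑ i, MvPolynomial.C (ℓ i) * MvPolynomial.X i + MvPolynomial.C a : MvPolynomial (Fin n) A) : MvPowerSeries (Fin n) A)) :
    ∃ (a' : A) (q' : Fin n → Fin n → A), a' ∈ IsLocalRing.maximalIdeal A ∧ VanCyc.QuadNondeg q' ∧
      Nonempty ((MvPowerSeries (Fin n) A ⧸ Ideal.span {F}) ≃ₐ[A]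
        (MvPowerSeries (Fin n) A ⧸ Ideal.span {((VanCyc.quadPoly q' + MvPolynomial.C a' : MvPolynomial (Fin n) A) : MvPowerSeries (Fin n) A)})) := by
  letI : WithIdeal A := ⟨IsLocalRing.maximalIdeal A⟩
  have hA : IsAdic (IsLocalRing.maximalIdeal A) := rfl
  obtain ⟨h1, h2⟩ := hA.isAdicComplete_iff.mp inferInstance
  exact main_top hA q hq a ha ℓ hℓ F hF

end Groth.Agent.S16231
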