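import Groth.Statements.S16234
import Mathlib
-- import your own Groth.Agent.* helpers here

set_option autoImplicit false
universe u v
open CAlg

namespace Groth.Agent.S16234


theorem support_max_of_finiteLength {A : Type u} [CommRing A] {M : Type v} [AddCommGroup M]
    [Module A M] (h : IsFiniteLength A M) :
    ∀ p ∈ Module.support A M, p.asIdeal.IsMaximal := by
  induction h with
  | of_subsingleton =>
    intro p hp
    rw [Module.support_eq_empty] at hp
    exact absurd hp (Set.notMem_empty _)
  | @of_simple_quotient M _ _ N _ _ ih =>
    intro p hp
    rw [Module.support_of_exact (f := N.subtype) (g := N.mkQ) (LinearMap.exact_subtype_mkQ N)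
      N.injective_subtype N.mkQ_surjective] at hp
    rcases hp with hp | hp
    · exact ih p hp
    · obtain ⟨m, hm, ⟨e⟩⟩ :=
        isSimpleModule_iff_quot_maximal.mp (inferInstance : IsSimpleModule A (M ⧸ N))
      rw [e.support_eq] at hp
      have h1 := Module.annihilator_le_of_mem_support hp
      rw [Ideal.annihilator_quotient] at h1
      rw [← hm.eq_of_le p.2.ne_top h1]
      exact hm

theorem artinian_of_support {A : Type u} [CommRing A] [IsNoetherianRing A]
    {M : Type v} [AddCommGroup M] [Module A M] [Module.Finite A M]
    (h : ∀ p ∈ Module.support A M, p.asIdeal.IsMaximal) : IsArtinian A M := by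
  letI : Module (A ⧸ Module.annihilator A M) M := Module.quotientAnnihilator
  have : IsScalarTower A (A ⧸ Module.annihilator A M) M :=
    Module.IsTorsionBySet.isScalarTower (Module.isTorsionBySet_annihilator A M) (S := A)
  have : Ring.KrullDimLE 0 (A ⧸ Module.annihilator A M) := by
    rw [Ring.krullDimLE_zero_iff]
    intro P hP
    have hmem : (⟨P.comap (Ideal.Quotient.mk (Module.annihilator A M)), inferInstance⟩ :
        PrimeSpectrum A) ∈ Module.support A M := by
      rw [Module.support_eq_zeroLocus, PrimeSpectrum.mem_zeroLocus]
      intro a ha
      show Ideal.Quotient.mk (Module.annihilator A M) a ∈ P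
      rw [Ideal.Quotient.eq_zero_iff_mem.mpr ha]
      exact zero_mem _
    have hc : (P.comap (Ideal.Quotient.mk (Module.annihilator A M))).IsMaximal := h _ hmem
    have := Ideal.IsMaximal.map_of_surjective_of_ker_le
      (f := Ideal.Quotient.mk (Module.annihilator A M)) Ideal.Quotient.mk_surjective
      (m := P.comap (Ideal.Quotient.mk (Module.annihilator A M)))
      (by rw [Ideal.mk_ker]; intro a ha; show Ideal.Quotient.mk _ a ∈ P
          rw [Ideal.Quotient.eq_zero_iff_mem.mpr ha]; exact zero_mem _)
    rwa [Ideal.map_comap_of_surjective _ Ideal.Quotient.mk_surjective] at this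
  have : IsArtinianRing (A ⧸ Module.annihilator A M) :=
    isArtinianRing_iff_krullDimLE_zero.mpr inferInstance
  have : Module.Finite (A ⧸ Module.annihilator A M) M :=
    Module.Finite.of_restrictScalars_finite A _ M
  have : IsArtinian (A ⧸ Module.annihilator A M) M := inferInstance
  exact isArtinian_of_surjective_algebraMap (R := A ⧸ Module.annihilator A M) (S := A) (M := M)
    Ideal.Quotient.mk_surjective

/-- For a finitely generated module M over a Noetherian commutative ring A, every prime ideal in the
support of M is a maximal ideal if and only if M has finite length. -/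
theorem result (A : Type u) [CommRing A] [IsNoetherianRing A]
    (M : Type v) [AddCommGroup M] [Module A M] [Module.Finite A M] :
    (∀ p ∈ Module.support A M, p.asIdeal.IsMaximal) ↔ IsFiniteLength A M := by
  constructor
  · intro h
    rw [isFiniteLength_iff_isNoetherian_isArtinian]
    exact ⟨inferInstance, artinian_of_support h⟩
  · exact support_max_of_finiteLength

end Groth.Agent.S16234
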