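import Groth.Statements.S16235
import Mathlib

set_option autoImplicit false
universe u
open CAlg

namespace Groth.Agent.S16235




/-- Let A be a Noetherian commutative ring and x_1, …, x_r a regular sequence on A (each x_i a
non-zero-divisor on A/(x_1, …, x_{i-1})) generating an ideal I ≠ A. Then the height of I, the
infimum of the heights of the minimal primes over I, equals r. -/
theorem result (A : Type u) [CommRing A] [IsNoetherianRing A]
    (r : ℕ) (x : Fin r → A) (hx : RingTheory.Sequence.IsWeaklyRegular A (List.ofFn x))
    (hI : Ideal.span (Set.range x) ≠ ⊤) :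
    (Ideal.span (Set.range x)).height = r := by
  classical
  apply le_antisymm
  · obtain ⟨p, hp⟩ := Ideal.nonempty_minimalPrimes hI
    have hfin : (Set.range x).Finite := Set.finite_range x
    calc (Ideal.span (Set.range x)).height ≤ p.height := Ideal.height_mono hp.1.2
      _ ≤ (Set.range x).ncard := Ideal.height_le_card_of_mem_minimalPrimes_span hfin hp
      _ ≤ r := by
        have h1 : (Set.range x).ncard ≤ r := by
          have := Set.ncard_image_le (f := x) (s := Set.univ) Set.finite_univ
          rw [Set.image_univ] at this
          simpa [Set.ncard_univ] using this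
        exact_mod_cast h1
  · rw [Ideal.height_eq_inf_minimalPrimes]
    refine le_iInf₂ fun p hp => ?_
    haveI := hp.isPrime
    have reg := hx.isRegular_of_isLocalization_of_mem (Localization.AtPrime p) p
      (fun a ha => hp.1.2 (Ideal.subset_span (by
        rw [List.mem_ofFn'] at ha; exact ha)))
    have h1 := ringKrullDim_add_length_eq_ringKrullDim_of_isRegular _ reg
    rw [IsLocalization.AtPrime.ringKrullDim_eq_height p (Localization.AtPrime p)] at h1
    have hnt : Nontrivial (Localization.AtPrime p ⧸
        Ideal.ofList ((List.ofFn x).map (algebraMap A (Localization.AtPrime p)))) := by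
      apply Ideal.Quotient.nontrivial_iff.2
      intro htop
      apply reg.top_ne_smul
      rw [htop]; simp
    have h2 : (0 : WithBot ℕ∞) ≤ ringKrullDim (Localization.AtPrime p ⧸
        Ideal.ofList ((List.ofFn x).map (algebraMap A (Localization.AtPrime p)))) :=
      ringKrullDim_nonneg_of_nontrivial
    have h3 : ((r : ℕ∞) : WithBot ℕ∞) ≤ (p.height : WithBot ℕ∞) := by
      rw [← h1]
      simp only [List.length_map, List.length_ofFn]
      calc ((r : ℕ∞) : WithBot ℕ∞) = 0 + (r : WithBot ℕ∞) := by simp
        _ ≤ _ := add_le_add_left h2 _
    exact_mod_cast h3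

end Groth.Agent.S16235
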