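import Groth.Statements.S1624
import Groth.Agent.Lib.Helper9.BlowPt7
import Groth.Agent.Lib.lead.FibOneG

set_option autoImplicit false
universe u
open CategoryTheory CategoryTheory.Limits AlgebraicGeometry
open Resolve

namespace Groth.Agent.S1624

/-- Let A be a regular local ring of dimension two and b : X → Spec A the blowing up in the maximal
ideal. If F is a quasi-coherent O_X-module which is globally generated, then H¹(X, F) = 0. -/
theorem result (A : Type u) [CommRing A] [IsRegularLocalRing A] (hA : ringKrullDim A = 2)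
    (X : Scheme.{u}) (b : X ⟶ Spec (CommRingCat.of A)) (hb : BlowUp.IsBlowUp b (Curv2.idealSheaf A (IsLocalRing.maximalIdeal A)))
    (F : X.Modules) (hF : Coh.IsQCoh F) (hgg : Curv2.IsGloballyGenerated F) : Subsingleton (Coh.HH X F 1) := by
  open Groth.Agent.Lib.Helper9.BlowPt in
  obtain ⟨s, hs⟩ := exists_two_gens A hA
  have hb' := isBlowUp_curv2 _ hb
  haveI : F.IsQuasicoherent := hF
  have hpair : Ideal.span {s 0, s 1} = IsLocalRing.maximalIdeal A := by
    rw [← hs]
    congr 1
    ext a
    constructor
    · rintro (rfl | rfl)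
      · exact ⟨0, rfl⟩
      · exact ⟨1, rfl⟩
    · rintro ⟨i, rfl⟩
      fin_cases i
      · exact Or.inl rfl
      · exact Or.inr rfl
  haveI : IsSeparated b := Groth.Agent.Lib.Helper9.BlowProper.isSeparated_of_isBlowUp hb'
  haveI : CompactSpace X := Groth.Agent.Lib.Helper9.BlowProper.compactSpace_of_fg hb'
    (IsNoetherian.noetherian _)
  haveI : QuasiSeparatedSpace X := quasiSeparatedSpace_of_quasiSeparated b
  obtain ⟨ι, p, hp⟩ := hgg
  let e : (∐ fun _ : ι => Coh.structureModule X) ⟶ F := p
  haveI : Epi e := hp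
  exact Groth.Agent.Lib.lead.FibOne.subsingleton_HH_of_epi_sigma F (ι := ι) e 1
    (fun K hK => by
      haveI : K.IsQuasicoherent := hK
      exact subsingleton_HH_of_span hb' s hs K 2 le_rfl)
    (subsingleton_HH_one_structure hb' (s 0) (s 1) hpair)

end Groth.Agent.S1624
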