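import Groth.Statements.S16243
import Mathlib
import Groth.Agent.Lib.Helper21.PolyPD
import Groth.Agent.Lib.Helper21.NodeA
import Groth.Agent.Lib.Helper21.MatRes
import Groth.Agent.S14414

set_option autoImplicit false
set_option linter.dupNamespace false
universe u
open CategoryTheory
open CAlg

namespace Groth.Agent.S16243

section helpers
open MvPolynomial Groth.Agent.Lib.Helper21.PolyPD Groth.Agent.Lib.Helper21.Node
  Groth.Agent.Lib.Helper21.MatRes

variable (k : Type u) [Field k]

noncomputable abbrev mm : Ideal (A k) := Ideal.span {xb k, yb k}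

/-- constant coefficient on the node ring -/
noncomputable def cc : A k →+* k :=
  Ideal.Quotient.lift (J k) constantCoeff (by
    intro a ha
    rw [Ideal.mem_span_singleton'] at ha
    obtain ⟨q, rfl⟩ := ha
    simp)

lemma ker_cc : RingHom.ker (cc k) = mm k := by
  apply le_antisymm
  · intro a ha
    obtain ⟨p, rfl⟩ := Ideal.Quotient.mk_surjective a
    rw [RingHom.mem_ker] at ha
    have hp : p ∈ RingHom.ker (constantCoeff : P k →+* k) := ha
    rw [← I_top_eq_ker k 2, I_succ k 2 (by norm_num : 1 < 2), I_succ k 2 (by norm_num : 0 < 2),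
      I_zero, bot_sup_eq] at hp
    obtain ⟨u, hu, v, hv, rfl⟩ := Submodule.mem_sup.1 hp
    obtain ⟨u', rfl⟩ := Ideal.mem_span_singleton'.1 hu
    obtain ⟨v', rfl⟩ := Ideal.mem_span_singleton'.1 hv
    rw [map_add, map_mul, map_mul]
    apply Ideal.add_mem
    · exact Ideal.mul_mem_left _ _ (Ideal.subset_span (by simp))
    · exact Ideal.mul_mem_left _ _ (Ideal.subset_span (by simp))
  · rw [Ideal.span_le]
    rintro a (rfl | rfl)
    · change cc k (xb k) = 0
      simp [cc, xb]
    · change cc k (yb k) = 0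
      simp [cc, yb]

instance mm_isMaximal : (mm k).IsMaximal := by
  rw [← ker_cc]
  apply RingHom.ker_isMaximal_of_surjective
  intro c
  exact ⟨Ideal.Quotient.mk _ (C c), by simp [cc]⟩

/-- ranks of the periodic resolution -/
def rk : ℕ → ℕ
  | 0 => 1
  | _ + 1 => 2

/-- differentials of the periodic resolution -/
noncomputable def dd : (i : ℕ) → Matrix (Fin (rk i)) (Fin (rk (i + 1))) (A k)
  | 0 => !![xb k, yb k]
  | i + 1 => Matrix.diagonal (if Even i then ![yb k, xb k] else ![xb k, yb k])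

lemma mulVec_d0 (w : Fin 2 → A k) :
    (!![xb k, yb k] : Matrix (Fin 1) (Fin 2) (A k)).mulVec w = fun _ => xb k * w 0 + yb k * w 1 := by
  ext i
  fin_cases i
  simp [Matrix.mulVec, dotProduct, Fin.sum_univ_two]

lemma mulVec_diag (u : Fin 2 → A k) (w : Fin 2 → A k) :
    (Matrix.diagonal u).mulVec w = fun i => u i * w i := by
  ext i
  exact Matrix.mulVec_diagonal u w i

lemma ker_diag_yx (w : Fin 2 → A k) (h : (Matrix.diagonal ![yb k, xb k]).mulVec w = 0) :
    ∃ v : Fin 2 → A k, (Matrix.diagonal ![xb k, yb k]).mulVec v = w := by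
  rw [mulVec_diag] at h
  have h0 := congrFun h 0
  have h1 := congrFun h 1
  simp only [Matrix.cons_val_zero, Matrix.cons_val_one, Pi.zero_apply] at h0 h1
  obtain ⟨a, ha⟩ := ann_y k (w 0) (by rw [mul_comm]; exact h0)
  obtain ⟨b, hb⟩ := ann_x k (w 1) (by rw [mul_comm]; exact h1)
  refine ⟨![a, b], ?_⟩
  rw [mulVec_diag]
  ext i
  fin_cases i
  · simp [ha, mul_comm]
  · simp [hb, mul_comm]

lemma ker_diag_xy (w : Fin 2 → A k) (h : (Matrix.diagonal ![xb k, yb k]).mulVec w = 0) :
    ∃ v : Fin 2 → A k, (Matrix.diagonal ![yb k, xb k]).mulVec v = w := by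
  rw [mulVec_diag] at h
  have h0 := congrFun h 0
  have h1 := congrFun h 1
  simp only [Matrix.cons_val_zero, Matrix.cons_val_one, Pi.zero_apply] at h0 h1
  obtain ⟨a, ha⟩ := ann_x k (w 0) (by rw [mul_comm]; exact h0)
  obtain ⟨b, hb⟩ := ann_y k (w 1) (by rw [mul_comm]; exact h1)
  refine ⟨![a, b], ?_⟩
  rw [mulVec_diag]
  ext i
  fin_cases i
  · simp [ha, mul_comm]
  · simp [hb, mul_comm]

lemma diag_mul_diag_yx (v : Fin 2 → A k) :
    (Matrix.diagonal ![yb k, xb k]).mulVec ((Matrix.diagonal ![xb k, yb k]).mulVec v) = 0 := by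
  rw [mulVec_diag, mulVec_diag]
  ext i
  fin_cases i
  · simp [← mul_assoc, mul_comm (yb k) (xb k), xb_mul_yb]
  · simp [← mul_assoc, xb_mul_yb]

lemma diag_mul_diag_xy (v : Fin 2 → A k) :
    (Matrix.diagonal ![xb k, yb k]).mulVec ((Matrix.diagonal ![yb k, xb k]).mulVec v) = 0 := by
  rw [mulVec_diag, mulVec_diag]
  ext i
  fin_cases i
  · simp [← mul_assoc, xb_mul_yb]
  · simp [← mul_assoc, mul_comm (yb k) (xb k), xb_mul_yb]

lemma ez : LinearMap.ker ((Submodule.mkQ (mm k)) ∘ₗ (LinearMap.proj (0 : Fin 1)) :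
      (Fin 1 → A k) →ₗ[A k] (A k ⧸ mm k)) =
    LinearMap.range (Matrix.mulVecLin (!![xb k, yb k] : Matrix (Fin 1) (Fin 2) (A k))) := by
  ext v
  rw [LinearMap.mem_ker, LinearMap.mem_range]
  change Submodule.Quotient.mk (v 0) = 0 ↔ _
  rw [Submodule.Quotient.mk_eq_zero, Ideal.mem_span_pair]
  constructor
  · rintro ⟨a, b, hab⟩
    refine ⟨![a, b], ?_⟩
    change (!![xb k, yb k] : Matrix (Fin 1) (Fin 2) (A k)).mulVec ![a, b] = v
    rw [mulVec_d0]
    ext i
    fin_cases i
    simp [← hab, mul_comm]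
  · rintro ⟨w, hw⟩
    change (!![xb k, yb k] : Matrix (Fin 1) (Fin 2) (A k)).mulVec w = v at hw
    rw [mulVec_d0] at hw
    refine ⟨w 0, w 1, ?_⟩
    rw [← hw]
    ring

lemma es0 : LinearMap.ker (Matrix.mulVecLin (!![xb k, yb k] : Matrix (Fin 1) (Fin 2) (A k))) =
    LinearMap.range (Matrix.mulVecLin (Matrix.diagonal ![yb k, xb k])) := by
  ext w
  rw [LinearMap.mem_ker, LinearMap.mem_range]
  change (!![xb k, yb k] : Matrix (Fin 1) (Fin 2) (A k)).mulVec w = 0 ↔
    ∃ v, (Matrix.diagonal ![yb k, xb k]).mulVec v = w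
  rw [mulVec_d0]
  constructor
  · intro h
    have h0 := congrFun h 0
    simp only [Pi.zero_apply] at h0
    obtain ⟨a, b, ha, hb⟩ := ker_xy k (w 0) (w 1)
      (by rw [mul_comm (w 0), mul_comm (w 1)]; exact h0)
    refine ⟨![a, b], ?_⟩
    rw [mulVec_diag]
    ext j
    fin_cases j
    · simp [ha, mul_comm]
    · simp [hb, mul_comm]
  · rintro ⟨v, rfl⟩
    rw [mulVec_diag]
    ext j
    simp only [Matrix.cons_val_zero, Matrix.cons_val_one, Pi.zero_apply]
    have := xb_mul_yb k
    calc xb k * (yb k * v 0) + yb k * (xb k * v 1)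
        = (xb k * yb k) * v 0 + (xb k * yb k) * v 1 := by ring
      _ = 0 := by rw [this]; ring

lemma es_yx : LinearMap.ker (Matrix.mulVecLin (Matrix.diagonal ![yb k, xb k])) =
    LinearMap.range (Matrix.mulVecLin (Matrix.diagonal ![xb k, yb k])) := by
  ext w
  rw [LinearMap.mem_ker, LinearMap.mem_range]
  constructor
  · exact ker_diag_yx k w
  · rintro ⟨v, rfl⟩
    exact diag_mul_diag_yx k v

lemma es_xy : LinearMap.ker (Matrix.mulVecLin (Matrix.diagonal ![xb k, yb k])) =
    LinearMap.range (Matrix.mulVecLin (Matrix.diagonal ![yb k, xb k])) := by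
  ext w
  rw [LinearMap.mem_ker, LinearMap.mem_range]
  constructor
  · exact ker_diag_xy k w
  · rintro ⟨v, rfl⟩
    exact diag_mul_diag_xy k v

/-- the periodic resolution of the residue field of the node -/
noncomputable def res : MatRes (A k) (A k ⧸ mm k) where
  rk := rk
  d := dd k
  aug := (Submodule.mkQ (mm k)) ∘ₗ (LinearMap.proj (0 : Fin 1))
  aug_surjective := by
    intro y
    obtain ⟨a, rfl⟩ := Submodule.Quotient.mk_surjective _ y
    exact ⟨fun _ => a, rfl⟩
  exact_zero := ez k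
  exact_succ := by
    intro i
    cases i with
    | zero => exact es0 k
    | succ i =>
      by_cases hi : Even i
      · have hi' : ¬ Even (i + 1) := by
          rw [Nat.even_add_one]; exact not_not.2 hi
        change LinearMap.ker (Matrix.mulVecLin (Matrix.diagonal
            (if Even i then ![yb k, xb k] else ![xb k, yb k]))) =
          LinearMap.range (Matrix.mulVecLin (Matrix.diagonal
            (if Even (i + 1) then ![yb k, xb k] else ![xb k, yb k])))
        rw [if_pos hi, if_neg hi']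
        exact es_yx k
      · have hi' : Even (i + 1) := by
          rw [Nat.even_add_one]; exact hi
        change LinearMap.ker (Matrix.mulVecLin (Matrix.diagonal
            (if Even i then ![yb k, xb k] else ![xb k, yb k]))) =
          LinearMap.range (Matrix.mulVecLin (Matrix.diagonal
            (if Even (i + 1) then ![yb k, xb k] else ![xb k, yb k])))
        rw [if_neg hi, if_pos hi']
        exact es_xy k

lemma d0_mem (a : Fin 1) (b : Fin 2) :
    (!![xb k, yb k] : Matrix (Fin 1) (Fin 2) (A k)) a b ∈ mm k := by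
  have hx : xb k ∈ mm k := Ideal.subset_span (by simp)
  have hy : yb k ∈ mm k := Ideal.subset_span (by simp)
  fin_cases a
  fin_cases b
  · exact hx
  · exact hy

lemma diag_mem (u : Fin 2 → A k) (hu : ∀ i, u i ∈ mm k) (a b : Fin 2) :
    Matrix.diagonal u a b ∈ mm k := by
  rw [Matrix.diagonal_apply]
  split_ifs
  · exact hu a
  · exact Ideal.zero_mem _

lemma res_entries_mem (i : ℕ) (a : Fin ((res k).rk i)) (b : Fin ((res k).rk (i + 1))) :
    (res k).d i a b ∈ mm k := by
  have hx : xb k ∈ mm k := Ideal.subset_span (by simp)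
  have hy : yb k ∈ mm k := Ideal.subset_span (by simp)
  cases i with
  | zero => exact d0_mem k a b
  | succ i =>
    apply diag_mem k
    intro j
    split_ifs
    · fin_cases j
      · exact hy
      · exact hx
    · fin_cases j
      · exact hx
      · exact hy

theorem length_tor_node (i : ℕ) (hi : 1 ≤ i) :
    Module.length (A k)
      (((Tor (ModuleCat.{u} (A k)) i).obj (ModuleCat.of (A k) (A k ⧸ mm k))).obj
        (ModuleCat.of (A k) (A k ⧸ mm k))) = 2 := by
  rw [MatRes.length_tor (res k) (mm k) (res_entries_mem k) i]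
  obtain ⟨j, rfl⟩ : ∃ j, i = j + 1 := ⟨i - 1, by omega⟩
  rfl

theorem no_pd (n : ℕ) :
    ¬ HasProjectiveDimensionLT (ModuleCat.of (A k) (A k ⧸ mm k)) n := by
  intro hn
  have hn' : HasProjectiveDimensionLE (ModuleCat.of (A k) (A k ⧸ mm k)) n :=
    hasProjectiveDimensionLT_of_ge _ n (n + 1) (by omega)
  have hz := Groth.Agent.S14414.result (A k) (ModuleCat.of (A k) (A k ⧸ mm k))
    (ModuleCat.of (A k) (A k ⧸ mm k)) n (n + 1) (by omega)
  have hl := length_tor_node k (n + 1) (by omega)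
  rw [ModuleCat.isZero_iff_subsingleton] at hz
  rw [← Module.length_eq_zero_iff (R := A k)] at hz
  rw [hz] at hl
  exact absurd hl (by norm_num)

end helpers


/-- Let k be a field, A = k[x, y]/(xy) (x = X_0, y = X_1) and κ = A/(x, y) the residue field at the
origin, viewed as an A-module. Then for every i ≥ 1 the A-module Tor_i^A(κ, κ) has length 2 (it is a
two-dimensional κ-vector space; Tor_0 is κ), and κ admits no finite projective resolution over A:
for no n is its projective dimension less than n. -/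
theorem result (k : Type u) [Field k] :
    (∀ i : ℕ, 1 ≤ i →
      Module.length (MvPolynomial (Fin 2) k ⧸ Ideal.span {(MvPolynomial.X 0 * MvPolynomial.X 1 : MvPolynomial (Fin 2) k)}) ((((Tor (ModuleCat.{u} (MvPolynomial (Fin 2) k ⧸ Ideal.span {(MvPolynomial.X 0 * MvPolynomial.X 1 : MvPolynomial (Fin 2) k)})) i).obj (ModuleCat.of (MvPolynomial (Fin 2) k ⧸ Ideal.span {(MvPolynomial.X 0 * MvPolynomial.X 1 : MvPolynomial (Fin 2) k)}) ((MvPolynomial (Fin 2) k ⧸ Ideal.span {(MvPolynomial.X 0 * MvPolynomial.X 1 : MvPolynomial (Fin 2) k)}) ⧸ Ideal.span {Ideal.Quotient.mk (Ideal.span {(MvPolynomial.X 0 * MvPolynomial.X 1 : MvPolynomial (Fin 2) k)}) (MvPolynomial.X 0), Ideal.Quotient.mk (Ideal.span {(MvPolynomial.X 0 * MvPolynomial.X 1 : MvPolynomial (Fin 2) k)}) (MvPolynomial.X 1)}))).obj (ModuleCat.of (MvPolynomial (Fin 2) k ⧸ Ideal.span {(MvPolynomial.X 0 * MvPolynomial.X 1 : MvPolynomial (Fin 2) k)}) ((MvPolynomial (Fin 2) k ⧸ Ideal.span {(MvPolynomial.X 0 * MvPolynomial.X 1 :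 MvPolynomial (Fin 2) k)}) ⧸ Ideal.span {Ideal.Quotient.mk (Ideal.span {(MvPolynomial.X 0 * MvPolynomial.X 1 : MvPolynomial (Fin 2) k)}) (MvPolynomial.X 0), Ideal.Quotient.mk (Ideal.span {(MvPolynomial.X 0 * MvPolynomial.X 1 : MvPolynomial (Fin 2) k)}) (MvPolynomial.X 1)}))) : Type u) = 2) ∧
    ∀ n : ℕ, ¬ HasProjectiveDimensionLT (ModuleCat.of (MvPolynomial (Fin 2) k ⧸ Ideal.span {(MvPolynomial.X 0 * MvPolynomial.X 1 : MvPolynomial (Fin 2) k)}) ((MvPolynomial (Fin 2) k ⧸ Ideal.span {(MvPolynomial.X 0 * MvPolynomial.X 1 : MvPolynomial (Fin 2) k)}) ⧸ Ideal.span {Ideal.Quotient.mk (Ideal.span {(MvPolynomial.X 0 * MvPolynomial.X 1 : MvPolynomial (Fin 2) k)}) (MvPolynomial.X 0), Ideal.Quotient.mk (Ideal.span {(MvPolynomial.X 0 * MvPolynomial.X 1 : MvPolynomial (Fin 2) k)}) (MvPolynomial.X 1)})) n := by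
  exact ⟨fun i hi => length_tor_node k i hi, no_pd k⟩

end Groth.Agent.S16243
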