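import Groth.Statements.S16244
import Mathlib

set_option autoImplicit false
universe u
open Curves

namespace Groth.Agent.S16244

section Aux

open WeierstrassCurve

variable {k : Type u} [Field k]

lemma mem_stab_iff (h2 : (2 : k) ≠ 0) (h3 : (3 : k) ≠ 0)
    (W : WeierstrassCurve k) [W.IsShortNF] (C : VariableChange k) :
    C ∈ MulAction.stabilizer (VariableChange k) W ↔
      C.r = 0 ∧ C.s = 0 ∧ C.t = 0 ∧ (C.u : k) ^ 4 * W.a₄ = W.a₄ ∧ (C.u : k) ^ 6 * W.a₆ = W.a₆ := by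
  have hu : (C.u : k) ≠ 0 := C.u.ne_zero
  have hui : ((C.u⁻¹ : kˣ) : k) ≠ 0 := (C.u⁻¹).ne_zero
  have huu : ((C.u⁻¹ : kˣ) : k) * (C.u : k) = 1 := by simp
  rw [MulAction.mem_stabilizer_iff, WeierstrassCurve.ext_iff]
  simp only [variableChange_a₁, variableChange_a₂, variableChange_a₃, variableChange_a₄,
    variableChange_a₆, a₁_of_isShortNF, a₂_of_isShortNF, a₃_of_isShortNF]
  constructor
  · rintro ⟨e1, e2, e3, e4, e6⟩
    have hs : C.s = 0 := by
      have := (mul_eq_zero.mp e1).resolve_left hui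
      have : 2 * C.s = 0 := by linear_combination this
      exact (mul_eq_zero.mp this).resolve_left h2
    have hr : C.r = 0 := by
      have := (mul_eq_zero.mp e2).resolve_left (pow_ne_zero _ hui)
      rw [hs] at this
      have : 3 * C.r = 0 := by linear_combination this
      exact (mul_eq_zero.mp this).resolve_left h3
    have ht : C.t = 0 := by
      have := (mul_eq_zero.mp e3).resolve_left (pow_ne_zero _ hui)
      rw [hr] at this
      have : 2 * C.t = 0 := by linear_combination this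
      exact (mul_eq_zero.mp this).resolve_left h2
    refine ⟨hr, hs, ht, ?_, ?_⟩
    · rw [hr, hs, ht] at e4
      have e4' : ((C.u⁻¹ : kˣ) : k) ^ 4 * W.a₄ = W.a₄ := by linear_combination e4
      calc (C.u : k) ^ 4 * W.a₄ = (C.u : k) ^ 4 * (((C.u⁻¹ : kˣ) : k) ^ 4 * W.a₄) := by rw [e4']
        _ = (((C.u⁻¹ : kˣ) : k) * (C.u : k)) ^ 4 * W.a₄ := by ring
        _ = W.a₄ := by rw [huu]; ring
    · rw [hr, ht] at e6
      have e6' : ((C.u⁻¹ : kˣ) : k) ^ 6 * W.a₆ = W.a₆ := by linear_combination e6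
      calc (C.u : k) ^ 6 * W.a₆ = (C.u : k) ^ 6 * (((C.u⁻¹ : kˣ) : k) ^ 6 * W.a₆) := by rw [e6']
        _ = (((C.u⁻¹ : kˣ) : k) * (C.u : k)) ^ 6 * W.a₆ := by ring
        _ = W.a₆ := by rw [huu]; ring
  · rintro ⟨hr, hs, ht, e4, e6⟩
    rw [hr, hs, ht]
    refine ⟨by simp, by simp, by simp, ?_, ?_⟩
    · calc ((C.u⁻¹ : kˣ) : k) ^ 4 * (W.a₄ - 0 * 0 + 2 * 0 * 0 - (0 + 0 * 0) * 0 + 3 * 0 ^ 2
            - 2 * 0 * 0) = ((C.u⁻¹ : kˣ) : k) ^ 4 * W.a₄ := by ring
        _ = ((C.u⁻¹ : kˣ) : k) ^ 4 * ((C.u : k) ^ 4 * W.a₄) := by rw [e4]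
        _ = (((C.u⁻¹ : kˣ) : k) * (C.u : k)) ^ 4 * W.a₄ := by ring
        _ = W.a₄ := by rw [huu]; ring
    · calc ((C.u⁻¹ : kˣ) : k) ^ 6 * (W.a₆ + 0 * W.a₄ + 0 ^ 2 * 0 + 0 ^ 3 - 0 * 0 - 0 ^ 2
            - 0 * 0 * 0) = ((C.u⁻¹ : kˣ) : k) ^ 6 * W.a₆ := by ring
        _ = ((C.u⁻¹ : kˣ) : k) ^ 6 * ((C.u : k) ^ 6 * W.a₆) := by rw [e6]
        _ = (((C.u⁻¹ : kˣ) : k) * (C.u : k)) ^ 6 * W.a₆ := by ring
        _ = W.a₆ := by rw [huu]; ring

/-- The equivalence with roots of unity. -/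
noncomputable def stabEquiv (W : WeierstrassCurve k) (n : ℕ)
    (hstab : ∀ C : VariableChange k, C ∈ MulAction.stabilizer (VariableChange k) W ↔
      C.r = 0 ∧ C.s = 0 ∧ C.t = 0 ∧ C.u ^ n = 1) :
    ↥(MulAction.stabilizer (VariableChange k) W) ≃* ↥(rootsOfUnity n k) where
  toFun C := ⟨C.1.u, (mem_rootsOfUnity n _).mpr ((hstab C.1).mp C.2).2.2.2⟩
  invFun u := ⟨⟨u.1, 0, 0, 0⟩, (hstab _).mpr ⟨rfl, rfl, rfl, (mem_rootsOfUnity n _).mp u.2⟩⟩
  left_inv C := by
    obtain ⟨hr, hs, ht, -⟩ := (hstab C.1).mp C.2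
    apply Subtype.ext
    ext
    · rfl
    · exact hr.symm
    · exact hs.symm
    · exact ht.symm
  right_inv u := rfl
  map_mul' C C' := rfl

lemma units_pow_eq_one_iff (u : kˣ) (n : ℕ) : u ^ n = 1 ↔ (u : k) ^ n = 1 := by
  rw [← Units.val_inj, Units.val_pow_eq_pow_val, Units.val_one]

theorem main [IsAlgClosed k] (h2 : (2 : k) ≠ 0) (h3 : (3 : k) ≠ 0)
    (W : WeierstrassCurve k) [W.IsShortNF] (hΔ : W.Δ ≠ 0) :
    IsCyclic ↥(MulAction.stabilizer (VariableChange k) W) ∧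
      (W.a₄ = 0 → Nat.card ↥(MulAction.stabilizer (VariableChange k) W) = 6) ∧
      (W.a₆ = 0 → Nat.card ↥(MulAction.stabilizer (VariableChange k) W) = 4) ∧
      (W.a₄ ≠ 0 → W.a₆ ≠ 0 → Nat.card ↥(MulAction.stabilizer (VariableChange k) W) = 2) := by
  have hΔ' := hΔ
  rw [Δ_of_isShortNF] at hΔ'
  have hne : ¬ (W.a₄ = 0 ∧ W.a₆ = 0) := by
    rintro ⟨h4, h6⟩
    apply hΔ'
    rw [h4, h6]; ring
  have n2 : NeZero ((2 : ℕ) : k) := ⟨by exact_mod_cast h2⟩
  have n4 : NeZero ((4 : ℕ) : k) := ⟨by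
    have : (4 : k) = 2 * 2 := by norm_num
    push_cast; rw [this]; exact mul_ne_zero h2 h2⟩
  have n6 : NeZero ((6 : ℕ) : k) := ⟨by
    have : (6 : k) = 2 * 3 := by norm_num
    push_cast; rw [this]; exact mul_ne_zero h2 h3⟩
  -- the three cases
  have case6 : W.a₄ = 0 → ∀ C : VariableChange k, C ∈ MulAction.stabilizer (VariableChange k) W ↔
      C.r = 0 ∧ C.s = 0 ∧ C.t = 0 ∧ C.u ^ 6 = 1 := by
    intro h4 C
    have h6 : W.a₆ ≠ 0 := fun h => hne ⟨h4, h⟩
    rw [mem_stab_iff h2 h3, units_pow_eq_one_iff, h4]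
    constructor
    · rintro ⟨hr, hs, ht, -, e6⟩
      refine ⟨hr, hs, ht, ?_⟩
      have : ((C.u : k) ^ 6 - 1) * W.a₆ = 0 := by linear_combination e6
      have := (mul_eq_zero.mp this).resolve_right h6
      linear_combination this
    · rintro ⟨hr, hs, ht, e⟩
      exact ⟨hr, hs, ht, by simp, by rw [e, one_mul]⟩
  have case4 : W.a₆ = 0 → ∀ C : VariableChange k, C ∈ MulAction.stabilizer (VariableChange k) W ↔
      C.r = 0 ∧ C.s = 0 ∧ C.t = 0 ∧ C.u ^ 4 = 1 := by
    intro h6 C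
    have h4 : W.a₄ ≠ 0 := fun h => hne ⟨h, h6⟩
    rw [mem_stab_iff h2 h3, units_pow_eq_one_iff, h6]
    constructor
    · rintro ⟨hr, hs, ht, e4, -⟩
      refine ⟨hr, hs, ht, ?_⟩
      have : ((C.u : k) ^ 4 - 1) * W.a₄ = 0 := by linear_combination e4
      have := (mul_eq_zero.mp this).resolve_right h4
      linear_combination this
    · rintro ⟨hr, hs, ht, e⟩
      exact ⟨hr, hs, ht, by rw [e, one_mul], by simp⟩
  have case2 : W.a₄ ≠ 0 → W.a₆ ≠ 0 → ∀ C : VariableChange k,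
      C ∈ MulAction.stabilizer (VariableChange k) W ↔
      C.r = 0 ∧ C.s = 0 ∧ C.t = 0 ∧ C.u ^ 2 = 1 := by
    intro h4 h6 C
    rw [mem_stab_iff h2 h3, units_pow_eq_one_iff]
    constructor
    · rintro ⟨hr, hs, ht, e4, e6⟩
      refine ⟨hr, hs, ht, ?_⟩
      have e4' : (C.u : k) ^ 4 = 1 := by
        have : ((C.u : k) ^ 4 - 1) * W.a₄ = 0 := by linear_combination e4
        have := (mul_eq_zero.mp this).resolve_right h4
        linear_combination this
      have e6' : (C.u : k) ^ 6 = 1 := by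
        have : ((C.u : k) ^ 6 - 1) * W.a₆ = 0 := by linear_combination e6
        have := (mul_eq_zero.mp this).resolve_right h6
        linear_combination this
      calc (C.u : k) ^ 2 = (C.u : k) ^ 2 * (C.u : k) ^ 4 := by rw [e4', mul_one]
        _ = (C.u : k) ^ 6 := by ring
        _ = 1 := e6'
    · rintro ⟨hr, hs, ht, e⟩
      refine ⟨hr, hs, ht, ?_, ?_⟩
      · have : (C.u : k) ^ 4 = ((C.u : k) ^ 2) ^ 2 := by ring
        rw [this, e]; ring
      · have : (C.u : k) ^ 6 = ((C.u : k) ^ 2) ^ 3 := by ring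
        rw [this, e]; ring
  have card6 : W.a₄ = 0 → Nat.card ↥(MulAction.stabilizer (VariableChange k) W) = 6 := fun h => by
    rw [Nat.card_congr (stabEquiv W 6 (case6 h)).toEquiv]
    exact HasEnoughRootsOfUnity.natCard_rootsOfUnity k 6
  have card4 : W.a₆ = 0 → Nat.card ↥(MulAction.stabilizer (VariableChange k) W) = 4 := fun h => by
    rw [Nat.card_congr (stabEquiv W 4 (case4 h)).toEquiv]
    exact HasEnoughRootsOfUnity.natCard_rootsOfUnity k 4
  have card2 : W.a₄ ≠ 0 → W.a₆ ≠ 0 →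
      Nat.card ↥(MulAction.stabilizer (VariableChange k) W) = 2 := fun h h' => by
    rw [Nat.card_congr (stabEquiv W 2 (case2 h h')).toEquiv]
    exact HasEnoughRootsOfUnity.natCard_rootsOfUnity k 2
  refine ⟨?_, card6, card4, card2⟩
  by_cases h4 : W.a₄ = 0
  · exact (stabEquiv W 6 (case6 h4)).symm.isCyclic.mp inferInstance
  · by_cases h6 : W.a₆ = 0
    · exact (stabEquiv W 4 (case4 h6)).symm.isCyclic.mp inferInstance
    · exact (stabEquiv W 2 (case2 h4 h6)).symm.isCyclic.mp inferInstance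


end Aux

/-- Let k be an algebraically closed field in which 2 and 3 are nonzero, and W a short Weierstrass
equation y² = x³ + a₄x + a₆ over k with nonzero discriminant. The admissible changes of variables
(u, r, s, t) that fix W form a cyclic group, of order 6 when a₄ = 0, of order 4 when a₆ = 0, and of
order 2 when a₄ and a₆ are both nonzero. (The published statement says the automorphism group of the
elliptic curve is cyclic of order 2, 4 or 6; the automorphisms are rendered here as the changes of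
variables preserving the equation, and the case distinction is the one the computation gives.) -/
theorem result
    (k : Type u) [Field k] [IsAlgClosed k] (h2 : (2 : k) ≠ 0) (h3 : (3 : k) ≠ 0)
    (W : WeierstrassCurve k) [W.IsShortNF] (hΔ : W.Δ ≠ 0) :
    IsCyclic ↥(MulAction.stabilizer (WeierstrassCurve.VariableChange k) W) ∧
      (W.a₄ = 0 → Nat.card ↥(MulAction.stabilizer (WeierstrassCurve.VariableChange k) W) = 6) ∧
      (W.a₆ = 0 → Nat.card ↥(MulAction.stabilizer (WeierstrassCurve.VariableChange k) W) = 4) ∧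
      (W.a₄ ≠ 0 → W.a₆ ≠ 0 → Nat.card ↥(MulAction.stabilizer (WeierstrassCurve.VariableChange k) W) = 2) := by
  exact main h2 h3 W hΔ

end Groth.Agent.S16244
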