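import Groth.Statements.S16251
-- import your own Groth.Agent.* helpers here
import Groth.Agent.Lib.Helper23.ConstrSub
import Groth.Agent.Lib.Helper23.StrataRefine

set_option autoImplicit false
open CategoryTheory CategoryTheory.Limits AlgebraicGeometry Opposite
universe u
open EtPBC

namespace Groth.Agent.S16251

open Groth.Agent.Lib.Helper23

variable {X : Scheme.{u}}

lemma epi_of_isQuot {I : Ideal ℤ} {A Q : EtCoh.Ab X} (p : A ⟶ Q) (h : ARSys.IsQuot I p) :
    Epi p := by
  constructor
  intro Z a b hab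
  have hk : ARSys.HomKilledBy I (p ≫ a) := by
    intro c hc
    have e1 : c • (p ≫ a) = p ≫ ((c • 𝟙 Q) ≫ a) := by
      rw [Linear.smul_comp, Category.id_comp, Linear.comp_smul]
    rw [e1, h.1 c hc, zero_comp, comp_zero]
  obtain ⟨ψ, -, hu⟩ := h.2 Z (p ≫ a) hk
  exact (hu a rfl).trans (hu b hab.symm).symm

lemma step [IsLocallyNoetherian X] (ℓ : ℤ) (n : ℕ) {A Q Q₀ : EtCoh.Ab X} (p : A ⟶ Q) (p₀ : A ⟶ Q₀)
    (hp : ARSys.IsQuot (Ideal.span {ℓ} ^ (n + 1)) p)
    (hp₀ : ARSys.IsQuot (Ideal.span {ℓ} ^ (0 + 1)) p₀)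
    (hA : ARSys.KilledBy (Ideal.span {ℓ} ^ (n + 1 + 1)) A)
    (hQ : EtPBC.IsConstructible Q) (hQ₀ : EtPBC.IsConstructible Q₀) :
    EtPBC.IsConstructible A := by
  haveI : Epi p := epi_of_isQuot p hp
  let m : A ⟶ A := (ℓ ^ (n + 1)) • 𝟙 A
  let I : EtCoh.Ab X := Abelian.image m
  let e : A ⟶ I := Abelian.factorThruImage m
  let ι : I ⟶ A := Abelian.image.ι m
  have hfac : e ≫ ι = m := Abelian.image.fac m
  -- `I` is a quotient of `Q₀`
  have he : ARSys.HomKilledBy (Ideal.span {ℓ} ^ (0 + 1)) e := by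
    intro c hc
    rw [zero_add, pow_one, Ideal.mem_span_singleton'] at hc
    obtain ⟨d, rfl⟩ := hc
    have h1 : ((d * ℓ) • e) ≫ ι = 0 := by
      rw [Linear.smul_comp, hfac]
      have h2 : (d * ℓ) • m = (d * ℓ ^ (n + 1 + 1)) • 𝟙 A := by
        simp only [m, smul_smul]
        congr 1
        ring
      rw [h2]
      exact hA _ (Ideal.mul_mem_left _ _ (Ideal.pow_mem_pow (Ideal.mem_span_singleton_self ℓ) _))
    exact (cancel_mono ι).1 (h1.trans zero_comp.symm)
  obtain ⟨ψ, hψ, -⟩ := hp₀.2 I e he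
  haveI : Epi (p₀ ≫ ψ) := by rw [hψ]; infer_instance
  haveI : Epi ψ := epi_of_epi p₀ ψ
  have hI : EtPBC.IsConstructible I := ConstrSub.constructible_of_epi ψ hQ₀
  -- the kernel of `p` embeds into `I`
  let q : A ⟶ cokernel m := cokernel.π m
  have hq : ARSys.HomKilledBy (Ideal.span {ℓ} ^ (n + 1)) q := by
    intro c hc
    rw [Ideal.span_singleton_pow, Ideal.mem_span_singleton'] at hc
    obtain ⟨d, rfl⟩ := hc
    have h1 : (d * ℓ ^ (n + 1)) • q = (d • m) ≫ q := by
      simp only [m, Linear.smul_comp, Category.id_comp, smul_smul]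
    rw [h1, Linear.smul_comp, cokernel.condition, smul_zero]
  obtain ⟨ψ', hψ', -⟩ := hp.2 _ q hq
  have hk : kernel.ι p ≫ q = 0 := by
    rw [← hψ', ← Category.assoc, kernel.condition, zero_comp]
  let t : kernel p ⟶ I := kernel.lift (cokernel.π m) (kernel.ι p) hk
  have ht : t ≫ ι = kernel.ι p := kernel.lift_ι _ _ _
  haveI : Mono (t ≫ ι) := by rw [ht]; infer_instance
  haveI : Mono t := mono_of_mono t ι
  have hK : EtPBC.IsConstructible (kernel p) := ConstrSub.constructible_of_mono t hI
  let S : ShortComplex (EtCoh.Ab X) := ShortComplex.mk (kernel.ι p) p (kernel.condition p)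
  have hS : S.ShortExact :=
    { exact := ShortComplex.exact_of_f_is_kernel _ (kernelIsKernel p)
      mono_f := inferInstanceAs (Mono (kernel.ι p))
      epi_g := inferInstanceAs (Epi p) }
  exact Strata.constructible_extension hS hK hQ

/-- Let ℓ be a prime, X a locally Noetherian scheme and F = (F_n) an ℓ-adic projective system of abelian
sheaves on the small étale site of X, indexed from 0 (so ℓ^(n+1) F_n = 0 and, for n ≤ m, the
transition map F_m ⟶ F_n is a quotient map modulo ℓ^(n+1)). If the first member F_0 is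
constructible, then every member F_n is constructible. (The converse is trivial. The published
statement indexes the system from 1, with ℓ^n killing the n-th member; the statement here indexes it
from 0.) -/
theorem result (ℓ : ℕ) [Fact ℓ.Prime]
    (X : Scheme.{u}) [IsLocallyNoetherian X]
    (F : ARSys.PS (EtCoh.Ab X)) (hF : ARSys.IsAdic (Ideal.span {(ℓ : ℤ)}) F)
    (h0 : EtPBC.IsConstructible (F.obj (op 0))) (n : ℕ) :
    EtPBC.IsConstructible (F.obj (op n)) := by
  induction n with
  | zero => exact h0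
  | succ n ih =>
    exact step (ℓ : ℤ) n (ARSys.tr F (Nat.le_succ n)) (ARSys.tr F (Nat.zero_le (n + 1)))
      (hF.2 n (n + 1) (Nat.le_succ n)) (hF.2 0 (n + 1) (Nat.zero_le _)) (hF.1 (n + 1)) ih h0

end Groth.Agent.S16251
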