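import Groth.Statements.S16253
import Groth.Agent.Lib.Helper5.JacH
import Groth.Agent.Lib.Helper5.JacI

set_option autoImplicit false
universe u
open CategoryTheory CategoryTheory.Limits AlgebraicGeometry TopologicalSpace
open SDiv

namespace Groth.Agent.S16253

/-- Let f : X ⟶ Y be locally of finite presentation and quasi-separated and p ≥ 0, and let J^p(X/Y) ⊆ X
be the closed subset cut out by the p-th Fitting ideal of the module of differentials Ω_{X/Y} (the
p-th Jacobian locus). Then a point x of X lies outside J^p(X/Y) if and only if x has an open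
neighbourhood U admitting a closed immersion over Y into a Y-scheme U' which is smooth of relative
dimension p over Y. (The published statement takes f of finite presentation and asks U' smooth over
Y with fibre dimension p at x; after shrinking U' this is smoothness of relative dimension p.
Quasi-separatedness of f is assumed because the module Ω_{X/Y} used here is defined for such f.) -/
theorem result
    {X Y : Scheme.{u}} (f : X ⟶ Y) [LocallyOfFinitePresentation f] [QuasiSeparated f] (p : ℕ) (x : ↥X) :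
    x ∉ (Fitt.sheafIdeal (Omega.sheaf f) p).support ↔
      ∃ (U : X.Opens) (U' : Scheme.{u}) (i : (U : Scheme.{u}) ⟶ U') (g : U' ⟶ Y),
        x ∈ U ∧ IsClosedImmersion i ∧ SmoothOfRelativeDimension p g ∧ i ≫ g = U.ι ≫ f := by
  constructor
  · intro h
    obtain ⟨D, V, hD, hV, hx, e⟩ := Groth.Agent.Lib.Helper29.OmegaLoc.exists_affine_pair f x
    have H := (Groth.Agent.Lib.Helper5.Jac.not_mem_support_iff_finrank f p hD hV e x hx).1 h
    exact Groth.Agent.Lib.Helper5.Jac.exists_closedImmersion_of_finrank f p hD hV e x hx H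
  · rintro ⟨U, U', i, g, hxU, hci, hsm, hcomm⟩
    obtain ⟨V₁, hV₁, W₁, hW₁, hzW₁, e₁, hstd⟩ :=
      hsm.exists_isStandardSmoothOfRelativeDimension (i ⟨x, hxU⟩)
    haveI : IsClosedImmersion (i ∣_ W₁) := inferInstance
    obtain ⟨hD, e, ρ, hρ, hcomp⟩ :=
      Groth.Agent.Lib.Helper5.Jac.exists_chart_ringHom f U i g hcomm (V := V₁) hW₁ e₁
    have hxD : x ∈ U.ι ''ᵁ (i ⁻¹ᵁ W₁) := ⟨⟨x, hxU⟩, hzW₁, rfl⟩
    refine (Groth.Agent.Lib.Helper5.Jac.not_mem_support_iff_finrank f p hD hV₁ e x hxD).2 ?_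
    letI a1 : Algebra Γ(Y, V₁) Γ(U', W₁) := (g.appLE V₁ W₁ e₁).hom.toAlgebra
    letI a2 : Algebra Γ(Y, V₁) Γ(X, U.ι ''ᵁ (i ⁻¹ᵁ W₁)) :=
      (f.appLE V₁ (U.ι ''ᵁ (i ⁻¹ᵁ W₁)) e).hom.toAlgebra
    letI a3 : Algebra Γ(U', W₁) Γ(X, U.ι ''ᵁ (i ⁻¹ᵁ W₁)) := ρ.toAlgebra
    haveI : IsScalarTower Γ(Y, V₁) Γ(U', W₁) Γ(X, U.ι ''ᵁ (i ⁻¹ᵁ W₁)) :=
      IsScalarTower.of_algebraMap_eq fun a => by
        change (f.appLE V₁ (U.ι ''ᵁ (i ⁻¹ᵁ W₁)) e).hom a = ρ ((g.appLE V₁ W₁ e₁).hom a)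
        rw [← hcomp]
        rfl
    haveI : Algebra.IsStandardSmoothOfRelativeDimension p Γ(Y, V₁) Γ(U', W₁) := hstd
    haveI : Algebra.IsStandardSmooth Γ(Y, V₁) Γ(U', W₁) :=
      Algebra.IsStandardSmoothOfRelativeDimension.isStandardSmooth p
    haveI : Nontrivial Γ(U', W₁) := by
      haveI : Nonempty W₁ := ⟨⟨i ⟨x, hxU⟩, hzW₁⟩⟩
      exact (Scheme.component_nontrivial U' W₁)
    have hrank : Module.finrank Γ(U', W₁) Ω[Γ(U', W₁)⁄Γ(Y, V₁)] = p :=
      Module.finrank_eq_of_rank_eq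
        (Algebra.IsStandardSmoothOfRelativeDimension.rank_kaehlerDifferential p)
    have := Groth.Agent.Lib.Helper5.Jac.finrank_le_of_surjective (A := Γ(Y, V₁)) (Pr := Γ(U', W₁))
      (B := Γ(X, U.ι ''ᵁ (i ⁻¹ᵁ W₁))) hρ (hD.primeIdealOf ⟨x, hxD⟩).asIdeal
    rw [hrank] at this
    exact this

end Groth.Agent.S16253
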