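import Groth.Statements.S16256
import Groth.Agent.Lib.Helper5.JacD
import Groth.Agent.Lib.Helper5.JacE
import Groth.Agent.Lib.Helper5.JacF

set_option autoImplicit false
universe u
open CategoryTheory CategoryTheory.Limits AlgebraicGeometry TopologicalSpace
open SDiv

namespace Groth.Agent.S16256

/-- Let f : Y ⟶ X be locally of finite presentation and quasi-separated, m ≥ 0, and y a point of Y near
which f is a local complete intersection of virtual dimension m, in the factorisation sense: some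
open neighbourhood U of y admits a Koszul-regular immersion i of constant codimension c into a
scheme P smooth of relative dimension m + c over X, compatibly with f. Then f is smooth on some open
neighbourhood of y if and only if y does not lie in the m-th Jacobian locus of Y over X, the closed
subset cut out by the m-th Fitting ideal of Ω_{Y/X}. (Quasi-separatedness of f is assumed because
the module Ω_{Y/X} used here is defined for such f.) -/
theorem result
    {Y X : Scheme.{u}} (f : Y ⟶ X) [LocallyOfFinitePresentation f] [QuasiSeparated f] (m : ℕ) (y : ↥Y)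
    (hlci : ∃ (U : Y.Opens) (P : Scheme.{u}) (i : (U : Scheme.{u}) ⟶ P) (π : P ⟶ X) (c : ℕ),
      y ∈ U ∧ RegImm.IsRegularImmersionOfCodim RegImm.Kind.koszul c i ∧
        SmoothOfRelativeDimension (m + c) π ∧ i ≫ π = U.ι ≫ f) :
    (∃ V : Y.Opens, y ∈ V ∧ Smooth (V.ι ≫ f)) ↔ y ∉ (Fitt.sheafIdeal (Omega.sheaf f) m).support := by
  obtain ⟨U, P, i, π, c, hyU, hreg, hsm, hcomm⟩ := hlci
  rw [Groth.Agent.Lib.Helper5.Jac.exists_smooth_iff_mem_smoothLocus f y]
  obtain ⟨W, hzW, hWc, rs, hlen, hrs, hker⟩ := hreg.2 ⟨y, hyU⟩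
  obtain ⟨V₁, hV₁, W₁, hW₁, hzW₁, e₁, hstd⟩ :=
    hsm.exists_isStandardSmoothOfRelativeDimension (i ⟨y, hyU⟩)
  obtain ⟨h, hle, hzh⟩ := hW₁.exists_basicOpen_le ⟨i ⟨y, hyU⟩, hzW⟩ hzW₁
  have hW' : IsAffineOpen (P.basicOpen h) := hW₁.basicOpen h
  have hW'W₁ : P.basicOpen h ≤ W₁ := P.basicOpen_le h
  haveI := hWc
  obtain ⟨hc', hrs', hker'⟩ :=
    Groth.Agent.Lib.Helper5.RegImmA.shrink i W.2 hW' hle rs hrs hker
  haveI := hc'
  have eW : P.basicOpen h ≤ π ⁻¹ᵁ V₁ := hW'W₁.trans e₁
  haveI : Smooth π := SmoothOfRelativeDimension.smooth (n := m + c) (f := π)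
  have hsm' := π.smooth_appLE hV₁ hW' eW
  have hrank : letI := (π.appLE V₁ (P.basicOpen h) eW).hom.toAlgebra
      ∀ p : PrimeSpectrum Γ(P, P.basicOpen h),
        Module.rankAtStalk Ω[Γ(P, P.basicOpen h)⁄Γ(X, V₁)] p = m + c := by
    letI a1 : Algebra Γ(X, V₁) Γ(P, W₁) := (π.appLE V₁ W₁ e₁).hom.toAlgebra
    letI a2 : Algebra Γ(X, V₁) Γ(P, P.basicOpen h) := (π.appLE V₁ (P.basicOpen h) eW).hom.toAlgebra
    haveI : IsScalarTower Γ(X, V₁) Γ(P, W₁) Γ(P, P.basicOpen h) :=
      IsScalarTower.of_algebraMap_eq fun a => by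
        change (π.appLE V₁ (P.basicOpen h) eW).hom a =
          (P.presheaf.map (homOfLE hW'W₁).op).hom ((π.appLE V₁ W₁ e₁).hom a)
        rw [← Scheme.Hom.appLE_map π e₁ (homOfLE hW'W₁).op]
        rfl
    haveI := hW₁.isLocalization_basicOpen h
    haveI : Algebra.IsStandardSmoothOfRelativeDimension (m + c) Γ(X, V₁) Γ(P, W₁) := hstd
    intro p
    exact Groth.Agent.Lib.Helper5.Jac.rankAtStalk_of_away h (m + c) p
  obtain ⟨hD, e, hy, H⟩ := Groth.Agent.Lib.Helper5.Jac.isSmoothAt_iff_of_chart f U i π hcomm hV₁ hW' eW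
    _ hrs' hker' (m + c) hsm'.formallySmooth
    (RingHom.FiniteType.of_finitePresentation hsm'.finitePresentation) hrank ⟨y, hyU⟩ hzh
  refine Groth.Agent.Lib.Helper5.Jac.mem_smoothLocus_iff_fitt f m hD hV₁ e y hy ?_
  intro _inst
  have H' := H
  simp only [List.length_map, hlen] at H'
  rw [H']
  omega

end Groth.Agent.S16256
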