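import Groth.Statements.S17245
import Mathlib
-- import your own Groth.Agent.* helpers here

set_option autoImplicit false
set_option linter.unusedSectionVars false
open W4c4effdivwronsk2

namespace Groth.Agent.S17245

open Polynomial Finset

section setup

variable {k : Type*} [Field k] {m : ℕ} (r : Fin m → k) (a : Fin m → ℕ)

/-- `R = ∏ (X - r_j)` -/
noncomputable def RR : k[X] := ∏ j, (X - C (r j))
/-- `E = ∏ (X - r_j)^{a_j}` -/
noncomputable def EE : k[X] := ∏ j, (X - C (r j)) ^ (a j)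
/-- `Q = Σ a_i ∏_{j≠i} (X - r_j)` -/
noncomputable def QQ : k[X] := ∑ i, C (a i : k) * ∏ j ∈ univ.erase i, (X - C (r j))
/-- `D = ∏ (X - r_j)^{a_j+1}` -/
noncomputable def DD : k[X] := ∏ j, (X - C (r j)) ^ (a j + 1)
/-- `D_i` -/
noncomputable def Di (i : Fin m) : k[X] := ∏ j ∈ univ.erase i, (X - C (r j)) ^ (a j + 1)
/-- `E_i` -/
noncomputable def Ei (i : Fin m) : k[X] := ∏ j ∈ univ.erase i, (X - C (r j)) ^ (a j)
/-- `R_i` -/
noncomputable def Ri (i : Fin m) : k[X] := ∏ j ∈ univ.erase i, (X - C (r j))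

lemma DD_eq : DD r a = EE r a * RR r := by
  unfold DD EE RR
  rw [← prod_mul_distrib]
  refine prod_congr rfl fun j _ => ?_
  rw [pow_succ]

lemma Di_eq (i : Fin m) : Di r a i = Ei r a i * Ri r i := by
  unfold Di Ei Ri
  rw [← prod_mul_distrib]
  refine prod_congr rfl fun j _ => ?_
  rw [pow_succ]

lemma EE_eq (i : Fin m) : EE r a = (X - C (r i)) ^ (a i) * Ei r a i := by
  unfold EE Ei
  rw [mul_prod_erase univ (fun j => (X - C (r j)) ^ (a j)) (mem_univ i)]

lemma RR_eq (i : Fin m) : RR r = (X - C (r i)) * Ri r i := by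
  unfold RR Ri
  rw [mul_prod_erase univ (fun j => (X - C (r j))) (mem_univ i)]

lemma DD_eq' (i : Fin m) : DD r a = (X - C (r i)) ^ (a i + 1) * Di r a i := by
  unfold DD Di
  rw [mul_prod_erase univ (fun j => (X - C (r j)) ^ (a j + 1)) (mem_univ i)]

/-- `E' R = E Q` -/
lemma derivE (ha : ∀ j, 1 ≤ a j) : derivative (EE r a) * RR r = EE r a * QQ r a := by
  classical
  unfold EE
  rw [derivative_prod_finset, sum_mul]
  unfold QQ
  rw [mul_sum]
  refine sum_congr rfl fun i _ => ?_
  rw [derivative_X_sub_C_pow, RR_eq r i]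
  have h1 : (X - C (r i)) ^ (a i - 1) * (X - C (r i)) = (X - C (r i)) ^ (a i) := by
    rw [← pow_succ, Nat.sub_add_cancel (ha i)]
  have h2 := EE_eq r a i
  unfold EE Ei at h2
  rw [h2]
  unfold Ri
  calc (∏ j ∈ univ.erase i, (X - C (r j)) ^ a j) * (C (a i : k) * (X - C (r i)) ^ (a i - 1)) *
        ((X - C (r i)) * ∏ j ∈ univ.erase i, (X - C (r j)))
      = ((X - C (r i)) ^ (a i - 1) * (X - C (r i))) * (∏ j ∈ univ.erase i, (X - C (r j)) ^ a j) *
        (C (a i : k) * ∏ j ∈ univ.erase i, (X - C (r j))) := by ring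
    _ = _ := by rw [h1]

/-- the operator `Ψ(P) = P' R - P Q = D (P/E)'` -/
noncomputable def Psi : k[X] →ₗ[k] k[X] where
  toFun P := derivative P * RR r - P * QQ r a
  map_add' P P' := by rw [map_add]; ring
  map_smul' c P := by
    rw [derivative_smul, RingHom.id_apply, smul_mul_assoc, smul_mul_assoc, smul_sub]

lemma Psi_apply (P : k[X]) : Psi r a P = derivative P * RR r - P * QQ r a := rfl

lemma Psi_E_mul (ha : ∀ j, 1 ≤ a j) (G : k[X]) :
    Psi r a (EE r a * G) = DD r a * derivative G := by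
  rw [Psi_apply, derivative_mul, DD_eq]
  have := derivE r a ha
  calc (derivative (EE r a) * G + EE r a * derivative G) * RR r - EE r a * G * QQ r a
      = G * (derivative (EE r a) * RR r) + EE r a * RR r * derivative G - G * (EE r a * QQ r a) := by
        ring
    _ = _ := by rw [this]; ring

end setup

section setup2

variable {k : Type*} [Field k] {m : ℕ} (r : Fin m → k) (a : Fin m → ℕ)

lemma EE_ne_zero : EE r a ≠ 0 := by
  unfold EE
  exact (monic_prod_of_monic _ _ fun j _ => (monic_X_sub_C (r j)).pow (a j)).ne_zero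

lemma E_mul_Psi (ha : ∀ j, 1 ≤ a j) (P : k[X]) :
    EE r a * Psi r a P = RR r * (derivative P * EE r a - P * derivative (EE r a)) := by
  rw [Psi_apply]
  have := derivE r a ha
  calc EE r a * (derivative P * RR r - P * QQ r a)
      = derivative P * EE r a * RR r - P * (EE r a * QQ r a) := by ring
    _ = _ := by rw [← this]; ring

lemma Psi_Ei_mul (ha : ∀ j, 1 ≤ a j) (i : Fin m) (H : k[X]) :
    Psi r a (Ei r a i * H) =
      Di r a i * (derivative H * (X - C (r i)) - C (a i : k) * H) := by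
  apply mul_left_cancel₀ (EE_ne_zero r a)
  rw [E_mul_Psi r a ha]
  have hE := EE_eq r a i
  have hpow : (X - C (r i)) ^ (a i) = (X - C (r i)) ^ (a i - 1) * (X - C (r i)) := by
    rw [← pow_succ, Nat.sub_add_cancel (ha i)]
  have hdE : derivative (EE r a) = C (a i : k) * (X - C (r i)) ^ (a i - 1) * Ei r a i
      + (X - C (r i)) ^ (a i) * derivative (Ei r a i) := by
    rw [hE, derivative_mul, derivative_X_sub_C_pow]
  rw [hdE, derivative_mul, RR_eq r i, Di_eq r a i]
  conv_lhs => rw [hE]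
  conv_rhs => rw [hE]
  rw [hpow]
  ring

end setup2

section range

variable {k : Type*} [Field k] [CharZero k] {m : ℕ} (r : Fin m → k) (a : Fin m → ℕ)

lemma mem_degLT_of_natDegree_le {f : k[X]} {N : ℕ} (h : f.natDegree ≤ N) :
    f ∈ degreeLT k (N + 1) := by
  rw [mem_degreeLT]
  exact lt_of_le_of_lt (degree_le_of_natDegree_le h) (by exact_mod_cast Nat.lt_succ_self N)

lemma natDegree_pow_X_sub_C_le (c : k) (n : ℕ) : ((X - C c) ^ n).natDegree ≤ n := by
  refine (natDegree_pow_le).trans ?_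
  rw [natDegree_X_sub_C, mul_one]

lemma natDegree_EE_le : (EE r a).natDegree ≤ ∑ j, a j := by
  unfold EE
  refine (natDegree_prod_le _ _).trans (sum_le_sum fun j _ => natDegree_pow_X_sub_C_le _ _)

lemma natDegree_Ei_le (i : Fin m) : (Ei r a i).natDegree + a i ≤ ∑ j, a j := by
  unfold Ei
  have h1 : (∏ j ∈ univ.erase i, (X - C (r j)) ^ a j).natDegree ≤ ∑ j ∈ univ.erase i, a j :=
    (natDegree_prod_le _ _).trans (sum_le_sum fun j _ => natDegree_pow_X_sub_C_le _ _)
  have h2 : ∑ j ∈ univ.erase i, a j + a i = ∑ j, a j := sum_erase_add _ _ (mem_univ i)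
  omega

/-- the range of `Ψ` on polynomials of degree `≤ N` -/
noncomputable def WW (N : ℕ) : Submodule k k[X] := (degreeLT k (N + 1)).map (Psi r a)

lemma D_mul_mem_WW (ha : ∀ j, 1 ≤ a j) (b N : ℕ) (hN : N = (∑ j, a j) + b) :
    (degreeLT k b).map (LinearMap.mulLeft k (DD r a)) ≤ WW r a N := by
  classical
  rw [degreeLT_eq_span_X_pow, Submodule.map_span, Submodule.span_le]
  rintro _ ⟨_, hg, rfl⟩
  rw [coe_image, Set.mem_image] at hg
  obtain ⟨l, hl, rfl⟩ := hg
  rw [mem_coe, mem_range] at hl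
  refine ⟨EE r a * (C ((l + 1 : ℕ) : k)⁻¹ * X ^ (l + 1)), ?_, ?_⟩
  · apply mem_degLT_of_natDegree_le
    refine (natDegree_mul_le).trans ?_
    have h1 := natDegree_EE_le r a
    have h2 : (C ((l + 1 : ℕ) : k)⁻¹ * X ^ (l + 1)).natDegree ≤ l + 1 := natDegree_C_mul_X_pow_le _ _
    omega
  · rw [Psi_E_mul r a ha, LinearMap.mulLeft_apply, derivative_C_mul_X_pow, Nat.add_sub_cancel]
    have : ((l + 1 : ℕ) : k)⁻¹ * ((l + 1 : ℕ) : k) = 1 :=
      inv_mul_cancel₀ (Nat.cast_ne_zero.2 (Nat.succ_ne_zero l))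
    rw [this, C_1, one_mul]

lemma Di_mul_mem_WW (ha : ∀ j, 1 ≤ a j) (b N : ℕ) (hN : N = (∑ j, a j) + b) (i : Fin m) :
    (degreeLT k (a i)).map (LinearMap.mulLeft k (Di r a i)) ≤ WW r a N := by
  rintro _ ⟨g, hg, rfl⟩
  rw [LinearMap.mulLeft_apply, ← sum_taylor_eq g (r i), Polynomial.sum_def, mul_sum]
  refine Submodule.sum_mem _ fun l hl => ?_
  have hl' : l < a i := by
    have h1 := le_natDegree_of_mem_supp l hl
    rw [natDegree_taylor] at h1
    have hg0 : g ≠ 0 := by
      rintro rfl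
      simp at hl
    have h2 : g.natDegree < a i := (natDegree_lt_iff_degree_lt hg0).2 (mem_degreeLT.1 hg)
    omega
  have hne : ((l : k) - (a i : k)) ≠ 0 := by
    rw [sub_ne_zero]
    exact fun h => (ne_of_lt hl') (Nat.cast_injective h)
  refine ⟨Ei r a i * (C (((taylor (r i)) g).coeff l * ((l : k) - (a i : k))⁻¹) * (X - C (r i)) ^ l), ?_, ?_⟩
  · apply mem_degLT_of_natDegree_le
    refine (natDegree_mul_le).trans ?_
    have h1 := natDegree_Ei_le r a i
    have h2 : (C (((taylor (r i)) g).coeff l * ((l : k) - (a i : k))⁻¹) * (X - C (r i)) ^ l).natDegree ≤ l :=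
      (natDegree_C_mul_le _ _).trans (natDegree_pow_X_sub_C_le _ _)
    omega
  · rw [Psi_Ei_mul r a ha, derivative_mul, derivative_C, zero_mul, zero_add,
      derivative_X_sub_C_pow]
    have hpow : (X - C (r i)) ^ (l - 1) * (X - C (r i)) * C (l : k) = C (l : k) * (X - C (r i)) ^ l := by
      rcases Nat.eq_zero_or_pos l with rfl | hpos
      · simp
      · rw [← pow_succ, Nat.sub_add_cancel hpos, mul_comm]
    have hc : ((taylor (r i)) g).coeff l * ((l : k) - (a i : k))⁻¹ * ((l : k) - (a i : k))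
        = ((taylor (r i)) g).coeff l := by
      rw [mul_assoc, inv_mul_cancel₀ hne, mul_one]
    calc Di r a i * (C (((taylor (r i)) g).coeff l * ((l : k) - (a i : k))⁻¹) *
          (C (l : k) * (X - C (r i)) ^ (l - 1)) * (X - C (r i)) -
          C (a i : k) * (C (((taylor (r i)) g).coeff l * ((l : k) - (a i : k))⁻¹) * (X - C (r i)) ^ l))
        = Di r a i * (C (((taylor (r i)) g).coeff l * ((l : k) - (a i : k))⁻¹) *
          ((X - C (r i)) ^ (l - 1) * (X - C (r i)) * C (l : k)) -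
          C (a i : k) * (C (((taylor (r i)) g).coeff l * ((l : k) - (a i : k))⁻¹) * (X - C (r i)) ^ l)) := by
          ring
      _ = Di r a i * (C (((taylor (r i)) g).coeff l * ((l : k) - (a i : k))⁻¹ * ((l : k) - (a i : k))) *
          (X - C (r i)) ^ l) := by
          rw [hpow]
          simp only [map_mul, map_sub]
          ring
      _ = _ := by rw [hc]

end range

section order

variable {k : Type*} [Field k] [CharZero k] {m : ℕ} (r : Fin m → k) (a : Fin m → ℕ)

lemma eval_RR_ne_zero (q : k) (hq : ∀ j, q ≠ r j) : eval q (RR r) ≠ 0 := by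
  unfold RR
  rw [eval_prod, prod_ne_zero_iff]
  intro j _
  rw [eval_sub, eval_X, eval_C, sub_ne_zero]
  exact hq j

lemma eval_EE_ne_zero (q : k) (hq : ∀ j, q ≠ r j) : eval q (EE r a) ≠ 0 := by
  unfold EE
  rw [eval_prod, prod_ne_zero_iff]
  intro j _
  rw [eval_pow, eval_sub, eval_X, eval_C]
  exact pow_ne_zero _ (sub_ne_zero.2 (hq j))

lemma Psi_EE (ha : ∀ j, 1 ≤ a j) : Psi r a (EE r a) = 0 := by
  have := Psi_E_mul r a ha 1
  rwa [mul_one, derivative_one, mul_zero] at this

/-- order of vanishing of `Ψ U` at `q` is one less than that of `U` -/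
lemma order_lemma (q : k) (hq : ∀ j, q ≠ r j) (U : k[X]) (hU : U.IsRoot q) (s : ℕ)
    (hs : (X - C q) ^ s ∣ Psi r a U) : (X - C q) ^ (s + 1) ∣ U := by
  induction s with
  | zero => rw [zero_add, pow_one]; exact dvd_iff_isRoot.2 hU
  | succ s ih =>
    obtain ⟨W, hW⟩ := ih (dvd_trans (pow_dvd_pow _ (Nat.le_succ s)) hs)
    have h1 : Psi r a U = (X - C q) ^ s * (C ((s + 1 : ℕ) : k) * W * RR r
        + (X - C q) * (derivative W * RR r - W * QQ r a)) := by
      rw [Psi_apply, hW, derivative_mul, derivative_X_sub_C_pow, Nat.add_sub_cancel, pow_succ]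
      ring
    rw [h1, pow_succ, mul_dvd_mul_iff_left (pow_ne_zero _ (X_sub_C_ne_zero q))] at hs
    have h2 : (X - C q) ∣ C ((s + 1 : ℕ) : k) * W * RR r :=
      (dvd_add_left (dvd_mul_right _ _)).1 hs
    rw [dvd_iff_isRoot, IsRoot, eval_mul, eval_mul, eval_C] at h2
    have h3 : eval q W = 0 := by
      rcases mul_eq_zero.1 h2 with h | h
      · rcases mul_eq_zero.1 h with h | h
        · exact absurd h (Nat.cast_ne_zero.2 (Nat.succ_ne_zero s))
        · exact h
      · exact absurd h (eval_RR_ne_zero r q hq)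
    obtain ⟨W', hW'⟩ := dvd_iff_isRoot.2 h3
    refine ⟨W', ?_⟩
    rw [hW, hW', pow_succ (X - C q) (s + 1)]
    ring

/-- every member of `W` vanishing to order `s` at `q` comes from a `U` vanishing to order `s+1` -/
lemma exists_U (ha : ∀ j, 1 ≤ a j) (N : ℕ) (hN : (∑ j, a j) ≤ N) (q : k) (hq : ∀ j, q ≠ r j)
    (h : k[X]) (hh : h ∈ WW r a N) (s : ℕ) (hs : (X - C q) ^ s ∣ h) :
    ∃ U : k[X], U ∈ degreeLT k (N + 1) ∧ Psi r a U = h ∧ (X - C q) ^ (s + 1) ∣ U := by
  obtain ⟨P, hP, rfl⟩ := hh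
  have hE : EE r a ∈ degreeLT k (N + 1) :=
    mem_degLT_of_natDegree_le ((natDegree_EE_le r a).trans hN)
  refine ⟨P - (eval q P / eval q (EE r a)) • EE r a,
    Submodule.sub_mem _ hP (Submodule.smul_mem _ _ hE), ?_, ?_⟩
  · rw [map_sub, map_smul, Psi_EE r a ha, smul_zero, sub_zero]
  · apply order_lemma r a q hq
    · rw [IsRoot, eval_sub, eval_smul, smul_eq_mul, div_mul_cancel₀ _ (eval_EE_ne_zero r a q hq),
        sub_self]
    · rw [map_sub, map_smul, Psi_EE r a ha, smul_zero, sub_zero]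
      exact hs

lemma degree_X_sub_C_pow' (q : k) (n : ℕ) : ((X - C q) ^ n).degree = (n : WithBot ℕ) := by
  rw [degree_pow, degree_X_sub_C, nsmul_eq_mul, mul_one]

/-- no nonzero member vanishes to order `N` -/
lemma eq_zero_of_dvd (ha : ∀ j, 1 ≤ a j) (N : ℕ) (hN : (∑ j, a j) ≤ N) (q : k)
    (hq : ∀ j, q ≠ r j) (h : k[X]) (hh : h ∈ WW r a N) (hs : (X - C q) ^ N ∣ h) : h = 0 := by
  obtain ⟨U, hU, rfl, hdvd⟩ := exists_U r a ha N hN q hq h hh N hs
  have : U = 0 := by
    apply eq_zero_of_dvd_of_degree_lt hdvd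
    rw [degree_X_sub_C_pow']
    exact mem_degreeLT.1 hU
  rw [this, map_zero]

/-- members vanishing to order `N - 1` -/
lemma exists_smul_of_dvd (ha : ∀ j, 1 ≤ a j) (N : ℕ) (hN : (∑ j, a j) ≤ N) (hN1 : 1 ≤ N) (q : k)
    (hq : ∀ j, q ≠ r j) (h : k[X]) (hh : h ∈ WW r a N) (hs : (X - C q) ^ (N - 1) ∣ h) :
    ∃ c : k, h = c • Psi r a ((X - C q) ^ N) := by
  obtain ⟨U, hU, rfl, hdvd⟩ := exists_U r a ha N hN q hq h hh (N - 1) hs
  rw [Nat.sub_add_cancel hN1] at hdvd
  obtain ⟨W, hW⟩ := hdvd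
  by_cases hW0 : W = 0
  · refine ⟨0, ?_⟩
    rw [hW, hW0, mul_zero, map_zero, zero_smul]
  have hdeg : W.degree ≤ 0 := by
    have h1 := mem_degreeLT.1 hU
    rw [hW, degree_mul, degree_X_sub_C_pow'] at h1
    have h2 : W.degree = (W.natDegree : WithBot ℕ) := degree_eq_natDegree hW0
    rw [h2] at h1 ⊢
    have h3 : ((N + W.natDegree : ℕ) : WithBot ℕ) < ((N + 1 : ℕ) : WithBot ℕ) := by
      push_cast
      exact h1
    have h4 : N + W.natDegree < N + 1 := by exact_mod_cast h3
    have h5 : W.natDegree = 0 := by omega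
    rw [h5]
    rfl
  rw [eq_C_of_degree_le_zero hdeg] at hW
  refine ⟨W.coeff 0, ?_⟩
  rw [hW, mul_comm, ← smul_eq_C_mul, map_smul]

end order

section order2

variable {k : Type*} [Field k] [CharZero k] {m : ℕ} (r : Fin m → k) (a : Fin m → ℕ)

/-- members vanishing to order `N - 2` -/
lemma exists_smul_add_of_dvd (ha : ∀ j, 1 ≤ a j) (N : ℕ) (hN : (∑ j, a j) ≤ N) (hN2 : 2 ≤ N)
    (q : k) (hq : ∀ j, q ≠ r j) (h : k[X]) (hh : h ∈ WW r a N)
    (hs : (X - C q) ^ (N - 2) ∣ h) :
    ∃ c₁ c₂ : k, h = c₁ • Psi r a ((X - C q) ^ (N - 1)) + c₂ • Psi r a ((X - C q) ^ N) := by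
  obtain ⟨U, hU, rfl, hdvd⟩ := exists_U r a ha N hN q hq h hh (N - 2) hs
  rw [show N - 2 + 1 = N - 1 by omega] at hdvd
  obtain ⟨W, hW⟩ := hdvd
  by_cases hW0 : W = 0
  · refine ⟨0, 0, ?_⟩
    rw [hW, hW0, mul_zero, map_zero, zero_smul, zero_smul, add_zero]
  have hdeg : W.degree ≤ 1 := by
    have h1 := mem_degreeLT.1 hU
    rw [hW, degree_mul, degree_X_sub_C_pow'] at h1
    have h2 : W.degree = (W.natDegree : WithBot ℕ) := degree_eq_natDegree hW0
    rw [h2] at h1 ⊢
    have h3 : ((N - 1 + W.natDegree : ℕ) : WithBot ℕ) < ((N + 1 : ℕ) : WithBot ℕ) := by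
      push_cast
      exact h1
    have h4 : N - 1 + W.natDegree < N + 1 := by exact_mod_cast h3
    have h5 : W.natDegree ≤ 1 := by omega
    exact_mod_cast h5
  have hWeq := eq_X_add_C_of_degree_le_one hdeg
  refine ⟨W.coeff 0 + W.coeff 1 * q, W.coeff 1, ?_⟩
  have hU' : U = (W.coeff 0 + W.coeff 1 * q) • (X - C q) ^ (N - 1) + W.coeff 1 • (X - C q) ^ N := by
    rw [hW]
    conv_lhs => rw [hWeq]
    have hpow : (X - C q) ^ N = (X - C q) ^ (N - 1) * (X - C q) := by
      rw [← pow_succ, Nat.sub_add_cancel (by omega : 1 ≤ N)]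
    rw [hpow, smul_eq_C_mul, smul_eq_C_mul, C_add, C_mul]
    ring
  rw [hU', map_add, map_smul, map_smul]

lemma Psi_pow (q : k) (s : ℕ) :
    Psi r a ((X - C q) ^ s) = C (s : k) * (X - C q) ^ (s - 1) * RR r - (X - C q) ^ s * QQ r a := by
  rw [Psi_apply, derivative_X_sub_C_pow]

lemma eval_Psi_pow (q p : k) (s : ℕ) (hs : 1 ≤ s) :
    eval p (Psi r a ((X - C q) ^ s)) =
      (p - q) ^ (s - 1) * ((s : k) * eval p (RR r) - (p - q) * eval p (QQ r a)) := by
  rw [Psi_pow, eval_sub, eval_mul, eval_mul, eval_mul, eval_C, eval_pow, eval_pow, eval_sub, eval_X,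
    eval_C]
  have : (p - q) ^ s = (p - q) ^ (s - 1) * (p - q) := by
    rw [← pow_succ, Nat.sub_add_cancel hs]
  rw [this]
  ring

end order2

section dimension

variable {k : Type*} [Field k] [CharZero k] {m : ℕ} (r : Fin m → k) (a : Fin m → ℕ)

/-- the parametrisation of `V` -/
noncomputable def Theta (b : ℕ) :
    (degreeLT k b × (∀ i : Fin m, degreeLT k (a i))) →ₗ[k] k[X] where
  toFun g := DD r a * (g.1 : k[X]) + ∑ i, Di r a i * ((g.2 i : degreeLT k (a i)) : k[X])
  map_add' g g' := by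
    simp only [Prod.fst_add, Prod.snd_add, Pi.add_apply, Submodule.coe_add, mul_add, sum_add_distrib]
    ring
  map_smul' c g := by
    simp only [Prod.smul_fst, Prod.smul_snd, Pi.smul_apply, Submodule.coe_smul, mul_smul_comm,
      RingHom.id_apply, smul_add, smul_sum]

lemma Theta_apply (b : ℕ) (g : degreeLT k b × (∀ i : Fin m, degreeLT k (a i))) :
    Theta r a b g = DD r a * (g.1 : k[X]) + ∑ i, Di r a i * ((g.2 i : degreeLT k (a i)) : k[X]) := rfl

lemma range_Theta (b : ℕ) :
    LinearMap.range (Theta r a b) =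
      (degreeLT k b).map (LinearMap.mulLeft k (DD r a)) ⊔
        ⨆ i, (degreeLT k (a i)).map (LinearMap.mulLeft k (Di r a i)) := by
  classical
  apply le_antisymm
  · rintro _ ⟨g, rfl⟩
    rw [Theta_apply]
    refine Submodule.add_mem _ (Submodule.mem_sup_left ⟨g.1, g.1.2, rfl⟩)
      (Submodule.mem_sup_right (Submodule.sum_mem _ fun i _ =>
        Submodule.mem_iSup_of_mem i ⟨g.2 i, (g.2 i).2, rfl⟩))
  · refine sup_le ?_ (iSup_le fun i => ?_)
    · rintro _ ⟨g, hg, rfl⟩
      refine ⟨(⟨g, hg⟩, 0), ?_⟩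
      rw [Theta_apply]
      simp
    · rintro _ ⟨g, hg, rfl⟩
      refine ⟨(0, Pi.single i ⟨g, hg⟩), ?_⟩
      rw [Theta_apply]
      simp only [Submodule.coe_zero, mul_zero, zero_add]
      rw [sum_eq_single i]
      · rw [Pi.single_eq_same]; rfl
      · intro j _ hj
        rw [Pi.single_eq_of_ne hj]; simp
      · intro h; exact absurd (mem_univ i) h

lemma coprime_pow_Di (hr : Function.Injective r) (i : Fin m) (n : ℕ) :
    IsCoprime ((X - C (r i)) ^ n) (Di r a i) := by
  unfold Di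
  refine IsCoprime.pow_left (IsCoprime.prod_right fun j hj => IsCoprime.pow_right ?_)
  apply isCoprime_X_sub_C_of_isUnit_sub
  rw [isUnit_iff_ne_zero, sub_ne_zero]
  exact fun h => (ne_of_mem_erase hj) (hr h).symm

lemma pow_dvd_Di (i j : Fin m) (hij : j ≠ i) : (X - C (r i)) ^ (a i + 1) ∣ Di r a j := by
  unfold Di
  exact dvd_prod_of_mem (fun l => (X - C (r l)) ^ (a l + 1)) (mem_erase.2 ⟨hij.symm, mem_univ i⟩)

lemma DD_ne_zero : DD r a ≠ 0 := by
  unfold DD
  exact (monic_prod_of_monic _ _ fun j _ => (monic_X_sub_C (r j)).pow (a j + 1)).ne_zero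

lemma Theta_injective (hr : Function.Injective r) (b : ℕ) : Function.Injective (Theta r a b) := by
  rw [← LinearMap.ker_eq_bot, LinearMap.ker_eq_bot']
  intro g hg
  rw [Theta_apply] at hg
  have hgi : ∀ i, g.2 i = 0 := by
    intro i
    have h1 : (X - C (r i)) ^ (a i + 1) ∣ Di r a i * ((g.2 i : degreeLT k (a i)) : k[X]) := by
      have h2 : Di r a i * ((g.2 i : degreeLT k (a i)) : k[X])
          = - (DD r a * (g.1 : k[X]) + ∑ j ∈ univ.erase i, Di r a j * ((g.2 j : degreeLT k (a j)) : k[X])) := by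
        rw [← add_sum_erase univ _ (mem_univ i)] at hg
        linear_combination hg
      rw [h2, dvd_neg]
      refine dvd_add (Dvd.dvd.mul_right ⟨Di r a i, DD_eq' r a i⟩ _) (dvd_sum fun j hj => ?_)
      exact Dvd.dvd.mul_right (pow_dvd_Di r a i j (ne_of_mem_erase hj)) _
    have h3 : (X - C (r i)) ^ (a i + 1) ∣ ((g.2 i : degreeLT k (a i)) : k[X]) :=
      (coprime_pow_Di r a hr i (a i + 1)).dvd_of_dvd_mul_left h1
    have h4 : ((g.2 i : degreeLT k (a i)) : k[X]) = 0 := by
      apply eq_zero_of_dvd_of_degree_lt h3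
      rw [degree_X_sub_C_pow']
      refine lt_trans (mem_degreeLT.1 (g.2 i).2) ?_
      exact_mod_cast Nat.lt_succ_self (a i)
    exact Subtype.ext h4
  have hg0 : g.1 = 0 := by
    have h1 : ∑ i, Di r a i * ((g.2 i : degreeLT k (a i)) : k[X]) = 0 :=
      sum_eq_zero fun i _ => by rw [hgi i]; simp
    rw [h1, add_zero] at hg
    rcases mul_eq_zero.1 hg with h | h
    · exact absurd h (DD_ne_zero r a)
    · exact Subtype.ext h
  exact Prod.ext hg0 (funext hgi)

lemma finrank_degreeLT (n : ℕ) : Module.finrank k (degreeLT k n) = n := by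
  rw [LinearEquiv.finrank_eq (degreeLTEquiv k n), Module.finrank_fin_fun]

lemma finrank_range_Theta (hr : Function.Injective r) (b : ℕ) :
    Module.finrank k (LinearMap.range (Theta r a b)) = (∑ j, a j) + b := by
  rw [← LinearEquiv.finrank_eq (LinearEquiv.ofInjective (Theta r a b) (Theta_injective r a hr b)),
    Module.finrank_prod, Module.finrank_pi_fintype, finrank_degreeLT]
  simp only [finrank_degreeLT]
  ring

end dimension

section assembly

variable {k : Type*} [Field k] [CharZero k]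

lemma mem_S (q : k) (s : ℕ) (h : k[X]) :
    h ∈ (Ideal.span {(X - C q) ^ s}).restrictScalars k ↔ (X - C q) ^ s ∣ h := by
  rw [Submodule.restrictScalars_mem, Ideal.mem_span_singleton]

lemma mem_S1 (q : k) (h : k[X]) :
    h ∈ (Ideal.span {X - C q}).restrictScalars k ↔ eval q h = 0 := by
  rw [Submodule.restrictScalars_mem, Ideal.mem_span_singleton, dvd_iff_isRoot]
  rfl

lemma finrank_le_one_of_le_span {W : Submodule k k[X]} (w : k[X])
    (hW : W ≤ Submodule.span k {w}) : Module.finrank k W ≤ 1 := by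
  refine (Submodule.finrank_mono hW).trans ?_
  have := finrank_span_finset_le_card (R := k) ({w} : Finset k[X])
  rwa [Finset.coe_singleton, Finset.card_singleton] at this

end assembly

open Polynomial in
/-- Let `k` be a field of characteristic zero and take, on the projective line over `k`, the point `∞`
and `m` further distinct points `r_1, …, r_m` of the affine line, with positive integers `b` (at
`∞`) and `a_1, …, a_m`; put `N = b + ∑ a_j`. The sum of the spaces of differentials with a single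
pole, of order at most `b + 1` at `∞`, resp. at most `a_j + 1` at `r_j`, `V = H⁰(ω((b+1)∞)) + ∑_j
H⁰(ω((a_j+1)r_j)) ⊆ H⁰(ω((b+1)∞ + ∑_j (a_j+1)r_j)) ≅ H⁰(O(d))`, `d = b - 1 + ∑ (a_j+1)`, becomes,
after multiplying by `dX⁻¹ ∏_j (X - r_j)^(a_j+1)`, the subspace of `k[X]_{≤ d}` spanned by
`D·k[X]_{<b}` and the `D_i·k[X]_{<a_i}`, where `D = ∏_j (X - r_j)^(a_j+1)` and `D_i` omits the
`i`-th factor; a member `h` vanishes to order `n` at a point `q` of the affine line when `(X - q)^n
∣ h`, and to order `d - deg h` at `∞`. Let `p` be a further point of the affine line, distinct from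
the `r_j`, and `V₁ = V(-p)` the members divisible by `X - p`, an `(N-1)`-dimensional system in the
line bundle twisted down by `p` (its vanishing orders at points `q ≠ p`, and at `∞`, are read off
exactly as for `V`; at `p` itself they are one less than the order of divisibility by `X - p`). Then
`dim V₁ = N - 1`, the point `p` is not a ramification point of `V₁` (no nonzero member of `V₁` is
divisible by `(X - p)^N`), and `V₁` has at most one ramification point off the marked points, a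
simple one: at every `q` other than `p` and the `r_j`, no nonzero member is divisible by `(X - q)^N`
and at most a line of members is divisible by `(X - q)^(N-2)`, and at most one such `q` has a
nonzero member divisible by `(X - q)^(N-1)`. (The published statement is over the complex numbers
with all points arbitrary; one marked point is placed at `∞` here and `p` is taken distinct from the
marked points.) -/
theorem result
    (k : Type*) [Field k] [CharZero k] (m : ℕ) (r : Fin m → k) (hr : Function.Injective r)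
    (a : Fin m → ℕ) (ha : ∀ j, 1 ≤ a j) (b : ℕ) (hb : 1 ≤ b) (N d : ℕ)
    (hN : N = (∑ j, a j) + b) (hd : d + 1 = (∑ j, (a j + 1)) + b)
    (V : Submodule k (Polynomial k))
    (hV : V = (Polynomial.degreeLT k b).map (LinearMap.mulLeft k (∏ j, (X - C (r j)) ^ (a j + 1))) ⊔
      ⨆ i, (Polynomial.degreeLT k (a i)).map
        (LinearMap.mulLeft k (∏ j ∈ Finset.univ.erase i, (X - C (r j)) ^ (a j + 1))))
    (p : k) (hp : ∀ j, p ≠ r j) (V₁ : Submodule k (Polynomial k))
    (hV₁ : V₁ = V ⊓ (Ideal.span {X - C p}).restrictScalars k) :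
    Module.finrank k ↥V₁ + 1 = N ∧
    (V₁ ⊓ (Ideal.span {(X - C p) ^ N}).restrictScalars k) = ⊥ ∧
    (∀ q : k, (∀ j, q ≠ r j) → q ≠ p →
      (V₁ ⊓ (Ideal.span {(X - C q) ^ N}).restrictScalars k) = ⊥ ∧
      Module.finrank k ↥(V₁ ⊓ (Ideal.span {(X - C q) ^ (N - 2)}).restrictScalars k) ≤ 1) ∧
    (∀ q q' : k, (∀ j, q ≠ r j) → q ≠ p → (∀ j, q' ≠ r j) → q' ≠ p →
      (V₁ ⊓ (Ideal.span {(X - C q) ^ (N - 1)}).restrictScalars k) ≠ ⊥ →
      (V₁ ⊓ (Ideal.span {(X - C q') ^ (N - 1)}).restrictScalars k) ≠ ⊥ → q = q') := by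
  have hVeq : V = LinearMap.range (Theta r a b) := by rw [hV, range_Theta]; rfl
  have hsum : (∑ j, a j) ≤ N := by omega
  have hN1 : 1 ≤ N := by omega
  have hVW : V ≤ WW r a N := by
    rw [hV]
    exact sup_le (D_mul_mem_WW r a ha b N hN) (iSup_le fun i => Di_mul_mem_WW r a ha b N hN i)
  have hV₁V : V₁ ≤ V := by rw [hV₁]; exact inf_le_left
  have hV₁p : ∀ h ∈ V₁, eval p h = 0 := by
    intro h hh
    rw [hV₁] at hh
    exact (mem_S1 p h).1 hh.2
  have hRp : eval p (RR r) ≠ 0 := eval_RR_ne_zero r p hp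
  have hNk : (N : k) ≠ 0 := Nat.cast_ne_zero.2 (by omega)
  -- vanishing to order N is impossible
  have hzero : ∀ q : k, (∀ j, q ≠ r j) →
      (V₁ ⊓ (Ideal.span {(X - C q) ^ N}).restrictScalars k) = ⊥ := by
    intro q hq
    rw [eq_bot_iff]
    rintro h ⟨hh1, hh2⟩
    rw [Submodule.mem_bot]
    exact eq_zero_of_dvd r a ha N hsum q hq h (hVW (hV₁V hh1)) ((mem_S q N h).1 hh2)
  -- the key relation for order N - 1
  have hkey : ∀ q : k, (∀ j, q ≠ r j) → q ≠ p →
      (V₁ ⊓ (Ideal.span {(X - C q) ^ (N - 1)}).restrictScalars k) ≠ ⊥ →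
      (N : k) * eval p (RR r) = (p - q) * eval p (QQ r a) := by
    intro q hq hqp hne
    obtain ⟨h, hh, hh0⟩ := (Submodule.ne_bot_iff _).1 hne
    obtain ⟨c, hc⟩ := exists_smul_of_dvd r a ha N hsum hN1 q hq h (hVW (hV₁V hh.1))
      ((mem_S q (N - 1) h).1 hh.2)
    have hc0 : c ≠ 0 := by
      rintro rfl
      rw [zero_smul] at hc
      exact hh0 hc
    have h1 := hV₁p h hh.1
    rw [hc, eval_smul, smul_eq_mul, eval_Psi_pow r a q p N hN1] at h1
    have hpq : (p - q) ^ (N - 1) ≠ 0 := pow_ne_zero _ (sub_ne_zero.2 (Ne.symm hqp))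
    rcases mul_eq_zero.1 h1 with h2 | h2
    · exact absurd h2 hc0
    · rcases mul_eq_zero.1 h2 with h3 | h3
      · exact absurd h3 hpq
      · exact sub_eq_zero.1 h3
  have hfV : Module.finrank k V = N := by
    rw [hVeq, finrank_range_Theta r a hr b, hN]
  have hfdV : FiniteDimensional k V := by
    apply Module.finite_of_finrank_pos
    rw [hfV]; omega
  have hdim : Module.finrank k ↥V₁ + 1 = N := by
    let f : V →ₗ[k] k := (Polynomial.leval p).comp V.subtype
    have hfsurj : LinearMap.range f = ⊤ := by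
      rw [LinearMap.range_eq_top]
      have hD : DD r a ∈ V := by
        rw [hV]
        refine Submodule.mem_sup_left ⟨1, ?_, ?_⟩
        · rw [SetLike.mem_coe, mem_degreeLT, degree_one]
          exact_mod_cast hb
        · rw [LinearMap.mulLeft_apply, mul_one]; rfl
      have hDp : eval p (DD r a) ≠ 0 := by
        rw [DD_eq, eval_mul]
        exact mul_ne_zero (eval_EE_ne_zero r a p hp) hRp
      intro c
      refine ⟨(c / eval p (DD r a)) • ⟨DD r a, hD⟩, ?_⟩
      rw [map_smul]
      show (c / eval p (DD r a)) • eval p (DD r a) = c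
      rw [smul_eq_mul, div_mul_cancel₀ _ hDp]
    have hker : LinearMap.ker f = Submodule.comap V.subtype V₁ := by
      ext x
      rw [LinearMap.mem_ker, Submodule.mem_comap, hV₁, Submodule.mem_inf, mem_S1]
      constructor
      · intro hx; exact ⟨x.2, hx⟩
      · intro hx; exact hx.2
    have h1 := LinearMap.finrank_range_add_finrank_ker f
    rw [hfsurj, finrank_top, Module.finrank_self, hker,
      LinearEquiv.finrank_eq (Submodule.comapSubtypeEquivOfLe hV₁V), hfV] at h1
    omega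
  refine ⟨hdim, hzero p hp, ?_, ?_⟩
  · intro q hq hqp
    refine ⟨hzero q hq, ?_⟩
    by_cases hN2 : 2 ≤ N
    · -- N ≥ 2
      set α := eval p (Psi r a ((X - C q) ^ (N - 1))) with hα
      set β := eval p (Psi r a ((X - C q) ^ N)) with hβ
      have hαβ : ¬ (α = 0 ∧ β = 0) := by
        rintro ⟨h1, h2⟩
        rw [hα, eval_Psi_pow r a q p (N - 1) (by omega)] at h1
        rw [hβ, eval_Psi_pow r a q p N hN1] at h2
        have hpq : (p - q) ≠ 0 := sub_ne_zero.2 (Ne.symm hqp)
        have h1' := (mul_eq_zero.1 h1).resolve_left (pow_ne_zero _ hpq)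
        have h2' := (mul_eq_zero.1 h2).resolve_left (pow_ne_zero _ hpq)
        rw [Nat.cast_sub hN1, Nat.cast_one] at h1'
        apply hRp
        linear_combination h2' - h1'
      apply finrank_le_one_of_le_span
        (β • Psi r a ((X - C q) ^ (N - 1)) - α • Psi r a ((X - C q) ^ N))
      rintro h ⟨hh1, hh2⟩
      obtain ⟨c₁, c₂, hc⟩ := exists_smul_add_of_dvd r a ha N hsum hN2 q hq h (hVW (hV₁V hh1))
        ((mem_S q (N - 2) h).1 hh2)
      have h0 := hV₁p h hh1
      rw [hc, eval_add, eval_smul, eval_smul, smul_eq_mul, smul_eq_mul, ← hα, ← hβ] at h0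
      rw [Submodule.mem_span_singleton]
      by_cases hβ0 : β = 0
      · have hα0 : α ≠ 0 := fun h => hαβ ⟨h, hβ0⟩
        have hc1 : c₁ = 0 := by
          rw [hβ0, mul_zero, add_zero] at h0
          exact (mul_eq_zero.1 h0).resolve_right hα0
        refine ⟨-c₂ / α, ?_⟩
        have e : -c₂ / α * α = -c₂ := div_mul_cancel₀ _ hα0
        rw [hc, hc1, hβ0, zero_smul, zero_add, zero_sub, smul_neg, smul_smul, e, neg_smul, neg_neg]
      · refine ⟨c₁ / β, ?_⟩
        have hc2 : c₂ = -(c₁ * α) / β := eq_div_of_mul_eq hβ0 (by linear_combination h0)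
        rw [hc, hc2, smul_sub, smul_smul, smul_smul, div_mul_cancel₀ _ hβ0]
        have : c₁ / β * α = c₁ * α / β := by ring
        rw [this, neg_div, neg_smul, sub_eq_add_neg]
    · -- N = 1
      have hfdV₁ : FiniteDimensional k V₁ := Submodule.finiteDimensional_of_le hV₁V
      have h1 := Submodule.finrank_mono
        (inf_le_left : V₁ ⊓ (Ideal.span {(X - C q) ^ (N - 2)}).restrictScalars k ≤ V₁)
      omega
  · intro q q' hq hqp hq' hq'p hne hne'
    have h1 := hkey q hq hqp hne
    have h2 := hkey q' hq' hq'p hne'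
    have hQ : eval p (QQ r a) ≠ 0 := by
      intro h0
      rw [h0, mul_zero] at h1
      exact (mul_ne_zero hNk hRp) h1
    have h3 : (q' - q) * eval p (QQ r a) = 0 := by linear_combination h2 - h1
    have h4 := (mul_eq_zero.1 h3).resolve_right hQ
    exact (sub_eq_zero.1 h4).symm

end Groth.Agent.S17245
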