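import Groth.Statements.S16260
import Groth.Agent.S17245
import Mathlib
-- import your own Groth.Agent.* helpers here

set_option autoImplicit false
set_option linter.unusedSectionVars false
open W4c3wronskmg

namespace Groth.Agent.S16260

open Polynomial Finset Groth.Agent.S17245

section setup

variable (k : Type*) [Field k] [CharZero k]

/-- the two finite marked points `0, 1` -/
def rr : Fin 2 → k := ![0, 1]

/-- the pole orders -/
def aa (a b : ℕ) : Fin 2 → ℕ := ![a, b]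

lemma sum_aa (a b : ℕ) : ∑ j, aa a b j = a + b := by
  rw [Fin.sum_univ_two]; rfl

lemma aa_pos (a b : ℕ) (ha : 0 < a) (hb : 0 < b) : ∀ j, 1 ≤ aa a b j := by
  intro j
  fin_cases j
  · exact ha
  · exact hb

lemma DD_eq2 (a b : ℕ) : DD (rr k) (aa a b) = X ^ (a + 1) * (X - 1) ^ (b + 1) := by
  unfold DD
  rw [Fin.prod_univ_two]
  show (X - C (0 : k)) ^ (a + 1) * (X - C (1 : k)) ^ (b + 1) = _
  rw [C_0, sub_zero, C_1]

lemma Di_zero (a b : ℕ) : Di (rr k) (aa a b) 0 = (X - 1) ^ (b + 1) := by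
  unfold Di
  have : (univ.erase (0 : Fin 2)) = {1} := by decide
  rw [this, prod_singleton]
  show (X - C (1 : k)) ^ (b + 1) = _
  rw [C_1]

lemma Di_one (a b : ℕ) : Di (rr k) (aa a b) 1 = X ^ (a + 1) := by
  unfold Di
  have : (univ.erase (1 : Fin 2)) = {0} := by decide
  rw [this, prod_singleton]
  show (X - C (0 : k)) ^ (a + 1) = _
  rw [C_0, sub_zero]

lemma EE_eq2 (a b : ℕ) : EE (rr k) (aa a b) = X ^ a * (X - 1) ^ b := by
  unfold EE
  rw [Fin.prod_univ_two]
  show (X - C (0 : k)) ^ a * (X - C (1 : k)) ^ b = _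
  rw [C_0, sub_zero, C_1]

lemma ne_rr (p : k) (hp0 : p ≠ 0) (hp1 : p ≠ 1) : ∀ j, p ≠ rr k j := by
  intro j
  fin_cases j
  · exact hp0
  · exact hp1

variable {k}

lemma mem_degreeLT_of_mul_mem_degreeLE {f g : k[X]} {n m : ℕ} (hf : f.Monic) (hfd : f.natDegree = n + 1)
    (h : f * g ∈ degreeLE k ((n + m : ℕ) : WithBot ℕ)) (hm : 0 < m) : g ∈ degreeLT k m := by
  by_cases hg : g = 0
  · rw [hg]; exact Submodule.zero_mem _
  rw [mem_degreeLT]
  rw [mem_degreeLE] at h
  have h1 : (f * g).natDegree = n + 1 + g.natDegree := by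
    rw [hf.natDegree_mul' hg, hfd]
  have h2 : (f * g).natDegree ≤ n + m := natDegree_le_of_degree_le h
  have h3 : g.natDegree < m := by omega
  exact (natDegree_lt_iff_degree_lt hg).1 h3

end setup


section main

variable {k : Type*} [Field k] [CharZero k]

lemma V_le_WW (a b : ℕ) (ha : 0 < a) (hb : 0 < b) :
    ((Ideal.span {(X : Polynomial k) ^ (a + 1)}).restrictScalars k ⊓ Polynomial.degreeLE k ↑(a + b)) ⊔
      ((Ideal.span {((X : Polynomial k) - 1) ^ (b + 1)}).restrictScalars k ⊓ Polynomial.degreeLE k ↑(a + b)) ⊔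
      Submodule.span k {(X : Polynomial k) ^ (a + 1) * (X - 1) ^ (b + 1)} ≤
    WW (rr k) (aa a b) (a + b + 1) := by
  have hN : a + b + 1 = (∑ j, aa a b j) + 1 := by rw [sum_aa]
  have hpos := aa_pos a b ha hb
  refine sup_le (sup_le ?_ ?_) ?_
  · rintro f ⟨hf1, hf2⟩
    rw [SetLike.mem_coe, Submodule.restrictScalars_mem, Ideal.mem_span_singleton] at hf1
    obtain ⟨g, rfl⟩ := hf1
    have hg : g ∈ degreeLT k b :=
      mem_degreeLT_of_mul_mem_degreeLE (monic_X_pow (a + 1)) (natDegree_X_pow _) hf2 hb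
    apply Di_mul_mem_WW (rr k) (aa a b) hpos 1 (a + b + 1) hN 1
    refine ⟨g, hg, ?_⟩
    rw [LinearMap.mulLeft_apply, Di_one]
  · rintro f ⟨hf1, hf2⟩
    rw [SetLike.mem_coe, Submodule.restrictScalars_mem, Ideal.mem_span_singleton] at hf1
    obtain ⟨g, rfl⟩ := hf1
    have hmon : ((X : k[X]) - 1) ^ (b + 1) = (X - C 1) ^ (b + 1) := by rw [C_1]
    have hg : g ∈ degreeLT k a := by
      rw [add_comm a b] at hf2
      refine mem_degreeLT_of_mul_mem_degreeLE (f := ((X : k[X]) - 1) ^ (b + 1)) ?_ ?_ hf2 ha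
      · rw [hmon]; exact (monic_X_sub_C 1).pow _
      · rw [hmon, natDegree_pow, natDegree_X_sub_C, mul_one]
    apply Di_mul_mem_WW (rr k) (aa a b) hpos 1 (a + b + 1) hN 0
    refine ⟨g, hg, ?_⟩
    rw [LinearMap.mulLeft_apply, Di_zero]
  · rw [Submodule.span_le, Set.singleton_subset_iff]
    apply D_mul_mem_WW (rr k) (aa a b) hpos 1 (a + b + 1) hN
    refine ⟨1, ?_, ?_⟩
    · rw [SetLike.mem_coe, mem_degreeLT, degree_one]
      exact_mod_cast zero_lt_one
    · rw [LinearMap.mulLeft_apply, mul_one, DD_eq2]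

lemma coprime_pow_pow (p q : k) (hpq : p ≠ q) (m n : ℕ) :
    IsCoprime ((X - C p) ^ m) ((X - C q) ^ n) := by
  apply IsCoprime.pow
  apply isCoprime_X_sub_C_of_isUnit_sub
  rw [isUnit_iff_ne_zero, sub_ne_zero]
  exact hpq

lemma degree_pow_mul_pow (p q : k) (m n : ℕ) :
    ((X - C p) ^ m * (X - C q) ^ n).degree = ((m + n : ℕ) : WithBot ℕ) := by
  rw [degree_mul, degree_X_sub_C_pow', degree_X_sub_C_pow']
  push_cast
  rfl

open Polynomial in
/-- Let `k` be a field of characteristic zero, `a, b, i` positive integers with `i ≤ a + b`, and `j = a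
+ b + 2 - i`. On the projective line with three marked points `A = 0`, `B = 1`, `C = ∞`, the
`(a+b+1)`-dimensional linear system `V = H⁰(ω((1+a)A)) ⊕ H⁰(ω((1+b)B)) ⊕ H⁰(ω(2C)) ⊆ H⁰(ω((1+a)A +
(1+b)B + 2C)) ≅ H⁰(O(a+b+2))` becomes, in the affine coordinate, the span of the multiples of
`X^(a+1)` of degree at most `a+b`, the multiples of `(X-1)^(b+1)` of degree at most `a+b`, and
`X^(a+1) (X-1)^(b+1)`; and `V(-iP-jQ)` is the subspace of members divisible by `(X-p)^i (X-q)^j`.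
Then there are no points `P = p`, `Q = q` other than `A, B, C` (that is, `p, q ∉ {0, 1}`; `p = q`
allowed) with both `dim V(-iP-jQ) ≥ 1` and `dim V(-(i-1)P-(j-1)Q) ≥ 2`. (The published statement is
over the complex numbers.) -/
theorem result
    (k : Type*) [Field k] [CharZero k] (a b i j : ℕ) (ha : 0 < a) (hb : 0 < b) (hi : 0 < i) (hiab : i ≤ a + b)
    (hj : i + j = a + b + 2)
    (V : Submodule k (Polynomial k))
    (hV : V = ((Ideal.span {(X : Polynomial k) ^ (a + 1)}).restrictScalars k ⊓ Polynomial.degreeLE k ↑(a + b)) ⊔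
      ((Ideal.span {((X : Polynomial k) - 1) ^ (b + 1)}).restrictScalars k ⊓ Polynomial.degreeLE k ↑(a + b)) ⊔
      Submodule.span k {(X : Polynomial k) ^ (a + 1) * (X - 1) ^ (b + 1)})
    (p q : k) (hp0 : p ≠ 0) (hp1 : p ≠ 1) (hq0 : q ≠ 0) (hq1 : q ≠ 1) :
    ¬ (1 ≤ Module.finrank k ↥(V ⊓ (Ideal.span {(X - C p) ^ i * (X - C q) ^ j}).restrictScalars k) ∧
       2 ≤ Module.finrank k ↥(V ⊓ (Ideal.span {(X - C p) ^ (i - 1) * (X - C q) ^ (j - 1)}).restrictScalars k)) := by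
  rintro ⟨h1, h2⟩
  set N := a + b + 1 with hNdef
  have hVW : V ≤ WW (rr k) (aa a b) N := by rw [hV]; exact V_le_WW a b ha hb
  have hpos := aa_pos a b ha hb
  have hsum : (∑ j, aa a b j) ≤ N := by rw [sum_aa]; omega
  have hp := ne_rr k p hp0 hp1
  have hq := ne_rr k q hq0 hq1
  have hmemS : ∀ (f h : k[X]), h ∈ (Ideal.span {f}).restrictScalars k ↔ f ∣ h := by
    intro f h
    rw [Submodule.restrictScalars_mem, Ideal.mem_span_singleton]
  -- a nonzero member of the first space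
  have hex : ∃ h₀ ∈ V ⊓ (Ideal.span {(X - C p) ^ i * (X - C q) ^ j}).restrictScalars k, h₀ ≠ 0 := by
    by_contra hcon
    push Not at hcon
    have : V ⊓ (Ideal.span {(X - C p) ^ i * (X - C q) ^ j}).restrictScalars k = ⊥ :=
      (Submodule.eq_bot_iff _).2 hcon
    rw [this, finrank_bot] at h1
    omega
  obtain ⟨h₀, ⟨hh₀V, hh₀S⟩, hh₀ne⟩ := hex
  rw [SetLike.mem_coe, hmemS] at hh₀S
  have hE := Psi_EE (rr k) (aa a b) hpos
  have hEq : eval q (EE (rr k) (aa a b)) ≠ 0 := eval_EE_ne_zero (rr k) (aa a b) q hq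
  have hEmem : EE (rr k) (aa a b) ∈ degreeLT k (N + 1) :=
    mem_degLT_of_natDegree_le ((natDegree_EE_le (rr k) (aa a b)).trans hsum)
  by_cases hpq : p = q
  · -- a member divisible by `(X - p)^(N+1)`
    subst hpq
    rw [← pow_add] at hh₀S
    have : (X - C p) ^ N ∣ h₀ := dvd_trans (pow_dvd_pow _ (by omega)) hh₀S
    exact hh₀ne (eq_zero_of_dvd (rr k) (aa a b) hpos N hsum p hp h₀ (hVW hh₀V) this)
  · -- distinct points
    obtain ⟨P₀, hP₀mem, hP₀, hP₀p⟩ := exists_U (rr k) (aa a b) hpos N hsum p hp h₀ (hVW hh₀V) i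
      (dvd_trans (dvd_mul_right _ _) hh₀S)
    set c₀ := eval q P₀ / eval q (EE (rr k) (aa a b)) with hc₀
    have hQ₀root : (P₀ - c₀ • EE (rr k) (aa a b)).IsRoot q := by
      rw [IsRoot, eval_sub, eval_smul, smul_eq_mul, hc₀, div_mul_cancel₀ _ hEq, sub_self]
    have hQ₀Psi : Psi (rr k) (aa a b) (P₀ - c₀ • EE (rr k) (aa a b)) = h₀ := by
      rw [map_sub, map_smul, hE, smul_zero, sub_zero, hP₀]
    have hQ₀q : (X - C q) ^ (j + 1) ∣ P₀ - c₀ • EE (rr k) (aa a b) := by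
      apply order_lemma (rr k) (aa a b) q hq _ hQ₀root
      rw [hQ₀Psi]
      exact dvd_trans (dvd_mul_left _ _) hh₀S
    have hc₀ne : c₀ ≠ 0 := by
      intro h0
      rw [h0, zero_smul, sub_zero] at hQ₀q
      have hdvd : (X - C p) ^ (i + 1) * (X - C q) ^ (j + 1) ∣ P₀ :=
        (coprime_pow_pow p q hpq _ _).mul_dvd hP₀p hQ₀q
      have : P₀ = 0 := by
        apply eq_zero_of_dvd_of_degree_lt hdvd
        rw [degree_pow_mul_pow]
        refine lt_of_lt_of_le (mem_degreeLT.1 hP₀mem) ?_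
        exact_mod_cast (by omega : N + 1 ≤ i + 1 + (j + 1))
      rw [this, map_zero] at hP₀
      exact hh₀ne hP₀.symm
    have hle : V ⊓ (Ideal.span {(X - C p) ^ (i - 1) * (X - C q) ^ (j - 1)}).restrictScalars k ≤
        Submodule.span k {h₀} := by
      rintro h₁ ⟨hh₁V, hh₁S⟩
      rw [SetLike.mem_coe, hmemS] at hh₁S
      obtain ⟨P₁, hP₁mem, hP₁, hP₁p⟩ := exists_U (rr k) (aa a b) hpos N hsum p hp h₁ (hVW hh₁V) (i - 1)
        (dvd_trans (dvd_mul_right _ _) hh₁S)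
      rw [Nat.sub_add_cancel hi] at hP₁p
      set c₁ := eval q P₁ / eval q (EE (rr k) (aa a b)) with hc₁
      have hQ₁root : (P₁ - c₁ • EE (rr k) (aa a b)).IsRoot q := by
        rw [IsRoot, eval_sub, eval_smul, smul_eq_mul, hc₁, div_mul_cancel₀ _ hEq, sub_self]
      have hQ₁Psi : Psi (rr k) (aa a b) (P₁ - c₁ • EE (rr k) (aa a b)) = h₁ := by
        rw [map_sub, map_smul, hE, smul_zero, sub_zero, hP₁]
      have hQ₁q : (X - C q) ^ (j - 1 + 1) ∣ P₁ - c₁ • EE (rr k) (aa a b) := by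
        apply order_lemma (rr k) (aa a b) q hq _ hQ₁root
        rw [hQ₁Psi]
        exact dvd_trans (dvd_mul_left _ _) hh₁S
      rw [Nat.sub_add_cancel (by omega : 1 ≤ j)] at hQ₁q
      have hP₂ : P₁ - (c₁ / c₀) • P₀ = 0 := by
        have hdp : (X - C p) ^ i ∣ P₁ - (c₁ / c₀) • P₀ :=
          dvd_sub hP₁p (dvd_smul_of_dvd _ (dvd_trans (pow_dvd_pow _ (Nat.le_succ i)) hP₀p))
        have hdq : (X - C q) ^ j ∣ P₁ - (c₁ / c₀) • P₀ := by
          have : P₁ - (c₁ / c₀) • P₀ = (P₁ - c₁ • EE (rr k) (aa a b)) -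
              (c₁ / c₀) • (P₀ - c₀ • EE (rr k) (aa a b)) := by
            rw [smul_sub, smul_smul, div_mul_cancel₀ _ hc₀ne]
            ring
          rw [this]
          exact dvd_sub hQ₁q (dvd_smul_of_dvd _ (dvd_trans (pow_dvd_pow _ (Nat.le_succ j)) hQ₀q))
        have hdvd : (X - C p) ^ i * (X - C q) ^ j ∣ P₁ - (c₁ / c₀) • P₀ :=
          (coprime_pow_pow p q hpq _ _).mul_dvd hdp hdq
        apply eq_zero_of_dvd_of_degree_lt hdvd
        rw [degree_pow_mul_pow]
        have hmem : P₁ - (c₁ / c₀) • P₀ ∈ degreeLT k (N + 1) :=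
          Submodule.sub_mem _ hP₁mem (Submodule.smul_mem _ _ hP₀mem)
        refine lt_of_lt_of_le (mem_degreeLT.1 hmem) ?_
        exact_mod_cast (by omega : N + 1 ≤ i + j)
      rw [Submodule.mem_span_singleton]
      refine ⟨c₁ / c₀, ?_⟩
      rw [← hP₀, ← hP₁, ← map_smul]
      congr 1
      exact (sub_eq_zero.1 hP₂).symm
    have := finrank_le_one_of_le_span h₀ hle
    omega

end main

end Groth.Agent.S16260
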