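import Groth.Statements.S16266
import Groth.Agent.Lib.Helper18.FF.TwoPoint

set_option autoImplicit false
open FunFld

namespace Groth.Agent.S16266

/-- Let `K/k` be a function field of one variable over an algebraically closed field `k` of
characteristic zero, `D` a divisor, `V ⊆ L(D)` a linear system of dimension `r + 1` with `r ≥ 1`,
and `P` a place with `V' = V(-P) = V ∩ L(D - P) ≠ V`, an `r`-dimensional system in `L(D - P)`.
Assume that neither `V` nor `V'` has a special ramification point (a place of weight at least two):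
for every place `R`, `dim V ∩ L(D - rR) ≤ 1`, `V ∩ L(D - (r+2)R) = 0`, `dim V' ∩ L(D - P - (r-1)R) ≤
1` and `V' ∩ L(D - P - (r+1)R) = 0`. Then no place `Q ≠ P` is a ramification point of both `V` and
`V'`: for no such `Q` are both `V ∩ L(D - (r+1)Q)` and `V' ∩ L(D - P - rQ)` nonzero. (The published
statement is for a smooth curve over the complex numbers.) -/
theorem result
    (k K : Type*) [Field k] [IsAlgClosed k] [CharZero k] [Field K] [Algebra k K]
    (hK : FunFld.IsFunctionField k K) (D : FunFld.Divisor k K)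
    (V : Submodule k K) (hVD : V ≤ FunFld.L D) (r : ℕ) (hr : Module.finrank k ↥V = r + 1) (hr1 : 1 ≤ r)
    (P : FunFld.Place k K) (hP : V ⊓ FunFld.L (D - Finsupp.single P 1) ≠ V)
    (hns : ∀ R : FunFld.Place k K,
      Module.finrank k ↥(V ⊓ FunFld.L (D - Finsupp.single R (r : ℤ))) ≤ 1 ∧
        V ⊓ FunFld.L (D - Finsupp.single R ((r : ℤ) + 2)) = ⊥)
    (hns' : ∀ R : FunFld.Place k K,
      Module.finrank k ↥(V ⊓ FunFld.L (D - Finsupp.single P 1 - Finsupp.single R ((r : ℤ) - 1))) ≤ 1 ∧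
        V ⊓ FunFld.L (D - Finsupp.single P 1 - Finsupp.single R ((r : ℤ) + 1)) = ⊥)
    (Q : FunFld.Place k K) (hQP : Q ≠ P) :
    ¬ (V ⊓ FunFld.L (D - Finsupp.single Q ((r : ℤ) + 1)) ≠ ⊥ ∧
       V ⊓ FunFld.L (D - Finsupp.single P 1 - Finsupp.single Q (r : ℤ)) ≠ ⊥) := by
  classical
  rintro ⟨h1, h2⟩
  haveI := Groth.Agent.Lib.Helper18.FF.finiteDimensional_L hK D
  haveI : FiniteDimensional k V := Submodule.finiteDimensional_of_le hVD
  obtain ⟨s₁, hs₁, hs₁0⟩ := Submodule.exists_mem_ne_zero_of_ne_bot h1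
  obtain ⟨s₂, hs₂, hs₂0⟩ := Submodule.exists_mem_ne_zero_of_ne_bot h2
  haveI : FiniteDimensional k ↥(V ⊓ FunFld.L (D - Finsupp.single Q (r : ℤ))) :=
    Submodule.finiteDimensional_of_le inf_le_left
  have hs₁U : s₁ ∈ V ⊓ FunFld.L (D - Finsupp.single Q (r : ℤ)) := by
    refine ⟨hs₁.1, Groth.Agent.Lib.Helper18.FF.L_mono ?_ hs₁.2⟩
    intro R
    simp only [Finsupp.sub_apply, Finsupp.single_apply]
    split_ifs <;> omega
  have hs₂U : s₂ ∈ V ⊓ FunFld.L (D - Finsupp.single Q (r : ℤ)) := by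
    refine ⟨hs₂.1, Groth.Agent.Lib.Helper18.FF.L_mono ?_ hs₂.2⟩
    intro R
    simp only [Finsupp.sub_apply, Finsupp.single_apply]
    split_ifs <;> omega
  obtain ⟨c, hc⟩ := Groth.Agent.Lib.Helper18.FF.exists_smul_eq_of_finrank_le_one (hns Q).1 hs₁U
    hs₂U hs₂0
  have hs₁' : s₁ ∈ FunFld.L (D - Finsupp.single P 1 - Finsupp.single Q (r : ℤ)) := by
    rw [hc]
    exact Submodule.smul_mem _ c hs₂.2
  have hmem : s₁ ∈ V ⊓ FunFld.L (D - Finsupp.single P 1 - Finsupp.single Q ((r : ℤ) + 1)) := by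
    refine ⟨hs₁.1, Groth.Agent.Lib.Helper18.FF.L_inf_le ?_ ⟨hs₁.2, hs₁'⟩⟩
    intro R
    simp only [Finsupp.sub_apply, Finsupp.single_apply]
    by_cases hRP : P = R
    · have hRQ : ¬ Q = R := fun h => hQP (h.trans hRP.symm)
      simp only [if_pos hRP, if_neg hRQ]
      omega
    · by_cases hRQ : Q = R
      · simp only [if_neg hRP, if_pos hRQ]
        omega
      · simp only [if_neg hRP, if_neg hRQ]
        omega
  rw [(hns' Q).2] at hmem
  exact hs₁0 ((Submodule.mem_bot k).mp hmem)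

end Groth.Agent.S16266
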