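import Groth.Statements.S16273
import Mathlib.CategoryTheory.Sites.CoversTop.Basic

set_option autoImplicit false
universe w' w v u
open CategoryTheory
open NonAbH1

namespace Groth.Agent.S16273

open Opposite

section
variable {C : Type u} [Category.{v} C] {J : GrothendieckTopology C} {G : Sheaf J GrpCat.{w}}
  {I : Type w'} {U : I → C}

lemma res_comp (P : NonAbH1.GSheaf G) {T T' T'' : C} (k : T'' ⟶ T') (a : T' ⟶ T)
    (p : P.P.obj.obj (op T)) :
    P.P.obj.map (k ≫ a).op p = P.P.obj.map k.op (P.P.obj.map a.op p) := by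
  rw [op_comp, CategoryTheory.Functor.map_comp]
  rfl

lemma res_id (P : NonAbH1.GSheaf G) {T : C} (p : P.P.obj.obj (op T)) :
    P.P.obj.map (𝟙 T).op p = p := by
  rw [op_id, CategoryTheory.Functor.map_id]
  rfl

lemma isSheaf_P (P : NonAbH1.GSheaf G) : Presieve.IsSheaf J P.P.obj :=
  (isSheaf_iff_isSheaf_of_type J _).1 P.P.property

lemma P_ext (P : NonAbH1.GSheaf G) {T : C} (S : Sieve T) (hS : S ∈ J T) (p p' : P.P.obj.obj (op T))
    (h : ∀ ⦃T' : C⦄ (a : T' ⟶ T), S a → P.P.obj.map a.op p = P.P.obj.map a.op p') : p = p' :=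
  ((isSheaf_P P) S hS).isSeparatedFor.ext (fun _ a ha => h a ha)

lemma P_glue (P : NonAbH1.GSheaf G) {T : C} (S : Sieve T) (hS : S ∈ J T)
    (y : ∀ ⦃T' : C⦄ (a : T' ⟶ T), S a → P.P.obj.obj (op T'))
    (hy : ∀ ⦃T' T'' : C⦄ (a : T' ⟶ T) (ha : S a) (h : T'' ⟶ T'),
      P.P.obj.map h.op (y a ha) = y (h ≫ a) (S.downward_closed ha h)) :
    ∃ g : P.P.obj.obj (op T), ∀ ⦃T' : C⦄ (a : T' ⟶ T) (ha : S a), P.P.obj.map a.op g = y a ha := by
  let x : Presieve.FamilyOfElements P.P.obj S.arrows := fun T' a ha => y a ha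
  have hx : x.SieveCompatible := fun T' T'' a h ha => (hy a ha h).symm
  obtain ⟨g, hg, -⟩ := (isSheaf_P P) S hS x
    ((Presieve.compatible_iff_sieveCompatible _).2 hx)
  exact ⟨g, fun T' a ha => hg a ha⟩

variable (P Q : NonAbH1.Torsor G) (γ : PresheafOfGroups.OneCocycle G.obj U)
  (s : ∀ i, P.P.obj.obj (op (U i))) (t : ∀ i, Q.P.obj.obj (op (U i)))

/-- the relation defining the comparison map -/
def Rel {T : C} (p : P.P.obj.obj (op T)) (q : Q.P.obj.obj (op T)) : Prop :=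
  ∀ ⦃T' : C⦄ (a : T' ⟶ T) (i : I) (b : T' ⟶ U i) (x : G.obj.obj (op T')),
    P.smul x (P.P.obj.map b.op (s i)) = P.P.obj.map a.op p →
      Q.P.obj.map a.op q = Q.smul x (Q.P.obj.map b.op (t i))

variable {P Q γ s t}

lemma indep (hs : P.toGSheaf.IsCocycleOf U s γ) (ht : Q.toGSheaf.IsCocycleOf U t γ)
    {T' : C} (p' : P.P.obj.obj (op T')) (i j : I) (b : T' ⟶ U i) (b' : T' ⟶ U j)
    (x x' : G.obj.obj (op T'))
    (h : P.smul x (P.P.obj.map b.op (s i)) = p') (h' : P.smul x' (P.P.obj.map b'.op (s j)) = p') :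
    Q.smul x (Q.P.obj.map b.op (t i)) = Q.smul x' (Q.P.obj.map b'.op (t j)) := by
  have e : x * γ.ev i j b b' = x' := by
    apply (P.isTorsor.1 (op T') (P.P.obj.map b'.op (s j)) p').unique _ h'
    rw [P.mul_smul, hs i j b b', h]
  rw [← e, Q.mul_smul, ht i j b b']

lemma rel_map {T T₁ : C} (f : T₁ ⟶ T) {p : P.P.obj.obj (op T)} {q : Q.P.obj.obj (op T)}
    (h : Rel P Q s t p q) : Rel P Q s t (P.P.obj.map f.op p) (Q.P.obj.map f.op q) := by
  intro T' a i b x hx
  rw [← res_comp] at hx ⊢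
  exact h (a ≫ f) i b x hx

lemma rel_smul {T : C} (g : G.obj.obj (op T)) {p : P.P.obj.obj (op T)} {q : Q.P.obj.obj (op T)}
    (h : Rel P Q s t p q) : Rel P Q s t (P.smul g p) (Q.smul g q) := by
  intro T' a i b x hx
  rw [P.map_smul] at hx
  have h1 : P.smul ((G.obj.map a.op g)⁻¹ * x) (P.P.obj.map b.op (s i)) = P.P.obj.map a.op p := by
    rw [P.mul_smul, hx, ← P.mul_smul, inv_mul_cancel, P.one_smul]
  have h2 := h a i b _ h1
  rw [Q.map_smul, h2, ← Q.mul_smul, mul_inv_cancel_left]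

section
variable (hU : J.CoversTop U)
include hU

lemma rel_unique {T : C} {p : P.P.obj.obj (op T)} {q q' : Q.P.obj.obj (op T)}
    (h : Rel P Q s t p q) (h' : Rel P Q s t p q') : q = q' := by
  apply P_ext Q.toGSheaf _ (hU T)
  rintro T' a ⟨i, ⟨b⟩⟩
  obtain ⟨x, hx, -⟩ := P.isTorsor.1 (op T') (P.P.obj.map b.op (s i)) (P.P.obj.map a.op p)
  rw [h a i b x hx, h' a i b x hx]

lemma rel_symm {T : C} {p p' : P.P.obj.obj (op T)} {q : Q.P.obj.obj (op T)}
    (h : Rel P Q s t p q) (h' : Rel Q P t s q p') : p' = p := by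
  apply P_ext P.toGSheaf _ (hU T)
  rintro T' a ⟨i, ⟨b⟩⟩
  obtain ⟨x, hx, -⟩ := P.isTorsor.1 (op T') (P.P.obj.map b.op (s i)) (P.P.obj.map a.op p)
  have h1 := h a i b x hx
  rw [h' a i b x h1.symm, hx]

lemma exists_rel (hs : P.toGSheaf.IsCocycleOf U s γ) (ht : Q.toGSheaf.IsCocycleOf U t γ)
    {T : C} (p : P.P.obj.obj (op T)) : ∃ q : Q.P.obj.obj (op T), Rel P Q s t p q := by
  have key : ∀ ⦃T' : C⦄ (a : T' ⟶ T), Sieve.ofObjects U T a →
      ∃ y : Q.P.obj.obj (op T'), ∀ (i : I) (b : T' ⟶ U i) (x : G.obj.obj (op T')),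
        P.smul x (P.P.obj.map b.op (s i)) = P.P.obj.map a.op p →
          y = Q.smul x (Q.P.obj.map b.op (t i)) := by
    rintro T' a ⟨i, ⟨b⟩⟩
    obtain ⟨x, hx, -⟩ := P.isTorsor.1 (op T') (P.P.obj.map b.op (s i)) (P.P.obj.map a.op p)
    exact ⟨Q.smul x (Q.P.obj.map b.op (t i)), fun j b' x' hx' => indep hs ht _ i j b b' x x' hx hx'⟩
  obtain ⟨q, hq⟩ := P_glue Q.toGSheaf (Sieve.ofObjects U T) (hU T)
    (fun T' a ha => (key a ha).choose) (by
    intro T' T'' a ha k
    have ha' := (Sieve.ofObjects U T).downward_closed ha k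
    obtain ⟨i, ⟨b⟩⟩ := id ha
    obtain ⟨x, hx, -⟩ := P.isTorsor.1 (op T') (P.P.obj.map b.op (s i)) (P.P.obj.map a.op p)
    have hx' : P.smul (G.obj.map k.op x) (P.P.obj.map (k ≫ b).op (s i)) =
        P.P.obj.map (k ≫ a).op p := by
      rw [res_comp, res_comp, ← P.map_smul, hx]
    rw [(key a ha).choose_spec i b x hx, (key (k ≫ a) ha').choose_spec i (k ≫ b) _ hx',
      Q.map_smul, res_comp])
  refine ⟨q, ?_⟩
  intro T' a i b x hx
  rw [hq a ⟨i, ⟨b⟩⟩]
  exact (key a ⟨i, ⟨b⟩⟩).choose_spec i b x hx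

end

/-- the comparison morphism -/
noncomputable def φ (hU : J.CoversTop U) (hs : P.toGSheaf.IsCocycleOf U s γ)
    (ht : Q.toGSheaf.IsCocycleOf U t γ) : P.toGSheaf ⟶ Q.toGSheaf where
  hom := ⟨{
    app := fun T => ↾(fun p => (exists_rel (T := T.unop) hU hs ht p).choose)
    naturality := by
      intro T T₁ f
      refine ConcreteCategory.hom_ext _ _ (fun p => ?_)
      exact rel_unique (T := T₁.unop) hU
        (exists_rel (T := T₁.unop) hU hs ht (P.P.obj.map f p)).choose_spec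
        (rel_map f.unop (exists_rel (T := T.unop) hU hs ht p).choose_spec) }⟩
  map_smul {T} g p := by
    exact rel_unique (T := T.unop) hU
      (exists_rel (T := T.unop) hU hs ht (P.smul g p)).choose_spec
      (rel_smul g (exists_rel (T := T.unop) hU hs ht p).choose_spec)

lemma φ_rel (hU : J.CoversTop U) (hs : P.toGSheaf.IsCocycleOf U s γ)
    (ht : Q.toGSheaf.IsCocycleOf U t γ) {T : C} (p : P.P.obj.obj (op T)) :
    Rel P Q s t p ((φ hU hs ht).hom.hom.app (op T) p) :=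
  (exists_rel (T := T) hU hs ht p).choose_spec

lemma φ_comp (hU : J.CoversTop U) (hs : P.toGSheaf.IsCocycleOf U s γ)
    (ht : Q.toGSheaf.IsCocycleOf U t γ) : φ hU hs ht ≫ φ hU ht hs = 𝟙 _ := by
  apply NonAbH1.GSheaf.hom_ext
  apply Sheaf.hom_ext
  ext T p
  obtain ⟨T⟩ := T
  exact rel_symm hU (φ_rel hU hs ht p) (φ_rel hU ht hs _)

end


/-- Let C be a category with a Grothendieck topology J, G a sheaf of groups and U a family of objects
which covers every object of the site. Two G-torsors admitting a common Cech class in H^1(U, G)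
(each cut out by some family of sections over the U_i) are equivariantly isomorphic. (The published
statement is for an etale covering of a scheme; this row is stated for any family of objects
covering the site.) -/
theorem result {C : Type u} [Category.{v} C]
    {J : GrothendieckTopology C} {G : Sheaf J GrpCat.{w}} {I : Type w'} (U : I → C) (hU : J.CoversTop U)
    (P Q : NonAbH1.Torsor G)
    (c : PresheafOfGroups.H1 G.obj U) (hPc : P.HasCechClass U c) (hQc : Q.HasCechClass U c) :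
    Nonempty (P.toGSheaf ≅ Q.toGSheaf) := by
  obtain ⟨s, γ, hs, hγ⟩ := hPc
  obtain ⟨t, δ, ht, hδ⟩ := hQc
  obtain ⟨α, hα⟩ := (PresheafOfGroups.OneCocycle.class_eq_iff γ δ).1 (hγ.trans hδ.symm)
  have hs' : P.toGSheaf.IsCocycleOf U (fun i => P.smul (α i) (s i)) δ := by
    intro i j T a b
    rw [P.map_smul, P.map_smul, ← P.mul_smul, ← hα i j a b, P.mul_smul, hs i j a b]
  exact ⟨⟨φ hU hs' ht, φ hU ht hs', φ_comp hU hs' ht, φ_comp hU ht hs'⟩⟩

end Groth.Agent.S16273
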