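import Groth.Statements.S16297
import Groth.Agent.Lib.Helper2.G0GG

set_option autoImplicit false
universe u
open CategoryTheory CategoryTheory.Limits AlgebraicGeometry
open Curves

namespace Groth.Agent.S16297

/-- Let k be a field and X a proper scheme over k of dimension one (not assumed reduced or irreducible)
with H^1(X, O_X) = 0, and let L be an ample invertible O_X-module. Then L is very ample: for some n
there is a closed immersion i : X → P^n_k over k with i^*O(1) isomorphic to L (existence of an
isomorphism only). -/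
theorem result (k : Type u) [Field k] (X : Scheme.{u}) [X.Over (Spec (CommRingCat.of k))]
    [IsProper (X ↘ (Spec (CommRingCat.of k)))] (hdim : topologicalKrullDim X = 1)
    (h1 : Subsingleton (Coh.HH X (Coh.structureModule X) 1))
    (L : X.Modules) (hA : CohB1.IsAmple L) :
    ∃ (n : ℕ) (i : X ⟶ CohB1.ProjSpace n k), IsClosedImmersion i ∧
      i ≫ CohB1.ProjSpace.toSpec n k = X ↘ (Spec (CommRingCat.of k)) ∧
      Nonempty ((Scheme.Modules.pullback i).obj (Twist.twistProjSpace n k 1) ≅ L) := by
  haveI := Groth.Agent.Lib.Helper2.G0GG.isNoetherian k X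
  have hgg := Groth.Agent.Lib.Helper2.G0GG.isGloballyGenerated_of_isAmple k hdim.le h1 hA
  have hres := Groth.Agent.Lib.Helper4.VA6.exists_projSpace k (X ↘ (Spec (CommRingCat.of k)))
    (CohB1.tensorPow L 1) (by
      refine Groth.Agent.Lib.Helper4.VA5.exists_closedImm_veronese (X ↘ (Spec (CommRingCat.of k))) hA
        (fun x => Groth.Agent.Lib.Helper17.GGStalk.exists_mem_genLocus L hA.1 hgg x) 1 le_rfl
        (fun n hn t => ?_)
      exact Groth.Agent.Lib.Helper4.VA6.mem_span_of_eq_top n
        (Groth.Agent.Lib.Helper4.CM3.span_tmul_tensorPow hdim.le hA.1 hgg 0 h1 n hn) t)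
  obtain ⟨n, i, hi, hq, ⟨φ⟩⟩ := hres
  exact ⟨n, i, hi, hq, ⟨φ ≪≫ Groth.Agent.Lib.Helper4.VA6.tensorPowOne L⟩⟩

end Groth.Agent.S16297
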