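import Groth.Statements.S1630
import Mathlib
-- import your own Groth.Agent.* helpers here

set_option autoImplicit false
universe u
open CategoryTheory CategoryTheory.Limits AlgebraicGeometry
open Variety

namespace Groth.Agent.S1630

section H
namespace W27
set_option backward.isDefEq.respectTransparency.types false

theorem irreducible_of_cover {T : Type*} [TopologicalSpace T] {ι : Type*} [Nonempty ι]
    (U : ι → Set T) (hUo : ∀ i, IsOpen (U i)) (hcov : ⋃ i, U i = Set.univ)
    (hirr : ∀ i, IsIrreducible (U i)) (hmeet : ∀ i j, (U i ∩ U j).Nonempty) :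
    IrreducibleSpace T := by
  have hpre : PreirreducibleSpace T := by
    apply PreirreducibleSpace.of_forall_nonempty_inter
    intro V W hV hW ⟨x, hx⟩ ⟨y, hy⟩
    have hx' : x ∈ ⋃ i, U i := hcov ▸ Set.mem_univ x
    have hy' : y ∈ ⋃ i, U i := hcov ▸ Set.mem_univ y
    obtain ⟨i, hxi⟩ := Set.mem_iUnion.mp hx'
    obtain ⟨j, hyj⟩ := Set.mem_iUnion.mp hy'
    obtain ⟨z, hzi, hzV, hzj⟩ := (hirr i).2 V (U j) hV (hUo j) ⟨x, hxi, hx⟩ (hmeet i j)
    obtain ⟨t, htj, htV, htW⟩ := (hirr j).2 V W hV hW ⟨z, hzj, hzV⟩ ⟨y, hyj, hy⟩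
    exact ⟨t, htV, htW⟩
  obtain ⟨i⟩ := ‹Nonempty ι›
  obtain ⟨x, -⟩ := (hirr i).1
  exact { toPreirreducibleSpace := hpre, toNonempty := ⟨x⟩ }

theorem main (k : Type u) [Field k] (X : Scheme.{u}) (f : X ⟶ Spec (CommRingCat.of k))
    (ι : Type u) (U : ι → X.Opens) (hne : Nonempty ι) (hcov : (⨆ i, U i) = ⊤)
    (hmeet : ∀ i j, ((U i : Set X) ∩ (U j : Set X)).Nonempty)
    (hU : ∀ i, GeometricallyIrreducible ((U i).ι ≫ f)) : GeometricallyIrreducible f := by
  rw [GeometricallyIrreducible.eq_geometrically]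
  intro K _ y Z fst snd hZ
  have hys : Surjective y := by
    constructor
    intro x
    have : Subsingleton (Spec (CommRingCat.of k)) :=
      inferInstanceAs (Subsingleton (PrimeSpectrum k))
    have : Nonempty (Spec (CommRingCat.of K)) := inferInstanceAs (Nonempty (PrimeSpectrum K))
    obtain ⟨z⟩ := this
    exact ⟨z, Subsingleton.elim _ _⟩
  have hfs : Surjective fst := MorphismProperty.of_isPullback (P := @Surjective) hZ.flip hys
  apply irreducible_of_cover (fun i => ((fst ⁻¹ᵁ (U i) : Z.Opens) : Set Z))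
  · intro i; exact (fst ⁻¹ᵁ (U i)).isOpen
  · apply Set.eq_univ_of_forall
    intro z
    have hz : fst z ∈ (⨆ i, U i : X.Opens) := by rw [hcov]; trivial
    obtain ⟨i, hi⟩ := TopologicalSpace.Opens.mem_iSup.mp hz
    exact Set.mem_iUnion.mpr ⟨i, hi⟩
  · intro i
    have hpb : IsPullback (fst ∣_ (U i)) ((fst ⁻¹ᵁ (U i)).ι ≫ snd) ((U i).ι ≫ f) y :=
      (isPullback_morphismRestrict fst (U i)).paste_vert hZ
    have hi := hU i
    rw [GeometricallyIrreducible.eq_geometrically] at hi
    have : IrreducibleSpace ↥(fst ⁻¹ᵁ (U i) : Z.Opens) := hi y _ _ hpb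
    exact IsIrreducible.of_subtype (s := ((fst ⁻¹ᵁ (U i) : Z.Opens) : Set Z))
  · intro i j
    obtain ⟨x, hxi, hxj⟩ := hmeet i j
    obtain ⟨z, rfl⟩ := fst.surjective x
    exact ⟨z, hxi, hxj⟩

end W27
end H


/-- Let X be a scheme over k. If X has a cover by a nonempty family of open subschemes, each
geometrically irreducible over k and any two of which meet, then X is geometrically irreducible over
k. -/
theorem result (k : Type u) [Field k] (X : Scheme.{u}) [X.Over (Spec (CommRingCat.of k))]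
    (ι : Type u) (U : ι → X.Opens) (hne : Nonempty ι) (hcov : (⨆ i, U i) = ⊤)
    (hmeet : ∀ i j, ((U i : Set X) ∩ (U j : Set X)).Nonempty)
    (hU : ∀ i, GeometricallyIrreducible ((U i).ι ≫ (X ↘ (Spec (CommRingCat.of k))))) : GeometricallyIrreducible (X ↘ (Spec (CommRingCat.of k))) := by
  exact W27.main k X (X ↘ (Spec (CommRingCat.of k))) ι U hne hcov hmeet hU

end Groth.Agent.S1630
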