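import Groth.Statements.S16310
-- import your own Groth.Agent.* helpers here
import Groth.Agent.Lib.Helper27.CovDiag

set_option autoImplicit false
universe u
open W4c3irrattreebun

namespace Groth.Agent.S16310

/-- For a field extension K/k with field of constants k' (the relative algebraic closure of k in K), the
covering gonality of K over k equals the covering gonality of K over k'. (The published statement
takes K to be an algebraic function field over k; this row allows any field extension K/k.) -/
theorem result (k K : Type u) [Field k] [Field K] [Algebra k K] :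
    W4c3irrattreebun.cvg k K = W4c3irrattreebun.cvg (algebraicClosure k K) K := by
  unfold W4c3irrattreebun.cvg
  set S := {e : ℕ | Nonempty (W4c3irrattreebun.CovDiag k K e)} with hS
  set S' := {e : ℕ | Nonempty (W4c3irrattreebun.CovDiag (algebraicClosure k K) K e)} with hS'
  have hsub : S' ⊆ S := by
    rintro e ⟨D⟩
    obtain ⟨D', -⟩ := Groth.Agent.Lib.Helper27.covDiag_down k K D
    exact ⟨D'⟩
  have hup : ∀ e ∈ S, ∃ e' ≤ e, e' ∈ S' := by
    rintro e ⟨D⟩
    obtain ⟨e', he', D', -⟩ := Groth.Agent.Lib.Helper27.covDiag_up k K D
    exact ⟨e', he', ⟨D'⟩⟩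
  by_cases hne : S.Nonempty
  · have h0 : sInf S ∈ S := Nat.sInf_mem hne
    obtain ⟨e', he', he'S⟩ := hup _ h0
    have hne' : S'.Nonempty := ⟨e', he'S⟩
    apply le_antisymm
    · exact Nat.sInf_le (hsub (Nat.sInf_mem hne'))
    · exact (Nat.sInf_le he'S).trans he'
  · have hS0 : S = ∅ := Set.not_nonempty_iff_eq_empty.mp hne
    have hS'0 : S' = ∅ := by
      apply Set.eq_empty_of_subset_empty
      rw [← hS0]; exact hsub
    rw [hS0, hS'0]

end Groth.Agent.S16310
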