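import Groth.Statements.S16312
-- import your own Groth.Agent.* helpers here
import Mathlib.Topology.Algebra.IsUniformGroup.Basic
import Mathlib.Analysis.Normed.Module.FiniteDimension

set_option autoImplicit false
universe u
open W4c3irrattreebun

namespace Groth.Agent.S16312

/-- Let N be a closed cone in real n-space, f a function continuous on N, positive at the nonzero points
of N and homogeneous of degree one under scaling by nonnegative reals, and Λ a discrete additive
subgroup. Then for every real c the set of points H of Λ lying in N with f(H) ≤ c is finite. (The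
published statement takes Λ to be a lattice; this row allows any discrete additive subgroup.) -/
theorem result (n : ℕ)
    (N : Set (EuclideanSpace ℝ (Fin n))) (hN : IsClosed N)
    (hcone : ∀ x ∈ N, ∀ r : ℝ, 0 ≤ r → r • x ∈ N)
    (f : EuclideanSpace ℝ (Fin n) → ℝ) (hf : ContinuousOn f N)
    (hpos : ∀ x ∈ N, x ≠ 0 → 0 < f x)
    (hhom : ∀ x ∈ N, ∀ r : ℝ, 0 ≤ r → f (r • x) = r * f x)
    (Λ : Submodule ℤ (EuclideanSpace ℝ (Fin n))) [DiscreteTopology Λ] (c : ℝ) :
    ({x : EuclideanSpace ℝ (Fin n) | x ∈ N ∧ f x ≤ c} ∩ (Λ : Set (EuclideanSpace ℝ (Fin n)))).Finite := by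
  have HΛ : IsClosed (X := EuclideanSpace ℝ (Fin n)) Λ := @AddSubgroup.isClosed_of_discrete _ _ _ _ _
    Λ.toAddSubgroup (inferInstanceAs (DiscreteTopology Λ))
  have hdisc : IsDiscrete (Λ : Set (EuclideanSpace ℝ (Fin n))) := DiscreteTopology.isDiscrete
  -- a bound on the norm
  obtain ⟨R, hR⟩ : ∃ R : ℝ, ∀ x ∈ N, f x ≤ c → ‖x‖ ≤ R := by
    set S : Set (EuclideanSpace ℝ (Fin n)) := N ∩ Metric.sphere 0 1 with hS
    have hScomp : IsCompact S := (isCompact_sphere 0 1).inter_left hN
    by_cases hSne : S.Nonempty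
    · obtain ⟨x0, hx0S, hx0min⟩ := hScomp.exists_isMinOn hSne (hf.mono Set.inter_subset_left)
      have hx0 : x0 ≠ 0 := by
        intro h0
        have := hx0S.2
        rw [h0] at this
        simp at this
      have hm : 0 < f x0 := hpos x0 hx0S.1 hx0
      refine ⟨c / f x0, fun x hxN hxc => ?_⟩
      by_cases hx : x = 0
      · rw [hx, norm_zero]
        have h0 : f 0 = 0 := by
          have := hhom x hxN 0 le_rfl
          simpa using this
        rw [hx, h0] at hxc
        exact div_nonneg hxc hm.le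
      · have hnorm : 0 < ‖x‖ := norm_pos_iff.2 hx
        set y := (‖x‖)⁻¹ • x with hy
        have hyN : y ∈ N := hcone x hxN _ (inv_nonneg.2 hnorm.le)
        have hyS : y ∈ S := ⟨hyN, by
          rw [mem_sphere_zero_iff_norm, hy, norm_smul, norm_inv, norm_norm,
            inv_mul_cancel₀ hnorm.ne']⟩
        have h1 : f x0 ≤ f y := hx0min hyS
        have h2 : f x = ‖x‖ * f y := by
          have := hhom y hyN ‖x‖ hnorm.le
          rw [hy, smul_smul, mul_inv_cancel₀ hnorm.ne', one_smul] at this
          exact this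
        rw [le_div_iff₀ hm]
        calc ‖x‖ * f x0 ≤ ‖x‖ * f y := mul_le_mul_of_nonneg_left h1 hnorm.le
          _ = f x := h2.symm
          _ ≤ c := hxc
    · refine ⟨0, fun x hxN _ => ?_⟩
      by_contra hcon
      have hx : x ≠ 0 := by
        rintro rfl
        simp at hcon
      have hnorm : 0 < ‖x‖ := norm_pos_iff.2 hx
      apply hSne
      refine ⟨(‖x‖)⁻¹ • x, hcone x hxN _ (inv_nonneg.2 hnorm.le), ?_⟩
      rw [mem_sphere_zero_iff_norm, norm_smul, norm_inv, norm_norm, inv_mul_cancel₀ hnorm.ne']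
  refine (Metric.finite_isBounded_inter_isClosed hdisc
    (Metric.isBounded_closedBall (x := (0 : EuclideanSpace ℝ (Fin n))) (r := R)) HΛ).subset ?_
  rintro x ⟨⟨hxN, hxc⟩, hxΛ⟩
  exact ⟨by simpa using hR x hxN hxc, hxΛ⟩

end Groth.Agent.S16312
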