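import Groth.Statements.S16319
import Groth.Agent.Lib.Helper8.PencilE
import Groth.Agent.Lib.Helper8.ClifE
import Groth.Agent.Lib.Helper16.TA1
import Groth.Agent.Lib.Helper28.InvQC

set_option autoImplicit false
open CategoryTheory CategoryTheory.Limits AlgebraicGeometry
universe u
open Curves

namespace Groth.Agent.S16319

/-- Let k be an algebraically closed field of characteristic zero and X a smooth proper integral curve
over k (integral, proper and smooth over k, of dimension one) of genus 9 whose Clifford index is 3: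
some invertible module M with h^0(M) ≥ 2 and h^1(M) ≥ 2 has deg M − 2(h^0(M) − 1) = 3, and every
invertible module M with h^0(M) ≥ 2 and h^1(M) ≥ 2 has deg M − 2(h^0(M) − 1) ≥ 3 (degrees are χ(M) −
χ(O_X); in particular X is not hyperelliptic); let H be an invertible module of degree 7 with h^0(H)
= 3 (a g^2_7) and D a globally generated invertible module of degree 5 with h^0(D) = 2 (a
base-point-free complete g^1_5). Then every module N with D ⊗ N ≅ H has h^0(N) = 1: the difference
of the two series is the class of an effective divisor of degree 2 with a one-dimensional space of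
sections, so the pencil is cut out by the lines through a double point of the plane model of degree
7. -/
theorem result
    (k : Type u) [Field k] [IsAlgClosed k] [CharZero k]
    (X : Scheme.{u}) [X.Over (Spec (CommRingCat.of k))] [IsIntegral X]
    [IsProper (X ↘ Spec (CommRingCat.of k))] [Smooth (X ↘ Spec (CommRingCat.of k))]
    (hdim : topologicalKrullDim X = 1) (hg : Curv2.genus k X = 9)
    (hex : ∃ M : X.Modules, PicF.IsInvertible M ∧ 2 ≤ Module.finrank k (Coh.HH X M 0) ∧
      2 ≤ Module.finrank k (Coh.HH X M 1) ∧ Curv2.deg k X M 1 = 2 * (Module.finrank k (Coh.HH X M 0) : ℤ) + 1)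
    (hmin : ∀ M : X.Modules, PicF.IsInvertible M → 2 ≤ Module.finrank k (Coh.HH X M 0) →
      2 ≤ Module.finrank k (Coh.HH X M 1) → 2 * (Module.finrank k (Coh.HH X M 0) : ℤ) + 1 ≤ Curv2.deg k X M 1)
    (H : X.Modules) (hH : PicF.IsInvertible H) (hdH : Curv2.deg k X H 1 = 7)
    (h0H : Module.finrank k (Coh.HH X H 0) = 3)
    (D : X.Modules) (hD : PicF.IsInvertible D) (hgD : Curv2.IsGloballyGenerated D)
    (hdD : Curv2.deg k X D 1 = 5) (h0D : Module.finrank k (Coh.HH X D 0) = 2)
    (N : X.Modules) (e : CohB1.tensorMod D N ≅ H) :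
    Module.finrank k (Coh.HH X N 0) = 1 := by
  classical
  letI := Groth.Agent.Lib.Helper8.PicCl.commMonoid (X := X)
  obtain ⟨J, hJ, hJD⟩ := Groth.Agent.Lib.Helper8.InvInverse.exists_isInverseOf hD
  have hJD' := hJD
  rw [Groth.Agent.Lib.Helper8.PicCl.isInverseOf_iff] at hJD'
  obtain ⟨ε⟩ := hJD
  -- `N ≅ J ⊗ H`
  obtain ⟨u⟩ := Groth.Agent.Lib.Helper28.InvQC.nonempty_unit_tensor_iso N
  have eN : N ≅ CohB1.tensorMod J H :=
    u.symm ≪≫ ((DCoh.tensorBi.mapIso ε).app N).symm ≪≫
      Groth.Agent.Lib.Helper16.TA.assocIso J D N ≪≫ (DCoh.tensorBi.obj J).mapIso e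
  have hN := Groth.Agent.Lib.Helper8.EulerK.hh_congr k eN 0
  have hJH := Groth.Agent.Lib.Helper28.GenLocus.isInvertible_tensorMod hJ hH
  have hHD := Groth.Agent.Lib.Helper28.GenLocus.isInvertible_tensorMod hH hD
  -- degrees
  have d1 := Groth.Agent.Lib.Helper8.DegGroup.deg_tensorMod k X hdim.le hJ hD
  have d2 : Curv2.deg k X (CohB1.tensorMod J D) 1 = 0 := by
    have h := Groth.Agent.Lib.Helper8.EulerK.euler_congr k ε
    unfold Curv2.deg
    rw [h]
    simp
  have d3 := Groth.Agent.Lib.Helper8.DegGroup.deg_tensorMod k X hdim.le hJ hH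
  have d4 := Groth.Agent.Lib.Helper8.DegGroup.deg_tensorMod k X hdim.le hH hD
  have e1 := Groth.Agent.Lib.Helper8.ClifE.deg_eq k X hdim _ hJH
  have e2 := Groth.Agent.Lib.Helper8.ClifE.deg_eq k X hdim _ hHD
  -- pencil trick
  have hp := Groth.Agent.Lib.Helper8.PencilE.pencil_gg k hdim.le hD hJ hJD' hgD h0D H
    (Groth.Agent.Lib.Helper6.K0Op.isCoh_of_isInvertible _ hH)
  have hc : PicF.cl (CohB1.tensorMod H J) = PicF.cl (CohB1.tensorMod J H) := by
    rw [← Groth.Agent.Lib.Helper8.PicCl.cl_mul_cl, ← Groth.Agent.Lib.Helper8.PicCl.cl_mul_cl,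
      mul_comm]
  rw [Groth.Agent.Lib.Helper8.PicCl.cl_eq_iff] at hc
  obtain ⟨c⟩ := hc
  have hcc := Groth.Agent.Lib.Helper8.EulerK.hh_congr k c 0
  have m1 := hmin _ hJH
  have m2 := hmin _ hHD
  unfold Groth.Agent.Lib.Helper8.EulerK.hh at hN e1 e2 hp hcc
  rw [hg] at e1 e2
  rw [hN]
  -- upper bound for `h⁰(H ⊗ D)`
  have hup : Module.finrank k (Coh.HH X (CohB1.tensorMod H D) 0) ≤ 5 := by
    by_contra hcon
    have := m2 (by omega) (by omega)
    omega
  -- upper bound for `h⁰(J ⊗ H)`
  have hup' : Module.finrank k (Coh.HH X (CohB1.tensorMod J H) 0) ≤ 1 := by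
    by_contra hcon
    have := m1 (by omega) (by omega)
    omega
  omega

end Groth.Agent.S16319
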