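import Groth.Statements.S16326
-- import your own Groth.Agent.* helpers here
import Groth.Agent.Lib.Helper27.ModuleHomology
import Mathlib.Tactic.Abel

set_option autoImplicit false
universe u v
open CategoryTheory
open W4c3biextchow

namespace Groth.Agent.S16326

/-- Let f : C ⟶ D be a chain map of ℕ-indexed chain complexes of modules over a ring R, and consider the
functor it induces between the groupoids attached to C and D (objects: degree-0 elements; morphisms
a ⟶ b: degree-1 elements with boundary b - a, modulo boundaries of degree-2 elements). This functor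
is full if and only if f is surjective on homology in degree 1 and injective on homology in degree
0. (The published statement is for complexes of abelian groups; this row allows modules over any
ring R.) -/
theorem result
    (R : Type u) [Ring R] (C D : ChainComplex (ModuleCat.{v} R) ℕ) (f : C ⟶ D) :
    (W4c3biextchow.cxFunctor f).Full ↔
      Epi (HomologicalComplex.homologyMap f 1) ∧ Mono (HomologicalComplex.homologyMap f 0) := by
  rw [Groth.Agent.Lib.Helper27.chain_epi_one, Groth.Agent.Lib.Helper27.chain_mono_zero]
  constructor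
  · intro hF
    constructor
    · intro y hy
      let a : Obj C := ⟨0⟩
      let ψ : (cxFunctor f).obj a ⟶ (cxFunctor f).obj a :=
        (⟨Submodule.Quotient.mk y, by simp [a, hy]⟩ : Hom D _ _)
      obtain ⟨φ, hφ⟩ := hF.map_surjective ψ
      obtain ⟨x, hx⟩ := Submodule.Quotient.mk_surjective _ (φ : Hom C a a).cl
      have hdx : (C.d 1 0).hom x = 0 := by
        rw [← delta_mk, hx, (φ : Hom C a a).delta_cl, sub_self]
      have h1 : q1Map f (Submodule.Quotient.mk x) = Submodule.Quotient.mk y := by
        rw [hx]
        exact congrArg Hom.cl hφ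
      rw [q1Map_mk, Submodule.Quotient.eq] at h1
      obtain ⟨z, hz⟩ := h1
      refine ⟨x, hdx, -z, ?_⟩
      rw [map_neg, hz]; abel
    · intro x y hxy
      let a : Obj C := ⟨0⟩
      let b : Obj C := ⟨x⟩
      let ψ : (cxFunctor f).obj a ⟶ (cxFunctor f).obj b :=
        (⟨Submodule.Quotient.mk y, by simp [a, b, hxy]⟩ : Hom D _ _)
      obtain ⟨φ, hφ⟩ := hF.map_surjective ψ
      obtain ⟨z, hz⟩ := Submodule.Quotient.mk_surjective _ (φ : Hom C a b).cl
      refine ⟨z, ?_⟩
      rw [← delta_mk, hz, (φ : Hom C a b).delta_cl]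
      simp [a, b]
  · rintro ⟨hE, hM⟩
    constructor
    intro a b ψ
    obtain ⟨y, hy⟩ := Submodule.Quotient.mk_surjective _ (ψ : Hom D _ _).cl
    have hdy : (D.d 1 0).hom y = (f.f 0).hom (b.pt - a.pt) := by
      rw [← delta_mk, hy, (ψ : Hom D _ _).delta_cl]
      simp
    obtain ⟨z, hz⟩ := hM (b.pt - a.pt) y hdy.symm
    have hcyc : (D.d 1 0).hom (y - (f.f 1).hom z) = 0 := by
      rw [map_sub, hdy, ← hz]
      have := congrArg (fun g => g.hom z) (f.comm 1 0)
      simp only [ModuleCat.hom_comp, LinearMap.comp_apply] at this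
      rw [this, sub_self]
    obtain ⟨x, hx, t, ht⟩ := hE _ hcyc
    refine ⟨(⟨Submodule.Quotient.mk (z + x), by rw [delta_mk, map_add, hz, hx, add_zero]⟩ :
      Hom C a b), ?_⟩
    apply Hom.ext
    rw [cxFunctor_map_cl]
    show q1Map f (Submodule.Quotient.mk (z + x)) = (ψ : Hom D _ _).cl
    rw [q1Map_mk, ← hy, Submodule.Quotient.eq]
    refine ⟨-t, ?_⟩
    rw [map_neg, map_add]
    have : (D.d 2 1).hom t = y - (f.f 1).hom z - (f.f 1).hom x := by rw [ht]; abel
    rw [this]; abel

end Groth.Agent.S16326
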