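import Groth.Statements.S16327
-- import your own Groth.Agent.* helpers here
import Groth.Agent.Lib.Helper27.ModuleHomology
import Mathlib.Tactic.Abel

set_option autoImplicit false
universe u v
open CategoryTheory
open W4c3biextchow

namespace Groth.Agent.S16327

/-- Let f : C ⟶ D be a chain map of ℕ-indexed chain complexes of modules over a ring R, and consider the
functor it induces between the groupoids attached to C and D (objects: degree-0 elements; morphisms
a ⟶ b: degree-1 elements with boundary b - a, modulo boundaries of degree-2 elements). This functor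
is essentially surjective if and only if f is surjective on homology in degree 0. (The published
statement is for complexes of abelian groups; this row allows modules over any ring R.) -/
theorem result
    (R : Type u) [Ring R] (C D : ChainComplex (ModuleCat.{v} R) ℕ) (f : C ⟶ D) :
    (W4c3biextchow.cxFunctor f).EssSurj ↔ Epi (HomologicalComplex.homologyMap f 0) := by
  rw [Groth.Agent.Lib.Helper27.chain_epi_zero]
  constructor
  · intro hF y
    obtain ⟨a, ⟨e⟩⟩ := hF.mem_essImage (⟨y⟩ : Obj D)
    obtain ⟨z, hz⟩ := Submodule.Quotient.mk_surjective _ (e.hom : Hom D _ _).cl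
    refine ⟨a.pt, z, ?_⟩
    have := (e.hom : Hom D _ _).delta_cl
    rw [← hz, delta_mk] at this
    rw [this]
    simp
  · intro H
    constructor
    intro Y
    obtain ⟨x, z, hz⟩ := H Y.pt
    refine ⟨⟨x⟩, ⟨?_⟩⟩
    have hd : delta D (Submodule.Quotient.mk z) = Y.pt - ((cxFunctor f).obj ⟨x⟩).pt := by
      rw [delta_mk, cxFunctor_obj_pt, hz]; abel
    exact
      { hom := (⟨Submodule.Quotient.mk z, hd⟩ : Hom D _ _)
        inv := (⟨-Submodule.Quotient.mk z, by rw [map_neg, hd]; abel⟩ : Hom D _ _)
        hom_inv_id := Hom.ext (by simp)
        inv_hom_id := Hom.ext (by simp) }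

end Groth.Agent.S16327
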