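import Groth.Statements.S16328
import Groth.Agent.Lib.Helper16.ChainContract
import Mathlib.Algebra.Homology.ShortComplex.ModuleCat
import Mathlib.Algebra.Category.ModuleCat.Projective
-- import your own Groth.Agent.* helpers here

set_option autoImplicit false
universe v
open CategoryTheory
open W4c3biextchow

namespace Groth.Agent.S16328

open Groth.Agent.Lib.Helper16.ChainContract


/-- Let f : A' ⟶ A and p : A ⟶ A'' be chain maps of ℕ-indexed chain complexes of free abelian groups
forming a short exact sequence in every degree (f injective, p surjective, image of f equal to the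
kernel of p), and assume f is a quasi-isomorphism. Then there is a chain map h : A'' ⟶ A such that
in every degree q the map (a'', a') ↦ h(a'') + f(a') is a bijection from A''_q × A'_q onto A_q, so
that A is the direct sum of the subcomplexes f(A') and h(A''). (The source allows complexes indexed
by all integers; stated here for complexes in non-negative degrees.) -/
theorem result
    (A' A A'' : ChainComplex (ModuleCat.{v} ℤ) ℕ) (f : A' ⟶ A) (p : A ⟶ A'')
    [∀ q, Module.Free ℤ (A'.X q)] [∀ q, Module.Free ℤ (A.X q)] [∀ q, Module.Free ℤ (A''.X q)]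
    (hf : ∀ q, Function.Injective (f.f q).hom) (hp : ∀ q, Function.Surjective (p.f q).hom)
    (hfp : ∀ q, Function.Exact (f.f q).hom (p.f q).hom) [QuasiIso f] :
    ∃ h : A'' ⟶ A, ∀ q : ℕ,
      Function.Bijective (fun x : A''.X q × A'.X q => (h.f q).hom x.1 + (f.f q).hom x.2) := by
  have hzero : f ≫ p = 0 := by
    ext q x
    exact (hfp q _).2 ⟨x, rfl⟩
  let S : ShortComplex (ChainComplex (ModuleCat.{v} ℤ) ℕ) := ShortComplex.mk f p hzero
  have hS : S.ShortExact := by
    apply HomologicalComplex.shortExact_of_degreewise_shortExact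
    intro i
    exact ModuleCat.shortComplex_shortExact _ (hfp i) (hf i) (hp i)
  have : QuasiIso S.f := inferInstanceAs (QuasiIso f)
  have : ∀ n, Projective (S.X₃.X n) := fun n =>
    inferInstanceAs (Projective (A''.X n))
  obtain ⟨h, hh⟩ := exists_section S hS
  refine ⟨h, fun q => ⟨?_, ?_⟩⟩
  · rintro ⟨a, b⟩ ⟨a', b'⟩ hab
    dsimp only at hab
    have hph : ∀ x : A''.X q, (p.f q).hom ((h.f q).hom x) = x := fun x => by
      have := congrArg (fun φ => (φ.f q).hom x) hh
      exact this
    have hpf : ∀ x : A'.X q, (p.f q).hom ((f.f q).hom x) = 0 := fun x => (hfp q _).2 ⟨x, rfl⟩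
    have h1 := congrArg (p.f q).hom hab
    rw [map_add, map_add, hph, hph, hpf, hpf, add_zero, add_zero] at h1
    subst h1
    have h2 : (f.f q).hom b = (f.f q).hom b' := add_left_cancel hab
    rw [hf q h2]
  · intro y
    have hph : ∀ x : A''.X q, (p.f q).hom ((h.f q).hom x) = x := fun x => by
      have := congrArg (fun φ => (φ.f q).hom x) hh
      exact this
    have hk : (p.f q).hom (y - (h.f q).hom ((p.f q).hom y)) = 0 := by
      rw [map_sub, hph, sub_self]
    obtain ⟨b, hb⟩ := (hfp q _).1 hk
    refine ⟨⟨(p.f q).hom y, b⟩, ?_⟩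
    dsimp only
    rw [hb]; abel

end Groth.Agent.S16328
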