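import Groth.Statements.S16329
import Groth.Agent.Lib.Helper16.ChainContract
import Mathlib.Algebra.Homology.ShortComplex.ModuleCat
import Mathlib.Algebra.Category.ModuleCat.Projective
import Mathlib.Algebra.Category.ModuleCat.Kernels
import Mathlib.Algebra.Homology.HomologicalComplexLimits
-- import your own Groth.Agent.* helpers here

set_option autoImplicit false
universe v
open CategoryTheory
open W4c3biextchow

namespace Groth.Agent.S16329

open Groth.Agent.Lib.Helper16.ChainContract CategoryTheory.Limits


/-- Let f : A' ⟶ A be a chain map of ℕ-indexed chain complexes of free abelian groups which is injective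
in every degree, whose degreewise quotients A_q / f(A'_q) are free abelian groups, and which is a
quasi-isomorphism. Then there is a chain map g : A ⟶ A' with f ≫ g the identity of A' (a chain-level
inverse of f that restricts to the identity on the subcomplex A'). (The source allows complexes
indexed by all integers; stated here for complexes in non-negative degrees.) -/
theorem result
    (A' A : ChainComplex (ModuleCat.{v} ℤ) ℕ) (f : A' ⟶ A)
    [∀ q, Module.Free ℤ (A'.X q)] [∀ q, Module.Free ℤ (A.X q)]
    (hf : ∀ q, Function.Injective (f.f q).hom)
    (hq : ∀ q, Module.Free ℤ ((A.X q) ⧸ LinearMap.range (f.f q).hom)) [QuasiIso f] :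
    ∃ g : A ⟶ A', f ≫ g = 𝟙 A' := by
  have hmono : Mono f := by
    apply HomologicalComplex.mono_of_mono_f
    intro i
    exact (ModuleCat.mono_iff_injective _).2 (hf i)
  let S : ShortComplex (ChainComplex (ModuleCat.{v} ℤ) ℕ) :=
    ShortComplex.mk f (cokernel.π f) (cokernel.condition f)
  have hS : S.ShortExact :=
    { exact := ShortComplex.exact_cokernel f
      mono_f := hmono
      epi_g := inferInstanceAs (Epi (cokernel.π f)) }
  have : QuasiIso S.f := inferInstanceAs (QuasiIso f)
  have : ∀ n, Projective (S.X₃.X n) := fun n => by
    let e1 : (cokernel f).X n ≅ cokernel (f.f n) :=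
      PreservesCokernel.iso (HomologicalComplex.eval _ _ n) f
    let e2 := ModuleCat.cokernelIsoRangeQuotient (f.f n)
    have hfree : @Module.Free ℤ ((A.X n) ⧸ LinearMap.range (f.f n).hom) _ _
        (Submodule.Quotient.module _) := by
      convert hq n
      · rfl
      · exact Subsingleton.elim _ _
    have : Projective (@ModuleCat.of ℤ _ ((A.X n) ⧸ LinearMap.range (f.f n).hom) _
        (Submodule.Quotient.module _)) := inferInstance
    exact Projective.of_iso (e1 ≪≫ e2).symm this
  exact exists_retraction S hS

end Groth.Agent.S16329
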