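import Groth.Statements.S16330
-- import your own Groth.Agent.* helpers here
import Mathlib

set_option autoImplicit false
universe v
open CategoryTheory
open W4c3biextchow

namespace Groth.Agent.S16330

/-- Let f : A' ⟶ A be a chain map of ℕ-indexed chain complexes of free abelian groups which is injective
in every degree, whose degreewise quotients A_q / f(A'_q) are free abelian groups, and which is a
quasi-isomorphism. Then any two chain maps g₁, g₂ : A ⟶ A' with f ≫ g₁ = f ≫ g₂ = 𝟙 differ by a
null-homotopic map: there is a chain homotopy between g₁ and g₂ all of whose components vanish on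
the image of f (so g₁ - g₂ factors through the quotient complex A / A', and the homotopy does too).
(The source allows complexes indexed by all integers; stated here for complexes in non-negative
degrees.) -/
theorem result
    (A' A : ChainComplex (ModuleCat.{v} ℤ) ℕ) (f : A' ⟶ A)
    [∀ q, Module.Free ℤ (A'.X q)] [∀ q, Module.Free ℤ (A.X q)]
    (hf : ∀ q, Function.Injective (f.f q).hom)
    (hq : ∀ q, Module.Free ℤ ((A.X q) ⧸ LinearMap.range (f.f q).hom)) [QuasiIso f]
    (g₁ g₂ : A ⟶ A') (h₁ : f ≫ g₁ = 𝟙 A') (h₂ : f ≫ g₂ = 𝟙 A') :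
    ∃ H : Homotopy g₁ g₂, ∀ i j : ℕ, f.f i ≫ H.hom i j = 0 := by
  classical
  haveI : Mono f := HomologicalComplex.mono_of_mono_f f
    (fun q => (ModuleCat.mono_iff_injective _).2 (hf q))
  let S : ShortComplex (ChainComplex (ModuleCat.{v} ℤ) ℕ) :=
    ShortComplex.mk f (Limits.cokernel.π f) (Limits.cokernel.condition f)
  have hS : S.ShortExact :=
    { exact := ShortComplex.exact_cokernel f
      mono_f := (inferInstance : Mono f)
      epi_g := (inferInstance : Epi (Limits.cokernel.π f)) }
  have hQ : (Limits.cokernel f).Acyclic := hS.acyclic_X₃ (inferInstance : QuasiIso f)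
  have hSn : ∀ n, (S.map (HomologicalComplex.eval _ (ComplexShape.down ℕ) n)).ShortExact :=
    (HomologicalComplex.shortExact_iff_degreewise_shortExact S).1 hS
  have hproj : ∀ q, Projective ((Limits.cokernel f).X q) := by
    intro q
    have hsurj : Function.Surjective ((Limits.cokernel.π f).f q).hom :=
      (ModuleCat.epi_iff_surjective _).1 (hSn q).epi_g
    have hker : LinearMap.range (f.f q).hom = LinearMap.ker ((Limits.cokernel.π f).f q).hom :=
      (hSn q).exact.moduleCat_range_eq_ker
    let e := (Submodule.quotEquivOfEq _ _ hker).trans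
        (LinearMap.quotKerEquivOfSurjective _ hsurj)
    have hq' := hq q
    have : Module.Free ℤ ((Limits.cokernel f).X q) := by
      have hq'' : @Module.Free ℤ ((A.X q) ⧸ LinearMap.range (f.f q).hom) _ _
          (Submodule.Quotient.module _) := by
        convert hq'
        all_goals first | rfl | exact Subsingleton.elim _ _ | skip
      exact @Module.Free.of_equiv' ℤ _ _ _ _ _ _ (Submodule.Quotient.module _) hq'' e
    exact ModuleCat.projective_of_free (Module.Free.chooseBasis ℤ ((Limits.cokernel f).X q))
  obtain ⟨Z0, hZ0⟩ : ∃ Z0 : ModuleCat.{v} ℤ, Limits.IsZero Z0 :=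
    ⟨ModuleCat.of ℤ PUnit, ModuleCat.isZero_of_subsingleton _⟩
  have hZ : Limits.IsZero ((ChainComplex.single₀ (ModuleCat.{v} ℤ)).obj Z0) :=
    Functor.map_isZero _ hZ0
  have hZex : ∀ i, ((ChainComplex.single₀ (ModuleCat.{v} ℤ)).obj Z0).ExactAt i := fun i =>
    ShortComplex.exact_of_isZero_X₂ _
      ((HomologicalComplex.eval _ (ComplexShape.down ℕ) i).map_isZero hZ)
  have hqi : QuasiIso (0 : Limits.cokernel f ⟶ (ChainComplex.single₀ (ModuleCat.{v} ℤ)).obj Z0) :=
    ⟨fun i => (quasiIsoAt_iff_exactAt _ i (hQ i)).2 (hZex i)⟩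
  let PQ : ProjectiveResolution Z0 :=
    { complex := Limits.cokernel f
      projective := hproj
      π := 0
      quasiIso := hqi }
  let s : Homotopy (𝟙 (Limits.cokernel f)) 0 :=
    ProjectiveResolution.liftHomotopyZero (P := PQ) (Q := PQ) (𝟙 _) (by simp [PQ])
  have hd : f ≫ (g₁ - g₂) = 0 := by simp [h₁, h₂]
  let db : Limits.cokernel f ⟶ A' := Limits.cokernel.desc f (g₁ - g₂) hd
  have hdb : Limits.cokernel.π f ≫ db = g₁ - g₂ := Limits.cokernel.π_desc _ _ _
  let H0 : Homotopy (g₁ - g₂) 0 :=
    (Homotopy.ofEq (by simp [hdb])).trans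
      (((s.compRight db).compLeft (Limits.cokernel.π f)).trans (Homotopy.ofEq (by simp)))
  refine ⟨Homotopy.equivSubZero.symm H0, fun i j => ?_⟩
  have hfi : f.f i ≫ (Limits.cokernel.π f).f i = 0 := by
    rw [← HomologicalComplex.comp_f, Limits.cokernel.condition, HomologicalComplex.zero_f]
  simp [H0, Homotopy.equivSubZero, reassoc_of% hfi]

end Groth.Agent.S16330
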