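import Groth.Statements.S16331
-- import your own Groth.Agent.* helpers here
import Groth.Agent.Lib.Helper27.ModuleHomology
import Mathlib.Tactic.Abel
import Mathlib.Algebra.Module.Projective
import Mathlib.Algebra.Homology.QuasiIso

set_option autoImplicit false
universe v
open CategoryTheory
open W4c3biextchow

namespace Groth.Agent.S16331

lemma exists_lift {R : Type*} [Ring R] {P M N : Type*} [AddCommGroup P] [AddCommGroup M]
    [AddCommGroup N] [Module R P] [Module R M] [Module R N] [Module.Projective R P]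
    (d : M →ₗ[R] N) (g : P →ₗ[R] N) (h : ∀ p, g p ∈ LinearMap.range d) :
    ∃ σ : P →ₗ[R] M, ∀ p, d (σ p) = g p := by
  obtain ⟨σ, hσ⟩ := Module.projective_lifting_property d.rangeRestrict
    (g.codRestrict (LinearMap.range d) h) d.surjective_rangeRestrict
  refine ⟨σ, fun p => ?_⟩
  have := congrArg (fun φ => ((φ p : LinearMap.range d) : N)) hσ
  simpa using this

lemma comm_apply {K L : ChainComplex (ModuleCat.{v} ℤ) ℕ} (φ : K ⟶ L) (i j : ℕ) (x : K.X i) :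
    (φ.f j).hom ((K.d i j).hom x) = (L.d i j).hom ((φ.f i).hom x) := by
  have := congrArg (fun g => g.hom x) (φ.comm i j)
  simp only [ModuleCat.hom_comp, LinearMap.comp_apply] at this
  exact this.symm

lemma exists_homotopy (A' A : ChainComplex (ModuleCat.{v} ℤ) ℕ) (f : A' ⟶ A)
    [∀ q, Module.Free ℤ (A.X q)] [QuasiIso f]
    (g₁ g₂ : A ⟶ A') (h₁ : f ≫ g₁ = 𝟙 A') (h₂ : f ≫ g₂ = 𝟙 A') :
    ∃ (s₀ : A.X 0 →ₗ[ℤ] A'.X 1) (s₁ : A.X 1 →ₗ[ℤ] A'.X 2),
      (∀ a' : A'.X 0, s₀ ((f.f 0).hom a') = 0) ∧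
      (∀ a : A.X 0, (A'.d 1 0).hom (s₀ a) = (g₂.f 0).hom a - (g₁.f 0).hom a) ∧
      (∀ x : A.X 1, (A'.d 2 1).hom (s₁ x) + s₀ ((A.d 1 0).hom x) =
        (g₂.f 1).hom x - (g₁.f 1).hom x) := by
  have hgf1 : ∀ n (a' : A'.X n), (g₁.f n).hom ((f.f n).hom a') = a' := by
    intro n a'
    have := congrArg (fun φ : A' ⟶ A' => (φ.f n).hom a') h₁
    simpa using this
  have hgf2 : ∀ n (a' : A'.X n), (g₂.f n).hom ((f.f n).hom a') = a' := by
    intro n a'
    have := congrArg (fun φ : A' ⟶ A' => (φ.f n).hom a') h₂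
    simpa using this
  have hE0 := (Groth.Agent.Lib.Helper27.chain_epi_zero f).mp inferInstance
  have hE1 := (Groth.Agent.Lib.Helper27.chain_epi_one f).mp inferInstance
  -- the projection π = id - f g₁
  let π : ∀ n, A.X n →ₗ[ℤ] A.X n := fun n => LinearMap.id - (f.f n).hom ∘ₗ (g₁.f n).hom
  have hπ : ∀ n x, π n x = x - (f.f n).hom ((g₁.f n).hom x) := fun n x => rfl
  have hπf : ∀ n a', π n ((f.f n).hom a') = 0 := by
    intro n a'; rw [hπ, hgf1, sub_self]
  have hπd : ∀ i j x, π j ((A.d i j).hom x) = (A.d i j).hom (π i x) := by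
    intro i j x
    rw [hπ, hπ, map_sub, comm_apply g₁, comm_apply f]
  have hππ : ∀ n x, π n (π n x) = π n x := by
    intro n x
    rw [hπ n x, map_sub, hπf, sub_zero]
    exact hπ n x
  let δ : ∀ n, A.X n →ₗ[ℤ] A'.X n := fun n => (g₂.f n).hom - (g₁.f n).hom
  have hδ : ∀ n x, δ n x = (g₂.f n).hom x - (g₁.f n).hom x := fun n x => rfl
  have hδf : ∀ n a', δ n ((f.f n).hom a') = 0 := by
    intro n a'; rw [hδ, hgf1, hgf2, sub_self]
  have hδπ : ∀ n x, δ n (π n x) = δ n x := by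
    intro n x; rw [hπ, map_sub, hδf, sub_zero]
  have hδd : ∀ i j x, δ j ((A.d i j).hom x) = (A'.d i j).hom (δ i x) := by
    intro i j x
    rw [hδ, hδ, map_sub, comm_apply g₁, comm_apply g₂]
  -- σ₀
  obtain ⟨σ₀, hσ₀⟩ := exists_lift (A.d 1 0).hom (π 0) (by
    intro a
    obtain ⟨c', e, he⟩ := hE0 a
    refine ⟨π 1 e, ?_⟩
    rw [← hπd, he, map_add, hπf, zero_add])
  let σ₀' : A.X 0 →ₗ[ℤ] A.X 1 := π 1 ∘ₗ σ₀ ∘ₗ π 0
  have hσ₀'def : ∀ a, σ₀' a = π 1 (σ₀ (π 0 a)) := fun a => rfl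
  have hσ₀' : ∀ a, (A.d 1 0).hom (σ₀' a) = π 0 a := by
    intro a
    rw [hσ₀'def, ← hπd, hσ₀, hππ, hππ]
  -- σ₁
  obtain ⟨σ₁, hσ₁⟩ := exists_lift (A.d 2 1).hom (π 1 - σ₀' ∘ₗ (A.d 1 0).hom) (by
    intro x
    set y := (π 1 - σ₀' ∘ₗ (A.d 1 0).hom) x with hy
    have hy' : y = π 1 x - σ₀' ((A.d 1 0).hom x) := rfl
    have hy1 : π 1 y = y := by
      rw [hy', map_sub, hππ, hσ₀'def, hππ]
    have hy2 : (A.d 1 0).hom y = 0 := by
      rw [hy', map_sub, hσ₀', hπd, sub_self]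
    obtain ⟨c, -, e, he⟩ := hE1 y hy2
    refine ⟨π 2 e, ?_⟩
    rw [← hπd, ← hy1, he, map_add, hπf, zero_add])
  have hσ₁' : ∀ x, (A.d 2 1).hom (σ₁ x) = π 1 x - σ₀' ((A.d 1 0).hom x) := fun x => hσ₁ x
  refine ⟨δ 1 ∘ₗ σ₀', δ 2 ∘ₗ σ₁, ?_, ?_, ?_⟩
  · intro a'
    simp only [LinearMap.comp_apply]
    rw [hσ₀'def, hπf, map_zero, map_zero, map_zero]
  · intro a
    simp only [LinearMap.comp_apply]
    rw [← hδd, hσ₀', hδπ]
    exact hδ 0 a
  · intro x
    simp only [LinearMap.comp_apply]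
    rw [← hδd, hσ₁', map_sub, hδπ, sub_add_cancel]
    exact hδ 1 x

/-- Let f : A' ⟶ A be a chain map of ℕ-indexed chain complexes of free abelian groups which is injective
in every degree, with free degreewise quotients A_q / f(A'_q), and a quasi-isomorphism; let h' : A'
⟶ B be a chain map to another complex of free abelian groups and g₁, g₂ : A ⟶ A' two chain maps with
f ≫ g₁ = f ≫ g₂ = 𝟙. Consider the functors induced by g₁ ≫ h' and g₂ ≫ h' between the groupoids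
attached to A and B (objects: degree-0 elements; morphisms a ⟶ b: degree-1 elements with boundary b
- a, modulo boundaries of degree-2 elements). Then there is a natural isomorphism between these two
functors whose component at every object of the form f(a'), a' a degree-0 element of A', is the zero
class, i.e. the identity morphism of h'(a'). -/
theorem result
    (A' A B : ChainComplex (ModuleCat.{v} ℤ) ℕ) (f : A' ⟶ A) (h' : A' ⟶ B)
    [∀ q, Module.Free ℤ (A'.X q)] [∀ q, Module.Free ℤ (A.X q)] [∀ q, Module.Free ℤ (B.X q)]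
    (hf : ∀ q, Function.Injective (f.f q).hom)
    (hq : ∀ q, Module.Free ℤ ((A.X q) ⧸ LinearMap.range (f.f q).hom)) [QuasiIso f]
    (g₁ g₂ : A ⟶ A') (h₁ : f ≫ g₁ = 𝟙 A') (h₂ : f ≫ g₂ = 𝟙 A') :
    ∃ N : W4c3biextchow.cxFunctor (g₁ ≫ h') ≅ W4c3biextchow.cxFunctor (g₂ ≫ h'),
      ∀ a : W4c3biextchow.Obj A',
        (N.hom.app ((W4c3biextchow.cxFunctor f).obj a) : W4c3biextchow.Hom B _ _).cl = 0 := by
  obtain ⟨s₀, s₁, hs0, hs1, hs2⟩ := exists_homotopy A' A f g₁ g₂ h₁ h₂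
  have hpt1 : ∀ a : Obj A, ((cxFunctor (g₁ ≫ h')).obj a).pt = (h'.f 0).hom ((g₁.f 0).hom a.pt) :=
    fun a => by simp
  have hpt2 : ∀ a : Obj A, ((cxFunctor (g₂ ≫ h')).obj a).pt = (h'.f 0).hom ((g₂.f 0).hom a.pt) :=
    fun a => by simp
  have hdelta : ∀ a : Obj A, delta B (Submodule.Quotient.mk ((h'.f 1).hom (s₀ a.pt))) =
      ((cxFunctor (g₂ ≫ h')).obj a).pt - ((cxFunctor (g₁ ≫ h')).obj a).pt := by
    intro a
    rw [delta_mk, hpt1, hpt2, ← comm_apply, hs1, map_sub]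
  let app : ∀ a : Obj A, (cxFunctor (g₁ ≫ h')).obj a ≅ (cxFunctor (g₂ ≫ h')).obj a := fun a =>
    { hom := (⟨Submodule.Quotient.mk ((h'.f 1).hom (s₀ a.pt)), hdelta a⟩ : Hom B _ _)
      inv := (⟨-Submodule.Quotient.mk ((h'.f 1).hom (s₀ a.pt)), by
        rw [map_neg, hdelta]; abel⟩ : Hom B _ _)
      hom_inv_id := Hom.ext (by simp)
      inv_hom_id := Hom.ext (by simp) }
  refine ⟨NatIso.ofComponents app ?_, ?_⟩
  · intro a b φ
    apply Hom.ext
    obtain ⟨x, hx⟩ := Submodule.Quotient.mk_surjective _ (φ : Hom A a b).cl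
    have hdx : (A.d 1 0).hom x = b.pt - a.pt := by
      rw [← delta_mk, hx, (φ : Hom A a b).delta_cl]
    rw [comp_cl, comp_cl, cxFunctor_map_cl, cxFunctor_map_cl, ← hx, q1Map_mk, q1Map_mk]
    show Submodule.Quotient.mk _ + Submodule.Quotient.mk ((h'.f 1).hom (s₀ b.pt)) =
      Submodule.Quotient.mk ((h'.f 1).hom (s₀ a.pt)) + Submodule.Quotient.mk _
    rw [← Submodule.Quotient.mk_add, ← Submodule.Quotient.mk_add, Submodule.Quotient.eq]
    refine ⟨-(h'.f 2).hom (s₁ x), ?_⟩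
    have e1 : (A'.d 2 1).hom (s₁ x) = (g₂.f 1).hom x - (g₁.f 1).hom x - s₀ ((A.d 1 0).hom x) := by
      rw [← hs2]; abel
    rw [map_neg, ← comm_apply, e1, hdx]
    simp only [HomologicalComplex.comp_f, ModuleCat.hom_comp, LinearMap.comp_apply, map_sub]
    abel
  · intro a
    show (Submodule.Quotient.mk ((h'.f 1).hom (s₀ ((cxFunctor f).obj a).pt)) : Q1 B) = 0
    rw [cxFunctor_obj_pt, hs0, map_zero, Submodule.Quotient.mk_zero]

end Groth.Agent.S16331
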