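import Groth.Statements.S16333
import Groth.Agent.Lib.helper19.GalNormC

set_option autoImplicit false
universe u
open GalCoh

namespace Groth.Agent.S16333

/-- Let k be an algebraically closed field, K an extension field of k which is finitely generated of
transcendence degree 1 (the function field of an irreducible curve over k), and L a finite Galois
extension of K. Then (1) the norm map from L to K is surjective, and (2) a nonzero element of L has
norm 1 if and only if it lies in the subgroup of units generated by the elements w / g(w), w a unit
of L and g an automorphism of L over K. (The published statement is for the function fields of an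
irreducible curve and of a component of its preimage under a finite abelian étale cover of the
ambient variety; this row takes any finite Galois extension of a function field of transcendence
degree 1 over an algebraically closed field.) -/
theorem result
    (k : Type u) [Field k] [IsAlgClosed k] (K L : Type u) [Field K] [Field L]
    [Algebra k K] [Algebra K L] [FiniteDimensional K L] [IsGalois K L]
    (hfg : (⊤ : IntermediateField k K).FG) (htr : Algebra.trdeg k K = 1) :
    Function.Surjective (Algebra.norm K : L → K) ∧
      ∀ u : Lˣ, Algebra.norm K (u : L) = 1 ↔
        u ∈ Subgroup.closure {v : Lˣ | ∃ (w : Lˣ) (g : L ≃ₐ[K] L), (v : L) = (w : L) / g (w : L)} := by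
  have hC : Curves.IsCr K 1 := Groth.Agent.Lib.helper19.GalNormA.isCr_one_of_trdeg_one k K htr
  refine ⟨Groth.Agent.Lib.helper19.GalNormA.norm_surjective_of_isCr_one hC, fun u => ?_⟩
  have hset : {v : Lˣ | ∃ (w : Lˣ) (g : L ≃ₐ[K] L), (v : L) = (w : L) / g (w : L)} =
      {v : Lˣ | ∃ (w : Lˣ) (g : L ≃ₐ[K] L), v = w / g • w} := by
    ext v
    constructor
    · rintro ⟨w, g, h⟩
      refine ⟨w, g, Units.ext ?_⟩
      rw [h, Units.val_div_eq_div_val]
      rfl
    · rintro ⟨w, g, h⟩
      refine ⟨w, g, ?_⟩
      rw [h, Units.val_div_eq_div_val]
      rfl
  rw [hset]
  constructor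
  · intro hu
    exact Groth.Agent.Lib.helper19.GalNormC.main (Module.finrank K L) K L hC rfl u hu
  · intro hu
    let S : Subgroup Lˣ := (Units.map (Algebra.norm K : L →* K)).ker
    have hle : Subgroup.closure {v : Lˣ | ∃ (w : Lˣ) (g : L ≃ₐ[K] L), v = w / g • w} ≤ S := by
      rw [Subgroup.closure_le]
      rintro v ⟨w, g, rfl⟩
      change Units.map (Algebra.norm K : L →* K) (w / g • w) = 1
      rw [map_div, div_eq_one]
      apply Units.ext
      change Algebra.norm K (w : L) = Algebra.norm K (g (w : L))
      rw [Algebra.norm_eq_of_algEquiv]
    have h1 : Units.map (Algebra.norm K : L →* K) u = 1 := hle hu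
    have h2 := congrArg Units.val h1
    exact h2

end Groth.Agent.S16333
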