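import Groth.Statements.S16335
-- import your own Groth.Agent.* helpers here

set_option autoImplicit false
universe u v w w'
open TensorProduct
open InvTh

namespace Groth.Agent.S16335

/-- Let `R` be a commutative ring with an action of a finite group `Γ` by ring automorphisms such that
the order of `Γ` is invertible in `R`, and let `A → R` be injective with image exactly the
invariants `R^Γ`, the action being `A`-linear. Then for every commutative `A`-algebra `S`, with `Γ`
acting on `S ⊗_A R` through the factor `R`, the map `S → S ⊗_A R`, `s ↦ s ⊗ 1`, is injective and its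
image is exactly the set of `Γ`-fixed elements: `S ≅ (S ⊗_A R)^Γ`. No flatness of `S` over `A` is
assumed; the invertibility of the order of `Γ` replaces it. This is the affine statement that for a
tame quotient the coarse space commutes with arbitrary base change. (The published lemma is the
statement that the coarse moduli space of a tame Deligne–Mumford stack commutes with arbitrary base
change, whose proof reduces to this ring statement. The published lemma also asserts the analogous
statement for the reduced fibre product when the base-change scheme is reduced; that clause is not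
part of this row.) -/
theorem result
    (A : Type u) [CommRing A] (R : Type v) [CommRing R] [Algebra A R]
    (Γ : Type w) [Group Γ] [Finite Γ] [MulSemiringAction Γ R] [SMulCommClass Γ A R]
    [Algebra.IsInvariant A R Γ] (hinj : Function.Injective (algebraMap A R))
    (hΓ : IsUnit (Nat.card Γ : R))
    (S : Type w') [CommRing S] [Algebra A S] :
    Function.Injective (fun s : S => s ⊗ₜ[A] (1 : R)) ∧
      ∀ x : S ⊗[A] R,
        (∀ γ : Γ, Algebra.TensorProduct.map (AlgHom.id A S) (MulSemiringAction.toAlgHom A R γ) x = x) →
          x ∈ Set.range (fun s : S => s ⊗ₜ[A] (1 : R)) := by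
  classical
  letI : Fintype Γ := Fintype.ofFinite Γ
  obtain ⟨u, hu⟩ := hΓ
  let g : Γ → (R →ₗ[A] R) := fun γ => (MulSemiringAction.toAlgHom A R γ).toLinearMap
  let sg : R →ₗ[A] R := ∑ γ, g γ
  let avg : R →ₗ[A] R := (LinearMap.mulLeft A ((u⁻¹ : Rˣ) : R)) ∘ₗ sg
  have hsg : ∀ r, sg r = ∑ γ : Γ, γ • r := by
    intro r
    simp [sg, g, LinearMap.sum_apply]
  have havg : ∀ r, avg r = ((u⁻¹ : Rˣ) : R) * ∑ γ : Γ, γ • r := by
    intro r
    simp only [avg, LinearMap.comp_apply, LinearMap.mulLeft_apply, hsg]
  have hunat : ∀ γ : Γ, γ • (u : R) = u := by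
    intro γ
    rw [hu]
    exact map_natCast (MulSemiringAction.toRingHom Γ R γ) _
  have huinv : ∀ γ : Γ, γ • ((u⁻¹ : Rˣ) : R) = ((u⁻¹ : Rˣ) : R) := by
    intro γ
    have h1 : γ • ((u⁻¹ : Rˣ) : R) * (u : R) = 1 := by
      conv_lhs => rw [← hunat γ, ← smul_mul', Units.inv_mul, smul_one]
    calc γ • ((u⁻¹ : Rˣ) : R) = γ • ((u⁻¹ : Rˣ) : R) * ((u : R) * ((u⁻¹ : Rˣ) : R)) := by
          rw [Units.mul_inv, mul_one]
      _ = ((u⁻¹ : Rˣ) : R) := by rw [← mul_assoc, h1, one_mul]
  have havg_inv : ∀ r (γ : Γ), γ • avg r = avg r := by
    intro r γ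
    rw [havg, smul_mul', huinv, Finset.smul_sum]
    congr 1
    simp_rw [← mul_smul]
    exact Fintype.sum_bijective (fun x => γ * x) (Group.mulLeft_bijective γ) _ _ (fun _ => rfl)
  have hrange : ∀ r, avg r ∈ LinearMap.range (Algebra.linearMap A R) := by
    intro r
    obtain ⟨a, ha⟩ := Algebra.IsInvariant.isInvariant (A := A) (G := Γ) (avg r) (havg_inv r)
    exact ⟨a, ha⟩
  let E := LinearEquiv.ofInjective (Algebra.linearMap A R) hinj
  let ρ : R →ₗ[A] A := E.symm.toLinearMap ∘ₗ (avg.codRestrict _ hrange)
  have hρ : ∀ r, algebraMap A R (ρ r) = avg r := by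
    intro r
    have := E.apply_symm_apply (avg.codRestrict _ hrange r)
    exact congrArg Subtype.val this
  have havg1 : avg 1 = 1 := by
    rw [havg]
    simp only [smul_one, Finset.sum_const, Finset.card_univ, nsmul_eq_mul, mul_one]
    rw [← Nat.card_eq_fintype_card, ← hu, Units.inv_mul]
  have hρ1 : ρ 1 = 1 := by
    apply hinj
    rw [hρ, havg1, map_one]
  constructor
  · intro s t hst
    have h1 := congrArg (fun x => TensorProduct.rid A S (LinearMap.lTensor S ρ x)) hst
    simpa [hρ1] using h1
  · intro x hx
    -- x = lTensor avg x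
    have hxg : ∀ γ : Γ, LinearMap.lTensor S (g γ) x = x := by
      intro γ
      have h1 : ∀ y : S ⊗[A] R, LinearMap.lTensor S (g γ) y =
          Algebra.TensorProduct.map (AlgHom.id A S) (MulSemiringAction.toAlgHom A R γ) y := by
        intro y
        induction y using TensorProduct.induction_on with
        | zero => simp
        | tmul a b => simp [g]
        | add a b ha hb => rw [map_add, map_add, ha, hb]
      rw [h1, hx γ]
    have hnat : ∀ y : S ⊗[A] R,
        Nat.card Γ • y = LinearMap.lTensor S (LinearMap.mulLeft A (u : R)) y := by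
      intro y
      induction y using TensorProduct.induction_on with
      | zero => simp
      | tmul a b =>
        rw [LinearMap.lTensor_tmul, LinearMap.mulLeft_apply, hu, ← nsmul_eq_mul,
          TensorProduct.tmul_smul]
      | add a b ha hb => rw [smul_add, map_add, ha, hb]
    have hsum : LinearMap.lTensor S sg x = LinearMap.lTensor S (LinearMap.mulLeft A (u : R)) x := by
      have h0 : LinearMap.lTensor S sg = ∑ γ : Γ, LinearMap.lTensor S (g γ) :=
        map_sum (LinearMap.lTensorHom (R := A) S) g Finset.univ
      have h1 : LinearMap.lTensor S sg x = ∑ γ : Γ, LinearMap.lTensor S (g γ) x := by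
        rw [h0, LinearMap.sum_apply]
      rw [h1]
      simp_rw [hxg]
      rw [Finset.sum_const, Finset.card_univ, ← Nat.card_eq_fintype_card]
      exact hnat x
    have hxavg : LinearMap.lTensor S avg x = x := by
      simp only [avg, LinearMap.lTensor_comp, LinearMap.comp_apply]
      rw [hsum, ← LinearMap.comp_apply, ← LinearMap.lTensor_comp]
      have : (LinearMap.mulLeft A ((u⁻¹ : Rˣ) : R)) ∘ₗ (LinearMap.mulLeft A (u : R)) =
          LinearMap.id := by
        ext r
        simp
      rw [this, LinearMap.lTensor_id, LinearMap.id_apply]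
    have hfac : avg = (Algebra.linearMap A R) ∘ₗ ρ := by
      ext r
      simp only [LinearMap.comp_apply, Algebra.linearMap_apply, hρ]
    rw [hfac, LinearMap.lTensor_comp, LinearMap.comp_apply] at hxavg
    set y := LinearMap.lTensor S ρ x with hy
    refine ⟨TensorProduct.rid A S y, ?_⟩
    have hy' : y = (TensorProduct.rid A S y) ⊗ₜ[A] (1 : A) := by
      have := (TensorProduct.rid A S).symm_apply_apply y
      rw [TensorProduct.rid_symm_apply] at this
      exact this.symm
    change (TensorProduct.rid A S y) ⊗ₜ[A] (1 : R) = x
    rw [← hxavg]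
    conv_rhs => rw [hy']
    rw [LinearMap.lTensor_tmul, Algebra.linearMap_apply, map_one]

end Groth.Agent.S16335
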