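import Groth.Statements.S16337
import Mathlib.Algebra.BigOperators.GroupWithZero.Action
import Mathlib.Algebra.Module.BigOperators
import Mathlib.Data.Fintype.BigOperators
import Mathlib.Algebra.Module.LinearMap.End

set_option autoImplicit false
universe u v w
open InvTh

namespace Groth.Agent.S16337

/-- Let `A` be a commutative ring, `Γ` a finite group whose order is invertible in `A`, `M` an
`A`-module with an `A`-linear action of `Γ`, and `I` an ideal of `A`. Then reduction modulo `I`
induces a bijection `M^Γ / I·M^Γ ≅ (M / IM)^Γ`: (a) an element of `M` fixed by `Γ` modulo `IM` is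
congruent modulo `IM` to a `Γ`-fixed element, and (b) a `Γ`-fixed element lying in `IM` lies in
`I·M^Γ`, where `M^Γ` is the submodule of `Γ`-fixed elements. (The published lemma says that
push-forward to the coarse space of a tame stack over a complete local base commutes with reduction
modulo powers of the maximal ideal; this row is the module statement its proof establishes, for an
arbitrary ideal.) -/
theorem result
    (A : Type u) [CommRing A] (Γ : Type v) [Group Γ] [Finite Γ] (hΓ : IsUnit (Nat.card Γ : A))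
    (M : Type w) [AddCommGroup M] [Module A M] [DistribMulAction Γ M] [SMulCommClass Γ A M]
    (I : Ideal A) :
    (∀ x : M, (∀ γ : Γ, γ • x - x ∈ I • (⊤ : Submodule A M)) →
        ∃ y : M, (∀ γ : Γ, γ • y = y) ∧ x - y ∈ I • (⊤ : Submodule A M)) ∧
      ∀ y : M, (∀ γ : Γ, γ • y = y) → y ∈ I • (⊤ : Submodule A M) →
        y ∈ I • Submodule.span A {m : M | ∀ γ : Γ, γ • m = m} := by
  classical
  have : Fintype Γ := Fintype.ofFinite Γ
  rw [Nat.card_eq_fintype_card] at hΓ
  obtain ⟨u, hu⟩ := hΓ
  -- the Reynolds operator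
  let ρ : M →ₗ[A] M := (↑u⁻¹ : A) • ∑ γ : Γ, DistribSMul.toLinearMap A M γ
  have hρ : ∀ m : M, ρ m = (↑u⁻¹ : A) • ∑ γ : Γ, γ • m := by
    intro m
    simp [ρ, LinearMap.sum_apply]
  have hρfix : ∀ (m : M) (γ' : Γ), γ' • ρ m = ρ m := by
    intro m γ'
    rw [hρ, smul_comm, Finset.smul_sum]
    congr 1
    simp_rw [← mul_smul]
    exact Fintype.sum_bijective (fun γ => γ' * γ) (Group.mulLeft_bijective γ') _ _ (fun _ => rfl)
  have hρid : ∀ y : M, (∀ γ : Γ, γ • y = y) → ρ y = y := by
    intro y hy
    rw [hρ]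
    simp_rw [hy]
    rw [Finset.sum_const, Finset.card_univ, ← Nat.cast_smul_eq_nsmul A, smul_smul, ← hu,
      Units.inv_mul, one_smul]
  constructor
  · intro x hx
    refine ⟨ρ x, hρfix x, ?_⟩
    have h1 : x - ρ x = (↑u⁻¹ : A) • ∑ γ : Γ, (x - γ • x) := by
      rw [hρ, Finset.sum_sub_distrib, smul_sub, Finset.sum_const, Finset.card_univ,
        ← Nat.cast_smul_eq_nsmul A, smul_smul, ← hu, Units.inv_mul, one_smul]
    rw [h1]
    refine Submodule.smul_mem _ _ (Submodule.sum_mem _ fun γ _ => ?_)
    rw [← neg_sub]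
    exact Submodule.neg_mem _ (hx γ)
  · intro y hy hyI
    have h2 : ρ y ∈ (I • (⊤ : Submodule A M)).map ρ := ⟨y, hyI, rfl⟩
    rw [Submodule.map_smul'', hρid y hy] at h2
    refine Submodule.smul_mono le_rfl ?_ h2
    rintro _ ⟨m, -, rfl⟩
    exact Submodule.subset_span (hρfix m)

end Groth.Agent.S16337
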