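import Groth.Statements.S16344
import Mathlib
-- import your own Groth.Agent.* helpers here

set_option autoImplicit false
universe u v
open IdeleMod

namespace Groth.Agent.S16344

/-- An inverse system of nonempty closed subsets of compact Hausdorff spaces over a directed set
has a compatible family. -/
lemma exists_compatible {ι : Type u} [Preorder ι] [IsDirected ι (· ≤ ·)]
    (G : ι → Type v) [∀ i, TopologicalSpace (G i)] [∀ i, CompactSpace (G i)] [∀ i, T2Space (G i)]
    (f : ∀ ⦃i j : ι⦄, i ≤ j → (G j → G i)) (hf : ∀ i j (h : i ≤ j), Continuous (f h))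
    (hcomp : ∀ i j k (hij : i ≤ j) (hjk : j ≤ k) (x : G k), f hij (f hjk x) = f (hij.trans hjk) x)
    (S : ∀ i, Set (G i)) (hSc : ∀ i, IsClosed (S i)) (hSne : ∀ i, (S i).Nonempty)
    (hSf : ∀ i j (h : i ≤ j) (x : G j), x ∈ S j → f h x ∈ S i) :
    ∃ z : ∀ i, G i, (∀ i, z i ∈ S i) ∧ ∀ i j (h : i ≤ j), f h (z j) = z i := by
  classical
  rcases isEmpty_or_nonempty ι with hι | hι
  · exact ⟨fun i => (hι.false i).elim, fun i => (hι.false i).elim, fun i => (hι.false i).elim⟩
  let K : Set (∀ i, G i) := Set.pi Set.univ S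
  have hK : IsCompact K := (isClosed_set_pi fun i _ => hSc i).isCompact
  let t : {p : ι × ι // p.1 ≤ p.2} → Set (∀ i, G i) := fun p => {z | f p.2 (z p.1.2) = z p.1.1}
  have htc : ∀ p, IsClosed (t p) := by
    intro p
    exact isClosed_eq ((hf _ _ p.2).comp (continuous_apply _)) (continuous_apply _)
  have hfip : ∀ u : Finset {p : ι × ι // p.1 ≤ p.2}, (K ∩ ⋂ p ∈ u, t p).Nonempty := by
    intro u
    obtain ⟨k, hk⟩ := Finset.exists_le (u.image fun p => p.1.2)
    obtain ⟨w, hw⟩ := hSne k
    choose c hc using hSne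
    let z : ∀ i, G i := fun i => if h : i ≤ k then f h w else c i
    refine ⟨z, ?_, ?_⟩
    · intro i _
      show z i ∈ S i
      by_cases h : i ≤ k
      · simp only [z, dif_pos h]; exact hSf i k h w hw
      · simp only [z, dif_neg h]; exact hc i
    · simp only [Set.mem_iInter]
      intro p hp
      have h2 : p.1.2 ≤ k := hk _ (Finset.mem_image_of_mem _ hp)
      have h1 : p.1.1 ≤ k := p.2.trans h2
      show f p.2 (z p.1.2) = z p.1.1
      simp only [z, dif_pos h2, dif_pos h1]
      exact hcomp _ _ _ p.2 h2 w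
  obtain ⟨z, hzK, hzt⟩ := hK.inter_iInter_nonempty t htc hfip
  refine ⟨z, fun i => hzK i (Set.mem_univ i), fun i j h => ?_⟩
  have := Set.mem_iInter.1 hzt ⟨(i, j), h⟩
  exact this

/-- Let (G_i) be an inverse system, indexed by a directed preorder, of compact Hausdorff topological
abelian groups with continuous surjective transition maps, let G be its limit (the group of
compatible families) and let m be a natural number. Then the canonical map G/mG → lim G_i/mG_i is
bijective: a compatible family that lies in mG_i at every index is m times a compatible family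
(injectivity), and every family that is compatible modulo m agrees modulo m, index by index, with a
compatible family (surjectivity). -/
theorem result
    {ι : Type u} [Preorder ι] [IsDirected ι (· ≤ ·)]
    (G : ι → Type v) [∀ i, AddCommGroup (G i)] [∀ i, TopologicalSpace (G i)]
    [∀ i, IsTopologicalAddGroup (G i)] [∀ i, CompactSpace (G i)] [∀ i, T2Space (G i)]
    (f : ∀ ⦃i j : ι⦄, i ≤ j → (G j →+ G i)) (hf : ∀ i j (h : i ≤ j), Continuous (f h))
    (hid : ∀ i (x : G i), f (le_refl i) x = x)
    (hcomp : ∀ i j k (hij : i ≤ j) (hjk : j ≤ k) (x : G k), f hij (f hjk x) = f (hij.trans hjk) x)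
    (hsurj : ∀ i j (h : i ≤ j), Function.Surjective (f h)) (m : ℕ) :
    (∀ x : ∀ i, G i, (∀ i j (h : i ≤ j), f h (x j) = x i) → (∀ i, ∃ y : G i, m • y = x i) →
        ∃ z : ∀ i, G i, (∀ i j (h : i ≤ j), f h (z j) = z i) ∧ ∀ i, m • z i = x i) ∧
    (∀ y : ∀ i, G i, (∀ i j (h : i ≤ j), ∃ w : G i, f h (y j) - y i = m • w) →
        ∃ x : ∀ i, G i, (∀ i j (h : i ≤ j), f h (x j) = x i) ∧ ∀ i, ∃ w : G i, x i - y i = m • w) := by
  constructor
  · intro x hx hdiv
    obtain ⟨z, hzS, hz⟩ := exists_compatible G (fun i j h => (f h : G j → G i)) hf hcomp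
      (fun i => {y | m • y = x i})
      (fun i => isClosed_eq (continuous_nsmul m) continuous_const)
      (fun i => hdiv i)
      (fun i j h y hy => by
        show m • f h y = x i
        have hy' : m • y = x j := hy
        rw [← map_nsmul, hy', hx i j h])
    exact ⟨z, hz, hzS⟩
  · intro y hy
    obtain ⟨z, hzS, hz⟩ := exists_compatible G (fun i j h => (f h : G j → G i)) hf hcomp
      (fun i => Set.range (fun w : G i => y i + m • w))
      (fun i => (isCompact_range
        (continuous_const.add (continuous_nsmul m))).isClosed)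
      (fun i => ⟨y i, 0, by simp⟩)
      (fun i j h x hx => by
        obtain ⟨w, rfl⟩ := hx
        obtain ⟨w', hw'⟩ := hy i j h
        refine ⟨f h w + w', ?_⟩
        show y i + m • (f h w + w') = f h (y j + m • w)
        rw [map_add, map_nsmul, smul_add, ← hw']
        abel)
    refine ⟨z, hz, fun i => ?_⟩
    obtain ⟨w, hw⟩ := hzS i
    exact ⟨w, by rw [← hw]; exact add_sub_cancel_left _ _⟩

end Groth.Agent.S16344
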