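import Groth.Statements.S16346
-- import your own Groth.Agent.* helpers here
import Groth.Agent.Lib.Helper26.TorsSplit

set_option autoImplicit false
universe u v
open KatoHom

namespace Groth.Agent.S16346

/-- Let P be a set of primes and I_P the set of positive integers all of whose prime factors lie in P.
Let A be an abelian group, (B_n)_{n ∈ I_P} an inverse system of abelian groups with transition maps
B_n → B_m for m ∣ n, and φ_n : A → B_n homomorphisms vanishing on nA and compatible with the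
transition maps, so that they induce φ̂ : Â → B̂ on the limits Â = lim A/nA and B̂ = lim B_n (limits
taken as compatible families). Suppose some N ∈ I_P kills the torsion subgroup of B̂ and kills the
kernel of φ̂ (the latter meaning: a compatible family of residues (a_n) with φ_n(a_n) = 0 for all n
has N a_n ∈ nA for all n). Then the subgroup ⋂_{n ∈ I_P} nA is ℓ-divisible for every ℓ ∈ P, and it
contains every subgroup of A that is ℓ-divisible for all ℓ ∈ P; that is, it is the largest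
P-divisible subgroup of A. -/
theorem result
    {A : Type u} [AddCommGroup A] (P : Set ℕ) (hP : ∀ p ∈ P, p.Prime)
    (IP : Set ℕ) (hIP : ∀ n, n ∈ IP ↔ 0 < n ∧ ∀ p : ℕ, p.Prime → p ∣ n → p ∈ P)
    (B : IP → Type v) [∀ n, AddCommGroup (B n)]
    (g : ∀ ⦃m n : IP⦄, (m : ℕ) ∣ (n : ℕ) → (B n →+ B m))
    (hgid : ∀ (n : IP) (b : B n), g (dvd_refl (n : ℕ)) b = b)
    (hgcomp : ∀ (k m n : IP) (hkm : (k : ℕ) ∣ (m : ℕ)) (hmn : (m : ℕ) ∣ (n : ℕ)) (b : B n),
      g hkm (g hmn b) = g (hkm.trans hmn) b)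
    (φ : ∀ n : IP, A →+ B n) (hφ : ∀ (n : IP) (a : A), φ n ((n : ℕ) • a) = 0)
    (hφg : ∀ (m n : IP) (h : (m : ℕ) ∣ (n : ℕ)) (a : A), g h (φ n a) = φ m a)
    (N : ℕ) (hN : N ∈ IP)
    (htor : ∀ b : ∀ n : IP, B n, (∀ (m n : IP) (h : (m : ℕ) ∣ (n : ℕ)), g h (b n) = b m) →
      (∃ k : ℕ, 0 < k ∧ ∀ n, k • b n = 0) → ∀ n, N • b n = 0)
    (hker : ∀ a : IP → A, (∀ m n : IP, (m : ℕ) ∣ (n : ℕ) → ∃ c : A, a n - a m = (m : ℕ) • c) →
      (∀ n, φ n (a n) = 0) → ∀ n : IP, ∃ c : A, N • a n = (n : ℕ) • c) :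
    (∀ ℓ ∈ P, ∀ x : A, (∀ n ∈ IP, ∃ y : A, x = n • y) →
        ∃ y : A, (∀ n ∈ IP, ∃ z : A, y = n • z) ∧ ℓ • y = x) ∧
    (∀ H : AddSubgroup A, (∀ ℓ ∈ P, ∀ x ∈ H, ∃ y ∈ H, ℓ • y = x) →
        ∀ x ∈ H, ∀ n ∈ IP, ∃ y : A, x = n • y) := by
  have hmulIP : ∀ a b, a ∈ IP → b ∈ IP → a * b ∈ IP := by
    intro a b ha hb
    rw [hIP] at ha hb ⊢
    exact ⟨Nat.mul_pos ha.1 hb.1, fun p hp h => (hp.dvd_mul.1 h).elim (ha.2 p hp) (hb.2 p hp)⟩
  have hprimeIP : ∀ ℓ ∈ P, ℓ ∈ IP := by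
    intro ℓ hℓ
    rw [hIP]
    exact ⟨(hP ℓ hℓ).pos, fun p hp h => by rwa [(Nat.prime_dvd_prime_iff_eq hp (hP ℓ hℓ)).1 h]⟩
  constructor
  · intro ℓ hℓ x hx
    have hmem : ℓ * (N * N) ∈ IP := hmulIP _ _ (hprimeIP ℓ hℓ) (hmulIP _ _ hN hN)
    obtain ⟨v, hv⟩ := hx _ hmem
    -- the constant family `φ n v` is torsion
    have h1 : ∀ n : IP, N • φ n v = 0 := by
      apply htor (fun n => φ n v) (fun m n h => hφg m n h v)
      refine ⟨ℓ * (N * N), ((hIP _).1 hmem).1, fun n => ?_⟩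
      rw [← map_nsmul, ← hv]
      obtain ⟨y, hy⟩ := hx n.1 n.2
      rw [hy, hφ]
    have h2 := hker (fun _ => N • v) (fun m n _ => ⟨0, by simp⟩)
      (fun n => by rw [map_nsmul, h1])
    refine ⟨N • N • v, fun n hn => ?_, ?_⟩
    · obtain ⟨c, hc⟩ := h2 ⟨n, hn⟩
      exact ⟨c, hc⟩
    · rw [hv, mul_smul, mul_smul]
  · intro H hH x hxH n hn
    have key : ∀ n : ℕ, n ≠ 0 → (∀ p : ℕ, p.Prime → p ∣ n → p ∈ P) →
        ∀ x ∈ H, ∃ y ∈ H, n • y = x := by
      intro n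
      induction n using Nat.recOnMul with
      | zero => intro h; exact absurd rfl h
      | one => intro _ _ x hx; exact ⟨x, hx, one_smul _ _⟩
      | prime ℓ hℓ => intro _ h x hx; exact hH ℓ (h ℓ hℓ dvd_rfl) x hx
      | mul a b iha ihb =>
        intro hab h x hx
        have ha : a ≠ 0 := fun h => hab (by rw [h, zero_mul])
        have hb : b ≠ 0 := fun h => hab (by rw [h, mul_zero])
        obtain ⟨y, hy, hyx⟩ := iha ha (fun p hp hd => h p hp (hd.mul_right b)) x hx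
        obtain ⟨z, hz, hzy⟩ := ihb hb (fun p hp hd => h p hp (hd.mul_left a)) y hy
        exact ⟨z, hz, by rw [mul_smul, hzy, hyx]⟩
    obtain ⟨y, _, hy⟩ := key n ((hIP n).1 hn).1.ne' ((hIP n).1 hn).2 x hxH
    exact ⟨y, hy.symm⟩

end Groth.Agent.S16346
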