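import Groth.Statements.S16347
import Groth.Agent.Lib.Helper1.CubicKSingRad2

set_option autoImplicit false
universe u
open Cubic

namespace Groth.Agent.S16347

open Groth.Agent.Lib.Helper1.CubicK Module Submodule MvPolynomial

/-- Let K be an algebraically closed field of characteristic zero and S = V(F) ⊂ P^3_K a cubic surface,
F a homogeneous cubic in four variables which is irreducible and not a cone (there is no nonzero
vector v with Σ_i v_i ∂F/∂x_i = 0). If a is a singular point of S (a nonzero vector with F(a) = 0
and every ∂F/∂x_i(a) = 0), then at most six lines through a lie on S; here a line through a on S is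
a 2-dimensional subspace of K^4 containing a on which F vanishes identically. -/
theorem result (K : Type u) [Field K] [IsAlgClosed K] [CharZero K]
    (F : MvPolynomial (Fin 4) K) (hF : F.IsHomogeneous 3) (hirr : Irreducible F)
    (hcone : ¬ ∃ v : Fin 4 → K, v ≠ 0 ∧ ∑ i : Fin 4, v i • MvPolynomial.pderiv i F = 0)
    (a : Fin 4 → K) (ha : a ≠ 0) (hFa : MvPolynomial.eval a F = 0)
    (hsing : ∀ i : Fin 4, MvPolynomial.eval a (MvPolynomial.pderiv i F) = 0) :
    {U : Submodule K (Fin 4 → K) | a ∈ U ∧ Module.finrank K ↥U = 2 ∧ ∀ u ∈ U, MvPolynomial.eval u F = 0}.encard ≤ 6 := by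
  set S := symTriOf F hF with hS
  have hSF : ∀ x, S.F x = eval x F := fun x => symTriOf_diag F hF x
  have h3 : (3 : K) ≠ 0 := by norm_num
  haveI : Infinite K := Infinite.of_injective (Nat.cast : ℕ → K) Nat.cast_injective
  have hN : S.SingPt a := by
    refine ⟨ha, fun v => ?_⟩
    have := symTriOf_pderiv F hF v a
    simp only [hsing, mul_zero, Finset.sum_const_zero] at this
    rw [S.s13]
    exact (mul_eq_zero.mp this.symm).resolve_left h3
  -- the first polar
  set Q : MvPolynomial (Fin 4) K := ∑ i : Fin 4, a i • pderiv i F with hQ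
  have hQx : ∀ x, eval x Q = 3 * S.T a x x := by
    intro x
    rw [hQ, map_sum]
    simp only [smul_eval]
    exact symTriOf_pderiv F hF a x
  have hQ0 : Q ≠ 0 := fun h0 => hcone ⟨a, ha, h0⟩
  have hQhom : Q.IsHomogeneous 2 := by
    apply IsHomogeneous.sum
    intro i _
    rw [smul_eq_C_mul]
    exact (hF.pderiv (i := i)).C_mul _
  have hcone' : ¬ ∀ x, S.T a x x = 0 := by
    intro h
    apply hQ0
    apply MvPolynomial.funext
    intro x
    rw [hQx, h x, mul_zero, map_zero]
  have hZ : ¬ ∀ x, S.T a x x = 0 → S.F x = 0 := by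
    intro h
    apply irreducible_cubic_not_vanish F hF hirr Q 2 hQhom hQ0 (by norm_num) (by norm_num)
    intro x hx
    rw [hQx] at hx
    rw [← hSF]
    exact h x ((mul_eq_zero.mp hx).resolve_left h3)
  have hplane : ∀ l : V K →ₗ[K] K, l ≠ 0 → ¬ ∀ x, l x = 0 → S.F x = 0 := by
    intro l hl h
    have hlin : ∀ x : V K,
        eval x (linPoly (fun j => l (fun j' => if j = j' then 1 else 0))) = l x := by
      intro x
      rw [linPoly_eval, LinearMap.pi_apply_eq_sum_univ l x]
      apply Finset.sum_congr rfl
      intro j _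
      rw [smul_eq_mul]; ring
    have hc : (fun j => l (fun j' => if j = j' then (1 : K) else 0)) ≠ 0 := by
      intro h0
      apply hl
      apply LinearMap.ext
      intro x
      rw [LinearMap.pi_apply_eq_sum_univ l x]
      simp only [LinearMap.zero_apply]
      apply Finset.sum_eq_zero
      intro j _
      have := congrFun h0 j
      simp only [Pi.zero_apply] at this
      rw [this, smul_zero]
    apply irreducible_cubic_not_vanish F hF hirr _ 1 (linPoly_isHomogeneous _) (linPoly_ne_zero hc)
      (by norm_num) (by norm_num)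
    intro x hx
    rw [hlin] at hx
    rw [← hSF]
    exact h x hx
  have key : {U : Submodule K (V K) | a ∈ U ∧ finrank K ↥U = 2 ∧ ∀ u ∈ U, S.F u = 0}.encard ≤ 6 := by
    by_cases hnd : ∀ x, (∀ v, S.T a x v = 0) → x ∈ span K ({a} : Set (V K))
    · exact hN.le_six_of_nd hnd hZ
    · push Not at hnd
      obtain ⟨r, hrad, hr⟩ := hnd
      exact hN.le_six_of_rad r hr hrad hcone' hplane
  simp only [hSF] at key
  exact key

end Groth.Agent.S16347
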