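import Groth.Statements.S16351
import Mathlib.Tactic

set_option autoImplicit false
universe u
open Cubic

namespace Groth.Agent.S16351

section
variable {K : Type u} [Field K] (b : Fin 5 → (Fin 3 → K))
  (h3 : ∀ i j l : Fin 5, i ≠ j → j ≠ l → i ≠ l → LinearIndependent K ![b i, b j, b l])

include h3 in
lemma det3_ne (σ : Fin 3 → Fin 5) (hσ : Function.Injective σ) :
    (Matrix.of fun r => b (σ r)).det ≠ 0 := by
  have h := h3 (σ 0) (σ 1) (σ 2) (fun e => by simpa using hσ e) (fun e => by simpa using hσ e)
    (fun e => by simpa using hσ e)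
  have e : ![b (σ 0), b (σ 1), b (σ 2)] = fun r => b (σ r) := by
    funext r; fin_cases r <;> rfl
  rw [e] at h
  have hu : IsUnit (Matrix.of fun r => b (σ r)) := Matrix.linearIndependent_rows_iff_isUnit.mp h
  exact ((Matrix.isUnit_iff_isUnit_det _).mp hu).ne_zero

/-- the points with first coordinates `t` -/
def pt (t : Fin 5 → K) (j : Fin 5) : Fin 4 → K := Fin.cons (t j) (b j)

/-- the minors -/
noncomputable def D (j : Fin 5) (i : Fin 4) : K :=
  (Matrix.of fun r : Fin 3 => b (j.succAbove (i.succAbove r))).det

include h3 in
lemma D_ne (j : Fin 5) (i : Fin 4) : D b j i ≠ 0 :=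
  det3_ne b h3 _ ((Fin.succAbove_right_injective).comp (Fin.succAbove_right_injective))

lemma det_eq (t : Fin 5 → K) (j : Fin 5) :
    (Matrix.of fun i : Fin 4 => pt b t (j.succAbove i)).det =
      ∑ i : Fin 4, (-1) ^ (i : ℕ) * t (j.succAbove i) * D b j i := by
  rw [Matrix.det_succ_column_zero]
  apply Finset.sum_congr rfl
  intro i _
  congr 1

end


/-- Let K be a field of characteristic zero and S = V(F) ⊂ P^3_K a cone over a plane cubic curve C,
normalised so that the vertex is [1 : 0 : 0 : 0], i.e. F is a homogeneous cubic in K[x_0, …, x_3]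
not involving x_0 and C = V(F) in the plane P^2 of the coordinates x_1, x_2, x_3. If C has five
K-rational points no three of which are collinear, then S has five K-rational points in general
position (no four coplanar: any four representing vectors linearly independent). -/
theorem result (K : Type u) [Field K] [CharZero K]
    (G : MvPolynomial (Fin 3) K) (hG : G.IsHomogeneous 3) (F : MvPolynomial (Fin 4) K)
    (hF : F = MvPolynomial.rename Fin.succ G)
    (b : Fin 5 → (Fin 3 → K)) (hb : ∀ j : Fin 5, MvPolynomial.eval (b j) G = 0)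
    (h3 : ∀ i j l : Fin 5, i ≠ j → j ≠ l → i ≠ l → LinearIndependent K ![b i, b j, b l]) :
    ∃ p : Fin 5 → (Fin 4 → K), (∀ j : Fin 5, MvPolynomial.eval (p j) F = 0) ∧
      ∀ j : Fin 5, LinearIndependent K (fun i : Fin 4 => p (j.succAbove i)) := by
  classical
  -- choose x avoiding finitely many values
  let bad : Finset K := {0, D b 2 0 / D b 2 1, D b 3 0 / D b 3 1, D b 4 0 / D b 4 1}
  have : Infinite K := Infinite.of_injective (Nat.cast : ℕ → K) Nat.cast_injective
  obtain ⟨x, hx⟩ := Infinite.exists_notMem_finset bad
  simp only [bad, Finset.mem_insert, Finset.mem_singleton, not_or] at hx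
  obtain ⟨hx0, hx2, hx3, hx4⟩ := hx
  let t : Fin 5 → K := ![1, x, 0, 0, 0]
  refine ⟨pt b t, ?_, ?_⟩
  · intro j
    rw [hF, MvPolynomial.eval_rename]
    have : pt b t j ∘ Fin.succ = b j := by
      funext c
      simp [pt]
    rw [this]
    exact hb j
  · intro j
    have hdet : (Matrix.of fun i : Fin 4 => pt b t (j.succAbove i)).det ≠ 0 := by
      rw [det_eq, Fin.sum_univ_four]
      have hD := D_ne b h3
      fin_cases j
      · -- j = 0
        simp [t, Fin.succAbove]
        exact ⟨hx0, hD 0 0⟩
      · simp [t, Fin.succAbove]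
        exact hD 1 0
      · simp [t, Fin.succAbove]
        intro h
        apply hx2
        field_simp [hD 2 1]
        linear_combination -h
      · simp [t, Fin.succAbove]
        intro h
        apply hx3
        field_simp [hD 3 1]
        linear_combination -h
      · simp [t, Fin.succAbove]
        intro h
        apply hx4
        field_simp [hD 4 1]
        linear_combination -h
    have hu : IsUnit (Matrix.of fun i : Fin 4 => pt b t (j.succAbove i)) :=
      (Matrix.isUnit_iff_isUnit_det _).mpr (isUnit_iff_ne_zero.mpr hdet)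
    exact Matrix.linearIndependent_rows_iff_isUnit.mpr hu

end Groth.Agent.S16351
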