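import Groth.Statements.S16352
import Groth.Agent.Lib.Helper1.CubicKPolar

set_option autoImplicit false
universe u
open Cubic

namespace Groth.Agent.S16352

open Groth.Agent.Lib.Helper1.CubicK Module Submodule MvPolynomial

/-- Let K be an algebraically closed field of characteristic zero and S = V(F) ⊂ P^3_K a cubic surface
which is irreducible and not a cone (no nonzero vector v has Σ_i v_i ∂F/∂x_i = 0). Let a be a smooth
point of S which is not a T-point: with ℓ = Σ_i ∂F/∂x_i(a) · x_i the (nonzero) linear form of the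
tangent plane T_a S, F is not congruent modulo ℓ to a product of three linear forms (i.e. T_a S ∩ S
is not set-theoretically a union of lines). Let P = Σ_i a_i ∂F/∂x_i be the first polar of a. Then
V(P) ∩ T_a S is a union of at most two lines through a, and every line through a lying on S lies in
V(P) ∩ T_a S; lines are 2-dimensional subspaces of K^4 and T_a S is the 3-dimensional subspace where
ℓ vanishes. -/
theorem result (K : Type u) [Field K] [IsAlgClosed K] [CharZero K]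
    (F : MvPolynomial (Fin 4) K) (hF : F.IsHomogeneous 3) (hirr : Irreducible F)
    (hcone : ¬ ∃ v : Fin 4 → K, v ≠ 0 ∧ ∑ i : Fin 4, v i • MvPolynomial.pderiv i F = 0)
    (a : Fin 4 → K) (ha : a ≠ 0) (hFa : MvPolynomial.eval a F = 0)
    (hsm : ∃ i : Fin 4, MvPolynomial.eval a (MvPolynomial.pderiv i F) ≠ 0)
    (ℓ : MvPolynomial (Fin 4) K)
    (hℓ : ℓ = ∑ i : Fin 4, MvPolynomial.C (MvPolynomial.eval a (MvPolynomial.pderiv i F)) * MvPolynomial.X i)
    (hT : ¬ ∃ L₁ L₂ L₃ : MvPolynomial (Fin 4) K, L₁.IsHomogeneous 1 ∧ L₂.IsHomogeneous 1 ∧ L₃.IsHomogeneous 1 ∧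
      F - L₁ * L₂ * L₃ ∈ Ideal.span {ℓ})
    (P : MvPolynomial (Fin 4) K) (hP : P = ∑ i : Fin 4, a i • MvPolynomial.pderiv i F)
    (H : Submodule K (Fin 4 → K)) (hH : ∀ x : Fin 4 → K, x ∈ H ↔ MvPolynomial.eval x ℓ = 0) :
    (∃ U₁ U₂ : Submodule K (Fin 4 → K), Module.finrank K ↥U₁ = 2 ∧ Module.finrank K ↥U₂ = 2 ∧ a ∈ U₁ ∧ a ∈ U₂ ∧
        U₁ ≤ H ∧ U₂ ≤ H ∧ {x : Fin 4 → K | x ∈ H ∧ MvPolynomial.eval x P = 0} = (U₁ : Set (Fin 4 → K)) ∪ (U₂ : Set (Fin 4 → K))) ∧
      ∀ U : Submodule K (Fin 4 → K), a ∈ U → Module.finrank K ↥U = 2 → (∀ u ∈ U, MvPolynomial.eval u F = 0) →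
        U ≤ H ∧ ∀ u ∈ U, MvPolynomial.eval u P = 0 := by
  set S := symTriOf F hF with hS
  have hSF : ∀ x, S.F x = eval x F := fun x => symTriOf_diag F hF x
  have h3 : (3 : K) ≠ 0 := by norm_num
  set c : Fin 4 → K := fun i => eval a (pderiv i F) with hc
  have hℓ' : ℓ = linPoly c := hℓ
  have hℓx : ∀ x, eval x ℓ = 3 * S.T a a x := by
    intro x
    rw [hℓ', linPoly_eval]
    have := symTriOf_pderiv F hF x a
    rw [S.s13 a a x]
    rw [← this]
    apply Finset.sum_congr rfl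
    intro i _
    rw [hc]; ring
  have hPx : ∀ x, eval x P = 3 * S.T a x x := by
    intro x
    rw [hP, map_sum]
    simp only [smul_eval]
    exact symTriOf_pderiv F hF a x
  obtain ⟨i₀, hi₀⟩ := hsm
  have hc0 : c ≠ 0 := fun h => hi₀ (by have := congrFun h i₀; simpa [hc] using this)
  have hu₀ : S.T a a (Pi.single i₀ 1) ≠ 0 := by
    intro h0
    apply hi₀
    have := hℓx (Pi.single i₀ 1)
    rw [h0, mul_zero, hℓ', linPoly_eval] at this
    simpa [Pi.single_apply, hc] using this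
  have hT' : ¬ ∃ l₁ l₂ l₃ : V K →ₗ[K] K, ∀ x, S.T a a x = 0 → S.F x = l₁ x * l₂ x * l₃ x := by
    rintro ⟨l₁, l₂, l₃, h⟩
    apply hT
    have hlin : ∀ (l : V K →ₗ[K] K) (x : V K),
        eval x (linPoly (fun j => l (fun j' => if j = j' then 1 else 0))) = l x := by
      intro l x
      rw [linPoly_eval, LinearMap.pi_apply_eq_sum_univ l x]
      apply Finset.sum_congr rfl
      intro j _
      rw [smul_eq_mul]; ring
    refine ⟨linPoly (fun j => l₁ (fun j' => if j = j' then 1 else 0)),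
      linPoly (fun j => l₂ (fun j' => if j = j' then 1 else 0)),
      linPoly (fun j => l₃ (fun j' => if j = j' then 1 else 0)),
      linPoly_isHomogeneous _, linPoly_isHomogeneous _, linPoly_isHomogeneous _, ?_⟩
    rw [hℓ']
    apply mem_span_linPoly_of_vanish hc0
    intro x hx
    rw [← hℓ', hℓx] at hx
    have hx' : S.T a a x = 0 := (mul_eq_zero.mp hx).resolve_left h3
    rw [map_sub, map_mul, map_mul, hlin, hlin, hlin, ← hSF, h x hx', sub_self]
  have key := S.polar_tangent a ha (by rw [hSF]; exact hFa) _ hu₀ hT' H (fun x => by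
    rw [hH, hℓx]
    constructor
    · intro h; exact (mul_eq_zero.mp h).resolve_left h3
    · intro h; rw [h, mul_zero])
  obtain ⟨⟨U₁, U₂, h1, h2, h3', h4, h5, h6, h7⟩, k2⟩ := key
  refine ⟨⟨U₁, U₂, h1, h2, h3', h4, h5, h6, ?_⟩, ?_⟩
  · rw [← h7]
    ext x
    simp only [Set.mem_ofPred_eq, hPx]
    constructor
    · rintro ⟨hx, h0⟩
      exact ⟨hx, (mul_eq_zero.mp h0).resolve_left h3⟩
    · rintro ⟨hx, h0⟩
      exact ⟨hx, by rw [h0, mul_zero]⟩
  · intro U haU hU2 hUF
    obtain ⟨r1, r2⟩ := k2 U haU hU2 (fun u hu => by rw [hSF]; exact hUF u hu)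
    refine ⟨r1, fun u hu => ?_⟩
    rw [hPx, r2 u hu, mul_zero]

end Groth.Agent.S16352
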