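import Groth.Statements.S16353
import Mathlib

set_option autoImplicit false
universe u
open DegLoci

namespace Groth.Agent.S16353



section Helpers
open MvPolynomial W4c3degenlocivb

variable {k : Type u} [Field k] {m : ℕ}

/-- the descending factorial weight used by `contract` -/
def dsc (β α : Fin m →₀ ℕ) : ℕ := β.support.prod fun i => Nat.descFactorial (β i) (α i)

theorem dsc_eq (β α : Fin m →₀ ℕ) (h : α ≤ β) :
    dsc β α = ∏ i, Nat.descFactorial (β i) (α i) := by
  unfold dsc
  refine Finset.prod_subset (Finset.subset_univ _) fun i _ hi => ?_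
  have hβ : β i = 0 := Finsupp.notMem_support_iff.mp hi
  have hα : α i = 0 := by have := h i; omega
  rw [hβ, hα]; rfl

theorem coeff_contract (D G : MvPolynomial (Fin m) k) (γ : Fin m →₀ ℕ) :
    coeff γ (contract D G) = ∑ α ∈ D.support, coeff α D * coeff (γ + α) G * (dsc (γ + α) α : k) := by
  classical
  unfold contract
  rw [coeff_sum]
  refine Finset.sum_congr rfl fun α _ => ?_
  rw [coeff_sum]
  by_cases hmem : γ + α ∈ G.support
  · rw [Finset.sum_eq_single (γ + α)]
    · rw [if_pos (by simp), coeff_monomial, if_pos (by simp)]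
      rfl
    · intro β _ hβ
      split_ifs with hle
      · rw [coeff_monomial, if_neg]
        intro heq
        apply hβ
        rw [← heq, tsub_add_cancel_of_le hle]
      · simp
    · intro h; exact absurd hmem h
  · rw [MvPolynomial.notMem_support_iff.mp hmem, mul_zero, zero_mul]
    refine Finset.sum_eq_zero fun β hβ => ?_
    split_ifs with hle
    · rw [coeff_monomial, if_neg]
      intro heq
      apply hmem
      rw [← heq, tsub_add_cancel_of_le hle]
      exact hβ
    · simp

theorem coeff_contract_monomial (α : Fin m →₀ ℕ) (F : MvPolynomial (Fin m) k) (δ : Fin m →₀ ℕ) :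
    coeff δ (contract (monomial α 1) F) = coeff (δ + α) F * (dsc (δ + α) α : k) := by
  classical
  rw [coeff_contract, support_monomial, if_neg one_ne_zero, Finset.sum_singleton, coeff_monomial,
    if_pos rfl, one_mul]

theorem nat_identity (α α' : Fin m →₀ ℕ) :
    dsc (0 + α' + α) α * dsc (0 + α') α' = dsc (α + α') α' * ∏ i, (α i).factorial := by
  rw [dsc_eq _ _ (by simp), dsc_eq _ _ (by simp), dsc_eq _ _ (by simp), ← Finset.prod_mul_distrib,
    ← Finset.prod_mul_distrib]
  refine Finset.prod_congr rfl fun i _ => ?_
  simp only [Finsupp.add_apply, zero_add]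
  have h1 := Nat.factorial_mul_descFactorial (Nat.le_add_left (α i) (α' i))
  have h2 := Nat.factorial_mul_descFactorial (Nat.le_add_left (α' i) (α i))
  rw [Nat.add_sub_cancel] at h1 h2
  rw [Nat.descFactorial_self, mul_comm, h1, mul_comm, add_comm, h2]

end Helpers

/-- Let k be a field of characteristic zero, R = k[y_0, …, y_{m−1}] acting on S = k[∂_0, …, ∂_{m−1}] by
apolarity (y_i acts as the derivative with respect to ∂_i), F ∈ S homogeneous of degree e and d ≤ e.
Then the degree-d part of the apolar ideal of F is the orthogonal complement of the partial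
derivatives of F of order e − d: a homogeneous D ∈ R_d satisfies D(F) = 0 if and only if D(y^α(F)) =
0 for every multi-index α with |α| = e − d (each D(y^α(F)) being a constant, the value of the
apolarity pairing of D with y^α(F)). -/
theorem result (k : Type u) [Field k] [CharZero k] (m : ℕ)
    (F : MvPolynomial (Fin m) k) (e : ℕ) (hF : F.IsHomogeneous e) (d : ℕ) (hd : d ≤ e)
    (D : MvPolynomial (Fin m) k) (hD : D.IsHomogeneous d) :
    W4c3degenlocivb.contract D F = 0 ↔
      ∀ α : Fin m →₀ ℕ, α.degree = e - d → W4c3degenlocivb.contract D (W4c3degenlocivb.contract (MvPolynomial.monomial α 1) F) = 0 := by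
  classical
  have hDdeg : ∀ α' ∈ D.support, α'.degree = d := fun α' h => by
    have := hD (MvPolynomial.mem_support_iff.mp h)
    rw [Finsupp.degree_eq_weight_one]
    exact this
  -- key coefficient identity
  have hkey : ∀ α : Fin m →₀ ℕ,
      MvPolynomial.coeff 0 (W4c3degenlocivb.contract D (W4c3degenlocivb.contract (MvPolynomial.monomial α 1) F))
        = ((∏ i, (α i).factorial : ℕ) : k) * MvPolynomial.coeff α (W4c3degenlocivb.contract D F) := by
    intro α
    rw [coeff_contract, coeff_contract, Finset.mul_sum]
    refine Finset.sum_congr rfl fun α' _ => ?_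
    rw [coeff_contract_monomial]
    have hn := nat_identity α α'
    have hn' : ((dsc (0 + α' + α) α : ℕ) : k) * (dsc (0 + α') α' : k)
        = (dsc (α + α') α' : k) * ((∏ i, (α i).factorial : ℕ) : k) := by exact_mod_cast hn
    have e1 : (0 : Fin m →₀ ℕ) + α' + α = α + α' := by rw [zero_add, add_comm]
    rw [e1] at hn' ⊢
    linear_combination (MvPolynomial.coeff α' D * MvPolynomial.coeff (α + α') F) * hn'
  have hother : ∀ α : Fin m →₀ ℕ, α.degree = e - d → ∀ γ : Fin m →₀ ℕ, γ ≠ 0 →
      MvPolynomial.coeff γ (W4c3degenlocivb.contract D (W4c3degenlocivb.contract (MvPolynomial.monomial α 1) F)) = 0 := by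
    intro α hα γ hγ
    rw [coeff_contract]
    refine Finset.sum_eq_zero fun α' hα' => ?_
    rw [coeff_contract_monomial]
    have hdeg : (γ + α' + α).degree ≠ e := by
      rw [map_add, map_add, hα, hDdeg α' hα']
      have : γ.degree ≠ 0 := fun h => hγ ((Finsupp.degree_eq_zero_iff γ).mp h)
      omega
    rw [hF.coeff_eq_zero hdeg]
    ring
  have hfact : ∀ α : Fin m →₀ ℕ, ((∏ i, (α i).factorial : ℕ) : k) ≠ 0 := by
    intro α
    rw [Nat.cast_ne_zero]
    exact Finset.prod_ne_zero_iff.mpr fun i _ => Nat.factorial_ne_zero _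
  constructor
  · intro h α hα
    ext γ
    rw [MvPolynomial.coeff_zero]
    by_cases hγ : γ = 0
    · rw [hγ, hkey α, h, MvPolynomial.coeff_zero, mul_zero]
    · exact hother α hα γ hγ
  · intro h
    ext γ
    rw [MvPolynomial.coeff_zero]
    by_cases hγ : γ.degree = e - d
    · have h1 := hkey γ
      rw [h γ hγ, MvPolynomial.coeff_zero] at h1
      exact (mul_eq_zero.mp h1.symm).resolve_left (hfact γ)
    · rw [coeff_contract]
      refine Finset.sum_eq_zero fun α' hα' => ?_
      have hdeg : (γ + α').degree ≠ e := by
        rw [map_add, hDdeg α' hα']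
        omega
      rw [hF.coeff_eq_zero hdeg]
      ring

end Groth.Agent.S16353
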