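import Groth.Statements.S16355
import Mathlib
-- import your own Groth.Agent.* helpers here

set_option autoImplicit false
set_option linter.unusedVariables false
universe u
open DegLoci

namespace Groth.Agent.S16355

open W4c3degenlocivb Finset

section pfbasics

variable {R S : Type*} [CommRing R] [CommRing S]

lemma pf_succ_succ (n : ℕ) (T : Matrix (Fin (n + 2)) (Fin (n + 2)) R) :
    pf (n + 2) T = ∑ j : Fin (n + 1),
      (-1) ^ ((j : ℕ) + 1) * T (Fin.last (n + 1)) (Fin.castSucc j) *
        pf n (T.submatrix (Fin.castSucc ∘ j.succAbove) (Fin.castSucc ∘ j.succAbove)) := by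
  rw [pf]

lemma pf_map (f : R →+* S) : ∀ (n : ℕ) (T : Matrix (Fin n) (Fin n) R),
    pf n (T.map f) = f (pf n T) := by
  intro n
  induction n using Nat.twoStepInduction with
  | zero => intro T; simp [pf]
  | one => intro T; simp [pf]
  | more n ih _ =>
    intro T
    rw [pf_succ_succ, pf_succ_succ, map_sum]
    refine sum_congr rfl fun j _ => ?_
    rw [map_mul, map_mul, map_pow, map_neg, map_one, ← ih]
    rfl

lemma pf_isHomogeneous {σ : Type*} : ∀ (n : ℕ) (T : Matrix (Fin n) (Fin n) (MvPolynomial σ R)),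
    (∀ a b, (T a b).IsHomogeneous 1) → (pf n T).IsHomogeneous (n / 2) := by
  intro n
  induction n using Nat.twoStepInduction with
  | zero => intro T _; simp only [pf]; exact MvPolynomial.isHomogeneous_one _ _
  | one => intro T _; simp only [pf]; exact MvPolynomial.isHomogeneous_zero _ _ _
  | more n ih _ =>
    intro T hT
    rw [pf_succ_succ]
    apply MvPolynomial.IsHomogeneous.sum
    intro j _
    have h1 : (n + 2) / 2 = 0 + 1 + n / 2 := by omega
    rw [h1]
    refine MvPolynomial.IsHomogeneous.mul (MvPolynomial.IsHomogeneous.mul ?_ (hT _ _)) ?_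
    · have : ((-1 : MvPolynomial σ R)) ^ ((j : ℕ) + 1) = MvPolynomial.C ((-1 : R) ^ ((j : ℕ) + 1)) := by
        rw [map_pow, map_neg, map_one]
      rw [this]
      exact MvPolynomial.isHomogeneous_C _ _
    · exact ih _ (fun a b => hT _ _)

/-- weighted path matrix -/
def pathM (n : ℕ) (w : ℕ → R) : Matrix (Fin n) (Fin n) R :=
  Matrix.of fun a b => if (b : ℕ) = a + 1 then w a else if (a : ℕ) = b + 1 then -w b else 0

lemma pf_pathM (w : ℕ → R) : ∀ m : ℕ, pf (2 * m) (pathM (2 * m) w) = ∏ j ∈ range m, w (2 * j) := by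
  intro m
  induction m with
  | zero => simp [pf]
  | succ m ih =>
    change pf (2 * m + 2) (pathM (2 * m + 2) w) = _
    rw [pf_succ_succ, prod_range_succ, ← ih]
    rw [sum_eq_single (Fin.last (2 * m))]
    · have h1 : pathM (2 * m + 2) w (Fin.last (2 * m + 1)) (Fin.castSucc (Fin.last (2 * m))) =
          -w (2 * m) := by
        simp only [pathM, Matrix.of_apply, Fin.val_last, Fin.val_castSucc]
        rw [if_neg (by omega), if_pos trivial]
      have h2 : (pathM (2 * m + 2) w).submatrix (Fin.castSucc ∘ (Fin.last (2 * m)).succAbove)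
          (Fin.castSucc ∘ (Fin.last (2 * m)).succAbove) = pathM (2 * m) w := by
        ext a b
        simp [pathM, Fin.succAbove_last]
      rw [h1, h2, Fin.val_last, pow_succ, Even.neg_one_pow (even_two_mul m)]
      ring
    · intro j _ hj
      have hjlt : (j : ℕ) < 2 * m := by
        have := j.2
        have h3 : (j : ℕ) ≠ 2 * m := fun h => hj (Fin.ext (by simpa using h))
        omega
      have h1 : pathM (2 * m + 2) w (Fin.last (2 * m + 1)) (Fin.castSucc j) = 0 := by
        simp only [pathM, Matrix.of_apply, Fin.val_last, Fin.val_castSucc]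
        rw [if_neg (by omega), if_neg (by omega)]
      rw [h1, mul_zero, zero_mul]
    · intro h; exact absurd (mem_univ _) h

lemma pathM_submatrix_succAbove (n : ℕ) (w : ℕ → R) (i : Fin (n + 1)) :
    (pathM (n + 1) w).submatrix i.succAbove i.succAbove =
      pathM n (fun j => if j + 1 < (i : ℕ) then w j else if j + 1 = (i : ℕ) then 0 else w (j + 1)) := by
  ext a b
  simp only [Matrix.submatrix_apply, pathM, Matrix.of_apply]
  have ha : ((i.succAbove a : Fin (n + 1)) : ℕ) = if (a : ℕ) < i then (a : ℕ) else a + 1 := by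
    rw [Fin.succAbove]
    split_ifs with h1 h2 h2
    · rfl
    · exact absurd (Fin.lt_def.1 h1) (by simpa using h2)
    · exact absurd (Fin.lt_def.2 (by simpa using h2)) h1
    · rfl
  have hb : ((i.succAbove b : Fin (n + 1)) : ℕ) = if (b : ℕ) < i then (b : ℕ) else b + 1 := by
    rw [Fin.succAbove]
    split_ifs with h1 h2 h2
    · rfl
    · exact absurd (Fin.lt_def.1 h1) (by simpa using h2)
    · exact absurd (Fin.lt_def.2 (by simpa using h2)) h1
    · rfl
  rw [ha, hb]
  by_cases hab : (b : ℕ) = a + 1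
  · rw [if_pos hab]
    by_cases h1 : (a : ℕ) + 1 < i
    · rw [if_pos h1, if_pos (by omega : (a : ℕ) < i), if_pos (by omega : (b : ℕ) < i), if_pos hab]
    · rw [if_neg h1]
      by_cases h2 : (a : ℕ) + 1 = i
      · rw [if_pos h2, if_pos (by omega : (a : ℕ) < i), if_neg (by omega : ¬ (b : ℕ) < i),
          if_neg (by omega), if_neg (by omega)]
      · rw [if_neg h2, if_neg (by omega : ¬ (a : ℕ) < i), if_neg (by omega : ¬ (b : ℕ) < i),
          if_pos (by omega)]
  · rw [if_neg hab]
    by_cases hba : (a : ℕ) = b + 1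
    · rw [if_pos hba]
      by_cases h1 : (b : ℕ) + 1 < i
      · rw [if_pos h1, if_pos (by omega : (a : ℕ) < i), if_pos (by omega : (b : ℕ) < i),
          if_neg (by omega), if_pos hba]
      · rw [if_neg h1]
        by_cases h2 : (b : ℕ) + 1 = i
        · rw [if_pos h2, if_neg (by omega : ¬ (a : ℕ) < i), if_pos (by omega : (b : ℕ) < i),
            if_neg (by omega), if_neg (by omega), neg_zero]
        · rw [if_neg h2, if_neg (by omega : ¬ (a : ℕ) < i), if_neg (by omega : ¬ (b : ℕ) < i),
            if_neg (by omega), if_pos (by omega)]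
    · rw [if_neg hba]
      split_ifs <;> first | rfl | omega

end pfbasics

section universal

variable {A B : Type*} [CommRing A] [CommRing B] (r : ℕ)

/-- the matrix of linear forms with coefficient array `c` -/
noncomputable def Nmat (c : Fin (2 * r + 1) → Fin (2 * r + 1) → Fin 2 → A) :
    Matrix (Fin (2 * r + 1)) (Fin (2 * r + 1)) (MvPolynomial (Fin 2) A) :=
  Matrix.of fun a b => ∑ l : Fin 2, MvPolynomial.C (c a b l) * MvPolynomial.X l

/-- the principal sub-Pfaffians -/
noncomputable def subPf (c : Fin (2 * r + 1) → Fin (2 * r + 1) → Fin 2 → A) (i : Fin (2 * r + 1)) :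
    MvPolynomial (Fin 2) A :=
  pf (2 * r) ((Nmat r c).submatrix i.succAbove i.succAbove)

/-- the monomial `y₀^t y₁^(r-t)` -/
noncomputable def mono (t : ℕ) : Fin 2 →₀ ℕ := Finsupp.single 0 t + Finsupp.single 1 (r - t)

/-- even indices -/
def idx2 (s : Fin (r + 1)) : Fin (2 * r + 1) := ⟨2 * (s : ℕ), by have := s.2; omega⟩

/-- coefficient matrix of the even sub-Pfaffians -/
noncomputable def Cmat (c : Fin (2 * r + 1) → Fin (2 * r + 1) → Fin 2 → A) :
    Matrix (Fin (r + 1)) (Fin (r + 1)) A :=
  Matrix.of fun s t => MvPolynomial.coeff (mono r t) (subPf r c (idx2 r s))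

lemma Nmat_map (f : A →+* B) (c : Fin (2 * r + 1) → Fin (2 * r + 1) → Fin 2 → A) :
    (Nmat r c).map (MvPolynomial.map f) = Nmat r (fun a b l => f (c a b l)) := by
  ext a b
  simp only [Nmat, Matrix.map_apply, Matrix.of_apply, map_sum, map_mul, MvPolynomial.map_C,
    MvPolynomial.map_X]

lemma subPf_map (f : A →+* B) (c : Fin (2 * r + 1) → Fin (2 * r + 1) → Fin 2 → A)
    (i : Fin (2 * r + 1)) :
    subPf r (fun a b l => f (c a b l)) i = MvPolynomial.map f (subPf r c i) := by
  unfold subPf
  rw [← Nmat_map, ← RingHom.coe_coe, ← pf_map]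
  rfl

lemma Cmat_map (f : A →+* B) (c : Fin (2 * r + 1) → Fin (2 * r + 1) → Fin 2 → A) :
    Cmat r (fun a b l => f (c a b l)) = (Cmat r c).map f := by
  ext s t
  simp only [Cmat, Matrix.of_apply, Matrix.map_apply, subPf_map, MvPolynomial.coeff_map]

lemma subPf_isHomogeneous (c : Fin (2 * r + 1) → Fin (2 * r + 1) → Fin 2 → A)
    (i : Fin (2 * r + 1)) : (subPf r c i).IsHomogeneous r := by
  have h := pf_isHomogeneous (2 * r) ((Nmat r c).submatrix i.succAbove i.succAbove) ?_
  · rwa [Nat.mul_div_cancel_left r (by norm_num : 0 < 2)] at h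
  · intro a b
    simp only [Matrix.submatrix_apply, Nmat, Matrix.of_apply]
    apply MvPolynomial.IsHomogeneous.sum
    intro l _
    have := MvPolynomial.IsHomogeneous.mul (MvPolynomial.isHomogeneous_C (Fin 2) (c (i.succAbove a) (i.succAbove b) l))
      (MvPolynomial.isHomogeneous_X A l)
    rwa [zero_add] at this

end universal

section example_

variable (k : Type u) [Field k] (r : ℕ)

/-- coefficients of the weight `w j = y_(j mod 2)` -/
def wc (j : ℕ) (l : Fin 2) : k := if (l : ℕ) = j % 2 then 1 else 0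

/-- the example coefficient array (a weighted path) -/
def c₀ (a b : Fin (2 * r + 1)) (l : Fin 2) : k :=
  if (b : ℕ) = a + 1 then wc k a l else if (a : ℕ) = b + 1 then -wc k b l else 0

lemma c₀_antisymm (i j : Fin (2 * r + 1)) (l : Fin 2) : c₀ k r j i l = -c₀ k r i j l := by
  unfold c₀
  by_cases h1 : (j : ℕ) = i + 1
  · rw [if_neg (by omega), if_pos h1, if_pos h1]
  · by_cases h2 : (i : ℕ) = j + 1
    · rw [if_pos h2, if_neg h1, if_pos h2, neg_neg]
    · rw [if_neg h2, if_neg h1, if_neg h1, if_neg h2, neg_zero]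

/-- the weights as polynomials -/
noncomputable def ww (j : ℕ) : MvPolynomial (Fin 2) k :=
  ∑ l : Fin 2, MvPolynomial.C (wc k j l) * MvPolynomial.X l

lemma ww_even (j : ℕ) : ww k (2 * j) = MvPolynomial.X 0 := by
  unfold ww wc
  rw [Fin.sum_univ_two]
  simp

lemma ww_odd (j : ℕ) : ww k (2 * j + 1) = MvPolynomial.X 1 := by
  unfold ww wc
  rw [Fin.sum_univ_two]
  simp [Nat.add_mod]

lemma Nmat_c₀ : Nmat r (c₀ k r) = pathM (2 * r + 1) (ww k) := by
  ext a b
  simp only [Nmat, pathM, Matrix.of_apply, c₀, ww]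
  by_cases h1 : (b : ℕ) = a + 1
  · simp only [if_pos h1]
  · by_cases h2 : (a : ℕ) = b + 1
    · simp only [if_neg h1, if_pos h2, map_neg, neg_mul, sum_neg_distrib]
    · simp only [if_neg h1, if_neg h2, map_zero, zero_mul, sum_const_zero]

lemma subPf_c₀ (s : Fin (r + 1)) :
    subPf r (c₀ k r) (idx2 r s) = MvPolynomial.X 0 ^ (s : ℕ) * MvPolynomial.X 1 ^ (r - (s : ℕ)) := by
  have hs := s.2
  unfold subPf
  rw [Nmat_c₀, pathM_submatrix_succAbove, pf_pathM]
  have h1 : ∀ j ∈ range r, (if 2 * j + 1 < ((idx2 r s : Fin (2 * r + 1)) : ℕ) then ww k (2 * j)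
      else if 2 * j + 1 = ((idx2 r s : Fin (2 * r + 1)) : ℕ) then 0 else ww k (2 * j + 1)) =
      if j < (s : ℕ) then MvPolynomial.X 0 else MvPolynomial.X 1 := by
    intro j _
    have hidx : ((idx2 r s : Fin (2 * r + 1)) : ℕ) = 2 * (s : ℕ) := rfl
    rw [hidx]
    by_cases hj : j < (s : ℕ)
    · rw [if_pos (by omega), if_pos hj, ww_even]
    · rw [if_neg (by omega), if_neg (by omega), if_neg hj, ww_odd]
  rw [prod_congr rfl h1, ← prod_range_mul_prod_Ico _ (by omega : (s : ℕ) ≤ r)]
  congr 1
  · rw [prod_congr rfl (fun j hj => if_pos (mem_range.1 hj)), prod_const, card_range]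
  · rw [prod_congr rfl (fun j hj => if_neg (by have := (mem_Ico.1 hj).1; omega)), prod_const,
      Nat.card_Ico]

lemma mono_injective (s t : ℕ) (h : mono r s = mono r t) : s = t := by
  have := DFunLike.congr_fun h 0
  simpa [mono] using this

lemma Cmat_c₀ : Cmat r (c₀ k r) = 1 := by
  ext s t
  simp only [Cmat, Matrix.of_apply, subPf_c₀]
  rw [MvPolynomial.X_pow_eq_monomial, MvPolynomial.X_pow_eq_monomial, MvPolynomial.monomial_mul,
    MvPolynomial.coeff_monomial, mul_one, Matrix.one_apply]
  have : (Finsupp.single (0 : Fin 2) (s : ℕ) + Finsupp.single (1 : Fin 2) (r - (s : ℕ))) =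
      mono r s := rfl
  rw [this]
  by_cases hst : s = t
  · rw [if_pos hst, if_pos (by rw [hst])]
  · rw [if_neg hst, if_neg]
    intro h
    exact hst (Fin.ext (mono_injective r _ _ h))

end example_

section linalg

variable (k : Type u) [Field k] (r : ℕ)

lemma eq_mono_of_degree (m : Fin 2 →₀ ℕ) (hm : m.degree = r) : m = mono r (m 0) := by
  rw [Finsupp.degree_eq_sum, Fin.sum_univ_two] at hm
  ext i
  fin_cases i
  · simp [mono]
  · simp only [mono, Finsupp.coe_add, Pi.add_apply]
    simp
    omega

lemma span_eq_of_det_ne_zero (p : Fin (2 * r + 1) → MvPolynomial (Fin 2) k)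
    (hp : ∀ i, (p i).IsHomogeneous r)
    (hdet : (Matrix.of fun s t : Fin (r + 1) =>
      MvPolynomial.coeff (mono r t) (p (idx2 r s))).det ≠ 0) :
    Submodule.span k (Set.range p) = MvPolynomial.homogeneousSubmodule (Fin 2) k r := by
  apply le_antisymm
  · rw [Submodule.span_le]
    rintro _ ⟨i, rfl⟩
    exact (MvPolynomial.mem_homogeneousSubmodule _ _).2 (hp i)
  · intro h hh
    rw [MvPolynomial.mem_homogeneousSubmodule] at hh
    set M : Matrix (Fin (r + 1)) (Fin (r + 1)) k := Matrix.of fun s t : Fin (r + 1) =>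
      MvPolynomial.coeff (mono r t) (p (idx2 r s)) with hM
    have hMunit : IsUnit M.det := isUnit_iff_ne_zero.2 hdet
    set v : Fin (r + 1) → k := fun t => MvPolynomial.coeff (mono r t) h with hv
    set x : Fin (r + 1) → k := Matrix.vecMul v M⁻¹ with hx
    have hxM : Matrix.vecMul x M = v := by
      rw [hx, Matrix.vecMul_vecMul, Matrix.nonsing_inv_mul _ hMunit, Matrix.vecMul_one]
    have hzero : h - ∑ s, x s • p (idx2 r s) = 0 := by
      have hhom : (h - ∑ s, x s • p (idx2 r s)).IsHomogeneous r := by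
        have h1 : h - ∑ s, x s • p (idx2 r s) ∈ MvPolynomial.homogeneousSubmodule (Fin 2) k r :=
          Submodule.sub_mem _ ((MvPolynomial.mem_homogeneousSubmodule _ _).2 hh)
            (Submodule.sum_mem _ fun s _ => Submodule.smul_mem _ _
              ((MvPolynomial.mem_homogeneousSubmodule _ _).2 (hp _)))
        exact (MvPolynomial.mem_homogeneousSubmodule _ _).1 h1
      ext m
      rw [MvPolynomial.coeff_zero]
      by_contra hne
      have hdeg : m.degree = r := by
        have := hhom hne
        rw [Finsupp.degree_eq_weight_one]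
        exact this
      have hm := eq_mono_of_degree r m hdeg
      have hm0 : m 0 < r + 1 := by
        rw [Finsupp.degree_eq_sum, Fin.sum_univ_two] at hdeg
        omega
      apply hne
      rw [hm, MvPolynomial.coeff_sub, MvPolynomial.coeff_sum]
      simp only [MvPolynomial.coeff_smul, smul_eq_mul]
      have h2 := congrFun hxM ⟨m 0, hm0⟩
      simp only [Matrix.vecMul, dotProduct, hM, Matrix.of_apply, hv] at h2
      rw [h2, sub_self]
    rw [sub_eq_zero] at hzero
    rw [hzero]
    exact Submodule.sum_mem _ fun s _ => Submodule.smul_mem _ _ (Submodule.subset_span ⟨_, rfl⟩)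

end linalg

/-- Let k be an algebraically closed field of characteristic zero and n = 2r + 1 ≥ 3 odd. For a general
n × n alternating matrix N of linear forms in k[y_0, y_1], the n principal sub-Pfaffians of size n −
1 (delete row i and column i, take the Pfaffian) span the whole space k[y_0, y_1]_r of binary forms
of degree r. Here such matrices are parametrised by antisymmetric coefficient arrays c (entry (i, j)
of N is Σ_l c_{i j l} y_l with c_{j i l} = −c_{i j l}), and 'general' means: outside the zero set of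
some polynomial Φ in the coefficients which does not vanish at every antisymmetric array. -/
theorem result (k : Type u) [Field k] [IsAlgClosed k] [CharZero k]
    (r : ℕ) (hr : 1 ≤ r) :
    ∃ Φ : MvPolynomial (Fin (2 * r + 1) × Fin (2 * r + 1) × Fin 2) k,
      (∃ c : Fin (2 * r + 1) → Fin (2 * r + 1) → Fin 2 → k, (∀ i j l, c j i l = -c i j l) ∧
        MvPolynomial.eval (fun p => c p.1 p.2.1 p.2.2) Φ ≠ 0) ∧
      ∀ c : Fin (2 * r + 1) → Fin (2 * r + 1) → Fin 2 → k, (∀ i j l, c j i l = -c i j l) →
        MvPolynomial.eval (fun p => c p.1 p.2.1 p.2.2) Φ ≠ 0 →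
        Submodule.span k (Set.range fun i : Fin (2 * r + 1) =>
            W4c3degenlocivb.pf (2 * r) ((Matrix.of fun a b => ∑ l : Fin 2, MvPolynomial.C (c a b l) * MvPolynomial.X l).submatrix i.succAbove i.succAbove)) =
          MvPolynomial.homogeneousSubmodule (Fin 2) k r := by
  have hev : ∀ c : Fin (2 * r + 1) → Fin (2 * r + 1) → Fin 2 → k,
      MvPolynomial.eval (fun p : Fin (2 * r + 1) × Fin (2 * r + 1) × Fin 2 => c p.1 p.2.1 p.2.2)
        (Cmat r (fun a b l => (MvPolynomial.X (a, b, l) :
          MvPolynomial (Fin (2 * r + 1) × Fin (2 * r + 1) × Fin 2) k))).det = (Cmat r c).det := by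
    intro c
    rw [RingHom.map_det, RingHom.mapMatrix_apply, ← Cmat_map]
    congr 2
    funext a b l
    simp
  refine ⟨(Cmat r (fun a b l => (MvPolynomial.X (a, b, l) :
      MvPolynomial (Fin (2 * r + 1) × Fin (2 * r + 1) × Fin 2) k))).det, ?_, ?_⟩
  · refine ⟨c₀ k r, c₀_antisymm k r, ?_⟩
    rw [hev, Cmat_c₀, Matrix.det_one]
    exact one_ne_zero
  · intro c _ hc
    rw [hev] at hc
    exact span_eq_of_det_ne_zero k r (subPf r c) (subPf_isHomogeneous r c) hc

end Groth.Agent.S16355
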