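import Groth.Statements.S16356
import Mathlib
-- import your own Groth.Agent.* helpers here

set_option autoImplicit false
universe u
open OrdAV

namespace Groth.Agent.S16356

open WittVector Finset in
theorem aux_p (p : ℕ) [Fact p.Prime] (hp : p ≠ 2) (k : Type u) [Field k] [CharP k p]
    [PerfectRing k p] (x : WittVector p k) (hx : x ^ p = 1)
    (h0 : x.coeff 0 = 1) : x = 1 := by
  by_contra hne
  have hpp : p.Prime := Fact.out
  have hc : constantCoeff x = 1 := h0
  have hcp : constantCoeff (p : WittVector p k) = 0 := by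
    rw [map_natCast]; exact CharP.cast_eq_zero k p
  set y := x - 1 with hy
  have hy0 : constantCoeff y = 0 := by rw [hy, map_sub, hc, map_one, sub_self]
  have hyne : y ≠ 0 := sub_ne_zero.mpr hne
  obtain ⟨z, hz⟩ : ∃ z, y = p * z := by
    have : y ∈ Ideal.span {(p : WittVector p k)} := by
      rw [← ker_constantCoeff]; exact hy0
    obtain ⟨z, hz⟩ := Ideal.mem_span_singleton'.mp this
    exact ⟨z, by rw [← hz, mul_comm]⟩
  have hxy : x = y + 1 := by simp [hy]
  have h1 := add_pow_prime_eq hpp y 1
  rw [← hxy, hx] at h1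
  obtain ⟨S, hS⟩ : ∃ S : WittVector p k, S = ∑ j ∈ Ioo 0 p, y ^ (j - 1) * 1 ^ (p - j - 1) *
      ((p.choose j / p : ℕ) : WittVector p k) := ⟨_, rfl⟩
  rw [← hS] at h1
  have h3le : 3 ≤ p := by have := hpp.two_le; omega
  have hpow : y ^ p = y * y ^ (p - 1) := (mul_pow_sub_one hpp.ne_zero y).symm
  have h2 : y * (y ^ (p - 1) + p * S) = 0 := by
    rw [hpow] at h1
    linear_combination -h1
  have h3 : y ^ (p - 1) + p * S = 0 := (mul_eq_zero.mp h2).resolve_left hyne
  have h3' : y ^ (p - 1) = p * ((p : WittVector p k) ^ (p - 2) * z ^ (p - 1)) := by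
    rw [hz, mul_pow]
    have : p - 1 = (p - 2) + 1 := by omega
    conv_lhs => rw [this, pow_succ' (p : WittVector p k)]
    rw [← this]; ring
  have h4 : (p : WittVector p k) * ((p : WittVector p k) ^ (p - 2) * z ^ (p - 1) + S) = 0 := by
    rw [h3'] at h3
    linear_combination h3
  have h5 := (mul_eq_zero.mp h4).resolve_left (WittVector.p_nonzero p k)
  have h6 := congrArg constantCoeff h5
  rw [map_add, map_mul, map_pow, hcp, zero_pow (by omega), zero_mul, zero_add, map_zero] at h6
  have h7 : constantCoeff S = 1 := by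
    rw [hS, map_sum]
    rw [Finset.sum_eq_single 1]
    · simp [Nat.div_self hpp.pos]
    · intro b hb hb1
      have : 0 < b := (Finset.mem_Ioo.mp hb).1
      rw [map_mul, map_mul, map_pow, hy0, zero_pow (by omega), zero_mul, zero_mul]
    · intro h
      exact absurd (Finset.mem_Ioo.mpr ⟨by omega, by omega⟩) h
  rw [h7] at h6
  exact one_ne_zero h6

open WittVector Finset in
theorem aux_prime (p : ℕ) [Fact p.Prime] (hp : p ≠ 2) (k : Type u) [Field k] [CharP k p]
    [PerfectRing k p] (x : WittVector p k) (q : ℕ) (hq : q.Prime) (hx : x ^ q = 1)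
    (h0 : x.coeff 0 = 1) : x = 1 := by
  by_contra hne
  have hpp : p.Prime := Fact.out
  have hc : constantCoeff x = 1 := h0
  by_cases hqp : q = p
  · rw [hqp] at hx
    exact hne (aux_p p hp k x hx h0)
  · have h1 : (x - 1) * ∑ i ∈ range q, x ^ i = 0 := by
      rw [mul_geom_sum, hx, sub_self]
    have h2 := (mul_eq_zero.mp h1).resolve_left (sub_ne_zero.mpr hne)
    have h3 := congrArg constantCoeff h2
    rw [map_sum, map_zero] at h3
    simp only [map_pow, hc, one_pow, Finset.sum_const, Finset.card_range, nsmul_eq_mul,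
      mul_one] at h3
    have h4 := (CharP.cast_eq_zero_iff k p q).mp h3
    exact hqp ((Nat.prime_dvd_prime_iff_eq hpp hq).mp h4).symm

/-- For an odd prime p and a perfect field k of characteristic p, a root of unity in the ring of Witt
vectors W(k) whose residue in k is 1 is itself 1: if x ^ n = 1 with n ≥ 1 and the zeroth Witt
component of x is 1, then x = 1. (For p = 2 this fails: -1 in W(F_2).) -/
theorem result (p : ℕ) [Fact p.Prime] (hp : p ≠ 2)
    (k : Type u) [Field k] [CharP k p] [PerfectRing k p]
    (x : WittVector p k) (n : ℕ) (hn : 0 < n) (hx : x ^ n = 1) (h0 : x.coeff 0 = 1) : x = 1 := by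
  induction n using Nat.strong_induction_on generalizing x with
  | _ n ih =>
    by_cases hn1 : n = 1
    · subst hn1; simpa using hx
    · have hq : (n.minFac).Prime := Nat.minFac_prime hn1
      obtain ⟨m, hm⟩ := Nat.minFac_dvd n
      have hmpos : 0 < m := by
        rcases Nat.eq_zero_or_pos m with h | h
        · subst h; omega
        · exact h
      have hmlt : m < n := by
        have := hq.two_le
        nlinarith
      have hxm : (x ^ m) ^ n.minFac = 1 := by
        rw [← pow_mul, mul_comm, ← hm]; exact hx
      have hxm0 : (x ^ m).coeff 0 = 1 := by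
        have : WittVector.constantCoeff (x ^ m) = 1 := by
          rw [map_pow]
          show (x.coeff 0) ^ m = 1
          rw [h0, one_pow]
        exact this
      have := aux_prime p hp k (x ^ m) n.minFac hq hxm hxm0
      exact ih m hmlt x hmpos this h0

end Groth.Agent.S16356
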