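import Groth.Statements.S16357
import Mathlib
-- import your own Groth.Agent.* helpers here

set_option autoImplicit false
universe u
open OrdAV

namespace Groth.Agent.S16357


open Polynomial in
theorem coeff_mem_of_sq {L : Type u} [Field L] [CharZero L] (g : L[X]) (hg0 : g.coeff 0 = 1)
    (hsq : ∀ n, (g * g).coeff n ∈ (algebraMap ℚ L).range) :
    ∀ n, g.coeff n ∈ (algebraMap ℚ L).range := by
  have hhalf : ∀ x : L, 2 * x ∈ (algebraMap ℚ L).range → x ∈ (algebraMap ℚ L).range := by
    rintro x ⟨q, hq⟩
    refine ⟨q / 2, ?_⟩
    rw [map_div₀, hq, map_ofNat]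
    field_simp
  intro n
  induction n using Nat.strong_induction_on with
  | _ n ih =>
    match n with
    | 0 => rw [hg0]; exact ⟨1, map_one _⟩
    | 1 =>
      have h1 := hsq 1
      rw [Polynomial.coeff_mul, Finset.Nat.sum_antidiagonal_succ] at h1
      simp only [Finset.Nat.antidiagonal_zero, Finset.sum_singleton, zero_add, hg0, one_mul,
        mul_one] at h1
      apply hhalf
      rw [two_mul]
      exact h1
    | m + 2 =>
      have h1 := hsq (m + 2)
      rw [Polynomial.coeff_mul, Finset.Nat.sum_antidiagonal_succ,
        Finset.Nat.sum_antidiagonal_succ'] at h1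
      simp only [hg0, one_mul, mul_one] at h1
      have h2 : (∑ p ∈ Finset.HasAntidiagonal.antidiagonal m, g.coeff (p.1 + 1) * g.coeff (p.2 + 1)) ∈
          (algebraMap ℚ L).range := by
        apply Subring.sum_mem
        intro p hp
        have hp' := Finset.HasAntidiagonal.mem_antidiagonal.mp hp
        exact Subring.mul_mem _ (ih _ (by omega)) (ih _ (by omega))
      apply hhalf
      have h3 := Subring.sub_mem _ h1 h2
      convert h3 using 1
      ring

/-- Over a field L of characteristic zero, a monic polynomial h whose square has rational coefficients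
has rational coefficients itself. -/
theorem result (L : Type u) [Field L] [CharZero L]
    (h : Polynomial L) (hm : h.Monic) (f : Polynomial ℚ)
    (hf : h ^ 2 = Polynomial.map (algebraMap ℚ L) f) :
    ∃ g : Polynomial ℚ, Polynomial.map (algebraMap ℚ L) g = h := by
  have hdom : (h * h).reverse = h.reverse * h.reverse := Polynomial.reverse_mul_of_domain h h
  have hg0 : h.reverse.coeff 0 = 1 := by rw [Polynomial.coeff_zero_reverse]; exact hm
  have hsq : ∀ n, (h.reverse * h.reverse).coeff n ∈ (algebraMap ℚ L).range := by
    intro n
    rw [← hdom, Polynomial.coeff_reverse, ← pow_two, hf, Polynomial.coeff_map]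
    exact ⟨_, rfl⟩
  have hall := coeff_mem_of_sq h.reverse hg0 hsq
  have hlift : h ∈ Polynomial.lifts (algebraMap ℚ L) := by
    rw [Polynomial.lifts_iff_coeff_lifts]
    intro i
    by_cases hi : i ≤ h.natDegree
    · have := hall (Polynomial.revAt h.natDegree i)
      rw [Polynomial.coeff_reverse, Polynomial.revAt_invol] at this
      exact this
    · rw [Polynomial.coeff_eq_zero_of_natDegree_lt (by omega)]
      exact ⟨0, map_zero _⟩
  exact (Polynomial.mem_lifts h).mp hlift

end Groth.Agent.S16357
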