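import Groth.Statements.S16358
import Mathlib
-- import your own Groth.Agent.* helpers here

set_option autoImplicit false
universe u v w
open OrdAV

namespace Groth.Agent.S16358

open TensorProduct in
theorem lTensor_quot_injective_of_sat {R : Type*} [CommRing R] {M : Type*} [AddCommGroup M]
    [Module R M] (r : R) (N : Submodule R M) (hsat : ∀ m : M, r • m ∈ N → m ∈ N) :
    Function.Injective (LinearMap.lTensor (R ⧸ Ideal.span {r}) N.subtype) := by
  set I := Ideal.span {r} with hI
  have hle : I • (⊤ : Submodule R N) ≤ (I • (⊤ : Submodule R M)).comap N.subtype := by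
    rw [Submodule.smul_le]
    intro a ha n _
    simp only [Submodule.mem_comap, map_smul]
    exact Submodule.smul_mem_smul ha trivial
  have sq : (quotTensorEquivQuotSMul M I).toLinearMap ∘ₗ LinearMap.lTensor (R ⧸ I) N.subtype =
      (Submodule.mapQ _ _ N.subtype hle) ∘ₗ (quotTensorEquivQuotSMul N I).toLinearMap := by
    apply TensorProduct.ext'
    intro q n
    obtain ⟨a, rfl⟩ := Ideal.Quotient.mk_surjective q
    simp
  have hinj : Function.Injective (Submodule.mapQ _ _ N.subtype hle) := by
    rw [← LinearMap.ker_eq_bot, LinearMap.ker_eq_bot']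
    intro x hx
    obtain ⟨n, rfl⟩ := Submodule.Quotient.mk_surjective _ x
    rw [Submodule.mapQ_apply, Submodule.Quotient.mk_eq_zero] at hx
    rw [Submodule.Quotient.mk_eq_zero]
    rw [hI, Submodule.ideal_span_singleton_smul, Submodule.mem_smul_pointwise_iff_exists] at hx ⊢
    obtain ⟨m, -, hm⟩ := hx
    have hmN : m ∈ N := hsat m (by rw [hm]; exact n.2)
    exact ⟨⟨m, hmN⟩, trivial, Subtype.ext hm⟩
  intro x y hxy
  apply (quotTensorEquivQuotSMul N I).injective
  apply hinj
  have h1 := LinearMap.congr_fun sq x
  have h2 := LinearMap.congr_fun sq y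
  simp only [LinearMap.comp_apply, LinearEquiv.coe_coe] at h1 h2
  rw [← h1, ← h2, hxy]

/-- Let k be a perfect field of characteristic p > 0 and W = W(k); let M be a finitely generated free
W-module on which a finite group G acts W-linearly, with invariant submodule M^G. Then the map
(W/pW) ⊗ M^G → (W/pW) ⊗ M induced by the inclusion is injective. Since M^G is free, this implies
rank_W M^G ≤ dim_k (M/pM)^G; the published statement is that inequality, and this row states the
stronger injectivity. -/
theorem result (p : ℕ) [Fact p.Prime]
    (k : Type u) [Field k] [CharP k p] [PerfectRing k p]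
    (M : Type v) [AddCommGroup M] [Module (WittVector p k) M]
    [Module.Free (WittVector p k) M] [Module.Finite (WittVector p k) M]
    (G : Type w) [Group G] [Finite G] (ρ : Representation (WittVector p k) G M) :
    Function.Injective
      (LinearMap.lTensor (WittVector p k ⧸ Ideal.span {(p : WittVector p k)}) ρ.invariants.subtype) := by
  haveI : Nontrivial k := inferInstance
  apply lTensor_quot_injective_of_sat
  intro m hm
  rw [Representation.mem_invariants] at hm ⊢
  intro g
  have h := hm g
  rw [map_smul] at h
  have h0 : (p : WittVector p k) • (ρ g m - m) = 0 := by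
    rw [smul_sub, h, sub_self]
  have hp : (p : WittVector p k) ≠ 0 := WittVector.p_nonzero p k
  have := (smul_eq_zero.mp h0).resolve_left hp
  exact sub_eq_zero.mp this

end Groth.Agent.S16358
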