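import Groth.Statements.S16362
import Mathlib
-- import your own Groth.Agent.* helpers here

set_option autoImplicit false
universe u
open MovLem

namespace Groth.Agent.S16362

/-- Let A be a commutative ring, p a prime ideal of A, and ζ, u elements of A with u not in p. Then the
quotient of the classes of ζ and u in the fraction field of the domain A ⧸ p is integral over A ⧸ p
if and only if there exist a natural number N and elements a_1, …, a_N of A such that ζ^N + a_1
ζ^(N-1) u + ⋯ + a_N u^N lies in p; equivalently, some binary form of degree N with coefficients in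
A, monic in the first variable, evaluated at (ζ, u), lies in p. -/
theorem result
    {A : Type u} [CommRing A] (p : Ideal A) [p.IsPrime] (ζ u : A) (hu : u ∉ p) :
    IsIntegral (A ⧸ p)
        (algebraMap (A ⧸ p) (FractionRing (A ⧸ p)) (Ideal.Quotient.mk p ζ) /
          algebraMap (A ⧸ p) (FractionRing (A ⧸ p)) (Ideal.Quotient.mk p u)) ↔
      ∃ (N : ℕ) (a : ℕ → A),
        ζ ^ N + ∑ i ∈ Finset.Icc 1 N, a i * ζ ^ (N - i) * u ^ i ∈ p := by
  classical
  set D := A ⧸ p
  set L := FractionRing D
  set f : D →+* L := algebraMap D L with hf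
  have hfinj : Function.Injective f := IsFractionRing.injective D L
  set z : D := Ideal.Quotient.mk p ζ with hz
  set v : D := Ideal.Quotient.mk p u with hv
  have hv0 : v ≠ 0 := by
    intro h0; exact hu (Ideal.Quotient.eq_zero_iff_mem.mp h0)
  have hfv0 : f v ≠ 0 := fun h0 => hv0 (hfinj (by rw [h0, map_zero]))
  have reidx : ∀ (N : ℕ) (g : ℕ → D), ∑ j ∈ Finset.range N, g j = ∑ i ∈ Finset.Icc 1 N, g (N - i) := by
    intro N g
    refine Finset.sum_nbij' (fun j => N - j) (fun i => N - i) ?_ ?_ ?_ ?_ ?_
    · intro j hj; simp only [Finset.mem_range] at hj; simp only [Finset.mem_Icc]; omega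
    · intro i hi; simp only [Finset.mem_Icc] at hi; simp only [Finset.mem_range]; omega
    · intro j hj; simp only [Finset.mem_range] at hj; omega
    · intro i hi; simp only [Finset.mem_Icc] at hi; omega
    · intro j hj; simp only [Finset.mem_range] at hj
      congr 1; omega
  constructor
  · rintro ⟨P, hPm, hP⟩
    set N := P.natDegree with hN
    have h1 : Polynomial.eval₂ f (f v * (f z / f v)) (Polynomial.scaleRoots P v) = 0 := by
      rw [Polynomial.scaleRoots_eval₂_mul, hP, mul_zero]
    rw [mul_div_cancel₀ _ hfv0, Polynomial.eval₂_at_apply] at h1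
    have h2 : Polynomial.eval z (Polynomial.scaleRoots P v) = 0 := hfinj (by rw [h1, map_zero])
    rw [Polynomial.eval_eq_sum_range, Polynomial.natDegree_scaleRoots, Finset.sum_range_succ,
      Polynomial.coeff_scaleRoots_natDegree, hPm.leadingCoeff, one_mul] at h2
    simp only [Polynomial.coeff_scaleRoots] at h2
    rw [reidx] at h2
    refine ⟨N, fun i => Function.surjInv Ideal.Quotient.mk_surjective (P.coeff (N - i)), ?_⟩
    rw [← Ideal.Quotient.eq_zero_iff_mem, map_add, map_pow, map_sum, ← h2, add_comm]
    congr 1
    apply Finset.sum_congr rfl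
    intro i hi
    simp only [Finset.mem_Icc] at hi
    rw [map_mul, map_mul, map_pow, map_pow,
      Function.surjInv_eq (Ideal.Quotient.mk_surjective (I := p)) (P.coeff (N - i))]
    have : P.natDegree - (N - i) = i := by omega
    rw [this]
    ring
  · rintro ⟨N, a, ha⟩
    have ha' : z ^ N + ∑ i ∈ Finset.Icc 1 N, Ideal.Quotient.mk p (a i) * z ^ (N - i) * v ^ i = 0 := by
      have := Ideal.Quotient.eq_zero_iff_mem.mpr ha
      simpa [map_add, map_sum, map_mul, map_pow] using this
    set Q : Polynomial D := ∑ i ∈ Finset.Icc 1 N,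
      Polynomial.C (Ideal.Quotient.mk p (a i)) * Polynomial.X ^ (N - i) with hQ
    have hQdeg : Q.degree < N := by
      refine lt_of_le_of_lt (Polynomial.degree_sum_le _ _) ?_
      refine (Finset.sup_lt_iff (WithBot.bot_lt_coe N)).mpr ?_
      intro i hi
      simp only [Finset.mem_Icc] at hi
      refine lt_of_le_of_lt (Polynomial.degree_C_mul_X_pow_le _ _) ?_
      exact WithBot.coe_lt_coe.mpr (by omega : N - i < N)
    refine ⟨Polynomial.X ^ N + Q, Polynomial.monic_X_pow_add hQdeg, ?_⟩
    have hxk : ∀ k, k ≤ N → (f z / f v) ^ k * f v ^ N = f z ^ k * f v ^ (N - k) := by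
      intro k hk
      rw [div_pow, div_mul_eq_mul_div, div_eq_iff (pow_ne_zero _ hfv0), mul_assoc, ← pow_add]
      congr 2; omega
    have key : (Polynomial.eval₂ f (f z / f v) (Polynomial.X ^ N + Q)) * f v ^ N = 0 := by
      rw [Polynomial.eval₂_add, Polynomial.eval₂_X_pow, hQ, Polynomial.eval₂_finset_sum, add_mul,
        Finset.sum_mul, hxk N le_rfl, Nat.sub_self, pow_zero, mul_one]
      have := congrArg f ha'
      rw [map_add, map_sum, map_pow, map_zero] at this
      rw [← this]
      congr 1
      apply Finset.sum_congr rfl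
      intro i hi
      simp only [Finset.mem_Icc] at hi
      rw [Polynomial.eval₂_mul, Polynomial.eval₂_C, Polynomial.eval₂_X_pow, mul_assoc,
        hxk (N - i) (Nat.sub_le _ _), map_mul, map_mul, map_pow, map_pow]
      have : N - (N - i) = i := by omega
      rw [this]; ring
    exact (mul_eq_zero.mp key).resolve_right (pow_ne_zero _ hfv0)

end Groth.Agent.S16362
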