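import Groth.Statements.S16373
import Mathlib
-- import your own Groth.Agent.* helpers here

set_option autoImplicit false
set_option linter.unusedSectionVars false
set_option linter.style.haveILetI false
universe u
open FrobAlg

namespace Groth.Agent.S16373

section VF

variable (p : ℕ) [hp' : Fact p.Prime] (m : ℕ) (R : Type u) [CommRing R] [CharP R p]

local notation "Wm" => TruncatedWittVector p m R
local notation "Wm1" => TruncatedWittVector p (m + 1) R
local notation "VV" => WittGrp.shift (R := R) p (Nat.le_succ m)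
local notation "tt" => (TruncatedWittVector.truncate (p := p) (R := R) (Nat.le_succ m))

lemma V_truncate (X : WittVector p R) :
    VV (WittVector.truncate m X) = WittVector.truncate (m + 1) (WittVector.verschiebung X) := by
  rw [WittGrp.shift_truncate]
  have : Nat.succ m - m = 1 := by omega
  rw [this]
  rfl

lemma V_coeff_zero (x : Wm) : (VV x).coeff 0 = 0 := by
  rw [WittGrp.coeff_shift, dif_neg]
  simp

lemma V_coeff_succ (x : Wm) (i : Fin m) : (VV x).coeff i.succ = x.coeff i := by
  rw [WittGrp.coeff_shift, dif_pos]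
  · congr 1
    ext
    simp
  · simp

lemma V_injective : Function.Injective (VV : Wm → Wm1) := by
  intro x y hxy
  ext i
  rw [← V_coeff_succ p m R x i, ← V_coeff_succ p m R y i, hxy]

lemma exists_V_eq (w : Wm1) (h : w.coeff 0 = 0) : ∃ x : Wm, VV x = w := by
  refine ⟨TruncatedWittVector.mk p fun i => w.coeff i.succ, ?_⟩
  ext i
  refine Fin.cases ?_ (fun j => ?_) i
  · rw [V_coeff_zero, h]
  · rw [V_coeff_succ, TruncatedWittVector.coeff_mk]

lemma p_mul_eq (hp : (p : R) = 0) (w : Wm1) :
    (p : Wm1) * w = VV (WittGrp.frob p m hp (tt w)) := by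
  obtain ⟨X, rfl⟩ := WittVector.truncate_surjective p (m + 1) R w
  rw [TruncatedWittVector.truncate_wittVector_truncate, WittGrp.frob_truncate, V_truncate,
    WittVector.verschiebung_frobenius, map_mul, map_natCast, mul_comm]

lemma V_mul (hp : (p : R) = 0) (x : Wm) (w : Wm1) :
    VV x * w = VV (x * WittGrp.frob p m hp (tt w)) := by
  obtain ⟨X, rfl⟩ := WittVector.truncate_surjective p (m + 1) R w
  obtain ⟨Y, rfl⟩ := WittVector.truncate_surjective p m R x
  rw [TruncatedWittVector.truncate_wittVector_truncate, WittGrp.frob_truncate, V_truncate,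
    ← map_mul, ← map_mul, V_truncate, WittVector.verschiebung_mul_frobenius]

lemma coeff_zero_add (w w' : Wm1) : (w + w').coeff 0 = w.coeff 0 + w'.coeff 0 := by
  obtain ⟨X, rfl⟩ := WittVector.truncate_surjective p (m + 1) R w
  obtain ⟨Y, rfl⟩ := WittVector.truncate_surjective p (m + 1) R w'
  rw [← map_add, WittVector.coeff_truncate, WittVector.coeff_truncate, WittVector.coeff_truncate]
  exact WittVector.add_coeff_zero X Y

end VF

theorem aux
    (p : ℕ) [Fact p.Prime] (m : ℕ) (hm : 0 < m) (R : Type u) [CommRing R] [CharP R p]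
    (hp : (p : R) = 0)
    (σ : TruncatedWittVector p m R →+ R) (h1 : σ 1 = 1)
    (hF : ∀ x y : TruncatedWittVector p m R, σ (WittGrp.frob p m hp x * y) = x.coeff ⟨0, hm⟩ * σ y)
    (I : Ideal (TruncatedWittVector p (m + 1) R))
    (hI : I = Ideal.span (WittGrp.shift p (Nat.le_succ m) '' {x : TruncatedWittVector p m R | σ x = 0})) :
    (∀ w : TruncatedWittVector p (m + 1) R,
        Ideal.Quotient.mk I w ∈ Ideal.span ({(p : TruncatedWittVector p (m + 1) R ⧸ I)} : Set _) ↔
          w.coeff 0 = 0) ∧
    (∀ q : TruncatedWittVector p (m + 1) R ⧸ I,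
        (p : TruncatedWittVector p (m + 1) R ⧸ I) * q = 0 ↔
          q ∈ Ideal.span ({(p : TruncatedWittVector p (m + 1) R ⧸ I)} : Set _)) := by
  have hp0 : p ≠ 0 := (Fact.out : p.Prime).ne_zero
  -- `σ (F y) = y₀`
  have hσF : ∀ y : TruncatedWittVector p m R, σ (WittGrp.frob p m hp y) = y.coeff ⟨0, hm⟩ := by
    intro y
    have := hF y 1
    rwa [mul_one, h1, mul_one] at this
  have ht0 : ∀ w : TruncatedWittVector p (m + 1) R,
      (TruncatedWittVector.truncate (Nat.le_succ m) w).coeff ⟨0, hm⟩ = w.coeff 0 := by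
    intro w
    rw [TruncatedWittVector.coeff_truncate]
    rfl
  -- description of `I`
  have hmemI : ∀ w : TruncatedWittVector p (m + 1) R,
      w ∈ I ↔ ∃ x : TruncatedWittVector p m R, σ x = 0 ∧ WittGrp.shift p (Nat.le_succ m) x = w := by
    intro w
    constructor
    · intro hw
      rw [hI] at hw
      induction hw using Submodule.span_induction with
      | mem y hy =>
        obtain ⟨x, hx, rfl⟩ := hy
        exact ⟨x, hx, rfl⟩
      | zero => exact ⟨0, map_zero _, map_zero _⟩
      | add y z _ _ hy hz =>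
        obtain ⟨x, hx, rfl⟩ := hy
        obtain ⟨x', hx', rfl⟩ := hz
        exact ⟨x + x', by rw [map_add, hx, hx', add_zero], map_add _ _ _⟩
      | smul a y _ hy =>
        obtain ⟨x, hx, rfl⟩ := hy
        refine ⟨x * WittGrp.frob p m hp (TruncatedWittVector.truncate (Nat.le_succ m) a), ?_, ?_⟩
        · rw [mul_comm, hF, hx, mul_zero]
        · rw [smul_eq_mul, mul_comm a, V_mul p m R hp]
    · rintro ⟨x, hx, rfl⟩
      rw [hI]
      exact Ideal.subset_span ⟨x, hx, rfl⟩
  have hpq : ∀ w : TruncatedWittVector p (m + 1) R,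
      (p : TruncatedWittVector p (m + 1) R ⧸ I) * Ideal.Quotient.mk I w =
        Ideal.Quotient.mk I ((p : TruncatedWittVector p (m + 1) R) * w) := by
    intro w
    rw [map_mul, map_natCast]
  have part1 : ∀ w : TruncatedWittVector p (m + 1) R,
      Ideal.Quotient.mk I w ∈ Ideal.span ({(p : TruncatedWittVector p (m + 1) R ⧸ I)} : Set _) ↔
        w.coeff 0 = 0 := by
    intro w
    constructor
    · intro hw
      obtain ⟨q, hq⟩ := Ideal.mem_span_singleton.1 hw
      obtain ⟨w', rfl⟩ := Ideal.Quotient.mk_surjective q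
      rw [hpq, Ideal.Quotient.eq, hmemI] at hq
      obtain ⟨x, _, hx⟩ := hq
      have : w = (p : TruncatedWittVector p (m + 1) R) * w' +
          WittGrp.shift p (Nat.le_succ m) x := by rw [hx]; ring
      rw [this, coeff_zero_add p m R, p_mul_eq p m R hp, V_coeff_zero, V_coeff_zero, add_zero]
    · intro hw
      obtain ⟨x, rfl⟩ := exists_V_eq p m R w hw
      obtain ⟨y, hy⟩ : ∃ y : TruncatedWittVector p m R, y.coeff ⟨0, hm⟩ = σ x :=
        ⟨WittVector.truncate m (WittVector.teichmuller p (σ x)), by
          rw [WittVector.coeff_truncate]; exact WittVector.teichmuller_coeff_zero p _⟩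
      obtain ⟨w', rfl⟩ := TruncatedWittVector.truncate_surjective (p := p) (R := R)
        (Nat.le_succ m) y
      rw [Ideal.mem_span_singleton]
      refine ⟨Ideal.Quotient.mk I w', ?_⟩
      rw [hpq, Ideal.Quotient.eq, hmemI, p_mul_eq p m R hp]
      refine ⟨x - WittGrp.frob p m hp (TruncatedWittVector.truncate (Nat.le_succ m) w'), ?_, ?_⟩
      · rw [map_sub, hσF, hy, sub_self]
      · rw [map_sub]
  refine ⟨part1, ?_⟩
  intro q
  obtain ⟨w, rfl⟩ := Ideal.Quotient.mk_surjective q
  constructor
  · intro hq
    rw [hpq, Ideal.Quotient.eq_zero_iff_mem, hmemI, p_mul_eq p m R hp] at hq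
    obtain ⟨x, hx, hxe⟩ := hq
    have := V_injective p m R hxe
    rw [this, hσF, ht0] at hx
    exact (part1 w).2 hx
  · intro hq
    obtain ⟨q', hq'⟩ := Ideal.mem_span_singleton.1 hq
    obtain ⟨w', rfl⟩ := Ideal.Quotient.mk_surjective q'
    rw [hq', hpq, hpq, Ideal.Quotient.eq_zero_iff_mem, hmemI, p_mul_eq p m R hp]
    refine ⟨_, ?_, rfl⟩
    rw [hσF, ht0, p_mul_eq p m R hp, V_coeff_zero]

/-- Let p be a prime, m ≥ 1, R a commutative ring with p = 0 in R and σ : W_m(R) → R a quasi-F-splitting
of level m (additive, σ(1) = 1, σ(F(x)·y) = x₀·σ(y) with F the componentwise p-th power). Let I ⊆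
W_{m+1}(R) be the ideal generated by the shifts V(x) of the x with σ(x) = 0, and Q = W_{m+1}(R)/I.
Then Q is a flat lifting of R modulo p²: an element of Q lies in pQ exactly when the first Witt
component of a representative vanishes (so Q/pQ is R through the first component), and an element of
Q is killed by p exactly when it lies in pQ. (Stated for a ring; the source has a scheme over the
prime field. For m = 1 this is the lifting attached to a Frobenius splitting.) -/
theorem result
    (p : ℕ) [Fact p.Prime] (m : ℕ) (hm : 0 < m) (R : Type u) [CommRing R] (hp : (p : R) = 0)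
    (σ : TruncatedWittVector p m R →+ R) (h1 : σ 1 = 1)
    (hF : ∀ x y : TruncatedWittVector p m R, σ (WittGrp.frob p m hp x * y) = x.coeff ⟨0, hm⟩ * σ y)
    (I : Ideal (TruncatedWittVector p (m + 1) R))
    (hI : I = Ideal.span (WittGrp.shift p (Nat.le_succ m) '' {x : TruncatedWittVector p m R | σ x = 0})) :
    (∀ w : TruncatedWittVector p (m + 1) R,
        Ideal.Quotient.mk I w ∈ Ideal.span ({(p : TruncatedWittVector p (m + 1) R ⧸ I)} : Set _) ↔
          w.coeff 0 = 0) ∧
    (∀ q : TruncatedWittVector p (m + 1) R ⧸ I,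
        (p : TruncatedWittVector p (m + 1) R ⧸ I) * q = 0 ↔
          q ∈ Ideal.span ({(p : TruncatedWittVector p (m + 1) R ⧸ I)} : Set _)) := by
  rcases subsingleton_or_nontrivial R with hR | hR
  · haveI : Subsingleton (TruncatedWittVector p (m + 1) R) := by
      refine ⟨fun x y => ?_⟩
      ext i
      exact Subsingleton.elim _ _
    haveI : Subsingleton (TruncatedWittVector p (m + 1) R ⧸ I) :=
      (Ideal.Quotient.mk_surjective).subsingleton
    refine ⟨fun w => ⟨fun _ => Subsingleton.elim _ _, fun _ => ?_⟩,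
      fun q => ⟨fun _ => ?_, fun _ => Subsingleton.elim _ _⟩⟩
    · rw [Subsingleton.elim (Ideal.Quotient.mk I w) 0]
      exact Ideal.zero_mem _
    · rw [Subsingleton.elim q 0]
      exact Ideal.zero_mem _
  · haveI : CharP R p := by
      obtain ⟨c, hc⟩ := CharP.exists R
      have hdvd : c ∣ p := (CharP.cast_eq_zero_iff R c p).1 hp
      rcases (Nat.dvd_prime (Fact.out : p.Prime)).1 hdvd with h | h
      · subst h
        exact False.elim (CharP.char_ne_one R 1 rfl)
      · subst h
        exact hc
    exact aux p m hm R hp σ h1 hF I hI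

end Groth.Agent.S16373
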