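import Groth.Statements.S16374
-- import your own Groth.Agent.* helpers here

set_option autoImplicit false
universe u v w
open FrobAlg

namespace Groth.Agent.S16374

/-- Let p be a prime, A a commutative ring, B and C commutative A-algebras with p² = 0 in B, and g : C →
B an A-algebra map such that every g(c) is congruent modulo p to an element of the A-subalgebra of B
generated by the p-th powers (g lifts a relative Frobenius). Then d(g(x)) = 0 in the module of
Kähler differentials of B over A for every x ∈ C that is congruent modulo p to an element of the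
A-subalgebra of C generated by the p-th powers. (The source works with a lifting of the relative
Frobenius of a smooth scheme over a ℤ/p²-thickening and the subsheaf of functions whose reduction
comes from the Frobenius twist; smoothness is not needed for this vanishing.) -/
theorem result
    (p : ℕ) [Fact p.Prime] (A : Type u) [CommRing A] (B : Type v) [CommRing B] [Algebra A B]
    (C : Type w) [CommRing C] [Algebra A C] (hp : (p : B) ^ 2 = 0)
    (g : C →ₐ[A] B)
    (hg : ∀ c : C, ∃ u ∈ Algebra.adjoin A (Set.range fun b : B => b ^ p),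
      g c - u ∈ Ideal.span ({(p : B)} : Set B))
    (x y : C) (hy : y ∈ Algebra.adjoin A (Set.range fun c : C => c ^ p))
    (hxy : x - y ∈ Ideal.span ({(p : C)} : Set C)) :
    KaehlerDifferential.D A B (g x) = 0 := by
  have hpp : ∀ ω : KaehlerDifferential A B, (p : B) • ((p : B) • ω) = 0 := by
    intro ω
    rw [smul_smul, ← pow_two, hp, zero_smul]
  have hDp : KaehlerDifferential.D A B (p : B) = 0 := Derivation.map_natCast _ p
  -- Step 1: differentials of the subalgebra of p-th powers are divisible by p
  have h1 : ∀ u ∈ Algebra.adjoin A (Set.range fun b : B => b ^ p),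
      ∃ ω, KaehlerDifferential.D A B u = (p : B) • ω := by
    intro u hu
    induction hu using Algebra.adjoin_induction with
    | mem u hu =>
      obtain ⟨b, rfl⟩ := hu
      refine ⟨b ^ (p - 1) • KaehlerDifferential.D A B b, ?_⟩
      rw [Derivation.leibniz_pow, Nat.cast_smul_eq_nsmul]
    | algebraMap r => exact ⟨0, by simp⟩
    | add a b _ _ ha hb =>
      obtain ⟨ω₁, h₁⟩ := ha
      obtain ⟨ω₂, h₂⟩ := hb
      exact ⟨ω₁ + ω₂, by rw [map_add, h₁, h₂, smul_add]⟩
    | mul a b _ _ ha hb =>
      obtain ⟨ω₁, h₁⟩ := ha
      obtain ⟨ω₂, h₂⟩ := hb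
      refine ⟨a • ω₂ + b • ω₁, ?_⟩
      rw [Derivation.leibniz, h₁, h₂, smul_add, smul_comm a, smul_comm b]
  have h1' : ∀ c : C, ∃ ω, KaehlerDifferential.D A B (g c) = (p : B) • ω := by
    intro c
    obtain ⟨u, hu, hcu⟩ := hg c
    obtain ⟨ω, hω⟩ := h1 u hu
    obtain ⟨b', hb'⟩ := Ideal.mem_span_singleton.mp hcu
    have : g c = u + (p : B) * b' := by rw [← hb']; ring
    refine ⟨ω + KaehlerDifferential.D A B b', ?_⟩
    rw [this, map_add, Derivation.leibniz, hω, hDp, smul_zero, add_zero, smul_add]
  -- Step 2: D ∘ g vanishes on the subalgebra of p-th powers of C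
  have h2 : ∀ z ∈ Algebra.adjoin A (Set.range fun c : C => c ^ p),
      KaehlerDifferential.D A B (g z) = 0 := by
    intro z hz
    induction hz using Algebra.adjoin_induction with
    | mem z hz =>
      obtain ⟨c, rfl⟩ := hz
      obtain ⟨ω, hω⟩ := h1' c
      rw [map_pow, Derivation.leibniz_pow, hω, ← Nat.cast_smul_eq_nsmul B, smul_comm (g c ^ (p - 1)),
        hpp]
    | algebraMap r => rw [AlgHom.commutes]; simp
    | add a b _ _ ha hb => rw [map_add, map_add, ha, hb, add_zero]
    | mul a b _ _ ha hb => rw [map_mul, Derivation.leibniz, ha, hb, smul_zero, smul_zero, add_zero]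
  obtain ⟨c', hc'⟩ := Ideal.mem_span_singleton.mp hxy
  have hx : x = y + (p : C) * c' := by rw [← hc']; ring
  obtain ⟨ω, hω⟩ := h1' c'
  rw [hx, map_add, map_mul, map_natCast, map_add, h2 y hy, zero_add, Derivation.leibniz, hDp,
    smul_zero, add_zero, hω, hpp]

end Groth.Agent.S16374
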