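import Groth.Statements.S1638
import Mathlib.LinearAlgebra.Basis.VectorSpace
import Mathlib.RingTheory.Flat.Basic

set_option autoImplicit false
universe u
open Brauer

namespace Groth.Agent.S1638

/-- Let A and A' be algebras over a field k with subalgebras B ⊆ A and B' ⊆ A' having centralizers C and
C'. Then the centralizer of the image of B ⊗ B' in A ⊗_k A' is the image of C ⊗_k C'. -/
theorem result (k : Type u) [Field k] (A A' : Type u) [Ring A] [Ring A'] [Algebra k A] [Algebra k A']
    (B : Subalgebra k A) (B' : Subalgebra k A') :
    Subalgebra.centralizer k ((Algebra.TensorProduct.map B.val B'.val).range : Set (TensorProduct k A A')) =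
      (Algebra.TensorProduct.map (Subalgebra.centralizer k (B : Set A)).val (Subalgebra.centralizer k (B' : Set A')).val).range := by
  classical
  apply le_antisymm
  · intro w hw
    rw [Subalgebra.mem_centralizer_iff] at hw
    have h1 : w ∈ Subalgebra.centralizer k
        (Algebra.TensorProduct.includeLeft (S := k) (R := k) (A := A) (B := A') '' (B : Set A)) := by
      rw [Subalgebra.mem_centralizer_iff]
      rintro _ ⟨b, hb, rfl⟩
      apply hw
      exact ⟨(⟨b, hb⟩ : B) ⊗ₜ 1, by simp⟩
    rw [Subalgebra.centralizer_coe_image_includeLeft_eq_center_tensorProduct] at h1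
    obtain ⟨w', rfl⟩ := h1
    have hinj : Function.Injective (Algebra.TensorProduct.map
        (Subalgebra.centralizer k (B : Set A)).val (AlgHom.id k A')) := by
      have : ⇑(Algebra.TensorProduct.map (Subalgebra.centralizer k (B : Set A)).val (AlgHom.id k A')) =
          ⇑(LinearMap.rTensor A' (Subalgebra.centralizer k (B : Set A)).val.toLinearMap) := by
        ext x
        induction x using TensorProduct.induction_on with
        | zero => simp
        | tmul a b => simp
        | add x y hx hy => simp only [map_add, hx, hy]
      rw [this]
      exact Module.Flat.rTensor_preserves_injective_linearMap _ Subtype.val_injective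
    have h2 : w' ∈ Subalgebra.centralizer k
        (Algebra.TensorProduct.includeRight (R := k) (A := Subalgebra.centralizer k (B : Set A))
          (B := A') '' (B' : Set A')) := by
      rw [Subalgebra.mem_centralizer_iff]
      rintro _ ⟨b', hb', rfl⟩
      apply hinj
      rw [map_mul, map_mul]
      have := hw ((1 : A) ⊗ₜ b') ⟨1 ⊗ₜ ⟨b', hb'⟩, by simp⟩
      simpa using this
    rw [Subalgebra.centralizer_coe_image_includeRight_eq_center_tensorProduct] at h2
    obtain ⟨w'', rfl⟩ := h2
    refine ⟨w'', ?_⟩
    have key : ∀ z, (Algebra.TensorProduct.map (Subalgebra.centralizer k (B : Set A)).val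
        (Subalgebra.centralizer k (B' : Set A')).val) z =
        (Algebra.TensorProduct.map (Subalgebra.centralizer k (B : Set A)).val (AlgHom.id k A'))
        ((Algebra.TensorProduct.map (AlgHom.id k (Subalgebra.centralizer k (B : Set A)))
          (Subalgebra.centralizer k (B' : Set A')).val) z) := by
      intro z
      induction z using TensorProduct.induction_on with
      | zero => simp
      | tmul a b => simp
      | add x y hx hy => simp only [map_add, hx, hy]
    exact key w''
  · rintro _ ⟨w, rfl⟩
    rw [Subalgebra.mem_centralizer_iff]
    rintro _ ⟨v, rfl⟩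
    induction w using TensorProduct.induction_on with
    | zero => simp
    | add x y hx hy => simp only [map_add, mul_add, add_mul, hx, hy]
    | tmul c c' =>
      induction v using TensorProduct.induction_on with
      | zero => simp
      | add x y hx hy => simp only [map_add, mul_add, add_mul, hx, hy]
      | tmul b b' =>
        change (Algebra.TensorProduct.map B.val B'.val) (b ⊗ₜ[k] b') *
          (Algebra.TensorProduct.map (Subalgebra.centralizer k (B : Set A)).val
            (Subalgebra.centralizer k (B' : Set A')).val) (c ⊗ₜ[k] c') =
          (Algebra.TensorProduct.map (Subalgebra.centralizer k (B : Set A)).val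
            (Subalgebra.centralizer k (B' : Set A')).val) (c ⊗ₜ[k] c') *
          (Algebra.TensorProduct.map B.val B'.val) (b ⊗ₜ[k] b')
        simp only [Algebra.TensorProduct.map_tmul, Subalgebra.coe_val,
          Algebra.TensorProduct.tmul_mul_tmul]
        rw [c.2 b b.2, c'.2 b' b'.2]

end Groth.Agent.S1638
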