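import Groth.Statements.S8879
import Groth.Agent.Lib.Helper17.NormMod
import Groth.Agent.Lib.Helper28.AmpleFinite
import Groth.Agent.Lib.Helper28.AmpleFamily
import Groth.Agent.S8880
import Mathlib
set_option backward.isDefEq.respectTransparency.types false

set_option autoImplicit false
universe u
open CategoryTheory CategoryTheory.Limits AlgebraicGeometry TopologicalSpace
open SDiv

namespace Groth.Agent.S8879
open Groth.Agent.Lib.Helper28 Groth.Agent.Lib.Helper28.QCohLoc Groth.Agent.Lib.Helper28.GenLocus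
open Groth.Agent.Lib.Helper17


/-- Let π : X ⟶ Y be a finite morphism of schemes such that a norm of degree d exists for π, and assume
X has an ample invertible O_X-module. Then Y has an ample invertible O_Y-module. -/
theorem result {X Y : Scheme.{u}} (π : X ⟶ Y) [IsFinite π] (d : ℕ) (hN : Nrm.HasNorm π d)
    (L : X.Modules) (hL : CohB1.IsAmple L) : ∃ N : Y.Modules, CohB1.IsAmple N := by
  classical
  obtain ⟨Nm⟩ := hN
  have hsurj : Function.Surjective π := Groth.Agent.S8880.surjective_of_norm Nm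
  have hLinv := hL.1
  haveI : CompactSpace X := hL.2.1
  haveI : CompactSpace Y := by
    constructor
    have h := (isCompact_univ (X := X)).image π.continuous
    rwa [Set.image_univ, hsurj.range_eq] at h
  -- step 1
  have h1 : ∀ y : Y, ∃ (Vy : Y.Opens) (n : ℕ) (s : Coh.structureModule X ⟶ CohB1.tensorPow L (n + 1)),
      IsAffineOpen Vy ∧ π ⁻¹' {y} ⊆ CohB1.genLocus _ s ∧ (CohB1.genLocus _ s : Set X) ⊆ π ⁻¹ᵁ Vy := by
    intro y
    obtain ⟨_, ⟨Vy, hVy, rfl⟩, hyVy, -⟩ :=
      Y.isBasis_affineOpens.exists_subset_of_mem_open (Set.mem_univ y) isOpen_univ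
    obtain ⟨n, s, hs1, hs2, -⟩ := exists_affine_genLocus_of_finite hL (π ⁻¹' {y})
      (π.finite_preimage_singleton y) (π ⁻¹ᵁ Vy) (by
        intro x hx
        change π.base x ∈ Vy
        rw [show π.base x = y from hx]
        exact hyVy)
    exact ⟨Vy, n, s, hVy, hs1, hs2⟩
  choose Vy n s hVy hs1 hs2 using h1
  -- the opens O_y
  have hcl : ∀ y : Y, IsClosed (π '' ((CohB1.genLocus _ (s y) : Set X)ᶜ)) :=
    fun y => π.isClosedMap _ (CohB1.genLocus _ (s y)).isOpen.isClosed_compl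
  let O : Y → Set Y := fun y => (π '' ((CohB1.genLocus _ (s y) : Set X)ᶜ))ᶜ
  have hO : ∀ y, IsOpen (O y) := fun y => (hcl y).isOpen_compl
  have hyO : ∀ y, y ∈ O y := by
    rintro y ⟨x, hx, hxy⟩
    exact hx (hs1 y hxy)
  have hOfib : ∀ y y', y' ∈ O y → π ⁻¹' {y'} ⊆ CohB1.genLocus _ (s y) := by
    intro y y' hy' x hx
    by_contra hnot
    exact hy' ⟨x, hnot, hx⟩
  obtain ⟨T, -, hT⟩ := isCompact_univ.elim_nhds_subcover O (fun y _ => (hO y).mem_nhds (hyO y))
  -- the common degree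
  let k : ℕ := ∏ y ∈ T, (n y + 1)
  have hk : ∀ y ∈ T, (n y + 1) ∣ k := fun y hy => Finset.dvd_prod_of_mem _ hy
  have hkpos : 0 < k := Finset.prod_pos (fun y _ => Nat.succ_pos _)
  have h2 : ∀ y ∈ T, ∃ s' : Coh.structureModule X ⟶ CohB1.tensorPow L k,
      CohB1.genLocus _ s' = CohB1.genLocus _ (s y) := by
    intro y hy
    have hm : k = (n y + 1) * (k / (n y + 1)) := (Nat.mul_div_cancel' (hk y hy)).symm
    have hmpos : 0 < k / (n y + 1) := Nat.div_pos (Nat.le_of_dvd hkpos (hk y hy)) (Nat.succ_pos _)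
    obtain ⟨ψ, -⟩ := exists_tensorPow_tensorPow_iso hLinv (n y + 1) (k / (n y + 1)) k hm
    refine ⟨spow (s y) (k / (n y + 1)) ≫ ψ.hom, ?_⟩
    rw [AmpleUnit.genLocus_comp_iso _ ψ, genLocus_spow (isInvertible_tensorPow hLinv _) (s y) _ hmpos]
  obtain ⟨N, hNinv, hNsec⟩ := NormMod.exists_normModule Nm (CohB1.tensorPow L k)
    (isInvertible_tensorPow hLinv k)
  refine ⟨N, hNinv, inferInstance, fun y' => ?_⟩
  obtain ⟨y, hyT, hy'⟩ : ∃ y ∈ T, y' ∈ O y := by
    have := hT (Set.mem_univ y')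
    simpa using this
  obtain ⟨s', hs'⟩ := h2 y hyT
  obtain ⟨t, ht1, ht2⟩ := hNsec s'
  have hy't : y' ∈ CohB1.genLocus N t := ht1 y' (by rw [hs']; exact hOfib y y' hy')
  have hle : CohB1.genLocus N t ≤ Vy y := by
    intro z hz
    obtain ⟨x, rfl⟩ := hsurj z
    have hx : x ∈ CohB1.genLocus _ s' := ht2 x hz
    rw [hs'] at hx
    exact hs2 y hx
  have haff : IsAffineOpen (CohB1.genLocus N t) := by
    have := isAffineOpen_genLocus_inf hNinv t (hVy y)
    rwa [inf_eq_left.2 hle] at this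
  obtain ⟨τ, hτ⟩ := AmpleFamily.exists_tensorPow_one_section t
  exact ⟨0, τ, by rw [hτ]; exact hy't, by rw [hτ]; exact haff⟩

end Groth.Agent.S8879
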