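import Groth.Statements.S9815
import Groth.Agent.Lib.Helper28.PullbackInv2
import Groth.Agent.Lib.Helper28.AmpleBasis

set_option autoImplicit false
universe u
open CategoryTheory CategoryTheory.Limits AlgebraicGeometry TopologicalSpace
open Props

open Groth.Agent.Lib.Helper28 Groth.Agent.Lib.Helper28.GenLocus Groth.Agent.Lib.Helper28.PullbackInv TopologicalSpace

namespace Groth.Agent.S9815

/-- Case (4) (which implies the other cases): let L be an ample invertible module on a scheme X and let
i : X' → X be a morphism from a quasi-compact scheme which is a homeomorphism onto its image. Then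
i^*L is ample. -/
theorem result {X X' : Scheme.{u}} (i : X' ⟶ X) [CompactSpace X']
    (hi : Topology.IsEmbedding i) (L : X.Modules) (hL : CohB1.IsAmple L) :
    CohB1.IsAmple ((Scheme.Modules.pullback i).obj L) := by
  have hinv := isInvertible_pullback i hL.1
  rw [isAmple_iff_isBasis _ hinv, Opens.isBasis_iff_nbhd]
  intro W x' hx'
  obtain ⟨V, hV, hVW⟩ := hi.isOpen_iff.mp W.isOpen
  have hxV : i.base x' ∈ (⟨V, hV⟩ : X.Opens) := by
    show x' ∈ i.base ⁻¹' V
    rw [hVW]; exact hx'
  obtain ⟨n, t, hxt, htV, -⟩ := exists_genLocus_le_of_isAmple hL ⟨V, hV⟩ (i.base x') hxV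
  obtain ⟨t', ht'⟩ := exists_section_pullback_tensorPow i hL.1 (n + 1) t
  refine ⟨CohB1.genLocus _ t', ⟨n, t', rfl⟩, ?_, ?_⟩
  · rw [ht']; exact hxt
  · rw [ht']
    intro y hy
    have h1 : i.base y ∈ V := htV hy
    have h2 : y ∈ i.base ⁻¹' V := h1
    rw [hVW] at h2
    exact h2

end Groth.Agent.S9815
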