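import Groth.Statements.S1639
import Groth.Agent.S8879
import Groth.Agent.S8881
import Groth.Agent.S9815
import Groth.Agent.Lib.Helper18.Cyc.ClSub
import Mathlib
set_option backward.isDefEq.respectTransparency.types false

set_option autoImplicit false
universe u
open CategoryTheory CategoryTheory.Limits AlgebraicGeometry
open Divisors

namespace Groth.Agent.S1639

open Groth.Agent.Lib.Helper18.ClSub


/-- Let π : X → Y be finite and surjective, with Y integral and normal. If X has an ample invertible
module then so does Y. -/
theorem result {X Y : Scheme.{u}} (π : X ⟶ Y) [IsFinite π] [Surjective π]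
    [IsIntegral Y] (hY : Pi1.IsNormalScheme Y) (L : X.Modules) (hL : CohB1.IsAmple L) :
    ∃ M : Y.Modules, CohB1.IsAmple M := by
  obtain ⟨x, hx⟩ := π.surjective (genericPoint Y)
  haveI : CompactSpace X := hL.2.1
  haveI : CompactSpace (cl x) := (clι x).isClosedEmbedding.compactSpace
  haveI : Surjective (clι x ≫ π) := by
    refine ⟨fun y => ?_⟩
    have hcl : IsClosed (π '' closure ({x} : Set X)) := π.isClosedMap _ isClosed_closure
    have hgen : genericPoint Y ∈ π '' closure ({x} : Set X) := ⟨x, subset_closure rfl, hx⟩
    have huniv : π '' closure ({x} : Set X) = Set.univ := by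
      rw [← Set.univ_subset_iff, ← (genericPoint_spec Y).def]
      exact hcl.closure_subset_iff.2 (Set.singleton_subset_iff.2 hgen)
    have hy : y ∈ π '' closure ({x} : Set X) := huniv ▸ Set.mem_univ y
    obtain ⟨z, hz, rfl⟩ := hy
    rw [← range_clι x] at hz
    obtain ⟨w, rfl⟩ := hz
    exact ⟨w, rfl⟩
  obtain ⟨d, hd⟩ := Groth.Agent.S8881.result (clι x ≫ π) hY
  exact Groth.Agent.S8879.result (clι x ≫ π) d hd _
    (Groth.Agent.S9815.result (clι x) (clι x).isEmbedding L hL)

end Groth.Agent.S1639
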