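import Groth.Statements.S16396
import Mathlib
-- import your own Groth.Agent.* helpers here

set_option autoImplicit false
universe u
open CAlg

namespace Groth.Agent.S16396


open Polynomial in
theorem coeff_mem (A : Type u) [CommRing A] [Algebra ℚ A] (B : Subalgebra ℚ A[X])
    (hX : (X : A[X]) ∈ B) (hD : ∀ P ∈ B, Polynomial.derivative P ∈ B) :
    ∀ n : ℕ, ∀ Q ∈ B, Q.natDegree ≤ n → ∀ i, C (Q.coeff i) ∈ B := by
  intro n
  induction n with
  | zero =>
    intro Q hQ hdeg i
    have hQC : Q = C (Q.coeff 0) := eq_C_of_natDegree_le_zero hdeg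
    cases i with
    | zero => rw [← hQC]; exact hQ
    | succ j =>
      rw [hQC, coeff_C_succ, map_zero]
      exact B.zero_mem
  | succ n ih =>
    intro Q hQ hdeg i
    have hQ' := hD Q hQ
    have hdeg' : (derivative Q).natDegree ≤ n := by
      have := natDegree_derivative_le Q
      omega
    have hpos : ∀ j, C (Q.coeff (j+1)) ∈ B := by
      intro j
      have h1 := ih _ hQ' hdeg' j
      rw [coeff_derivative] at h1
      have h2 := B.smul_mem h1 ((1 : ℚ) / ((j : ℚ) + 1))
      have h3 : ((1 : ℚ) / ((j : ℚ) + 1)) • (C (Q.coeff (j + 1) * ((j : A) + 1)) : A[X]) =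
          C (Q.coeff (j+1)) := by
        rw [smul_C]
        congr 1
        rw [Algebra.smul_def]
        have h4 : algebraMap ℚ A ((1 : ℚ) / ((j : ℚ) + 1)) * ((j : A) + 1) = 1 := by
          have h5 : ((j : A) + 1) = algebraMap ℚ A ((j : ℚ) + 1) := by
            rw [map_add, map_natCast, map_one]
          rw [h5, ← map_mul]
          have h6 : ((1 : ℚ) / ((j : ℚ) + 1)) * ((j : ℚ) + 1) = 1 := by
            have : ((j : ℚ) + 1) ≠ 0 := by positivity
            field_simp
          rw [h6, map_one]
        calc algebraMap ℚ A ((1 : ℚ) / ((j : ℚ) + 1)) * (Q.coeff (j + 1) * ((j : A) + 1))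
            = Q.coeff (j+1) * (algebraMap ℚ A ((1 : ℚ) / ((j : ℚ) + 1)) * ((j : A) + 1)) := by ring
          _ = Q.coeff (j+1) := by rw [h4, mul_one]
      rw [← h3]
      exact h2
    cases i with
    | zero =>
      have hsum : C (Q.coeff 0) =
          Q - ∑ j ∈ Finset.range Q.natDegree, C (Q.coeff (j+1)) * X^(j+1) := by
        conv_rhs => lhs; rw [Q.as_sum_range_C_mul_X_pow]
        rw [Finset.sum_range_succ']
        simp
      rw [hsum]
      exact B.sub_mem hQ (B.sum_mem fun j _ => B.mul_mem (hpos j) (B.pow_mem hX _))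
    | succ j => exact hpos j

open Polynomial in
/-- For a commutative ℚ-algebra A, a ℚ-subalgebra B of the polynomial algebra A[X] that contains X and
is closed under d/dX consists exactly of the polynomials each of whose coefficients is the value at
0 of some element of B; in other words B = ev(B)[X], with ev the evaluation at 0. -/
theorem result
    (A : Type u) [CommRing A] [Algebra ℚ A] (B : Subalgebra ℚ A[X])
    (hX : (X : A[X]) ∈ B) (hD : ∀ P ∈ B, Polynomial.derivative P ∈ B) (P : A[X]) :
    P ∈ B ↔ ∀ i : ℕ, ∃ Q ∈ B, Polynomial.eval 0 Q = P.coeff i := by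
  constructor
  · intro hP i
    exact ⟨C (P.coeff i), coeff_mem A B hX hD _ P hP le_rfl i, Polynomial.eval_C⟩
  · intro h
    rw [P.as_sum_range_C_mul_X_pow]
    refine B.sum_mem fun i _ => B.mul_mem ?_ (B.pow_mem hX _)
    obtain ⟨Q, hQ, hQe⟩ := h i
    rw [← hQe, ← Polynomial.coeff_zero_eq_eval_zero]
    exact coeff_mem A B hX hD _ Q hQ le_rfl 0

end Groth.Agent.S16396
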