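import Groth.Statements.S1640
import Groth.Agent.Lib.Helper13.GlueSemiLocal

set_option autoImplicit false
universe u
open Variety

namespace Groth.Agent.S1640

open Groth.Agent.Lib.Helper13.KA Groth.Agent.Lib.Helper13.Glue IsDedekindDomain


/-- Let K be a field, A ⊆ K a subring with fraction field K, and B_1, …, B_r ⊆ K Noetherian
one-dimensional subrings with finitely many maximal ideals and fraction field K, such that for each
i the subring generated by A and B_i is all of K. Then some nonzero x ∈ A has x⁻¹ lying in B_i and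
in the Jacobson radical of B_i for every i. -/
theorem result (K : Type u) [Field K] (A : Subring K) [IsFractionRing A K]
    (r : ℕ) (B : Fin r → Subring K) [∀ i, IsNoetherianRing (B i)] [∀ i, IsFractionRing (B i) K]
    (hdim : ∀ i, ringKrullDim (B i) = 1) (hsl : ∀ i, Finite (MaximalSpectrum (B i)))
    (hgen : ∀ i, A ⊔ B i = ⊤) :
    ∃ x : K, x ∈ A ∧ x ≠ 0 ∧ ∀ i, ∃ hx : x⁻¹ ∈ B i, (⟨x⁻¹, hx⟩ : B i) ∈ (⊥ : Ideal (B i)).jacobson := by
  classical
  haveI hK1 : ∀ i, Ring.KrullDimLE 1 (B i) := fun i => by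
    rw [Ring.krullDimLE_iff, hdim i]; rfl
  have hnf : ∀ i, ¬ IsField (B i) := fun i hf => by
    have := ringKrullDim_eq_zero_of_isField hf
    rw [hdim i] at this
    exact one_ne_zero this
  haveI := hsl
  haveI hDed : ∀ i, IsDedekindDomain (icl (B i)) := fun i => isDedekindDomain_icl (B i)
  haveI hfin : ∀ i, Finite (HeightOneSpectrum (icl (B i))) := fun i =>
    finite_heightOneSpectrum_icl (B i) (hnf i)
  haveI : Fintype (Σ i, HeightOneSpectrum (icl (B i))) := Fintype.ofFinite _
  obtain ⟨α, hαA, hα⟩ := exists_forall_one_lt A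
    (Finset.univ : Finset (Σ i, HeightOneSpectrum (icl (B i))))
    (fun p => p.2.valuation K) (fun p _ => exists_one_lt_valuation (B p.1) A (hgen p.1) p.2)
  by_cases hα0 : α = 0
  · have hfalse : ∀ i : Fin r, False := by
      intro i
      obtain ⟨v₀⟩ := nonempty_heightOneSpectrum_icl (B i) (hnf i)
      have := hα ⟨i, v₀⟩ (Finset.mem_univ _)
      simp only [hα0, map_zero] at this
      exact not_lt.mpr zero_le' this
    exact ⟨1, A.one_mem, one_ne_zero, fun i => (hfalse i).elim⟩
  · have hν : ∀ i, ∀ v : HeightOneSpectrum (icl (B i)), v.valuation K α⁻¹ < 1 := by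
      intro i v
      rw [map_inv₀]
      exact inv_lt_one_of_one_lt₀ (hα ⟨i, v⟩ (Finset.mem_univ _))
    have hex := fun i => exists_pow_mem_jacobson (B i) (hnf i) α⁻¹ (hν i)
    choose N hN hJ using hex
    have hNpos : ∀ i, 0 < N i := by
      intro i
      rw [Nat.pos_iff_ne_zero]
      intro h0
      have h1 := hJ i
      have hone : (⟨α⁻¹ ^ N i, hN i⟩ : B i) = 1 := Subtype.ext (by simp [h0])
      rw [hone] at h1
      have htop : Ideal.jacobson (⊥ : Ideal (B i)) = ⊤ := (Ideal.eq_top_iff_one _).2 h1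
      rw [Ideal.jacobson_eq_top_iff] at htop
      exact bot_ne_top htop
    refine ⟨α ^ (∏ j, N j), A.pow_mem hαA _, pow_ne_zero _ hα0, ?_⟩
    intro i
    have hk : 0 < ∏ j ∈ Finset.univ.erase i, N j := Finset.prod_pos (fun j _ => hNpos j)
    have hM : (∏ j, N j) = N i * ∏ j ∈ Finset.univ.erase i, N j :=
      (Finset.mul_prod_erase Finset.univ N (Finset.mem_univ i)).symm
    have heq : (α ^ (∏ j, N j))⁻¹ = (α⁻¹ ^ N i) ^ (∏ j ∈ Finset.univ.erase i, N j) := by
      rw [hM, pow_mul, inv_pow, inv_pow]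
    have hmem : (α ^ (∏ j, N j))⁻¹ ∈ B i := by
      rw [heq]
      exact (B i).pow_mem (hN i) _
    refine ⟨hmem, ?_⟩
    have : (⟨(α ^ (∏ j, N j))⁻¹, hmem⟩ : B i) =
        (⟨α⁻¹ ^ N i, hN i⟩ : B i) ^ (∏ j ∈ Finset.univ.erase i, N j) :=
      Subtype.ext (by rw [Subring.coe_pow]; exact heq)
    rw [this]
    exact Ideal.pow_mem_of_mem _ (hJ i) _ hk

end Groth.Agent.S1640
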