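import Groth.Statements.S16409
import Mathlib.CategoryTheory.Shift.Adjunction
import Mathlib.CategoryTheory.Limits.Preserves.Shapes.Zero
import Mathlib.CategoryTheory.Triangulated.Functor

set_option autoImplicit false
universe v u
open CategoryTheory CategoryTheory.Limits CategoryTheory.Pretriangulated
open W4c3perfectstacks W4c3perfectstacks.MVSq

namespace Groth.Agent.S16409

/-- In a Mayer–Vietoris square of triangulated categories (single-square form), let M be an object over
X' whose restriction to U' is zero and let N be any object over X. Then the pullback functor along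
X' → X is bijective on morphisms f_* M ⟶ N; since the counit f^* f_* M ⟶ M is invertible for such M,
composing with its inverse gives a bijection Hom(f_* M, N) ≃ Hom(M, f^* N). (The four categories are
taken in common universes.) -/
theorem result
    (S S' R R' : Type u) [Category.{v} S] [Category.{v} S'] [Category.{v} R] [Category.{v} R']
    [Preadditive S] [Preadditive S'] [Preadditive R] [Preadditive R']
    [HasZeroObject S] [HasZeroObject S'] [HasZeroObject R] [HasZeroObject R']
    [HasShift S ℤ] [HasShift S' ℤ] [HasShift R ℤ] [HasShift R' ℤ]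
    [∀ n : ℤ, (shiftFunctor S n).Additive] [∀ n : ℤ, (shiftFunctor S' n).Additive]
    [∀ n : ℤ, (shiftFunctor R n).Additive] [∀ n : ℤ, (shiftFunctor R' n).Additive]
    [Pretriangulated S] [Pretriangulated S'] [Pretriangulated R] [Pretriangulated R']
    [IsTriangulated S] [IsTriangulated S'] [IsTriangulated R] [IsTriangulated R']
    (q : W4c3perfectstacks.MVSq S S' R R')
    [q.jst.CommShift ℤ] [q.fst.CommShift ℤ] [q.jpst.CommShift ℤ] [q.gst.CommShift ℤ]
    [q.jst.IsTriangulated] [q.fst.IsTriangulated] [q.jpst.IsTriangulated] [q.gst.IsTriangulated]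
    (hq : q.IsMV) (M : S') (hM : IsZero (q.jpst.obj M)) (N : S) :
    Function.Bijective (fun g : q.fls.obj M ⟶ N => q.fst.map g) := by
  haveI : q.gls.IsRightAdjoint := q.adjG.isRightAdjoint
  haveI : q.fls.IsRightAdjoint := q.adjF.isRightAdjoint
  have hjA : IsZero (q.jst.obj (q.fls.obj M)) := by
    haveI := hq.isIso_bcApp M
    exact IsZero.of_iso (q.gls.map_isZero hM) (asIso (q.bcApp M))
  have hjfA : IsZero (q.jpst.obj (q.fst.obj (q.fls.obj M))) :=
    IsZero.of_iso (q.gst.map_isZero hjA) (q.e.app (q.fls.obj M)).symm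
  have hjA1 : IsZero (q.jst.obj ((q.fls.obj M)⟦(1 : ℤ)⟧)) :=
    IsZero.of_iso ((shiftFunctor R (1 : ℤ)).map_isZero hjA)
      ((q.jst.commShiftIso (1 : ℤ)).app (q.fls.obj M))
  have hjfA1 : IsZero (q.jpst.obj ((q.fst.obj (q.fls.obj M))⟦(1 : ℤ)⟧)) :=
    IsZero.of_iso ((shiftFunctor R' (1 : ℤ)).map_isZero hjfA)
      ((q.jpst.commShiftIso (1 : ℤ)).app (q.fst.obj (q.fls.obj M)))
  obtain ⟨K, k, h, hT⟩ := distinguished_cocone_triangle₁ (q.adjJ.unit.app N)
  haveI := hq.isIso_counitJ
  have hK : IsZero (q.jst.obj K) := by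
    have hT' := q.jst.map_distinguished _ hT
    refine (Triangle.isZero₁_iff_isIso₂ _ hT').2 ?_
    change IsIso (q.jst.map (q.adjJ.unit.app N))
    have e1 := q.adjJ.left_triangle_components N
    haveI : IsIso (q.jst.map (q.adjJ.unit.app N) ≫ q.adjJ.counit.app (q.jst.obj N)) := by
      rw [e1]; exact IsIso.id _
    exact IsIso.of_isIso_comp_right _ (q.adjJ.counit.app (q.jst.obj N))
  haveI := hq.isIso_unitF K hK
  have V1 : ∀ A' : S, IsZero (q.jst.obj A') → ∀ g : A' ⟶ q.jls.obj (q.jst.obj N), g = 0 :=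
    fun A' hA' g => (q.adjJ.homEquiv _ _).symm.injective (hA'.eq_of_src _ _)
  have V2 : ∀ A' : S', IsZero (q.jpst.obj A') →
      ∀ g : A' ⟶ q.fst.obj (q.jls.obj (q.jst.obj N)), g = 0 := by
    intro A' hA' g
    haveI := hq.isIso_bc2App (q.jst.obj N)
    have : g ≫ q.bc2App (q.jst.obj N) = 0 :=
      (q.adjJp.homEquiv _ _).symm.injective (hA'.eq_of_src _ _)
    rw [← cancel_mono (q.bc2App (q.jst.obj N)), this, zero_comp]
  have hfT := q.fst.map_distinguished _ hT
  -- lifting along k
  have liftK : ∀ w : q.fls.obj M ⟶ N, ∃ w' : q.fls.obj M ⟶ K, w = w' ≫ k := fun w =>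
    Triangle.coyoneda_exact₂ _ hT w (V1 _ hjA _)
  have liftfK : ∀ v : q.fst.obj (q.fls.obj M) ⟶ q.fst.obj N,
      ∃ v' : q.fst.obj (q.fls.obj M) ⟶ q.fst.obj K, v = v' ≫ q.fst.map k := fun v =>
    Triangle.coyoneda_exact₂ _ hfT v (V2 _ hjfA _)
  have injK : ∀ w' : q.fls.obj M ⟶ K, w' ≫ k = 0 → w' = 0 := by
    intro w' hw'
    apply (shiftFunctor S (1 : ℤ)).map_injective
    rw [Functor.map_zero]
    obtain ⟨g, hg⟩ := Triangle.coyoneda_exact₁ _ hT (w'⟦(1 : ℤ)⟧') (by
      change w'⟦(1 : ℤ)⟧' ≫ k⟦(1 : ℤ)⟧' = 0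
      rw [← Functor.map_comp, hw', Functor.map_zero])
    exact hg.trans (by rw [V1 _ hjA1 g]; exact zero_comp)
  have injfK : ∀ v' : q.fst.obj (q.fls.obj M) ⟶ q.fst.obj K, v' ≫ q.fst.map k = 0 → v' = 0 := by
    intro v' hv'
    apply (shiftFunctor S' (1 : ℤ)).map_injective
    rw [Functor.map_zero]
    obtain ⟨g, hg⟩ := Triangle.coyoneda_exact₁ _ hfT (v'⟦(1 : ℤ)⟧') (by
      change v'⟦(1 : ℤ)⟧' ≫ (q.fst.map k)⟦(1 : ℤ)⟧' = 0
      rw [← Functor.map_comp, hv', Functor.map_zero])
    exact hg.trans (by rw [V2 _ hjfA1 g]; exact zero_comp)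
  -- f^* on Hom(A, K)
  have hmapK : ∀ u : q.fls.obj M ⟶ K,
      q.fst.map u = (q.adjF.homEquiv _ _).symm (u ≫ q.adjF.unit.app K) := by
    intro u
    rw [Adjunction.homEquiv_counit, Functor.map_comp, Category.assoc,
      q.adjF.left_triangle_components, Category.comp_id]
  constructor
  · intro u u' huu'
    have huu : q.fst.map u = q.fst.map u' := huu'
    obtain ⟨w', hw'⟩ := liftK (u - u')
    have h1 : q.fst.map w' ≫ q.fst.map k = 0 := by
      rw [← Functor.map_comp, ← hw', Functor.map_sub, huu, sub_self]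
    have h2 := injfK _ h1
    rw [hmapK] at h2
    have h3 : w' ≫ q.adjF.unit.app K = 0 := by
      have := congrArg (q.adjF.homEquiv _ _) h2
      rw [Equiv.apply_symm_apply] at this
      rw [this, Adjunction.homEquiv_unit, Functor.map_zero, comp_zero]
    have h4 : w' = 0 := by
      rw [← cancel_mono (q.adjF.unit.app K), h3, zero_comp]
    rw [h4, zero_comp] at hw'
    exact sub_eq_zero.mp hw'
  · intro v
    obtain ⟨v', hv'⟩ := liftfK v
    refine ⟨((q.adjF.homEquiv _ _) v' ≫ inv (q.adjF.unit.app K)) ≫ k, ?_⟩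
    change q.fst.map (((q.adjF.homEquiv _ _) v' ≫ inv (q.adjF.unit.app K)) ≫ k) = v
    rw [Functor.map_comp, hmapK, Category.assoc, IsIso.inv_hom_id, Category.comp_id,
      Equiv.symm_apply_apply, hv']

end Groth.Agent.S16409
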