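import Groth.Statements.S16419
import Mathlib

set_option autoImplicit false
universe u v
open CAlg

namespace Groth.Agent.S16419

section helpers

open TensorProduct

variable {R : Type*} [CommRing R] {M : Type*} [AddCommGroup M] [Module R M]

lemma exists_isCompl_of_projective (p : Submodule R M) [Module.Projective R (M ⧸ p)] :
    ∃ q : Submodule R M, IsCompl p q := by
  obtain ⟨σ, hσ⟩ := Module.projective_lifting_property p.mkQ LinearMap.id p.mkQ_surjective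
  have hσ' : ∀ y, p.mkQ (σ y) = y := fun y => LinearMap.congr_fun hσ y
  refine ⟨LinearMap.range σ, ?_, ?_⟩
  · rw [Submodule.disjoint_def]
    rintro x hx ⟨y, rfl⟩
    have : y = 0 := by
      rw [← hσ' y]
      exact (Submodule.Quotient.mk_eq_zero p).2 hx
    simp [this]
  · rw [codisjoint_iff, eq_top_iff]
    rintro x -
    have h1 : x - σ (p.mkQ x) ∈ p := by
      rw [← Submodule.Quotient.mk_eq_zero p, Submodule.Quotient.mk_sub, sub_eq_zero]
      exact (hσ' (p.mkQ x)).symm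
    have h2 : x = (x - σ (p.mkQ x)) + σ (p.mkQ x) := by abel
    rw [h2]
    exact Submodule.add_mem_sup h1 ⟨_, rfl⟩

lemma one_tmul_eq_zero_iff (I : Ideal R) (x : M) :
    (1 : R ⧸ I) ⊗ₜ[R] x = 0 ↔ x ∈ I • (⊤ : Submodule R M) := by
  rw [← (TensorProduct.quotTensorEquivQuotSMul M I).map_eq_zero_iff,
    TensorProduct.quotTensorEquivQuotSMul_mk_one_tmul, Submodule.Quotient.mk_eq_zero]

lemma exists_one_tmul_eq (I : Ideal R) (y : (R ⧸ I) ⊗[R] M) :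
    ∃ x : M, (1 : R ⧸ I) ⊗ₜ[R] x = y := by
  obtain ⟨x, hx⟩ := Submodule.Quotient.mk_surjective _ (TensorProduct.quotTensorEquivQuotSMul M I y)
  refine ⟨x, ?_⟩
  rw [← TensorProduct.quotTensorEquivQuotSMul_symm_mk, hx, LinearEquiv.symm_apply_apply]

lemma map_baseChange_eq {A N : Type*} [CommRing A] [Algebra R A] [AddCommGroup N] [Module R N]
    (g : M →ₗ[R] N) (p : Submodule R M) :
    (p.baseChange A).map (g.baseChange A) = (p.map g).baseChange A := by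
  rw [Submodule.baseChange_eq_span, Submodule.baseChange_eq_span, Submodule.map_span]
  congr 1
  ext x
  constructor
  · rintro ⟨_, ⟨m, hm, rfl⟩, rfl⟩
    exact ⟨g m, ⟨m, hm, rfl⟩, by simp⟩
  · rintro ⟨_, ⟨m, hm, rfl⟩, rfl⟩
    exact ⟨1 ⊗ₜ m, ⟨m, hm, rfl⟩, by simp⟩

end helpers


open TensorProduct in
/-- For a commutative local Artinian ring R and an exact sequence 0 → H₁ → H → H₂ → 0 of finite free
R-modules, let F₁ ⊆ H₁ and F₂ ⊆ H₂ be submodules with H₁/F₁ and H₂/F₂ free; let 𝔫 be an ideal of R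
of square zero, R̄ = R/𝔫, and F̄ an R̄-submodule of H̄ = R̄ ⊗ H with free quotient such that F̄
meets the image of R̄ ⊗ H₁ in the image of R̄ ⊗ F₁ and the image of F̄ in R̄ ⊗ H₂ is the image of R̄
⊗ F₂. Then there is a direct summand F of H with F ∩ H₁ = F₁, whose image in H̄ is F̄ and whose
image in H₂ is F₂. -/
theorem result
    (R : Type u) [CommRing R] [IsArtinianRing R] [IsLocalRing R]
    (H₁ : Type v) (H : Type v) (H₂ : Type v)
    [AddCommGroup H₁] [Module R H₁] [AddCommGroup H] [Module R H] [AddCommGroup H₂] [Module R H₂]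
    [Module.Free R H₁] [Module.Finite R H₁] [Module.Free R H] [Module.Finite R H]
    [Module.Free R H₂] [Module.Finite R H₂]
    (f : H₁ →ₗ[R] H) (g : H →ₗ[R] H₂) (hf : Function.Injective f) (hg : Function.Surjective g)
    (hfg : Function.Exact f g)
    (F₁ : Submodule R H₁) (F₂ : Submodule R H₂) [Module.Free R (H₁ ⧸ F₁)] [Module.Free R (H₂ ⧸ F₂)]
    (𝔫 : Ideal R) (hn : 𝔫 * 𝔫 = ⊥)
    (Fb : Submodule (R ⧸ 𝔫) ((R ⧸ 𝔫) ⊗[R] H))
    [Module.Free (R ⧸ 𝔫) (((R ⧸ 𝔫) ⊗[R] H) ⧸ Fb)]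
    (h1 : Fb ⊓ LinearMap.range (f.baseChange (R ⧸ 𝔫)) =
      Submodule.map (f.baseChange (R ⧸ 𝔫)) (F₁.baseChange (R ⧸ 𝔫)))
    (h2 : Submodule.map (g.baseChange (R ⧸ 𝔫)) Fb = F₂.baseChange (R ⧸ 𝔫)) :
    ∃ F : Submodule R H, (∃ C : Submodule R H, IsCompl F C) ∧
      F ⊓ LinearMap.range f = Submodule.map f F₁ ∧
      F.baseChange (R ⧸ 𝔫) = Fb ∧ Submodule.map g F = F₂ := by
  classical
  obtain ⟨C₁, hC₁⟩ := exists_isCompl_of_projective F₁
  obtain ⟨C₂, hC₂⟩ := exists_isCompl_of_projective F₂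
  have : Module.Projective R F₂ :=
    Module.Projective.of_split F₂.subtype (Submodule.projectionOnto F₂ C₂ hC₂)
      (LinearMap.ext fun x => Submodule.projectionOnto_apply_left hC₂ x)
  obtain ⟨σ, hσ⟩ := Module.projective_lifting_property g LinearMap.id hg
  have hσ' : ∀ y, g (σ y) = y := fun y => LinearMap.congr_fun hσ y
  let mk1 : H →ₗ[R] (R ⧸ 𝔫) ⊗[R] H := TensorProduct.mk R (R ⧸ 𝔫) H 1
  let P : Submodule R H := F₂.comap g ⊓ (Fb.restrictScalars R).comap mk1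
  let gP : P →ₗ[R] F₂ := g.restrict (p := P) (q := F₂) (fun x hx => hx.1)
  have hgP : Function.Surjective gP := by
    rintro ⟨w, hw⟩
    have h1w : (1 : R ⧸ 𝔫) ⊗ₜ[R] w ∈ Submodule.map (g.baseChange (R ⧸ 𝔫)) Fb := by
      rw [h2]; exact Submodule.tmul_mem_baseChange_of_mem _ hw
    obtain ⟨ub, hub, hubw⟩ := h1w
    obtain ⟨u', rfl⟩ := exists_one_tmul_eq 𝔫 ub
    rw [LinearMap.baseChange_tmul] at hubw
    have h3 : g u' - w ∈ 𝔫 • (⊤ : Submodule R H₂) := by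
      rw [← one_tmul_eq_zero_iff, TensorProduct.tmul_sub, hubw, sub_self]
    have h4 : (𝔫 • (⊤ : Submodule R H₂)) = Submodule.map g (𝔫 • (⊤ : Submodule R H)) := by
      rw [Submodule.map_smul'', Submodule.map_top, LinearMap.range_eq_top.2 hg]
    rw [h4] at h3
    obtain ⟨n, hn', hgn⟩ := h3
    have h5 : (1 : R ⧸ 𝔫) ⊗ₜ[R] n = 0 := (one_tmul_eq_zero_iff 𝔫 n).2 hn'
    have hgu : g (u' - n) = w := by rw [map_sub, hgn]; abel
    refine ⟨⟨u' - n, ?_, ?_⟩, ?_⟩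
    · show g (u' - n) ∈ F₂
      rw [hgu]; exact hw
    · show (1 : R ⧸ 𝔫) ⊗ₜ[R] (u' - n) ∈ Fb
      rw [TensorProduct.tmul_sub, h5, sub_zero]; exact hub
    · exact Subtype.ext hgu
  obtain ⟨s₂', hs₂'⟩ := Module.projective_lifting_property gP LinearMap.id hgP
  let s₂ : F₂ →ₗ[R] H := P.subtype ∘ₗ s₂'
  have hgs : ∀ w : F₂, g (s₂ w) = w := fun w => by
    have := LinearMap.congr_fun hs₂' w
    exact congrArg Subtype.val this
  have hs₂Fb : ∀ w : F₂, (1 : R ⧸ 𝔫) ⊗ₜ[R] (s₂ w) ∈ Fb := fun w => (s₂' w).2.2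
  have hfg0 : ∀ a, g (f a) = 0 := fun a => (hfg (f a)).2 ⟨a, rfl⟩
  -- the submodule
  let F : Submodule R H := F₁.map f ⊔ LinearMap.range s₂
  have hgF : Submodule.map g F = F₂ := by
    apply le_antisymm
    · rintro _ ⟨x, hx, rfl⟩
      obtain ⟨y, ⟨a, ha, rfl⟩, z, ⟨w, rfl⟩, rfl⟩ := Submodule.mem_sup.1 hx
      rw [map_add, hfg0, zero_add, hgs]
      exact w.2
    · intro w hw
      exact ⟨s₂ ⟨w, hw⟩, Submodule.mem_sup_right ⟨_, rfl⟩, hgs ⟨w, hw⟩⟩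
  have hFle : F.baseChange (R ⧸ 𝔫) ≤ Fb := by
    rw [Submodule.baseChange_eq_span, Submodule.span_le]
    rintro _ ⟨x, hx, rfl⟩
    obtain ⟨y, ⟨a, ha, rfl⟩, z, ⟨w, rfl⟩, rfl⟩ := Submodule.mem_sup.1 hx
    show (1 : R ⧸ 𝔫) ⊗ₜ[R] (f a + s₂ w) ∈ Fb
    rw [TensorProduct.tmul_add]
    refine Fb.add_mem ?_ (hs₂Fb w)
    have : (1 : R ⧸ 𝔫) ⊗ₜ[R] f a ∈ Submodule.map (f.baseChange (R ⧸ 𝔫)) (F₁.baseChange (R ⧸ 𝔫)) :=
      ⟨1 ⊗ₜ a, Submodule.tmul_mem_baseChange_of_mem _ ha, by simp⟩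
    rw [← h1] at this
    exact this.1
  refine ⟨F, ⟨C₁.map f ⊔ C₂.map σ, ?_⟩, ?_, ?_, hgF⟩
  · -- complement
    constructor
    · rw [Submodule.disjoint_def]
      intro x hxF hxC
      obtain ⟨y, ⟨a, ha, rfl⟩, z, ⟨w, rfl⟩, rfl⟩ := Submodule.mem_sup.1 hxF
      obtain ⟨y', ⟨c, hc, hcy⟩, z', ⟨d, hd, hdz⟩, hsum⟩ := Submodule.mem_sup.1 hxC
      have hg := congrArg g hsum
      rw [← hcy, ← hdz, map_add, map_add, hfg0, hfg0, zero_add, zero_add, hgs, hσ'] at hg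
      have hd0 : d = 0 := by
        have : d ∈ F₂ ⊓ C₂ := ⟨hg ▸ w.2, hd⟩
        rwa [hC₂.inf_eq_bot, Submodule.mem_bot] at this
      have hw0 : w = 0 := Subtype.ext (by rw [← hg, hd0]; rfl)
      rw [← hcy, ← hdz, hd0, hw0, map_zero, map_zero, add_zero, add_zero] at hsum
      have hac : c = a := hf hsum
      have ha0 : a = 0 := by
        have : a ∈ F₁ ⊓ C₁ := ⟨ha, hac ▸ hc⟩
        rwa [hC₁.inf_eq_bot, Submodule.mem_bot] at this
      rw [ha0, hw0, map_zero, map_zero, add_zero]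
    · rw [codisjoint_iff, eq_top_iff]
      rintro x -
      obtain ⟨w, hw, d, hd, hwd⟩ := Submodule.mem_sup.1
        (show g x ∈ F₂ ⊔ C₂ by rw [hC₂.sup_eq_top]; trivial)
      have hker : g (x - s₂ ⟨w, hw⟩ - σ d) = 0 := by
        rw [map_sub, map_sub, hgs, hσ', ← hwd]; abel
      obtain ⟨y, hy⟩ := (hfg _).1 hker
      obtain ⟨a, ha, c, hc, hac⟩ := Submodule.mem_sup.1
        (show y ∈ F₁ ⊔ C₁ by rw [hC₁.sup_eq_top]; trivial)
      have hx : x = (f a + s₂ ⟨w, hw⟩) + (f c + σ d) := by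
        have : f a + f c = x - s₂ ⟨w, hw⟩ - σ d := by rw [← map_add, hac, hy]
        have h' : x = (f a + f c) + s₂ ⟨w, hw⟩ + σ d := by rw [this]; abel
        rw [h']; abel
      rw [hx]
      refine Submodule.add_mem_sup (Submodule.add_mem_sup ⟨a, ha, rfl⟩ ⟨_, rfl⟩)
        (Submodule.add_mem_sup ⟨c, hc, rfl⟩ ⟨d, hd, rfl⟩)
  · -- intersection with range f
    apply le_antisymm
    · rintro x ⟨hxF, ⟨b, rfl⟩⟩
      obtain ⟨y, ⟨a, ha, rfl⟩, z, ⟨w, rfl⟩, hsum⟩ := Submodule.mem_sup.1 hxF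
      have hg := congrArg g hsum
      rw [map_add, hfg0, hfg0, zero_add, hgs] at hg
      have hw0 : w = 0 := Subtype.ext hg
      rw [hw0, map_zero, add_zero] at hsum
      exact ⟨a, ha, hsum⟩
    · rintro _ ⟨a, ha, rfl⟩
      exact ⟨Submodule.mem_sup_left ⟨a, ha, rfl⟩, ⟨a, rfl⟩⟩
  · -- base change
    apply le_antisymm hFle
    intro ub hub
    have h6 : g.baseChange (R ⧸ 𝔫) ub ∈ Submodule.map (g.baseChange (R ⧸ 𝔫)) (F.baseChange (R ⧸ 𝔫)) := by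
      rw [map_baseChange_eq, hgF, ← h2]
      exact ⟨ub, hub, rfl⟩
    obtain ⟨vb, hvb, hvbu⟩ := h6
    have h7 : g.baseChange (R ⧸ 𝔫) (ub - vb) = 0 := by rw [map_sub, hvbu, sub_self]
    have hex : Function.Exact (f.lTensor (R ⧸ 𝔫)) (g.lTensor (R ⧸ 𝔫)) := lTensor_exact _ hfg hg
    obtain ⟨yb, hyb⟩ := (hex (ub - vb)).1 h7
    have h8 : ub - vb ∈ Fb ⊓ LinearMap.range (f.baseChange (R ⧸ 𝔫)) :=
      ⟨Fb.sub_mem hub (hFle hvb), ⟨yb, hyb⟩⟩
    rw [h1, map_baseChange_eq] at h8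
    have h9 : ub - vb ∈ F.baseChange (R ⧸ 𝔫) := Submodule.baseChange_mono _ le_sup_left h8
    have : ub = (ub - vb) + vb := by abel
    rw [this]
    exact Submodule.add_mem _ h9 hvb

end Groth.Agent.S16419
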