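import Groth.Statements.S16420
import Mathlib
-- import your own Groth.Agent.* helpers here

set_option autoImplicit false
set_option linter.unusedSectionVars false
set_option linter.style.haveILetI false
set_option linter.unusedVariables false
universe u v
open CAlg

namespace Groth.Agent.S16420

open TensorProduct

section gen
variable {R : Type u} [CommRing R] {M : Type v} [AddCommGroup M] [Module R M]
  {M' : Type v} [AddCommGroup M'] [Module R M']

lemma map_mem_smul_top (I : Ideal R) (h : M →ₗ[R] M') {x : M}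
    (hx : x ∈ I • (⊤ : Submodule R M)) : h x ∈ I • (⊤ : Submodule R M') := by
  have h1 : h x ∈ Submodule.map h (I • (⊤ : Submodule R M)) := Submodule.mem_map_of_mem hx
  rw [Submodule.map_smul''] at h1
  exact Submodule.smul_mono le_rfl le_top h1

/-- Lemma A' -/
lemma mem_smul_of_retraction (I : Ideal R) (N : Submodule R M) (π : M →ₗ[R] M)
    (hπ1 : ∀ x, π x ∈ N) (hπ2 : ∀ x ∈ N, π x = x) {x : M} (hx : x ∈ N)
    (hx' : x ∈ I • (⊤ : Submodule R M)) : x ∈ I • N := by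
  have h1 : π x ∈ Submodule.map π (I • (⊤ : Submodule R M)) := Submodule.mem_map_of_mem hx'
  rw [Submodule.map_smul'', hπ2 x hx] at h1
  refine Submodule.smul_mono le_rfl ?_ h1
  rintro _ ⟨y, -, rfl⟩
  exact hπ1 y

lemma exists_retraction (N : Submodule R M) [Module.Projective R (M ⧸ N)] :
    ∃ π : M →ₗ[R] M, (∀ x, π x ∈ N) ∧ ∀ x ∈ N, π x = x := by
  obtain ⟨s, hs⟩ := Module.projective_lifting_property N.mkQ LinearMap.id N.mkQ_surjective
  refine ⟨LinearMap.id - s ∘ₗ N.mkQ, ?_, ?_⟩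
  · intro x
    rw [← Submodule.Quotient.mk_eq_zero N]
    have := LinearMap.congr_fun hs (N.mkQ x)
    simp only [LinearMap.comp_apply, LinearMap.id_apply, Submodule.mkQ_apply] at this
    simp only [LinearMap.sub_apply, LinearMap.id_apply, LinearMap.comp_apply, Submodule.mkQ_apply,
      Submodule.Quotient.mk_sub, this, sub_self]
  · intro x hx
    have : N.mkQ x = 0 := by rwa [Submodule.mkQ_apply, Submodule.Quotient.mk_eq_zero]
    simp [this]

/-- Lemma C -/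
lemma one_tmul_eq_zero (I : Ideal R) {m : M} (hm : m ∈ I • (⊤ : Submodule R M)) :
    (1 : R ⧸ I) ⊗ₜ[R] m = 0 := by
  apply (TensorProduct.quotTensorEquivQuotSMul M I).injective
  rw [TensorProduct.quotTensorEquivQuotSMul_mk_one_tmul, map_zero, Submodule.Quotient.mk_eq_zero]
  exact hm

/-- Lemma B -/
lemma mem_sup_of_one_tmul_mem (I : Ideal R) (p : Submodule R M) {x : M}
    (hx : (1 : R ⧸ I) ⊗ₜ[R] x ∈ p.baseChange (R ⧸ I)) : x ∈ p ⊔ I • (⊤ : Submodule R M) := by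
  have key : ∀ z ∈ p.baseChange (R ⧸ I),
      TensorProduct.quotTensorEquivQuotSMul M I z ∈ Submodule.map (I • (⊤ : Submodule R M)).mkQ p := by
    intro z hz
    rw [Submodule.baseChange_eq_span] at hz
    induction hz using Submodule.span_induction with
    | mem z hz =>
      obtain ⟨y, hy, rfl⟩ := hz
      rw [TensorProduct.mk_apply, TensorProduct.quotTensorEquivQuotSMul_mk_one_tmul]
      exact ⟨y, hy, rfl⟩
    | zero => rw [map_zero]; exact zero_mem _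
    | add a b _ _ ha hb => rw [map_add]; exact add_mem ha hb
    | smul a z _ hz =>
      obtain ⟨r, rfl⟩ := Ideal.Quotient.mk_surjective a
      have : (Ideal.Quotient.mk I r) • z = r • z := by
        have h1 : Ideal.Quotient.mk I r = r • (1 : R ⧸ I) := by
          rw [Algebra.smul_def, mul_one]; rfl
        rw [h1, smul_assoc, one_smul]
      rw [this, map_smul]
      exact Submodule.smul_mem _ _ hz
  obtain ⟨y, hy, hyx⟩ := key _ hx
  rw [TensorProduct.quotTensorEquivQuotSMul_mk_one_tmul, Submodule.mkQ_apply, eq_comm,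
    Submodule.Quotient.eq] at hyx
  have : x = y + (x - y) := by abel
  rw [this]
  exact add_mem (Submodule.mem_sup_left hy) (Submodule.mem_sup_right hyx)

end gen

section main
variable {R : Type u} [CommRing R]
  {H₁ : Type v} {H : Type v} {H₂ : Type v}
  [AddCommGroup H₁] [Module R H₁] [AddCommGroup H] [Module R H] [AddCommGroup H₂] [Module R H₂]
  (f : H₁ →ₗ[R] H) (g : H →ₗ[R] H₂) (hf : Function.Injective f) (hg : Function.Surjective g)
  (hfg : Function.Exact f g)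

/-- the automorphism `x ↦ x + f (u (g x))` -/
def phi (u : H₂ →ₗ[R] H₁) : H →ₗ[R] H := LinearMap.id + f ∘ₗ u ∘ₗ g

lemma phi_apply (u : H₂ →ₗ[R] H₁) (x : H) : phi f g u x = x + f (u (g x)) := rfl

include hfg in
lemma g_f (x : H₁) : g (f x) = 0 := hfg.apply_apply_eq_zero x

include hfg in
lemma g_phi (u : H₂ →ₗ[R] H₁) (x : H) : g (phi f g u x) = g x := by
  rw [phi_apply, map_add, g_f f g hfg, add_zero]

include hfg in
lemma phi_phi_neg (u : H₂ →ₗ[R] H₁) (x : H) : phi f g u (phi f g (-u) x) = x := by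
  rw [phi_apply, g_phi f g hfg, phi_apply]
  simp

include hfg in
lemma phi_neg_phi (u : H₂ →ₗ[R] H₁) (x : H) : phi f g (-u) (phi f g u x) = x := by
  have := phi_phi_neg f g hfg (-u) x
  rwa [neg_neg] at this

/-- `phi` as an equivalence -/
def phiEquiv (u : H₂ →ₗ[R] H₁) : H ≃ₗ[R] H :=
  LinearEquiv.ofLinearMap (phi f g u) (phi f g (-u))
    (LinearMap.ext fun x => phi_phi_neg f g hfg u x) (LinearMap.ext fun x => phi_neg_phi f g hfg u x)

include hfg in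
lemma phi_of_mem_range {u : H₂ →ₗ[R] H₁} {x : H} (hx : x ∈ LinearMap.range f) :
    phi f g u x = x := by
  obtain ⟨y, rfl⟩ := hx
  rw [phi_apply, g_f f g hfg, map_zero, map_zero, add_zero]

variable (F₁ : Submodule R H₁) (F₂ : Submodule R H₂) (𝔫 : Ideal R) (F : Submodule R H)
  (hF2 : F ⊓ LinearMap.range f = Submodule.map f F₁) (hF4 : Submodule.map g F = F₂)

include hfg in
lemma part1a (u : H₂ →ₗ[R] H₁) (hC : ∃ C : Submodule R H, IsCompl F C) :
    ∃ C : Submodule R H, IsCompl (Submodule.map (LinearMap.id + f ∘ₗ u ∘ₗ g) F) C := by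
  obtain ⟨C, hC⟩ := hC
  refine ⟨Submodule.map (phiEquiv f g hfg u : H →ₗ[R] H) C, ?_⟩
  have := (Submodule.orderIsoMapComap (phiEquiv f g hfg u)).isCompl hC
  exact this

include hfg hF2 in
lemma part1b (u : H₂ →ₗ[R] H₁) :
    (Submodule.map (LinearMap.id + f ∘ₗ u ∘ₗ g) F) ⊓ LinearMap.range f = Submodule.map f F₁ := by
  ext z
  constructor
  · rintro ⟨⟨x, hx, rfl⟩, hz⟩
    change phi f g u x ∈ LinearMap.range f at hz
    have hx' : x ∈ LinearMap.range f := by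
      have : x = phi f g u x - f (u (g x)) := by rw [phi_apply]; abel
      rw [this]
      exact sub_mem hz ⟨_, rfl⟩
    change phi f g u x ∈ _
    rw [phi_of_mem_range f g hfg hx', ← hF2]
    exact ⟨hx, hx'⟩
  · intro hz
    rw [← hF2] at hz
    refine ⟨⟨z, hz.1, ?_⟩, hz.2⟩
    exact phi_of_mem_range f g hfg hz.2

include hfg in
lemma part1c (u : H₂ →ₗ[R] H₁) (hu : ∀ y : H₂, u y ∈ 𝔫 • (⊤ : Submodule R H₁)) :
    Submodule.baseChange (R ⧸ 𝔫) (Submodule.map (LinearMap.id + f ∘ₗ u ∘ₗ g) F) =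
      Submodule.baseChange (R ⧸ 𝔫) F := by
  rw [Submodule.baseChange_eq_span, Submodule.baseChange_eq_span, ← Submodule.map_comp]
  congr 3
  apply LinearMap.ext
  intro x
  change (1 : R ⧸ 𝔫) ⊗ₜ[R] (x + f (u (g x))) = 1 ⊗ₜ[R] x
  rw [TensorProduct.tmul_add, one_tmul_eq_zero 𝔫 (map_mem_smul_top 𝔫 f (hu (g x))), add_zero]

include hfg hF4 in
lemma part1d (u : H₂ →ₗ[R] H₁) :
    Submodule.map g (Submodule.map (LinearMap.id + f ∘ₗ u ∘ₗ g) F) = F₂ := by
  rw [← Submodule.map_comp, ← hF4]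
  congr 1
  apply LinearMap.ext
  intro x
  exact g_phi f g hfg u x

include hf hfg hF2 hF4 in
lemma part2 [Module.Projective R (H₁ ⧸ F₁)] (u : H₂ →ₗ[R] H₁)
    (hu : ∀ y : H₂, u y ∈ 𝔫 • (⊤ : Submodule R H₁)) :
    Submodule.map (LinearMap.id + f ∘ₗ u ∘ₗ g) F = F ↔ ∀ y ∈ F₂, u y ∈ 𝔫 • F₁ := by
  constructor
  · intro h y hy
    rw [← hF4] at hy
    obtain ⟨x, hx, rfl⟩ := hy
    have h1 : phi f g u x ∈ F := by
      rw [← h]; exact ⟨x, hx, rfl⟩
    have h2 : f (u (g x)) ∈ F := by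
      have : f (u (g x)) = phi f g u x - x := by rw [phi_apply]; abel
      rw [this]; exact sub_mem h1 hx
    have h3 : f (u (g x)) ∈ Submodule.map f F₁ := by
      rw [← hF2]; exact ⟨h2, ⟨_, rfl⟩⟩
    obtain ⟨t, ht, hte⟩ := h3
    have h4 : u (g x) ∈ F₁ := by rw [← hf hte]; exact ht
    obtain ⟨π, hπ1, hπ2⟩ := exists_retraction F₁
    exact mem_smul_of_retraction 𝔫 F₁ π hπ1 hπ2 h4 (hu _)
  · intro h
    have key : ∀ x ∈ F, f (u (g x)) ∈ F := by
      intro x hx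
      have h1 : u (g x) ∈ F₁ := Submodule.smul_le_right (h (g x) (hF4 ▸ ⟨x, hx, rfl⟩))
      have h2 : f (u (g x)) ∈ F ⊓ LinearMap.range f := by rw [hF2]; exact ⟨_, h1, rfl⟩
      exact h2.1
    apply le_antisymm
    · rintro _ ⟨x, hx, rfl⟩
      change phi f g u x ∈ F
      rw [phi_apply]
      exact add_mem hx (key x hx)
    · intro x hx
      refine ⟨x - f (u (g x)), sub_mem hx (key x hx), ?_⟩
      change phi f g u (x - f (u (g x))) = x
      rw [phi_apply, map_sub, g_f f g hfg, sub_zero]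
      abel

include hf hg hfg hF2 hF4 in
lemma part3 [Module.Projective R (H₁ ⧸ F₁)] [Module.Projective R (H₂ ⧸ F₂)]
    [Module.Projective R H₂] (F' : Submodule R H)
    (hF'2 : F' ⊓ LinearMap.range f = Submodule.map f F₁) (hF'4 : Submodule.map g F' = F₂)
    (hbc : Submodule.baseChange (R ⧸ 𝔫) F' = Submodule.baseChange (R ⧸ 𝔫) F) :
    ∃ u : H₂ →ₗ[R] H₁, (∀ y : H₂, u y ∈ 𝔫 • (⊤ : Submodule R H₁)) ∧
      F' = Submodule.map (LinearMap.id + f ∘ₗ u ∘ₗ g) F := by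
  obtain ⟨π₁, hπ₁1, hπ₁2⟩ := exists_retraction F₁
  obtain ⟨π₂, hπ₂1, hπ₂2⟩ := exists_retraction F₂
  -- F₂ is projective
  haveI : Module.Projective R F₂ :=
    Module.Projective.of_split F₂.subtype (π₂.codRestrict F₂ hπ₂1) (by
      apply LinearMap.ext
      intro y
      apply Subtype.ext
      simp [hπ₂2 y.1 y.2])
  -- sections of g on F and F'
  have hgF : ∀ x : F, g x.1 ∈ F₂ := fun x => hF4 ▸ ⟨x.1, x.2, rfl⟩
  have hgF' : ∀ x : F', g x.1 ∈ F₂ := fun x => hF'4 ▸ ⟨x.1, x.2, rfl⟩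
  let gF : F →ₗ[R] F₂ := (g.domRestrict F).codRestrict F₂ hgF
  let gF' : F' →ₗ[R] F₂ := (g.domRestrict F').codRestrict F₂ hgF'
  have hgFs : Function.Surjective gF := by
    rintro ⟨y, hy⟩
    rw [← hF4] at hy
    obtain ⟨x, hx, rfl⟩ := hy
    exact ⟨⟨x, hx⟩, rfl⟩
  have hgF's : Function.Surjective gF' := by
    rintro ⟨y, hy⟩
    rw [← hF'4] at hy
    obtain ⟨x, hx, rfl⟩ := hy
    exact ⟨⟨x, hx⟩, rfl⟩
  obtain ⟨s, hs⟩ := Module.projective_lifting_property gF LinearMap.id hgFs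
  obtain ⟨s', hs'⟩ := Module.projective_lifting_property gF' LinearMap.id hgF's
  have hs1 : ∀ y : F₂, g (s y).1 = y.1 := fun y => congrArg Subtype.val (LinearMap.congr_fun hs y)
  have hs'1 : ∀ y : F₂, g (s' y).1 = y.1 := fun y => congrArg Subtype.val (LinearMap.congr_fun hs' y)
  -- the difference
  let D : F₂ →ₗ[R] H := F'.subtype ∘ₗ s' - F.subtype ∘ₗ s
  have hD : ∀ y, D y ∈ LinearMap.range f := by
    intro y
    rw [← hfg.linearMap_ker_eq, LinearMap.mem_ker]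
    change g ((s' y).1 - (s y).1) = 0
    rw [map_sub, hs1, hs'1, sub_self]
  let δ : F₂ →ₗ[R] H₁ := (LinearEquiv.ofInjective f hf).symm.toLinearMap ∘ₗ
    D.codRestrict (LinearMap.range f) hD
  have hδ : ∀ y, f (δ y) = (s' y).1 - (s y).1 := by
    intro y
    have := (LinearEquiv.ofInjective f hf).apply_symm_apply (D.codRestrict (LinearMap.range f) hD y)
    exact congrArg Subtype.val this
  -- retraction onto range f
  obtain ⟨σ, hσ⟩ := Module.projective_lifting_property g LinearMap.id hg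
  have hσ1 : ∀ y, g (σ y) = y := fun y => LinearMap.congr_fun hσ y
  let πf : H →ₗ[R] H := LinearMap.id - σ ∘ₗ g
  have hπf1 : ∀ x, πf x ∈ LinearMap.range f := by
    intro x
    rw [← hfg.linearMap_ker_eq, LinearMap.mem_ker]
    change g (x - σ (g x)) = 0
    rw [map_sub, hσ1, sub_self]
  have hπf2 : ∀ x ∈ LinearMap.range f, πf x = x := by
    rintro _ ⟨z, rfl⟩
    change f z - σ (g (f z)) = f z
    rw [g_f f g hfg, map_zero, sub_zero]
  -- F' ≤ F ⊔ 𝔫 H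
  have hF'le : ∀ x ∈ F', x ∈ F ⊔ 𝔫 • (⊤ : Submodule R H) := by
    intro x hx
    apply mem_sup_of_one_tmul_mem
    rw [← hbc]
    exact Submodule.tmul_mem_baseChange_of_mem _ hx
  -- key: δ y ∈ F₁ ⊔ 𝔫 H₁
  have hδmem : ∀ y : F₂, ∃ t ∈ F₁, ∃ n₁ ∈ 𝔫 • (⊤ : Submodule R H₁), δ y = t + n₁ := by
    intro y
    obtain ⟨x, hx, m, hm, hxm⟩ := Submodule.mem_sup.1 (hF'le _ (s' y).2)
    -- g m ∈ 𝔫 F₂
    have hgm : g m ∈ 𝔫 • F₂ := by
      refine mem_smul_of_retraction 𝔫 F₂ π₂ hπ₂1 hπ₂2 ?_ (map_mem_smul_top 𝔫 g hm)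
      have : g m = y.1 - g x := by
        rw [← hs'1 y, ← hxm, map_add]; abel
      rw [this]
      exact sub_mem y.2 (hgF ⟨x, hx⟩)
    -- lift to m₂ ∈ 𝔫 F
    have hgm' : g m ∈ Submodule.map g (𝔫 • F) := by
      rw [Submodule.map_smul'', hF4]; exact hgm
    obtain ⟨m₂, hm₂, hm₂e⟩ := hgm'
    have hm₂F : m₂ ∈ F := Submodule.smul_le_right hm₂
    have hm₂n : m₂ ∈ 𝔫 • (⊤ : Submodule R H) := Submodule.smul_mono le_rfl le_top hm₂
    -- m - m₂ ∈ range f ∩ 𝔫 H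
    have h1 : m - m₂ ∈ LinearMap.range f := by
      rw [← hfg.linearMap_ker_eq, LinearMap.mem_ker, map_sub, hm₂e, sub_self]
    have h2 : m - m₂ ∈ 𝔫 • LinearMap.range f :=
      mem_smul_of_retraction 𝔫 _ πf hπf1 hπf2 h1 (sub_mem hm hm₂n)
    have h3 : m - m₂ ∈ Submodule.map f (𝔫 • (⊤ : Submodule R H₁)) := by
      rw [Submodule.map_smul'', Submodule.map_top]; exact h2
    obtain ⟨n₁, hn₁, hn₁e⟩ := h3
    -- x₂ := x + m₂ ∈ F with g x₂ = y
    have hx₂' : x + m₂ - (s y).1 ∈ LinearMap.range f := by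
      rw [← hfg.linearMap_ker_eq, LinearMap.mem_ker, map_sub, hs1, map_add, hm₂e, ← map_add, hxm,
        hs'1, sub_self]
    have hx₂ : x + m₂ - (s y).1 ∈ F ⊓ LinearMap.range f :=
      Submodule.mem_inf.2 ⟨sub_mem (add_mem hx hm₂F) (s y).2, hx₂'⟩
    rw [hF2] at hx₂
    obtain ⟨t, ht, hte⟩ := hx₂
    refine ⟨t, ht, n₁, hn₁, ?_⟩
    apply hf
    rw [hδ, map_add, hte, hn₁e, ← hxm]
    abel
  -- define u
  let u₀ : F₂ →ₗ[R] H₁ := (LinearMap.id - π₁) ∘ₗ δ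
  let u : H₂ →ₗ[R] H₁ := u₀ ∘ₗ π₂.codRestrict F₂ hπ₂1
  have hu₀ : ∀ y : F₂, u₀ y ∈ 𝔫 • (⊤ : Submodule R H₁) := by
    intro y
    obtain ⟨t, ht, n₁, hn₁, he⟩ := hδmem y
    change δ y - π₁ (δ y) ∈ _
    rw [he, map_add, hπ₁2 t ht]
    have : t + n₁ - (t + π₁ n₁) = (LinearMap.id - π₁ : H₁ →ₗ[R] H₁) n₁ := by
      simp only [LinearMap.sub_apply, LinearMap.id_apply]; abel
    rw [this]
    exact map_mem_smul_top 𝔫 _ hn₁
  have hu_F₂ : ∀ y : F₂, u y.1 = u₀ y := by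
    intro y
    change u₀ (π₂.codRestrict F₂ hπ₂1 y.1) = u₀ y
    congr 1
    apply Subtype.ext
    exact hπ₂2 y.1 y.2
  have hfu₀ : ∀ y : F₂, f (u₀ y) = (s' y).1 - (s y).1 - f (π₁ (δ y)) := by
    intro y
    change f (δ y - π₁ (δ y)) = _
    rw [map_sub, hδ]
  have hfF₁F : ∀ t ∈ F₁, f t ∈ F := fun t ht =>
    (hF2 ▸ (⟨t, ht, rfl⟩ : f t ∈ Submodule.map f F₁) : f t ∈ F ⊓ LinearMap.range f).1
  have hfF₁F' : ∀ t ∈ F₁, f t ∈ F' := fun t ht =>
    (hF'2 ▸ (⟨t, ht, rfl⟩ : f t ∈ Submodule.map f F₁) : f t ∈ F' ⊓ LinearMap.range f).1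
  refine ⟨u, fun y => hu₀ _, ?_⟩
  apply le_antisymm
  · -- F' ≤ map φ F
    intro x' hx'
    let y : F₂ := ⟨g x', hgF' ⟨x', hx'⟩⟩
    have h1' : x' - (s' y).1 ∈ LinearMap.range f := by
      rw [← hfg.linearMap_ker_eq, LinearMap.mem_ker, map_sub, hs'1, sub_self]
    have h1 : x' - (s' y).1 ∈ F' ⊓ LinearMap.range f :=
      Submodule.mem_inf.2 ⟨sub_mem hx' (s' y).2, h1'⟩
    rw [hF'2] at h1
    obtain ⟨t, ht, hte⟩ := h1
    -- x' = φ (f t + s y + f (π₁ (δ y)))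
    refine ⟨f t + (s y).1 + f (π₁ (δ y)), ?_, ?_⟩
    · exact add_mem (add_mem (hfF₁F t ht) (s y).2) (hfF₁F _ (hπ₁1 _))
    · change phi f g u _ = x'
      have hgy : g (f t + (s y).1 + f (π₁ (δ y))) = y.1 := by
        rw [map_add, map_add, g_f f g hfg t, g_f f g hfg (π₁ (δ y)), zero_add, add_zero, hs1]
      rw [phi_apply, hgy, hu_F₂ y, hfu₀ y, hte]
      abel
  · -- map φ F ≤ F'
    rintro _ ⟨x, hx, rfl⟩
    let y : F₂ := ⟨g x, hgF ⟨x, hx⟩⟩
    have h1' : x - (s y).1 ∈ LinearMap.range f := by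
      rw [← hfg.linearMap_ker_eq, LinearMap.mem_ker, map_sub, hs1, sub_self]
    have h1 : x - (s y).1 ∈ F ⊓ LinearMap.range f :=
      Submodule.mem_inf.2 ⟨sub_mem hx (s y).2, h1'⟩
    rw [hF2] at h1
    obtain ⟨t, ht, hte⟩ := h1
    change phi f g u x ∈ F'
    have : phi f g u x = f t + (s' y).1 - f (π₁ (δ y)) := by
      rw [phi_apply, show g x = y.1 from rfl, hu_F₂ y, hfu₀ y, hte]
      abel
    rw [this]
    exact sub_mem (add_mem (hfF₁F' t ht) (s' y).2) (hfF₁F' _ (hπ₁1 _))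

end main

open TensorProduct in
/-- For a commutative local Artinian ring R and an exact sequence 0 → H₁ → H → H₂ → 0 of finite free
R-modules, let F₁ ⊆ H₁ and F₂ ⊆ H₂ be submodules with free quotients, 𝔫 an ideal of R of square
zero, R̄ = R/𝔫, and F̄ ⊆ H̄ = R̄ ⊗ H an R̄-submodule with free quotient meeting the image of R̄ ⊗ H₁
in the image of R̄ ⊗ F₁ and mapping onto the image of R̄ ⊗ F₂; let L be the set of direct summands F
of H with F ∩ H₁ = F₁, with image F̄ in H̄ and with image F₂ in H₂. Then L is a torsor under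
Hom_R(F₂, 𝔫(H₁/F₁)), acting as follows: an R-linear u : H₂ → H₁ with u(H₂) ⊆ 𝔫H₁ moves F ∈ L to the
image of F under x ↦ x + f(u(g(x))). Precisely, for F ∈ L: (1) that image again lies in L; (2) it
equals F if and only if u(F₂) ⊆ 𝔫F₁; (3) every F' ∈ L is obtained from F in this way for some such
u. (The published statement phrases the torsor under the R̄-linear maps from F̄₂ to 𝔫 ⊗ (H̄₁/F̄₁), a
group identified with the maps u as above modulo those with u(F₂) ⊆ 𝔫F₁, and describes the action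
through a lift F₂ → 𝔫 ⊗ H₁ composed with F → F/F₁ ≅ F₂; restricted to F this is x ↦ f(u(g(x))).) -/
theorem result
    (R : Type u) [CommRing R] [IsArtinianRing R] [IsLocalRing R]
    (H₁ : Type v) (H : Type v) (H₂ : Type v)
    [AddCommGroup H₁] [Module R H₁] [AddCommGroup H] [Module R H] [AddCommGroup H₂] [Module R H₂]
    [Module.Free R H₁] [Module.Finite R H₁] [Module.Free R H] [Module.Finite R H]
    [Module.Free R H₂] [Module.Finite R H₂]
    (f : H₁ →ₗ[R] H) (g : H →ₗ[R] H₂) (hf : Function.Injective f) (hg : Function.Surjective g)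
    (hfg : Function.Exact f g)
    (F₁ : Submodule R H₁) (F₂ : Submodule R H₂) [Module.Free R (H₁ ⧸ F₁)] [Module.Free R (H₂ ⧸ F₂)]
    (𝔫 : Ideal R) (hn : 𝔫 * 𝔫 = ⊥)
    (Fb : Submodule (R ⧸ 𝔫) ((R ⧸ 𝔫) ⊗[R] H))
    [Module.Free (R ⧸ 𝔫) (((R ⧸ 𝔫) ⊗[R] H) ⧸ Fb)]
    (h1 : Fb ⊓ LinearMap.range (f.baseChange (R ⧸ 𝔫)) =
      Submodule.map (f.baseChange (R ⧸ 𝔫)) (F₁.baseChange (R ⧸ 𝔫)))
    (h2 : Submodule.map (g.baseChange (R ⧸ 𝔫)) Fb = F₂.baseChange (R ⧸ 𝔫))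
    (F F' : Submodule R H)
    (hF : (∃ C : Submodule R H, IsCompl (F) C) ∧
      (F) ⊓ LinearMap.range f = Submodule.map f F₁ ∧
      Submodule.baseChange (R ⧸ 𝔫) (F) = Fb ∧ Submodule.map g (F) = F₂)
    (hF' : (∃ C : Submodule R H, IsCompl (F') C) ∧
      (F') ⊓ LinearMap.range f = Submodule.map f F₁ ∧
      Submodule.baseChange (R ⧸ 𝔫) (F') = Fb ∧ Submodule.map g (F') = F₂) :
    (∀ u : H₂ →ₗ[R] H₁, (∀ y : H₂, u y ∈ 𝔫 • (⊤ : Submodule R H₁)) →
      (∃ C : Submodule R H, IsCompl (Submodule.map (LinearMap.id + f ∘ₗ u ∘ₗ g) F) C) ∧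
      (Submodule.map (LinearMap.id + f ∘ₗ u ∘ₗ g) F) ⊓ LinearMap.range f = Submodule.map f F₁ ∧
      Submodule.baseChange (R ⧸ 𝔫) (Submodule.map (LinearMap.id + f ∘ₗ u ∘ₗ g) F) = Fb ∧ Submodule.map g (Submodule.map (LinearMap.id + f ∘ₗ u ∘ₗ g) F) = F₂) ∧
    (∀ u : H₂ →ₗ[R] H₁, (∀ y : H₂, u y ∈ 𝔫 • (⊤ : Submodule R H₁)) →
      (Submodule.map (LinearMap.id + f ∘ₗ u ∘ₗ g) F = F ↔ ∀ y ∈ F₂, u y ∈ 𝔫 • F₁)) ∧
    (∃ u : H₂ →ₗ[R] H₁, (∀ y : H₂, u y ∈ 𝔫 • (⊤ : Submodule R H₁)) ∧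
      F' = Submodule.map (LinearMap.id + f ∘ₗ u ∘ₗ g) F) := by
  obtain ⟨hFa, hFb, hFc, hFd⟩ := hF
  obtain ⟨hF'a, hF'b, hF'c, hF'd⟩ := hF'
  refine ⟨fun u hu => ⟨part1a f g hfg F u hFa, part1b f g hfg F₁ F hFb u, ?_,
    part1d f g hfg F₂ F hFd u⟩, fun u hu => part2 f g hf hfg F₁ F₂ 𝔫 F hFb hFd u hu, ?_⟩
  · rw [part1c f g hfg 𝔫 F u hu, hFc]
  · exact part3 f g hf hg hfg F₁ F₂ 𝔫 F hFb hFd F' hF'b hF'd (hF'c.trans hFc.symm)

end Groth.Agent.S16420
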