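import Groth.Statements.S16421
import Mathlib
import Groth.Agent.S16000
-- import your own Groth.Agent.* helpers here

set_option autoImplicit false
set_option linter.unusedSectionVars false
universe u
open FrobAlg

namespace Groth.Agent.S16421

open TensorProduct
open Groth.Agent.S16000

attribute [local instance] Groth.Agent.S16000.pcAlg

section

variable (p : ℕ) [Fact p.Prime] (R : Type u) [CommRing R] [CharP R p]

theorem flat_pc [Module.Projective R (FrobAlg.Twist p R)] :
    Module.Flat R (PerfectClosure R p) := by
  rw [Module.Flat.iff_lTensor_preserves_injective_linearMap]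
  intro N N' _ _ _ _ L hL
  rw [injective_iff_map_eq_zero]
  intro z hz
  obtain ⟨n, zn, rfl⟩ := exists_rTensor_iota p R N z
  have h1 : LinearMap.lTensor (Tw p R n) L zn = 0 := by
    rw [← LinearMap.comp_apply, LinearMap.lTensor_comp_rTensor,
      ← LinearMap.rTensor_comp_lTensor, LinearMap.comp_apply] at hz
    obtain ⟨m, h, hm⟩ := exists_step_eq_zero p R N' n _ hz
    exact rTensor_step_injective p R N' n m h (hm.trans (map_zero _).symm)
  have := projective_tw p R n
  have h2 : zn = 0 :=
    Module.Flat.lTensor_preserves_injective_linearMap (M := Tw p R n) L hL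
      (h1.trans (map_zero _).symm)
  rw [h2, map_zero]

theorem mem_of_smul_top (I : Ideal R) (y : PerfectClosure R p)
    (hy : y ∈ I • (⊤ : Submodule R (PerfectClosure R p))) :
    ∃ n, ∃ s ∈ I, y = PerfectClosure.mk R p (n, s) := by
  refine Submodule.smul_induction_on hy (fun r hr t _ => ?_) (fun a b ha hb => ?_)
  · induction t using PerfectClosure.induction_on with
    | h w =>
      obtain ⟨n, s⟩ := w
      refine ⟨n, (frobenius R p)^[n] r * s, I.mul_mem_right _ ?_, ?_⟩
      · rw [iterate_frobenius]
        exact I.pow_mem_of_mem hr _ (pow_pos (Fact.out : p.Prime).pos _)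
      · rw [smul_pc, PerfectClosure.of_apply, PerfectClosure.mk_mul_mk]
        dsimp only
        rw [zero_add, Function.iterate_zero, id]
  · obtain ⟨n, s, hs, rfl⟩ := ha
    obtain ⟨m, t, ht, rfl⟩ := hb
    refine ⟨n + m, (frobenius R p)^[m] s + (frobenius R p)^[n] t, I.add_mem ?_ ?_, ?_⟩
    · rw [iterate_frobenius]
      rcases Nat.eq_zero_or_pos m with h | h
      · subst h; simpa using hs
      · exact I.pow_mem_of_mem hs _ (pow_pos (Fact.out : p.Prime).pos _)
    · rw [iterate_frobenius]
      exact I.pow_mem_of_mem ht _ (pow_pos (Fact.out : p.Prime).pos _)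
    · rw [PerfectClosure.mk_add_mk]

theorem faithfullyFlat_pc [Module.Projective R (FrobAlg.Twist p R)] :
    Module.FaithfullyFlat R (PerfectClosure R p) := by
  have := flat_pc p R
  rw [Module.FaithfullyFlat.iff_flat_and_proper_ideal]
  refine ⟨inferInstance, ?_⟩
  intro I hI htop
  apply hI
  rw [Ideal.eq_top_iff_one]
  have h1 : (1 : PerfectClosure R p) ∈ I • (⊤ : Submodule R (PerfectClosure R p)) := by
    rw [htop]; trivial
  obtain ⟨n, s, hs, h⟩ := mem_of_smul_top p R I 1 h1
  rw [PerfectClosure.one_def, PerfectClosure.mk_eq_iff] at h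
  obtain ⟨k, hk⟩ := h
  dsimp only at hk
  rw [iterate_map_one, iterate_frobenius] at hk
  have : s ^ p ^ (0 + k) ∈ I := I.pow_mem_of_mem hs _ (pow_pos (Fact.out : p.Prime).pos _)
  rwa [← hk] at this

end

/-- Let p be a prime and R a commutative ring of characteristic p with a p-basis (x_i), meaning that the
monomials ∏ x_i^(e i) with every exponent e i < p form a basis of R as a module over itself through
the Frobenius, i.e. the map sending a finitely supported family of coefficients c to ∑_e (c e)^p · ∏
x_i^(e i) is a bijection onto R. Then the canonical ring map from R to its perfect closure is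
faithfully flat. -/
theorem result (p : ℕ) [Fact p.Prime]
    (R : Type u) [CommRing R] [CharP R p] (ι : Type u) (x : ι → R)
    (hx : Function.Bijective
      (fun c : {e : ι →₀ ℕ // ∀ i, e i < p} →₀ R =>
        c.sum (fun e r => r ^ p * e.1.prod (fun i n => x i ^ n)))) :
    (PerfectClosure.of R p).FaithfullyFlat := by
  classical
  -- the linear equivalence
  let φ : ({e : ι →₀ ℕ // ∀ i, e i < p} →₀ R) →ₗ[R] FrobAlg.Twist p R :=
    { toFun := fun c => FrobAlg.toTwist p R
        (c.sum (fun e r => r ^ p * e.1.prod (fun i n => x i ^ n)))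
      map_add' := by
        intro c d
        rw [← map_add]
        congr 1
        rw [Finsupp.sum_add_index']
        · intro e; simp [zero_pow (Fact.out : p.Prime).ne_zero]
        · intro e r s; rw [add_pow_char, add_mul]
      map_smul' := by
        intro r c
        rw [RingHom.id_apply, Algebra.smul_def, FrobAlg.algebraMap_twist, ← map_mul]
        congr 1
        rw [Finsupp.sum_smul_index', Finsupp.mul_sum]
        · refine Finsupp.sum_congr (fun e _ => ?_)
          rw [smul_eq_mul, mul_pow, mul_assoc]
        · intro e; simp [zero_pow (Fact.out : p.Prime).ne_zero] }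
  have hφ : Function.Bijective φ := (FrobAlg.toTwist p R).bijective.comp hx
  have hfree : Module.Free R (FrobAlg.Twist p R) :=
    Module.Free.of_equiv (LinearEquiv.ofBijective φ hφ)
  have hproj : Module.Projective R (FrobAlg.Twist p R) := inferInstance
  exact faithfullyFlat_pc p R

end Groth.Agent.S16421
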