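import Groth.Statements.S16432
import Mathlib
import Groth.Agent.Lib.Helper12.NormalInterE
import Groth.Agent.S16438

set_option autoImplicit false
universe u
open EGA4loc

namespace Groth.Agent.S16432

/-- Let A be an excellent normal local domain and S a strict henselization of A; let D be an
A-subalgebra of S which is a local ring dominated by S (the inclusion is a local homomorphism), an
integrally closed domain, and whose fraction field is generated as a field over the image of A by
finitely many elements of D. Then D is an essentially etale local A-algebra: A-isomorphic to the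
localization of an etale A-algebra at a prime ideal over the maximal ideal of A. -/
theorem result
    (A S : Type u) [CommRing A] [IsLocalRing A] [IsDomain A] [IsIntegrallyClosed A]
    (hA : EGA4.IsExcellent A) [CommRing S] [IsLocalRing S] [Algebra A S] [IsLocalHom (algebraMap A S)]
    [Hensel.IsStrictHenselization A S] (D : Subalgebra A S) [IsLocalRing D]
    [IsLocalHom (algebraMap D S)] [IsDomain D] [IsIntegrallyClosed D]
    (hfg : ∃ s : Finset D, Subfield.closure (Set.range (algebraMap A (FractionRing D)) ∪
        (algebraMap D (FractionRing D)) '' (s : Set D)) = ⊤) :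
    EGA4loc.IsEssentiallyEtale A D := by
  classical
  haveI : IsNoetherianRing A := hA.1
  obtain ⟨hSdom, -⟩ := Groth.Agent.Lib.Helper12.NormalInter.isDomain_strict A S
  obtain ⟨s, hfg⟩ := hfg
  obtain ⟨E, hsE, hEloc, hEet, hEu, hdiv⟩ :=
    Groth.Agent.Lib.Helper12.StrictStruct.exists_essEtale_subalgebra' A S
      (s.image (fun d : D => (d : S)))
  have hDE : D ≤ E := Groth.Agent.Lib.Helper12.NormalInter.le_of_closure_eq_top D E hdiv s
    (fun d hd => hsE _ (Finset.mem_image_of_mem _ hd)) hfg
  letI : Algebra D E := (Subalgebra.inclusion hDE).toRingHom.toAlgebra
  haveI : IsScalarTower A D E := IsScalarTower.of_algebraMap_eq (fun a => rfl)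
  haveI : IsLocalHom (algebraMap D E) := ⟨fun d hd => by
    have h1 : IsUnit ((algebraMap D E d : E) : S) := hd.map E.val
    exact (inferInstance : IsLocalHom (algebraMap D S)).map_nonunit d h1⟩
  have hinj : Function.Injective (algebraMap D E) := Subalgebra.inclusion_injective hDE
  obtain ⟨hft, hm⟩ := Groth.Agent.Lib.Helper12.NormalInter.core A D E hinj hEet
  exact Groth.Agent.S16438.result A S D hm

end Groth.Agent.S16432
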