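import Groth.Statements.S16433
import Mathlib
import Groth.Agent.Lib.Helper12.NormalInterF
import Groth.Agent.S16438

set_option autoImplicit false
universe u
open EGA4loc

namespace Groth.Agent.S16433

/-- Let A be an excellent normal local domain and S a strict henselization of A; let D be an
A-subalgebra of S which is a local ring dominated by S (the inclusion is a local homomorphism) and
an integrally closed domain. Then D is a directed union of local etale extensions of A: every finite
subset of D is contained in an A-subalgebra D' of S with D' contained in D, D' a local ring whose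
inclusion into S is local, and D' an essentially etale local A-algebra (a localization of an etale
A-algebra at a prime over the maximal ideal). -/
theorem result
    (A S : Type u) [CommRing A] [IsLocalRing A] [IsDomain A] [IsIntegrallyClosed A]
    (hA : EGA4.IsExcellent A) [CommRing S] [IsLocalRing S] [Algebra A S] [IsLocalHom (algebraMap A S)]
    [Hensel.IsStrictHenselization A S] (D : Subalgebra A S) [IsLocalRing D]
    [IsLocalHom (algebraMap D S)] [IsDomain D] [IsIntegrallyClosed D]
    (s : Finset S) (hs : (s : Set S) ⊆ (D : Set S)) :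
    ∃ D' : Subalgebra A S, D' ≤ D ∧ (s : Set S) ⊆ (D' : Set S) ∧
      ∃ _ : IsLocalRing D', IsLocalHom (algebraMap D' S) ∧ EGA4loc.IsEssentiallyEtale A D' := by
  classical
  haveI : IsNoetherianRing A := hA.1
  obtain ⟨hSdom, -⟩ := Groth.Agent.Lib.Helper12.NormalInter.isDomain_strict A S
  obtain ⟨E, hsE, hEloc, hEet, hEu⟩ :=
    Groth.Agent.Lib.Helper12.StrictStruct.exists_essEtale_subalgebra A S s
  haveI := hEloc
  haveI : Module.Flat A E := Groth.Agent.Lib.Helper12.flat_of_isEssentiallyEtale hEet
  obtain ⟨hEdom, hEic⟩ := Groth.Agent.Lib.Helper12.NormalEtale.ascend A E (fun t =>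
    ⟨E, inferInstance, inferInstance, AlgHom.id A E, hEet, Function.injective_id,
      fun x _ => ⟨x, rfl⟩⟩)
  have hDu : ∀ x : D, IsUnit (x : S) → IsUnit x := fun x hx =>
    (inferInstance : IsLocalHom (algebraMap D S)).map_nonunit x hx
  have hloc' : ∀ x : (D ⊓ E : Subalgebra A S), IsUnit (x : S) → IsUnit x :=
    Groth.Agent.Lib.Helper12.NormalInter.isUnit_inf D E hDu hEu
  haveI hlh : IsLocalHom (algebraMap (D ⊓ E : Subalgebra A S) S) := ⟨hloc'⟩
  haveI hlr : IsLocalRing (D ⊓ E : Subalgebra A S) :=
    RingHom.domain_isLocalRing (algebraMap (D ⊓ E : Subalgebra A S) S)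
  haveI : IsIntegrallyClosed (D ⊓ E : Subalgebra A S) :=
    Groth.Agent.Lib.Helper12.NormalInter.isIntegrallyClosed_inf D E
  have hDE : (D ⊓ E : Subalgebra A S) ≤ E := inf_le_right
  letI : Algebra (D ⊓ E : Subalgebra A S) E := (Subalgebra.inclusion hDE).toRingHom.toAlgebra
  haveI : IsScalarTower A (D ⊓ E : Subalgebra A S) E :=
    IsScalarTower.of_algebraMap_eq (fun a => rfl)
  haveI : IsLocalHom (algebraMap (D ⊓ E : Subalgebra A S) E) := ⟨fun d hd => by
    have h1 : IsUnit ((algebraMap (D ⊓ E : Subalgebra A S) E d : E) : S) := hd.map E.val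
    exact hloc' d h1⟩
  have hinj : Function.Injective (algebraMap (D ⊓ E : Subalgebra A S) E) :=
    Subalgebra.inclusion_injective hDE
  obtain ⟨hft, hm⟩ := Groth.Agent.Lib.Helper12.NormalInter.core A (D ⊓ E : Subalgebra A S) E
    hinj hEet
  refine ⟨D ⊓ E, inf_le_left, fun x hx => ⟨hs hx, hsE x hx⟩, hlr, hlh, ?_⟩
  exact Groth.Agent.S16438.result A S (D ⊓ E) hm

end Groth.Agent.S16433
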