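import Groth.Statements.S16443
import Groth.Agent.Lib.Helper12.TotalFrac4
import Groth.Agent.Lib.Helper12.EssEtaleFlat

set_option autoImplicit false
universe u
open EGA4loc

namespace Groth.Agent.S16443

/-- Let A be a reduced local ring with finitely many minimal prime ideals, E a local ring which is an
essentially etale local A-algebra with local structure map, K_E the total ring of fractions of E,
and L an A-subalgebra of K_E containing an inverse of the image of every non-zero-divisor of A (so L
is an intermediate ring between the total rings of fractions of A and of E). Then the preimage D of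
L in E is (the underlying set of) an A-subalgebra of E which is a local ring with local inclusion
into E — its maximal ideal lies under that of E — and L is the total ring of fractions of D in the
sense that every element of L is the image of an element of D times the inverse of the image of a
non-zero-divisor of A. -/
theorem result
    (A E : Type u) [CommRing A] [IsLocalRing A] [IsReduced A] (hmin : (minimalPrimes A).Finite)
    [CommRing E] [IsLocalRing E] [Algebra A E] [IsLocalHom (algebraMap A E)]
    (hE : EGA4loc.IsEssentiallyEtale A E) (L : Subalgebra A (FractionRing E))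
    (hL : ∀ s ∈ nonZeroDivisors A, ∃ y ∈ L, algebraMap A (FractionRing E) s * y = 1) :
    ∃ D : Subalgebra A E, (D : Set E) = (algebraMap E (FractionRing E)) ⁻¹' (L : Set (FractionRing E)) ∧
      ∃ _ : IsLocalRing D, IsLocalHom (algebraMap D E) ∧
        ∀ l ∈ L, ∃ d ∈ D, ∃ s ∈ nonZeroDivisors A, ∃ y ∈ L,
          algebraMap A (FractionRing E) s * y = 1 ∧ l = algebraMap E (FractionRing E) d * y := by
  open Groth.Agent.Lib.Helper12 Groth.Agent.Lib.Helper12.TotalFrac in
  haveI := flat_of_isEssentiallyEtale hE
  haveI := quasiFinite_of_isEssentiallyEtale hE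
  let ι : E →ₐ[A] FractionRing E := IsScalarTower.toAlgHom A E (FractionRing E)
  let D : Subalgebra A E := L.comap ι
  have hmemD : ∀ x : E, x ∈ D ↔ algebraMap E (FractionRing E) x ∈ L := fun x => Iff.rfl
  -- units of E lying in D are units of D
  have hunit : ∀ d : D, IsUnit (d : E) → IsUnit d := by
    intro d hd
    obtain ⟨u, hu⟩ := hd.exists_right_inv
    obtain ⟨y, hy, hxy⟩ := exists_inv_mem_of_forall_inv A E hmin L hL
      ((hmemD d).mp d.2) (hd.map (algebraMap E (FractionRing E)))
    have huy : algebraMap E (FractionRing E) u = y := by
      have h1 : algebraMap E (FractionRing E) (d : E) * algebraMap E (FractionRing E) u = 1 := by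
        rw [← map_mul, hu, map_one]
      calc algebraMap E (FractionRing E) u
          = (algebraMap E (FractionRing E) (d : E) * y) * algebraMap E (FractionRing E) u := by
            rw [hxy, one_mul]
        _ = y * (algebraMap E (FractionRing E) (d : E) * algebraMap E (FractionRing E) u) := by ring
        _ = y := by rw [h1, mul_one]
    have huD : u ∈ D := (hmemD u).mpr (huy ▸ hy)
    exact IsUnit.of_mul_eq_one (⟨u, huD⟩ : D) (Subtype.ext hu)
  have hloc : IsLocalRing D := by
    haveI : Nontrivial D := inferInstance
    refine IsLocalRing.of_isUnit_or_isUnit_one_sub_self fun d => ?_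
    rcases IsLocalRing.isUnit_or_isUnit_one_sub_self (d : E) with h | h
    · exact Or.inl (hunit d h)
    · exact Or.inr (hunit (1 - d) h)
  refine ⟨D, rfl, hloc, ⟨fun d hd => hunit d hd⟩, ?_⟩
  intro l hl
  haveI := isLocalization_map_nonZeroDivisors A E hmin
  obtain ⟨⟨e, s'⟩, hes⟩ := IsLocalization.surj ((nonZeroDivisors A).map (algebraMap A E)) l
  obtain ⟨s, hs, hs'⟩ := s'.2
  obtain ⟨y, hy, hsy⟩ := hL s hs
  have hs'' : algebraMap E (FractionRing E) (s' : E) = algebraMap A (FractionRing E) s := by
    rw [← hs']; exact (IsScalarTower.algebraMap_apply A E (FractionRing E) s).symm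
  have hes' : l * algebraMap A (FractionRing E) s = algebraMap E (FractionRing E) e := by
    rw [← hs'']; exact hes
  refine ⟨e, ?_, s, hs, y, hy, hsy, ?_⟩
  · rw [hmemD, ← hes']
    exact L.mul_mem hl (L.algebraMap_mem s)
  · rw [← hes', mul_assoc, hsy, mul_one]

end Groth.Agent.S16443
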