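import Groth.Statements.S16452
-- import your own Groth.Agent.* helpers here

set_option autoImplicit false
universe u
open CAlg

namespace Groth.Agent.S16452

section aux

open AssocGr Polynomial

universe v

section crit
variable {A : Type u} {B : Type v} [CommRing A] [CommRing B] {φ : A →+* B}
  {𝓕 : FiltBl.IdealFiltration A} {𝓖 : FiltBl.IdealFiltration B}

private theorem map_injective_of (h : IsFiltHom φ 𝓕 𝓖)
    (H : ∀ n a, a ∈ 𝓕.F n → φ a ∈ 𝓖.F (n + 1) → a ∈ 𝓕.F (n + 1)) :
    Function.Injective (AssocGr.map h) := by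
  rw [injective_iff_map_eq_zero]
  intro x hx
  obtain ⟨f, rfl⟩ := mkG_surjective 𝓕 x
  rw [map_mkG, mkG_eq_zero_iff, mem_succIdeal_iff] at hx
  rw [mkG_eq_zero_iff, mem_succIdeal_iff]
  intro n
  have := hx n
  rw [coe_reesMap, Polynomial.coeff_map] at this
  exact H n _ (f.2 n) this

private theorem map_surjective_of (h : IsFiltHom φ 𝓕 𝓖)
    (H : ∀ n b, b ∈ 𝓖.F n → ∃ a ∈ 𝓕.F n, φ a - b ∈ 𝓖.F (n + 1)) :
    Function.Surjective (AssocGr.map h) := by
  intro y
  obtain ⟨g, rfl⟩ := mkG_surjective 𝓖 y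
  rw [← RingHom.mem_range, ← sum_term 𝓖 g, map_sum]
  refine Subring.sum_mem _ fun n _ => ?_
  rw [mkG_term]
  obtain ⟨a, ha, hab⟩ := H n _ (g.2 n)
  refine ⟨(inDeg 𝓕 n ⟨a, ha⟩ : GrRing 𝓕), ?_⟩
  rw [map_inDeg]
  congr 1
  rw [← sub_eq_zero, ← map_sub, inDeg_eq_zero_iff]
  exact hab

end crit

variable (R : Type u) [CommRing R] (S : Type u) [CommRing S] [Algebra R S] (J : Ideal S)

private noncomputable def gg (n : ℕ) : (R ⧸ (J.comap (algebraMap R S)) ^ (n + 1)) →ₐ[R] S ⧸ J :=
  Ideal.Quotient.liftₐ _ (Algebra.ofId R (S ⧸ J)) (by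
    intro a ha
    have : a ∈ J.comap (algebraMap R S) := Ideal.pow_le_self (by omega) ha
    rw [Algebra.ofId_apply, IsScalarTower.algebraMap_apply R S (S ⧸ J), Ideal.Quotient.algebraMap_eq,
      Ideal.Quotient.eq_zero_iff_mem]
    exact this)

private theorem gg_mk (n : ℕ) (a : R) : gg R S J n (Ideal.Quotient.mk _ a) = algebraMap R (S ⧸ J) a := rfl

private theorem gg_surj (hJ : Function.Surjective (algebraMap R (S ⧸ J))) (n : ℕ) :
    Function.Surjective (gg R S J n) := by
  intro y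
  obtain ⟨a, rfl⟩ := hJ y
  exact ⟨Ideal.Quotient.mk _ a, rfl⟩

private theorem gg_ker_le (n : ℕ) : RingHom.ker (gg R S J n : _ →+* S ⧸ J) ≤
    (J.comap (algebraMap R S)).map (Ideal.Quotient.mk ((J.comap (algebraMap R S)) ^ (n + 1))) := by
  intro x hx
  obtain ⟨a, rfl⟩ := Ideal.Quotient.mk_surjective x
  rw [RingHom.mem_ker] at hx
  change gg R S J n (Ideal.Quotient.mk _ a) = 0 at hx
  rw [gg_mk, IsScalarTower.algebraMap_apply R S (S ⧸ J), Ideal.Quotient.algebraMap_eq,
    Ideal.Quotient.eq_zero_iff_mem] at hx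
  exact Ideal.mem_map_of_mem _ hx

private theorem gg_nil (n : ℕ) : IsNilpotent (RingHom.ker (gg R S J n : (R ⧸ (J.comap (algebraMap R S)) ^ (n + 1)) →+* S ⧸ J)) := by
  refine ⟨n + 1, ?_⟩
  rw [Ideal.zero_eq_bot, ← le_bot_iff]
  refine (Ideal.pow_right_mono (gg_ker_le R S J n) (n + 1)).trans ?_
  rw [← Ideal.map_pow, Ideal.map_quotient_self]

variable [Algebra.FormallyEtale R S]

private noncomputable def psi (hJ : Function.Surjective (algebraMap R (S ⧸ J))) (n : ℕ) :
    S →ₐ[R] (R ⧸ (J.comap (algebraMap R S)) ^ (n + 1)) :=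
  Algebra.FormallySmooth.liftOfSurjective (Ideal.Quotient.mkₐ R J) (gg R S J n) (gg_surj R S J hJ n)
    (gg_nil R S J n)

private theorem psi_spec (hJ : Function.Surjective (algebraMap R (S ⧸ J))) (n : ℕ) (s : S) :
    gg R S J n (psi R S J hJ n s) = Ideal.Quotient.mk J s :=
  Algebra.FormallySmooth.liftOfSurjective_apply _ _ _ _ s

private theorem psi_pow (hJ : Function.Surjective (algebraMap R (S ⧸ J))) (n k : ℕ) (s : S) (hs : s ∈ J ^ k) :
    psi R S J hJ n s ∈ ((J.comap (algebraMap R S)) ^ k).map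
      (Ideal.Quotient.mk ((J.comap (algebraMap R S)) ^ (n + 1))) := by
  have h1 : J.map (psi R S J hJ n) ≤ (J.comap (algebraMap R S)).map
      (Ideal.Quotient.mk ((J.comap (algebraMap R S)) ^ (n + 1))) := by
    rw [Ideal.map_le_iff_le_comap]
    intro t ht
    rw [Ideal.mem_comap]
    apply gg_ker_le R S J n
    rw [RingHom.mem_ker]
    change gg R S J n (psi R S J hJ n t) = 0
    rw [psi_spec, Ideal.Quotient.eq_zero_iff_mem]
    exact ht
  have h2 := Ideal.pow_right_mono h1 k
  rw [← Ideal.map_pow, ← Ideal.map_pow] at h2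
  exact h2 (Ideal.mem_map_of_mem _ hs)

private theorem psi_alg (hJ : Function.Surjective (algebraMap R (S ⧸ J))) (n : ℕ) (a : R) :
    psi R S J hJ n (algebraMap R S a) = Ideal.Quotient.mk _ a :=
  (psi R S J hJ n).commutes a

private theorem inj_key (hJ : Function.Surjective (algebraMap R (S ⧸ J))) (n : ℕ) (a : R)
    (ha : algebraMap R S a ∈ J ^ (n + 1)) : a ∈ (J.comap (algebraMap R S)) ^ (n + 1) := by
  have := psi_pow R S J hJ n (n + 1) _ ha
  rw [Ideal.map_quotient_self, Ideal.mem_bot, psi_alg, Ideal.Quotient.eq_zero_iff_mem] at this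
  exact this

private noncomputable def phibar (n : ℕ) :
    (R ⧸ (J.comap (algebraMap R S)) ^ (n + 1)) →ₐ[R] S ⧸ J ^ (n + 1) :=
  Ideal.Quotient.liftₐ _ (Algebra.ofId R (S ⧸ J ^ (n + 1))) (by
    intro a ha
    rw [Algebra.ofId_apply, IsScalarTower.algebraMap_apply R S (S ⧸ J ^ (n + 1)),
      Ideal.Quotient.algebraMap_eq, Ideal.Quotient.eq_zero_iff_mem]
    have h1 : ((J.comap (algebraMap R S)) ^ (n + 1)).map (algebraMap R S) ≤ J ^ (n + 1) := by
      rw [Ideal.map_pow]
      exact Ideal.pow_right_mono Ideal.map_comap_le _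
    exact h1 (Ideal.mem_map_of_mem _ ha))

omit [Algebra.FormallyEtale R S] in
private theorem phibar_mk (n : ℕ) (a : R) :
    phibar R S J n (Ideal.Quotient.mk _ a) = Ideal.Quotient.mk _ (algebraMap R S a) := rfl

private theorem surj_key (hJ : Function.Surjective (algebraMap R (S ⧸ J))) (n : ℕ) (b : S)
    (hb : b ∈ J ^ n) : ∃ a ∈ (J.comap (algebraMap R S)) ^ n, algebraMap R S a - b ∈ J ^ (n + 1) := by
  have h1 := psi_pow R S J hJ n n b hb
  obtain ⟨a, ha, hab⟩ := (Ideal.mem_map_iff_of_surjective _ Ideal.Quotient.mk_surjective).1 h1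
  refine ⟨a, ha, ?_⟩
  -- two maps S → S/J^(n+1)
  have hle : J ^ (n + 1) ≤ J := Ideal.pow_le_self (by omega)
  have hnil : IsNilpotent (RingHom.ker (Ideal.Quotient.factor hle)) := by
    refine ⟨n + 1, ?_⟩
    rw [Ideal.zero_eq_bot, ← le_bot_iff]
    have hk : RingHom.ker (Ideal.Quotient.factor hle) ≤ J.map (Ideal.Quotient.mk (J ^ (n + 1))) := by
      intro x hx
      obtain ⟨t, rfl⟩ := Ideal.Quotient.mk_surjective x
      rw [RingHom.mem_ker, Ideal.Quotient.factor_mk, Ideal.Quotient.eq_zero_iff_mem] at hx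
      exact Ideal.mem_map_of_mem _ hx
    refine (Ideal.pow_right_mono hk (n + 1)).trans ?_
    rw [← Ideal.map_pow, Ideal.map_quotient_self]
  have heq : Ideal.Quotient.mkₐ R (J ^ (n + 1)) = (phibar R S J n).comp (psi R S J hJ n) := by
    refine Algebra.FormallyUnramified.ext' (Ideal.Quotient.factor hle) hnil _ _ fun s => ?_
    rw [Ideal.Quotient.mkₐ_eq_mk, Ideal.Quotient.factor_mk, AlgHom.comp_apply, ← psi_spec R S J hJ n s]
    generalize psi R S J hJ n s = z
    obtain ⟨c, rfl⟩ := Ideal.Quotient.mk_surjective z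
    rw [phibar_mk, Ideal.Quotient.factor_mk]
    rfl
  have := AlgHom.congr_fun heq b
  rw [Ideal.Quotient.mkₐ_eq_mk, AlgHom.comp_apply, ← hab, phibar_mk] at this
  rw [← Ideal.Quotient.eq]
  exact this.symm

end aux

/-- Let R → S be formally étale and J an ideal of S such that the composite R → S → S/J is surjective;
let I ⊆ R be its kernel, the preimage of J in R. Then the homomorphism of associated graded rings ⊕ₙ
Iⁿ/Iⁿ⁺¹ → ⊕ₙ Jⁿ/Jⁿ⁺¹ induced by R → S (which carries I into J) is bijective. -/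
theorem result (R : Type u) [CommRing R] (S : Type u)
    [CommRing S] [Algebra R S] [Algebra.FormallyEtale R S] (J : Ideal S)
    (hJ : Function.Surjective (algebraMap R (S ⧸ J))) :
    Function.Bijective (AssocGr.map (AssocGr.IsFiltHom.adic
      (Ideal.map_comap_le : (J.comap (algebraMap R S)).map (algebraMap R S) ≤ J))) := by
  refine ⟨map_injective_of _ ?_, map_surjective_of _ ?_⟩
  · intro n a _ ha
    exact inj_key R S J hJ n a ha
  · intro n b hb
    exact surj_key R S J hJ n b hb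

end Groth.Agent.S16452
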