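import Groth.Statements.S16453
-- import your own Groth.Agent.* helpers here

set_option autoImplicit false
universe u
open AdicGr

namespace Groth.Agent.S16453

section aux

open AssocGr Polynomial

universe v

variable {A : Type u} {B : Type v} [CommRing A] [CommRing B] {φ : A →+* B}
  {𝓕 : FiltBl.IdealFiltration A} {𝓖 : FiltBl.IdealFiltration B}

private theorem map_injective_of (h : IsFiltHom φ 𝓕 𝓖)
    (H : ∀ n a, a ∈ 𝓕.F n → φ a ∈ 𝓖.F (n + 1) → a ∈ 𝓕.F (n + 1)) :
    Function.Injective (AssocGr.map h) := by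
  rw [injective_iff_map_eq_zero]
  intro x hx
  obtain ⟨f, rfl⟩ := mkG_surjective 𝓕 x
  rw [map_mkG, mkG_eq_zero_iff, mem_succIdeal_iff] at hx
  rw [mkG_eq_zero_iff, mem_succIdeal_iff]
  intro n
  have := hx n
  rw [coe_reesMap, Polynomial.coeff_map] at this
  exact H n _ (f.2 n) this

private theorem map_surjective_of (h : IsFiltHom φ 𝓕 𝓖)
    (H : ∀ n b, b ∈ 𝓖.F n → ∃ a ∈ 𝓕.F n, φ a - b ∈ 𝓖.F (n + 1)) :
    Function.Surjective (AssocGr.map h) := by
  intro y
  obtain ⟨g, rfl⟩ := mkG_surjective 𝓖 y
  rw [← RingHom.mem_range, ← sum_term 𝓖 g, map_sum]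
  refine Subring.sum_mem _ fun n _ => ?_
  rw [mkG_term]
  obtain ⟨a, ha, hab⟩ := H n _ (g.2 n)
  refine ⟨(inDeg 𝓕 n ⟨a, ha⟩ : GrRing 𝓕), ?_⟩
  rw [map_inDeg]
  congr 1
  rw [← sub_eq_zero, ← map_sub, inDeg_eq_zero_iff]
  exact hab

end aux

/-- Let A be a commutative ring, I an ideal and Â the I-adic completion, filtered by the kernels Âₙ of
the projections Â → A/Iⁿ. Then the homomorphism of associated graded rings ⊕ₙ Iⁿ/Iⁿ⁺¹ → ⊕ₙ Âₙ/Âₙ₊₁
induced by the canonical map A → Â is bijective. No hypothesis on A or I is needed. (The published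
statement is for an arbitrary filtered ring and also asserts the analogous isomorphism for a
compatibly filtered module; this row is the ring assertion for the filtration by the powers of one
ideal.) -/
theorem result (A : Type u) [CommRing A] (I : Ideal A) :
    Function.Bijective (AssocGr.map (AssocGr.isFiltHom_kerFilt I)) := by
  refine ⟨map_injective_of _ ?_, map_surjective_of _ ?_⟩
  · intro n a _ ha
    rw [AssocGr.mem_kerFilt_iff_val, AdicCompletion.algebraMap_apply, Algebra.algebraMap_self,
      RingHom.id_apply, AdicCompletion.of_apply, Submodule.mkQ_apply, Submodule.Quotient.mk_eq_zero] at ha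
    change a ∈ (I ^ (n + 1) • ⊤ : Ideal A) at ha
    rw [AssocGr.pow_smul_top] at ha
    exact ha
  · intro n b hb
    rw [AssocGr.mem_kerFilt_iff_val] at hb
    obtain ⟨a, ha⟩ := Ideal.Quotient.mk_surjective (b.val (n + 1))
    have h1 := AdicCompletion.transitionMap_comp_eval_apply I A (Nat.le_succ n) b
    rw [← ha, hb, AdicCompletion.transitionMap_ideal_mk, Ideal.Quotient.eq_zero_iff_mem,
      AssocGr.pow_smul_top] at h1
    refine ⟨a, h1, ?_⟩
    rw [AssocGr.mem_kerFilt_iff_val, AdicCompletion.val_sub_apply, AdicCompletion.algebraMap_apply,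
      Algebra.algebraMap_self, RingHom.id_apply, AdicCompletion.of_apply, ← ha]
    exact sub_self _

end Groth.Agent.S16453
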