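import Groth.Statements.S16456
-- import your own Groth.Agent.* helpers here

set_option autoImplicit false
universe u
open AdicGr

namespace Groth.Agent.S16456

section aux

open AssocGr Polynomial

variable {A : Type u} [CommRing A] {B : Type u} [CommRing B] (φ : A →+* B) (I : Ideal A) (J : Ideal B)

private theorem smul_top_eq (K : Ideal B) : (K • ⊤ : Ideal B) = K := by
  rw [smul_eq_mul, Ideal.mul_top]

private theorem smul_top_eqA (K : Ideal A) : (K • ⊤ : Ideal A) = K := by
  rw [smul_eq_mul, Ideal.mul_top]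

/-- from graded surjectivity to stepwise approximation -/
private theorem step_of_surj (hIJ : I.map φ ≤ J)
    (h : Function.Surjective (AssocGr.map (AssocGr.IsFiltHom.adic hIJ))) (n : ℕ) (b : B)
    (hb : b ∈ J ^ n) : ∃ a ∈ I ^ n, φ a - b ∈ J ^ (n + 1) := by
  obtain ⟨x, hx⟩ := h (inDeg (FiltBl.IdealFiltration.adic J) n ⟨b, hb⟩ : GrRing _)
  obtain ⟨f, rfl⟩ := mkG_surjective _ x
  rw [map_mkG, coe_inDeg, ← sub_eq_zero, ← map_sub, mkG_eq_zero_iff, mem_succIdeal_iff] at hx
  have h1 := hx n
  rw [Subalgebra.coe_sub, coe_reesMap, coe_coe_monom, Polynomial.coeff_sub, Polynomial.coeff_map,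
    Polynomial.coeff_monomial, if_pos rfl] at h1
  exact ⟨_, f.2 n, h1⟩

private theorem map_pow_le (hIJ : I.map φ ≤ J) (k : ℕ) (a : A) (ha : a ∈ I ^ k) : φ a ∈ J ^ k := by
  have h1 : (I ^ k).map φ ≤ J ^ k := by
    rw [Ideal.map_pow]; exact Ideal.pow_right_mono hIJ k
  exact h1 (Ideal.mem_map_of_mem _ ha)

/-- successive approximation -/
private theorem exact_of_step (hIJ : I.map φ ≤ J) [IsPrecomplete I A] [IsHausdorff J B]
    (H : ∀ n b, b ∈ J ^ n → ∃ a ∈ I ^ n, φ a - b ∈ J ^ (n + 1)) (n : ℕ) (b : B) (hb : b ∈ J ^ n) :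
    ∃ a ∈ I ^ n, φ a = b := by
  classical
  choose c hc1 hc2 using H
  let s : ℕ → A := fun k => Nat.rec (0 : A)
    (fun k sk => sk + (if h : b - φ sk ∈ J ^ (n + k) then c (n + k) (b - φ sk) h else 0)) k
  have hs0 : s 0 = 0 := rfl
  have hsS : ∀ k, s (k + 1) = s k + (if h : b - φ (s k) ∈ J ^ (n + k) then c (n + k) (b - φ (s k)) h else 0) :=
    fun k => rfl
  have hP : ∀ k, b - φ (s k) ∈ J ^ (n + k) := by
    intro k
    induction k with
    | zero => rw [hs0, map_zero, sub_zero]; exact hb
    | succ k ih =>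
      rw [hsS, dif_pos ih, map_add]
      have := hc2 (n + k) _ ih
      have e : b - (φ (s k) + φ (c (n + k) (b - φ (s k)) ih)) =
          -(φ (c (n + k) (b - φ (s k)) ih) - (b - φ (s k))) := by ring
      rw [e]
      exact neg_mem this
  have hd : ∀ k, s (k + 1) - s k ∈ I ^ (n + k) := by
    intro k
    rw [hsS, dif_pos (hP k), add_sub_cancel_left]
    exact hc1 _ _ _
  have hcauchy : ∀ m k, m ≤ k → s k - s m ∈ I ^ (n + m) := by
    intro m k hmk
    induction k, hmk using Nat.le_induction with
    | base => rw [sub_self]; exact Ideal.zero_mem _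
    | succ k hk ih =>
      have e : s (k + 1) - s m = (s (k + 1) - s k) + (s k - s m) := by ring
      rw [e]
      exact Ideal.add_mem _ (Ideal.pow_le_pow_right (by omega) (hd k)) ih
  have hsn : ∀ k, s k ∈ I ^ n := by
    intro k
    have := hcauchy 0 k (Nat.zero_le _)
    rw [hs0, sub_zero, add_zero] at this
    exact this
  obtain ⟨L, hL⟩ := IsPrecomplete.prec' (I := I) s (by
    intro m k hmk
    rw [SModEq.sub_mem, smul_top_eqA]
    have := hcauchy m k hmk
    have h2 : s m - s k = -(s k - s m) := by ring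
    rw [h2]
    exact neg_mem (Ideal.pow_le_pow_right (by omega) this))
  have hL' : ∀ k, s k - L ∈ I ^ k := by
    intro k
    have := hL k
    rwa [SModEq.sub_mem, smul_top_eqA] at this
  have hLn : L ∈ I ^ n := by
    have e : L = s n - (s n - L) := by ring
    rw [e]
    exact Ideal.sub_mem _ (hsn n) (hL' n)
  refine ⟨L, hLn, ?_⟩
  rw [← sub_eq_zero]
  apply IsHausdorff.haus' (I := J)
  intro k
  rw [SModEq.zero, smul_top_eq]
  have e : φ L - b = -(φ (s k - L)) - (b - φ (s k)) := by rw [map_sub]; ring
  rw [e]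
  exact Ideal.sub_mem _ (neg_mem (map_pow_le φ I J hIJ k _ (hL' k)))
    (Ideal.pow_le_pow_right (by omega) (hP k))

private theorem complete_of (hIJ : I.map φ ≤ J) [IsPrecomplete I A] [IsHausdorff J B]
    (H : ∀ n b, b ∈ J ^ n → ∃ a ∈ I ^ n, φ a = b) : IsPrecomplete J B := by
  refine ⟨fun f hf => ?_⟩
  have hf' : ∀ k, f (k + 1) - f k ∈ J ^ k := by
    intro k
    have := hf (Nat.le_succ k)
    rw [SModEq.sub_mem, smul_top_eq] at this
    have e : f (k + 1) - f k = -(f k - f (k + 1)) := by ring
    rw [e]; exact neg_mem this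
  choose d hd1 hd2 using fun k => H k _ (hf' k)
  obtain ⟨c0, -, hc0⟩ := H 0 (f 0) (by rw [pow_zero, Ideal.one_eq_top]; trivial)
  let s : ℕ → A := fun k => c0 + ∑ i ∈ Finset.range k, d i
  have hs : ∀ k, φ (s k) = f k := by
    intro k
    induction k with
    | zero => simp [s, hc0]
    | succ k ih =>
      have : s (k + 1) = s k + d k := by simp only [s, Finset.sum_range_succ]; ring
      rw [this, map_add, ih, hd2]; ring
  have hcauchy : ∀ m k, m ≤ k → s k - s m ∈ I ^ m := by
    intro m k hmk
    induction k, hmk using Nat.le_induction with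
    | base => rw [sub_self]; exact Ideal.zero_mem _
    | succ k hk ih =>
      have e : s (k + 1) - s m = d k + (s k - s m) := by
        simp only [s, Finset.sum_range_succ]; ring
      rw [e]
      exact Ideal.add_mem _ (Ideal.pow_le_pow_right hk (hd1 k)) ih
  obtain ⟨L, hL⟩ := IsPrecomplete.prec' (I := I) s (by
    intro m k hmk
    rw [SModEq.sub_mem, smul_top_eqA]
    have := hcauchy m k hmk
    have h2 : s m - s k = -(s k - s m) := by ring
    rw [h2]
    exact neg_mem this)
  refine ⟨φ L, fun k => ?_⟩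
  rw [SModEq.sub_mem, smul_top_eq, ← hs k, ← map_sub]
  have := hL k
  rw [SModEq.sub_mem, smul_top_eqA] at this
  exact map_pow_le φ I J hIJ k _ this

end aux

/-- Let φ : A → B be a ring homomorphism, I ⊆ A and J ⊆ B ideals with φ(I)B ⊆ J, so that φ is a
homomorphism of filtered rings for the I-adic and J-adic filtrations. Assume that A is I-adically
complete in the sense that every I-adically Cauchy sequence has a limit, that B is J-adically
separated, and that the induced homomorphism of associated graded rings ⊕ₙ Iⁿ/Iⁿ⁺¹ → ⊕ₙ Jⁿ/Jⁿ⁺¹ is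
surjective. Then φ is surjective, φ is strict (Jⁿ = φ(Iⁿ)B for all n, that is J = φ(I)B), and B is
J-adically separated and complete. (The published statement is for a homomorphism of filtered
modules over a filtered ring, with arbitrary compatible filtrations; this row is its case of a ring
homomorphism with adic filtrations.) -/
theorem result (A : Type u) [CommRing A] (B : Type u)
    [CommRing B] (φ : A →+* B) (I : Ideal A) (J : Ideal B) (hIJ : I.map φ ≤ J)
    [IsPrecomplete I A] [IsHausdorff J B]
    (h : Function.Surjective (AssocGr.map (AssocGr.IsFiltHom.adic hIJ))) :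
    Function.Surjective φ ∧ I.map φ = J ∧ IsAdicComplete J B := by
  have H := exact_of_step φ I J hIJ (step_of_surj φ I J hIJ h)
  refine ⟨?_, ?_, ?_⟩
  · intro b
    obtain ⟨a, -, ha⟩ := H 0 b (by rw [pow_zero, Ideal.one_eq_top]; trivial)
    exact ⟨a, ha⟩
  · refine le_antisymm hIJ ?_
    intro b hb
    obtain ⟨a, ha, hab⟩ := H 1 b (by rwa [pow_one])
    rw [pow_one] at ha
    rw [← hab]
    exact Ideal.mem_map_of_mem _ ha
  · haveI := complete_of φ I J hIJ H
    exact { }

end Groth.Agent.S16456
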