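import Groth.Statements.S16457
-- import your own Groth.Agent.* helpers here

set_option autoImplicit false
universe u
open AdicGr

namespace Groth.Agent.S16457

section aux

open AssocGr Polynomial

variable {A : Type u} [CommRing A] (I : Ideal A) {M : Type u} [AddCommGroup M] [Module A M]
  (F : I.Filtration M) {k : ℕ} (d : Fin k → ℕ) (x : (i : Fin k) → ↥(F.N (d i)))

private theorem stepA
    (hgen : Submodule.span (GrRing (FiltBl.IdealFiltration.adic I))
      (Set.range fun i => (inDegM F (d i) (x i) : GrMod F)) = ⊤) (y : ReesM F) :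
    ∃ f : Fin k → ↥(FiltBl.IdealFiltration.adic I).rees,
      y - ∑ i, f i • monomM F (d i) (x i) ∈ succMod F := by
  have hy : mkGM F y ∈ Submodule.span (GrRing (FiltBl.IdealFiltration.adic I))
      (Set.range fun i => (inDegM F (d i) (x i) : GrMod F)) := by rw [hgen]; trivial
  obtain ⟨c, hc⟩ := (Submodule.mem_span_range_iff_exists_fun _).1 hy
  choose f hf using fun i => mkG_surjective _ (c i)
  refine ⟨f, ?_⟩
  rw [← mkGM_eq_zero_iff, map_sub, map_sum, sub_eq_zero, ← hc]
  refine (Finset.sum_congr rfl fun i _ => ?_)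
  rw [← hf i, coe_inDegM, mkG_smul_mkGM]

private theorem stepB
    (hgen : Submodule.span (GrRing (FiltBl.IdealFiltration.adic I))
      (Set.range fun i => (inDegM F (d i) (x i) : GrMod F)) = ⊤) (n : ℕ) (m : M) (hm : m ∈ F.N n) :
    ∃ a : Fin k → A, (∀ i, d i ≤ n → a i ∈ I ^ (n - d i)) ∧ (∀ i, n < d i → a i = 0) ∧
      m - ∑ i, a i • (x i : M) ∈ F.N (n + 1) := by
  obtain ⟨f, hf⟩ := stepA I F d x hgen (monomM F n ⟨m, hm⟩)
  rw [mem_succMod_iff] at hf
  have h1 := hf n
  refine ⟨fun i => if d i ≤ n then ((f i : A[X])).coeff (n - d i) else 0, ?_, ?_, ?_⟩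
  · intro i hi
    simp only [if_pos hi]
    exact (f i).2 (n - d i)
  · intro i hi
    simp only [if_neg (not_le.2 hi)]
  · have hc : ReesM.coeff F (monomM F n ⟨m, hm⟩ - ∑ i, f i • monomM F (d i) (x i)) n =
        m - ∑ i, (if d i ≤ n then (f i : A[X]).coeff (n - d i) else 0) • (x i : M) := by
      rw [← ReesM.coeffHom_apply, map_sub, map_sum, ReesM.coeffHom_apply, ReesM.coeff_monomM,
        if_pos rfl]
      congr 1
      refine Finset.sum_congr rfl fun i _ => ?_
      rw [ReesM.coeffHom_apply, ReesM.coeff_smul]
      simp only [ReesM.coeff_monomM]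
      split_ifs with hdi
      · rw [Finset.sum_eq_single (n - d i, d i)]
        · simp
        · intro p hp hne
          rw [if_neg, smul_zero]
          intro hdp
          apply hne
          rw [Finset.mem_antidiagonal] at hp
          ext
          · simp only []; omega
          · simp only []; omega
        · intro h
          exfalso
          apply h
          rw [Finset.mem_antidiagonal]
          simp only []
          omega
      · rw [zero_smul]
        refine Finset.sum_eq_zero fun p hp => ?_
        rw [Finset.mem_antidiagonal] at hp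
        rw [if_neg (by omega), smul_zero]
    rw [hc] at h1
    exact h1

private theorem smul_top_eqA (K : Ideal A) : (K • ⊤ : Ideal A) = K := by
  rw [smul_eq_mul, Ideal.mul_top]

private theorem stepC [IsPrecomplete I A] (h0 : F.N 0 = ⊤) (hsep : ⨅ n, F.N n = ⊥)
    (H : ∀ (n : ℕ) (m : M), m ∈ F.N n → ∃ a : Fin k → A, (∀ i, d i ≤ n → a i ∈ I ^ (n - d i)) ∧
      (∀ i, n < d i → a i = 0) ∧ m - ∑ i, a i • (x i : M) ∈ F.N (n + 1)) (m : M) :
    ∃ L : Fin k → A, m = ∑ i, L i • (x i : M) := by
  classical
  choose c hc1 hc2 hc3 using H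
  -- remainder sequence
  let R : ℕ → M := fun j => Nat.rec m
    (fun j r => r - ∑ i, (if h : r ∈ F.N j then c j r h i else 0) • (x i : M)) j
  have hR0 : R 0 = m := rfl
  have hRS : ∀ j, R (j + 1) = R j - ∑ i, (if h : R j ∈ F.N j then c j (R j) h i else 0) • (x i : M) :=
    fun j => rfl
  have hR : ∀ j, R j ∈ F.N j := by
    intro j
    induction j with
    | zero => rw [h0]; trivial
    | succ j ih =>
      rw [hRS]
      simp only [dif_pos ih]
      exact hc3 j (R j) ih
  let a : ℕ → Fin k → A := fun j i => c j (R j) (hR j) i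
  have hRS' : ∀ j, R (j + 1) = R j - ∑ i, a j i • (x i : M) := by
    intro j
    rw [hRS]
    simp only [dif_pos (hR j)]
    rfl
  have ha1 : ∀ j i, d i ≤ j → a j i ∈ I ^ (j - d i) := fun j i h => hc1 j (R j) (hR j) i h
  have ha2 : ∀ j i, j < d i → a j i = 0 := fun j i h => hc2 j (R j) (hR j) i h
  let s : ℕ → Fin k → A := fun j i => ∑ l ∈ Finset.range j, a l i
  have hsS : ∀ j i, s (j + 1) i = s j i + a j i := fun j i => Finset.sum_range_succ _ _
  have hRs : ∀ j, R j = m - ∑ i, s j i • (x i : M) := by
    intro j
    induction j with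
    | zero => simp [s, hR0]
    | succ j ih =>
      rw [hRS', ih]
      simp only [hsS, add_smul, Finset.sum_add_distrib]
      abel
  -- Cauchy for each i, shifted
  have hcauchy : ∀ i p q, p ≤ q → s (q + d i) i - s (p + d i) i ∈ I ^ p := by
    intro i p q hpq
    induction q, hpq using Nat.le_induction with
    | base => rw [sub_self]; exact Ideal.zero_mem _
    | succ q hq ih =>
      have e : s (q + 1 + d i) i - s (p + d i) i = a (q + d i) i + (s (q + d i) i - s (p + d i) i) := by
        have : q + 1 + d i = (q + d i) + 1 := by omega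
        rw [this, hsS]; ring
      rw [e]
      refine Ideal.add_mem _ ?_ ih
      have := ha1 (q + d i) i (by omega)
      rw [Nat.add_sub_cancel] at this
      exact Ideal.pow_le_pow_right hq this
  have hlim : ∀ i, ∃ L : A, ∀ p, s (p + d i) i - L ∈ I ^ p := by
    intro i
    obtain ⟨L, hL⟩ := IsPrecomplete.prec' (I := I) (fun p => s (p + d i) i) (by
      intro p q hpq
      rw [SModEq.sub_mem, smul_top_eqA]
      have := hcauchy i p q hpq
      have h2 : s (p + d i) i - s (q + d i) i = -(s (q + d i) i - s (p + d i) i) := by ring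
      rw [h2]
      exact neg_mem this)
    refine ⟨L, fun p => ?_⟩
    have := hL p
    rwa [SModEq.sub_mem, smul_top_eqA] at this
  choose L hL using hlim
  refine ⟨L, ?_⟩
  rw [← sub_eq_zero, ← Submodule.mem_bot A, ← hsep, Submodule.mem_iInf]
  intro j
  -- choose a large index
  let D : ℕ := Finset.univ.sup d
  have hD : ∀ i, d i ≤ D := fun i => Finset.le_sup (Finset.mem_univ i)
  have hj : m - ∑ i, L i • (x i : M) ∈ F.N (j + D) := by
    have e : m - ∑ i, L i • (x i : M) = R (j + D) + ∑ i, (s (j + D) i - L i) • (x i : M) := by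
      rw [hRs]
      simp only [sub_smul, Finset.sum_sub_distrib]
      abel
    rw [e]
    refine Submodule.add_mem _ (hR _) (Submodule.sum_mem _ fun i _ => ?_)
    have h1 : s (j + D) i - L i ∈ I ^ (j + D - d i) := by
      have := hL i (j + D - d i)
      have e2 : j + D - d i + d i = j + D := Nat.sub_add_cancel (by have := hD i; omega)
      rwa [e2] at this
    have h2 : (s (j + D) i - L i) • (x i : M) ∈ I ^ (j + D - d i) • F.N (d i) :=
      Submodule.smul_mem_smul h1 (x i).2
    have h3 := F.pow_smul_le (j + D - d i) (d i) h2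
    have e2 : j + D - d i + d i = j + D := Nat.sub_add_cancel (by have := hD i; omega)
    rwa [e2] at h3
  exact F.antitone (Nat.le_add_right j D) hj

end aux

/-- Let A be a commutative ring and I an ideal such that every I-adically Cauchy sequence in A has a
limit; let M be an A-module with an I-filtration M = N₀ ⊇ N₁ ⊇ N₂ ⊇ … (I·Nₙ ⊆ Nₙ₊₁) which is
separated, ⋂ₙ Nₙ = 0; and let x₁, …, x_k be finitely many elements of M with x_i ∈ N_{d_i}. If the
classes of the x_i in degrees d_i generate the associated graded module gr(M) = ⊕ₙ Nₙ/Nₙ₊₁ as a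
module over the associated graded ring ⊕ₙ Iⁿ/Iⁿ⁺¹, then the x_i generate M. (The published statement
allows any complete filtered ring and also concludes that M is complete; this row takes the I-adic
filtration on A and states the generation.) -/
theorem result (A : Type u) [CommRing A] (I : Ideal A)
    [IsPrecomplete I A] (M : Type u) [AddCommGroup M] [Module A M] (F : I.Filtration M)
    (h0 : F.N 0 = ⊤) (hsep : ⨅ n, F.N n = ⊥) {k : ℕ} (d : Fin k → ℕ) (x : (i : Fin k) → ↥(F.N (d i)))
    (hgen : Submodule.span (AssocGr.GrRing (FiltBl.IdealFiltration.adic I))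
      (Set.range fun i => (AssocGr.inDegM F (d i) (x i) : AssocGr.GrMod F)) = ⊤) :
    Submodule.span A (Set.range fun i => ((x i : ↥(F.N (d i))) : M)) = ⊤ := by
  rw [eq_top_iff]
  intro m _
  obtain ⟨L, hL⟩ := stepC I F d x h0 hsep (stepB I F d x hgen) m
  rw [hL]
  exact Submodule.sum_mem _ fun i _ => Submodule.smul_mem _ _ (Submodule.subset_span ⟨i, rfl⟩)

end Groth.Agent.S16457
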