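import Groth.Statements.S16458
import Groth.Agent.S16457

set_option autoImplicit false
universe u
open AdicGr

namespace Groth.Agent.S16458

/-- Let A be a commutative ring and I an ideal such that every I-adically Cauchy sequence in A has a
limit, and let M be an A-module with an I-filtration M = N₀ ⊇ N₁ ⊇ … (I·Nₙ ⊆ Nₙ₊₁) which is
separated, ⋂ₙ Nₙ = 0. If the associated graded module gr(M) = ⊕ₙ Nₙ/Nₙ₊₁ is finitely generated as a
module over the associated graded ring ⊕ₙ Iⁿ/Iⁿ⁺¹, then M is a finitely generated A-module. (The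
published statement allows any complete filtered ring and also concludes that M is complete for its
filtration; this row takes the I-adic filtration on A and states the finiteness.) -/
theorem result (A : Type u) [CommRing A] (I : Ideal A)
    [IsPrecomplete I A] (M : Type u) [AddCommGroup M] [Module A M] (F : I.Filtration M)
    (h0 : F.N 0 = ⊤) (hsep : ⨅ n, F.N n = ⊥)
    [Module.Finite (AssocGr.GrRing (FiltBl.IdealFiltration.adic I)) (AssocGr.GrMod F)] :
    Module.Finite A M := by
  classical
  set G := AssocGr.GrRing (FiltBl.IdealFiltration.adic I) with hG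
  let T : Set (AssocGr.GrMod F) := {g | ∃ (n : ℕ) (x : F.N n), g = (AssocGr.inDegM F n x : AssocGr.GrMod F)}
  have hT : Submodule.span G T = ⊤ := by
    rw [eq_top_iff]
    intro g _
    obtain ⟨y, rfl⟩ := AssocGr.mkGM_surjective F g
    rw [← AssocGr.sum_termM F y, map_sum]
    refine Submodule.sum_mem _ fun n _ => ?_
    exact Submodule.subset_span ⟨n, ⟨AssocGr.ReesM.coeff F y n, AssocGr.ReesM.coeff_mem F y n⟩, rfl⟩
  have hfg : (Submodule.span G T).FG := by
    rw [hT]; exact Module.Finite.fg_top
  obtain ⟨s', hs'T, hs'⟩ := (Submodule.fg_span_iff_fg_span_finset_subset T).1 hfg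
  rw [hT] at hs'
  have hex : ∀ t : s', ∃ (n : ℕ) (x : F.N n), (t : AssocGr.GrMod F) = (AssocGr.inDegM F n x : AssocGr.GrMod F) :=
    fun t => hs'T t.2
  choose nn xx hxx using hex
  let e := s'.equivFin
  have key := Groth.Agent.S16457.result A I M F h0 hsep (k := s'.card) (fun i => nn (e.symm i))
    (fun i => xx (e.symm i)) (by
      rw [eq_top_iff, hs']
      apply Submodule.span_mono
      intro t ht
      refine ⟨e ⟨t, ht⟩, ?_⟩
      have h1 : e.symm (e ⟨t, ht⟩) = ⟨t, ht⟩ := e.symm_apply_apply _
      show (AssocGr.inDegM F (nn (e.symm (e ⟨t, ht⟩))) (xx (e.symm (e ⟨t, ht⟩))) : AssocGr.GrMod F) = t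
      rw [h1]
      exact (hxx ⟨t, ht⟩).symm)
  refine ⟨?_⟩
  rw [← key]
  exact Submodule.fg_span (Set.finite_range _)

end Groth.Agent.S16458
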