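import Groth.Statements.S16459
-- import your own Groth.Agent.* helpers here

set_option autoImplicit false
universe u
open AdicGr

namespace Groth.Agent.S16459

section Aux

section aux

open AssocGr Polynomial

variable {A : Type u} [CommRing A] (I : Ideal A) {M : Type u} [AddCommGroup M] [Module A M]
  (F : I.Filtration M) {k : ℕ} (d : Fin k → ℕ) (x : (i : Fin k) → ↥(F.N (d i)))

theorem stepA (y : ReesM F)
    (hy : mkGM F y ∈ Submodule.span (GrRing (FiltBl.IdealFiltration.adic I))
      (Set.range fun i => (inDegM F (d i) (x i) : GrMod F))) :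
    ∃ f : Fin k → ↥(FiltBl.IdealFiltration.adic I).rees,
      y - ∑ i, f i • monomM F (d i) (x i) ∈ succMod F := by
  obtain ⟨c, hc⟩ := (Submodule.mem_span_range_iff_exists_fun _).1 hy
  choose f hf using fun i => mkG_surjective _ (c i)
  refine ⟨f, ?_⟩
  rw [← mkGM_eq_zero_iff, map_sub, map_sum, sub_eq_zero, ← hc]
  refine (Finset.sum_congr rfl fun i _ => ?_)
  rw [← hf i, coe_inDegM, mkG_smul_mkGM]

theorem stepB (n : ℕ) (m : M) (hm : m ∈ F.N n)
    (hy : (inDegM F n ⟨m, hm⟩ : GrMod F) ∈
      Submodule.span (GrRing (FiltBl.IdealFiltration.adic I))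
      (Set.range fun i => (inDegM F (d i) (x i) : GrMod F))) :
    ∃ a : Fin k → A, (∀ i, d i ≤ n → a i ∈ I ^ (n - d i)) ∧ (∀ i, n < d i → a i = 0) ∧
      m - ∑ i, a i • (x i : M) ∈ F.N (n + 1) := by
  obtain ⟨f, hf⟩ := stepA I F d x (monomM F n ⟨m, hm⟩) hy
  rw [mem_succMod_iff] at hf
  have h1 := hf n
  refine ⟨fun i => if d i ≤ n then ((f i : A[X])).coeff (n - d i) else 0, ?_, ?_, ?_⟩
  · intro i hi
    simp only [if_pos hi]
    exact (f i).2 (n - d i)
  · intro i hi
    simp only [if_neg (not_le.2 hi)]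
  · have hc : ReesM.coeff F (monomM F n ⟨m, hm⟩ - ∑ i, f i • monomM F (d i) (x i)) n =
        m - ∑ i, (if d i ≤ n then (f i : A[X]).coeff (n - d i) else 0) • (x i : M) := by
      rw [← ReesM.coeffHom_apply, map_sub, map_sum, ReesM.coeffHom_apply, ReesM.coeff_monomM,
        if_pos rfl]
      congr 1
      refine Finset.sum_congr rfl fun i _ => ?_
      rw [ReesM.coeffHom_apply, ReesM.coeff_smul]
      simp only [ReesM.coeff_monomM]
      split_ifs with hdi
      · rw [Finset.sum_eq_single (n - d i, d i)]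
        · simp
        · intro p hp hne
          rw [if_neg, smul_zero]
          intro hdp
          apply hne
          rw [Finset.mem_antidiagonal] at hp
          ext
          · simp only []; omega
          · simp only []; omega
        · intro h
          exfalso
          apply h
          rw [Finset.mem_antidiagonal]
          simp only []
          omega
      · rw [zero_smul]
        refine Finset.sum_eq_zero fun p hp => ?_
        rw [Finset.mem_antidiagonal] at hp
        rw [if_neg (by omega), smul_zero]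
    rw [hc] at h1
    exact h1

theorem smul_top_eqA (K : Ideal A) : (K • ⊤ : Ideal A) = K := by
  rw [smul_eq_mul, Ideal.mul_top]

theorem stepC [IsPrecomplete I A] (hsep : ⨅ n, F.N n = ⊥) (M'' : Submodule A M)
    (hx : ∀ i, (x i : M) ∈ M'')
    (H : ∀ (n : ℕ) (m : M), m ∈ F.N n → m ∈ M'' →
      ∃ a : Fin k → A, (∀ i, d i ≤ n → a i ∈ I ^ (n - d i)) ∧
      (∀ i, n < d i → a i = 0) ∧ m - ∑ i, a i • (x i : M) ∈ F.N (n + 1)) (m : M)
    (hm0 : m ∈ F.N 0) (hmM : m ∈ M'') :
    ∃ L : Fin k → A, m = ∑ i, L i • (x i : M) := by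
  classical
  choose c hc1 hc2 hc3 using H
  -- remainder sequence
  let R : ℕ → M := fun j => Nat.rec m
    (fun j r => r - ∑ i, (if h : r ∈ F.N j ∧ r ∈ M'' then c j r h.1 h.2 i else 0) • (x i : M)) j
  have hR0 : R 0 = m := rfl
  have hRS : ∀ j, R (j + 1) = R j -
      ∑ i, (if h : R j ∈ F.N j ∧ R j ∈ M'' then c j (R j) h.1 h.2 i else 0) • (x i : M) :=
    fun j => rfl
  have hR : ∀ j, R j ∈ F.N j ∧ R j ∈ M'' := by
    intro j
    induction j with
    | zero => exact ⟨hm0, hmM⟩
    | succ j ih =>
      rw [hRS]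
      simp only [dif_pos ih]
      refine ⟨hc3 j (R j) ih.1 ih.2, ?_⟩
      exact Submodule.sub_mem _ ih.2
        (Submodule.sum_mem _ fun i _ => Submodule.smul_mem _ _ (hx i))
  let a : ℕ → Fin k → A := fun j i => c j (R j) (hR j).1 (hR j).2 i
  have hRS' : ∀ j, R (j + 1) = R j - ∑ i, a j i • (x i : M) := by
    intro j
    rw [hRS]
    simp only [dif_pos (hR j)]
    rfl
  have ha1 : ∀ j i, d i ≤ j → a j i ∈ I ^ (j - d i) :=
    fun j i h => hc1 j (R j) (hR j).1 (hR j).2 i h
  have ha2 : ∀ j i, j < d i → a j i = 0 := fun j i h => hc2 j (R j) (hR j).1 (hR j).2 i h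
  let s : ℕ → Fin k → A := fun j i => ∑ l ∈ Finset.range j, a l i
  have hsS : ∀ j i, s (j + 1) i = s j i + a j i := fun j i => Finset.sum_range_succ _ _
  have hRs : ∀ j, R j = m - ∑ i, s j i • (x i : M) := by
    intro j
    induction j with
    | zero => simp [s, hR0]
    | succ j ih =>
      rw [hRS', ih]
      simp only [hsS, add_smul, Finset.sum_add_distrib]
      abel
  -- Cauchy for each i, shifted
  have hcauchy : ∀ i p q, p ≤ q → s (q + d i) i - s (p + d i) i ∈ I ^ p := by
    intro i p q hpq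
    induction q, hpq using Nat.le_induction with
    | base => rw [sub_self]; exact Ideal.zero_mem _
    | succ q hq ih =>
      have e : s (q + 1 + d i) i - s (p + d i) i = a (q + d i) i + (s (q + d i) i - s (p + d i) i) := by
        have : q + 1 + d i = (q + d i) + 1 := by omega
        rw [this, hsS]; ring
      rw [e]
      refine Ideal.add_mem _ ?_ ih
      have := ha1 (q + d i) i (by omega)
      rw [Nat.add_sub_cancel] at this
      exact Ideal.pow_le_pow_right hq this
  have hlim : ∀ i, ∃ L : A, ∀ p, s (p + d i) i - L ∈ I ^ p := by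
    intro i
    obtain ⟨L, hL⟩ := IsPrecomplete.prec' (I := I) (fun p => s (p + d i) i) (by
      intro p q hpq
      rw [SModEq.sub_mem, smul_top_eqA]
      have := hcauchy i p q hpq
      have h2 : s (p + d i) i - s (q + d i) i = -(s (q + d i) i - s (p + d i) i) := by ring
      rw [h2]
      exact neg_mem this)
    refine ⟨L, fun p => ?_⟩
    have := hL p
    rwa [SModEq.sub_mem, smul_top_eqA] at this
  choose L hL using hlim
  refine ⟨L, ?_⟩
  rw [← sub_eq_zero, ← Submodule.mem_bot A, ← hsep, Submodule.mem_iInf]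
  intro j
  -- choose a large index
  let D : ℕ := Finset.univ.sup d
  have hD : ∀ i, d i ≤ D := fun i => Finset.le_sup (Finset.mem_univ i)
  have hj : m - ∑ i, L i • (x i : M) ∈ F.N (j + D) := by
    have e : m - ∑ i, L i • (x i : M) = R (j + D) + ∑ i, (s (j + D) i - L i) • (x i : M) := by
      rw [hRs]
      simp only [sub_smul, Finset.sum_sub_distrib]
      abel
    rw [e]
    refine Submodule.add_mem _ (hR _).1 (Submodule.sum_mem _ fun i _ => ?_)
    have h1 : s (j + D) i - L i ∈ I ^ (j + D - d i) := by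
      have := hL i (j + D - d i)
      have e2 : j + D - d i + d i = j + D := Nat.sub_add_cancel (by have := hD i; omega)
      rwa [e2] at this
    have h2 : (s (j + D) i - L i) • (x i : M) ∈ I ^ (j + D - d i) • F.N (d i) :=
      Submodule.smul_mem_smul h1 (x i).2
    have h3 := F.pow_smul_le (j + D - d i) (d i) h2
    have e2 : j + D - d i + d i = j + D := Nat.sub_add_cancel (by have := hD i; omega)
    rwa [e2] at h3
  exact F.antitone (Nat.le_add_right j D) hj

end aux

open AssocGr in
theorem main (A : Type u) [CommRing A]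
    (I : Ideal A) [IsPrecomplete I A] (M : Type u) [AddCommGroup M] [Module A M] (F : I.Filtration M)
    (h0 : F.N 0 = ⊤) (hsep : ⨅ n, F.N n = ⊥)
    [IsNoetherian (AssocGr.GrRing (FiltBl.IdealFiltration.adic I)) (AssocGr.GrMod F)] :
    IsNoetherian A M ∧ ∀ M' : Submodule A M, ⨅ n, M' ⊔ F.N n = M' := by
  have key : ∀ M' : Submodule A M, ∃ (k : ℕ) (d : Fin k → ℕ) (x : (i : Fin k) → F.N (d i)),
      (∀ i, (x i : M) ∈ M') ∧
      ∀ m ∈ (⨅ n, M' ⊔ F.N n), ∃ L : Fin k → A, m = ∑ i, L i • (x i : M) := by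
    intro M'
    classical
    let S : Set (GrMod F) :=
      {g | ∃ (n : ℕ) (y : F.N n), (y : M) ∈ M' ∧ g = (inDegM F n y : GrMod F)}
    have hfg : (Submodule.span (GrRing (FiltBl.IdealFiltration.adic I)) S).FG :=
      IsNoetherian.noetherian _
    obtain ⟨s', hs'S, hs'⟩ := (Submodule.fg_span_iff_fg_span_finset_subset S).1 hfg
    let e := s'.equivFin
    have hch : ∀ i : Fin s'.card, ∃ (n : ℕ) (y : F.N n), (y : M) ∈ M' ∧
        ((e.symm i : GrMod F)) = (inDegM F n y : GrMod F) := fun i => hs'S (e.symm i).2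
    choose d x hxM hxe using hch
    refine ⟨s'.card, d, x, hxM, ?_⟩
    have hrange : Set.range (fun i => (inDegM F (d i) (x i) : GrMod F)) = ↑s' := by
      ext g
      constructor
      · rintro ⟨i, rfl⟩
        change (inDegM F (d i) (x i) : GrMod F) ∈ (↑s' : Set (GrMod F))
        rw [← hxe i]
        exact (e.symm i).2
      · intro hg
        refine ⟨e ⟨g, hg⟩, ?_⟩
        change (inDegM F (d (e ⟨g, hg⟩)) (x (e ⟨g, hg⟩)) : GrMod F) = g
        rw [← hxe]
        simp
    intro m hm
    have hM'le : M' ≤ ⨅ n, M' ⊔ F.N n := le_iInf fun n => le_sup_left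
    refine stepC I F d x hsep (⨅ n, M' ⊔ F.N n) (fun i => hM'le (hxM i)) ?_ m
      (by rw [h0]; trivial) hm
    intro n m hmn hmM
    apply stepB I F d x n m hmn
    rw [hrange, ← hs']
    have hmem : m ∈ M' ⊔ F.N (n + 1) := (Submodule.mem_iInf _).1 hmM (n + 1)
    obtain ⟨m', hm', z, hz, rfl⟩ := Submodule.mem_sup.1 hmem
    have hzn : z ∈ F.N n := F.antitone (Nat.le_succ n) hz
    have hm'n : m' ∈ F.N n := by
      have := Submodule.sub_mem _ hmn hzn
      simpa using this
    have heq : (inDegM F n ⟨m' + z, hmn⟩ : GrMod F) = (inDegM F n ⟨m', hm'n⟩ : GrMod F) := by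
      have hz' : inDegM F n ⟨z, hzn⟩ = 0 := (inDegM_eq_zero_iff F n _).2 hz
      have hsum : (⟨m' + z, hmn⟩ : F.N n) = ⟨m', hm'n⟩ + ⟨z, hzn⟩ := rfl
      rw [hsum, map_add, hz', add_zero]
    rw [heq]
    exact Submodule.subset_span ⟨n, ⟨m', hm'n⟩, hm', rfl⟩
  constructor
  · rw [isNoetherian_def]
    intro M'
    obtain ⟨k, d, x, hxM, hL⟩ := key M'
    have : M' = Submodule.span A (Set.range fun i => (x i : M)) := by
      apply le_antisymm
      · intro m hm
        obtain ⟨L, rfl⟩ := hL m ((Submodule.mem_iInf _).2 fun n => Submodule.mem_sup_left hm)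
        exact Submodule.sum_mem _ fun i _ =>
          Submodule.smul_mem _ _ (Submodule.subset_span ⟨i, rfl⟩)
      · rw [Submodule.span_le]
        rintro _ ⟨i, rfl⟩
        exact hxM i
    rw [this]
    exact Submodule.fg_span (Set.finite_range _)
  · intro M'
    obtain ⟨k, d, x, hxM, hL⟩ := key M'
    apply le_antisymm
    · intro m hm
      obtain ⟨L, rfl⟩ := hL m hm
      exact Submodule.sum_mem _ fun i _ => Submodule.smul_mem _ _ (hxM i)
    · exact le_iInf fun n => le_sup_left


end Aux

/-- Let A be a commutative ring and I an ideal such that every I-adically Cauchy sequence in A has a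
limit, and let M be an A-module with an I-filtration M = N₀ ⊇ N₁ ⊇ … (I·Nₙ ⊆ Nₙ₊₁) which is
separated, ⋂ₙ Nₙ = 0. If the associated graded module gr(M) = ⊕ₙ Nₙ/Nₙ₊₁ is a Noetherian module over
the associated graded ring ⊕ₙ Iⁿ/Iⁿ⁺¹, then M is a Noetherian A-module and every submodule M' of M
is closed for the topology defined by the filtration, that is ⋂ₙ (M' + Nₙ) = M'. (The published
statement allows any complete filtered ring; this row takes the I-adic filtration on A.) -/
theorem result (A : Type u) [CommRing A]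
    (I : Ideal A) [IsPrecomplete I A] (M : Type u) [AddCommGroup M] [Module A M] (F : I.Filtration M)
    (h0 : F.N 0 = ⊤) (hsep : ⨅ n, F.N n = ⊥)
    [IsNoetherian (AssocGr.GrRing (FiltBl.IdealFiltration.adic I)) (AssocGr.GrMod F)] :
    IsNoetherian A M ∧ ∀ M' : Submodule A M, ⨅ n, M' ⊔ F.N n = M' := by
  exact main A I M F h0 hsep

end Groth.Agent.S16459
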