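import Groth.Statements.S1646
import Groth.Agent.Lib.Helper17.GGDescent
import Mathlib
set_option backward.isDefEq.respectTransparency.types false

set_option autoImplicit false
universe u
open CategoryTheory CategoryTheory.Limits AlgebraicGeometry
open Variety

namespace Groth.Agent.S1646
open Groth.Agent.Lib.Helper17.GGDescent


/-- Let A → A' be a faithfully flat ring map, f : X → Spec A a quasi-compact and quasi-separated
morphism, and F a quasi-coherent O_X-module. F is generated by its global sections exactly when its
pullback to X ×_{Spec A} Spec A' is generated by its global sections. (Quasi-compactness and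
quasi-separatedness of f are assumed here on top of the published hypotheses.) -/
theorem result (A A' : Type u) [CommRing A] [CommRing A'] [Algebra A A']
    [Module.FaithfullyFlat A A'] (X : Scheme.{u}) (f : X ⟶ Spec (CommRingCat.of A)) [QuasiCompact f] [QuasiSeparated f]
    (F : X.Modules) (hF : Coh.IsQCoh F) :
    Curv2.IsGloballyGenerated F ↔ Curv2.IsGloballyGenerated
      ((Scheme.Modules.pullback (pullback.fst f (Spec.map (CommRingCat.ofHom (algebraMap A A'))))).obj F) := by
  haveI : F.IsQuasicoherent := hF
  have hff : (CommRingCat.ofHom (algebraMap A A')).hom.FaithfullyFlat :=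
    (RingHom.faithfullyFlat_algebraMap_iff).2 inferInstance
  obtain ⟨h1, h2⟩ := (flat_and_surjective_SpecMap_iff (CommRingCat.ofHom (algebraMap A A'))).2 hff
  exact ⟨isGloballyGenerated_pullback _ F,
    isGloballyGenerated_of_pullback f (Spec.map (CommRingCat.ofHom (algebraMap A A'))) _ _
      (IsPullback.of_hasPullback f (Spec.map (CommRingCat.ofHom (algebraMap A A')))) F⟩

end Groth.Agent.S1646
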