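import Groth.Statements.S16460
-- import your own Groth.Agent.* helpers here

set_option autoImplicit false
universe u
open AdicGr

namespace Groth.Agent.S16460

/-- Let A be a commutative ring with a decreasing filtration by ideals A = F₀ ⊇ F₁ ⊇ F₂ ⊇ … satisfying
F_m·F_n ⊆ F_{m+n}, and assume the filtration is separated, ⋂ₙ Fₙ = 0. If the associated graded ring
⊕ₙ Fₙ/Fₙ₊₁ is an integral domain, then A is an integral domain. -/
theorem result (A : Type u) [CommRing A]
    (𝓕 : FiltBl.IdealFiltration A) (hsep : ⨅ n, 𝓕.F n = ⊥) [IsDomain (AssocGr.GrRing 𝓕)] :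
    IsDomain A := by
  classical
  have hord : ∀ a : A, a ≠ 0 → ∃ n, a ∈ 𝓕.F n ∧ a ∉ 𝓕.F (n + 1) := by
    intro a ha
    have hex : ∃ n, a ∉ 𝓕.F n := by
      by_contra h
      push Not at h
      apply ha
      have hmem : a ∈ ⨅ n, 𝓕.F n := by
        rw [Submodule.mem_iInf]; exact h
      rw [hsep] at hmem
      simpa using hmem
    have hN : a ∉ 𝓕.F (Nat.find hex) := Nat.find_spec hex
    have hN0 : Nat.find hex ≠ 0 := by
      intro h0
      rw [h0, 𝓕.zero_eq] at hN
      exact hN Submodule.mem_top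
    obtain ⟨n, hn⟩ := Nat.exists_eq_succ_of_ne_zero hN0
    refine ⟨n, ?_, ?_⟩
    · by_contra h
      exact Nat.find_min hex (by omega : n < Nat.find hex) h
    · rw [hn] at hN
      exact hN
  have hnt : Nontrivial A := by
    by_contra h
    rw [not_nontrivial_iff_subsingleton] at h
    have : (1 : AssocGr.GrRing 𝓕) = 0 := by
      rw [← map_one (algebraMap A (AssocGr.GrRing 𝓕)), Subsingleton.elim (1 : A) 0, map_zero]
    exact one_ne_zero this
  have hnzd : NoZeroDivisors A := by
    refine ⟨fun {a b} hab => ?_⟩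
    by_contra hne
    push Not at hne
    obtain ⟨m, ham, ham'⟩ := hord a hne.1
    obtain ⟨n, hbn, hbn'⟩ := hord b hne.2
    have h1 : (AssocGr.inDeg 𝓕 m ⟨a, ham⟩ : AssocGr.GrRing 𝓕) ≠ 0 := by
      rw [Ne, Submodule.coe_eq_zero, AssocGr.inDeg_eq_zero_iff]
      exact ham'
    have h2 : (AssocGr.inDeg 𝓕 n ⟨b, hbn⟩ : AssocGr.GrRing 𝓕) ≠ 0 := by
      rw [Ne, Submodule.coe_eq_zero, AssocGr.inDeg_eq_zero_iff]
      exact hbn'
    have h3 := mul_ne_zero h1 h2
    rw [AssocGr.coe_inDeg_mul] at h3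
    apply h3
    rw [Submodule.coe_eq_zero, AssocGr.inDeg_eq_zero_iff]
    change a * b ∈ _
    rw [hab]
    exact Ideal.zero_mem _
  exact NoZeroDivisors.to_isDomain A

end Groth.Agent.S16460
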