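import Groth.Statements.S16462
import Groth.Agent.Lib.Helper6.HomologyCmp
import Groth.Agent.Lib.Helper6.RelExtSS
import Groth.Agent.Lib.Helper6.InjModTotAcyc
import Groth.Agent.Lib.Helper8.SheafModGroth
import Groth.Agent.S11319
import Groth.Agent.S0030
import Groth.Agent.S0028

set_option autoImplicit false
universe u
open Coherent

namespace Groth.Agent.S16462

open CategoryTheory AlgebraicGeometry AlgebraicGeometry.Scheme.Modules in
/-- Let f : X → Y be a quasi-compact quasi-separated morphism of schemes, g : Y → Z an affine morphism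
and M a quasi-coherent O_X-module. Then for every p ≥ 0 the canonical edge morphism R^p (g ∘ f)_* M
→ g_*(R^p f_* M) is an isomorphism (higher direct images as right derived functors of direct image
on O-modules). (The published statement assumes f separated; this row assumes only f
quasi-separated.) -/
theorem result {X Y Z : Scheme.{u}} (f : X ⟶ Y) (g : Y ⟶ Z)
    [QuasiCompact f] [QuasiSeparated f] [IsAffineHom g] [HasInjectiveResolutions X.Modules]
    (M : X.Modules) [Coh.IsQCoh M] (p : ℕ) :
    IsIso (CohBC.lerayEdgeOut f g p M) := by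
  have : EnoughInjectives Y.Modules :=
    Groth.Agent.Lib.Helper8.SheafModGroth.enoughInjectives _ Y.ringCatSheaf
  have h : IsIso (RDer.edgeOut (pushforward f) (pushforward g) p M) := by
    refine Groth.Agent.Lib.Helper6.HomologyCmp.isIso_edgeOut (pushforward f) (pushforward g) p M ?_ ?_
    · intro J hJ a
      haveI : Injective (C := SheafOfModules.{u} X.ringCatSheaf) J := hJ
      exact Groth.Agent.Lib.Helper6.RelExtSS.isZero_Rpush g _
        (Groth.Agent.Lib.Helper6.RelExtSS.totallyAcyclic_push f J
          (Groth.Agent.Lib.Helper6.InjModTotAcyc.totallyAcyclic _ J)) (a + 1) (by omega)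
    · intro i _ a
      have hq : Coh.IsQCoh ((Coh.Rpush f i).obj M) := Groth.Agent.S0030.result f M i
      obtain ⟨e⟩ := Groth.Agent.S11319.result g ((Coh.Rpush f i).obj M) (a + 1)
      have h0 := Groth.Agent.S0028.result g ((Coh.Rpush f i).obj M) (a + 1) (by omega)
      have h1 : Limits.IsZero ((Groth.Agent.Lib.Helper6.ModAbPush.tS Z).obj
          ((Coh.Rpush g (a + 1)).obj ((Coh.Rpush f i).obj M))) := Limits.IsZero.of_iso h0 e
      have : (Groth.Agent.Lib.Helper6.ModAbPush.tS Z).Faithful :=
        inferInstanceAs (SheafOfModules.toSheaf.{u} Z.ringCatSheaf).Faithful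
      show Limits.IsZero ((Coh.Rpush g (a + 1)).obj ((Coh.Rpush f i).obj M))
      rw [Limits.IsZero.iff_id_eq_zero] at h1 ⊢
      apply (Groth.Agent.Lib.Helper6.ModAbPush.tS Z).map_injective
      rw [CategoryTheory.Functor.map_id, CategoryTheory.Functor.map_zero]
      exact h1
  unfold CohBC.lerayEdgeOut
  infer_instance

end Groth.Agent.S16462
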