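import Groth.Statements.S5971
import Groth.Agent.Lib.Helper29.PPChart2
import Groth.Agent.Lib.Helper29.PPFP
import Groth.Agent.Lib.Helper29.FPDict
import Groth.Agent.Lib.Helper28.QCohPush
import Groth.Agent.Lib.Helper17.PullbackBC

set_option autoImplicit false
universe u
open CategoryTheory CategoryTheory.Limits AlgebraicGeometry TopologicalSpace Opposite
open Nrm16

namespace Groth.Agent.S5971



open Groth.Agent.Lib.Helper29.PPChart Groth.Agent.Lib.Helper29.PPChart2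
  Groth.Agent.Lib.Helper29.OmegaLoc TensorProduct
  Groth.Agent.Lib.Helper28.QCohLoc Groth.Agent.Lib.Helper17.PullbackBC
  Groth.Agent.Lib.Helper28.PullbackInv Groth.Agent.Lib.Helper29.FPDict
  Groth.Agent.Lib.Helper29.PPFP

section QC

variable {X S : Scheme.{u}} (f : X ⟶ S) (n : ℕ)

instance isAffineHom_pr1 : IsAffineHom (PrinPart.pr1 f n) := by
  apply isAffineHom_of_forall_exists_isAffineOpen
  intro x
  obtain ⟨_, ⟨V, hV, rfl⟩, hfV, -⟩ :=
    S.isBasis_affineOpens.exists_subset_of_mem_open (Set.mem_univ (f x)) isOpen_univ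
  have h1 : x ∈ f ⁻¹ᵁ V := hfV
  obtain ⟨_, ⟨U, hU, rfl⟩, hxU, hle⟩ :=
    X.isBasis_affineOpens.exists_subset_of_mem_open h1 (f ⁻¹ᵁ V).isOpen
  exact ⟨U, hxU, hU, isAffineOpen_preimage_pr1 f n hU hV hle⟩

instance isQuasicoherent_PMod (F : X.Modules) [F.IsQuasicoherent] :
    (PrinPart.PMod f n F).IsQuasicoherent := by
  haveI : IsSeparated (PrinPart.pr1 f n) := IsSeparated.of_isAffineHom _
  unfold PrinPart.PMod
  exact isQuasicoherent_pushforward (PrinPart.pr1 f n) _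

end QC

section Chart

variable {X S : Scheme.{u}} (f : X ⟶ S) (n : ℕ)
  {U : X.Opens} (hU : IsAffineOpen U) {V : S.Opens} (hV : IsAffineOpen V) (e : U ≤ f ⁻¹ᵁ V)

include hU hV in
/-- the ring of the chart of the neighbourhood is a finitely presented module for the left structure. -/
theorem fp_left (hfp : (f.appLE V U e).hom.FinitePresentation) :
    letI : Algebra Γ(X, U) Γ(PrinPart.nbhd f n, PrinPart.pr1 f n ⁻¹ᵁ U) :=
      ((PrinPart.pr1 f n).app U).hom.toAlgebra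
    Module.FinitePresentation Γ(X, U) Γ(PrinPart.nbhd f n, PrinPart.pr1 f n ⁻¹ᵁ U) := by
  letI := alg f e
  letI : Algebra Γ(X, U) Γ(PrinPart.nbhd f n, PrinPart.pr1 f n ⁻¹ᵁ U) :=
    ((PrinPart.pr1 f n).app U).hom.toAlgebra
  haveI : Algebra.FinitePresentation Γ(S, V) Γ(X, U) := hfp
  haveI := finitePresentation_quotient Γ(S, V) Γ(X, U) (n + 1)
  let e₁ : (Γ(X, U) ⊗[Γ(S, V)] Γ(X, U)) ⧸ KaehlerDifferential.ideal Γ(S, V) Γ(X, U) ^ (n + 1) ≃+*
      Γ(PrinPart.nbhd f n, PrinPart.pr1 f n ⁻¹ᵁ U) :=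
    (Ideal.quotEquivOfEq (ker_ρ f n hU hV e).symm).trans
      (RingHom.quotientKerEquivOfSurjective (ρ_surjective f n hU hV e))
  have he₁ : ∀ t : Γ(X, U) ⊗[Γ(S, V)] Γ(X, U), e₁ (Ideal.Quotient.mk _ t) = ρ f n hU hV e t := by
    intro t
    rfl
  let e₂ : ((Γ(X, U) ⊗[Γ(S, V)] Γ(X, U)) ⧸ KaehlerDifferential.ideal Γ(S, V) Γ(X, U) ^ (n + 1))
      ≃ₗ[Γ(X, U)] Γ(PrinPart.nbhd f n, PrinPart.pr1 f n ⁻¹ᵁ U) :=
    { e₁ with
      map_smul' := fun b x => by
        obtain ⟨t, rfl⟩ := Ideal.Quotient.mk_surjective x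
        change e₁ (b • Ideal.Quotient.mk _ t) = (PrinPart.pr1 f n).app U b * e₁ (Ideal.Quotient.mk _ t)
        have h1 : b • Ideal.Quotient.mk (KaehlerDifferential.ideal Γ(S, V) Γ(X, U) ^ (n + 1)) t =
            Ideal.Quotient.mk _ ((b ⊗ₜ[Γ(S, V)] (1 : Γ(X, U))) * t) := by
          rw [Algebra.smul_def, ← Ideal.Quotient.mk_algebraMap, ← map_mul,
            Algebra.TensorProduct.algebraMap_apply]
          rfl
        rw [h1, he₁, he₁, map_mul, ρ_inl] }
  exact Module.FinitePresentation.of_equiv e₂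

end Chart

/-- Let f : X ⟶ S be a morphism locally of finite presentation, n a natural number and F a
quasi-coherent O_X-module of finite presentation. Then the sheaf of principal parts P^n_{X/S}(F),
with its left O_X-module structure, is of finite presentation. (The published statement asserts this
for either of the two O_X-module structures of P^n_{X/S}(F); this row states it for the left
structure, the one the sheaf of principal parts carries here.) -/
theorem result {X S : Scheme.{u}} (f : X ⟶ S) [LocallyOfFinitePresentation f] (n : ℕ)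
    (F : X.Modules) (hF : CohB1.IsFP F) :
    CohB1.IsFP (PrinPart.PMod f n F) := by
  haveI : SheafOfModules.IsFinitePresentation.{u} (R := X.ringCatSheaf) F := hF
  haveI : F.IsQuasicoherent := isQuasicoherent_of_isFinitePresentation F
  haveI : (PrinPart.PMod f n F).IsQuasicoherent := isQuasicoherent_PMod f n F
  let ι := { p : X.Opens × S.Opens // IsAffineOpen p.1 ∧ IsAffineOpen p.2 ∧ p.1 ≤ f ⁻¹ᵁ p.2 }
  refine isFinitePresentation_of_fp_cover (PrinPart.PMod f n F) (fun i : ι => i.1.1) ?_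
    (fun i => i.2.1) ?_
  · refine IsOpenCover.mk (eq_top_iff.mpr fun x _ => ?_)
    obtain ⟨_, ⟨V, hV, rfl⟩, hfV, -⟩ :=
      S.isBasis_affineOpens.exists_subset_of_mem_open (Set.mem_univ (f x)) isOpen_univ
    have h1 : x ∈ f ⁻¹ᵁ V := hfV
    obtain ⟨_, ⟨U, hU, rfl⟩, hxU, hle⟩ :=
      X.isBasis_affineOpens.exists_subset_of_mem_open h1 (f ⁻¹ᵁ V).isOpen
    exact Opens.mem_iSup.mpr ⟨⟨(U, V), hU, hV, hle⟩, hxU⟩
  · rintro ⟨⟨U, V⟩, hU, hV, e⟩
    change Module.FinitePresentation Γ(X, U) Γ(PrinPart.PMod f n F, U)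
    have hN : IsAffineOpen (PrinPart.pr1 f n ⁻¹ᵁ U) := isAffineOpen_preimage_pr1 f n hU hV e
    have hM : Module.FinitePresentation Γ(X, U) Γ(F, U) := fp_of_isAffineOpen F hU
    -- finite presentation over the ring of the neighbourhood
    have hR : Module.FinitePresentation Γ(PrinPart.nbhd f n, PrinPart.pr1 f n ⁻¹ᵁ U)
        Γ((Scheme.Modules.pullback (PrinPart.pr2 f n)).obj F, PrinPart.pr1 f n ⁻¹ᵁ U) := by
      have hBC := isBC_pullback (PrinPart.pr2 f n) hU hN (le_preimage_pr2 f n U) F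
      letI : Algebra Γ(X, U) Γ(PrinPart.nbhd f n, PrinPart.pr1 f n ⁻¹ᵁ U) :=
        ((PrinPart.pr2 f n).appLE U (PrinPart.pr1 f n ⁻¹ᵁ U) (le_preimage_pr2 f n U)).hom.toAlgebra
      obtain ⟨eqv, -⟩ := (isBC_iff _ _).mp hBC
      exact Module.FinitePresentation.of_equiv eqv.symm
    letI : Algebra Γ(X, U) Γ(PrinPart.nbhd f n, PrinPart.pr1 f n ⁻¹ᵁ U) :=
      ((PrinPart.pr1 f n).app U).hom.toAlgebra
    haveI := fp_left f n hU hV e (Scheme.Hom.finitePresentation_appLE f hV hU e)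
    letI : Module Γ(PrinPart.nbhd f n, PrinPart.pr1 f n ⁻¹ᵁ U) Γ(PrinPart.PMod f n F, U) :=
      (inferInstance : Module Γ(PrinPart.nbhd f n, PrinPart.pr1 f n ⁻¹ᵁ U)
        Γ((Scheme.Modules.pullback (PrinPart.pr2 f n)).obj F, PrinPart.pr1 f n ⁻¹ᵁ U))
    haveI : IsScalarTower Γ(X, U) Γ(PrinPart.nbhd f n, PrinPart.pr1 f n ⁻¹ᵁ U)
        Γ(PrinPart.PMod f n F, U) := IsScalarTower.of_algebraMap_smul fun b x => rfl
    haveI : Module.FinitePresentation Γ(PrinPart.nbhd f n, PrinPart.pr1 f n ⁻¹ᵁ U)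
        Γ(PrinPart.PMod f n F, U) := hR
    exact Module.FinitePresentation.trans Γ(X, U) Γ(PrinPart.PMod f n F, U)
      Γ(PrinPart.nbhd f n, PrinPart.pr1 f n ⁻¹ᵁ U)



end Groth.Agent.S5971
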