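import Groth.Statements.S16489
import Groth.Agent.Lib.Helper1.RefHull6
import Groth.Agent.Lib.helper11.RegularUFD
import Groth.Agent.Lib.Helper7.StalkFree
import Groth.Agent.S7862

set_option autoImplicit false
universe u
open CategoryTheory CategoryTheory.Limits AlgebraicGeometry TopologicalSpace
open VBPn

namespace Groth.Agent.S16489

open Groth.Agent.Lib.Helper1.RefHullLib Groth.Agent.Lib.Helper28.QCohLoc

/-- at a point of codimension `≤ 1` of a regular integral locally Noetherian scheme, a torsion-free coherent
module is reflexive. -/
theorem isReflexiveAt_of_dim_lt_two (X : Scheme.{u}) [IsIntegral X] [IsLocallyNoetherian X]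
    (hreg : ∀ x : X, IsRegularLocalRing (X.presheaf.stalk x)) (F : X.Modules) (hF : Coh.IsCoh F)
    (htf : TorSh.IsTorsionFree F) (x : X)
    (hdim : ¬ (2 : WithBot ℕ∞) ≤ ringKrullDim (X.presheaf.stalk x)) : RefHull.IsReflexiveAt F x := by
  haveI := hreg x
  haveI : UniqueFactorizationMonoid (X.presheaf.stalk x) :=
    Groth.Agent.Lib.helper11.RegularUFD.ufd (X.presheaf.stalk x)
  haveI : IsIntegrallyClosed (X.presheaf.stalk x) := UniqueFactorizationMonoid.instIsIntegrallyClosed
  haveI := Groth.Agent.S7862.pid_of_dim_lt_two (X.presheaf.stalk x) hdim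
  haveI := htf x
  haveI : Module.Finite (X.presheaf.stalk x) (F.presheaf.stalk x) :=
    Groth.Agent.Lib.Helper7.StalkFree.finite_stalk_of_isCoh X F hF x
  haveI : Module.Free (X.presheaf.stalk x) (F.presheaf.stalk x) := inferInstance
  change Module.IsReflexive (X.presheaf.stalk x) (F.presheaf.stalk x)
  infer_instance

/-- Let X be an integral locally Noetherian scheme all of whose local rings are regular, and F a
coherent O_X-module. Call F normal when for all open subsets V ⊆ U of X such that every point of U
not in V has local ring O_{X,x} of dimension at least 2, the restriction map F(U) → F(V) is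
bijective. Then F is reflexive (the canonical map F → F^** is an isomorphism) if and only if F is
torsion-free (each stalk F_x is a torsion-free O_{X,x}-module) and normal. The published statement
is for coherent analytic sheaves on a complex manifold, a sheaf being called normal when for every
open U and every analytic subset A ⊆ U of codimension at least 2 the restriction F(U) → F(U ∖ A) is
bijective; this row is its statement for coherent sheaves on a regular integral locally Noetherian
scheme, with normality phrased through open subsets V ⊆ U whose complement in U consists of points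
with local ring of dimension at least 2, where the same argument applies. -/
theorem result (X : Scheme.{u}) [IsIntegral X] [IsLocallyNoetherian X]
    (hreg : ∀ x : X, IsRegularLocalRing (X.presheaf.stalk x)) (F : X.Modules) (hF : Coh.IsCoh F) :
    RefHull.IsReflexive F ↔
      TorSh.IsTorsionFree F ∧
      (∀ (U V : X.Opens) (hVU : V ≤ U), (∀ x : X, x ∈ U → x ∉ V → (2 : WithBot ℕ∞) ≤ ringKrullDim (X.presheaf.stalk x)) →
        Function.Bijective (F.presheaf.map (homOfLE hVU).op)) := by
  constructor
  · intro hr
    refine ⟨fun x => ?_, isNormalMod_of_isReflexive hreg F hF hr⟩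
    haveI : Module.IsReflexive (X.presheaf.stalk x) (F.presheaf.stalk x) :=
      (isReflexive_iff_forall_isReflexiveAt F hF).1 hr x
    infer_instance
  · rintro ⟨htf, hn⟩
    have hn' : IsNormalMod F := hn
    have hdd := isNormalMod_ddual hreg F hF
    have hddc : Coh.IsCoh (RefHull.ddual F) :=
      isCoh_homSh _ _ (isCoh_homSh F _ hF (isCoh_structureModule X)) (isCoh_structureModule X)
    -- the open locus where the biduality map is bijective on stalks
    let S : Set X.Opens := {W | ∀ z ∈ W, Function.Bijective (RefHull.stalkMapₗ (RefHull.bidualMap F) z)}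
    let Vg : X.Opens := sSup S
    have hVg : ∀ z ∈ Vg, Function.Bijective (RefHull.stalkMapₗ (RefHull.bidualMap F) z) := by
      intro z hz
      obtain ⟨W, hWS, hzW⟩ : ∃ W : X.Opens, W ∈ S ∧ z ∈ W := TopologicalSpace.Opens.mem_sSup.1 hz
      exact hWS z hzW
    have hmem : ∀ x : X, ¬ (2 : WithBot ℕ∞) ≤ ringKrullDim (X.presheaf.stalk x) → x ∈ Vg := by
      intro x hx
      have h1 := (bijective_stalkMapₗ_bidualMap_iff F hF x).2
        (isReflexiveAt_of_dim_lt_two X hreg F hF htf x hx)
      obtain ⟨W, hxW, hW⟩ := exists_nhd_bijective_stalkMapₗ hF.2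
        (Groth.Agent.S16240.isFinitePresentation_of_isCoh _ hddc) (RefHull.bidualMap F) x h1
      exact (le_sSup (show W ∈ S from hW)) hxW
    change IsIso (RefHull.bidualMap F)
    rw [Scheme.Modules.Hom.isIso_iff_isIso_app]
    intro U
    rw [ConcreteCategory.isIso_iff_bijective]
    have hc : CodimTwo U (U ⊓ Vg) := fun x hxU hxV => by
      by_contra h2
      exact hxV ⟨hxU, hmem x h2⟩
    have hF1 := hn' U (U ⊓ Vg) inf_le_left hc
    have hF2 := hdd U (U ⊓ Vg) inf_le_left hc
    have hV := bijective_app_of_stalkMapₗ (RefHull.bidualMap F) (U ⊓ Vg) fun z hz => hVg z hz.2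
    have hnat : ∀ s : Γ(F, U), (RefHull.bidualMap F).app (U ⊓ Vg) (res F inf_le_left s) =
        res (RefHull.ddual F) inf_le_left ((RefHull.bidualMap F).app U s) := fun s =>
      Groth.Agent.Lib.Helper28.QCohLoc.app_res (RefHull.bidualMap F) inf_le_left s
    constructor
    · intro s t hst
      apply hF1.1
      apply hV.1
      change (RefHull.bidualMap F).app (U ⊓ Vg) (res F inf_le_left s) =
        (RefHull.bidualMap F).app (U ⊓ Vg) (res F inf_le_left t)
      rw [hnat, hnat]
      exact congrArg _ hst
    · intro t
      obtain ⟨s', hs'⟩ := hV.2 (res (RefHull.ddual F) inf_le_left t)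
      obtain ⟨s, rfl⟩ := hF1.2 s'
      refine ⟨s, hF2.1 ?_⟩
      change res (RefHull.ddual F) inf_le_left _ = res (RefHull.ddual F) inf_le_left t
      rw [← hnat]
      exact hs'

end Groth.Agent.S16489
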