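import Groth.Statements.S16491
import Groth.Agent.Lib.Helper1.RefHull9
import Groth.Agent.Lib.Helper1.ReflexiveAlg3
import Groth.Agent.Lib.helper11.RegularUFD
import Groth.Agent.Lib.Helper29.FreeIso3
import Groth.Agent.Lib.Helper29.FPFree

set_option autoImplicit false
universe u
open CategoryTheory CategoryTheory.Limits AlgebraicGeometry TopologicalSpace
open VBPn

namespace Groth.Agent.S16491

open Opposite RefHull
open Groth.Agent.Lib.Helper1.RefHullLib Groth.Agent.Lib.Helper28.QCohLoc
  Groth.Agent.Lib.Helper29.QCohStalk Groth.Agent.Lib.Helper29.FreeIso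

/-- Let X be an integral locally Noetherian scheme all of whose local rings are regular, and F a
coherent O_X-module which is reflexive (the canonical map F → F^** is an isomorphism) and of rank 1
(F restricts to an invertible module on some dense open subset of X). Then F is invertible: every
point has an open neighbourhood on which F is isomorphic to the structure sheaf. The published
statement is for reflexive coherent analytic sheaves of rank 1 on a complex manifold; this row is
its statement on a regular integral locally Noetherian scheme, whose local rings are factorial as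
the argument requires. -/
theorem result (X : Scheme.{u}) [IsIntegral X] [IsLocallyNoetherian X]
    (hreg : ∀ x : X, IsRegularLocalRing (X.presheaf.stalk x)) (F : X.Modules) (hF : Coh.IsCoh F)
    (hrefl : RefHull.IsReflexive F) (hrk : RefHull.GenInvertible F) :
    PicF.IsInvertible F := by
  haveI : F.IsQuasicoherent := hF.1
  haveI hFP : SheafOfModules.IsFinitePresentation.{u} (R := X.ringCatSheaf) F :=
    Groth.Agent.S16240.isFinitePresentation_of_isCoh F hF
  have htf := isTorsionFree_of_isReflexive F hF hrefl
  obtain ⟨W, g, hηW, hg⟩ := exists_isGen_generic F hrk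
  intro x
  haveI := hreg x
  haveI : UniqueFactorizationMonoid (X.presheaf.stalk x) :=
    Groth.Agent.Lib.helper11.RegularUFD.ufd (X.presheaf.stalk x)
  haveI : Module.IsReflexive (X.presheaf.stalk x) (F.presheaf.stalk x) :=
    (isReflexive_iff_forall_isReflexiveAt F hF).1 hrefl x
  haveI := nontrivial_stalk_of_isGen F hF.2 hηW hg x
  obtain ⟨e⟩ := Groth.Agent.Lib.Helper1.ReflexiveAlg.nonempty_equiv_of_rank_one
    (exists_dependency F htf hηW hg x)
  haveI hfree : Module.Free (X.presheaf.stalk x) (F.presheaf.stalk x) := Module.Free.of_equiv e.symm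
  obtain ⟨V, hV, hxV, -⟩ := (Opens.isBasis_iff_nbhd.1 X.isBasis_affineOpens)
    (show x ∈ (⊤ : X.Opens) from trivial)
  obtain ⟨f, n, τ, hxf, hτ⟩ :=
    Groth.Agent.Lib.Helper29.FPFree.exists_isBasisOn_of_free_stalk F hV x hxV hfree
  have hn : n = 1 := by
    have h1 : Module.finrank (X.presheaf.stalk x) (F.presheaf.stalk x) = n := by
      rw [Module.finrank_eq_card_basis (hτ.stalkBasis x hxf), Fintype.card_fin]
    have h2 : Module.finrank (X.presheaf.stalk x) (F.presheaf.stalk x) = 1 := by
      rw [e.finrank_eq, Module.finrank_self]
    omega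
  subst hn
  obtain ⟨i⟩ := hτ.nonempty_iso
  exact ⟨X.basicOpen f, hxf,
    ⟨i ≪≫ Limits.coproductUniqueIso (fun _ : Fin 1 => Coh.structureModule (↑(X.basicOpen f)))⟩⟩

end Groth.Agent.S16491
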