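import Groth.Statements.S16496
import Groth.Agent.Lib.Helper7.ModHartogsFlat
import Groth.Agent.Lib.Helper12.SerreNormalC
import Groth.Agent.S12226

set_option autoImplicit false
universe u
open CategoryTheory AlgebraicGeometry
open SGA3

namespace Groth.Agent.S16496

theorem two_le_of_not_le_one (d : WithBot ℕ∞) (h : ¬ d ≤ 1) : (2 : WithBot ℕ∞) ≤ d := by
  induction d using WithBot.recBotCoe with
  | bot => exact absurd bot_le h
  | coe e =>
    have h1 : ¬ e ≤ 1 := fun he => h (by exact_mod_cast he)
    have h2 : (1 : ℕ∞) < e := not_le.1 h1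
    have h3 : (2 : ℕ∞) ≤ e := by
      have := Order.add_one_le_of_lt h2
      simpa [one_add_one_eq_two] using this
    have h4 : ((2 : ℕ∞) : WithBot ℕ∞) ≤ (e : WithBot ℕ∞) := WithBot.coe_le_coe.2 h3
    exact h4


/-- Let S be a Noetherian normal scheme, A a flat quasi-coherent O_S-module (not assumed of finite type)
and j : U → S the inclusion of an open subscheme containing every point of S whose local ring has
dimension at most 1. Then A = j_* j^* A: the unit A → j_*(A|_U) of the adjunction between
restriction to U and direct image along j is an isomorphism. In the source U is the flatness locus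
of a finite type submodule of A, an open which contains all points of codimension at most 1; the
printed argument uses only this property of U. -/
theorem result (S : Scheme.{u}) [IsNoetherian S]
    (hS : Pi1.IsNormalScheme S) (A : S.Modules) (hA : Coh.IsQCoh A) (hAfl : FlatMod.IsFlat A)
    (U : S.Opens) (hU : ∀ s : S, ringKrullDim (S.presheaf.stalk s) ≤ 1 → s ∈ U) :
    IsIso ((Scheme.Modules.restrictAdjunction U.ι).unit.app A) := by
  haveI : A.IsQuasicoherent := hA
  have hdepth : ∀ s : S, s ∉ U →
      (2 : ℕ∞) ≤ LocCoh.depth (S.presheaf.stalk s) (S.presheaf.stalk s) := by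
    intro s hs
    obtain ⟨hdom, hic⟩ := hS s
    have h2 : (2 : WithBot ℕ∞) ≤ ringKrullDim (S.presheaf.stalk s) :=
      two_le_of_not_le_one _ (fun h => hs (hU s h))
    have h3 := Groth.Agent.Lib.Helper12.SerreNormal.min_two_le_depth (S.presheaf.stalk s)
    have h4 : min ((2 : ℕ) : WithBot ℕ∞) (ringKrullDim (S.presheaf.stalk s)) = ((2 : ℕ) : WithBot ℕ∞) :=
      min_eq_left (by exact_mod_cast h2)
    rw [h4] at h3
    have h5 : (((2 : ℕ∞)) : WithBot ℕ∞) ≤
        ((LocCoh.depth (S.presheaf.stalk s) (S.presheaf.stalk s) : ℕ∞) : WithBot ℕ∞) := h3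
    exact WithBot.coe_le_coe.1 h5
  exact Groth.Agent.S12226.isIso_unit_of_bijective U A
    (Groth.Agent.Lib.Helper7.ModHartogs.bijective_res_of_flat A hAfl U hdepth)

end Groth.Agent.S16496
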