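import Groth.Statements.S16500
import Mathlib.Tactic.Ring
import Mathlib.Tactic.Linarith
import Mathlib.Data.Nat.Prime.Basic

set_option autoImplicit false
universe u
open Curves

namespace Groth.Agent.S16500

theorem reflect_pow' {R : Type*} [CommSemiring R] (f : Polynomial R) (N : ℕ)
    (hf : f.natDegree ≤ N) (m : ℕ) :
    Polynomial.reflect (m * N) (f ^ m) = (Polynomial.reflect N f) ^ m := by
  induction m with
  | zero => simp [Polynomial.reflect_one]
  | succ m ih =>
    rw [pow_succ, pow_succ, Nat.succ_mul,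
      Polynomial.reflect_mul _ _ (Polynomial.natDegree_pow_le_of_le m hf) hf, ih]

theorem idx (p g i j : ℕ) (hp : p % 2 = 1) (hgp : g ≤ p) (hi : i < g) (hj : j < g) :
    (i + 1) * p - (j + 1) ≤ ((p - 1) / 2) * (2 * g + 2) ∧
      ((p - 1) / 2) * (2 * g + 2) - ((i + 1) * p - (j + 1)) =
        (g - (i + 1) + 1) * p - (g - (j + 1) + 1) := by
  obtain ⟨m, rfl⟩ : ∃ m, p = 2 * m + 1 := ⟨p / 2, by omega⟩
  obtain ⟨k, rfl⟩ : ∃ k, g = i + 1 + k := ⟨g - (i + 1), by omega⟩
  have h1 : (2 * m + 1 - 1) / 2 = m := by omega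
  have h2 : i + 1 + k - (i + 1) + 1 = k + 1 := by omega
  rw [h1, h2]
  have e1 : (i + 1) * (2 * m + 1) = 2 * (i * m) + i + 2 * m + 1 := by ring
  have e2 : m * (2 * (i + 1 + k) + 2) = 2 * (i * m) + 4 * m + 2 * (k * m) := by ring
  have e3 : (k + 1) * (2 * m + 1) = 2 * (k * m) + k + 2 * m + 1 := by ring
  rw [e1, e2, e3]
  constructor <;> omega

/-- Let k be a field of odd characteristic p, g ≤ p a natural number and f ∈ k[x] of degree at most 2g +
2. Let F be f with its coefficients reversed in degrees 0, …, 2g + 2, i.e. F(X) = X^(2g+2) f(1/X)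
(Mathlib's reflect (2g+2) f), and write f^((p-1)/2) = Σ_l c_l x^l and F^((p-1)/2) = Σ_l C_l X^l.
Then C_{ip-j} = c_{(g+1-i)p-(g+1-j)} for all i, j = 1, …, g; that is, the g × g Cartier–Manin matrix
of F is that of f with the order of both rows and columns reversed (below the indices run over Fin
g, the entry at (i, j) being the coefficient of degree (i+1)p-(j+1), and reversal is Fin.rev). In
particular the two matrices have the same determinant. (The source applies this to f with f(0) = 0,
separable of degree 2g + 2 over a perfect field, so that F has odd degree 2g + 1; the identity uses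
none of that.) -/
theorem result (k : Type u) [Field k] (p : ℕ) [Fact p.Prime] (hp : p ≠ 2) [CharP k p]
    (g : ℕ) (hg : g ≤ p) (f : Polynomial k) (hf : f.natDegree ≤ 2 * g + 2) :
    (Matrix.of fun i j : Fin g =>
        ((Polynomial.reflect (2 * g + 2) f) ^ ((p - 1) / 2)).coeff (((i : ℕ) + 1) * p - ((j : ℕ) + 1))) =
      Matrix.of fun i j : Fin g =>
        (f ^ ((p - 1) / 2)).coeff (((Fin.rev i : ℕ) + 1) * p - ((Fin.rev j : ℕ) + 1)) := by
  have hodd : p % 2 = 1 := by
    rcases Nat.Prime.eq_two_or_odd (Fact.out : p.Prime) with h | h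
    · exact absurd h hp
    · exact h
  ext i j
  simp only [Matrix.of_apply]
  rw [← reflect_pow' f (2 * g + 2) hf, Polynomial.coeff_reflect]
  obtain ⟨h1, h2⟩ := idx p g i j hodd hg i.2 j.2
  rw [Polynomial.revAt_le h1, h2, Fin.val_rev, Fin.val_rev]

end Groth.Agent.S16500
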