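import Groth.Statements.S1652
import Groth.Agent.Lib.Helper17.InvDescLoc
import Groth.Agent.Lib.Helper28.GenIso
import Groth.Agent.Lib.Helper28.TensorPowGen
import Groth.Agent.Lib.Helper28.ModGlueHom
import Groth.Agent.Lib.Helper28.TwistIso
import Mathlib
set_option backward.isDefEq.respectTransparency.types false

set_option autoImplicit false
universe u
open CategoryTheory CategoryTheory.Limits AlgebraicGeometry
open Variety

namespace Groth.Agent.S1652

open TopologicalSpace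
open Groth.Agent.Lib.Helper28 Groth.Agent.Lib.Helper28.QCohLoc Groth.Agent.Lib.Helper28.GenLocus
open Groth.Agent.Lib.Helper28.TensorGen
open Groth.Agent.Lib.Helper17 Groth.Agent.Lib.Helper17.InvDescLoc

/-- the local coefficients of a nonzero global section of an invertible module on an integral scheme are nonzero -/
theorem coef_ne_zero {X : Scheme.{u}} [IsIntegral X] (N : X.Modules) (s : Coh.structureModule X ⟶ N) (hs : s ≠ 0)
    (U : X → X.Opens) (g : ∀ x, Γ(N, U x)) (hxU : ∀ x, x ∈ U x) (hg : ∀ x, IsGen N (U x) (g x)) (x : X) :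
    (hg x).coef le_rfl (res N (le_top : U x ≤ ⊤) (s.app ⊤ (oneSec X ⊤))) ≠ 0 := by
  set σ : Γ(N, ⊤) := s.app ⊤ (oneSec X ⊤) with hσ
  haveI : ∀ x : X, Nonempty ((U x : X.Opens) : Type u) := fun x => ⟨⟨x, hxU x⟩⟩
  haveI : ∀ x y : X, Nonempty ((U x ⊓ U y : X.Opens) : Type u) := fun x y => by
    have h1 : ((U x : X.Opens) : Set X).Nonempty := ⟨x, hxU x⟩
    have h2 : ((U y : X.Opens) : Set X).Nonempty := ⟨y, hxU y⟩
    obtain ⟨z, hz⟩ := (PreirreducibleSpace.isPreirreducible_univ (X := X)) _ _ (U x).2 (U y).2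
      (by simpa using h1) (by simpa using h2)
    exact ⟨⟨z, ⟨hz.2.1, hz.2.2⟩⟩⟩
  let a : ∀ x : X, Γ(X, U x) := fun x => (hg x).coef le_rfl (res N (le_top : U x ≤ ⊤) σ)
  have ha : ∀ x, (a x • g x : Γ(N, U x)) = res N (le_top : U x ≤ ⊤) σ := fun x => by
    have := (hg x).coef_smul le_rfl (res N (le_top : U x ≤ ⊤) σ)
    rwa [res_self] at this
  show a x ≠ 0
  intro hax
  apply hs
  have hσ0 : σ = 0 := by
    refine eq_of_locally_eq N U ⊤ (fun y => le_top) (fun y _ => Opens.mem_iSup.2 ⟨y, hxU y⟩) σ 0 ?_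
    intro y
    rw [res_zero, ← ha y]
    have hay : a y = 0 := by
      apply map_injective_of_isIntegral X (homOfLE (inf_le_right : U x ⊓ U y ≤ U y))
      rw [map_zero]
      have h1 : (resO (inf_le_right : U x ⊓ U y ≤ U y) (a y) •
          res N (inf_le_right : U x ⊓ U y ≤ U y) (g y) : Γ(N, U x ⊓ U y)) = 0 := by
        rw [← res_smul, ha y, res_res]
        have h2 : res N ((inf_le_right : U x ⊓ U y ≤ U y).trans le_top) σ =
            res N (inf_le_left : U x ⊓ U y ≤ U x) (res N (le_top : U x ≤ ⊤) σ) := (res_res N _ _ σ).symm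
        rw [h2, ← ha x, hax, zero_smul, res_zero]
      apply ((hg y) (U x ⊓ U y) inf_le_right).1
      show (_ • res N _ (g y) : Γ(N, U x ⊓ U y)) = (0 • res N _ (g y) : Γ(N, U x ⊓ U y))
      rw [zero_smul]
      exact h1
    rw [hay, zero_smul]
  apply Scheme.Modules.hom_ext
  intro W
  ext w
  have h5 := hom_app_eq_smul s W (show Γ(X, W) from w)
  have h6 : s.app ⊤ (show Γ(Coh.structureModule X, ⊤) from (1 : Γ(X, ⊤))) = 0 := hσ0
  rw [h6, res_zero, smul_zero] at h5
  exact h5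


/-- On a proper curve over a field, if L and M are invertible modules with L ⊗ M ≅ O_X and both L and M
have a nonzero global section, then L is isomorphic to the structure sheaf. -/
theorem result (k : Type u) [Field k] (X : Scheme.{u}) [X.Over (Spec (CommRingCat.of k))]
    [IsIntegral X] [IsProper (X ↘ (Spec (CommRingCat.of k)))] (hdim : topologicalKrullDim X = 1)
    (L M : X.Modules) (hL : PicF.IsInvertible L) (hM : PicF.IsInvertible M) (hLM : ClSub.IsInverseOf L M)
    (s : Coh.structureModule X ⟶ L) (hs : s ≠ 0) (t : Coh.structureModule X ⟶ M) (ht : t ≠ 0) :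
    Nonempty (L ≅ Coh.structureModule X) := by
  obtain ⟨e⟩ := hLM
  set σ : Γ(L, ⊤) := s.app ⊤ (oneSec X ⊤) with hσ
  set τ : Γ(M, ⊤) := t.app ⊤ (oneSec X ⊤) with hτ
  set c : Γ(X, ⊤) := e.hom.app ⊤ (tmulSec L M σ τ) with hc
  have hex : ∀ x : X, ∃ (U : X.Opens) (g : Γ(L, U)) (m : Γ(M, U)), x ∈ U ∧ IsGen L U g ∧ IsGen M U m := by
    intro x
    obtain ⟨U₁, g₁, hx₁, hg₁⟩ := exists_isGen L hL x
    obtain ⟨U₂, g₂, hx₂, hg₂⟩ := exists_isGen M hM x
    exact ⟨U₁ ⊓ U₂, res L inf_le_left g₁, res M inf_le_right g₂, ⟨hx₁, hx₂⟩, hg₁.res _, hg₂.res _⟩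
  choose U g m hxU hg hm using hex
  haveI : ∀ x : X, Nonempty ((U x : X.Opens) : Type u) := fun x => ⟨⟨x, hxU x⟩⟩
  let a : ∀ x : X, Γ(X, U x) := fun x => (hg x).coef le_rfl (res L (le_top : U x ≤ ⊤) σ)
  let b : ∀ x : X, Γ(X, U x) := fun x => (hm x).coef le_rfl (res M (le_top : U x ≤ ⊤) τ)
  let w : ∀ x : X, Γ(X, U x) := fun x => e.hom.app (U x) (tmulSec L M (g x) (m x))
  have ha : ∀ x, (a x • g x : Γ(L, U x)) = res L (le_top : U x ≤ ⊤) σ := fun x => by
    have := (hg x).coef_smul le_rfl (res L (le_top : U x ≤ ⊤) σ)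
    rwa [res_self] at this
  have hb : ∀ x, (b x • m x : Γ(M, U x)) = res M (le_top : U x ≤ ⊤) τ := fun x => by
    have := (hm x).coef_smul le_rfl (res M (le_top : U x ≤ ⊤) τ)
    rwa [res_self] at this
  have hA : ∀ x, a x ≠ 0 := coef_ne_zero L s hs U g hxU hg
  have hB : ∀ x, b x ≠ 0 := coef_ne_zero M t ht U m hxU hm
  have hW : ∀ x, w x ≠ 0 := by
    intro x hwx
    haveI : Nontrivial Γ(X, U x) := Scheme.component_nontrivial X (U x)
    have h1 : tmulSec L M (g x) (m x) = 0 := by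
      apply (app_bijective_of_isIso e.hom (U x)).1
      rw [map_zero]
      exact hwx
    have h2 : g x = 0 := tmulSec_right_eq_zero L M (hm x) (g x) h1
    have h3 : (1 : Γ(X, U x)) = 0 := by
      apply ((hg x) (U x) le_rfl).1
      show ((1 : Γ(X, U x)) • res L le_rfl (g x) : Γ(L, U x)) = ((0 : Γ(X, U x)) • res L le_rfl (g x) : Γ(L, U x))
      rw [res_self, h2, smul_zero, smul_zero]
    exact one_ne_zero h3
  have hcx : ∀ x, resO (le_top : U x ≤ ⊤) c = a x * b x * w x := by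
    intro x
    have h1 : (show Γ(Coh.structureModule X, U x) from resO (le_top : U x ≤ ⊤) c) =
        res (Coh.structureModule X) (le_top : U x ≤ ⊤) (e.hom.app ⊤ (tmulSec L M σ τ)) := rfl
    have h2 : res (Coh.structureModule X) (le_top : U x ≤ ⊤) (e.hom.app ⊤ (tmulSec L M σ τ)) =
        e.hom.app (U x) (res (CohB1.tensorMod L M) (le_top : U x ≤ ⊤) (tmulSec L M σ τ)) :=
      (app_res e.hom le_top _).symm
    have h3 : e.hom.app (U x) (res (CohB1.tensorMod L M) (le_top : U x ≤ ⊤) (tmulSec L M σ τ)) =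
        ((a x * b x) • e.hom.app (U x) (tmulSec L M (g x) (m x)) : Γ(Coh.structureModule X, U x)) := by
      rw [tmulSec_res, ← ha x, ← hb x, tmulSec_smul_left, tmulSec_smul_right, ← mul_smul,
        Scheme.Modules.Hom.app_smul]
    exact h1.trans (h2.trans h3)
  have hK : IsField Γ(X, ⊤) := isField_of_universallyClosed k (X ↘ (Spec (CommRingCat.of k)))
  obtain ⟨x₀⟩ := (inferInstance : Nonempty X)
  have hc0 : c ≠ 0 := by
    intro h0
    have h1 := hcx x₀
    rw [h0] at h1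
    have h2 : resO (le_top : U x₀ ≤ ⊤) (0 : Γ(X, ⊤)) = 0 :=
      map_zero (X.presheaf.map (homOfLE (le_top : U x₀ ≤ ⊤)).op).hom
    rw [h2] at h1
    haveI : IsDomain Γ(X, U x₀) := inferInstance
    exact mul_ne_zero (mul_ne_zero (hA x₀) (hB x₀)) (hW x₀) h1.symm
  have hcu : IsUnit c := by
    letI := hK.toField
    exact IsUnit.mk0 c hc0
  have hσgen : IsGen L ⊤ σ := by
    refine isGen_of_locally σ fun q _ => ⟨U q, le_top, hxU q, ?_⟩
    have h1 : IsUnit (a q * b q * w q) := by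
      rw [← hcx q]
      exact hcu.map _
    have h2 : IsUnit (a q) := isUnit_of_mul_isUnit_left (isUnit_of_mul_isUnit_left h1)
    rw [← ha q]
    exact IsGen.smul_unit (hg q) _ h2
  obtain ⟨ψ, -⟩ := exists_iso_of_cocycle_gen (M := L) (N := Coh.structureModule X)
    (fun _ : Unit => (⊤ : X.Opens)) (fun _ => σ) (fun _ => oneSec X ⊤)
    (fun _ => hσgen) (fun _ => isGen_oneSec ⊤)
    (fun z => ⟨(), trivial⟩)
    (fun _ _ => ⟨1, by rw [one_smul], by rw [one_smul]⟩)
  exact ⟨ψ⟩

end Groth.Agent.S1652
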