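import Groth.Statements.S16537
-- import your own Groth.Agent.* helpers here
import Groth.Agent.Lib.helper10.VSharp
import Groth.Agent.S16540
import Mathlib.RingTheory.WittVector.Truncated

set_option autoImplicit false
universe u v
open Disp

namespace Groth.Agent.S16537


open Dieu Groth.Agent.Lib.helper10.VSharp

section Helpers

variable {p : ℕ} [Fact p.Prime] {R : Type u} [CommRing R]

local notation "σ" => (WittVector.frobenius : WittVector p R →+* WittVector p R)

theorem frob_pow_succ_apply (m : ℕ) (x : WittVector p R) : (σ ^ (m + 1)) x = (σ ^ m) (σ x) := by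
  rw [pow_succ]
  rfl

theorem map_J_le (m : ℕ) :
    Ideal.map (σ ^ (m + 1)) (W4c1extbt610.IV p R ⊔ Ideal.span {(p : WittVector p R)}) ≤
      Ideal.span {(p : WittVector p R)} := by
  rw [Ideal.map_le_iff_le_comap]
  refine sup_le ?_ ?_
  · rw [W4c1extbt610.IV, Ideal.span_le]
    rintro _ ⟨w, rfl⟩
    rw [SetLike.mem_coe, Ideal.mem_comap, frob_pow_succ_apply]
    rw [WittVector.frobenius_verschiebung, map_mul, map_natCast]
    exact Ideal.mul_mem_left _ _ (Ideal.subset_span rfl)
  · rw [Ideal.span_le, Set.singleton_subset_iff, SetLike.mem_coe, Ideal.mem_comap, map_natCast]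
    exact Ideal.subset_span rfl

theorem verschiebung_mem_ker_truncate (n : ℕ) (z : WittVector p R)
    (hz : z ∈ RingHom.ker (WittVector.truncate (p := p) (R := R) n)) :
    WittVector.verschiebung z ∈ RingHom.ker (WittVector.truncate (p := p) (R := R) (n + 1)) := by
  rw [WittVector.mem_ker_truncate] at hz ⊢
  intro i hi
  cases i with
  | zero => exact WittVector.verschiebung_coeff_zero z
  | succ j => rw [WittVector.verschiebung_coeff_succ]; exact hz j (by omega)

theorem p_pow_mem_ker_truncate (e : ℕ) (he : (p : R) ^ e = 0) (n : ℕ) :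
    (p : WittVector p R) ^ (n * e) ∈ RingHom.ker (WittVector.truncate (p := p) (R := R) n) := by
  induction n with
  | zero => rw [WittVector.mem_ker_truncate]; intro i hi; omega
  | succ n ih =>
    have h0 : (WittVector.constantCoeff : WittVector p R →+* R) ((p : WittVector p R) ^ e) = 0 := by
      rw [map_pow, map_natCast, he]
    obtain ⟨y, hy⟩ := Groth.Agent.S16540.exists_verschiebung_eq _ h0
    have : (p : WittVector p R) ^ ((n + 1) * e) =
        WittVector.verschiebung (y * (p : WittVector p R) ^ (n * e)) := by
      have hF : WittVector.frobenius ((p : WittVector p R) ^ (n * e)) = (p : WittVector p R) ^ (n * e) := by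
        rw [map_pow, map_natCast]
      rw [← hF, WittVector.verschiebung_mul_frobenius, hy, ← pow_add]
      congr 1
      ring
    rw [this]
    exact verschiebung_mem_ker_truncate n _ (Ideal.mul_mem_left _ _ ih)

end Helpers

/-- Let p be a prime and R a commutative ring in which p is nilpotent; write W = W(R) with Frobenius σ
and, for n ≥ 0, I_n ⊆ W for the kernel of the truncation W → W_n(R). Let (P, Q, F, V⁻¹) be a display
over R: a 3n-display whose operator V# : P → W ⊗_{σ,W} P (the W-linear map with V#(w·F x) = p·(w ⊗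
x) and V#(w·V⁻¹ y) = w ⊗ y) satisfies the nilpotence condition. Then for every n there is an N such
that the iterate V^{(N+1)#} : P → W ⊗_{σ^(N+1),W} P has image in I_n·(W ⊗_{σ^(N+1),W} P);
equivalently the map W_n(R) ⊗_W P → W_n(R) ⊗_{σ^(N+1),W} P induced by V^{(N+1)#} is zero. -/
theorem result (p : ℕ) [Fact p.Prime]
    (R : Type u) [CommRing R] (hp : IsNilpotent (p : R))
    (P : Type v) [AddCommGroup P] [Module (WittVector p R) P] (D : W4c1extbt610.Display3n p R P)
    (Vs : P →ₗ[WittVector p R] Dieu.BC (WittVector.frobenius : WittVector p R →+* WittVector p R) P) (hVs : Dieu.IsVSharp D Vs)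
    (hnil : Dieu.IsVNilpotent Vs) (n : ℕ) :
    ∃ N : ℕ, ∀ x : P, Dieu.vSharpPow Vs N x ∈
      (RingHom.ker (WittVector.truncate (p := p) (R := R) n)) •
        (⊤ : Submodule (WittVector p R) (Dieu.BC ((WittVector.frobenius : WittVector p R →+* WittVector p R) ^ (N + 1)) P)) := by
  obtain ⟨e, he⟩ := hp
  obtain ⟨m, hm⟩ := hnil
  set J : Ideal (WittVector p R) := W4c1extbt610.IV p R ⊔ Ideal.span {(p : WittVector p R)} with hJ
  set X₀ : Tw (WittVector p R) P := ⟨WittVector.frobenius, Vs⟩ with hX₀
  have hB : (X₀.ppow m).Lands J := by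
    rw [← vTw_eq_ppow]
    exact hm
  have hτ : (X₀.ppow m).τ = (WittVector.frobenius : WittVector p R →+* WittVector p R) ^ (m + 1) := by
    rw [← vTw_eq_ppow]
    rfl
  have key : ∀ k : ℕ, ((X₀.ppow m).ppow k).Lands (Ideal.span {(p : WittVector p R) ^ k} * J) := by
    intro k
    induction k with
    | zero =>
      rw [pow_zero, Ideal.span_singleton_one, Ideal.top_mul]
      exact hB
    | succ k ih =>
      rw [Tw.ppow_succ]
      refine (hB.mul ih).mono ?_
      rw [hτ, Ideal.map_mul, Ideal.map_span, Set.image_singleton, map_pow, map_natCast]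
      calc J * (Ideal.span {(p : WittVector p R) ^ k} * Ideal.map _ J)
          ≤ J * (Ideal.span {(p : WittVector p R) ^ k} * Ideal.span {(p : WittVector p R)}) :=
            Ideal.mul_mono_right (Ideal.mul_mono_right (map_J_le m))
        _ = Ideal.span {(p : WittVector p R) ^ (k + 1)} * J := by
            rw [Ideal.span_singleton_mul_span_singleton, ← pow_succ, mul_comm]
  refine ⟨(m + 1) * (n * e + 1) - 1, fun x => ?_⟩
  have h1 := key (n * e)
  rw [Tw.ppow_ppow, ← vTw_eq_ppow] at h1
  have h2 : Ideal.span {(p : WittVector p R) ^ (n * e)} * J ≤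
      RingHom.ker (WittVector.truncate (p := p) (R := R) n) := by
    refine le_trans Ideal.mul_le_left ?_
    rw [Ideal.span_le, Set.singleton_subset_iff]
    exact p_pow_mem_ker_truncate e he n
  exact (h1.mono h2) x

end Groth.Agent.S16537
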