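import Groth.Statements.S16541
import Mathlib.RingTheory.Flat.Basic
import Mathlib.RingTheory.TensorProduct.IncludeLeftSubRight
import Mathlib.RingTheory.Flat.FaithfullyFlat.Algebra

set_option autoImplicit false
universe u v
open CAlg

namespace Groth.Agent.S16541

open TensorProduct in
theorem descent_general {A B C : Type*} [CommRing A] [CommRing B] [CommRing C]
    (g : A →+* B) (h₁ h₂ : B →+* C) (e : h₁.comp g = h₂.comp g)
    (hg : Function.Injective g) (hex : ∀ b : B, h₁ b = h₂ b → b ∈ Set.range g)
    (M : Type*) [AddCommGroup M] [Module A M] [Module.Flat A M] :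
    Function.Injective (Dieu.BC.ι g M) ∧
      ∀ z : Dieu.BC g M, (Dieu.BC.castHom e (Dieu.BC.push g h₁ z) = Dieu.BC.push g h₂ z ↔
        z ∈ Set.range (Dieu.BC.ι g M)) := by
  have e' : ∀ a, h₁ (g a) = h₂ (g a) := fun a => by
    have := congrArg (fun f => f a) e
    simpa using this
  let α : A →ₗ[A] Dieu.Res g :=
    { toFun := fun a => Dieu.Res.mk g (g a)
      map_add' := fun a b => by rw [map_add]; rfl
      map_smul' := fun a b => by
        rw [smul_eq_mul, map_mul, RingHom.id_apply, Dieu.Res.smul_mk] }
  let δ : Dieu.Res g →ₗ[A] Dieu.Res (h₂.comp g) :=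
    { toFun := fun b => Dieu.Res.mk (h₂.comp g) (h₁ b.val - h₂ b.val)
      map_add' := fun a b => by
        apply Dieu.Res.ext
        simp only [Dieu.Res.val_add, Dieu.Res.val_mk, map_add]
        ring
      map_smul' := fun a b => by
        apply Dieu.Res.ext
        simp only [Dieu.Res.val_smul, Dieu.Res.val_mk, map_mul, RingHom.id_apply,
          RingHom.comp_apply, e' a]
        ring }
  have hα : Function.Injective α := fun a b hab => hg hab
  have hexact : Function.Exact α δ := by
    intro b
    constructor
    · intro hb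
      have hb' : h₁ b.val - h₂ b.val = 0 := hb
      obtain ⟨a, ha⟩ := hex b.val (sub_eq_zero.mp hb')
      exact ⟨a, ha⟩
    · rintro ⟨a, rfl⟩
      change Dieu.Res.mk (h₂.comp g) (h₁ (g a) - h₂ (g a)) = 0
      rw [e' a, sub_self]
      rfl
  have hinjT := Module.Flat.rTensor_preserves_injective_linearMap (M := M) α hα
  have hexT := Module.Flat.rTensor_exact M hexact
  have hι : ∀ x : M, Dieu.BC.ι g M x = (α.rTensor M) ((1 : A) ⊗ₜ[A] x) := by
    intro x
    rw [LinearMap.rTensor_tmul]
    change Dieu.BC.tmul g 1 x = (Dieu.Res.mk g (g 1)) ⊗ₜ[A] x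
    rw [map_one]
    rfl
  have hrange : ∀ z : Dieu.BC g M, z ∈ Set.range (Dieu.BC.ι g M) ↔
      z ∈ Set.range (α.rTensor M) := by
    intro z
    constructor
    · rintro ⟨x, rfl⟩
      exact ⟨_, (hι x).symm⟩
    · rintro ⟨w, rfl⟩
      refine ⟨TensorProduct.lid A M w, ?_⟩
      rw [hι]
      congr 1
      induction w using TensorProduct.induction_on with
      | zero => simp
      | tmul a x =>
        rw [TensorProduct.lid_tmul, ← TensorProduct.smul_tmul, smul_eq_mul, mul_one]
      | add w₁ w₂ h₁ h₂ => rw [map_add, TensorProduct.tmul_add, h₁, h₂]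
  have hδ : ∀ z : Dieu.BC g M, (δ.rTensor M) z =
      Dieu.BC.castHom e (Dieu.BC.push g h₁ z) - Dieu.BC.push g h₂ z := by
    intro z
    induction z using Dieu.BC.induction_on g with
    | zero =>
      have h1 : Dieu.BC.castHom e (Dieu.BC.push g h₁ (0 : Dieu.BC g M)) -
          Dieu.BC.push g h₂ (0 : Dieu.BC g M) = 0 := by simp
      rw [h1]; exact map_zero (δ.rTensor M)
    | tmul b x =>
      rw [Dieu.BC.push_tmul, Dieu.BC.push_tmul, Dieu.BC.castHom_tmul]
      change (δ.rTensor M) ((Dieu.Res.mk g b) ⊗ₜ[A] x) = _
      rw [LinearMap.rTensor_tmul]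
      change (Dieu.Res.mk (h₂.comp g) (h₁ b - h₂ b)) ⊗ₜ[A] x =
        (Dieu.Res.mk (h₂.comp g) (h₁ b)) ⊗ₜ[A] x - (Dieu.Res.mk (h₂.comp g) (h₂ b)) ⊗ₜ[A] x
      rw [← TensorProduct.sub_tmul]
      rfl
    | add z₁ z₂ hz₁ hz₂ =>
      have h1 : (δ.rTensor M) (z₁ + z₂) = (δ.rTensor M) z₁ + (δ.rTensor M) z₂ :=
        map_add (δ.rTensor M) z₁ z₂
      refine h1.trans ?_
      rw [hz₁, hz₂, map_add, map_add, map_add]
      abel
  refine ⟨?_, ?_⟩
  · intro x y hxy
    rw [hι, hι] at hxy
    have := hinjT hxy
    have h2 := congrArg (TensorProduct.lid A M) this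
    simpa using h2
  · intro z
    rw [hrange, ← sub_eq_zero, ← hδ]
    exact hexT z


/-- Let p be a prime, S → R a faithfully flat homomorphism of commutative rings and M a flat
W(S)-module; write ι₁, ι₂ : R → R ⊗_S R for the two coprojections, M_R = W(R) ⊗_{W(S)} M and M_{R ⊗
R} = W(R ⊗_S R) ⊗_{W(S)} M for the scalar extensions along W(S) → W(R) and W(S) → W(R ⊗_S R). Then 0
→ M → M_R ⇉ M_{R ⊗ R} is exact: the map x ↦ 1 ⊗ x from M to M_R is injective, and an element of M_R
has the same image under the two maps w ⊗ x ↦ W(ι₁)(w) ⊗ x and w ⊗ x ↦ W(ι₂)(w) ⊗ x exactly when it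
is of the form 1 ⊗ x. The hypothesis e records that the two composite ring maps W(S) → W(R) → W(R
⊗_S R) agree (both coprojections are S-algebra maps); it serves to identify the two targets. -/
theorem result (p : ℕ) [Fact p.Prime]
    (S R : Type u) [CommRing S] [CommRing R] [Algebra S R] [Module.FaithfullyFlat S R]
    (M : Type v) [AddCommGroup M] [Module (WittVector p S) M] [Module.Flat (WittVector p S) M]
    (e : (WittVector.map (Algebra.TensorProduct.includeLeftRingHom : R →+* TensorProduct S R R) : WittVector p R →+* WittVector p (TensorProduct S R R)).comp (WittVector.map (algebraMap S R) : WittVector p S →+* WittVector p R) = (WittVector.map ((Algebra.TensorProduct.includeRight : R →ₐ[S] TensorProduct S R R) : R →+* TensorProduct S R R) : WittVector p R →+* WittVector p (TensorProduct S R R)).comp (WittVector.map (algebraMap S R) : WittVector p S →+* WittVector p R)) :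
    Function.Injective (Dieu.BC.ι (WittVector.map (algebraMap S R) : WittVector p S →+* WittVector p R) M) ∧
      ∀ z : Dieu.BC (WittVector.map (algebraMap S R) : WittVector p S →+* WittVector p R) M,
        (Dieu.BC.castHom e (Dieu.BC.push (WittVector.map (algebraMap S R) : WittVector p S →+* WittVector p R) (WittVector.map (Algebra.TensorProduct.includeLeftRingHom : R →+* TensorProduct S R R) : WittVector p R →+* WittVector p (TensorProduct S R R)) z) = Dieu.BC.push (WittVector.map (algebraMap S R) : WittVector p S →+* WittVector p R) (WittVector.map ((Algebra.TensorProduct.includeRight : R →ₐ[S] TensorProduct S R R) : R →+* TensorProduct S R R) : WittVector p R →+* WittVector p (TensorProduct S R R)) z ↔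
          z ∈ Set.range (Dieu.BC.ι (WittVector.map (algebraMap S R) : WittVector p S →+* WittVector p R) M)) := by
  apply descent_general
  · exact WittVector.map_injective _ (FaithfulSMul.algebraMap_injective S R)
  · intro b hb
    have heff := Algebra.IsEffective.of_faithfullyFlat (R := S) (S := R)
    have hmem : ∀ n : ℕ, b.coeff n ∈ Set.range (algebraMap S R) := by
      intro n
      rw [← heff.eqLocus_includeLeft_includeRight]
      have := congrArg (fun w => w.coeff n) hb
      simp only [WittVector.map_coeff] at this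
      exact this
    choose c hc using hmem
    refine ⟨WittVector.mk p c, ?_⟩
    ext n
    rw [WittVector.map_coeff, WittVector.coeff_mk, hc]

end Groth.Agent.S16541
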