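import Groth.Statements.S16542
-- import your own Groth.Agent.* helpers here
import Groth.Agent.Lib.helper10.DispDescent
import Groth.Agent.Lib.Helper18.Disp
import Groth.Agent.S16540

set_option autoImplicit false
universe u v
open Disp

namespace Groth.Agent.S16542


open Dieu Groth.Agent.Lib.helper10.DispDescent Groth.Agent.Lib.Helper18.DispLib

section Helpers

variable {p : ℕ} [Fact p.Prime] {S R : Type u} [CommRing S] [CommRing R] [Algebra S R]
  [Module.FaithfullyFlat S R]
variable {P : Type v} [AddCommGroup P] [Module (WittVector p S) P]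

theorem constantCoeff_comp_map :
    (WittVector.constantCoeff : WittVector p R →+* R).comp
        (WittVector.map (algebraMap S R) : WittVector p S →+* WittVector p R) =
      (algebraMap S R).comp (WittVector.constantCoeff : WittVector p S →+* S) := by
  ext x
  exact WittVector.map_coeff (algebraMap S R) x 0

/-- If `1 ⊗ x` lies in `Q_R` then `x ∈ Q` (faithfully flat base). -/
theorem mem_Q_of_ι_mem (D : W4c1extbt610.Display3n p S P)
    (DR : W4c1extbt610.Display3n p R (BC (WittVector.map (algebraMap S R) : WittVector p S →+* WittVector p R) P))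
    (hDR : IsDispBaseChange (algebraMap S R) D DR) (x : P)
    (hx : BC.tmul (WittVector.map (algebraMap S R) : WittVector p S →+* WittVector p R) 1 x ∈ DR.Q) :
    x ∈ D.Q := by
  rw [Groth.Agent.S16540.mem_Q_iff (algebraMap S R) hDR, bcQuotMap_tmul, map_one] at hx
  have h2 := congrArg (BC.castHom (P := P ⧸ D.Q) (constantCoeff_comp_map (p := p) (S := S) (R := R))) hx
  rw [BC.castHom_tmul, map_zero] at h2
  have h3 := tw_inj (WittVector.constantCoeff : WittVector p S →+* S)
    Groth.Agent.S16540.constantCoeff_surjective (N := P ⧸ D.Q) (by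
      intro a ha n
      obtain ⟨u, rfl⟩ := Groth.Agent.S16540.exists_verschiebung_eq a ha
      induction n using Submodule.Quotient.induction_on with
      | H y =>
        rw [← Submodule.Quotient.mk_smul, Submodule.Quotient.mk_eq_zero]
        exact verschiebung_smul_mem D u y) (D.Q.mkQ x) h2
  rwa [Submodule.mkQ_apply, Submodule.Quotient.mk_eq_zero] at h3

end Helpers

/-- Let p be a prime, S → R a faithfully flat homomorphism of commutative rings with p nilpotent in S,
(P, Q, F, V⁻¹) a display over S, and (P_R, Q_R, F_R, V_R⁻¹) a 3n-display structure on P_R = W(R)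
⊗_{W(S)} P which is its base change along S → R (Q_R the kernel of P_R → R ⊗_S (P/Q), F_R(w ⊗ x) =
σ(w) ⊗ F x, V_R⁻¹(w ⊗ y) = σ(w) ⊗ V⁻¹ y for y ∈ Q, V_R⁻¹(V(w) ⊗ x) = w ⊗ F x). Then for x ∈ P one
has x ∈ Q if and only if 1 ⊗ x ∈ Q_R: together with the exactness of 0 → P → P_R ⇉ P_{R ⊗ R} this is
the exactness of 0 → Q → Q_R ⇉ Q_{R ⊗ R} at Q. -/
theorem result (p : ℕ) [Fact p.Prime]
    (S R : Type u) [CommRing S] [CommRing R] [Algebra S R] [Module.FaithfullyFlat S R] (hp : IsNilpotent (p : S))
    (P : Type v) [AddCommGroup P] [Module (WittVector p S) P] (D : W4c1extbt610.Display3n p S P)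
    (hD : Dieu.IsDisplay D)
    (DR : W4c1extbt610.Display3n p R (Dieu.BC (WittVector.map (algebraMap S R) : WittVector p S →+* WittVector p R) P))
    (hDR : Dieu.IsDispBaseChange (algebraMap S R) D DR) (x : P) :
    x ∈ D.Q ↔ Dieu.BC.ι (WittVector.map (algebraMap S R) : WittVector p S →+* WittVector p R) P x ∈ DR.Q := by
  constructor
  · intro hx
    have := Groth.Agent.S16540.tmul_mem_Q (algebraMap S R) hDR 1 x hx
    exact this
  · intro hx
    exact mem_Q_of_ι_mem D DR hDR x hx

end Groth.Agent.S16542
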