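import Groth.Statements.S16545
-- import your own Groth.Agent.* helpers here
import Groth.Agent.Lib.helper10.DispDescent2
import Groth.Agent.Lib.Helper18.Disp2
import Groth.Agent.S16540
import Groth.Agent.S16542

set_option autoImplicit false
universe u v
open Disp

namespace Groth.Agent.S16545


open Dieu Groth.Agent.Lib.helper10.DispDescent Groth.Agent.Lib.Helper18.DispLib

/-- Let p be a prime, S → R a faithfully flat homomorphism of commutative rings with p nilpotent in S,
ι₁, ι₂ : R → R ⊗_S R the two coprojections, and (P, Q, F, V⁻¹), (P', Q', F', V'⁻¹) displays over S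
with base changes (P_R, Q_R, F_R, V_R⁻¹) and (P'_R, Q'_R, F'_R, V'_R⁻¹) along S → R (the 3n-display
structures on W(R) ⊗_{W(S)} P and W(R) ⊗_{W(S)} P' with Q_R = ker(P_R → R ⊗_S P/Q), F_R(w ⊗ x) =
σ(w) ⊗ F x, V_R⁻¹(w ⊗ y) = σ(w) ⊗ V⁻¹ y for y ∈ Q, V_R⁻¹(V(w) ⊗ x) = w ⊗ F x, and likewise for P').
Let χ : P_R → P'_R be a homomorphism of 3n-displays whose two scalar extensions along W(ι₁) and
W(ι₂) agree, after the modules W(R ⊗_S R) ⊗_{W(ι_i),W(R)} (W(R) ⊗_{W(S)} P) are mapped to W(R ⊗_S R)
⊗_{W(S)} P by the canonical maps u ⊗ (w ⊗ x) ↦ u·W(ι_i)(w) ⊗ x (and likewise for P'). Then there is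
exactly one homomorphism of 3n-displays ψ : P → P' over S with id ⊗ ψ = χ: the sequence 0 → Hom(P,
P') → Hom(P_R, P'_R) ⇉ Hom(P_{R⊗R}, P'_{R⊗R}) is exact. The hypotheses e₁, e₂ record that both
composite ring maps W(S) → W(R) → W(R ⊗_S R) equal W(S → R ⊗_S R); they serve to identify targets. -/
theorem result (p : ℕ) [Fact p.Prime]
    (S R : Type u) [CommRing S] [CommRing R] [Algebra S R] [Module.FaithfullyFlat S R] (hp : IsNilpotent (p : S))
    (e₁ : (WittVector.map (Algebra.TensorProduct.includeLeftRingHom : R →+* TensorProduct S R R) : WittVector p R →+* WittVector p (TensorProduct S R R)).comp (WittVector.map (algebraMap S R) : WittVector p S →+* WittVector p R) = (WittVector.map (algebraMap S (TensorProduct S R R)) : WittVector p S →+* WittVector p (TensorProduct S R R)))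
    (e₂ : (WittVector.map ((Algebra.TensorProduct.includeRight : R →ₐ[S] TensorProduct S R R) : R →+* TensorProduct S R R) : WittVector p R →+* WittVector p (TensorProduct S R R)).comp (WittVector.map (algebraMap S R) : WittVector p S →+* WittVector p R) = (WittVector.map (algebraMap S (TensorProduct S R R)) : WittVector p S →+* WittVector p (TensorProduct S R R)))
    (P P' : Type v) [AddCommGroup P] [Module (WittVector p S) P] [AddCommGroup P'] [Module (WittVector p S) P']
    (D : W4c1extbt610.Display3n p S P) (D' : W4c1extbt610.Display3n p S P')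
    (hD : Dieu.IsDisplay D) (hD' : Dieu.IsDisplay D')
    (DR : W4c1extbt610.Display3n p R (Dieu.BC (WittVector.map (algebraMap S R) : WittVector p S →+* WittVector p R) P)) (hDR : Dieu.IsDispBaseChange (algebraMap S R) D DR)
    (DR' : W4c1extbt610.Display3n p R (Dieu.BC (WittVector.map (algebraMap S R) : WittVector p S →+* WittVector p R) P')) (hDR' : Dieu.IsDispBaseChange (algebraMap S R) D' DR')
    (χ : Dieu.BC (WittVector.map (algebraMap S R) : WittVector p S →+* WittVector p R) P →ₗ[WittVector p R] Dieu.BC (WittVector.map (algebraMap S R) : WittVector p S →+* WittVector p R) P') (hχ : W4c1extbt610.IsHom DR DR' χ)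
    (hdesc : ∀ (z₁ : Dieu.BC (WittVector.map (Algebra.TensorProduct.includeLeftRingHom : R →+* TensorProduct S R R) : WittVector p R →+* WittVector p (TensorProduct S R R)) (Dieu.BC (WittVector.map (algebraMap S R) : WittVector p S →+* WittVector p R) P)) (z₂ : Dieu.BC (WittVector.map ((Algebra.TensorProduct.includeRight : R →ₐ[S] TensorProduct S R R) : R →+* TensorProduct S R R) : WittVector p R →+* WittVector p (TensorProduct S R R)) (Dieu.BC (WittVector.map (algebraMap S R) : WittVector p S →+* WittVector p R) P)),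
      (Dieu.BC.castHom (P := P) e₁).comp (Dieu.BC.lift (WittVector.map (Algebra.TensorProduct.includeLeftRingHom : R →+* TensorProduct S R R) : WittVector p R →+* WittVector p (TensorProduct S R R)) (Dieu.BC.push (WittVector.map (algebraMap S R) : WittVector p S →+* WittVector p R) (WittVector.map (Algebra.TensorProduct.includeLeftRingHom : R →+* TensorProduct S R R) : WittVector p R →+* WittVector p (TensorProduct S R R)))) z₁ = (Dieu.BC.castHom (P := P) e₂).comp (Dieu.BC.lift (WittVector.map ((Algebra.TensorProduct.includeRight : R →ₐ[S] TensorProduct S R R) : R →+* TensorProduct S R R) : WittVector p R →+* WittVector p (TensorProduct S R R)) (Dieu.BC.push (WittVector.map (algebraMap S R) : WittVector p S →+* WittVector p R) (WittVector.map ((Algebra.TensorProduct.includeRight : R →ₐ[S] TensorProduct S R R) : R →+* TensorProduct S R R) : WittVector p R →+* WittVector p (TensorProduct S R R)))) z₂ →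
        (Dieu.BC.castHom (P := P') e₁).comp (Dieu.BC.lift (WittVector.map (Algebra.TensorProduct.includeLeftRingHom : R →+* TensorProduct S R R) : WittVector p R →+* WittVector p (TensorProduct S R R)) (Dieu.BC.push (WittVector.map (algebraMap S R) : WittVector p S →+* WittVector p R) (WittVector.map (Algebra.TensorProduct.includeLeftRingHom : R →+* TensorProduct S R R) : WittVector p R →+* WittVector p (TensorProduct S R R)))) (Dieu.BC.map (WittVector.map (Algebra.TensorProduct.includeLeftRingHom : R →+* TensorProduct S R R) : WittVector p R →+* WittVector p (TensorProduct S R R)) χ z₁) =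
          (Dieu.BC.castHom (P := P') e₂).comp (Dieu.BC.lift (WittVector.map ((Algebra.TensorProduct.includeRight : R →ₐ[S] TensorProduct S R R) : R →+* TensorProduct S R R) : WittVector p R →+* WittVector p (TensorProduct S R R)) (Dieu.BC.push (WittVector.map (algebraMap S R) : WittVector p S →+* WittVector p R) (WittVector.map ((Algebra.TensorProduct.includeRight : R →ₐ[S] TensorProduct S R R) : R →+* TensorProduct S R R) : WittVector p R →+* WittVector p (TensorProduct S R R)))) (Dieu.BC.map (WittVector.map ((Algebra.TensorProduct.includeRight : R →ₐ[S] TensorProduct S R R) : R →+* TensorProduct S R R) : WittVector p R →+* WittVector p (TensorProduct S R R)) χ z₂)) :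
    ∃! ψ : P →ₗ[WittVector p S] P', W4c1extbt610.IsHom D D' ψ ∧ Dieu.BC.map (WittVector.map (algebraMap S R) : WittVector p S →+* WittVector p R) ψ = χ := by
  haveI := D'.projective
  have hinj := tmul_one_injective (N := P')
    (WittVector.map (algebraMap S R) : WittVector p S →+* WittVector p R) (witt_map_injective S R)
  have hex := witt_exists_of_eq (p := p) S R
  have hpt : ∀ x : P, ∃ n : P',
      χ (Dieu.BC.tmul (WittVector.map (algebraMap S R) : WittVector p S →+* WittVector p R) 1 x) =
        Dieu.BC.tmul (WittVector.map (algebraMap S R) : WittVector p S →+* WittVector p R) 1 n := by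
    intro x
    refine exists_of_eq _ _ _ _ e₁ e₂ hex _ ?_
    have h := hdesc (Dieu.BC.tmul _ 1 (Dieu.BC.tmul _ 1 x)) (Dieu.BC.tmul _ 1 (Dieu.BC.tmul _ 1 x)) (by
      simp only [LinearMap.comp_apply, Dieu.BC.lift_tmul, one_smul, Dieu.BC.push_tmul,
        Dieu.BC.castHom_tmul, map_one])
    simpa only [LinearMap.comp_apply, Dieu.BC.map_tmul, Dieu.BC.lift_tmul, one_smul] using h
  choose ψ₀ hψ₀ using hpt
  let ψ : P →ₗ[WittVector p S] P' :=
    { toFun := ψ₀
      map_add' := fun x y => hinj (by
        change Dieu.BC.tmul _ 1 (ψ₀ (x + y)) = Dieu.BC.tmul _ 1 (ψ₀ x + ψ₀ y)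
        rw [← hψ₀, Dieu.BC.tmul_add, map_add, hψ₀, hψ₀, Dieu.BC.tmul_add])
      map_smul' := fun a x => hinj (by
        change Dieu.BC.tmul _ 1 (ψ₀ (a • x)) = Dieu.BC.tmul _ 1 (a • ψ₀ x)
        rw [← hψ₀, ← Dieu.BC.tmul_apply_eq, Dieu.BC.tmul_eq_smul_tmul_one, map_smul, hψ₀,
          ← Dieu.BC.tmul_eq_smul_tmul_one, Dieu.BC.tmul_apply_eq]) }
  have hψ : ∀ x, Dieu.BC.tmul (WittVector.map (algebraMap S R) : WittVector p S →+* WittVector p R) 1 (ψ x) =
      χ (Dieu.BC.tmul (WittVector.map (algebraMap S R) : WittVector p S →+* WittVector p R) 1 x) :=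
    fun x => (hψ₀ x).symm
  have hmap : Dieu.BC.map (WittVector.map (algebraMap S R) : WittVector p S →+* WittVector p R) ψ = χ :=
    Dieu.BC.ext _ (fun x => by rw [Dieu.BC.map_tmul, hψ])
  have hQ : ∀ q : P, q ∈ D.Q → ψ q ∈ D'.Q := fun q hq =>
    Groth.Agent.S16542.mem_Q_of_ι_mem D' DR' hDR' (ψ q) (by
      rw [hψ]
      exact hχ.mapsTo _ (Groth.Agent.S16540.tmul_mem_Q _ hDR 1 q hq))
  refine ⟨ψ, ⟨⟨hQ, ?_, ?_⟩, hmap⟩, ?_⟩
  · intro x
    apply hinj
    change Dieu.BC.tmul _ 1 (ψ (D.F x)) = Dieu.BC.tmul _ 1 (D'.F (ψ x))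
    have e1 := hDR.F_tmul 1 x
    have e2 := hDR'.F_tmul 1 (ψ x)
    rw [map_one] at e1 e2
    rw [hψ, ← e1, hχ.comm_F, ← hψ, e2]
  · intro q
    apply hinj
    change Dieu.BC.tmul _ 1 (ψ (D.Vinv q)) = Dieu.BC.tmul _ 1 (D'.Vinv ⟨ψ q, hQ q q.2⟩)
    have hm1 := Groth.Agent.S16540.tmul_mem_Q _ hDR 1 q q.2
    have hm2 := Groth.Agent.S16540.tmul_mem_Q _ hDR' 1 (ψ q) (hQ q q.2)
    have e1 := hDR.Vinv_tmul 1 q hm1
    have e2 := hDR'.Vinv_tmul 1 ⟨ψ q, hQ q q.2⟩ hm2
    rw [map_one] at e1 e2
    rw [hψ, ← e1, hχ.comm_Vinv, ← e2]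
    exact Vinv_congr DR' (hψ q).symm _ _
  · rintro ψ' ⟨_, hmap'⟩
    apply LinearMap.ext
    intro x
    apply hinj
    change Dieu.BC.tmul _ 1 (ψ' x) = Dieu.BC.tmul _ 1 (ψ x)
    rw [hψ, ← hmap', Dieu.BC.map_tmul]

end Groth.Agent.S16545
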