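import Groth.Statements.S16546
-- import your own Groth.Agent.* helpers here
import Groth.Agent.Lib.helper10.VSharpMat
import Groth.Agent.Lib.Helper18.Disp
import Groth.Agent.S16540
import Mathlib.LinearAlgebra.Basis.Prod
import Mathlib.LinearAlgebra.Projection
import Mathlib.Algebra.CharP.Quotient
import Mathlib.Algebra.CharP.Frobenius

set_option autoImplicit false
universe u v w
open Disp

namespace Groth.Agent.S16546


open Dieu Groth.Agent.Lib.helper10.VSharp Groth.Agent.Lib.Helper18.DispLib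

noncomputable section Helpers

section Stage1

variable {p : ℕ} [Fact p.Prime] {R : Type u} [CommRing R]
variable {P : Type v} [AddCommGroup P] [Module (WittVector p R) P]
variable {ι : Type w} [Fintype ι] [DecidableEq ι]

local notation "σ" => (WittVector.frobenius : WittVector p R →+* WittVector p R)

/-- The map defined on a basis by a matrix. -/
def VsB (b : Module.Basis ι (WittVector p R) P) (M : Matrix ι ι (WittVector p R)) :
    P →ₗ[WittVector p R] BC σ P :=
  b.constr (WittVector p R) (fun i => ∑ j, M j i • BC.tmul σ 1 (b j))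

theorem VsB_basis (b : Module.Basis ι (WittVector p R) P) (M : Matrix ι ι (WittVector p R)) (i : ι) :
    VsB b M (b i) = ∑ j, M j i • BC.tmul σ 1 (b j) :=
  b.constr_basis _ _ i

/-- The matrix `ε β`. -/
def M0 (ε : ι → WittVector p R) (β : Matrix ι ι (WittVector p R)) : Matrix ι ι (WittVector p R) :=
  fun j i => ε j * β j i

theorem VsB_col (b : Module.Basis ι (WittVector p R) P) (ε : ι → WittVector p R)
    (α β : Matrix ι ι (WittVector p R)) (hβα : β * α = 1) (c : ι) :
    VsB b (M0 ε β) (∑ i, α i c • b i) = ε c • BC.tmul σ 1 (b c) := by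
  unfold M0
  rw [map_sum]
  simp_rw [map_smul, VsB_basis, Finset.smul_sum, smul_smul]
  rw [Finset.sum_comm]
  have : ∀ j, ∑ i, (α i c * (ε j * β j i)) • BC.tmul σ 1 (b j) =
      (if j = c then ε j else 0) • BC.tmul σ 1 (b j) := by
    intro j
    rw [← Finset.sum_smul]
    congr 1
    have h1 : ∑ i, α i c * (ε j * β j i) = ε j * (β * α) j c := by
      rw [Matrix.mul_apply, Finset.mul_sum]
      exact Finset.sum_congr rfl fun i _ => by ring
    rw [h1, hβα, Matrix.one_apply]
    split_ifs <;> simp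
  simp_rw [this]
  simp

end Stage1

section Stage1b

variable {p : ℕ} [Fact p.Prime] {R : Type u} [CommRing R]
variable {P : Type v} [AddCommGroup P] [Module (WittVector p R) P]
variable {ιT ιL : Type w} [Fintype ιT] [Fintype ιL] [DecidableEq ιT] [DecidableEq ιL]

local notation "σ" => (WittVector.frobenius : WittVector p R →+* WittVector p R)

/-- `p` on the `T`-indices, `1` on the `L`-indices. -/
def epsV : ιT ⊕ ιL → WittVector p R := Sum.elim (fun _ => (p : WittVector p R)) (fun _ => 1)

variable (D : W4c1extbt610.Display3n p R P) (b : Module.Basis (ιT ⊕ ιL) (WittVector p R) P)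
  (α β : Matrix (ιT ⊕ ιL) (ιT ⊕ ιL) (WittVector p R)) (hβα : β * α = 1)
  (hbQ : ∀ k, b (Sum.inr k) ∈ D.Q)
  (hF : ∀ j, D.F (b (Sum.inl j)) = ∑ i, α i (Sum.inl j) • b i)
  (hV : ∀ k, D.Vinv ⟨b (Sum.inr k), hbQ k⟩ = ∑ i, α i (Sum.inr k) • b i)

include hβα hF hV in
theorem Vs_F (x : P) :
    VsB b (M0 epsV β) (D.F x) = (p : WittVector p R) • BC.tmul σ 1 x := by
  have hx : x ∈ Submodule.span (WittVector p R) (Set.range b) := by rw [b.span_eq]; trivial
  induction hx using Submodule.span_induction with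
  | mem x hx =>
    obtain ⟨i, rfl⟩ := hx
    cases i with
    | inl j => rw [hF, VsB_col b epsV α β hβα]; rfl
    | inr k =>
      have := F_coe_eq_p_smul_Vinv D ⟨b (Sum.inr k), hbQ k⟩
      rw [this, map_smul, hV, VsB_col b epsV α β hβα]
      simp [epsV]
  | zero => simp
  | add x y _ _ hx hy => rw [map_add, map_add, hx, hy, BC.tmul_add, smul_add]
  | smul r x _ hx =>
    rw [map_smulₛₗ, map_smul, hx, smul_comm, ← BC.tmul_mul_apply, one_mul,
      BC.tmul_eq_smul_tmul_one σ (σ r)]

include hβα hF hV in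
theorem Vs_Vinv (L T : Submodule (WittVector p R) P) (hQ : D.Q = L ⊔ W4c1extbt610.IV p R • T)
    (hL : L ≤ Submodule.span (WittVector p R) (Set.range fun k => b (Sum.inr k))) (y : D.Q) :
    VsB b (M0 epsV β) (D.Vinv y) = BC.tmul σ 1 (y : P) := by
  let f₁ : D.Q →ₛₗ[σ] BC σ P := (VsB b (M0 epsV β)).comp D.Vinv
  let f₂ : D.Q →ₛₗ[σ] BC σ P := (BC.ι σ P).comp D.Q.subtype
  have key : D.Q ≤ Submodule.map D.Q.subtype (LinearMap.eqLocus f₁ f₂) := by
    refine le_trans (le_of_eq hQ) (sup_le ?_ ?_)
    · refine le_trans hL (Submodule.span_le.2 ?_)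
      rintro _ ⟨k, rfl⟩
      refine ⟨⟨b (Sum.inr k), hbQ k⟩, ?_, rfl⟩
      change VsB b _ (D.Vinv ⟨b (Sum.inr k), hbQ k⟩) = BC.tmul σ 1 (b (Sum.inr k))
      rw [hV, VsB_col b epsV α β hβα]
      simp [epsV]
    · rw [Submodule.smul_le]
      intro r hr t _
      obtain ⟨w, rfl⟩ := (mem_IV_iff r).1 hr
      refine ⟨⟨_, verschiebung_smul_mem D w t⟩, ?_, rfl⟩
      change VsB b _ (D.Vinv ⟨WittVector.verschiebung w • t, _⟩) =
        BC.tmul σ 1 (WittVector.verschiebung w • t)
      rw [Vinv_verschiebung_smul', map_smul, Vs_F D b α β hβα hbQ hF hV, ← BC.tmul_mul_apply, one_mul]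
      change _ = BC.tmul σ (WittVector.frobenius (WittVector.verschiebung w)) t
      rw [WittVector.frobenius_verschiebung, BC.tmul_eq_smul_tmul_one σ (w * p), mul_smul]
  obtain ⟨y', hy', hyy⟩ := key y.2
  have : y' = y := Subtype.ext hyy
  subst this
  exact hy'

include hβα hF hV in
theorem isVSharp_VsB (L T : Submodule (WittVector p R) P) (hQ : D.Q = L ⊔ W4c1extbt610.IV p R • T)
    (hL : L ≤ Submodule.span (WittVector p R) (Set.range fun k => b (Sum.inr k))) :
    IsVSharp D (VsB b (M0 epsV β)) where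
  app_smul_F w x := by
    rw [map_smul, Vs_F D b α β hβα hbQ hF hV, smul_comm, BC.smul_tmul, mul_one]
  app_smul_Vinv w y := by
    rw [map_smul, Vs_Vinv D b α β hβα hbQ hF hV L T hQ hL, BC.smul_tmul, mul_one]

omit [Fintype ιT] [Fintype ιL] [DecidableEq ιT] [DecidableEq ιL] in
theorem isVSharp_unique (Vs Vs' : P →ₗ[WittVector p R] BC σ P) (h : IsVSharp D Vs)
    (h' : IsVSharp D Vs') : Vs' = Vs := by
  apply LinearMap.ext_on D.span_range_Vinv
  rintro _ ⟨y, rfl⟩
  have e1 := h.app_smul_Vinv 1 y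
  have e2 := h'.app_smul_Vinv 1 y
  rw [one_smul] at e1 e2
  rw [e1, e2]

end Stage1b

section Stage2

variable {p : ℕ} [Fact p.Prime] {R : Type u} [CommRing R]

local notation "σ" => (WittVector.frobenius : WittVector p R →+* WittVector p R)

/-- Reduction `W(R) → R/p`. -/
def rho : WittVector p R →+* R ⧸ Ideal.span {(p : R)} :=
  (Ideal.Quotient.mk (Ideal.span {(p : R)})).comp WittVector.constantCoeff

theorem rho_apply (x : WittVector p R) :
    rho x = Ideal.Quotient.mk (Ideal.span {(p : R)}) (WittVector.constantCoeff x) := rfl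

theorem mk_p : Ideal.Quotient.mk (Ideal.span {(p : R)}) (p : R) = 0 :=
  Ideal.Quotient.eq_zero_iff_mem.2 (Ideal.subset_span rfl)

theorem rho_frob (x : WittVector p R) : rho (σ x) = (rho x) ^ p := by
  rw [rho_apply, rho_apply]
  have : (WittVector.constantCoeff : WittVector p R →+* R) (WittVector.frobenius x) =
      (x.coeff 0) ^ p + (p : R) * MvPolynomial.aeval x.coeff (WittVector.frobeniusPolyAux p 0) := by
    change (WittVector.frobenius x).coeff 0 = _
    rw [WittVector.coeff_frobenius, WittVector.frobeniusPoly]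
    simp
  change Ideal.Quotient.mk _ ((WittVector.constantCoeff : WittVector p R →+* R) (WittVector.frobenius x)) = _
  rw [this, map_add, map_mul, mk_p, zero_mul, add_zero, map_pow]
  rfl

theorem rho_frob_pow (n : ℕ) (x : WittVector p R) : rho ((σ ^ n) x) = (rho x) ^ (p ^ n) := by
  induction n generalizing x with
  | zero => simp
  | succ n ih =>
    rw [pow_succ]
    change rho ((σ ^ n) (σ x)) = _
    rw [ih, rho_frob, ← pow_mul, pow_succ']

theorem mem_J_iff (x : WittVector p R) :
    x ∈ W4c1extbt610.IV p R ⊔ Ideal.span {(p : WittVector p R)} ↔ rho x = 0 := by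
  constructor
  · intro hx
    have : W4c1extbt610.IV p R ⊔ Ideal.span {(p : WittVector p R)} ≤ RingHom.ker (rho (p := p) (R := R)) := by
      refine sup_le ?_ ?_
      · rw [W4c1extbt610.IV, Ideal.span_le]
        rintro _ ⟨w, rfl⟩
        rw [SetLike.mem_coe, RingHom.mem_ker, rho_apply]
        have h0 : (WittVector.constantCoeff : WittVector p R →+* R) (WittVector.verschiebung w) = 0 :=
          WittVector.verschiebung_coeff_zero w
        rw [h0, map_zero]
      · rw [Ideal.span_le, Set.singleton_subset_iff, SetLike.mem_coe, RingHom.mem_ker, map_natCast]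
        rw [← map_natCast (Ideal.Quotient.mk (Ideal.span {(p : R)}))]
        exact mk_p
    exact this hx
  · intro hx
    rw [rho_apply, Ideal.Quotient.eq_zero_iff_mem, Ideal.mem_span_singleton'] at hx
    obtain ⟨r, hr⟩ := hx
    have h0 : (WittVector.constantCoeff : WittVector p R →+* R)
        (x - WittVector.teichmuller p r * (p : WittVector p R)) = 0 := by
      rw [map_sub, map_mul, map_natCast, ← hr]
      change _ - (WittVector.teichmuller p r).coeff 0 * _ = 0
      rw [WittVector.teichmuller_coeff_zero, sub_self]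
    obtain ⟨u, hu⟩ := Groth.Agent.S16540.exists_verschiebung_eq _ h0
    have : x = WittVector.verschiebung u + WittVector.teichmuller p r * (p : WittVector p R) := by
      rw [hu]; ring
    rw [this]
    exact Ideal.add_mem _ (Ideal.mem_sup_left (W4c1extbt610.verschiebung_mem_IV p R u))
      (Ideal.mem_sup_right (Ideal.mul_mem_left _ _ (Ideal.subset_span rfl)))

variable {P : Type v} [AddCommGroup P] [Module (WittVector p R) P]
variable {ι : Type w} [Fintype ι] [DecidableEq ι]
variable (b : Module.Basis ι (WittVector p R) P) (M : Matrix ι ι (WittVector p R))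

theorem mat_X0 : mat b (⟨σ, VsB b M⟩ : Tw (WittVector p R) P) = M :=
  mat_of_basis b _ M (fun i => VsB_basis b M i)

theorem mat_vTw_zero : mat b (vTw (VsB b M) 0) = M := by
  rw [vTw_eq_ppow, Tw.ppow_zero]
  exact mat_X0 b M

theorem mat_vTw_succ (n : ℕ) :
    mat b (vTw (VsB b M) (n + 1)) = (M.map (σ ^ (n + 1))) * mat b (vTw (VsB b M) n) := by
  have : vTw (VsB b M) (n + 1) = (vTw (VsB b M) n).mul ⟨σ, VsB b M⟩ := by
    rw [vTw_eq_ppow, vTw_eq_ppow]
    have h := Tw.ppow_add (⟨σ, VsB b M⟩ : Tw (WittVector p R) P) n 0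
    rw [Nat.add_zero] at h
    rw [h, Tw.ppow_zero]
  rw [this, mat_mul, mat_X0]
  rfl

/-- The matrices of the iterates, reduced to `R/p`. -/
def Nt (n : ℕ) : Matrix ι ι (R ⧸ Ideal.span {(p : R)}) := (mat b (vTw (VsB b M) n)).map rho

theorem Nt_zero : Nt b M 0 = M.map rho := by
  rw [Nt, mat_vTw_zero]

theorem Nt_succ (n : ℕ) :
    Nt b M (n + 1) = ((M.map rho).map fun x => x ^ p ^ (n + 1)) * Nt b M n := by
  rw [Nt, mat_vTw_succ, Matrix.map_mul, Nt]
  congr 1
  ext j i
  simp only [Matrix.map_apply]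
  exact rho_frob_pow (n + 1) (M j i)

theorem lands_iff_Nt (n : ℕ) :
    (vTw (VsB b M) n).Lands (W4c1extbt610.IV p R ⊔ Ideal.span {(p : WittVector p R)}) ↔
      Nt b M n = 0 := by
  rw [lands_iff b, ← Matrix.ext_iff]
  refine forall_congr' fun j => forall_congr' fun i => ?_
  rw [mem_J_iff, Nt, Matrix.map_apply, Matrix.zero_apply]

theorem isVNilpotent_iff : IsVNilpotent (VsB b M) ↔ ∃ n, Nt b M n = 0 := by
  refine exists_congr fun n => ?_
  rw [← lands_iff_Nt]
  rfl

end Stage2

section Stage3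

variable {K : Type u} [CommRing K]
variable {ιT ιL : Type w} [Fintype ιT] [Fintype ιL] [DecidableEq ιT] [DecidableEq ιL]
variable (p : ℕ) (Cm : Matrix (ιT ⊕ ιL) (ιT ⊕ ιL) K)

/-- The recursion satisfied by the reduced matrices. -/
def Nn : ℕ → Matrix (ιT ⊕ ιL) (ιT ⊕ ιL) K
  | 0 => Cm
  | n + 1 => (Cm.map fun x => x ^ p ^ (n + 1)) * Nn n

/-- The `L`-block. -/
def Bm : Matrix ιL ιL K := Matrix.of fun k l => Cm (Sum.inr k) (Sum.inr l)

/-- The twisted product of the statement. -/
def Sprod (N : ℕ) : Matrix ιL ιL K :=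
  ((List.range N).reverse.map fun i : ℕ => (Bm Cm).map fun x : K => x ^ p ^ i).prod

theorem Sprod_zero : Sprod p Cm 0 = 1 := by simp [Sprod]

theorem Sprod_succ (N : ℕ) :
    Sprod p Cm (N + 1) = ((Bm Cm).map fun x => x ^ p ^ N) * Sprod p Cm N := by
  simp [Sprod, List.range_succ]

variable (hp0 : 0 < p) (hC0 : ∀ j i, Cm (Sum.inl j) i = 0)

include hp0 hC0 in
theorem Nn_inl (n : ℕ) (j : ιT) (i : ιT ⊕ ιL) : Nn p Cm n (Sum.inl j) i = 0 := by
  cases n with
  | zero => exact hC0 j i
  | succ n =>
    rw [Nn, Matrix.mul_apply]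
    refine Finset.sum_eq_zero fun l _ => ?_
    rw [Matrix.map_apply, hC0, zero_pow (pow_ne_zero _ hp0.ne'), zero_mul]

include hp0 hC0 in
theorem Nn_inr_mul (n : ℕ) (k : ιL) (i : ιT ⊕ ιL) :
    Nn p Cm (n + 1) (Sum.inr k) i =
      ∑ l, ((Bm Cm).map fun x => x ^ p ^ (n + 1)) k l * Nn p Cm n (Sum.inr l) i := by
  rw [Nn, Matrix.mul_apply, Fintype.sum_sum_type]
  have : ∑ j : ιT, (Cm.map fun x => x ^ p ^ (n + 1)) (Sum.inr k) (Sum.inl j) *
      Nn p Cm n (Sum.inl j) i = 0 :=
    Finset.sum_eq_zero fun j _ => by rw [Nn_inl p Cm hp0 hC0, mul_zero]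
  rw [this, zero_add]
  rfl

include hp0 hC0 in
theorem Nn_inr_inr (n : ℕ) :
    (Matrix.of fun k l => Nn p Cm n (Sum.inr k) (Sum.inr l)) = Sprod p Cm (n + 1) := by
  induction n with
  | zero =>
    rw [Sprod_succ, Sprod_zero, mul_one]
    ext k l
    simp [Nn, Bm]
  | succ n ih =>
    rw [Sprod_succ, ← ih]
    ext k l
    rw [Matrix.of_apply, Nn_inr_mul p Cm hp0 hC0, Matrix.mul_apply]
    rfl

include hp0 hC0 in
theorem Nn_inr
    (htw : ∀ X Y : Matrix ιL ιL K,
      (X * Y).map (fun x => x ^ p) = X.map (fun x => x ^ p) * Y.map (fun x => x ^ p))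
    (n : ℕ) (k : ιL) (i : ιT ⊕ ιL) :
    Nn p Cm n (Sum.inr k) i = ∑ l, ((Sprod p Cm n).map fun x => x ^ p) k l * Cm (Sum.inr l) i := by
  induction n generalizing k i with
  | zero =>
    rw [Sprod_zero, Nn]
    simp [Matrix.one_apply, zero_pow hp0.ne']
  | succ n ih =>
    rw [Nn_inr_mul p Cm hp0 hC0, Sprod_succ, htw]
    simp_rw [ih, Matrix.mul_apply, Finset.mul_sum, Finset.sum_mul]
    rw [Finset.sum_comm]
    refine Finset.sum_congr rfl fun l _ => Finset.sum_congr rfl fun l' _ => ?_
    simp only [Matrix.map_apply]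
    rw [← pow_mul, ← pow_succ, mul_assoc]

end Stage3

section Stage4

variable {p : ℕ} [Fact p.Prime] {R : Type u} [CommRing R] {ιL : Type w} [Fintype ιL]

theorem twist_mul (hp : IsNilpotent (p : R)) (X Y : Matrix ιL ιL (R ⧸ Ideal.span {(p : R)})) :
    (X * Y).map (fun x => x ^ p) = X.map (fun x => x ^ p) * Y.map (fun x => x ^ p) := by
  rcases subsingleton_or_nontrivial R with h | h
  · haveI : Subsingleton (R ⧸ Ideal.span {(p : R)}) :=
      (Ideal.Quotient.mk_surjective (I := Ideal.span {(p : R)})).subsingleton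
    exact Subsingleton.elim _ _
  · haveI : CharP (R ⧸ Ideal.span {(p : R)}) p := CharP.quotient R p (by
      rw [mem_nonunits_iff]
      intro hu
      obtain ⟨e, he⟩ := hp
      have := hu.pow e
      rw [he] at this
      exact not_isUnit_zero this)
    exact Matrix.map_mul (L := X) (M := Y) (f := frobenius (R ⧸ Ideal.span {(p : R)}) p)

end Stage4

section Stage5

variable {p : ℕ} [Fact p.Prime] {R : Type u} [CommRing R]
variable {P : Type v} [AddCommGroup P] [Module (WittVector p R) P]
variable {ιT ιL : Type w}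

/-- The basis of `P` formed by the `t_j` followed by the `l_k`. -/
def bP (L T : Submodule (WittVector p R) P) (hLT : IsCompl L T)
    (bT : Module.Basis ιT (WittVector p R) T) (bL : Module.Basis ιL (WittVector p R) L) :
    Module.Basis (ιT ⊕ ιL) (WittVector p R) P :=
  (bT.prod bL).map (Submodule.prodEquivOfIsCompl T L hLT.symm)

theorem bP_apply (L T : Submodule (WittVector p R) P) (hLT : IsCompl L T)
    (bT : Module.Basis ιT (WittVector p R) T) (bL : Module.Basis ιL (WittVector p R) L)
    (i : ιT ⊕ ιL) :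
    bP L T hLT bT bL i = Sum.elim (fun a : ιT => (bT a : P)) (fun a : ιL => (bL a : P)) i := by
  cases i with
  | inl j => simp [bP, Module.Basis.prod_apply]
  | inr k => simp [bP, Module.Basis.prod_apply]

theorem le_span_bL (L : Submodule (WittVector p R) P) (bL : Module.Basis ιL (WittVector p R) L) :
    L ≤ Submodule.span (WittVector p R) (Set.range fun k => (bL k : P)) := by
  intro x hx
  have h1 : (⟨x, hx⟩ : L) ∈ Submodule.span (WittVector p R) (Set.range bL) := by
    rw [bL.span_eq]; trivial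
  have h2 := Submodule.mem_map_of_mem (f := L.subtype) h1
  rw [Submodule.map_span, ← Set.range_comp] at h2
  exact h2

end Stage5

end Helpers

/-- Let p be a prime and R a commutative ring in which p is nilpotent (in particular every prime number
other than p is a unit in R); write W = W(R) with Frobenius σ, Verschiebung V, I_R = V(W) and w₀ : W
→ R for the zeroth Witt component. Let (P, Q, F, V⁻¹) be a 3n-display over R with a normal
decomposition P = L ⊕ T, Q = L + I_R·T in which T and L are free with finite bases (t_j) and (l_k).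
Let α be the square matrix over W, indexed by the disjoint union of the two index sets, such that
F(t_j) = Σ_i α_{i,j} e_i and V⁻¹(l_k) = Σ_i α_{i,k} e_i, where (e_i) is the basis of P formed by the
t_j followed by the l_k, and let β be a two-sided inverse of α. Let B be the square block of β on
the L-indices, reduced to R/pR through w₀, and write B^{(p^i)} for the matrix whose entries are the
p^i-th powers of those of B. Then (P, Q, F, V⁻¹) is a display, i.e. its operator V# satisfies the
nilpotence condition, if and only if B^{(p^{N-1})} ⋯ B^{(p)} · B = 0 for some N ≥ 1. -/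
theorem result (p : ℕ) [Fact p.Prime] (R : Type u) [CommRing R]
    (hR : ∀ ℓ : ℕ, ℓ.Prime → ℓ ≠ p → IsUnit (ℓ : R)) (hp : IsNilpotent (p : R))
    (P : Type v) [AddCommGroup P] [Module (WittVector p R) P] (D : W4c1extbt610.Display3n p R P)
    (L T : Submodule (WittVector p R) P) (hLT : IsCompl L T)
    (hQ : D.Q = L ⊔ W4c1extbt610.IV p R • T) (hLQ : L ≤ D.Q)
    (ιT ιL : Type w) [Fintype ιT] [Fintype ιL] [DecidableEq ιT] [DecidableEq ιL]
    (bT : Module.Basis ιT (WittVector p R) T) (bL : Module.Basis ιL (WittVector p R) L)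
    (α β : Matrix (ιT ⊕ ιL) (ιT ⊕ ιL) (WittVector p R)) (hαβ : α * β = 1) (hβα : β * α = 1)
    (hF : ∀ j : ιT, D.F (bT j : P) =
      Finset.univ.sum fun i : ιT ⊕ ιL => α i (Sum.inl j) • Sum.elim (fun a : ιT => (bT a : P)) (fun a : ιL => (bL a : P)) i)
    (hV : ∀ k : ιL, D.Vinv ⟨(bL k : P), hLQ (bL k).2⟩ =
      Finset.univ.sum fun i : ιT ⊕ ιL => α i (Sum.inr k) • Sum.elim (fun a : ιT => (bT a : P)) (fun a : ιL => (bL a : P)) i) :
    Dieu.IsDisplay D ↔
      ∃ N : ℕ, 0 < N ∧
        (((List.range N).reverse.map fun i : ℕ =>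
            (Matrix.of fun k l : ιL =>
                Ideal.Quotient.mk (Ideal.span {(p : R)}) (WittVector.constantCoeff (β (Sum.inr k) (Sum.inr l)))).map
              fun x : R ⧸ Ideal.span {(p : R)} => x ^ p ^ i).prod
          = 0) := by
  have hp0 : 0 < p := (Fact.out : p.Prime).pos
  set b := bP L T hLT bT bL with hbdef
  have hb : ∀ i, b i = Sum.elim (fun a : ιT => (bT a : P)) (fun a : ιL => (bL a : P)) i :=
    bP_apply L T hLT bT bL
  have hbQ : ∀ k, b (Sum.inr k) ∈ D.Q := fun k => by rw [hb]; exact hLQ (bL k).2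
  have hF' : ∀ j, D.F (b (Sum.inl j)) = ∑ i, α i (Sum.inl j) • b i := by
    intro j
    simp_rw [hb]
    exact hF j
  have hV' : ∀ k, D.Vinv ⟨b (Sum.inr k), hbQ k⟩ = ∑ i, α i (Sum.inr k) • b i := by
    intro k
    simp_rw [hb]
    exact hV k
  have hL : L ≤ Submodule.span (WittVector p R) (Set.range fun k => b (Sum.inr k)) := by
    have : (fun k => b (Sum.inr k)) = fun k => (bL k : P) := by
      funext k; rw [hb]; rfl
    rw [this]
    exact le_span_bL L bL
  have hsharp := isVSharp_VsB D b α β hβα hbQ hF' hV' L T hQ hL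
  have hiff : Dieu.IsDisplay D ↔ Dieu.IsVNilpotent (VsB b (M0 epsV β)) := by
    constructor
    · rintro ⟨Vs', h', hn⟩
      rwa [isVSharp_unique D _ Vs' hsharp h'] at hn
    · intro h
      exact ⟨_, hsharp, h⟩
  rw [hiff, isVNilpotent_iff]
  set Cm := (M0 epsV β).map (rho (p := p) (R := R)) with hCm
  have hNt : ∀ n, Nt b (M0 epsV β) n = Nn p Cm n := by
    intro n
    induction n with
    | zero => exact Nt_zero b _
    | succ n ih => rw [Nt_succ, ih]; rfl
  have hrp : rho (p : WittVector p R) = 0 := by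
    rw [map_natCast, ← map_natCast (Ideal.Quotient.mk (Ideal.span {(p : R)}))]
    exact mk_p
  have hC0 : ∀ j i, Cm (Sum.inl j) i = 0 := by
    intro j i
    simp [hCm, M0, epsV, hrp]
  have hBm : Bm Cm = Matrix.of fun k l : ιL =>
      Ideal.Quotient.mk (Ideal.span {(p : R)}) (WittVector.constantCoeff (β (Sum.inr k) (Sum.inr l))) := by
    ext k l
    simp [Bm, hCm, M0, epsV, rho_apply]
  rw [← hBm]
  constructor
  · rintro ⟨n, hn⟩
    refine ⟨n + 1, Nat.succ_pos _, ?_⟩
    change Sprod p Cm (n + 1) = 0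
    rw [← Nn_inr_inr p Cm hp0 hC0]
    ext k l
    rw [Matrix.of_apply, ← hNt, hn]
    rfl
  · rintro ⟨N, _, hS⟩
    refine ⟨N, ?_⟩
    rw [hNt]
    ext a i
    cases a with
    | inl j => exact Nn_inl p Cm hp0 hC0 N j i
    | inr k =>
      rw [Nn_inr p Cm hp0 hC0 (twist_mul hp) N k i]
      have hS' : Sprod p Cm N = 0 := hS
      rw [hS']
      simp [zero_pow hp0.ne']

end Groth.Agent.S16546
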