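import Groth.Statements.S1655
import Groth.Agent.Lib.Helper13.ProperBirational

set_option autoImplicit false
universe u
open CategoryTheory CategoryTheory.Limits AlgebraicGeometry
open Variety

namespace Groth.Agent.S1655

/-- Let X be a Noetherian integral scheme, Y an integral scheme, and f : Y → X a proper morphism that
restricts to an isomorphism over some nonempty open subscheme of X. If x is a point of X whose local
ring is integrally closed and f is quasi-finite at some point lying over x, then f restricts to an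
isomorphism over an open neighbourhood of x. -/
theorem result {X Y : Scheme.{u}} [IsNoetherian X] [IsIntegral X] [IsIntegral Y]
    (f : Y ⟶ X) [IsProper f] (W : X.Opens) (hW : (W : Set X).Nonempty) (hfW : IsIso (f ∣_ W))
    (x : X) (hx : IsIntegrallyClosed (X.presheaf.stalk x)) (y : Y) (hy : f.base y = x) (hq : f.QuasiFiniteAt y) :
    ∃ V : X.Opens, x ∈ V ∧ IsIso (f ∣_ V) := by
  subst hy
  obtain ⟨w, hw⟩ := hW
  haveI : Nonempty W.toScheme := ⟨⟨w, hw⟩⟩
  haveI : IsIntegral W.toScheme := isIntegral_of_isOpenImmersion W.ι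
  haveI : Nonempty (f ⁻¹ᵁ W).toScheme := ⟨(inv (f ∣_ W)) ⟨w, hw⟩⟩
  haveI : IsIntegral (f ⁻¹ᵁ W).toScheme := isIntegral_of_isOpenImmersion (f ⁻¹ᵁ W).ι
  have h1 : (f ∣_ W) (genericPoint (f ⁻¹ᵁ W).toScheme) = genericPoint W.toScheme :=
    genericPoint_eq_of_isOpenImmersion (f ∣_ W)
  have h2 : (f ⁻¹ᵁ W).ι (genericPoint (f ⁻¹ᵁ W).toScheme) = genericPoint Y :=
    genericPoint_eq_of_isOpenImmersion _
  have h3 : W.ι (genericPoint W.toScheme) = genericPoint X :=
    genericPoint_eq_of_isOpenImmersion _
  have hgen : f (genericPoint Y) = genericPoint X := by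
    rw [← h2, ← Scheme.Hom.comp_apply, ← morphismRestrict_ι, Scheme.Hom.comp_apply, h1, h3]
  have hbir : IsIso (f.stalkMap (genericPoint Y)) := by
    have e := morphismRestrictStalkMap f W (genericPoint (f ⁻¹ᵁ W).toScheme)
    have h4 : IsIso (f.stalkMap (genericPoint (f ⁻¹ᵁ W).toScheme).1) :=
      ((MorphismProperty.isomorphisms CommRingCat).arrow_mk_iso_iff e).mp
        (inferInstanceAs (IsIso ((f ∣_ W).stalkMap _)))
    have key : ∀ z : Y, z = genericPoint Y → IsIso (f.stalkMap z) →
        IsIso (f.stalkMap (genericPoint Y)) := by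
      rintro _ rfl h; exact h
    exact key _ h2 h4
  exact Groth.Agent.Lib.Helper13.ProperBirational.exists_isIso_morphismRestrict f hgen
    (ConcreteCategory.bijective_of_isIso (f.stalkMap (genericPoint Y))).2 y hx hq

end Groth.Agent.S1655
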