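import Groth.Statements.S16575
import Mathlib
import Groth.Agent.Lib.Helper12.C2C
import Groth.Agent.Lib.Helper12.C2D
import Groth.Agent.Lib.Helper12.BrnchD
import Groth.Agent.Lib.Helper12.BrnchH
import Groth.Agent.Lib.Helper12.HensCompl
import Groth.Agent.S2125
import Groth.Agent.S9304

set_option autoImplicit false
universe u
open CAlg

namespace Groth.Agent.S16575

/-- Let A be a Noetherian local ring, S a henselization of A, S' a strict henselization of A, A' the
integral closure of the reduction of A in its total ring of fractions, and Â the completion of A at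
its maximal ideal. The following are equivalent: (i) for every maximal ideal m' of A' the local ring
of A' at m' has Krull dimension at least 2; (ii) every irreducible component of Spec S has dimension
at least 2; (ii bis) every irreducible component of Spec S' has dimension at least 2; (iii) every
irreducible component of Spec Â has dimension at least 2. (A closed subscheme Z of a Noetherian
scheme X is called c_2 when these hold at the local ring of every point of Z; condition (i) at all
points of Z says that the preimage of Z in the normalization has codimension at least 2.) -/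
theorem result
    (A : Type u) [CommRing A] [IsNoetherianRing A] [IsLocalRing A]
    (S : Type u) [CommRing S] [IsLocalRing S] [Algebra A S] [IsLocalHom (algebraMap A S)]
    [Hensel.IsHenselization A S]
    (S' : Type u) [CommRing S'] [IsLocalRing S'] [Algebra A S'] [IsLocalHom (algebraMap A S')]
    [Hensel.IsStrictHenselization A S'] :
    List.TFAE [
      ∀ m' : MaximalSpectrum (CAlg2.normRed A), (2 : WithBot ℕ∞) ≤ ringKrullDim (Localization.AtPrime m'.asIdeal),
      ∀ p ∈ minimalPrimes S, (2 : WithBot ℕ∞) ≤ ringKrullDim (S ⧸ p),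
      ∀ p ∈ minimalPrimes S', (2 : WithBot ℕ∞) ≤ ringKrullDim (S' ⧸ p),
      ∀ q ∈ minimalPrimes (AdicCompletion (IsLocalRing.maximalIdeal A) A), (2 : WithBot ℕ∞) ≤ ringKrullDim (AdicCompletion (IsLocalRing.maximalIdeal A) A ⧸ q)] := by
  classical
  open Groth.Agent.Lib.Helper12 in
  have hfin : (minimalPrimes A).Finite := minimalPrimes.finite_of_isNoetherianRing A
  -- (i) ↔ (ii)
  have h12 : (∀ m' : MaximalSpectrum (CAlg2.normRed A),
        (2 : WithBot ℕ∞) ≤ ringKrullDim (Localization.AtPrime m'.asIdeal)) ↔
      ∀ p ∈ minimalPrimes S, (2 : WithBot ℕ∞) ≤ ringKrullDim (S ⧸ p) := by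
    haveI : Module.Flat A S := by
      obtain ⟨e⟩ := Groth.Agent.Lib.Helper12.Henselization.nonempty_algEquiv (A := A) S
      exact Module.Flat.of_linearEquiv e.toLinearEquiv
    have hS := Groth.Agent.Lib.Helper12.HensFibre.isIndEssEtale_of_isHenselization A S
    have hsurj := Groth.Agent.Lib.Helper12.BrnchHens.surjective_toIntegralClosure_hens A S
      (FractionRing (CAlg2.red A))
    exact Groth.Agent.Lib.Helper12.C2.c2_iff A S (Hensel.IsHenselization.henselian A) hS
      (fun hQ1 hQ2 hM h1 h2 =>
        Groth.Agent.Lib.Helper12.BrnchHens.minimalPrime_unique' A S hS hsurj hfin hQ1 hQ2 hM h1 h2)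
      (Groth.Agent.S2125.result (A := A) (Ah := S) hfin)
  -- (i) ↔ (ii bis)
  have h13 : (∀ m' : MaximalSpectrum (CAlg2.normRed A),
        (2 : WithBot ℕ∞) ≤ ringKrullDim (Localization.AtPrime m'.asIdeal)) ↔
      ∀ p ∈ minimalPrimes S', (2 : WithBot ℕ∞) ≤ ringKrullDim (S' ⧸ p) := by
    haveI : Module.Flat A S' :=
      Groth.Agent.Lib.Helper12.StrictStruct.flat_of_isStrictHenselization A S'
    have hS := Groth.Agent.Lib.Helper12.HensFibre.isIndEssEtale_of_isStrictHenselization A S'
    exact Groth.Agent.Lib.Helper12.C2.c2_iff A S' (Hensel.IsStrictHenselization.henselian A) hS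
      (fun hQ1 hQ2 hM h1 h2 =>
        Groth.Agent.Lib.Helper12.NormRedMax.minimalPrime_unique A S' hfin hQ1 hQ2 hM h1 h2)
      (Groth.Agent.S9304.result (A := A) (Ash := S') hfin)
  -- (ii) ↔ (iii)
  have h24 : (∀ p ∈ minimalPrimes S, (2 : WithBot ℕ∞) ≤ ringKrullDim (S ⧸ p)) ↔
      ∀ q ∈ minimalPrimes (AdicCompletion (IsLocalRing.maximalIdeal A) A),
        (2 : WithBot ℕ∞) ≤ ringKrullDim (AdicCompletion (IsLocalRing.maximalIdeal A) A ⧸ q) := by
    obtain ⟨e⟩ := Groth.Agent.Lib.Helper12.Henselization.nonempty_algEquiv (A := A) S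
    obtain ⟨e'⟩ := Groth.Agent.Lib.Helper12.HensCompl.nonempty_complEquiv A
    have k1 := Groth.Agent.Lib.Helper12.C2.C2_iff_of_ringEquiv e.toRingEquiv
    have k2 := Groth.Agent.Lib.Helper12.C2.C2_completion_iff
      (Groth.Agent.Lib.Helper12.Henselization A)
    have k3 := Groth.Agent.Lib.Helper12.C2.C2_iff_of_ringEquiv e'.toRingEquiv
    exact k1.trans (k2.symm.trans k3.symm)
  tfae_have 1 ↔ 2 := h12
  tfae_have 1 ↔ 3 := h13
  tfae_have 2 ↔ 4 := h24
  tfae_finish

end Groth.Agent.S16575
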