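import Groth.Statements.S16577
import Mathlib
import Groth.Agent.Lib.Helper12.AssFlat
import Groth.Agent.Lib.Helper12.HensFibre
import Groth.Agent.Lib.Helper12.StrictStruct5

set_option autoImplicit false
universe u
open Hensel

namespace Groth.Agent.S16577

/-- Going down: a minimal prime over `pS` contracts to `p`. -/
theorem comap_eq_of_mem_minimalPrimes_map {R S : Type u} [CommRing R] [CommRing S] [Algebra R S]
    [Algebra.HasGoingDown R S] (p : Ideal R) [p.IsPrime] (P : Ideal S)
    (hP : P ∈ (p.map (algebraMap R S)).minimalPrimes) : P.comap (algebraMap R S) = p := by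
  haveI := hP.1.1
  have hle : p ≤ P.comap (algebraMap R S) := by
    rw [← Ideal.map_le_iff_le_comap]; exact hP.1.2
  by_contra hne
  have hlt : p < P.under R := lt_of_le_of_ne hle (Ne.symm hne)
  obtain ⟨P', hP'le, hP'prime, hP'over⟩ :=
    Algebra.HasGoingDown.exists_ideal_le_liesOver_of_lt (p := p) P hlt
  have h1 : p.map (algebraMap R S) ≤ P' := by
    rw [Ideal.map_le_iff_le_comap]
    exact le_of_eq hP'over.over
  have h2 : P ≤ P' := hP.2 ⟨hP'prime, h1⟩ hP'le
  have h3 : P' = P := le_antisymm hP'le h2
  apply hne
  rw [← h3]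
  exact hP'over.over.symm

/-- Let A be a Noetherian local ring with a strict henselization S', and p a prime ideal of A. Call p an
immediate étale generization of the closed point when the strict henselization S'/pS' of A/p has an
irreducible component of dimension 1, that is, some minimal prime P over pS' has dim S'/P = 1. Then
p is an immediate étale generization of the closed point if and only if p is the contraction of some
prime ideal P of S' with dim S'/P = 1. -/
theorem result
    (A : Type u) [CommRing A] [IsNoetherianRing A] [IsLocalRing A]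
    (S' : Type u) [CommRing S'] [IsLocalRing S'] [Algebra A S'] [IsLocalHom (algebraMap A S')]
    [Hensel.IsStrictHenselization A S']
    (p : Ideal A) [p.IsPrime] :
    (∃ P ∈ (p.map (algebraMap A S')).minimalPrimes, ringKrullDim (S' ⧸ P) = 1) ↔
    (∃ P : Ideal S', P.IsPrime ∧ P.comap (algebraMap A S') = p ∧ ringKrullDim (S' ⧸ P) = 1) := by
  haveI : IsNoetherianRing S' :=
    Groth.Agent.Lib.Helper12.HensFibre.isNoetherianRing_of_isStrictHenselization A S'
  haveI : Module.Flat A S' :=
    Groth.Agent.Lib.Helper12.StrictStruct.flat_of_isStrictHenselization A S'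
  have hfib : ∀ (p : Ideal A) [p.IsPrime], Ring.KrullDimLE 0 (TensorProduct A p.ResidueField S') :=
    fun p _ => Groth.Agent.Lib.Helper12.IndEtaleFibre.krullDimLE_zero_tensor (κ := p.ResidueField)
      (Groth.Agent.Lib.Helper12.HensFibre.isIndEssEtale_of_isStrictHenselization A S')
  constructor
  · rintro ⟨P, hP, hdim⟩
    exact ⟨P, hP.1.1, comap_eq_of_mem_minimalPrimes_map p P hP, hdim⟩
  · rintro ⟨P, hPprime, hPp, hdim⟩
    refine ⟨P, ⟨⟨hPprime, ?_⟩, ?_⟩, hdim⟩
    · rw [Ideal.map_le_iff_le_comap, hPp]
    · intro Q hQ hle
      haveI := hQ.1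
      have h2 : Q.comap (algebraMap A S') = P.comap (algebraMap A S') := by
        refine le_antisymm (Ideal.comap_mono hle) ?_
        rw [hPp, ← Ideal.map_le_iff_le_comap]
        exact hQ.2
      exact (Groth.Agent.Lib.Helper12.AssFlat.eq_of_le_of_comap_eq A S' hfib Q P hle h2).ge

end Groth.Agent.S16577
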