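import Groth.Statements.S16583
-- import your own Groth.Agent.* helpers here
import Groth.Agent.Lib.Helper23.DimZeroSplit
import Groth.Agent.Lib.Helper23.NormalSplit

set_option autoImplicit false
universe u
open CategoryTheory AlgebraicGeometry
open EtCore

namespace Groth.Agent.S16583

/-- Let X be a scheme such that every local ring of X is a field and every residue field of X is
algebraically closed, and let f : Y → X be an étale morphism. Then f is Zariski-locally trivial: for
every point y of Y there exist an open V of X containing f(y) and a section s : V → Y of f over V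
whose image contains y. (The published lemma is stated for a specific scheme X^c attached to a
coherent scheme — the constructible topology of a suitable integral cover, which has these two
properties by construction; the row states the assertion for every scheme with these two properties,
which is all the printed proof uses. The lemma's further assertions about the étale and Zariski
topoi, torsors and gerbes on X^c are not included.) -/
theorem result
    (X Y : Scheme.{u}) (hX : ∀ x : X, IsField (X.presheaf.stalk x))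
    (hX' : ∀ x : X, IsAlgClosed (X.residueField x))
    (f : Y ⟶ X) [Etale f] (y : Y) :
    ∃ (V : X.Opens) (s : (V : Scheme.{u}) ⟶ Y), f.base y ∈ V ∧ s ≫ f = V.ι ∧ y ∈ Set.range s.base := by
  open Groth.Agent.Lib.Helper23 in
  have h1 : ∀ x : X, IsClosed ({x} : Set X) := by
    intro x
    rw [← closure_eq_iff_isClosed]
    apply Set.Subset.antisymm _ subset_closure
    intro z hz
    have hs : x ⤳ z := specializes_iff_mem_closure.2 hz
    have hr : x ∈ Set.range (X.fromSpecStalk z) := by
      rw [Scheme.range_fromSpecStalk]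
      exact hs
    obtain ⟨a, ha⟩ := hr
    have hsub : Subsingleton (Spec (X.presheaf.stalk z)) := by
      letI := (hX z).toField
      exact (inferInstance : Subsingleton (PrimeSpectrum (X.presheaf.stalk z)))
    have hcl : X.fromSpecStalk z (IsLocalRing.closedPoint _) = z :=
      Scheme.fromSpecStalk_closedPoint
    rw [Set.mem_singleton_iff, ← hcl, ← ha]
    congr 1
    exact Subsingleton.elim _ _
  obtain ⟨X₀, hX₀, hfy, -⟩ := exists_isAffineOpen_mem_and_subset (x := f y) (U := ⊤) trivial
  have hy0 : y ∈ f ⁻¹ᵁ X₀ := hfy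
  obtain ⟨Y₀, hY₀, hyY₀, hYX⟩ := exists_isAffineOpen_mem_and_subset (x := y) (U := f ⁻¹ᵁ X₀) hy0
  haveI : IsAffine (X₀ : Scheme.{u}) := hX₀
  haveI : IsAffine (Y₀ : Scheme.{u}) := hY₀
  have hrange : Set.range (Y₀.ι ≫ f) ⊆ Set.range X₀.ι := by
    rintro _ ⟨t, rfl⟩
    rw [Scheme.Opens.range_ι]
    exact hYX t.2
  let f₀ : (Y₀ : Scheme.{u}) ⟶ X₀ := IsOpenImmersion.lift X₀.ι (Y₀.ι ≫ f) hrange
  have hf₀ : f₀ ≫ X₀.ι = Y₀.ι ≫ f := IsOpenImmersion.lift_fac _ _ _
  haveI : Etale f₀ := by
    haveI : Etale (f₀ ≫ X₀.ι) := by rw [hf₀]; infer_instance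
    exact Etale.of_comp f₀ X₀.ι
  have h1' : ∀ s : (X₀ : Scheme.{u}), IsClosed ({s} : Set (X₀ : Scheme.{u})) := fun s => by
    have : ({s} : Set (X₀ : Scheme.{u})) = X₀.ι ⁻¹' {X₀.ι s} := by
      ext t
      simp only [Set.mem_singleton_iff, Set.mem_preimage]
      exact ⟨fun h => by rw [h], fun h => X₀.ι.injective h⟩
    rw [this]
    exact (h1 _).preimage X₀.ι.continuous
  have h2' : ∀ s : (X₀ : Scheme.{u}), IsSepClosed ((X₀ : Scheme.{u}).residueField s) := fun s => by
    haveI := hX' (X₀.ι s)
    haveI : IsSepClosed (X.residueField (X₀.ι s)) := inferInstance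
    exact Groth.Agent.Lib.Helper23.NormalSplit.isSepClosed_of_ringEquiv
      (asIso (X₀.ι.residueFieldMap s)).commRingCatIsoToRingEquiv
  obtain ⟨O, hyO, hO⟩ :=
    Groth.Agent.Lib.Helper23.DimZeroSplit.exists_open_isOpenImmersion f₀ h1' h2' ⟨y, hyY₀⟩
  let j : (O : Scheme.{u}) ⟶ X := O.ι ≫ Y₀.ι ≫ f
  haveI : IsOpenImmersion j := by
    have : j = (O.ι ≫ f₀) ≫ X₀.ι := by
      simp only [j, Category.assoc, hf₀]
    rw [this]
    infer_instance
  refine ⟨j.opensRange, j.isoOpensRange.inv ≫ O.ι ≫ Y₀.ι, ?_, ?_, ?_⟩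
  · exact ⟨⟨⟨y, hyY₀⟩, hyO⟩, rfl⟩
  · simp only [Category.assoc]
    exact j.isoOpensRange_inv_comp
  · refine ⟨j.isoOpensRange.hom ⟨⟨y, hyY₀⟩, hyO⟩, ?_⟩
    change (j.isoOpensRange.hom ≫ j.isoOpensRange.inv ≫ O.ι ≫ Y₀.ι) ⟨⟨y, hyY₀⟩, hyO⟩ = y
    rw [Iso.hom_inv_id_assoc]
    rfl


end Groth.Agent.S16583
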