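import Groth.Statements.S8852
-- import your own Groth.Agent.* helpers here

set_option autoImplicit false
universe u
open CategoryTheory CategoryTheory.Limits AlgebraicGeometry TopologicalSpace
open SDiv

namespace Groth.Agent.S8852

theorem alg_key {A : Type*} [CommRing A] (I J : Ideal A) (f : A) (hf : f ∈ nonZeroDivisors A)
    (h : I * J = Ideal.span {f}) (p : Ideal A) (hp : (1:A) ∉ p) :
    ∃ a ∈ I, ∃ b ∈ J, ∃ c, c ∉ p ∧ a * b = c * f := by
  by_contra hcon
  push Not at hcon
  have hle : I * J ≤ p * Ideal.span {f} := by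
    rw [Ideal.mul_le]
    intro a ha b hb
    have hab : a * b ∈ Ideal.span {f} := h ▸ Ideal.mul_mem_mul ha hb
    obtain ⟨c, hc⟩ := Ideal.mem_span_singleton'.mp hab
    have hcp := hcon a ha b hb c
    by_cases hc' : c ∈ p
    · rw [← hc]; exact Ideal.mul_mem_mul hc' (Ideal.mem_span_singleton_self f)
    · exact absurd hc.symm (hcp hc')
  have hfm : f ∈ p * Ideal.span {f} := hle (h ▸ Ideal.mem_span_singleton_self f)
  obtain ⟨z, hz, hzf⟩ := Ideal.mem_mul_span_singleton.mp hfm
  have : (z - 1) * f = 0 := by rw [sub_mul, hzf, one_mul, sub_self]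
  have hz1 : z - 1 = 0 := (mem_nonZeroDivisors_iff_right.mp hf) _ this
  exact hp (by rwa [sub_eq_zero.mp hz1] at hz)

theorem alg_loc {A B : Type*} [CommRing A] [CommRing B] [Algebra A B] (I J : Ideal A) (f : A)
    (hf : f ∈ nonZeroDivisors A) (h : I * J = Ideal.span {f}) (a b c : A) (ha : a ∈ I)
    (hb : b ∈ J) (habc : a * b = c * f) [IsLocalization.Away c B] :
    I.map (algebraMap A B) = Ideal.span {algebraMap A B a} ∧
      algebraMap A B a ∈ nonZeroDivisors B := by
  have hcu : IsUnit (algebraMap A B c) := IsLocalization.Away.algebraMap_isUnit c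
  constructor
  · apply le_antisymm
    · rw [Ideal.map_le_iff_le_comap]
      intro x hx
      rw [Ideal.mem_comap]
      have hxb : x * b ∈ Ideal.span {f} := h ▸ Ideal.mul_mem_mul hx hb
      obtain ⟨d, hd⟩ := Ideal.mem_span_singleton'.mp hxb
      have h1 : (c * x - a * d) * f = 0 := by
        have : c * f * x = a * (d * f) := by rw [← habc, hd]; ring
        linear_combination this
      have h2 : c * x = a * d := sub_eq_zero.mp ((mem_nonZeroDivisors_iff_right.mp hf) _ h1)
      have h3 : algebraMap A B c * algebraMap A B x = algebraMap A B a * algebraMap A B d := by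
        rw [← map_mul, ← map_mul, h2]
      obtain ⟨u, hu⟩ := hcu
      rw [Ideal.mem_span_singleton']
      refine ⟨(↑u⁻¹ : B) * algebraMap A B d, ?_⟩
      have : algebraMap A B x = ↑u⁻¹ * (algebraMap A B c * algebraMap A B x) := by
        rw [← hu, ← mul_assoc, Units.inv_mul, one_mul]
      rw [this, h3]; ring
    · rw [Ideal.span_le, Set.singleton_subset_iff]
      exact Ideal.mem_map_of_mem _ ha
  · rw [mem_nonZeroDivisors_iff_right]
    intro y hy
    obtain ⟨n, z, hzn⟩ := IsLocalization.Away.surj c y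
    -- hzn : y * algebraMap c ^ n = algebraMap z
    have h1 : algebraMap A B (z * a) = 0 := by
      rw [map_mul, ← hzn]
      calc y * algebraMap A B c ^ n * algebraMap A B a
          = (y * algebraMap A B a) * algebraMap A B c ^ n := by ring
        _ = 0 := by rw [hy, zero_mul]
    obtain ⟨⟨_, m, rfl⟩, hm⟩ := (IsLocalization.map_eq_zero_iff (Submonoid.powers c) B (z * a)).mp h1
    have hm' : c ^ m * (z * a) = 0 := hm
    have h2 : (c ^ (m + 1) * z) * f = 0 := by
      have : c ^ m * (z * a) * b = 0 := by rw [hm', zero_mul]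
      have e : c ^ (m + 1) * z * f = c ^ m * z * (c * f) := by ring
      rw [e, ← habc]; linear_combination this
    have h3 : c ^ (m + 1) * z = 0 := (mem_nonZeroDivisors_iff_right.mp hf) _ h2
    have h4 : algebraMap A B z = 0 := by
      rw [IsLocalization.map_eq_zero_iff (Submonoid.powers c) B]
      exact ⟨⟨c ^ (m + 1), m + 1, rfl⟩, h3⟩
    rw [h4] at hzn
    exact (hcu.pow n).mul_left_eq_zero.mp hzn

theorem half {X : Scheme.{u}} (𝓘 𝓙 : X.IdealSheafData)
    (h : BlowUp.IsEffCartierIdeal (𝓘 * 𝓙)) : BlowUp.IsEffCartierIdeal 𝓘 := by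
  intro x
  obtain ⟨U, hxU, f, hf, hIJ⟩ := h x
  rw [Scheme.IdealSheafData.ideal_mul, Pi.mul_apply] at hIJ
  let p : Ideal Γ(X, U.1) :=
    Ideal.comap (X.presheaf.germ U.1 x hxU).hom (IsLocalRing.maximalIdeal _)
  have hp : (1 : Γ(X, U.1)) ∉ p := by
    rw [← Ideal.ne_top_iff_one]
    exact Ideal.comap_ne_top _ (IsLocalRing.maximalIdeal.isMaximal _).ne_top
  obtain ⟨a, ha, b, hb, c, hc, habc⟩ := alg_key _ _ f hf hIJ p hp
  have hxc : x ∈ X.basicOpen c := by
    rw [Scheme.mem_basicOpen _ _ _ hxU]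
    by_contra hnu
    exact hc (by simpa [p, Ideal.mem_comap, IsLocalRing.mem_maximalIdeal] using hnu)
  have := U.2.isLocalization_basicOpen c
  obtain ⟨h1, h2⟩ := alg_loc (B := Γ(X, X.basicOpen c)) _ _ f hf hIJ a b c ha hb habc
  refine ⟨X.affineBasicOpen c, hxc, algebraMap Γ(X, U.1) Γ(X, X.basicOpen c) a, h2, ?_⟩
  rw [← 𝓘.map_ideal_basicOpen U c]
  exact h1

/-- Let 𝓘, 𝓙 be quasi-coherent ideal sheaves on a scheme X (closed subschemes Z, Y). If the product 𝓘𝓙
is the ideal sheaf of an effective Cartier divisor D, then 𝓘 and 𝓙 are ideal sheaves of effective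
Cartier divisors (and D is their sum, D having ideal 𝓘𝓙 by assumption). -/
theorem result {X : Scheme.{u}} (𝓘 𝓙 : X.IdealSheafData)
    (h : BlowUp.IsEffCartierIdeal (𝓘 * 𝓙)) : BlowUp.IsEffCartierIdeal 𝓘 ∧ BlowUp.IsEffCartierIdeal 𝓙 := by
  exact ⟨half 𝓘 𝓙 h, half 𝓙 𝓘 (by rwa [mul_comm])⟩

end Groth.Agent.S8852
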