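import Groth.Statements.S1659
import Groth.Agent.S8852
import Groth.Agent.Lib.Helper29.DivFactor

set_option autoImplicit false
universe u
open CategoryTheory CategoryTheory.Limits AlgebraicGeometry
open Divisors

namespace Groth.Agent.S1659

open Groth.Agent.Lib.Helper29.EffCart Groth.Agent.Lib.Helper29.DivFactor


/-- Let X be Noetherian, D an effective Cartier divisor and D_1, …, D_r effective Cartier divisors which
are integral as closed subschemes, with D contained set-theoretically in their union. Then D = Σ a_i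
D_i for some a_i ≥ 0, i.e. the ideal sheaf of D is the product of the a_i-th powers of the ideal
sheaves of the D_i. -/
theorem result (X : Scheme.{u}) [IsNoetherian X] (D : X.IdealSheafData) (hD : BlowUp.IsEffCartierIdeal D)
    (r : ℕ) (Ds : Fin r → X.IdealSheafData) (hDs : ∀ i, BlowUp.IsEffCartierIdeal (Ds i)) (hint : ∀ i, IsIntegral (Ds i).subscheme)
    (hsub : (D.support : Set X) ⊆ ⋃ i, ((Ds i).support : Set X)) :
    ∃ a : Fin r → ℕ, D = ∏ i, Ds i ^ a i := by
  obtain ⟨a, 𝓡, ha, hR⟩ := exists_factorization Ds hDs hint ∅ isClosed_empty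
    (fun z hz => absurd hz (Set.notMem_empty z)) D (by simpa using hsub)
  have hReff : BlowUp.IsEffCartierIdeal 𝓡 := (Groth.Agent.S8852.result 𝓡 _ (ha ▸ hD)).1
  have hDR : D ≤ 𝓡 := by
    rw [ha]
    intro U
    exact (Ideal.mul_le_right : (a.prod fun i n => Ds i ^ n).ideal U * 𝓡.ideal U ≤ 𝓡.ideal U).trans'
      (by rw [mul_comm]; exact le_rfl)
  have hRtop : 𝓡 = ⊤ := by
    rw [← Scheme.IdealSheafData.support_eq_bot_iff]
    by_contra hne
    obtain ⟨z, hz⟩ : ∃ z, z ∈ (𝓡.support : Set X) := by
      by_contra hcon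
      push Not at hcon
      apply hne
      ext x
      simp only [TopologicalSpace.Closeds.coe_bot, Set.mem_empty_iff_false, iff_false]
      exact hcon x
    obtain ⟨y, hy, hsp, hmax⟩ :=
      exists_maximal_generization (𝓡.support : Set X) 𝓡.support.isClosed z hz
    obtain ⟨U, hyU, t, ht, hI⟩ := hReff y
    have hdim := ringKrullDim_stalk_eq_one_of_principal_nzd 𝓡 U t ht hI y hyU hy hmax
    have hyD : y ∈ (D.support : Set X) := Scheme.IdealSheafData.support_antitone hDR hy
    obtain ⟨_, ⟨i, rfl⟩, hi⟩ := hsub hyD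
    haveI := hint i
    have hsp' := genericPoint_specializes_of_mem_support (Ds i) hi
    by_cases heq : (Ds i).subschemeι (genericPoint (Ds i).subscheme) = y
    · exact hR i (le_of_genericPoint_mem_support (Ds i) 𝓡 (heq ▸ hy))
    · have h1 := ringKrullDim_stalk_add_one_le_of_specializes hsp' heq
      have h2 := Groth.Agent.S19618.one_le_ringKrullDim_stalk_of_mem_support (Ds i) (hDs i) _
        (genericPoint_mem_support (Ds i))
      rw [hdim] at h1
      have h3 : (1 : WithBot ℕ∞) + 1 ≤ 1 := (add_le_add_left h2 1).trans h1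
      exact absurd h3 (by decide)
  refine ⟨a, ?_⟩
  rw [ha, hRtop, Scheme.IdealSheafData.top_mul, Finsupp.prod_fintype]
  intro i
  exact pow_zero _

end Groth.Agent.S1659
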