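import Groth.Statements.S16597
import Groth.Agent.Lib.Helper9.LGRing
import Mathlib.LinearAlgebra.Dimension.Constructions
import Mathlib.LinearAlgebra.FiniteDimensional.Lemmas
import Mathlib.RingTheory.Ideal.Quotient.Basic
import Mathlib.RingTheory.TensorProduct.Finite
import Mathlib.RingTheory.Spectrum.Prime.FreeLocus

set_option autoImplicit false
universe u v
open LGRing

namespace Groth.Agent.S16597

/-- Let R be an LG-ring and M a finite locally free (finitely generated projective) R-module of constant
rank. Then M is free. In particular invertible R-modules are trivial: Pic(R) = 0. -/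
theorem result {R : Type u} [CommRing R] (hR : LGRing.IsLGRing R)
    (M : Type v) [AddCommGroup M] [Module R M] [Module.Finite R M] [Module.Projective R M] (d : ℕ)
    (hd : ∀ p : PrimeSpectrum R, Module.rankAtStalk M p = d) : Module.Free R M := by
  classical
  rcases subsingleton_or_nontrivial R with hsub | hnt
  · haveI : Subsingleton M := Module.subsingleton R M
    exact Module.Free.of_subsingleton R M
  have key : Nonempty (M ≃ₗ[R] (Fin d → R)) := by
    apply Groth.Agent.Lib.Helper9.LG.nonempty_linearEquiv_of_forall_maximal hR
    intro m _
    letI : Field (R ⧸ m) := Ideal.Quotient.field m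
    have h1 : Module.finrank (R ⧸ m) (TensorProduct R (R ⧸ m) M) = d := by
      have hb := Module.rankAtStalk_baseChange (R := R) (M := M) (S := R ⧸ m)
        ⟨⊥, Ideal.isPrime_bot⟩
      rw [hd] at hb
      rw [Module.rankAtStalk_eq_finrank_of_free] at hb
      exact hb
    have h2 : Module.finrank (R ⧸ m) (TensorProduct R (R ⧸ m) (Fin d → R)) = d := by
      rw [Module.finrank_baseChange, Module.finrank_fin_fun]
    exact ⟨LinearEquiv.ofFinrankEq _ _ (h1.trans h2.symm)⟩
  obtain ⟨e⟩ := key
  exact Module.Free.of_equiv e.symm

end Groth.Agent.S16597
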