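import Groth.Statements.S16598
import Groth.Agent.Lib.Helper9.LGRing
import Mathlib.RingTheory.Ideal.Quotient.Basic
import Mathlib.RingTheory.Nakayama
import Mathlib.LinearAlgebra.Dual.Defs

set_option autoImplicit false
universe u v
open LGRing

namespace Groth.Agent.S16598

/-- Let R be an LG-ring and M a faithfully projective R-module (finitely generated projective and
faithful). Then M contains a unimodular element: there are m ∈ M and a linear form f on M with f(m)
= 1 (so R·m is a free direct summand of M of rank one). -/
theorem result {R : Type u} [CommRing R] (hR : LGRing.IsLGRing R)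
    (M : Type v) [AddCommGroup M] [Module R M] [Module.Finite R M] [Module.Projective R M] [FaithfulSMul R M] :
    ∃ (m : M) (f : Module.Dual R M), f m = 1 := by
  classical
  obtain ⟨a, π, hπ⟩ := Module.Finite.exists_fin' R M
  obtain ⟨s, hs⟩ := Module.projective_lifting_property π LinearMap.id hπ
  have hps : ∀ x, π (s x) = x := fun x => LinearMap.congr_fun hs x
  let g : Fin a → M := fun i => π (Pi.single i 1)
  let h : Fin a → Module.Dual R M := fun j => (LinearMap.proj j) ∘ₗ s
  have hdual : ∀ x : M, x = ∑ j, h j x • g j := by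
    intro x
    conv_lhs => rw [← hps x]
    have : s x = ∑ j, (s x j) • (Pi.single j (1 : R) : Fin a → R) := by
      ext i
      simp [Finset.sum_apply, Pi.single_apply]
    conv_lhs => rw [this]
    rw [map_sum]
    refine Finset.sum_congr rfl fun j _ => ?_
    rw [map_smul]
    rfl
  let F : MvPolynomial (Fin a ⊕ Fin a) R :=
    ∑ i, ∑ j, MvPolynomial.C (h j (g i)) * MvPolynomial.X (Sum.inl i) * MvPolynomial.X (Sum.inr j)
  have key := Groth.Agent.Lib.Helper9.LG.representsUnit_of_fintype hR F (fun m hm => by
    -- some h j (g i) ∉ m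
    have hex : ∃ i j, h j (g i) ∉ m := by
      by_contra hcon
      push Not at hcon
      have hle : (⊤ : Submodule R M) ≤ m • ⊤ := by
        intro x _
        rw [hdual x]
        refine Submodule.sum_mem _ fun j _ => ?_
        rw [hdual (g j), Finset.smul_sum]
        refine Submodule.sum_mem _ fun k _ => ?_
        rw [smul_smul]
        exact Submodule.smul_mem_smul (m.mul_mem_left _ (hcon j k)) Submodule.mem_top
      obtain ⟨r, hr1, hr0⟩ := Submodule.exists_sub_one_mem_and_smul_eq_zero_of_fg_of_le_smul m
        (⊤ : Submodule R M) Module.Finite.fg_top hle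
      have hr : r = 0 := by
        apply FaithfulSMul.eq_of_smul_eq_smul (α := M)
        intro n
        rw [zero_smul]
        exact hr0 n Submodule.mem_top
      rw [hr, zero_sub] at hr1
      have : (1 : R) ∈ m := by
        have := m.neg_mem hr1
        simpa using this
      exact hm.ne_top ((Ideal.eq_top_iff_one m).mpr this)
    obtain ⟨i₀, j₀, hij⟩ := hex
    letI : Field (R ⧸ m) := Ideal.Quotient.field m
    refine ⟨Sum.elim (Pi.single i₀ 1) (Pi.single j₀ 1), ?_⟩
    have : MvPolynomial.aeval (Sum.elim (Pi.single i₀ (1 : R ⧸ m)) (Pi.single j₀ (1 : R ⧸ m))) F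
        = algebraMap R (R ⧸ m) (h j₀ (g i₀)) := by
      simp only [F, map_sum, map_mul, MvPolynomial.aeval_C, MvPolynomial.aeval_X, Sum.elim_inl,
        Sum.elim_inr]
      rw [Finset.sum_eq_single i₀, Finset.sum_eq_single j₀]
      · simp
      · intro j _ hj
        simp [Pi.single_apply, hj]
      · simp
      · intro i _ hi
        refine Finset.sum_eq_zero fun j _ => ?_
        simp [Pi.single_apply, hi]
      · simp
    rw [this, isUnit_iff_ne_zero]
    intro h0
    exact hij (Ideal.Quotient.eq_zero_iff_mem.mp h0))
  obtain ⟨t, ht⟩ := key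
  obtain ⟨u, hu⟩ := ht
  refine ⟨∑ i, t (Sum.inl i) • g i, (↑u⁻¹ : R) • ∑ j, t (Sum.inr j) • h j, ?_⟩
  have hval : (∑ j, t (Sum.inr j) • h j) (∑ i, t (Sum.inl i) • g i) = (u : R) := by
    rw [hu]
    simp only [F, map_sum, map_mul, MvPolynomial.aeval_C, MvPolynomial.aeval_X,
      LinearMap.sum_apply, LinearMap.smul_apply, map_smul, smul_eq_mul, Algebra.algebraMap_self,
      RingHom.id_apply, Finset.mul_sum]
    refine Finset.sum_congr rfl fun i _ => Finset.sum_congr rfl fun j _ => ?_
    ring
  rw [LinearMap.smul_apply, hval, smul_eq_mul, Units.inv_mul]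

end Groth.Agent.S16598
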