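import Groth.Statements.S16605
import Groth.Agent.Lib.Helper9.LGRing
import Mathlib.LinearAlgebra.TensorProduct.Pi
import Mathlib.LinearAlgebra.Dimension.Constructions
import Mathlib.LinearAlgebra.FiniteDimensional.Lemmas
import Mathlib.RingTheory.Ideal.Quotient.Basic
import Mathlib.RingTheory.TensorProduct.Finite

set_option autoImplicit false
universe u v
open LGRing

namespace Groth.Agent.S16605

/-- Let R be an LG-ring, M₁ and M₂ finite projective R-modules and n ≥ 1 an integer. If M₁ⁿ ≅ M₂ⁿ as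
R-modules then M₁ ≅ M₂ (cancellation of modules). -/
theorem result {R : Type u} [CommRing R] (hR : LGRing.IsLGRing R)
    (M₁ M₂ : Type v) [AddCommGroup M₁] [Module R M₁] [Module.Finite R M₁] [Module.Projective R M₁]
    [AddCommGroup M₂] [Module R M₂] [Module.Finite R M₂] [Module.Projective R M₂] (n : ℕ) (hn : 0 < n)
    (e : (Fin n → M₁) ≃ₗ[R] (Fin n → M₂)) : Nonempty (M₁ ≃ₗ[R] M₂) := by
  classical
  apply Groth.Agent.Lib.Helper9.LG.nonempty_linearEquiv_of_forall_maximal hR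
  intro m _
  letI : Field (R ⧸ m) := Ideal.Quotient.field m
  let eb : TensorProduct R (R ⧸ m) (Fin n → M₁) ≃ₗ[R ⧸ m] TensorProduct R (R ⧸ m) (Fin n → M₂) :=
    LinearEquiv.baseChange R (R ⧸ m) _ _ e
  let p₁ : TensorProduct R (R ⧸ m) (Fin n → M₁) ≃ₗ[R ⧸ m] (Fin n → TensorProduct R (R ⧸ m) M₁) :=
    TensorProduct.piRight R (R ⧸ m) (R ⧸ m) (fun _ : Fin n => M₁)
  let p₂ : TensorProduct R (R ⧸ m) (Fin n → M₂) ≃ₗ[R ⧸ m] (Fin n → TensorProduct R (R ⧸ m) M₂) :=
    TensorProduct.piRight R (R ⧸ m) (R ⧸ m) (fun _ : Fin n => M₂)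
  have hfr := (p₁.symm.trans (eb.trans p₂)).finrank_eq
  rw [Module.finrank_pi_fintype, Module.finrank_pi_fintype, Finset.sum_const, Finset.sum_const,
    Finset.card_univ, Fintype.card_fin, smul_eq_mul, smul_eq_mul] at hfr
  have hd := Nat.eq_of_mul_eq_mul_left hn hfr
  exact ⟨LinearEquiv.ofFinrankEq _ _ hd⟩

end Groth.Agent.S16605
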