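import Groth.Statements.S16606
import Groth.Agent.Lib.Helper9.LGRing
import Mathlib.LinearAlgebra.Dimension.Constructions
import Mathlib.LinearAlgebra.FiniteDimensional.Lemmas
import Mathlib.RingTheory.Ideal.Quotient.Basic
import Mathlib.RingTheory.TensorProduct.Finite
import Mathlib.RingTheory.Nakayama
import Mathlib.LinearAlgebra.TensorProduct.Quotient
import Mathlib.LinearAlgebra.Dimension.Finite

set_option autoImplicit false
open scoped TensorProduct
universe u v
open LGRing

namespace Groth.Agent.S16606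

theorem nontrivial_quot_tensor {R : Type u} [CommRing R] (N : Type v) [AddCommGroup N] [Module R N]
    [Module.Finite R N] [FaithfulSMul R N] (m : Ideal R) [hm : m.IsMaximal] :
    Nontrivial (TensorProduct R (R ⧸ m) N) := by
  by_contra hnt
  rw [not_nontrivial_iff_subsingleton] at hnt
  have e := TensorProduct.quotTensorEquivQuotSMul N m
  have hsub : Subsingleton (N ⧸ (m • ⊤ : Submodule R N)) := e.symm.toEquiv.subsingleton
  rw [Submodule.Quotient.subsingleton_iff] at hsub
  obtain ⟨r, hr1, hr0⟩ := Submodule.exists_sub_one_mem_and_smul_eq_zero_of_fg_of_le_smul m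
    (⊤ : Submodule R N) Module.Finite.fg_top (le_of_eq hsub.symm)
  have hr : r = 0 := by
    apply FaithfulSMul.eq_of_smul_eq_smul (α := N)
    intro n
    rw [zero_smul]
    exact hr0 n Submodule.mem_top
  rw [hr, zero_sub] at hr1
  have : (1 : R) ∈ m := by
    have := m.neg_mem hr1
    simpa using this
  exact hm.ne_top ((Ideal.eq_top_iff_one m).mpr this)

/-- Let R be an LG-ring, M₁, M₂ finite projective R-modules and N a faithfully projective R-module
(finite projective and faithful). If M₁ ⊗_R N ≅ M₂ ⊗_R N then M₁ ≅ M₂. -/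
theorem result {R : Type u} [CommRing R]
    (hR : LGRing.IsLGRing R) (M₁ M₂ N : Type v) [AddCommGroup M₁] [Module R M₁] [Module.Finite R M₁]
    [Module.Projective R M₁] [AddCommGroup M₂] [Module R M₂] [Module.Finite R M₂] [Module.Projective R M₂]
    [AddCommGroup N] [Module R N] [Module.Finite R N] [Module.Projective R N] [FaithfulSMul R N]
    (e : M₁ ⊗[R] N ≃ₗ[R] M₂ ⊗[R] N) : Nonempty (M₁ ≃ₗ[R] M₂) := by
  classical
  apply Groth.Agent.Lib.Helper9.LG.nonempty_linearEquiv_of_forall_maximal hR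
  intro m _
  letI : Field (R ⧸ m) := Ideal.Quotient.field m
  let eb : TensorProduct R (R ⧸ m) (M₁ ⊗[R] N) ≃ₗ[R ⧸ m] TensorProduct R (R ⧸ m) (M₂ ⊗[R] N) :=
    LinearEquiv.baseChange R (R ⧸ m) _ _ e
  let d₁ := TensorProduct.AlgebraTensorModule.distribBaseChange R (R ⧸ m) M₁ N
  let d₂ := TensorProduct.AlgebraTensorModule.distribBaseChange R (R ⧸ m) M₂ N
  have hfr := (d₁.symm.trans (eb.trans d₂)).finrank_eq
  have t1 : Module.finrank (R ⧸ m) (TensorProduct (R ⧸ m) (TensorProduct R (R ⧸ m) M₁)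
      (TensorProduct R (R ⧸ m) N)) = Module.finrank (R ⧸ m) (TensorProduct R (R ⧸ m) M₁) *
      Module.finrank (R ⧸ m) (TensorProduct R (R ⧸ m) N) :=
    Module.finrank_tensorProduct (R := R ⧸ m) (S := R ⧸ m)
  have t2 : Module.finrank (R ⧸ m) (TensorProduct (R ⧸ m) (TensorProduct R (R ⧸ m) M₂)
      (TensorProduct R (R ⧸ m) N)) = Module.finrank (R ⧸ m) (TensorProduct R (R ⧸ m) M₂) *
      Module.finrank (R ⧸ m) (TensorProduct R (R ⧸ m) N) :=
    Module.finrank_tensorProduct (R := R ⧸ m) (S := R ⧸ m)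
  rw [t1, t2] at hfr
  haveI := nontrivial_quot_tensor N m
  have hN : 0 < Module.finrank (R ⧸ m) (TensorProduct R (R ⧸ m) N) := Module.finrank_pos
  have hd := Nat.eq_of_mul_eq_mul_right hN hfr
  exact ⟨LinearEquiv.ofFinrankEq _ _ hd⟩

end Groth.Agent.S16606
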