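import Groth.Statements.S16615
import Groth.Agent.Lib.Helper14.MTQuotE

set_option autoImplicit false
open CategoryTheory MonoidalCategory CartesianMonoidalCategory MonObj GrpObj AlgebraicGeometry
universe u
open SGA3x

namespace Groth.Agent.S16615

open Groth.Agent.Lib.Helper14

/-- a subgroup of a free abelian group of finite rank is the isomorphic image of some `ℤ^r` -/
lemma exists_fin_hom {N : Type} [AddCommGroup N] (hN : AddGroup.FG N) (hfree : Module.Free ℤ N)
    (L : AddSubgroup N) :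
    ∃ (r : ℕ) (jK : (Fin r → ℤ) →+ N), Function.Injective jK ∧ jK.range = L := by
  haveI : Module.Finite ℤ N := Module.Finite.iff_addGroup_fg.mpr hN
  let L' : Submodule ℤ N := AddSubgroup.toIntSubmodule L
  haveI : Module.Free ℤ L' := inferInstance
  haveI : Module.Finite ℤ L' := inferInstance
  let b := Module.finBasis ℤ L'
  let g : (Fin (Module.finrank ℤ L') → ℤ) →ₗ[ℤ] N := L'.subtype.comp b.equivFun.symm.toLinearMap
  refine ⟨Module.finrank ℤ L', g.toAddMonoidHom, ?_, ?_⟩
  · show Function.Injective g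
    exact L'.subtype_injective.comp b.equivFun.symm.injective
  · ext x
    constructor
    · rintro ⟨y, rfl⟩
      exact (b.equivFun.symm y).2
    · intro hx
      exact ⟨b.equivFun ⟨x, hx⟩, by
        show L'.subtype (b.equivFun.symm (b.equivFun ⟨x, hx⟩)) = x
        rw [LinearEquiv.symm_apply_apply]
        rfl⟩


/-- Over an arbitrary scheme S, the quotient Q = T/H of an S-torus T by a subgroup scheme H of (finite)
multiplicative type, when represented by an S-group Q with a homomorphism q : T ⟶ Q which is an fppf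
covering identifying T ×_S H with T ×_Q T, is again a torus. -/
theorem result {S : Scheme.{u}} {T H Q : Over S} [GrpObj T] [GrpObj H]
    [GrpObj Q] (hT : Red.IsTorus T) (i : H ⟶ T) [IsMonHom i] [Mono i] (hH : SGA3x.IsMultTypeFT H)
    (q : T ⟶ Q) [IsMonHom q] (hq : RedSub.IsQuotient i q) : Red.IsTorus Q := by
  have hH' : MTHom5.LocTriv H (fun _ _ => True) := by
    obtain ⟨S', g, h1, h2, h3, h4⟩ := hH
    refine ⟨S', g, h1, h2, h3, fun s' => ?_⟩
    obtain ⟨U, hU, M, iM, -, hM⟩ := h4 s'
    exact ⟨U, hU, M, iM, trivial, hM⟩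
  have hT' : MTHom5.LocTriv T (fun N _ => AddGroup.FG N ∧ Module.Free ℤ N) := by
    obtain ⟨S', g, h1, h2, h3, h4⟩ := hT
    refine ⟨S', g, h1, h2, h3, fun s' => ?_⟩
    obtain ⟨U, hU, r, hr⟩ := h4 s'
    refine ⟨U, hU, Fin r → ℤ, inferInstance, ⟨?_, inferInstance⟩, hr⟩
    exact Module.Finite.iff_addGroup_fg.mp inferInstance
  obtain ⟨S'', p, hp, hcharts⟩ := MTHom5.exists_common H T _ _ hH' hT'
  refine ⟨S'', p, hp.2.1, hp.1, hp.2.2, fun s' => ?_⟩
  obtain ⟨R, j, hj, hx, M, iM, N, iN, -, ⟨hNfg, hNfree⟩, ⟨eG, heG⟩, ⟨eH, heH⟩⟩ := hcharts s'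
  obtain ⟨t, ht⟩ := hx
  obtain ⟨r, htr, φ₀, h⟩ := MTQuotE.chart_quot_DS i q hq R (j ≫ p) M N hNfg eG eH t
  obtain ⟨r', jK, hjinj, hjrange⟩ := exists_fin_hom hNfg hNfree φ₀.ker
  obtain ⟨e, he⟩ := h (Fin r' → ℤ) jK hjinj hjrange
  haveI : IsOpenImmersion (Spec.map (CommRingCat.ofHom (algebraMap R (Localization.Away r))) ≫ j) :=
    inferInstance
  refine ⟨(Spec.map (CommRingCat.ofHom (algebraMap R (Localization.Away r))) ≫ j).opensRange, ?_,
    r', ?_⟩
  · have htr' : t ∈ Set.range (PrimeSpectrum.comap (algebraMap R (Localization.Away r))) := by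
      rw [PrimeSpectrum.localization_away_comap_range (Localization.Away r) r]
      exact htr
    obtain ⟨t', ht'⟩ := htr'
    refine ⟨t', ?_⟩
    show j (PrimeSpectrum.comap (algebraMap R (Localization.Away r)) t') = s'
    rw [ht', ht]
  · obtain ⟨e', he'⟩ := MTHom5.triv_of_factor Q
      (Spec.map (CommRingCat.ofHom (algebraMap R (Localization.Away r))) ≫ j ≫ p) (Fin r' → ℤ) e
      (Spec.map (CommRingCat.ofHom (algebraMap R (Localization.Away r))) ≫ j).isoOpensRange.inv
      ((Spec.map (CommRingCat.ofHom (algebraMap R (Localization.Away r))) ≫ j).opensRange.ι ≫ p)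
      (by
        rw [← Category.assoc, ← Category.assoc]
        congr 1
        rw [Category.assoc, Iso.inv_comp_eq]
        exact (Scheme.Hom.isoOpensRange_hom_ι _).symm)
    exact ⟨Grp.mkIso' e'⟩

end Groth.Agent.S16615
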