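import Groth.Statements.S16616
import Groth.Agent.Lib.Helper14.MTSplitD

set_option autoImplicit false
open CategoryTheory MonoidalCategory CartesianMonoidalCategory MonObj GrpObj AlgebraicGeometry
universe u
open SGA3x

namespace Groth.Agent.S16616

open Groth.Agent.Lib.Helper14


/-- Over an arbitrary scheme S, let T be a locally split S-torus (Zariski-locally on S isomorphic to
split tori), H a subgroup scheme of T of (finite) multiplicative type and q : T ⟶ Q a homomorphism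
presenting Q as the fppf quotient T/H. Then Q is a locally split torus. -/
theorem result {S : Scheme.{u}} {T H Q : Over S} [GrpObj T]
    [GrpObj H] [GrpObj Q] (hT : (∀ s : ↥S, ∃ U : S.Opens, s ∈ U ∧ ∃ r : ℕ, Red.IsSplitTorusWith (Fin r → ℤ) (Red.bc U.ι T)))
    (i : H ⟶ T) [IsMonHom i] [Mono i] (hH : SGA3x.IsMultTypeFT H) (q : T ⟶ Q) [IsMonHom q]
    (hq : RedSub.IsQuotient i q) :
    (∀ s : ↥S, ∃ U : S.Opens, s ∈ U ∧ ∃ r : ℕ, Red.IsSplitTorusWith (Fin r → ℤ) (Red.bc U.ι Q)) := by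
  intro s
  obtain ⟨U, hsU, r, ⟨e₀⟩⟩ := hT s
  obtain ⟨e, he⟩ := MTDescent.exists_iso_of_grp_iso e₀
  have hH' : MTHom5.LocTriv H (fun _ _ => True) := by
    obtain ⟨S', g, h1, h2, h3, h4⟩ := hH
    refine ⟨S', g, h1, h2, h3, fun s' => ?_⟩
    obtain ⟨U, hU, M, iM, -, hM⟩ := h4 s'
    exact ⟨U, hU, M, iM, trivial, hM⟩
  have hN : AddGroup.FG (Fin r → ℤ) := Module.Finite.iff_addGroup_fg.mp inferInstance
  have hHU := MTSplitD.locTriv_bc H _ hH' U.ι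
  have hqU := MTQuotD.isQuotient_pullback i q U.ι hq
  obtain ⟨V, hsV, r', ⟨ψ₀⟩⟩ := MTSplitD.stage ((Over.pullback U.ι).map i) hN inferInstance e hHU
    ((Over.pullback U.ι).map q) hqU ⟨s, hsU⟩
  obtain ⟨ψ, hψ⟩ := MTDescent.exists_iso_of_grp_iso ψ₀
  obtain ⟨c, hc⟩ := MTDescent.exists_bc_comp_iso V.ι U.ι _ rfl Q
  haveI : IsMonHom c.inv := inferInstance
  obtain ⟨e'', he''⟩ : ∃ e'' : Red.bc (V.ι ≫ U.ι) Q ≅ Red.DS (V : Scheme.{u}) (Fin r' → ℤ),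
      IsMonHom e''.hom := by
    refine ⟨c.symm ≪≫ ψ, ?_⟩
    dsimp only [Iso.trans_hom, Iso.symm_hom]
    infer_instance
  haveI : IsOpenImmersion (V.ι ≫ U.ι) := inferInstance
  refine ⟨(V.ι ≫ U.ι).opensRange, ⟨⟨⟨s, hsU⟩, hsV⟩, rfl⟩, r', ?_⟩
  obtain ⟨e', he'⟩ := MTHom5.triv_of_factor Q (V.ι ≫ U.ι) (Fin r' → ℤ) e''
    (V.ι ≫ U.ι).isoOpensRange.inv (V.ι ≫ U.ι).opensRange.ι (by
      rw [Iso.inv_comp_eq]
      exact (Scheme.Hom.isoOpensRange_hom_ι _).symm)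
  exact ⟨Grp.mkIso' e'⟩

end Groth.Agent.S16616
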