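import Groth.Statements.S16617
import Groth.Agent.Lib.Helper14.MTSplitC

set_option autoImplicit false
open CategoryTheory MonoidalCategory CartesianMonoidalCategory MonObj GrpObj AlgebraicGeometry
universe u
open SGA3x

namespace Groth.Agent.S16617

open Groth.Agent.Lib.Helper14


/-- Let S be a connected scheme, T ≅ D_S(ℤ^r) a split S-torus, H a subgroup scheme of T of (finite)
multiplicative type and q : T ⟶ Q a homomorphism presenting Q as the fppf quotient T/H. Then Q is a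
split torus of rank at most r. -/
theorem result {S : Scheme.{u}} [ConnectedSpace ↥S]
    {T H Q : Over S} [GrpObj T] [GrpObj H] [GrpObj Q] (r : ℕ) (hT : Red.IsSplitTorusWith (Fin r → ℤ) T)
    (i : H ⟶ T) [IsMonHom i] [Mono i] (hH : SGA3x.IsMultTypeFT H) (q : T ⟶ Q) [IsMonHom q]
    (hq : RedSub.IsQuotient i q) : ∃ r' : ℕ, r' ≤ r ∧ Red.IsSplitTorusWith (Fin r' → ℤ) Q := by
  obtain ⟨e₀⟩ := hT
  obtain ⟨e, he⟩ := MTDescent.exists_iso_of_grp_iso e₀
  have hH' : MTHom5.LocTriv H (fun _ _ => True) := by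
    obtain ⟨S', g, h1, h2, h3, h4⟩ := hH
    refine ⟨S', g, h1, h2, h3, fun s' => ?_⟩
    obtain ⟨U, hU, M, iM, -, hM⟩ := h4 s'
    exact ⟨U, hU, M, iM, trivial, hM⟩
  have hN : AddGroup.FG (Fin r → ℤ) := Module.Finite.iff_addGroup_fg.mp inferInstance
  obtain ⟨s₀⟩ : Nonempty S := inferInstance
  obtain ⟨L, hL⟩ := MTSplitC.exists_subgroup_kset i hN e hH' s₀
  have hopen : ∀ L' : Set (Fin r → ℤ), IsOpen {s : S | MTSplitC.Kset i e s = L'} :=
    fun L' => MTSplitC.isOpen_kset_eq i hN e hH' L'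
  have hclopen : IsClopen {s : S | MTSplitC.Kset i e s = (L : Set (Fin r → ℤ))} := by
    refine ⟨?_, hopen _⟩
    rw [← isOpen_compl_iff]
    have : {s : S | MTSplitC.Kset i e s = (L : Set (Fin r → ℤ))}ᶜ =
        ⋃ L' ∈ {L' : Set (Fin r → ℤ) | L' ≠ (L : Set (Fin r → ℤ))},
          {s : S | MTSplitC.Kset i e s = L'} := by
      ext s
      simp
    rw [this]
    exact isOpen_biUnion (fun L' _ => hopen L')
  have huniv := hclopen.eq_univ ⟨s₀, hL⟩
  have hconst : ∀ s : S, MTSplitC.Kset i e s = (L : Set (Fin r → ℤ)) := by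
    intro s
    have : s ∈ {s : S | MTSplitC.Kset i e s = (L : Set (Fin r → ℤ))} := by
      rw [huniv]
      trivial
    exact this
  obtain ⟨r', jK, hr', hjinj, hjrange⟩ := MTSplitC.exists_fin_hom hN inferInstance L
  rw [Module.finrank_fin_fun] at hr'
  obtain ⟨ψ, hψ⟩ := MTSplitC.core i hN e hH' q hq jK hjinj (by
    intro s
    rw [hconst s, hjrange])
  exact ⟨r', hr', ⟨Grp.mkIso' ψ⟩⟩

end Groth.Agent.S16617
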