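import Groth.Statements.S1664
import Groth.Agent.Lib.Helper17.GGStalk
import Groth.Agent.Lib.Helper28.AmpleFamily
import Mathlib
set_option backward.isDefEq.respectTransparency.types false

set_option autoImplicit false
universe u
open CategoryTheory CategoryTheory.Limits AlgebraicGeometry
open Variety

namespace Groth.Agent.S1664
open Groth.Agent.Lib.Helper28 Groth.Agent.Lib.Helper28.QCohLoc Groth.Agent.Lib.Helper28.GenLocus
  Groth.Agent.Lib.Helper28.TensorGen Groth.Agent.Lib.Helper28.InvTensor Groth.Agent.Lib.Helper28.AmpleUnit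
  Groth.Agent.Lib.Helper17

theorem genLocus_id (X : Scheme.{u}) : CohB1.genLocus (Coh.structureModule X) (𝟙 _) = ⊤ := by
  rw [genLocus_unit]
  have : (show Γ(X, ⊤) from (𝟙 (Coh.structureModule X) : Coh.structureModule X ⟶ Coh.structureModule X).app ⊤
      (show Γ(Coh.structureModule X, ⊤) from (1 : Γ(X, ⊤)))) = 1 := rfl
  rw [this, Scheme.basicOpen_one]


/-- Let X be quasi-compact. Suppose every point of X lies in the locus where some global section s of
some globally generated invertible module L generates L, with that locus affine. Then X has an ample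
invertible module. -/
theorem result (X : Scheme.{u}) [CompactSpace X]
    (h : ∀ x : X, ∃ (L : X.Modules) (s : Coh.structureModule X ⟶ L), PicF.IsInvertible L ∧ Curv2.IsGloballyGenerated L ∧
      x ∈ CohB1.genLocus L s ∧ IsAffineOpen (CohB1.genLocus L s)) :
    ∃ M : X.Modules, CohB1.IsAmple M := by
  classical
  choose L s hLinv hLgg hxs hsaff using h
  obtain ⟨t, ht⟩ := isCompact_univ.elim_finite_subcover (fun x => (CohB1.genLocus (L x) (s x) : Set X))
    (fun x => (CohB1.genLocus (L x) (s x)).isOpen) (fun x _ => Set.mem_iUnion.2 ⟨x, hxs x⟩)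
  obtain ⟨P, hP0, hPc⟩ : ∃ P : List X → X.Modules, P [] = Coh.structureModule X ∧
      ∀ b l, P (b :: l) = CohB1.tensorMod (L b) (P l) :=
    ⟨fun l => l.foldr (fun a M => CohB1.tensorMod (L a) M) (Coh.structureModule X), rfl, fun _ _ => rfl⟩
  have hPinv : ∀ l, PicF.IsInvertible (P l) := by
    intro l
    induction l with
    | nil => rw [hP0]; exact isInvertible_structureModule X
    | cons b l ih => rw [hPc]; exact isInvertible_tensorMod (hLinv b) ih
  have hB' : ∀ (l : List X) (G : X.Opens), IsAffineOpen G → ∀ y ∈ G,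
      ∃ σ : Coh.structureModule X ⟶ P l, y ∈ CohB1.genLocus _ σ ∧ IsAffineOpen (CohB1.genLocus _ σ ⊓ G) := by
    intro l
    induction l with
    | nil =>
      intro G hG y hy
      rw [hP0]
      refine ⟨𝟙 _, ?_, ?_⟩
      · rw [genLocus_id]; trivial
      · rw [genLocus_id, top_inf_eq]; exact hG
    | cons b l ih =>
      intro G hG y hy
      obtain ⟨τ, hτ⟩ := GGStalk.exists_mem_genLocus (L b) (hLinv b) (hLgg b) y
      obtain ⟨σ', hσ', hσ'aff⟩ := ih (CohB1.genLocus _ τ ⊓ G) (isAffineOpen_genLocus_inf (hLinv b) τ hG) y ⟨hτ, hy⟩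
      rw [hPc]
      refine ⟨smulSec τ σ', ?_, ?_⟩
      · rw [genLocus_smulSec (hLinv b) (hPinv l)]; exact ⟨hτ, hσ'⟩
      · rw [genLocus_smulSec (hLinv b) (hPinv l)]
        have : CohB1.genLocus (L b) τ ⊓ CohB1.genLocus (P l) σ' ⊓ G =
            CohB1.genLocus (P l) σ' ⊓ (CohB1.genLocus (L b) τ ⊓ G) := by
          rw [inf_comm (CohB1.genLocus (L b) τ), inf_assoc]
        rw [this]; exact hσ'aff
  have hB : ∀ (l : List X) (a : X), a ∈ l → ∀ y ∈ CohB1.genLocus (L a) (s a),
      ∃ σ : Coh.structureModule X ⟶ P l, y ∈ CohB1.genLocus _ σ ∧ IsAffineOpen (CohB1.genLocus _ σ) := by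
    intro l
    induction l with
    | nil => intro a ha; exact absurd ha List.not_mem_nil
    | cons b l ih =>
      intro a ha y hy
      rw [hPc]
      rcases List.mem_cons.1 ha with rfl | ha'
      · obtain ⟨σ', hσ', hσ'aff⟩ := hB' l _ (hsaff a) y hy
        refine ⟨smulSec (s a) σ', ?_, ?_⟩
        · rw [genLocus_smulSec (hLinv a) (hPinv l)]; exact ⟨hy, hσ'⟩
        · rw [genLocus_smulSec (hLinv a) (hPinv l), inf_comm]; exact hσ'aff
      · obtain ⟨σ', hσ', hσ'aff⟩ := ih a ha' y hy
        obtain ⟨τ, hτ⟩ := GGStalk.exists_mem_genLocus (L b) (hLinv b) (hLgg b) y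
        refine ⟨smulSec τ σ', ?_, ?_⟩
        · rw [genLocus_smulSec (hLinv b) (hPinv l)]; exact ⟨hτ, hσ'⟩
        · rw [genLocus_smulSec (hLinv b) (hPinv l)]
          exact isAffineOpen_genLocus_inf (hLinv b) τ hσ'aff
  refine ⟨P t.toList, hPinv _, inferInstance, fun x => ?_⟩
  obtain ⟨a, hat, hxa⟩ : ∃ a ∈ t, x ∈ CohB1.genLocus (L a) (s a) := by
    have := ht (Set.mem_univ x)
    simp only [Set.mem_iUnion] at this
    obtain ⟨a, ha, hx⟩ := this
    exact ⟨a, ha, hx⟩
  obtain ⟨σ, hσ, hσaff⟩ := hB t.toList a (Finset.mem_toList.2 hat) x hxa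
  obtain ⟨τ', hτ'⟩ := AmpleFamily.exists_tensorPow_one_section σ
  exact ⟨0, τ', by rw [hτ']; exact hσ, by rw [hτ']; exact hσaff⟩

end Groth.Agent.S1664
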