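import Groth.Statements.S6370
import Groth.Agent.Lib.Helper2.KAabs

set_option autoImplicit false
universe u
open CAlg

namespace Groth.Agent.S6370

/-- the order generated by an integral basis: a finite `A`-subalgebra of `L` with fraction field `L` -/
lemma exists_order (A K L : Type u) [CommRing A] [IsDomain A]
    [Field K] [Algebra A K] [IsFractionRing A K]
    [Field L] [Algebra K L] [FiniteDimensional K L] [Algebra A L] [IsScalarTower A K L] :
    ∃ A' : Subalgebra A L, Module.Finite A A' ∧ IsFractionRing A' L := by
  classical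
  obtain ⟨s, b, hb⟩ := FiniteDimensional.exists_is_basis_integral A K L
  refine ⟨Algebra.adjoin A (Set.range b), ?_, ?_⟩
  · show Module.Finite A (Subalgebra.toSubmodule (Algebra.adjoin A (Set.range b)))
    rw [Module.Finite.iff_fg]
    refine fg_adjoin_of_finite (Set.finite_range b) ?_
    rintro _ ⟨i, rfl⟩
    exact hb i
  · haveI : FaithfulSMul (Algebra.adjoin A (Set.range b)) L :=
      (faithfulSMul_iff_algebraMap_injective _ _).mpr Subtype.val_injective
    refine IsFractionRing.of_field _ _ fun z => ?_
    obtain ⟨d, hd⟩ := IsLocalization.exist_integer_multiples_of_finset (nonZeroDivisors A)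
      (Finset.univ.image (fun i => b.repr z i))
    have hd0 : algebraMap A L (d : A) ≠ 0 := by
      rw [IsScalarTower.algebraMap_apply A K L]
      intro h
      have h1 := (algebraMap K L).injective (h.trans (map_zero _).symm)
      exact nonZeroDivisors.ne_zero d.2 (IsFractionRing.injective A K (h1.trans (map_zero _).symm))
    have hmem : algebraMap A L (d : A) * z ∈ Algebra.adjoin A (Set.range b) := by
      have hz : z = ∑ i, b.repr z i • b i := (b.sum_repr z).symm
      rw [hz, Finset.mul_sum]
      refine Subalgebra.sum_mem _ fun i _ => ?_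
      obtain ⟨a, ha⟩ := hd (b.repr z i) (Finset.mem_image_of_mem _ (Finset.mem_univ i))
      have ha' : algebraMap A K a = algebraMap A K d * b.repr z i := by
        rw [ha, Algebra.smul_def]
      have : algebraMap A L (d : A) * (b.repr z i • b i) = a • b i := by
        rw [Algebra.smul_def (b.repr z i), ← mul_assoc, IsScalarTower.algebraMap_apply A K L,
          ← map_mul, ← Algebra.smul_def, ← ha', algebraMap_smul]
      rw [this]
      exact Subalgebra.smul_mem _ (Algebra.subset_adjoin (Set.mem_range_self i)) a
    refine ⟨⟨_, hmem⟩, ⟨algebraMap A L d, Subalgebra.algebraMap_mem _ _⟩, ?_⟩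
    show z = (algebraMap A L (d : A) * z) / algebraMap A L (d : A)
    field_simp

/-- For a one-dimensional Noetherian domain A with fraction field K, a finite field extension L of K
(separable or not) and B the integral closure of A in L: B is a Dedekind domain, Spec B → Spec A is
surjective and has finite fibres, and at every maximal ideal Q of B the residue field B/Q is finite
over A/(Q ∩ A). -/
theorem result (A K L B : Type u) [CommRing A] [IsDomain A]
    [IsNoetherianRing A] (hdim : ringKrullDim A = 1) [Field K] [Algebra A K] [IsFractionRing A K]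
    [Field L] [Algebra K L] [FiniteDimensional K L] [Algebra A L] [IsScalarTower A K L]
    [CommRing B] [IsDomain B] [Algebra A B] [Algebra B L] [IsScalarTower A B L] [IsIntegralClosure B A L] :
    IsDedekindDomain B ∧ Function.Surjective (PrimeSpectrum.comap (algebraMap A B)) ∧
      (∀ p : PrimeSpectrum A, (PrimeSpectrum.comap (algebraMap A B) ⁻¹' {p}).Finite) ∧
      ∀ Q : Ideal B, Q.IsMaximal → Module.Finite (A ⧸ Q.comap (algebraMap A B)) (B ⧸ Q) := by
  classical
  have hBL : Function.Injective (algebraMap B L) := IsIntegralClosure.algebraMap_injective B A L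
  have hAL : Function.Injective (algebraMap A L) := by
    rw [IsScalarTower.algebraMap_eq A K L]
    exact (algebraMap K L).injective.comp (IsFractionRing.injective A K)
  have hAB : Function.Injective (algebraMap A B) := by
    intro x y h
    apply hAL
    rw [IsScalarTower.algebraMap_apply A B L, h, ← IsScalarTower.algebraMap_apply A B L]
  haveI hint : Algebra.IsIntegral A B := IsIntegralClosure.isIntegral_algebra A L
  haveI hdimA : Ring.KrullDimLE 1 A := Ring.krullDimLE_iff.mpr (by rw [hdim]; rfl)
  have hA1 : ∀ p : Ideal A, p ≠ ⊥ → p.IsPrime → p.IsMaximal :=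
    Ring.krullDimLE_one_iff_of_noZeroDivisors.mp hdimA
  have hAnotfield : ¬ IsField A := by
    intro h
    have := ringKrullDim_eq_zero_of_isField h
    rw [hdim] at this
    exact one_ne_zero this
  obtain ⟨A', hfin, hfrac⟩ := exists_order A K L
  haveI := hfin
  haveI := hfrac
  haveI : IsNoetherianRing A' :=
    isNoetherian_of_tower A (isNoetherian_of_isNoetherianRing_of_finite A A')
  haveI : Algebra.IsIntegral A A' := Algebra.IsIntegral.of_finite A A'
  have hAA' : Function.Injective (algebraMap A A') := fun x y h =>
    hAL (congrArg Subtype.val h)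
  haveI : Ring.KrullDimLE 1 A' := by
    rw [Ring.krullDimLE_one_iff_of_noZeroDivisors]
    intro P hP0 hPprime
    have hc : P.comap (algebraMap A A') ≠ ⊥ := fun h => hP0 (Ideal.eq_bot_of_comap_eq_bot h)
    have : (P.comap (algebraMap A A')).IsMaximal := hA1 _ hc (Ideal.comap_isPrime _ _)
    exact Ideal.isMaximal_of_isIntegral_of_isMaximal_comap P this
  letI algA'B : Algebra A' B := (IsIntegralClosure.lift A B L (S := A')).toRingHom.toAlgebra
  haveI towA'BL : IsScalarTower A' B L := IsScalarTower.of_algebraMap_eq fun x =>
    (IsIntegralClosure.algebraMap_lift A B L x).symm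
  haveI towAA'B : IsScalarTower A A' B := IsScalarTower.of_algebraMap_eq fun a =>
    ((IsIntegralClosure.lift A B L (S := A')).commutes a).symm
  obtain ⟨hN, hD, hQuot⟩ := Groth.Agent.Lib.Helper2.KAabs.main (A := A') (C := B) (L := L) hBL
  haveI := hN
  haveI := hD
  have hB1 : ∀ p : Ideal B, p ≠ ⊥ → p.IsPrime → p.IsMaximal :=
    Ring.krullDimLE_one_iff_of_noZeroDivisors.mp hD
  haveI : IsFractionRing B L := IsIntegralClosure.isFractionRing_of_finite_extension A K L B
  have hDed : IsDedekindDomain B := by
    rw [isDedekindDomain_iff B L]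
    refine ⟨inferInstance, hN, ⟨fun {p} hp0 hp => hB1 p hp0 hp⟩, ?_⟩
    intro x hx
    exact (IsIntegralClosure.isIntegral_iff (R := A) (A := B)).mp (isIntegral_trans x hx)
  refine ⟨hDed, ?_, ?_, ?_⟩
  · intro p
    obtain ⟨Q, -, hQ, hQp⟩ := Ideal.exists_ideal_over_prime_of_isIntegral p.asIdeal
      (⊥ : Ideal B) (by
        rw [Ideal.comap_bot_of_injective _ hAB]
        exact bot_le)
    exact ⟨⟨Q, hQ⟩, PrimeSpectrum.ext hQp⟩
  · intro p
    by_cases hp : p.asIdeal = ⊥
    · refine Set.Finite.subset (Set.finite_singleton (⟨⊥, Ideal.isPrime_bot⟩ : PrimeSpectrum B)) ?_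
      intro Q hQ
      have h1 : Q.asIdeal.comap (algebraMap A B) = ⊥ := by
        rw [← hp]
        exact congrArg PrimeSpectrum.asIdeal hQ
      exact PrimeSpectrum.ext (Ideal.eq_bot_of_comap_eq_bot h1)
    · have hne : p.asIdeal.map (algebraMap A B) ≠ ⊥ := by
        rw [Ne, Ideal.map_eq_bot_iff_of_injective hAB]
        exact hp
      have hfinmin := Ideal.finite_minimalPrimes_of_isNoetherianRing B
        (p.asIdeal.map (algebraMap A B))
      have hinj : Function.Injective (PrimeSpectrum.asIdeal (R := B)) := fun x y h =>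
        PrimeSpectrum.ext h
      refine Set.Finite.subset (hfinmin.preimage (Set.injOn_of_injective hinj)) ?_
      intro Q hQ
      have hQp : Q.asIdeal.comap (algebraMap A B) = p.asIdeal :=
        congrArg PrimeSpectrum.asIdeal hQ
      refine ⟨⟨Q.isPrime, Ideal.map_le_iff_le_comap.mpr hQp.ge⟩, ?_⟩
      rintro Q' ⟨hQ'prime, hIQ'⟩ hQ'Q
      have hQ'0 : Q' ≠ ⊥ := fun h => hne (le_bot_iff.mp (h ▸ hIQ'))
      have hQ'max := hB1 Q' hQ'0 hQ'prime
      exact (hQ'max.eq_of_le Q.isPrime.ne_top hQ'Q).ge
  · intro Q hQ
    have hQ0 : Q ≠ ⊥ := by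
      intro h
      subst h
      have hBf : IsField B := Ring.isField_iff_maximal_bot.mpr hQ
      exact hAnotfield (isField_of_isIntegral_of_isField hAB hBf)
    have hq0 : Q.comap (algebraMap A B) ≠ ⊥ := fun h => hQ0 (Ideal.eq_bot_of_comap_eq_bot h)
    obtain ⟨a, haq, ha0⟩ := Submodule.exists_mem_ne_zero_of_ne_bot hq0
    have ha' : algebraMap A A' a ≠ 0 := fun h => ha0 (hAA' (h.trans (map_zero _).symm))
    have hnoeth := hQuot (algebraMap A A' a) ha'
    haveI : Module.Finite A' (B ⧸ Ideal.span {algebraMap A' B (algebraMap A A' a)}) :=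
      Module.IsNoetherian.finite _ _
    haveI : Module.Finite A (B ⧸ Ideal.span {algebraMap A' B (algebraMap A A' a)}) :=
      Module.Finite.trans A' _
    have hle : Ideal.span {algebraMap A' B (algebraMap A A' a)} ≤ Q := by
      rw [Ideal.span_singleton_le_iff_mem, ← IsScalarTower.algebraMap_apply]
      exact haq
    haveI : Module.Finite A (B ⧸ Q) :=
      Module.Finite.of_surjective (Ideal.Quotient.factorₐ A hle).toLinearMap
        (Ideal.Quotient.factor_surjective hle)
    exact Module.Finite.of_restrictScalars_finite A _ _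

end Groth.Agent.S6370
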