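import Groth.Statements.S1665
import Groth.Agent.S6370
import Groth.Agent.Lib.Helper2.KAorder

set_option autoImplicit false
universe u
open Variety

namespace Groth.Agent.S1665

/-- Let B be a Noetherian domain of dimension one with finitely many maximal ideals and B' its integral
closure in its fraction field. Then B' is a Dedekind domain with finitely many maximal ideals, and
for every nonzero x in the Jacobson radical of B' and every y ∈ B' some power x^n satisfies x^n y ∈
B. -/
theorem result (B : Type u) [CommRing B] [IsDomain B] [IsNoetherianRing B]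
    (hdim : ringKrullDim B = 1) (hsl : Finite (MaximalSpectrum B)) :
    IsDedekindDomain (integralClosure B (FractionRing B)) ∧ Finite (MaximalSpectrum (integralClosure B (FractionRing B))) ∧
      ∀ x : integralClosure B (FractionRing B), x ≠ 0 → x ∈ (⊥ : Ideal (integralClosure B (FractionRing B))).jacobson →
        ∀ y : integralClosure B (FractionRing B), ∃ n : ℕ, (x ^ n * y).1 ∈ (algebraMap B (FractionRing B)).range := by
  classical
  obtain ⟨hDed, -, hfib, -⟩ := Groth.Agent.S6370.result B (FractionRing B) (FractionRing B)
    (integralClosure B (FractionRing B)) hdim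
  haveI hdimB : Ring.KrullDimLE 1 B := Ring.krullDimLE_iff.mpr (by rw [hdim]; rfl)
  refine ⟨hDed, ?_, ?_⟩
  · -- finitely many maximal ideals
    have hT : (⋃ m : MaximalSpectrum B,
        PrimeSpectrum.comap (algebraMap B (integralClosure B (FractionRing B))) ⁻¹'
          {m.toPrimeSpectrum}).Finite := Set.finite_iUnion fun m => hfib _
    haveI := hT.to_subtype
    refine Finite.of_injective (fun M : MaximalSpectrum (integralClosure B (FractionRing B)) =>
      (⟨M.toPrimeSpectrum, ?_⟩ : ↥(⋃ m : MaximalSpectrum B,
        PrimeSpectrum.comap (algebraMap B (integralClosure B (FractionRing B))) ⁻¹'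
          {m.toPrimeSpectrum}))) ?_
    · haveI := M.isMaximal
      have hmax : (M.asIdeal.comap (algebraMap B (integralClosure B (FractionRing B)))).IsMaximal :=
        Ideal.isMaximal_comap_of_isIntegral_of_isMaximal M.asIdeal
      exact Set.mem_iUnion.mpr ⟨⟨_, hmax⟩, rfl⟩
    · intro M₁ M₂ h
      have h1 : M₁.toPrimeSpectrum = M₂.toPrimeSpectrum := congrArg Subtype.val h
      exact MaximalSpectrum.ext (congrArg PrimeSpectrum.asIdeal h1)
  · intro x hx0 hxJ y
    -- B₁ = B[x, y]
    have hfin : Module.Finite B (Algebra.adjoin B {(x : FractionRing B), (y : FractionRing B)}) := by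
      show Module.Finite B (Subalgebra.toSubmodule
        (Algebra.adjoin B {(x : FractionRing B), (y : FractionRing B)}))
      rw [Module.Finite.iff_fg]
      refine fg_adjoin_of_finite (Set.toFinite _) ?_
      intro z hz
      rcases hz with rfl | hz
      · exact x.2
      · rw [Set.mem_singleton_iff] at hz
        rw [hz]
        exact y.2
    haveI := hfin
    obtain ⟨hN₁, hD₁⟩ := Groth.Agent.Lib.Helper2.KAorder.order_props B (FractionRing B)
      (Algebra.adjoin B {(x : FractionRing B), (y : FractionRing B)})
    haveI := hD₁
    have hle : Algebra.adjoin B {(x : FractionRing B), (y : FractionRing B)} ≤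
        integralClosure B (FractionRing B) := by
      apply Algebra.adjoin_le
      intro z hz
      rcases hz with rfl | hz
      · exact x.2
      · rw [Set.mem_singleton_iff] at hz
        rw [hz]
        exact y.2
    -- common denominator
    have hcond : ∃ c : B, c ≠ 0 ∧
        ∀ z ∈ Algebra.adjoin B {(x : FractionRing B), (y : FractionRing B)},
          c • z ∈ (algebraMap B (FractionRing B)).range := by
      obtain ⟨s, hs⟩ := Module.Finite.fg_top (R := B)
        (M := Algebra.adjoin B {(x : FractionRing B), (y : FractionRing B)})
      obtain ⟨d, hd⟩ := IsLocalization.exist_integer_multiples_of_finset (nonZeroDivisors B)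
        (s.image (fun z : Algebra.adjoin B {(x : FractionRing B), (y : FractionRing B)} =>
          (z : FractionRing B)))
      refine ⟨d, nonZeroDivisors.ne_zero d.2, ?_⟩
      let N : Submodule B (FractionRing B) := LinearMap.range (Algebra.linearMap B (FractionRing B))
      let ℓ : Algebra.adjoin B {(x : FractionRing B), (y : FractionRing B)} →ₗ[B] FractionRing B :=
        (d : B) • (Algebra.adjoin B {(x : FractionRing B), (y : FractionRing B)}).val.toLinearMap
      have hsub : Submodule.span B (s : Set (Algebra.adjoin B
          {(x : FractionRing B), (y : FractionRing B)})) ≤ N.comap ℓ := by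
        rw [Submodule.span_le]
        intro w hw
        obtain ⟨b, hb⟩ := hd (w : FractionRing B) (Finset.mem_image_of_mem _ hw)
        exact ⟨b, hb⟩
      intro z hz
      have hmem : (⟨z, hz⟩ : Algebra.adjoin B {(x : FractionRing B), (y : FractionRing B)}) ∈
          N.comap ℓ := hsub (by rw [hs]; trivial)
      obtain ⟨b, hb⟩ := hmem
      exact ⟨b, hb⟩
    obtain ⟨c, hc0, hc⟩ := hcond
    -- the conductor ideal
    let 𝔠 : Ideal (Algebra.adjoin B {(x : FractionRing B), (y : FractionRing B)}) :=
      { carrier := {z | ∀ w : Algebra.adjoin B {(x : FractionRing B), (y : FractionRing B)},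
          ((z * w : Algebra.adjoin B {(x : FractionRing B), (y : FractionRing B)}) :
            FractionRing B) ∈ (algebraMap B (FractionRing B)).range}
        add_mem' := fun {a b} ha hb w => by
          rw [add_mul]
          exact Subring.add_mem _ (ha w) (hb w)
        zero_mem' := fun w => by
          rw [zero_mul]
          exact Subring.zero_mem _
        smul_mem' := fun c z hz w => by
          rw [smul_eq_mul, mul_comm c z, mul_assoc]
          exact hz (c * w) }
    have h𝔠0 : 𝔠 ≠ ⊥ := by
      intro h
      have hcmem : algebraMap B (Algebra.adjoin B {(x : FractionRing B), (y : FractionRing B)}) c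
          ∈ 𝔠 := by
        intro w
        have := hc (w : FractionRing B) w.2
        rw [Algebra.smul_def] at this
        exact this
      rw [h, Ideal.mem_bot] at hcmem
      apply hc0
      have h2 : algebraMap B (FractionRing B) c = 0 := congrArg Subtype.val hcmem
      exact IsFractionRing.injective B (FractionRing B) (h2.trans (map_zero _).symm)
    let x₁ : Algebra.adjoin B {(x : FractionRing B), (y : FractionRing B)} :=
      ⟨x, Algebra.subset_adjoin (Set.mem_insert _ _)⟩
    let y₁ : Algebra.adjoin B {(x : FractionRing B), (y : FractionRing B)} :=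
      ⟨y, Algebra.subset_adjoin (Set.mem_insert_of_mem _ rfl)⟩
    have hrad : x₁ ∈ 𝔠.radical := by
      rw [Ideal.radical_eq_sInf, Ideal.mem_sInf]
      rintro P ⟨h𝔠P, hP⟩
      have hPbot : P ≠ ⊥ := fun h => h𝔠0 (le_bot_iff.mp (h ▸ h𝔠P))
      haveI hPmax : P.IsMaximal := hP.isMaximal_of_ne_bot hPbot
      letI : Algebra (Algebra.adjoin B {(x : FractionRing B), (y : FractionRing B)})
          (integralClosure B (FractionRing B)) := (Subalgebra.inclusion hle).toAlgebra
      haveI : IsScalarTower B (Algebra.adjoin B {(x : FractionRing B), (y : FractionRing B)})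
          (integralClosure B (FractionRing B)) := IsScalarTower.of_algebraMap_eq fun _ => rfl
      haveI : Algebra.IsIntegral (Algebra.adjoin B {(x : FractionRing B), (y : FractionRing B)})
          (integralClosure B (FractionRing B)) := Algebra.IsIntegral.tower_top (R := B)
      have hker : RingHom.ker (algebraMap (Algebra.adjoin B
          {(x : FractionRing B), (y : FractionRing B)}) (integralClosure B (FractionRing B))) = ⊥ :=
        (RingHom.injective_iff_ker_eq_bot _).mp (Subalgebra.inclusion_injective hle)
      obtain ⟨Q, hQmax, hQP⟩ := Ideal.exists_ideal_over_maximal_of_isIntegral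
        (S := integralClosure B (FractionRing B)) P (hker.le.trans bot_le)
      have hxQ : x ∈ Q := (Ideal.mem_sInf.mp hxJ) ⟨bot_le, hQmax⟩
      rw [← hQP]
      exact hxQ
    obtain ⟨n, hn⟩ := hrad
    refine ⟨n, ?_⟩
    exact hn y₁

end Groth.Agent.S1665
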