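import Groth.Statements.S16662
-- import your own Groth.Agent.* helpers here

set_option autoImplicit false
universe v u
open TensorProduct
open Conn

namespace Groth.Agent.S16662


theorem rid_ev {B Ω M M' : Type u} [CommRing B]
    [AddCommGroup Ω] [Module B Ω] [AddCommGroup M] [Module B M] [AddCommGroup M'] [Module B M']
    (θ : Ω →ₗ[B] B) (z : (M →ₗ[B] M') ⊗[B] Ω) (m : M) :
    (TensorProduct.rid B (M →ₗ[B] M') (TensorProduct.map LinearMap.id θ z)) m =
      TensorProduct.rid B M' (TensorProduct.map LinearMap.id θ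
        (TensorProduct.map (LinearMap.applyₗ m) LinearMap.id z)) := by
  induction z using TensorProduct.induction_on with
  | zero => simp
  | tmul ψ ω => simp
  | add y₁ y₂ h₁ h₂ => simp only [map_add, LinearMap.add_apply, h₁, h₂]

theorem eq_of_ev_eq {B Ω M M' : Type u} [CommRing B]
    [AddCommGroup Ω] [Module B Ω] [Module.Free B Ω]
    [AddCommGroup M] [Module B M] [AddCommGroup M'] [Module B M']
    (z w : (M →ₗ[B] M') ⊗[B] Ω)
    (h : ∀ m : M, TensorProduct.map (LinearMap.applyₗ m) LinearMap.id z =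
      TensorProduct.map (LinearMap.applyₗ m) LinearMap.id w) : z = w := by
  classical
  let 𝒞 := Module.Free.chooseBasis B Ω
  apply (TensorProduct.equivFinsuppOfBasisRight 𝒞).injective
  ext i m
  rw [TensorProduct.equivFinsuppOfBasisRight_apply, TensorProduct.equivFinsuppOfBasisRight_apply]
  change (TensorProduct.rid B (M →ₗ[B] M') (TensorProduct.map LinearMap.id (𝒞.coord i) z)) m =
    (TensorProduct.rid B (M →ₗ[B] M') (TensorProduct.map LinearMap.id (𝒞.coord i) w)) m
  rw [rid_ev, rid_ev, h m]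

theorem ev_assoc {B Ω E F G : Type u} [CommRing B]
    [AddCommGroup Ω] [Module B Ω] [AddCommGroup E] [Module B E] [AddCommGroup F] [Module B F]
    [AddCommGroup G] [Module B G]
    (ψ : F →ₗ[B] G) (e : E) (x : (E →ₗ[B] F) ⊗[B] Ω) :
    TensorProduct.map (LinearMap.applyₗ e) LinearMap.id
      (TensorProduct.map (TensorProduct.lift (LinearMap.llcomp B E F G)) LinearMap.id
        ((TensorProduct.assoc B (F →ₗ[B] G) (E →ₗ[B] F) Ω).symm (ψ ⊗ₜ[B] x))) =
      TensorProduct.map ψ LinearMap.id (TensorProduct.map (LinearMap.applyₗ e) LinearMap.id x) := by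
  induction x using TensorProduct.induction_on with
  | zero => simp
  | tmul g ω => simp
  | add y₁ y₂ h₁ h₂ => simp only [tmul_add, map_add, h₁, h₂]

theorem ev_swapR {B Ω E F G : Type u} [CommRing B]
    [AddCommGroup Ω] [Module B Ω] [AddCommGroup E] [Module B E] [AddCommGroup F] [Module B F]
    [AddCommGroup G] [Module B G]
    (y : (F →ₗ[B] G) ⊗[B] Ω) (e : E) (φ : E →ₗ[B] F) :
    TensorProduct.map (LinearMap.applyₗ e) LinearMap.id
      (TensorProduct.map (TensorProduct.lift (LinearMap.llcomp B E F G)) LinearMap.id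
        (Conn.swapR (y ⊗ₜ[B] φ))) =
      TensorProduct.map (LinearMap.applyₗ (φ e)) LinearMap.id y := by
  induction y using TensorProduct.induction_on with
  | zero => simp
  | tmul ψ ω => simp [Conn.swapR_tmul]
  | add y₁ y₂ h₁ h₂ => simp only [add_tmul, map_add, h₁, h₂]

theorem map_map' {B Ω E F G : Type u} [CommRing B]
    [AddCommGroup Ω] [Module B Ω] [AddCommGroup E] [Module B E] [AddCommGroup F] [Module B F]
    [AddCommGroup G] [Module B G]
    (ψ : F →ₗ[B] G) (φ : E →ₗ[B] F) (x : E ⊗[B] Ω) :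
    TensorProduct.map ψ LinearMap.id (TensorProduct.map φ LinearMap.id x) =
      TensorProduct.map (ψ ∘ₗ φ) (LinearMap.id : Ω →ₗ[B] Ω) x := by
  induction x using TensorProduct.induction_on with
  | zero => simp
  | tmul e ω => simp
  | add y₁ y₂ h₁ h₂ => simp only [map_add, h₁, h₂]

/-- Let B be an A-algebra with a receptacle of differentials (Ω, δ), Ω a finite free B-module, and let
E, F, G be B-modules with connections ∇_E, ∇_F, ∇_G, with E and F finitely presented. Equip
Hom_B(E,F), Hom_B(F,G) and Hom_B(E,G) with the induced connections (the connection ∇'' on Hom_B(X,Y)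
being the one with (ev_x ⊗ 1)(∇'' φ) = ∇_Y(φ x) − (φ ⊗ 1)(∇_X x)), and Hom_B(F,G) ⊗ Hom_B(E,F) with
the tensor product of these connections. Then the composition map Hom_B(F,G) ⊗ Hom_B(E,F) →
Hom_B(E,G), ψ ⊗ φ ↦ ψ ∘ φ, is horizontal. -/
theorem result {A : Type v} {B Ω E F G : Type u}
    [CommRing A] [CommRing B] [Algebra A B]
    [AddCommGroup Ω] [Module B Ω] [Module A Ω] [IsScalarTower A B Ω] [Module.Finite B Ω] [Module.Free B Ω]
    [AddCommGroup E] [Module B E] [Module A E] [IsScalarTower A B E] [Module.FinitePresentation B E]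
    [AddCommGroup F] [Module B F] [Module A F] [IsScalarTower A B F] [Module.FinitePresentation B F]
    [AddCommGroup G] [Module B G] [Module A G] [IsScalarTower A B G]
    (δ : Derivation A B Ω)
    (nE : E →ₗ[A] E ⊗[B] Ω) (hcE : Conn.IsConn δ nE)
    (nF : F →ₗ[A] F ⊗[B] Ω) (hcF : Conn.IsConn δ nF)
    (nG : G →ₗ[A] G ⊗[B] Ω) (hcG : Conn.IsConn δ nG)
    (nEF : (E →ₗ[B] F) →ₗ[A] (E →ₗ[B] F) ⊗[B] Ω) (hEF : Conn.IsHomConn nE nF nEF)
    (nFG : (F →ₗ[B] G) →ₗ[A] (F →ₗ[B] G) ⊗[B] Ω) (hFG : Conn.IsHomConn nF nG nFG)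
    (nEG : (E →ₗ[B] G) →ₗ[A] (E →ₗ[B] G) ⊗[B] Ω) (hEG : Conn.IsHomConn nE nG nEG)
    (nT : (F →ₗ[B] G) ⊗[B] (E →ₗ[B] F) →ₗ[A] ((F →ₗ[B] G) ⊗[B] (E →ₗ[B] F)) ⊗[B] Ω)
    (hT : Conn.IsTensorConn nFG nEF nT) :
    Conn.IsHorizontal nT nEG (TensorProduct.lift (LinearMap.llcomp B E F G)) := by
  intro t
  induction t using TensorProduct.induction_on with
  | zero => simp
  | tmul ψ φ =>
    apply eq_of_ev_eq
    intro e
    rw [hT ψ φ, map_add, map_add, ev_swapR, ev_assoc, hFG ψ (φ e), hEF φ e, map_sub, map_map']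
    have h1 : (TensorProduct.lift (LinearMap.llcomp B E F G)) (ψ ⊗ₜ[B] φ) = ψ ∘ₗ φ := by simp only [TensorProduct.lift.tmul]; rfl
    rw [h1, hEG]
    simp
  | add t₁ t₂ h₁ h₂ => simp only [map_add, h₁, h₂]


end Groth.Agent.S16662
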