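import Groth.Statements.S16663
import Groth.Agent.Lib.Helper24.ConnLemmas
-- import your own Groth.Agent.* helpers here

set_option autoImplicit false
universe v u
open TensorProduct
open Conn

namespace Groth.Agent.S16663


open Groth.Agent.Lib.Helper24.ConnL in
theorem eps_comm {A : Type v} {B Ω ι : Type u}
    [CommRing A] [CommRing B] [Algebra A B]
    [AddCommGroup Ω] [Module B Ω] [Module A Ω] [IsScalarTower A B Ω]
    [Fintype ι] [DecidableEq ι] (deg : ι → ℤ) (M : ι → Type u)
    [∀ i, AddCommGroup (M i)] [∀ i, Module B (M i)] [∀ i, Module A (M i)] [∀ i, IsScalarTower A B (M i)]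
    (nabla : (Π k, M k) →ₗ[A] (Π k, M k) ⊗[B] Ω)
    (hgr : ∀ i j : ι, deg i ≠ deg j → ∀ m : M i,
      TensorProduct.map (LinearMap.proj j : (Π k, M k) →ₗ[B] M j) LinearMap.id (nabla (LinearMap.single B M i m)) = 0)
    (θ : Ω →ₗ[B] B) (x : Π k, M k) :
    (∑ i : ι, (LinearMap.single B M i) ∘ₗ (((-1 : B) ^ (deg i).natAbs) • (LinearMap.proj i : (Π k, M k) →ₗ[B] M i)))
      (Conn.along nabla θ x) =
    Conn.along nabla θ ((∑ i : ι, (LinearMap.single B M i) ∘ₗ (((-1 : B) ^ (deg i).natAbs) • (LinearMap.proj i : (Π k, M k) →ₗ[B] M i))) x) := by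
  have hε : ∀ y : Π k, M k, (∑ i : ι, (LinearMap.single B M i) ∘ₗ (((-1 : B) ^ (deg i).natAbs) • (LinearMap.proj i : (Π k, M k) →ₗ[B] M i))) y
      = fun j => ((-1 : B) ^ (deg j).natAbs) • y j := by
    intro y
    ext j
    simp [LinearMap.sum_apply, Finset.sum_apply]
  have hsgn : ∀ (n : ℕ) (y : Π k, M k), Conn.along nabla θ (((-1 : B) ^ n) • y) =
      ((-1 : B) ^ n) • Conn.along nabla θ y := by
    intro n y
    rcases Nat.even_or_odd n with hn | hn
    · simp [hn.neg_one_pow]
    · simp [hn.neg_one_pow]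
  have hx : x = ∑ i, LinearMap.single B M i (x i) := by
    ext j
    simp [Finset.sum_apply]
  have hcomp : ∀ (i j : ι) (m : M i), deg i ≠ deg j →
      (Conn.along nabla θ (LinearMap.single B M i m)) j = 0 := by
    intro i j m hij
    have := rid_map θ (LinearMap.proj j : (Π k, M k) →ₗ[B] M j) (nabla (LinearMap.single B M i m))
    rw [hgr i j hij m] at this
    rw [Conn.along_apply]
    simpa using this.symm
  have hone : ∀ (i : ι) (m : M i),
      (∑ i : ι, (LinearMap.single B M i) ∘ₗ (((-1 : B) ^ (deg i).natAbs) • (LinearMap.proj i : (Π k, M k) →ₗ[B] M i)))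
        (Conn.along nabla θ (LinearMap.single B M i m)) =
      Conn.along nabla θ ((∑ i : ι, (LinearMap.single B M i) ∘ₗ (((-1 : B) ^ (deg i).natAbs) • (LinearMap.proj i : (Π k, M k) →ₗ[B] M i)))
        (LinearMap.single B M i m)) := by
    intro i m
    have h2 : (∑ i : ι, (LinearMap.single B M i) ∘ₗ (((-1 : B) ^ (deg i).natAbs) • (LinearMap.proj i : (Π k, M k) →ₗ[B] M i)))
        (LinearMap.single B M i m) = ((-1 : B) ^ (deg i).natAbs) • LinearMap.single B M i m := by
      rw [hε]
      ext j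
      by_cases hji : j = i
      · subst hji; simp
      · simp [hji]
    rw [h2, hsgn, hε]
    ext j
    show (-1 : B) ^ (deg j).natAbs • (Conn.along nabla θ (LinearMap.single B M i m)) j =
      (-1 : B) ^ (deg i).natAbs • (Conn.along nabla θ (LinearMap.single B M i m)) j
    by_cases hij : deg i = deg j
    · rw [hij]
    · rw [hcomp i j m hij, smul_zero, smul_zero]
  conv_lhs => rw [hx]
  conv_rhs => rw [hx]
  simp only [map_sum, hone]

/-- Let B be an A-algebra with a receptacle of differentials (Ω, δ), Ω a finite free B-module (the local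
form of a weakly smooth scheme), and let M be a finitely ℤ-graded B-module presented as a finite
family of finite free B-modules M_i with integer degrees deg i (the local form of a graded vector
bundle), with total module Π_i M_i. Let ∇ be a connection on Π_i M_i preserving the grading, in the
sense that (pr_j ⊗ 1)(∇(ι_i m)) = 0 for m ∈ M_i whenever deg i ≠ deg j, and let ∇_E be the induced
connection on the B-linear endomorphisms, the one with (ev_m ⊗ 1)(∇_E φ) = ∇(φ m) − (φ ⊗ 1)(∇ m).
Give B the connection b ↦ 1 ⊗ δ b. Then the supertrace, φ ↦ tr(ε ∘ φ) with ε = Σ_i (−1)^{deg i} ι_i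
∘ pr_i the grading involution, is a horizontal map End_B(Π_i M_i) → B. -/
theorem result {A : Type v} {B Ω ι : Type u}
    [CommRing A] [CommRing B] [Algebra A B]
    [AddCommGroup Ω] [Module B Ω] [Module A Ω] [IsScalarTower A B Ω] [Module.Finite B Ω] [Module.Free B Ω]
    [Fintype ι] [DecidableEq ι] (deg : ι → ℤ) (M : ι → Type u)
    [∀ i, AddCommGroup (M i)] [∀ i, Module B (M i)] [∀ i, Module A (M i)] [∀ i, IsScalarTower A B (M i)]
    [∀ i, Module.Free B (M i)] [∀ i, Module.Finite B (M i)]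
    (δ : Derivation A B Ω) (nabla : (Π k, M k) →ₗ[A] (Π k, M k) ⊗[B] Ω) (hc : Conn.IsConn δ nabla)
    (hgr : ∀ i j : ι, deg i ≠ deg j → ∀ m : M i,
      TensorProduct.map (LinearMap.proj j : (Π k, M k) →ₗ[B] M j) LinearMap.id (nabla (LinearMap.single B M i m)) = 0)
    (nablaE : ((Π k, M k) →ₗ[B] (Π k, M k)) →ₗ[A] ((Π k, M k) →ₗ[B] (Π k, M k)) ⊗[B] Ω)
    (hE : Conn.IsHomConn nabla nabla nablaE) :
    Conn.IsHorizontal nablaE (Conn.triv δ)
      (LinearMap.trace B (Π k, M k) ∘ₗ LinearMap.llcomp B (Π k, M k) (Π k, M k) (Π k, M k)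
        (∑ i : ι, (LinearMap.single B M i) ∘ₗ (((-1 : B) ^ (deg i).natAbs) • (LinearMap.proj i : (Π k, M k) →ₗ[B] M i)))) := by
  intro φ
  apply Groth.Agent.Lib.Helper24.ConnL.triv_eq_of_along
  intro θ
  have key := Groth.Agent.Lib.Helper24.ConnL.trace_comm (Conn.along nabla θ)
    ((θ : Ω →+ B).comp (δ : B →+ Ω))
    (fun b m => Groth.Agent.Lib.Helper24.ConnL.along_smul hc θ b m)
    ((∑ i : ι, (LinearMap.single B M i) ∘ₗ (((-1 : B) ^ (deg i).natAbs) • (LinearMap.proj i : (Π k, M k) →ₗ[B] M i))) ∘ₗ φ)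
    ((∑ i : ι, (LinearMap.single B M i) ∘ₗ (((-1 : B) ^ (deg i).natAbs) • (LinearMap.proj i : (Π k, M k) →ₗ[B] M i))) ∘ₗ
      Conn.along nablaE θ φ)
    (fun m => by
      rw [LinearMap.comp_apply, LinearMap.comp_apply,
        Groth.Agent.Lib.Helper24.ConnL.along_hom_apply hE θ φ m, map_sub,
        eps_comm deg M nabla hgr θ]
      rfl)
  exact key


end Groth.Agent.S16663
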