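import Groth.Statements.S16664
-- import your own Groth.Agent.* helpers here

set_option autoImplicit false
universe v u
open TensorProduct
open Conn

namespace Groth.Agent.S16664


theorem rid_ev {B Ω M M' : Type u} [CommRing B]
    [AddCommGroup Ω] [Module B Ω] [AddCommGroup M] [Module B M] [AddCommGroup M'] [Module B M']
    (θ : Ω →ₗ[B] B) (z : (M →ₗ[B] M') ⊗[B] Ω) (m : M) :
    (TensorProduct.rid B (M →ₗ[B] M') (TensorProduct.map LinearMap.id θ z)) m =
      TensorProduct.rid B M' (TensorProduct.map LinearMap.id θ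
        (TensorProduct.map (LinearMap.applyₗ m) LinearMap.id z)) := by
  induction z using TensorProduct.induction_on with
  | zero => simp
  | tmul ψ ω => simp
  | add y₁ y₂ h₁ h₂ => simp only [map_add, LinearMap.add_apply, h₁, h₂]

theorem rid_map {B Ω M M' : Type u} [CommRing B]
    [AddCommGroup Ω] [Module B Ω] [AddCommGroup M] [Module B M] [AddCommGroup M'] [Module B M']
    (θ : Ω →ₗ[B] B) (φ : M →ₗ[B] M') (x : M ⊗[B] Ω) :
    TensorProduct.rid B M' (TensorProduct.map LinearMap.id θ (TensorProduct.map φ LinearMap.id x)) =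
      φ (TensorProduct.rid B M (TensorProduct.map LinearMap.id θ x)) := by
  induction x using TensorProduct.induction_on with
  | zero => simp
  | tmul ψ ω => simp
  | add y₁ y₂ h₁ h₂ => simp only [map_add, h₁, h₂]

theorem along_hom_apply {A : Type v} {B Ω M M' : Type u} [CommRing A] [CommRing B] [Algebra A B]
    [AddCommGroup Ω] [Module B Ω] [Module A Ω] [IsScalarTower A B Ω]
    [AddCommGroup M] [Module B M] [Module A M] [IsScalarTower A B M]
    [AddCommGroup M'] [Module B M'] [Module A M'] [IsScalarTower A B M']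
    {nabla : M →ₗ[A] M ⊗[B] Ω} {nabla' : M' →ₗ[A] M' ⊗[B] Ω}
    {nabla'' : (M →ₗ[B] M') →ₗ[A] (M →ₗ[B] M') ⊗[B] Ω} (h : Conn.IsHomConn nabla nabla' nabla'')
    (θ : Ω →ₗ[B] B) (φ : M →ₗ[B] M') (m : M) :
    (Conn.along nabla'' θ φ) m = Conn.along nabla' θ (φ m) - φ (Conn.along nabla θ m) := by
  rw [Conn.along_apply, rid_ev, h φ m, map_sub, map_sub, rid_map]
  rfl

theorem along_comp {A : Type v} {B Ω M : Type u} [CommRing A] [CommRing B] [Algebra A B]
    [AddCommGroup Ω] [Module B Ω] [Module A Ω] [IsScalarTower A B Ω]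
    [AddCommGroup M] [Module B M] [Module A M] [IsScalarTower A B M]
    {nabla : M →ₗ[A] M ⊗[B] Ω}
    {nablaE : (M →ₗ[B] M) →ₗ[A] (M →ₗ[B] M) ⊗[B] Ω} (h : Conn.IsHomConn nabla nabla nablaE)
    (θ : Ω →ₗ[B] B) (φ ψ : M →ₗ[B] M) :
    Conn.along nablaE θ (φ ∘ₗ ψ) = Conn.along nablaE θ φ ∘ₗ ψ + φ ∘ₗ Conn.along nablaE θ ψ := by
  ext m
  simp only [LinearMap.add_apply, LinearMap.comp_apply, along_hom_apply h, map_sub]
  abel

/-- Let B be an A-algebra with a receptacle of differentials (Ω, δ), Ω free on a finite basis ω_1, …,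
ω_n, let M be a finitely presented B-module with a connection ∇, let ∇_E be the induced connection
on the B-linear endomorphisms of M (the one with (ev_m ⊗ 1)(∇_E φ) = ∇(φ m) − (φ ⊗ 1)(∇ m)), and for
each q let ∇_q = (1 ⊗ ω_q^*) ∘ ∇_E be the covariant derivative on End_B(M) along the q-th vector of
the dual basis. If an endomorphism φ satisfies φ ∘ ∇_q(φ) + ∇_q(φ) ∘ φ = 0 for every q, then for all
q, r one has φ ∘ ∇_q(∇_r(φ)) + ∇_q(∇_r(φ)) ∘ φ + ∇_q(φ) ∘ ∇_r(φ) + ∇_r(φ) ∘ ∇_q(φ) = 0. (The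
published statement takes M graded with ∇ preserving the grading and φ of odd degree, and is written
with supercommutators; for such φ the supercommutators in question are exactly these
anticommutators, and the identity holds for an arbitrary endomorphism.) -/
theorem result {A : Type v} {B Ω M : Type u}
    [CommRing A] [CommRing B] [Algebra A B]
    [AddCommGroup Ω] [Module B Ω] [Module A Ω] [IsScalarTower A B Ω] {n : ℕ} (bΩ : Module.Basis (Fin n) B Ω)
    [AddCommGroup M] [Module B M] [Module A M] [IsScalarTower A B M] [Module.FinitePresentation B M]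
    (δ : Derivation A B Ω) (nabla : M →ₗ[A] M ⊗[B] Ω) (hc : Conn.IsConn δ nabla)
    (nablaE : (M →ₗ[B] M) →ₗ[A] (M →ₗ[B] M) ⊗[B] Ω) (hE : Conn.IsHomConn nabla nabla nablaE)
    (φ : M →ₗ[B] M)
    (hφ : ∀ q : Fin n, φ ∘ₗ Conn.along nablaE (bΩ.coord q) φ + Conn.along nablaE (bΩ.coord q) φ ∘ₗ φ = 0)
    (q r : Fin n) :
    φ ∘ₗ Conn.along nablaE (bΩ.coord q) (Conn.along nablaE (bΩ.coord r) φ)
      + Conn.along nablaE (bΩ.coord q) (Conn.along nablaE (bΩ.coord r) φ) ∘ₗ φ
      + Conn.along nablaE (bΩ.coord q) φ ∘ₗ Conn.along nablaE (bΩ.coord r) φ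
      + Conn.along nablaE (bΩ.coord r) φ ∘ₗ Conn.along nablaE (bΩ.coord q) φ = 0 := by
  have h := congrArg (Conn.along nablaE (bΩ.coord q)) (hφ r)
  rw [map_add, along_comp hE, along_comp hE, map_zero] at h
  rw [← h]
  abel


end Groth.Agent.S16664
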