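import Groth.Statements.S16667
import Mathlib.RingTheory.Ideal.AssociatedPrime.Basic
import Mathlib.RingTheory.Localization.AtPrime.Basic
import Mathlib.Tactic.Ring
import Mathlib.Tactic.FieldSimp

set_option autoImplicit false
universe u
open CAlg

namespace Groth.Agent.S16667

open RingTheory.Sequence in
/-- Depth one criterion for a local domain: `B` a nonzero element of the maximal ideal and `Y` an
element not divisible by `B` with `𝔪 Y ⊆ (B)`. -/
theorem depth_eq_one {R : Type u} [CommRing R] [IsDomain R] [IsLocalRing R] (B Y : R)
    (hB0 : B ≠ 0) (hBm : B ∈ IsLocalRing.maximalIdeal R) (hY : ¬ B ∣ Y)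
    (hmY : ∀ t ∈ IsLocalRing.maximalIdeal R, B ∣ t * Y) : LocCoh.depth R R = 1 := by
  classical
  unfold LocCoh.depth LocCoh.idealDepth
  have hne : IsLocalRing.maximalIdeal R • (⊤ : Submodule R R) ≠ ⊤ := by
    rw [smul_eq_mul, Ideal.mul_top]
    exact (IsLocalRing.maximalIdeal.isMaximal R).ne_top
  rw [if_neg hne]
  apply le_antisymm
  · refine iSup₂_le fun rs hrs => ?_
    match rs, hrs with
    | [], _ => simp
    | [r], _ => simp
    | r1 :: r2 :: rest, hrs =>
      exfalso
      obtain ⟨hreg, hmem⟩ := hrs
      rw [isWeaklyRegular_cons_iff] at hreg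
      obtain ⟨h1, h2⟩ := hreg
      rw [isWeaklyRegular_cons_iff] at h2
      have h2reg := h2.1
      have hr1 : r1 ∈ IsLocalRing.maximalIdeal R := hmem r1 (by simp)
      have hr2 : r2 ∈ IsLocalRing.maximalIdeal R := hmem r2 (by simp)
      have hr10 : r1 ≠ 0 := by
        intro h0
        have : (1 : R) = 0 := h1 (by simp [h0])
        exact one_ne_zero this
      obtain ⟨y1, hy1⟩ := hmY r1 hr1
      have hA : ¬ ∃ w, r1 * w = y1 := by
        rintro ⟨w, rfl⟩
        apply hY
        refine ⟨w, ?_⟩
        apply mul_left_cancel₀ hr10
        rw [hy1]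
        ring
      have hBt : ∀ t ∈ IsLocalRing.maximalIdeal R, ∃ u, r1 * u = t * y1 := by
        intro t ht
        obtain ⟨u, hu⟩ := hmY t ht
        refine ⟨u, ?_⟩
        apply mul_left_cancel₀ hB0
        calc B * (r1 * u) = r1 * (B * u) := by ring
          _ = r1 * (t * Y) := by rw [hu]
          _ = t * (r1 * Y) := by ring
          _ = t * (B * y1) := by rw [hy1]
          _ = B * (t * y1) := by ring
      obtain ⟨u, hu⟩ := hBt r2 hr2
      have hz : r2 • (Submodule.Quotient.mk y1 : QuotSMulTop r1 R) =
          r2 • (0 : QuotSMulTop r1 R) := by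
        rw [smul_zero, ← Submodule.Quotient.mk_smul, Submodule.Quotient.mk_eq_zero,
          Submodule.mem_smul_pointwise_iff_exists]
        exact ⟨u, by simpa [smul_eq_mul] using hu⟩
      have hz2 := h2reg hz
      rw [Submodule.Quotient.mk_eq_zero, Submodule.mem_smul_pointwise_iff_exists] at hz2
      obtain ⟨w, -, hw⟩ := hz2
      exact hA ⟨w, by simpa [smul_eq_mul] using hw⟩
  · refine le_iSup₂_of_le [B] ⟨?_, ?_⟩ ?_
    · rw [isWeaklyRegular_singleton_iff]
      intro x y h
      simp only [smul_eq_mul] at h
      exact mul_left_cancel₀ hB0 h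
    · intro r hr
      simp only [List.mem_singleton] at hr
      rw [hr]
      exact hBm
    · simp


/-- Let A be a Noetherian integral domain satisfying Serre's condition (S_2), with fraction field K. An
element of K which lies in the localization A_p for every prime p of A with depth(A_p) = 1 lies in
A. -/
theorem result {A : Type u} [CommRing A] [IsDomain A]
    [IsNoetherianRing A] (hS2 : LocCoh.HasSk 2 A A) (x : FractionRing A)
    (hx : ∀ (p : Ideal A) [p.IsPrime],
      LocCoh.depth (Localization.AtPrime p) (Localization.AtPrime p) = 1 →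
        x ∈ Set.range (algebraMap (Localization.AtPrime p) (FractionRing A))) :
    x ∈ Set.range (algebraMap A (FractionRing A)) := by
  classical
  obtain ⟨a, b, hb, rfl⟩ := IsFractionRing.div_surjective (A := A) x
  by_contra hnot
  have hb0 : b ≠ 0 := nonZeroDivisors.ne_zero hb
  have hinjK : Function.Injective (algebraMap A (FractionRing A)) :=
    IsFractionRing.injective A (FractionRing A)
  have hbK : algebraMap A (FractionRing A) b ≠ 0 := fun h =>
    hb0 (hinjK (by rw [h, map_zero]))
  have hab : ¬ b ∣ a := by
    rintro ⟨c, rfl⟩
    apply hnot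
    refine ⟨c, ?_⟩
    rw [map_mul, mul_div_cancel_left₀ _ hbK]
  -- associated prime
  have hne : (Ideal.Quotient.mk (Ideal.span {b}) a) ≠ 0 := by
    rw [Ne, Ideal.Quotient.eq_zero_iff_mem, Ideal.mem_span_singleton]
    exact hab
  obtain ⟨p, hpass, hle⟩ := exists_le_isAssociatedPrime_of_isNoetherianRing A
    (Ideal.Quotient.mk (Ideal.span {b}) a) hne
  rw [isAssociatedPrime_iff] at hpass
  obtain ⟨hpprime, ybar, hpeq⟩ := hpass
  obtain ⟨y, rfl⟩ := Ideal.Quotient.mk_surjective ybar
  have hcolon : ∀ (c z : A), c ∈ (⊥ : Submodule A (A ⧸ Ideal.span {b})).colon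
      {Ideal.Quotient.mk (Ideal.span {b}) z} ↔ b ∣ c * z := by
    intro c z
    rw [Submodule.mem_colon_singleton, Submodule.mem_bot, ← Ideal.mem_span_singleton,
      ← Ideal.Quotient.eq_zero_iff_mem, map_mul]
    rfl
  have hmem : ∀ c, c ∈ p ↔ b ∣ c * y := fun c => by rw [hpeq, hcolon]
  have hle' : ∀ c, b ∣ c * a → c ∈ p := fun c hc => hle ((hcolon c a).mpr hc)
  haveI := hpprime
  have hbp : b ∈ p := (hmem b).mpr ⟨y, rfl⟩
  -- the local ring
  have hinjR : Function.Injective (algebraMap A (Localization.AtPrime p)) :=
    IsLocalization.injective _ (Ideal.primeCompl_le_nonZeroDivisors p)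
  have hdepth : LocCoh.depth (Localization.AtPrime p) (Localization.AtPrime p) = 1 := by
    apply depth_eq_one (algebraMap A (Localization.AtPrime p) b)
      (algebraMap A (Localization.AtPrime p) y)
    · intro h
      exact hb0 (hinjR (by rw [h, map_zero]))
    · exact (IsLocalization.AtPrime.to_map_mem_maximal_iff _ p b).mpr hbp
    · rintro ⟨w, hw⟩
      obtain ⟨⟨d, s⟩, rfl⟩ := IsLocalization.mk'_surjective p.primeCompl w
      have h1 : algebraMap A (Localization.AtPrime p) (y * s) =
          algebraMap A (Localization.AtPrime p) (b * d) := by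
        rw [map_mul, map_mul, hw, mul_assoc, IsLocalization.mk'_spec]
      have h2 := hinjR h1
      have : (s : A) ∈ p := (hmem s).mpr ⟨d, by rw [mul_comm, h2]⟩
      exact s.2 this
    · intro t ht
      obtain ⟨⟨c, s⟩, rfl⟩ := IsLocalization.mk'_surjective p.primeCompl t
      have hc : c ∈ p := by
        by_contra hcp
        have hunit : IsUnit (IsLocalization.mk' (Localization.AtPrime p) c s) := by
          have h1 : IsUnit (algebraMap A (Localization.AtPrime p) c) :=
            IsLocalization.map_units _ (⟨c, hcp⟩ : p.primeCompl)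
          have h2 : IsLocalization.mk' (Localization.AtPrime p) c s *
              algebraMap A (Localization.AtPrime p) s =
              algebraMap A (Localization.AtPrime p) c := IsLocalization.mk'_spec _ c s
          rw [← h2] at h1
          exact isUnit_of_mul_isUnit_left h1
        exact (IsLocalRing.mem_maximalIdeal _).mp ht hunit
      obtain ⟨d, hd⟩ := (hmem c).mp hc
      refine ⟨IsLocalization.mk' (Localization.AtPrime p) d s, ?_⟩
      have hs : IsUnit (algebraMap A (Localization.AtPrime p) s) :=
        IsLocalization.map_units _ s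
      apply hs.mul_right_cancel
      calc IsLocalization.mk' (Localization.AtPrime p) c s *
            algebraMap A (Localization.AtPrime p) y * algebraMap A (Localization.AtPrime p) s
          = (IsLocalization.mk' (Localization.AtPrime p) c s *
              algebraMap A (Localization.AtPrime p) s) *
              algebraMap A (Localization.AtPrime p) y := by ring
        _ = algebraMap A (Localization.AtPrime p) (c * y) := by
            rw [IsLocalization.mk'_spec, map_mul]
        _ = algebraMap A (Localization.AtPrime p) (b * d) := by rw [hd]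
        _ = algebraMap A (Localization.AtPrime p) b *
              (IsLocalization.mk' (Localization.AtPrime p) d s *
                algebraMap A (Localization.AtPrime p) s) := by
            rw [IsLocalization.mk'_spec, map_mul]
        _ = algebraMap A (Localization.AtPrime p) b *
              IsLocalization.mk' (Localization.AtPrime p) d s *
              algebraMap A (Localization.AtPrime p) s := by ring
  obtain ⟨r, hr⟩ := hx p hdepth
  obtain ⟨⟨a', s⟩, rfl⟩ := IsLocalization.mk'_surjective p.primeCompl r
  have h1 : algebraMap (Localization.AtPrime p) (FractionRing A)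
      (IsLocalization.mk' (Localization.AtPrime p) a' s) * algebraMap A (FractionRing A) s =
      algebraMap A (FractionRing A) a' := by
    rw [IsScalarTower.algebraMap_apply A (Localization.AtPrime p) (FractionRing A) s,
      ← map_mul, IsLocalization.mk'_spec,
      ← IsScalarTower.algebraMap_apply A (Localization.AtPrime p) (FractionRing A)]
  rw [hr] at h1
  have h2 : algebraMap A (FractionRing A) (a * s) = algebraMap A (FractionRing A) (a' * b) := by
    rw [map_mul, map_mul, ← h1]
    field_simp
  have h3 := hinjK h2
  have : (s : A) ∈ p := hle' s ⟨a', by rw [mul_comm, h3, mul_comm]⟩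
  exact s.2 this

end Groth.Agent.S16667
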