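import Groth.Statements.S16668
import Groth.Agent.Lib.Helper7.NormalQuotDepth
import Groth.Agent.Lib.Helper7.QRegPow
import Groth.Agent.Lib.Helper7.TildeHartogs
import Groth.Agent.Lib.Helper5.RegGens

set_option autoImplicit false
universe u
open CategoryTheory AlgebraicGeometry
open Lef

namespace Groth.Agent.S16668

/-- Let A be an excellent normal domain, J the radical ideal of A whose zero set is the set of
non-regular points of Spec A, and p a prime ideal of A generated by an A-regular sequence, such that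
A/p is normal and ht(p) + ht(J) ≤ ht(p + J). Let U be an open subset of Spec A which contains every
regular point of V(p) and whose complement consists of points of height at least 2. Then for every m
≥ 1 the restriction map from Γ(Spec(A/p^m), O) to the sections of O over the inverse image of U in
Spec(A/p^m) is bijective. (The published lemma asserts the corresponding bijection after p-adic
completion, for every finitely generated reflexive A-module in place of A; stated here, for A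
itself, is the bijection at each finite level m which its proof establishes.) -/
theorem result
    (A : Type u) [CommRing A] [IsDomain A] [IsIntegrallyClosed A] (hA : EGA4.IsExcellent A)
    (J : Ideal A) (hJrad : J.IsRadical)
    (hJ : ∀ x : PrimeSpectrum A, J ≤ x.asIdeal ↔ x ∉ EGA4.regLocus A)
    (p : Ideal A) [p.IsPrime] (rs : List A) (hrs : RingTheory.Sequence.IsRegular A rs)
    (hp : Ideal.ofList rs = p) (hnorm : IsIntegrallyClosed (A ⧸ p))
    (hht : p.height + J.height ≤ (p ⊔ J).height)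
    (U : (Spec (CommRingCat.of A)).Opens)
    (hUreg : ∀ x : PrimeSpectrum A, p ≤ x.asIdeal → x ∈ EGA4.regLocus A → x ∈ U.1)
    (hUcodim : ∀ x : PrimeSpectrum A, x ∉ U.1 → (2 : ℕ∞) ≤ x.asIdeal.height)
    (m : ℕ) (hm : 1 ≤ m) :
    Function.Bijective ((Spec (CommRingCat.of (A ⧸ p ^ m))).presheaf.map
      (homOfLE (le_top : Spec.map (CommRingCat.ofHom (Ideal.Quotient.mk (p ^ m))) ⁻¹ᵁ U ≤ ⊤)).op).hom := by
  classical
  obtain ⟨hnoeth, -, -, -⟩ := hA
  haveI := hnoeth
  have hJ' : ∀ (P : Ideal A) [P.IsPrime], J ≤ P →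
      ¬ IsRegularLocalRing (Localization.AtPrime P) := by
    intro P hP hJP
    exact (hJ ⟨P, hP⟩).mp hJP
  obtain ⟨x, hx, y, hy, hR1, hR2⟩ :=
    Groth.Agent.Lib.Helper7.NormalQuotDepth.exists_regular_pair J hJ' p rs hrs hp hnorm hht
  have hspan : p = Ideal.span (Set.range rs.get) := by
    rw [← hp]; exact Groth.Agent.Lib.Helper5.RegGens.ofList_eq_span_range_get rs
  have hqr : Groth.Agent.Lib.Helper21.QuasiReg.QR rs.get :=
    Groth.Agent.Lib.Helper21.QuasiReg.qr_of_isWeaklyRegular rs.get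
      (by rw [List.ofFn_get]; exact hrs.1)
  have hR1m : ∀ u, x * u ∈ p ^ m → u ∈ p ^ m := by
    have h1 := Groth.Agent.Lib.Helper21.QuasiReg.mem_pow_of_mul_mem_pow rs.get hqr x
      (by rw [← hspan]; exact hR1) m
    rwa [← hspan] at h1
  have hR2m : ∀ u, y * u ∈ p ^ m ⊔ Ideal.span {x} → u ∈ p ^ m ⊔ Ideal.span {x} := by
    have h1 := Groth.Agent.Lib.Helper7.QRegPow.mem_pow_sup_of_mul_mem rs.get hqr x y
      (by rw [← hspan]; exact hR1) (by rw [← hspan]; exact hR2) m
    rwa [← hspan] at h1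
  -- the vanishing ideal of the complement of the open set
  obtain ⟨Zc, hZc⟩ : ∃ Zc : Set (PrimeSpectrum (A ⧸ p ^ m)),
      Zc = ((Spec.map (CommRingCat.ofHom (Ideal.Quotient.mk (p ^ m))) ⁻¹ᵁ U).1)ᶜ := ⟨_, rfl⟩
  have hcl : IsClosed Zc := by
    rw [hZc]
    exact (Spec.map (CommRingCat.ofHom (Ideal.Quotient.mk (p ^ m))) ⁻¹ᵁ U).isOpen.isClosed_compl
  have h1 : PrimeSpectrum.zeroLocus (PrimeSpectrum.vanishingIdeal Zc : Set (A ⧸ p ^ m)) = Zc := by
    rw [PrimeSpectrum.zeroLocus_vanishingIdeal_eq_closure, hcl.closure_eq]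
  have hVeq : Spec.map (CommRingCat.ofHom (Ideal.Quotient.mk (p ^ m))) ⁻¹ᵁ U =
      EGA4.openCompl (A ⧸ p ^ m) (PrimeSpectrum.vanishingIdeal Zc) := by
    apply TopologicalSpace.Opens.ext
    refine Set.ext fun Q => ?_
    change Q ∈ (Spec.map (CommRingCat.ofHom (Ideal.Quotient.mk (p ^ m))) ⁻¹ᵁ U).1 ↔
      Q ∉ PrimeSpectrum.zeroLocus (PrimeSpectrum.vanishingIdeal Zc : Set (A ⧸ p ^ m))
    rw [h1]
    constructor
    · intro h hc
      rw [hZc] at hc
      exact hc h
    · intro h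
      by_contra hc
      exact h (hZc ▸ hc)
  have hmemJB : ∀ a ∈ J, Ideal.Quotient.mk (p ^ m) a ∈ PrimeSpectrum.vanishingIdeal Zc := by
    intro a ha
    rw [PrimeSpectrum.mem_vanishingIdeal]
    intro Q hQ
    rw [hZc] at hQ
    have hQU : PrimeSpectrum.comap (Ideal.Quotient.mk (p ^ m)) Q ∉ U.1 := hQ
    have hpQ : p ≤ (PrimeSpectrum.comap (Ideal.Quotient.mk (p ^ m)) Q).asIdeal := by
      intro b hb
      have h1 : Ideal.Quotient.mk (p ^ m) (b ^ m) = 0 :=
        Ideal.Quotient.eq_zero_iff_mem.mpr (Ideal.pow_mem_pow hb m)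
      have h2 : (Ideal.Quotient.mk (p ^ m) b) ^ m ∈ Q.asIdeal := by
        rw [← map_pow, h1]; exact Q.asIdeal.zero_mem
      exact Q.isPrime.mem_of_pow_mem m h2
    have hnreg : PrimeSpectrum.comap (Ideal.Quotient.mk (p ^ m)) Q ∉ EGA4.regLocus A :=
      fun h => hQU (hUreg _ hpQ h)
    exact (hJ _).mpr hnreg ha
  have hareg : IsSMulRegular (A ⧸ p ^ m) (Ideal.Quotient.mk (p ^ m) x) := by
    rw [isSMulRegular_iff_right_eq_zero_of_smul]
    intro u hu
    obtain ⟨u, rfl⟩ := Ideal.Quotient.mk_surjective u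
    rw [smul_eq_mul, ← map_mul, Ideal.Quotient.eq_zero_iff_mem] at hu
    exact Ideal.Quotient.eq_zero_iff_mem.mpr (hR1m u hu)
  have hbreg : ∀ u : A ⧸ p ^ m, (∃ w : A ⧸ p ^ m,
      Ideal.Quotient.mk (p ^ m) y • u = Ideal.Quotient.mk (p ^ m) x • w) →
      ∃ w : A ⧸ p ^ m, u = Ideal.Quotient.mk (p ^ m) x • w := by
    rintro u ⟨w, hw⟩
    obtain ⟨u, rfl⟩ := Ideal.Quotient.mk_surjective u
    obtain ⟨w, rfl⟩ := Ideal.Quotient.mk_surjective w
    rw [smul_eq_mul, smul_eq_mul, ← map_mul, ← map_mul, ← sub_eq_zero, ← map_sub,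
      Ideal.Quotient.eq_zero_iff_mem] at hw
    have h1 : y * u ∈ p ^ m ⊔ Ideal.span {x} := by
      have h2 : y * u = (y * u - x * w) + w * x := by ring
      rw [h2]
      exact Ideal.add_mem _ (Ideal.mem_sup_left hw)
        (Ideal.mem_sup_right (Ideal.mem_span_singleton'.mpr ⟨w, rfl⟩))
    obtain ⟨z, hz, xw, hxw, hsum⟩ := Submodule.mem_sup.mp (hR2m u h1)
    obtain ⟨w', rfl⟩ := Ideal.mem_span_singleton'.mp hxw
    refine ⟨Ideal.Quotient.mk (p ^ m) w', ?_⟩
    rw [← hsum, map_add, Ideal.Quotient.eq_zero_iff_mem.mpr hz, zero_add, map_mul, smul_eq_mul,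
      mul_comm]
  have key : ∀ (W : (Spec (CommRingCat.of (A ⧸ p ^ m))).Opens),
      W = EGA4.openCompl (A ⧸ p ^ m) (PrimeSpectrum.vanishingIdeal Zc) →
      Function.Bijective ((Spec (CommRingCat.of (A ⧸ p ^ m))).presheaf.map
        (homOfLE (le_top : W ≤ ⊤)).op).hom := by
    rintro W rfl
    exact Groth.Agent.Lib.Helper7.TildeH.bijective_restrCompl (M := A ⧸ p ^ m) _
      (Ideal.Quotient.mk (p ^ m) x) (Ideal.Quotient.mk (p ^ m) y)
      (hmemJB x hx) (hmemJB y hy) hareg hbreg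
  exact key _ hVeq

end Groth.Agent.S16668
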