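import Groth.Statements.S18472
import Groth.Agent.Lib.Helper14.HopfShear

set_option autoImplicit false
universe u v
open Hopf

namespace Groth.Agent.S18472

open Groth.Agent.Lib.Helper14.HopfShear


/-- Let R be a commutative ring and A a commutative Hopf algebra over R which is finitely generated and
projective as an R-module (a finite locally free group scheme G = Spec A over Spec R), and let I =
ker ε be its augmentation ideal. Then A is étale over R if and only if I² = I. (The published text
calls G finite flat, meaning that A is finitely generated and projective.) -/
theorem result
    (R : Type u) [CommRing R] (A : Type v) [CommRing A] [HopfAlgebra R A]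
    [Module.Finite R A] [Module.Projective R A] :
    Algebra.Etale R A ↔
      RingHom.ker (Bialgebra.counitAlgHom R A) ^ 2 = RingHom.ker (Bialgebra.counitAlgHom R A) := by
  constructor
  · intro h
    have h1 : Algebra.FormallyUnramified R A := inferInstance
    have h2 : Subsingleton (KaehlerDifferential.ideal R A).Cotangent :=
      h1.subsingleton_kaehlerDifferential
    have h3 := (Ideal.cotangent_subsingleton_iff _).mp h2
    have h4 := (isIdempotentElem_ideal_iff (R := R) (A := A)).mp h3
    rw [pow_two]
    exact h4.eq
  · intro h
    have h4 : IsIdempotentElem (RingHom.ker (Bialgebra.counitAlgHom R A)) := by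
      show _ * _ = _
      rw [← pow_two]; exact h
    have h3 := (isIdempotentElem_ideal_iff (R := R) (A := A)).mpr h4
    have h2 : Subsingleton (KaehlerDifferential.ideal R A).Cotangent :=
      (Ideal.cotangent_subsingleton_iff _).mpr h3
    have h1 : Algebra.FormallyUnramified R A := ⟨h2⟩
    have hfp : Module.FinitePresentation R A := Module.finitePresentation_of_projective R A
    have hafp : Algebra.FinitePresentation R A := inferInstance
    have hflat : Module.Flat R A := inferInstance
    exact Algebra.Etale.of_formallyUnramified_of_flat

end Groth.Agent.S18472
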