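import Groth.Statements.S16674
import Groth.Agent.Lib.Helper14.HopfShear
import Groth.Agent.Lib.Helper14.HopfEtale
import Groth.Agent.S18472

set_option autoImplicit false
universe u
open CartDual

namespace Groth.Agent.S16674

open TensorProduct WithConv Groth.Agent.Lib.Helper14

section tr

variable (k : Type u) [Field k] (A : Type u) [CommRing A] [HopfAlgebra k A] [FiniteDimensional k A]

omit [FiniteDimensional k A] in
lemma mulLeft_tmul (x y : A) : LinearMap.mulLeft k (x ⊗ₜ[k] y) =
    TensorProduct.map (LinearMap.mulLeft k x) (LinearMap.mulLeft k y) := by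
  apply TensorProduct.ext'
  intro a b
  simp

/-- the trace of `A ⊗ A` is the tensor square of the trace -/
lemma trace_tensor (w : A ⊗[k] A) :
    LinearMap.mul' k k (TensorProduct.map (Algebra.trace k A) (Algebra.trace k A) w) =
      Algebra.trace k (A ⊗[k] A) w := by
  induction w using TensorProduct.induction_on with
  | zero => simp
  | tmul x y =>
    rw [TensorProduct.map_tmul, LinearMap.mul'_apply, Algebra.trace_apply, Algebra.trace_apply,
      Algebra.trace_apply]
    show _ = LinearMap.trace k _ (LinearMap.mulLeft k (x ⊗ₜ[k] y))
    rw [mulLeft_tmul, LinearMap.trace_tensorProduct']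
    rfl
  | add x y hx hy => rw [map_add, map_add, map_add, hx, hy]

omit [FiniteDimensional k A] in
lemma shear_right (a : A) : HopfShear.Φ (R := k) (A := A) (1 ⊗ₜ a) = Coalgebra.comul (R := k) a := by
  have h1 := congrArg (fun f : A →ₐ[k] A ⊗[k] A => f a) (HopfShear.Φ_comp_right (R := k) (A := A))
  simp only [AlgHom.comp_apply, Algebra.TensorProduct.includeRight_apply] at h1
  rw [h1]
  have h2 := AlgHom.convMul_apply (HopfShear.j₁ (R := k) (A := A)) HopfShear.j₂ a
  have h4 : ∀ w : A ⊗[k] A, (Algebra.TensorProduct.lift
      (Algebra.TensorProduct.includeLeft : A →ₐ[k] A ⊗[k] A)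
      (Algebra.TensorProduct.includeRight : A →ₐ[k] A ⊗[k] A) (fun _ _ => .all _ _)) w = w := by
    intro w
    induction w using TensorProduct.induction_on with
    | zero => simp
    | tmul x y => simp
    | add x y hx hy => rw [map_add, hx, hy]
  exact h2.trans (h4 _)

/-- `Tr(Δ a) = n · Tr(a)` -/
lemma trace_comul (a : A) :
    Algebra.trace k (A ⊗[k] A) (Coalgebra.comul (R := k) a) =
      (Module.finrank k A : k) * Algebra.trace k A a := by
  rw [← shear_right]
  have h1 : HopfShear.Φ (R := k) (A := A) (1 ⊗ₜ a) = (HopfShear.Ψe (R := k) (A := A)).symm (1 ⊗ₜ a) := rfl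
  rw [h1, Algebra.trace_eq_of_algEquiv, ← trace_tensor, TensorProduct.map_tmul, LinearMap.mul'_apply]
  congr 1
  have := Algebra.trace_algebraMap (R := k) (S := A) (1 : k)
  rw [map_one] at this
  rw [this]
  simp

end tr


/-- Let k be a field of characteristic p > 0 and A a finite-dimensional commutative and cocommutative
Hopf algebra over k, the coordinate ring of a finite commutative k-group scheme G, with Cartier dual
the convolution Hopf algebra Hom_k(A, k). Then G is étale-étale, i.e. both A and its dual are étale
k-algebras, if and only if p does not divide the rank dim_k A of G. -/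
theorem result (k : Type u) [Field k] (p : ℕ) [Fact p.Prime] [CharP k p]
    (A : Type u) [CommRing A] [HopfAlgebra k A] [Coalgebra.IsCocomm k A] [FiniteDimensional k A] :
    (Algebra.Etale k A ∧ Algebra.Etale k (CartDual.D k A)) ↔ ¬ p ∣ Module.finrank k A := by
  constructor
  · rintro ⟨hA, hD⟩ hp
    have hn : (Module.finrank k A : k) = 0 := (CharP.cast_eq_zero_iff k p _).mpr hp
    -- the integral idempotent of `A`
    have hI := (Groth.Agent.S18472.result k A).mp hA
    have hI' : IsIdempotentElem (RingHom.ker (Bialgebra.counitAlgHom k A)) := by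
      show _ * _ = _
      rw [← pow_two]; exact hI
    have hnoeth : IsNoetherianRing A := IsNoetherianRing.of_finite k A
    obtain ⟨e', he', hker⟩ := (Ideal.isIdempotentElem_iff_of_fg _
      (IsNoetherian.noetherian (RingHom.ker (Bialgebra.counitAlgHom k A)))).mp hI'
    have he'mem : e' ∈ RingHom.ker (Bialgebra.counitAlgHom k A) := by
      rw [hker]; exact Ideal.mem_span_singleton_self e'
    have hεe' : Coalgebra.counit (R := k) e' = 0 := he'mem
    have hmul : ∀ a : A, (1 - e') * a = Coalgebra.counit (R := k) a • (1 - e') := by
      intro a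
      have h1 : a - algebraMap k A (Coalgebra.counit (R := k) a) ∈
          RingHom.ker (Bialgebra.counitAlgHom k A) := by
        rw [RingHom.mem_ker, map_sub, AlgHom.commutes]
        simp
      rw [hker, Ideal.mem_span_singleton'] at h1
      obtain ⟨c, hc⟩ := h1
      have h2 : (1 - e') * (a - algebraMap k A (Coalgebra.counit (R := k) a)) = 0 := by
        rw [← hc]
        have : (1 - e') * (c * e') = c * (e' - e' * e') := by ring
        rw [this, he'.eq, sub_self, mul_zero]
      rw [mul_sub, sub_eq_zero] at h2
      rw [h2, Algebra.smul_def, mul_comm]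
    have htr : Algebra.trace k A (1 - e') = 1 := by
      rw [Algebra.trace_apply]
      have h1 : Algebra.lmul k A (1 - e') =
          (Coalgebra.counit (R := k) : A →ₗ[k] k).smulRight (1 - e') := by
        ext a
        exact hmul a
      rw [h1, LinearMap.trace_smulRight, map_sub, Bialgebra.counit_one, hεe', sub_zero]
    -- the trace as an element of the dual
    let Λ : CartDual.D k A := toConv (Algebra.trace k A)
    have hΛ : Λ * Λ = 0 := by
      apply WithConv.ofConv_injective
      ext a
      rw [LinearMap.convMul_apply]
      show LinearMap.mul' k k (TensorProduct.map (Algebra.trace k A) (Algebra.trace k A)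
        (Coalgebra.comul (R := k) a)) = 0
      rw [trace_tensor, trace_comul, hn, zero_mul]
    have hred : IsReduced (CartDual.D k A) := Algebra.FormallyUnramified.isReduced_of_field k _
    have hΛ0 : Λ = 0 := by
      have : IsNilpotent Λ := ⟨2, by rw [pow_two]; exact hΛ⟩
      exact this.eq_zero
    have h0 : Algebra.trace k A (1 - e') = 0 := by
      have := congrArg (fun x : CartDual.D k A => x.ofConv (1 - e')) hΛ0
      exact this
    rw [htr] at h0
    exact one_ne_zero h0
  · intro hp
    have hn : (Module.finrank k A : k) ≠ 0 := by
      rw [Ne, CharP.cast_eq_zero_iff k p]; exact hp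
    refine ⟨HopfOrder.etale_of_finrank_ne_zero k A hn, HopfOrder.etale_of_finrank_ne_zero k _ ?_⟩
    have h1 : Module.finrank k (CartDual.D k A) = Module.finrank k A := by
      rw [LinearEquiv.finrank_eq (CartDual.toDual k A), Subspace.dual_finrank_eq]
    rw [h1]
    exact hn

end Groth.Agent.S16674
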