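import Groth.Statements.S1668
import Mathlib
import Groth.Agent.Lib.Helper22.SchNormalAt
import Groth.Agent.Lib.Helper22.SchNormal3
-- import your own Groth.Agent.* helpers here

set_option autoImplicit false
universe u
open CategoryTheory CategoryTheory.Limits AlgebraicGeometry
open Variety

namespace Groth.Agent.S1668

/-- Let X be a scheme over k such that X_{k'} is a normal scheme (all local rings integrally closed
domains) for every finite purely inseparable extension k' of k. Then X_K is a normal scheme for
every field extension K of k. -/
theorem result (k : Type u) [Field k] (X : Scheme.{u}) [X.Over (Spec (CommRingCat.of k))]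
    (h : ∀ (k' : Type u) [Field k'] [Algebra k k'] [FiniteDimensional k k'] [IsPurelyInseparable k k'],
      Pi1.IsNormalScheme (Curv2.bc k X k'))
    (K : Type u) [Field K] [Algebra k K] : Pi1.IsNormalScheme (Curv2.bc k X K) := by
  apply Groth.Agent.Lib.Helper22.SchNormal.isNormalScheme_bc_of_forall
  intro U hU
  letI := Groth.Agent.Lib.Helper22.RedBC.secAlgebra k X U hU
  apply Groth.Agent.Lib.Helper22.SchNormalAt.isNormalRing_tensor_of_PI
  intro k' _ _ hfin hpi
  haveI : FiniteDimensional k k' := hfin
  obtain ⟨d, -⟩ := Groth.Agent.Lib.Helper22.RedBC.exists_iso_spec_tensor k X U hU k'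
  exact Groth.Agent.Lib.Helper22.SchNormal.isNormalRing_of_openImmersion_spec
    (CommRingCat.of (TensorProduct k k' Γ(X, U)))
    (d.inv ≫ ((Curv2.bcFst k X k') ⁻¹ᵁ U).ι) (h k')

end Groth.Agent.S1668
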