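import Groth.Statements.S16688
-- import your own Groth.Agent.* helpers here
import Groth.Agent.Lib.helper10.AntiComul

set_option autoImplicit false
universe u v w
open ComodSub

namespace Groth.Agent.S16688

open TensorProduct Coalgebra HopfAlgebra Groth.Agent.Lib.helper10.AntiComul

section
variable {k : Type u} [CommRing k] {A : Type v} [CommRing A] [HopfAlgebra k A]
  {M : Type w} [AddCommGroup M] [Module k M]

/-- `a ⊗ m ↦ m ⊗ S a` -/
noncomputable def Psi : A ⊗[k] M →ₗ[k] M ⊗[k] A :=
  (TensorProduct.comm k A M).toLinearMap ∘ₗ (antipode k (A := A)).rTensor M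

@[simp] lemma Psi_tmul (a : A) (m : M) : Psi (k := k) (a ⊗ₜ[k] m) = m ⊗ₜ[k] antipode k a := by
  simp [Psi]

/-- `a ⊗ (b ⊗ m) ↦ m ⊗ (S b ⊗ S a)` -/
noncomputable def Phi : A ⊗[k] (A ⊗[k] M) →ₗ[k] M ⊗[k] (A ⊗[k] A) :=
  (antiSwap (k := k) (A := A)).lTensor M ∘ₗ (TensorProduct.comm k (A ⊗[k] A) M).toLinearMap ∘ₗ
    (TensorProduct.assoc k A A M).symm.toLinearMap

@[simp] lemma Phi_tmul (a b : A) (m : M) :
    Phi (k := k) (a ⊗ₜ[k] (b ⊗ₜ[k] m)) = m ⊗ₜ[k] (antipode k b ⊗ₜ[k] antipode k a) := by
  simp [Phi]

lemma keyA (lam : M →ₗ[k] A ⊗[k] M) (x : A ⊗[k] M) :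
    TensorProduct.assoc k M A A (((Psi (k := k) ∘ₗ lam).rTensor A) (Psi (k := k) x)) =
      Phi (k := k) (lam.lTensor A x) := by
  induction x using TensorProduct.induction_on with
  | zero => simp
  | add x y hx hy => simp only [map_add, hx, hy]
  | tmul a m =>
    simp only [Psi_tmul, LinearMap.rTensor_tmul, LinearMap.lTensor_tmul, LinearMap.comp_apply]
    generalize lam m = y
    induction y using TensorProduct.induction_on with
    | zero => simp
    | add x y hx hy => simp only [map_add, TensorProduct.add_tmul, TensorProduct.tmul_add, hx, hy]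
    | tmul b m' => simp

lemma keyB (x : A ⊗[k] M) :
    (comul (R := k) (A := A)).lTensor M (Psi (k := k) x) =
      Phi (k := k) (TensorProduct.assoc k A A M ((comul (R := k) (A := A)).rTensor M x)) := by
  induction x using TensorProduct.induction_on with
  | zero => simp
  | add x y hx hy => simp only [map_add, hx, hy]
  | tmul a m =>
    simp only [Psi_tmul, LinearMap.rTensor_tmul, LinearMap.lTensor_tmul, comul_antipode]
    generalize comul (R := k) a = y
    induction y using TensorProduct.induction_on with
    | zero => simp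
    | add x y hx hy => simp only [map_add, TensorProduct.add_tmul, TensorProduct.tmul_add, hx, hy]
    | tmul b c => simp

lemma keyC (x : A ⊗[k] M) :
    (counit (R := k) (A := A)).lTensor M (Psi (k := k) x) =
      TensorProduct.comm k k M ((counit (R := k) (A := A)).rTensor M x) := by
  induction x using TensorProduct.induction_on with
  | zero => simp
  | add x y hx hy => simp only [map_add, hx, hy]
  | tmul a m => simp

end

/-- Let `k` be a commutative ring, `A` a commutative Hopf algebra over `k` with antipode `S`, and `M` a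
`k`-module with a left `A`-comodule structure `m ↦ Σ m₋₁ ⊗ m₀`. Then the map `M → M ⊗ A`, `m ↦ Σ m₀
⊗ S(m₋₁)`, is coassociative and counital: it is the coaction of a right `A`-comodule structure on
`M` (a right structure is determined by its coaction, so this structure is unique). -/
theorem result (k : Type u) [CommRing k]
    (A : Type v) [CommRing A] [HopfAlgebra k A]
    (M : Type w) [AddCommGroup M] [Module k M] (l : ComodSub.LComod k A M) :
    ∃ c : HopfRep.Comod k A M, c.coact = ComodSub.rcoactOfLeft l := by
  have hρ : ComodSub.rcoactOfLeft l = Psi (k := k) ∘ₗ l.coact := rfl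
  refine ⟨{ coact := ComodSub.rcoactOfLeft l, coassoc := ?_, counit_comp := ?_ }, rfl⟩
  · ext m
    simp only [LinearMap.comp_apply, LinearEquiv.coe_coe]
    rw [hρ, LinearMap.comp_apply, keyA, keyB]
    congr 1
    exact LinearMap.congr_fun l.coassoc m
  · ext m
    simp only [LinearMap.comp_apply]
    rw [hρ, LinearMap.comp_apply, keyC]
    have := LinearMap.congr_fun l.counit_comp m
    simp only [LinearMap.comp_apply] at this
    rw [this]
    simp

end Groth.Agent.S16688
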