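import Groth.Statements.S16689
-- import your own Groth.Agent.* helpers here
import Groth.Agent.Lib.helper10.AntiComul

set_option autoImplicit false
universe u v w
open ComodSub

namespace Groth.Agent.S16689

open TensorProduct Coalgebra HopfAlgebra Groth.Agent.Lib.helper10.AntiComul

section
variable {k : Type u} [CommRing k] {A : Type v} [CommRing A] [HopfAlgebra k A]
  {M : Type w} [AddCommGroup M] [Module k M]

/-- `m ⊗ a ↦ S a ⊗ m` -/
noncomputable def Psi : M ⊗[k] A →ₗ[k] A ⊗[k] M :=
  (TensorProduct.comm k M A).toLinearMap ∘ₗ (antipode k (A := A)).lTensor M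

@[simp] lemma Psi_tmul (a : A) (m : M) : Psi (k := k) (m ⊗ₜ[k] a) = antipode k a ⊗ₜ[k] m := by
  simp [Psi]

/-- `(m ⊗ a) ⊗ b ↦ S b ⊗ (S a ⊗ m)` -/
noncomputable def Phi : (M ⊗[k] A) ⊗[k] A →ₗ[k] A ⊗[k] (A ⊗[k] M) :=
  (TensorProduct.assoc k A A M).toLinearMap ∘ₗ (antiSwap (k := k) (A := A)).rTensor M ∘ₗ
    (TensorProduct.comm k M (A ⊗[k] A)).toLinearMap ∘ₗ (TensorProduct.assoc k M A A).toLinearMap

@[simp] lemma Phi_tmul (a b : A) (m : M) :
    Phi (k := k) ((m ⊗ₜ[k] a) ⊗ₜ[k] b) = antipode k b ⊗ₜ[k] (antipode k a ⊗ₜ[k] m) := by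
  simp [Phi]

lemma keyA (rho : M →ₗ[k] M ⊗[k] A) (x : M ⊗[k] A) :
    ((Psi (k := k) ∘ₗ rho).lTensor A) (Psi (k := k) x) =
      Phi (k := k) (rho.rTensor A x) := by
  induction x using TensorProduct.induction_on with
  | zero => simp
  | add x y hx hy => simp only [map_add, hx, hy]
  | tmul m a =>
    simp only [Psi_tmul, LinearMap.rTensor_tmul, LinearMap.lTensor_tmul, LinearMap.comp_apply]
    generalize rho m = y
    induction y using TensorProduct.induction_on with
    | zero => simp
    | add x y hx hy => simp only [map_add, TensorProduct.add_tmul, TensorProduct.tmul_add, hx, hy]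
    | tmul m' b => simp

lemma keyB (x : M ⊗[k] A) :
    TensorProduct.assoc k A A M ((comul (R := k) (A := A)).rTensor M (Psi (k := k) x)) =
      Phi (k := k) ((TensorProduct.assoc k M A A).symm ((comul (R := k) (A := A)).lTensor M x)) := by
  induction x using TensorProduct.induction_on with
  | zero => simp
  | add x y hx hy => simp only [map_add, hx, hy]
  | tmul m a =>
    simp only [Psi_tmul, LinearMap.rTensor_tmul, LinearMap.lTensor_tmul, comul_antipode]
    generalize comul (R := k) a = y
    induction y using TensorProduct.induction_on with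
    | zero => simp
    | add x y hx hy => simp only [map_add, TensorProduct.add_tmul, TensorProduct.tmul_add, hx, hy]
    | tmul b c => simp

lemma keyC (x : M ⊗[k] A) :
    (counit (R := k) (A := A)).rTensor M (Psi (k := k) x) =
      TensorProduct.comm k M k ((counit (R := k) (A := A)).lTensor M x) := by
  induction x using TensorProduct.induction_on with
  | zero => simp
  | add x y hx hy => simp only [map_add, hx, hy]
  | tmul m a => simp

end

/-- Let `k` be a commutative ring, `A` a commutative Hopf algebra over `k` with antipode `S`, and `M` a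
`k`-module with a right `A`-comodule structure `m ↦ Σ m₀ ⊗ m₁`. Then the map `M → A ⊗ M`, `m ↦ Σ
S(m₁) ⊗ m₀`, is coassociative and counital: it is the coaction of a left `A`-comodule structure on
`M` (a left structure is determined by its coaction, so this structure is unique). -/
theorem result (k : Type u) [CommRing k]
    (A : Type v) [CommRing A] [HopfAlgebra k A]
    (M : Type w) [AddCommGroup M] [Module k M] (c : HopfRep.Comod k A M) :
    ∃ l : ComodSub.LComod k A M, l.coact = ComodSub.lcoactOfRight c := by
  have hρ : ComodSub.lcoactOfRight c = Psi (k := k) ∘ₗ c.coact := rfl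
  refine ⟨{ coact := ComodSub.lcoactOfRight c, coassoc := ?_, counit_comp := ?_ }, rfl⟩
  · ext m
    simp only [LinearMap.comp_apply, LinearEquiv.coe_coe]
    rw [hρ, LinearMap.comp_apply, keyA, keyB]
    congr 1
    have := LinearMap.congr_fun c.coassoc m
    simp only [LinearMap.comp_apply, LinearEquiv.coe_coe] at this
    rw [← this, LinearEquiv.symm_apply_apply]
  · ext m
    simp only [LinearMap.comp_apply]
    rw [hρ, LinearMap.comp_apply, keyC]
    have := LinearMap.congr_fun c.counit_comp m
    simp only [LinearMap.comp_apply] at this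
    rw [this]
    simp

end Groth.Agent.S16689
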