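import Groth.Statements.S16690
import Groth.Agent.Lib.Helper25.DualFP

set_option autoImplicit false
universe u v w
open ComodSub

namespace Groth.Agent.S16690

open TensorProduct

section Helpers

variable {k : Type u} [CommRing k] {A : Type v} [AddCommGroup A] [Module k A]
  {M : Type w} [AddCommGroup M] [Module k M]

/-- reading map `N ⊗ M^* → Hom(M, N)`. -/
noncomputable def rd (N : Type*) [AddCommGroup N] [Module k N] :
    N ⊗[k] Module.Dual k M →ₗ[k] (M →ₗ[k] N) :=
  dualTensorHom k M N ∘ₗ (TensorProduct.comm k N (Module.Dual k M)).toLinearMap

lemma rd_tmul (N : Type*) [AddCommGroup N] [Module k N] (n : N) (φ : Module.Dual k M) (m : M) :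
    rd (k := k) (M := M) N (n ⊗ₜ φ) m = φ m • n := by
  simp [rd]

lemma rd_rTensor {N N' : Type*} [AddCommGroup N] [Module k N] [AddCommGroup N'] [Module k N']
    (f : N →ₗ[k] N') (x : N ⊗[k] Module.Dual k M) :
    rd (k := k) (M := M) N' (f.rTensor _ x) = f ∘ₗ rd N x := by
  induction x using TensorProduct.induction_on with
  | zero => simp
  | tmul n φ =>
    ext m
    simp [rd_tmul]
  | add x y hx hy => simp only [map_add, hx, hy, LinearMap.comp_add]

lemma rd_injective (N : Type*) [AddCommGroup N] [Module k N] [Module.Flat k N]
    [Module.FinitePresentation k M] : Function.Injective (rd (k := k) (M := M) N) := by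
  unfold rd
  rw [LinearMap.coe_comp]
  exact (Groth.Agent.Lib.Helper25.DualFP.dualTensorHom_bijective_of_fp_flat M N).1.comp
    (TensorProduct.comm k N (Module.Dual k M)).injective

end Helpers

/-- Let `k` be a commutative ring, `A` a `k`-coalgebra that is flat over `k`, and `M` a finitely
presented `k`-module with a right `A`-comodule structure `m ↦ Σ m₀ ⊗ m₁`. Then the dual module `M^*
= Hom(M, k)` carries a left `A`-comodule structure whose coaction sends a form `g` to the element of
`A ⊗ M^*` that reads, through `a ⊗ φ ↦ (m ↦ φ(m) a)`, as the map `m ↦ Σ g(m₀) m₁` (the left dual of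
the given structure). (The published statement takes coalgebras to be commutative algebras whose
comultiplication and counit are algebra maps; the construction uses no multiplication on `A`, so
here `A` is any flat coalgebra.) -/
theorem result (k : Type u) [CommRing k]
    (A : Type v) [AddCommGroup A] [Module k A] [Coalgebra k A] [Module.Flat k A]
    (M : Type w) [AddCommGroup M] [Module k M] [Module.FinitePresentation k M]
    (c : HopfRep.Comod k A M) :
    ∃ l : ComodSub.LComod k A (Module.Dual k M), ComodSub.LComod.IsLDual c l := by
  classical
  have hbij := Groth.Agent.Lib.Helper25.DualFP.dualTensorHom_bijective_of_fp_flat (k := k) M A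
  let e : A ⊗[k] Module.Dual k M ≃ₗ[k] (M →ₗ[k] A) :=
    (TensorProduct.comm k A (Module.Dual k M)).trans (LinearEquiv.ofBijective _ hbij)
  have he : ∀ x, e x = rd A x := fun x => rfl
  let L : Module.Dual k M →ₗ[k] (M →ₗ[k] A) :=
    { toFun := fun g => ldualFun c g
      map_add' := by
        intro g g'
        ext m
        simp [ldualFun_apply, LinearMap.rTensor_add]
      map_smul' := by
        intro r g
        ext m
        simp [ldualFun_apply, LinearMap.rTensor_smul] }
  let co : Module.Dual k M →ₗ[k] A ⊗[k] Module.Dual k M := e.symm.toLinearMap ∘ₗ L
  have hco : ∀ g, rd A (co g) = ldualFun c g := by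
    intro g
    rw [← he]
    exact e.apply_symm_apply _
  -- the key identity for the coassociativity
  have hkey : ∀ x : A ⊗[k] Module.Dual k M,
      rd (k := k) (M := M) (A ⊗[k] A) ((TensorProduct.assoc k A A (Module.Dual k M)).symm
        (co.lTensor A x)) = (rd A x).rTensor A ∘ₗ c.coact := by
    intro x
    induction x using TensorProduct.induction_on with
    | zero => simp
    | tmul a φ =>
      have h1 : (TensorProduct.assoc k A A (Module.Dual k M)).symm (co.lTensor A (a ⊗ₜ φ)) =
          (TensorProduct.mk k A A a).rTensor _ (co φ) := by
        rw [LinearMap.lTensor_tmul]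
        generalize co φ = z
        induction z using TensorProduct.induction_on with
        | zero => simp
        | tmul b ψ => simp
        | add z z' hz hz' => simp only [tmul_add, map_add, hz, hz']
      rw [h1, rd_rTensor, hco]
      ext m
      simp only [LinearMap.comp_apply, ldualFun_apply]
      generalize c.coact m = w
      induction w using TensorProduct.induction_on with
      | zero => simp
      | tmul m' b =>
        simp only [LinearMap.rTensor_tmul, TensorProduct.lid_tmul, TensorProduct.mk_apply,
          rd_tmul, TensorProduct.smul_tmul, TensorProduct.tmul_smul]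
      | add w w' hw hw' => simp only [map_add, hw, hw']
    | add x y hx hy => simp only [map_add, hx, hy, LinearMap.rTensor_add, LinearMap.add_comp]
  refine ⟨{ coact := co, coassoc := ?_, counit_comp := ?_ }, ?_⟩
  · apply LinearMap.ext
    intro g
    apply (TensorProduct.assoc k A A (Module.Dual k M)).symm.injective
    apply rd_injective (k := k) (M := M) (A ⊗[k] A)
    simp only [LinearMap.comp_apply, LinearEquiv.coe_coe, LinearEquiv.symm_apply_apply]
    rw [hkey, rd_rTensor, hco]
    ext m
    simp only [LinearMap.comp_apply]
    have hc := LinearMap.congr_fun c.coassoc m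
    simp only [LinearMap.comp_apply, LinearEquiv.coe_coe] at hc
    have h2 : (ldualFun c g).rTensor A (c.coact m) =
        ((TensorProduct.lid k A).toLinearMap.rTensor A) (((g.rTensor A).rTensor A)
          ((c.coact.rTensor A) (c.coact m))) := by
      have : (ldualFun c g).rTensor A = (TensorProduct.lid k A).toLinearMap.rTensor A ∘ₗ
          (g.rTensor A).rTensor A ∘ₗ c.coact.rTensor A := by
        rw [← LinearMap.rTensor_comp, ← LinearMap.rTensor_comp]
        rfl
      rw [this]
      rfl
    rw [h2]
    have h3 : (c.coact.rTensor A) (c.coact m) =
        (TensorProduct.assoc k M A A).symm ((CoalgebraStruct.comul (R := k) (A := A)).lTensor M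
          (c.coact m)) := by
      rw [← hc, LinearEquiv.symm_apply_apply]
    rw [h3, ldualFun_apply]
    generalize c.coact m = w
    induction w using TensorProduct.induction_on with
    | zero => simp
    | tmul m' b =>
      simp only [LinearMap.lTensor_tmul, LinearMap.rTensor_tmul, TensorProduct.lid_tmul, map_smul]
      generalize (CoalgebraStruct.comul (R := k) (A := A)) b = t
      induction t using TensorProduct.induction_on with
      | zero => simp
      | tmul b1 b2 =>
        simp [TensorProduct.smul_tmul']
      | add t t' ht ht' => simp only [tmul_add, map_add, smul_add, ht, ht']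
    | add w w' hw hw' => simp only [map_add, hw, hw']
  · apply LinearMap.ext
    intro g
    apply rd_injective (k := k) (M := M) k
    simp only [LinearMap.comp_apply]
    rw [rd_rTensor, hco]
    ext m
    simp only [LinearMap.comp_apply, TensorProduct.mk_apply, rd_tmul, ldualFun_apply]
    have hc := LinearMap.congr_fun c.counit_comp m
    simp only [LinearMap.comp_apply, LinearMap.flip_apply, TensorProduct.mk_apply] at hc
    have h4 : ∀ w : M ⊗[k] A, (CoalgebraStruct.counit (R := k) (A := A))
        (TensorProduct.lid k A (g.rTensor A w)) =
        TensorProduct.lid k k (g.rTensor k ((CoalgebraStruct.counit (R := k) (A := A)).lTensor M w)) := by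
      intro w
      induction w using TensorProduct.induction_on with
      | zero => simp
      | tmul m' b => simp
      | add w w' hw hw' => simp only [map_add, hw, hw']
    rw [h4, hc]
    simp
  · intro g
    exact hco g

end Groth.Agent.S16690
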