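import Groth.Statements.S16699
import Groth.Agent.Lib.Helper27.FpSwap
import Groth.Agent.Lib.Helper27.LocQOver
import Groth.Agent.Lib.Helper27.LocQChart
import Groth.Agent.Lib.Helper27.Descent

set_option autoImplicit false
universe u
open AlgSt AlgSt.IsWellNighAffine

namespace Groth.Agent.S16699

open CategoryTheory AlgebraicGeometry in
/-- An algebraic stack affine over a well-nigh affine algebraic stack is well-nigh affine. -/
theorem result (S : Scheme.{u}) (𝒳 𝒳' : AlgSt.Cat S)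
    (h𝒳 : AlgSt.IsAlgStack Scheme.fppfPrecoverage 𝒳) (h𝒳' : AlgSt.IsAlgStack Scheme.fppfPrecoverage 𝒳')
    (hw : AlgSt.IsWellNighAffine 𝒳) (f : 𝒳' ⥤ᵇ 𝒳) (hf : AlgSt.RepByAlgSpWith AlgSp.IsAffineMor f) :
    AlgSt.IsWellNighAffine 𝒳' := by
  obtain ⟨U, x, hU, hx⟩ := hw
  obtain ⟨F, e, he, hP⟩ := hf U x
  obtain ⟨W, i, fst, hpb, hW⟩ := hP hU (𝟙 _)
  have hiso : IsIso fst := hpb.isIso_fst_of_isIso
  have hiso' : IsIso fst.hom :=
    inferInstanceAs (IsIso ((ObjectProperty.ι _).map fst))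
  have h1 := Groth.Agent.Lib.Helper27.FpSwap.repByAlgSpWith_fpSnd
    (AlgSp.IsSurjectiveMor ⊓ AlgSp.LocP @Flat ⊓ AlgSp.IsFiniteMor ⊓
      AlgSp.LocP @LocallyOfFinitePresentation) f x hx
  let E : FibCat.overCat W ⥤ᵇ FibCat.fp x f :=
    BasedFunctor.comp (BasedFunctor.comp (AlgSt.ofOverCat W) (AlgSt.ofSpMap fst)) e
  have hE : FibCat.IsEquivOver E :=
    Groth.Agent.Lib.Helper27.FpKit.isEquivOver_comp _ _
      (Groth.Agent.Lib.Helper27.FpKit.isEquivOver_comp _ _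
        (Groth.Agent.Lib.Helper27.Descent.isEquivOver_ofOverCat W)
        (Groth.Agent.Lib.Helper27.LocQChart.isEquivOver_ofPshMap_of_isIso fst.hom)) he
  exact ⟨W, BasedFunctor.comp E (FibCat.fpSnd x f), hW,
    Groth.Agent.Lib.Helper27.LocQOver.repByAlgSpWith_equiv_comp _ E hE _ h1⟩

end Groth.Agent.S16699
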