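import Groth.Statements.S1670
import Groth.Agent.Lib.Helper18.GalFibre
open Groth.Agent.Lib.Helper18.GalFibre

set_option autoImplicit false
universe u
open CategoryTheory CategoryTheory.Limits AlgebraicGeometry
open Variety

namespace Groth.Agent.S1670

/-- Let X be locally of finite type over k, K a separable closure of k, and T an irreducible component
of X. Then the inverse image of T in X_K is the union of the finitely many irreducible components of
X_K mapping into T, and these form a single orbit under the action of the k-automorphisms of K on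
X_K. -/
theorem result (k : Type u) [Field k] (X : Scheme.{u}) [X.Over (Spec (CommRingCat.of k))] [LocallyOfFiniteType (X ↘ (Spec (CommRingCat.of k)))]
    (T : Set X) (hT : T ∈ irreducibleComponents (X : Type u)) :
    {T' : Set (Curv2.bc k X (SeparableClosure k)) | T' ∈ irreducibleComponents (Curv2.bc k X (SeparableClosure k) : Type u) ∧
        (Curv2.bcFst k X (SeparableClosure k)).base '' T' ⊆ T}.Finite ∧
      (Curv2.bcFst k X (SeparableClosure k)).base ⁻¹' T = ⋃₀ {T' : Set (Curv2.bc k X (SeparableClosure k)) | T' ∈ irreducibleComponents (Curv2.bc k X (SeparableClosure k) : Type u) ∧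
        (Curv2.bcFst k X (SeparableClosure k)).base '' T' ⊆ T} ∧
      ∀ T' T'' : Set (Curv2.bc k X (SeparableClosure k)), T' ∈ irreducibleComponents (Curv2.bc k X (SeparableClosure k) : Type u) →
        T'' ∈ irreducibleComponents (Curv2.bc k X (SeparableClosure k) : Type u) →
        (Curv2.bcFst k X (SeparableClosure k)).base '' T' ⊆ T → (Curv2.bcFst k X (SeparableClosure k)).base '' T'' ⊆ T →
        ∃ σ : (SeparableClosure k) ≃ₐ[k] (SeparableClosure k), (Curv2.galAct k X (SeparableClosure k) σ).base '' T' = T'' := by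
  let f := X ↘ Spec (CommRingCat.of k)
  have hTcl : IsClosed T := isClosed_of_mem_irreducibleComponents _ hT
  obtain ⟨η, hη⟩ := QuasiSober.sober hT.1 hTcl
  -- generic points of members of S lie over η
  have hgen : ∀ T' : Set (Curv2.bc k X (SeparableClosure k)),
      T' ∈ irreducibleComponents (Curv2.bc k X (SeparableClosure k) : Type u) →
      (Curv2.bcFst k X (SeparableClosure k)).base '' T' ⊆ T →
      ∃ ξ', IsGenericPoint ξ' T' ∧ (Curv2.bcFst k X (SeparableClosure k)).base ξ' = η := by
    intro T' hT' hsub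
    have hcl : IsClosed T' := isClosed_of_mem_irreducibleComponents _ hT'
    obtain ⟨ξ', hξ'⟩ := QuasiSober.sober hT'.1 hcl
    exact ⟨ξ', hξ', fst_generic_eq (K := SeparableClosure k) f hT hη hT' hξ' (hsub ⟨ξ', hξ'.mem, rfl⟩)⟩
  refine ⟨?_, ?_, ?_⟩
  · have hfin := finite_fibre (K := SeparableClosure k) f η
    refine (hfin.image (fun ξ => closure {ξ})).subset ?_
    rintro T' ⟨hT', hsub⟩
    obtain ⟨ξ', hξ', hξη⟩ := hgen T' hT' hsub
    exact ⟨ξ', hξη, hξ'.def⟩
  · apply Set.Subset.antisymm
    · intro t ht
      obtain ⟨T', hT', htT', hsub⟩ := exists_component_of_mem (K := SeparableClosure k) f hT t ht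
      exact ⟨T', ⟨hT', hsub⟩, htT'⟩
    · rintro t ⟨T', ⟨_, hsub⟩, htT'⟩
      exact hsub ⟨t, htT', rfl⟩
  · intro T' T'' hT' hT'' hsub' hsub''
    obtain ⟨ξ', hξ', hξη'⟩ := hgen T' hT' hsub'
    refine exists_actOf_image_eq (K := SeparableClosure k) f hT' hT'' ?_
    intro ξ hξ
    refine ⟨ξ', hξ'.mem, ?_⟩
    have := fst_generic_eq (K := SeparableClosure k) f hT hη hT'' hξ (hsub'' ⟨ξ, hξ.mem, rfl⟩)
    exact hξη'.trans this.symm

end Groth.Agent.S1670
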