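import Groth.Statements.S16707
import Mathlib.RingTheory.Flat.Equalizer
import Mathlib.LinearAlgebra.TensorProduct.Quotient
import Mathlib.LinearAlgebra.TensorProduct.RightExactness

set_option autoImplicit false
universe u v
open CAlg

namespace Groth.Agent.S16707

open TensorProduct in
theorem subsingleton_of_subsingleton_tensor (A : Type u) [CommRing A] (I : Ideal A)
    (hI : IsNilpotent I) (Q : Type v) [AddCommGroup Q] [Module A Q]
    (h : Subsingleton ((A ⧸ I) ⊗[A] Q)) : Subsingleton Q := by
  have e := TensorProduct.quotTensorEquivQuotSMul Q I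
  have h1 : Subsingleton (Q ⧸ (I • (⊤ : Submodule A Q))) := e.symm.injective.subsingleton
  have h2 : I • (⊤ : Submodule A Q) = ⊤ := Submodule.Quotient.subsingleton_iff.1 h1
  have h3 : ∀ k : ℕ, I ^ k • (⊤ : Submodule A Q) = ⊤ := by
    intro k
    induction k with
    | zero => simp
    | succ k ih => rw [pow_succ, Submodule.mul_smul, h2, ih]
  obtain ⟨n, hn⟩ := hI
  have h4 := h3 n
  rw [hn, Ideal.zero_eq_bot, Submodule.bot_smul] at h4
  exact (Submodule.subsingleton_iff A).1 (subsingleton_of_bot_eq_top h4)

open TensorProduct in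
/-- Let A be a commutative ring, I a nilpotent ideal of A and f : M → N a homomorphism of A-modules with
N flat over A (no finiteness assumption on M or N). If the base change of f to A/I, that is M/IM →
N/IN, is bijective, then f is bijective. -/
theorem result (A : Type u) [CommRing A] (I : Ideal A)
    (hI : IsNilpotent I) (M N : Type v) [AddCommGroup M] [Module A M] [AddCommGroup N] [Module A N]
    [Module.Flat A N] (f : M →ₗ[A] N)
    (hf : Function.Bijective (f.baseChange (A ⧸ I))) :
    Function.Bijective f := by
  have hinjT : Function.Injective (f.lTensor (A ⧸ I)) := hf.1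
  have hsurjT : Function.Surjective (f.lTensor (A ⧸ I)) := hf.2
  have hsurj : Function.Surjective f := by
    have hex : Function.Exact f (LinearMap.range f).mkQ := LinearMap.exact_map_mkQ_range f
    have hex' := lTensor_exact (A ⧸ I) hex (Submodule.mkQ_surjective _)
    have hs' : Function.Surjective ((LinearMap.range f).mkQ.lTensor (A ⧸ I)) :=
      LinearMap.lTensor_surjective _ (Submodule.mkQ_surjective _)
    have hsub : Subsingleton ((A ⧸ I) ⊗[A] (N ⧸ LinearMap.range f)) := by
      refine ⟨fun x y => ?_⟩
      obtain ⟨x', rfl⟩ := hs' x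
      obtain ⟨y', rfl⟩ := hs' y
      obtain ⟨x'', rfl⟩ := hsurjT x'
      obtain ⟨y'', rfl⟩ := hsurjT y'
      rw [hex'.apply_apply_eq_zero, hex'.apply_apply_eq_zero]
    have := subsingleton_of_subsingleton_tensor A I hI _ hsub
    rw [← LinearMap.range_eq_top, ← Submodule.Quotient.subsingleton_iff]
    exact this
  refine ⟨?_, hsurj⟩
  have hex : Function.Exact (LinearMap.ker f).subtype f := LinearMap.exact_subtype_ker_map f
  have hK := LinearMap.lTensor_injective_of_exact_of_flat f hsurj (LinearMap.ker f).subtype
    (Submodule.subtype_injective _) hex (A ⧸ I)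
  have hsub : Subsingleton ((A ⧸ I) ⊗[A] (LinearMap.ker f)) := by
    refine ⟨fun x y => hK (hinjT ?_)⟩
    have hz : ∀ z, f.lTensor (A ⧸ I) ((LinearMap.ker f).subtype.lTensor (A ⧸ I) z) = 0 := by
      intro z
      rw [← LinearMap.comp_apply, ← LinearMap.lTensor_comp]
      have : f ∘ₗ (LinearMap.ker f).subtype = 0 := by
        ext k; exact k.2
      rw [this, LinearMap.lTensor_zero, LinearMap.zero_apply]
    rw [hz, hz]
  have := subsingleton_of_subsingleton_tensor A I hI _ hsub
  rw [← LinearMap.ker_eq_bot, ← Submodule.subsingleton_iff_eq_bot]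
  exact this

end Groth.Agent.S16707
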