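import Groth.Statements.S16708
import Groth.Agent.Lib.Helper25.HopfInt
-- import your own Groth.Agent.* helpers here

set_option autoImplicit false
universe u
open HopfRep

namespace Groth.Agent.S16708

/-- Let G be a finite group and k a field in which the order of G is a nonzero element. Then the
constant group scheme of G over k is linearly reductive: every finite-dimensional comodule over its
coordinate Hopf algebra (the algebra of functions G → k with the Hopf structure of the constant
group) is semisimple, i.e. every subcomodule admits a complementary subcomodule. -/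
theorem result (k : Type u) [Field k] (G : Type u) [Group G]
    [Fintype G] [DecidableEq G] (hG : ((Fintype.card G : ℕ) : k) ≠ 0) :
    HopfRep.IsLinearlyReductive k (ConstGrp.F k G) := by
  intro V _ _ _ _
  let α : ConstGrp.F k G →ₗ[k] k :=
    ((Fintype.card G : ℕ) : k)⁻¹ • ∑ g : G, (ConstGrp.ev k g).toLinearMap
  have hαe : ∀ g : G, α (ConstGrp.e k g) = ((Fintype.card G : ℕ) : k)⁻¹ := by
    intro g
    simp only [α, LinearMap.smul_apply, LinearMap.sum_apply, AlgHom.toLinearMap_apply,
      ConstGrp.ev_apply, ConstGrp.e_apply]
    simp
  refine Groth.Agent.Lib.Helper25.HopfInt.isSemisimpleComod_of_integral α ?_ ?_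
  · intro f
    have : LinearMap.rTensor (ConstGrp.F k G) α ∘ₗ CoalgebraStruct.comul (R := k) (A := ConstGrp.F k G) =
        (TensorProduct.mk k k (ConstGrp.F k G)).flip 1 ∘ₗ α := by
      apply ConstGrp.linearMap_ext
      intro g
      simp only [LinearMap.comp_apply, ConstGrp.comul_e, map_sum, LinearMap.rTensor_tmul, hαe,
        LinearMap.flip_apply, TensorProduct.mk_apply]
      rw [← TensorProduct.tmul_sum]
      congr 1
      rw [← ConstGrp.sum_e (R := k) (G := G)]
      exact Fintype.sum_equiv ((Equiv.inv G).trans (Equiv.mulRight g)) _ _ fun a => rfl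
    exact LinearMap.congr_fun this f
  · simp only [α, LinearMap.smul_apply, LinearMap.sum_apply, AlgHom.toLinearMap_apply,
      ConstGrp.ev_apply, ConstGrp.one_apply]
    simp [hG]

end Groth.Agent.S16708
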