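import Groth.Statements.S16713
import Groth.Agent.Lib.helper10.LciH1

set_option autoImplicit false
universe u
open CotT

namespace Groth.Agent.S16713

/-- The final assertion, in the case where the base is a field. Let k be a field and A a k-algebra which
is a local complete intersection over k (of finite type, presented by a polynomial algebra in
finitely many variables with Koszul-regular kernel) and generically smooth over k, in the sense that
the localization of A at each of its minimal primes is formally smooth over k. Then H^1 of the naive
cotangent complex L_{A/k} vanishes: for the presentation A = P/I by the polynomial k-algebra P on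
the elements of A, the conormal map I/I² → Ω_{P/k} ⊗_P A is injective, so that L_{A/k} is
quasi-isomorphic to Ω_{A/k}. (The published statement is for a generically smooth syntomic morphism
over an arbitrary base, where it fails when the base has embedded points: over B = k[s,t]/(s², st)
with 2 invertible in k, the algebra B[x]/(x² − t) is a relative complete intersection, free of rank
two and smooth where x is invertible, yet the class of s·x·(x² − t) is a non-zero element of the
kernel of its conormal map. This row states the case of an algebra of finite type over a field.) -/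
theorem result (k : Type u) [Field k]
    (A : Type u) [CommRing A] [Algebra k A] (hlci : LCI.IsLCI k A)
    (hgs : ∀ (p : Ideal A) [p.IsPrime], p ∈ minimalPrimes A → Algebra.FormallySmooth k (Localization.AtPrime p)) :
    Subsingleton (Algebra.H1Cotangent k A) := by
  classical
  have hk : LocCoh.IsGorensteinRing k :=
    Groth.Agent.Lib.Helper5.GorFibre.isGorensteinRing_of_isRegularRing k
  have hG : LocCoh.IsGorensteinRing A :=
    Groth.Agent.Lib.Helper5.GorLCI.isGorensteinRing_of_isLCI k A hk hlci
  haveI : IsNoetherianRing A := hG.toIsNoetherian
  have hCM : ∀ (p : Ideal A) [p.IsPrime],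
      LocCoh.IsCohenMacaulayLocalRing (Localization.AtPrime p) := fun p _ => by
    haveI := hG.isGorensteinLocalRing_localization p
    exact Groth.Agent.S0341.result _
  have hass : ∀ p : Ideal A, IsAssociatedPrime p A → p ∈ minimalPrimes A := fun p hp =>
    Groth.Agent.Lib.helper10.LciH1.mem_minimalPrimes_of_isAssociatedPrime hCM p hp
  obtain ⟨-, n, f, hf, hI⟩ := hlci
  have haeval : MvPolynomial.aeval (fun i => f (MvPolynomial.X i)) = f := by
    apply MvPolynomial.algHom_ext
    intro i
    rw [MvPolynomial.aeval_X]
  let G : Algebra.Generators k A (Fin n) :=
    Algebra.Generators.ofSurjective (fun i => f (MvPolynomial.X i)) (by rw [haeval]; exact hf)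
  have hker : G.toExtension.ker = RingHom.ker f.toRingHom := by
    ext x
    change algebraMap G.toExtension.Ring A x = 0 ↔ f x = 0
    have : algebraMap G.toExtension.Ring A x =
        MvPolynomial.aeval (fun i => f (MvPolynomial.X i)) x := rfl
    rw [this, haeval]
  have hK : LCI.IsKoszulRegularIdeal G.toExtension.ker := by rw [hker]; exact hI
  obtain ⟨-, hproj⟩ :=
    Groth.Agent.Lib.Helper5.CotLoc.extension_cotangent_finite_projective G.toExtension hK
  let e : Algebra.H1Cotangent k A ≃ₗ[A] G.toExtension.H1Cotangent :=
    Algebra.Generators.H1Cotangent.equiv (Algebra.Generators.self k A) G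
  suffices hall : ∀ h : Algebra.H1Cotangent k A, h = 0 from
    ⟨fun a b => by rw [hall a, hall b]⟩
  intro h
  have key : G.toExtension.h1Cotangentι (e h) = 0 := by
    apply Groth.Agent.Lib.helper10.LciH1.eq_zero_of_forall_minimalPrimes hass
    intro p hp
    haveI : p.IsPrime := hp.1.1
    haveI := hgs p hp
    have hsub : Subsingleton (Algebra.H1Cotangent k (Localization.AtPrime p)) :=
      Algebra.FormallySmooth.subsingleton_h1Cotangent
    let t := Algebra.tensorH1CotangentOfIsLocalization k (Localization.AtPrime p) p.primeCompl
    have h0 : (1 : Localization.AtPrime p) ⊗ₜ[A] h = 0 := t.injective (Subsingleton.elim _ _)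
    have h0' : TensorProduct.mk A (Localization.AtPrime p) (Algebra.H1Cotangent k A) 1 h = 0 := h0
    obtain ⟨s, hs⟩ := (IsLocalizedModule.eq_zero_iff p.primeCompl
      (TensorProduct.mk A (Localization.AtPrime p) (Algebra.H1Cotangent k A) 1)).1 h0'
    refine ⟨s, s.2, ?_⟩
    rw [← map_smul, ← map_smul]
    have : (s : A) • h = 0 := hs
    rw [this, map_zero, map_zero]
  apply e.injective
  rw [map_zero]
  exact Algebra.Extension.h1Cotangentι_injective (by rw [key, map_zero])

end Groth.Agent.S16713
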