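import Groth.Statements.S16717
import Groth.Agent.Lib.Helper25.LinRed
-- import your own Groth.Agent.* helpers here

set_option autoImplicit false
universe u v
open HopfRep

namespace Groth.Agent.S16717

open Groth.Agent.Lib.Helper25

theorem isCompl_range_of_mkQ_comp {k : Type*} [Field k] {V : Type*} [AddCommGroup V] [Module k V]
    (W : Submodule k V) (s : (V ⧸ W) →ₗ[k] V) (hs : W.mkQ ∘ₗ s = LinearMap.id) :
    IsCompl W (LinearMap.range s) := by
  have hs' : ∀ q, W.mkQ (s q) = q := fun q => LinearMap.congr_fun hs q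
  constructor
  · rw [Submodule.disjoint_def]
    rintro x hx ⟨q, rfl⟩
    have : W.mkQ (s q) = 0 := (Submodule.Quotient.mk_eq_zero W).mpr hx
    rw [hs'] at this
    rw [this, map_zero]
  · rw [codisjoint_iff, eq_top_iff]
    intro v _
    have h1 : v - s (W.mkQ v) ∈ W := by
      rw [← Submodule.Quotient.mk_eq_zero W, Submodule.Quotient.mk_sub]
      have := hs' (W.mkQ v)
      simp only [Submodule.mkQ_apply] at this ⊢
      rw [this, sub_self]
    have : v = (v - s (W.mkQ v)) + s (W.mkQ v) := by abel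
    rw [this]
    exact Submodule.add_mem_sup h1 ⟨_, rfl⟩

open TensorProduct in
/-- Equivalence of the exactness of invariants with complete reducibility of finite-dimensional
representations. Let k be a field and A a finitely generated commutative Hopf algebra over k (the
coordinate ring of an affine algebraic group G). Then every finite-dimensional A-comodule is
semisimple if and only if taking fixed vectors is exact, i.e. for every surjective comodule map φ :
V → W between A-comodules (of any dimension; φ k-linear with (φ ⊗ id) ∘ ρ_V = ρ_W ∘ φ) every fixed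
vector of W is the image of a fixed vector of V. -/
theorem result (k : Type u) [Field k] (A : Type v)
    [CommRing A] [HopfAlgebra k A] (hA : Algebra.FiniteType k A) :
    HopfRep.IsLinearlyReductive k A ↔
      ∀ (V W : Type v) [AddCommGroup V] [Module k V] [HopfRep.Comod k A V]
        [AddCommGroup W] [Module k W] [HopfRep.Comod k A W] (φ : V →ₗ[k] W),
        LinearMap.rTensor A φ ∘ₗ HopfRep.Comod.coact (k := k) (A := A) (V := V) =
            HopfRep.Comod.coact (k := k) (A := A) (V := W) ∘ₗ φ →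
          Function.Surjective φ →
            ∀ w ∈ HopfRep.fixedPts k A W, ∃ v ∈ HopfRep.fixedPts k A V, φ v = w := by
  constructor
  · intro hLR V W _ _ _ _ _ _ φ hφ hsurj w hw
    have hφ' : Hoch.IsComodHom A φ := hφ.symm
    obtain ⟨v, rfl⟩ := hsurj w
    obtain ⟨V₀, hV₀, hfg, hv⟩ := Comod.exists_fg_subcomod (k := k) (C := A) v
    let c₀ : HopfRep.Comod k A V₀ := Comod.subComod V₀ hV₀
    have hi : Hoch.IsComodHom A V₀.subtype := Comod.isComodHom_subtype V₀ hV₀
    have hφ₀ : Hoch.IsComodHom A (φ ∘ₗ V₀.subtype) := Comod.IsComodHom.comp hφ' hi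
    have hfin : Module.Finite k V₀ := Module.Finite.iff_fg.mpr hfg
    have hss := hLR V₀ hfin
    obtain ⟨L, hL, hcompl⟩ := hss (LinearMap.ker (φ ∘ₗ V₀.subtype)) (Comod.isSubcomod_ker' hφ₀)
    have hmem : (⟨v, hv⟩ : V₀) ∈ LinearMap.ker (φ ∘ₗ V₀.subtype) ⊔ L := by
      rw [hcompl.sup_eq_top]; trivial
    obtain ⟨κ, hκ, l, hl, hsum⟩ := Submodule.mem_sup.mp hmem
    have hφl : φ (l : V) = φ v := by
      have h1 : (φ ∘ₗ V₀.subtype) κ = 0 := hκ
      have h2 := congrArg (φ ∘ₗ V₀.subtype) hsum
      rw [map_add, h1, zero_add] at h2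
      exact h2
    have hlfix : l ∈ HopfRep.fixedPts k A V₀ :=
      LinRed.mem_fixedPts_of_injOn hφ₀ hL hcompl.symm.disjoint hl (by
        rw [LinearMap.comp_apply, Submodule.subtype_apply, hφl]; exact hw)
    refine ⟨(l : V), ?_, hφl⟩
    have h3 := Comod.isComodHom_apply hi l
    have h4 : HopfRep.Comod.coact (k := k) (A := A) l = l ⊗ₜ[k] (1 : A) := hlfix
    rw [h4, LinearMap.rTensor_tmul] at h3
    exact h3
  · intro H V _ _ _ hfin W hW
    let cQ : HopfRep.Comod k A (V ⧸ W) := Comod.quotComod W hW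
    have hπ : Hoch.IsComodHom A W.mkQ := Comod.isComodHom_mkQ W hW
    let cHV : HopfRep.Comod k A ((V ⧸ W) →ₗ[k] V) := HomC.homComod (k := k) (A := A) (V ⧸ W) V
    let cHQ : HopfRep.Comod k A ((V ⧸ W) →ₗ[k] (V ⧸ W)) :=
      HomC.homComod (k := k) (A := A) (V ⧸ W) (V ⧸ W)
    have hcomp : Hoch.IsComodHom A (LinearMap.compRight k W.mkQ :
        ((V ⧸ W) →ₗ[k] V) →ₗ[k] ((V ⧸ W) →ₗ[k] (V ⧸ W))) := HomC.isComodHom_compRight (V ⧸ W) hπ
    have hsurj := HomC.compRight_surjective (V ⧸ W) W.mkQ_surjective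
    have hid : (LinearMap.id : (V ⧸ W) →ₗ[k] (V ⧸ W)) ∈ HopfRep.fixedPts k A _ :=
      (HomC.mem_fixedPts_homComod_iff _).mpr Comod.isComodHom_id
    obtain ⟨s, hs, hs'⟩ := H ((V ⧸ W) →ₗ[k] V) ((V ⧸ W) →ₗ[k] (V ⧸ W))
      (LinearMap.compRight k W.mkQ) hcomp.symm hsurj LinearMap.id hid
    have hsc : Hoch.IsComodHom A s := (HomC.mem_fixedPts_homComod_iff s).mp hs
    exact ⟨LinearMap.range s, Comod.isSubcomod_range' hsc, isCompl_range_of_mkQ_comp W s hs'⟩

end Groth.Agent.S16717
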