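import Groth.Statements.S16742
import Groth.Agent.Lib.Helper17.LocalFlat
import Mathlib

set_option autoImplicit false
universe u
open CAlg

namespace Groth.Agent.S16742

open TensorProduct Groth.Agent.Lib.Helper17.LocalFlat

theorem ann_flat {R : Type*} [CommRing R] (r : R) (hann : ∀ x : R, r * x = 0 → ∃ c, x = r * c)
    {M : Type*} [AddCommGroup M] [Module R M] [Module.Flat R M] (m : M) (hm : r • m = 0) :
    ∃ m' : M, m = r • m' := by
  have hrel : ∑ i : Fin 1, (fun _ => r) i • (fun _ => m) i = 0 := by
    simp only [Finset.univ_unique, Finset.sum_singleton]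
    exact hm
  obtain ⟨κ, a, y, h1, h2⟩ := Module.Flat.isTrivialRelation_of_sum_smul_eq_zero hrel
  have h1' : m = ∑ j, a 0 j • y j := h1 0
  simp only [Finset.univ_unique, Finset.sum_singleton] at h2
  choose c hc using fun j => hann (a default j) (h2 j)
  refine ⟨∑ j, c j • y j, ?_⟩
  rw [h1', Finset.smul_sum]
  refine Finset.sum_congr rfl fun j _ => ?_
  have : a 0 j = a default j := rfl
  rw [this, hc j, mul_smul]

theorem ann_zmod (p : ℕ) [Fact p.Prime] (x : ZMod (p ^ 2)) (hx : (p : ZMod (p ^ 2)) * x = 0) :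
    ∃ c, x = (p : ZMod (p ^ 2)) * c := by
  obtain ⟨k, hk⟩ := ZMod.natCast_zmod_surjective x
  rw [← hk, ← Nat.cast_mul, ZMod.natCast_eq_zero_iff] at hx
  have : p ∣ k := by
    rw [pow_two] at hx
    exact Nat.dvd_of_mul_dvd_mul_left (Fact.out : p.Prime).pos hx
  obtain ⟨c, rfl⟩ := this
  exact ⟨(c : ZMod (p ^ 2)), by rw [← hk, Nat.cast_mul]⟩


/-- The equivalence in affine form, with flatness of the reduction in place of smoothness. Let p be a
prime, A~ a commutative ring flat over Z/p^2 and B~ an A~-algebra such that B~/pB~ is flat over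
A~/pA~. Then B~ is flat over A~ if and only if every element of B~ killed by p is a multiple of p;
equivalently multiplication by p identifies B~/pB~ with pB~. (The published statement assumes the
reduction smooth over A~/pA~ and the schemes noetherian, and phrases (b) as B~ being a lifting, that
is flat over A~; the statement here assumes only that the reduction is flat, where the equivalence
still holds by the local flatness criterion for the square-zero ideal generated by p.) -/
theorem result (p : ℕ) [Fact p.Prime]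
    (Al : Type u) [CommRing Al] [Algebra (ZMod (p ^ 2)) Al] [Module.Flat (ZMod (p ^ 2)) Al]
    (Bl : Type u) [CommRing Bl] [Algebra Al Bl]
    (hB : Module.Flat (Al ⧸ Ideal.span {(p : Al)})
      (Bl ⧸ (Ideal.span {(p : Al)}).map (algebraMap Al Bl))) :
    Module.Flat Al Bl ↔ ∀ b : Bl, (p : Bl) * b = 0 → b ∈ Ideal.span {(p : Bl)} := by
  have hp2 : (p : Al) ^ 2 = 0 := by
    have : ((p : ZMod (p ^ 2)) ^ 2) = 0 := by
      rw [← Nat.cast_pow]; exact ZMod.natCast_self _
    have h2 := congrArg (algebraMap (ZMod (p ^ 2)) Al) this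
    rwa [map_pow, map_natCast, map_zero] at h2
  constructor
  · intro hfl b hb
    letI : Algebra (ZMod (p ^ 2)) Bl := ((algebraMap Al Bl).comp (algebraMap (ZMod (p ^ 2)) Al)).toAlgebra
    haveI : IsScalarTower (ZMod (p ^ 2)) Al Bl := IsScalarTower.of_algebraMap_eq (fun _ => rfl)
    haveI : Module.Flat (ZMod (p ^ 2)) Bl := Module.Flat.trans (ZMod (p ^ 2)) Al Bl
    have hb' : (p : ZMod (p ^ 2)) • b = 0 := by
      rw [Algebra.smul_def, map_natCast]; exact hb
    obtain ⟨m', hm'⟩ := ann_flat (p : ZMod (p ^ 2)) (ann_zmod p) b hb'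
    rw [Ideal.mem_span_singleton']
    refine ⟨m', ?_⟩
    rw [hm', Algebra.smul_def, map_natCast, mul_comm]
  · intro h
    have hI : IsNilpotent (Ideal.span {(p : Al)}) :=
      ⟨2, by rw [Ideal.span_singleton_pow, hp2, Ideal.zero_eq_bot, Ideal.span_singleton_eq_bot]⟩
    refine flat_of_nilpotent_algebra hI Bl ?_
    set I := Ideal.span {(p : Al)} with hIdef
    have hpI : (p : Al) ∈ I := Ideal.mem_span_singleton_self _
    have hform : ∀ z : I ⊗[Al] Bl, ∃ b : Bl, z = (⟨(p : Al), hpI⟩ : I) ⊗ₜ b := by
      intro z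
      induction z using TensorProduct.induction_on with
      | zero => exact ⟨0, by rw [tmul_zero]⟩
      | add x y hx hy =>
        obtain ⟨b₁, rfl⟩ := hx
        obtain ⟨b₂, rfl⟩ := hy
        exact ⟨b₁ + b₂, by rw [tmul_add]⟩
      | tmul a b =>
        obtain ⟨c, hc⟩ := Ideal.mem_span_singleton'.1 a.2
        refine ⟨c • b, ?_⟩
        rw [← smul_tmul]
        congr 1
        exact Subtype.ext hc.symm
    rw [injective_iff_map_eq_zero]
    intro z hz
    obtain ⟨b, rfl⟩ := hform z
    rw [LinearMap.rTensor_tmul, Submodule.subtype_apply] at hz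
    have h3 := congrArg (TensorProduct.lid Al Bl) hz
    rw [TensorProduct.lid_tmul, map_zero, Algebra.smul_def, map_natCast] at h3
    obtain ⟨c, rfl⟩ := Ideal.mem_span_singleton'.1 (h b h3)
    have : c * (p : Bl) = (p : Al) • c := by rw [Algebra.smul_def, map_natCast, mul_comm]
    rw [this, ← smul_tmul]
    have : (p : Al) • (⟨(p : Al), hpI⟩ : I) = 0 := by
      apply Subtype.ext
      show (p : Al) * (p : Al) = 0
      rw [← pow_two, hp2]
    rw [this, zero_tmul]

end Groth.Agent.S16742
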