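import Groth.Statements.S16762
import Mathlib

set_option autoImplicit false
universe u
open CAlgX

namespace Groth.Agent.S16762

/-- Let A → A' be faithfully flat and u : M → N a map of A-modules. Then u is universally injective (u ⊗
id_Q injective for every A-module Q) if and only if its base change A' ⊗_A M → A' ⊗_A N is
universally injective as a map of A'-modules. -/
theorem result (A A' : Type u) [CommRing A] [CommRing A']
    [Algebra A A'] [Module.FaithfullyFlat A A'] {M N : Type u} [AddCommGroup M] [Module A M]
    [AddCommGroup N] [Module A N] (u : M →ₗ[A] N) :
    CAlgX.UniversallyInjective A u ↔ CAlgX.UniversallyInjective A' (u.baseChange A') := by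
  constructor
  · intro h Q' _ _
    letI : Module A Q' := Module.compHom Q' (algebraMap A A')
    haveI : IsScalarTower A A' Q' := IsScalarTower.of_compHom A A' Q'
    have hinj := h Q'
    -- the comparison equivalence
    let eM : (TensorProduct A' (TensorProduct A A' M) Q') ≃ TensorProduct A M Q' :=
      ((TensorProduct.comm A' (TensorProduct A A' M) Q').toEquiv.trans
        (TensorProduct.AlgebraTensorModule.cancelBaseChange A A' A' Q' M).toEquiv).trans
        (TensorProduct.comm A Q' M).toEquiv
    let eN : (TensorProduct A' (TensorProduct A A' N) Q') ≃ TensorProduct A N Q' :=
      ((TensorProduct.comm A' (TensorProduct A A' N) Q').toEquiv.trans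
        (TensorProduct.AlgebraTensorModule.cancelBaseChange A A' A' Q' N).toEquiv).trans
        (TensorProduct.comm A Q' N).toEquiv
    have hsq : ∀ t, eN ((u.baseChange A').rTensor Q' t) = u.rTensor Q' (eM t) := by
      intro t
      induction t using TensorProduct.induction_on with
      | zero => simp [eM, eN]
      | add x y hx hy =>
        have e1 : ∀ a b, eN (a + b) = eN a + eN b := fun a b => by simp [eN]
        have e2 : ∀ a b, eM (a + b) = eM a + eM b := fun a b => by simp [eM]
        rw [map_add, e1, hx, hy, e2, map_add]
      | tmul x q =>
        induction x using TensorProduct.induction_on with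
        | zero => simp [eM, eN]
        | add x y hx hy =>
          have e1 : ∀ a b, eN (a + b) = eN a + eN b := fun a b => by simp [eN]
          have e2 : ∀ a b, eM (a + b) = eM a + eM b := fun a b => by simp [eM]
          rw [TensorProduct.add_tmul, map_add, e1, hx, hy, e2, map_add]
        | tmul a m => simp [eM, eN]
    intro s t hst
    apply eM.injective
    apply hinj
    rw [← hsq, ← hsq, hst]
  · intro h Q _ _
    have hinj := h (TensorProduct A A' Q)
    rw [← Module.FaithfullyFlat.lTensor_injective_iff_injective A A']
    let e := TensorProduct.AlgebraTensorModule.distribBaseChange A A'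
    have hsq : ∀ t, (e N Q) ((u.rTensor Q).lTensor A' t) =
        (u.baseChange A').rTensor (TensorProduct A A' Q) ((e M Q) t) := by
      intro t
      induction t using TensorProduct.induction_on with
      | zero => simp
      | add x y hx hy => simp only [map_add, hx, hy]
      | tmul a x =>
        induction x using TensorProduct.induction_on with
        | zero => simp
        | add x y hx hy => simp only [TensorProduct.tmul_add, map_add, hx, hy]
        | tmul m q => simp [e]
    intro s t hst
    apply (e M Q).injective
    apply hinj
    rw [← hsq, ← hsq, hst]

end Groth.Agent.S16762
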