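import Groth.Statements.S16770
import Mathlib
import Groth.Agent.Lib.Helper13.HomRep

set_option autoImplicit false
open CategoryTheory MonoidalCategory CartesianMonoidalCategory MonObj GrpObj AlgebraicGeometry
universe u
open SGA3x

namespace Groth.Agent.S16770

section helpers

open CategoryTheory MonoidalCategory CartesianMonoidalCategory AlgebraicGeometry Limits Opposite


open Groth.Agent.Lib.Helper13 Groth.Agent.Lib.Helper13.HomRep

theorem main {S : Scheme.{u}} (X Y : Over S)
    (hXf : IsFinite X.hom) (hXfl : Flat X.hom) (hXfp : LocallyOfFinitePresentation X.hom)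
    (hYa : IsAffineHom Y.hom) (hYfp : LocallyOfFinitePresentation Y.hom) :
    ∃ (M : Over S) (ev : X ⊗ M ⟶ Y), IsAffineHom M.hom ∧ LocallyOfFinitePresentation M.hom ∧
      ∀ (T : Over S) (φ : X ⊗ T ⟶ Y), ∃! v : T ⟶ M, (X ◁ v) ≫ ev = φ := by
  obtain ⟨W, hWaff, ⟨r⟩, -, hWfp⟩ := WeilFin.main X.hom Y.hom ⟨hXf, hXfl, hXfp⟩
  obtain ⟨υ', hυ'⟩ := exists_univ X Y r
  have hiff : ∀ (T : Over S) (φ : X ⊗ T ⟶ Y) (a : T ⟶ W),
      (X ◁ a) ≫ (β_ X W).hom ≫ υ' = φ ↔ (a ▷ X) ≫ υ' = (β_ T X).hom ≫ φ := by
    intro T φ a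
    rw [BraidedCategory.braiding_naturality_right_assoc]
    constructor
    · intro h
      rw [← h, ← Category.assoc, braiding_braiding, Category.id_comp]
    · intro h
      rw [h, ← Category.assoc, braiding_braiding, Category.id_comp]
  refine ⟨W, (β_ X W).hom ≫ υ', hWaff, hWfp hYfp, fun T φ => ?_⟩
  obtain ⟨a, ha, hauniq⟩ := hυ' T ((β_ T X).hom ≫ φ)
  exact ⟨a, (hiff T φ a).mpr ha, fun b hb => hauniq b ((hiff T φ b).mp hb)⟩


end helpers

/-- For X finite, flat and of finite presentation over a scheme S and Y affine of finite presentation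
over S, the functor T ↦ Hom_S(X ×_S T, Y) on S-schemes is representable by an S-scheme which is
affine and of finite presentation over S (products are fibre products over S, written with the
cartesian monoidal structure of S-schemes). -/
theorem result {S : Scheme.{u}} (X Y : Over S)
    (hXf : IsFinite X.hom) (hXfl : Flat X.hom) (hXfp : LocallyOfFinitePresentation X.hom)
    (hYa : IsAffineHom Y.hom) (hYfp : LocallyOfFinitePresentation Y.hom) :
    ∃ (M : Over S) (ev : X ⊗ M ⟶ Y), IsAffineHom M.hom ∧ LocallyOfFinitePresentation M.hom ∧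
      ∀ (T : Over S) (φ : X ⊗ T ⟶ Y), ∃! v : T ⟶ M, (X ◁ v) ≫ ev = φ := by
  exact main X Y hXf hXfl hXfp hYa hYfp

end Groth.Agent.S16770
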