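import Groth.Statements.S16771
import Mathlib
import Groth.Agent.Lib.Helper13.WeilProjOver
import Groth.Prelude.Def_AlgGrp

set_option autoImplicit false
open CategoryTheory MonoidalCategory CartesianMonoidalCategory MonObj GrpObj AlgebraicGeometry
universe u
open SGA3x

namespace Groth.Agent.S16771

section helpers

open CategoryTheory MonoidalCategory CartesianMonoidalCategory MonObj GrpObj AlgebraicGeometry


theorem main {S : Scheme.{u}} (G Y Y' : Over S) [GrpObj G]
    (hGfp : LocallyOfFinitePresentation G.hom)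
    (y : Y ⟶ G) (hYf : IsFinite Y.hom) (hYfl : Flat Y.hom)
    (hYfp : LocallyOfFinitePresentation Y.hom)
    (y' : Y' ⟶ G) (hy' : IsClosedImmersion y'.left) (hY'fp : LocallyOfFinitePresentation Y'.hom) :
    ∃ (C : Over S) (c : C ⟶ G), IsClosedImmersion c.left ∧ LocallyOfFinitePresentation C.hom ∧
      ∀ (X : Over S) (g : X ⟶ G), (∃ z : X ⟶ C, z ≫ c = g) ↔
        ∀ (X' : Over S) (x : X' ⟶ X) (a : X' ⟶ Y), ∃ a' : X' ⟶ Y', (x ≫ g) * (a ≫ y) * (x ≫ g)⁻¹ = a' ≫ y' := by
  obtain ⟨Z, j, hj, hfp, hZ⟩ := Groth.Agent.Lib.Helper13.WeilProjOver.exists_closed_preimage G Y G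
    (fst G Y * (snd G Y ≫ y) * (fst G Y)⁻¹) y'
  have hy'fp : LocallyOfFinitePresentation y'.left := by
    apply Groth.Agent.Lib.Helper4.CentralizerClosed.lfp_of_comp y'.left G.hom
    · rw [Over.w y']; exact hY'fp
    · infer_instance
  have hjfp := hfp hy'fp
  refine ⟨Z, j, hj, ?_, ?_⟩
  · rw [← Over.w j]
    infer_instance
  intro T g
  rw [hZ]
  constructor
  · rintro ⟨w, hw⟩ X' x a
    refine ⟨lift x a ≫ w, ?_⟩
    rw [Category.assoc, hw]
    simp [MonObj.comp_mul, GrpObj.comp_inv]
  · intro h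
    obtain ⟨a', ha'⟩ := h (T ⊗ Y) (fst T Y) (snd T Y)
    refine ⟨a', ?_⟩
    rw [← ha']
    simp [MonObj.comp_mul, GrpObj.comp_inv]


end helpers

/-- Let G be an affine group scheme of finite presentation over a scheme S, Y ⊆ G a closed subscheme
which is finite, flat and of finite presentation over S, and Y' ⊆ G a closed subscheme of finite
presentation over S. Then the transporter of Y into Y' (points g of G such that g y g⁻¹ is a point
of Y' for every point y of Y after any base change) is representable by a closed subscheme of G of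
finite presentation over S. -/
theorem result {S : Scheme.{u}} (G Y Y' : Over S) [GrpObj G]
    (hGa : IsAffineHom G.hom) (hGfp : LocallyOfFinitePresentation G.hom)
    (y : Y ⟶ G) (hy : IsClosedImmersion y.left) (hYf : IsFinite Y.hom) (hYfl : Flat Y.hom)
    (hYfp : LocallyOfFinitePresentation Y.hom)
    (y' : Y' ⟶ G) (hy' : IsClosedImmersion y'.left) (hY'fp : LocallyOfFinitePresentation Y'.hom) :
    ∃ (C : Over S) (c : C ⟶ G), IsClosedImmersion c.left ∧ LocallyOfFinitePresentation C.hom ∧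
      ∀ (X : Over S) (g : X ⟶ G), (∃ z : X ⟶ C, z ≫ c = g) ↔
        ∀ (X' : Over S) (x : X' ⟶ X) (a : X' ⟶ Y), ∃ a' : X' ⟶ Y', (x ≫ g) * (a ≫ y) * (x ≫ g)⁻¹ = a' ≫ y' := by
  exact main G Y Y' hGfp y hYf hYfl hYfp y' hy' hY'fp

end Groth.Agent.S16771
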