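import Groth.Statements.S16777
import Mathlib
import Groth.Agent.Lib.Helper13.MTChart
import Groth.Prelude.Def_SGA3x

set_option autoImplicit false
open CategoryTheory MonoidalCategory CartesianMonoidalCategory MonObj GrpObj AlgebraicGeometry
universe u
open SGA3x

namespace Groth.Agent.S16777

section helpers

open CategoryTheory MonoidalCategory CartesianMonoidalCategory MonObj GrpObj AlgebraicGeometry Limits


open Groth.Agent.Lib.Helper13.WeilOver Groth.Agent.Lib.Helper13.MTChart

theorem main {S : Scheme.{u}} (G H Y' : Over S) [GrpObj G] [GrpObj H]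
    (hGfp : LocallyOfFinitePresentation G.hom)
    (i : H ⟶ G) (hH : SGA3x.IsMultTypeFT H)
    (y' : Y' ⟶ G) (hy' : IsClosedImmersion y'.left) (hY'fp : LocallyOfFinitePresentation Y'.hom) :
    ∃ (C : Over S) (c : C ⟶ G), IsClosedImmersion c.left ∧ LocallyOfFinitePresentation C.hom ∧
      ∀ (X : Over S) (g : X ⟶ G), (∃ z : X ⟶ C, z ≫ c = g) ↔
        ∀ (X' : Over S) (x : X' ⟶ X) (h : X' ⟶ H), ∃ a' : X' ⟶ Y',
          (x ≫ g) * (h ≫ i) * (x ≫ g)⁻¹ = a' ≫ y' := by
  haveI := hy'
  haveI := hGfp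
  obtain ⟨C, c, hc, hfp, hC⟩ := closed_preimage G H G
    (weilGood_of_essProj G H (essProj_of_isMultTypeFT H hH))
    (fst G H * (snd G H ≫ i) * (fst G H)⁻¹) y'
  have hy'fp : LocallyOfFinitePresentation y'.left := by
    apply Groth.Agent.Lib.Helper4.CentralizerClosed.lfp_of_comp y'.left G.hom
    · rw [Over.w]; exact hY'fp
    · infer_instance
  have hCfp : LocallyOfFinitePresentation C.hom := by
    haveI := hfp hy'fp
    rw [← Over.w c]
    infer_instance
  refine ⟨C, c, hc, hCfp, fun X g => ?_⟩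
  rw [hC]
  have e1 : (g ▷ H) ≫ (fst G H * (snd G H ≫ i) * (fst G H)⁻¹) =
      (fst X H ≫ g) * (snd X H ≫ i) * (fst X H ≫ g)⁻¹ := by
    rw [MonObj.comp_mul, MonObj.comp_mul, GrpObj.comp_inv, whiskerRight_fst,
      whiskerRight_snd_assoc]
  rw [e1]
  constructor
  · rintro ⟨w, hw⟩ X' x h
    refine ⟨lift x h ≫ w, ?_⟩
    rw [Category.assoc, hw]
    simp only [MonObj.comp_mul, GrpObj.comp_inv, lift_fst_assoc, lift_snd_assoc]
  · intro h
    obtain ⟨a', ha'⟩ := h (X ⊗ H) (fst X H) (snd X H)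
    exact ⟨a', ha'.symm⟩


end helpers

/-- Let G be an affine group scheme of finite presentation over a scheme S, H ⊆ G a subgroup scheme of
multiplicative type (of finite type) and Y' ⊆ G any closed subscheme of finite presentation over S.
Then the transporter of H into Y' (points g with g h g⁻¹ in Y' for all points h of H after any base
change) is representable by a closed subscheme of G of finite presentation over S. -/
theorem result {S : Scheme.{u}} (G H Y' : Over S) [GrpObj G] [GrpObj H]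
    (hGa : IsAffineHom G.hom) (hGfp : LocallyOfFinitePresentation G.hom)
    (i : H ⟶ G) [IsMonHom i] [Mono i] (hH : SGA3x.IsMultTypeFT H)
    (y' : Y' ⟶ G) (hy' : IsClosedImmersion y'.left) (hY'fp : LocallyOfFinitePresentation Y'.hom) :
    ∃ (C : Over S) (c : C ⟶ G), IsClosedImmersion c.left ∧ LocallyOfFinitePresentation C.hom ∧
      ∀ (X : Over S) (g : X ⟶ G), (∃ z : X ⟶ C, z ≫ c = g) ↔
        ∀ (X' : Over S) (x : X' ⟶ X) (h : X' ⟶ H), ∃ a' : X' ⟶ Y', (x ≫ g) * (h ≫ i) * (x ≫ g)⁻¹ = a' ≫ y' := by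
  exact main G H Y' hGfp i hH y' hy' hY'fp

end Groth.Agent.S16777
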