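import Groth.Statements.S1679
import Groth.Agent.Lib.Helper5.RegSpreadSch
import Groth.Agent.Lib.Helper5.RegBC

set_option autoImplicit false
universe u
open CategoryTheory CategoryTheory.Limits AlgebraicGeometry TopologicalSpace
open SDiv

namespace Groth.Agent.S1679

open Groth.Agent.Lib.Helper5.RegImmA Groth.Agent.Lib.Helper5.StalkKer
open Groth.Agent.Lib.Helper5.RegSpreadSch RingTheory.Sequence

theorem transport {X Z : Scheme.{u}} (i : Z ⟶ X) {W₁ W₂ : X.Opens} (e : W₁ = W₂)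
    (xs : List Γ(X, W₁)) (h1 : IsWeaklyRegular Γ(X, W₁) xs)
    (h2 : RingHom.ker (i.app W₁).hom = Ideal.ofList xs) :
    ∃ xs' : List Γ(X, W₂), IsWeaklyRegular Γ(X, W₂) xs' ∧
      RingHom.ker (i.app W₂).hom = Ideal.ofList xs' := by
  subst e
  exact ⟨xs, h1, h2⟩

/-- Equivalence of (1), (5) and (9) (the regular-sequence variants only): let X be a locally Noetherian
scheme, i : Z ⟶ X a closed immersion and z a point of Z. Then i is a regular closed immersion over
some open neighbourhood of i z if and only if the kernel of O_{X, i z} → O_{Z, z} is generated by a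
regular sequence of O_{X, i z}. -/
theorem result {X Z : Scheme.{u}} [IsLocallyNoetherian X] (i : Z ⟶ X) [IsClosedImmersion i] (z : ↥Z) :
    (∃ V : X.Opens, i z ∈ V ∧ Mor2.IsRegularClosedImmersion (i ∣_ V)) ↔
      ∃ rs : List ↑(X.presheaf.stalk (i z)), RingTheory.Sequence.IsRegular ↑(X.presheaf.stalk (i z)) rs ∧
        RingHom.ker (i.stalkMap z).hom = Ideal.ofList rs := by
  constructor
  · rintro ⟨V, hzV, -, hreg⟩
    have hzV' : z ∈ i ⁻¹ᵁ V := hzV
    obtain ⟨W, hW, hzW, rs, hrs, hker⟩ := hreg ⟨z, hzV'⟩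
    have hU : IsAffineOpen (V.ι ''ᵁ W) := hW.image_of_isOpenImmersion V.ι
    have hzU : i z ∈ V.ι ''ᵁ W := by
      refine ⟨(i ∣_ V) ⟨z, hzV'⟩, hzW, ?_⟩
      change V.ι ((i ∣_ V) ⟨z, hzV'⟩) = i z
      rw [← Scheme.Hom.comp_apply, morphismRestrict_ι, Scheme.Hom.comp_apply]
      rfl
    have hker' : RingHom.ker (i.app (V.ι ''ᵁ W)).hom = Ideal.ofList rs :=
      (ker_morphismRestrict_app i V W).symm.trans
        ((Scheme.Hom.ker_apply (i ∣_ V) ⟨W, hW⟩).symm.trans hker)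
    obtain ⟨h1, h2⟩ := isRegular_germ i hU z hzU rs hrs.toIsWeaklyRegular hker'
    exact ⟨_, h1, h2⟩
  · rintro ⟨rs, hrs, hker⟩
    obtain ⟨_, ⟨U, hU, rfl⟩, hzU, -⟩ :=
      X.isBasis_affineOpens.exists_subset_of_mem_open (Set.mem_univ (i z)) isOpen_univ
    obtain ⟨U', hU', -, hzU', hc', xs, hxs, hk⟩ :=
      exists_regular_nhd i hU z hzU rs hrs.toIsWeaklyRegular hker
    refine ⟨U', hzU', inferInstance, fun z' => ?_⟩
    have hT : IsAffineOpen (⊤ : U'.toScheme.Opens) := by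
      have : IsAffine U'.toScheme := hU'
      exact isAffineOpen_top _
    have htop : U' = U'.ι ''ᵁ (⊤ : U'.toScheme.Opens) := by
      rw [Scheme.Hom.image_top_eq_opensRange, Scheme.Opens.opensRange_ι]
    obtain ⟨xs', hxs', hk'⟩ := transport i htop xs hxs hk
    have hkk : (i ∣_ U').ker.ideal ⟨⊤, hT⟩ = Ideal.ofList xs' :=
      (Scheme.Hom.ker_apply (i ∣_ U') ⟨⊤, hT⟩).trans
        ((ker_morphismRestrict_app i U' ⊤).trans hk')
    refine ⟨⊤, hT, trivial, xs', ?_, hkk⟩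
    refine Groth.Agent.Lib.Helper5.RegComp.isRegular_of_weaklyRegular_of_ne_top hxs' ?_
    intro htop
    exact Groth.Agent.Lib.Helper5.RegBC.ker_ideal_ne_top (i ∣_ U') ⟨⊤, hT⟩ z' trivial
      (hkk.trans htop)

end Groth.Agent.S1679
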