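import Groth.Statements.S16794
import Groth.Agent.Lib.helper10.OreB

set_option autoImplicit false
universe v u
open PCurv

namespace Groth.Agent.S16794

open TensorProduct in
/-- Let p be a prime number and B a commutative algebra of characteristic p over a commutative ring A
whose module Ω of Kähler differentials over A is free of rank one on a form ω; let θ₀ be the
A-derivation of B dual to ω (its B-linear functional Ω → B takes the value 1 on ω), and let ∇ be a
connection on a finite free B-module M. Then the p-curvature of ∇ vanishes identically — for every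
A-derivation θ of B and every derivation θ' that agrees with the p-fold iterate of θ, the
endomorphism (∇_θ)^p − ∇_{θ'} of M is zero — if and only if it vanishes for the single derivation
θ₀. -/
theorem result {A : Type v} {B M : Type u} [CommRing A] [CommRing B]
    [Algebra A B] (p : ℕ) [Fact p.Prime] [CharP B p]
    [AddCommGroup M] [Module B M] [Module A M] [IsScalarTower A B M] [Module.Finite B M] [Module.Free B M]
    (bΩ : Module.Basis (Fin 1) B (KaehlerDifferential A B)) (θ₀ : Derivation A B B)
    (hθ₀ : θ₀.liftKaehlerDifferential (bΩ 0) = 1)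
    (nabla : M →ₗ[A] M ⊗[B] KaehlerDifferential A B)
    (hc : Conn.IsConn (KaehlerDifferential.D A B) nabla) :
    (∀ θ θp : Derivation A B B, Conn.IsIterPow θ p θp → Conn.pCurv p nabla θ θp = 0) ↔
      (∀ θp : Derivation A B B, Conn.IsIterPow θ₀ p θp → Conn.pCurv p nabla θ₀ θp = 0) := by
  classical
  have hp : p.Prime := Fact.out
  constructor
  · intro h θp hθp
    exact h θ₀ θp hθp
  · intro h θ θp hθp
    -- the underlying `ℤ`-derivation
    let θZ : Derivation ℤ B B :=
      Derivation.mk' ((θ₀ : B →+ B).toIntLinearMap) (fun a b => θ₀.leibniz a b)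
    have hθZ : ∀ b, θZ b = θ₀ b := fun _ => rfl
    have hfun : (⇑θZ : B → B) = ⇑θ₀ := rfl
    have ore2 := Groth.Agent.Lib.helper10.OreB.isOre_end θZ
    -- the `p`-th iterate of `θ₀` as a derivation
    have hleib : ∀ a b : B, ((θ₀ : B →ₗ[A] B) ^ p) (a * b) =
        a • ((θ₀ : B →ₗ[A] B) ^ p) b + b • ((θ₀ : B →ₗ[A] B) ^ p) a := by
      intro a b
      have h4 := ore2.pow_char_mul p a
      have h5 := LinearMap.congr_fun h4 b
      simp only [Module.End.mul_apply, Module.toModuleEnd_apply, DistribSMul.toLinearMap_apply,
        smul_eq_mul, LinearMap.add_apply, Module.End.pow_apply, Derivation.coeFn_coe, hfun] at h5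
      simp only [Module.End.pow_apply, Derivation.coeFn_coe, smul_eq_mul]
      rw [h5]
      ring
    let θ₀p : Derivation A B B := Derivation.mk' ((θ₀ : B →ₗ[A] B) ^ p) hleib
    have hθ₀p : ∀ b, θ₀p b = (⇑θ₀)^[p] b := fun b => by
      change ((θ₀ : B →ₗ[A] B) ^ p) b = _
      rw [Module.End.pow_apply]
      rfl
    have hiter : Conn.IsIterPow θ₀ p θ₀p := hθ₀p
    have h0 := h θ₀p hiter
    rw [Conn.pCurv, sub_eq_zero] at h0
    -- the triple on `M`
    have hsmul : ∀ (l : KaehlerDifferential A B →ₗ[B] B) (b : B) (m : M),
        Conn.along nabla l (b • m) = b • Conn.along nabla l m +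
          l (KaehlerDifferential.D A B b) • m := by
      intro l b m
      rw [Conn.along_apply, hc b m, map_add, map_add, map_smul, map_smul, Conn.along_apply]
      simp
    have hlsmul : ∀ (l : KaehlerDifferential A B →ₗ[B] B) (b : B) (m : M),
        Conn.along nabla (b • l) m = b • Conn.along nabla l m := by
      intro l b m
      rw [Conn.along_apply, Conn.along_apply, TensorProduct.map_smul_right, LinearMap.smul_apply,
        map_smul]
    have hladd : ∀ (l₁ l₂ : KaehlerDifferential A B →ₗ[B] B) (m : M),
        Conn.along nabla (l₁ + l₂) m = Conn.along nabla l₁ m + Conn.along nabla l₂ m := by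
      intro l₁ l₂ m
      rw [Conn.along_apply, Conn.along_apply, Conn.along_apply, TensorProduct.map_add_right,
        LinearMap.add_apply, map_add]
    have ore1 : Groth.Agent.Lib.helper10.OreA.IsOre (Module.toModuleEnd A (S := B) M) (⇑θZ)
        (Conn.alongDer nabla θ₀) := by
      intro b
      apply LinearMap.ext
      intro m
      simp only [Module.End.mul_apply, Module.toModuleEnd_apply, DistribSMul.toLinearMap_apply,
        LinearMap.add_apply]
      rw [Conn.alongDer, hsmul, Derivation.liftKaehlerDifferential_comp_D, hθZ]
    -- every derivation is a multiple of `θ₀`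
    set f : B := θ.liftKaehlerDifferential (bΩ 0) with hf
    have hlin : θ.liftKaehlerDifferential = f • θ₀.liftKaehlerDifferential := by
      apply bΩ.ext
      intro i
      rw [Fin.fin_one_eq_zero i, LinearMap.smul_apply, hθ₀, smul_eq_mul, mul_one]
    have hθ : ∀ b, θ b = f * θ₀ b := by
      intro b
      rw [← Derivation.liftKaehlerDifferential_comp_D θ b, hlin, LinearMap.smul_apply,
        Derivation.liftKaehlerDifferential_comp_D, smul_eq_mul]
    have hθfun : (⇑θ : B → B) = fun b => f * θZ b := funext hθ
    -- Hochschild on `B`
    set g : B := Groth.Agent.Lib.helper10.OreA.coef (⇑θZ) f p 1 with hg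
    have hoch2 := Groth.Agent.Lib.helper10.OreB.hochschild θZ p ore2 f
    have hθp' : ∀ b, θp b = f ^ p * θ₀p b + g * θ₀ b := by
      intro b
      have h5 := LinearMap.congr_fun hoch2 b
      simp only [Module.End.mul_apply, Module.toModuleEnd_apply, DistribSMul.toLinearMap_apply,
        smul_eq_mul, LinearMap.add_apply, Module.End.pow_apply, Derivation.coeFn_coe] at h5
      rw [hθp b, hθ₀p b, hθfun, ← hg, hfun] at *
      rw [← h5]
      congr 1
    have hlinp : θp.liftKaehlerDifferential =
        f ^ p • θ₀p.liftKaehlerDifferential + g • θ₀.liftKaehlerDifferential := by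
      apply Derivation.liftKaehlerDifferential_unique
      apply Derivation.ext
      intro b
      change θp.liftKaehlerDifferential (KaehlerDifferential.D A B b) =
        (f ^ p • θ₀p.liftKaehlerDifferential + g • θ₀.liftKaehlerDifferential)
          (KaehlerDifferential.D A B b)
      simp only [LinearMap.add_apply, LinearMap.smul_apply,
        Derivation.liftKaehlerDifferential_comp_D, smul_eq_mul]
      exact hθp' b
    -- Hochschild on `M`
    have hoch1 := Groth.Agent.Lib.helper10.OreB.hochschild θZ p ore1 f
    have e1 : Conn.alongDer nabla θ =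
        (Module.toModuleEnd A (S := B) M) f * Conn.alongDer nabla θ₀ := by
      apply LinearMap.ext
      intro m
      simp only [Module.End.mul_apply, Module.toModuleEnd_apply, DistribSMul.toLinearMap_apply]
      rw [Conn.alongDer, hlin, hlsmul]
      rfl
    have e2 : Conn.alongDer nabla θp =
        (Module.toModuleEnd A (S := B) M) (f ^ p) * Conn.alongDer nabla θ₀p +
          (Module.toModuleEnd A (S := B) M) g * Conn.alongDer nabla θ₀ := by
      apply LinearMap.ext
      intro m
      simp only [Module.End.mul_apply, Module.toModuleEnd_apply, DistribSMul.toLinearMap_apply,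
        LinearMap.add_apply]
      rw [Conn.alongDer, hlinp, hladd, hlsmul, hlsmul]
      rfl
    rw [Conn.pCurv, e1, e2, hoch1, ← hg, h0, sub_self]

end Groth.Agent.S16794
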