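import Groth.Statements.S16795
import Groth.Agent.Lib.Helper12.LogConnPiece
import Mathlib

set_option autoImplicit false
universe v u
open LogConn

namespace Groth.Agent.S16795

section Aux
open TensorProduct Groth.Agent.Lib.Helper12.LogConnPiece

variable {A : Type v} {B L E : Type u} [CommRing A] [CommRing B]
    [Algebra A B] [AddCommGroup L] [Module B L] [Module A L] [IsScalarTower A B L]
    [AddCommGroup E] [Module B E] [Module A E] [IsScalarTower A B E]
    (lam : B) {n : ℕ} (t : Fin n → B) (bΩ : Module.Basis (Fin n) B (KaehlerDifferential A B))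
    (hbΩ : ∀ i, bΩ i = KaehlerDifferential.D A B (t i))
    (ω : Module.Basis (Fin n) B L) (ι : KaehlerDifferential A B →ₗ[B] L)
    (hι : ∀ i, ι (KaehlerDifferential.D A B (t i)) = t i • ω i)
    (nabla : E →ₗ[A] E ⊗[B] L)
    (hc : Conn.IsLamConn (ι.compDer (KaehlerDifferential.D A B)) lam nabla)

lemma prod_sdiff_mul (I J K : Finset (Fin n)) (hJ : J ⊆ I) (hK : K ⊆ J) :
    (∏ i ∈ I \ J, t i) * (∏ i ∈ J \ K, t i) = ∏ i ∈ I \ K, t i := by
  classical
  rw [← Finset.prod_union]
  · congr 1
    ext x
    simp only [Finset.mem_union, Finset.mem_sdiff]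
    constructor
    · rintro (⟨h1, h2⟩ | ⟨h1, h2⟩)
      · exact ⟨h1, fun h => h2 (hK h)⟩
      · exact ⟨hJ h1, h2⟩
    · rintro ⟨h1, h2⟩
      by_cases hx : x ∈ J
      · exact Or.inr ⟨hx, h2⟩
      · exact Or.inl ⟨h1, hx⟩
  · rw [Finset.disjoint_left]
    intro x hx hx'
    exact (Finset.mem_sdiff.mp hx).2 (Finset.mem_sdiff.mp hx').1

/-- the `B`-span of `t_{s∖K} ∇_K e`, `K ⊆ s`. -/
def WW (s : Finset (Fin n)) (e : E) : Submodule B E :=
  Submodule.span B {w | ∃ K ⊆ s, w = (∏ i ∈ s \ K, t i) • LogConn.compProd nabla ω K e}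

include hbΩ hι hc in
lemma comp_WW (a : Fin n) (s : Finset (Fin n)) (ha : ∀ x ∈ s, a < x) (e : E) (w : E)
    (hw : w ∈ WW t ω nabla s e) :
    LogConn.comp nabla ω a w ∈ WW t ω nabla (insert a s) e ∧ t a • w ∈ WW t ω nabla (insert a s) e := by
  have has : a ∉ s := fun h => lt_irrefl a (ha a h)
  have hsd : ∀ K ⊆ s, insert a s \ K = insert a (s \ K) := by
    intro K hK
    ext x
    simp only [Finset.mem_sdiff, Finset.mem_insert]
    constructor
    · rintro ⟨k1 | k1, k2⟩
      · exact Or.inl k1
      · exact Or.inr ⟨k1, k2⟩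
    · rintro (k1 | ⟨k1, k2⟩)
      · exact ⟨Or.inl k1, fun k3 => has (k1 ▸ hK k3)⟩
      · exact ⟨Or.inr k1, k2⟩
  have hta : ∀ K ⊆ s, ∀ e' : E, t a • ((∏ i ∈ s \ K, t i) • e') = (∏ i ∈ insert a s \ K, t i) • e' := by
    intro K hK e'
    rw [smul_smul, hsd K hK, Finset.prod_insert (fun h => has (Finset.mem_sdiff.mp h).1)]
  unfold WW at hw
  induction hw using Submodule.span_induction with
  | mem w hw =>
    obtain ⟨K, hK, rfl⟩ := hw
    constructor
    · rw [comp_smul lam t bΩ hbΩ ω ι hι nabla hc, pd_prod t bΩ hbΩ a (s \ K)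
        (fun h => has (Finset.mem_sdiff.mp h).1), zero_mul, mul_zero, zero_smul, add_zero]
      have h1 : LogConn.comp nabla ω a (LogConn.compProd nabla ω K e) =
          LogConn.compProd nabla ω (insert a K) e := by
        rw [compProd_insert ω nabla a K (fun x hx => ha x (hK hx))]; rfl
      have h2 : s \ K = insert a s \ insert a K := by
        ext x
        simp only [Finset.mem_sdiff, Finset.mem_insert]
        constructor
        · rintro ⟨k1, k2⟩
          refine ⟨Or.inr k1, ?_⟩
          rintro (k3 | k3)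
          · exact has (k3 ▸ k1)
          · exact k2 k3
        · rintro ⟨k1 | k1, k2⟩
          · exact absurd (Or.inl k1) k2
          · exact ⟨k1, fun k3 => k2 (Or.inr k3)⟩
      rw [h1, h2]
      exact Submodule.subset_span ⟨insert a K, Finset.insert_subset_insert a hK, rfl⟩
    · rw [hta K hK]
      exact Submodule.subset_span ⟨K, hK.trans (Finset.subset_insert a s), rfl⟩
  | zero => exact ⟨by rw [map_zero]; exact Submodule.zero_mem _, by rw [smul_zero]; exact Submodule.zero_mem _⟩
  | add x y _ _ hx hy =>
    exact ⟨by rw [map_add]; exact Submodule.add_mem _ hx.1 hy.1,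
      by rw [smul_add]; exact Submodule.add_mem _ hx.2 hy.2⟩
  | smul c x _ hx =>
    constructor
    · rw [comp_smul lam t bΩ hbΩ ω ι hι nabla hc]
      refine Submodule.add_mem _ (Submodule.smul_mem _ _ hx.1) ?_
      have : (lam * (pd bΩ a c * t a)) • x = (lam * pd bΩ a c) • (t a • x) := by
        rw [smul_smul]; congr 1; ring
      rw [this]
      exact Submodule.smul_mem _ _ hx.2
    · rw [smul_comm]
      exact Submodule.smul_mem _ _ hx.2

include hbΩ hι hc in
lemma compProd_smul_mem (J : Finset (Fin n)) : ∀ (b : B) (e : E),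
    LogConn.compProd nabla ω J (b • e) ∈ WW t ω nabla J e := by
  induction J using Finset.induction_on_min with
  | empty =>
    intro b e
    rw [compProd_empty, LinearMap.id_apply]
    refine Submodule.smul_mem _ _ (Submodule.subset_span ⟨∅, Finset.Subset.refl _, ?_⟩)
    simp [compProd_empty]
  | insert a s ha ih =>
    intro b e
    rw [compProd_insert ω nabla a s ha, LinearMap.comp_apply]
    exact (comp_WW lam t bΩ hbΩ ω ι hι nabla hc a s ha e _ (ih b e)).1

include hbΩ hι hc in
theorem main {m : ℕ} (e : Fin m → E) (he : Submodule.span B (Set.range e) = ⊤) (I : Finset (Fin n)) :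
    (Submodule.span B (⋃ J ∈ I.powerset, Set.range (fun k : Fin m =>
        (∏ i ∈ I \ J, t i) • LogConn.compProd nabla ω J (e k)))).restrictScalars A =
      LogConn.piece nabla ω t I := by
  set S : Set E := ⋃ J ∈ I.powerset, Set.range (fun k : Fin m =>
        (∏ i ∈ I \ J, t i) • LogConn.compProd nabla ω J (e k)) with hS
  apply le_antisymm
  · -- B-stability
    let PB : Submodule B E :=
      { carrier := LogConn.piece nabla ω t I
        add_mem' := fun ha hb => Submodule.add_mem _ ha hb
        zero_mem' := Submodule.zero_mem _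
        smul_mem' := fun b x hx =>
          Groth.Agent.Lib.Helper12.LogConnPiece.main lam t bΩ hbΩ ω ι hι nabla hc I b x hx }
    have hle : Submodule.span B S ≤ PB := by
      rw [Submodule.span_le]
      intro x hx
      rw [hS] at hx
      simp only [Set.mem_iUnion, Set.mem_range] at hx
      obtain ⟨J, hJ, k, rfl⟩ := hx
      exact mem_piece_of t ω nabla I J (Finset.mem_powerset.mp hJ) (e k)
    intro x hx
    exact hle hx
  · rw [LogConn.piece]
    refine iSup_le fun J => iSup_le fun hJ => ?_
    have hJ' := Finset.mem_powerset.mp hJ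
    rintro _ ⟨x, rfl⟩
    show (∏ i ∈ I \ J, t i) • LogConn.compProd nabla ω J x ∈ Submodule.span B S
    have hx : x ∈ Submodule.span B (Set.range e) := by rw [he]; trivial
    obtain ⟨c, rfl⟩ := (Submodule.mem_span_range_iff_exists_fun B).mp hx
    rw [map_sum, Finset.smul_sum]
    refine Submodule.sum_mem _ fun k _ => ?_
    have h1 := compProd_smul_mem lam t bΩ hbΩ ω ι hι nabla hc J (c k) (e k)
    have hle : WW t ω nabla J (e k) ≤
        (Submodule.span B S).comap (LinearMap.lsmul B E (∏ i ∈ I \ J, t i)) := by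
      rw [WW, Submodule.span_le]
      rintro _ ⟨K, hK, rfl⟩
      show (∏ i ∈ I \ J, t i) • ((∏ i ∈ J \ K, t i) • LogConn.compProd nabla ω K (e k)) ∈
        Submodule.span B S
      rw [smul_smul, prod_sdiff_mul t I J K hJ' hK]
      refine Submodule.subset_span ?_
      rw [hS]
      simp only [Set.mem_iUnion, Set.mem_range]
      exact ⟨K, Finset.mem_powerset.mpr (hK.trans hJ'), k, rfl⟩
    exact hle h1


end Aux

open TensorProduct in
/-- Let B be a commutative algebra over a commutative ring A, λ ∈ B, and t₁, …, tₙ ∈ B elements whose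
differentials dt₁, …, dtₙ form a basis of the Kähler differentials Ω of B over A; let L be a
B-module free on ω₁, …, ωₙ with a B-linear ι : Ω → L sending dtᵢ to tᵢ ωᵢ (ωᵢ playing the role of
dlog tᵢ), and E a B-module with an A-linear ∇ : E → E ⊗ L obeying the λ-twisted Leibniz rule ∇(b e)
= b ∇e + λ e ⊗ ι(db); write ∇ᵢ for the components of ∇ in the basis ω, ∇_J for their composite over
a finite index set J in increasing order, and E_I = Σ_{J ⊆ I} (∏_{i ∈ I∖J} tᵢ) · ∇_J(E) (an
A-submodule of E) for a finite index set I. Suppose E is generated over B by finitely many elements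
e₁, …, e_m. Then for every finite index set I the piece E_I is the B-span of the finitely many
elements (∏_{i ∈ I∖J} tᵢ) · ∇_J(e_k), J ⊆ I, 1 ≤ k ≤ m; in particular E_I is a finitely generated
B-module. (The published statement is phrased for sheaves — E_w is quasi-coherent, resp. coherent,
when E is — and its proof exhibits these generators; flatness of ∇ is not used.) -/
theorem result {A : Type v} {B L E : Type u} [CommRing A] [CommRing B]
    [Algebra A B] [AddCommGroup L] [Module B L] [Module A L] [IsScalarTower A B L]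
    [AddCommGroup E] [Module B E] [Module A E] [IsScalarTower A B E]
    (lam : B) {n : ℕ} (t : Fin n → B) (bΩ : Module.Basis (Fin n) B (KaehlerDifferential A B))
    (hbΩ : ∀ i, bΩ i = KaehlerDifferential.D A B (t i))
    (ω : Module.Basis (Fin n) B L) (ι : KaehlerDifferential A B →ₗ[B] L)
    (hι : ∀ i, ι (KaehlerDifferential.D A B (t i)) = t i • ω i)
    (nabla : E →ₗ[A] E ⊗[B] L)
    (hc : Conn.IsLamConn (ι.compDer (KaehlerDifferential.D A B)) lam nabla)
    {m : ℕ} (e : Fin m → E) (he : Submodule.span B (Set.range e) = ⊤) (I : Finset (Fin n)) :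
    (Submodule.span B (⋃ J ∈ I.powerset, Set.range (fun k : Fin m =>
        (∏ i ∈ I \ J, t i) • LogConn.compProd nabla ω J (e k)))).restrictScalars A =
      LogConn.piece nabla ω t I := by
  exact main lam t bΩ hbΩ ω ι hι nabla hc e he I

end Groth.Agent.S16795
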