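import Groth.Statements.S16805
-- import your own Groth.Agent.* helpers here
import Groth.Agent.Lib.Helper27.FieldPt2


set_option autoImplicit false
universe u
open CategoryTheory AlgebraicGeometry
open Gerb

namespace Groth.Agent.S16805

/-- For an algebraic stack 𝒵 the following are equivalent: 𝒵 is reduced with exactly one point; 𝒵
receives a surjective flat morphism from the spectrum of a field; 𝒵 receives a locally of finite
type, surjective, flat morphism from the spectrum of a field. -/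
theorem result
    (S : Scheme.{u}) (𝒵 : AlgSt.Cat S) (h𝒵 : AlgSt.IsAlgStack Scheme.fppfPrecoverage 𝒵) :
    [AlgSt.SmoothLocally (fun T => IsReduced T) 𝒵 ∧ Nonempty (AlgSt.Points 𝒵) ∧ Subsingleton (AlgSt.Points 𝒵),
      ∃ (k : Type u) (_ : Field k) (a : Spec (CommRingCat.of k) ⟶ S)
        (z : FibCat.overCat (Over.mk a) ⥤ᵇ 𝒵), AlgSt.RepByAlgSpWith AlgSp.IsSurjectiveMor z ∧ AlgSt.RepByAlgSpWith (AlgSp.LocP @Flat) z,
      ∃ (k : Type u) (_ : Field k) (a : Spec (CommRingCat.of k) ⟶ S)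
        (z : FibCat.overCat (Over.mk a) ⥤ᵇ 𝒵), AlgSt.RepByAlgSpWith (AlgSp.LocP @LocallyOfFiniteType) z ∧
          AlgSt.RepByAlgSpWith AlgSp.IsSurjectiveMor z ∧ AlgSt.RepByAlgSpWith (AlgSp.LocP @Flat) z].TFAE := by
  have inst : ∀ (k : Type u) [Field k] (a : Spec (CommRingCat.of k) ⟶ S),
      Subsingleton ↥(Over.mk a).left ∧ IsIntegral (Over.mk a).left ∧ Nonempty ↥(Over.mk a).left :=
    fun k _ a => ⟨inferInstanceAs (Subsingleton (PrimeSpectrum k)),
      inferInstanceAs (IsIntegral (Spec (CommRingCat.of k))),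
      inferInstanceAs (Nonempty (PrimeSpectrum k))⟩
  tfae_have 1 → 2 := fun ⟨h1, h2, h3⟩ =>
    Groth.Agent.Lib.Helper27.FieldPt.exists_flat_fieldPt h𝒵 h1 h2 h3
  tfae_have 2 → 3 := by
    rintro ⟨k, hk, a, z, hzs, hzf⟩
    obtain ⟨i1, i2, -⟩ := inst k a
    obtain ⟨k', hk', a', z', h1, -, h2, h3⟩ :=
      Groth.Agent.Lib.Helper27.FieldPt.exists_lft_fieldPt h𝒵 (Over.mk a) z hzs hzf
    exact ⟨k', hk', a', z', h1, h2, h3⟩
  tfae_have 3 → 2 := fun ⟨k, hk, a, z, _, h2, h3⟩ => ⟨k, hk, a, z, h2, h3⟩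
  tfae_have 2 → 1 := by
    rintro ⟨k, hk, a, z, hzs, hzf⟩
    obtain ⟨i1, i2, i3⟩ := inst k a
    exact ⟨Groth.Agent.Lib.Helper27.FieldPt.isReduced_chart_of_fieldPt h𝒵 a z hzs hzf,
      Groth.Agent.Lib.Helper27.FieldPt.nonempty_points_of_chart z,
      Groth.Agent.Lib.Helper27.FieldPt.subsingleton_points_of_fieldPt h𝒵 (Over.mk a) z hzs⟩
  tfae_finish

end Groth.Agent.S16805
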