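import Groth.Statements.S16806
-- import your own Groth.Agent.* helpers here
import Groth.Agent.Lib.Helper27.FieldPt2


set_option autoImplicit false
universe u
open CategoryTheory AlgebraicGeometry
open Gerb

namespace Groth.Agent.S16806

/-- An algebraic stack 𝒵 is reduced, locally Noetherian and has exactly one point if and only if it
receives a locally finitely presented, surjective, flat morphism from the spectrum of a field. -/
theorem result
    (S : Scheme.{u}) (𝒵 : AlgSt.Cat S) (h𝒵 : AlgSt.IsAlgStack Scheme.fppfPrecoverage 𝒵) :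
    (AlgSt.SmoothLocally (fun T => IsReduced T) 𝒵 ∧ AlgSt.SmoothLocally (fun T => IsLocallyNoetherian T) 𝒵 ∧
        Nonempty (AlgSt.Points 𝒵) ∧ Subsingleton (AlgSt.Points 𝒵)) ↔
      ∃ (k : Type u) (_ : Field k) (a : Spec (CommRingCat.of k) ⟶ S)
        (z : FibCat.overCat (Over.mk a) ⥤ᵇ 𝒵), AlgSt.RepByAlgSpWith (AlgSp.LocP @LocallyOfFinitePresentation) z ∧
          AlgSt.RepByAlgSpWith AlgSp.IsSurjectiveMor z ∧ AlgSt.RepByAlgSpWith (AlgSp.LocP @Flat) z := by
  have inst : ∀ (k : Type u) [Field k] (a : Spec (CommRingCat.of k) ⟶ S),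
      Subsingleton ↥(Over.mk a).left ∧ IsIntegral (Over.mk a).left ∧ Nonempty ↥(Over.mk a).left :=
    fun k _ a => ⟨inferInstanceAs (Subsingleton (PrimeSpectrum k)),
      inferInstanceAs (IsIntegral (Spec (CommRingCat.of k))),
      inferInstanceAs (Nonempty (PrimeSpectrum k))⟩
  constructor
  · rintro ⟨h1, hn, h2, h3⟩
    obtain ⟨k, hk, a, z, hzs, hzf⟩ :=
      Groth.Agent.Lib.Helper27.FieldPt.exists_flat_fieldPt h𝒵 h1 h2 h3
    obtain ⟨i1, i2, -⟩ := inst k a
    obtain ⟨k', hk', a', z', -, h4, h5, h6⟩ :=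
      Groth.Agent.Lib.Helper27.FieldPt.exists_lft_fieldPt h𝒵 (Over.mk a) z hzs hzf
    exact ⟨k', hk', a', z', h4 hn, h5, h6⟩
  · rintro ⟨k, hk, a, z, hzp, hzs, hzf⟩
    obtain ⟨i1, i2, i3⟩ := inst k a
    exact ⟨Groth.Agent.Lib.Helper27.FieldPt.isReduced_chart_of_fieldPt h𝒵 a z hzs hzf,
      Groth.Agent.Lib.Helper27.FieldPt.isLocallyNoetherian_chart_of_fieldPt h𝒵 a z hzp hzs hzf,
      Groth.Agent.Lib.Helper27.FieldPt.nonempty_points_of_chart z,
      Groth.Agent.Lib.Helper27.FieldPt.subsingleton_points_of_fieldPt h𝒵 (Over.mk a) z hzs⟩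

end Groth.Agent.S16806
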