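import Groth.Statements.S1683
import Groth.Agent.Lib.Helper29.BlowUpUP2
import Groth.Agent.S3861
import Groth.Agent.S8852

set_option autoImplicit false
universe u
open CategoryTheory CategoryTheory.Limits AlgebraicGeometry TopologicalSpace
open SDiv

namespace Groth.Agent.S1683

open Groth.Agent.Lib.Helper29.EffCart


/-- Let 𝓘, 𝓙 be quasi-coherent ideal sheaves on X, b : X' ⟶ X a blowing-up along 𝓘 and b' : X'' ⟶ X' a
blowing-up along the inverse image ideal of 𝓙. Then b' ≫ b : X'' ⟶ X is a blowing-up of X along the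
product ideal 𝓘𝓙. -/
theorem result {X X' X'' : Scheme.{u}} (𝓘 𝓙 : X.IdealSheafData) (b : X' ⟶ X) (hb : BlowUp.IsBlowUp b 𝓘)
    (b' : X'' ⟶ X') (hb' : BlowUp.IsBlowUp b' (𝓙.comap b)) : BlowUp.IsBlowUp (b' ≫ b) (𝓘 * 𝓙) := by
  refine ⟨?_, ?_⟩
  · rw [Groth.Agent.S3861.result, Scheme.IdealSheafData.comap_comp,
      Scheme.IdealSheafData.comap_comp]
    exact isEffCartierIdeal_mul _ _ (IsBlowUp.isEffCartierIdeal_comap hb' _ hb.1) hb'.1
  · intro T h hT
    rw [Groth.Agent.S3861.result] at hT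
    obtain ⟨hT1, hT2⟩ := Groth.Agent.S8852.result _ _ hT
    obtain ⟨k, hk, hkuniq⟩ := hb.2 T h hT1
    have hT2' : BlowUp.IsEffCartierIdeal ((𝓙.comap b).comap k) := by
      rw [← Scheme.IdealSheafData.comap_comp, hk]; exact hT2
    obtain ⟨k', hk', hk'uniq⟩ := hb'.2 T k hT2'
    refine ⟨k', ?_, ?_⟩
    · change k' ≫ b' ≫ b = h
      rw [← Category.assoc, hk', hk]
    · intro m hm
      apply hk'uniq
      apply hkuniq
      change (m ≫ b') ≫ b = h
      rw [Category.assoc]; exact hm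

end Groth.Agent.S1683
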