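import Groth.Statements.S1684
import Groth.Agent.Lib.Helper29.EffCart3

set_option autoImplicit false
universe u
open CategoryTheory CategoryTheory.Limits AlgebraicGeometry TopologicalSpace
open SDiv

namespace Groth.Agent.S1684



section Helpers
open Groth.Agent.Lib.Helper29.EffCart

/-- For an integral closed subscheme, the ideal on an affine open meeting the support is prime. -/
lemma isPrime_ideal_of_isIntegral {X : Scheme.{u}} (D : X.IdealSheafData) [IsIntegral D.subscheme]
    (U : X.affineOpens) (x : X) (hxU : x ∈ U.1) (hx : x ∈ D.support) : (D.ideal U).IsPrime := by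
  obtain ⟨d, hd⟩ : ∃ d : D.subscheme, D.subschemeι d = x := by
    have : x ∈ Set.range D.subschemeι := by
      rw [D.range_subschemeι]; exact hx
    exact this
  have hne : Nonempty ↥(D.subschemeι ⁻¹ᵁ U.1) := ⟨⟨d, by
    change D.subschemeι d ∈ U.1
    rw [hd]; exact hxU⟩⟩
  have hdom : IsDomain Γ(D.subscheme, D.subschemeι ⁻¹ᵁ U.1) :=
    @IsIntegral.component_integral _ _ _ hne
  have e := (D.subschemeObjIso U).commRingCatIsoToRingEquiv
  have : IsDomain (Γ(X, U.1) ⧸ D.ideal U) := e.symm.toMulEquiv.isDomain _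
  exact (Ideal.Quotient.isDomain_iff_prime _).1 this

/-- The image of the generic point of an integral closed subscheme is the point of the prime ideal
`D.ideal U` for any affine open `U` meeting the support. -/
lemma subschemeι_genericPoint_eq {X : Scheme.{u}} (D : X.IdealSheafData) [IsIntegral D.subscheme]
    (U : X.affineOpens) (x : X) (hxU : x ∈ U.1) (hx : x ∈ D.support)
    (hprime : (D.ideal U).IsPrime) :
    D.subschemeι (genericPoint ↥D.subscheme) = U.2.fromSpec ⟨D.ideal U, hprime⟩ := by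
  have hspec : ∀ z : X, z ∈ D.support → D.subschemeι (genericPoint ↥D.subscheme) ⤳ z := by
    intro z hz
    obtain ⟨d, rfl⟩ : ∃ d : D.subscheme, D.subschemeι d = z := by
      have : z ∈ Set.range D.subschemeι := by
        rw [D.range_subschemeι]; exact hz
      exact this
    exact (genericPoint_specializes d).map D.subschemeι.continuous
  have hξU : D.subschemeι (genericPoint ↥D.subscheme) ∈ U.1 :=
    mem_of_specializes (hspec x hx) hxU
  have hξs : D.subschemeι (genericPoint ↥D.subscheme) ∈ D.support := by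
    have : D.subschemeι (genericPoint ↥D.subscheme) ∈ Set.range D.subschemeι := ⟨_, rfl⟩
    rw [D.range_subschemeι] at this
    exact this
  obtain ⟨q, hq⟩ := exists_fromSpec_eq U hξU
  rw [← hq]
  congr 1
  apply PrimeSpectrum.ext
  have h1 : D.ideal U ≤ q.asIdeal := by
    rw [← fromSpec_mem_support_iff, hq]; exact hξs
  have h2 : U.2.fromSpec ⟨D.ideal U, hprime⟩ ∈ D.support :=
    (fromSpec_mem_support_iff D U _).2 le_rfl
  have h3 := hspec _ h2
  rw [← hq, fromSpec_specializes_iff] at h3
  exact le_antisymm h3 h1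

end Helpers

/-- Let X be a locally Noetherian scheme and 𝓘 a quasi-coherent ideal sheaf whose closed subscheme D is
integral, of codimension 1 in X (the local ring of X at the generic point of D has dimension 1), and
such that the local ring of X at every point of D is a unique factorisation domain. Then 𝓘 is the
ideal sheaf of an effective Cartier divisor. -/
theorem result (X : Scheme.{u}) [IsLocallyNoetherian X] (𝓘 : X.IdealSheafData)
    [IsIntegral 𝓘.subscheme]
    (hcodim : ringKrullDim (X.presheaf.stalk (𝓘.subschemeι (genericPoint ↥𝓘.subscheme))) = 1)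
    (hufd : ∀ x : ↥X, x ∈ 𝓘.support → IsDomain (X.presheaf.stalk x) ∧ UniqueFactorizationMonoid (X.presheaf.stalk x)) :
    BlowUp.IsEffCartierIdeal 𝓘 := by
  open Groth.Agent.Lib.Helper29.EffCart in
  intro x
  by_cases hx : x ∈ 𝓘.support
  · obtain ⟨_, ⟨U, hU, rfl⟩, hxU, -⟩ :=
      X.isBasis_affineOpens.exists_subset_of_mem_open (Set.mem_univ x) isOpen_univ
    have hprime := isPrime_ideal_of_isIntegral 𝓘 ⟨U, hU⟩ x hxU hx
    have hgenpt := subschemeι_genericPoint_eq 𝓘 ⟨U, hU⟩ x hxU hx hprime
    have hht : (𝓘.ideal ⟨U, hU⟩).height = 1 := by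
      rw [hgenpt, ringKrullDim_stalk_fromSpec] at hcodim
      exact_mod_cast hcodim
    obtain ⟨p, rfl⟩ := exists_fromSpec_eq ⟨U, hU⟩ hxU
    haveI : IsNoetherianRing Γ(X, U) := IsLocallyNoetherian.component_noetherian ⟨U, hU⟩
    obtain ⟨hdom, hufd'⟩ := hufd _ hx
    letI alg : Algebra Γ(X, U) (X.presheaf.stalk (hU.fromSpec p)) :=
      TopCat.Presheaf.algebra_section_stalk X.presheaf ⟨hU.fromSpec p, fromSpec_mem ⟨U, hU⟩ p⟩
    haveI hloc : IsLocalization.AtPrime (X.presheaf.stalk (hU.fromSpec p)) p.asIdeal :=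
      hU.isLocalization_stalk' p (fromSpec_mem ⟨U, hU⟩ p)
    have hle : 𝓘.ideal ⟨U, hU⟩ ≤ p.asIdeal := (fromSpec_mem_support_iff 𝓘 ⟨U, hU⟩ p).1 hx
    have hdisj : Disjoint (p.asIdeal.primeCompl : Set Γ(X, U)) (𝓘.ideal ⟨U, hU⟩ : Set Γ(X, U)) := by
      rw [Set.disjoint_left]
      intro a ha haI
      exact ha (hle haI)
    haveI hP : ((𝓘.ideal ⟨U, hU⟩).map (algebraMap Γ(X, U) (X.presheaf.stalk (hU.fromSpec p)))).IsPrime :=
      IsLocalization.isPrime_of_isPrime_disjoint p.asIdeal.primeCompl _ _ hprime hdisj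
    have hPht : ((𝓘.ideal ⟨U, hU⟩).map
        (algebraMap Γ(X, U) (X.presheaf.stalk (hU.fromSpec p)))).height = 1 := by
      rw [IsLocalization.height_map_of_disjoint p.asIdeal.primeCompl _ hdisj, hht]
    obtain ⟨g, hg⟩ := UniqueFactorizationMonoid.isPrincipal_of_height_eq_one hPht
    have hg0 : g ≠ 0 := by
      rintro rfl
      have : (𝓘.ideal ⟨U, hU⟩).map
          (algebraMap Γ(X, U) (X.presheaf.stalk (hU.fromSpec p))) = ⊥ := by
        rw [hg]; simp
      rw [this] at hPht
      simp at hPht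
    obtain ⟨V, hV, f, hf, hfI⟩ := exists_affine_nhd_principal_nzd 𝓘 ⟨U, hU⟩ p g
      (mem_nonZeroDivisors_of_ne_zero hg0) hg
    exact ⟨V, hV, f, hf, hfI⟩
  · obtain ⟨V, hxV, hV⟩ := exists_affine_nhd_top_of_not_mem_support 𝓘 x hx
    exact ⟨V, hxV, 1, one_mem _, by rw [hV, Ideal.span_singleton_one]⟩

end Groth.Agent.S1684
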