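import Mathlib
import Groth.Statements.S16854
import Groth.Agent.Lib.Helper22.LangFree
-- import your own Groth.Agent.* helpers here

set_option autoImplicit false
universe u v
open CAlg

namespace Groth.Agent.S16854

open Groth.Agent.Lib.Helper22.Lang in
/-- Let k be an algebraically closed field of characteristic p > 0, ν ≥ 1, W = W(k) the ring of
p-typical Witt vectors with its Frobenius endomorphism σ, M a finitely generated free W-module and F
: M → M a bijective additive map that is σ^ν-semilinear, F(a·m) = σ^ν(a)·F(m). Then M admits a
W-basis consisting of F-fixed elements; in particular M is spanned over W by M₀ = {m | F(m) = m}, a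
module over the Witt vectors of F_{p^ν}. (The copy allows ν < 0 as well, reducing to F⁻¹; stated
here for ν ≥ 1.) -/
theorem result (k : Type u) [Field k] [IsAlgClosed k]
    (p : ℕ) [Fact p.Prime] [CharP k p] (ν : ℕ) (hν : 1 ≤ ν)
    (M : Type v) [AddCommGroup M] [Module (WittVector p k) M]
    [Module.Finite (WittVector p k) M] [Module.Free (WittVector p k) M]
    (F : M →+ M)
    (hF : ∀ (a : WittVector p k) (m : M), F (a • m) = ((⇑(WittVector.frobenius : WittVector p k →+* WittVector p k))^[ν] a) • F m)
    (hbij : Function.Bijective F) :
    ∃ (ι : Type v) (b : Module.Basis ι (WittVector p k) M), ∀ i, F (b i) = b i := by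
  haveI : PerfectRing k p := inferInstance
  have hq : 2 ≤ p ^ ν := by
    calc 2 ≤ p := (Fact.out : p.Prime).two_le
      _ = p ^ 1 := (pow_one p).symm
      _ ≤ p ^ ν := Nat.pow_le_pow_right (Fact.out : p.Prime).pos hν
  have he : ∀ x : k, ((frobeniusEquiv k p) ^ ν) x = x ^ p ^ ν := by
    intro x
    rw [RingAut.coe_pow, coe_frobeniusEquiv, iterate_frobenius]
  have hθ : ∀ (n : ℕ) (w : WittVector p k),
      ((⇑(WittVector.frobenius : WittVector p k →+* WittVector p k))^[n] w).coeff 0 =
        ((frobeniusEquiv k p) ^ n) (w.coeff 0) := by
    intro n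
    induction n with
    | zero => intro w; simp
    | succ n ih =>
      intro w
      rw [Function.iterate_succ_apply', WittVector.coeff_frobenius_charP, ih, pow_succ',
        RingAut.mul_apply, frobeniusEquiv_apply, frobenius_def]
  have hspan := top_le_span_fixed_of_basis (Module.finBasis (WittVector p k) M)
    ((WittVector.frobenius : WittVector p k →+* WittVector p k) ^ ν)
    ((frobeniusEquiv k p) ^ ν) (p ^ ν) hq
    (fun w => by rw [RingHom.coe_pow]; exact hθ ν w) (Or.inl he) F
    (fun a m => by rw [RingHom.coe_pow]; exact hF a m) hbij.2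
  have hv : Submodule.span (WittVector p k)
      (Set.range (Subtype.val : {m : M // F m = m} → M)) = ⊤ := by
    rw [Subtype.range_coe_subtype]
    exact top_le_iff.mp hspan
  haveI : Module.FinitePresentation (WittVector p k) M :=
    Module.finitePresentation_of_projective _ _
  obtain ⟨κ, a, b, hb⟩ := Module.exists_basis_of_span_of_flat
    (Subtype.val : {m : M // F m = m} → M) hv
  exact ⟨κ, b, fun i => by rw [hb]; exact (a i).2⟩

end Groth.Agent.S16854
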