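import Groth.Statements.S16865
-- import your own Groth.Agent.* helpers here
import Groth.Agent.Lib.Helper27.GerbLoc
import Groth.Agent.Lib.Helper27.GerbAux


set_option autoImplicit false
universe u
open CategoryTheory AlgebraicGeometry
open Gerb

namespace Groth.Agent.S16865

/-- Being a gerbe descends along a surjective, flat, locally finitely presented base change: if g : 𝒴' →
𝒴 is such a morphism of algebraic stacks and 𝒴' ×_𝒴 𝒳 is a gerbe over 𝒴' along the first projection,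
then 𝒳 is a gerbe over 𝒴 along f. -/
theorem result
    (S : Scheme.{u}) (𝒳 𝒴 𝒴' : AlgSt.Cat S)
    (h𝒳 : AlgSt.IsAlgStack Scheme.fppfPrecoverage 𝒳) (h𝒴 : AlgSt.IsAlgStack Scheme.fppfPrecoverage 𝒴)
    (h𝒴' : AlgSt.IsAlgStack Scheme.fppfPrecoverage 𝒴')
    (f : 𝒳 ⥤ᵇ 𝒴) (g : 𝒴' ⥤ᵇ 𝒴)
    (hg₁ : AlgSt.IsSurjective g) (hg₂ : AlgSt.LocQ (AlgSp.LocP @Flat) g)
    (hg₃ : AlgSt.LocQ (AlgSp.LocP @LocallyOfFinitePresentation) g)
    (h : Gerb.IsGerbeOver (QuotSh.J Scheme.fppfPrecoverage S) (FibCat.fpFst g f)) :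
    Gerb.IsGerbeOver (QuotSh.J Scheme.fppfPrecoverage S) f := by
  have hG : Gerb.LocSurjObj (AlgSp.J S) g :=
    Groth.Agent.Lib.Helper27.GerbLoc.locSurjObj_of_fppf h𝒴'.isStack.1 h𝒴.isStack.1 g hg₂ hg₃ hg₁
  refine ⟨Groth.Agent.Lib.Helper27.GerbAux.locSurjObj_of_square _ f g (FibCat.fpFst g f)
      (FibCat.fpSnd g f) (FibCat.fpIso g f) hG h.1,
    Groth.Agent.Lib.Helper27.GerbAux.locSurjHom_of_twoCart _ h𝒳.isStack.1 h𝒴.isStack.1 f g
      (FibCat.fpFst g f) (FibCat.fpSnd g f) (FibCat.fpIso g f) ?_ hG h.2⟩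
  intro t
  refine ⟨t, Groth.Agent.Lib.Helper27.FpKit.mkIso (Iso.refl _) (Iso.refl _) ?_, ?_⟩
  · change g.toFunctor.map (𝟙 _) ≫ t.obj.iso.hom = t.obj.iso.hom ≫ f.toFunctor.map (𝟙 _)
    rw [g.toFunctor.map_id, f.toFunctor.map_id, Category.id_comp, Category.comp_id]
  · have hv : Groth.Agent.Lib.Helper27.FpKit.Vert (𝒳 := FibCat.fp g f)
        (Groth.Agent.Lib.Helper27.FpKit.mkIso (t := (FibCat.fpLift (FibCat.fpFst g f)
          (FibCat.fpSnd g f) (FibCat.fpIso g f)).obj t) (t' := t) (Iso.refl _) (Iso.refl _) (by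
          change g.toFunctor.map (𝟙 _) ≫ t.obj.iso.hom = t.obj.iso.hom ≫ f.toFunctor.map (𝟙 _)
          rw [g.toFunctor.map_id, f.toFunctor.map_id, Category.id_comp, Category.comp_id])).hom := by
      rw [Groth.Agent.Lib.Helper27.FpKit.vert_hom_iff]
      exact Groth.Agent.Lib.Helper27.FpKit.Vert.id _
    exact hv.lift' rfl

end Groth.Agent.S16865
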