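import Groth.Statements.S1688
import Groth.Agent.S8887

set_option autoImplicit false
universe u
open CategoryTheory CategoryTheory.Limits AlgebraicGeometry TopologicalSpace
open SDiv

namespace Groth.Agent.S1688

open Groth.Agent.Lib.Helper29.QCohStalk Groth.Agent.Lib.Helper28.QCohLoc Groth.Agent.S8887
open IsLocalRing

theorem isPrincipalIdealRing_of_regular (R : Type*) [CommRing R] [IsDomain R] [IsRegularLocalRing R]
    (h : ringKrullDim R ≤ 1) : IsPrincipalIdealRing R := by
  by_cases isf : IsField R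
  · letI := isf.toField
    infer_instance
  · have hfg : (maximalIdeal R).FG := (isNoetherianRing_iff_ideal_fg R).1 inferInstance _
    obtain ⟨s, hs1, hs2⟩ := Submodule.FG.exists_span_finset_card_eq_spanFinrank hfg
    have hle : s.card ≤ 1 := by
      have h1 : ((maximalIdeal R).spanFinrank : WithBot ℕ∞) ≤ 1 :=
        (IsRegularLocalRing.spanFinrank_maximalIdeal (R := R)).le.trans h
      rw [hs1]
      exact_mod_cast h1
    have hprin : (maximalIdeal R).IsPrincipal := by
      rcases Nat.le_one_iff_eq_zero_or_eq_one.1 hle with h0 | h1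
      · rw [Finset.card_eq_zero] at h0
        subst h0
        refine ⟨0, ?_⟩
        rw [← hs2]
        simp
      · obtain ⟨a, rfl⟩ := Finset.card_eq_one.1 h1
        refine ⟨a, ?_⟩
        rw [← hs2]
        simp
    have hdvr : IsDiscreteValuationRing R := ((IsDiscreteValuationRing.TFAE R isf).out 0 4).2 hprin
    exact hdvr.toIsPrincipalIdealRing

theorem ringKrullDim_stalk_le (X : Scheme.{u}) (x : X) :
    ringKrullDim (X.presheaf.stalk x) ≤ topologicalKrullDim X := by
  have h1 : topologicalKrullDim X = Order.krullDim X := by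
    unfold topologicalKrullDim
    exact Order.krullDim_eq_of_orderIso (irreducibleSetEquivPoints (α := X))
  rw [h1, Order.krullDim_eq_iSup_coheight, ringKrullDim_stalk_eq_coheight x]
  exact le_iSup (fun y : X => ((Order.coheight y : ℕ∞) : WithBot ℕ∞)) x

theorem gm_sum_smul {X : Scheme.{u}} (F : X.Modules) (U : X.Opens) (x : X) (hx : x ∈ U) {r : ℕ}
    (c : Fin r → Γ(X, U)) (σ : Fin r → Γ(F, U)) :
    gm F U x hx (∑ j, c j • σ j) = ∑ j, X.presheaf.germ U x hx (c j) • gm F U x hx (σ j) := by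
  have := map_sum (ConcreteCategory.hom (F.presheaf.germ U x hx)) (fun j : Fin r => c j • σ j) Finset.univ
  refine this.trans ?_
  refine Finset.sum_congr rfl fun j _ => ?_
  exact gm_smul F U x hx (c j) (σ j)

/-- linear independence of germs at a point implies linear independence at the generic point -/
theorem li_generic_of_li {X : Scheme.{u}} [IsIntegral X] (F : X.Modules) {U₀ : X.Opens} (hU₀ : IsAffineOpen U₀)
    (hloc : IsLocOn F U₀) (x : X) (hx : x ∈ U₀) (hξ : genericPoint X ∈ U₀) {r : ℕ} (σ : Fin r → Γ(F, U₀))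
    (hli : LinearIndependent (X.presheaf.stalk x) (fun j => gm F U₀ x hx (σ j))) :
    LinearIndependent (X.presheaf.stalk (genericPoint X)) (fun j => gm F U₀ (genericPoint X) hξ (σ j)) := by
  rw [Fintype.linearIndependent_iff]
  intro κ hκ j
  have hex : ∀ j : Fin r, ∃ s g : Γ(X, U₀), IsUnit (X.presheaf.germ U₀ (genericPoint X) hξ g) ∧
      κ j * X.presheaf.germ U₀ (genericPoint X) hξ g = X.presheaf.germ U₀ (genericPoint X) hξ s :=
    fun j => stalk_affine_surj hU₀ (genericPoint X) hξ (κ j)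
  choose s g hg hsg using hex
  classical
  have hdu : IsUnit (X.presheaf.germ U₀ (genericPoint X) hξ (∏ j, g j)) := by
    rw [map_prod]
    exact IsUnit.prod_univ_iff.2 fun j => hg j
  have hda : ∀ j, X.presheaf.germ U₀ (genericPoint X) hξ (∏ j, g j) * κ j =
      X.presheaf.germ U₀ (genericPoint X) hξ (s j * ∏ i ∈ Finset.univ.erase j, g i) := by
    intro j
    rw [map_mul, ← hsg j, ← Finset.mul_prod_erase Finset.univ g (Finset.mem_univ j), map_mul]
    ring
  have h0 : gm F U₀ (genericPoint X) hξ (∑ j, (s j * ∏ i ∈ Finset.univ.erase j, g i) • σ j) = 0 := by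
    rw [gm_sum_smul]
    have h1 := congrArg (fun z => X.presheaf.germ U₀ (genericPoint X) hξ (∏ j, g j) • z) hκ
    simp only [smul_zero, Finset.smul_sum, smul_smul] at h1
    refine Eq.trans (Finset.sum_congr rfl fun j _ => ?_) h1
    rw [hda j]
  obtain ⟨t, ht, htm⟩ := exists_smul_eq_zero_of_gm_eq_zero F hU₀ hloc (genericPoint X) hξ _ h0
  have h2 : (∑ j, (t * (s j * ∏ i ∈ Finset.univ.erase j, g i)) • σ j : Γ(F, U₀)) = 0 := by
    rw [← htm, Finset.smul_sum]
    refine Finset.sum_congr rfl fun j _ => ?_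
    exact mul_smul _ _ _
  have h3 := congrArg (gm F U₀ x hx) h2
  rw [gm_sum_smul, gm_zero] at h3
  have h4 := (Fintype.linearIndependent_iff.1 hli) _ h3 j
  have h5 : t * (s j * ∏ i ∈ Finset.univ.erase j, g i) = 0 :=
    germ_injective_of_isIntegral X x hx (h4.trans (map_zero _).symm)
  have h6 := congrArg (X.presheaf.germ U₀ (genericPoint X) hξ) h5
  rw [map_mul, map_zero, ← hda j] at h6
  have h7 := (ht.mul_right_eq_zero).1 h6
  exact (hdu.mul_right_eq_zero).1 h7

theorem finLocFree_of_torsionFree (X : Scheme.{u}) [IsIntegral X]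
    (hreg : ∀ x : ↥X, IsRegularLocalRing (X.presheaf.stalk x))
    (hdim : topologicalKrullDim ↥X ≤ 1) (F : X.Modules) (hF : Coh.IsCoh F)
    (htf : ∀ x : ↥X, NoZeroSMulDivisors (X.presheaf.stalk x) (F.presheaf.stalk x)) : FlatMod.IsFinLocFree F := by
  intro x
  haveI : F.IsQuasicoherent := hF.1
  haveI : SheafOfModules.IsFiniteType.{u} (R := X.ringCatSheaf) F := hF.2
  obtain ⟨U₀, hU₀', hx, -⟩ := (Opens.isBasis_iff_nbhd.1 X.isBasis_affineOpens)
    (show x ∈ (⊤ : X.Opens) from trivial)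
  have hU₀ : IsAffineOpen U₀ := hU₀'
  have hξ : genericPoint X ∈ U₀ :=
    ((genericPoint_spec X).mem_open_set_iff U₀.isOpen).2 ⟨x, trivial, hx⟩
  have hloc := isLocOn_of_isQuasicoherent F hU₀
  haveI : Module.Finite Γ(X, U₀) Γ(F, U₀) := Groth.Agent.Lib.Helper28.FinType.finite_of_isAffineOpen F hU₀
  haveI hfinN : Module.Finite (X.presheaf.stalk x) (F.presheaf.stalk x) :=
    Groth.Agent.S4637.finite_stalk F hU₀ hloc x hx
  haveI := hreg x
  haveI : IsPrincipalIdealRing (X.presheaf.stalk x) :=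
    isPrincipalIdealRing_of_regular _ ((ringKrullDim_stalk_le X x).trans hdim)
  haveI := htf x
  haveI : Module.Free (X.presheaf.stalk x) (F.presheaf.stalk x) := Module.free_of_finite_type_torsion_free'
  let b := Module.finBasis (X.presheaf.stalk x) (F.presheaf.stalk x)
  have hex : ∀ j, ∃ (t : Γ(X, U₀)) (m : Γ(F, U₀)), IsUnit (X.presheaf.germ U₀ x hx t) ∧
      X.presheaf.germ U₀ x hx t • b j = gm F U₀ x hx m :=
    fun j => exists_germ_smul_eq F hU₀ hloc x hx (b j)
  choose t σ ht htσ using hex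
  let b' := b.unitsSMul (fun j => (ht j).unit)
  have hb' : ∀ j, b' j = gm F U₀ x hx (σ j) := by
    intro j
    rw [Module.Basis.unitsSMul_apply, ← htσ j]
    rfl
  have hfun : (fun j => gm F U₀ x hx (σ j)) = b' := funext fun j => (hb' j).symm
  have hspan : Submodule.span (X.presheaf.stalk x) (Set.range fun j => gm F U₀ x hx (σ j)) = ⊤ := by
    rw [hfun]; exact b'.span_eq
  have hli : LinearIndependent (X.presheaf.stalk x) (fun j => gm F U₀ x hx (σ j)) := by
    rw [hfun]; exact b'.linearIndependent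
  have hliξ := li_generic_of_li F hU₀ hloc x hx hξ σ hli
  obtain ⟨S, hS⟩ := (Module.Finite.fg_top : (⊤ : Submodule Γ(X, U₀) Γ(F, U₀)).FG)
  have hC := exists_smul_eq_sum F hU₀ hloc x hx σ hspan
  choose fm hfm cm hcm using hC
  classical
  have hfu : IsUnit (X.presheaf.germ U₀ x hx (∏ m ∈ S, fm m)) := by
    rw [map_prod]
    exact (IsUnit.prod_iff).2 fun m _ => hfm m
  have hD := exists_prod_smul_eq_sum S hS σ fm cm hcm
  have hxU : x ∈ X.basicOpen (∏ m ∈ S, fm m) := (Scheme.mem_basicOpen _ _ _ hx).2 hfu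
  exact ⟨X.basicOpen (∏ m ∈ S, fm m), _, hxU,
    nonempty_iso_free_of_le F hU₀ hloc hξ σ hliξ _ hD _ le_rfl⟩

theorem exists_rep_smul_eq_zero {X : Scheme.{u}} (F : X.Modules) (x : X) (U : X.Opens) (hxU : x ∈ U)
    (a : X.presheaf.stalk x) (μ : F.presheaf.stalk x) (h : a • μ = 0) :
    ∃ (W : X.Opens) (_ : W ≤ U) (hxW : x ∈ W) (α : Γ(X, W)) (m : Γ(F, W)),
      X.presheaf.germ W x hxW α = a ∧ gm F W x hxW m = μ ∧ α • m = 0 := by
  obtain ⟨V₁, hxV₁, α₁, rfl⟩ := TopCat.Presheaf.exists_germ_eq X.presheaf a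
  obtain ⟨V₂, hxV₂, m₂, rfl⟩ := TopCat.Presheaf.exists_germ_eq F.presheaf μ
  have hxV : x ∈ V₁ ⊓ V₂ ⊓ U := ⟨⟨hxV₁, hxV₂⟩, hxU⟩
  have h1 : V₁ ⊓ V₂ ⊓ U ≤ V₁ := inf_le_left.trans inf_le_left
  have h2 : V₁ ⊓ V₂ ⊓ U ≤ V₂ := inf_le_left.trans inf_le_right
  have h0 : gm F (V₁ ⊓ V₂ ⊓ U) x hxV (resO h1 α₁ • res F h2 m₂) = gm F (V₁ ⊓ V₂ ⊓ U) x hxV 0 := by
    rw [gm_smul, germ_resO, gm_res, gm_zero]; exact h
  obtain ⟨W, hxW, iU, iV, hres⟩ := TopCat.Presheaf.germ_eq F.presheaf x hxV hxV _ _ h0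
  refine ⟨W, iU.le.trans inf_le_right, hxW, resO (iU.le.trans h1) α₁, res F (iU.le.trans h2) m₂, ?_, ?_, ?_⟩
  · exact germ_resO _ x hxW α₁
  · exact gm_res F _ x hxW m₂
  · have h3 : F.presheaf.map iV.op (0 : Γ(F, V₁ ⊓ V₂ ⊓ U)) = 0 := map_zero _
    rw [h3] at hres
    have h4 := res_smul F iU.le (resO h1 α₁) (res F h2 m₂)
    rw [resO_resO, res_res] at h4
    exact h4.symm.trans hres

open Groth.Agent.Lib.Helper29.FreeIso in
theorem noZeroSMulDivisors_of_free {X : Scheme.{u}} [IsIntegral X] (F : X.Modules) (x : X) (U : X.Opens)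
    (hxU : x ∈ U) (n : ℕ) (e : F.restrict U.ι ≅ FlatMod.freeMod (↑U) n) :
    NoZeroSMulDivisors (X.presheaf.stalk x) (F.presheaf.stalk x) := by
  refine ⟨fun {a μ} h => ?_⟩
  obtain ⟨W, hW, hxW, α, m, rfl, rfl, hαm⟩ := exists_rep_smul_eq_zero F x U hxU a μ h
  let W' : (U : Scheme.{u}).Opens := U.ι ⁻¹ᵁ W
  have hVW : U.ι ''ᵁ W' ≤ W := by rintro _ ⟨z, hz, rfl⟩; exact hz
  have hxV : x ∈ U.ι ''ᵁ W' := ⟨⟨x, hxU⟩, hxW, rfl⟩
  let e' : F.restrict U.ι ≅ B (↑U) n := e ≪≫ (biproduct.isoCoproduct _).symm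
  let m' : Γ(F.restrict U.ι, W') := (show Γ(F, U.ι ''ᵁ W') from res F hVW m)
  let α' : Γ(↑U, W') := (show Γ(X, U.ι ''ᵁ W') from resO hVW α)
  have h1 : α' • m' = 0 := by
    rw [restrict_smul']
    have := congrArg (res F hVW) hαm
    rw [res_smul, res_zero] at this
    exact this
  have h2 : α' • e'.hom.app W' m' = 0 := by
    rw [← Scheme.Modules.Hom.app_smul, h1, map_zero]
  have h3 : ∀ j, α' * (show Γ(↑U, W') from
      (biproduct.π (fun _ : Fin n => Coh.structureModule ↑U) j).app W' (e'.hom.app W' m')) = 0 := by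
    intro j
    have := congrArg ((biproduct.π (fun _ : Fin n => Coh.structureModule ↑U) j).app W') h2
    rw [Scheme.Modules.Hom.app_smul, map_zero] at this
    exact this
  haveI : Nonempty U := ⟨⟨x, hxU⟩⟩
  haveI : Nonempty W' := ⟨⟨⟨x, hxU⟩, hxW⟩⟩
  haveI : IsDomain Γ(↑U, W') := inferInstance
  by_cases hα : α' = 0
  · left
    rw [← germ_resO hVW x hxV α]
    have : resO hVW α = 0 := hα
    rw [this, map_zero]
  · right
    have h4 : ∀ j, (biproduct.π (fun _ : Fin n => Coh.structureModule ↑U) j).app W' (e'.hom.app W' m') = 0 :=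
      fun j => (mul_eq_zero.1 (h3 j)).resolve_left hα
    have hz : e'.hom.app W' m' = 0 := by
      rw [decomp n W' (e'.hom.app W' m')]
      exact Finset.sum_eq_zero fun j _ => by rw [h4 j, map_zero]
    have hm' : m' = 0 := by
      have h5 := congrArg (e'.inv.app W') hz
      have h6 : e'.inv.app W' (e'.hom.app W' m') = (e'.hom ≫ e'.inv).app W' m' := rfl
      rw [h6, Iso.hom_inv_id, map_zero] at h5
      exact h5
    rw [← gm_res F hVW x hxV m]
    have : res F hVW m = 0 := hm'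
    rw [this, gm_zero]

/-- Let X be a locally Noetherian integral scheme of dimension at most 1 all of whose local rings are
regular, and F a coherent module on X. Then F is torsion free (every stalk is a torsion-free module
over the local ring) if and only if F is finite locally free. -/
theorem result (X : Scheme.{u}) [IsIntegral X] [IsLocallyNoetherian X] (hreg : ∀ x : ↥X, IsRegularLocalRing (X.presheaf.stalk x))
    (hdim : topologicalKrullDim ↥X ≤ 1) (F : X.Modules) (hF : Coh.IsCoh F) :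
    (∀ x : ↥X, NoZeroSMulDivisors (X.presheaf.stalk x) (F.presheaf.stalk x)) ↔ FlatMod.IsFinLocFree F := by
  constructor
  · exact finLocFree_of_torsionFree X hreg hdim F hF
  · intro h x
    obtain ⟨U, n, hxU, ⟨e⟩⟩ := h x
    exact noZeroSMulDivisors_of_free F x U hxU n e


end Groth.Agent.S1688
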