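import Groth.Statements.S6395
-- import your own Groth.Agent.* helpers here

set_option autoImplicit false
open CategoryTheory
universe v u
open FibCat

namespace Groth.Agent.S6395

section helpers
open CategoryTheory.Functor

variable {C : Type u} [Category.{v} C]

set_option backward.isDefEq.respectTransparency false in
set_option backward.isDefEq.respectTransparency.types false in
/-- A based functor which is fully faithful and essentially surjective over the base preserves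
strongly cartesian morphisms. -/
theorem preserves_of_ff_ess {𝒳 𝒴 : BasedCategory.{v, max u v} C} (F : 𝒳 ⥤ᵇ 𝒴)
    [F.toFunctor.Full] [F.toFunctor.Faithful]
    (hess : ∀ c' : 𝒴.obj, ∃ (c : 𝒳.obj) (ε : F.obj c ≅ c'),
      𝒴.p.IsHomLift (𝟙 (𝒴.p.obj c')) ε.hom)
    {R S : C} (f : R ⟶ S) {a b : 𝒳.obj} (φ : a ⟶ b) [𝒳.p.IsStronglyCartesian f φ] :
    𝒴.p.IsStronglyCartesian f (F.map φ) := by
  refine { toIsHomLift := inferInstance, universal_property' := ?_ }
  intro c' g ψ' hψ'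
  obtain ⟨c, ε, hε⟩ := hess c'
  have hεinv : 𝒴.p.IsHomLift (𝟙 (𝒴.p.obj c')) ε.inv := inferInstance
  -- the morphism `ψ : c ⟶ b` with `F ψ = ε ≫ ψ'`
  let ψ : c ⟶ b := F.toFunctor.preimage (ε.hom ≫ ψ')
  have hFψ : F.map ψ = ε.hom ≫ ψ' := F.toFunctor.map_preimage _
  have hψ : 𝒳.p.IsHomLift (g ≫ f) ψ := by
    rw [← BasedFunctor.isHomLift_iff F, hFψ]
    have : 𝒴.p.IsHomLift (𝟙 (𝒴.p.obj c') ≫ g ≫ f) (ε.hom ≫ ψ') := inferInstance
    rwa [Category.id_comp] at this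
  let χ : c ⟶ a := IsStronglyCartesian.map 𝒳.p f φ (rfl : g ≫ f = g ≫ f) ψ
  have hχl : 𝒳.p.IsHomLift g χ := inferInstance
  have hχ : χ ≫ φ = ψ := IsStronglyCartesian.fac 𝒳.p f φ rfl ψ
  have hFχl : 𝒴.p.IsHomLift g (F.map χ) := inferInstance
  refine ⟨ε.inv ≫ F.map χ, ⟨?_, ?_⟩, ?_⟩
  · have : 𝒴.p.IsHomLift (𝟙 (𝒴.p.obj c') ≫ g) (ε.inv ≫ F.map χ) := inferInstance
    rwa [Category.id_comp] at this
  · rw [Category.assoc, ← F.map_comp, hχ, hFψ, Iso.inv_hom_id_assoc]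
  · rintro χ'' ⟨hl, hc⟩
    let χ₂ : c ⟶ a := F.toFunctor.preimage (ε.hom ≫ χ'')
    have hFχ₂ : F.map χ₂ = ε.hom ≫ χ'' := F.toFunctor.map_preimage _
    have hχ₂l : 𝒳.p.IsHomLift g χ₂ := by
      rw [← BasedFunctor.isHomLift_iff F, hFχ₂]
      have : 𝒴.p.IsHomLift (𝟙 (𝒴.p.obj c') ≫ g) (ε.hom ≫ χ'') := inferInstance
      rwa [Category.id_comp] at this
    have hχ₂ : χ₂ ≫ φ = ψ := by
      apply F.toFunctor.map_injective
      rw [Functor.map_comp]
      rw [hFχ₂, hFψ, Category.assoc, hc]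
    have h3 : χ₂ = χ := IsStronglyCartesian.map_uniq 𝒳.p f φ rfl ψ χ₂ hχ₂
    rw [← h3, hFχ₂, Iso.inv_hom_id_assoc]

set_option backward.isDefEq.respectTransparency false in
set_option backward.isDefEq.respectTransparency.types false in
/-- The underlying functor of an equivalence over the base is an equivalence, and it is essentially
surjective over the base. -/
theorem ff_ess_of_isEquivOver {𝒳 𝒴 : BasedCategory.{v, max u v} C} (F : 𝒳 ⥤ᵇ 𝒴)
    (hF : FibCat.IsEquivOver F) :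
    F.toFunctor.IsEquivalence ∧ ∀ c' : 𝒴.obj, ∃ (c : 𝒳.obj) (ε : F.obj c ≅ c'),
      𝒴.p.IsHomLift (𝟙 (𝒴.p.obj c')) ε.hom := by
  obtain ⟨G, ⟨e1⟩, ⟨e2⟩⟩ := hF
  let η : 𝟭 𝒳.obj ≅ F.toFunctor ⋙ G.toFunctor := ((BasedNatTrans.forgetful _ _).mapIso e1).symm
  let ε : G.toFunctor ⋙ F.toFunctor ≅ 𝟭 𝒴.obj := (BasedNatTrans.forgetful _ _).mapIso e2
  refine ⟨(CategoryTheory.Equivalence.mk F.toFunctor G.toFunctor η ε).isEquivalence_functor, fun c' => ?_⟩
  refine ⟨G.obj c', ε.app c', ?_⟩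
  change 𝒴.p.IsHomLift (𝟙 (𝒴.p.obj c')) (e2.hom.toNatTrans.app c')
  infer_instance

end helpers

set_option backward.isDefEq.respectTransparency false in
set_option backward.isDefEq.respectTransparency.types false in
theorem aux {C : Type u} [Category.{v} C] {𝒳 𝒴 : BasedCategory.{v, max u v} C} (F : 𝒳 ⥤ᵇ 𝒴) (hF : FibCat.IsEquivOver F)
    {R S : C} (f : R ⟶ S) {a b : 𝒳.obj} (φ : a ⟶ b) [𝒳.p.IsStronglyCartesian f φ] :
    𝒴.p.IsStronglyCartesian f (F.map φ) := by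
  obtain ⟨h1, h2⟩ := ff_ess_of_isEquivOver F hF
  exact preserves_of_ff_ess F h2 f φ

/-- An equivalence `F : 𝒳 ⟶ 𝒴` in the 2-category of categories over `C` maps strongly cartesian
morphisms to strongly cartesian morphisms. -/
theorem result {C : Type u} [Category.{v} C] {𝒳 𝒴 : BasedCategory.{v, max u v} C} (F : 𝒳 ⥤ᵇ 𝒴) (hF : FibCat.IsEquivOver F)
    {R S : C} (f : R ⟶ S) {a b : 𝒳.obj} (φ : a ⟶ b) [𝒳.p.IsStronglyCartesian f φ] :
    𝒴.p.IsStronglyCartesian f (F.map φ) := by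
  exact aux F hF f φ

end Groth.Agent.S6395
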