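import Groth.Statements.S16885
-- import your own Groth.Agent.* helpers here
import Groth.Agent.Lib.Helper27.EquivOverAux
import Groth.Agent.Lib.Helper27.GerbAux

set_option autoImplicit false
open CategoryTheory
universe v u
open Gerb

namespace Groth.Agent.S16885

/-- Let `𝒮₁`, `𝒮₂` be categories over `C` and `F : 𝒮₁ ⟶ 𝒮₂` a functor over `C` which is an equivalence
in the 2-category of categories over `C`. Then, for a topology `J` on `C`, `𝒮₁` is a gerbe over the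
site `(C, J)` if and only if `𝒮₂` is. -/
theorem result {C : Type u} [Category.{v} C] (J : GrothendieckTopology C)
    {𝒮₁ 𝒮₂ : BasedCategory.{v, max u v} C} (F : 𝒮₁ ⥤ᵇ 𝒮₂) (hF : FibCat.IsEquivOver F) :
    Gerb.IsGerbe J 𝒮₁ ↔ Gerb.IsGerbe J 𝒮₂ := by
  obtain ⟨G, ⟨e1⟩, ⟨e2⟩⟩ := hF
  have hF' : FibCat.IsEquivOver F := ⟨G, ⟨e1⟩, ⟨e2⟩⟩
  constructor
  · rintro ⟨h1, h2⟩
    have h1' := (Groth.Agent.Lib.Helper27.EquivOverAux.isStack_iff J F hF').1 h1
    exact ⟨h1', Groth.Agent.Lib.Helper27.GerbAux.isGerbeOver_toSelf_of_equiv J h1'.1 h1.1 G F e2 e1 h2⟩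
  · rintro ⟨h1, h2⟩
    have h1' := (Groth.Agent.Lib.Helper27.EquivOverAux.isStack_iff J F hF').2 h1
    exact ⟨h1', Groth.Agent.Lib.Helper27.GerbAux.isGerbeOver_toSelf_of_equiv J h1'.1 h1.1 F G e1 e2 h2⟩

end Groth.Agent.S16885
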