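import Groth.Statements.S1689
import Groth.Agent.Lib.Helper7.StalkFree
import Groth.Agent.Lib.Helper7.RegularFree
import Groth.Agent.S1688

set_option autoImplicit false
universe u
open CategoryTheory CategoryTheory.Limits AlgebraicGeometry TopologicalSpace
open SDiv

namespace Groth.Agent.S1689

/-- Let X be a locally Noetherian scheme of dimension at most 2 all of whose local rings are regular,
and F a coherent module on X. Then F is reflexive (every stalk is a reflexive module over the local
ring) if and only if F is finite locally free. -/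
theorem result (X : Scheme.{u}) [IsLocallyNoetherian X]
    (hreg : ∀ x : ↥X, IsRegularLocalRing (X.presheaf.stalk x)) (hdim : topologicalKrullDim ↥X ≤ 2) (F : X.Modules)
    (hF : Coh.IsCoh F) : (∀ x : ↥X, Module.IsReflexive (X.presheaf.stalk x) (F.presheaf.stalk x)) ↔ FlatMod.IsFinLocFree F := by
  constructor
  · intro h x
    haveI := hreg x
    haveI : Module.Finite (X.presheaf.stalk x) (F.presheaf.stalk x) :=
      Groth.Agent.Lib.Helper7.StalkFree.finite_stalk_of_isCoh X F hF x
    haveI : Module.IsReflexive (X.presheaf.stalk x) (F.presheaf.stalk x) := h x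
    haveI : Module.Free (X.presheaf.stalk x) (F.presheaf.stalk x) :=
      Groth.Agent.Lib.Helper7.RegularFree.free_of_isReflexive (F.presheaf.stalk x)
        ((Groth.Agent.S1688.ringKrullDim_stalk_le X x).trans hdim)
    obtain ⟨U, hxU, e⟩ :=
      Groth.Agent.Lib.Helper7.StalkFree.exists_iso_freeMod_of_free_stalk X F hF x
    exact ⟨U, _, hxU, e⟩
  · intro h x
    obtain ⟨U, n, hxU, ⟨e⟩⟩ := h x
    obtain ⟨h1, h2, -⟩ := Groth.Agent.Lib.Helper7.StalkFree.free_stalk_of_iso F x U hxU n e
    haveI := h1
    haveI := h2
    infer_instance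

end Groth.Agent.S1689
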