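import Groth.Statements.S16896
import Groth.Agent.Lib.Helper2.NefRR6
import Groth.Agent.Lib.Helper2.Kodaira4
import Groth.Agent.Lib.Helper4.SmoothRed

set_option autoImplicit false
universe u
open CategoryTheory CategoryTheory.Limits AlgebraicGeometry
open Vanish

namespace Groth.Agent.S16896

/-- Let k be an algebraically closed field of characteristic zero and X an irreducible proper smooth
k-scheme of dimension n with an ample invertible O_X-module (a projective manifold). Let L be a
numerically effective invertible O_X-module (non-negative degree on every integral one-dimensional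
closed subscheme) and L⁻¹ a tensor inverse of L. Then the Iitaka dimension of L equals n, expressed
by the equivalent condition that some L^⊗ν with ν > 0 receives a monomorphism from an ample
invertible module (L^⊗ν ≅ A(C) with A ample and C effective), if and only if the self-intersection
number c_1(L)^n = ∫ c_1(L)^n · [O_X] (the alternating sum of Euler characteristics attached to n
copies of L⁻¹) is positive. (Only the characteristic-zero case is stated; the
positive-characteristic case assumes a lifting to the Witt vectors of length two.) -/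
theorem result (k : Type u) [Field k] [IsAlgClosed k] [CharZero k]
    (X : Scheme.{u}) [X.Over (Spec (CommRingCat.of k))] [IsProper (X ↘ Spec (CommRingCat.of k))]
    [Smooth (X ↘ Spec (CommRingCat.of k))] [IrreducibleSpace X] (n : ℕ) (hn : topologicalKrullDim X = n)
    (H : X.Modules) (hH : CohB1.IsAmple H) (L Linv : X.Modules) (hL : PicF.IsInvertible L) (hLinv : ClSub.IsInverseOf Linv L)
    (hnef : (∀ (Y : Scheme.{u}) (i : Y ⟶ X) [IsClosedImmersion i], IsIntegral Y → topologicalKrullDim Y = 1 →
      0 ≤ Pic13.curveDeg k (i ≫ (X ↘ Spec (CommRingCat.of k))) ((Scheme.Modules.pullback i).obj L))) :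
    (∃ (ν : ℕ) (A : X.Modules) (φ : A ⟶ CohB1.tensorPow L ν), 0 < ν ∧ CohB1.IsAmple A ∧ Mono φ) ↔
      0 < FGA.intNum k X n (fun _ : Fin n => Linv) (Coh.structureModule X) := by
  haveI : AlgebraicGeometry.IsReduced X :=
    Groth.Agent.Lib.Helper4.SmoothRed.isReduced_of_smooth_to_field (X ↘ Spec (CommRingCat.of k))
  haveI : IsIntegral X := isIntegral_of_irreducibleSpace_of_isReduced X
  constructor
  · rintro ⟨ν, A, φ, hν, hA, hφ⟩
    obtain ⟨ν', a, hν', ha, h⟩ := Groth.Agent.Lib.Helper2.Kodaira.growth_of_sub k n hn hL ν hν A hA ⟨φ, hφ⟩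
    apply Groth.Agent.Lib.Helper2.NefRR6.pos_of_growth k n hn hH hL hnef Linv hLinv (ν' ^ n * a)
    intro M₀
    refine ⟨ν' * max M₀ 1, ?_, ?_⟩
    · calc M₀ ≤ max M₀ 1 := le_max_left _ _
        _ ≤ ν' * max M₀ 1 := Nat.le_mul_of_pos_left _ hν'
    · have h1 := h (max M₀ 1) (le_max_right _ _)
      calc (ν' * max M₀ 1) ^ n = ν' ^ n * (max M₀ 1) ^ n := Nat.mul_pow _ _ _
        _ ≤ ν' ^ n * (a * Groth.Agent.Lib.Helper2.KodUB.h0 k (CohB1.tensorPow L (ν' * max M₀ 1))) :=
            Nat.mul_le_mul_left _ h1
        _ = ν' ^ n * a * Groth.Agent.Lib.Helper2.KodUB.h0 k (CohB1.tensorPow L (ν' * max M₀ 1)) :=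
            (Nat.mul_assoc _ _ _).symm
  · intro hpos
    obtain ⟨N, m₁, hN, h⟩ := Groth.Agent.Lib.Helper2.NefRR6.growth_of_pos k n hn hH hL hnef Linv hLinv hpos
    obtain ⟨m, hm, φ, hφ⟩ := Groth.Agent.Lib.Helper2.Kodaira.sub_of_growth k n hn hH hL N
      (fun M₀ => ⟨max M₀ m₁, le_max_left _ _, h _ (le_max_right _ _)⟩) H hH
    exact ⟨m, H, φ, hm, hH, hφ⟩

end Groth.Agent.S16896
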