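import Groth.Statements.S16901
import Groth.Agent.Lib.Helper2.Kodaira3

set_option autoImplicit false
universe u
open CategoryTheory CategoryTheory.Limits AlgebraicGeometry
open Vanish

namespace Groth.Agent.S16901

/-- Let k be an algebraically closed field and X an integral proper k-scheme of dimension n with an
ample invertible O_X-module (a projective variety, not assumed non-singular), and let L be an
invertible O_X-module. The Iitaka dimension of L is n, in the growth form the text adopts as its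
working definition (for some ν > 0 there is a constant a > 0 with μ^n ≤ a · dim_k H^0(X, L^⊗νμ) for
all μ ≥ 1), if and only if for some ν > 0 there are an ample invertible module A and a monomorphism
A → L^⊗ν (that is, L^⊗ν(−C) is ample for some effective divisor C). -/
theorem result (k : Type u) [Field k] [IsAlgClosed k]
    (X : Scheme.{u}) [X.Over (Spec (CommRingCat.of k))] [IsIntegral X] [IsProper (X ↘ Spec (CommRingCat.of k))]
    (n : ℕ) (hn : topologicalKrullDim X = n) (H : X.Modules) (hH : CohB1.IsAmple H)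
    (L : X.Modules) (hL : PicF.IsInvertible L) :
    (∃ ν a : ℕ, 0 < ν ∧ 0 < a ∧ ∀ μ : ℕ, 1 ≤ μ →
        μ ^ n ≤ a * Module.finrank k (Coh.HH X (CohB1.tensorPow L (ν * μ)) 0)) ↔
      ∃ (ν : ℕ) (A : X.Modules) (φ : A ⟶ CohB1.tensorPow L ν), 0 < ν ∧ CohB1.IsAmple A ∧ Mono φ := by
  constructor
  · rintro ⟨ν, a, hν, ha, hgrow⟩
    obtain ⟨A₁, hA₁, hE1, -⟩ := Groth.Agent.Lib.Helper2.Kodaira.exists_ample_eff k hH hL
    have hLν := Groth.Agent.Lib.Helper28.GenLocus.isInvertible_tensorPow hL ν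
    have hfreq : ∀ M₀ : ℕ, ∃ m, M₀ ≤ m ∧
        m ^ n ≤ a * Groth.Agent.Lib.Helper2.KodUB.h0 k (CohB1.tensorPow (CohB1.tensorPow L ν) m) := by
      intro M₀
      refine ⟨max M₀ 1, le_max_left _ _, ?_⟩
      obtain ⟨ψ, -⟩ := Groth.Agent.Lib.Helper28.GenLocus.exists_tensorPow_tensorPow_iso hL ν (max M₀ 1)
        (ν * max M₀ 1) rfl
      rw [Groth.Agent.Lib.Helper2.KodUB.h0_iso k ψ]
      exact hgrow (max M₀ 1) (le_max_right _ _)
    obtain ⟨m, hm, hsub⟩ := Groth.Agent.Lib.Helper2.Kodaira.kodaira k n hn hH hLν A₁ hA₁.1 hE1 a hfreq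
    obtain ⟨ψ, -⟩ := Groth.Agent.Lib.Helper28.GenLocus.exists_tensorPow_tensorPow_iso hL ν m (ν * m) rfl
    obtain ⟨φ, hφ⟩ := hsub.trans (Groth.Agent.Lib.Helper2.KodSub.Sub.of_iso ψ)
    exact ⟨ν * m, A₁, φ, Nat.mul_pos hν hm, hA₁, hφ⟩
  · rintro ⟨ν, A, φ, hν, hA, hφ⟩
    obtain ⟨ν', a, hν', ha, h⟩ := Groth.Agent.Lib.Helper2.Kodaira.growth_of_sub k n hn hL ν hν A hA ⟨φ, hφ⟩
    exact ⟨ν', a, hν', ha, h⟩


end Groth.Agent.S16901
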