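import Groth.Statements.S16909
import Groth.Agent.S4408
import Mathlib
set_option backward.isDefEq.respectTransparency.types false

set_option autoImplicit false
universe u
open CategoryTheory CategoryTheory.Limits AlgebraicGeometry
open ResProp

namespace Groth.Agent.S16909
open Opposite TopologicalSpace
open Groth.Agent.S4408 Groth.Agent.Lib.Helper28.QCohLoc Groth.Agent.Lib.Helper17.CohKer


/-- Let `X` be a quasi-compact and quasi-separated scheme on which every quasi-coherent module is
globally generated (a quotient of a free module on some index type, i.e. the structure sheaf is a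
generating family). Then `X` is quasi-affine. No separatedness hypothesis is made; it follows. (The
published statement is for an algebraic stack over an algebraic space with affine stabilizer groups
at closed points and concludes that it is representable by a quasi-affine morphism; that general
case rests on results outside this text, and this row is the final step of its proof, the case of a
scheme.) -/
theorem result (X : Scheme.{u}) [CompactSpace X]
    [QuasiSeparatedSpace X] (h : ∀ M : X.Modules, Coh.IsQCoh M → Curv2.IsGloballyGenerated M) :
    X.IsQuasiAffine := by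
  refine Scheme.IsQuasiAffine.of_forall_exists_mem_basicOpen X fun x => ?_
  obtain ⟨_, ⟨U, hU, rfl⟩, hxU, -⟩ :=
    X.isBasis_affineOpens.exists_subset_of_mem_open (Set.mem_univ x) isOpen_univ
  obtain ⟨g, hg⟩ := exists_ideal_section U
  haveI : (ClSub.idealMod (cI U)).IsQuasicoherent := inferInstance
  obtain ⟨ι, p, hp⟩ := h (ClSub.idealMod (cI U)) inferInstance
  let p' : Groth.Agent.Lib.Helper17.FTExt.freeMod X ι ⟶ ClSub.idealMod (cI U) := p
  by_cases hex : ∃ s : Γ(ClSub.idealMod (cI U), ⊤),
      x ∈ X.basicOpen (show Γ(X, ⊤) from (ClSub.idealModι (cI U)).app ⊤ s)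
  · obtain ⟨s, hs⟩ := hex
    have hle := basicOpen_le_of_ideal U s _ rfl
    refine ⟨_, ?_, hs⟩
    have h1 := X.basicOpen_res
      (show Γ(X, ⊤) from (ClSub.idealModι (cI U)).app ⊤ s) (homOfLE (le_top : U ≤ ⊤)).op
    rw [inf_eq_right.2 hle] at h1
    rw [← h1]
    exact hU.basicOpen _
  · exfalso
    push Not at hex
    let j := X.fromSpecResidueField x
    let c := ClSub.unitToPush j
    have hzero : p' ≫ ClSub.idealModι (cI U) ≫ c = 0 := by
      refine free_hom_eq_zero _ fun k => ?_
      exact fromSpecResidueField_app_eq_zero x _ (hex _)
    haveI : Epi p' := hp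
    have hzero' : ClSub.idealModι (cI U) ≫ c = 0 := by
      rw [← cancel_epi p', hzero, comp_zero]
    have h1 : c.app U ((ClSub.idealModι (cI U)).app U g) = 0 :=
      congrArg (fun ψ : (ClSub.idealMod (cI U) ⟶ _) => ψ.app U g) hzero'
    rw [hg] at h1
    have h2 : (j.app U).hom (1 : Γ(X, U)) = 0 := h1
    rw [map_one] at h2
    haveI : Nonempty (j ⁻¹ᵁ U) := by
      obtain ⟨z⟩ : Nonempty (Spec (X.residueField x)) := inferInstance
      refine ⟨⟨z, ?_⟩⟩
      change j z ∈ U
      rw [Scheme.fromSpecResidueField_apply]
      exact hxU
    exact one_ne_zero h2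

end Groth.Agent.S16909
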