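import Groth.Statements.S16919
import Mathlib

set_option autoImplicit false
universe u
open TensorProduct
open CAlg

namespace Groth.Agent.S16919

open Cardinal Algebra

/-- An iso of algebraically closed fields over a domain `R`, commuting with `R`, from equipotent
transcendence bases. -/
theorem exists_equiv_of_trdeg_eq (R K L : Type u) [CommRing R] [Field K] [Field L] [Algebra R K] [Algebra R L]
    [IsAlgClosed K] [IsAlgClosed L] [FaithfulSMul R K] [FaithfulSMul R L]
    (h : trdeg R K = trdeg R L) :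
    ∃ e : K ≃+* L, ∀ r : R, e (algebraMap R K r) = algebraMap R L r := by
  have : Nontrivial R := RingHom.domain_nontrivial (algebraMap R K)
  obtain ⟨s, hs⟩ := exists_isTranscendenceBasis R K
  obtain ⟨t, ht⟩ := exists_isTranscendenceBasis R L
  have hc : #s = #t := by
    rw [hs.cardinalMk_eq_trdeg, ht.cardinalMk_eq_trdeg, h]
  obtain ⟨e⟩ := Cardinal.eq.mp hc
  have := IsAlgClosed.isAlgClosure_of_transcendence_basis _ hs
  have := IsAlgClosed.isAlgClosure_of_transcendence_basis _ ht
  let e' : Algebra.adjoin R (Set.range ((↑) : s → K)) ≃ₐ[R] Algebra.adjoin R (Set.range ((↑) : t → L)) :=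
    (hs.1.aevalEquiv.symm.trans (MvPolynomial.renameEquiv R e)).trans ht.1.aevalEquiv
  refine ⟨IsAlgClosure.equivOfEquiv K L e'.toRingEquiv, fun r => ?_⟩
  have h1 : algebraMap R K r = algebraMap (Algebra.adjoin R (Set.range ((↑) : s → K))) K (algebraMap R _ r) := rfl
  have h2 : algebraMap R L r = algebraMap (Algebra.adjoin R (Set.range ((↑) : t → L))) L (algebraMap R _ r) := rfl
  rw [h1, h2, IsAlgClosure.equivOfEquiv_algebraMap]
  congr 1
  exact e'.commutes r

/-- cardinal lemma -/
theorem card_aux {a b c : Cardinal.{u}} (h : a + b = c) (ha : a < ℵ₀) (hc : ℵ₀ ≤ c) : b = c :=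
  Cardinal.eq_of_add_eq_of_aleph0_le h (ha.trans_le hc) hc

theorem trdeg_via (k₀ R₀ K : Type u) [Field k₀] [CommRing R₀] [Field K] [Algebra k₀ R₀] [Algebra k₀ K]
    [Algebra.FiniteType k₀ R₀] (f : R₀ →+* K) (hf : Function.Injective f)
    (hcomp : ∀ c, f (algebraMap k₀ R₀ c) = algebraMap k₀ K c) (hκ : ℵ₀ ≤ trdeg k₀ K) :
    @trdeg R₀ K _ _ f.toAlgebra = trdeg k₀ K := by
  letI := f.toAlgebra
  have : IsDomain R₀ := hf.isDomain f
  have : FaithfulSMul R₀ K := (faithfulSMul_iff_algebraMap_injective R₀ K).mpr hf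
  have : FaithfulSMul k₀ R₀ := (faithfulSMul_iff_algebraMap_injective k₀ R₀).mpr (algebraMap k₀ R₀).injective
  have st : IsScalarTower k₀ R₀ K := IsScalarTower.of_algebraMap_eq (fun c => (hcomp c).symm)
  have hn₀ : trdeg k₀ R₀ < ℵ₀ := trdeg_lt_aleph0_of_finiteType
  have e3 : trdeg k₀ R₀ + trdeg R₀ K = trdeg k₀ K := trdeg_add_eq k₀ R₀
  exact card_aux e3 hn₀ hκ

theorem exists_equiv' (R K L : Type u) [CommRing R] [Field K] [Field L] [IsAlgClosed K] [IsAlgClosed L]
    (f : R →+* K) (g : R →+* L) (hf : Function.Injective f) (hg : Function.Injective g)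
    (h : @trdeg R K _ _ f.toAlgebra = @trdeg R L _ _ g.toAlgebra) :
    ∃ e : K ≃+* L, ∀ r, e (f r) = g r := by
  letI := f.toAlgebra
  letI := g.toAlgebra
  have : FaithfulSMul R K := (faithfulSMul_iff_algebraMap_injective R K).mpr hf
  have : FaithfulSMul R L := (faithfulSMul_iff_algebraMap_injective R L).mpr hg
  exact exists_equiv_of_trdeg_eq R K L h


/-- Let k₀ → k be an extension of fields with k algebraically closed and of infinite transcendence
degree over k₀, R₀ a finitely generated k₀-algebra whose base change R = k ⊗ R₀ is an integral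
domain (so Spec R is an integral affine k-scheme of finite type with the model Spec R₀ over k₀), and
P a k-point of Spec R, i.e. a k-algebra homomorphism ev : R → k, lying over the generic point of
Spec R₀, i.e. with ev injective on R₀. Then there is a field isomorphism e from an algebraic closure
of the fraction field of R (the function field of Spec R) onto k such that e(1 ⊗ r) = ev(1 ⊗ r) for
every r in R₀: e extends evaluation at P on R₀. (The published setting has k algebraically closed of
characteristic zero and of infinite transcendence degree over its prime field, and k₀ the subfield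
generated by the coefficients of equations of Spec R, which is finitely generated over the prime
field, so that k has infinite transcendence degree over k₀; only this last property and no
characteristic assumption enter here. The isomorphism is not canonical.) -/
theorem result (k₀ k : Type u)
    [Field k₀] [Field k] [Algebra k₀ k] [IsAlgClosed k] (hinf : ∃ x : ℕ → k, AlgebraicIndependent k₀ x)
    (R₀ : Type u) [CommRing R₀] [Algebra k₀ R₀] [Algebra.FiniteType k₀ R₀] [IsDomain (k ⊗[k₀] R₀)]
    (ev : k ⊗[k₀] R₀ →ₐ[k] k) (hP : Function.Injective fun r : R₀ => ev (1 ⊗ₜ[k₀] r)) :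
    ∃ e : AlgebraicClosure (FractionRing (k ⊗[k₀] R₀)) ≃+* k,
      ∀ r : R₀, e (algebraMap (k ⊗[k₀] R₀) (AlgebraicClosure (FractionRing (k ⊗[k₀] R₀)))
        (1 ⊗ₜ[k₀] r)) = ev (1 ⊗ₜ[k₀] r) := by
  set T := k ⊗[k₀] R₀ with hT
  set Ω := AlgebraicClosure (FractionRing T) with hΩ
  let j : R₀ →ₐ[k₀] T := Algebra.TensorProduct.includeRight
  let φ₂ : R₀ →+* k := (ev : T →+* k).comp (j : R₀ →+* T)
  have hφ₂ : Function.Injective φ₂ := hP
  let φ₁ : R₀ →+* Ω := (algebraMap T Ω).comp (j : R₀ →+* T)
  have hjinj : Function.Injective j := by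
    intro a b hab
    apply hP
    change ev (j a) = ev (j b)
    rw [hab]
  have hTΩ : Function.Injective (algebraMap T Ω) := by
    rw [IsScalarTower.algebraMap_eq T (FractionRing T) Ω]
    exact (algebraMap (FractionRing T) Ω).injective.comp (IsFractionRing.injective T (FractionRing T))
  have hφ₁ : Function.Injective φ₁ := hTΩ.comp hjinj
  have c1 : ∀ c, φ₁ (algebraMap k₀ R₀ c) = algebraMap k₀ Ω c := fun c => by
    change algebraMap T Ω (j (algebraMap k₀ R₀ c)) = algebraMap k₀ Ω c
    rw [j.commutes, ← IsScalarTower.algebraMap_apply]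
  have c2 : ∀ c, φ₂ (algebraMap k₀ R₀ c) = algebraMap k₀ k c := fun c => by
    change ev (j (algebraMap k₀ R₀ c)) = algebraMap k₀ k c
    rw [j.commutes, IsScalarTower.algebraMap_apply k₀ k T, ev.commutes]
    rfl
  -- transcendence degrees
  obtain ⟨x, hx⟩ := hinf
  have hκ : ℵ₀ ≤ trdeg k₀ k := by
    have := hx.lift_cardinalMk_le_trdeg
    simpa using this
  have hn₁ : trdeg k T < ℵ₀ := trdeg_lt_aleph0_of_finiteType
  have : FaithfulSMul k T := (faithfulSMul_iff_algebraMap_injective k T).mpr (algebraMap k T).injective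
  have : FaithfulSMul T Ω := (faithfulSMul_iff_algebraMap_injective T Ω).mpr hTΩ
  have : FaithfulSMul k₀ k := (faithfulSMul_iff_algebraMap_injective k₀ k).mpr (algebraMap k₀ k).injective
  have : FaithfulSMul k Ω := (faithfulSMul_iff_algebraMap_injective k Ω).mpr (algebraMap k Ω).injective
  have halg : Algebra.IsAlgebraic T Ω := by
    have : Algebra.IsAlgebraic T (FractionRing T) := IsLocalization.isAlgebraic (FractionRing T) (nonZeroDivisors T)
    exact Algebra.IsAlgebraic.trans T (FractionRing T) Ω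
  have h0 : trdeg T Ω = 0 := trdeg_eq_zero
  have e1 : trdeg k T + trdeg T Ω = trdeg k Ω := trdeg_add_eq k T
  have e2 : trdeg k₀ k + trdeg k Ω = trdeg k₀ Ω := trdeg_add_eq k₀ k
  rw [h0, add_zero] at e1
  have e5 : trdeg k₀ Ω = trdeg k₀ k := by
    rw [← e2, ← e1]
    exact Cardinal.add_eq_left hκ (hn₁.le.trans hκ)
  have e6 := trdeg_via k₀ R₀ k φ₂ hφ₂ c2 hκ
  have e7 := trdeg_via k₀ R₀ Ω φ₁ hφ₁ c1 (e5 ▸ hκ)
  obtain ⟨e, he⟩ := exists_equiv' R₀ Ω k φ₁ φ₂ hφ₁ hφ₂ (e7.trans (e5.trans e6.symm))
  exact ⟨e, fun r => he r⟩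

end Groth.Agent.S16919
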