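import Groth.Statements.S1693
-- import your own Groth.Agent.* helpers here

set_option autoImplicit false
universe u
open CategoryTheory CategoryTheory.Limits AlgebraicGeometry TopologicalSpace
open SDiv

namespace Groth.Agent.S1693

open TopologicalSpace Topology in
theorem locFin_aux {Y : Type u} [TopologicalSpace Y] (Z : Set Y) (U : Set Y) (hU : IsOpen U)
    [NoetherianSpace U] :
    {T : ↥(irreducibleComponents ↥Z) | (((↑) '' (T.1 : Set ↥Z) : Set Y) ∩ U).Nonempty}.Finite := by
  let V : Set Z := (↑) ⁻¹' U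
  have hV : IsOpen V := hU.preimage continuous_subtype_val
  have hj : IsOpenEmbedding (Subtype.val : V → Z) := hV.isOpenEmbedding_subtypeVal
  let i : V → U := fun v => ⟨v.1.1, v.2⟩
  have hi : IsInducing i := by
    have h1 : IsInducing ((Subtype.val : U → Y) ∘ i) := by
      have : ((Subtype.val : U → Y) ∘ i) = (Subtype.val : Z → Y) ∘ (Subtype.val : V → Z) := rfl
      rw [this]
      exact IsInducing.subtypeVal.comp IsInducing.subtypeVal
    exact (IsInducing.of_comp_iff IsInducing.subtypeVal).mp h1
  have : NoetherianSpace V := hi.noetherianSpace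
  have hfin : (irreducibleComponents V).Finite := NoetherianSpace.finite_irreducibleComponents
  have hne : ∀ T : ↥(irreducibleComponents ↥Z), (((↑) '' (T.1 : Set ↥Z) : Set Y) ∩ U).Nonempty →
      ((Subtype.val : V → Z) ⁻¹' T.1).Nonempty := by
    rintro T ⟨y, ⟨z, hzT, rfl⟩, hzU⟩
    exact ⟨⟨z, hzU⟩, hzT⟩
  refine Set.Finite.of_injOn (f := fun T : ↥(irreducibleComponents ↥Z) =>
    ((Subtype.val : V → Z) ⁻¹' T.1)) (t := irreducibleComponents V) ?_ ?_ hfin
  · intro T hT
    refine preimage_mem_irreducibleComponents T.2 hj ?_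
    obtain ⟨v, hv⟩ := hne T hT
    exact ⟨v.1, hv, v, rfl⟩
  · intro T₁ hT₁ T₂ hT₂ h
    apply Subtype.ext
    have h₁ := closure_image_preimage_of_isPreirreducible (Subtype.val : V → Z) hj.isOpenMap T₁.1
      (hne T₁ hT₁) T₁.2.1.2 (isClosed_of_mem_irreducibleComponents _ T₁.2)
    have h₂ := closure_image_preimage_of_isPreirreducible (Subtype.val : V → Z) hj.isOpenMap T₂.1
      (hne T₂ hT₂) T₂.2.1.2 (isClosed_of_mem_irreducibleComponents _ T₂.2)
    rw [← h₁, ← h₂]
    simp only at h
    rw [h]

/-- Let X be a locally Noetherian scheme and Z a closed subset. Then the irreducible components of Z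
form a locally finite family of subsets of X. -/
theorem result (X : Scheme.{u}) [IsLocallyNoetherian X] (Z : Set ↥X) (hZ : IsClosed Z) :
    LocallyFinite (fun T : ↥(irreducibleComponents ↥Z) => ((↑) '' (T.1 : Set ↥Z) : Set ↥X)) := by
  intro x
  obtain ⟨W, hW, hxW, -⟩ := AlgebraicGeometry.exists_isAffineOpen_mem_and_subset
    (X := X) (x := x) (U := ⊤) trivial
  have : IsNoetherianRing Γ(X, W) := IsLocallyNoetherian.component_noetherian ⟨W, hW⟩
  have hN : TopologicalSpace.NoetherianSpace W := noetherianSpace_of_isAffineOpen W hW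
  refine ⟨(W : Set X), W.2.mem_nhds hxW, ?_⟩
  exact @locFin_aux _ _ Z (W : Set X) W.2 hN

end Groth.Agent.S1693
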