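import Groth.Statements.S16953
import Groth.Agent.Lib.Helper2.PushEdge4
import Groth.Agent.Lib.Helper8.SheafModGroth
import Groth.Agent.Lib.Helper17.RelAffine
import Groth.Agent.S11319

set_option autoImplicit false
universe u
open Coherent

namespace Groth.Agent.S16953

open AlgebraicGeometry CategoryTheory Scheme.Modules in
/-- Let f : X → Y be an affine morphism of schemes and F a quasi-coherent O_X-module. Then the canonical
map H^1(Y, f_* F) → H^1(X, F) (the edge map: pullback of cohomology classes along f followed by the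
map induced by the counit f^* f_* F → F) is bijective. -/
theorem result
    {X Y : Scheme.{u}} (f : X ⟶ Y) [IsAffineHom f] (F : X.Modules) [Coh.IsQCoh F] :
    Function.Bijective (CohPull.pushEdge f F 1) := by
  haveI : EnoughInjectives X.Modules :=
    Groth.Agent.Lib.Helper8.SheafModGroth.enoughInjectives _ X.ringCatSheaf
  haveI : HasInjectiveResolutions X.Modules := inferInstance
  haveI : F.IsQuasicoherent := ‹Coh.IsQCoh F›
  refine Groth.Agent.Lib.Helper2.PushEdge4.pushEdge_bijective f 1 F ?_
  intro q hq
  obtain ⟨q', rfl⟩ : ∃ q', q = q' + 1 := ⟨q - 1, by lia⟩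
  obtain ⟨e⟩ := Groth.Agent.S11319.result f F (q' + 1)
  have hz : Limits.IsZero (Coh.toAb ((Coh.Rpush f (q' + 1)).obj F)) :=
    Limits.IsZero.of_iso
      (Groth.Agent.Lib.Helper17.RelAffine.isZero_Rpush_of_isAffineHom f F q') e
  rw [Limits.IsZero.iff_id_eq_zero] at hz ⊢
  apply (SheafOfModules.toSheaf Y.ringCatSheaf).map_injective
  exact ((SheafOfModules.toSheaf Y.ringCatSheaf).map_id _).trans
    (hz.trans ((SheafOfModules.toSheaf Y.ringCatSheaf).map_zero _ _).symm)

end Groth.Agent.S16953
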