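import Groth.Statements.S16954
import Groth.Agent.Lib.Helper17.StalkExact
import Groth.Agent.Lib.Helper28.QCohGen
import Mathlib
set_option backward.isDefEq.respectTransparency.types false

set_option autoImplicit false
universe u
open CohCmp

namespace Groth.Agent.S16954
open AlgebraicGeometry CategoryTheory CategoryTheory.Limits Scheme.Modules Opposite
open Groth.Agent.Lib.Helper17.StalkExact Groth.Agent.Lib.Helper28.QCohLoc

/-- an epimorphism of modules is locally surjective on sections -/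
theorem exists_local_lift {Y : Scheme.{u}} {M N : Y.Modules} (φ : M ⟶ N) [Epi φ] (V : Y.Opens)
    (t : Γ(N, V)) (y : Y) (hy : y ∈ V) :
    ∃ (W : Y.Opens) (hWV : W ≤ V), y ∈ W ∧ ∃ s : Γ(M, W), φ.app W s = res N hWV t := by
  obtain ⟨σ, hσ⟩ := stalkHom_surjective_of_epi φ y (N.presheaf.germ V y hy t)
  obtain ⟨W₀, hyW₀, s₀, rfl⟩ := TopCat.Presheaf.exists_germ_eq M.presheaf σ
  rw [stalkHom_germ] at hσ
  obtain ⟨W, hyW, i₁, i₂, heq⟩ := TopCat.Presheaf.germ_eq N.presheaf y hyW₀ hy _ _ hσ
  refine ⟨W, leOfHom i₂, hyW, res M (leOfHom i₁) s₀, ?_⟩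
  rw [app_res]
  exact heq


open AlgebraicGeometry CategoryTheory Scheme.Modules Opposite in
/-- The comparison map is locally surjective. Let f : X → Y be a morphism of schemes, F an O_X-module
and p a natural number; R^p f_* F is the p-th right derived functor of direct image on O-modules and
ε_V : H^p(f⁻¹V, F|_{f⁻¹V}) → Γ(V, R^p f_* F) the pinned comparison maps (the structure SectCmp,
taken as a hypothesis). Then for every open V of Y, every section t of R^p f_* F over V and every
point y of V there are an open neighbourhood W ⊆ V of y and a class x ∈ H^p(f⁻¹W, F|_{f⁻¹W}) with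
ε_W(x) equal to the restriction of t to W. -/
theorem result
    {X Y : Scheme.{u}} (f : X ⟶ Y) [HasInjectiveResolutions X.Modules]
    {Δ : RDer.DerivedLES (pushforward f)} (E : CohCmp.SectCmp f Δ) (F : X.Modules) (p : ℕ)
    (V : Y.Opens) (t : ((Coh.Rpush f p).obj F).presheaf.obj (op V)) (y : Y) (hy : y ∈ V) :
    ∃ (W : Y.Opens) (hWV : W ≤ V), y ∈ W ∧
      ∃ x : Coh.HHon X F (f ⁻¹ᵁ W) p,
        E.ε W F p x = ((Coh.Rpush f p).obj F).presheaf.map (homOfLE hWV).op t := by
  induction p generalizing F V with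
  | zero =>
    haveI : PreservesFiniteLimits (pushforward f) := by
      haveI : (pushforward f).IsRightAdjoint := (pullbackPushforwardAdjunction f).isRightAdjoint
      infer_instance
    haveI : IsIso ((pushforward f).toRightDerivedZero) := inferInstance
    let s : F.presheaf.obj (op (f ⁻¹ᵁ V)) := (inv ((pushforward f).toRightDerivedZero.app F)).app V t
    have hs : ((pushforward f).toRightDerivedZero.app F).app V s = t := by
      have := congrArg (fun ψ : ((Coh.Rpush f 0).obj F ⟶ (Coh.Rpush f 0).obj F) => ψ.app V t)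
        (IsIso.inv_hom_id ((pushforward f).toRightDerivedZero.app F))
      exact this
    refine ⟨V, le_rfl, hy, CohPull.sectH0 F (f ⁻¹ᵁ V) s, ?_⟩
    rw [E.zero, hs]
    exact (res_self ((Coh.Rpush f 0).obj F) t).symm
  | succ p ih =>
    obtain ⟨J⟩ := (HasInjectiveResolution.out : Nonempty (InjectiveResolution F))
    let ι : F ⟶ J.cocomplex.X 0 := J.ι.f 0
    haveI : Mono ι := inferInstanceAs (Mono (J.ι.f 0))
    haveI : Injective (J.cocomplex.X 0) := J.injective 0
    let S : ShortComplex X.Modules :=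
      ShortComplex.mk ι (cokernel.π ι) (cokernel.condition ι)
    have hS : S.ShortExact :=
      { exact := ShortComplex.exact_of_g_is_cokernel _ (cokernelIsCokernel ι)
        mono_f := inferInstanceAs (Mono ι)
        epi_g := inferInstanceAs (Epi (cokernel.π ι)) }
    have hz : IsZero ((Coh.Rpush f (p + 1)).obj S.X₂) :=
      Functor.isZero_rightDerived_obj_injective_succ (pushforward f) p (J.cocomplex.X 0)
    haveI : Epi (Δ.δ S hS p (p + 1) rfl) :=
      (Δ.exact₁ S hS p (p + 1) rfl).epi_f (hz.eq_of_tgt _ _)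
    obtain ⟨W₁, hW₁V, hyW₁, t', ht'⟩ := exists_local_lift (Δ.δ S hS p (p + 1) rfl) V t y hy
    obtain ⟨W, hWW₁, hyW, x', hx'⟩ := ih S.X₃ W₁ t' hyW₁
    have hA : (S.map (toAbOn X (f ⁻¹ᵁ W))).ShortExact := by
      haveI h1 : PreservesFiniteLimits (restrictFunctor (f ⁻¹ᵁ W).ι) := inferInstance
      haveI h2 : PreservesFiniteLimits
        (SheafOfModules.toSheaf.{u} ((f ⁻¹ᵁ W : X.Opens) : Scheme.{u}).ringCatSheaf) := inferInstance
      haveI h3 : PreservesFiniteColimits (restrictFunctor (f ⁻¹ᵁ W).ι) := inferInstance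
      haveI h4 : PreservesFiniteColimits
        (SheafOfModules.toSheaf.{u} ((f ⁻¹ᵁ W : X.Opens) : Scheme.{u}).ringCatSheaf) := inferInstance
      haveI : PreservesFiniteLimits (toAbOn X (f ⁻¹ᵁ W)) :=
        @comp_preservesFiniteLimits _ _ _ _ _ _ (restrictFunctor (f ⁻¹ᵁ W).ι)
          (SheafOfModules.toSheaf.{u} ((f ⁻¹ᵁ W : X.Opens) : Scheme.{u}).ringCatSheaf) h1 h2
      haveI : PreservesFiniteColimits (toAbOn X (f ⁻¹ᵁ W)) :=
        @comp_preservesFiniteColimits _ _ _ _ _ _ (restrictFunctor (f ⁻¹ᵁ W).ι)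
          (SheafOfModules.toSheaf.{u} ((f ⁻¹ᵁ W : X.Opens) : Scheme.{u}).ringCatSheaf) h3 h4
      exact hS.map_of_exact (toAbOn X (f ⁻¹ᵁ W))
    refine ⟨W, hWW₁.trans hW₁V, hyW, extδ hA p x', ?_⟩
    rw [E.delta W S hS hA p x', hx']
    change (Δ.δ S hS p (p + 1) rfl).app W (res ((Coh.Rpush f p).obj S.X₃) hWW₁ t') =
      res ((Coh.Rpush f (p + 1)).obj F) (hWW₁.trans hW₁V) t
    rw [app_res, ht', res_res]

end Groth.Agent.S16954
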