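import Groth.Statements.S16955
import Groth.Agent.Lib.Helper14.ResLE5
import Groth.Agent.Lib.Helper2.PushEdge3
import Groth.Agent.Lib.Helper17.StalkExact
import Groth.Agent.Lib.Helper28.QCohGen
import Groth.Agent.Lib.Helper29.QCohExact
import Groth.Agent.Lib.Helper6.SheafCoh
import Mathlib
set_option backward.isDefEq.respectTransparency.types false

set_option autoImplicit false
universe u
open CohCmp

namespace Groth.Agent.S16955

open AlgebraicGeometry CategoryTheory CategoryTheory.Limits Scheme.Modules Opposite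
open Groth.Agent.Lib.Helper17.StalkExact Groth.Agent.Lib.Helper28.QCohLoc
open Groth.Agent.Lib.Helper2 Groth.Agent.Lib.Helper6 Groth.Agent.Lib.Helper14.ResLE

/-- an epimorphism of modules is locally surjective on sections -/
theorem exists_local_lift {Y : Scheme.{u}} {M N : Y.Modules} (φ : M ⟶ N) [Epi φ] (V : Y.Opens)
    (t : Γ(N, V)) (y : Y) (hy : y ∈ V) :
    ∃ (W : Y.Opens) (hWV : W ≤ V), y ∈ W ∧ ∃ s : Γ(M, W), φ.app W s = res N hWV t := by
  obtain ⟨σ, hσ⟩ := stalkHom_surjective_of_epi φ y (N.presheaf.germ V y hy t)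
  obtain ⟨W₀, hyW₀, s₀, rfl⟩ := TopCat.Presheaf.exists_germ_eq M.presheaf σ
  rw [stalkHom_germ] at hσ
  obtain ⟨W, hyW, i₁, i₂, heq⟩ := TopCat.Presheaf.germ_eq N.presheaf y hyW₀ hy _ _ hσ
  refine ⟨W, leOfHom i₂, hyW, res M (leOfHom i₁) s₀, ?_⟩
  rw [app_res]
  exact heq

/-- local exactness on sections at the middle term of an exact sequence `A ⟶ B ⟶ C` (`B ⟶ C` epi) -/
theorem exists_local_preimage {Y : Scheme.{u}} {A B C : Y.Modules} (a : A ⟶ B) (b : B ⟶ C)
    (w : a ≫ b = 0) (hex : (ShortComplex.mk a b w).Exact) [Epi b] (V : Y.Opens)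
    (t : Γ(B, V)) (ht : b.app V t = 0) (y : Y) (hy : y ∈ V) :
    ∃ (W : Y.Opens) (hWV : W ≤ V), y ∈ W ∧ ∃ s : Γ(A, W), a.app W s = res B hWV t := by
  have hS₁ : (ShortComplex.mk (kernel.ι b) b (kernel.condition _)).ShortExact :=
    { exact := ShortComplex.exact_of_f_is_kernel _ (kernelIsKernel _)
      mono_f := inferInstanceAs (Mono (kernel.ι _))
      epi_g := inferInstanceAs (Epi b) }
  obtain ⟨κ, hκ⟩ := Groth.Agent.Lib.Helper29.QCohStalk.exists_app_eq_of_shortExact _ hS₁ V t ht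
  let a' : A ⟶ kernel b := kernel.lift b a w
  have ha' : a' ≫ kernel.ι b = a := kernel.lift_ι _ _ _
  haveI hepi : Epi a' :=
    (ShortComplex.exact_iff_epi_kernel_lift (ShortComplex.mk a b w)).1 hex
  obtain ⟨W, hWV, hyW, s, hs⟩ := exists_local_lift a' V κ y hy
  refine ⟨W, hWV, hyW, s, ?_⟩
  have h1 := congrArg (fun ψ : (A ⟶ B) => ψ.app W s) ha'
  change (kernel.ι b).app W (a'.app W s) = a.app W s at h1
  rw [← h1, hs, app_res]
  exact congrArg _ hκ

lemma shortExact_toAbOn {X : Scheme.{u}} (E : ShortComplex X.Modules) (hE : E.ShortExact) (U : X.Opens) :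
    (E.map (CohCmp.toAbOn X U)).ShortExact := by
  haveI h1 : PreservesFiniteLimits (restrictFunctor U.ι) := inferInstance
  haveI h2 : PreservesFiniteLimits
    (SheafOfModules.toSheaf.{u} (U : Scheme.{u}).ringCatSheaf) := inferInstance
  haveI h3 : PreservesFiniteColimits (restrictFunctor U.ι) := inferInstance
  haveI h4 : PreservesFiniteColimits
    (SheafOfModules.toSheaf.{u} (U : Scheme.{u}).ringCatSheaf) :=
    Groth.Agent.Lib.Helper17.StalkExact.toSheaf_preservesFiniteColimits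
  haveI : PreservesFiniteLimits (CohCmp.toAbOn X U) :=
    @comp_preservesFiniteLimits _ _ _ _ _ _ (restrictFunctor U.ι)
      (SheafOfModules.toSheaf.{u} (U : Scheme.{u}).ringCatSheaf) h1 h2
  haveI : PreservesFiniteColimits (CohCmp.toAbOn X U) :=
    @comp_preservesFiniteColimits _ _ _ _ _ _ (restrictFunctor U.ι)
      (SheafOfModules.toSheaf.{u} (U : Scheme.{u}).ringCatSheaf) h3 h4
  exact hE.map_of_exact (CohCmp.toAbOn X U)

lemma top_zero {X : Scheme.{u}} (I : X.Modules) [Injective I] (U : X.Opens) (p : ℕ)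
    (x : Coh.HHon X I U (p + 1)) : x = 0 := by
  have h1 := PushEdge3.isFlasque_of_injective I
  have h2 : TopCat.Sheaf.IsFlasque (Coh.toAb (I.restrict U.ι)) :=
    { epi := fun {U₁ V₁} i => by
        change Epi ((Coh.toAb I).obj.map (U.ι.opensFunctor.map i.unop).op)
        exact TopCat.Presheaf.IsFlasque.epi (F := (Coh.toAb I).obj) _ }
  exact @SheafCoh.flasque_H_eq_zero _ _ h2 p x

lemma bijective_app_of_isIso {S : Scheme.{u}} {M N : S.Modules} (φ : M ⟶ N) [IsIso φ] (V : S.Opens) :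
    Function.Bijective (φ.app V) := by
  rw [Function.bijective_iff_has_inverse]
  refine ⟨(inv φ).app V, fun t => ?_, fun t => ?_⟩
  · have := congrArg (fun ψ : (M ⟶ M) => ψ.app V t) (IsIso.hom_inv_id φ)
    exact this
  · have := congrArg (fun ψ : (N ⟶ N) => ψ.app V t) (IsIso.inv_hom_id φ)
    exact this

lemma eq_zero_of_isZero {S : Scheme.{u}} {M : S.Modules} (hM : IsZero M) (V : S.Opens) (t : Γ(M, V)) :
    t = 0 := by
  have := congrArg (fun ψ : (M ⟶ M) => ψ.app V t) (hM.eq_of_src (𝟙 M) 0)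
  exact this

theorem claim {X Y : Scheme.{u}} (f : X ⟶ Y) [HasInjectiveResolutions X.Modules]
    {Δ : RDer.DerivedLES (pushforward f)} (E : CohCmp.SectCmp f Δ) (p : ℕ) :
    ∀ (F : X.Modules) (V : Y.Opens) (x : Coh.HHon X F (f ⁻¹ᵁ V) p) (y : Y) (W₁ : Y.Opens)
      (hW₁ : W₁ ≤ V) (_ : y ∈ W₁) (_ : res ((Coh.Rpush f p).obj F) hW₁ (E.ε V F p x) = 0),
    ∃ (W : Y.Opens) (hWV : W ≤ V), y ∈ W ∧ CohPull.resLE F (f.preimage_mono hWV) p x = 0 := by
  haveI : PreservesFiniteLimits (pushforward f) := by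
    haveI : (pushforward f).IsRightAdjoint := (pullbackPushforwardAdjunction f).isRightAdjoint
    infer_instance
  haveI : IsIso ((pushforward f).toRightDerivedZero) := inferInstance
  induction p with
  | zero =>
    intro F V x y W₁ hW₁ hy hx
    obtain ⟨s, rfl⟩ := (CohPull.sectH0 F (f ⁻¹ᵁ V)).surjective x
    rw [E.zero, ← app_res] at hx
    have hbij := bijective_app_of_isIso ((pushforward f).toRightDerivedZero.app F) W₁
    have hs : res F (f.preimage_mono hW₁) s = 0 := hbij.1 (hx.trans (map_zero _).symm)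
    refine ⟨W₁, hW₁, hy, ?_⟩
    rw [resLE_sectH0, hs, map_zero]
  | succ p ih =>
    intro F V x y W₁ hW₁ hy hx
    obtain ⟨J⟩ := (HasInjectiveResolution.out : Nonempty (InjectiveResolution F))
    let ι : F ⟶ J.cocomplex.X 0 := J.ι.f 0
    haveI : Mono ι := inferInstanceAs (Mono (J.ι.f 0))
    haveI : Injective (J.cocomplex.X 0) := J.injective 0
    let S : ShortComplex X.Modules :=
      ShortComplex.mk ι (cokernel.π ι) (cokernel.condition ι)
    have hS : S.ShortExact :=
      { exact := ShortComplex.exact_of_g_is_cokernel _ (cokernelIsCokernel ι)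
        mono_f := inferInstanceAs (Mono ι)
        epi_g := inferInstanceAs (Epi (cokernel.π ι)) }
    haveI : Injective S.X₂ := J.injective 0
    have hz : IsZero ((Coh.Rpush f (p + 1)).obj S.X₂) :=
      Functor.isZero_rightDerived_obj_injective_succ (pushforward f) p (J.cocomplex.X 0)
    haveI : Epi (Δ.δ S hS p (p + 1) rfl) :=
      (Δ.exact₁ S hS p (p + 1) rfl).epi_f (hz.eq_of_tgt _ _)
    have hAV := shortExact_toAbOn S hS (f ⁻¹ᵁ V)
    obtain ⟨x', rfl⟩ := HLes.exact₁ hAV p x (top_zero S.X₂ (f ⁻¹ᵁ V) p _)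
    change res _ hW₁ (E.ε V S.X₁ (p + 1) (CohCmp.extδ hAV p x')) = 0 at hx
    rw [E.delta V S hS hAV p x', ← app_res] at hx
    obtain ⟨W₂, hW₂, hyW₂, t, ht⟩ := exists_local_preimage ((Coh.Rpush f p).map S.g)
      (Δ.δ S hS p (p + 1) rfl) (Δ.comp_δ S hS p (p + 1) rfl) (Δ.exact₃ S hS p (p + 1) rfl)
      W₁ _ hx y hy
    rw [res_res] at ht
    have hAW : ∀ W : Y.Opens, (S.map (CohCmp.toAbOn X (f ⁻¹ᵁ W))).ShortExact :=
      fun W => shortExact_toAbOn S hS (f ⁻¹ᵁ W)
    cases p with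
    | zero =>
      obtain ⟨s', rfl⟩ := (CohPull.sectH0 S.X₃ (f ⁻¹ᵁ V)).surjective x'
      rw [E.zero, ← app_res] at ht
      have hbijI := bijective_app_of_isIso ((pushforward f).toRightDerivedZero.app S.X₂) W₂
      obtain ⟨t', rfl⟩ := hbijI.2 t
      have hnat := (pushforward f).toRightDerivedZero.naturality S.g
      have h1 : ((Coh.Rpush f 0).map S.g).app W₂
            (((pushforward f).toRightDerivedZero.app S.X₂).app W₂ t') =
          ((pushforward f).toRightDerivedZero.app S.X₃).app W₂ (S.g.app (f ⁻¹ᵁ W₂) t') :=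
        congrArg (fun ψ : ((pushforward f).obj S.X₂ ⟶ (Coh.Rpush f 0).obj S.X₃) => ψ.app W₂ t')
          hnat.symm
      rw [h1] at ht
      have hbijQ := bijective_app_of_isIso ((pushforward f).toRightDerivedZero.app S.X₃) W₂
      have h2 : S.g.app (f ⁻¹ᵁ W₂) t' = res S.X₃ (f.preimage_mono (hW₂.trans hW₁)) s' :=
        hbijQ.1 ht
      refine ⟨W₂, hW₂.trans hW₁, hyW₂, ?_⟩
      change CohPull.resLE S.X₁ (f.preimage_mono (hW₂.trans hW₁)) (0 + 1)
        (CohCmp.extδ hAV 0 (CohPull.sectH0 S.X₃ _ s')) = 0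
      rw [resLE_extδ (f.preimage_mono (hW₂.trans hW₁)) S hAV (hAW W₂) 0, resLE_sectH0, ← h2,
        ← mapH_sectH0]
      exact HLes.δ_map_g (hAW W₂) 0 _
    | succ q =>
      have hzq : IsZero ((Coh.Rpush f (q + 1)).obj S.X₂) :=
        Functor.isZero_rightDerived_obj_injective_succ (pushforward f) q (J.cocomplex.X 0)
      have ht0 : t = 0 := eq_zero_of_isZero hzq W₂ t
      rw [ht0, map_zero] at ht
      obtain ⟨W, hWV, hyW, hres⟩ := ih S.X₃ V x' y W₂ (hW₂.trans hW₁) hyW₂ ht.symm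
      refine ⟨W, hWV, hyW, ?_⟩
      change CohPull.resLE S.X₁ (f.preimage_mono hWV) (q + 1 + 1) (CohCmp.extδ hAV (q + 1) x') = 0
      rw [resLE_extδ (f.preimage_mono hWV) S hAV (hAW W) (q + 1) x', hres]
      exact map_zero _


open AlgebraicGeometry CategoryTheory Scheme.Modules in
/-- The comparison map is locally injective. Let f : X → Y be a morphism of schemes, F an O_X-module and
p a natural number; R^p f_* F is the p-th right derived functor of direct image on O-modules and ε_V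
: H^p(f⁻¹V, F|_{f⁻¹V}) → Γ(V, R^p f_* F) the pinned comparison maps (the structure SectCmp, taken as
a hypothesis). If a class x over f⁻¹V satisfies ε_V(x) = 0, then every point y of V has an open
neighbourhood W ⊆ V such that the restriction of x to H^p(f⁻¹W, F|_{f⁻¹W}) vanishes. -/
theorem result
    {X Y : Scheme.{u}} (f : X ⟶ Y) [HasInjectiveResolutions X.Modules]
    {Δ : RDer.DerivedLES (pushforward f)} (E : CohCmp.SectCmp f Δ) (F : X.Modules) (p : ℕ)
    (V : Y.Opens) (x : Coh.HHon X F (f ⁻¹ᵁ V) p) (hx : E.ε V F p x = 0) (y : Y) (hy : y ∈ V) :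
    ∃ (W : Y.Opens) (hWV : W ≤ V), y ∈ W ∧ CohPull.resLE F (f.preimage_mono hWV) p x = 0 := by
  refine claim f E p F V x y V le_rfl hy ?_
  rw [hx]
  exact res_zero _ _

end Groth.Agent.S16955
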