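import Groth.Statements.S16959
import Groth.Agent.Lib.Helper2.HLes
import Groth.Agent.Lib.Helper2.RpushQC6
import Groth.Agent.Lib.Helper2.PushEdge3
import Groth.Agent.Lib.Helper17.Serre
import Groth.Agent.Lib.Helper17.AffineVanish
import Groth.Agent.Lib.Helper29.QCohExact
import Groth.Agent.Lib.Helper6.RDShift
import Groth.Agent.Lib.Helper6.SheafCoh

set_option autoImplicit false
universe u
open CohCmp

namespace Groth.Agent.S16959

open AlgebraicGeometry CategoryTheory Limits Scheme.Modules Opposite TopologicalSpace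
open Groth.Agent.Lib.Helper2 Groth.Agent.Lib.Helper6

section

variable {X S : Scheme.{u}} (f : X ⟶ S) [HasInjectiveResolutions X.Modules]

/-- the class of modules all of whose higher direct images have no higher cohomology -/
def P (G : X.Modules) : Prop :=
  ∀ q k : ℕ, Subsingleton (Coh.HH S ((Coh.Rpush f q).obj G) (k + 1))

lemma subsingleton_HH_of_iso {M N : S.Modules} (e : M ≅ N) (n : ℕ)
    (h : Subsingleton (Coh.HH S M n)) : Subsingleton (Coh.HH S N n) := by
  let e' := ((Sheaf.functorH (Opens.grothendieckTopology S) n).mapIso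
    ((SheafOfModules.toSheaf S.ringCatSheaf).mapIso e)).addCommGroupIsoToAddEquiv
  haveI : Subsingleton ((Sheaf.functorH (Opens.grothendieckTopology S) n).obj
      ((SheafOfModules.toSheaf S.ringCatSheaf).obj M)) := h
  exact e'.symm.toEquiv.subsingleton

lemma subsingleton_X₂ (T : ShortComplex S.Modules) (hT : T.ShortExact) (n : ℕ)
    (h₁ : Subsingleton (Coh.HH S T.X₁ n)) (h₃ : Subsingleton (Coh.HH S T.X₃ n)) :
    Subsingleton (Coh.HH S T.X₂ n) :=
  HLes.subsingleton_X₂ (Groth.Agent.Lib.Helper17.Serre.shortExact_map_toSheaf' T hT) n h₁ h₃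

lemma subsingleton_X₃ (T : ShortComplex S.Modules) (hT : T.ShortExact) (n : ℕ)
    (h₂ : Subsingleton (Coh.HH S T.X₂ n)) (h₁ : Subsingleton (Coh.HH S T.X₁ (n + 1))) :
    Subsingleton (Coh.HH S T.X₃ n) :=
  HLes.subsingleton_X₃ (Groth.Agent.Lib.Helper17.Serre.shortExact_map_toSheaf' T hT) n h₂ h₁

instance : PreservesFiniteLimits (pushforward f) :=
  (pullbackPushforwardAdjunction f).rightAdjoint_preservesLimits.{0, 0}.preservesFiniteLimits

variable {f} (Δ : RDer.DerivedLES (pushforward f))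
  (E : ShortComplex X.Modules) (hE : E.ShortExact) [Injective E.X₂] (hP : P f E.X₁)

include hP in
/-- the bottom row in degrees `0, 1` -/
lemma bottom_zero :
    (∀ k : ℕ, Subsingleton (Coh.HH S ((Coh.Rpush f 0).obj E.X₃) (k + 1))) ∧
    (∀ t : Γ((Coh.Rpush f 1).obj E.X₁, ⊤), ∃ t' : Γ((Coh.Rpush f 0).obj E.X₃, ⊤),
      (Δ.δ E hE 0 1 rfl).app ⊤ t' = t) ∧
    (∀ t' : Γ((Coh.Rpush f 0).obj E.X₃, ⊤), (Δ.δ E hE 0 1 rfl).app ⊤ t' = 0 →
      ∃ s : Γ((Coh.Rpush f 0).obj E.X₂, ⊤), ((Coh.Rpush f 0).map E.g).app ⊤ s = t') := by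
  have hz : IsZero ((Coh.Rpush f 1).obj E.X₂) :=
    Functor.isZero_rightDerived_obj_injective_succ (pushforward f) 0 _
  haveI : Epi (Δ.δ E hE 0 1 rfl) := (Δ.exact₁ E hE 0 1 rfl).epi_f (hz.eq_of_tgt _ _)
  let b' : (Coh.Rpush f 0).obj E.X₂ ⟶ kernel (Δ.δ E hE 0 1 rfl) :=
    kernel.lift (Δ.δ E hE 0 1 rfl) ((Coh.Rpush f 0).map E.g) (Δ.comp_δ E hE 0 1 rfl)
  have hb : b' ≫ kernel.ι (Δ.δ E hE 0 1 rfl) = (Coh.Rpush f 0).map E.g := kernel.lift_ι _ _ _
  have hepi : Epi b' :=
    (ShortComplex.exact_iff_epi_kernel_lift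
      (ShortComplex.mk _ _ (Δ.comp_δ E hE 0 1 rfl))).1 (Δ.exact₃ E hE 0 1 rfl)
  haveI : Mono ((Coh.Rpush f 0).map E.f) :=
    RDShift.mono_rightDerived_zero_map (pushforward f) hE
  have w₁' : (Coh.Rpush f 0).map E.f ≫ b' = 0 := by
    rw [← cancel_mono (kernel.ι (Δ.δ E hE 0 1 rfl)), Category.assoc, hb, ← Functor.map_comp,
      E.zero, Functor.map_zero, zero_comp]
  have hS₂ : (ShortComplex.mk ((Coh.Rpush f 0).map E.f) b' w₁').ShortExact := by
    refine { exact := ?_, mono_f := inferInstanceAs (Mono ((Coh.Rpush f 0).map E.f)), epi_g := hepi }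
    let φ : ShortComplex.mk ((Coh.Rpush f 0).map E.f) b' w₁' ⟶
        ShortComplex.mk ((Coh.Rpush f 0).map E.f) ((Coh.Rpush f 0).map E.g)
          (by rw [← Functor.map_comp, E.zero, Functor.map_zero]) :=
      { τ₁ := 𝟙 _, τ₂ := 𝟙 _, τ₃ := kernel.ι (Δ.δ E hE 0 1 rfl)
        comm₁₂ := by simp
        comm₂₃ := by simp [hb] }
    have : Epi φ.τ₁ := inferInstanceAs (Epi (𝟙 _))
    have : IsIso φ.τ₂ := inferInstanceAs (IsIso (𝟙 _))
    have : Mono φ.τ₃ := inferInstanceAs (Mono (kernel.ι _))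
    exact (ShortComplex.exact_iff_of_epi_of_isIso_of_mono φ).2 (Δ.exact₂ E hE 0)
  have hS₁ : (ShortComplex.mk (kernel.ι (Δ.δ E hE 0 1 rfl)) (Δ.δ E hE 0 1 rfl)
      (kernel.condition _)).ShortExact :=
    { exact := ShortComplex.exact_of_f_is_kernel _ (kernelIsKernel _)
      mono_f := inferInstanceAs (Mono (kernel.ι _))
      epi_g := inferInstanceAs (Epi (Δ.δ E hE 0 1 rfl)) }
  have hI : ∀ k : ℕ, Subsingleton (Coh.HH S ((Coh.Rpush f 0).obj E.X₂) (k + 1)) := by
    intro k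
    refine subsingleton_HH_of_iso
      ((Functor.rightDerivedZeroIsoSelf (pushforward f)).app E.X₂).symm (k + 1) ?_
    exact ⟨fun a b => (PushEdge3.eq_zero_push_of_injective f E.X₂ k a).trans
      (PushEdge3.eq_zero_push_of_injective f E.X₂ k b).symm⟩
  have hK : ∀ k : ℕ, Subsingleton (Coh.HH S (kernel (Δ.δ E hE 0 1 rfl)) (k + 1)) :=
    fun k => subsingleton_X₃ _ hS₂ (k + 1) (hI k) (hP 0 (k + 1))
  refine ⟨fun k => subsingleton_X₂ _ hS₁ (k + 1) (hK k) (hP 1 k), ?_, ?_⟩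
  · exact Groth.Agent.Lib.Helper17.Serre.surjective_app_top_of_H1 _ hS₁ (hK 0)
  · intro t' ht'
    obtain ⟨κ, hκ⟩ := Groth.Agent.Lib.Helper29.QCohStalk.exists_app_eq_of_shortExact _ hS₁ ⊤ t' ht'
    obtain ⟨s, hs⟩ := Groth.Agent.Lib.Helper17.Serre.surjective_app_top_of_H1 _ hS₂ (hP 0 0) κ
    refine ⟨s, ?_⟩
    have h1 := congrArg (fun ψ : ((Coh.Rpush f 0).obj E.X₂ ⟶ (Coh.Rpush f 0).obj E.X₃) =>
      ψ.app ⊤ s) hb
    change (kernel.ι (Δ.δ E hE 0 1 rfl)).app ⊤ (b'.app ⊤ s) = _ at h1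
    rw [← h1]
    change (kernel.ι (Δ.δ E hE 0 1 rfl)).app ⊤ (b'.app ⊤ s) = t'
    rw [← hκ]
    exact congrArg _ hs

include hE in
lemma isIso_δ_succ (p : ℕ) : IsIso (Δ.δ E hE (p + 1) (p + 2) rfl) := by
  have hz₁ : IsZero ((Coh.Rpush f (p + 1)).obj E.X₂) :=
    Functor.isZero_rightDerived_obj_injective_succ (pushforward f) p _
  have hz₂ : IsZero ((Coh.Rpush f (p + 2)).obj E.X₂) :=
    Functor.isZero_rightDerived_obj_injective_succ (pushforward f) (p + 1) _
  have hmono : Mono (Δ.δ E hE (p + 1) (p + 2) rfl) :=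
    (Δ.exact₃ E hE (p + 1) (p + 2) rfl).mono_g (hz₁.eq_of_src _ _)
  have hepi : Epi (Δ.δ E hE (p + 1) (p + 2) rfl) :=
    (Δ.exact₁ E hE (p + 1) (p + 2) rfl).epi_f (hz₂.eq_of_tgt _ _)
  exact isIso_of_mono_of_epi _

include Δ hE hP in
lemma P_X₃ : P f E.X₃ := by
  intro q k
  cases q with
  | zero => exact (bottom_zero Δ E hE hP).1 k
  | succ q =>
    haveI := isIso_δ_succ Δ E hE q
    exact subsingleton_HH_of_iso (asIso (Δ.δ E hE (q + 1) (q + 2) rfl)).symm (k + 1) (hP (q + 2) k)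

omit [HasInjectiveResolutions X.Modules] in
lemma top_zero (V : S.Opens) (p : ℕ) (x : Coh.HHon X E.X₂ (f ⁻¹ᵁ V) (p + 1)) : x = 0 := by
  have h1 := PushEdge3.isFlasque_of_injective E.X₂
  have h2 := RpushQC4.isFlasque_restrict (f ⁻¹ᵁ V) E.X₂ h1
  exact @SheafCoh.flasque_H_eq_zero _ _ h2 p x

omit [HasInjectiveResolutions X.Modules] in
lemma bijective_app_of_isIso {M N : S.Modules} (φ : M ⟶ N) [IsIso φ] (V : S.Opens) :
    Function.Bijective (φ.app V) := by
  rw [Function.bijective_iff_has_inverse]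
  refine ⟨(inv φ).app V, fun t => ?_, fun t => ?_⟩
  · have := congrArg (fun ψ : (M ⟶ M) => ψ.app V t) (IsIso.hom_inv_id φ)
    exact this
  · have := congrArg (fun ψ : (N ⟶ N) => ψ.app V t) (IsIso.inv_hom_id φ)
    exact this

include hE in
omit [HasInjectiveResolutions X.Modules] [Injective E.X₂] in
lemma shortExact_toAbOn (U : X.Opens) : (E.map (CohCmp.toAbOn X U)).ShortExact := by
  haveI h1 : PreservesFiniteLimits (restrictFunctor U.ι) := inferInstance
  haveI h2 : PreservesFiniteLimits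
    (SheafOfModules.toSheaf.{u} (U : Scheme.{u}).ringCatSheaf) := inferInstance
  haveI h3 : PreservesFiniteColimits (restrictFunctor U.ι) := inferInstance
  haveI h4 : PreservesFiniteColimits
    (SheafOfModules.toSheaf.{u} (U : Scheme.{u}).ringCatSheaf) :=
    Groth.Agent.Lib.Helper17.StalkExact.toSheaf_preservesFiniteColimits
  haveI : PreservesFiniteLimits (CohCmp.toAbOn X U) :=
    @comp_preservesFiniteLimits _ _ _ _ _ _ (restrictFunctor U.ι)
      (SheafOfModules.toSheaf.{u} (U : Scheme.{u}).ringCatSheaf) h1 h2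
  haveI : PreservesFiniteColimits (CohCmp.toAbOn X U) :=
    @comp_preservesFiniteColimits _ _ _ _ _ _ (restrictFunctor U.ι)
      (SheafOfModules.toSheaf.{u} (U : Scheme.{u}).ringCatSheaf) h3 h4
  exact hE.map_of_exact (CohCmp.toAbOn X U)

variable {Δ} (C : CohCmp.SectCmp f Δ)

lemma bij_zero (G : X.Modules) : Function.Bijective (C.ε ⊤ G 0) := by
  haveI : IsIso ((pushforward f).toRightDerivedZero) := inferInstance
  have hbij : Function.Bijective (((pushforward f).toRightDerivedZero.app G).app ⊤) :=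
    bijective_app_of_isIso _ ⊤
  have heq : ∀ x, C.ε ⊤ G 0 x = ((pushforward f).toRightDerivedZero.app G).app ⊤
      ((CohPull.sectH0 G (f ⁻¹ᵁ ⊤)).symm x) := by
    intro x
    rw [← C.zero, AddEquiv.apply_symm_apply]
  constructor
  · intro a b hab
    rw [heq, heq] at hab
    exact (CohPull.sectH0 G _).symm.injective (hbij.1 hab)
  · intro t
    obtain ⟨s, hs⟩ := hbij.2 t
    exact ⟨CohPull.sectH0 G _ s, by rw [C.zero, hs]⟩

include hE hP in
lemma bij_one : Function.Bijective (C.ε ⊤ E.X₁ 1) := by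
  have hA := shortExact_toAbOn E hE (f ⁻¹ᵁ ⊤)
  have hdelta := C.delta ⊤ E hE hA 0
  obtain ⟨-, hsurj, hker⟩ := bottom_zero Δ E hE hP
  constructor
  · rw [injective_iff_map_eq_zero]
    intro x hx
    obtain ⟨x', rfl⟩ := HLes.exact₁ hA 0 x (top_zero E ⊤ 0 _)
    change C.ε ⊤ E.X₁ 1 (CohCmp.extδ hA 0 x') = 0 at hx
    rw [hdelta] at hx
    obtain ⟨s, hs⟩ := hker _ hx
    obtain ⟨y, rfl⟩ := (bij_zero C E.X₂).2 s
    rw [← C.natural ⊤ E.g 0 y] at hs
    have h3 := (bij_zero C E.X₃).1 hs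
    rw [← h3]
    exact HLes.δ_map_g hA 0 y
  · intro t
    obtain ⟨t', ht'⟩ := hsurj t
    obtain ⟨x', hx'⟩ := (bij_zero C E.X₃).2 t'
    exact ⟨CohCmp.extδ hA 0 x', by rw [hdelta, hx', ht']⟩

include hE in
lemma bij_succ (q : ℕ) (h : Function.Bijective (C.ε ⊤ E.X₃ (q + 1))) :
    Function.Bijective (C.ε ⊤ E.X₁ (q + 2)) := by
  have hA := shortExact_toAbOn E hE (f ⁻¹ᵁ ⊤)
  have hdelta := C.delta ⊤ E hE hA (q + 1)
  haveI := isIso_δ_succ Δ E hE q
  have hbijδ : Function.Bijective ((Δ.δ E hE (q + 1) (q + 2) rfl).app ⊤) :=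
    bijective_app_of_isIso _ ⊤
  have hext_surj : Function.Surjective (CohCmp.extδ hA (q + 1)) :=
    fun x => HLes.exact₁ hA (q + 1) x (top_zero E ⊤ (q + 1) _)
  constructor
  · intro a b hab
    obtain ⟨a', rfl⟩ := hext_surj a
    obtain ⟨b', rfl⟩ := hext_surj b
    rw [hdelta, hdelta] at hab
    rw [h.1 (hbijδ.1 hab)]
  · intro t
    obtain ⟨t', rfl⟩ := hbijδ.2 t
    obtain ⟨x', rfl⟩ := h.2 t'
    exact ⟨CohCmp.extδ hA (q + 1) x', hdelta x'⟩

omit hP [Injective E.X₂] in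
theorem bij (q : ℕ) : ∀ G : X.Modules, P f G → Function.Bijective (C.ε ⊤ G q) := by
  induction q with
  | zero => exact fun G _ => bij_zero C G
  | succ q ih =>
    intro G hG
    obtain ⟨J⟩ := (HasInjectiveResolution.out : Nonempty (InjectiveResolution G))
    let ι : G ⟶ J.cocomplex.X 0 := J.ι.f 0
    haveI : Mono ι := inferInstanceAs (Mono (J.ι.f 0))
    haveI : Injective (J.cocomplex.X 0) := J.injective 0
    let T : ShortComplex X.Modules :=
      ShortComplex.mk ι (cokernel.π ι) (cokernel.condition ι)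
    have hT : T.ShortExact :=
      { exact := ShortComplex.exact_of_g_is_cokernel _ (cokernelIsCokernel ι)
        mono_f := inferInstanceAs (Mono ι)
        epi_g := inferInstanceAs (Epi (cokernel.π ι)) }
    haveI : Injective T.X₂ := J.injective 0
    cases q with
    | zero => exact bij_one T hT hG C
    | succ q => exact bij_succ T hT C q (ih T.X₃ (P_X₃ Δ T hT hG))

end

open AlgebraicGeometry CategoryTheory Scheme.Modules in
/-- The comparison map over an affine base is bijective: let f : X → S be a quasi-compact and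
quasi-separated morphism of schemes with S affine, F a quasi-coherent O_X-module and q a natural
number; R^q f_* F is the q-th right derived functor of direct image on O-modules and ε_V : H^q(f⁻¹V,
F|_{f⁻¹V}) → Γ(V, R^q f_* F) the pinned comparison maps (the structure SectCmp, taken as a
hypothesis). Then ε over V = S, from the cohomology of F restricted to the open f⁻¹S = X to the
global sections of R^q f_* F, is bijective. -/
theorem result
    {X S : Scheme.{u}} (f : X ⟶ S) [QuasiCompact f] [QuasiSeparated f] [IsAffine S]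
    [HasInjectiveResolutions X.Modules]
    {Δ : RDer.DerivedLES (pushforward f)} (E : CohCmp.SectCmp f Δ) (F : X.Modules) [Coh.IsQCoh F] (q : ℕ) :
    Function.Bijective (E.ε ⊤ F q) := by
  refine bij E q F (fun q' k => ?_)
  haveI : ((Coh.Rpush f q').obj F).IsQuasicoherent :=
    RpushQC6.isQuasicoherent_Rpush f F q'
  exact Groth.Agent.Lib.Helper17.AffineVanish.subsingleton_H_of_isAffine _ k

end Groth.Agent.S16959
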