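import Groth.Statements.S1696
import Groth.Agent.Lib.Helper17.ModStalk
import Groth.Agent.Lib.Helper29.RelEffCart

set_option autoImplicit false
universe u
open CategoryTheory CategoryTheory.Limits AlgebraicGeometry TopologicalSpace
open SDiv

namespace Groth.Agent.S1696

open TensorProduct
open Groth.Agent.Lib.Helper28.QCohLoc Groth.Agent.Lib.Helper29.QCohStalk

theorem smul_injective_of_flat {R M : Type*} [CommRing R] [AddCommGroup M] [Module R M]
    [Module.Flat R M] (r : R) (hr : r ∈ nonZeroDivisors R) :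
    Function.Injective (fun m : M => r • m) := by
  have hinj : Function.Injective (LinearMap.mulLeft R r) := fun a b hab =>
    (mul_cancel_left_mem_nonZeroDivisors hr).1 hab
  have h := Module.Flat.rTensor_preserves_injective_linearMap (M := M) (LinearMap.mulLeft R r) hinj
  intro a b hab
  have h1 : (LinearMap.mulLeft R r).rTensor M ((1 : R) ⊗ₜ a) =
      (LinearMap.mulLeft R r).rTensor M ((1 : R) ⊗ₜ b) := by
    simp only [LinearMap.rTensor_tmul, LinearMap.mulLeft_apply, mul_one]
    have : ∀ c : M, (r ⊗ₜ[R] c : R ⊗[R] M) = (1 : R) ⊗ₜ (r • c) := by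
      intro c
      rw [← TensorProduct.smul_tmul, smul_eq_mul, mul_one]
    rw [this, this]
    exact congrArg _ hab
  have h2 := h h1
  have h3 := congrArg (TensorProduct.lid R M) h2
  simpa using h3

theorem pow_smul_injective {R M : Type*} [CommRing R] [AddCommGroup M] [Module R M] (g : R)
    (hinj : Function.Injective (fun μ : M => g • μ)) (n : ℕ) (μ : M) (h : g ^ n • μ = 0) :
    μ = 0 := by
  induction n with
  | zero => simpa using h
  | succ k ih =>
    apply ih
    apply hinj
    change g • (g ^ k • μ) = g • 0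
    rw [smul_zero, smul_smul, ← pow_succ']
    exact h
theorem gm_eq_zero_of_killed {X : Scheme.{u}} (𝓔 : X.IdealSheafData) (M : X.Modules)
    (V : X.affineOpens) (m : Γ(M, V.1)) (n : ℕ)
    (hn : ∀ a : Γ(X, V.1), a ∈ (𝓔 ^ n).ideal V → a • m = 0) (x : X) (hxV : x ∈ V.1)
    (W : X.affineOpens) (hxW : x ∈ W.1) (t : Γ(X, W.1)) (hI : 𝓔.ideal W = Ideal.span {t})
    (hinj : Function.Injective
      (fun μ : M.presheaf.stalk x => X.presheaf.germ W.1 x hxW t • μ)) :
    gm M V.1 x hxV m = 0 := by
  obtain ⟨_, ⟨D, hD, rfl⟩, hxD, hDle⟩ :=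
    X.isBasis_affineOpens.exists_subset_of_mem_open
      (show x ∈ (V.1 ⊓ W.1 : X.Opens) from ⟨hxV, hxW⟩) (V.1 ⊓ W.1).2
  have hDV : D ≤ V.1 := fun y hy => (hDle hy).1
  have hDW : D ≤ W.1 := fun y hy => (hDle hy).2
  have h1 : (resO hDW t) ^ n ∈ Ideal.map (X.presheaf.map (homOfLE hDV).op).hom
      ((𝓔 ^ n).ideal V) := by
    have e1 : Ideal.map (X.presheaf.map (homOfLE hDV).op).hom ((𝓔 ^ n).ideal V) =
        (𝓔 ^ n).ideal ⟨D, hD⟩ := (𝓔 ^ n).map_ideal (U := ⟨D, hD⟩) (V := V) hDV
    have e2 : Ideal.map (X.presheaf.map (homOfLE hDW).op).hom (𝓔.ideal W) =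
        𝓔.ideal ⟨D, hD⟩ := 𝓔.map_ideal (U := ⟨D, hD⟩) (V := W) hDW
    rw [e1, Scheme.IdealSheafData.ideal_pow, Pi.pow_apply, ← e2, hI, Ideal.map_span,
      Set.image_singleton]
    exact Ideal.pow_mem_pow (Ideal.mem_span_singleton_self _) n
  have h2 : Ideal.map (X.presheaf.map (homOfLE hDV).op).hom ((𝓔 ^ n).ideal V) ≤
      ann (res M hDV m) := by
    rw [Ideal.map_le_iff_le_comap]
    intro a ha
    rw [Ideal.mem_comap, mem_ann]
    have := res_smul M hDV a m
    rw [hn a ha, res_zero] at this
    exact this.symm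
  have h3 : (resO hDW t) ^ n • res M hDV m = 0 := (mem_ann _ _).1 (h2 h1)
  have h4 := congrArg (gm M D x hxD) h3
  rw [gm_smul, gm_res, gm_zero, map_pow, germ_resO] at h4
  exact pow_smul_injective _ hinj n _ h4

/-- Let b : S' → S be the blowing-up of a scheme S in a quasi-coherent sheaf of ideals 𝓘 and F a
quasi-coherent O_S-module which is flat at every point of V(𝓘), the support of O_S/𝓘. Then the
pullback b^*F is its own strict transform (via the identity map): no nonzero local section of b^*F
is annihilated by a power of the exceptional ideal. -/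
theorem result {S S' : Scheme.{u}} (𝓘 : S.IdealSheafData) (b : S' ⟶ S) (hb : BlowUp.IsBlowUp b 𝓘)
    (F : S.Modules) (hF : Coh.IsQCoh F) (hflat : ∀ s : ↥S, s ∈ 𝓘.support → FlatMod.IsFlatAt F s) :
    BlowUp.IsStrictTransform b 𝓘 F ((Scheme.Modules.pullback b).obj F) (𝟙 _) := by
  haveI : F.IsQuasicoherent := hF
  refine ⟨inferInstance, fun V m => ?_⟩
  constructor
  · intro h
    have hm : m = 0 := h
    exact ⟨0, fun a _ => by rw [hm, smul_zero]⟩
  · rintro ⟨n, hn⟩
    change m = 0
    refine TopCat.Presheaf.section_ext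
      (⟨((Scheme.Modules.pullback b).obj F).presheaf, ((Scheme.Modules.pullback b).obj F).isSheaf⟩ :
        TopCat.Sheaf Ab S') V.1 _ _ (fun x' hx' => ?_)
    change gm ((Scheme.Modules.pullback b).obj F) V.1 x' hx' m =
      gm ((Scheme.Modules.pullback b).obj F) V.1 x' hx' 0
    rw [gm_zero]
    obtain ⟨W, hxW, t, ht, hIW⟩ := hb.1 x'
    refine gm_eq_zero_of_killed (BlowUp.exceptional b 𝓘) _ V m n hn x' hx' W hxW t hIW ?_
    by_cases hsupp : x' ∈ (𝓘.comap b).support
    · -- flat stalk, nonzerodivisor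
      have hs : b x' ∈ 𝓘.support := by
        rw [Scheme.IdealSheafData.support_comap] at hsupp
        exact hsupp
      have hfl : Module.Flat (S.presheaf.stalk (b x')) (F.presheaf.stalk (b x')) := hflat _ hs
      letI := (b.stalkMap x').hom.toAlgebra
      obtain ⟨e⟩ := Groth.Agent.Lib.Helper17.ModStalk.nonempty_linearEquiv_stalk_pullback b F x'
      haveI : Module.Flat (S'.presheaf.stalk x')
          (((Scheme.Modules.pullback b).obj F).presheaf.stalk x') :=
        Module.Flat.of_linearEquiv e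
      exact smul_injective_of_flat _
        (Groth.Agent.Lib.Helper29.EffCart.germ_mem_nonZeroDivisors W.2 x' hxW t ht)
    · -- unit
      have h1 : x' ∈ S'.basicOpen t := by
        by_contra hcon
        apply hsupp
        rw [Scheme.IdealSheafData.mem_support_iff_of_mem (U := W) hxW, hIW, Scheme.zeroLocus_span,
          Scheme.zeroLocus_singleton]
        exact hcon
      have hu : IsUnit (S'.presheaf.germ W.1 x' hxW t) := (Scheme.mem_basicOpen _ _ _ hxW).1 h1
      intro μ ν hμν
      obtain ⟨u, hu'⟩ := hu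
      have h2 : (↑u : S'.presheaf.stalk x') • μ = (↑u : S'.presheaf.stalk x') • ν := by
        rw [hu']; exact hμν
      have := congrArg (fun z => (↑u⁻¹ : S'.presheaf.stalk x') • z) h2
      simpa [smul_smul] using this



end Groth.Agent.S1696
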