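import Groth.Statements.S16962
-- import your own Groth.Agent.* helpers here
import Groth.Agent.Lib.Helper26.ComodT

set_option autoImplicit false
universe u
open ConstAct

namespace Groth.Agent.S16962

theorem msa_ext {M R : Type*} [Monoid M] [Semiring R] (a a' : MulSemiringAction M R)
    (h : ∀ (g : M) (r : R), (letI := a; g • r) = (letI := a'; g • r)) : a = a' := by
  have h2 : a.toDistribMulAction.toMulAction = a'.toDistribMulAction.toMulAction := by
    apply MulAction.ext
    funext g r
    exact h g r
  obtain @⟨d, _, _⟩ := a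
  obtain @⟨d', _, _⟩ := a'
  obtain @⟨m, _, _⟩ := d
  obtain @⟨m', _, _⟩ := d'
  change m = m' at h2
  subst h2
  rfl

section Aux
open TensorProduct Groth.Agent.Lib.Helper26.Comod
variable (R : Type u) [CommRing R] (B : Type u) [CommRing B] [Algebra R B]
  (Γ : Type u) [Group Γ] [Fintype Γ] [DecidableEq Γ]

/-- coefficient of `e_γ`, as an algebra map -/
noncomputable def coA (γ : Γ) : B ⊗[R] ConstGrp.F R Γ →ₐ[R] B :=
  (Algebra.TensorProduct.rid R R B).toAlgHom.comp
    (Algebra.TensorProduct.map (AlgHom.id R B) (ConstGrp.ev R γ))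

theorem coA_eq_slice (γ : Γ) (w : B ⊗[R] ConstGrp.F R Γ) :
    coA R B Γ γ w = slice (ConstGrp.ev R γ).toLinearMap w := by
  induction w using TensorProduct.induction_on with
  | zero => simp
  | tmul b f => simp [coA]
  | add x y hx hy => rw [map_add, map_add, hx, hy]

theorem eq_sum_slice (w : B ⊗[R] ConstGrp.F R Γ) :
    w = ∑ γ : Γ, slice (ConstGrp.ev R γ).toLinearMap w ⊗ₜ[R] ConstGrp.e R γ := by
  induction w using TensorProduct.induction_on with
  | zero => simp
  | tmul b f =>
    simp only [slice_tmul, AlgHom.toLinearMap_apply, ConstGrp.ev_apply]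
    conv_lhs => rw [ConstGrp.eq_sum_smul_e f, TensorProduct.tmul_sum]
    refine Finset.sum_congr rfl fun γ _ => ?_
    rw [TensorProduct.smul_tmul]
  | add x y hx hy =>
    simp only [map_add, TensorProduct.add_tmul, Finset.sum_add_distrib]
    rw [← hx, ← hy]

theorem conv_ev (g h : Γ) :
    conv (ConstGrp.ev R g).toLinearMap (ConstGrp.ev R h).toLinearMap =
      (ConstGrp.ev R (g * h)).toLinearMap := by
  apply LinearMap.ext
  intro f
  rw [conv, LinearMap.comp_apply, LinearMap.comp_apply, ConstGrp.comul_eq_sum]
  simp only [map_sum, map_smul, TensorProduct.map_tmul, LinearMap.mul'_apply,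
    AlgHom.toLinearMap_apply, ConstGrp.ev_apply, ConstGrp.e_apply, smul_eq_mul]
  simp

theorem ev_one : (ConstGrp.ev R (1 : Γ)).toLinearMap = Coalgebra.counit (R := R) := by
  apply LinearMap.ext
  intro f
  rfl

variable [HopfRep.Comod R (ConstGrp.F R Γ) B] [GLin.IsCoactAlg R (ConstGrp.F R Γ) B]

/-- the action of `γ` -/
noncomputable def actA (γ : Γ) : B →ₐ[R] B :=
  (coA R B Γ γ).comp (GLin.coactAlgHom R (ConstGrp.F R Γ) B)

theorem actA_apply (γ : Γ) (b : B) :
    actA R B Γ γ b = T (k := R) (A := ConstGrp.F R Γ) (ConstGrp.ev R γ).toLinearMap b := by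
  rw [actA, AlgHom.comp_apply, coA_eq_slice]
  rfl

/-- the action -/
@[instance_reducible] noncomputable def theAction : MulSemiringAction Γ B where
  smul γ b := actA R B Γ γ b
  one_smul b := by
    change actA R B Γ 1 b = b
    rw [actA_apply, ev_one, T_counit]
  mul_smul g h b := by
    change actA R B Γ (g * h) b = actA R B Γ g (actA R B Γ h b)
    rw [actA_apply, actA_apply, actA_apply, T_T, conv_ev]
  smul_zero γ := map_zero _
  smul_add γ := map_add _
  smul_one γ := map_one _
  smul_mul γ := map_mul _

end Aux

open TensorProduct in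
/-- Let R be a commutative ring, Γ a finite group and B a commutative R-algebra equipped with a comodule
structure over the Hopf algebra of R-valued functions on Γ (the coordinate ring of the constant
group scheme of Γ over Spec R, with basis the indicator functions e_γ) whose coaction B → B ⊗ Fun(Γ,
R) is a homomorphism of algebras, i.e. an action of the constant group scheme on Spec B. Then there
is exactly one action of Γ on B by R-algebra automorphisms whose associated coaction b ↦ Σ_γ (γ · b)
⊗ e_γ is the given coaction; and for that action the ring of invariants of the comodule algebra (the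
b whose coaction is b ⊗ 1) equals the ring of elements fixed by Γ. (That the coaction associated
with an action is a comodule algebra structure is the other direction of the published equivalence
and is a construction here.) -/
theorem result (R : Type u) [CommRing R]
    (B : Type u) [CommRing B] [Algebra R B] (Γ : Type u) [Group Γ] [Fintype Γ] [DecidableEq Γ]
    [HopfRep.Comod R (ConstGrp.F R Γ) B] [GLin.IsCoactAlg R (ConstGrp.F R Γ) B] :
    ∃! a : MulSemiringAction Γ B, ∃ _ : SMulCommClass Γ R B,
      ConstAct.coactLin R B Γ = HopfRep.Comod.coact (k := R) (A := ConstGrp.F R Γ) (V := B) ∧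
        GLin.invariants R (ConstGrp.F R Γ) B = ConstAct.inv R B Γ := by
  classical
  have hco : ∀ (a : MulSemiringAction Γ B) (_ : SMulCommClass Γ R B),
      ConstAct.coactLin R B Γ = HopfRep.Comod.coact (k := R) (A := ConstGrp.F R Γ) (V := B) →
      ∀ (g : Γ) (b : B), g • b = actA R B Γ g b := by
    intro a _ h g b
    rw [actA_apply, Groth.Agent.Lib.Helper26.Comod.T_apply, ← h, ConstAct.coactLin_apply, map_sum]
    simp only [Groth.Agent.Lib.Helper26.Comod.slice_tmul, AlgHom.toLinearMap_apply,
      ConstGrp.ev_apply, ConstGrp.e_apply]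
    simp
  refine ⟨theAction R B Γ, ?_, ?_⟩
  · letI := theAction R B Γ
    have hsm : ∀ (g : Γ) (b : B), g • b = actA R B Γ g b := fun _ _ => rfl
    haveI : SMulCommClass Γ R B := ⟨fun g r b => by
      rw [hsm, hsm, map_smul]⟩
    have h1 : ConstAct.coactLin R B Γ =
        HopfRep.Comod.coact (k := R) (A := ConstGrp.F R Γ) (V := B) := by
      apply LinearMap.ext
      intro b
      rw [ConstAct.coactLin_apply]
      conv_rhs => rw [eq_sum_slice R B Γ (HopfRep.Comod.coact (k := R) (A := ConstGrp.F R Γ) b)]
      refine Finset.sum_congr rfl fun γ _ => ?_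
      rw [hsm, actA_apply]
      rfl
    refine ⟨inferInstance, h1, ?_⟩
    ext b
    rw [GLin.mem_invariants_iff, ConstAct.mem_inv]
    constructor
    · intro hb g
      rw [hsm, actA_apply, Groth.Agent.Lib.Helper26.Comod.T_apply, hb,
        Groth.Agent.Lib.Helper26.Comod.slice_tmul]
      simp
    · intro hb
      rw [← h1, ConstAct.coactLin_apply]
      simp only [hb]
      rw [← TensorProduct.tmul_sum, ConstGrp.sum_e]
  · rintro a' ⟨hcomm, h1, -⟩
    apply msa_ext
    intro g b
    exact hco a' hcomm h1 g b

end Groth.Agent.S16962
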