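import Groth.Statements.S16963
-- import your own Groth.Agent.* helpers here

set_option autoImplicit false
universe u
open scoped BigOperators
open ConstAct

namespace Groth.Agent.S16963

section Aux
open TensorProduct
variable (R : Type u) [CommRing R] (B : Type u) [CommRing B] [Algebra R B]
  (Γ : Type u) [Group Γ] [Fintype Γ] [DecidableEq Γ]

/-- coefficient of `e_γ` -/
noncomputable def co (γ : Γ) : B ⊗[R] ConstGrp.F R Γ →ₗ[R] B :=
  (TensorProduct.rid R B).toLinearMap ∘ₗ (ConstGrp.ev R γ).toLinearMap.lTensor B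

theorem co_tmul (γ : Γ) (b : B) (f : ConstGrp.F R Γ) : co R B Γ γ (b ⊗ₜ[R] f) = f γ • b := by
  simp [co]

end Aux

open TensorProduct in
/-- Let R be a commutative ring and Γ a finite group acting on a commutative R-algebra B by R-algebra
automorphisms; regard B as a comodule algebra over the Hopf algebra of R-valued functions on Γ (the
constant group scheme of Γ acting on Spec B) through the coaction b ↦ Σ_γ (γ · b) ⊗ e_γ. Then the
action is tame — there is a comodule map α from the Hopf algebra, with its regular coaction, to B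
with α(1) = 1 (a total integral) — if and only if the trace b ↦ Σ_γ γ · b, which takes values in the
ring of invariants B^Γ, maps B onto B^Γ. -/
theorem result (R : Type u) [CommRing R]
    (B : Type u) [CommRing B] [Algebra R B] (Γ : Type u) [Group Γ] [Fintype Γ] [DecidableEq Γ]
    [MulSemiringAction Γ B] [SMulCommClass Γ R B] :
    letI := ConstAct.comod R B Γ
    (∃ α : ConstGrp.F R Γ →ₗ[R] B, Hoch.IsComodHom (ConstGrp.F R Γ) α ∧ α 1 = 1) ↔
      ∀ c : B, c ∈ ConstAct.inv R B Γ → ∃ b : B, ∑ γ : Γ, γ • b = c := by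
  letI := ConstAct.comod R B Γ
  constructor
  · rintro ⟨α, hα, h1⟩ c hc
    have key : ∀ g γ : Γ, γ • α (ConstGrp.e R g) = α (ConstGrp.e R (g * γ⁻¹)) := by
      intro g γ
      have h := LinearMap.congr_fun hα (ConstGrp.e R g)
      simp only [LinearMap.comp_apply] at h
      have h' := congrArg (co R B Γ γ) h
      change co R B Γ γ (ConstAct.coactLin R B Γ (α (ConstGrp.e R g))) =
        co R B Γ γ (α.rTensor _ (Coalgebra.comul (R := R) (ConstGrp.e R g))) at h'
      rw [ConstAct.coactLin_apply, ConstGrp.comul_e, map_sum, map_sum, map_sum] at h'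
      simp only [co_tmul, LinearMap.rTensor_tmul, ConstGrp.e_apply] at h'
      simp only [ite_smul, one_smul, zero_smul, Finset.sum_ite_eq, Finset.mem_univ, if_true] at h'
      rw [h']
      rw [Finset.sum_eq_single (g * γ⁻¹)]
      · simp
      · intro a _ ha
        rw [if_neg]
        intro h2
        apply ha
        rw [h2]; group
      · intro h; exact absurd (Finset.mem_univ _) h
    set b₀ := α (ConstGrp.e R 1) with hb₀
    have htr : ∑ γ : Γ, γ • b₀ = 1 := by
      rw [← h1, ← ConstGrp.sum_e, map_sum]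
      refine Fintype.sum_equiv (Equiv.inv Γ) _ _ fun γ => ?_
      rw [key 1 γ, one_mul]
      rfl
    refine ⟨c * b₀, ?_⟩
    have hc' : ∀ γ : Γ, γ • c = c := hc
    simp only [smul_mul', hc']
    rw [← Finset.mul_sum, htr, mul_one]
  · intro h
    obtain ⟨b₀, hb₀⟩ := h 1 (Subalgebra.one_mem _)
    let α : ConstGrp.F R Γ →ₗ[R] B :=
      ∑ g : Γ, ((LinearMap.id : R →ₗ[R] R).smulRight (g⁻¹ • b₀)) ∘ₗ (ConstGrp.ev R g).toLinearMap
    have hα : ∀ f : ConstGrp.F R Γ, α f = ∑ g : Γ, f g • (g⁻¹ • b₀) := by
      intro f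
      simp [α, LinearMap.sum_apply]
    have hαe : ∀ g : Γ, α (ConstGrp.e R g) = g⁻¹ • b₀ := by
      intro g
      rw [hα]
      simp only [ConstGrp.e_apply, ite_smul, one_smul, zero_smul, Finset.sum_ite_eq',
        Finset.mem_univ, if_true]
    refine ⟨α, ?_, ?_⟩
    · apply ConstGrp.linearMap_ext
      intro g
      simp only [LinearMap.comp_apply]
      change ConstAct.coactLin R B Γ (α (ConstGrp.e R g)) =
        α.rTensor _ (Coalgebra.comul (R := R) (ConstGrp.e R g))
      rw [ConstAct.coactLin_apply, ConstGrp.comul_e, map_sum]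
      simp only [LinearMap.rTensor_tmul, hαe]
      symm
      refine Fintype.sum_equiv ((Equiv.inv Γ).trans (Equiv.mulRight g)) _ _ fun a => ?_
      simp only [Equiv.trans_apply, Equiv.inv_apply, Equiv.coe_mulRight, mul_smul, smul_inv_smul]
    · rw [hα]
      simp only [ConstGrp.one_apply, one_smul]
      rw [← hb₀]
      exact Fintype.sum_equiv (Equiv.inv Γ) _ _ fun γ => rfl

end Groth.Agent.S16963
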