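import Groth.Statements.S16979
import Mathlib.LinearAlgebra.Matrix.Charpoly.Eigs
import Mathlib.FieldTheory.IsAlgClosed.Spectrum
import Mathlib.FieldTheory.IsAlgClosed.AlgebraicClosure

set_option autoImplicit false
universe u v
open CAlg

namespace Groth.Agent.S16979

/-- Let R be an integral domain with fraction field K and φ a square matrix over R whose characteristic
polynomial becomes separable in K[T] (equivalently, K[T] modulo the characteristic polynomial is
geometrically reduced over K). Then a polynomial f over R satisfies f(φ) = 0 exactly when the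
characteristic polynomial of φ divides f in R[T]: the kernel of evaluation at φ (the minimal ideal
of φ) is the principal ideal generated by the characteristic polynomial. -/
theorem result
    {R : Type u} [CommRing R] [IsDomain R] {n : Type v} [Fintype n] [DecidableEq n]
    (φ : Matrix n n R)
    (hsep : (φ.charpoly.map (algebraMap R (FractionRing R))).Separable) :
    RingHom.ker (Polynomial.aeval (R := R) φ) = Ideal.span {φ.charpoly} := by
  classical
  apply le_antisymm
  swap
  · rw [Ideal.span_le]
    intro x hx
    rw [Set.mem_singleton_iff] at hx
    subst hx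
    exact Matrix.aeval_self_charpoly φ
  intro f hf
  rw [RingHom.mem_ker] at hf
  rw [Ideal.mem_span_singleton]
  rcases isEmpty_or_nonempty n with hn | hn
  · rw [Matrix.charpoly_isEmpty]; exact one_dvd f
  let K := FractionRing R
  let L := AlgebraicClosure K
  let ι : R →+* L := (algebraMap K L).comp (algebraMap R K)
  have hι : Function.Injective ι :=
    (algebraMap K L).injective.comp (IsFractionRing.injective R K)
  rw [← Polynomial.map_dvd_map ι hι φ.charpoly_monic]
  have hχ : φ.charpoly.map ι = (φ.map ι).charpoly := (Matrix.charpoly_map φ ι).symm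
  have hsepL : (φ.charpoly.map ι).Separable := by
    have := hsep.map (f := algebraMap K L)
    rwa [Polynomial.map_map] at this
  by_cases hf0 : f.map ι = 0
  · rw [hf0]; exact dvd_zero _
  have hχ0 : φ.charpoly.map ι ≠ 0 := (φ.charpoly_monic.map ι).ne_zero
  rw [IsAlgClosed.dvd_iff_roots_le_roots hχ0 hf0,
    Multiset.le_iff_subset (Polynomial.nodup_roots hsepL)]
  intro a ha
  rw [Polynomial.mem_roots hχ0, hχ] at ha
  rw [Polynomial.mem_roots hf0]
  have hspec : a ∈ spectrum L (φ.map ι) := Matrix.mem_spectrum_iff_isRoot_charpoly.mpr ha
  have hcomp : (algebraMap L (Matrix n n L)).comp ι =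
      (RingHom.mapMatrix ι).comp (algebraMap R (Matrix n n R)) := by
    ext r i j
    simp [Matrix.algebraMap_matrix_apply]
    split_ifs <;> simp
  have h0 : Polynomial.aeval (φ.map ι) (f.map ι) = 0 := by
    have := Polynomial.map_aeval_eq_aeval_map hcomp f φ
    rw [hf, map_zero] at this
    exact this.symm
  have := spectrum.subset_polynomial_aeval (φ.map ι) (f.map ι) ⟨a, hspec, rfl⟩
  rw [h0, spectrum.zero_eq, Set.mem_singleton_iff] at this
  exact this

end Groth.Agent.S16979
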