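import Groth.Statements.S16982
import Groth.Agent.Lib.Helper12.SqZeroComplA
import Groth.Agent.Lib.Helper12.PSEval

set_option autoImplicit false
universe u v w w'
open CAlg

namespace Groth.Agent.S16982

/-- Let R be a commutative ring, A a complete Noetherian local R-algebra written as a quotient of a
power series ring over R in finitely many variables by a surjective R-algebra map π, and f : E → A a
surjective R-algebra map whose kernel has square zero and is finitely generated. Then π lifts along
f to an R-algebra map λ from the power series ring to E with f ∘ λ = π. (The published statement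
takes R Artinian local and asks for a lift that is continuous for the adic topologies; this row
allows any commutative R and asks for any lift.) -/
theorem result
    {R : Type u} [CommRing R] {σ : Type v} [Finite σ]
    {A : Type w} {E : Type w'} [CommRing A] [CommRing E] [Algebra R A] [Algebra R E]
    [IsNoetherianRing A] [IsLocalRing A] [IsAdicComplete (IsLocalRing.maximalIdeal A) A]
    (π : MvPowerSeries σ R →ₐ[R] A) (hπ : Function.Surjective π)
    (f : E →ₐ[R] A) (hf : Function.Surjective f)
    (hsq : RingHom.ker f.toRingHom ^ 2 = ⊥) (hfg : (RingHom.ker f.toRingHom).FG) :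
    ∃ l : MvPowerSeries σ R →ₐ[R] E, f.comp l = π := by
  haveI hE : IsAdicComplete ((IsLocalRing.maximalIdeal A).comap f.toRingHom) E :=
    Groth.Agent.Lib.Helper12.SqZeroCompl.isAdicComplete_comap_of_sqZero f.toRingHom hf hsq hfg
  have hπX : ∀ i, π (MvPowerSeries.X i) ∈ IsLocalRing.maximalIdeal A := by
    intro i
    rw [IsLocalRing.mem_maximalIdeal, mem_nonunits_iff]
    intro hu
    obtain ⟨b, hb⟩ := hu.exists_right_inv
    obtain ⟨q, rfl⟩ := hπ b
    have h1 : π (1 - MvPowerSeries.X i * q) = 0 := by
      rw [map_sub, map_one, map_mul, hb, sub_self]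
    have h2 : IsUnit (1 - MvPowerSeries.X i * q : MvPowerSeries σ R) := by
      rw [MvPowerSeries.isUnit_iff_constantCoeff]
      simp
    have h3 : IsUnit (π (1 - MvPowerSeries.X i * q)) := h2.map π
    rw [h1] at h3
    exact not_isUnit_zero h3
  choose e he using fun i => hf (π (MvPowerSeries.X i))
  have hemem : ∀ i, e i ∈ (IsLocalRing.maximalIdeal A).comap f.toRingHom := by
    intro i
    rw [Ideal.mem_comap]
    show f (e i) ∈ _
    rw [he]
    exact hπX i
  obtain ⟨l, hl⟩ := Groth.Agent.Lib.Helper12.PSEval.exists_algHom_eval (R := R)
    ((IsLocalRing.maximalIdeal A).comap f.toRingHom) e hemem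
  refine ⟨l, ?_⟩
  apply Groth.Agent.Lib.Helper12.PSEval.algHom_ext_of_isHausdorff (IsLocalRing.maximalIdeal A)
  · intro i
    show f (l (MvPowerSeries.X i)) ∈ _
    rw [hl, he]
    exact hπX i
  · intro i
    show f (l (MvPowerSeries.X i)) = π (MvPowerSeries.X i)
    rw [hl, he]

end Groth.Agent.S16982
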