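import Groth.Statements.S16983
import Mathlib.Algebra.Order.BigOperators.Group.Finset
import Mathlib.RingTheory.Coprime.Lemmas
import Mathlib.Tactic.Linarith
import Mathlib.Tactic.Ring
import Mathlib.Tactic.FieldSimp
import Mathlib.Tactic.Qify
import Mathlib.Tactic.NormNum

set_option autoImplicit false
universe u
open DeformData

namespace Groth.Agent.S16983

/-- Let p be a prime, s ≥ 1, B a finite index set with a subset B₀ of exactly three elements, m_j ≥ 1
integers coprime to p, and σ_{i,j} (i < s, j ∈ B) rational numbers with m_j σ_{i,j} an integer, such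
that Σ_j (σ_{i,j} − 1) = −2 for every i, the fractional part of σ_{i,j} equals that of p^i σ_{0,j},
no σ_{i,j} equals 1, and the minimum over i of ⌊σ_{i,j}⌋ is 0 for j ∈ B₀ and 1 for j ∉ B₀. Then for
every i the fractional parts ⟨σ_{i,j}⟩ sum over j to 1 (purity), and ⌊σ_{i,j}⌋ is 0 on B₀ and 1 off
B₀ for every i. (The hypotheses are exactly the properties of the signature of a special deformation
datum on the projective line: each entry is an integer divided by a stabilizer order m_j in a group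
of order prime to p, the degree identity coming from Riemann–Hurwitz, the Frobenius-twist relation
between fractional parts, and the speciality conditions; the statement is given here for any such
tuple.) -/
theorem result
    {B : Type u} [Fintype B] [DecidableEq B] (B₀ : Finset B) (hB₀ : B₀.card = 3)
    (p : ℕ) (hp : p.Prime) (s : ℕ) (hs : 0 < s)
    (m : B → ℕ) (hm : ∀ j, 0 < m j) (hmp : ∀ j, Nat.Coprime (m j) p)
    (σ : Fin s → B → ℚ) (hint : ∀ i j, ∃ h : ℤ, σ i j = (h : ℚ) / (m j : ℚ))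
    (hsum : ∀ i, ∑ j, (σ i j - 1) = -2)
    (hfract : ∀ i j, Int.fract (σ i j) = Int.fract ((p : ℚ) ^ (i : ℕ) * σ ⟨0, hs⟩ j))
    (hne : ∀ i j, σ i j ≠ 1)
    (hB₀min : ∀ j ∈ B₀, (∃ i, ⌊σ i j⌋ = 0) ∧ ∀ i, 0 ≤ ⌊σ i j⌋)
    (hBmin : ∀ j ∉ B₀, (∃ i, ⌊σ i j⌋ = 1) ∧ ∀ i, 1 ≤ ⌊σ i j⌋) :
    (∀ i, ∑ j, Int.fract (σ i j) = 1) ∧ (∀ i j, ⌊σ i j⌋ = if j ∈ B₀ then 0 else 1) := by
  classical
  let e : B → ℤ := fun j => if j ∈ B₀ then 0 else 1
  have he : ∀ i j, e j ≤ ⌊σ i j⌋ := by
    intro i j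
    by_cases hj : j ∈ B₀
    · simp only [e, hj, if_true]; exact (hB₀min j hj).2 i
    · simp only [e, hj, if_false]; exact (hBmin j hj).2 i
  -- cardinalities
  have hcard : ∑ j : B, (1 - e j) = 3 := by
    have : ∀ j : B, (1 - e j) = if j ∈ B₀ then (1 : ℤ) else 0 := by
      intro j; by_cases hj : j ∈ B₀ <;> simp [e, hj]
    rw [Finset.sum_congr rfl (fun j _ => this j), Finset.sum_ite_mem, Finset.univ_inter,
      Finset.sum_const, hB₀]
    simp
  have hcard' : ∑ j : B, e j = (Fintype.card B : ℤ) - 3 := by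
    have : ∑ j : B, (1 - e j) = (Fintype.card B : ℤ) - ∑ j : B, e j := by
      rw [Finset.sum_sub_distrib]; simp
    linarith
  -- the basic identity
  have hid : ∀ i, ((∑ j, ⌊σ i j⌋ : ℤ) : ℚ) + ∑ j, Int.fract (σ i j) = (Fintype.card B : ℚ) - 2 := by
    intro i
    have h1 : ∑ j, (σ i j - 1) = ∑ j, σ i j - (Fintype.card B : ℚ) := by
      rw [Finset.sum_sub_distrib]; simp
    have h2 : ∑ j, σ i j = ((∑ j, ⌊σ i j⌋ : ℤ) : ℚ) + ∑ j, Int.fract (σ i j) := by
      rw [Int.cast_sum, ← Finset.sum_add_distrib]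
      exact Finset.sum_congr rfl (fun j _ => (Int.floor_add_fract (σ i j)).symm)
    have := hsum i
    linarith
  have hTge : ∀ i, (Fintype.card B : ℤ) - 3 ≤ ∑ j, ⌊σ i j⌋ := by
    intro i
    rw [← hcard']
    exact Finset.sum_le_sum (fun j _ => he i j)
  have hFnonneg : ∀ i, 0 ≤ ∑ j, Int.fract (σ i j) :=
    fun i => Finset.sum_nonneg (fun j _ => Int.fract_nonneg _)
  -- an integrality lemma
  have hintegral : ∀ (i : Fin s) (j : B), Int.fract (σ i j) = 0 → ∀ i', Int.fract (σ i' j) = 0 := by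
    intro i j h0 i'
    obtain ⟨h, hh⟩ := hint ⟨0, hs⟩ j
    have hmj : (m j : ℚ) ≠ 0 := by exact_mod_cast (hm j).ne'
    rw [hfract] at h0
    -- p^i * (h / m) is an integer z
    have hz : (p : ℚ) ^ (i : ℕ) * σ ⟨0, hs⟩ j = (⌊(p : ℚ) ^ (i : ℕ) * σ ⟨0, hs⟩ j⌋ : ℚ) := by
      have := Int.self_sub_floor ((p : ℚ) ^ (i : ℕ) * σ ⟨0, hs⟩ j)
      rw [h0] at this
      linarith
    set z := ⌊(p : ℚ) ^ (i : ℕ) * σ ⟨0, hs⟩ j⌋ with hzdef
    have hz' : ((p : ℤ) ^ (i : ℕ) * h : ℤ) = z * (m j : ℤ) := by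
      have : ((p : ℚ) ^ (i : ℕ) * h) = z * (m j : ℚ) := by
        rw [← hz, hh]; field_simp
      exact_mod_cast this
    have hdvd : (m j : ℤ) ∣ (p : ℤ) ^ (i : ℕ) * h := ⟨z, by rw [hz']; ring⟩
    have hcop : IsCoprime (m j : ℤ) ((p : ℤ) ^ (i : ℕ)) :=
      (Nat.isCoprime_iff_coprime.mpr (hmp j)).pow_right
    obtain ⟨h', rfl⟩ := hcop.dvd_of_dvd_mul_left hdvd
    have hσ0 : σ ⟨0, hs⟩ j = (h' : ℚ) := by
      rw [hh]; push_cast; field_simp
    rw [hfract, hσ0]
    have : (p : ℚ) ^ (i' : ℕ) * (h' : ℚ) = (((p : ℤ) ^ (i' : ℕ) * h' : ℤ) : ℚ) := by push_cast; ring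
    rw [this, Int.fract_intCast]
  have hFne : ∀ i, ∑ j, Int.fract (σ i j) ≠ 0 := by
    intro i hF0
    have hall : ∀ j, Int.fract (σ i j) = 0 := by
      intro j
      exact (Finset.sum_eq_zero_iff_of_nonneg (fun j _ => Int.fract_nonneg _)).mp hF0 j
        (Finset.mem_univ j)
    have hallint : ∀ i' j, σ i' j = (⌊σ i' j⌋ : ℚ) := by
      intro i' j
      have h0 := hintegral i j (hall j) i'
      have := Int.self_sub_floor (σ i' j)
      rw [h0] at this
      linarith
    by_cases hex : ∃ j, j ∉ B₀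
    · obtain ⟨j, hj⟩ := hex
      obtain ⟨i', hi'⟩ := (hBmin j hj).1
      apply hne i' j
      rw [hallint i' j, hi']
      simp
    · push Not at hex
      have hB : (Fintype.card B : ℤ) = 3 := by
        have h1 : B₀ = Finset.univ := Finset.eq_univ_iff_forall.mpr hex
        have h2 : Fintype.card B = 3 := by rw [← hB₀, h1, Finset.card_univ]
        exact_mod_cast h2
      have hT : ∑ j, ⌊σ i j⌋ = 1 := by
        have := hid i
        rw [hF0, add_zero] at this
        have hB' : (Fintype.card B : ℚ) = 3 := by exact_mod_cast hB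
        rw [hB'] at this
        have : ((∑ j, ⌊σ i j⌋ : ℤ) : ℚ) = ((1 : ℤ) : ℚ) := by rw [this]; norm_num
        exact_mod_cast this
      have hnn : ∀ j, 0 ≤ ⌊σ i j⌋ := fun j => (hB₀min j (hex j)).2 i
      have hn1 : ∀ j, ⌊σ i j⌋ ≠ 1 := by
        intro j h1
        apply hne i j
        rw [hallint i j, h1]; simp
      have hpos : ∃ j, 0 < ⌊σ i j⌋ := by
        by_contra hcon
        push Not at hcon
        have : ∑ j, ⌊σ i j⌋ = 0 :=
          Finset.sum_eq_zero (fun j _ => le_antisymm (hcon j) (hnn j))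
        omega
      obtain ⟨j, hj⟩ := hpos
      have hj2 : 2 ≤ ⌊σ i j⌋ := by
        have := hn1 j
        omega
      have : ⌊σ i j⌋ ≤ ∑ j, ⌊σ i j⌋ :=
        Finset.single_le_sum (f := fun j => ⌊σ i j⌋) (fun j _ => hnn j) (Finset.mem_univ j)
      omega
  -- the sum of fractional parts is an integer between 0 and 1, nonzero
  have hF : ∀ i, ∑ j, Int.fract (σ i j) = 1 := by
    intro i
    have h1 := hid i
    have h2 := hTge i
    have h3 := hFnonneg i
    have h4 := hFne i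
    set T := ∑ j, ⌊σ i j⌋ with hT
    have hFeq : ∑ j, Int.fract (σ i j) = (((Fintype.card B : ℤ) - 2 - T : ℤ) : ℚ) := by
      push_cast; linarith
    set n : ℤ := (Fintype.card B : ℤ) - 2 - T with hn
    rw [hFeq] at h3 h4 ⊢
    have h3' : 0 ≤ n := by exact_mod_cast h3
    have h4' : n ≠ 0 := by
      intro h; apply h4; rw [h]; simp
    have h5 : n ≤ 1 := by omega
    have : n = 1 := by omega
    rw [this]; simp
  refine ⟨hF, fun i j => ?_⟩
  have h1 := hid i
  rw [hF i] at h1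
  have hT : ∑ j, ⌊σ i j⌋ = (Fintype.card B : ℤ) - 3 := by
    have : ((∑ j, ⌊σ i j⌋ : ℤ) : ℚ) = (((Fintype.card B : ℤ) - 3 : ℤ) : ℚ) := by
      push_cast at h1 ⊢; linarith
    exact_mod_cast this
  have hdiff : ∑ j, (⌊σ i j⌋ - e j) = 0 := by
    rw [Finset.sum_sub_distrib, hT, hcard']; ring
  have := (Finset.sum_eq_zero_iff_of_nonneg (fun j _ => sub_nonneg.mpr (he i j))).mp hdiff j
    (Finset.mem_univ j)
  have this' : ⌊σ i j⌋ - e j = 0 := this
  change ⌊σ i j⌋ = e j
  exact sub_eq_zero.mp this'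

end Groth.Agent.S16983
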