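import Groth.Statements.S16984
import Mathlib
-- import your own Groth.Agent.* helpers here

set_option autoImplicit false
universe u v w
open Hoch

namespace Groth.Agent.S16984

open TensorProduct

/-- φ : (P ⊗ A) ⊗ A → P ⊗ A, (p ⊗ a) ⊗ b ↦ ε(a) p ⊗ b -/
noncomputable def phi (k : Type u) [CommRing k] (A : Type v) [CommRing A] [Bialgebra k A]
    (P : Type w) [AddCommGroup P] [Module k P] : (P ⊗[k] A) ⊗[k] A →ₗ[k] P ⊗[k] A :=
  ((TensorProduct.rid k P).toLinearMap ∘ₗ (Coalgebra.counit (R := k) (A := A)).lTensor P).rTensor A

theorem phi_comp_assoc_symm (k : Type u) [CommRing k] (A : Type v) [CommRing A] [Bialgebra k A]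
    (P : Type w) [AddCommGroup P] [Module k P] :
    phi k A P ∘ₗ (TensorProduct.assoc k P A A).symm.toLinearMap =
      ((TensorProduct.lid k A).toLinearMap ∘ₗ
        (Coalgebra.counit (R := k) (A := A)).rTensor A).lTensor P := by
  ext p a b
  simp [phi, TensorProduct.smul_tmul]

theorem phi_coactAux (k : Type u) [CommRing k] (A : Type v) [CommRing A] [Bialgebra k A]
    (P : Type w) [AddCommGroup P] [Module k P] (x : P ⊗[k] A) :
    phi k A P (Ind.coactAux k A P x) = x := by
  have h : phi k A P ∘ₗ Ind.coactAux k A P = LinearMap.id := by
    unfold Ind.coactAux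
    rw [← LinearMap.comp_assoc, phi_comp_assoc_symm, ← LinearMap.lTensor_comp,
      LinearMap.comp_assoc, Coalgebra.rTensor_counit_comp_comul]
    ext p a
    simp
  exact LinearMap.congr_fun h x

theorem phi_tmul_one (k : Type u) [CommRing k] (A : Type v) [CommRing A] [Bialgebra k A]
    (P : Type w) [AddCommGroup P] [Module k P] (x : P ⊗[k] A) :
    phi k A P (x ⊗ₜ[k] (1 : A)) =
      (TensorProduct.rid k P ((Coalgebra.counit (R := k) (A := A)).lTensor P x)) ⊗ₜ[k] (1 : A) := by
  simp [phi]

open TensorProduct in
/-- Let k be a commutative ring, A a commutative k-bialgebra that is flat over k (the coordinate ring of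
a flat affine group scheme over Spec k; flatness and commutativity are the standing hypotheses of
the appendix and are not needed for the assertion) and P a k-module. Then p ↦ p ⊗ 1 is an injection
of P into the induced comodule P ⊗ A (coaction id ⊗ Δ) whose image is exactly the submodule of
invariants, i.e. the elements with coaction x ↦ x ⊗ 1. (The published statement writes the
coordinate-ring factor on the left and calls this module coinduced; this row is its degree-zero
part, the identification of P with the invariants of the coinduced module.) -/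
theorem result (k : Type u) [CommRing k] (A : Type v) [CommRing A] [Bialgebra k A]
    [Module.Flat k A] (P : Type w) [AddCommGroup P] [Module k P] :
    Function.Injective ((Hoch.Ind.equiv k A P).toLinearMap ∘ₗ (TensorProduct.mk k P A).flip (1 : A)) ∧
    LinearMap.range ((Hoch.Ind.equiv k A P).toLinearMap ∘ₗ (TensorProduct.mk k P A).flip (1 : A)) =
      HopfRep.fixedPts k A (Hoch.Ind k A P) := by
  constructor
  · intro p q hpq
    have h := congrArg (Ind.counit k A P) hpq
    simpa using h
  · ext x
    constructor
    · rintro ⟨p, rfl⟩
      change HopfRep.Comod.coact (k := k) (A := A) (V := Ind k A P) (Ind.equiv k A P (p ⊗ₜ[k] (1 : A)))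
        = _
      rw [Ind.coact_equiv_tmul]
      simp [Bialgebra.comul_one, Algebra.TensorProduct.one_def]
      rfl
    · intro hx
      have key : ∀ y : P ⊗[k] A, Ind.coactAux k A P y = y ⊗ₜ[k] (1 : A) →
          y = (TensorProduct.rid k P ((Coalgebra.counit (R := k) (A := A)).lTensor P y))
            ⊗ₜ[k] (1 : A) := by
        intro y hy
        have h1 := congrArg (phi k A P) hy
        rwa [phi_coactAux, phi_tmul_one] at h1
      exact ⟨_, (key x hx).symm⟩

end Groth.Agent.S16984
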