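import Groth.Statements.S16985
import Mathlib
-- import your own Groth.Agent.* helpers here

set_option autoImplicit false
universe u v
open Hoch

namespace Groth.Agent.S16985

open TensorProduct

section
variable (k : Type u) [CommRing k] (A : Type v) [CommRing A] [Bialgebra k A]

theorem assoc_symm_natural {M N : Type v} [AddCommGroup M] [Module k M] [AddCommGroup N] [Module k N]
    (f : M →ₗ[k] N) (m : M) (r : A ⊗[k] A) :
    (TensorProduct.assoc k N A A).symm (f m ⊗ₜ[k] r) =
      (f.rTensor A).rTensor A ((TensorProduct.assoc k M A A).symm (m ⊗ₜ[k] r)) := by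
  induction r using TensorProduct.induction_on with
  | zero => simp
  | tmul a b => simp
  | add a b ha hb => simp only [TensorProduct.tmul_add, map_add, ha, hb]

theorem tail_natural {M N : Type v} [AddCommGroup M] [Module k M] [AddCommGroup N] [Module k N]
    (f : M →ₗ[k] N) :
    tail k A N ∘ₗ f.rTensor A = (f.rTensor A).rTensor A ∘ₗ tail k A M := by
  ext m a
  simp only [TensorProduct.AlgebraTensorModule.curry_apply, TensorProduct.curry_apply,
    LinearMap.coe_restrictScalars, LinearMap.comp_apply, LinearMap.rTensor_tmul, tail_tmul]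
  exact assoc_symm_natural k A f m _

variable (V : Type v) [AddCommGroup V] [Module k V] [HopfRep.Comod k A V]
  (P : Type v) [AddCommGroup P] [Module k P] (c : V →ₗ[k] P) (j : P ⊗[k] A →ₗ[k] V)

/-- contracting homotopy -/
noncomputable def s : (n : ℕ) →
    ((cochain k A V (n + 1) : Type v) →ₗ[k] (cochain k A V n : Type v))
  | 0 => j ∘ₗ c.rTensor A
  | n + 1 => (s n).rTensor A

theorem s_zero : s k A V P c j 0 = j ∘ₗ c.rTensor A := rfl
theorem s_succ (n : ℕ) : s k A V P c j (n + 1) = (s k A V P c j n).rTensor A := rfl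

theorem step (n : ℕ)
    (h : s k A V P c j (n + 1) ∘ₗ d k A V (n + 1) + d k A V n ∘ₗ s k A V P c j n = LinearMap.id) :
    s k A V P c j (n + 2) ∘ₗ d k A V (n + 2) + d k A V (n + 1) ∘ₗ s k A V P c j (n + 1)
      = LinearMap.id := by
  rw [d_succ k A V (n + 1), s_succ k A V P c j (n + 1)]
  conv_lhs => rw [d_succ k A V n]
  rw [LinearMap.comp_add, LinearMap.add_comp, LinearMap.comp_smul, LinearMap.smul_comp]
  rw [s_succ k A V P c j n, tail_natural k A (s k A V P c j n)]
  rw [← LinearMap.rTensor_comp, ← LinearMap.rTensor_comp]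
  have e : (-1 : k) ^ (n + 1 + 1) = - (-1 : k) ^ (n + 1) := by ring
  rw [e, neg_smul]
  rw [show ∀ a b c' : (cochain k A V (n + 2) : Type v) →ₗ[k] (cochain k A V (n + 2) : Type v),
    a + -b + (c' + b) = a + c' from fun a b c' => by abel]
  rw [← LinearMap.rTensor_add, ← s_succ, ← d_succ k A V n, h, LinearMap.rTensor_id]

theorem base
    (H1 : (j ∘ₗ c.rTensor A) ∘ₗ HopfRep.Comod.coact (k := k) (A := A) (V := V) = LinearMap.id)
    (H2 : ∀ w : P ⊗[k] A, HopfRep.Comod.coact (k := k) (A := A) (V := V) (j w) - (j w) ⊗ₜ[k] (1 : A)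
      - (j.rTensor A) (tail k A P w) =
        (j.rTensor A) (((TensorProduct.mk k P A).flip 1).rTensor A w)) :
    s k A V P c j 1 ∘ₗ d k A V 1 + d k A V 0 ∘ₗ s k A V P c j 0 = LinearMap.id := by
  have hs0 : (j ∘ₗ c.rTensor A) ∘ₗ d k A V 0 =
      LinearMap.id - j ∘ₗ ((TensorProduct.mk k P A).flip 1) ∘ₗ c := by
    rw [d_zero, LinearMap.comp_sub, H1]
    congr 1
  refine LinearMap.ext fun y => ?_
  have e1 : ((j ∘ₗ c.rTensor A).rTensor A) ((d k A V 0).rTensor A y) =
      y - (j.rTensor A) (((TensorProduct.mk k P A).flip 1).rTensor A (c.rTensor A y)) := by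
    rw [← LinearMap.comp_apply, ← LinearMap.rTensor_comp, hs0, LinearMap.rTensor_sub,
      LinearMap.rTensor_id, LinearMap.rTensor_comp, LinearMap.rTensor_comp]
    rfl
  have e2 : ((j ∘ₗ c.rTensor A).rTensor A) (tail k A V y) =
      (j.rTensor A) (tail k A P (c.rTensor A y)) := by
    rw [LinearMap.rTensor_comp, LinearMap.comp_apply, ← LinearMap.comp_apply _ (tail k A V),
      ← tail_natural]
    rfl
  have e3 := H2 (c.rTensor A y)
  rw [s_succ, s_zero, d_succ]
  simp only [LinearMap.add_apply, LinearMap.comp_apply, LinearMap.smul_apply, map_add, map_smul,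
    LinearMap.id_apply]
  rw [e1]
  erw [e2]
  rw [d_zero_apply]
  rw [sub_sub, sub_eq_iff_eq_add] at e3
  rw [e3]
  simp only [zero_add, pow_one, neg_smul, one_smul]
  abel

theorem homotopy
    (H1 : (j ∘ₗ c.rTensor A) ∘ₗ HopfRep.Comod.coact (k := k) (A := A) (V := V) = LinearMap.id)
    (H2 : ∀ w : P ⊗[k] A, HopfRep.Comod.coact (k := k) (A := A) (V := V) (j w) - (j w) ⊗ₜ[k] (1 : A)
      - (j.rTensor A) (tail k A P w) =
        (j.rTensor A) (((TensorProduct.mk k P A).flip 1).rTensor A w)) (n : ℕ) :
    s k A V P c j (n + 1) ∘ₗ d k A V (n + 1) + d k A V n ∘ₗ s k A V P c j n = LinearMap.id := by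
  induction n with
  | zero => exact base k A V P c j H1 H2
  | succ n ih => exact step k A V P c j n ih

theorem acyclic
    (H1 : (j ∘ₗ c.rTensor A) ∘ₗ HopfRep.Comod.coact (k := k) (A := A) (V := V) = LinearMap.id)
    (H2 : ∀ w : P ⊗[k] A, HopfRep.Comod.coact (k := k) (A := A) (V := V) (j w) - (j w) ⊗ₜ[k] (1 : A)
      - (j.rTensor A) (tail k A P w) =
        (j.rTensor A) (((TensorProduct.mk k P A).flip 1).rTensor A w)) (n : ℕ) :
    cocycles k A V (n + 1) ≤ coboundaries k A V (n + 1) := by
  intro z hz
  have h := LinearMap.congr_fun (homotopy k A V P c j H1 H2 n) z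
  have hz' : d k A V (n + 1) z = 0 := hz
  simp only [LinearMap.add_apply, LinearMap.comp_apply, LinearMap.id_apply, hz', map_zero,
    zero_add] at h
  exact ⟨s k A V P c j n z, h⟩

end

theorem H1_ind (k : Type u) [CommRing k] (A : Type v) [CommRing A] [Bialgebra k A]
    (P : Type v) [AddCommGroup P] [Module k P] :
    ((Ind.equiv k A P).toLinearMap ∘ₗ (Ind.counit k A P).rTensor A) ∘ₗ
      HopfRep.Comod.coact (k := k) (A := A) (V := Ind k A P) = LinearMap.id := by
  have h : ((TensorProduct.rid k P).toLinearMap ∘ₗ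
      (Coalgebra.counit (R := k) (A := A)).lTensor P).rTensor A ∘ₗ Ind.coactAux k A P
      = LinearMap.id := by
    unfold Ind.coactAux
    have e : ((TensorProduct.rid k P).toLinearMap ∘ₗ
        (Coalgebra.counit (R := k) (A := A)).lTensor P).rTensor A ∘ₗ
          (TensorProduct.assoc k P A A).symm.toLinearMap =
        ((TensorProduct.lid k A).toLinearMap ∘ₗ
          (Coalgebra.counit (R := k) (A := A)).rTensor A).lTensor P := by
      ext p a b
      simp [TensorProduct.smul_tmul]
    rw [← LinearMap.comp_assoc, e, ← LinearMap.lTensor_comp,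
      LinearMap.comp_assoc, Coalgebra.rTensor_counit_comp_comul]
    ext p a
    simp
  exact h

theorem H2_ind (k : Type u) [CommRing k] (A : Type v) [CommRing A] [Bialgebra k A]
    (P : Type v) [AddCommGroup P] [Module k P] (w : P ⊗[k] A) :
    HopfRep.Comod.coact (k := k) (A := A) (V := Ind k A P) ((Ind.equiv k A P).toLinearMap w)
      - ((Ind.equiv k A P).toLinearMap w) ⊗ₜ[k] (1 : A)
      - ((Ind.equiv k A P).toLinearMap.rTensor A) (tail k A P w) =
        ((Ind.equiv k A P).toLinearMap.rTensor A) (((TensorProduct.mk k P A).flip 1).rTensor A w) := by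
  have h : Ind.coactAux k A P w - w ⊗ₜ[k] (1 : A) - tail k A P w =
      ((TensorProduct.mk k P A).flip 1).rTensor A w := by
    induction w using TensorProduct.induction_on with
    | zero => simp
    | tmul p a =>
      simp only [Ind.coactAux_tmul, tail_tmul, LinearMap.rTensor_tmul, LinearMap.flip_apply,
        TensorProduct.mk_apply, TensorProduct.tmul_sub, map_sub, TensorProduct.assoc_symm_tmul]
      abel
    | add a b ha hb =>
      simp only [map_add, TensorProduct.add_tmul, ← ha, ← hb]
      abel
  have hid : ((Ind.equiv k A P).toLinearMap.rTensor A) =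
      (LinearMap.id : (P ⊗[k] A) ⊗[k] A →ₗ[k] (P ⊗[k] A) ⊗[k] A) := LinearMap.rTensor_id _ _
  rw [hid]
  exact h

open TensorProduct in
/-- Let k be a commutative ring, A a commutative k-bialgebra flat over k (the coordinate ring of a flat
affine group scheme over Spec k; flatness and commutativity are the standing hypotheses of the
appendix and are not needed for the assertion) and P a k-module. Then the cochain complex of the
induced comodule P ⊗ A (coaction id ⊗ Δ), with n-cochains (P ⊗ A) ⊗ A ⊗ ⋯ ⊗ A, has every
(n+1)-cocycle an (n+1)-coboundary, for all n. (The published statement is the vanishing of the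
higher derived functors of invariants on coinduced modules; this row states the vanishing in
positive degrees of the cohomology of the cochain complex above, which the same appendix identifies
with those derived functors. P is taken in the universe of A, as the cochain modules require.) -/
theorem result (k : Type u) [CommRing k] (A : Type v) [CommRing A]
    [Bialgebra k A] [Module.Flat k A] (P : Type v) [AddCommGroup P] [Module k P] (n : ℕ) :
    Hoch.cocycles k A (Hoch.Ind k A P) (n + 1) ≤ Hoch.coboundaries k A (Hoch.Ind k A P) (n + 1) := by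
  exact acyclic k A (Ind k A P) P (Ind.counit k A P) (Ind.equiv k A P).toLinearMap
    (H1_ind k A P) (H2_ind k A P) n

end Groth.Agent.S16985
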