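import Groth.Statements.S16991
import Groth.Agent.Lib.Helper14.AltDet

set_option autoImplicit false
universe u v
open QuadGrp

namespace Groth.Agent.S16991

open Matrix in


/-- Over a commutative ring in which 2 = 0, for a quadratic form Q on a finite free module of even rank
2m ≥ 2 whose polar form is a perfect pairing, every isometry of Q has determinant one. (The
published statement is the equality of the naive special orthogonal group with the orthogonal group
on fibres in characteristic 2; its proof gives this equality over every base of characteristic 2,
which is the form stated.) -/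
theorem result {R : Type u} [CommRing R] [CharP R 2]
    {M : Type v} [AddCommGroup M] [Module R M] [Module.Free R M] [Module.Finite R M]
    (m : ℕ) (hm : 1 ≤ m) (hM : Module.finrank R M = 2 * m) (Q : QuadraticForm R M) (hQ : QuadGrp.IsRegular Q) :
    QuadGrp.O Q = QuadGrp.SO' Q := by
  classical
  apply le_antisymm
  · intro g hg
    refine ⟨hg, ?_⟩
    change g ∈ (LinearEquiv.det (R := R) (M := M)).ker
    rw [MonoidHom.mem_ker]
    rcases subsingleton_or_nontrivial R with hR | hR
    · exact Units.ext (Subsingleton.elim _ _)
    let b : Module.Basis (Fin (2 * m)) R M := Module.finBasisOfFinrankEq R M hM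
    set B := QuadraticMap.polarBilin Q with hB
    set A : Matrix (Fin (2 * m)) (Fin (2 * m)) R := LinearMap.toMatrix₂ b b B with hAdef
    have hAij : ∀ i j, A i j = QuadraticMap.polar Q (b i) (b j) := fun i j => by
      rw [hAdef, LinearMap.toMatrix₂_apply]; rfl
    set C : Matrix (Fin (2 * m)) (Fin (2 * m)) R := Matrix.of fun i j => if i < j then A i j else 0
      with hC
    have hA : A = C - Cᵀ := by
      ext i j
      simp only [hC, Matrix.sub_apply, transpose_apply, of_apply]
      rcases lt_trichotomy i j with h | h | h
      · simp [h, not_lt_of_gt h]
      · subst h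
        simp only [lt_self_iff_false, if_false, sub_zero]
        rw [hAij, QuadraticMap.polar_self, two_smul, CharTwo.add_self_eq_zero]
      · simp only [h, not_lt_of_gt h, if_true, if_false, zero_sub]
        rw [hAij, hAij, QuadraticMap.polar_comm, CharTwo.neg_eq]
    have hdet : IsUnit A.det := by
      let f : M ≃ₗ[R] Module.Dual R M := LinearEquiv.ofBijective B hQ
      have h := LinearEquiv.isUnit_det f b b.dualBasis
      have : LinearMap.toMatrix b b.dualBasis (f : M →ₗ[R] Module.Dual R M) = Aᵀ := by
        ext i j
        rw [LinearMap.toMatrix_apply, transpose_apply, hAij, Module.Basis.dualBasis_repr]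
        rfl
      rw [this, det_transpose] at h
      exact h
    set G := LinearMap.toMatrix b b (g : M →ₗ[R] M) with hGdef
    have hG : Gᵀ * A * G = A := by
      rw [hAdef, hGdef, ← LinearMap.toMatrix₂_compl₁₂ b b b b]
      congr 1
      ext x y
      simp only [LinearMap.compl₁₂_apply, LinearEquiv.coe_coe]
      change QuadraticMap.polar Q (g x) (g y) = QuadraticMap.polar Q x y
      simp only [QuadraticMap.polar, ← map_add]
      rw [hg, hg, hg]
    have hd := Groth.Agent.Lib.Helper14.AltDet.det_eq_one_of_alt A C G hA hdet hG
    apply Units.ext
    rw [LinearEquiv.coe_det, ← LinearMap.det_toMatrix b, Units.val_one]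
    exact hd
  · exact inf_le_left

end Groth.Agent.S16991
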