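import Groth.Statements.S1700
import Groth.Agent.S1684
import Groth.Agent.S8852
import Groth.Agent.Lib.Helper29.DivFactor
import Groth.Agent.Lib.Helper29.RelEffCart
import Groth.Agent.Lib.Helper29.BlowUpUP

set_option autoImplicit false
universe u
open CategoryTheory CategoryTheory.Limits AlgebraicGeometry TopologicalSpace
open SDiv

namespace Groth.Agent.S1700

open Groth.Agent.Lib.Helper29.EffCart Groth.Agent.Lib.Helper29.DivFactor

/-- The closed subscheme of a radical ideal sheaf is reduced. -/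
lemma isReduced_subscheme_of_radical {X : Scheme.{u}} (𝓓 : X.IdealSheafData)
    (h : 𝓓.radical = 𝓓) : IsReduced 𝓓.subscheme := by
  have key : ∀ y : 𝓓.subscheme, _root_.IsReduced (𝓓.subscheme.presheaf.stalk y) := by
    intro y
    obtain ⟨_, ⟨U, hU, rfl⟩, hyU, -⟩ :=
      X.isBasis_affineOpens.exists_subset_of_mem_open (Set.mem_univ (𝓓.subschemeι y)) isOpen_univ
    haveI : IsOpenImmersion (𝓓.subschemeCover.f ⟨U, hU⟩) := 𝓓.subschemeCover.map_prop _
    have hy : y ∈ (𝓓.subschemeCover.f ⟨U, hU⟩).opensRange := by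
      rw [𝓓.opensRange_subschemeCover_map ⟨U, hU⟩]
      exact hyU
    obtain ⟨w, rfl⟩ := hy
    have hrad : (𝓓.ideal ⟨U, hU⟩).IsRadical := by
      have := congrArg (fun J : X.IdealSheafData => J.ideal ⟨U, hU⟩) h
      change (𝓓.ideal ⟨U, hU⟩).radical = 𝓓.ideal ⟨U, hU⟩ at this
      exact Ideal.radical_eq_iff.1 this
    haveI : _root_.IsReduced (Γ(X, U) ⧸ 𝓓.ideal ⟨U, hU⟩) :=
      (Ideal.isRadical_iff_quotient_reduced _).1 hrad
    haveI : AlgebraicGeometry.IsReduced (Spec (𝓓.subschemeCover.X ⟨U, hU⟩)) :=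
      inferInstanceAs (AlgebraicGeometry.IsReduced
        (Spec (CommRingCat.of (Γ(X, U) ⧸ 𝓓.ideal ⟨U, hU⟩))))
    haveI : IsIso ((𝓓.subschemeCover.f ⟨U, hU⟩).stalkMap w) := inferInstance
    exact isReduced_of_injective ((𝓓.subschemeCover.f ⟨U, hU⟩).stalkMap w).hom
      ((ConcreteCategory.bijective_of_isIso ((𝓓.subschemeCover.f ⟨U, hU⟩).stalkMap w)).1)
  exact isReduced_of_isReduced_stalk 𝓓.subscheme

/-- The vanishing ideal of a closed set is radical. -/
lemma radical_vanishingIdeal {X : Scheme.{u}} (Z : Closeds X) :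
    (Scheme.IdealSheafData.vanishingIdeal Z).radical = Scheme.IdealSheafData.vanishingIdeal Z := by
  rw [← Scheme.IdealSheafData.vanishingIdeal_support]
  congr 1

/-- The reduced closed subscheme on the closure of a point is integral, with generic point that
point. -/
lemma isIntegral_subscheme_vanishingIdeal_closure {X : Scheme.{u}} (ξ : X) :
    IsIntegral (Scheme.IdealSheafData.vanishingIdeal
      ⟨closure {ξ}, isClosed_closure⟩).subscheme := by
  set 𝓓 := Scheme.IdealSheafData.vanishingIdeal ⟨closure {ξ}, isClosed_closure⟩ with h𝓓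
  haveI : IsReduced 𝓓.subscheme := isReduced_subscheme_of_radical 𝓓 (radical_vanishingIdeal _)
  have hsupp : (𝓓.support : Set X) = closure {ξ} := by
    rw [h𝓓, Scheme.IdealSheafData.coe_support_vanishingIdeal]; rfl
  have hξ : ξ ∈ Set.range 𝓓.subschemeι := by
    rw [𝓓.range_subschemeι, hsupp]; exact subset_closure rfl
  obtain ⟨y₀, hy₀⟩ := hξ
  have hgen : IsGenericPoint y₀ (Set.univ : Set 𝓓.subscheme) := by
    rw [isGenericPoint_def,
      𝓓.subschemeι.isEmbedding.isInducing.closure_eq_preimage_closure_image, Set.image_singleton,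
      hy₀, ← hsupp, ← 𝓓.range_subschemeι]
    exact Set.preimage_range _
  haveI : IrreducibleSpace 𝓓.subscheme :=
    { toNonempty := ⟨y₀⟩
      isPreirreducible_univ := hgen.isIrreducible.2 }
  exact isIntegral_of_irreducibleSpace_of_isReduced 𝓓.subscheme

lemma subschemeι_genericPoint_vanishingIdeal_closure {X : Scheme.{u}} (ξ : X)
    [IsIntegral (Scheme.IdealSheafData.vanishingIdeal
      ⟨closure {ξ}, isClosed_closure⟩).subscheme] :
    (Scheme.IdealSheafData.vanishingIdeal ⟨closure {ξ}, isClosed_closure⟩).subschemeι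
      (genericPoint (Scheme.IdealSheafData.vanishingIdeal
        ⟨closure {ξ}, isClosed_closure⟩).subscheme) = ξ := by
  set 𝓓 := Scheme.IdealSheafData.vanishingIdeal ⟨closure {ξ}, isClosed_closure⟩ with h𝓓
  have hsupp : (𝓓.support : Set X) = closure {ξ} := by
    rw [h𝓓, Scheme.IdealSheafData.coe_support_vanishingIdeal]; rfl
  have h1 : 𝓓.subschemeι (genericPoint 𝓓.subscheme) ⤳ ξ :=
    genericPoint_specializes_of_mem_support 𝓓 (by
      rw [← SetLike.mem_coe, hsupp]; exact subset_closure rfl)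
  have h2 : ξ ⤳ 𝓓.subschemeι (genericPoint 𝓓.subscheme) := by
    rw [specializes_iff_mem_closure, ← hsupp]
    exact genericPoint_mem_support 𝓓
  exact (h1.antisymm h2).eq

/-- Embedded points: if `𝓘 = 𝓡 * 𝓟` with `𝓟` effective Cartier, every maximal point of the support
of `𝓡` is an associated point of the closed subscheme `V(𝓘)`. -/
lemma isAssociatedPrime_maximalIdeal_of_factor {X : Scheme.{u}} [IsLocallyNoetherian X]
    (𝓘 𝓡 𝓟 : X.IdealSheafData) (h𝓘 : 𝓘 = 𝓡 * 𝓟) (h𝓟 : BlowUp.IsEffCartierIdeal 𝓟)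
    (zt : 𝓘.subscheme) (hz : 𝓘.subschemeι zt ∈ 𝓡.support)
    (hmax : ∀ y ∈ (𝓡.support : Set X), y ⤳ 𝓘.subschemeι zt → y = 𝓘.subschemeι zt) :
    IsAssociatedPrime (IsLocalRing.maximalIdeal (𝓘.subscheme.presheaf.stalk zt))
      (𝓘.subscheme.presheaf.stalk zt) := by
  obtain ⟨W, hzW, g, hg, hP⟩ := h𝓟 (𝓘.subschemeι zt)
  haveI : IsNoetherianRing Γ(X, W.1) := IsLocallyNoetherian.component_noetherian W
  obtain ⟨p, hp⟩ := exists_fromSpec_eq W hzW
  have hmin : p.asIdeal ∈ (𝓡.ideal W).minimalPrimes :=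
    mem_minimalPrimes_of_generic 𝓡 W p (hp ▸ hz) (hp ▸ hmax)
  -- `p` is an associated prime of `A ⧸ R`
  have hass : IsAssociatedPrime p.asIdeal (Γ(X, W.1) ⧸ 𝓡.ideal W) := by
    have h1 := Module.associatedPrimes.minimalPrimes_annihilator_subset_associatedPrimes Γ(X, W.1) (Γ(X, W.1) ⧸ 𝓡.ideal W)
    rw [Ideal.annihilator_quotient] at h1
    exact h1 hmin
  obtain ⟨-, x, hx⟩ := isAssociatedPrime_iff.1 hass
  obtain ⟨r₀, rfl⟩ := Ideal.Quotient.mk_surjective x
  have hpmem : ∀ a : Γ(X, W.1), a ∈ p.asIdeal ↔ a * r₀ ∈ 𝓡.ideal W := by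
    intro a
    rw [hx, Submodule.mem_colon_singleton, Submodule.mem_bot, ← Ideal.Quotient.eq_zero_iff_mem]
    rfl
  -- the subscheme side
  set ψ := (𝓘.subschemeι.app W.1).hom with hψ
  have hψsurj : Function.Surjective ψ := 𝓘.subschemeι_app_surjective W
  have hψker : ∀ a : Γ(X, W.1), ψ a = 0 ↔ a ∈ 𝓡.ideal W * Ideal.span {g} := by
    intro a
    rw [← hP, ← RingHom.mem_ker, 𝓘.ker_subschemeι_app W, h𝓘]
    rfl
  have haff : IsAffineOpen (𝓘.subschemeι ⁻¹ᵁ W.1) := W.2.preimage 𝓘.subschemeι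
  have hztW : zt ∈ 𝓘.subschemeι ⁻¹ᵁ W.1 := hzW
  -- units in the stalk
  have hunit : ∀ a : Γ(X, W.1),
      IsUnit (𝓘.subscheme.presheaf.germ (𝓘.subschemeι ⁻¹ᵁ W.1) zt hztW (ψ a)) ↔
        a ∉ p.asIdeal := by
    intro a
    rw [← Scheme.mem_basicOpen, ← fromSpec_mem_basicOpen_iff W p a, hp]
    change zt ∈ 𝓘.subscheme.basicOpen ((𝓘.subschemeι.app W.1) a) ↔ _
    rw [← Scheme.preimage_basicOpen]
    rfl
  set β := 𝓘.subscheme.presheaf.germ (𝓘.subschemeι ⁻¹ᵁ W.1) zt hztW (ψ (g * r₀)) with hβ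
  have hc1 : ∀ a ∈ p.asIdeal,
      𝓘.subscheme.presheaf.germ (𝓘.subschemeι ⁻¹ᵁ W.1) zt hztW (ψ a) * β = 0 := by
    intro a ha
    rw [hβ, ← map_mul, ← map_mul]
    have : ψ (a * (g * r₀)) = 0 := by
      rw [hψker]
      have : a * (g * r₀) = (a * r₀) * g := by ring
      rw [this]
      exact Ideal.mul_mem_mul ((hpmem a).1 ha) (Ideal.mem_span_singleton_self g)
    rw [this, map_zero]
  have hc2 : β ≠ 0 := by
    intro h0
    obtain ⟨s', hs'u, hs'0⟩ := stalk_affine_eq_zero haff zt hztW _ h0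
    obtain ⟨s, rfl⟩ := hψsurj s'
    have hsp : s ∉ p.asIdeal := (hunit s).1 hs'u
    rw [← map_mul, hψker, Ideal.mem_mul_span_singleton] at hs'0
    obtain ⟨r, hr, hrg⟩ := hs'0
    have h1 : (s * r₀ - r) * g = 0 := by rw [sub_mul, hrg]; ring
    have h2 : s * r₀ = r := sub_eq_zero.1 ((mem_nonZeroDivisors_iff_right.1 hg) _ h1)
    exact hsp ((hpmem s).2 (h2 ▸ hr))
  have hc3 : ∀ b ∈ IsLocalRing.maximalIdeal (𝓘.subscheme.presheaf.stalk zt), b * β = 0 := by
    intro b hb
    obtain ⟨c, s', hs'u, hbs⟩ := stalk_affine_surj haff zt hztW b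
    obtain ⟨a, rfl⟩ := hψsurj c
    have hap : a ∈ p.asIdeal := by
      by_contra hcon
      have hu := (hunit a).2 hcon
      rw [← hbs] at hu
      have hbu : IsUnit b := isUnit_of_mul_isUnit_left hu
      exact (IsLocalRing.mem_maximalIdeal _).1 hb hbu
    have h1 := hc1 a hap
    rw [← hbs, mul_assoc, mul_comm _ β, ← mul_assoc] at h1
    exact (hs'u.mul_left_eq_zero).1 h1
  refine ⟨inferInstance, β, ?_⟩
  have hcolon : (⊥ : Submodule (𝓘.subscheme.presheaf.stalk zt)
      (𝓘.subscheme.presheaf.stalk zt)).colon {β} =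
      IsLocalRing.maximalIdeal (𝓘.subscheme.presheaf.stalk zt) := by
    apply le_antisymm
    · intro a ha
      rw [Submodule.mem_colon_singleton, Submodule.mem_bot, smul_eq_mul] at ha
      rw [IsLocalRing.mem_maximalIdeal]
      intro hu
      exact hc2 ((hu.mul_right_eq_zero).1 ha)
    · intro b hb
      rw [Submodule.mem_colon_singleton, Submodule.mem_bot, smul_eq_mul]
      exact hc3 b hb
  rw [hcolon]
  exact (Ideal.IsPrime.radical inferInstance).symm

lemma isEffCartierIdeal_pow {X : Scheme.{u}} (𝓓 : X.IdealSheafData)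
    (h : BlowUp.IsEffCartierIdeal 𝓓) (n : ℕ) : BlowUp.IsEffCartierIdeal (𝓓 ^ n) := by
  induction n with
  | zero => rw [pow_zero]; exact isEffCartierIdeal_top
  | succ n ih => rw [pow_succ]; exact isEffCartierIdeal_mul _ _ ih h

lemma isEffCartierIdeal_finsuppProd {X : Scheme.{u}} {J : Type*} (𝓓 : J → X.IdealSheafData)
    (h : ∀ j, BlowUp.IsEffCartierIdeal (𝓓 j)) (a : J →₀ ℕ) :
    BlowUp.IsEffCartierIdeal (a.prod fun j n => 𝓓 j ^ n) := by
  unfold Finsupp.prod
  refine Finset.prod_induction _ BlowUp.IsEffCartierIdeal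
    (fun _ _ h₁ h₂ => isEffCartierIdeal_mul _ _ h₁ h₂) isEffCartierIdeal_top ?_
  intro j _
  exact isEffCartierIdeal_pow _ (h j) _

/-- Let X be a Noetherian scheme and 𝓘 a quasi-coherent ideal sheaf with closed subscheme Z such that
(1) Z has no embedded points: every point of Z whose local ring has its maximal ideal associated is
a maximal point of Z; (2) every maximal point of Z has codimension 1 in X (the local ring of X there
has dimension 1); (3) the local ring of X at every point of Z is a unique factorisation domain. Then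
𝓘 is the ideal sheaf of an effective Cartier divisor. -/
theorem result (X : Scheme.{u}) [IsNoetherian X] (𝓘 : X.IdealSheafData)
    (h1 : ∀ z : ↥𝓘.subscheme, IsAssociatedPrime (IsLocalRing.maximalIdeal ↑(𝓘.subscheme.presheaf.stalk z)) ↑(𝓘.subscheme.presheaf.stalk z) → ∀ z' : ↥𝓘.subscheme, z' ⤳ z → z' = z)
    (h2 : ∀ z : ↥𝓘.subscheme, (∀ z' : ↥𝓘.subscheme, z' ⤳ z → z' = z) →
      ringKrullDim (X.presheaf.stalk (𝓘.subschemeι z)) = 1)
    (h3 : ∀ x : ↥X, x ∈ 𝓘.support → IsDomain (X.presheaf.stalk x) ∧ UniqueFactorizationMonoid (X.presheaf.stalk x)) :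
    BlowUp.IsEffCartierIdeal 𝓘 := by
  classical
  have hinj : Function.Injective 𝓘.subschemeι := 𝓘.subschemeι.isEmbedding.injective
  have hrange : ∀ x : X, x ∈ 𝓘.support ↔ ∃ zt : 𝓘.subscheme, 𝓘.subschemeι zt = x := by
    intro x
    rw [← SetLike.mem_coe, ← 𝓘.range_subschemeι]
    rfl
  -- maximal points of the support correspond to maximal points of the subscheme
  have hmax_iff : ∀ zt : 𝓘.subscheme, (∀ z' : 𝓘.subscheme, z' ⤳ zt → z' = zt) ↔
      ∀ y ∈ (𝓘.support : Set X), y ⤳ 𝓘.subschemeι zt → y = 𝓘.subschemeι zt := by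
    intro zt
    constructor
    · intro h y hy hsp
      obtain ⟨yt, rfl⟩ := (hrange y).1 hy
      rw [h yt (𝓘.subschemeι.isEmbedding.isInducing.specializes_iff.1 hsp)]
    · intro h z' hsp
      exact hinj (h _ ((hrange _).2 ⟨z', rfl⟩) (hsp.map 𝓘.subschemeι.continuous))
  set J := {ξ : X // ξ ∈ 𝓘.support ∧ ∀ y ∈ (𝓘.support : Set X), y ⤳ ξ → y = ξ} with hJ
  set 𝓓 : J → X.IdealSheafData :=
    fun ξ => Scheme.IdealSheafData.vanishingIdeal ⟨closure {ξ.1}, isClosed_closure⟩ with h𝓓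
  have hint : ∀ ξ, IsIntegral (𝓓 ξ).subscheme :=
    fun ξ => isIntegral_subscheme_vanishingIdeal_closure ξ.1
  have hgp : ∀ ξ : J, haveI := hint ξ;
      (𝓓 ξ).subschemeι (genericPoint (𝓓 ξ).subscheme) = ξ.1 := by
    intro ξ
    haveI := hint ξ
    exact subschemeι_genericPoint_vanishingIdeal_closure ξ.1
  have hsuppD : ∀ ξ : J, ((𝓓 ξ).support : Set X) = closure {ξ.1} := by
    intro ξ
    rw [h𝓓, Scheme.IdealSheafData.coe_support_vanishingIdeal]; rfl
  have hsuppD_le : ∀ ξ : J, ∀ x ∈ (𝓓 ξ).support, x ∈ 𝓘.support := by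
    intro ξ x hx
    rw [← SetLike.mem_coe, hsuppD ξ] at hx
    exact closure_minimal (Set.singleton_subset_iff.2 ξ.2.1) 𝓘.support.isClosed hx
  have hDs : ∀ ξ, BlowUp.IsEffCartierIdeal (𝓓 ξ) := by
    intro ξ
    haveI := hint ξ
    refine Groth.Agent.S1684.result X (𝓓 ξ) ?_ (fun x hx => h3 x (hsuppD_le ξ x hx))
    rw [hgp ξ]
    obtain ⟨zt, hzt⟩ := (hrange ξ.1).1 ξ.2.1
    rw [← hzt]
    exact h2 zt ((hmax_iff zt).2 (hzt ▸ ξ.2.2))
  have hsub : (𝓘.support : Set X) ⊆ ⋃ ξ, ((𝓓 ξ).support : Set X) := by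
    intro z hz
    obtain ⟨y, hy, hsp, hmax⟩ :=
      exists_maximal_generization (𝓘.support : Set X) 𝓘.support.isClosed z hz
    refine Set.mem_iUnion.2 ⟨⟨y, hy, hmax⟩, ?_⟩
    rw [hsuppD]
    exact specializes_iff_mem_closure.1 hsp
  obtain ⟨a, 𝓡, ha, hR⟩ := exists_factorization 𝓓 hDs hint ∅ isClosed_empty
    (fun z hz => absurd hz (Set.notMem_empty z)) 𝓘 (by simpa using hsub)
  have hPeff := isEffCartierIdeal_finsuppProd 𝓓 hDs a
  have hIR : 𝓘 ≤ 𝓡 := by
    rw [ha]
    intro U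
    exact (Ideal.mul_le_right : (a.prod fun i n => 𝓓 i ^ n).ideal U * 𝓡.ideal U ≤ 𝓡.ideal U).trans'
      (by rw [mul_comm]; exact le_rfl)
  have hRtop : 𝓡 = ⊤ := by
    rw [← Scheme.IdealSheafData.support_eq_bot_iff]
    by_contra hne
    obtain ⟨z₀, hz₀⟩ : ∃ z, z ∈ (𝓡.support : Set X) := by
      by_contra hcon
      push Not at hcon
      apply hne
      ext x
      simp only [TopologicalSpace.Closeds.coe_bot, Set.mem_empty_iff_false, iff_false]
      exact hcon x
    obtain ⟨z, hz, -, hmax⟩ :=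
      exists_maximal_generization (𝓡.support : Set X) 𝓡.support.isClosed z₀ hz₀
    have hzI : z ∈ 𝓘.support := Scheme.IdealSheafData.support_antitone hIR hz
    obtain ⟨zt, rfl⟩ := (hrange z).1 hzI
    have hass := isAssociatedPrime_maximalIdeal_of_factor 𝓘 𝓡 _ ha hPeff zt hz hmax
    have hmaxI := (hmax_iff zt).1 (h1 zt hass)
    set ξ : J := ⟨𝓘.subschemeι zt, hzI, hmaxI⟩ with hξ
    haveI := hint ξ
    refine hR ξ (le_of_genericPoint_mem_support (𝓓 ξ) 𝓡 ?_)
    rw [hgp ξ]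
    exact hz
  rw [ha, hRtop, Scheme.IdealSheafData.top_mul]
  exact hPeff

end Groth.Agent.S1700
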