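import Groth.Statements.S17006
import Mathlib.Algebra.DualNumber
import Mathlib.LinearAlgebra.Dimension.Constructions
import Mathlib.LinearAlgebra.Dimension.Free
import Mathlib.Tactic.NoncommRing

set_option autoImplicit false
universe u
open scoped TensorProduct
open QuadGrp

namespace Groth.Agent.S17006

open CliffordAlgebra

section General

variable {A : Type u} [CommRing A] {V : Type u} [AddCommGroup V] [Module A V]
variable (Q : QuadraticForm A V) (ε : A) (hε : ε * ε = 0) (a b : V)

/-- `X v = B(v,a) b − B(v,b) a` -/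
noncomputable def X : V →ₗ[A] V :=
  ((QuadraticMap.polarBilin Q).flip a).smulRight b - ((QuadraticMap.polarBilin Q).flip b).smulRight a

lemma X_apply (v : V) :
    X Q a b v = QuadraticMap.polar Q v a • b - QuadraticMap.polar Q v b • a := by
  simp [X]

lemma polar_X (v : V) : QuadraticMap.polar Q v (X Q a b v) = 0 := by
  rw [X_apply, QuadraticMap.polar_sub_right, QuadraticMap.polar_smul_right,
    QuadraticMap.polar_smul_right, smul_eq_mul, smul_eq_mul, mul_comm, sub_self]

include hε in
lemma comp_eq_id (s t : A) (hst : s + t = 0) :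
    (LinearMap.id + (s * ε) • X Q a b) ∘ₗ (LinearMap.id + (t * ε) • X Q a b) = LinearMap.id := by
  ext v
  simp only [LinearMap.comp_apply, LinearMap.add_apply, LinearMap.id_apply, LinearMap.smul_apply,
    map_add, map_smul]
  have h1 : ∀ x : V, (t * ε) • (s * ε) • x = 0 := by
    intro x
    rw [smul_smul, show t * ε * (s * ε) = s * t * (ε * ε) by ring, hε, mul_zero, zero_smul]
  rw [smul_add, h1, add_zero, add_assoc, ← add_smul, ← add_mul, hst, zero_mul, zero_smul, add_zero]

/-- the transvection-like isometry `1 + ε X` -/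
noncomputable def hE : V ≃ₗ[A] V :=
  LinearEquiv.ofLinearMap (LinearMap.id + (1 * ε) • X Q a b) (LinearMap.id + (-1 * ε) • X Q a b)
    (comp_eq_id Q ε hε a b 1 (-1) (by ring)) (comp_eq_id Q ε hε a b (-1) 1 (by ring))

lemma hE_apply (v : V) : hE Q ε hε a b v = v + ε • X Q a b v := by
  simp [hE]

include hε in
lemma hE_mem_O : hE Q ε hε a b ∈ QuadGrp.O Q := by
  intro v
  rw [hE_apply]
  have : Q (v + ε • X Q a b v) = Q v + Q (ε • X Q a b v) + QuadraticMap.polar Q v (ε • X Q a b v) := by
    rw [QuadraticMap.polar]; ring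
  rw [this, QuadraticMap.map_smul, QuadraticMap.polar_smul_right, polar_X, smul_zero, add_zero,
    hε, zero_smul, add_zero]

/-- the even unit `1 - ε ι(a) ι(b)` -/
noncomputable def uE : CliffordAlgebra Q := 1 - ε • (ι Q a * ι Q b)

/-- its inverse -/
noncomputable def uE' : CliffordAlgebra Q := 1 + ε • (ι Q a * ι Q b)

include hε in
lemma uE_mul_uE' : uE Q ε a b * uE' Q ε a b = 1 := by
  rw [uE, uE', sub_mul, mul_add, mul_add, one_mul, one_mul, mul_one, smul_mul_smul_comm, hε, zero_smul]
  abel

lemma comm_ι (v : V) :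
    (ι Q a * ι Q b) * ι Q v - ι Q v * (ι Q a * ι Q b) = - ι Q (X Q a b v) := by
  rw [X_apply, map_sub, map_smul, map_smul]
  have h1 := ι_mul_ι_add_swap (Q := Q) b v
  have h2 := ι_mul_ι_add_swap (Q := Q) a v
  have e1 : ι Q b * ι Q v = algebraMap A _ (QuadraticMap.polar Q b v) - ι Q v * ι Q b :=
    eq_sub_of_add_eq h1
  have e2 : ι Q a * ι Q v = algebraMap A _ (QuadraticMap.polar Q a v) - ι Q v * ι Q a :=
    eq_sub_of_add_eq h2
  rw [mul_assoc, e1, mul_sub, ← mul_assoc (ι Q a) (ι Q v), e2, sub_mul, Algebra.smul_def,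
    Algebra.smul_def, QuadraticMap.polar_comm Q v a, QuadraticMap.polar_comm Q v b,
    ← Algebra.commutes (QuadraticMap.polar Q b v) (ι Q a)]
  noncomm_ring

lemma conj_aux {C : Type*} [Ring C] [Algebra A C] (ε : A) (hε : ε * ε = 0) (w y : C) :
    (1 - ε • w) * y = (y + ε • (y * w - w * y)) * (1 - ε • w) := by
  simp only [sub_mul, mul_sub, add_mul, one_mul, mul_one, smul_mul_assoc, mul_smul_comm,
    smul_sub, smul_add, smul_smul, hε, zero_smul]
  abel

include hε in
lemma uE_conj (x : CliffordAlgebra Q) :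
    uE Q ε a b * x =
      CliffordAlgebra.map (QuadGrp.isometryOfMem Q (hE Q ε hε a b) (hE_mem_O Q ε hε a b)) x *
        uE Q ε a b := by
  induction x using CliffordAlgebra.induction with
  | algebraMap r => rw [AlgHom.commutes, Algebra.commutes]
  | ι v =>
    rw [map_apply_ι, QuadGrp.isometryOfMem_apply, hE_apply, map_add, map_smul, uE]
    have hc := comm_ι Q a b v
    have : ι Q (X Q a b v) = ι Q v * (ι Q a * ι Q b) - (ι Q a * ι Q b) * ι Q v := by
      rw [← neg_sub, hc, neg_neg]
    rw [this]
    exact conj_aux ε hε (ι Q a * ι Q b) (ι Q v)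
  | mul x y hx hy => rw [← mul_assoc, hx, mul_assoc, hy, ← mul_assoc, map_mul]
  | add x y hx hy => rw [mul_add, hx, hy, map_add, add_mul]

end General



section General2

variable {A : Type u} [CommRing A] {V : Type u} [AddCommGroup V] [Module A V]
variable (Q : QuadraticForm A V) (ε : A) (hε : ε * ε = 0) (a b : V)

lemma uE_mem_even : uE Q ε a b ∈ CliffordAlgebra.even Q := by
  apply Subalgebra.sub_mem _ (Subalgebra.one_mem _)
  apply Subalgebra.smul_mem
  exact ι_mul_ι_mem_evenOdd_zero Q a b

include hε in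
lemma hE_dickson :
    QuadGrp.IsDicksonTrivial Q (hE Q ε hε a b) (hE_mem_O Q ε hε a b) := by
  intro z hz
  have hcomm := (Subalgebra.mem_center_iff.mp hz) ⟨uE Q ε a b, uE_mem_even Q ε a b⟩
  have hcomm' : uE Q ε a b * (z : CliffordAlgebra Q) = (z : CliffordAlgebra Q) * uE Q ε a b :=
    congrArg Subtype.val hcomm
  have h1 := uE_conj Q ε hε a b (z : CliffordAlgebra Q)
  rw [hcomm'] at h1
  have h2 := congrArg (· * uE' Q ε a b) h1
  simp only [mul_assoc, uE_mul_uE' Q ε hε a b, mul_one] at h2
  exact h2.symm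

include hε in
lemma hE_mem_SOeven : hE Q ε hε a b ∈ QuadGrp.SOeven Q :=
  ⟨hE_mem_O Q ε hε a b, hE_dickson Q ε hε a b⟩

end General2



section Special

variable {R : Type u} [CommRing R] {n : ℕ} (Q : QuadraticForm R (Fin n → R))

local notation "M" => (Fin n → R)
local notation "D" => DualNumber R

lemma baseChangeForm_tmul (A : Type u) [CommRing A] [Algebra R A] (x : A) (v : M) :
    QuadGrp.baseChangeForm A Q (x ⊗ₜ[R] v) = Q v • (x * x) := by
  rw [QuadGrp.baseChangeForm, LinearMap.compQuadraticMap_apply, QuadGrp.baseChange_tmul]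
  rfl

lemma polar_baseChangeForm (A : Type u) [CommRing A] [Algebra R A] (v w : M) :
    QuadraticMap.polar (QuadGrp.baseChangeForm A Q) ((1 : A) ⊗ₜ[R] v) ((1 : A) ⊗ₜ[R] w) =
      algebraMap R A (QuadraticMap.polar Q v w) := by
  rw [QuadraticMap.polar, ← TensorProduct.tmul_add, baseChangeForm_tmul, baseChangeForm_tmul,
    baseChangeForm_tmul, mul_one, QuadraticMap.polar, Algebra.algebraMap_eq_smul_one, sub_smul,
    sub_smul]

lemma X_baseChange (A : Type u) [CommRing A] [Algebra R A] (a b w : M) :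
    X (QuadGrp.baseChangeForm A Q) ((1 : A) ⊗ₜ[R] a) ((1 : A) ⊗ₜ[R] b) ((1 : A) ⊗ₜ[R] w) =
      (1 : A) ⊗ₜ[R] (X Q a b w) := by
  rw [X_apply, X_apply, polar_baseChangeForm, polar_baseChangeForm, TensorProduct.tmul_sub,
    TensorProduct.tmul_smul, TensorProduct.tmul_smul, algebraMap_smul, algebraMap_smul]

/-- the retraction `D ⊗ M → M`, `(x + yε) ⊗ m ↦ y m` -/
noncomputable def ρ : D ⊗[R] M →ₗ[R] M :=
  (TensorProduct.lid R M).toLinearMap ∘ₗ LinearMap.rTensor M (TrivSqZeroExt.sndHom R R)

lemma ρ_eps_smul (v : M) : ρ (n := n) ((DualNumber.eps : D) • ((1 : D) ⊗ₜ[R] v)) = v := by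
  rw [TensorProduct.smul_tmul', smul_eq_mul, mul_one, ρ, LinearMap.comp_apply,
    LinearMap.rTensor_tmul]
  simp

lemma ρ_one_tmul (v : M) : ρ (n := n) ((1 : D) ⊗ₜ[R] v) = 0 := by
  rw [ρ, LinearMap.comp_apply, LinearMap.rTensor_tmul]
  simp

end Special



section Special2

variable {R : Type u} [CommRing R] {n : ℕ} (Q : QuadraticForm R (Fin n → R))

local notation "M" => (Fin n → R)
local notation "D" => DualNumber R

lemma sorth_eq_SOeven [Nontrivial R] (hn : Even n) :
    QuadGrp.sorth Q D = QuadGrp.SOeven (QuadGrp.baseChangeForm D Q) := by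
  rw [QuadGrp.sorth, QuadGrp.SO, if_pos]
  rw [Module.finrank_baseChange, Module.finrank_fin_fun]
  exact hn

lemma commute_X [Nontrivial R] (hn : Even n) (g : M ≃ₗ[R] M)
    (H : ∀ h ∈ QuadGrp.sorth Q D, g.baseChange R D M M * h = h * g.baseChange R D M M)
    (a b w : M) : g (X Q a b w) = X Q a b (g w) := by
  have hε : (DualNumber.eps : D) * DualNumber.eps = 0 := DualNumber.eps_mul_eps
  set h := hE (QuadGrp.baseChangeForm D Q) (DualNumber.eps : D) hε ((1 : D) ⊗ₜ[R] a) ((1 : D) ⊗ₜ[R] b)
    with hh
  have hmem : h ∈ QuadGrp.sorth Q D := by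
    rw [sorth_eq_SOeven Q hn]
    exact hE_mem_SOeven _ _ hε _ _
  have key := congrArg (fun f : (D ⊗[R] M) ≃ₗ[D] (D ⊗[R] M) => f ((1 : D) ⊗ₜ[R] w)) (H h hmem)
  simp only [LinearEquiv.mul_apply] at key
  rw [hh, hE_apply, hE_apply, LinearEquiv.baseChange_tmul, X_baseChange, X_baseChange, map_add,
    map_smul, LinearEquiv.baseChange_tmul, LinearEquiv.baseChange_tmul] at key
  have key2 := congrArg (ρ (n := n)) key
  rw [map_add, map_add, ρ_one_tmul, ρ_eps_smul, ρ_eps_smul, zero_add, zero_add] at key2
  exact key2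

end Special2


section LinAlg

variable {R : Type u} [CommRing R] {n : ℕ} (Q : QuadraticForm R (Fin n → R))

local notation "M" => (Fin n → R)

lemma exists_ne_ne (hn : 3 ≤ n) (j k : Fin n) : ∃ i : Fin n, i ≠ j ∧ i ≠ k := by
  classical
  have hcard : ({j, k} : Finset (Fin n)).card < (Finset.univ : Finset (Fin n)).card := by
    rw [Finset.card_univ, Fintype.card_fin]
    exact lt_of_le_of_lt (Finset.card_le_two) (by omega)
  obtain ⟨i, -, hi⟩ := Finset.exists_mem_notMem_of_card_lt_card hcard
  refine ⟨i, ?_, ?_⟩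
  · intro h; apply hi; simp [h]
  · intro h; apply hi; simp [h]

lemma scalar_of_commute_X (hn : 3 ≤ n) (hQ : QuadGrp.IsRegular Q) (g : M ≃ₗ[R] M)
    (hg : g ∈ QuadGrp.O Q)
    (REL : ∀ a b w : M, g (X Q a b w) = X Q a b (g w)) :
    ∃ c : R, c * c = 1 ∧ ∀ v, g v = c • v := by
  classical
  -- dual vectors
  have hw : ∀ i : Fin n, ∃ w : M, ∀ v : M, QuadraticMap.polar Q w v = v i := by
    intro i
    obtain ⟨w, hw⟩ := hQ.2 (LinearMap.proj i)
    exact ⟨w, fun v => by
      have := LinearMap.congr_fun hw v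
      simpa using this⟩
  choose w hw using hw
  let e : Fin n → M := fun j => Pi.single j (1 : R)
  -- the basic relation
  have hrel : ∀ i j : Fin n, j ≠ i → g (e j) =
      QuadraticMap.polar Q (g (w i)) (e i) • e j - QuadraticMap.polar Q (g (w i)) (e j) • e i := by
    intro i j hji
    have := REL (e i) (e j) (w i)
    rw [X_apply, X_apply, hw, hw] at this
    simp only [e, Pi.single_eq_same, Pi.single_eq_of_ne (Ne.symm hji), one_smul, zero_smul,
      sub_zero] at this
    exact this
  have hoff : ∀ j k : Fin n, k ≠ j → g (e j) k = 0 := by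
    intro j k hkj
    obtain ⟨i, hij, hik⟩ := exists_ne_ne hn j k
    rw [hrel i j (Ne.symm hij)]
    simp [e, Pi.single_eq_of_ne hkj, Pi.single_eq_of_ne (Ne.symm hik)]
  have hdiag : ∀ i j : Fin n, j ≠ i → g (e j) j = QuadraticMap.polar Q (g (w i)) (e i) := by
    intro i j hji
    rw [hrel i j hji]
    simp [e, Pi.single_eq_of_ne hji]
  have hceq : ∀ j k : Fin n, g (e j) j = g (e k) k := by
    intro j k
    obtain ⟨i, hij, hik⟩ := exists_ne_ne hn j k
    rw [hdiag i j (Ne.symm hij), hdiag i k (Ne.symm hik)]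
  have hn0 : 0 < n := by omega
  let j₀ : Fin n := ⟨0, hn0⟩
  let c : R := g (e j₀) j₀
  have hge : ∀ j, g (e j) = c • e j := by
    intro j
    funext k
    by_cases hkj : k = j
    · subst hkj
      simp [e, c, hceq k j₀]
    · rw [hoff j k hkj]
      simp [e, Pi.single_eq_of_ne hkj]
  have hgv : ∀ v, g v = c • v := by
    have : g.toLinearMap = c • LinearMap.id := by
      apply LinearMap.pi_ext
      intro i x
      have hx : (Pi.single i x : M) = x • e i := by
        simp [e, ← Pi.single_smul]
      rw [hx, LinearEquiv.coe_coe, map_smul, hge, LinearMap.smul_apply, LinearMap.id_apply,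
        smul_comm]
    intro v
    have := LinearMap.congr_fun this v
    simpa using this
  refine ⟨c, ?_, hgv⟩
  have hpol : QuadraticMap.polar Q (g (w j₀)) (g (e j₀)) = QuadraticMap.polar Q (w j₀) (e j₀) := by
    rw [QuadraticMap.polar, QuadraticMap.polar, ← map_add, hg, hg, hg]
  rw [hgv, hgv, QuadraticMap.polar_smul_left, QuadraticMap.polar_smul_right, hw] at hpol
  simpa [e, mul_assoc] using hpol

end LinAlg


/-- Let Q be a quadratic form on R^{2m}, m ≥ 2, over a commutative ring R, whose polar form is a perfect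
pairing. An isometry g of Q satisfying the Dickson condition commutes, after base change to every
R-algebra A, with every isometry of Q_A satisfying the Dickson condition if and only if g is
multiplication by a scalar whose square is one. (Points-level form of: for even rank at least 4 the
functorial centre of the special orthogonal group is the central μ₂ and coincides with that of the
naive one.) -/
theorem result (R : Type u) [CommRing R] (m : ℕ) (hm : 2 ≤ m)
    (Q : QuadraticForm R (Fin (2 * m) → R)) (hQ : QuadGrp.IsRegular Q)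
    (g : (Fin (2 * m) → R) ≃ₗ[R] (Fin (2 * m) → R)) (hg : g ∈ QuadGrp.SO Q) :
    (∀ (A : Type u) [CommRing A] [Algebra R A], ∀ h ∈ QuadGrp.sorth Q A,
        g.baseChange R A (Fin (2 * m) → R) (Fin (2 * m) → R) * h = h * g.baseChange R A (Fin (2 * m) → R) (Fin (2 * m) → R)) ↔
      ∃ c : R, c * c = 1 ∧ ∀ v, g v = c • v := by
  constructor
  · intro H
    by_cases hR : Subsingleton R
    · have := hR
      exact ⟨1, by simp, fun v => Subsingleton.elim _ _⟩
    · have : Nontrivial R := not_subsingleton_iff_nontrivial.mp hR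
      have hgO : g ∈ QuadGrp.O Q := by
        rw [QuadGrp.SO, if_pos (by rw [Module.finrank_fin_fun]; exact even_two_mul m)] at hg
        obtain ⟨h1, -⟩ := hg
        exact h1
      exact scalar_of_commute_X Q (by omega) hQ g hgO
        (commute_X Q (even_two_mul m) g (fun h hh => H (DualNumber R) h hh))
  · rintro ⟨c, hc, hgv⟩ A _ _ h hh
    have hgA : ∀ t, g.baseChange R A (Fin (2 * m) → R) (Fin (2 * m) → R) t = (algebraMap R A c) • t := by
      intro t
      induction t using TensorProduct.induction_on with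
      | zero => simp
      | tmul a v => rw [LinearEquiv.baseChange_tmul, hgv, TensorProduct.tmul_smul, algebraMap_smul]
      | add x y hx hy => rw [map_add, hx, hy, smul_add]
    ext t
    rw [LinearEquiv.mul_apply, LinearEquiv.mul_apply, hgA, hgA, map_smul]

end Groth.Agent.S17006
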