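import Groth.Statements.S1701
import Groth.Agent.Lib.Helper29.RelEffCart

set_option autoImplicit false
universe u
open CategoryTheory CategoryTheory.Limits AlgebraicGeometry TopologicalSpace
open SDiv

namespace Groth.Agent.S1701

open Groth.Agent.Lib.Helper29.EffCart Groth.Agent.Lib.Helper29.FlatExt


/-- Let f : X ⟶ S be a morphism, 𝓘 the ideal sheaf of an effective Cartier divisor D ⊂ X such that D ⟶ S
is flat (a relative effective Cartier divisor), and x a point of D at which the local ring of X is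
Noetherian. Then f is flat at x. -/
theorem result {X S : Scheme.{u}} (f : X ⟶ S) (𝓘 : X.IdealSheafData)
    (hD : (BlowUp.IsEffCartierIdeal 𝓘 ∧ Flat (𝓘.subschemeι ≫ f))) (d : ↥𝓘.subscheme) [IsNoetherianRing (X.presheaf.stalk (𝓘.subschemeι d))] :
    (f.stalkMap (𝓘.subschemeι d)).hom.Flat := by
  obtain ⟨W, hxW, -, t, ht, hI⟩ := exists_affine_principal_nzd_le 𝓘 hD.1 (𝓘.subschemeι d) ⊤ trivial
  have hfl : ((𝓘.subschemeι ≫ f).stalkMap d).hom.Flat := @Flat.stalkMap _ _ _ hD.2 d
  rw [Scheme.Hom.stalkMap_comp] at hfl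
  letI := (f.stalkMap (𝓘.subschemeι d)).hom.toAlgebra
  have hq : Module.Flat (S.presheaf.stalk (f (𝓘.subschemeι d)))
      (X.presheaf.stalk (𝓘.subschemeι d) ⧸ Ideal.span {X.presheaf.germ W.1 _ hxW t}) :=
    (flat_comp_iff_flat_quotient (𝓘.subschemeι.stalkMap d).hom
      (𝓘.subschemeι.stalkMap_surjective d) _ (ker_stalkMap_subschemeι 𝓘 W t hI d hxW)).1 hfl
  change Module.Flat (S.presheaf.stalk (f (𝓘.subschemeι d))) (X.presheaf.stalk (𝓘.subschemeι d))
  refine flat_of_flat_quotient_of_isNoetherianRing_of_isLocalRing (X.presheaf.germ W.1 _ hxW t)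
    (germ_mem_nonZeroDivisors W.2 _ hxW t ht) ?_
  -- the germ of t lies in the maximal ideal: its image in the (nontrivial) stalk of D is zero
  rw [IsLocalRing.mem_maximalIdeal, mem_nonunits_iff]
  intro hu
  have h0 : (𝓘.subschemeι.stalkMap d).hom (X.presheaf.germ W.1 _ hxW t) = 0 := by
    have : X.presheaf.germ W.1 _ hxW t ∈ RingHom.ker (𝓘.subschemeι.stalkMap d).hom := by
      rw [ker_stalkMap_subschemeι 𝓘 W t hI d hxW]
      exact Ideal.mem_span_singleton_self _
    exact this
  have h1 := hu.map (𝓘.subschemeι.stalkMap d).hom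
  rw [h0] at h1
  exact not_isUnit_zero h1

end Groth.Agent.S1701
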