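import Groth.Statements.S17015
import Groth.Agent.Lib.Helper14.SemiregField

set_option autoImplicit false
universe u v
open QuadGrp

namespace Groth.Agent.S17015

open scoped TensorProduct
open Groth.Agent.Lib.Helper14.AltKer Groth.Agent.Lib.Helper26.HalfDisc

section BC

variable {R : Type u} [CommRing R] {M : Type v} [AddCommGroup M] [Module R M] [Module.Free R M]
  (A : Type u) [CommRing A] [Algebra R A] (Q : QuadraticForm R M)

lemma baseChangeForm_tmul (x : A) (v : M) :
    QuadGrp.baseChangeForm A Q (x ⊗ₜ[R] v) = Q v • (x * x) := by
  rw [QuadGrp.baseChangeForm, LinearMap.compQuadraticMap_apply, QuadGrp.baseChange_tmul]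
  rfl

lemma polar_baseChangeForm (v w : M) :
    QuadraticMap.polar (QuadGrp.baseChangeForm A Q) ((1 : A) ⊗ₜ[R] v) ((1 : A) ⊗ₜ[R] w) =
      algebraMap R A (QuadraticMap.polar Q v w) := by
  rw [QuadraticMap.polar, ← TensorProduct.tmul_add, baseChangeForm_tmul, baseChangeForm_tmul,
    baseChangeForm_tmul, mul_one, QuadraticMap.polar, Algebra.algebraMap_eq_smul_one, sub_smul,
    sub_smul]

lemma coeffs_baseChange {n : ℕ} (b : Module.Basis (Fin n) R M) (s : Sym2 (Fin n)) :
    QuadGrp.coeffs (b.baseChange A) (LinearEquiv.refl A A) (QuadGrp.baseChangeForm A Q) s =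
      algebraMap R A (QuadGrp.coeffs b (LinearEquiv.refl R R) Q s) := by
  induction s using Sym2.ind with
  | _ i j =>
    rw [QuadGrp.coeffs_mk, QuadGrp.coeffs_mk]
    simp only [LinearEquiv.refl_apply, Module.Basis.baseChange_apply]
    by_cases h : i = j
    · rw [if_pos h, if_pos h, baseChangeForm_tmul, mul_one, Algebra.algebraMap_eq_smul_one]
    · rw [if_neg h, if_neg h, polar_baseChangeForm]

lemma halfDisc_baseChange {n : ℕ} (b : Module.Basis (Fin n) R M) :
    QuadGrp.halfDisc (b.baseChange A) (LinearEquiv.refl A A) (QuadGrp.baseChangeForm A Q) =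
      algebraMap R A (QuadGrp.halfDisc b (LinearEquiv.refl R R) Q) := by
  unfold QuadGrp.halfDisc
  rw [MvPolynomial.eval₂_comp_left (algebraMap R A)]
  have hcomp : (algebraMap R A).comp (Int.castRingHom R) = Int.castRingHom A := RingHom.ext_int _ _
  rw [hcomp]
  congr 1
  funext s
  exact coeffs_baseChange A Q b s

end BC

lemma isUnit_iff_forall_residue {R : Type u} [CommRing R] (x : R) :
    IsUnit x ↔ ∀ (p : Ideal R) [p.IsPrime], algebraMap R p.ResidueField x ≠ 0 := by
  constructor
  · intro hx p _
    exact (hx.map (algebraMap R p.ResidueField)).ne_zero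
  · intro h
    by_contra hx
    obtain ⟨p, hp, hxp⟩ := exists_max_ideal_of_mem_nonunits hx
    have := hp.isPrime
    exact h p ((Ideal.algebraMap_residueField_eq_zero).mpr hxp)


/-- For a quadratic form Q on a free module with a basis b indexed by Fin (2m+1) over a commutative ring
R, the half-discriminant of Q relative to b is a unit if and only if for every prime ideal p of R
the base change of Q to the residue field of p is nondegenerate (zero quadratic radical and polar
kernel of dimension at most one — over a field this is the fibrewise non-degeneracy of the source: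
smooth projective quadric, defect one with non-zero restriction in characteristic two). -/
theorem result {R : Type u} [CommRing R]
    {M : Type v} [AddCommGroup M] [Module R M] [Module.Free R M]
    (m : ℕ) (b : Module.Basis (Fin (2 * m + 1)) R M) (Q : QuadraticForm R M) :
    IsUnit (QuadGrp.halfDisc b (LinearEquiv.refl R R) Q) ↔
      ∀ (p : Ideal R) [p.IsPrime], QuadraticMap.Nondegenerate (Q := QuadGrp.baseChangeForm p.ResidueField Q) := by
  rw [isUnit_iff_forall_residue]
  refine forall_congr' (fun p => forall_congr' (fun hp => ?_))
  rw [← halfDisc_baseChange p.ResidueField Q b]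
  exact halfDisc_ne_zero_iff_nondegenerate (odd_two_mul_add_one m) (b.baseChange p.ResidueField)
    (QuadGrp.baseChangeForm p.ResidueField Q)

end Groth.Agent.S17015
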