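import Groth.Statements.S17016
import Mathlib.Tactic.NoncommRing

set_option autoImplicit false
universe u
open QuadGrp

namespace Groth.Agent.S17016

section aux
variable (R : Type u) [CommRing R] (m : ℕ)

private theorem Q_apply (v : Fin (m * 2) → R) :
    QuadGrp.splitForm R (m * 2) v = ∑ i : Fin (m * 2 / 2),
      v ⟨2 * i + (m * 2) % 2, by omega⟩ * v ⟨2 * i + 1 + (m * 2) % 2, by omega⟩ := by
  simp [QuadGrp.splitForm]

/-- the bilinear form -/
private def Bf (v w : Fin (m * 2) → R) : R := ∑ i : Fin (m * 2 / 2),
      v ⟨2 * i + (m * 2) % 2, by omega⟩ * w ⟨2 * i + 1 + (m * 2) % 2, by omega⟩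

private theorem Q_eq_Bf (v : Fin (m * 2) → R) : QuadGrp.splitForm R (m * 2) v = Bf R m v v := Q_apply R m v

private theorem polar_eq (v w : Fin (m * 2) → R) :
    QuadraticMap.polar (QuadGrp.splitForm R (m * 2)) v w = Bf R m v w + Bf R m w v := by
  unfold QuadraticMap.polar
  rw [Q_eq_Bf, Q_eq_Bf, Q_eq_Bf]
  unfold Bf
  rw [← Finset.sum_sub_distrib, ← Finset.sum_sub_distrib, ← Finset.sum_add_distrib]
  refine Finset.sum_congr rfl fun i _ => ?_
  simp only [Pi.add_apply]
  ring

private theorem Bf_single (j k : Fin (m * 2)) :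
    Bf R m (Pi.single j 1) (Pi.single k 1) = if (j.val % 2 = 0 ∧ k.val = j.val + 1) then 1 else 0 := by
  unfold Bf
  split_ifs with h
  · obtain ⟨h1, h2⟩ := h
    rw [Finset.sum_eq_single (⟨j.val / 2, by omega⟩ : Fin (m * 2 / 2))]
    · have e1 : (⟨2 * (j.val / 2) + (m * 2) % 2, by omega⟩ : Fin (m * 2)) = j := by
        apply Fin.ext; simp only []; omega
      have e2 : (⟨2 * (j.val / 2) + 1 + (m * 2) % 2, by omega⟩ : Fin (m * 2)) = k := by
        apply Fin.ext; simp only []; omega
      simp only [e1, e2, Pi.single_eq_same, mul_one]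
    · intro i _ hi
      have : (⟨2 * i.val + (m * 2) % 2, by omega⟩ : Fin (m * 2)) ≠ j := by
        intro he
        apply hi
        apply Fin.ext
        have := congrArg Fin.val he
        simp only [] at this ⊢
        omega
      rw [Pi.single_eq_of_ne this, zero_mul]
    · intro h; exact absurd (Finset.mem_univ _) h
  · refine Finset.sum_eq_zero fun i _ => ?_
    by_cases h1 : (⟨2 * i.val + (m * 2) % 2, by omega⟩ : Fin (m * 2)) = j
    · have h2 : (⟨2 * i.val + 1 + (m * 2) % 2, by omega⟩ : Fin (m * 2)) ≠ k := by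
        intro he
        apply h
        have a1 := congrArg Fin.val h1
        have a2 := congrArg Fin.val he
        simp only [] at a1 a2
        omega
      rw [Pi.single_eq_of_ne h2, mul_zero]
    · rw [Pi.single_eq_of_ne h1, zero_mul]

section ring
variable {C : Type*} [Ring C] (a b : C) (haa : a * a = 0) (hbb : b * b = 0) (hab : a * b + b * a = 1)
include haa hbb hab

omit hbb in
private theorem u_sq : (1 - 2 * (a * b)) * (1 - 2 * (a * b)) = 1 := by
  have hba : b * a = 1 - a * b := by rw [← hab]; abel
  have h1 : a * b * (a * b) = a * b := by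
    calc a * b * (a * b) = a * (b * a) * b := by noncomm_ring
      _ = a * (1 - a * b) * b := by rw [hba]
      _ = a * b - (a * a) * (b * b) := by noncomm_ring
      _ = a * b := by rw [haa]; simp
  calc (1 - 2 * (a * b)) * (1 - 2 * (a * b)) = 1 - 4 * (a * b) + 4 * (a * b * (a * b)) := by noncomm_ring
    _ = 1 := by rw [h1]; noncomm_ring

omit hbb in
private theorem a_u : a * (1 - 2 * (a * b)) = -((1 - 2 * (a * b)) * a) := by
  have hba : b * a = 1 - a * b := by rw [← hab]; abel
  have h2 : a * (b * a) = a := by
    calc a * (b * a) = a * (1 - a * b) := by rw [hba]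
      _ = a - (a * a) * b := by noncomm_ring
      _ = a := by rw [haa]; simp
  have h3 : a * (1 - 2 * (a * b)) = a := by
    calc a * (1 - 2 * (a * b)) = a - 2 * ((a * a) * b) := by noncomm_ring
      _ = a := by rw [haa]; simp
  have h4 : (1 - 2 * (a * b)) * a = -a := by
    calc (1 - 2 * (a * b)) * a = a - 2 * (a * (b * a)) := by noncomm_ring
      _ = a - 2 * a := by rw [h2]
      _ = -a := by noncomm_ring
  rw [h3, h4, neg_neg]

omit haa hbb in
private theorem b_u : b * (1 - 2 * (a * b)) = -((1 - 2 * (a * b)) * b) := by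
  have hba : b * a = 1 - a * b := by rw [← hab]; abel
  calc b * (1 - 2 * (a * b)) = b - 2 * ((b * a) * b) := by noncomm_ring
    _ = b - 2 * ((1 - a * b) * b) := by rw [hba]
    _ = -b + 2 * (a * (b * b)) := by noncomm_ring
    _ = -(b - 2 * (a * (b * b))) := by noncomm_ring
    _ = -((1 - 2 * (a * b)) * b) := by noncomm_ring

omit haa hbb hab in
private theorem c_u (c : C) (hca : c * a = -(a * c)) (hcb : c * b = -(b * c)) :
    c * (1 - 2 * (a * b)) = (1 - 2 * (a * b)) * c := by
  have h : c * a * b = a * b * c := by
    rw [hca, neg_mul, mul_assoc, hcb, mul_neg, neg_neg, mul_assoc]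
  calc c * (1 - 2 * (a * b)) = c - 2 * (c * a * b) := by noncomm_ring
    _ = c - 2 * (a * b * c) := by rw [h]
    _ = (1 - 2 * (a * b)) * c := by noncomm_ring

end ring

private noncomputable abbrev QQ := QuadGrp.splitForm R (m * 2)
private noncomputable abbrev ee (j : Fin (m * 2)) : CliffordAlgebra (QQ R m) :=
  CliffordAlgebra.ι (QQ R m) (Pi.single j 1)

private theorem e_sq (j : Fin (m * 2)) : ee R m j * ee R m j = 0 := by
  rw [CliffordAlgebra.ι_sq_scalar, Q_eq_Bf, Bf_single, if_neg (by omega), map_zero]

private theorem e_swap (j k : Fin (m * 2)) : ee R m j * ee R m k + ee R m k * ee R m j =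
    algebraMap R _ (Bf R m (Pi.single j 1) (Pi.single k 1) + Bf R m (Pi.single k 1) (Pi.single j 1)) := by
  rw [CliffordAlgebra.ι_mul_ι_add_swap, polar_eq]

private theorem e_anti (j k : Fin (m * 2)) (h2 : j.val / 2 ≠ k.val / 2) :
    ee R m j * ee R m k = -(ee R m k * ee R m j) := by
  have := e_swap R m j k
  rw [Bf_single, Bf_single, if_neg (by omega), if_neg (by omega), add_zero, map_zero] at this
  exact eq_neg_of_add_eq_zero_left this

private noncomputable abbrev aa (i : Fin m) := ee R m (finProdFinEquiv (i, (0 : Fin 2)))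
private noncomputable abbrev bb (i : Fin m) := ee R m (finProdFinEquiv (i, (1 : Fin 2)))
private noncomputable abbrev uu (i : Fin m) : CliffordAlgebra (QQ R m) := 1 - 2 * (aa R m i * bb R m i)

private theorem val0 (i : Fin m) : (finProdFinEquiv (i, (0 : Fin 2))).val = 2 * i.val := by
  simp [finProdFinEquiv]
private theorem val1 (i : Fin m) : (finProdFinEquiv (i, (1 : Fin 2))).val = 2 * i.val + 1 := by
  simp [finProdFinEquiv]; omega

private theorem e_pair (i : Fin m) : aa R m i * bb R m i + bb R m i * aa R m i = 1 := by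
  have := e_swap R m (finProdFinEquiv (i, (0 : Fin 2))) (finProdFinEquiv (i, (1 : Fin 2)))
  rw [Bf_single, Bf_single, if_pos (by rw [val0, val1]; omega), if_neg (by rw [val0, val1]; omega),
    add_zero, map_one] at this
  exact this

/-- `e_j` commutes with `u_i` when `j` is not in the `i`-th pair. -/
private theorem e_comm_u (j : Fin (m * 2)) (i : Fin m) (h : j.val / 2 ≠ i.val) :
    ee R m j * uu R m i = uu R m i * ee R m j := by
  apply c_u
  · exact e_anti R m _ _ (by rw [val0]; omega)
  · exact e_anti R m _ _ (by rw [val1]; omega)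

/-- `e_j` anticommutes with `u_i` when `j` is in the `i`-th pair. -/
private theorem e_anti_u (j : Fin (m * 2)) (i : Fin m) (h : j.val / 2 = i.val) :
    ee R m j * uu R m i = -(uu R m i * ee R m j) := by
  rcases Nat.mod_two_eq_zero_or_one j.val with h0 | h1
  · have hj : j = finProdFinEquiv (i, (0 : Fin 2)) := by
      apply Fin.ext; rw [val0]; omega
    rw [hj]
    exact a_u _ _ (e_sq R m _) (e_pair R m i)
  · have hj : j = finProdFinEquiv (i, (1 : Fin 2)) := by
      apply Fin.ext; rw [val1]; omega
    rw [hj]
    exact b_u _ _ (e_pair R m i)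

private theorem u_comm (i k : Fin m) : uu R m i * uu R m k = uu R m k * uu R m i := by
  by_cases hik : i = k
  · rw [hik]
  · have hne : i.val ≠ k.val := fun h => hik (Fin.ext h)
    have h1 : aa R m i * uu R m k = uu R m k * aa R m i :=
      e_comm_u R m _ k (by rw [val0]; omega)
    have h2 : bb R m i * uu R m k = uu R m k * bb R m i :=
      e_comm_u R m _ k (by rw [val1]; omega)
    have h3 : (aa R m i * bb R m i) * uu R m k = uu R m k * (aa R m i * bb R m i) := by
      rw [mul_assoc, h2, ← mul_assoc, h1, mul_assoc]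
    calc uu R m i * uu R m k = uu R m k - 2 * ((aa R m i * bb R m i) * uu R m k) := by noncomm_ring
      _ = uu R m k - 2 * (uu R m k * (aa R m i * bb R m i)) := by rw [h3]
      _ = uu R m k * uu R m i := by noncomm_ring

private noncomputable abbrev PP (L : List (Fin m)) : CliffordAlgebra (QQ R m) := (L.map (uu R m)).prod

private theorem PP_sq (L : List (Fin m)) : PP R m L * PP R m L = 1 := by
  induction L with
  | nil => simp [PP]
  | cons i L ih =>
    have hc : Commute (uu R m i) (PP R m L) := by
      apply Commute.list_prod_right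
      intro x hx
      obtain ⟨k, _, rfl⟩ := List.mem_map.1 hx
      exact u_comm R m i k
    have : PP R m (i :: L) = uu R m i * PP R m L := by simp [PP]
    rw [this]
    calc uu R m i * PP R m L * (uu R m i * PP R m L)
        = uu R m i * (PP R m L * uu R m i) * PP R m L := by noncomm_ring
      _ = uu R m i * (uu R m i * PP R m L) * PP R m L := by rw [hc.eq]
      _ = (uu R m i * uu R m i) * (PP R m L * PP R m L) := by noncomm_ring
      _ = 1 := by rw [ih, u_sq _ _ (e_sq R m _) (e_pair R m i), mul_one]

private theorem PP_e (j : Fin (m * 2)) (L : List (Fin m)) (hL : L.Nodup) :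
    ((⟨j.val / 2, by omega⟩ : Fin m) ∉ L → ee R m j * PP R m L = PP R m L * ee R m j) ∧
    ((⟨j.val / 2, by omega⟩ : Fin m) ∈ L → ee R m j * PP R m L = -(PP R m L * ee R m j)) := by
  induction L with
  | nil => simp [PP]
  | cons i L ih =>
    have hnd := List.nodup_cons.1 hL
    obtain ⟨ih1, ih2⟩ := ih hnd.2
    have hP : PP R m (i :: L) = uu R m i * PP R m L := by simp [PP]
    rw [hP]
    by_cases hi : (⟨j.val / 2, by omega⟩ : Fin m) = i
    · have hiv : j.val / 2 = i.val := congrArg Fin.val hi
      have hnot : (⟨j.val / 2, by omega⟩ : Fin m) ∉ L := hi ▸ hnd.1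
      refine ⟨fun h => absurd (hi ▸ List.mem_cons_self) h, fun _ => ?_⟩
      rw [← mul_assoc, e_anti_u R m j i hiv, neg_mul, mul_assoc, ih1 hnot, mul_assoc]
    · have hiv : j.val / 2 ≠ i.val := fun h => hi (Fin.ext h)
      constructor
      · intro h
        have hnot : (⟨j.val / 2, by omega⟩ : Fin m) ∉ L := fun h' => h (List.mem_cons_of_mem _ h')
        rw [← mul_assoc, e_comm_u R m j i hiv, mul_assoc, ih1 hnot, mul_assoc]
      · intro h
        have hmem : (⟨j.val / 2, by omega⟩ : Fin m) ∈ L := by
          rcases List.mem_cons.1 h with h' | h'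
          · exact absurd h' hi
          · exact h'
        rw [← mul_assoc, e_comm_u R m j i hiv, mul_assoc, ih2 hmem, mul_neg, mul_assoc]

end aux

/-- For the standard split quadratic form Σ x_{2i} x_{2i+1} on R^{2m} over any commutative ring R, with
standard basis vectors e_j in the Clifford algebra, the product w of the elements 1 − 2 e_{2i}
e_{2i+1} (i < m, which pairwise commute) satisfies w² = 1 and anticommutes with every e_j. (Hence w
is central in the even Clifford algebra; over rings in which 2 is invertible (1 − w)/2 is the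
non-trivial central idempotent of the even part.) -/
theorem result (R : Type u) [CommRing R] (m : ℕ) :
    let Q := QuadGrp.splitForm R (m * 2)
    let e : Fin (m * 2) → CliffordAlgebra Q := fun j => CliffordAlgebra.ι Q (Pi.single j 1)
    let w : CliffordAlgebra Q :=
      ((List.finRange m).map fun i => 1 - 2 * (e (finProdFinEquiv (i, 0)) * e (finProdFinEquiv (i, 1)))).prod
    w * w = 1 ∧ ∀ j : Fin (m * 2), e j * w = -(w * e j) := by
  intro Q e w
  show PP R m (List.finRange m) * PP R m (List.finRange m) = 1 ∧
    ∀ j : Fin (m * 2), ee R m j * PP R m (List.finRange m) = -(PP R m (List.finRange m) * ee R m j)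
  refine ⟨PP_sq R m _, fun j => ?_⟩
  exact (PP_e R m j _ (List.nodup_finRange m)).2 (List.mem_finRange _)

end Groth.Agent.S17016
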