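import Groth.Statements.S17017
import Mathlib
-- import your own Groth.Agent.* helpers here

set_option autoImplicit false
set_option linter.unusedSimpArgs false
set_option linter.unusedSectionVars false
universe u
open QuadGrp

namespace Groth.Agent.S17017

open CliffordAlgebra QuadGrp

section gen
variable {k A : Type*} [CommRing k] [Ring A] [Algebra k A]

/-- the Clifford relations of `x₀² + x₁x₂` -/
structure Rel (E₀ E₁ E₂ : A) : Prop where
  h00 : E₀ * E₀ = 1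
  h11 : E₁ * E₁ = 0
  h22 : E₂ * E₂ = 0
  h10 : E₁ * E₀ = -(E₀ * E₁)
  h20 : E₂ * E₀ = -(E₀ * E₂)
  h21 : E₂ * E₁ = 1 - E₁ * E₂

variable {E₀ E₁ E₂ : A} (hR : Rel E₀ E₁ E₂)
include hR

lemma Rel.h00' (x : A) : E₀ * (E₀ * x) = x := by rw [← mul_assoc, hR.h00, one_mul]
lemma Rel.h11' (x : A) : E₁ * (E₁ * x) = 0 := by rw [← mul_assoc, hR.h11, zero_mul]
lemma Rel.h22' (x : A) : E₂ * (E₂ * x) = 0 := by rw [← mul_assoc, hR.h22, zero_mul]
lemma Rel.h10' (x : A) : E₁ * (E₀ * x) = -(E₀ * (E₁ * x)) := by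
  rw [← mul_assoc, hR.h10, neg_mul, mul_assoc]
lemma Rel.h20' (x : A) : E₂ * (E₀ * x) = -(E₀ * (E₂ * x)) := by
  rw [← mul_assoc, hR.h20, neg_mul, mul_assoc]
lemma Rel.h21' (x : A) : E₂ * (E₁ * x) = x - E₁ * (E₂ * x) := by
  rw [← mul_assoc, hR.h21, sub_mul, one_mul, mul_assoc]

omit hR in
/-- the general even element -/
def X (E₀ E₁ E₂ : A) (α β γ δ : k) : A :=
  α • (1 : A) + β • (E₁ * E₂) + γ • (E₀ * E₁) + δ • (E₀ * E₂)

omit hR in
/-- its conjugate -/
def Xb (E₀ E₁ E₂ : A) (α β γ δ : k) : A :=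
  (α + β) • (1 : A) - β • (E₁ * E₂) - γ • (E₀ * E₁) - δ • (E₀ * E₂)

set_option hygiene false in
macro "cliff" : tactic => `(tactic|
  (simp only [X, Xb, mul_add, add_mul, mul_sub, sub_mul, smul_mul_assoc, mul_smul_comm, mul_one, one_mul,
    mul_assoc, hR.h00, hR.h11, hR.h22, hR.h10, hR.h20, hR.h21, hR.h00', hR.h11', hR.h22', hR.h10',
    hR.h20', hR.h21', mul_neg, neg_mul,
    mul_zero, zero_mul, smul_zero, smul_neg, smul_sub, smul_add, neg_neg, sub_zero, neg_zero,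
    add_zero, zero_add, zero_sub, sub_self]
   module))

lemma vec_mul_vec (a₀ a₁ a₂ b₀ b₁ b₂ : k) :
    (a₀ • E₀ + a₁ • E₁ + a₂ • E₂) * (b₀ • E₀ + b₁ • E₁ + b₂ • E₂) =
      X E₀ E₁ E₂ (a₀ * b₀ + a₂ * b₁) (a₁ * b₂ - a₂ * b₁) (a₀ * b₁ - a₁ * b₀) (a₀ * b₂ - a₂ * b₀) := by
  cliff

lemma X_mul_X (α₁ β₁ γ₁ δ₁ α₂ β₂ γ₂ δ₂ : k) :
    X E₀ E₁ E₂ α₁ β₁ γ₁ δ₁ * X E₀ E₁ E₂ α₂ β₂ γ₂ δ₂ =
      X E₀ E₁ E₂ (α₁ * α₂ - δ₁ * γ₂)
        ((α₁ + β₁) * (α₂ + β₂) - γ₁ * δ₂ - α₁ * α₂ + δ₁ * γ₂)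
        ((α₁ + β₁) * γ₂ + γ₁ * α₂) (δ₁ * (α₂ + β₂) + α₁ * δ₂) := by
  cliff

lemma X_mul_Xb (α β γ δ : k) :
    X E₀ E₁ E₂ α β γ δ * Xb E₀ E₁ E₂ α β γ δ = (α * (α + β) + γ * δ) • (1 : A) := by
  cliff

lemma X_E0_Xb (α β γ δ : k) :
    X E₀ E₁ E₂ α β γ δ * E₀ * Xb E₀ E₁ E₂ α β γ δ =
      (α * (α + β) - γ * δ) • E₀ + (-(2 * γ * (α + β))) • E₁ + (-(2 * α * δ)) • E₂ := by
  cliff

lemma X_E1_Xb (α β γ δ : k) :
    X E₀ E₁ E₂ α β γ δ * E₁ * Xb E₀ E₁ E₂ α β γ δ =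
      ((α + β) * δ) • E₀ + ((α + β) ^ 2) • E₁ + (-(δ ^ 2)) • E₂ := by
  cliff

lemma X_E2_Xb (α β γ δ : k) :
    X E₀ E₁ E₂ α β γ δ * E₂ * Xb E₀ E₁ E₂ α β γ δ =
      (α * γ) • E₀ + (-(γ ^ 2)) • E₁ + (α ^ 2) • E₂ := by
  cliff

end gen


section cliff

variable (k : Type u) [Field k]

lemma splitForm_three_apply (v : Fin 3 → k) :
    splitForm k 3 v = v 1 * v 2 + v 0 * v 0 := by
  unfold splitForm
  rw [dif_pos (by norm_num)]
  rw [add_apply, sum_apply]
  have h1 : ∀ f : Fin (3 / 2) → k, ∑ i, f i = f ⟨0, by norm_num⟩ := by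
    intro f
    show ∑ i : Fin 1, f i = _
    rw [Fin.sum_univ_one]
    rfl
  rw [h1]
  rfl

/-- the images of the basis vectors -/
noncomputable def EE (i : Fin 3) : CliffordAlgebra (splitForm k 3) :=
  ι (splitForm k 3) (Pi.single i 1)

lemma polar_eq (v w : Fin 3 → k) :
    QuadraticMap.polar (splitForm k 3) v w = v 1 * w 2 + w 1 * v 2 + 2 * v 0 * w 0 := by
  unfold QuadraticMap.polar
  rw [splitForm_three_apply, splitForm_three_apply, splitForm_three_apply]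
  simp only [Pi.add_apply]
  ring

lemma rel : Rel (EE k 0) (EE k 1) (EE k 2) := by
  refine ⟨?_, ?_, ?_, ?_, ?_, ?_⟩
  · unfold EE
    rw [ι_sq_scalar, splitForm_three_apply]
    simp
  · unfold EE
    rw [ι_sq_scalar, splitForm_three_apply]
    simp
  · unfold EE
    rw [ι_sq_scalar, splitForm_three_apply]
    simp
  · unfold EE
    apply eq_neg_of_add_eq_zero_left
    rw [ι_mul_ι_add_swap, polar_eq]
    simp
  · unfold EE
    apply eq_neg_of_add_eq_zero_left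
    rw [ι_mul_ι_add_swap, polar_eq]
    simp
  · unfold EE
    rw [eq_sub_iff_add_eq, ι_mul_ι_add_swap, polar_eq]
    simp

lemma ι_eq (v : Fin 3 → k) :
    ι (splitForm k 3) v = v 0 • EE k 0 + v 1 • EE k 1 + v 2 • EE k 2 := by
  unfold EE
  rw [← map_smul, ← map_smul, ← map_smul, ← map_add, ← map_add]
  congr 1
  ext i
  fin_cases i <;> simp

lemma even_eq (x : CliffordAlgebra (splitForm k 3)) (hx : x ∈ evenOdd (splitForm k 3) 0) :
    ∃ α β γ δ : k, x = X (EE k 0) (EE k 1) (EE k 2) α β γ δ := by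
  induction x, hx using even_induction with
  | algebraMap r =>
    exact ⟨r, 0, 0, 0, by simp [X, Algebra.algebraMap_eq_smul_one]⟩
  | add x y hx hy ihx ihy =>
    obtain ⟨α, β, γ, δ, rfl⟩ := ihx
    obtain ⟨α', β', γ', δ', rfl⟩ := ihy
    exact ⟨α + α', β + β', γ + γ', δ + δ', by simp only [X]; module⟩
  | ι_mul_ι_mul m₁ m₂ x hx ih =>
    obtain ⟨α, β, γ, δ, rfl⟩ := ih
    rw [ι_eq, ι_eq, vec_mul_vec (rel k), X_mul_X (rel k)]
    exact ⟨_, _, _, _, rfl⟩

lemma reverse_X (α β γ δ : k) :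
    reverse (X (EE k 0) (EE k 1) (EE k 2) α β γ δ) = Xb (EE k 0) (EE k 1) (EE k 2) α β γ δ := by
  have hR := rel k
  have h1 : reverse (EE k 1 * EE k 2) = 1 - EE k 1 * EE k 2 := by
    rw [reverse.map_mul]
    unfold EE
    rw [reverse_ι, reverse_ι]
    exact hR.h21
  have h2 : reverse (EE k 0 * EE k 1) = -(EE k 0 * EE k 1) := by
    rw [reverse.map_mul]
    unfold EE
    rw [reverse_ι, reverse_ι]
    exact hR.h10
  have h3 : reverse (EE k 0 * EE k 2) = -(EE k 0 * EE k 2) := by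
    rw [reverse.map_mul]
    unfold EE
    rw [reverse_ι, reverse_ι]
    exact hR.h20
  unfold X Xb
  rw [map_add, map_add, map_add, map_smul, map_smul, map_smul, map_smul, h1, h2, h3,
    reverse.map_one]
  module

lemma conj_mem (u : (CliffordAlgebra (splitForm k 3))ˣ)
    (hu : (u : CliffordAlgebra (splitForm k 3)) ∈ evenOdd (splitForm k 3) 0) (v : Fin 3 → k) :
    (u : CliffordAlgebra (splitForm k 3)) * ι (splitForm k 3) v * ↑u⁻¹ ∈
      LinearMap.range (ι (splitForm k 3)) := by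
  obtain ⟨α, β, γ, δ, hx⟩ := even_eq k _ hu
  have hR := rel k
  have h1 : (u : CliffordAlgebra (splitForm k 3)) * Xb (EE k 0) (EE k 1) (EE k 2) α β γ δ =
      (α * (α + β) + γ * δ) • 1 := by rw [hx, X_mul_Xb hR]
  have h2 : Xb (EE k 0) (EE k 1) (EE k 2) α β γ δ =
      (α * (α + β) + γ * δ) • (↑u⁻¹ : CliffordAlgebra (splitForm k 3)) := by
    calc Xb (EE k 0) (EE k 1) (EE k 2) α β γ δ
        = ↑u⁻¹ * (↑u * Xb (EE k 0) (EE k 1) (EE k 2) α β γ δ) := by
          rw [← mul_assoc, Units.inv_mul, one_mul]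
      _ = _ := by rw [h1, mul_smul_comm, mul_one]
  have hE : ∀ i, EE k i ∈ LinearMap.range (ι (splitForm k 3)) := fun i => ⟨_, rfl⟩
  have h3 : (u : CliffordAlgebra (splitForm k 3)) * ι (splitForm k 3) v *
      Xb (EE k 0) (EE k 1) (EE k 2) α β γ δ ∈ LinearMap.range (ι (splitForm k 3)) := by
    rw [ι_eq, mul_add, mul_add, add_mul, add_mul, mul_smul_comm, mul_smul_comm, mul_smul_comm,
      smul_mul_assoc, smul_mul_assoc, smul_mul_assoc, hx, X_E0_Xb hR, X_E1_Xb hR, X_E2_Xb hR]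
    have hmem : ∀ c₀ c₁ c₂ : k, c₀ • EE k 0 + c₁ • EE k 1 + c₂ • EE k 2 ∈
        LinearMap.range (ι (splitForm k 3)) := fun c₀ c₁ c₂ =>
      Submodule.add_mem _ (Submodule.add_mem _ (Submodule.smul_mem _ _ (hE 0))
        (Submodule.smul_mem _ _ (hE 1))) (Submodule.smul_mem _ _ (hE 2))
    exact Submodule.add_mem _ (Submodule.add_mem _ (Submodule.smul_mem _ _ (hmem _ _ _))
      (Submodule.smul_mem _ _ (hmem _ _ _))) (Submodule.smul_mem _ _ (hmem _ _ _))
  by_cases hN0 : α * (α + β) + γ * δ = 0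
  · have h4 : Xb (EE k 0) (EE k 1) (EE k 2) α β γ δ = 0 := by rw [h2, hN0, zero_smul]
    have h5 : (u : CliffordAlgebra (splitForm k 3)) = 0 := by
      have h6 := reverse_X k α β γ δ
      rw [← hx, h4] at h6
      have h7 := reverse_reverse (u : CliffordAlgebra (splitForm k 3))
      rw [h6, map_zero] at h7
      exact h7.symm
    rw [h5, zero_mul, zero_mul]
    exact Submodule.zero_mem _
  · have h8 : (u : CliffordAlgebra (splitForm k 3)) * ι (splitForm k 3) v * ↑u⁻¹ =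
        (α * (α + β) + γ * δ)⁻¹ • ((u : CliffordAlgebra (splitForm k 3)) * ι (splitForm k 3) v *
          Xb (EE k 0) (EE k 1) (EE k 2) α β γ δ) := by
      rw [h2, mul_smul_comm, smul_smul, inv_mul_cancel₀ hN0, one_smul]
    rw [h8]
    exact Submodule.smul_mem _ _ h3

end cliff

/-- Over a field k, for the standard split quadratic form x₀² + x₁x₂ on k³, every even unit of the
Clifford algebra normalises the subspace k³, i.e. lies in the naive Clifford group; so the even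
Clifford group is the whole unit group of the even Clifford algebra. (The published claim is made
over fields of characteristic different from 2; here it is stated for every field.) -/
theorem result (k : Type u) [Field k] :
    QuadGrp.evenUnits (QuadGrp.splitForm k 3) ≤ QuadGrp.GPin' (QuadGrp.splitForm k 3) := by
  intro u hu
  rw [mem_GPin']
  have hu' : u⁻¹ ∈ evenUnits (splitForm k 3) := (evenUnits (splitForm k 3)).inv_mem hu
  rw [mem_evenUnits] at hu hu'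
  apply le_antisymm
  · intro y hy
    rw [Submodule.mem_smul_pointwise_iff_exists] at hy
    obtain ⟨b, ⟨v, rfl⟩, rfl⟩ := hy
    rw [ConjAct.units_smul_def, ConjAct.ofConjAct_toConjAct]
    exact conj_mem k u hu v
  · rintro y ⟨v, rfl⟩
    rw [Submodule.mem_smul_pointwise_iff_exists]
    refine ⟨↑u⁻¹ * ι (splitForm k 3) v * ↑u, ?_, ?_⟩
    · have := conj_mem k u⁻¹ hu' v
      rwa [inv_inv] at this
    · rw [ConjAct.units_smul_def, ConjAct.ofConjAct_toConjAct]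
      simp [mul_assoc]

end Groth.Agent.S17017
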