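import Groth.Statements.S1702
import Groth.Agent.Lib.Helper29.RelEffCart

set_option autoImplicit false
universe u
open CategoryTheory CategoryTheory.Limits AlgebraicGeometry TopologicalSpace
open SDiv

namespace Groth.Agent.S1702

open Groth.Agent.Lib.Helper29.EffCart Groth.Agent.Lib.Helper29.FlatExt


/-- Let f : X ⟶ S be a morphism and 𝓘₁, 𝓘₂ ideal sheaves of effective Cartier divisors on X whose closed
subschemes are flat over S. Then the product ideal 𝓘₁𝓘₂ (the sum of the divisors) is again the ideal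
of an effective Cartier divisor flat over S. -/
theorem result {X S : Scheme.{u}} (f : X ⟶ S) (𝓘₁ 𝓘₂ : X.IdealSheafData)
    (h₁ : (BlowUp.IsEffCartierIdeal 𝓘₁ ∧ Flat (𝓘₁.subschemeι ≫ f))) (h₂ : (BlowUp.IsEffCartierIdeal 𝓘₂ ∧ Flat (𝓘₂.subschemeι ≫ f))) : (BlowUp.IsEffCartierIdeal (𝓘₁ * 𝓘₂) ∧ Flat ((𝓘₁ * 𝓘₂).subschemeι ≫ f)) := by
  refine ⟨isEffCartierIdeal_mul 𝓘₁ 𝓘₂ h₁.1 h₂.1, ?_⟩
  apply flat_subschemeι_comp_of_forall
  intro x _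
  obtain ⟨_, ⟨V, hV, rfl⟩, hfxV, -⟩ :=
    S.isBasis_affineOpens.exists_subset_of_mem_open (Set.mem_univ (f x)) isOpen_univ
  obtain ⟨W, hxW, hle, ⟨t₁, ht₁, hI₁⟩, ⟨t₂, ht₂, hI₂⟩⟩ :=
    exists_affine_principal_nzd_le₂ 𝓘₁ 𝓘₂ h₁.1 h₂.1 x (f ⁻¹ᵁ V) hfxV
  refine ⟨⟨V, hV⟩, W, hxW, hle, ?_⟩
  letI := (f.appLE V W.1 hle).hom.toAlgebra
  have e₁ := flat_quotient_of_flat_subschemeι_comp f 𝓘₁ h₁.2 ⟨V, hV⟩ W hle
  have e₂ := flat_quotient_of_flat_subschemeι_comp f 𝓘₂ h₂.2 ⟨V, hV⟩ W hle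
  rw [hI₁] at e₁
  rw [hI₂] at e₂
  rw [Scheme.IdealSheafData.ideal_mul, Pi.mul_apply, hI₁, hI₂,
    Ideal.span_singleton_mul_span_singleton]
  exact flat_quotient_mul t₁ t₂ ht₂

end Groth.Agent.S1702
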