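import Groth.Statements.S17023
import Mathlib.RingTheory.AdicCompletion.LocalRing
import Mathlib.RingTheory.Smooth.AdicCompletion
-- import your own Groth.Agent.* helpers here

set_option autoImplicit false
universe u
open FlatMor

namespace Groth.Agent.S17023

open IsLocalRing


section dvr
variable {C : Type*} [CommRing C] [IsLocalRing C] (π : C)
  (hm : maximalIdeal C = Ideal.span {π}) [IsHausdorff (maximalIdeal C) C]
  (hπ : ∀ n : ℕ, π ^ n ≠ 0)
include hm

lemma exists_unit_mul_pow (x : C) (hx : x ≠ 0) : ∃ (n : ℕ) (u : C), IsUnit u ∧ x = u * π ^ n := by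
  have h1 : ¬ ∀ n : ℕ, x ∈ Ideal.span {π ^ n} := by
    intro h
    apply hx
    apply IsHausdorff.haus (I := maximalIdeal C) inferInstance x
    intro n
    rw [SModEq.zero, smul_eq_mul, Ideal.mul_top, hm, Ideal.span_singleton_pow]
    exact h n
  push Not at h1
  classical
  have hfind := Nat.find_spec h1
  have hmin := fun k => Nat.find_min h1 (m := k)
  set n := Nat.find h1 with hn
  have hn0 : n ≠ 0 := by
    intro h0
    rw [h0, pow_zero, Ideal.span_singleton_one] at hfind
    exact hfind Submodule.mem_top
  obtain ⟨k, hk⟩ := Nat.exists_eq_succ_of_ne_zero hn0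
  have hxk : x ∈ Ideal.span {π ^ k} := by
    by_contra hcon
    exact hmin k (by omega) hcon
  obtain ⟨u, hu⟩ := Ideal.mem_span_singleton'.mp hxk
  refine ⟨k, u, ?_, hu.symm⟩
  by_contra hnu
  have humem : u ∈ maximalIdeal C := (mem_maximalIdeal u).mpr hnu
  rw [hm] at humem
  obtain ⟨a, ha⟩ := Ideal.mem_span_singleton'.mp humem
  apply hfind
  rw [hk, Ideal.mem_span_singleton']
  refine ⟨a, ?_⟩
  rw [← hu, ← ha, pow_succ]
  ring

include hπ

lemma isDomain_of : IsDomain C := by
  have : NoZeroDivisors C := by
    constructor
    intro x y hxy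
    by_contra hcon
    push Not at hcon
    obtain ⟨a, u, hu, rfl⟩ := exists_unit_mul_pow π hm x hcon.1
    obtain ⟨b, v, hv, rfl⟩ := exists_unit_mul_pow π hm y hcon.2
    have : (u * v) * π ^ (a + b) = 0 := by
      rw [← hxy, pow_add]; ring
    rw [(hu.mul hv).mul_right_eq_zero] at this
    exact hπ _ this
  exact NoZeroDivisors.to_isDomain C

lemma isDVR_of [IsDomain C] : IsDiscreteValuationRing C := by
  apply IsDiscreteValuationRing.ofHasUnitMulPowIrreducibleFactorization
  refine ⟨π, ?_, ?_⟩
  · have hπ0 : π ≠ 0 := by simpa using hπ 1
    have : (Ideal.span {π}).IsPrime := by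
      rw [← hm]; infer_instance
    exact ((Ideal.span_singleton_prime hπ0).mp this).irreducible
  · intro x hx
    obtain ⟨n, u, hu, rfl⟩ := exists_unit_mul_pow π hm x hx
    refine ⟨n, hu.unit, ?_⟩
    rw [mul_comm]
    rfl

end dvr


/-- Let B be a discrete valuation ring, A a B-algebra of finite type and p a prime ideal of A which lies
over the maximal ideal of B (a point of the special fibre), at which A is smooth over B (the
localization A_p is formally smooth over B), and such that B maps onto the residue field κ(p). Then
there are a discrete valuation ring B' and a ring map ψ : A → B' pulling the maximal ideal of B'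
back to p, such that the composite B → A → B' is injective, the maximal ideal of B generates the
maximal ideal of B', and B maps onto the residue field of B'; in other words Spec B' → Spec A → Spec
B is surjective and unramified with trivial residue field extension. (The published statement does
not say that the closed point of Spec B' goes to p; it is required here. The published setting takes
A essentially of finite type over a field of characteristic zero; here A is taken of finite type
over B, with no ground field.) -/
theorem result
    (B : Type u) [CommRing B] [IsDomain B] [IsDiscreteValuationRing B]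
    (A : Type u) [CommRing A] [Algebra B A] [Algebra.FiniteType B A]
    (p : Ideal A) [p.IsPrime] (hp : p.comap (algebraMap B A) = IsLocalRing.maximalIdeal B)
    [Algebra.IsSmoothAt B p]
    (hres : Function.Surjective ((algebraMap A p.ResidueField).comp (algebraMap B A))) :
    ∃ (B' : Type u) (_ : CommRing B') (_ : IsDomain B') (_ : IsDiscreteValuationRing B') (ψ : A →+* B'),
      Ideal.comap ψ (IsLocalRing.maximalIdeal B') = p ∧
      Function.Injective (ψ.comp (algebraMap B A)) ∧
      Ideal.map (ψ.comp (algebraMap B A)) (IsLocalRing.maximalIdeal B) = IsLocalRing.maximalIdeal B' ∧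
      Function.Surjective ((IsLocalRing.residue B').comp (ψ.comp (algebraMap B A))) := by
  obtain ⟨π, hπirr⟩ := IsDiscreteValuationRing.exists_irreducible B
  have hmB : maximalIdeal B = Ideal.span {π} := hπirr.maximalIdeal_eq
  -- the map A_p → B/m
  let φ : B →ₐ[B] p.ResidueField := Algebra.ofId B p.ResidueField
  have hφ : Function.Surjective φ := by
    intro y
    obtain ⟨b, hb⟩ := hres y
    refine ⟨b, ?_⟩
    rw [← hb]
    change algebraMap B p.ResidueField b = _
    rw [IsScalarTower.algebraMap_apply B A p.ResidueField]
    rfl
  have hker : RingHom.ker φ = maximalIdeal B := by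
    rw [← hp]
    ext b
    rw [RingHom.mem_ker, Ideal.mem_comap, ← Ideal.algebraMap_residueField_eq_zero,
      ← IsScalarTower.algebraMap_apply B A p.ResidueField]
    rfl
  let e : (B ⧸ RingHom.ker φ) ≃ₐ[B] p.ResidueField := Ideal.quotientKerAlgEquivOfSurjective hφ
  let res : Localization.AtPrime p →ₐ[B] p.ResidueField :=
    IsScalarTower.toAlgHom B (Localization.AtPrime p) p.ResidueField
  let f : Localization.AtPrime p →ₐ[B] B ⧸ maximalIdeal B :=
    (Ideal.quotientEquivAlgOfEq B hker).toAlgHom.comp (e.symm.toAlgHom.comp res)
  have hfinj : ∀ x, f x = 0 ↔ res x = 0 := by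
    intro x
    change (Ideal.quotientEquivAlgOfEq B hker) (e.symm (res x)) = 0 ↔ _
    rw [map_eq_zero_iff _ (Ideal.quotientEquivAlgOfEq B hker).injective,
      map_eq_zero_iff _ e.symm.injective]
  haveI : Algebra.FormallySmooth B (Localization.AtPrime p) := ‹Algebra.IsSmoothAt B p›
  obtain ⟨g, hg⟩ := Algebra.FormallySmooth.exists_adicCompletionEvalOneₐ_comp_eq f
  -- the completion
  have hm' : maximalIdeal (AdicCompletion (maximalIdeal B) B) =
      Ideal.span {algebraMap B (AdicCompletion (maximalIdeal B) B) π} := by
    rw [AdicCompletion.maximalIdeal_eq_map, hmB, Ideal.map_span, Set.image_singleton]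
  have hinj : Function.Injective (algebraMap B (AdicCompletion (maximalIdeal B) B)) :=
    AdicCompletion.of_injective (maximalIdeal B) B
  have hπ' : ∀ n : ℕ, (algebraMap B (AdicCompletion (maximalIdeal B) B) π) ^ n ≠ 0 := by
    intro n
    rw [← map_pow]
    intro h0
    exact pow_ne_zero n hπirr.ne_zero (hinj (h0.trans (map_zero _).symm))
  haveI hdom : IsDomain (AdicCompletion (maximalIdeal B) B) := isDomain_of _ hm' hπ'
  have hdvr : IsDiscreteValuationRing (AdicCompletion (maximalIdeal B) B) := isDVR_of _ hm' hπ'
  have hcomp : (g.toRingHom.comp (algebraMap A (Localization.AtPrime p))).comp (algebraMap B A) =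
      algebraMap B (AdicCompletion (maximalIdeal B) B) := by
    refine RingHom.ext fun b => ?_
    change g (algebraMap A (Localization.AtPrime p) (algebraMap B A b)) = _
    rw [← IsScalarTower.algebraMap_apply B A (Localization.AtPrime p), g.commutes]
  have hkerEval : maximalIdeal (AdicCompletion (maximalIdeal B) B) =
      RingHom.ker (AdicCompletion.evalOneₐ (maximalIdeal B)).toRingHom := by
    symm
    apply IsLocalRing.eq_maximalIdeal
    letI := Ideal.Quotient.field (maximalIdeal B)
    exact RingHom.ker_isMaximal_of_surjective (K := B ⧸ maximalIdeal B)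
      (AdicCompletion.evalOneₐ (maximalIdeal B)).toRingHom
      (AdicCompletion.evalOneₐ_surjective (maximalIdeal B))
  refine ⟨AdicCompletion (maximalIdeal B) B, inferInstance, hdom, hdvr,
    g.toRingHom.comp (algebraMap A (Localization.AtPrime p)), ?_, ?_, ?_, ?_⟩
  · ext x
    rw [Ideal.mem_comap]
    change _ ∈ maximalIdeal (AdicCompletion (maximalIdeal B) B) ↔ _
    rw [hkerEval, RingHom.mem_ker]
    have h1 : (AdicCompletion.evalOneₐ (maximalIdeal B)).toRingHom
        ((g.toRingHom.comp (algebraMap A (Localization.AtPrime p))) x) =
        f (algebraMap A (Localization.AtPrime p) x) := by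
      rw [← hg]
      rfl
    rw [h1, hfinj]
    change algebraMap (Localization.AtPrime p) p.ResidueField
      (algebraMap A (Localization.AtPrime p) x) = 0 ↔ _
    rw [← IsScalarTower.algebraMap_apply A (Localization.AtPrime p) p.ResidueField,
      Ideal.algebraMap_residueField_eq_zero]
  · rw [hcomp]
    exact hinj
  · rw [hcomp]
    exact AdicCompletion.maximalIdeal_eq_map.symm
  · rw [hcomp]
    intro y
    obtain ⟨z, rfl⟩ := (AdicCompletion.residueField_map_bijective B).2 y
    obtain ⟨b, rfl⟩ := IsLocalRing.residue_surjective z
    exact ⟨b, rfl⟩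

end Groth.Agent.S17023
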