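import Groth.Statements.S1703
import Groth.Agent.Lib.Helper5.KLJ

set_option autoImplicit false
universe u
open CategoryTheory CategoryTheory.Limits AlgebraicGeometry TopologicalSpace
open SDiv

namespace Groth.Agent.S1703

/-- Let f : X ⟶ S be locally of finite presentation and 𝓘 the ideal sheaf of an effective Cartier
divisor D ⊂ X with D ⟶ S flat. Then there is an open subscheme U of X containing D such that U ⟶ S
is flat. -/
theorem result {X S : Scheme.{u}} (f : X ⟶ S) [LocallyOfFinitePresentation f] (𝓘 : X.IdealSheafData)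
    (hD : (BlowUp.IsEffCartierIdeal 𝓘 ∧ Flat (𝓘.subschemeι ≫ f))) : ∃ U : X.Opens, (𝓘.support : Set ↥X) ⊆ U ∧ Flat (U.ι ≫ f) := by
  obtain ⟨hC, hfl⟩ := hD
  refine ⟨Groth.Agent.Lib.Helper5.KL.flatLocus f, ?_, Groth.Agent.Lib.Helper5.KL.flat_flatLocus f⟩
  intro x hx
  rw [← Scheme.IdealSheafData.range_subschemeι] at hx
  obtain ⟨z, rfl⟩ := hx
  obtain ⟨U, hzU, t, ht, hI⟩ := hC (𝓘.subschemeι z)
  have hreg : RegImm.IsRegularImmersionAt RegImm.Kind.h1 𝓘.subschemeι z := by
    refine ⟨U, hzU, inferInstance, [t], ?_, ?_⟩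
    · intro a ha
      have h0 : a 0 * t = 0 := by simpa using ha
      have h1 : a 0 = 0 := (mem_nonZeroDivisors_iff_right.mp ht) _ h0
      have h2 : a = 0 := by
        funext j
        have : j = (0 : Fin 1) := Subsingleton.elim (α := Fin 1) _ _
        rw [this]
        exact h1
      rw [h2]
      exact zero_mem _
    · rw [← Scheme.Hom.ker_apply, Scheme.IdealSheafData.ker_subschemeι, hI]
      simp [Ideal.ofList]
  exact Groth.Agent.Lib.Helper5.KL.flat_stalkMap_of_isTransRegularImmersionAt f _ z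
    (Groth.Agent.Lib.Helper5.KL.isTransRegularImmersionAt_of_h1 f _ hfl z hreg)

end Groth.Agent.S1703
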