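import Groth.Statements.S8868
import Groth.Agent.Lib.Helper29.QCohStalk

set_option autoImplicit false
universe u
open CategoryTheory CategoryTheory.Limits AlgebraicGeometry TopologicalSpace
open SDiv

namespace Groth.Agent.S8868

open Groth.Agent.Lib.Helper29.QCohStalk Groth.Agent.Lib.Helper28.QCohLoc

theorem isZero_iff_sections {X : Scheme.{u}} (F : X.Modules) :
    IsZero F ↔ ∀ (U : X.Opens) (m : Γ(F, U)), m = 0 := by
  rw [IsZero.iff_id_eq_zero]
  constructor
  · intro h U m
    have h1 : (𝟙 F : F ⟶ F).app U = (0 : F ⟶ F).app U := by rw [h]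
    have h2 := congrArg (fun φ => φ m) h1
    exact h2
  · intro h
    apply Scheme.Modules.hom_ext
    intro U
    ext m
    rw [h U ((𝟙 F : F ⟶ F).app U m), h U ((0 : F ⟶ F).app U m)]

theorem not_isWeakAssPoint_of_isZero {X : Scheme.{u}} (F : X.Modules) (h : IsZero F) (x : X) :
    ¬ Curv2.IsWeakAssPoint F x := by
  rw [isWeakAssPoint_def]
  rintro ⟨μ, hμ⟩
  obtain ⟨V, hxV, t, rfl⟩ := TopCat.Presheaf.exists_germ_eq F.presheaf μ
  have ht : t = 0 := (isZero_iff_sections F).1 h V t
  have h1 : (1 : X.presheaf.stalk x) ∈ (ann (R := X.presheaf.stalk x) (F.presheaf.germ V x hxV t)).radical := by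
    apply Ideal.le_radical
    rw [mem_ann, ht, map_zero, smul_zero]
  rw [hμ] at h1
  exact (IsLocalRing.maximalIdeal.isMaximal _).ne_top ((Ideal.eq_top_iff_one _).2 h1)

theorem isZero_of_forall_not_isWeakAssPoint {X : Scheme.{u}} (F : X.Modules) [F.IsQuasicoherent]
    (h : ∀ x : X, ¬ Curv2.IsWeakAssPoint F x) : IsZero F := by
  rw [isZero_iff_sections]
  intro W m
  refine eq_of_locally_eq F (fun V : {V : X.affineOpens // V.1 ≤ W} => V.1.1) W (fun V => V.2) ?_ m 0 ?_
  · intro x hx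
    obtain ⟨_, ⟨V, hV, rfl⟩, hxV, hVW⟩ := X.isBasis_affineOpens.exists_subset_of_mem_open hx W.2
    exact TopologicalSpace.Opens.mem_iSup.2 ⟨⟨⟨V, hV⟩, hVW⟩, hxV⟩
  · intro V
    rw [res_zero]
    by_contra hne
    obtain ⟨x, hxV, hwa, -⟩ := exists_isWeakAssPoint_of_ne_zero V.1.2
      (isLocOn_of_isQuasicoherent F V.1.2) _ hne
    exact h x hwa

/-- Let X be a scheme and F a quasi-coherent O_X-module. Then F is zero if and only if F has no weakly
associated point. -/
theorem result (X : Scheme.{u}) (F : X.Modules) (hF : Coh.IsQCoh F) :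
    IsZero F ↔ ∀ x : ↥X, ¬ Curv2.IsWeakAssPoint F x := by
  haveI : F.IsQuasicoherent := hF
  exact ⟨fun h x => not_isWeakAssPoint_of_isZero F h x, isZero_of_forall_not_isWeakAssPoint F⟩

end Groth.Agent.S8868
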