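import Groth.Statements.S1706
import Groth.Agent.Lib.Helper29.QCohStalk

set_option autoImplicit false
universe u
open CategoryTheory CategoryTheory.Limits AlgebraicGeometry TopologicalSpace
open SDiv

namespace Groth.Agent.S1706

open Groth.Agent.Lib.Helper29.QCohStalk Groth.Agent.Lib.Helper28.QCohLoc


/-- Let X be a scheme, F a quasi-coherent module and U an open subset containing every weakly associated
point of F. Then the restriction map Γ(X, F) → Γ(U, F) is injective. -/
theorem result (X : Scheme.{u}) (F : X.Modules) (hF : Coh.IsQCoh F)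
    (U : X.Opens) (hU : ∀ x : ↥X, Curv2.IsWeakAssPoint F x → x ∈ U) :
    Function.Injective (F.presheaf.map (homOfLE (le_top : U ≤ ⊤)).op) := by
  haveI : F.IsQuasicoherent := hF
  rw [injective_iff_map_eq_zero]
  intro s hs
  refine eq_of_locally_eq F (fun V : X.affineOpens => V.1) ⊤ (fun _ => le_top) ?_ s 0 ?_
  · rw [iSup_affineOpens_eq_top]
  · intro V
    rw [res_zero]
    by_contra hne
    obtain ⟨x, hxV, hwa, hgm⟩ := exists_isWeakAssPoint_of_ne_zero V.2
      (isLocOn_of_isQuasicoherent F V.2) _ hne
    have hxU : x ∈ U := hU x hwa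
    apply hgm
    rw [gm_res, ← gm_res F (le_top : U ≤ ⊤) x hxU s]
    have : res F (le_top : U ≤ ⊤) s = 0 := hs
    rw [this, gm_zero]

end Groth.Agent.S1706
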