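import Groth.Statements.S17065
import Mathlib.RingTheory.Filtration
import Mathlib.RingTheory.Finiteness.Nakayama
-- import your own Groth.Agent.* helpers here

set_option autoImplicit false
universe u
open CAlg

namespace Groth.Agent.S17065

/-- The local algebraic statement its proof establishes: let A be a Noetherian ring, I ≤ J radical
ideals and Â the J-adic completion of A. If J^n Â ⊆ I Â for some n, then the closed set V(J) is open
inside V(I) ⊆ Spec A. (Globally: if X₂ ⊆ X₁ are the completions of a locally Noetherian scheme along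
nested closed subsets Z₂ ⊆ Z₁ and the ideal of Z₁ generates an ideal of definition of X₂, then X₂ is
a union of connected components of X₁.) -/
theorem result (A : Type u) [CommRing A] [IsNoetherianRing A]
    (I J : Ideal A) (hIJ : I ≤ J) (hI : I.IsRadical) (hJ : J.IsRadical) (n : ℕ)
    (h : (J ^ n).map (algebraMap A (AdicCompletion J A)) ≤ I.map (algebraMap A (AdicCompletion J A))) :
    IsOpen ((fun x : PrimeSpectrum.zeroLocus (I : Set A) => (x : PrimeSpectrum A)) ⁻¹'
      PrimeSpectrum.zeroLocus (J : Set A)) := by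
  -- step 1: for x ∈ J^n, ∀ m, x ∈ I ⊔ J^m
  have h1 : ∀ x ∈ J ^ n, ∀ m : ℕ, x ∈ I ⊔ J ^ m := by
    intro x hx m
    have hx' : algebraMap A (AdicCompletion J A) x ∈ I.map (algebraMap A (AdicCompletion J A)) :=
      h (Ideal.mem_map_of_mem _ hx)
    have h2 := Ideal.mem_map_of_mem (AdicCompletion.evalₐ J m).toRingHom hx'
    rw [Ideal.map_map] at h2
    have h3 : (AdicCompletion.evalₐ J m).toRingHom.comp
        (algebraMap A (AdicCompletion J A)) = Ideal.Quotient.mk (J ^ m) := by
      ext a
      exact (AdicCompletion.evalₐ J m).commutes a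
    rw [h3] at h2
    have h4 : (AdicCompletion.evalₐ J m).toRingHom (algebraMap A _ x) =
        Ideal.Quotient.mk (J ^ m) x :=
      (AdicCompletion.evalₐ J m).commutes x
    rw [h4] at h2
    have h5 := Ideal.mem_comap.mpr h2
    rwa [Ideal.comap_map_of_surjective _ Ideal.Quotient.mk_surjective, ← RingHom.ker_eq_comap_bot,
      Ideal.mk_ker] at h5
  -- step 2: elementwise Krull
  have h2 : ∀ x ∈ J ^ n, ∃ r ∈ J, r • (Ideal.Quotient.mk I x) = Ideal.Quotient.mk I x := by
    intro x hx
    have hmem : (Ideal.Quotient.mk I x) ∈ (⨅ i : ℕ, J ^ i • ⊤ : Submodule A (A ⧸ I)) := by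
      rw [Submodule.mem_iInf]
      intro m
      obtain ⟨i, hi, y, hy, rfl⟩ := Submodule.mem_sup.mp (h1 x hx m)
      rw [map_add, Ideal.Quotient.eq_zero_iff_mem.mpr hi, zero_add]
      have : Ideal.Quotient.mk I y = y • (1 : A ⧸ I) := by
        rw [Algebra.smul_def, mul_one]; rfl
      rw [this]
      exact Submodule.smul_mem_smul hy Submodule.mem_top
    obtain ⟨r, hr⟩ := (Ideal.mem_iInf_smul_pow_eq_bot_iff J _).mp hmem
    exact ⟨r, r.2, hr⟩
  -- step 3: Nakayama
  obtain ⟨r, hr1, hr2⟩ := Submodule.exists_sub_one_mem_and_smul_eq_zero_of_fg_of_le_smul J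
    (Submodule.map I.mkQ (J ^ n)) ((IsNoetherian.noetherian (J ^ n)).map _) (by
      rintro _ ⟨x, hx, rfl⟩
      obtain ⟨r, hr, hrx⟩ := h2 x hx
      change Ideal.Quotient.mk I x ∈ _
      rw [← hrx]
      exact Submodule.smul_mem_smul hr ⟨x, hx, rfl⟩)
  have hr3 : ∀ x ∈ J ^ n, r * x ∈ I := by
    intro x hx
    have := hr2 _ ⟨x, hx, rfl⟩
    rw [← Ideal.Quotient.eq_zero_iff_mem]
    exact this
  have hset : ((fun x : PrimeSpectrum.zeroLocus (I : Set A) => (x : PrimeSpectrum A)) ⁻¹'
      PrimeSpectrum.zeroLocus (J : Set A)) =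
      (fun x : PrimeSpectrum.zeroLocus (I : Set A) => (x : PrimeSpectrum A)) ⁻¹'
        (PrimeSpectrum.basicOpen r : Set (PrimeSpectrum A)) := by
    ext ⟨p, hp⟩
    simp only [Set.mem_preimage, PrimeSpectrum.mem_zeroLocus, SetLike.coe_subset_coe,
      SetLike.mem_coe, PrimeSpectrum.mem_basicOpen] at hp ⊢
    constructor
    · intro hJp hrp
      have h1p : (1 : A) ∈ p.asIdeal := by
        have := p.asIdeal.sub_mem hrp (hJp hr1)
        rwa [sub_sub_cancel] at this
      exact p.2.ne_top ((Ideal.eq_top_iff_one _).mpr h1p)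
    · intro hrp
      apply Ideal.IsPrime.le_of_pow_le (n := n)
      intro x hx
      exact (p.2.mem_or_mem (hp (hr3 x hx))).resolve_left hrp
  rw [hset]
  exact (PrimeSpectrum.basicOpen r).isOpen.preimage continuous_subtype_val

end Groth.Agent.S17065
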