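import Groth.Statements.S17073
import Groth.Agent.Lib.Helper2.LCEW
import Groth.Agent.Lib.Helper2.LCCompare

set_option autoImplicit false
open CategoryTheory
universe u
open LocCoh

namespace Groth.Agent.S17073

section Helpers

open CategoryTheory MonoidalCategory Groth.Agent.Lib.Helper2 Groth.Agent.Lib.helper11

theorem cd_of_radical {S : Type u} [CommRing S] [IsNoetherianRing S]
    (J : Ideal S) (d : ℕ) (u : Fin d → S) (hu : ∀ i, u i ∈ J)
    (hJ : J ≤ (Ideal.span (Set.range u)).radical) : LCInj3.Cd J d := by
  classical
  intro N i hi
  let s : Finset S := Finset.image u Finset.univ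
  have hs : Ideal.span (s : Set S) = Ideal.span (Set.range u) := by
    congr 1
    ext x
    simp [s]
  have hcard : s.card ≤ d := by
    have := Finset.card_image_le (s := (Finset.univ : Finset (Fin d))) (f := u)
    simpa [s] using this
  have hle : Ideal.span (s : Set S) ≤ J := by
    rw [hs, Ideal.span_le]
    rintro _ ⟨j, rfl⟩
    exact hu j
  have hle' : J ≤ (Ideal.span (s : Set S)).radical := by
    rw [hs]
    exact hJ
  have h0 : Subsingleton ((localCohomology (Ideal.span (s : Set S)) i).obj N) :=
    LCInj3.cd_span s N i (by omega)
  have hbij := LCCompare.HmapOfLE_bijective_of_le_radical (M := N) hle hle' i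
  exact hbij.1.subsingleton

end Helpers

/-- Let R → S be a homomorphism of Noetherian rings, J an ideal of S containing elements u₁, …, u_d such
that S/(u₁, …, u_d) is a finite R-module and J lies in the radical of (u₁, …, u_d), and let F be a
finite R-module. Then the functor sending an S-module E to the set Hom_R(H^d_J(E), F) (d-th local
cohomology supported in J, scalars restricted to R) is representable by an S-module. (The published
statement gives the representing module as the degree −d cohomology of RHom_R(RΓ_J S, F) and a
bifunctorial isomorphism; only representability is asserted here.) -/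
theorem result
    (R S : Type u) [CommRing R] [CommRing S] [IsNoetherianRing R] [IsNoetherianRing S] [Algebra R S]
    (J : Ideal S) (d : ℕ) (u : Fin d → S) (hu : ∀ i, u i ∈ J)
    (hJ : J ≤ (Ideal.span (Set.range u)).radical) [Module.Finite R (S ⧸ Ideal.span (Set.range u))]
    (F : Type u) [AddCommGroup F] [Module R F] [Module.Finite R F] :
    ((localCohomology J d ⋙ ModuleCat.restrictScalars (algebraMap R S)).op ⋙
      yoneda.obj (ModuleCat.of R F)).IsRepresentable := by
  have hcd := cd_of_radical J d u hu hJ
  haveI := Groth.Agent.Lib.Helper2.LCEW.lc_isIso_tau J d hcd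
  let T := localCohomology J d
  let e : MonoidalCategory.tensorLeft (T.obj (ModuleCat.of S S)) ≅ T :=
    asIso (Groth.Agent.Lib.helper11.EW.tau T)
  let adj1 := ihom.adjunction (T.obj (ModuleCat.of S S))
  let adj2 := ModuleCat.restrictCoextendScalarsAdj.{u, u, u} (algebraMap R S)
  let adj := (adj1.comp adj2).ofNatIsoLeft
    (Functor.isoWhiskerRight e (ModuleCat.restrictScalars (algebraMap R S)))
  exact (adj.representableBy (ModuleCat.of R F)).isRepresentable

end Groth.Agent.S17073
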