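import Groth.Statements.S17080
import Mathlib
import Groth.Prelude.Def_Flatn

set_option autoImplicit false
universe u
open CategoryTheory CategoryTheory.Limits AlgebraicGeometry
open MorSch

namespace Groth.Agent.S17080

section helpers

open CategoryTheory CategoryTheory.Limits AlgebraicGeometry Opposite


variable {X Y U S : Scheme.{u}} (gX : X ⟶ S) [UniversallyClosed gX] (gY : Y ⟶ S)
  (j : U ⟶ Y) [IsOpenImmersion j] (M : Over S) (e : (Flatn.morS gX gY).RepresentableBy M)

/-- the universal morphism -/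
noncomputable def ξ : pullback M.hom gX ⟶ Y := (e.homEquiv (𝟙 M)).left

/-- the open locus of `M` where the universal morphism lands in `U` -/
noncomputable def M₀ : M.left.Opens :=
  ⟨((pullback.fst M.hom gX) '' ((ξ gX gY M e) ⁻¹' (Set.range j)ᶜ))ᶜ, by
    rw [isOpen_compl_iff]
    exact (pullback.fst M.hom gX).isClosedMap _
      ((j.isOpenEmbedding.isOpen_range.isClosed_compl).preimage (ξ gX gY M e).continuous)⟩

theorem mem_M₀ (p : M.left) : p ∈ M₀ gX gY j M e ↔
    ∀ z : ↥(pullback M.hom gX), pullback.fst M.hom gX z = p → ξ gX gY M e z ∈ Set.range j := by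
  change p ∉ _ ↔ _
  rw [Set.mem_image]
  constructor
  · intro h z hz
    by_contra hzU
    exact h ⟨z, hzU, hz⟩
  · rintro h ⟨z, hzU, hz⟩
    exact hzU (h z hz)

omit [UniversallyClosed gX] in
theorem homEquiv_left {T : Over S} (ψ : T ⟶ M) :
    (e.homEquiv ψ).left = ((Over.pullback gX).map ψ).left ≫ ξ gX gY M e := by
  rw [e.homEquiv_eq]; rfl

theorem key {T : Over S} (ψ : T ⟶ M) :
    Set.range (e.homEquiv ψ).left ⊆ Set.range j ↔
      Set.range ψ.left ⊆ (M₀ gX gY j M e : Set M.left) := by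
  obtain ⟨m, hm⟩ : ∃ m : pullback T.hom gX ⟶ pullback M.hom gX,
    m = ((Over.pullback gX).map ψ).left := ⟨_, rfl⟩
  have hm1 : m ≫ pullback.fst M.hom gX = pullback.fst T.hom gX ≫ ψ.left := by
    rw [hm]; exact pullback.lift_fst _ _ _
  have hm2 : m ≫ pullback.snd M.hom gX = pullback.snd T.hom gX := by
    rw [hm]; exact pullback.lift_snd _ _ _
  have hw : ψ.left ≫ M.hom = T.hom := Over.w ψ
  have hpb : IsPullback m (pullback.fst T.hom gX) (pullback.fst M.hom gX) ψ.left := by
    refine IsPullback.of_right ?_ hm1 (IsPullback.of_hasPullback M.hom gX).flip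
    rw [hm2, hw]
    exact (IsPullback.of_hasPullback T.hom gX).flip
  have hl : (e.homEquiv ψ).left = m ≫ ξ gX gY M e := by rw [hm]; exact homEquiv_left gX gY M e ψ
  constructor
  · rintro hG _ ⟨t, rfl⟩
    rw [SetLike.mem_coe, mem_M₀]
    intro z hz
    obtain ⟨z', hz'1, hz'2⟩ := Scheme.Pullback.exists_preimage_pullback
      (f := pullback.fst M.hom gX) (g := ψ.left) z t hz
    have e1 : m (hpb.isoPullback.inv z') = z := by
      change (hpb.isoPullback.inv ≫ m) z' = z
      rw [IsPullback.isoPullback_inv_fst]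
      exact hz'1
    have := hG ⟨hpb.isoPullback.inv z', rfl⟩
    rw [hl] at this
    change ξ gX gY M e (m (hpb.isoPullback.inv z')) ∈ Set.range j at this
    rwa [e1] at this
  · rintro hr _ ⟨z, rfl⟩
    rw [hl]
    change ξ gX gY M e (m z) ∈ Set.range j
    have hp : ψ.left (pullback.fst T.hom gX z) ∈ M₀ gX gY j M e := hr ⟨_, rfl⟩
    rw [mem_M₀] at hp
    apply hp
    change (m ≫ pullback.fst M.hom gX) z = _
    rw [hm1]
    rfl

section rep

/-- the inclusion of the open as a morphism over `S` -/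
noncomputable def ι₀ : Over.mk ((M₀ gX gY j M e).ι ≫ M.hom) ⟶ M := Over.homMk (M₀ gX gY j M e).ι rfl

/-- composition with `j` -/
noncomputable def pj : Over.mk (j ≫ gY) ⟶ Over.mk gY := Over.homMk j rfl

omit [UniversallyClosed gX] in
theorem pj_mono {T : Over S} (c c' : (Flatn.morS gX (j ≫ gY)).obj (op T))
    (h : c ≫ pj gY j = c' ≫ pj gY j) : c = c' := by
  apply Over.OverMorphism.ext
  have := congrArg (fun d => d.left) h
  exact (cancel_mono j).1 this

theorem ι₀_mono {T : Over S} (φ φ' : T ⟶ Over.mk ((M₀ gX gY j M e).ι ≫ M.hom))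
    (h : φ ≫ ι₀ gX gY j M e = φ' ≫ ι₀ gX gY j M e) : φ = φ' := by
  apply Over.OverMorphism.ext
  have := congrArg (fun d => d.left) h
  exact (cancel_mono (M₀ gX gY j M e).ι).1 this

theorem exists_lift {T : Over S} (φ : T ⟶ Over.mk ((M₀ gX gY j M e).ι ≫ M.hom)) :
    ∃ c : (Flatn.morS gX (j ≫ gY)).obj (op T),
      c ≫ pj gY j = e.homEquiv (φ ≫ ι₀ gX gY j M e) := by
  have hr : Set.range (e.homEquiv (φ ≫ ι₀ gX gY j M e)).left ⊆ Set.range j := by
    rw [key]
    rintro _ ⟨t, rfl⟩
    change (φ.left ≫ (M₀ gX gY j M e).ι) t ∈ _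
    exact (φ.left t).2
  obtain ⟨l, hl⟩ : ∃ l : pullback T.hom gX ⟶ U, l ≫ j = (e.homEquiv (φ ≫ ι₀ gX gY j M e)).left :=
    ⟨IsOpenImmersion.lift j _ hr, IsOpenImmersion.lift_fac _ _ _⟩
  have hw : l ≫ j ≫ gY = pullback.snd T.hom gX ≫ gX := by
    rw [← Category.assoc, hl]
    exact Over.w (e.homEquiv (φ ≫ ι₀ gX gY j M e))
  exact ⟨Over.homMk l hw, Over.OverMorphism.ext hl⟩

/-- the classifying map -/
noncomputable def toFun {T : Over S} (φ : T ⟶ Over.mk ((M₀ gX gY j M e).ι ≫ M.hom)) :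
    (Flatn.morS gX (j ≫ gY)).obj (op T) := (exists_lift gX gY j M e φ).choose

theorem toFun_spec {T : Over S} (φ : T ⟶ Over.mk ((M₀ gX gY j M e).ι ≫ M.hom)) :
    toFun gX gY j M e φ ≫ pj gY j = e.homEquiv (φ ≫ ι₀ gX gY j M e) :=
  (exists_lift gX gY j M e φ).choose_spec

theorem toFun_injective {T : Over S} :
    Function.Injective (toFun gX gY j M e (T := T)) := by
  intro φ φ' h
  apply ι₀_mono
  apply e.homEquiv.injective
  rw [← toFun_spec, ← toFun_spec, h]

theorem toFun_surjective {T : Over S} :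
    Function.Surjective (toFun gX gY j M e (T := T)) := by
  intro c
  obtain ⟨ψ, hψ⟩ : ∃ ψ : T ⟶ M, e.homEquiv ψ = c ≫ pj gY j :=
    ⟨e.homEquiv.symm _, Equiv.apply_symm_apply _ _⟩
  have hr : Set.range ψ.left ⊆ (M₀ gX gY j M e : Set M.left) := by
    rw [← key, hψ]
    rintro _ ⟨z, rfl⟩
    exact ⟨c.left z, rfl⟩
  have hr' : Set.range ψ.left ⊆ Set.range (M₀ gX gY j M e).ι := by
    rw [Scheme.Opens.range_ι]; exact hr
  obtain ⟨l, hl⟩ : ∃ l : T.left ⟶ (M₀ gX gY j M e).toScheme, l ≫ (M₀ gX gY j M e).ι = ψ.left :=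
    ⟨IsOpenImmersion.lift _ _ hr', IsOpenImmersion.lift_fac _ _ _⟩
  have hw : l ≫ (M₀ gX gY j M e).ι ≫ M.hom = T.hom := by
    rw [← Category.assoc, hl]; exact Over.w ψ
  refine ⟨Over.homMk l hw, ?_⟩
  apply pj_mono
  rw [toFun_spec, ← hψ]
  congr 1
  exact Over.OverMorphism.ext hl

/-- the representation of `Mor_S(X, U)` by the open subscheme -/
noncomputable def e₀ : (Flatn.morS gX (j ≫ gY)).RepresentableBy
    (Over.mk ((M₀ gX gY j M e).ι ≫ M.hom)) where
  homEquiv := Equiv.ofBijective (toFun gX gY j M e)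
    ⟨toFun_injective gX gY j M e, toFun_surjective gX gY j M e⟩
  homEquiv_comp {_ _} a φ := by
    change toFun gX gY j M e (a ≫ φ) = (Flatn.morS gX (j ≫ gY)).map a.op (toFun gX gY j M e φ)
    apply pj_mono
    rw [toFun_spec, Category.assoc, e.homEquiv_comp, ← toFun_spec]
    rfl

theorem main : ∃ (M₀ : M.left.Opens)
      (e₀ : (Flatn.morS gX (j ≫ gY)).RepresentableBy (Over.mk (M₀.ι ≫ M.hom))),
      ∀ (T : Over S) (φ : T ⟶ Over.mk (M₀.ι ≫ M.hom)),
        (e.homEquiv (φ ≫ Over.homMk M₀.ι rfl) :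
            (Over.map gX).obj ((Over.pullback gX).obj T) ⟶ Over.mk gY) =
          (e₀.homEquiv φ : (Over.map gX).obj ((Over.pullback gX).obj T) ⟶ Over.mk (j ≫ gY)) ≫
            (Over.homMk j rfl : Over.mk (j ≫ gY) ⟶ Over.mk gY) :=
  ⟨M₀ gX gY j M e, e₀ gX gY j M e, fun _ φ => (toFun_spec gX gY j M e φ).symm⟩

end rep


end helpers

/-- Let gX : X → S be proper and flat, gY : Y → S separated and j : U → Y an open immersion, and suppose
the functor Mor_S(X, Y) — S-schemes T ↦ S-morphisms T ×_S X → Y — is represented by an S-scheme M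
via e. Then there are an open subset M₀ of M and a representation e₀ of Mor_S(X, U) by the open
subscheme M₀ (viewed over S through M) which is compatible with e: for every S-morphism φ : T → M₀,
the S-morphism T ×_S X → Y classified by φ followed by the inclusion M₀ → M is the S-morphism T ×_S
X → U classified by φ, followed by j. In particular the morphism Mor_S(X, U) → Mor_S(X, Y) induced
by j is an open immersion. (Published for X projective and flat and Y quasi-projective over a
locally Noetherian S, which is how M is known to exist there; representability is taken as a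
hypothesis here.) -/
theorem result
    {X Y U S : Scheme.{u}} (gX : X ⟶ S) [IsProper gX] [Flat gX] (gY : Y ⟶ S) [IsSeparated gY]
    (j : U ⟶ Y) [IsOpenImmersion j] (M : Over S) (e : (Flatn.morS gX gY).RepresentableBy M) :
    ∃ (M₀ : M.left.Opens)
      (e₀ : (Flatn.morS gX (j ≫ gY)).RepresentableBy (Over.mk (M₀.ι ≫ M.hom))),
      ∀ (T : Over S) (φ : T ⟶ Over.mk (M₀.ι ≫ M.hom)),
        (e.homEquiv (φ ≫ Over.homMk M₀.ι rfl) :
            (Over.map gX).obj ((Over.pullback gX).obj T) ⟶ Over.mk gY) =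
          (e₀.homEquiv φ : (Over.map gX).obj ((Over.pullback gX).obj T) ⟶ Over.mk (j ≫ gY)) ≫
            (Over.homMk j rfl : Over.mk (j ≫ gY) ⟶ Over.mk gY) := by
  exact main gX gY j M e

end Groth.Agent.S17080
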