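import Groth.Statements.S17083
import Groth.Agent.Lib.Helper29.BlowUpUP3
import Groth.Agent.S3861
import Groth.Agent.S8852

set_option autoImplicit false
universe u
open CategoryTheory CategoryTheory.Limits AlgebraicGeometry
open MorSch

namespace Groth.Agent.S17083

open Groth.Agent.Lib.Helper29.EffCart
open Opposite TopologicalSpace


/-- The closed immersion constructed in its proof, as follows. Let X be a scheme, I₁ and I₂
quasi-coherent ideal sheaves on X with I₁ + I₂ = O_X, so that they cut out disjoint closed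
subschemes Z₁ and Z₂, let σ : B → X be a blow-up of X in the ideal I₁ ∩ I₂ of Z₁ ∪ Z₂, and let σ₁ :
B₁ → X and σ₂ : B₂ → X be blow-ups of X in Z₁ and in Z₂ (blow-up in the sense of the universal
property: the inverse image ideal is effective Cartier, finally so). Then there is a morphism ι : B
→ B₁ ×_X B₂ over X which is a closed immersion; the components B → B_i are necessarily the unique
X-morphisms given by the universal properties. (Published for X a projective space over an
algebraically closed field, Z₂ a closed point and Z₁ a finite set of closed points not containing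
it, and iterated there to embed the blow-up at r distinct points as a closed subscheme of the fibre
product over X of the r blow-ups at single points.) -/
theorem result
    {X B B₁ B₂ : Scheme.{u}} (I₁ I₂ : X.IdealSheafData) (hdisj : I₁ ⊔ I₂ = ⊤)
    (σ : B ⟶ X) (hσ : BlowUp.IsBlowUp σ (I₁ ⊓ I₂))
    (σ₁ : B₁ ⟶ X) (hσ₁ : BlowUp.IsBlowUp σ₁ I₁) (σ₂ : B₂ ⟶ X) (hσ₂ : BlowUp.IsBlowUp σ₂ I₂) :
    ∃ ι : B ⟶ pullback σ₁ σ₂, IsClosedImmersion ι ∧ ι ≫ pullback.fst σ₁ σ₂ ≫ σ₁ = σ := by
  -- comaximal: inf = product
  have hmul : I₁ ⊓ I₂ = I₁ * I₂ := by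
    ext U : 2
    have h1 : I₁.ideal U ⊔ I₂.ideal U = ⊤ := by
      have := congrArg (fun I => Scheme.IdealSheafData.ideal I U) hdisj
      simpa using this
    change I₁.ideal U ⊓ I₂.ideal U = I₁.ideal U * I₂.ideal U
    exact (Ideal.mul_eq_inf_of_coprime h1).symm
  rw [hmul] at hσ
  -- supports are disjoint
  have hsupp : ∀ x : X, x ∈ I₁.support → x ∈ I₂.support → False := by
    intro x h1 h2
    have : x ∈ (I₁ ⊔ I₂).support := by
      rw [Scheme.IdealSheafData.support_sup]
      exact ⟨h1, h2⟩
    rw [hdisj, Scheme.IdealSheafData.support_top] at this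
    exact this
  set π : pullback σ₁ σ₂ ⟶ X := pullback.fst σ₁ σ₂ ≫ σ₁ with hπdef
  have hπ' : π = pullback.snd σ₁ σ₂ ≫ σ₂ := pullback.condition
  have H : IsPullback (pullback.fst σ₁ σ₂) (pullback.snd σ₁ σ₂) σ₁ σ₂ := IsPullback.of_hasPullback _ _
  -- the fibre product is a blow-up of the product ideal
  have hP : BlowUp.IsBlowUp π (I₁ * I₂) := by
    refine ⟨?_, ?_⟩
    · rw [Groth.Agent.S3861.result]
      refine isEffCartierIdeal_mul _ _ ?_ ?_
      · rw [hπdef, Scheme.IdealSheafData.comap_comp]
        have := IsBlowUp.isIso_morphismRestrict hσ₂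
        have := isIso_morphismRestrict_of_isPullback H I₂.support.compl
        refine isEffCartierIdeal_comap_of_isIso_morphismRestrict (pullback.fst σ₁ σ₂)
          (σ₁ ⁻¹ᵁ I₂.support.compl) _ hσ₁.1 ?_
        intro y hy
        rw [SetLike.mem_coe, Scheme.IdealSheafData.support_comap] at hy
        exact fun h2 => hsupp _ hy h2
      · rw [hπ', Scheme.IdealSheafData.comap_comp]
        have := IsBlowUp.isIso_morphismRestrict hσ₁
        have := isIso_morphismRestrict_of_isPullback H.flip I₁.support.compl
        refine isEffCartierIdeal_comap_of_isIso_morphismRestrict (pullback.snd σ₁ σ₂)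
          (σ₂ ⁻¹ᵁ I₁.support.compl) _ hσ₂.1 ?_
        intro y hy
        rw [SetLike.mem_coe, Scheme.IdealSheafData.support_comap] at hy
        exact fun h1 => hsupp _ h1 hy
    · intro T h hT
      rw [Groth.Agent.S3861.result] at hT
      obtain ⟨hT1, hT2⟩ := Groth.Agent.S8852.result _ _ hT
      obtain ⟨k₁, hk₁, hk₁u⟩ := hσ₁.2 T h hT1
      obtain ⟨k₂, hk₂, hk₂u⟩ := hσ₂.2 T h hT2
      refine ⟨pullback.lift k₁ k₂ (hk₁.trans hk₂.symm), ?_, ?_⟩
      · change pullback.lift k₁ k₂ _ ≫ pullback.fst σ₁ σ₂ ≫ σ₁ = h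
        rw [pullback.lift_fst_assoc, hk₁]
      · intro m hm
        apply pullback.hom_ext
        · rw [pullback.lift_fst]
          apply hk₁u
          change (m ≫ pullback.fst σ₁ σ₂) ≫ σ₁ = h
          rw [Category.assoc]; exact hm
        · rw [pullback.lift_snd]
          apply hk₂u
          change (m ≫ pullback.snd σ₁ σ₂) ≫ σ₂ = h
          rw [Category.assoc, ← pullback.condition]; exact hm
  obtain ⟨ι, hι, -⟩ := hP.2 B σ hσ.1
  have := isIso_of_isBlowUp hσ hP ι hι
  exact ⟨ι, inferInstance, hι⟩

end Groth.Agent.S17083
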