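import Groth.Statements.S17088
import Groth.Agent.Lib.Helper23.HilbImm.Main

set_option autoImplicit false
universe u
open CategoryTheory CategoryTheory.Limits AlgebraicGeometry
open MorSch

namespace Groth.Agent.S17088

/-- Let f : X → S be a separated morphism, ι : W → X an immersion and T an S-scheme. For every closed
subscheme V of W ×_S T which is proper and flat over T — a T-point of the Hilbert functor of W over
S — the composite V → W ×_S T → X ×_S T is a closed immersion, and the map sending V to the ideal
sheaf of this composite, from T-points of the Hilbert functor of W to ideal sheaves on X ×_S T, is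
injective: an immersion induces a monomorphism of Hilbert functors. -/
theorem result
    {W X S : Scheme.{u}} (f : X ⟶ S) [IsSeparated f] (ι : W ⟶ X) [IsImmersion ι]
    (T : Over S) :
    (∀ V : FGA.HilbSet (ι ≫ f) T,
      IsClosedImmersion (V.1.subschemeι ≫ pullback.map (ι ≫ f) T.hom f T.hom ι (𝟙 T.left) (𝟙 S)
          (Category.comp_id _) ((Category.comp_id _).trans (Category.id_comp _).symm))) ∧
    Function.Injective (fun V : FGA.HilbSet (ι ≫ f) T =>
      (V.1.subschemeι ≫ pullback.map (ι ≫ f) T.hom f T.hom ι (𝟙 T.left) (𝟙 S)
          (Category.comp_id _) ((Category.comp_id _).trans (Category.id_comp _).symm)).ker) := by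
  have hm : IsImmersion (pullback.map (ι ≫ f) T.hom f T.hom ι (𝟙 T.left) (𝟙 S)
      (Category.comp_id _) ((Category.comp_id _).trans (Category.id_comp _).symm)) :=
    MorphismProperty.pullbackMap (P := @IsImmersion) (f := ι ≫ f) (g := T.hom) (f' := f)
      (g' := T.hom) (i₁ := ι) (i₂ := 𝟙 T.left) inferInstance inferInstance rfl
      (Category.id_comp _).symm
  have hsep : IsSeparated (pullback.snd f T.hom) := inferInstance
  have hcl : ∀ V : FGA.HilbSet (ι ≫ f) T,
      IsClosedImmersion (V.1.subschemeι ≫ pullback.map (ι ≫ f) T.hom f T.hom ι (𝟙 T.left) (𝟙 S)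
          (Category.comp_id _) ((Category.comp_id _).trans (Category.id_comp _).symm)) := by
    intro V
    haveI : IsProper ((V.1.subschemeι ≫ pullback.map (ι ≫ f) T.hom f T.hom ι (𝟙 T.left) (𝟙 S)
          (Category.comp_id _) ((Category.comp_id _).trans (Category.id_comp _).symm)) ≫
        pullback.snd f T.hom) := by
      rw [Category.assoc, pullback.lift_snd, Category.comp_id]
      exact V.2.1
    exact Groth.Agent.Lib.Helper23.HilbImm.isClosedImmersion_of_proper _ (pullback.snd f T.hom)
  refine ⟨hcl, ?_⟩
  intro V V' h
  haveI := hcl V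
  haveI := hcl V'
  exact Subtype.ext (Groth.Agent.Lib.Helper23.HilbImm.ideal_eq_of_ker_comp_eq V.1 V'.1 _ h)

end Groth.Agent.S17088
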