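import Groth.Statements.S1709
import Groth.Agent.S1708

set_option autoImplicit false
universe u
open CategoryTheory CategoryTheory.Limits AlgebraicGeometry TopologicalSpace
open SDiv

namespace Groth.Agent.S1709

open Groth.Agent.Lib.Helper29.QCohStalk Groth.Agent.Lib.Helper28.QCohLoc
open Groth.Agent.S1708

/-- In the Noetherian case the image of a weakly associated point is weakly associated to the direct image. -/
theorem isWeakAssPoint_pushforward_of_noetherian {X S : Scheme.{u}} (f : X ⟶ S) [QuasiCompact f]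
    [QuasiSeparated f] (F : X.Modules) [F.IsQuasicoherent] (V : S.Opens) (hV : IsAffineOpen V)
    (hU : IsAffineOpen (f ⁻¹ᵁ V)) [IsNoetherianRing Γ(X, f ⁻¹ᵁ V)] (x : X) (hxU : x ∈ f ⁻¹ᵁ V)
    (hx : Curv2.IsWeakAssPoint F x) :
    Curv2.IsWeakAssPoint ((Scheme.Modules.pushforward f).obj F) (f x) := by
  have hlocG := isLocOn_pushforward f F hV
  have hlocF := isLocOn_of_isQuasicoherent F hU
  obtain ⟨m, hm⟩ := exists_mem_minimalPrimes_of_isWeakAssPoint hU hlocF x hxU hx
  have hcolon : ∀ m' : Γ(F, f ⁻¹ᵁ V), ann (R := Γ(X, f ⁻¹ᵁ V)) m' = (⊥ : Submodule Γ(X, f ⁻¹ᵁ V) Γ(F, f ⁻¹ᵁ V)).colon {m'} := by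
    intro m'
    ext r
    rw [mem_ann, Submodule.mem_colon_singleton, Submodule.mem_bot]
  rw [hcolon] at hm
  obtain ⟨m', hm'⟩ := Submodule.exists_eq_colon_of_mem_minimalPrimes hm
  rw [← hcolon] at hm'
  have hfx : f x ∈ V := hxU
  refine isWeakAssPoint_of_mem_minimalPrimes hV hlocG (f x) hfx
    (show Γ((Scheme.Modules.pushforward f).obj F, V) from m') ?_
  rw [ann_pushforward, germPrime_map f V x hfx hxU, hm']
  have : ofPush f F V m' = m' := rfl
  rw [this]
  haveI : (Ideal.comap (f.app V).hom (ann (R := Γ(X, f ⁻¹ᵁ V)) m')).IsPrime := by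
    rw [← hm']; infer_instance
  rw [Ideal.minimalPrimes_eq_subsingleton_self]
  rfl

/-- Let f : X ⟶ S be an affine morphism with X locally Noetherian and F a quasi-coherent module on X.
Then the following subsets of S coincide: the image of the associated points of F, the associated
points of f_* F, the weakly associated points of f_* F, and the image of the weakly associated
points of F. -/
theorem result {X S : Scheme.{u}} (f : X ⟶ S) [IsAffineHom f] [IsLocallyNoetherian X] (F : X.Modules)
    (hF : Coh.IsQCoh F) :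
    (fun x => f x) '' {x : ↥X | Curv2.IsAssPoint F x} = {s : ↥S | Curv2.IsAssPoint ((Scheme.Modules.pushforward f).obj F) s} ∧
      {s : ↥S | Curv2.IsAssPoint ((Scheme.Modules.pushforward f).obj F) s} =
        {s : ↥S | Curv2.IsWeakAssPoint ((Scheme.Modules.pushforward f).obj F) s} ∧
      {s : ↥S | Curv2.IsWeakAssPoint ((Scheme.Modules.pushforward f).obj F) s} =
        (fun x => f x) '' {x : ↥X | Curv2.IsWeakAssPoint F x} := by
  haveI : F.IsQuasicoherent := hF
  have key : {s : ↥S | Curv2.IsWeakAssPoint ((Scheme.Modules.pushforward f).obj F) s} =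
        (fun x => f x) '' {x : ↥X | Curv2.IsWeakAssPoint F x} := by
    ext s
    constructor
    · intro hs
      obtain ⟨x, hx, hwa⟩ := Groth.Agent.S1708.result f F hF s hs
      exact ⟨x, hwa, hx⟩
    · rintro ⟨x, hwa, rfl⟩
      obtain ⟨_, ⟨V, (hV : IsAffineOpen V), rfl⟩, hsV, -⟩ := S.isBasis_affineOpens.exists_subset_of_mem_open
        (show f x ∈ (⊤ : S.Opens) from trivial) (⊤ : S.Opens).2
      have hU : IsAffineOpen (f ⁻¹ᵁ V) := hV.preimage f
      haveI : IsNoetherianRing Γ(X, f ⁻¹ᵁ V) := IsLocallyNoetherian.component_noetherian ⟨_, hU⟩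
      exact isWeakAssPoint_pushforward_of_noetherian f F V hV hU x hsV hwa
  simp_rw [isAssPoint_iff_isWeakAssPoint]
  exact ⟨key.symm, trivial, key⟩

end Groth.Agent.S1709
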