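import Groth.Statements.S1710
import Groth.Agent.Lib.Helper29.RelEffCart

set_option autoImplicit false
universe u
open CategoryTheory CategoryTheory.Limits AlgebraicGeometry TopologicalSpace
open SDiv

namespace Groth.Agent.S1710

open Groth.Agent.Lib.Helper29.EffCart Groth.Agent.Lib.Helper29.FlatExt


/-- Let f : X ⟶ S be a morphism and 𝓘₁, 𝓘₂ ideal sheaves of effective Cartier divisors D₁ ⊆ D₂ on X,
both flat over S, and let 𝓘 be the ideal sheaf of an effective Cartier divisor D with D₂ = D₁ + D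
(that is, 𝓘₁𝓘 = 𝓘₂). Then D is flat over S as well. -/
theorem result {X S : Scheme.{u}} (f : X ⟶ S) (𝓘₁ 𝓘₂ 𝓘 : X.IdealSheafData)
    (h₁ : (BlowUp.IsEffCartierIdeal 𝓘₁ ∧ Flat (𝓘₁.subschemeι ≫ f))) (h₂ : (BlowUp.IsEffCartierIdeal 𝓘₂ ∧ Flat (𝓘₂.subschemeι ≫ f))) (h : BlowUp.IsEffCartierIdeal 𝓘) (hsum : 𝓘₁ * 𝓘 = 𝓘₂) :
    Flat (𝓘.subschemeι ≫ f) := by
  apply flat_subschemeι_comp_of_forall
  intro x _
  obtain ⟨_, ⟨V, hV, rfl⟩, hfxV, -⟩ :=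
    S.isBasis_affineOpens.exists_subset_of_mem_open (Set.mem_univ (f x)) isOpen_univ
  obtain ⟨W, hxW, hle, ⟨t, ht, hI⟩, ⟨t₁, ht₁, hI₁⟩⟩ :=
    exists_affine_principal_nzd_le₂ 𝓘 𝓘₁ h h₁.1 x (f ⁻¹ᵁ V) hfxV
  refine ⟨⟨V, hV⟩, W, hxW, hle, ?_⟩
  letI := (f.appLE V W.1 hle).hom.toAlgebra
  have e₁ := flat_quotient_of_flat_subschemeι_comp f 𝓘₁ h₁.2 ⟨V, hV⟩ W hle
  have e₂ := flat_quotient_of_flat_subschemeι_comp f 𝓘₂ h₂.2 ⟨V, hV⟩ W hle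
  rw [hI₁] at e₁
  rw [← hsum, Scheme.IdealSheafData.ideal_mul, Pi.mul_apply, hI₁, hI,
    Ideal.span_singleton_mul_span_singleton, mul_comm t₁ t] at e₂
  rw [hI]
  exact flat_quotient_of_mul t t₁ ht₁

end Groth.Agent.S1710
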