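import Mathlib
import Groth.Statements.S17139
import Groth.Agent.Lib.Helper22.IsocDet2
-- import your own Groth.Agent.* helpers here

set_option autoImplicit false
universe u v
open Isoc

namespace Groth.Agent.S17139

open Groth.Agent.Lib.Helper22.IsocF Groth.Agent.Lib.helper10.IsocL in
/-- Let k be a perfect field of characteristic p, a ∈ ℤ, and (N, F) a non-zero σ^a-F-isocrystal over k
of height h, with b an L-basis of N indexed by Fin h and d the p-adic order of the determinant
coefficient of F in the basis b. If M is a W(k)-lattice in N and r ∈ ℤ, s > 0 satisfy F^s(M) = p^r ·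
M, then the first Newton slope λ₁(N, F) equals r/s, and r · h = s · d. (The published statement adds
that F^h(M) = p^d · M for the same lattice M; that clause is not established by the published proof
and fails when gcd(r, s) ≠ 1 — for a = 0, N = L², M = W², F with matrix rows (p, 1), (0, p) and p
odd one has F^p(M) = p^p · M, h = d = 2, but F²(M) ≠ p² · M — so it is omitted here; the converse
direction is a separate statement.) -/
theorem result (p : ℕ) [Fact p.Prime] (k : Type u) [Field k] [CharP k p] [PerfectRing k p] (a : ℤ)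
    (N : Type v) [AddCommGroup N] [Module (WittVector p k) N] [Module (FractionRing (WittVector p k)) N]
    [IsScalarTower (WittVector p k) (FractionRing (WittVector p k)) N]
    [Nontrivial N] (F : N →ₛₗ[Isoc.frob p k a] N) (hF : Isoc.IsIsoc F)
    (h : ℕ) (b : Module.Basis (Fin h) (FractionRing (WittVector p k)) N)
    (d : ℤ) (hd : Isoc.IsOrdP (Isoc.detCoeff b F) d)
    (M : Submodule (WittVector p k) N) (hM : M.IsLattice (FractionRing (WittVector p k)))
    (r : ℤ) (s : ℕ) (hs : 0 < s) (hFM : Isoc.latImg F s M = Isoc.pPow r M) :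
    Isoc.IsFirstSlope F ((r : ℝ) / s) ∧ r * h = s * d := by
  have hτW := preservesW_frob (p := p) (k := k) a
  have hτU := preservesUnits_frob (p := p) (k := k) a
  refine ⟨?_, le_antisymm ?_ ?_⟩
  · obtain ⟨c, o, ho⟩ := exists_isOrd_le hτW F hF.bijective.surjective hM.fg hM.span_eq_top
    obtain ⟨lam, hlam⟩ := exists_tendsto_div_of_superadditive
      (fun m n => isOrd_add_le hτW F (ho m).1 (ho n).1 (ho (m + n)).1) (fun n => (ho n).2)
    refine ⟨M, hM, o, fun n _ => (ho n).1, ?_⟩
    have hord : ∀ j : ℕ, Isoc.IsOrd M F (s * j) (r * j) := by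
      intro j
      refine ⟨latImg_mul_le hτW F hFM.le j, fun hcon => ?_⟩
      have h1 : Isoc.pPow (r * j) M ≤ Isoc.pPow (r * j + 1) M :=
        (pPow_mul_le_latImg_mul hτW F hFM.ge j).trans hcon
      have h2 : M ≤ Isoc.pPow 1 M := by
        have := pPow_mono (-(r * (j : ℤ))) h1
        rwa [pPow_pPow, pPow_pPow, neg_add_cancel, pPow_zero, neg_add_cancel_left] at this
      have := le_zero_of_le_pPow hM.fg hM.span_eq_top h2
      omega
    have ho_eq : ∀ j : ℕ, o (s * j) = r * j := by
      intro j
      exact le_antisymm (le_of_isOrd (hord j) (ho (s * j)).1.1) (le_of_isOrd (ho (s * j)).1 (hord j).1)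
    have hsub : Filter.Tendsto (fun j : ℕ => s * j) Filter.atTop Filter.atTop :=
      Filter.tendsto_atTop_mono (fun j => Nat.le_mul_of_pos_left j hs) Filter.tendsto_id
    have h1 := hlam.comp hsub
    have h2 : Filter.Tendsto ((fun n : ℕ => (o n : ℝ) / n) ∘ fun j : ℕ => s * j) Filter.atTop
        (nhds ((r : ℝ) / s)) := by
      refine tendsto_const_nhds.congr' ?_
      filter_upwards [Filter.eventually_ge_atTop 1] with j hj
      simp only [Function.comp_apply]
      rw [ho_eq j]
      have hj0 : (j : ℝ) ≠ 0 := by exact_mod_cast (by omega : j ≠ 0)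
      have hs0 : (s : ℝ) ≠ 0 := by exact_mod_cast (by omega : s ≠ 0)
      push_cast
      field_simp
    rw [← tendsto_nhds_unique h1 h2]
    exact hlam
  · exact mul_height_le_of_latImg_le b hτW hτU F hd hM.fg hM.span_eq_top hFM.le
  · exact le_mul_height_of_pPow_le b hτW hτU F hd hM.fg hM.span_eq_top hFM.ge

end Groth.Agent.S17139
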