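import Groth.Statements.S17143
-- import your own Groth.Agent.* helpers here
import Groth.Agent.Lib.helper10.IsocLattice
import Mathlib.Analysis.SpecificLimits.Basic
import Mathlib.Tactic.FieldSimp
import Mathlib.Tactic.Positivity

set_option autoImplicit false
universe u v
open Isoc

namespace Groth.Agent.S17143

open Groth.Agent.Lib.helper10 Filter Topology in
/-- Let k be a perfect field of characteristic p, a ∈ ℤ, W = W(k) with fraction field L, and (N, F) a
σ^a-F-isocrystal over k (N finite-dimensional over L, F a bijective σ^a-semilinear endomorphism)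
with first Newton slope λ₁(N, F) = lam. Then for m ∈ ℤ and n ∈ ℕ the twisted iterate (N, p^m F^n), a
σ^(an)-F-isocrystal, has first Newton slope n · lam + m. (The published statement allows every n ∈
ℤ, with F^n the inverse iterate for n < 0; that case is false in general, since the first slope of
(N, F⁻¹) is minus the LARGEST slope of (N, F): for N = N_0 ⊕ N_1, the sum of the standard
isocrystals of slopes 0 and 1, λ₁(N, F) = 0 while λ₁(N, F⁻¹) = −1. Only n ≥ 0 is stated here.) -/
theorem result (p : ℕ) [Fact p.Prime] (k : Type u) [Field k] [CharP k p] [PerfectRing k p] (a : ℤ)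
    (N : Type v) [AddCommGroup N] [Module (WittVector p k) N] [Module (FractionRing (WittVector p k)) N]
    [IsScalarTower (WittVector p k) (FractionRing (WittVector p k)) N]
    (F : N →ₛₗ[Isoc.frob p k a] N) (hF : Isoc.IsIsoc F) (lam : ℝ) (hlam : Isoc.IsFirstSlope F lam) (m : ℤ) (n : ℕ) :
    Isoc.IsFirstSlope ((p : (FractionRing (WittVector p k))) ^ m • Isoc.iter F n) (n * lam + m) := by
  obtain ⟨M, hM, o, ho, hlim⟩ := hlam
  -- `M` is not contained in `p M`
  have hMp : ¬ M ≤ Isoc.pPow 1 M := by
    intro hle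
    obtain ⟨h1, h2⟩ := ho 1 le_rfl
    apply h2
    calc Isoc.latImg F 1 M ≤ Isoc.latImg F 1 (Isoc.pPow 1 M) := IsocL.latImg_mono F 1 hle
      _ = Isoc.pPow 1 (Isoc.latImg F 1 M) := IsocL.latImg_pPow F 1 1 M
      _ ≤ Isoc.pPow 1 (Isoc.pPow (o 1) M) := IsocL.pPow_mono 1 h1
      _ = Isoc.pPow (o 1 + 1) M := by rw [IsocL.pPow_pPow, add_comm]
  -- the order function extended to `0`
  let o' : ℕ → ℤ := fun j => if j = 0 then 0 else o j
  have ho' : ∀ j : ℕ, Isoc.IsOrd M F j (o' j) := by
    intro j
    by_cases hj : j = 0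
    · subst hj
      simp only [o', if_true]
      refine ⟨?_, ?_⟩
      · rw [IsocL.latImg_zero, IsocL.pPow_zero]
      · rw [IsocL.latImg_zero, zero_add]; exact hMp
    · simp only [o', if_neg hj]
      exact ho j (Nat.one_le_iff_ne_zero.mpr hj)
  refine ⟨M, hM, fun j => m * j + o' (n * j), ?_, ?_⟩
  · intro j _
    obtain ⟨h1, h2⟩ := ho' (n * j)
    refine ⟨?_, ?_⟩
    · rw [IsocL.latImg_smul_iter, ← IsocL.pPow_pPow]
      exact IsocL.pPow_mono _ h1
    · rw [IsocL.latImg_smul_iter, add_assoc, ← IsocL.pPow_pPow, IsocL.pPow_le_pPow_iff]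
      exact h2
  · by_cases hn : n = 0
    · subst hn
      have : (fun j : ℕ => (((m * j + o' (0 * j) : ℤ)) : ℝ) / j) =ᶠ[atTop] fun _ => (m : ℝ) := by
        filter_upwards [eventually_ge_atTop 1] with j hj
        have hj0 : (j : ℝ) ≠ 0 := by positivity
        simp only [zero_mul, o', if_true, add_zero]
        push_cast
        field_simp
      rw [Nat.cast_zero, zero_mul, zero_add]
      exact (tendsto_congr' this).mpr tendsto_const_nhds
    · have hnj : Tendsto (fun j : ℕ => n * j) atTop atTop :=
        tendsto_id.const_mul_atTop' (Nat.pos_of_ne_zero hn)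
      have h1 : Tendsto (fun j : ℕ => ((o (n * j) : ℤ) : ℝ) / ((n * j : ℕ) : ℝ)) atTop (𝓝 lam) :=
        hlim.comp hnj
      have h2 : Tendsto (fun j : ℕ => (n : ℝ) * (((o (n * j) : ℤ) : ℝ) / ((n * j : ℕ) : ℝ)) + m)
          atTop (𝓝 (n * lam + m)) := (h1.const_mul _).add_const _
      refine (tendsto_congr' ?_).mpr h2
      filter_upwards [eventually_ge_atTop 1] with j hj
      have hj0 : (j : ℝ) ≠ 0 := by positivity
      have hn0 : (n : ℝ) ≠ 0 := by exact_mod_cast hn
      have hnj0 : n * j ≠ 0 := Nat.mul_ne_zero hn (by omega)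
      simp only [o', if_neg hnj0]
      push_cast
      field_simp
      ring

end Groth.Agent.S17143
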