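import Mathlib
import Groth.Statements.S17147
import Groth.Agent.Lib.Helper22.IsocKatz2
import Groth.Agent.Lib.Helper22.IsocBasis
-- import your own Groth.Agent.* helpers here

set_option autoImplicit false
universe u v
open Isoc

namespace Groth.Agent.S17147

open Groth.Agent.Lib.Helper22.IsocF in
/-- Let k be a perfect field of characteristic p, a ∈ ℤ, W = W(k) with fraction field L, and (N, F) a
σ^a-F-isocrystal over k (N finite-dimensional over L, F a bijective σ^a-semilinear endomorphism) of
height h, with b an L-basis of N indexed by Fin h and d the p-adic order of the determinant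
coefficient of F in b. If λ₁(N, F) = d/h, then there exists a W-lattice M in N with F^h(M) = p^d · M
(so (N, F) is isoclinic of slope d/h in the lattice sense). -/
theorem result (p : ℕ) [Fact p.Prime] (k : Type u) [Field k] [CharP k p] [PerfectRing k p] (a : ℤ)
    (N : Type v) [AddCommGroup N] [Module (WittVector p k) N] [Module (FractionRing (WittVector p k)) N]
    [IsScalarTower (WittVector p k) (FractionRing (WittVector p k)) N]
    (F : N →ₛₗ[Isoc.frob p k a] N) (hF : Isoc.IsIsoc F)
    (h : ℕ) (b : Module.Basis (Fin h) (FractionRing (WittVector p k)) N)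
    (d : ℤ) (hd : Isoc.IsOrdP (Isoc.detCoeff b F) d)
    (hlam : Isoc.IsFirstSlope F ((d : ℝ) / h)) :
    ∃ M : Submodule (WittVector p k) N, M.IsLattice (FractionRing (WittVector p k)) ∧ Isoc.latImg F h M = Isoc.pPow d M := by
  obtain ⟨M₀, hM₀, o, ho, hl⟩ := hlam
  have hτW := preservesW_frob (p := p) (k := k) a
  have hτU := preservesUnits_frob (p := p) (k := k) a
  have := hF.finite
  rcases subsingleton_or_nontrivial N with hsub | hnt
  · exfalso
    refine (ho 1 le_rfl).2 (fun x _ => ?_)
    rw [Subsingleton.elim x 0]
    exact Submodule.zero_mem _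
  have hh : Module.finrank (FractionRing (WittVector p k)) N = h :=
    (Module.finrank_eq_card_basis b).trans (Fintype.card_fin h)
  have hpos : 0 < h := hh ▸ Module.finrank_pos
  obtain ⟨M, hfg, hspan, hle⟩ :=
    exists_latImg_le_of_le_slope hτW F hM₀.fg hM₀.span_eq_top ho hl hpos le_rfl
  have hM : M.IsLattice (FractionRing (WittVector p k)) := ⟨hfg, hspan⟩
  exact ⟨M, hM, latImg_eq_pPow_of_le hτW hτU b F hd M hle (mul_comm _ _)⟩

end Groth.Agent.S17147
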