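import Groth.Statements.S17149
-- import your own Groth.Agent.* helpers here
import Groth.Agent.Lib.helper10.IsocLattice

set_option autoImplicit false
universe u v
open Isoc

namespace Groth.Agent.S17149

open Groth.Agent.Lib.helper10 in
/-- Let k be a perfect field of characteristic p, a ∈ ℤ, W = W(k) with fraction field L, and (N, F) a
σ^a-F-isocrystal over k (N finite-dimensional over L, F a bijective σ^a-semilinear endomorphism)
that is isoclinic of slope μ (some W-lattice M, r ∈ ℤ, s > 0 with r/s = μ and F^s(M) = p^r · M).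
Then for every L-subspace P of N with F(P) ⊆ P, the quotient N/P with the σ^a-semilinear
endomorphism induced by F is again isoclinic of slope μ. -/
theorem result (p : ℕ) [Fact p.Prime] (k : Type u) [Field k] [CharP k p] [PerfectRing k p] (a : ℤ)
    (N : Type v) [AddCommGroup N] [Module (WittVector p k) N] [Module (FractionRing (WittVector p k)) N]
    [IsScalarTower (WittVector p k) (FractionRing (WittVector p k)) N]
    (F : N →ₛₗ[Isoc.frob p k a] N) (hF : Isoc.IsIsoc F) (μ : ℚ) (hμ : Isoc.IsIsoclinic F μ)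
    (P : Submodule (FractionRing (WittVector p k)) N) (hP : P ≤ P.comap F) :
    Isoc.IsIsoclinic (P.mapQ P F hP) μ := by
  obtain ⟨M, hM, r, s, hs, hrs, heq⟩ := hμ
  let f : N →ₗ[WittVector p k] N ⧸ P := (P.mkQ).restrictScalars (WittVector p k)
  have hiter : ∀ (j : ℕ) (x : N), (⇑(P.mapQ P F hP))^[j] (f x) = f ((⇑F)^[j] x) := by
    intro j x
    induction j with
    | zero => rfl
    | succ j ih =>
      rw [Function.iterate_succ_apply', ih, Function.iterate_succ_apply']
      rfl
  have hlat : ∀ (j : ℕ) (M' : Submodule (WittVector p k) N),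
      Isoc.latImg (P.mapQ P F hP) j (M'.map f) = (Isoc.latImg F j M').map f := by
    intro j M'
    unfold Isoc.latImg
    rw [Submodule.map_span]
    congr 1
    ext y
    constructor
    · rintro ⟨_, ⟨x, hx, rfl⟩, rfl⟩
      exact ⟨(⇑F)^[j] x, ⟨x, hx, rfl⟩, (hiter j x).symm⟩
    · rintro ⟨_, ⟨x, hx, rfl⟩, rfl⟩
      exact ⟨f x, ⟨x, hx, rfl⟩, hiter j x⟩
  have hpow : ∀ (t : ℤ) (M' : Submodule (WittVector p k) N),
      (Isoc.pPow t M').map f = Isoc.pPow t (M'.map f) := by
    intro t M'
    ext y
    constructor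
    · rintro ⟨x, hx, rfl⟩
      obtain ⟨x', hx', rfl⟩ := (Submodule.mem_smul_pointwise_iff_exists _ _ _).mp hx
      refine (Submodule.mem_smul_pointwise_iff_exists _ _ _).mpr ⟨f x', ⟨x', hx', rfl⟩, ?_⟩
      exact (map_smul P.mkQ _ x').symm
    · intro hy
      obtain ⟨_, ⟨x', hx', rfl⟩, rfl⟩ := (Submodule.mem_smul_pointwise_iff_exists _ _ _).mp hy
      refine ⟨((p : FractionRing (WittVector p k)) ^ t) • x',
        Submodule.smul_mem_pointwise_smul _ _ _ hx', ?_⟩
      exact map_smul P.mkQ _ x'
  refine ⟨M.map f, ⟨hM.fg.map f, ?_⟩, r, s, hs, hrs, ?_⟩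
  · have h1 : ((M.map f : Submodule (WittVector p k) (N ⧸ P)) : Set (N ⧸ P)) =
        P.mkQ '' (M : Set N) := rfl
    rw [h1, ← Submodule.map_span, hM.span_eq_top, Submodule.map_top, Submodule.range_mkQ]
  · rw [hlat, heq, hpow]

end Groth.Agent.S17149
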