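import Mathlib
import Groth.Statements.S17150
import Groth.Agent.Lib.Helper22.IsocSub
import Groth.Agent.Lib.Helper22.IsocSlope
-- import your own Groth.Agent.* helpers here

set_option autoImplicit false
universe u v w
open Isoc

namespace Groth.Agent.S17150

open Groth.Agent.Lib.Helper22.IsocF in
/-- Let k be a perfect field of characteristic p and a ∈ ℤ; let (N₁, F₁) and (N₂, F₂) be
σ^a-F-isocrystals over k that are isoclinic of slopes μ₁ and μ₂ respectively (in the lattice sense: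
F_i^{s_i}(M_i) = p^{r_i} · M_i with r_i/s_i = μ_i), with μ₁ ≠ μ₂. Then every morphism of isocrystals
f : (N₁, F₁) → (N₂, F₂), i.e. every L-linear map with f ∘ F₁ = F₂ ∘ f, is zero. -/
theorem result (p : ℕ) [Fact p.Prime] (k : Type u) [Field k] [CharP k p] [PerfectRing k p] (a : ℤ)
    (N₁ : Type v) [AddCommGroup N₁] [Module (WittVector p k) N₁] [Module (FractionRing (WittVector p k)) N₁]
    [IsScalarTower (WittVector p k) (FractionRing (WittVector p k)) N₁]
    (N₂ : Type w) [AddCommGroup N₂] [Module (WittVector p k) N₂] [Module (FractionRing (WittVector p k)) N₂]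
    [IsScalarTower (WittVector p k) (FractionRing (WittVector p k)) N₂]
    (F₁ : N₁ →ₛₗ[Isoc.frob p k a] N₁) (F₂ : N₂ →ₛₗ[Isoc.frob p k a] N₂)
    (h₁ : Isoc.IsIsoc F₁) (h₂ : Isoc.IsIsoc F₂)
    (μ₁ μ₂ : ℚ) (hμ₁ : Isoc.IsIsoclinic F₁ μ₁) (hμ₂ : Isoc.IsIsoclinic F₂ μ₂) (hne : μ₁ ≠ μ₂)
    (f : N₁ →ₗ[(FractionRing (WittVector p k))] N₂) (hf : ∀ x : N₁, f (F₁ x) = F₂ (f x)) : f = 0 := by
  by_contra hf0
  obtain ⟨x₀, hx₀⟩ : ∃ x, f x ≠ 0 := by
    by_contra hcon
    push Not at hcon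
    exact hf0 (LinearMap.ext hcon)
  obtain ⟨M₁, hM₁, r₁, s₁, hs₁, hrs₁, hFM₁⟩ := hμ₁
  obtain ⟨M₂, hM₂, r₂, s₂, hs₂, hrs₂, hFM₂⟩ := hμ₂
  have := h₂.finite
  have : IsNoetherian (FractionRing (WittVector p k)) N₂ := inferInstance
  have hτW := preservesW_frob (p := p) (k := k) a
  have hτS := surjW_frob (p := p) (k := k) a
  -- the image of f
  let P : Submodule (FractionRing (WittVector p k)) N₂ := LinearMap.range f
  have hP : ∀ y ∈ P, F₂ y ∈ P := by
    rintro _ ⟨x, rfl⟩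
    exact ⟨F₁ x, hf x⟩
  have : Nontrivial P := ⟨⟨⟨f x₀, x₀, rfl⟩, 0, fun h => hx₀ (congrArg Subtype.val h)⟩⟩
  let g : N₁ →ₗ[FractionRing (WittVector p k)] P := f.rangeRestrict
  have hg : ∀ x, g (F₁ x) = (F₂.restrict hP) (g x) := fun x => Subtype.ext (hf x)
  have hgs : Function.Surjective g := f.surjective_rangeRestrict
  have hGs : Function.Surjective (F₂.restrict hP) := by
    intro y
    obtain ⟨x, rfl⟩ := hgs y
    obtain ⟨x', rfl⟩ := h₁.bijective.surjective x
    exact ⟨g x', (hg x').symm⟩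
  -- two lattices in the image
  have e₁ : Isoc.latImg (F₂.restrict hP) s₁ (M₁.map (g.restrictScalars (WittVector p k))) =
      Isoc.pPow r₁ (M₁.map (g.restrictScalars (WittVector p k))) := by
    rw [latImg_map g hg, hFM₁, pPow_map]
  have e₂ := latImg_restrict_eq hτS F₂ h₂.bijective.surjective P hP hFM₂
  have key := slope_unique hτW (F₂.restrict hP) hGs
    (hM₁.fg.map (g.restrictScalars (WittVector p k))) (span_map_eq_top g hgs hM₁.span_eq_top)
    (restrictLat_fg P hM₂.fg) (span_restrictLat P hM₂.span_eq_top) hs₁ hs₂ e₁ e₂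
  exact hne (hrs₁ ▸ hrs₂ ▸ key)

end Groth.Agent.S17150
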