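import Mathlib
import Groth.Statements.S17153
import Groth.Agent.Lib.Helper22.IsocStd
-- import your own Groth.Agent.* helpers here

set_option autoImplicit false
universe u
open Isoc

namespace Groth.Agent.S17153

open Groth.Agent.Lib.Helper22.IsocF in
/-- Let k be a perfect field of characteristic p, W = W(k), L its fraction field, a ∈ ℤ, and λ = d/h
with h > 0 and gcd(d, h) = 1. The standard σ^a-F-isocrystal N_λ of slope λ — the space L^h with the
σ^a-semilinear F determined by F e_i = e_{i+1} (i + 1 < h) and F e_{h−1} = p^d · e_0 — is a simple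
isocrystal: an L-subspace of L^h carried into itself by F is either 0 or everything. (The source
introduces N_λ for a ≠ 0 only; the simplicity argument, via sub-isocrystals of an isoclinic
isocrystal having the same slope, does not use that restriction, and the statement is made for all
a.) -/
theorem result (p : ℕ) [Fact p.Prime] (k : Type u) [Field k] [CharP k p] [PerfectRing k p]
    (a : ℤ) (d : ℤ) (h : ℕ) (hh : 0 < h) (hdh : Int.gcd d h = 1)
    (P : Submodule (FractionRing (WittVector p k)) (Fin h → (FractionRing (WittVector p k))))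
    (hP : ∀ x ∈ P, Isoc.stdIsoc (Isoc.frob p k a) d h x ∈ P) : P = ⊥ ∨ P = ⊤ := by
  obtain ⟨n, rfl⟩ : ∃ n, h = n + 1 := ⟨h - 1, by omega⟩
  have hτW := preservesW_frob (p := p) (k := k) a
  have hτU := preservesUnits_frob (p := p) (k := k) a
  have hτS := surjW_frob (p := p) (k := k) a
  have hFs : Function.Surjective (Isoc.stdIsoc (Isoc.frob p k a) d (n + 1)) :=
    stdIsoc_surjective (frob_surjective a) d (n + 1)
  by_cases hbot : P = ⊥
  · exact Or.inl hbot
  right
  have hlat := latImg_stdIsoc (p := p) (k := k) hτW d n
  have e := latImg_restrict_eq hτS _ hFs P hP hlat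
  have fg' := restrictLat_fg P (stdLat_fg (Pi.basisFun (FractionRing (WittVector p k)) (Fin (n + 1))))
  have span' := span_restrictLat P (span_stdLat (Pi.basisFun (FractionRing (WittVector p k)) (Fin (n + 1))))
  obtain ⟨d', hd'⟩ := exists_isOrdP_detCoeff (Module.finBasis (FractionRing (WittVector p k)) P) hτW
    ((Isoc.stdIsoc (Isoc.frob p k a) d (n + 1)).restrict hP) fg' span' (Nat.succ_pos n) e.ge
  have i1 := mul_height_le_of_latImg_le (Module.finBasis (FractionRing (WittVector p k)) P) hτW hτU
    ((Isoc.stdIsoc (Isoc.frob p k a) d (n + 1)).restrict hP) hd' fg' span' e.le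
  have i2 := le_mul_height_of_pPow_le (Module.finBasis (FractionRing (WittVector p k)) P) hτW hτU
    ((Isoc.stdIsoc (Isoc.frob p k a) d (n + 1)).restrict hP) hd' fg' span' e.ge
  have heq : d * (Module.finrank (FractionRing (WittVector p k)) P : ℤ) = ((n + 1 : ℕ) : ℤ) * d' :=
    le_antisymm i1 i2
  have hcop : IsCoprime (((n + 1 : ℕ) : ℤ)) d :=
    (Int.isCoprime_iff_gcd_eq_one.mpr hdh).symm
  have hdvd : ((n + 1 : ℕ) : ℤ) ∣ (Module.finrank (FractionRing (WittVector p k)) P : ℤ) :=
    hcop.dvd_of_dvd_mul_left ⟨d', heq⟩
  have hpos : 0 < Module.finrank (FractionRing (WittVector p k)) P := by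
    have : Nontrivial P := Submodule.nontrivial_iff_ne_bot.mpr hbot
    exact Module.finrank_pos
  have hle : n + 1 ≤ Module.finrank (FractionRing (WittVector p k)) P :=
    Nat.le_of_dvd hpos (Int.natCast_dvd_natCast.mp hdvd)
  apply Submodule.eq_top_of_finrank_eq
  have h1 : Module.finrank (FractionRing (WittVector p k)) (Fin (n + 1) → FractionRing (WittVector p k)) = n + 1 :=
    Module.finrank_fin_fun _
  have h2 := Submodule.finrank_le P
  omega

end Groth.Agent.S17153
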