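import Groth.Statements.S17157
-- import your own Groth.Agent.* helpers here
import Mathlib.FieldTheory.Finite.Basic
import Mathlib.RingTheory.WittVector.Identities
import Mathlib.Tactic.Ring
import Mathlib.Tactic.Abel

set_option autoImplicit false
universe u
open Isoc

namespace Groth.Agent.S17157

open WittVector in
theorem natCast_ne_zero_witt (p : ℕ) [Fact p.Prime] (k : Type u) [Field k] [CharP k p]
    (n : ℕ) (hn : n ≠ 0) : ((n : ℕ) : WittVector p k) ≠ 0 := by
  have hp : p.Prime := Fact.out
  obtain ⟨e, m, hm, rfl⟩ := Nat.exists_eq_pow_mul_and_not_dvd hn p hp.ne_one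
  rw [Nat.cast_mul, Nat.cast_pow]
  apply mul_ne_zero
  · exact pow_ne_zero _ (WittVector.p_nonzero p k)
  · intro h0
    have := congrArg (WittVector.constantCoeff (p := p) (R := k)) h0
    rw [map_natCast, map_zero] at this
    exact hm ((CharP.cast_eq_zero_iff k p m).mp this)

open WittVector in
theorem exists_iterate_frobenius_eq (p : ℕ) [Fact p.Prime] (k : Type u) [Field k] [CharP k p]
    [Finite k] : ∃ f : ℕ, 0 < f ∧ ∀ w : WittVector p k, (WittVector.frobenius)^[f] w = w := by
  have := Fintype.ofFinite k
  obtain ⟨n, -, hn⟩ := FiniteField.card k p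
  refine ⟨n, n.pos, fun w => ?_⟩
  ext i
  rw [WittVector.iterate_frobenius_coeff, ← hn, FiniteField.pow_card]

theorem exists_iterate_frob_eq (p : ℕ) [Fact p.Prime] (k : Type u) [Field k] [CharP k p]
    [PerfectRing k p] [Finite k] :
    ∃ f : ℕ, 0 < f ∧ ∀ c : FractionRing (WittVector p k), (Isoc.frob p k 1)^[f] c = c := by
  obtain ⟨f, hf, hfw⟩ := exists_iterate_frobenius_eq p k
  refine ⟨f, hf, ?_⟩
  have h1 : ∀ (n : ℕ) (w : WittVector p k),
      (Isoc.frob p k 1)^[n] (algebraMap (WittVector p k) (FractionRing (WittVector p k)) w) =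
        algebraMap (WittVector p k) (FractionRing (WittVector p k))
          ((WittVector.frobenius)^[n] w) := by
    intro n w
    induction n with
    | zero => rfl
    | succ n ih =>
      rw [Function.iterate_succ_apply', ih, Isoc.frob_algebraMap, zpow_one,
        Function.iterate_succ_apply']
      rfl
  intro c
  obtain ⟨a, b, hb, rfl⟩ := IsFractionRing.div_surjective (A := WittVector p k) c
  have h2 : ∀ x : FractionRing (WittVector p k),
      (Isoc.frob p k 1)^[f] x = ((Isoc.frob p k 1) ^ f) x := by
    intro x; rw [RingHom.coe_pow]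
  rw [h2, map_div₀, ← h2, ← h2, h1, h1, hfw, hfw]

/-- Let k be a finite field of characteristic p, W = W(k), L its fraction field with Frobenius σ, and
let U be the σ-semilinear endomorphism of L² = (Fin 2 → L) determined by U(e₀) = e₀ and U(e₁) = e₀ +
e₁ on the standard basis. Then (L², U) is an F-isocrystal in which the sub-isocrystal L · e₀ admits
no U-stable complementary L-subspace; in particular the category of F-isocrystals over a finite
field is not semisimple. (Over an algebraically closed field a complement exists.) -/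
theorem result
    (p : ℕ) [Fact p.Prime] (k : Type u) [Field k] [CharP k p] [PerfectRing k p] [Finite k]
    (U : (Fin 2 → (FractionRing (WittVector p k))) →ₛₗ[Isoc.frob p k 1] (Fin 2 → (FractionRing (WittVector p k))))
    (hU0 : U (Pi.single 0 1) = Pi.single 0 1)
    (hU1 : U (Pi.single 1 1) = Pi.single 0 1 + Pi.single 1 1)
    (Q : Submodule (FractionRing (WittVector p k)) (Fin 2 → (FractionRing (WittVector p k)))) (hQ : ∀ x ∈ Q, U x ∈ Q) :
    ¬ IsCompl (Submodule.span (FractionRing (WittVector p k)) {(Pi.single 0 1 : Fin 2 → (FractionRing (WittVector p k)))}) Q := by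
  intro hc
  set e0 : Fin 2 → FractionRing (WittVector p k) := Pi.single 0 1 with he0
  set e1 : Fin 2 → FractionRing (WittVector p k) := Pi.single 1 1 with he1
  have htop : e1 ∈ Submodule.span (FractionRing (WittVector p k)) {e0} ⊔ Q := by
    rw [hc.sup_eq_top]; exact Submodule.mem_top
  obtain ⟨y, hy, z, hz, hyz⟩ := Submodule.mem_sup.mp htop
  obtain ⟨α, rfl⟩ := Submodule.mem_span_singleton.mp hy
  have hz' : z = e1 - α • e0 := by rw [← hyz]; abel
  have hUz : U z = e0 + e1 - (Isoc.frob p k 1 α) • e0 := by
    rw [hz', map_sub, map_smulₛₗ, hU0, hU1]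
  have hdiff : U z - z = (1 - Isoc.frob p k 1 α + α) • e0 := by
    rw [hUz, hz']
    simp only [add_smul, sub_smul, one_smul]
    abel
  have hmemQ : U z - z ∈ Q := Q.sub_mem (hQ z hz) hz
  have hmemS : U z - z ∈ Submodule.span (FractionRing (WittVector p k)) {e0} := by
    rw [hdiff]; exact Submodule.smul_mem _ _ (Submodule.mem_span_singleton_self e0)
  have hzero : U z - z = 0 := by
    have : U z - z ∈ Submodule.span (FractionRing (WittVector p k)) {e0} ⊓ Q := ⟨hmemS, hmemQ⟩
    rw [hc.inf_eq_bot] at this
    exact (Submodule.mem_bot _).mp this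
  have hcoef : 1 - Isoc.frob p k 1 α + α = 0 := by
    have := congrFun (hdiff.symm.trans hzero) 0
    simpa [e0] using this
  have hσ : Isoc.frob p k 1 α = α + 1 := by
    have : Isoc.frob p k 1 α = α + 1 - (1 - Isoc.frob p k 1 α + α) := by ring
    rw [this, hcoef, sub_zero]
  have hiter : ∀ n : ℕ, (Isoc.frob p k 1)^[n] α = α + n := by
    intro n
    induction n with
    | zero => simp
    | succ n ih =>
      rw [Function.iterate_succ_apply', ih, map_add, map_natCast, hσ, Nat.cast_succ]
      ring
  obtain ⟨f, hf, hfid⟩ := exists_iterate_frob_eq p k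
  have h3 := hiter f
  rw [hfid] at h3
  have h4 : ((f : ℕ) : FractionRing (WittVector p k)) = 0 := by
    have := h3.symm
    simpa using this
  have h5 : ((f : ℕ) : WittVector p k) = 0 := by
    apply IsFractionRing.injective (WittVector p k) (FractionRing (WittVector p k))
    rw [map_natCast, map_zero, h4]
  exact natCast_ne_zero_witt p k f hf.ne' h5

end Groth.Agent.S17157
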