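import Groth.Statements.S5154
import Groth.Agent.Lib.Helper7.EquidimS2
import Groth.Agent.Lib.Helper7.AffineChain
import Groth.Agent.Lib.Helper23.CatOrder

set_option autoImplicit false
universe u
open LocCoh

namespace Groth.Agent.S5154

/-- Let A be a Noetherian local ring which is catenary and such that depth A_p ≥ 2 for every prime p
with dim A_p ≥ 2. Then all irreducible components of Spec A have dimension dim A: for every minimal
prime p, dim A/p = dim A. -/
theorem result (A : Type u) [CommRing A] [IsLocalRing A] [IsNoetherianRing A] (hc : CAlg.IsCatenary A) (h : ∀ p : PrimeSpectrum A, (2 : ℕ∞) ≤ p.asIdeal.height → (2 : ℕ∞) ≤ LocCoh.depth (Localization.AtPrime p.asIdeal) (Localization.AtPrime p.asIdeal)) (p : Ideal A) (hp : p ∈ minimalPrimes A) : ringKrullDim (A ⧸ p) = ringKrullDim A := by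
  open Groth.Agent.Lib.Helper23.CatOrder Groth.Agent.Lib.Helper7.EquidimS2 in
  classical
  have hcat : Cat (PrimeSpectrum A) := hc.2
  let m : PrimeSpectrum A := IsLocalRing.closedPoint A
  have hm : ∀ x : PrimeSpectrum A, x ≤ m := fun x =>
    (PrimeSpectrum.le_iff_specializes _ _).mpr (IsLocalRing.specializes_closedPoint x)
  -- covering steps change the coheight by one
  have hK : ∀ q P : PrimeSpectrum A, q ⋖ P → Order.coheight q = Order.coheight P + 1 := by
    intro q P hcov
    have hN1 : N q P = 1 := by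
      obtain ⟨s, hsat, hlen⟩ := exists_sat hcov.le
      let t : LTSeries (PrimeSpectrum A) := (RelSeries.singleton _ q).snoc P hcov.lt
      have htsat' : ∀ i : Fin 1, t i.castSucc ⋖ t i.succ := by
        intro i
        fin_cases i
        exact hcov
      have htsat : Sat t := fun i => htsat' i
      have h1 := hcat s.1 t (by rw [s.2.1]; simp [t]) (by rw [s.2.2]; simp [t]) hsat htsat
      rw [← hlen, h1]
      rfl
    rw [coheight_eq_N hm q, coheight_eq_N hm P, N_add hcat hcov.le (hm P), hN1, add_comm]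
  let p0 : PrimeSpectrum A := ⟨p, hp.1.1⟩
  -- all minimal primes have the same coheight
  have hall : ∀ x : PrimeSpectrum A, x.asIdeal ∈ minimalPrimes A →
      Order.coheight x = Order.coheight p0 := by
    by_contra hcon
    push Not at hcon
    obtain ⟨x2, hx2min, hx2⟩ := hcon
    have hfinI : (minimalPrimes A).Finite := minimalPrimes.finite_of_isNoetherianRing A
    have hfin : {x : PrimeSpectrum A | x.asIdeal ∈ minimalPrimes A}.Finite :=
      hfinI.preimage (fun x _ y _ h => PrimeSpectrum.ext h)
    let F1 : Finset (PrimeSpectrum A) :=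
      hfin.toFinset.filter (fun x => Order.coheight x = Order.coheight p0)
    let F2 : Finset (PrimeSpectrum A) :=
      hfin.toFinset.filter (fun x => Order.coheight x ≠ Order.coheight p0)
    have hF1 : ∀ x, x ∈ F1 ↔ x.asIdeal ∈ minimalPrimes A ∧ Order.coheight x = Order.coheight p0 := by
      intro x; simp [F1]
    have hF2 : ∀ x, x ∈ F2 ↔ x.asIdeal ∈ minimalPrimes A ∧ Order.coheight x ≠ Order.coheight p0 := by
      intro x; simp [F2]
    let W : Set (PrimeSpectrum A) := {P | (∃ x ∈ F1, x ≤ P) ∧ (∃ x ∈ F2, x ≤ P)}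
    have hWne : W.Nonempty := ⟨m, ⟨p0, (hF1 p0).2 ⟨hp, rfl⟩, hm _⟩, ⟨x2, (hF2 x2).2 ⟨hx2min, hx2⟩, hm _⟩⟩
    haveI : WellFoundedLT (PrimeSpectrum A) := wfLT
    obtain ⟨P, hPW, hPmin⟩ := (wellFounded_lt (α := PrimeSpectrum A)).has_min W hWne
    obtain ⟨⟨x1, hx1F, hx1P⟩, ⟨y2, hy2F, hy2P⟩⟩ := hPW
    have hx1 := (hF1 x1).1 hx1F
    have hy2 := (hF2 y2).1 hy2F
    have hne : x1 ≠ y2 := fun h => hy2.2 (h ▸ hx1.2)
    have hx1lt : x1 < P := by
      refine lt_of_le_of_ne hx1P ?_
      rintro rfl
      have : y2.asIdeal = x1.asIdeal := le_antisymm hy2P (hx1.1.2 ⟨y2.2, bot_le⟩ hy2P)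
      exact hne (PrimeSpectrum.ext this.symm)
    have hy2lt : y2 < P := by
      refine lt_of_le_of_ne hy2P ?_
      rintro rfl
      have : x1.asIdeal = y2.asIdeal := le_antisymm hx1P (hy2.1.2 ⟨x1.2, bot_le⟩ hx1P)
      exact hne (PrimeSpectrum.ext this)
    haveI := P.2
    by_cases hht : (2 : ℕ∞) ≤ P.asIdeal.height
    · -- depth ≥ 2: Hartshorne connectedness
      have hdepth := h P hht
      set B := Localization.AtPrime P.asIdeal with hB
      let aA : Ideal A := F1.inf (fun x => x.asIdeal)
      let bA : Ideal A := F2.inf (fun x => x.asIdeal)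
      have haA : ∀ Q : Ideal A, Q.IsPrime → (aA ≤ Q ↔ ∃ x ∈ F1, x.asIdeal ≤ Q) := fun Q hQ =>
        Ideal.IsPrime.inf_le' hQ
      have hbA : ∀ Q : Ideal A, Q.IsPrime → (bA ≤ Q ↔ ∃ x ∈ F2, x.asIdeal ≤ Q) := fun Q hQ =>
        Ideal.IsPrime.inf_le' hQ
      have hcomap : ∀ (I : Ideal A) (Q' : Ideal B),
          I.map (algebraMap A B) ≤ Q' ↔ I ≤ Q'.comap (algebraMap A B) := fun I Q' =>
        Ideal.map_le_iff_le_comap
      have hunder : ∀ Q' : PrimeSpectrum B, Q'.asIdeal.comap (algebraMap A B) ≤ P.asIdeal := by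
        intro Q'
        have h1 := ((IsLocalization.isPrime_iff_isPrime_disjoint P.asIdeal.primeCompl B
          Q'.asIdeal).1 Q'.2).2
        intro r hr
        by_contra hrP
        exact Set.disjoint_left.1 h1 hrP hr
      have hmk : ∀ x : PrimeSpectrum A, x ≤ P → ∃ Q' : PrimeSpectrum B,
          Q'.asIdeal.comap (algebraMap A B) = x.asIdeal := by
        intro x hxP
        have hd : Disjoint (P.asIdeal.primeCompl : Set A) (x.asIdeal : Set A) :=
          Set.disjoint_left.2 fun r hr hrx => hr (hxP hrx)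
        exact ⟨⟨_, IsLocalization.isPrime_of_isPrime_disjoint P.asIdeal.primeCompl B _ x.2 hd⟩,
          IsLocalization.under_map_of_isPrime_disjoint P.asIdeal.primeCompl B x.2 hd⟩
      have key := forall_le_or_forall_le B hdepth (aA.map (algebraMap A B))
        (bA.map (algebraMap A B)) ?_ ?_ ?_ ?_
      · rcases key with hk | hk
        · obtain ⟨Q', hQ'⟩ := hmk y2 hy2P
          have h1 := (hcomap aA Q'.asIdeal).1 (hk Q')
          rw [hQ', haA _ y2.2] at h1
          obtain ⟨x, hxF, hxy⟩ := h1
          have hx := (hF1 x).1 hxF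
          have : x.asIdeal = y2.asIdeal := le_antisymm hxy (hy2.1.2 ⟨x.2, bot_le⟩ hxy)
          exact hy2.2 ((PrimeSpectrum.ext this : x = y2) ▸ hx.2)
        · obtain ⟨Q', hQ'⟩ := hmk x1 hx1P
          have h1 := (hcomap bA Q'.asIdeal).1 (hk Q')
          rw [hQ', hbA _ x1.2] at h1
          obtain ⟨y, hyF, hyx⟩ := h1
          have hy := (hF2 y).1 hyF
          have : y.asIdeal = x1.asIdeal := le_antisymm hyx (hx1.1.2 ⟨y.2, bot_le⟩ hyx)
          exact hy.2 ((PrimeSpectrum.ext this : y = x1) ▸ hx1.2)
      · -- cover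
        intro Q'
        haveI : (Q'.asIdeal.comap (algebraMap A B)).IsPrime := Ideal.IsPrime.comap _
        obtain ⟨y, hymin, hyQ⟩ := Ideal.exists_minimalPrimes_le
          (bot_le : (⊥ : Ideal A) ≤ Q'.asIdeal.comap (algebraMap A B))
        let yy : PrimeSpectrum A := ⟨y, hymin.1.1⟩
        by_cases hcy : Order.coheight yy = Order.coheight p0
        · left
          rw [hcomap, haA _ inferInstance]
          exact ⟨yy, (hF1 yy).2 ⟨hymin, hcy⟩, hyQ⟩
        · right
          rw [hcomap, hbA _ inferInstance]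
          exact ⟨yy, (hF2 yy).2 ⟨hymin, hcy⟩, hyQ⟩
      · -- intersection is the closed point
        intro Q' h1 h2
        haveI : (Q'.asIdeal.comap (algebraMap A B)).IsPrime := Ideal.IsPrime.comap _
        rw [hcomap, haA _ inferInstance] at h1
        rw [hcomap, hbA _ inferInstance] at h2
        let Q : PrimeSpectrum A := ⟨Q'.asIdeal.comap (algebraMap A B), inferInstance⟩
        have hQW : Q ∈ W := ⟨h1, h2⟩
        have hQP : Q ≤ P := hunder Q'
        have hQeq : Q = P := by
          by_contra hne'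
          exact hPmin Q hQW (lt_of_le_of_ne hQP hne')
        have h3 : Q'.asIdeal = (Q'.asIdeal.comap (algebraMap A B)).map (algebraMap A B) :=
          (IsLocalization.map_under P.asIdeal.primeCompl B Q'.asIdeal).symm
        rw [h3]
        have h4 : Q'.asIdeal.comap (algebraMap A B) = P.asIdeal := congrArg PrimeSpectrum.asIdeal hQeq
        rw [h4, Localization.AtPrime.map_eq_maximalIdeal]
      · intro htop
        have h1 : aA.map (algebraMap A B) ≤ IsLocalRing.maximalIdeal B := by
          rw [← Localization.AtPrime.map_eq_maximalIdeal]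
          exact Ideal.map_mono (((haA _ P.2).2 ⟨x1, hx1F, hx1P⟩))
        rw [htop] at h1
        exact (IsLocalRing.maximalIdeal.isMaximal B).ne_top (top_le_iff.1 h1)
      · intro htop
        have h1 : bA.map (algebraMap A B) ≤ IsLocalRing.maximalIdeal B := by
          rw [← Localization.AtPrime.map_eq_maximalIdeal]
          exact Ideal.map_mono (((hbA _ P.2).2 ⟨y2, hy2F, hy2P⟩))
        rw [htop] at h1
        exact (IsLocalRing.maximalIdeal.isMaximal B).ne_top (top_le_iff.1 h1)
    · -- height one: both minimal primes are covered by `P`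
      have hcov : ∀ x : PrimeSpectrum A, x < P → x ⋖ P := by
        intro x hxP
        refine ⟨hxP, fun Q hxQ hQP => hht ?_⟩
        haveI := x.2
        haveI := Q.2
        have h1 : x.asIdeal.height < Q.asIdeal.height :=
          Ideal.height_strict_mono_of_isPrime_of_isPrime hxQ
        have h2 : Q.asIdeal.height < P.asIdeal.height :=
          Ideal.height_strict_mono_of_isPrime_of_isPrime hQP
        have h3 : (1 : ℕ∞) ≤ Q.asIdeal.height := Order.one_le_iff_pos.2 (lt_of_le_of_lt zero_le h1)
        have h4 : (1 : ℕ∞) + 1 ≤ P.asIdeal.height := (add_le_add_left h3 1).trans (Order.add_one_le_of_lt h2)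
        have h5 : (1 : ℕ∞) + 1 = 2 := by norm_num
        rwa [h5] at h4
      have e1 := hK x1 P (hcov x1 hx1lt)
      have e2 := hK y2 P (hcov y2 hy2lt)
      exact hy2.2 (e2.trans (e1.symm.trans hx1.2))
  -- conclude
  have hdim : ringKrullDim A = ((Order.coheight p0 : ℕ∞) : WithBot ℕ∞) := by
    unfold ringKrullDim
    rw [Order.krullDim_eq_iSup_coheight_of_nonempty]
    congr 1
    apply le_antisymm
    · refine iSup_le fun x => ?_
      haveI := x.2
      obtain ⟨y, hymin, hyx⟩ := Ideal.exists_minimalPrimes_le (bot_le : (⊥ : Ideal A) ≤ x.asIdeal)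
      have hyx' : (⟨y, hymin.1.1⟩ : PrimeSpectrum A) ≤ x := hyx
      exact (Order.coheight_anti hyx').trans (hall ⟨y, hymin.1.1⟩ hymin).le
    · exact le_iSup (fun x : PrimeSpectrum A => Order.coheight x) p0
  rw [hdim]
  exact Groth.Agent.Lib.Helper7.AffChain.ringKrullDim_quotient_eq_coheight p0

end Groth.Agent.S5154
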