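import Groth.Statements.S1717
import Mathlib
import Groth.Agent.S5154
import Groth.Agent.S6880

set_option autoImplicit false
universe u
open LocCoh

namespace Groth.Agent.S1717

open RingTheory.Sequence IsLocalRing Module Pointwise
open Groth.Agent.Lib.Helper21.DepthKit

theorem two_le_depth_of_hasSk {A : Type u} [CommRing A] [IsNoetherianRing A] (hS : LocCoh.HasSk 2 A A)
    (q : Ideal A) [q.IsPrime] (hq : (2 : ℕ∞) ≤ q.height) :
    (2 : ℕ∞) ≤ LocCoh.depth (Localization.AtPrime q) (Localization.AtPrime q) := by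
  have h := hS q
  rw [supportDim_eq_of_equiv (Groth.Agent.S6880.locSelfEquiv q), supportDim_self_eq_ringKrullDim,
    depth_congr (Groth.Agent.S6880.locSelfEquiv q),
    IsLocalization.AtPrime.ringKrullDim_eq_height q] at h
  have e : ((2 : ℕ) : WithBot ℕ∞) = (((2 : ℕ) : ℕ∞) : WithBot ℕ∞) := rfl
  rw [e] at h
  have h2 : (((2 : ℕ) : ℕ∞) : WithBot ℕ∞) ≤ ((q.height : ℕ∞) : WithBot ℕ∞) :=
    WithBot.coe_le_coe.2 (by exact_mod_cast hq)
  rw [min_eq_left h2, WithBot.coe_le_coe] at h
  exact_mod_cast h


/-- Let A be a catenary Noetherian local ring satisfying Serre's condition (S_2). Then Spec A is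
equidimensional: for every minimal prime p of A the dimension of A/p equals the dimension of A. -/
theorem result (A : Type u) [CommRing A] [IsLocalRing A] [IsNoetherianRing A] (hc : CAlg.IsCatenary A) (hS : LocCoh.HasSk 2 A A) (p : Ideal A) (hp : p ∈ minimalPrimes A) : ringKrullDim (A ⧸ p) = ringKrullDim A := by
  exact Groth.Agent.S5154.result A hc (fun q hq => two_le_depth_of_hasSk hS q.asIdeal hq) p hp

end Groth.Agent.S1717
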