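import Groth.Statements.S17173
import Groth.Agent.Lib.Helper25.BILib2
-- import your own Groth.Agent.* helpers here

set_option autoImplicit false
universe u
open LabGraph

namespace Groth.Agent.S17173

open LabGraph
open Groth.Agent.Lib.Helper25.BILib

open LabGraph in
/-- Let Γ be the weighted dual graph of a quasistable curve X of genus g ≥ 3 over an algebraically
closed field (vertices the irreducible components C_v with weight the geometric genus, one edge per
node, a loop for a node on a single component): Γ is connected, every weight-zero vertex without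
loop is joined to the other vertices by at least two edges, and no edge joins two exceptional
vertices (weight zero, no loop, exactly two edges to other vertices). Let d be a multidegree of any
total degree D (the combinatorial section fixes an arbitrary integer d; g ≥ 3 is the paper's
standing assumption). Then the degree class of d contains a representative satisfying the Basic
Inequality: there is a multidegree d', differing from d by the twist of some integer vertex
labelling (the multidegree of a divisor Σ φ_v C_v on the total space of a regular smoothing), such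
that for every set Y of vertices 2·|(2g - 2)·d'_Y - D·canDeg Y| ≤ cut Y·(2g - 2), where canDeg Y = 2
g_Y - 2 + cut Y is the degree of the dualizing sheaf on the subcurve Y and cut Y the number of nodes
where Y meets the rest of X. -/
theorem result {V E : Type u} [Fintype V] [Fintype E]
    [DecidableEq V] [DecidableEq E] (ends : E → V × V) (w : V → ℕ) (hX : IsQuasistableGraph ends w)
    (hg : 3 ≤ genus ends w) (d : V → ℤ) :
    ∃ d' : V → ℤ, TwistEquiv ends d' d ∧ SatisfiesBI ends w d' := by
  classical
  have hconn : Connected ends := hX.1.1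
  have hK : 0 < canDeg ends w Finset.univ := by rw [canDeg_univ]; linarith
  let c : V → ℤ := fun v => 2 * (w v : ℤ) - 2 + (endCount ends Finset.univ v : ℤ)
  have hc : ∀ Y : Finset V, canDeg ends w Y = ∑ v ∈ Y, c v := fun Y => rfl
  let z : V → ℤ := fun v => canDeg ends w Finset.univ * d v - (∑ v, d v) * c v
  have hz : ∑ v, z v = 0 := by
    simp only [z, Finset.sum_sub_distrib, ← Finset.mul_sum]
    rw [← hc Finset.univ]
    ring
  obtain ⟨M, ρ, hM, hρ⟩ := exists_twist_eq ends hconn z hz
  obtain ⟨φ, hφ⟩ := exists_energy_min ends ρ (M * canDeg ends w Finset.univ)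
  refine ⟨fun v => d v + twist ends φ v, ⟨φ, fun v => by ring⟩, ?_⟩
  intro Y
  have hD : ∑ v, (d v + twist ends φ v) = ∑ v, d v := by
    rw [Finset.sum_add_distrib, sum_twist, add_zero]
  rw [hD]
  set K := canDeg ends w Finset.univ with hKdef
  set X := K * (∑ v ∈ Y, (d v + twist ends φ v)) - (∑ v, d v) * canDeg ends w Y with hXdef
  have hη : ∀ v, twist ends (ρ + (M * K) • φ) v =
      M * (K * (d v + twist ends φ v) - (∑ v, d v) * c v) := by
    intro v
    rw [twist_add, twist_smul, hρ]
    simp only [z]
    ring
  have hT : ∑ v ∈ Y, twist ends (ρ + (M * K) • φ) v = M * X := by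
    rw [Finset.sum_congr rfl (fun v _ => hη v), ← Finset.mul_sum, Finset.sum_sub_distrib,
      ← Finset.mul_sum, ← Finset.mul_sum, ← hc Y]
  have hopt : ∀ ε : ℤ, ε ^ 2 = 1 → 0 ≤ -2 * ε * X + K * (cut ends Y : ℤ) := by
    intro ε hε
    have h1 := hφ (φ + ε • fun v => if v ∈ Y then (1 : ℤ) else 0)
    have h2 : ρ + (M * K) • (φ + ε • fun v => if v ∈ Y then (1 : ℤ) else 0) =
        (ρ + (M * K) • φ) + (M * K * ε) • fun v => if v ∈ Y then (1 : ℤ) else 0 := by
      funext v
      simp only [Pi.add_apply, Pi.smul_apply, smul_eq_mul]
      ring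
    rw [h2, energy_add_indicator, hT] at h1
    have h3 : 0 ≤ (M ^ 2 * K) * (-2 * ε * X + K * (cut ends Y : ℤ)) := by
      have : (M ^ 2 * K) * (-2 * ε * X + K * (cut ends Y : ℤ)) =
          - 2 * (M * K * ε) * (M * X) + M ^ 2 * K ^ 2 * ε ^ 2 * (cut ends Y : ℤ) -
            M ^ 2 * K ^ 2 * (ε ^ 2 - 1) * (cut ends Y : ℤ) := by ring
      rw [this, hε, sub_self, mul_zero, zero_mul, sub_zero]
      have h4 : (M * K * ε) ^ 2 = M ^ 2 * K ^ 2 * 1 := by rw [← hε]; ring
      rw [h4] at h1
      linarith
    have hpos : 0 < M ^ 2 * K := mul_pos (by positivity) hK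
    exact (mul_nonneg_iff_of_pos_left hpos).mp h3
  have h1 := hopt 1 (by norm_num)
  have h2 := hopt (-1) (by norm_num)
  have habs : |X| ≤ |X| := le_rfl
  rcases abs_cases X with ⟨hx, _⟩ | ⟨hx, _⟩
  · rw [hx]; linarith
  · rw [hx]; linarith

end Groth.Agent.S17173
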