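import Groth.Statements.S17174
import Groth.Agent.Lib.Helper25.BILib
-- import your own Groth.Agent.* helpers here

set_option autoImplicit false
universe u
open LabGraph

namespace Groth.Agent.S17174

open LabGraph
open Groth.Agent.Lib.Helper25.GraphInc Groth.Agent.Lib.Helper25.GraphTree
  Groth.Agent.Lib.Helper25.BILib

open LabGraph in
/-- Let Γ be the weighted dual graph of a Deligne–Mumford semistable curve X of genus g ≥ 3 over an
algebraically closed field (connected; every weight-zero vertex without loop is joined to the other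
vertices by at least two edges), and let d, d' be two multidegrees of the same (arbitrary) total
degree D (g ≥ 3 being the paper's standing assumption) which both satisfy the Basic Inequality and
lie in the same degree class (d - d' is a twist). Then d - d' can be written in normal form: there
is a labelling h of the vertices by natural numbers taking exactly the values 0, 1, …, q, with d -
d' equal to the twist of h (that is, d - d' = Σ_v h(v)·c_v with c_v the multidegree of O(C_v)), such
that for distinct levels i ≠ j in {0, …, q} the subcurves on h⁻¹(i) and h⁻¹(j) meet (some edge joins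
the two levels) exactly when |i - j| = 1. -/
theorem result {V E : Type u} [Fintype V] [Fintype E]
    [DecidableEq V] [DecidableEq E] (ends : E → V × V) (w : V → ℕ) (hX : IsSemistableGraph ends w)
    (hg : 3 ≤ genus ends w) (d d' : V → ℤ)
    (hBI : SatisfiesBI ends w d) (hBI' : SatisfiesBI ends w d') (heq : TwistEquiv ends d d') :
    ∃ (q : ℕ) (h : V → ℕ), (∀ v : V, h v ≤ q) ∧ (∀ i : ℕ, i ≤ q → ∃ v : V, h v = i) ∧
      (∀ v : V, d v - d' v = twist ends (fun u => (h u : ℤ)) v) ∧
      (∀ i j : ℕ, i ≤ q → j ≤ q → i ≠ j →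
        ((∃ e : E, (h (ends e).1 = i ∧ h (ends e).2 = j) ∨ (h (ends e).1 = j ∧ h (ends e).2 = i)) ↔
          (i + 1 = j ∨ j + 1 = i))) := by
  classical
  obtain ⟨φ, hφ⟩ := heq
  have hconn := hX.1
  obtain ⟨v₀⟩ := hconn.1
  have hK : 0 < canDeg ends w Finset.univ := by rw [canDeg_univ]; linarith
  obtain ⟨vmin, -, hmin⟩ := Finset.exists_min_image Finset.univ φ ⟨v₀, Finset.mem_univ _⟩
  let h : V → ℕ := fun v => (φ v - φ vmin).toNat
  have hh : ∀ v, (h v : ℤ) = φ v - φ vmin := fun v =>
    Int.toNat_of_nonneg (sub_nonneg.mpr (hmin v (Finset.mem_univ v)))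
  have hfun : (fun u => (h u : ℤ)) = fun u => φ u - φ vmin := funext hh
  have htw : ∀ v, d v - d' v = twist ends (fun u => (h u : ℤ)) v := by
    intro v
    rw [hφ v, hfun]
    exact (twist_sub_const ends φ (φ vmin) v).symm
  obtain ⟨vmax, -, hmax⟩ := Finset.exists_max_image Finset.univ h ⟨v₀, Finset.mem_univ _⟩
  have hsum : ∑ v, d v = ∑ v, d' v := by
    have h1 := sum_twist ends (fun u => (h u : ℤ))
    rw [← Finset.sum_congr rfl (fun v _ => htw v), Finset.sum_sub_distrib] at h1
    linarith
  have hvmin : h vmin = 0 := by simp [h]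
  -- key: cut edges of threshold sets have level difference one
  have key : ∀ (k : ℕ) (e : E),
      (h (ends e).1 < k → k ≤ h (ends e).2 → h (ends e).2 = h (ends e).1 + 1) ∧
      (h (ends e).2 < k → k ≤ h (ends e).1 → h (ends e).1 = h (ends e).2 + 1) := by
    intro k
    set Y : Finset V := Finset.univ.filter (fun v => k ≤ h v) with hY
    have hmemY : ∀ v, v ∈ Y ↔ k ≤ h v := fun v => by simp [hY]
    have hge := diff_ge_neg_cut ends w hK d d' hBI hBI' hsum Y
    rw [← Finset.sum_sub_distrib, Finset.sum_congr rfl (fun v _ => htw v), sum_twist_on,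
      cut_eq_sum] at hge
    have hnonneg : 0 ≤ ∑ e, (((if (ends e).1 ∈ Y then (h (ends e).2 : ℤ) - h (ends e).1 else 0) +
        (if (ends e).2 ∈ Y then (h (ends e).1 : ℤ) - h (ends e).2 else 0)) +
        (if ((ends e).1 ∈ Y ∧ (ends e).2 ∉ Y) ∨ ((ends e).1 ∉ Y ∧ (ends e).2 ∈ Y)
          then (1 : ℤ) else 0)) := by
      rw [Finset.sum_add_distrib]
      linarith
    have hle : ∀ e, (((if (ends e).1 ∈ Y then (h (ends e).2 : ℤ) - h (ends e).1 else 0) +
        (if (ends e).2 ∈ Y then (h (ends e).1 : ℤ) - h (ends e).2 else 0)) +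
        (if ((ends e).1 ∈ Y ∧ (ends e).2 ∉ Y) ∨ ((ends e).1 ∉ Y ∧ (ends e).2 ∈ Y)
          then (1 : ℤ) else 0)) ≤ 0 := by
      intro e
      by_cases h1 : (ends e).1 ∈ Y <;> by_cases h2 : (ends e).2 ∈ Y
      · simp [h1, h2]
      · have a1 := (hmemY _).mp h1
        have a2 : h (ends e).2 < k := by
          by_contra hc; exact h2 ((hmemY _).mpr (not_lt.mp hc))
        simp only [h1, h2, if_true, if_false, not_false_eq_true, and_self, true_or, add_zero,
          not_true_eq_false, and_false, false_and, or_false]
        have : (h (ends e).2 : ℤ) < h (ends e).1 := by exact_mod_cast lt_of_lt_of_le a2 a1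
        linarith
      · have a2 := (hmemY _).mp h2
        have a1 : h (ends e).1 < k := by
          by_contra hc; exact h1 ((hmemY _).mpr (not_lt.mp hc))
        simp only [h1, h2, if_true, if_false, not_false_eq_true, and_self, or_true, zero_add,
          not_true_eq_false, and_false, false_and, false_or]
        have : (h (ends e).1 : ℤ) < h (ends e).2 := by exact_mod_cast lt_of_lt_of_le a1 a2
        linarith
      · simp [h1, h2]
    have hzero : ∀ e, (((if (ends e).1 ∈ Y then (h (ends e).2 : ℤ) - h (ends e).1 else 0) +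
        (if (ends e).2 ∈ Y then (h (ends e).1 : ℤ) - h (ends e).2 else 0)) +
        (if ((ends e).1 ∈ Y ∧ (ends e).2 ∉ Y) ∨ ((ends e).1 ∉ Y ∧ (ends e).2 ∈ Y)
          then (1 : ℤ) else 0)) = 0 := by
      intro e
      have hs : ∑ e, (((if (ends e).1 ∈ Y then (h (ends e).2 : ℤ) - h (ends e).1 else 0) +
        (if (ends e).2 ∈ Y then (h (ends e).1 : ℤ) - h (ends e).2 else 0)) +
        (if ((ends e).1 ∈ Y ∧ (ends e).2 ∉ Y) ∨ ((ends e).1 ∉ Y ∧ (ends e).2 ∈ Y)
          then (1 : ℤ) else 0)) = 0 :=
        le_antisymm (Finset.sum_nonpos fun e _ => hle e) hnonneg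
      exact (Finset.sum_eq_zero_iff_of_nonpos (fun e _ => hle e)).mp hs e (Finset.mem_univ e)
    intro e
    constructor
    · intro a1 a2
      have h1 : (ends e).1 ∉ Y := fun hc => absurd ((hmemY _).mp hc) (not_le.mpr a1)
      have h2 : (ends e).2 ∈ Y := (hmemY _).mpr a2
      have := hzero e
      simp only [h1, h2, if_true, if_false, not_false_eq_true, and_self, or_true, zero_add,
        not_true_eq_false, and_false, false_and, false_or] at this
      omega
    · intro a2 a1
      have h2 : (ends e).2 ∉ Y := fun hc => absurd ((hmemY _).mp hc) (not_le.mpr a2)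
      have h1 : (ends e).1 ∈ Y := (hmemY _).mpr a1
      have := hzero e
      simp only [h1, h2, if_true, if_false, not_false_eq_true, and_self, true_or, add_zero,
        not_true_eq_false, and_false, false_and, or_false] at this
      omega
  -- adjacent levels are joined
  have levels : ∀ k : ℕ, 1 ≤ k → k ≤ h vmax →
      ∃ e : E, (h (ends e).1 + 1 = k ∧ h (ends e).2 = k) ∨ (h (ends e).1 = k ∧ h (ends e).2 + 1 = k) := by
    intro k hk1 hkq
    obtain ⟨e, he⟩ := exists_boundary_edge ends (fun v => k ≤ h v) vmax vmin hkq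
      (by rw [hvmin]; omega) (hconn.2 vmax vmin)
    refine ⟨e, ?_⟩
    rcases he with ⟨a1, a2⟩ | ⟨a2, a1⟩
    · right
      have := (key k e).2 (not_le.mp a2) a1
      constructor <;> omega
    · left
      have := (key k e).1 (not_le.mp a1) a2
      constructor <;> omega
  refine ⟨h vmax, h, fun v => hmax v (Finset.mem_univ v), ?_, htw, ?_⟩
  · intro i hi
    by_cases hiq : i = h vmax
    · exact ⟨vmax, hiq.symm⟩
    · obtain ⟨e, he | he⟩ := levels (i + 1) (by omega) (by omega)
      · exact ⟨(ends e).1, by omega⟩
      · exact ⟨(ends e).2, by omega⟩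
  · intro i j hi hj hij
    constructor
    · rintro ⟨e, ⟨h1, h2⟩ | ⟨h1, h2⟩⟩
      · rcases lt_or_gt_of_ne hij with hlt | hlt
        · left
          have := (key j e).1 (by omega) (by omega)
          omega
        · right
          have := (key i e).2 (by omega) (by omega)
          omega
      · rcases lt_or_gt_of_ne hij with hlt | hlt
        · left
          have := (key j e).2 (by omega) (by omega)
          omega
        · right
          have := (key i e).1 (by omega) (by omega)
          omega
    · rintro (hij' | hij')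
      · obtain ⟨e, he | he⟩ := levels j (by omega) hj
        · exact ⟨e, Or.inl ⟨by omega, he.2⟩⟩
        · exact ⟨e, Or.inr ⟨he.1, by omega⟩⟩
      · obtain ⟨e, he | he⟩ := levels i (by omega) hi
        · exact ⟨e, Or.inr ⟨by omega, he.2⟩⟩
        · exact ⟨e, Or.inl ⟨he.1, by omega⟩⟩

end Groth.Agent.S17174
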