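import Groth.Statements.S17175
import Mathlib.RingTheory.PowerSeries.NoZeroDivisors
import Mathlib.Tactic

set_option autoImplicit false
universe u
open CAlg

namespace Groth.Agent.S17175

open PowerSeries in
/-- Let k be a field, O₀ = k[[x, y]]/(xy) the complete local ring of a node and Õ₀ = k[[x]] × k[[y]] its
normalization, O₀ being embedded in Õ₀ by h ↦ (h(x, 0), h(0, y)) as the subring of pairs with equal
constant coefficients. Regard Õ₀ as an O₀-module: it is the rank-one torsion-free O₀-module that is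
not free. Then every O₀-linear endomorphism of this module is Õ₀-linear, i.e. it is multiplication
by a unique element of Õ₀; consequently its O₀-endomorphism ring is Õ₀ and its O₀-automorphism group
is the unit group of Õ₀. Here an O₀-linear endomorphism is an additive map of k[[X]] × k[[X]]
commuting with multiplication by every pair whose two constant coefficients agree. (The source works
over an algebraically closed field; only the field structure is used.) -/
theorem result (k : Type u) [Field k]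
    (φ : (k⟦X⟧ × k⟦X⟧) →+ (k⟦X⟧ × k⟦X⟧))
    (hφ : ∀ a s : k⟦X⟧ × k⟦X⟧, constantCoeff a.1 = constantCoeff a.2 → φ (a * s) = a * φ s) :
    ∃! b : k⟦X⟧ × k⟦X⟧, ∀ s : k⟦X⟧ × k⟦X⟧, φ s = b * s := by
  set b := φ 1 with hb
  have hX0 : (X : k⟦X⟧) ≠ 0 := PowerSeries.X_ne_zero
  -- step 1
  have h1 : ∀ a : k⟦X⟧ × k⟦X⟧, constantCoeff a.1 = constantCoeff a.2 → φ a = a * b := by
    intro a ha
    have := hφ a 1 ha
    rwa [mul_one] at this
  -- step 2
  have he : φ (1, 0) = b * (1, 0) := by
    have hA : φ ((X, 0) * (1, 0)) = ((X : k⟦X⟧), (0 : k⟦X⟧)) * φ (1, 0) := hφ _ _ (by simp)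
    have hA' : φ ((X : k⟦X⟧), (0 : k⟦X⟧)) = ((X : k⟦X⟧), (0 : k⟦X⟧)) * b := h1 _ (by simp)
    have hB : φ ((0, X) * (1, 0)) = ((0 : k⟦X⟧), (X : k⟦X⟧)) * φ (1, 0) := hφ _ _ (by simp)
    have e1 : ((X : k⟦X⟧), (0 : k⟦X⟧)) * ((1 : k⟦X⟧), (0 : k⟦X⟧)) = (X, 0) := by simp
    have e2 : ((0 : k⟦X⟧), (X : k⟦X⟧)) * ((1 : k⟦X⟧), (0 : k⟦X⟧)) = 0 := by
      ext <;> simp
    rw [e1, hA'] at hA
    rw [e2, map_zero] at hB
    have c1 : X * b.1 = X * (φ (1, 0)).1 := congrArg Prod.fst hA
    have c2 : (0 : k⟦X⟧) = X * (φ (1, 0)).2 := congrArg Prod.snd hB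
    have d1 : b.1 = (φ (1, 0)).1 := mul_left_cancel₀ hX0 c1
    have d2 : (φ (1, 0)).2 = 0 := by
      rcases mul_eq_zero.mp c2.symm with h | h
      · exact absurd h hX0
      · exact h
    ext
    · simp [d1]
    · simp [d2]
  refine ⟨b, ?_, ?_⟩
  · intro s
    set c : k⟦X⟧ := PowerSeries.C (constantCoeff s.1 - constantCoeff s.2) with hc
    have hs : s = (s.1 - c, s.2) + (c, c) * (1, 0) := by
      ext <;> simp
    have hs' : constantCoeff (s.1 - c, s.2).1 = constantCoeff (s.1 - c, s.2).2 := by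
      simp [hc]
    rw [hs, map_add, h1 _ hs', hφ (c, c) (1, 0) rfl, he]
    ring
  · intro b' hb'
    have := hb' 1
    rw [mul_one] at this
    exact this.symm

end Groth.Agent.S17175
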