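import Groth.Statements.S17176
import Mathlib

set_option autoImplicit false
open Curves

namespace Groth.Agent.S17176

section aux

theorem main (g d : ℤ) (hg : 3 ≤ g) :
    Int.gcd (d - g + 1) (2 * g - 2) = 1 ↔
      ∀ gY k : ℤ, 0 < gY → gY < g - 1 → 1 ≤ k → k + 2 * gY - 2 < 2 * g - 2 →
        ¬ (2 * (g - 1) ∣ d * (2 * gY - 2 + k) - k * (g - 1)) := by
  constructor
  · intro hgcd gY k h1 h2 h3 h4 hdvd
    have hdvd' : (2 * g - 2) ∣ (d - g + 1) * (2 * gY - 2 + k) := by
      have e1 : (d - g + 1) * (2 * gY - 2 + k) =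
          (d * (2 * gY - 2 + k) - k * (g - 1)) - (2 * (g - 1)) * (gY - 1) := by ring
      rw [e1]
      have e2 : (2 * g - 2) = 2 * (g - 1) := by ring
      rw [e2]
      exact dvd_sub hdvd (dvd_mul_right _ _)
    have hcop : IsCoprime (2 * g - 2) (d - g + 1) := by
      rw [Int.isCoprime_iff_gcd_eq_one, Int.gcd_comm]; exact hgcd
    have h5 : (2 * g - 2) ∣ (2 * gY - 2 + k) := hcop.dvd_of_dvd_mul_left hdvd'
    have h6 := Int.le_of_dvd (by omega) h5
    omega
  · intro h
    by_contra hne
    set c : ℕ := Int.gcd (d - g + 1) (2 * g - 2) with hc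
    have hc0 : c ≠ 0 := by
      intro h0
      rw [hc, Int.gcd_eq_zero_iff] at h0
      omega
    have hc2 : (2 : ℤ) ≤ (c : ℤ) := by
      have : 2 ≤ c := by omega
      exact_mod_cast this
    obtain ⟨n', hn'⟩ : (c : ℤ) ∣ 2 * g - 2 := Int.gcd_dvd_right _ _
    obtain ⟨e', he'⟩ : (c : ℤ) ∣ d - g + 1 := Int.gcd_dvd_left _ _
    have hn'pos : 0 < n' := by
      by_contra hle
      push Not at hle
      have : (c : ℤ) * n' ≤ 0 := mul_nonpos_of_nonneg_of_nonpos (by omega) hle
      omega
    have hn'lt : n' < 2 * g - 2 := by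
      rw [hn']
      nlinarith
    apply h 1 n' (by norm_num) (by omega) (by omega) (by omega)
    refine ⟨e', ?_⟩
    have e1 : d * (2 * 1 - 2 + n') - n' * (g - 1) = n' * (d - g + 1) := by ring
    rw [e1, he']
    have e2 : 2 * (g - 1) = (c : ℤ) * n' := by rw [← hn']; ring
    rw [e2]; ring

end aux

/-- Fix integers g ≥ 3 and d. For a complete subcurve Y of arithmetic genus g_Y of a nodal curve of
genus g, meeting the rest of the curve in k points, the lower extreme of the Basic Inequality for
line bundles of degree d is m = d(2g_Y - 2 + k)/(2g - 2) - k/2, which is an integer exactly when 2(g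
- 1) divides d(2g_Y - 2 + k) - k(g - 1). Then gcd(d - g + 1, 2g - 2) = 1 if and only if m is not an
integer for all integers g_Y, k with 0 < g_Y < g - 1, k ≥ 1 and k + 2g_Y - 2 < 2g - 2. (The row
makes explicit the bound 2g_Y - 2 + k < 2g - 2, which is automatic for subcurves of stable curves
and is satisfied by every subcurve to which the source applies the lemma; the source leaves the
ambient curve's class implicit.) -/
theorem result (g d : ℤ) (hg : 3 ≤ g) :
    Int.gcd (d - g + 1) (2 * g - 2) = 1 ↔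
      ∀ gY k : ℤ, 0 < gY → gY < g - 1 → 1 ≤ k → k + 2 * gY - 2 < 2 * g - 2 →
        ¬ (2 * (g - 1) ∣ d * (2 * gY - 2 + k) - k * (g - 1)) := by
  exact main g d hg

end Groth.Agent.S17176
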