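import Groth.Statements.S17179
import Mathlib

set_option autoImplicit false
universe u
open LabGraph

namespace Groth.Agent.S17179

open LabGraph

section Helpers

variable {V E : Type u} [Fintype V] [Fintype E] [DecidableEq V] [DecidableEq E]

/-- indicator that the edge `e` is cut by `Y` -/
def cutI (ends : E → V × V) (Y : Finset V) (e : E) : ℤ :=
  if ((ends e).1 ∈ Y ∧ (ends e).2 ∉ Y) ∨ ((ends e).1 ∉ Y ∧ (ends e).2 ∈ Y) then 1 else 0

lemma cut_eq_sum (ends : E → V × V) (Y : Finset V) :
    (cut ends Y : ℤ) = ∑ e, cutI ends Y e := by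
  unfold cut cutI
  rw [Finset.card_filter]
  push_cast
  rfl

/-- contribution of the edge `e` to the twist summed over `Y` -/
def twI (ends : E → V × V) (φ : V → ℤ) (Y : Finset V) (e : E) : ℤ :=
  (if (ends e).1 ∈ Y then φ (ends e).2 - φ (ends e).1 else 0) +
    (if (ends e).2 ∈ Y then φ (ends e).1 - φ (ends e).2 else 0)

lemma twist_sum (ends : E → V × V) (φ : V → ℤ) (Y : Finset V) :
    ∑ v ∈ Y, twist ends φ v = ∑ e, twI ends φ Y e := by
  unfold twist twI
  rw [Finset.sum_comm]
  refine Finset.sum_congr rfl fun e _ => ?_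
  rw [Finset.sum_add_distrib, Finset.sum_ite_eq, Finset.sum_ite_eq]

lemma twist_total (ends : E → V × V) (φ : V → ℤ) :
    ∑ v, twist ends φ v = 0 := by
  rw [twist_sum]
  apply Finset.sum_eq_zero
  intro e _
  simp [twI]

lemma edge_ineq (ends : E → V × V) (Y Z : Finset V) (e : E) :
    cutI ends (Y ∪ Z) e + cutI ends (Y ∩ Z) e +
      2 * twI ends (fun u => if u ∈ Z then 1 else 0) Y e ≤ cutI ends Y e + cutI ends Z e := by
  unfold cutI twI
  simp only [Finset.mem_union, Finset.mem_inter]
  by_cases h1 : (ends e).1 ∈ Y <;> by_cases h2 : (ends e).1 ∈ Z <;>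
    by_cases h3 : (ends e).2 ∈ Y <;> by_cases h4 : (ends e).2 ∈ Z <;> simp [h1, h2, h3, h4]

lemma endCount_total (ends : E → V × V) :
    ∑ v, (endCount ends Finset.univ v : ℤ) = 2 * (Fintype.card E : ℤ) := by
  unfold endCount
  push_cast
  rw [Finset.sum_comm]
  simp only [Finset.sum_add_distrib, Finset.sum_ite_eq, Finset.mem_univ, if_true]
  simp [Finset.sum_const, Finset.card_univ]
  ring

lemma canDeg_univ (ends : E → V × V) (w : V → ℕ) :
    canDeg ends w Finset.univ = 2 * genus ends w - 2 := by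
  unfold canDeg genus
  rw [Finset.sum_add_distrib, Finset.sum_sub_distrib, endCount_total, ← Finset.mul_sum]
  simp [Finset.sum_const, Finset.card_univ]
  ring

lemma canDeg_union_inter (ends : E → V × V) (w : V → ℕ) (Y Z : Finset V) :
    canDeg ends w (Y ∪ Z) + canDeg ends w (Y ∩ Z) = canDeg ends w Y + canDeg ends w Z := by
  unfold canDeg
  exact Finset.sum_union_inter

lemma cut_compl (ends : E → V × V) (Y : Finset V) : cut ends Yᶜ = cut ends Y := by
  unfold cut
  congr 1
  ext e
  simp only [Finset.mem_filter, Finset.mem_univ, true_and, Finset.mem_compl]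
  tauto

lemma upper (ends : E → V × V) (w : V → ℕ)
    (hg : 3 ≤ genus ends w) (d : V → ℤ) (hBI : SatisfiesBI ends w d) (Z : Finset V)
    (hZ : 2 * (canDeg ends w Finset.univ * (∑ v ∈ Z, d v) - (∑ v : V, d v) * canDeg ends w Z) =
      (cut ends Z : ℤ) * canDeg ends w Finset.univ) (Y : Finset V) :
    2 * (canDeg ends w Finset.univ *
        (∑ v ∈ Y, (d v + twist ends (fun u => if u ∈ Z then 1 else 0) v)) -
        (∑ v : V, d v) * canDeg ends w Y) ≤ (cut ends Y : ℤ) * canDeg ends w Finset.univ := by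
  have hK : 0 ≤ canDeg ends w Finset.univ := by rw [canDeg_univ]; linarith
  have h1 := le_trans (mul_le_mul_of_nonneg_left (le_abs_self _) (by norm_num : (0:ℤ) ≤ 2)) (hBI (Y ∪ Z))
  have h2 := le_trans (mul_le_mul_of_nonneg_left (le_abs_self _) (by norm_num : (0:ℤ) ≤ 2)) (hBI (Y ∩ Z))
  have hd : ∑ v ∈ Y ∪ Z, d v + ∑ v ∈ Y ∩ Z, d v = ∑ v ∈ Y, d v + ∑ v ∈ Z, d v :=
    Finset.sum_union_inter
  have hc := canDeg_union_inter ends w Y Z
  have hsub : (cut ends (Y ∪ Z) : ℤ) + cut ends (Y ∩ Z) +
      2 * ∑ v ∈ Y, twist ends (fun u => if u ∈ Z then 1 else 0) v ≤ cut ends Y + cut ends Z := by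
    rw [twist_sum, cut_eq_sum, cut_eq_sum, cut_eq_sum, cut_eq_sum, Finset.mul_sum,
      ← Finset.sum_add_distrib, ← Finset.sum_add_distrib, ← Finset.sum_add_distrib]
    exact Finset.sum_le_sum fun e _ => edge_ineq ends Y Z e
  rw [Finset.sum_add_distrib]
  obtain ⟨K, hKdef⟩ : ∃ K : ℤ, K = canDeg ends w Finset.univ := ⟨_, rfl⟩
  obtain ⟨T, hT⟩ : ∃ T : ℤ, T = ∑ v ∈ Y, twist ends (fun u => if u ∈ Z then 1 else 0) v := ⟨_, rfl⟩
  rw [← hKdef] at hK h1 h2 hZ ⊢
  rw [← hT] at hsub ⊢
  have hmul := mul_le_mul_of_nonneg_left hsub hK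
  have hd' : K * ∑ v ∈ Y ∪ Z, d v + K * ∑ v ∈ Y ∩ Z, d v = K * ∑ v ∈ Y, d v + K * ∑ v ∈ Z, d v := by
    rw [← mul_add, hd, mul_add]
  have hc' : (∑ v : V, d v) * canDeg ends w (Y ∪ Z) + (∑ v : V, d v) * canDeg ends w (Y ∩ Z) =
      (∑ v : V, d v) * canDeg ends w Y + (∑ v : V, d v) * canDeg ends w Z := by
    rw [← mul_add, hc, mul_add]
  linarith [hmul, h1, h2, hZ, hd', hc']

end Helpers

open LabGraph in
/-- Let Γ be the weighted dual graph of a Deligne–Mumford semistable curve X of genus g ≥ 3 (connected;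
every weight-zero vertex without loop joined to the other vertices by at least two edges), d a
multidegree of total degree D satisfying the Basic Inequality, and Z a set of vertices whose degree
equals the upper extreme M_Z of the inequality, that is 2((2g - 2)·d_Z - D·canDeg Z) = cut Z·(2g -
2). Then d + z again satisfies the Basic Inequality, where z, the multidegree of O(Z) on the total
space of a regular smoothing, is the twist of the indicator function of Z (it lowers the degree on Z
by cut Z and raises it on each outside vertex by its number of edges to Z). -/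
theorem result {V E : Type u} [Fintype V] [Fintype E]
    [DecidableEq V] [DecidableEq E] (ends : E → V × V) (w : V → ℕ) (hX : IsSemistableGraph ends w)
    (hg : 3 ≤ genus ends w) (d : V → ℤ) (hBI : SatisfiesBI ends w d) (Z : Finset V)
    (hZ : 2 * (canDeg ends w Finset.univ * (∑ v ∈ Z, d v) - (∑ v : V, d v) * canDeg ends w Z) =
      (cut ends Z : ℤ) * canDeg ends w Finset.univ) :
    SatisfiesBI ends w (fun v => d v + twist ends (fun u => if u ∈ Z then 1 else 0) v) := by
  intro Y
  have htot : ∑ v : V, (d v + twist ends (fun u => if u ∈ Z then 1 else 0) v) = ∑ v : V, d v := by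
    rw [Finset.sum_add_distrib, twist_total, add_zero]
  rw [htot]
  have hu := upper ends w hg d hBI Z hZ Y
  have hu' := upper ends w hg d hBI Z hZ Yᶜ
  rw [cut_compl] at hu'
  have hs : ∑ v ∈ Yᶜ, (d v + twist ends (fun u => if u ∈ Z then 1 else 0) v) +
      ∑ v ∈ Y, (d v + twist ends (fun u => if u ∈ Z then 1 else 0) v) = ∑ v : V, d v := by
    rw [Finset.sum_compl_add_sum, htot]
  have hcd : canDeg ends w Yᶜ + canDeg ends w Y = canDeg ends w Finset.univ := by
    unfold canDeg
    exact Finset.sum_compl_add_sum _ _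
  rw [show (2 : ℤ) * |canDeg ends w Finset.univ *
        (∑ v ∈ Y, (d v + twist ends (fun u => if u ∈ Z then 1 else 0) v)) -
        (∑ v : V, d v) * canDeg ends w Y| = |2 * (canDeg ends w Finset.univ *
        (∑ v ∈ Y, (d v + twist ends (fun u => if u ∈ Z then 1 else 0) v)) -
        (∑ v : V, d v) * canDeg ends w Y)| by rw [abs_mul]; simp]
  rw [abs_le]
  constructor
  · obtain ⟨S1, hS1⟩ : ∃ S1 : ℤ, S1 = ∑ v ∈ Yᶜ, (d v + twist ends (fun u => if u ∈ Z then 1 else 0) v) := ⟨_, rfl⟩
    obtain ⟨S2, hS2⟩ : ∃ S2 : ℤ, S2 = ∑ v ∈ Y, (d v + twist ends (fun u => if u ∈ Z then 1 else 0) v) := ⟨_, rfl⟩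
    rw [← hS1] at hu' hs
    rw [← hS2] at hs ⊢
    have e1 : S1 = ∑ v : V, d v - S2 := by linarith
    have e2 : canDeg ends w Yᶜ = canDeg ends w Finset.univ - canDeg ends w Y := by linarith
    rw [e1, e2] at hu'
    nlinarith [hu']
  · exact hu

end Groth.Agent.S17179
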