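import Groth.Statements.S1723
import Groth.Agent.Lib.Helper16.GF8
import Groth.Agent.Lib.Helper8.EFB21

set_option autoImplicit false
universe u
open CategoryTheory
attribute [local instance] HasDerivedCategory.standard
open Dual

namespace Groth.Agent.S1723

/-- If a Noetherian local ring A has a dualizing complex, then each of its formal fibres is a Gorenstein
ring: for every prime p the ring A^ ⊗_A κ(p) (completion at the maximal ideal, tensored with the
residue field of p) is a Gorenstein ring. -/
theorem result (A : Type u) [CommRing A] [IsLocalRing A] [IsNoetherianRing A] (ω : Dual.D A) (hω : Dual.IsDualizing A ω) (p : PrimeSpectrum A) : LocCoh.IsGorensteinRing (EGA4.formalFibre A p.asIdeal) := by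
  haveI : Module.Flat A (AdicCompletion (IsLocalRing.maximalIdeal A) A) :=
    AdicCompletion.flat_of_isNoetherian (IsLocalRing.maximalIdeal A)
  haveI : IsNoetherianRing (AdicCompletion (IsLocalRing.maximalIdeal A) A) :=
    Groth.Agent.Lib.helper19.isNoetherianRing_adicCompletion A (IsLocalRing.maximalIdeal A)
  have h1 := Groth.Agent.Lib.Helper8.EFB.isDualizing_ε_adicCompletion
    (IsLocalRing.maximalIdeal A) ω hω
  exact Groth.Agent.Lib.Helper16.GF.isGorensteinRing_fibre_of_isDualizing_ε ω hω h1 p.asIdeal

end Groth.Agent.S1723
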