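import Groth.Statements.S17243
import Groth.Agent.S17245
import Mathlib
-- import your own Groth.Agent.* helpers here

set_option autoImplicit false
set_option linter.unusedSectionVars false
open W4c4effdivwronsk2

namespace Groth.Agent.S17243

open Polynomial Finset Groth.Agent.S17245

section topcoeff

variable {k : Type*} [Field k] [CharZero k] {m : ℕ} (r : Fin m → k) (a : Fin m → ℕ)

lemma RR_monic : (RR r).Monic := by
  unfold RR
  exact monic_prod_of_monic _ _ fun j _ => monic_X_sub_C (r j)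

lemma natDegree_RR : (RR r).natDegree = m := by
  unfold RR
  rw [natDegree_prod_of_monic _ _ fun j _ => monic_X_sub_C (r j)]
  simp

lemma Ri_monic (i : Fin m) : (Ri r i).Monic := by
  unfold Ri
  exact monic_prod_of_monic _ _ fun j _ => monic_X_sub_C (r j)

lemma natDegree_Ri (i : Fin m) : (Ri r i).natDegree = m - 1 := by
  unfold Ri
  rw [natDegree_prod_of_monic _ _ fun j _ => monic_X_sub_C (r j)]
  simp

lemma QQ_eq : QQ r a = ∑ i, C (a i : k) * Ri r i := rfl

lemma natDegree_QQ_le : (QQ r a).natDegree ≤ m - 1 := by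
  rw [QQ_eq]
  refine natDegree_sum_le_of_forall_le _ _ fun i _ => ?_
  refine (natDegree_C_mul_le _ _).trans ?_
  rw [natDegree_Ri]

lemma coeff_QQ (hm : 1 ≤ m) : (QQ r a).coeff (m - 1) = ((∑ j, a j : ℕ) : k) := by
  rw [QQ_eq, finsetSum_coeff, Nat.cast_sum]
  refine sum_congr rfl fun i _ => ?_
  rw [coeff_C_mul]
  have := (Ri_monic r i).coeff_natDegree
  rw [natDegree_Ri] at this
  rw [this, mul_one]

/-- top coefficient of `Ψ u` -/
lemma coeff_Psi_top (s : ℕ) (hs : 1 ≤ s) (u : k[X]) (hu : u.natDegree ≤ s) :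
    (Psi r a u).coeff (s + m - 1) = ((s : k) - ((∑ j, a j : ℕ) : k)) * u.coeff s := by
  rw [Psi_apply, coeff_sub]
  have h1 : (derivative u * RR r).coeff (s + m - 1) = (s : k) * u.coeff s := by
    rw [show s + m - 1 = (s - 1) + m by omega,
      coeff_mul_add_eq_of_natDegree_le ((natDegree_derivative_le u).trans (Nat.sub_le_sub_right hu 1))
        (le_of_eq (natDegree_RR r)), coeff_derivative, Nat.sub_add_cancel hs]
    have h2 := (RR_monic r).coeff_natDegree
    rw [natDegree_RR] at h2
    rw [h2, mul_one, Nat.cast_sub hs, Nat.cast_one, sub_add_cancel, mul_comm]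
  have h3 : (u * QQ r a).coeff (s + m - 1) = u.coeff s * ((∑ j, a j : ℕ) : k) := by
    rcases Nat.eq_zero_or_pos m with hm | hm
    · subst hm
      have : QQ r a = 0 := by rw [QQ_eq]; simp
      rw [this, mul_zero, coeff_zero]
      simp
    · rw [show s + m - 1 = s + (m - 1) by omega,
        coeff_mul_add_eq_of_natDegree_le hu (natDegree_QQ_le r a), coeff_QQ r a hm]
  rw [h1, h3]
  ring

end topcoeff

section rank

variable {k : Type*} [Field k]

lemma rank_ineq {M T : Type*} [AddCommGroup M] [Module k M] [AddCommGroup T] [Module k T]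
    [FiniteDimensional k T] (V₁ U₀ : Submodule k M) [FiniteDimensional k V₁] (hU : U₀ ≤ V₁)
    (f : M →ₗ[k] T) (hf0 : U₀ ≤ LinearMap.ker f) (hsurj : ∀ t : T, ∃ v ∈ V₁, f v = t) :
    Module.finrank k U₀ + Module.finrank k T ≤ Module.finrank k V₁ := by
  let g : V₁ →ₗ[k] T := f.comp V₁.subtype
  have hg : LinearMap.range g = ⊤ := by
    rw [LinearMap.range_eq_top]
    intro t
    obtain ⟨v, hv, hfv⟩ := hsurj t
    exact ⟨⟨v, hv⟩, hfv⟩
  have h1 := LinearMap.finrank_range_add_finrank_ker g
  rw [hg, finrank_top] at h1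
  have h2 : Submodule.comap V₁.subtype U₀ ≤ LinearMap.ker g := by
    intro x hx
    rw [LinearMap.mem_ker]
    exact LinearMap.mem_ker.1 (hf0 hx)
  have h3 := Submodule.finrank_mono h2
  rw [LinearEquiv.finrank_eq (Submodule.comapSubtypeEquivOfLe hU)] at h3
  omega

end rank

section degrees

variable {k : Type*} [Field k] [CharZero k] {m : ℕ} (r : Fin m → k) (a : Fin m → ℕ)

lemma mem_degreeLT_of_natDegree_lt {f : k[X]} {n : ℕ} (h : f = 0 ∨ f.natDegree < n) :
    f ∈ degreeLT k n := by
  rcases h with rfl | h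
  · exact Submodule.zero_mem _
  · by_cases hf : f = 0
    · rw [hf]; exact Submodule.zero_mem _
    · rw [mem_degreeLT]
      exact (natDegree_lt_iff_degree_lt hf).1 h

lemma natDegree_DD : (DD r a).natDegree = ∑ j, (a j + 1) := by
  unfold DD
  rw [natDegree_prod_of_monic _ _ fun j _ => (monic_X_sub_C (r j)).pow (a j + 1)]
  refine sum_congr rfl fun j _ => ?_
  rw [natDegree_pow, natDegree_X_sub_C, mul_one]

lemma natDegree_Di (i : Fin m) : (Di r a i).natDegree + (a i + 1) = ∑ j, (a j + 1) := by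
  unfold Di
  rw [natDegree_prod_of_monic _ _ fun j _ => (monic_X_sub_C (r j)).pow (a j + 1)]
  have : ∀ j ∈ univ.erase i, ((X - C (r j)) ^ (a j + 1)).natDegree = a j + 1 := by
    intro j _
    rw [natDegree_pow, natDegree_X_sub_C, mul_one]
  rw [sum_congr rfl this]
  exact sum_erase_add _ _ (mem_univ i)

/-- members of `U₀` have degree `< d - 1` -/
lemma U0_le (b d : ℕ) (hb : 1 ≤ b) (hd : d + 1 = (∑ j, (a j + 1)) + b) :
    (degreeLT k (b - 2)).map (LinearMap.mulLeft k (DD r a)) ⊔
      (⨆ i, (degreeLT k (a i)).map (LinearMap.mulLeft k (Di r a i))) ≤ degreeLT k (d - 1) := by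
  refine sup_le ?_ (iSup_le fun i => ?_)
  · rintro _ ⟨g, hg, rfl⟩
    rw [LinearMap.mulLeft_apply]
    apply mem_degreeLT_of_natDegree_lt
    by_cases hg0 : g = 0
    · left; rw [hg0, mul_zero]
    · right
      have h1 : g.natDegree < b - 2 := (natDegree_lt_iff_degree_lt hg0).2 (mem_degreeLT.1 hg)
      rw [natDegree_mul (DD_ne_zero r a) hg0, natDegree_DD]
      omega
  · rintro _ ⟨g, hg, rfl⟩
    rw [LinearMap.mulLeft_apply]
    apply mem_degreeLT_of_natDegree_lt
    by_cases hg0 : g = 0
    · left; rw [hg0, mul_zero]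
    · right
      have h1 : g.natDegree < a i := (natDegree_lt_iff_degree_lt hg0).2 (mem_degreeLT.1 hg)
      have h2 := natDegree_Di r a i
      have h3 := (natDegree_mul_le (p := Di r a i) (q := g))
      omega

lemma coeff_eq_zero_of_mem_degreeLT {f : k[X]} {n j : ℕ} (hf : f ∈ degreeLT k n) (hj : n ≤ j) :
    f.coeff j = 0 := by
  apply coeff_eq_zero_of_degree_lt
  exact lt_of_lt_of_le (mem_degreeLT.1 hf) (by exact_mod_cast hj)

end degrees


section main

variable {k : Type*} [Field k] [CharZero k] {m : ℕ} (r : Fin m → k) (a : Fin m → ℕ)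

lemma coeff_X_sub_C_pow' (q : k) (n i : ℕ) :
    ((X - C q) ^ n).coeff i = (-q) ^ (n - i) * (n.choose i : k) := by
  rw [sub_eq_add_neg, ← C_neg, coeff_X_add_C_pow]

lemma coeff_Psi_pow_top (q : k) (s : ℕ) (hs : 1 ≤ s) :
    (Psi r a ((X - C q) ^ s)).coeff (s + m - 1) = (s : k) - ((∑ j, a j : ℕ) : k) := by
  rw [coeff_Psi_top r a s hs _ (natDegree_pow_X_sub_C_le q s)]
  have : ((X - C q) ^ s).coeff s = 1 := by
    rw [coeff_X_sub_C_pow', Nat.sub_self, pow_zero, Nat.choose_self, Nat.cast_one, one_mul]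
  rw [this, mul_one]

lemma no_top {V₁ U₀ : Submodule k k[X]} [FiniteDimensional k V₁] (hU : U₀ ≤ V₁) (d : ℕ)
    (hU0 : U₀ ≤ degreeLT k (d - 1)) (hrank : Module.finrank k V₁ ≤ Module.finrank k U₀)
    (w : k[X]) (hw : w ∈ V₁) : w.coeff d = 0 := by
  by_contra hne
  have := rank_ineq V₁ U₀ hU (lcoeff k d) ?_ ?_
  · rw [Module.finrank_self] at this; omega
  · intro x hx
    rw [LinearMap.mem_ker, lcoeff_apply]
    exact coeff_eq_zero_of_mem_degreeLT (hU0 hx) (Nat.sub_le _ _)
  · intro t
    refine ⟨(t / w.coeff d) • w, Submodule.smul_mem _ _ hw, ?_⟩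
    rw [lcoeff_apply, coeff_smul, smul_eq_mul, div_mul_cancel₀ _ hne]

lemma no_two_top {V₁ U₀ : Submodule k k[X]} [FiniteDimensional k V₁] (hU : U₀ ≤ V₁) (d : ℕ)
    (hU0 : U₀ ≤ degreeLT k (d - 1)) (hrank : Module.finrank k V₁ ≤ Module.finrank k U₀ + 1)
    (w w' : k[X]) (hw : w ∈ V₁) (hw' : w' ∈ V₁) (h1 : w.coeff d ≠ 0) (h2 : w'.coeff d = 0) :
    w'.coeff (d - 1) = 0 := by
  by_contra hne
  have := rank_ineq V₁ U₀ hU ((lcoeff k d).prod (lcoeff k (d - 1))) ?_ ?_
  · rw [Module.finrank_prod, Module.finrank_self] at this; omega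
  · intro x hx
    rw [LinearMap.mem_ker]
    show ((x.coeff d, x.coeff (d - 1)) : k × k) = 0
    rw [coeff_eq_zero_of_mem_degreeLT (hU0 hx) (Nat.sub_le _ _),
      coeff_eq_zero_of_mem_degreeLT (hU0 hx) le_rfl]
    rfl
  · rintro ⟨t1, t2⟩
    refine ⟨(t1 / w.coeff d) • w +
      ((t2 - (t1 / w.coeff d) * w.coeff (d - 1)) / w'.coeff (d - 1)) • w',
      Submodule.add_mem _ (Submodule.smul_mem _ _ hw) (Submodule.smul_mem _ _ hw'), ?_⟩
    refine Prod.ext ?_ ?_
    · show ((t1 / w.coeff d) • w +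
        ((t2 - (t1 / w.coeff d) * w.coeff (d - 1)) / w'.coeff (d - 1)) • w').coeff d = t1
      rw [coeff_add, coeff_smul, coeff_smul, h2, smul_eq_mul, smul_eq_mul, mul_zero, add_zero,
        div_mul_cancel₀ _ h1]
    · show ((t1 / w.coeff d) • w +
        ((t2 - (t1 / w.coeff d) * w.coeff (d - 1)) / w'.coeff (d - 1)) • w').coeff (d - 1) = t2
      rw [coeff_add, coeff_smul, coeff_smul, smul_eq_mul, smul_eq_mul, div_mul_cancel₀ _ hne]
      ring

end main

open Polynomial in
/-- Let `k` be a field of characteristic zero and take, on the projective line over `k`, the point `∞`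
and `m` further distinct points `r_1, …, r_m` of the affine line, with positive integers `b` (at
`∞`) and `a_1, …, a_m`; put `N = b + ∑ a_j`. The sum of the spaces of differentials with a single
pole, of order at most `b + 1` at `∞`, resp. at most `a_j + 1` at `r_j`, `V = H⁰(ω((b+1)∞)) + ∑_j
H⁰(ω((a_j+1)r_j)) ⊆ H⁰(ω((b+1)∞ + ∑_j (a_j+1)r_j)) ≅ H⁰(O(d))`, `d = b - 1 + ∑ (a_j+1)`, becomes,
after multiplying by `dX⁻¹ ∏_j (X - r_j)^(a_j+1)`, the subspace of `k[X]_{≤ d}` spanned by
`D·k[X]_{<b}` and the `D_i·k[X]_{<a_i}`, where `D = ∏_j (X - r_j)^(a_j+1)` and `D_i` omits the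
`i`-th factor; a member `h` vanishes to order `n` at a point `q` of the affine line when `(X - q)^n
∣ h`, and to order `d - deg h` at `∞`. Let `V₁ ⊆ V` be a hyperplane (`dim V₁ = N - 1`) containing
`H⁰(ω((b-1)∞)) + ∑_j H⁰(ω((a_j+1)r_j))`, i.e. containing `D·k[X]_{<b-2}` and every
`D_i·k[X]_{<a_i}`. Then `V₁` has at most one ramification point off the marked points, and that
point is simple: at every point `q` of the affine line other than the `r_j` the weight of `V₁` is at
most one (no nonzero member divisible by `(X - q)^N`, at most a line of members divisible by `(X -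
q)^(N-2)`), and at most one such `q` has positive weight (a nonzero member divisible by `(X -
q)^(N-1)`). (The published statement is over the complex numbers with the distinguished marked point
arbitrary; it is placed at `∞` here, so that the unmarked points are the points of the affine line
other than the `r_j`.) -/
theorem result
    (k : Type*) [Field k] [CharZero k] (m : ℕ) (r : Fin m → k) (hr : Function.Injective r)
    (a : Fin m → ℕ) (ha : ∀ j, 1 ≤ a j) (b : ℕ) (hb : 1 ≤ b) (N d : ℕ)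
    (hN : N = (∑ j, a j) + b) (hd : d + 1 = (∑ j, (a j + 1)) + b)
    (V : Submodule k (Polynomial k))
    (hV : V = (Polynomial.degreeLT k b).map (LinearMap.mulLeft k (∏ j, (X - C (r j)) ^ (a j + 1))) ⊔
      ⨆ i, (Polynomial.degreeLT k (a i)).map
        (LinearMap.mulLeft k (∏ j ∈ Finset.univ.erase i, (X - C (r j)) ^ (a j + 1))))
    (V₁ : Submodule k (Polynomial k)) (hV₁ : V₁ ≤ V) (hfin : Module.finrank k ↥V₁ + 1 = N)
    (hU : (Polynomial.degreeLT k (b - 2)).map (LinearMap.mulLeft k (∏ j, (X - C (r j)) ^ (a j + 1))) ⊔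
      (⨆ i, (Polynomial.degreeLT k (a i)).map
        (LinearMap.mulLeft k (∏ j ∈ Finset.univ.erase i, (X - C (r j)) ^ (a j + 1)))) ≤ V₁) :
    (∀ q : k, (∀ j, q ≠ r j) →
      (V₁ ⊓ (Ideal.span {(X - C q) ^ N}).restrictScalars k) = ⊥ ∧
      Module.finrank k ↥(V₁ ⊓ (Ideal.span {(X - C q) ^ (N - 2)}).restrictScalars k) ≤ 1) ∧
    (∀ q q' : k, (∀ j, q ≠ r j) → (∀ j, q' ≠ r j) →
      (V₁ ⊓ (Ideal.span {(X - C q) ^ (N - 1)}).restrictScalars k) ≠ ⊥ →
      (V₁ ⊓ (Ideal.span {(X - C q') ^ (N - 1)}).restrictScalars k) ≠ ⊥ → q = q') := by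
  classical
  have hVeq : V = LinearMap.range (Theta r a b) := by rw [hV, range_Theta]; rfl
  have hsum : (∑ j, a j) ≤ N := by omega
  have hN1 : 1 ≤ N := by omega
  have hdm : d + 1 = N + m := by
    have : ∑ j : Fin m, (a j + 1) = (∑ j, a j) + m := by
      rw [Finset.sum_add_distrib]; simp
    omega
  have hVW : V ≤ WW r a N := by
    rw [hV]
    exact sup_le (D_mul_mem_WW r a ha b N hN) (iSup_le fun i => Di_mul_mem_WW r a ha b N hN i)
  have hV₁W : V₁ ≤ WW r a N := hV₁.trans hVW
  have hfdV : FiniteDimensional k V := by rw [hVeq]; infer_instance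
  have hfdV₁ : FiniteDimensional k V₁ := Submodule.finiteDimensional_of_le hV₁
  have hU₀V₁ : LinearMap.range (Theta r a (b - 2)) ≤ V₁ := by rw [range_Theta]; exact hU
  have hU₀deg : LinearMap.range (Theta r a (b - 2)) ≤ degreeLT k (d - 1) := by
    rw [range_Theta]; exact U0_le r a b d hb hd
  have hfU₀ := finrank_range_Theta r a hr (b - 2)
  have hbk : (N : k) - ((∑ j, a j : ℕ) : k) = (b : k) := by rw [hN]; push_cast; ring
  have hbk1 : ((N - 1 : ℕ) : k) - ((∑ j, a j : ℕ) : k) = (b : k) - 1 := by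
    rw [Nat.cast_sub hN1, hN]; push_cast; ring
  have hcontra : ∀ w w' : k[X], w ∈ V₁ → w' ∈ V₁ → w.coeff d ≠ 0 → w'.coeff d = 0 →
      (2 ≤ b → w'.coeff (d - 1) ≠ 0) → False := by
    intro w w' hw hw' h1 h2 h3
    rcases Nat.lt_or_ge b 2 with hb2 | hb2
    · have hb1 : b - 2 = 0 := by omega
      exact h1 (no_top hU₀V₁ d hU₀deg (by rw [hfU₀]; omega) w hw)
    · exact h3 hb2 (no_two_top hU₀V₁ d hU₀deg (by rw [hfU₀]; omega) w w' hw hw' h1 h2)
  have hzero : ∀ q : k, (∀ j, q ≠ r j) →
      (V₁ ⊓ (Ideal.span {(X - C q) ^ N}).restrictScalars k) = ⊥ := by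
    intro q hq
    rw [eq_bot_iff]
    rintro h ⟨hh1, hh2⟩
    rw [Submodule.mem_bot]
    exact eq_zero_of_dvd r a ha N hsum q hq h (hV₁W hh1) ((mem_S q N h).1 hh2)
  have hPsiN : ∀ q : k, (Psi r a ((X - C q) ^ N)).coeff d = (b : k) := by
    intro q
    have := coeff_Psi_pow_top r a q N hN1
    rw [show N + m - 1 = d by omega, hbk] at this
    exact this
  have hbne : (b : k) ≠ 0 := Nat.cast_ne_zero.2 (by omega)
  have hb1ne : 2 ≤ b → (b : k) - 1 ≠ 0 := by
    intro hb2
    have : ((b - 1 : ℕ) : k) ≠ 0 := Nat.cast_ne_zero.2 (by omega)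
    rwa [Nat.cast_sub hb, Nat.cast_one] at this
  refine ⟨fun q hq => ⟨hzero q hq, ?_⟩, ?_⟩
  · -- at most a line vanishing to order N - 2
    rcases Nat.lt_or_ge N 2 with hN2 | hN2
    · have h0 : Module.finrank k V₁ = 0 := by omega
      exact (Submodule.finrank_mono inf_le_left).trans (by omega)
    · have hS : V₁ ⊓ (Ideal.span {(X - C q) ^ (N - 2)}).restrictScalars k ≤
          Submodule.span k {Psi r a ((X - C q) ^ (N - 1)), Psi r a ((X - C q) ^ N)} := by
        rintro h ⟨hh1, hh2⟩
        obtain ⟨c₁, c₂, hc⟩ := exists_smul_add_of_dvd r a ha N hsum hN2 q hq h (hV₁W hh1)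
          ((mem_S q (N - 2) h).1 hh2)
        rw [hc]
        exact Submodule.add_mem _
          (Submodule.smul_mem _ _ (Submodule.subset_span (by simp)))
          (Submodule.smul_mem _ _ (Submodule.subset_span (by simp)))
      by_contra hlt
      rw [not_le] at hlt
      have hspan2 : Module.finrank k (Submodule.span k
          ({Psi r a ((X - C q) ^ (N - 1)), Psi r a ((X - C q) ^ N)} : Set k[X])) ≤ 2 := by
        have := finrank_span_finset_le_card (R := k)
          ({Psi r a ((X - C q) ^ (N - 1)), Psi r a ((X - C q) ^ N)} : Finset k[X])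
        rw [Finset.coe_insert, Finset.coe_singleton] at this
        exact this.trans Finset.card_le_two
      have hfdspan : FiniteDimensional k (Submodule.span k
          ({Psi r a ((X - C q) ^ (N - 1)), Psi r a ((X - C q) ^ N)} : Set k[X])) :=
        FiniteDimensional.span_of_finite k (by simp)
      have heq := Submodule.eq_of_le_of_finrank_le hS (by omega)
      have hw : Psi r a ((X - C q) ^ N) ∈ V₁ := by
        have : Psi r a ((X - C q) ^ N) ∈ Submodule.span k
          ({Psi r a ((X - C q) ^ (N - 1)), Psi r a ((X - C q) ^ N)} : Set k[X]) :=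
          Submodule.subset_span (by simp)
        rw [← heq] at this
        exact this.1
      have hw' : Psi r a ((X - C q) ^ (N - 1)) ∈ V₁ := by
        have : Psi r a ((X - C q) ^ (N - 1)) ∈ Submodule.span k
          ({Psi r a ((X - C q) ^ (N - 1)), Psi r a ((X - C q) ^ N)} : Set k[X]) :=
          Submodule.subset_span (by simp)
        rw [← heq] at this
        exact this.1
      refine hcontra _ _ hw hw' (by rw [hPsiN]; exact hbne) ?_ ?_
      · have := coeff_Psi_top r a N hN1 ((X - C q) ^ (N - 1))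
          ((natDegree_pow_X_sub_C_le q (N - 1)).trans (Nat.sub_le _ _))
        rw [show N + m - 1 = d by omega] at this
        rw [this, coeff_X_sub_C_pow', Nat.choose_eq_zero_of_lt (by omega), Nat.cast_zero, mul_zero,
          mul_zero]
      · intro hb2
        have := coeff_Psi_pow_top r a q (N - 1) (by omega)
        rw [show N - 1 + m - 1 = d - 1 by omega, hbk1] at this
        rw [this]
        exact hb1ne hb2
  · -- at most one ramification point
    intro q q' hq hq' hne hne'
    have hmem : ∀ q : k, (∀ j, q ≠ r j) →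
        (V₁ ⊓ (Ideal.span {(X - C q) ^ (N - 1)}).restrictScalars k) ≠ ⊥ →
        Psi r a ((X - C q) ^ N) ∈ V₁ := by
      intro q hq hne
      obtain ⟨h, hh, hh0⟩ := (Submodule.ne_bot_iff _).1 hne
      obtain ⟨c, hc⟩ := exists_smul_of_dvd r a ha N hsum hN1 q hq h (hV₁W hh.1)
        ((mem_S q (N - 1) h).1 hh.2)
      have hc0 : c ≠ 0 := by
        rintro rfl
        rw [zero_smul] at hc
        exact hh0 hc
      have : Psi r a ((X - C q) ^ N) = c⁻¹ • h := by
        rw [hc, smul_smul, inv_mul_cancel₀ hc0, one_smul]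
      rw [this]
      exact Submodule.smul_mem _ _ hh.1
    have hw := hmem q hq hne
    have hw₂ := hmem q' hq' hne'
    by_contra hqq
    refine hcontra _ _ hw (Submodule.sub_mem _ hw hw₂) (by rw [hPsiN]; exact hbne) ?_ ?_
    · rw [coeff_sub, hPsiN, hPsiN, sub_self]
    · intro hb2
      have hN2 : 2 ≤ N := by omega
      rw [← map_sub]
      have hdeg : ((X - C q) ^ N - (X - C q') ^ N).natDegree ≤ N - 1 := by
        rw [natDegree_le_iff_coeff_eq_zero]
        intro i hi
        rw [coeff_sub, coeff_X_sub_C_pow', coeff_X_sub_C_pow', show N - i = 0 by omega, pow_zero,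
          pow_zero, sub_self]
      have := coeff_Psi_top r a (N - 1) (by omega) _ hdeg
      rw [show N - 1 + m - 1 = d - 1 by omega, hbk1] at this
      rw [this, coeff_sub, coeff_X_sub_C_pow', coeff_X_sub_C_pow', show N - (N - 1) = 1 by omega,
        pow_one, pow_one, Nat.choose_symm hN1, Nat.choose_one_right]
      have hNk : (N : k) ≠ 0 := Nat.cast_ne_zero.2 (by omega)
      have hqq' : -q * (N : k) - -q' * (N : k) = (q' - q) * (N : k) := by ring
      rw [hqq']
      exact mul_ne_zero (hb1ne hb2) (mul_ne_zero (sub_ne_zero.2 (Ne.symm hqq)) hNk)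

end Groth.Agent.S17243
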