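import Groth.Statements.S17241
import Mathlib
import Groth.Agent.S17245
import Groth.Agent.S17243
-- import your own Groth.Agent.* helpers here

set_option autoImplicit false
set_option linter.unusedSectionVars false
open W4c4effdivwronsk2

namespace Groth.Agent.S17241

open Polynomial Finset Groth.Agent.S17245 Groth.Agent.S17243

section chain

lemma chain_lemma (f : ℕ → ℕ) (N e : ℕ) (he : e ≤ N) (h0 : f 0 = N) (hmono : ∀ n, f (n+1) ≤ f n)
    (hdrop : ∀ n, f n ≤ f (n+1) + 1) (hend : f (N+1) = 0) (hgap : f e = f (e+1)) :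
    ∀ n, f n = if n ≤ e then N - n else N + 1 - n := by
  have hmono' : ∀ n j, f (n + j) ≤ f n := by
    intro n j
    induction j with
    | zero => simp
    | succ j ih => exact (hmono (n+j)).trans ih
  have hdrop' : ∀ n j, f n ≤ f (n + j) + j := by
    intro n j
    induction j with
    | zero => simp
    | succ j ih =>
      have := hdrop (n + j)
      show f n ≤ f (n + j + 1) + (j + 1)
      omega
  intro n
  have h1 : f (e+1) ≤ N - e := by
    have := hdrop' (e+1) (N - e)
    rw [show e + 1 + (N - e) = N + 1 by omega, hend] at this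
    omega
  have h2 : N ≤ f e + e := by
    have := hdrop' 0 e
    rw [zero_add, h0] at this
    exact this
  split_ifs with hn
  · have h3 := hdrop' 0 n
    rw [zero_add, h0] at h3
    have h4 := hdrop' n (e - n)
    rw [show n + (e - n) = e by omega] at h4
    omega
  · rw [not_le] at hn
    by_cases hn' : n ≤ N + 1
    · have h3 := hdrop' n (N + 1 - n)
      rw [show n + (N+1-n) = N+1 by omega, hend] at h3
      have h4 := hdrop' (e+1) (n - (e+1))
      rw [show e+1 + (n-(e+1)) = n by omega] at h4
      omega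
    · have h3 := hmono' (N+1) (n - (N+1))
      rw [show N+1 + (n-(N+1)) = n by omega, hend] at h3
      omega

lemma finrank_le_inf_ker_add_one {k M : Type*} [Field k] [AddCommGroup M] [Module k M]
    (A : Submodule k M) [FiniteDimensional k A] (φ : M →ₗ[k] k) :
    Module.finrank k A ≤ Module.finrank k ↥(A ⊓ LinearMap.ker φ) + 1 := by
  have h1 := (φ.comp A.subtype).finrank_range_add_finrank_ker
  have h2 : Module.finrank k (LinearMap.range (φ.comp A.subtype)) ≤ 1 := by
    have := Submodule.finrank_le (LinearMap.range (φ.comp A.subtype))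
    rwa [Module.finrank_self] at this
  have h3 : Module.finrank k (LinearMap.ker (φ.comp A.subtype))
      = Module.finrank k ↥(A ⊓ LinearMap.ker φ) := by
    rw [LinearMap.ker_comp, ← Submodule.map_comap_subtype]
    exact (LinearEquiv.finrank_eq
      (Submodule.equivMapOfInjective A.subtype A.injective_subtype _))
  omega

end chain

section marked

variable {k : Type*} [Field k] [CharZero k] {m : ℕ} (r : Fin m → k) (a : Fin m → ℕ)

lemma eval_Ri_ne_zero (hr : Function.Injective r) (i : Fin m) : eval (r i) (Ri r i) ≠ 0 := by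
  unfold Ri
  rw [eval_prod, prod_ne_zero_iff]
  intro j hj
  rw [eval_sub, eval_X, eval_C, sub_ne_zero]
  exact fun h => (ne_of_mem_erase hj) (hr h).symm

lemma eval_Ei_ne_zero (hr : Function.Injective r) (i : Fin m) : eval (r i) (Ei r a i) ≠ 0 := by
  unfold Ei
  rw [eval_prod, prod_ne_zero_iff]
  intro j hj
  rw [eval_pow, eval_sub, eval_X, eval_C]
  refine pow_ne_zero _ (sub_ne_zero.2 ?_)
  exact fun h => (ne_of_mem_erase hj) (hr h).symm

lemma eval_QQ (i : Fin m) : eval (r i) (QQ r a) = (a i : k) * eval (r i) (Ri r i) := by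
  rw [QQ_eq, eval_finsetSum, sum_eq_single i]
  · rw [eval_mul, eval_C]
  · intro l _ hl
    rw [eval_mul, eval_C]
    have : eval (r i) (Ri r l) = 0 := by
      unfold Ri
      rw [eval_prod]
      apply prod_eq_zero (mem_erase.2 ⟨hl.symm, mem_univ i⟩)
      simp
    rw [this, mul_zero]
  · intro h; exact absurd (mem_univ i) h

lemma ord_marked (hr : Function.Injective r) (i : Fin m) (U : k[X]) :
    ∀ s : ℕ, (X - C (r i)) ^ s ∣ Psi r a U → (s ≤ a i ∨ (X - C (r i)) ^ (a i + 1) ∣ U) →
      (X - C (r i)) ^ s ∣ U := by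
  intro s
  induction s with
  | zero => intro _ _; rw [pow_zero]; exact one_dvd _
  | succ s ih =>
    intro hs hor
    have hU : (X - C (r i)) ^ s ∣ U :=
      ih (dvd_trans (pow_dvd_pow _ (Nat.le_succ s)) hs) (hor.imp (fun h => by omega) id)
    by_cases hsa : s = a i
    · subst hsa
      rcases hor with h | h
      · omega
      · exact h
    · obtain ⟨W, hW⟩ := hU
      have hpow : C (s : k) * (X - C (r i)) ^ (s - 1) * (X - C (r i))
          = C (s : k) * (X - C (r i)) ^ s := by
        rcases Nat.eq_zero_or_pos s with rfl | hpos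
        · simp
        · rw [mul_assoc, ← pow_succ, Nat.sub_add_cancel hpos]
      have h1 : Psi r a U = (X - C (r i)) ^ s * (C (s : k) * W * Ri r i
          + (X - C (r i)) * (derivative W * Ri r i) - W * QQ r a) := by
        rw [Psi_apply, hW, derivative_mul, derivative_X_sub_C_pow, RR_eq r i]
        calc (C (s : k) * (X - C (r i)) ^ (s - 1) * W + (X - C (r i)) ^ s * derivative W) *
              ((X - C (r i)) * Ri r i) - (X - C (r i)) ^ s * W * QQ r a
            = (C (s : k) * (X - C (r i)) ^ (s - 1) * (X - C (r i))) * W * Ri r i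
              + (X - C (r i)) ^ s * derivative W * ((X - C (r i)) * Ri r i)
              - (X - C (r i)) ^ s * W * QQ r a := by ring
          _ = _ := by rw [hpow]; ring
      rw [h1, pow_succ, mul_dvd_mul_iff_left (pow_ne_zero _ (X_sub_C_ne_zero (r i)))] at hs
      rw [dvd_iff_isRoot, IsRoot] at hs
      simp only [eval_sub, eval_add, eval_mul, eval_C, eval_X, sub_self, zero_mul, add_zero] at hs
      rw [eval_QQ] at hs
      have h2 : ((s : k) - (a i : k)) * eval (r i) W * eval (r i) (Ri r i) = 0 := by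
        linear_combination hs
      have hne : ((s : k) - (a i : k)) ≠ 0 := by
        rw [sub_ne_zero]
        exact fun h => hsa (Nat.cast_injective h)
      have h3 : eval (r i) W = 0 := by
        rcases mul_eq_zero.1 h2 with h | h
        · rcases mul_eq_zero.1 h with h | h
          · exact absurd h hne
          · exact h
        · exact absurd h (eval_Ri_ne_zero r hr i)
      obtain ⟨W', hW'⟩ := dvd_iff_isRoot.2 h3
      refine ⟨W', ?_⟩
      rw [hW, hW', pow_succ]
      ring

lemma eq_zero_of_dvd_marked (hr : Function.Injective r) (ha : ∀ j, 1 ≤ a j) (N : ℕ)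
    (hN : (∑ j, a j) ≤ N) (i : Fin m) (h : k[X]) (hh : h ∈ WW r a N)
    (hs : (X - C (r i)) ^ (N + 1) ∣ h) : h = 0 := by
  obtain ⟨P, hP, rfl⟩ := hh
  have hai : a i ≤ N := (single_le_sum (fun j _ => Nat.zero_le (a j)) (mem_univ i)).trans hN
  have h1 : (X - C (r i)) ^ (a i) ∣ P :=
    ord_marked r a hr i P (a i) (dvd_trans (pow_dvd_pow _ (by omega)) hs) (Or.inl le_rfl)
  obtain ⟨W, hW⟩ := h1
  have hE : EE r a ∈ degreeLT k (N + 1) :=
    mem_degLT_of_natDegree_le ((natDegree_EE_le r a).trans hN)
  set c : k := eval (r i) W / eval (r i) (Ei r a i) with hc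
  have hP' : P - c • EE r a ∈ degreeLT k (N + 1) :=
    Submodule.sub_mem _ hP (Submodule.smul_mem _ _ hE)
  have hPsi : Psi r a (P - c • EE r a) = Psi r a P := by
    rw [map_sub, map_smul, Psi_EE r a ha, smul_zero, sub_zero]
  have hdvd : (X - C (r i)) ^ (a i + 1) ∣ P - c • EE r a := by
    have h2 : P - c • EE r a = (X - C (r i)) ^ (a i) * (W - C c * Ei r a i) := by
      rw [hW, EE_eq r a i, smul_eq_C_mul]
      ring
    have h3 : (X - C (r i)) ∣ W - C c * Ei r a i := by
      rw [dvd_iff_isRoot, IsRoot, eval_sub, eval_mul, eval_C, hc,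
        div_mul_cancel₀ _ (eval_Ei_ne_zero r a hr i), sub_self]
    rw [h2, pow_succ]
    exact mul_dvd_mul_left _ h3
  have h4 : (X - C (r i)) ^ (N + 1) ∣ P - c • EE r a :=
    ord_marked r a hr i _ (N + 1) (by rw [hPsi]; exact hs) (Or.inr hdvd)
  have h5 : P - c • EE r a = 0 := by
    apply eq_zero_of_dvd_of_degree_lt h4
    rw [degree_X_sub_C_pow']
    exact mem_degreeLT.1 hP'
  rw [← hPsi, h5, map_zero]

lemma gap_marked (hr : Function.Injective r) (b : ℕ) (i : Fin m)
    (g : degreeLT k b × (∀ i : Fin m, degreeLT k (a i)))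
    (hs : (X - C (r i)) ^ (a i) ∣ Theta r a b g) : (X - C (r i)) ^ (a i + 1) ∣ Theta r a b g := by
  rw [Theta_apply] at hs ⊢
  have hrest : (X - C (r i)) ^ (a i + 1) ∣ DD r a * (g.1 : k[X])
      + ∑ j ∈ univ.erase i, Di r a j * ((g.2 j : degreeLT k (a j)) : k[X]) := by
    refine dvd_add (Dvd.dvd.mul_right ⟨Di r a i, DD_eq' r a i⟩ _) (dvd_sum fun j hj => ?_)
    exact Dvd.dvd.mul_right (pow_dvd_Di r a i j (ne_of_mem_erase hj)) _
  have hsplit : DD r a * (g.1 : k[X]) + ∑ j, Di r a j * ((g.2 j : degreeLT k (a j)) : k[X])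
      = (DD r a * (g.1 : k[X])
        + ∑ j ∈ univ.erase i, Di r a j * ((g.2 j : degreeLT k (a j)) : k[X]))
        + Di r a i * ((g.2 i : degreeLT k (a i)) : k[X]) := by
    rw [← add_sum_erase univ _ (mem_univ i)]
    ring
  rw [hsplit] at hs ⊢
  have h1 : (X - C (r i)) ^ (a i) ∣ Di r a i * ((g.2 i : degreeLT k (a i)) : k[X]) :=
    (dvd_add_right (dvd_trans (pow_dvd_pow _ (Nat.le_succ _)) hrest)).1 hs
  have h3 : (X - C (r i)) ^ (a i) ∣ ((g.2 i : degreeLT k (a i)) : k[X]) :=
    (coprime_pow_Di r a hr i (a i)).dvd_of_dvd_mul_left h1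
  have h4 : ((g.2 i : degreeLT k (a i)) : k[X]) = 0 := by
    apply eq_zero_of_dvd_of_degree_lt h3
    rw [degree_X_sub_C_pow']
    exact mem_degreeLT.1 (g.2 i).2
  rw [h4, mul_zero, add_zero]
  exact hrest

end marked

section infinity

variable {k : Type*} [Field k] [CharZero k] {m : ℕ} (r : Fin m → k) (a : Fin m → ℕ)

lemma EE_monic : (EE r a).Monic := by
  unfold EE
  exact monic_prod_of_monic _ _ fun j _ => (monic_X_sub_C (r j)).pow (a j)

lemma natDegree_EE : (EE r a).natDegree = ∑ j, a j := by
  unfold EE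
  rw [natDegree_prod_of_monic _ _ fun j _ => (monic_X_sub_C (r j)).pow (a j)]
  refine sum_congr rfl fun j _ => ?_
  rw [natDegree_pow, natDegree_X_sub_C, mul_one]

lemma top_ne (hm : 1 ≤ m) (U : k[X]) (hU : U ≠ 0) (hdeg : U.natDegree ≠ ∑ j, a j) :
    Psi r a U ∉ degreeLT k (m - 1) := by
  intro hmem
  rcases Nat.eq_zero_or_pos U.natDegree with h0 | hpos
  · have hUc : U = C (U.coeff 0) := eq_C_of_natDegree_eq_zero h0
    have hc0 : U.coeff 0 ≠ 0 := by
      intro h
      rw [h, C_0] at hUc
      exact hU hUc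
    have h1 := coeff_eq_zero_of_mem_degreeLT hmem (le_refl (m - 1))
    rw [Psi_apply, hUc, derivative_C, zero_mul, zero_sub, coeff_neg, coeff_C_mul,
      coeff_QQ r a hm, neg_eq_zero] at h1
    rcases mul_eq_zero.1 h1 with h | h
    · exact hc0 h
    · rw [h0] at hdeg
      exact hdeg (Nat.cast_injective (R := k) (by rw [h, Nat.cast_zero])).symm
  · have h1 := coeff_eq_zero_of_mem_degreeLT hmem (show m - 1 ≤ U.natDegree + m - 1 by omega)
    rw [coeff_Psi_top r a U.natDegree hpos U le_rfl] at h1
    rcases mul_eq_zero.1 h1 with h | h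
    · rw [sub_eq_zero] at h
      exact hdeg (Nat.cast_injective h)
    · exact hU (leadingCoeff_eq_zero.1 h)

lemma eq_zero_of_deg_lt (ha : ∀ j, 1 ≤ a j) (N : ℕ) (hN : (∑ j, a j) ≤ N) (h : k[X])
    (hh : h ∈ WW r a N) (hs : h ∈ degreeLT k (m - 1)) : h = 0 := by
  rcases Nat.eq_zero_or_pos m with hm | hm
  · subst hm
    rw [show (0 : ℕ) - 1 = 0 from rfl] at hs
    by_contra hne
    have h1 := mem_degreeLT.1 hs
    rw [degree_eq_natDegree hne] at h1
    have h2 : h.natDegree < 0 := by exact_mod_cast h1
    omega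
  obtain ⟨P, hP, rfl⟩ := hh
  by_cases hP0 : P = 0
  · rw [hP0, map_zero]
  by_cases hdeg : P.natDegree = ∑ j, a j
  · set P' := P - C P.leadingCoeff * EE r a with hP'
    have hPsi : Psi r a P' = Psi r a P := by
      rw [hP', ← smul_eq_C_mul, map_sub, map_smul, Psi_EE r a ha, smul_zero, sub_zero]
    by_cases hP'0 : P' = 0
    · rw [← hPsi, hP'0, map_zero]
    · exfalso
      have hE0 : C P.leadingCoeff * EE r a ≠ 0 :=
        mul_ne_zero (C_ne_zero.2 (leadingCoeff_ne_zero.2 hP0)) (EE_monic r a).ne_zero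
      have hdE : (C P.leadingCoeff * EE r a).natDegree = ∑ j, a j := by
        rw [natDegree_C_mul (leadingCoeff_ne_zero.2 hP0), natDegree_EE]
      have h1 : (P - C P.leadingCoeff * EE r a).degree < P.degree := by
        apply degree_sub_lt_left
        · rw [degree_eq_natDegree hP0, degree_eq_natDegree hE0, hdeg, hdE]
        · exact hP0
        · rw [leadingCoeff_mul, leadingCoeff_C, (EE_monic r a).leadingCoeff, mul_one]
      have h2 : P'.natDegree < P.natDegree := natDegree_lt_natDegree hP'0 h1
      refine top_ne r a hm P' hP'0 (by omega) ?_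
      rw [hPsi]
      exact hs
  · exact absurd hs (top_ne r a hm P hP0 hdeg)

lemma gap_infinity (b : ℕ) (g : degreeLT k b × (∀ i : Fin m, degreeLT k (a i)))
    (hs : Theta r a b g ∈ degreeLT k (∑ j, (a j + 1))) :
    Theta r a b g ∈ degreeLT k ((∑ j, (a j + 1)) - 1) := by
  rw [Theta_apply] at hs ⊢
  have hT : ∑ i, Di r a i * ((g.2 i : degreeLT k (a i)) : k[X])
      ∈ degreeLT k ((∑ j, (a j + 1)) - 1) := by
    refine Submodule.sum_mem _ fun i _ => ?_
    apply mem_degreeLT_of_natDegree_lt
    by_cases hg0 : ((g.2 i : degreeLT k (a i)) : k[X]) = 0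
    · left; rw [hg0, mul_zero]
    · right
      have h1 : ((g.2 i : degreeLT k (a i)) : k[X]).natDegree < a i :=
        (natDegree_lt_iff_degree_lt hg0).2 (mem_degreeLT.1 (g.2 i).2)
      have h2 := natDegree_Di r a i
      have h3 := (natDegree_mul_le (p := Di r a i) (q := ((g.2 i : degreeLT k (a i)) : k[X])))
      omega
  have hT' : ∑ i, Di r a i * ((g.2 i : degreeLT k (a i)) : k[X])
      ∈ degreeLT k (∑ j, (a j + 1)) :=
    degreeLT_mono (Nat.sub_le _ _) hT
  have h1 : DD r a * (g.1 : k[X]) ∈ degreeLT k (∑ j, (a j + 1)) := by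
    have := Submodule.sub_mem _ hs hT'
    rwa [add_sub_cancel_right] at this
  have h2 : (g.1 : k[X]) = 0 := by
    by_contra hg0
    have h3 := mem_degreeLT.1 h1
    rw [degree_eq_natDegree (mul_ne_zero (DD_ne_zero r a) hg0),
      natDegree_mul (DD_ne_zero r a) hg0, natDegree_DD] at h3
    have h4 : (∑ j, (a j + 1)) + (g.1 : k[X]).natDegree < ∑ j, (a j + 1) := by exact_mod_cast h3
    omega
  rw [h2, mul_zero, zero_add]
  exact hT

end infinity

open Polynomial in
/-- Let `k` be a field of characteristic zero and take, on the projective line over `k`, the point `∞`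
and `m` further distinct points `r_1, …, r_m` of the affine line, with positive integers `b` (at
`∞`) and `a_1, …, a_m`; put `N = b + ∑ a_j`. The sum of the spaces of differentials with a single
pole, of order at most `b + 1` at `∞`, resp. at most `a_j + 1` at `r_j`, `V = H⁰(ω((b+1)∞)) + ∑_j
H⁰(ω((a_j+1)r_j)) ⊆ H⁰(ω((b+1)∞ + ∑_j (a_j+1)r_j)) ≅ H⁰(O(d))`, `d = b - 1 + ∑ (a_j+1)`, becomes,
after multiplying by `dX⁻¹ ∏_j (X - r_j)^(a_j+1)`, the subspace of `k[X]_{≤ d}` spanned by
`D·k[X]_{<b}` and the `D_i·k[X]_{<a_i}`, where `D = ∏_j (X - r_j)^(a_j+1)` and `D_i` omits the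
`i`-th factor; a member `h` vanishes to order `n` at a point `q` of the affine line when `(X - q)^n
∣ h`, and to order `d - deg h` at `∞`. Then `dim V = N`, and at each marked point the vanishing
orders of the members of `V` are `0, …, e - 1, e + 1, …, N`, where `e = a_i` at `r_i` and `e = b` at
`∞`: the subspace vanishing to order at least `n` there has dimension `N - n` for `n ≤ e` and `N + 1
- n` for `n > e` (so the weight at `r_i` is `∑_{j ≠ i} a_j + b`). (The published statement is over
the complex numbers, with all marked points arbitrary; one of them is placed at `∞` here.) -/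
theorem result
    (k : Type*) [Field k] [CharZero k] (m : ℕ) (r : Fin m → k) (hr : Function.Injective r)
    (a : Fin m → ℕ) (ha : ∀ j, 1 ≤ a j) (b : ℕ) (hb : 1 ≤ b) (N d : ℕ)
    (hN : N = (∑ j, a j) + b) (hd : d + 1 = (∑ j, (a j + 1)) + b)
    (V : Submodule k (Polynomial k))
    (hV : V = (Polynomial.degreeLT k b).map (LinearMap.mulLeft k (∏ j, (X - C (r j)) ^ (a j + 1))) ⊔
      ⨆ i, (Polynomial.degreeLT k (a i)).map
        (LinearMap.mulLeft k (∏ j ∈ Finset.univ.erase i, (X - C (r j)) ^ (a j + 1)))) :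
    Module.finrank k ↥V = N ∧
    (∀ (i : Fin m) (n : ℕ), Module.finrank k ↥(V ⊓ (Ideal.span {(X - C (r i)) ^ n}).restrictScalars k) =
        if n ≤ a i then N - n else N + 1 - n) ∧
    (∀ n : ℕ, Module.finrank k ↥(V ⊓ Polynomial.degreeLT k (d + 1 - n)) =
        if n ≤ b then N - n else N + 1 - n) := by
  have hVeq : V = LinearMap.range (Theta r a b) := by rw [hV, range_Theta]; rfl
  have hsum : (∑ j, a j) ≤ N := by omega
  have hVW : V ≤ WW r a N := by
    rw [hV]
    exact sup_le (D_mul_mem_WW r a ha b N hN) (iSup_le fun i => Di_mul_mem_WW r a ha b N hN i)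
  have hfV : Module.finrank k V = N := by
    rw [hVeq, finrank_range_Theta r a hr b, hN]
  have hfdV : FiniteDimensional k V := by
    apply Module.finite_of_finrank_pos
    rw [hfV]; omega
  have hfd : ∀ W : Submodule k k[X], FiniteDimensional k ↥(V ⊓ W) := fun W =>
    Submodule.finiteDimensional_of_le inf_le_left
  have hsumeq : (∑ j, (a j + 1)) = (∑ j, a j) + m := by
    rw [sum_add_distrib]; simp
  refine ⟨hfV, ?_, ?_⟩
  · intro i
    have hai : a i ≤ N := (single_le_sum (fun j _ => Nat.zero_le (a j)) (mem_univ i)).trans hsum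
    apply chain_lemma (fun n => Module.finrank k
      ↥(V ⊓ (Ideal.span {(X - C (r i)) ^ n}).restrictScalars k)) N (a i) hai
    · show Module.finrank k ↥(V ⊓ (Ideal.span {(X - C (r i)) ^ 0}).restrictScalars k) = N
      rw [pow_zero, Ideal.span_singleton_one]
      have : V ⊓ (⊤ : Ideal k[X]).restrictScalars k = V := by
        rw [Submodule.restrictScalars_top, inf_top_eq]
      rw [this, hfV]
    · intro n
      apply Submodule.finrank_mono
      refine inf_le_inf_left _ ?_
      intro h hh
      exact (mem_S _ _ _).2 (dvd_trans (pow_dvd_pow _ (Nat.le_succ n)) ((mem_S _ _ _).1 hh))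
    · intro n
      let φ : k[X] →ₗ[k] k := (lcoeff k n).comp (taylor (r i))
      refine (finrank_le_inf_ker_add_one _ φ).trans ?_
      rw [add_le_add_iff_right]
      apply Submodule.finrank_mono
      rintro h ⟨⟨hh1, hh2⟩, hh3⟩
      refine ⟨hh1, (mem_S _ _ _).2 ?_⟩
      have hh2' := (mem_S _ _ _).1 hh2
      rw [X_sub_C_pow_dvd_iff, X_pow_dvd_iff] at hh2' ⊢
      intro l hl
      rcases Nat.lt_succ_iff_lt_or_eq.1 hl with h | h
      · exact hh2' l h
      · rw [h]
        exact hh3
    · show Module.finrank k ↥(V ⊓ (Ideal.span {(X - C (r i)) ^ (N + 1)}).restrictScalars k) = 0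
      have : V ⊓ (Ideal.span {(X - C (r i)) ^ (N + 1)}).restrictScalars k = ⊥ := by
        rw [eq_bot_iff]
        rintro h ⟨hh1, hh2⟩
        rw [Submodule.mem_bot]
        exact eq_zero_of_dvd_marked r a hr ha N hsum i h (hVW hh1) ((mem_S _ _ h).1 hh2)
      rw [this, finrank_bot]
    · show Module.finrank k ↥(V ⊓ (Ideal.span {(X - C (r i)) ^ (a i)}).restrictScalars k)
        = Module.finrank k ↥(V ⊓ (Ideal.span {(X - C (r i)) ^ (a i + 1)}).restrictScalars k)
      have heq : V ⊓ (Ideal.span {(X - C (r i)) ^ (a i)}).restrictScalars k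
          = V ⊓ (Ideal.span {(X - C (r i)) ^ (a i + 1)}).restrictScalars k := ?_
      · rw [heq]
      apply le_antisymm
      · rintro h ⟨hh1, hh2⟩
        refine ⟨hh1, (mem_S _ _ _).2 ?_⟩
        have hh2' := (mem_S _ _ _).1 hh2
        rw [hVeq] at hh1
        obtain ⟨g, rfl⟩ := hh1
        exact gap_marked r a hr b i g hh2'
      · refine inf_le_inf_left _ ?_
        intro h hh
        exact (mem_S _ _ _).2 (dvd_trans (pow_dvd_pow _ (Nat.le_succ _)) ((mem_S _ _ _).1 hh))
  · have hbN : b ≤ N := by omega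
    have hVd : V ≤ degreeLT k (d + 1) := by
      rw [hV]
      refine sup_le ?_ (iSup_le fun i => ?_)
      · rintro _ ⟨g, hg, rfl⟩
        rw [LinearMap.mulLeft_apply]
        apply mem_degreeLT_of_natDegree_lt
        by_cases hg0 : g = 0
        · left; rw [hg0, mul_zero]
        · right
          have h1 : g.natDegree < b := (natDegree_lt_iff_degree_lt hg0).2 (mem_degreeLT.1 hg)
          have h2 := natDegree_DD r a
          have h3 := (natDegree_mul_le (p := DD r a) (q := g))
          change (DD r a * g).natDegree < d + 1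
          omega
      · rintro _ ⟨g, hg, rfl⟩
        rw [LinearMap.mulLeft_apply]
        apply mem_degreeLT_of_natDegree_lt
        by_cases hg0 : g = 0
        · left; rw [hg0, mul_zero]
        · right
          have h1 : g.natDegree < a i := (natDegree_lt_iff_degree_lt hg0).2 (mem_degreeLT.1 hg)
          have h2 := natDegree_Di r a i
          have h3 := (natDegree_mul_le (p := Di r a i) (q := g))
          change (Di r a i * g).natDegree < d + 1
          omega
    apply chain_lemma (fun n => Module.finrank k ↥(V ⊓ degreeLT k (d + 1 - n))) N b hbN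
    · show Module.finrank k ↥(V ⊓ degreeLT k (d + 1 - 0)) = N
      rw [Nat.sub_zero, inf_eq_left.2 hVd, hfV]
    · intro n
      apply Submodule.finrank_mono
      exact inf_le_inf_left _ (degreeLT_mono (by omega))
    · intro n
      let φ : k[X] →ₗ[k] k := lcoeff k (d - n)
      refine (finrank_le_inf_ker_add_one _ φ).trans ?_
      rw [add_le_add_iff_right]
      apply Submodule.finrank_mono
      rintro h ⟨⟨hh1, hh2⟩, hh3⟩
      refine ⟨hh1, ?_⟩
      by_cases hnd : n ≤ d
      · rw [SetLike.mem_coe, show d + 1 - n = (d - n) + 1 by omega, mem_degreeLT] at hh2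
        rw [SetLike.mem_coe, show d + 1 - (n + 1) = d - n by omega, mem_degreeLT]
        have hh3' : h.coeff (d - n) = 0 := hh3
        by_cases h0 : h = 0
        · rw [h0, degree_zero]; exact WithBot.bot_lt_coe _
        · rw [degree_eq_natDegree h0] at hh2 ⊢
          have h5 : h.natDegree < d - n + 1 := by exact_mod_cast hh2
          have h6 : h.natDegree ≠ d - n := by
            intro h7
            rw [← h7] at hh3'
            exact h0 (leadingCoeff_eq_zero.1 hh3')
          have h8 : h.natDegree < d - n := by omega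
          exact_mod_cast h8
      · rw [SetLike.mem_coe, show d + 1 - n = 0 by omega] at hh2
        rw [SetLike.mem_coe, show d + 1 - (n + 1) = 0 by omega]
        exact hh2
    · show Module.finrank k ↥(V ⊓ degreeLT k (d + 1 - (N + 1))) = 0
      have : V ⊓ degreeLT k (d + 1 - (N + 1)) = ⊥ := by
        rw [eq_bot_iff]
        rintro h ⟨hh1, hh2⟩
        rw [Submodule.mem_bot]
        rw [SetLike.mem_coe, show d + 1 - (N + 1) = m - 1 by omega] at hh2
        exact eq_zero_of_deg_lt r a ha N hsum h (hVW hh1) hh2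
      rw [this, finrank_bot]
    · show Module.finrank k ↥(V ⊓ degreeLT k (d + 1 - b))
        = Module.finrank k ↥(V ⊓ degreeLT k (d + 1 - (b + 1)))
      have heq : V ⊓ degreeLT k (d + 1 - b) = V ⊓ degreeLT k (d + 1 - (b + 1)) := ?_
      · rw [heq]
      apply le_antisymm
      · rintro h ⟨hh1, hh2⟩
        refine ⟨hh1, ?_⟩
        rw [SetLike.mem_coe, show d + 1 - b = ∑ j, (a j + 1) by omega] at hh2
        rw [SetLike.mem_coe, show d + 1 - (b + 1) = (∑ j, (a j + 1)) - 1 by omega]
        rw [hVeq] at hh1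
        obtain ⟨g, rfl⟩ := hh1
        exact gap_infinity r a b g hh2
      · exact inf_le_inf_left _ (degreeLT_mono (by omega))

end Groth.Agent.S17241
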