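import Groth.Statements.S17259
import Mathlib.RingTheory.Ideal.Maps

set_option autoImplicit false
open CAlg

namespace Groth.Agent.S17259

/-- Let A, B, C be rings, f : B → A and g : B → C ring homomorphisms, and φ : A → B a homomorphism of
additive groups such that the sequence A → B → C → 0 (maps φ, g) is exact and f ∘ φ is
multiplication by a central element a of A which is not a zero divisor. Then the projection p : A →
A/(a) composed with f factors through g as a ring homomorphism q : C → A/(a), the homomorphism (f,
g) : B → A × C is injective, and its image is the fibre product of A and C over A/(a) along p and q;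
thus (f, g) is a ring isomorphism from B onto that fibre product. (The two-sidedness of the ideal
generated by a, automatic for a central element, is carried as an instance hypothesis.) -/
theorem result {A B C : Type*} [Ring A] [Ring B] [Ring C]
    (f : B →+* A) (g : B →+* C) (φ : A →+ B) (a : A)
    (hc : ∀ x : A, Commute a x) (ha : a ∈ nonZeroDivisors A)
    (hex : Function.Exact φ g) (hg : Function.Surjective g)
    (hφ : ∀ x : A, f (φ x) = a * x)
    [(Ideal.span ({a} : Set A)).IsTwoSided] :
    ∃ q : C →+* A ⧸ Ideal.span ({a} : Set A),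
      q.comp g = (Ideal.Quotient.mk (Ideal.span ({a} : Set A))).comp f ∧
      Function.Injective (f.prod g) ∧
      (f.prod g).range = (Ideal.Quotient.mk (Ideal.span ({a} : Set A))).pullback q := by
  set I : Ideal A := Ideal.span ({a} : Set A) with hI
  set p : A →+* A ⧸ I := Ideal.Quotient.mk I with hp
  have hmemI : ∀ x : A, a * x ∈ I := by
    intro x
    rw [(hc x).eq]
    exact Ideal.mul_mem_left _ _ (Ideal.mem_span_singleton_self a)
  have hker : RingHom.ker g ≤ RingHom.ker (p.comp f) := by
    intro b hb
    rw [RingHom.mem_ker] at hb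
    obtain ⟨x, rfl⟩ := (hex b).mp hb
    rw [RingHom.mem_ker, RingHom.comp_apply, hφ, hp, Ideal.Quotient.eq_zero_iff_mem]
    exact hmemI x
  let q : C →+* A ⧸ I := g.liftOfSurjective hg ⟨p.comp f, hker⟩
  have hq : q.comp g = p.comp f := g.liftOfSurjective_comp hg ⟨p.comp f, hker⟩
  have hgφ : ∀ x : A, g (φ x) = 0 := fun x => (hex (φ x)).mpr ⟨x, rfl⟩
  refine ⟨q, hq, ?_, ?_⟩
  · rw [injective_iff_map_eq_zero]
    intro b hb
    have hb1 : f b = 0 := congrArg Prod.fst hb
    have hb2 : g b = 0 := congrArg Prod.snd hb
    obtain ⟨x, rfl⟩ := (hex b).mp hb2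
    rw [hφ] at hb1
    have hx : x = 0 := (mem_nonZeroDivisors_iff.mp ha).1 x hb1
    rw [hx, map_zero]
  · ext ⟨x, c⟩
    constructor
    · rintro ⟨b, hb⟩
      have h1 : f b = x := congrArg Prod.fst hb
      have h2 : g b = c := congrArg Prod.snd hb
      change p x = q c
      rw [← h1, ← h2]
      exact (RingHom.congr_fun hq b).symm
    · intro hxc
      have hxc' : p x = q c := hxc
      obtain ⟨b0, rfl⟩ := hg c
      have h1 : p (x - f b0) = 0 := by
        rw [map_sub, hxc']
        have := RingHom.congr_fun hq b0
        simp only [RingHom.comp_apply] at this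
        rw [this, sub_self]
      rw [hp, Ideal.Quotient.eq_zero_iff_mem, hI, Ideal.mem_span_singleton'] at h1
      obtain ⟨y, hy⟩ := h1
      refine ⟨b0 + φ y, ?_⟩
      ext
      · change f (b0 + φ y) = x
        rw [map_add, hφ, (hc y).eq, hy]
        abel
      · change g (b0 + φ y) = g b0
        rw [map_add, hgφ, add_zero]

end Groth.Agent.S17259
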