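import Groth.Statements.S17265
-- import your own Groth.Agent.* helpers here
import Groth.Agent.Lib.Helper27.RepWithComp2
import Groth.Agent.Lib.Helper27.FpSwap
import Groth.Agent.Lib.Helper27.FpFib


set_option autoImplicit false
open CategoryTheory AlgebraicGeometry
universe u
open AlgSt

namespace Groth.Agent.S17265

/-- Let S be a scheme and let f : 𝒳 → 𝒴 and g : 𝒴 → 𝒵 be functors over (Sch/S) between categories fibred
in groupoids over (Sch/S). If the composite g ∘ f is representable by algebraic spaces and the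
diagonal 𝒴 → 𝒴 ×_𝒵 𝒴 of g is representable by algebraic spaces, then f is representable by algebraic
spaces. This is the case of the source's lemma in which the class of test objects is the class of
algebraic spaces over S (fppf sheaves on (Sch/S) with representable diagonal and an etale surjective
map from a scheme). -/
theorem result {S : Scheme.{u}} {𝒳 𝒴 𝒵 : AlgSt.Cat S}
    (h𝒳 : FibCat.IsFibGrpd 𝒳.p) (h𝒴 : FibCat.IsFibGrpd 𝒴.p) (h𝒵 : FibCat.IsFibGrpd 𝒵.p)
    (f : 𝒳 ⥤ᵇ 𝒴) (g : 𝒴 ⥤ᵇ 𝒵)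
    (hgf : AlgSt.RepByAlgSp1 (BasedFunctor.comp f g))
    (hΔ : AlgSt.RepByAlgSp1 (FibCat.diag g)) :
    AlgSt.RepByAlgSp1 f := by
  have hΔ' := (Groth.Agent.Lib.Helper27.AlgStackEquiv.repByAlgSp1_iff (FibCat.diag g)).1 hΔ
  have hgf' := (Groth.Agent.Lib.Helper27.AlgStackEquiv.repByAlgSp1_iff (BasedFunctor.comp f g)).1 hgf
  let e : BasedFunctor.comp (BasedFunctor.id 𝒳) (BasedFunctor.comp f g) ≅ BasedFunctor.comp f g :=
    Iso.refl _
  have h1 := Groth.Agent.Lib.Helper27.RepWithGeneral.repByAlgSpWith_graph ⊤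
    (BasedFunctor.comp f g) g f e hΔ'
  have h2 := Groth.Agent.Lib.Helper27.FpSwap.repByAlgSpWith_fpSnd ⊤ g (BasedFunctor.comp f g) hgf'
  have h3 := Groth.Agent.Lib.Helper27.RepWithComp.comp_gen ⊤
    Groth.Agent.Lib.Helper27.RepWithComp.compHyp_top h𝒳
    (Groth.Agent.Lib.Helper27.FpFib.isFibGrpd_fp (BasedFunctor.comp f g) g h𝒳 h𝒴 h𝒵)
    (FibCat.fpLift (BasedFunctor.id 𝒳) f e) (FibCat.fpSnd (BasedFunctor.comp f g) g) h1 h2
  exact (Groth.Agent.Lib.Helper27.AlgStackEquiv.repByAlgSp1_iff f).2 h3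

end Groth.Agent.S17265
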