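import Groth.Statements.S17266
import Mathlib

set_option autoImplicit false
open CategoryTheory
universe v u
open Stk

namespace Groth.Agent.S17266

theorem overMap_comp_eq {C : Type u} [Category.{v} C] {W V U : C} (k : W ⟶ V) (h : V ⟶ U) :
    (⟨Over.map (k ≫ h), Over.mapForget_eq (k ≫ h)⟩ : FibCat.overCat W ⥤ᵇ FibCat.overCat U) =
      BasedFunctor.comp (⟨Over.map k, Over.mapForget_eq k⟩ : FibCat.overCat W ⥤ᵇ FibCat.overCat V)
        (⟨Over.map h, Over.mapForget_eq h⟩ : FibCat.overCat V ⥤ᵇ FibCat.overCat U) := by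
  have := Over.mapComp_eq k h
  unfold BasedFunctor.comp
  congr

/-- Let C be a category with a Grothendieck topology J and let F : 𝒳 → 𝒴, G : 𝒴 → 𝒵 be functors over C
between categories fibred in groupoids over C. Say that a functor H : 𝒜 → ℬ over C is covering when
for every object U of C and every functor b : C/U → ℬ over C there is a J-covering sieve of U such
that for each of its arrows h : V → U the composite of C/V → C/U with b is 2-isomorphic over C to H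
∘ a for some functor a : C/V → 𝒜 over C (locally on the base every object of ℬ lifts to 𝒜 up to
isomorphism). If F and G are covering, then the composite G ∘ F is covering. -/
theorem result {C : Type u} [Category.{v} C] (J : GrothendieckTopology C)
    {𝒳 𝒴 𝒵 : BasedCategory.{v, max u v} C}
    (h𝒳 : FibCat.IsFibGrpd 𝒳.p) (h𝒴 : FibCat.IsFibGrpd 𝒴.p) (h𝒵 : FibCat.IsFibGrpd 𝒵.p)
    (F : 𝒳 ⥤ᵇ 𝒴) (G : 𝒴 ⥤ᵇ 𝒵)
    (hF : (∀ (U : C) (y : FibCat.overCat U ⥤ᵇ 𝒴), ∃ R ∈ J U, ∀ ⦃V : C⦄ (h : V ⟶ U), R.arrows h →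
        ∃ x : FibCat.overCat V ⥤ᵇ 𝒳,
          Nonempty (BasedFunctor.comp x F ≅ BasedFunctor.comp (⟨Over.map h, Over.mapForget_eq h⟩ : FibCat.overCat V ⥤ᵇ FibCat.overCat U) y)))
    (hG : (∀ (U : C) (y : FibCat.overCat U ⥤ᵇ 𝒵), ∃ R ∈ J U, ∀ ⦃V : C⦄ (h : V ⟶ U), R.arrows h →
        ∃ x : FibCat.overCat V ⥤ᵇ 𝒴,
          Nonempty (BasedFunctor.comp x G ≅ BasedFunctor.comp (⟨Over.map h, Over.mapForget_eq h⟩ : FibCat.overCat V ⥤ᵇ FibCat.overCat U) y))) :
    (∀ (U : C) (y : FibCat.overCat U ⥤ᵇ 𝒵), ∃ R ∈ J U, ∀ ⦃V : C⦄ (h : V ⟶ U), R.arrows h →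
        ∃ x : FibCat.overCat V ⥤ᵇ 𝒳,
          Nonempty (BasedFunctor.comp x (BasedFunctor.comp F G) ≅ BasedFunctor.comp (⟨Over.map h, Over.mapForget_eq h⟩ : FibCat.overCat V ⥤ᵇ FibCat.overCat U) y)) := by
  intro U z
  obtain ⟨R, hR, hR'⟩ := hG U z
  choose x hx using hR'
  have key := fun (V : C) (h : V ⟶ U) (hh : R.arrows h) => hF V (x h hh)
  choose R' hR'J hR'' using key
  refine ⟨Sieve.bind R (fun V h hh => R' V h hh), J.bind_covering hR (fun V h hh => hR'J V h hh), ?_⟩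
  rintro W l ⟨V, k, h, hh, hk, rfl⟩
  obtain ⟨w, ⟨ew⟩⟩ := hR'' V h hh k hk
  obtain ⟨eh⟩ := hx h hh
  refine ⟨w, ⟨?_⟩⟩
  rw [overMap_comp_eq]
  have e1 := Bicategory.whiskerRightIso (B := BasedCategory.{v, max u v} C) ew G
  have e2 := Bicategory.whiskerLeftIso (B := BasedCategory.{v, max u v} C)
    (⟨Over.map k, Over.mapForget_eq k⟩ : FibCat.overCat W ⥤ᵇ FibCat.overCat V) eh
  exact e1 ≪≫ e2

end Groth.Agent.S17266
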