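import Groth.Statements.S17276
import Groth.Agent.Lib.Helper8.DegTensor

set_option autoImplicit false
universe u
open CategoryTheory CategoryTheory.Limits AlgebraicGeometry TopologicalSpace
open Variety

namespace Groth.Agent.S17276
open Groth.Agent.Lib.Helper8.EulerK Groth.Agent.Lib.Helper8.DegTensor Groth.Agent.Lib.Helper8.K0Add
open Groth.Agent.Lib.Helper6.K0Len Groth.Agent.Lib.Helper6.K0Filt

open Classical in
/-- Let X be a proper scheme over a field k of dimension one (possibly reducible or non-reduced) and L
an invertible O_X-module that is nef, meaning χ(O_C ⊗ L) - χ(O_C) ≥ 0 for every integral closed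
subscheme C ⊆ X of dimension one. Then the degree of L on X, namely χ(L) - χ(O_X), is nonnegative. -/
theorem result (k : Type u) [Field k] (X : Scheme.{u})
    [X.Over (Spec (CommRingCat.of k))] [IsProper (X ↘ (Spec (CommRingCat.of k)))]
    (hdim : topologicalKrullDim X = 1) (L : X.Modules) (hL : PicF.IsInvertible L)
    (hnef : ∀ C : X.IdealSheafData, IsIntegral C.subscheme →
      topologicalKrullDim (C.support : Set X) = 1 →
        0 ≤ Curv2.euler k X (CohB1.tensorMod (ClSub.quotMod C) L) - Curv2.euler k X (ClSub.quotMod C)) :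
    0 ≤ Curv2.deg k X L 1 := by
  haveI : IsLocallyNoetherian X := isLocallyNoetherian k X
  haveI : CompactSpace X := QuasiCompact.compactSpace_of_compactSpace (X ↘ Spec (CommRingCat.of k))
  haveI : IsNoetherian X := { }
  have hL1 := Groth.Agent.Lib.Helper6.K0Op.isFinLocFreeOfRank_one_of_isInvertible L hL
  have hO : Coh.IsCoh (Coh.structureModule X) := Groth.Agent.Lib.Helper6.DevRed.isCoh_structureModule
  obtain ⟨-, h⟩ := eq_cycle_sum (psi k X 1 L) (psi_add k X 1 L hL1) hdim.le
    (psi_zero_of_dim k X 1 L hL1) (Coh.structureModule X) hO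
  obtain ⟨e⟩ := Groth.Agent.Lib.Helper28.AmpleUnit.nonempty_tensor_unit_iso L
  have hdeg : Curv2.deg k X L 1 = psi k X 1 L (Coh.structureModule X) := by
    unfold Curv2.deg psi
    rw [euler_congr k e]
  rw [hdeg, h]
  refine finsum_nonneg fun x => ?_
  split_ifs with hx
  · refine mul_nonneg (Nat.cast_nonneg _) ?_
    have h1 := hnef (Scheme.IdealSheafData.vanishingIdeal ⟨closure {x}, isClosed_closure⟩)
      (Groth.Agent.Lib.Helper6.DevRed.isIntegral_subscheme_vanishingIdeal _
        isIrreducible_singleton.closure)
      (by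
        rw [Scheme.IdealSheafData.coe_support_vanishingIdeal]
        exact hx)
    unfold psi
    rw [euler_congr k (Groth.Agent.Lib.Helper6.K0Inv.braidIso L (OZ x))]
    simpa using h1
  · exact le_rfl


end Groth.Agent.S17276
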