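import Groth.Statements.S17278
import Groth.Agent.Lib.Helper2.Kodaira4

set_option autoImplicit false
universe u
open CategoryTheory CategoryTheory.Limits AlgebraicGeometry TopologicalSpace
open Variety

namespace Groth.Agent.S17278

/-- Let X be a projective variety over a field k (an integral scheme, proper over k, carrying an ample
invertible module A₀) of dimension d, and L an invertible O_X-module. Then L is big, meaning that
for some real c > 0 one has dim_k H^0(X, L^{⊗n}) > c·n^d for all sufficiently large n, if and only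
if for every ample invertible O_X-module A, with a tensor inverse A' (A' ⊗ A ≅ O_X), there is an
integer m > 0 with H^0(X, A' ⊗ L^{⊗m}) ≠ 0. -/
theorem result (k : Type u) [Field k]
    (X : Scheme.{u}) [X.Over (Spec (CommRingCat.of k))] [IsProper (X ↘ (Spec (CommRingCat.of k)))] [IsIntegral X]
    (A₀ : X.Modules) (hA₀ : CohB1.IsAmple A₀)
    (d : ℕ) (hdim : topologicalKrullDim X = d) (L : X.Modules) (hL : PicF.IsInvertible L) :
    (∃ c : ℝ, 0 < c ∧ ∀ᶠ n : ℕ in Filter.atTop,
        c * (n : ℝ) ^ d < (Module.finrank k (Coh.HH X (CohB1.tensorPow L n) 0) : ℝ)) ↔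
      ∀ (A A' : X.Modules), CohB1.IsAmple A → ClSub.IsInverseOf A' A →
        ∃ m : ℕ, 0 < m ∧ Nontrivial (Coh.HH X (CohB1.tensorMod A' (CohB1.tensorPow L m)) 0) := by
  have hne : ∀ A : X.Modules, PicF.IsInvertible A → ¬ IsZero A := by
    intro A hA hz
    have h1 := Groth.Agent.Lib.Helper16.K0Supp.support_of_isZero hz
    rw [Groth.Agent.Lib.Helper4.Snapper.support_of_isInvertible _ hA] at h1
    exact Set.univ_nonempty.ne_empty h1
  constructor
  · rintro ⟨c, hc, hev⟩ A A' hA hA'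
    rw [Filter.eventually_atTop] at hev
    obtain ⟨N₀, hN₀⟩ := hev
    obtain ⟨a, ha⟩ := Groth.Agent.Lib.Helper2.Kodaira.freq_of_real_lb
      (fun m => Groth.Agent.Lib.Helper2.KodUB.h0 k (CohB1.tensorPow L m)) d c hc
      (fun M₀ => ⟨max M₀ N₀, le_max_left _ _, (hN₀ _ (le_max_right _ _)).le⟩)
    obtain ⟨m, hm, φ, hφ⟩ := Groth.Agent.Lib.Helper2.Kodaira.sub_of_growth k d hdim hA₀ hL a ha A hA
    refine ⟨m, hm, ?_⟩
    have hφ0 : φ ≠ 0 := fun h0 => hne A hA.1 (IsZero.of_mono_eq_zero φ h0)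
    exact (Groth.Agent.Lib.Helper2.TensEq.exists_hom_ne_zero_iff hA' (CohB1.tensorPow L m)).1 ⟨φ, hφ0⟩
  · intro h
    have hbig' : ∀ A : X.Modules, CohB1.IsAmple A →
        ∃ m : ℕ, 0 < m ∧ Groth.Agent.Lib.Helper2.KodSub.Sub A (CohB1.tensorPow L m) := by
      intro A hA
      have hA' := Groth.Agent.Lib.Helper8.InvInverse.isInverseOf_dual hA.1
      obtain ⟨m, hm, hnt⟩ := h A _ hA hA'
      obtain ⟨φ, hφ⟩ := (Groth.Agent.Lib.Helper2.TensEq.exists_hom_ne_zero_iff hA' (CohB1.tensorPow L m)).2 hnt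
      exact ⟨m, hm, φ, Groth.Agent.Lib.Helper8.CurveInv.mono_of_ne_zero hA.1
        (Groth.Agent.Lib.Helper28.GenLocus.isInvertible_tensorPow hL m) φ hφ⟩
    obtain ⟨N, m₁, hN, hg⟩ := Groth.Agent.Lib.Helper2.Kodaira.growth_of_big k d hdim hA₀ hL hbig'
    have hN' : (0 : ℝ) < (N : ℝ) := by exact_mod_cast hN
    refine ⟨1 / (2 * (N : ℝ)), by positivity, ?_⟩
    rw [Filter.eventually_atTop]
    refine ⟨max m₁ 1, fun n hn => ?_⟩
    have h1 := hg n ((le_max_left _ _).trans hn)
    unfold Groth.Agent.Lib.Helper2.KodUB.h0 at h1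
    have hn1 : 1 ≤ n := (le_max_right _ _).trans hn
    have h2 : ((n ^ d : ℕ) : ℝ) ≤ ((N * Module.finrank k (Coh.HH X (CohB1.tensorPow L n) 0) : ℕ) : ℝ) := by
      exact_mod_cast h1
    push_cast at h2
    have h3 : (0 : ℝ) < (n : ℝ) ^ d := by
      have : (0 : ℝ) < (n : ℝ) := by exact_mod_cast hn1
      positivity
    rw [div_mul_eq_mul_div, one_mul, div_lt_iff₀ (by positivity)]
    nlinarith


end Groth.Agent.S17278
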