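import Groth.Statements.S1728
-- import your own Groth.Agent.* helpers here
import Groth.Agent.Lib.Helper26.InjHull

set_option autoImplicit false
universe u
open InjHull

namespace Groth.Agent.S1728

/-- Let I be an injective R-module and E a submodule of I. Then E is an injective module if and only if
every submodule E' of I containing E, such that every nonzero submodule of E' meets E nontrivially,
is equal to E. -/
theorem result (R : Type u) [CommRing R] (I : Type u) [AddCommGroup I] [Module R I] [Module.Injective R I] (E : Submodule R I) : Module.Injective R E ↔ ∀ E' : Submodule R I, E ≤ E' → (∀ N : Submodule R I, N ≤ E' → N ≠ ⊥ → N ⊓ E ≠ ⊥) → E' = E := by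
  constructor
  · intro hE E' hle hess
    haveI := hE
    exact Groth.Agent.Lib.Helper26.InjHull.eq_of_essIn_of_injective
      (Groth.Agent.Lib.Helper26.InjHull.essIn_of_forall_inf_ne_bot hle hess)
  · intro h
    apply Groth.Agent.Lib.Helper26.InjHull.injective_of_forall_essIn_eq
    intro E' hE'
    exact h E' hE'.1 (fun N hN hN0 => hE'.inf_ne_bot hN hN0)

end Groth.Agent.S1728
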