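import Groth.Statements.S1729
import Mathlib

set_option autoImplicit false
universe u
open Dual2

namespace Groth.Agent.S1729

/-- Over a local ring, every finite module M admits a projective cover: a surjection from a projective
module P onto M such that no proper submodule of P maps onto M. -/
theorem result (R : Type u) [CommRing R] [IsLocalRing R] (M : Type u) [AddCommGroup M] [Module R M] [Module.Finite R M] : ∃ (P : Type u) (_ : AddCommGroup P) (_ : Module R P) (f : P →ₗ[R] M), Dual2.IsProjectiveCover f := by
  classical
  let k := IsLocalRing.ResidueField R
  let n := Module.finrank k (TensorProduct R k M)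
  let b : Module.Basis (Fin n) k (TensorProduct R k M) := Module.finBasis k _
  have hsurj : Function.Surjective (TensorProduct.mk R k M 1) :=
    TensorProduct.mk_surjective R M k Ideal.Quotient.mk_surjective
  choose f hf using fun i => hsurj (b i)
  let φ : (Fin n → R) →ₗ[R] M := Fintype.linearCombination R f
  refine ⟨Fin n → R, inferInstance, inferInstance, φ, ⟨inferInstance, ?_, ?_⟩⟩
  · rw [← LinearMap.range_eq_top, Fintype.range_linearCombination]
    exact IsLocalRing.span_eq_top_of_tmul_eq_basis f b hf
  · intro N hN
    rw [← IsLocalRing.map_tensorProduct_mk_eq_top]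
    let bP : Module.Basis (Fin n) k (TensorProduct R k (Fin n → R)) :=
      Module.Basis.baseChange k (Pi.basisFun R (Fin n))
    have hφk : LinearMap.baseChange k φ = (bP.equiv b (Equiv.refl _)).toLinearMap := by
      apply bP.ext
      intro i
      have : φ (Pi.single i 1) = f i := by
        simp [φ, Fintype.linearCombination_apply_single]
      have hbP : bP i = (1 : k) ⊗ₜ[R] (Pi.single i (1 : R) : Fin n → R) := by
        simp [bP, Module.Basis.baseChange_apply]
      rw [LinearEquiv.coe_coe, Module.Basis.equiv_apply, Equiv.refl_apply, hbP,
        LinearMap.baseChange_tmul, this, ← hf i]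
      rfl
    have hbij : Function.Bijective (LinearMap.baseChange k φ) := by
      rw [hφk]; exact (bP.equiv b _).bijective
    have hcomp : ((LinearMap.baseChange k φ).restrictScalars R) ∘ₗ
        (TensorProduct.mk R k (Fin n → R) 1) = (TensorProduct.mk R k M 1) ∘ₗ φ := by
      ext; simp
    have h1 : (N.map (TensorProduct.mk R k (Fin n → R) 1)).map
        ((LinearMap.baseChange k φ).restrictScalars R) = ⊤ := by
      rw [← Submodule.map_comp, hcomp, Submodule.map_comp, hN, Submodule.map_top,
        LinearMap.range_eq_top]
      exact hsurj
    have h2 : (⊤ : Submodule R _).map ((LinearMap.baseChange k φ).restrictScalars R) = ⊤ := by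
      rw [Submodule.map_top, LinearMap.range_eq_top]
      exact hbij.2
    exact Submodule.map_injective_of_injective (f := (LinearMap.baseChange k φ).restrictScalars R)
      hbij.1 (h1.trans h2.symm)

end Groth.Agent.S1729
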