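import Groth.Statements.S17335
import Mathlib
-- import your own Groth.Agent.* helpers here

set_option autoImplicit false
universe u v
open CAlg

namespace Groth.Agent.S17335

/-- Let k be an algebraically closed field and A a commutative k-algebra which is finite-dimensional as
a k-vector space, and let E be the set of k-algebra homomorphisms A → k. Then E is finite, and the
evaluation homomorphism A → O(E) = (E → k), a ↦ (f ↦ f(a)), is surjective with kernel the nilradical
of A; it therefore induces an isomorphism of A_red = A/nilradical(A) onto O(E). -/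
theorem result (k : Type u) [Field k]
    [IsAlgClosed k] (A : Type v) [CommRing A] [Algebra k A] [Module.Finite k A] :
    Finite (A →ₐ[k] k) ∧
      Function.Surjective (AlgHom.pi (R := k) (fun f : A →ₐ[k] k => f)) ∧
      RingHom.ker (AlgHom.pi (R := k) (fun f : A →ₐ[k] k => f)) = nilradical A := by
  classical
  haveI : IsArtinianRing A := IsArtinianRing.of_finite k A
  have hsurj : ∀ f : A →ₐ[k] k, Function.Surjective f :=
    fun f z => ⟨algebraMap k A z, by simp⟩
  have hmax : ∀ f : A →ₐ[k] k, (RingHom.ker f).IsMaximal :=
    fun f => RingHom.ker_isMaximal_of_surjective f (hsurj f)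
  have hinj : Function.Injective (fun f : A →ₐ[k] k => RingHom.ker f) := by
    intro f g hfg
    have hfg' : RingHom.ker f = RingHom.ker g := hfg
    apply AlgHom.ext
    intro a
    have h1 : a - algebraMap k A (f a) ∈ RingHom.ker f := by
      rw [RingHom.mem_ker, map_sub, AlgHom.commutes]
      simp
    rw [hfg', RingHom.mem_ker, map_sub, AlgHom.commutes] at h1
    have h2 : g a = f a := by simpa [sub_eq_zero] using h1
    exact h2.symm
  haveI hfin : Finite (A →ₐ[k] k) := by
    let φ : (A →ₐ[k] k) → MaximalSpectrum A := fun f => ⟨RingHom.ker f, hmax f⟩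
    apply Finite.of_injective φ
    intro f g hfg
    exact hinj (congrArg MaximalSpectrum.asIdeal hfg)
  refine ⟨hfin, ?_, ?_⟩
  · intro φ
    have hcop : Pairwise (Function.onFun IsCoprime (fun f : A →ₐ[k] k => RingHom.ker f)) := by
      intro f g hfg
      haveI := hmax f
      haveI := hmax g
      exact Ideal.isCoprime_of_isMaximal (fun h => hfg (hinj h))
    obtain ⟨a, ha⟩ := Ideal.exists_forall_sub_mem_ideal hcop (fun f => algebraMap k A (φ f))
    refine ⟨a, ?_⟩
    funext f
    have := ha f
    rw [RingHom.mem_ker, map_sub, AlgHom.commutes] at this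
    show f a = φ f
    simpa [sub_eq_zero] using this
  · apply le_antisymm
    · intro a ha
      rw [nilradical_eq_sInf, Ideal.mem_sInf]
      intro P hP
      haveI : P.IsPrime := hP
      haveI : P.IsMaximal := IsArtinianRing.isMaximal_of_isPrime P
      letI : Field (A ⧸ P) := Ideal.Quotient.field P
      haveI : Module.Finite k (A ⧸ P) :=
        Module.Finite.of_surjective (Ideal.Quotient.mkₐ k P).toLinearMap
          (Ideal.Quotient.mkₐ_surjective k _)
      have hbij : Function.Bijective (algebraMap k (A ⧸ P)) :=
        IsAlgClosed.algebraMap_bijective_of_isIntegral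
      let e : k ≃ₐ[k] (A ⧸ P) := AlgEquiv.ofBijective (Algebra.ofId k _) hbij
      let f : A →ₐ[k] k := (e.symm : (A ⧸ P) →ₐ[k] k).comp (Ideal.Quotient.mkₐ k P)
      have hfa : f a = 0 := by
        have := congrFun (RingHom.mem_ker.mp ha) f
        exact this
      have : Ideal.Quotient.mk P a = 0 := by
        have h3 : e.symm (Ideal.Quotient.mk P a) = 0 := hfa
        simpa using h3
      exact Ideal.Quotient.eq_zero_iff_mem.mp this
    · intro a ha
      rw [RingHom.mem_ker]
      funext f
      have hnil : IsNilpotent a := mem_nilradical.mp ha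
      exact (hnil.map f).eq_zero

end Groth.Agent.S17335
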