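import Groth.Statements.S17321
import Mathlib
import Groth.Agent.S17335
-- import your own Groth.Agent.* helpers here

set_option autoImplicit false
universe u v
open CAlg

namespace Groth.Agent.S17321

/-- Let k be an algebraically closed field and A a commutative k-algebra which is finite-dimensional as
a k-vector space (the coordinate ring of a finite k-scheme). Then the space Der(A) of k-derivations
A → A is zero if and only if A is reduced. -/
theorem result (k : Type u) [Field k] [IsAlgClosed k]
    (A : Type v) [CommRing A] [Algebra k A] [Module.Finite k A] :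
    Subsingleton (Derivation k A A) ↔ IsReduced A := by
  constructor
  · intro hsub
    by_contra hred
    have hex : ∃ x : A, IsNilpotent x ∧ x ≠ 0 := by
      by_contra hno
      push Not at hno
      exact hred ⟨fun x hx => hno x hx⟩
    obtain ⟨x, hxn, hx0⟩ := hex
    haveI : IsArtinianRing A := IsArtinianRing.of_finite k A
    haveI : IsNoetherianRing A := isNoetherian_of_tower k (inferInstance : IsNoetherian k A)
    haveI : Nontrivial (nilradical A) := ⟨⟨⟨x, hxn⟩, 0, fun h => hx0 (congrArg Subtype.val h)⟩⟩
    obtain ⟨P, hP⟩ := associatedPrimes.nonempty A (nilradical A)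
    rw [AssociatedPrimes.mem_iff, isAssociatedPrime_iff] at hP
    obtain ⟨hPprime, z, hPz⟩ := hP
    haveI := hPprime
    have hPmax : P.IsMaximal := IsArtinianRing.isMaximal_of_isPrime P
    have hmemP : ∀ r : A, r ∈ P ↔ r * (z : A) = 0 := by
      intro r
      rw [hPz, Submodule.mem_colon_singleton, Submodule.mem_bot]
      constructor
      · intro h
        have := congrArg Subtype.val h
        simpa using this
      · intro h
        apply Subtype.ext
        simpa using h
    have hz0 : (z : A) ≠ 0 := by
      intro h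
      apply hPprime.ne_top
      rw [Ideal.eq_top_iff_one, hmemP, h, mul_zero]
    have hzP : (z : A) ∈ P := by
      obtain ⟨n, hn⟩ : IsNilpotent (z : A) := z.2
      exact hPprime.mem_of_pow_mem n (by rw [hn]; exact P.zero_mem)
    -- P ≠ P * P
    have hPP : ¬ IsIdempotentElem P := by
      intro hid
      obtain ⟨e, he, hPe⟩ := (Ideal.isIdempotentElem_iff_of_fg P (IsNoetherian.noetherian P)).mp hid
      have heP : e ∈ P := by rw [hPe]; exact Ideal.mem_span_singleton_self e
      have h1 : e * (z : A) = 0 := (hmemP e).mp heP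
      rw [hPe, Ideal.mem_span_singleton'] at hzP
      obtain ⟨y, hy⟩ := hzP
      apply hz0
      calc (z : A) = y * e := hy.symm
        _ = y * (e * e) := by rw [he.eq]
        _ = e * (y * e) := by ring
        _ = 0 := by rw [hy, h1]
    have hlt : ∃ a₀ ∈ P, a₀ ∉ P * P := by
      by_contra hno
      push Not at hno
      exact hPP (le_antisymm Ideal.mul_le_left (fun a ha => hno a ha))
    obtain ⟨a₀, ha₀P, ha₀⟩ := hlt
    -- functional vanishing on P * P
    obtain ⟨Q, hQ⟩ : ∃ Q : Submodule k A, Q = Submodule.restrictScalars k (P * P : Ideal A) :=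
      ⟨_, rfl⟩
    have hQmem : ∀ u : A, u ∈ Q ↔ u ∈ P * P := by
      intro u; rw [hQ]; exact Iff.rfl
    obtain ⟨f, hfa, hfP⟩ := Submodule.exists_dual_map_eq_bot_of_notMem
      (p := Q) (x := a₀) (by rw [hQmem]; exact ha₀) inferInstance
    have hfPP : ∀ u ∈ P * P, f u = 0 := by
      intro u hu
      have : f u ∈ Q.map f := ⟨u, (hQmem u).mpr hu, rfl⟩
      rw [hfP] at this
      exact this
    -- residue map
    haveI : IsDomain (A ⧸ P) := Ideal.Quotient.isDomain P
    haveI : Algebra.IsIntegral k (A ⧸ P) := Algebra.IsIntegral.of_finite k (A ⧸ P)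
    have hbij : Function.Bijective (algebraMap k (A ⧸ P)) :=
      IsAlgClosed.algebraMap_bijective_of_isIntegral
    let ε : k ≃ₐ[k] (A ⧸ P) := AlgEquiv.ofBijective (Algebra.ofId k (A ⧸ P)) hbij
    let c : A →ₐ[k] k := ε.symm.toAlgHom.comp (Ideal.Quotient.mkₐ k P)
    have hc : ∀ a : A, a - algebraMap k A (c a) ∈ P := by
      intro a
      rw [← Ideal.Quotient.eq]
      have h1 : Ideal.Quotient.mk P (algebraMap k A (c a)) = ε (c a) := rfl
      rw [h1]
      change _ = ε (ε.symm (Ideal.Quotient.mk P a))
      rw [AlgEquiv.apply_symm_apply]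
    have hcP : ∀ a ∈ P, c a = 0 := by
      intro a ha
      change ε.symm (Ideal.Quotient.mk P a) = 0
      rw [Ideal.Quotient.eq_zero_iff_mem.mpr ha, map_zero]
    -- the derivation
    let D₀ : A →ₗ[k] A :=
      (f.comp (LinearMap.id - (Algebra.linearMap k A).comp c.toLinearMap)).smulRight (z : A)
    have hD₀ : ∀ a, D₀ a = f (a - algebraMap k A (c a)) • (z : A) := fun a => rfl
    have hmulz : ∀ a : A, a * (z : A) = c a • (z : A) := by
      intro a
      have h1 := (hmemP _).mp (hc a)
      rw [sub_mul, sub_eq_zero] at h1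
      rw [h1, Algebra.smul_def]
    let D : Derivation k A A := Derivation.mk' D₀ (by
      intro a b
      rw [hD₀, hD₀, hD₀, smul_eq_mul, smul_eq_mul, mul_smul_comm, mul_smul_comm, hmulz a,
        hmulz b, smul_smul, smul_smul, ← add_smul]
      congr 1
      have h1 : a * b - algebraMap k A (c (a * b)) =
          (a - algebraMap k A (c a)) * (b - algebraMap k A (c b)) +
          (c a • (b - algebraMap k A (c b)) + c b • (a - algebraMap k A (c a))) := by
        rw [map_mul, map_mul, Algebra.smul_def, Algebra.smul_def]
        ring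
      rw [h1, map_add, hfPP _ (Ideal.mul_mem_mul (hc a) (hc b)), zero_add, map_add, map_smul,
        map_smul, smul_eq_mul, smul_eq_mul]
      ring)
    have hD0 : D = 0 := Subsingleton.elim _ _
    have h2 : D a₀ = f a₀ • (z : A) := by
      change D₀ a₀ = _
      rw [hD₀, hcP a₀ ha₀P, map_zero, sub_zero]
    rw [hD0] at h2
    have h3 : f a₀ • (z : A) = 0 := h2.symm
    rcases smul_eq_zero.mp h3 with h | h
    · exact hfa h
    · exact hz0 h
  · intro hred
    obtain ⟨hfin, hsurj, hker⟩ := Groth.Agent.S17335.result k A
    have hinj : Function.Injective (AlgHom.pi (R := k) (fun f : A →ₐ[k] k => f)) := by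
      rw [injective_iff_map_eq_zero]
      intro a ha
      have : a ∈ RingHom.ker (AlgHom.pi (R := k) (fun f : A →ₐ[k] k => f)) := ha
      rw [hker, nilradical_eq_zero] at this
      exact this
    let e : A ≃ₐ[k] ((A →ₐ[k] k) → k) := AlgEquiv.ofBijective _ ⟨hinj, hsurj⟩
    haveI : Algebra.FormallyUnramified k ((A →ₐ[k] k) → k) :=
      (Algebra.FormallyUnramified.pi_iff _).mpr fun _ => inferInstance
    haveI : Algebra.FormallyUnramified k A := Algebra.FormallyUnramified.of_equiv e.symm
    exact (KaehlerDifferential.linearMapEquivDerivation k A (M := A)).symm.toEquiv.subsingleton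

end Groth.Agent.S17321
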