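import Groth.Statements.S17336
import Mathlib.RingTheory.Etale.Field
import Mathlib.RingTheory.Etale.Pi
import Mathlib.RingTheory.Artinian.Ring
import Mathlib.RingTheory.Ideal.Quotient.Nilpotent

set_option autoImplicit false
universe u v
open CAlg

namespace Groth.Agent.S17336

/-- Let k be an algebraically closed field and A a commutative k-algebra which is finite-dimensional as
a k-vector space (a finite scheme X = Spec A with largest reduced subscheme X_red = Spec
(A/nilradical A) and immersion i : X_red → X). Then there is a unique morphism r : X → X_red with r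
∘ i = id; on rings: the projection A → A/nilradical(A) admits exactly one section that is a
k-algebra homomorphism. -/
theorem result (k : Type u) [Field k]
    [IsAlgClosed k] (A : Type v) [CommRing A] [Algebra k A] [Module.Finite k A] :
    ∃! s : (A ⧸ nilradical A) →ₐ[k] A,
      (Ideal.Quotient.mkₐ k (nilradical A)).comp s = AlgHom.id k (A ⧸ nilradical A) := by
  haveI : IsArtinianRing A := IsArtinianRing.of_finite k A
  haveI : IsReduced (A ⧸ nilradical A) :=
    (Ideal.isRadical_iff_quotient_reduced (nilradical A)).mp (Ideal.radical_isRadical ⊥)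
  haveI : Algebra.FormallyEtale k (A ⧸ nilradical A) := by
    letI (m : MaximalSpectrum (A ⧸ nilradical A)) : Field ((A ⧸ nilradical A) ⧸ m.asIdeal) :=
      Ideal.Quotient.field m.asIdeal
    have hm : ∀ m : MaximalSpectrum (A ⧸ nilradical A),
        Algebra.FormallyEtale k ((A ⧸ nilradical A) ⧸ m.asIdeal) := by
      intro m
      haveI : Algebra.IsSeparable k ((A ⧸ nilradical A) ⧸ m.asIdeal) := inferInstance
      exact Algebra.FormallyEtale.of_isSeparable k _
    haveI : Algebra.FormallyEtale k (∀ m : MaximalSpectrum (A ⧸ nilradical A),
        (A ⧸ nilradical A) ⧸ m.asIdeal) := (Algebra.FormallyEtale.pi_iff _).mpr hm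
    exact .of_equiv ((IsArtinianRing.equivPi (A ⧸ nilradical A)).restrictScalars k).symm
  have hnil : IsNilpotent (nilradical A) := IsArtinianRing.isNilpotent_nilradical
  obtain ⟨s, hs⟩ := Algebra.FormallySmooth.exists_lift (nilradical A) hnil
    (AlgHom.id k (A ⧸ nilradical A))
  exact ⟨s, hs, fun s' hs' =>
    Algebra.FormallyUnramified.lift_unique (nilradical A) hnil s' s (hs'.trans hs.symm)⟩

end Groth.Agent.S17336
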