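import Groth.Statements.S17323
import Groth.Agent.S17335
import Groth.Agent.S17336
import Mathlib
-- import your own Groth.Agent.* helpers here

set_option autoImplicit false
universe u v
open CAlg

namespace Groth.Agent.S17323

/-- Let k be an algebraically closed field and A a commutative k-algebra which is finite-dimensional as
a k-vector space. Then A has a largest reduced subalgebra: a k-subalgebra B which is reduced and
contains every reduced k-subalgebra of A; moreover the composite of the inclusion B → A with the
projection A → A/nilradical(A) is bijective. -/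
theorem result (k : Type u) [Field k] [IsAlgClosed k]
    (A : Type v) [CommRing A] [Algebra k A] [Module.Finite k A] :
    ∃ B : Subalgebra k A, IsReduced ↥B ∧ (∀ C : Subalgebra k A, IsReduced ↥C → C ≤ B) ∧
      Function.Bijective ((Ideal.Quotient.mkₐ k (nilradical A)).comp B.val) := by
  classical
  obtain ⟨s, hs, -⟩ := Groth.Agent.S17336.result k A
  have hπs : ∀ x, Ideal.Quotient.mk (nilradical A) (s x) = x := fun x => AlgHom.congr_fun hs x
  haveI hAred : IsReduced (A ⧸ nilradical A) :=
    (Ideal.isRadical_iff_quotient_reduced _).mp (Ideal.radical_isRadical _)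
  have hinjB : Function.Injective ((Ideal.Quotient.mkₐ k (nilradical A)).comp s.range.val) := by
    rintro ⟨_, x, rfl⟩ ⟨_, y, rfl⟩ hxy
    have h1 : Ideal.Quotient.mk (nilradical A) (s x) = Ideal.Quotient.mk (nilradical A) (s y) := hxy
    rw [hπs, hπs] at h1
    subst h1
    rfl
  refine ⟨s.range, ?_, ?_, hinjB, ?_⟩
  · exact isReduced_of_injective ((Ideal.Quotient.mkₐ k (nilradical A)).comp s.range.val) hinjB
  · intro C hC
    haveI : IsNoetherian k A := inferInstance
    haveI : Module.Finite k C := Module.Finite.of_injective C.val.toLinearMap Subtype.val_injective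
    obtain ⟨hfin, hsurj, hker⟩ := Groth.Agent.S17335.result k C
    have hinj : Function.Injective (AlgHom.pi (R := k) (fun f : C →ₐ[k] k => f)) := by
      rw [injective_iff_map_eq_zero]
      intro a ha
      have h1 : a ∈ RingHom.ker (AlgHom.pi (R := k) (fun f : C →ₐ[k] k => f)) := ha
      rw [hker, nilradical_eq_zero, Ideal.zero_eq_bot, Ideal.mem_bot] at h1
      exact h1
    let e : C ≃ₐ[k] ((C →ₐ[k] k) → k) := AlgEquiv.ofBijective _ ⟨hinj, hsurj⟩
    haveI : Algebra.FormallyUnramified k ((C →ₐ[k] k) → k) := inferInstance
    haveI : Algebra.FormallyUnramified k C := Algebra.FormallyUnramified.of_equiv e.symm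
    haveI : IsArtinianRing A := IsArtinianRing.of_finite k A
    have hnil : IsNilpotent (nilradical A) := IsNoetherianRing.isNilpotent_nilradical A
    have heq : C.val = s.comp ((Ideal.Quotient.mkₐ k (nilradical A)).comp C.val) := by
      apply Algebra.FormallyUnramified.ext (nilradical A) hnil
      intro x
      show _ = Ideal.Quotient.mk (nilradical A) (s _)
      rw [hπs]
      rfl
    intro c hc
    have := AlgHom.congr_fun heq ⟨c, hc⟩
    rw [show (C.val ⟨c, hc⟩ : A) = c from rfl] at this
    rw [this]
    exact ⟨_, rfl⟩
  · intro x
    exact ⟨⟨s x, x, rfl⟩, hπs x⟩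

end Groth.Agent.S17323
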