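import Groth.Statements.S17324
import Mathlib
-- import your own Groth.Agent.* helpers here

set_option autoImplicit false
universe u v
open CAlg

namespace Groth.Agent.S17324

/-- (i) ⟺ (ii): let k be an algebraically closed field, A a commutative k-algebra which is
finite-dimensional as a k-vector space and is a local ring with maximal ideal m, and a_1, …, a_m ∈
m. Then A is generated as a k-algebra by a_1, …, a_m if and only if m is generated as an ideal by
a_1, …, a_m. (The printed lemma has a third equivalent condition, that the images of the a_i span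
m/m²; its equivalence with (ii) is Nakayama's lemma.) -/
theorem result (k : Type u) [Field k] [IsAlgClosed k]
    (A : Type v) [CommRing A] [Algebra k A] [Module.Finite k A] [IsLocalRing A]
    (m : ℕ) (a : Fin m → A) (ha : ∀ i, a i ∈ IsLocalRing.maximalIdeal A) :
    Algebra.adjoin k (Set.range a) = ⊤ ↔ Ideal.span (Set.range a) = IsLocalRing.maximalIdeal A := by
  classical
  have hIm : Ideal.span (Set.range a) ≤ IsLocalRing.maximalIdeal A := by
    rw [Ideal.span_le]; rintro _ ⟨i, rfl⟩; exact ha i
  have hres : ∀ x : A, ∃ c : k, x - algebraMap k A c ∈ IsLocalRing.maximalIdeal A := by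
    haveI : Module.Finite k (IsLocalRing.ResidueField A) :=
      Module.Finite.of_surjective
        (IsScalarTower.toAlgHom k A (IsLocalRing.ResidueField A)).toLinearMap
        IsLocalRing.residue_surjective
    haveI : Algebra.IsIntegral k (IsLocalRing.ResidueField A) := Algebra.IsIntegral.of_finite k _
    intro x
    obtain ⟨c, hc⟩ := (IsAlgClosed.algebraMap_bijective_of_isIntegral (k := k)
      (K := IsLocalRing.ResidueField A)).2 (IsLocalRing.residue A x)
    refine ⟨c, ?_⟩
    rw [← IsLocalRing.residue_eq_zero_iff, map_sub, sub_eq_zero, ← hc]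
    rfl
  constructor
  · intro hadj
    apply le_antisymm hIm
    intro x hx
    have key : ∀ y ∈ Algebra.adjoin k (Set.range a),
        ∃ c : k, y - algebraMap k A c ∈ Ideal.span (Set.range a) := by
      intro y hy
      induction hy using Algebra.adjoin_induction with
      | mem y hy => exact ⟨0, by simpa using Ideal.subset_span hy⟩
      | algebraMap c => exact ⟨c, by simp⟩
      | add y z _ _ hy hz =>
        obtain ⟨c, hc⟩ := hy
        obtain ⟨d, hd⟩ := hz
        refine ⟨c + d, ?_⟩
        have hE : y + z - algebraMap k A (c + d) =
            (y - algebraMap k A c) + (z - algebraMap k A d) := by rw [map_add]; ring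
        rw [hE]; exact Ideal.add_mem _ hc hd
      | mul y z _ _ hy hz =>
        obtain ⟨c, hc⟩ := hy
        obtain ⟨d, hd⟩ := hz
        refine ⟨c * d, ?_⟩
        have hE : y * z - algebraMap k A (c * d) =
            (y - algebraMap k A c) * z + algebraMap k A c * (z - algebraMap k A d) := by
          rw [map_mul]; ring
        rw [hE]
        exact Ideal.add_mem _ (Ideal.mul_mem_right _ _ hc) (Ideal.mul_mem_left _ _ hd)
    obtain ⟨c, hc⟩ := key x (by rw [hadj]; trivial)
    have hcm : algebraMap k A c ∈ IsLocalRing.maximalIdeal A := by
      have h1 : x - algebraMap k A c ∈ IsLocalRing.maximalIdeal A := hIm hc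
      have hE : algebraMap k A c = x - (x - algebraMap k A c) := by ring
      rw [hE]; exact Ideal.sub_mem _ hx h1
    have hc0 : c = 0 := by
      by_contra hne
      have hu : IsUnit (algebraMap k A c) := (IsUnit.mk0 c hne).map _
      exact (IsLocalRing.mem_maximalIdeal _).1 hcm hu
    rw [hc0, map_zero, sub_zero] at hc
    exact hc
  · intro hspan
    rw [eq_top_iff]
    haveI : IsArtinianRing A := IsArtinianRing.of_finite k A
    obtain ⟨N, hN⟩ : ∃ N, IsLocalRing.maximalIdeal A ^ N = ⊥ := by
      have h := IsArtinianRing.isNilpotent_jacobson_bot (R := A)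
      rw [IsLocalRing.jacobson_eq_maximalIdeal ⊥ bot_ne_top] at h
      exact h
    have key : ∀ j : ℕ, ∀ x : A, ∃ b ∈ Algebra.adjoin k (Set.range a),
        x - b ∈ IsLocalRing.maximalIdeal A ^ j := by
      intro j
      induction j with
      | zero => intro x; exact ⟨0, Subalgebra.zero_mem _, by simp⟩
      | succ j ih =>
        intro x
        obtain ⟨c, hc⟩ := hres x
        rw [← hspan] at hc
        obtain ⟨coef, hcoef⟩ := (Ideal.mem_span_range_iff_exists_fun).1 hc
        choose b hbB hb using fun i => ih (coef i)
        refine ⟨algebraMap k A c + ∑ i, b i * a i, ?_, ?_⟩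
        · exact Subalgebra.add_mem _ (Subalgebra.algebraMap_mem _ c)
            (Subalgebra.sum_mem _ fun i _ =>
              Subalgebra.mul_mem _ (hbB i) (Algebra.subset_adjoin ⟨i, rfl⟩))
        · have hE : x - (algebraMap k A c + ∑ i, b i * a i) = ∑ i, (coef i - b i) * a i := by
            rw [Finset.sum_congr rfl (fun i _ => sub_mul (coef i) (b i) (a i)),
              Finset.sum_sub_distrib, hcoef]
            ring
          rw [hE, pow_succ]
          exact Ideal.sum_mem _ fun i _ => Ideal.mul_mem_mul (hb i) (ha i)
    intro x _
    obtain ⟨b, hbB, hb⟩ := key N x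
    rw [hN, Ideal.mem_bot, sub_eq_zero] at hb
    rw [hb]; exact hbB

end Groth.Agent.S17324
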