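import Groth.Statements.S17326
import Groth.Agent.S17335
import Mathlib
-- import your own Groth.Agent.* helpers here

set_option autoImplicit false
universe u v
open CAlg

namespace Groth.Agent.S17326

/-- Let k be an algebraically closed field of characteristic p > 0, A a commutative k-algebra which is
finite-dimensional as a k-vector space (a finite k-scheme X), and n ≥ 1. The n-th iterated relative
Frobenius morphism X → X^(p^n) is an isomorphism if and only if X is reduced; on rings: the map a ↦
a^(p^n) of A to itself (which is the ring homomorphism underlying the relative Frobenius, the twist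
A^(p^n) having the same underlying ring as A) is bijective if and only if A is reduced. -/
theorem result (k : Type u) [Field k] [IsAlgClosed k]
    (p : ℕ) [Fact p.Prime] [CharP k p] (A : Type v) [CommRing A] [Algebra k A] [Module.Finite k A]
    (n : ℕ) (hn : 1 ≤ n) :
    Function.Bijective (fun a : A => a ^ p ^ n) ↔ IsReduced A := by
  have hp2 : 2 ≤ p := (Fact.out : p.Prime).two_le
  have hq2 : 2 ≤ p ^ n := by
    calc 2 ≤ p := hp2
      _ = p ^ 1 := (pow_one p).symm
      _ ≤ p ^ n := Nat.pow_le_pow_right (by omega) hn
  constructor
  · intro hbij
    constructor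
    intro a ha
    obtain ⟨m, hm⟩ := ha
    have hiter : ∀ j : ℕ, a ^ (p ^ n) ^ j = 0 → a = 0 := by
      intro j
      induction j with
      | zero => intro h; simpa using h
      | succ j ih =>
        intro h
        apply ih
        apply hbij.1
        show (a ^ (p ^ n) ^ j) ^ p ^ n = (0 : A) ^ p ^ n
        rw [← pow_mul, ← pow_succ, h, zero_pow (by omega)]
    apply hiter m
    have hle : m ≤ (p ^ n) ^ m := (Nat.lt_pow_self hq2).le
    obtain ⟨c, hc⟩ := Nat.exists_eq_add_of_le hle
    rw [hc, pow_add, hm, zero_mul]
  · intro hred
    obtain ⟨hfin, hsurj, hker⟩ := Groth.Agent.S17335.result k A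
    have hinj : Function.Injective (AlgHom.pi (R := k) (fun f : A →ₐ[k] k => f)) := by
      rw [injective_iff_map_eq_zero]
      intro a ha
      have h1 : a ∈ RingHom.ker (AlgHom.pi (R := k) (fun f : A →ₐ[k] k => f)) := ha
      rw [hker, nilradical_eq_zero, Ideal.zero_eq_bot, Ideal.mem_bot] at h1
      exact h1
    haveI : ExpChar k p := ExpChar.prime (Fact.out : p.Prime)
    haveI : PerfectRing k p := inferInstance
    have hk : Function.Bijective (fun x : k => x ^ p ^ n) :=
      bijective_iterateFrobenius (R := k) (p := p) (n := n)
    constructor
    · intro a b hab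
      apply hinj
      funext f
      apply hk.1
      show (f a) ^ p ^ n = (f b) ^ p ^ n
      rw [← map_pow, ← map_pow]
      exact congrArg f hab
    · intro b
      choose c hc using fun f : A →ₐ[k] k => hk.2 (f b)
      obtain ⟨a, ha⟩ := hsurj c
      refine ⟨a, hinj ?_⟩
      funext f
      show f (a ^ p ^ n) = f b
      rw [map_pow]
      have : f a = c f := congrFun ha f
      rw [this]
      exact hc f

end Groth.Agent.S17326
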