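import Groth.Statements.S17327
import Groth.Agent.Lib.Helper14.HopfShear

set_option autoImplicit false
universe u v
open Hopf

namespace Groth.Agent.S17327

open Groth.Agent.Lib.Helper14.HopfShear

/-- `p^n`-th roots in a reduced finite-dimensional algebra over an algebraically closed field -/
theorem exists_pow_eq (k : Type u) [Field k] [IsAlgClosed k] (A : Type v) [CommRing A] [Algebra k A]
    [Module.Finite k A] [IsReduced A] (N : ℕ) (hN : 0 < N) (x : A) : ∃ y : A, y ^ N = x := by
  have hart : IsArtinianRing A := IsArtinianRing.of_finite k A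
  have key : ∀ m : MaximalSpectrum A, ∃ d : k,
      (algebraMap k (A ⧸ m.asIdeal) d) ^ N = Ideal.Quotient.mk m.asIdeal x := by
    intro m
    have hm : m.asIdeal.IsMaximal := m.isMaximal
    let _ : Field (A ⧸ m.asIdeal) := Ideal.Quotient.field m.asIdeal
    have hint : Algebra.IsIntegral k (A ⧸ m.asIdeal) := Algebra.IsIntegral.of_finite k _
    have hbij : Function.Bijective (algebraMap k (A ⧸ m.asIdeal)) :=
      IsAlgClosed.algebraMap_bijective_of_isIntegral
    obtain ⟨c, hc⟩ := hbij.2 (Ideal.Quotient.mk m.asIdeal x)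
    obtain ⟨d, hd⟩ := IsAlgClosed.exists_pow_nat_eq c hN
    exact ⟨d, by rw [← map_pow, hd, hc]⟩
  choose d hd using key
  let e := IsArtinianRing.equivPi A
  refine ⟨e.symm (fun m => algebraMap k (A ⧸ m.asIdeal) (d m)), ?_⟩
  apply e.injective
  rw [map_pow, AlgEquiv.apply_symm_apply]
  funext m
  rw [Pi.pow_apply, hd m]
  rfl


/-- Let k be an algebraically closed field of characteristic p > 0, A a commutative Hopf algebra over k
which is finite-dimensional as a k-vector space (a finite group scheme G = Spec A), I the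
augmentation ideal (kernel of the counit) and n ≥ 1. The n-th Frobenius kernel G_n is the closed
subgroup scheme cut out by the ideal generated by the p^n-th powers f^(p^n), f ∈ I; it is trivial,
i.e. that ideal equals I, if and only if G is reduced. -/
theorem result (k : Type u) [Field k] [IsAlgClosed k]
    (p : ℕ) [Fact p.Prime] [CharP k p] (A : Type v) [CommRing A] [HopfAlgebra k A] [Module.Finite k A]
    (n : ℕ) (hn : 1 ≤ n) :
    Ideal.span ((fun f : A => f ^ p ^ n) '' (RingHom.ker (Bialgebra.counitAlgHom k A) : Set A)) =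
      RingHom.ker (Bialgebra.counitAlgHom k A) ↔ IsReduced A := by
  have hpn : 2 ≤ p ^ n := by
    calc 2 ≤ p := (Fact.out : p.Prime).two_le
      _ = p ^ 1 := (pow_one p).symm
      _ ≤ p ^ n := Nat.pow_le_pow_right (Fact.out : p.Prime).pos hn
  set I := RingHom.ker (Bialgebra.counitAlgHom k A) with hI
  have hle : Ideal.span ((fun f : A => f ^ p ^ n) '' (I : Set A)) ≤ I := by
    rw [Ideal.span_le]
    rintro _ ⟨f, hf, rfl⟩
    exact Ideal.pow_mem_of_mem _ hf _ (by omega)
  constructor
  · intro h
    have h2' : Ideal.span ((fun f : A => f ^ p ^ n) '' (I : Set A)) ≤ I ^ 2 := by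
      rw [Ideal.span_le]
      rintro _ ⟨f, hf, rfl⟩
      exact Ideal.pow_le_pow_right hpn (Ideal.pow_mem_pow hf _)
    have h2 : I ≤ I ^ 2 := le_of_eq_of_le h.symm h2'
    have h3 : IsIdempotentElem I := by
      show I * I = I
      rw [← pow_two]
      exact le_antisymm (Ideal.pow_le_self (by norm_num)) h2
    have h4 := (isIdempotentElem_ideal_iff (R := k) (A := A)).mpr h3
    have h5 : Subsingleton (KaehlerDifferential.ideal k A).Cotangent :=
      (Ideal.cotangent_subsingleton_iff _).mpr h4
    have h6 : Algebra.FormallyUnramified k A := ⟨h5⟩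
    exact Algebra.FormallyUnramified.isReduced_of_field k A
  · intro hred
    refine le_antisymm hle ?_
    intro f hf
    obtain ⟨g, hg⟩ := exists_pow_eq k A (p ^ n) (by omega) f
    have hgI : g ∈ I := by
      rw [hI, RingHom.mem_ker] at hf ⊢
      rw [← hg, map_pow] at hf
      exact pow_eq_zero_iff (by omega) |>.mp hf
    rw [← hg]
    exact Ideal.subset_span ⟨g, hgI, rfl⟩

end Groth.Agent.S17327
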