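import Groth.Statements.S17332
import Groth.Agent.S12931
-- import your own Groth.Agent.* helpers here

set_option autoImplicit false
universe u v w
open CAlg

namespace Groth.Agent.S17332

/-- Let k be a field, E and F finite sets, and O(E), O(F) the k-algebras of k-valued functions with
pointwise operations. Then every k-algebra homomorphism u : O(F) → O(E) is pull-back along a unique
map φ : E → F, i.e. u(g) = g ∘ φ for all g. (In the source k is algebraically closed; the printed
argument only uses that k is a field.) -/
theorem result (k : Type u) [Field k] (E : Type v) [Finite E]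
    (F : Type w) [Finite F] (u : (F → k) →ₐ[k] (E → k)) :
    ∃! φ : E → F, ∀ g : F → k, u g = g ∘ φ := by
  have hT : ∀ e : k, IsIdempotentElem e → e = 0 ∨ e = 1 := by
    intro e he
    have : e * (e - 1) = 0 := by
      have h : e * e = e := he
      rw [mul_sub, h, mul_one, sub_self]
    rcases mul_eq_zero.1 this with h | h
    · exact Or.inl h
    · exact Or.inr (sub_eq_zero.1 h)
  have hbij := Groth.Agent.S12931.result k F k hT
  -- for each e, the composite (F → k) → (E → k) → k
  have key : ∀ e : E, ∃ γ : F, ∀ g : F → k, u g e = g γ := by
    intro e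
    obtain ⟨γ, hγ⟩ := hbij.2 ((Pi.evalAlgHom k (fun _ : E => k) e).comp u)
    refine ⟨γ, fun g => ?_⟩
    have := AlgHom.congr_fun hγ g
    simp only [AlgHom.comp_apply, Pi.evalAlgHom_apply] at this
    exact this.symm
  choose φ hφ using key
  refine ⟨φ, fun g => funext fun e => hφ e g, ?_⟩
  intro ψ hψ
  funext e
  apply hbij.1
  ext g
  simp only [AlgHom.comp_apply, Pi.evalAlgHom_apply]
  have h1 := congr_fun (hψ g) e
  rw [hφ e g] at h1
  exact congrArg _ h1.symm

end Groth.Agent.S17332
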