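import Groth.Statements.S17333
import Mathlib.RingTheory.Derivation.Basic
import Mathlib.LinearAlgebra.Prod
-- import your own Groth.Agent.* helpers here

set_option autoImplicit false
universe u v w
open CAlg

namespace Groth.Agent.S17333

/-- Let k be a field and A = B × C a decomposable commutative k-algebra. Then the natural map Der(B) ×
Der(C) → Der(A) is bijective: every k-derivation D : A → A is (b, c) ↦ (D₁ b, D₂ c) for a unique
pair of k-derivations D₁ : B → B, D₂ : C → C. Compatibility with brackets is not stated. (The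
published statement takes k algebraically closed; this row takes any field.) -/
theorem result (k : Type u) [Field k] (B : Type v) [CommRing B] [Algebra k B]
    (C : Type w) [CommRing C] [Algebra k C] (D : Derivation k (B × C) (B × C)) :
    ∃! P : Derivation k B B × Derivation k C C, ∀ (b : B) (c : C), D (b, c) = (P.1 b, P.2 c) := by
  -- D (1,0) = 0
  have he : D ((1 : B), (0 : C)) = 0 := by
    have h := D.leibniz ((1 : B), (0 : C)) ((1 : B), (0 : C))
    have hee : (((1 : B), (0 : C)) * ((1 : B), (0 : C)) : B × C) = ((1 : B), (0 : C)) := by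
      ext <;> simp
    rw [hee] at h
    have h1 := congrArg Prod.fst h
    have h2 := congrArg Prod.snd h
    simp only [smul_eq_mul, Prod.fst_mul, Prod.snd_mul, Prod.fst_add, Prod.snd_add, one_mul, zero_mul,
      add_zero] at h1 h2
    ext
    · simpa using h1
    · simpa using h2
  have he' : D ((0 : B), (1 : C)) = 0 := by
    have h1 : ((0 : B), (1 : C)) = (1 : B × C) - ((1 : B), (0 : C)) := by ext <;> simp
    rw [h1, map_sub, he, sub_zero]
    exact D.map_one_eq_zero
  have hb : ∀ b : B, (D (b, (0 : C))).2 = 0 := by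
    intro b
    have h := D.leibniz (b, (0 : C)) ((1 : B), (0 : C))
    have hmul : ((b, (0 : C)) * ((1 : B), (0 : C)) : B × C) = (b, (0 : C)) := by ext <;> simp
    rw [hmul, he, smul_zero, zero_add] at h
    have h2 := congrArg Prod.snd h
    simpa [smul_eq_mul, Prod.fst_mul, Prod.snd_mul] using h2
  have hc : ∀ c : C, (D ((0 : B), c)).1 = 0 := by
    intro c
    have h := D.leibniz ((0 : B), c) ((0 : B), (1 : C))
    have hmul : (((0 : B), c) * ((0 : B), (1 : C)) : B × C) = ((0 : B), c) := by ext <;> simp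
    rw [hmul, he', smul_zero, zero_add] at h
    have h2 := congrArg Prod.fst h
    simpa [smul_eq_mul, Prod.fst_mul, Prod.snd_mul] using h2
  let L₁ : B →ₗ[k] B := (LinearMap.fst k B C) ∘ₗ (D : (B × C) →ₗ[k] (B × C)) ∘ₗ (LinearMap.inl k B C)
  let L₂ : C →ₗ[k] C := (LinearMap.snd k B C) ∘ₗ (D : (B × C) →ₗ[k] (B × C)) ∘ₗ (LinearMap.inr k B C)
  have hL₁ : ∀ b, L₁ b = (D (b, (0 : C))).1 := fun b => rfl
  have hL₂ : ∀ c, L₂ c = (D ((0 : B), c)).2 := fun c => rfl
  let D₁ : Derivation k B B := Derivation.mk' L₁ (by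
    intro b b'
    rw [hL₁, hL₁, hL₁]
    have h := D.leibniz (b, (0 : C)) (b', (0 : C))
    have hmul : ((b, (0 : C)) * (b', (0 : C)) : B × C) = (b * b', (0 : C)) := by ext <;> simp
    rw [hmul] at h
    have h1 := congrArg Prod.fst h
    simpa [smul_eq_mul, Prod.fst_mul, Prod.snd_mul] using h1)
  let D₂ : Derivation k C C := Derivation.mk' L₂ (by
    intro c c'
    rw [hL₂, hL₂, hL₂]
    have h := D.leibniz ((0 : B), c) ((0 : B), c')
    have hmul : (((0 : B), c) * ((0 : B), c') : B × C) = ((0 : B), c * c') := by ext <;> simp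
    rw [hmul] at h
    have h1 := congrArg Prod.snd h
    simpa [smul_eq_mul, Prod.fst_mul, Prod.snd_mul] using h1)
  have hD : ∀ (b : B) (c : C), D (b, c) = (D₁ b, D₂ c) := by
    intro b c
    have h1 : (b, c) = (b, (0 : C)) + ((0 : B), c) := by simp
    rw [h1, map_add]
    ext
    · show (D (b, 0)).1 + (D (0, c)).1 = (D (b, 0)).1
      rw [hc, add_zero]
    · show (D (b, 0)).2 + (D (0, c)).2 = (D (0, c)).2
      rw [hb, zero_add]
  refine ⟨(D₁, D₂), hD, ?_⟩
  rintro ⟨P₁, P₂⟩ hP
  have e1 : P₁ = D₁ := by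
    ext b
    have := hP b 0
    rw [hD] at this
    exact (congrArg Prod.fst this).symm
  have e2 : P₂ = D₂ := by
    ext c
    have := hP 0 c
    rw [hD] at this
    exact (congrArg Prod.snd this).symm
  rw [e1, e2]

end Groth.Agent.S17333
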