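import Groth.Statements.S17334
import Mathlib.RingTheory.Spectrum.Prime.Noetherian
import Mathlib.RingTheory.Artinian.Module
import Mathlib.RingTheory.LocalRing.MaximalIdeal.Basic
-- import your own Groth.Agent.* helpers here

set_option autoImplicit false
universe u v
open CAlg

namespace Groth.Agent.S17334

/-- Let k be a field and A a nonzero commutative k-algebra which is finite-dimensional as a k-vector
space. Then A is indecomposable (no decomposition as a product of two nonzero rings, i.e. no
idempotent other than 0 and 1) if and only if A is a local ring. (In the source k is algebraically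
closed and the lemma adds that the maximal ideal is then the nilradical, is nilpotent, and has
residue field k; the equivalence itself uses only that k is a field, and the zero algebra is
excluded here explicitly.) -/
theorem result (k : Type u) [Field k]
    (A : Type v) [CommRing A] [Algebra k A] [Module.Finite k A] [Nontrivial A] :
    (∀ e : A, IsIdempotentElem e → e = 0 ∨ e = 1) ↔ IsLocalRing A := by
  have hart : IsArtinianRing A := IsArtinianRing.of_finite k A
  constructor
  · intro h
    have hsub : Subsingleton (MaximalSpectrum A) := by
      refine ⟨fun m₁ m₂ => ?_⟩
      by_contra hne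
      have : m₁.asIdeal.IsPrime := m₁.isMaximal.isPrime
      obtain ⟨r, hr, hidem, hall⟩ := IsArtinianRing.exists_not_mem_forall_mem_of_ne m₁.asIdeal
      rcases h r hidem with h0 | h1
      · exact hr (h0 ▸ m₁.asIdeal.zero_mem)
      · have hne' : m₂.asIdeal ≠ m₁.asIdeal := fun heq => hne (MaximalSpectrum.ext heq.symm)
        have := hall m₂.asIdeal m₂.isMaximal.isPrime hne'
        rw [h1] at this
        exact m₂.isMaximal.ne_top ((Ideal.eq_top_iff_one _).2 this)
    have hne : Nonempty (MaximalSpectrum A) := by
      obtain ⟨m, hm⟩ := Ideal.exists_maximal A
      exact ⟨⟨m, hm⟩⟩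
    exact IsLocalRing.of_singleton_maximalSpectrum
  · intro hloc e he
    have h1 : e * (1 - e) = 0 := by
      have h : e * e = e := he
      rw [mul_sub, h, mul_one, sub_self]
    rcases IsLocalRing.isUnit_or_isUnit_one_sub_self e with hu | hu
    · right
      have := (hu.mul_right_eq_zero).1 h1
      exact (sub_eq_zero.1 this).symm
    · left
      exact (hu.mul_left_eq_zero).1 h1

end Groth.Agent.S17334
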