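import Groth.Statements.S1734
import Mathlib

set_option autoImplicit false
universe u
open LocCoh

namespace Groth.Agent.S1734

/-- Let f_1, …, f_r, g be elements of a ring A (r ≥ 1) such that f_1, …, f_{r-1}, f_r g is independent
and A/(f_1, …, f_{r-1}, f_r g) has finite length. Then length A/(f_1, …, f_{r-1}, f_r g) = length
A/(f_1, …, f_r) + length A/(f_1, …, f_{r-1}, g). -/
theorem result (A : Type u) [CommRing A] (r : ℕ) (f : Fin (r + 1) → A) (g : A) (h : Dual2.Independent (Function.update f (Fin.last r) (f (Fin.last r) * g))) (hfin : IsFiniteLength A (A ⧸ Ideal.span (Set.range (Function.update f (Fin.last r) (f (Fin.last r) * g))))) : Module.length A (A ⧸ Ideal.span (Set.range (Function.update f (Fin.last r) (f (Fin.last r) * g)))) = Module.length A (A ⧸ Ideal.span (Set.range f)) + Module.length A (A ⧸ Ideal.span (Set.range (Function.update f (Fin.last r) g))) := by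
  classical
  set fl := f (Fin.last r) with hfl
  set f' := Function.update f (Fin.last r) (fl * g) with hf'
  set fg := Function.update f (Fin.last r) g with hfg
  have hf'c : ∀ i : Fin r, f' i.castSucc = f i.castSucc := fun i => by
    rw [hf', Function.update_of_ne (Fin.castSucc_lt_last i).ne]
  have hf'l : f' (Fin.last r) = fl * g := by rw [hf', Function.update_self]
  have hfgc : ∀ i : Fin r, fg i.castSucc = f i.castSucc := fun i => by
    rw [hfg, Function.update_of_ne (Fin.castSucc_lt_last i).ne]
  have hfgl : fg (Fin.last r) = g := by rw [hfg, Function.update_self]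
  -- membership characterisations
  have mem : ∀ (v : Fin (r + 1) → A) (x : A), x ∈ Ideal.span (Set.range v) ↔
      ∃ c : Fin (r + 1) → A, ∑ i : Fin r, c i.castSucc * v i.castSucc
        + c (Fin.last r) * v (Fin.last r) = x := by
    intro v x
    rw [Ideal.mem_span_range_iff_exists_fun]
    simp only [Fin.sum_univ_castSucc]
  have hle : Ideal.span (Set.range f') ≤ Ideal.span (Set.range f) := by
    rw [Ideal.span_le]
    rintro _ ⟨j, rfl⟩
    induction j using Fin.lastCases with
    | last => rw [hf'l]; exact Ideal.mul_mem_right _ _ (Ideal.subset_span ⟨_, rfl⟩)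
    | cast i => rw [hf'c]; exact Ideal.subset_span ⟨_, rfl⟩
  have hleg : Ideal.span (Set.range f') ≤ Ideal.span (Set.range fg) := by
    rw [Ideal.span_le]
    rintro _ ⟨j, rfl⟩
    induction j using Fin.lastCases with
    | last =>
      rw [hf'l]
      exact Ideal.mul_mem_left _ _ (Ideal.subset_span ⟨Fin.last r, hfgl⟩)
    | cast i => rw [hf'c, ← hfgc]; exact Ideal.subset_span ⟨_, rfl⟩
  -- the multiplication map
  have hμ : Ideal.span (Set.range fg) ≤
      Submodule.comap (LinearMap.mul A A fl) (Ideal.span (Set.range f')) := by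
    rw [Ideal.span_le]
    rintro _ ⟨j, rfl⟩
    change fl * fg j ∈ Ideal.span (Set.range f')
    induction j using Fin.lastCases with
    | last => rw [hfgl, ← hf'l]; exact Ideal.subset_span ⟨_, rfl⟩
    | cast i =>
      rw [hfgc, ← hf'c]
      exact Ideal.mul_mem_left _ _ (Ideal.subset_span ⟨_, rfl⟩)
  let μ : (A ⧸ Ideal.span (Set.range fg)) →ₗ[A] (A ⧸ Ideal.span (Set.range f')) :=
    Submodule.mapQ _ _ (LinearMap.mul A A fl) hμ
  let π : (A ⧸ Ideal.span (Set.range f')) →ₗ[A] (A ⧸ Ideal.span (Set.range f)) :=
    Submodule.mapQ _ _ LinearMap.id hle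
  have hμ_apply : ∀ a : A, μ (Submodule.Quotient.mk a) = Submodule.Quotient.mk (fl * a) :=
    fun a => rfl
  have hπ_apply : ∀ a : A, π (Submodule.Quotient.mk a) = Submodule.Quotient.mk a :=
    fun a => rfl
  have hinj : Function.Injective μ := by
    rw [← LinearMap.ker_eq_bot, LinearMap.ker_eq_bot']
    intro x hx
    obtain ⟨a, rfl⟩ := Submodule.Quotient.mk_surjective _ x
    rw [hμ_apply, Submodule.Quotient.mk_eq_zero] at hx
    rw [Submodule.Quotient.mk_eq_zero]
    obtain ⟨c, hc⟩ := (mem f' _).1 hx
    simp only [hf'c, hf'l] at hc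
    have h3 := h (Function.update (fun j => c j * g) (Fin.last r) (c (Fin.last r) * g - a)) (by
      rw [Fin.sum_univ_castSucc]
      simp only [Function.update_self, Function.update_of_ne (Fin.castSucc_lt_last _).ne,
        hf'c, hf'l]
      have : ∑ i : Fin r, c i.castSucc * g * f i.castSucc
          = g * ∑ i : Fin r, c i.castSucc * f i.castSucc := by
        rw [Finset.mul_sum]; exact Finset.sum_congr rfl (fun i _ => by ring)
      rw [this]
      linear_combination g * hc) (Fin.last r)
    rw [Function.update_self] at h3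
    have h4 := hleg h3
    have h5 : c (Fin.last r) * g ∈ Ideal.span (Set.range fg) :=
      Ideal.mul_mem_left _ _ (Ideal.subset_span ⟨Fin.last r, hfgl⟩)
    have := Ideal.sub_mem _ h5 h4
    simpa using this
  have hsurj : Function.Surjective π := by
    intro y
    obtain ⟨a, rfl⟩ := Submodule.Quotient.mk_surjective _ y
    exact ⟨Submodule.Quotient.mk a, rfl⟩
  have hex : Function.Exact μ π := by
    intro y
    obtain ⟨a, rfl⟩ := Submodule.Quotient.mk_surjective _ y
    rw [hπ_apply, Submodule.Quotient.mk_eq_zero]
    constructor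
    · intro ha
      obtain ⟨c, hc⟩ := (mem f _).1 ha
      rw [← hfl] at hc
      refine ⟨Submodule.Quotient.mk (c (Fin.last r)), ?_⟩
      rw [hμ_apply, Submodule.Quotient.eq]
      have : fl * c (Fin.last r) - a = -∑ i : Fin r, c i.castSucc * f' i.castSucc := by
        simp only [hf'c]
        linear_combination hc
      rw [this]
      refine Ideal.neg_mem_iff _ |>.2 (Ideal.sum_mem _ (fun i _ => ?_))
      exact Ideal.mul_mem_left _ _ (Ideal.subset_span ⟨_, rfl⟩)
    · rintro ⟨x, hx⟩
      obtain ⟨b, rfl⟩ := Submodule.Quotient.mk_surjective _ x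
      rw [hμ_apply, Submodule.Quotient.eq] at hx
      have h1 := hle hx
      have h2 : fl * b ∈ Ideal.span (Set.range f) :=
        Ideal.mul_mem_right _ _ (Ideal.subset_span ⟨Fin.last r, rfl⟩)
      have := Ideal.sub_mem _ h2 h1
      simpa using this
  rw [Module.length_eq_add_of_exact μ π hinj hsurj hex, add_comm]

end Groth.Agent.S1734
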