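import Groth.Statements.S1735
import Mathlib
import Groth.Agent.Lib.Helper25.ChevalleyLemma
-- import your own Groth.Agent.* helpers here

set_option autoImplicit false
set_option linter.unusedSectionVars false
set_option linter.style.haveILetI false
universe u
open LocCoh

namespace Groth.Agent.S1735

open Groth.Agent.Lib.Helper25.ChevalleyLemma

theorem exists_uniform_mul {A : Type u} [CommRing A] (p I : Ideal A) [p.IsPrime]
    (Q : Ideal A) (hQ : Q.FG) (h : ∀ x ∈ Q, ∃ s, s ∉ p ∧ s * x ∈ I) :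
    ∃ s, s ∉ p ∧ ∀ x ∈ Q, s * x ∈ I := by
  revert h
  refine Submodule.fg_induction (R := A) (M := A)
    (motive := fun (N : Submodule A A) _ =>
      (∀ x ∈ N, ∃ s, s ∉ p ∧ s * x ∈ I) → ∃ s, s ∉ p ∧ ∀ x ∈ N, s * x ∈ I)
    ?_ ?_ Q hQ
  · intro x h
    obtain ⟨s, hs, hsx⟩ := h x (Submodule.mem_span_singleton_self x)
    refine ⟨s, hs, fun y hy => ?_⟩
    obtain ⟨a, rfl⟩ := Submodule.mem_span_singleton.1 hy
    have : s * (a • x) = a * (s * x) := by rw [smul_eq_mul]; ring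
    rw [this]
    exact I.mul_mem_left _ hsx
  · intro M₁ M₂ _ _ h₁ h₂ h
    obtain ⟨s₁, hs₁, H₁⟩ := h₁ (fun x hx => h x (Submodule.mem_sup_left hx))
    obtain ⟨s₂, hs₂, H₂⟩ := h₂ (fun x hx => h x (Submodule.mem_sup_right hx))
    refine ⟨s₁ * s₂, fun hmem => ?_, fun x hx => ?_⟩
    · rcases Ideal.IsPrime.mem_or_mem ‹p.IsPrime› hmem with h' | h'
      · exact hs₁ h'
      · exact hs₂ h'
    · obtain ⟨a, ha, b, hb, rfl⟩ := Submodule.mem_sup.1 hx
      have : s₁ * s₂ * (a + b) = s₂ * (s₁ * a) + s₁ * (s₂ * b) := by ring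
      rw [this]
      exact I.add_mem (I.mul_mem_left _ (H₁ a ha)) (I.mul_mem_left _ (H₂ b hb))

/-- Let A be a complete Noetherian local domain and p a prime ideal with dim(A/p) = 1. For every n ≥ 1
there is m ≥ n such that the m-th symbolic power of p (the contraction of p^m A_p to A) is contained
in p^n. -/
theorem result (A : Type u) [CommRing A] [IsDomain A] [IsLocalRing A] [IsNoetherianRing A] [IsAdicComplete (IsLocalRing.maximalIdeal A) A] (p : Ideal A) [p.IsPrime] (hp : ringKrullDim (A ⧸ p) = 1) (n : ℕ) (hn : 1 ≤ n) : ∃ m : ℕ, n ≤ m ∧ ((Ideal.map (algebraMap A (Localization.AtPrime p)) p) ^ m).comap (algebraMap A (Localization.AtPrime p)) ≤ p ^ n := by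
  classical
  set B := Localization.AtPrime p with hB
  set f := algebraMap A B with hf
  set P := Ideal.map f p with hP
  set Q : ℕ → Ideal A := fun m => (P ^ m).comap f with hQ
  have hfinj : Function.Injective f :=
    IsLocalization.injective B (M := p.primeCompl) p.primeCompl_le_nonZeroDivisors
  have hPmax : P = IsLocalRing.maximalIdeal B := Localization.AtPrime.map_eq_maximalIdeal
  have hPtop : P ≠ ⊤ := by
    rw [hPmax]; exact (IsLocalRing.maximalIdeal.isMaximal B).ne_top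
  have hQanti : Antitone Q := fun a b hab => Ideal.comap_mono (Ideal.pow_le_pow_right hab)
  have hQbot : ⨅ m, Q m = ⊥ := by
    rw [eq_bot_iff]
    intro x hx
    rw [Ideal.mem_iInf] at hx
    have h1 : f x ∈ ⨅ m, P ^ m := by
      rw [Ideal.mem_iInf]
      intro m
      exact hx m
    rw [Ideal.iInf_pow_eq_bot_of_isLocalRing P hPtop] at h1
    have h2 : f x = 0 := h1
    rw [← map_zero f] at h2
    exact hfinj h2
  -- membership in Q n
  have hmemQ : ∀ x ∈ Q n, ∃ s, s ∉ p ∧ s * x ∈ p ^ n := by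
    intro x hx
    have h1 : f x ∈ (p ^ n).map f := by
      rw [Ideal.map_pow]; exact hx
    obtain ⟨⟨a, s⟩, has⟩ := (IsLocalization.mem_map_algebraMap_iff p.primeCompl B).1 h1
    refine ⟨s.1, s.2, ?_⟩
    have h2 : f (s.1 * x) = f a.1 := by
      rw [map_mul, mul_comm]; exact has
    rw [hfinj h2]
    exact a.2
  obtain ⟨s, hsp, hsQ⟩ := exists_uniform_mul p (p ^ n) (Q n) (IsNoetherian.noetherian _) hmemQ
  set 𝔪 := IsLocalRing.maximalIdeal A with hm
  set 𝔞 : Ideal A := p ^ n ⊔ Ideal.span {s} with h𝔞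
  have h𝔞Q : 𝔞 * Q n ≤ p ^ n := by
    rw [h𝔞, Ideal.sup_mul]
    refine sup_le Ideal.mul_le_left ?_
    rw [Ideal.span_singleton_mul_le_iff]
    intro x hx
    exact hsQ x hx
  have hKD : Ring.KrullDimLE 1 (A ⧸ p) := by
    rw [Ring.krullDimLE_iff, hp]; rfl
  have hrad : 𝔪 ≤ 𝔞.radical := by
    rw [Ideal.radical_eq_sInf]
    refine le_sInf ?_
    rintro J ⟨h𝔞J, hJ⟩
    have hpJ : p ≤ J := by
      have : p ^ n ≤ J := le_sup_left.trans h𝔞J
      exact (Ideal.IsPrime.pow_le_iff (by omega)).1 this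
    have hsJ : s ∈ J := h𝔞J (Ideal.mem_sup_right (Ideal.mem_span_singleton_self s))
    have hker : RingHom.ker (Ideal.Quotient.mk p) ≤ J := by rw [Ideal.mk_ker]; exact hpJ
    have : (J.map (Ideal.Quotient.mk p)).IsPrime :=
      Ideal.map_isPrime_of_surjective Ideal.Quotient.mk_surjective hker
    have hne : J.map (Ideal.Quotient.mk p) ≠ ⊥ := by
      intro hbot
      have : Ideal.Quotient.mk p s ∈ J.map (Ideal.Quotient.mk p) := Ideal.mem_map_of_mem _ hsJ
      rw [hbot, Ideal.mem_bot, Ideal.Quotient.eq_zero_iff_mem] at this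
      exact hsp this
    have hmax : (J.map (Ideal.Quotient.mk p)).IsMaximal :=
      Ring.krullDimLE_one_iff_of_isPrime_bot.1 hKD _ hne inferInstance
    have hJmax : J.IsMaximal := by
      have := Ideal.comap_isMaximal_of_surjective (Ideal.Quotient.mk p)
        Ideal.Quotient.mk_surjective (K := J.map (Ideal.Quotient.mk p))
      rwa [Ideal.comap_map_of_surjective _ Ideal.Quotient.mk_surjective,
        ← RingHom.ker_eq_comap_bot, sup_eq_left.2 hker] at this
    rw [IsLocalRing.eq_maximalIdeal hJmax]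
  obtain ⟨c, hc⟩ := Ideal.exists_pow_le_of_le_radical_of_fg hrad (IsNoetherian.noetherian _)
  obtain ⟨k, hk⟩ := Ideal.exists_pow_inf_eq_pow_smul 𝔪 (Q n : Submodule A A)
  have hAR : 𝔪 ^ (k + c) ⊓ Q n ≤ p ^ n := by
    have h1 := hk (k + c) (Nat.le_add_right k c)
    rw [Nat.add_sub_cancel_left] at h1
    have h2 : (𝔪 ^ (k + c) ⊓ Q n : Ideal A) = 𝔪 ^ c • (𝔪 ^ k • ⊤ ⊓ Q n : Submodule A A) := by
      rw [← h1, smul_eq_mul, Ideal.mul_top]
    rw [h2]
    calc 𝔪 ^ c • (𝔪 ^ k • ⊤ ⊓ Q n : Submodule A A) ≤ 𝔪 ^ c • (Q n : Submodule A A) :=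
          Submodule.smul_mono le_rfl inf_le_right
      _ ≤ 𝔞 • (Q n : Submodule A A) := Submodule.smul_mono_left hc
      _ ≤ p ^ n := h𝔞Q
  obtain ⟨m₀, hm₀⟩ := chevalley Q hQanti hQbot (k + c)
  refine ⟨max m₀ n, le_max_right _ _, ?_⟩
  have h1 : Q (max m₀ n) ≤ 𝔪 ^ (k + c) := (hQanti (le_max_left _ _)).trans hm₀
  have h2 : Q (max m₀ n) ≤ Q n := hQanti (le_max_right _ _)
  exact (le_inf h1 h2).trans hAR

end Groth.Agent.S1735
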