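import Groth.Statements.S1736
import Groth.Agent.Lib.Helper2.LCCompare
import Groth.Agent.S0325

set_option autoImplicit false
universe u
open LocCoh

namespace Groth.Agent.S1736

/-- Let A be a Noetherian ring of finite dimension d and I ⊆ I' ideals with I' contained in the Jacobson
radical of A. If cd(A, I') < d, i.e. H^i_{I'}(M) = 0 for all A-modules M and all i ≥ d, then also
cd(A, I) < d: H^i_I(M) = 0 for all A-modules M and all i ≥ d. -/
theorem result (A : Type u) [CommRing A] [IsNoetherianRing A] (d : ℕ) (hd : ringKrullDim A = d) (I I' : Ideal A) (hII' : I ≤ I') (hJ : I' ≤ (⊥ : Ideal A).jacobson) (h : ∀ (M : Type u) [AddCommGroup M] [Module A M] (i : ℕ), d ≤ i → Subsingleton (LocCoh.H I' i M)) (M : Type u) [AddCommGroup M] [Module A M] (i : ℕ) (hi : d ≤ i) : Subsingleton (LocCoh.H I i M) := by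
  rcases Nat.lt_or_ge d i with hlt | hge
  · exact Groth.Agent.S0325.result A I d hd.le M i hlt
  · obtain rfl : i = d := le_antisymm hge hi
    have hsurj := Groth.Agent.Lib.Helper2.LCCompare.HmapOfLE_surjective hII' M i ?_
    · haveI := h M i le_rfl
      exact hsurj.subsingleton
    · intro p hIp hI'p
      have hnm : ¬ p.asIdeal.IsMaximal := by
        intro hm
        apply hI'p
        exact hJ.trans (sInf_le ⟨bot_le, hm⟩)
      obtain ⟨m, hm, hpm⟩ := Ideal.exists_le_maximal p.asIdeal p.2.ne_top
      have hlt : p.asIdeal < m := lt_of_le_of_ne hpm (fun heq => hnm (heq ▸ hm))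
      haveI : m.IsPrime := hm.isPrime
      have hht : p.asIdeal.height + 1 ≤ m.height := Ideal.height_add_one_le_of_lt_of_isPrime hlt
      have hmd : (m.height : WithBot ℕ∞) ≤ ((i : ℕ∞) : WithBot ℕ∞) := by
        have h1 : (m.height : WithBot ℕ∞) ≤ ringKrullDim A := Ideal.height_le_ringKrullDim_of_isPrime
        rw [hd] at h1
        exact_mod_cast h1
      have hmd' : m.height ≤ (i : ℕ∞) := by exact_mod_cast hmd
      have hi1 : 1 ≤ i := by
        by_contra hcon
        have hi0 : i = 0 := by omega
        rw [hi0] at hmd'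
        have : p.asIdeal.height + 1 ≤ 0 := hht.trans (by exact_mod_cast hmd')
        simp at this
      have hph : p.asIdeal.height ≤ ((i - 1 : ℕ) : ℕ∞) := by
        have h2 : p.asIdeal.height + 1 ≤ (i : ℕ∞) := hht.trans hmd'
        have h3 : ((i : ℕ) : ℕ∞) = ((i - 1 : ℕ) : ℕ∞) + 1 := by
          have : i = (i - 1) + 1 := by omega
          conv_lhs => rw [this]
          push_cast
          rfl
        rw [h3] at h2
        exact (ENat.add_le_add_iff_right (by simp)).1 h2
      have hdim : ringKrullDim (Localization.AtPrime p.asIdeal) ≤ ((i - 1 : ℕ) : WithBot ℕ∞) := by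
        rw [IsLocalization.AtPrime.ringKrullDim_eq_height p.asIdeal]
        have h4 : ((p.asIdeal.height : ℕ∞) : WithBot ℕ∞) ≤ (((i - 1 : ℕ) : ℕ∞) : WithBot ℕ∞) :=
          WithBot.coe_le_coe.2 hph
        exact h4
      haveI : IsNoetherianRing (Localization.AtPrime p.asIdeal) :=
        IsLocalization.isNoetherianRing p.asIdeal.primeCompl _ inferInstance
      have hcd := Groth.Agent.S0325.result (Localization.AtPrime p.asIdeal)
        (IsLocalRing.maximalIdeal _) (i - 1) hdim
      exact hcd _ i (by omega)

end Groth.Agent.S1736
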