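import Groth.Statements.S17360
import Groth.Agent.Lib.Helper25.InvRank
-- import your own Groth.Agent.* helpers here

set_option autoImplicit false
universe u
open scoped TensorProduct
open AzInv

namespace Groth.Agent.S17360

open scoped TensorProduct
open AzInv Groth.Agent.Lib.Helper25.InvRank

section TwoByTwo
variable {R : Type u} [CommRing R] (hlam : ∀ r : R, (AlgEquiv.refl : R ≃ₐ[R] R) ((AlgEquiv.refl : R ≃ₐ[R] R) r) = r)
    (J : (Matrix (Fin 2) (Fin 2) R)ˣ) (hJ : (↑J : Matrix (Fin 2) (Fin 2) R) = Matrix.of ![![0, -1], ![1, 0]])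
    (hJt : AzInv.LamInv.transpose (AlgEquiv.refl : R ≃ₐ[R] R) (Fin 2) hlam (↑J : Matrix (Fin 2) (Fin 2) R) = (-1 : R) • (↑J : Matrix (Fin 2) (Fin 2) R))
    (hneg : (AlgEquiv.refl : R ≃ₐ[R] R) (-1) * (-1) = 1)

include hJ in
theorem Jinv_eq : (↑J⁻¹ : Matrix (Fin 2) (Fin 2) R) = Matrix.of ![![0, 1], ![-1, 0]] := by
  have h : (↑J : Matrix (Fin 2) (Fin 2) R) * Matrix.of ![![0, 1], ![-1, 0]] = 1 := by
    rw [hJ]
    ext i j
    fin_cases i <;> fin_cases j <;> simp [Matrix.mul_apply, Fin.sum_univ_two]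
  exact Units.inv_eq_of_mul_eq_one_right h

include hJ in
theorem sigma_apply (x : Matrix (Fin 2) (Fin 2) R) :
    ((AzInv.LamInv.transpose (AlgEquiv.refl : R ≃ₐ[R] R) (Fin 2) hlam).conj J (-1) hJt hneg) x =
      Matrix.of ![![x 1 1, - x 0 1], ![- x 1 0, x 0 0]] := by
  rw [LamInv.conj_apply, Jinv_eq J hJ, hJ]
  have hy : ∀ k l, (AzInv.LamInv.transpose (AlgEquiv.refl : R ≃ₐ[R] R) (Fin 2) hlam) x k l = x l k :=
    fun k l => rfl
  generalize (AzInv.LamInv.transpose (AlgEquiv.refl : R ≃ₐ[R] R) (Fin 2) hlam) x = y at hy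
  ext i j
  fin_cases i <;> fin_cases j <;>
    simp [Matrix.mul_apply, Fin.sum_univ_two, Matrix.vecMul, dotProduct, hy]

end TwoByTwo

section SideA
variable {R : Type u} [CommRing R] (n : ℕ)

/-- the sign pattern -/
def sgn (i j : Fin n) : R := if i < j then 1 else if j < i then -1 else 0

theorem sgn_swap (i j : Fin n) : (sgn n j i : R) = - sgn n i j := by
  unfold sgn
  rcases lt_trichotomy i j with h | h | h
  · simp [h, not_lt_of_gt h]
  · subst h; simp
  · simp [h, not_lt_of_gt h]

theorem sgn_self (i : Fin n) : (sgn n i i : R) = 0 := by simp [sgn]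

theorem sgn_sq (i j : Fin n) (h : i ≠ j) : (sgn n i j : R) * sgn n i j = 1 := by
  unfold sgn
  rcases lt_trichotomy i j with h' | h' | h'
  · simp [h']
  · exact absurd h' h
  · simp [h', not_lt_of_gt h']

def UA : Matrix (Fin n) (Fin n) R →ₗ[R] Matrix (Fin n) (Fin n) R where
  toFun M := Matrix.of fun i j => sgn n i j * M i j
  map_add' M N := by ext i j; simp [mul_add]
  map_smul' r M := by ext i j; simp [mul_left_comm]

def DA : Matrix (Fin n) (Fin n) R →ₗ[R] Matrix (Fin n) (Fin n) R where
  toFun M := Matrix.of fun i j => if i = j then M i j else 0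
  map_add' M N := by ext i j; by_cases h : i = j <;> simp [h]
  map_smul' r M := by ext i j; by_cases h : i = j <;> simp [h]

def phiA (i0 : Fin n) : Matrix (Fin n) (Fin n) R →ₗ[R] R where
  toFun M := M i0 i0
  map_add' M N := by simp
  map_smul' r M := by simp

def tA : Matrix (Fin n) (Fin n) R →ₗ[R] Matrix (Fin n) (Fin n) R where
  toFun M := Matrix.of fun i j => M j i
  map_add' M N := by ext i j; simp
  map_smul' r M := by ext i j; simp

@[simp] theorem UA_apply (M : Matrix (Fin n) (Fin n) R) (i j : Fin n) :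
    UA n M i j = sgn n i j * M i j := rfl
@[simp] theorem DA_apply (M : Matrix (Fin n) (Fin n) R) (i j : Fin n) :
    DA n M i j = if i = j then M i j else 0 := rfl
@[simp] theorem phiA_apply (i0 : Fin n) (M : Matrix (Fin n) (Fin n) R) :
    phiA n i0 M = M i0 i0 := rfl
@[simp] theorem tA_apply (M : Matrix (Fin n) (Fin n) R) (i j : Fin n) :
    tA n M i j = M j i := rfl

theorem A_h1 : (tA (R := R) n) ∘ₗ UA (R := R) n = -(UA (R := R) n ∘ₗ tA (R := R) n) := by
  ext M i j
  simp [sgn_swap n i j]

theorem A_h2 : (UA (R := R) n) ∘ₗ UA (R := R) n + UA (R := R) n ∘ₗ UA (R := R) n =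
    LinearMap.id + LinearMap.id - DA (R := R) n ∘ₗ (LinearMap.id + tA (R := R) n) := by
  ext M i j
  by_cases h : i = j
  · subst h
    simp [sgn_self]
  · simp [h, ← mul_assoc, sgn_sq n i j h]

theorem A_h3 (i0 : Fin n) : (phiA (R := R) n i0) ∘ₗ UA (R := R) n = 0 := by
  ext M
  simp [sgn_self]

theorem A_h4 (i0 : Fin n) : tA (R := R) n (Matrix.single i0 i0 1) = Matrix.single i0 i0 1 := by
  ext i j
  simp [Matrix.single_apply, and_comm]

theorem A_h5 (i0 : Fin n) : phiA (R := R) n i0 (Matrix.single i0 i0 1) = 1 := by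
  simp

end SideA

section SideB
variable {R : Type u} [CommRing R] (n : ℕ)

abbrev M2 (R : Type u) := Matrix (Fin 2) (Fin 2) R

def sig (x : M2 R) : M2 R := Matrix.of ![![x 1 1, - x 0 1], ![- x 1 0, x 0 0]]

def hh : M2 R := Matrix.of ![![1, 0], ![0, -1]]

def tB : Matrix (Fin n) (Fin n) (M2 R) →ₗ[R] Matrix (Fin n) (Fin n) (M2 R) where
  toFun a := Matrix.of fun i j => sig (a j i)
  map_add' a b := by
    ext i j k l
    fin_cases k <;> fin_cases l <;> simp [sig] <;> ring
  map_smul' r a := by
    ext i j k l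
    fin_cases k <;> fin_cases l <;> simp [sig]

def UB : Matrix (Fin n) (Fin n) (M2 R) →ₗ[R] Matrix (Fin n) (Fin n) (M2 R) where
  toFun a := Matrix.of fun i j =>
    if i < j then a i j else if j < i then - a i j else (Matrix.trace (a i i)) • (hh : M2 R)
  map_add' a b := by
    ext i j k l
    simp only [Matrix.of_apply, Matrix.add_apply]
    split_ifs <;> simp [Matrix.trace, add_mul] <;> ring
  map_smul' r a := by
    ext i j k l
    simp only [Matrix.of_apply, Matrix.smul_apply, RingHom.id_apply]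
    split_ifs <;> simp [Matrix.trace] <;> ring

def WB (q : R) : Matrix (Fin n) (Fin n) (M2 R) →ₗ[R] Matrix (Fin n) (Fin n) (M2 R) where
  toFun b := Matrix.of fun i j =>
    if i < j then b i j else if j < i then - b i j
      else (q * Matrix.trace (b i i * (hh : M2 R))) • (1 : M2 R)
  map_add' a b := by
    ext i j k l
    simp only [Matrix.of_apply, Matrix.add_apply]
    split_ifs <;> simp [Matrix.trace, add_mul, mul_add] <;> ring
  map_smul' r a := by
    ext i j k l
    simp only [Matrix.of_apply, Matrix.smul_apply, RingHom.id_apply]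
    split_ifs <;> simp [Matrix.trace, mul_add, mul_assoc, Matrix.mul_apply] <;> ring

def DB : Matrix (Fin n) (Fin n) (M2 R) →ₗ[R] Matrix (Fin n) (Fin n) (M2 R) where
  toFun M := Matrix.of fun i j => if i = j then M i j else 0
  map_add' M N := by ext i j; by_cases h : i = j <;> simp [h]
  map_smul' r M := by ext i j; by_cases h : i = j <;> simp [h]

def phiB (i0 : Fin n) : Matrix (Fin n) (Fin n) (M2 R) →ₗ[R] R where
  toFun M := M i0 i0 0 1
  map_add' M N := by simp
  map_smul' r M := by simp

@[simp] theorem tB_apply (a : Matrix (Fin n) (Fin n) (M2 R)) (i j : Fin n) :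
    tB n a i j = sig (a j i) := rfl
@[simp] theorem UB_apply (a : Matrix (Fin n) (Fin n) (M2 R)) (i j : Fin n) :
    UB n a i j = if i < j then a i j else if j < i then - a i j
      else (Matrix.trace (a i i)) • (hh : M2 R) := rfl
@[simp] theorem WB_apply (q : R) (b : Matrix (Fin n) (Fin n) (M2 R)) (i j : Fin n) :
    WB n q b i j = if i < j then b i j else if j < i then - b i j
      else (q * Matrix.trace (b i i * (hh : M2 R))) • (1 : M2 R) := rfl
@[simp] theorem DB_apply (M : Matrix (Fin n) (Fin n) (M2 R)) (i j : Fin n) :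
    DB n M i j = if i = j then M i j else 0 := rfl
@[simp] theorem phiB_apply (i0 : Fin n) (M : Matrix (Fin n) (Fin n) (M2 R)) :
    phiB n i0 M = M i0 i0 0 1 := rfl

theorem sig_neg (x : M2 R) : sig (-x) = - sig x := by
  ext k l
  fin_cases k <;> fin_cases l <;> simp [sig]

theorem sig_smul_hh (c : R) : sig (c • (hh : M2 R)) = - (c • (hh : M2 R)) := by
  ext k l
  fin_cases k <;> fin_cases l <;> simp [sig, hh]

theorem trace_sig (x : M2 R) : Matrix.trace (sig x) = Matrix.trace x := by
  simp [Matrix.trace, sig, Fin.sum_univ_two, add_comm]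

theorem B_h1 : (-(tB (R := R) n)) ∘ₗ UB (R := R) n = -(UB (R := R) n ∘ₗ (-(tB (R := R) n))) := by
  ext a i j : 3
  simp only [LinearMap.comp_apply, LinearMap.neg_apply, map_neg, neg_neg, Matrix.neg_apply,
    tB_apply, UB_apply]
  rcases lt_trichotomy i j with h | h | h
  · simp [h, not_lt_of_gt h, sig_neg]
  · subst h
    simp [sig_smul_hh, trace_sig]
  · simp [h, not_lt_of_gt h]

theorem B_h3 (i0 : Fin n) : (phiB (R := R) n i0) ∘ₗ UB (R := R) n = 0 := by
  ext a
  simp [hh]

theorem sig_single : sig (Matrix.single (0 : Fin 2) (1 : Fin 2) (1 : R)) =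
    - Matrix.single (0 : Fin 2) (1 : Fin 2) (1 : R) := by
  ext k l
  fin_cases k <;> fin_cases l <;> simp [sig, Matrix.single_apply]

theorem sig_zero : sig (0 : M2 R) = 0 := by
  ext k l
  fin_cases k <;> fin_cases l <;> simp [sig]

theorem B_h4 (i0 : Fin n) : (-(tB (R := R) n)) (Matrix.single i0 i0 (Matrix.single 0 1 1)) =
    Matrix.single i0 i0 (Matrix.single 0 1 1) := by
  ext i j : 2
  simp only [LinearMap.neg_apply, Matrix.neg_apply, tB_apply, Matrix.single_apply]
  by_cases h : i0 = i ∧ i0 = j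
  · obtain ⟨rfl, rfl⟩ := h
    simp [sig_single]
  · have h' : ¬ (i0 = j ∧ i0 = i) := fun hh => h ⟨hh.2, hh.1⟩
    simp [h, h', sig_zero]

theorem B_h5 (i0 : Fin n) : phiB (R := R) n i0 (Matrix.single i0 i0 (Matrix.single 0 1 1)) = 1 := by
  simp

theorem B_h2 (q : R) (hq : 4 * q = 1) :
    (WB (R := R) n q) ∘ₗ UB (R := R) n + WB (R := R) n q ∘ₗ UB (R := R) n =
    LinearMap.id + LinearMap.id - DB (R := R) n ∘ₗ (LinearMap.id + (-(tB (R := R) n))) := by
  ext a i j k l
  simp only [LinearMap.comp_apply, LinearMap.add_apply, LinearMap.sub_apply, LinearMap.neg_apply,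
    LinearMap.id_apply, Matrix.add_apply, Matrix.sub_apply, Matrix.neg_apply, WB_apply, UB_apply,
    DB_apply, tB_apply]
  rcases lt_trichotomy i j with h | h | h
  · simp [h, ne_of_lt h]
  · subst h
    simp only [lt_irrefl, if_false, if_true]
    have hq' : q * 4 = 1 := by rw [mul_comm]; exact hq
    fin_cases k <;> fin_cases l <;>
      simp [Matrix.trace, Fin.sum_univ_two, hh, sig, Matrix.mul_apply, Matrix.one_apply] <;>
      linear_combination (a i i 0 0 + a i i 1 1) * hq'
  · simp [h, not_lt_of_gt h, ne_of_gt h]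

end SideB

theorem ker_neg_add {K V : Type*} [Field K] [AddCommGroup V] [Module K V] (T : V →ₗ[K] V) :
    LinearMap.ker (-T + LinearMap.id) = LinearMap.ker (T - LinearMap.id) := by
  ext x
  simp only [LinearMap.mem_ker, LinearMap.add_apply, LinearMap.neg_apply, LinearMap.id_apply,
    LinearMap.sub_apply]
  constructor
  · intro h; rw [← neg_eq_zero, neg_sub, sub_eq_neg_add]; exact h
  · intro h; rw [← neg_eq_zero, neg_add, neg_neg, ← sub_eq_add_neg]; exact h

theorem ker_neg_sub {K V : Type*} [Field K] [AddCommGroup V] [Module K V] (T : V →ₗ[K] V) :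
    LinearMap.ker (-T - LinearMap.id) = LinearMap.ker (T + LinearMap.id) := by
  ext x
  simp only [LinearMap.mem_ker, LinearMap.add_apply, LinearMap.neg_apply, LinearMap.id_apply,
    LinearMap.sub_apply]
  constructor
  · intro h; rw [← neg_eq_zero, neg_add, ← sub_eq_add_neg]; exact h
  · intro h; rw [← neg_eq_zero, neg_sub, sub_neg_eq_add, add_comm]; exact h

/-- Let `R` be a nontrivial commutative ring in which `2` is a unit, with the trivial involution. This
row states the second half of the count of types: the identity of `R` (the orthogonal type) and the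
standard symplectic involution `x ↦ J xᵀ J⁻¹` of the `2 × 2` matrix algebra, `J` the matrix with
rows `(0, -1)` and `(1, 0)`, do not have the same type, i.e. for no positive sizes do the matrix
algebras over `R` with the transpose and over `M_2(R)` with the involution induced by the symplectic
one become isomorphic as `R`-algebras with involution after an etale faithfully flat base change of
`R`. (The source states that the monoid of types is isomorphic to the group of global square roots
of `1`, for a locally ringed topos with trivial involution and `2` invertible; the row is the affine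
case.) -/
theorem result (R : Type u) [CommRing R] (hlam : ∀ r : R, (AlgEquiv.refl : R ≃ₐ[R] R) ((AlgEquiv.refl : R ≃ₐ[R] R) r) = r)
    [Nontrivial R] (h2 : IsUnit (2 : R))
    (J : (Matrix (Fin 2) (Fin 2) R)ˣ) (hJ : (↑J : Matrix (Fin 2) (Fin 2) R) = Matrix.of ![![0, -1], ![1, 0]])
    (hJt : AzInv.LamInv.transpose (AlgEquiv.refl : R ≃ₐ[R] R) (Fin 2) hlam (↑J : Matrix (Fin 2) (Fin 2) R) = (-1 : R) • (↑J : Matrix (Fin 2) (Fin 2) R))
    (hneg : (AlgEquiv.refl : R ≃ₐ[R] R) (-1) * (-1) = 1) :
    ¬ AzInv.SameType R (AlgEquiv.refl : R ≃ₐ[R] R) (AzInv.LamInv.self (AlgEquiv.refl : R ≃ₐ[R] R) hlam) ((AzInv.LamInv.transpose (AlgEquiv.refl : R ≃ₐ[R] R) (Fin 2) hlam).conj J (-1) hJt hneg) := by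
  rintro ⟨n, n', hn, hn', S', instCR, instAlg, instEt, instFF, f, -, hf2⟩
  have hS' : Nontrivial S' := by
    have : Nontrivial (S' ⊗[R] R) := inferInstance
    exact (TensorProduct.rid R S').symm.toEquiv.nontrivial
  obtain ⟨m, hm⟩ := Ideal.exists_maximal S'
  letI : Field (S' ⧸ m) := Ideal.Quotient.field m
  -- identify the involutions
  have htA : ((AzInv.LamInv.self (AlgEquiv.refl : R ≃ₐ[R] R) hlam).matrix (Fin n)).linS R
      (AlgEquiv.refl : R ≃ₐ[R] R) = tA n := by
    ext M i j
    rfl
  have htB : (((AzInv.LamInv.transpose (AlgEquiv.refl : R ≃ₐ[R] R) (Fin 2) hlam).conj J (-1) hJt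
      hneg).matrix (Fin n')).linS R (AlgEquiv.refl : R ≃ₐ[R] R) = tB n' := by
    ext M i j : 3
    rw [LamInv.linS_apply, LamInv.matrix_apply, sigma_apply hlam J hJ hJt hneg, tB_apply]
    rfl
  have hlin : f.toLinearMap ∘ₗ (tA n).baseChange S' = (tB n').baseChange S' ∘ₗ f.toLinearMap := by
    ext x
    have := hf2 ((1 : S') ⊗ₜ[R] x)
    simp only [LamInv.bc, htA, htB] at this
    simpa using this
  have h2K : (2 : S' ⧸ m) ≠ 0 := by
    have h := (h2.map (algebraMap R S')).map (algebraMap S' (S' ⧸ m))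
    rw [map_ofNat, map_ofNat] at h
    exact h.ne_zero
  obtain ⟨c, hc⟩ := h2.exists_right_inv
  have hq : 4 * (c * c) = 1 := by linear_combination (2 * c + 1) * hc
  have sideA := strict_lt_bc (S := S') (K := S' ⧸ m) (tA (R := R) n) (UA n) (UA n) (DA n)
    (phiA n ⟨0, hn⟩) (Matrix.single ⟨0, hn⟩ ⟨0, hn⟩ 1) (A_h1 n) (A_h2 n) (A_h3 n _) (A_h4 n _)
    (A_h5 n _) h2K
  have sideB := strict_lt_bc (S := S') (K := S' ⧸ m) (-(tB (R := R) n')) (UB n') (WB n' (c * c))
    (DB n') (phiB n' ⟨0, hn'⟩) (Matrix.single ⟨0, hn'⟩ ⟨0, hn'⟩ (Matrix.single 0 1 1)) (B_h1 n')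
    (B_h2 n' _ hq) (B_h3 n' _) (B_h4 n' _) (B_h5 n' _) h2K
  rw [LinearMap.baseChange_neg, LinearMap.baseChange_neg, ker_neg_add, ker_neg_sub] at sideB
  have hg : ∀ x, (f.toLinearEquiv.baseChange S' (S' ⧸ m) _ _) (((tA n).baseChange S').baseChange (S' ⧸ m) x) =
      ((tB n').baseChange S').baseChange (S' ⧸ m) ((f.toLinearEquiv.baseChange S' (S' ⧸ m) _ _) x) := by
    intro x
    have := congrArg (LinearMap.baseChange (S' ⧸ m)) hlin
    rw [LinearMap.baseChange_comp, LinearMap.baseChange_comp] at this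
    exact LinearMap.congr_fun this x
  have e1 := finrank_ker_add_congr _ _ _ hg
  have e2 := finrank_ker_sub_congr _ _ _ hg
  rw [e1, e2] at sideA
  exact lt_irrefl _ (sideA.trans sideB)

end Groth.Agent.S17360
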