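import Groth.Statements.S17366
import Groth.Agent.Lib.Helper25.DepthFib
import Groth.Agent.Lib.Helper25.FreeFibSch
import Groth.Agent.Lib.Helper7.HartogsScheme
import Groth.Agent.Lib.Helper1.ParaFFree
import Groth.Agent.S16240

set_option autoImplicit false
universe u
open CategoryTheory CategoryTheory.Limits AlgebraicGeometry TopologicalSpace
open CInt

namespace Groth.Agent.S17366


/-- if the unit at `Y` is an isomorphism, morphisms `X ⟶ Y` correspond to morphisms `L X ⟶ L Y` -/
theorem existsUnique_of_isIso_unit {C D : Type*} [Category C] [Category D] {L : C ⥤ D} {R : D ⥤ C}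
    (adj : L ⊣ R) (X Y : C) [IsIso (adj.unit.app Y)] (ψ : L.obj X ⟶ L.obj Y) :
    ∃! φ : X ⟶ Y, L.map φ = ψ := by
  have key : ∀ φ : X ⟶ Y, adj.homEquiv X (L.obj Y) (L.map φ) = φ ≫ adj.unit.app Y := by
    intro φ
    rw [Adjunction.homEquiv_unit]
    exact (adj.unit.naturality φ).symm
  refine ⟨adj.homEquiv X (L.obj Y) ψ ≫ inv (adj.unit.app Y), ?_, ?_⟩
  · apply (adj.homEquiv X (L.obj Y)).injective
    rw [key, Category.assoc, IsIso.inv_hom_id, Category.comp_id]
  · intro φ' hφ'
    rw [← hφ', key, Category.assoc, IsIso.hom_inv_id, Category.comp_id]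

theorem le_one_of_not_two_le (d : WithBot ℕ∞) (h : ¬ (2 : WithBot ℕ∞) ≤ d) : d ≤ 1 := by
  rw [not_le] at h
  induction d using WithBot.recBotCoe with
  | bot => exact bot_le
  | coe n =>
    have h' : n < 2 := by
      have h2 : ((n : ℕ∞) : WithBot ℕ∞) < ((2 : ℕ∞) : WithBot ℕ∞) := h
      exact WithBot.coe_lt_coe.mp h2
    have : n ≤ 1 := by
      rw [← one_add_one_eq_two] at h'
      exact (ENat.lt_add_one_iff (by decide)).mp h'
    have h3 : ((n : ℕ∞) : WithBot ℕ∞) ≤ ((1 : ℕ∞) : WithBot ℕ∞) := WithBot.coe_le_coe.mpr this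
    exact h3

/-- Let k be an algebraically closed field, X a smooth proper k-scheme admitting an ample invertible
sheaf, and S a locally Noetherian k-scheme. Let E be a coherent module on S ×_k X, flat over S,
whose restriction to every fibre {s} × X is torsion-free, let F be a finite locally free module on S
×_k X, and let U be the largest open subset of S ×_k X over which E is finite locally free. Then
every homomorphism E|_U ⟶ F|_U is the restriction of a unique homomorphism E ⟶ F. (The published
statement also asserts the compatibility of this extension with base change along morphisms S' ⟶ S;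
that clause is not restated here.) -/
theorem result
    (k : Type u) [Field k] [IsAlgClosed k] (S X : Scheme.{u})
    (b : S ⟶ Spec (CommRingCat.of k)) (a : X ⟶ Spec (CommRingCat.of k))
    [IsLocallyNoetherian S] [Smooth a] [IsProper a]
    (hproj : ∃ H : X.Modules, CohB1.IsAmple H)
    (E F : (pullback b a).Modules) (hEcoh : Coh.IsCoh E)
    (hEfl : FlatMod.IsFlatOver (pullback.fst b a) E)
    (hEtf : ∀ s : ↥S, TorSh.IsTorsionFree
      ((Scheme.Modules.pullback ((pullback.fst b a).fiberι s)).obj E))
    (hF : FlatMod.IsFinLocFree F)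
    (U : (pullback b a).Opens)
    (hU : ∀ x : ↥(pullback b a), x ∈ U ↔
      ∃ (V : (pullback b a).Opens) (n : ℕ), x ∈ V ∧ Nonempty (E.restrict V.ι ≅ FlatMod.freeMod (↑V) n))
    (ψ : E.restrict U.ι ⟶ F.restrict U.ι) :
    ∃! φ : E ⟶ F, (Scheme.Modules.restrictFunctor U.ι).map φ = ψ := by
  haveI : IsLocallyNoetherian (pullback b a) :=
    LocallyOfFiniteType.isLocallyNoetherian (pullback.fst b a)
  have hfp : CohB1.IsFP E := Groth.Agent.S16240.isFinitePresentation_of_isCoh E hEcoh
  have hdepth : ∀ x : ↥(pullback b a), x ∉ U →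
      (2 : ℕ∞) ≤ LocCoh.depth ((pullback b a).presheaf.stalk x) ((pullback b a).presheaf.stalk x) := by
    intro x hx
    refine Groth.Agent.Lib.Helper25.DepthFib.two_le_depth_stalk_of_smooth (pullback.fst b a) x ?_
    by_contra hcon
    have hdim := le_one_of_not_two_le _ hcon
    obtain ⟨V, n, hxV, hiso⟩ := Groth.Agent.Lib.Helper25.FreeFibSch.exists_free_nhd_of_smooth
      (pullback.fst b a) E hfp hEfl hEtf x hdim
    exact hx ((hU x).2 ⟨V, n, hxV, hiso⟩)
  have hO : ∀ V : (pullback b a).Opens, Function.Bijective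
      ((pullback b a).presheaf.map (homOfLE (inf_le_left : V ⊓ U ≤ V)).op) :=
    fun V => Groth.Agent.Lib.Helper7.Hartogs.bijective_res_of_depth U hdepth V
  haveI : IsIso ((Scheme.Modules.restrictAdjunction U.ι).unit.app F) :=
    Groth.Agent.Lib.Helper1.ParaFFree.isIso_unit U hO F hF
  exact existsUnique_of_isIso_unit (Scheme.Modules.restrictAdjunction U.ι) E F ψ

end Groth.Agent.S17366
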