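import Groth.Statements.S1737
import Mathlib.RingTheory.Regular.LinearMap
import Mathlib.RingTheory.Localization.Module
import Mathlib.RingTheory.Ideal.Colon

set_option autoImplicit false
universe u
open LocCoh

namespace Groth.Agent.S1737

section
variable {A : Type u} [CommRing A] (T : Set (PrimeSpectrum A)) (M : Type u) [AddCommGroup M] [Module A M]

/-- sections supported in T -/
def Gam : Submodule A M where
  carrier := {w | ∀ q : PrimeSpectrum A, q ∉ T → ∃ v : A, v ∉ q.asIdeal ∧ v • w = 0}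
  zero_mem' := fun q _ => ⟨1, (q.asIdeal.ne_top_iff_one).1 q.isPrime.ne_top, smul_zero _⟩
  add_mem' := fun {a b} ha hb q hq => by
    obtain ⟨v1, h1, h1'⟩ := ha q hq
    obtain ⟨v2, h2, h2'⟩ := hb q hq
    refine ⟨v1 * v2, fun h => (q.isPrime.mem_or_mem h).elim h1 h2, ?_⟩
    rw [smul_add, mul_smul v1 v2 b, h2', smul_zero, add_zero, mul_comm, mul_smul, h1', smul_zero]
  smul_mem' := fun c w hw q hq => by
    obtain ⟨v, h1, h2⟩ := hw q hq
    exact ⟨v, h1, by rw [smul_comm, h2, smul_zero]⟩

variable {M}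

theorem mem_Gam (w : M) : w ∈ Gam T M ↔
    ∀ q : PrimeSpectrum A, q ∉ T → ∃ v : A, v ∉ q.asIdeal ∧ v • w = 0 := Iff.rfl

theorem mk_eq_zero_iff {N : Type u} [AddCommGroup N] [Module A N] {S : Submonoid A} (m : N) (s : S) :
    LocalizedModule.mk m s = 0 ↔ ∃ u ∈ S, u • m = 0 := by
  rw [IsLocalizedModule.mk_eq_mk', IsLocalizedModule.mk'_eq_zero']
  constructor
  · rintro ⟨u, hu⟩; exact ⟨u, u.2, hu⟩
  · rintro ⟨u, hu, h⟩; exact ⟨⟨u, hu⟩, h⟩

theorem bij (q : PrimeSpectrum A) (hq : q ∉ T) :
    Function.Bijective (LocalizedModule.map q.asIdeal.primeCompl (Gam T M).mkQ) := by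
  refine ⟨?_, LocalizedModule.map_surjective _ _ (Submodule.mkQ_surjective _)⟩
  rw [injective_iff_map_eq_zero]
  intro x hx
  induction x using LocalizedModule.induction_on with
  | h w s =>
    rw [LocalizedModule.map_mk, mk_eq_zero_iff] at hx
    obtain ⟨u, hu, hu'⟩ := hx
    rw [← map_smul, Submodule.mkQ_apply, Submodule.Quotient.mk_eq_zero] at hu'
    obtain ⟨v, hv, hv'⟩ := hu' q hq
    rw [mk_eq_zero_iff]
    exact ⟨v * u, (q.asIdeal.primeCompl).mul_mem hv hu, by rw [mul_smul, hv']⟩

/-- common denominators for a finitely generated ideal -/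
theorem exists_common (S : Submonoid A) (P : Ideal A) (hP : P.FG) (K : Ideal A)
    (h : ∀ a ∈ P, ∃ u ∈ S, u * a ∈ K) : ∃ u ∈ S, ∀ a ∈ P, u * a ∈ K := by
  classical
  obtain ⟨s, rfl⟩ := hP
  have h' : ∀ a ∈ s, ∃ u ∈ S, u * a ∈ K := fun a ha => h a (Submodule.subset_span ha)
  have key : ∃ u ∈ S, ∀ a ∈ s, u * a ∈ K := by
    clear h
    induction s using Finset.induction_on with
    | empty => exact ⟨1, S.one_mem, fun a ha => absurd ha (Finset.notMem_empty a)⟩
    | insert b s _ ih =>
      obtain ⟨u1, hu1, h1⟩ := ih (fun a ha => h' a (Finset.mem_insert_of_mem ha))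
      obtain ⟨u2, hu2, h2⟩ := h' b (Finset.mem_insert_self b s)
      refine ⟨u2 * u1, S.mul_mem hu2 hu1, fun a ha => ?_⟩
      rcases Finset.mem_insert.1 ha with rfl | ha
      · rw [mul_comm u2, mul_assoc]; exact K.mul_mem_left _ h2
      · rw [mul_assoc]; exact K.mul_mem_left _ (h1 a ha)
  obtain ⟨u, hu, hua⟩ := key
  refine ⟨u, hu, fun a ha => ?_⟩
  induction ha using Submodule.span_induction with
  | mem x hx => exact hua x hx
  | zero => rw [mul_zero]; exact K.zero_mem
  | add x y _ _ hx hy => rw [mul_add]; exact K.add_mem hx hy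
  | smul c x _ hx => rw [smul_eq_mul, mul_left_comm]; exact K.mul_mem_left _ hx

theorem key [IsNoetherianRing A] (hT : StableUnderSpecialization T) (p : PrimeSpectrum A)
    (hp : p ∈ T) (y : LocalizedModule p.asIdeal.primeCompl (M ⧸ Gam T M))
    (hy : ∀ a ∈ p.asIdeal, a • y = 0) : y = 0 := by
  induction y using LocalizedModule.induction_on with
  | h x' s =>
    obtain ⟨w, rfl⟩ := Submodule.mkQ_surjective _ x'
    let K : Ideal A := LinearMap.ker (LinearMap.toSpanSingleton A (M ⧸ Gam T M) ((Gam T M).mkQ w))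
    have hK : ∀ r : A, r ∈ K ↔ r • (Gam T M).mkQ w = 0 := fun r => by
      simp [K, LinearMap.mem_ker]
    have h1 : ∀ a ∈ p.asIdeal, ∃ u ∈ p.asIdeal.primeCompl, u * a ∈ K := by
      intro a ha
      have := hy a ha
      rw [LocalizedModule.smul'_mk, mk_eq_zero_iff] at this
      obtain ⟨u, hu, hu'⟩ := this
      exact ⟨u, hu, by rw [hK, mul_smul]; exact hu'⟩
    obtain ⟨u, hu, hua⟩ := exists_common _ _ (IsNoetherian.noetherian p.asIdeal) K h1
    rw [mk_eq_zero_iff]
    refine ⟨u, hu, ?_⟩
    rw [← map_smul, Submodule.mkQ_apply, Submodule.Quotient.mk_eq_zero, mem_Gam]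
    intro q hq
    have hpq : ¬ p.asIdeal ≤ q.asIdeal := by
      intro hle
      have : p ⤳ q := (PrimeSpectrum.le_iff_specializes p q).1 hle
      exact hq (hT this hp)
    obtain ⟨a, hap, haq⟩ := SetLike.not_le_iff_exists.1 hpq
    have h2 := (hK _).1 (hua a hap)
    rw [← map_smul, Submodule.mkQ_apply, Submodule.Quotient.mk_eq_zero, mem_Gam] at h2
    obtain ⟨v, hv, hv'⟩ := h2 q hq
    refine ⟨v * a, fun h => (q.isPrime.mem_or_mem h).elim hv haq, ?_⟩
    rw [mul_smul, ← hv', mul_smul, smul_comm a u]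

end

theorem aux (A : Type u) [CommRing A] [IsNoetherianRing A] (T : Set (PrimeSpectrum A)) (hT : StableUnderSpecialization T) (M : Type u) [AddCommGroup M] [Module A M] [Module.Finite A M] : ∃ (M' : Type u) (_ : AddCommGroup M') (_ : Module A M') (_ : Module.Finite A M') (f : M →ₗ[A] M'), Function.Surjective f ∧ (∀ p : PrimeSpectrum A, p ∉ T → Function.Bijective (LocalizedModule.map p.asIdeal.primeCompl f)) ∧ ∀ p : PrimeSpectrum A, p ∈ T → 1 ≤ LocCoh.depth (Localization.AtPrime p.asIdeal) (LocalizedModule p.asIdeal.primeCompl M') := by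
  refine ⟨M ⧸ Gam T M, inferInstance, inferInstance, inferInstance, (Gam T M).mkQ,
    Submodule.mkQ_surjective _, fun q hq => bij T q hq, fun p hp => ?_⟩
  set Ap := Localization.AtPrime p.asIdeal
  set Mp := LocalizedModule p.asIdeal.primeCompl (M ⧸ Gam T M)
  set m := IsLocalRing.maximalIdeal Ap
  have hsub : Subsingleton ((Ap ⧸ m) →ₗ[Ap] Mp) := by
    refine ⟨fun φ ψ => ?_⟩
    have hz : ∀ φ : (Ap ⧸ m) →ₗ[Ap] Mp, φ = 0 := by
      intro φ
      have h1 : φ 1 = 0 := by
        apply key T hT p hp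
        intro a ha
        rw [← algebraMap_smul Ap a, ← map_smul]
        have : (algebraMap A Ap a) • (1 : Ap ⧸ m) = 0 := by
          rw [Algebra.smul_def, mul_one, Ideal.Quotient.algebraMap_eq,
            Ideal.Quotient.eq_zero_iff_mem]
          exact (IsLocalization.AtPrime.to_map_mem_maximal_iff Ap p.asIdeal a).2 ha
        rw [this, map_zero]
      refine LinearMap.ext fun x => ?_
      obtain ⟨r, rfl⟩ := Ideal.Quotient.mk_surjective x
      have h2 : Ideal.Quotient.mk m r = r • (1 : Ap ⧸ m) := by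
        rw [Algebra.smul_def, mul_one]; rfl
      rw [h2, map_smul, h1, smul_zero]; rfl
    rw [hz φ, hz ψ]
  obtain ⟨r, hr, hreg⟩ := IsSMulRegular.subsingleton_linearMap_iff.1 hsub
  rw [Ideal.annihilator_quotient] at hr
  unfold LocCoh.depth LocCoh.idealDepth
  split_ifs with htop
  · exact le_top
  · refine le_iSup₂_of_le [r] ⟨(RingTheory.Sequence.isWeaklyRegular_singleton_iff Mp r).2 hreg, ?_⟩ ?_
    · intro x hx; rw [List.mem_singleton] at hx; rw [hx]; exact hr
    · simp

/-- Let A be a Noetherian ring, T ⊆ Spec A stable under specialization and M a finite A-module. There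
are a finite A-module M' and a surjection M → M' which is bijective after localizing at every prime
outside T and such that M'_p has depth ≥ 1 over A_p for every p in T. (The source states this for
coherent modules on a Noetherian scheme, with uniqueness.) -/
theorem result (A : Type u) [CommRing A] [IsNoetherianRing A] (T : Set (PrimeSpectrum A)) (hT : StableUnderSpecialization T) (M : Type u) [AddCommGroup M] [Module A M] [Module.Finite A M] : ∃ (M' : Type u) (_ : AddCommGroup M') (_ : Module A M') (_ : Module.Finite A M') (f : M →ₗ[A] M'), Function.Surjective f ∧ (∀ p : PrimeSpectrum A, p ∉ T → Function.Bijective (LocalizedModule.map p.asIdeal.primeCompl f)) ∧ ∀ p : PrimeSpectrum A, p ∈ T → 1 ≤ LocCoh.depth (Localization.AtPrime p.asIdeal) (LocalizedModule p.asIdeal.primeCompl M') := by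
  exact aux A T hT M

end Groth.Agent.S1737
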