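import Groth.Statements.S17385
import Groth.Agent.Lib.Helper29.StrictTransform

set_option autoImplicit false
universe u
open BlowUp

namespace Groth.Agent.S17385

open Groth.Agent.Lib.Helper29.EffCart
open CategoryTheory CategoryTheory.Limits AlgebraicGeometry Opposite TopologicalSpace


open AlgebraicGeometry CategoryTheory Limits TopologicalSpace in
/-- Let X be any scheme, I and J quasi-coherent ideals on X, b : X' → X a blowing up of X in I, Z ⊆ X
the closed subscheme of J, b' : Z' → Z a blowing up of Z in the inverse image ideal I·O_Z, and k :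
Z' → X' the morphism with k ≫ b = b' ≫ (Z → X) (it exists and is unique by the universal property).
Then k is a closed immersion (its image is the strict transform of Z); writing U for the open
complement of the support of I and W ⊆ Z' for the preimage of U, the restriction W → X' of k is an
affine morphism, and its scheme-theoretic image is the whole image of k: the kernel ideal sheaf of W
→ X' equals that of k. No Noetherian or finite-type hypothesis is needed. -/
theorem result
    {X X' Z' : Scheme.{u}} (𝓘 𝓙 : X.IdealSheafData) (b : X' ⟶ X) (hb : BlowUp.IsBlowUp b 𝓘)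
    (b' : Z' ⟶ 𝓙.subscheme) (hb' : BlowUp.IsBlowUp b' (𝓘.comap 𝓙.subschemeι))
    (k : Z' ⟶ X') (hk : k ≫ b = b' ≫ 𝓙.subschemeι) :
    IsClosedImmersion k ∧
      IsAffineHom ((k ⁻¹ᵁ (b ⁻¹ᵁ 𝓘.support.compl)).ι ≫ k) ∧
      ((k ⁻¹ᵁ (b ⁻¹ᵁ 𝓘.support.compl)).ι ≫ k).ker = k.ker := by
  have hst := isBlowUp_stMap 𝓘 𝓙 b hb
  obtain ⟨φ, hφ, -⟩ := hst.2 Z' b' hb'.1
  have hφ' : φ ≫ stMap 𝓘 𝓙 b = b' := hφ
  have hiso : IsIso φ := isIso_of_isBlowUp hb' hst φ hφ'
  have hk' : k = φ ≫ (stIdeal 𝓘 𝓙 b).subschemeι := by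
    refine IsBlowUp.hom_ext hb _ _ ?_ ?_
    · rw [hk, Scheme.IdealSheafData.comap_comp]; exact hb'.1
    · rw [hk, Category.assoc, ← stMap_comp, ← Category.assoc, hφ']
  have hci : IsClosedImmersion k := by rw [hk']; infer_instance
  have hW : k ⁻¹ᵁ (b ⁻¹ᵁ 𝓘.support.compl) =
      ((𝓘.comap 𝓙.subschemeι).comap b').support.compl := by
    ext x
    change b (k x) ∉ 𝓘.support ↔ x ∉ ((𝓘.comap 𝓙.subschemeι).comap b').support
    rw [Scheme.IdealSheafData.support_comap, Scheme.IdealSheafData.support_comap]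
    change _ ↔ 𝓙.subschemeι (b' x) ∉ 𝓘.support
    rw [← Scheme.Hom.comp_apply, ← Scheme.Hom.comp_apply, hk]
  refine ⟨hci, ?_, ?_⟩
  · rw [hW]
    have := isAffineHom_ι_compl_support _ hb'.1
    infer_instance
  · rw [hW, Scheme.Hom.ker_comp, ker_ι_compl_support_eq_bot _ hb'.1,
      Scheme.IdealSheafData.map_bot]

end Groth.Agent.S17385
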