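import Groth.Statements.S17386
import Groth.Agent.Lib.Helper29.BlowUpUP2

set_option autoImplicit false
universe u
open BlowUp

namespace Groth.Agent.S17386

open Groth.Agent.Lib.Helper29.EffCart
open CategoryTheory CategoryTheory.Limits AlgebraicGeometry Opposite TopologicalSpace

/-- An effective Cartier ideal is nonzero on every nonempty affine open. -/
lemma ideal_ne_bot_of_isEffCartierIdeal {X : Scheme.{u}} (𝓔 : X.IdealSheafData)
    (h𝓔 : BlowUp.IsEffCartierIdeal 𝓔) (W : X.affineOpens) (y : X) (hy : y ∈ W.1) :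
    𝓔.ideal W ≠ ⊥ := by
  intro hbot
  obtain ⟨W', hyW', hle, e, he, hE⟩ := exists_affine_principal_nzd_le 𝓔 h𝓔 y W.1 hy
  have h1 := 𝓔.map_ideal (U := W') (V := W) hle
  rw [hbot, Ideal.map_bot, hE] at h1
  have he0 : e = 0 := by
    have : e ∈ (⊥ : Ideal Γ(X, W'.1)) := h1 ▸ Ideal.mem_span_singleton_self e
    exact this
  obtain ⟨q, -⟩ := exists_fromSpec_eq W' hyW'
  have hnt : Nontrivial Γ(X, W'.1) := by
    by_contra hn
    rw [not_nontrivial_iff_subsingleton] at hn
    exact q.2.ne_top (Ideal.eq_top_iff_one _ |>.2 (by rw [Subsingleton.elim (1 : Γ(X, W'.1)) 0]; exact zero_mem _))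
  rw [he0] at he
  exact zero_notMem_nonZeroDivisors he

/-- The strict transform of `V(𝓙)` misses the locus where the inverse image of `𝓚` is generated
by an element of the inverse image of `𝓙`. -/
lemma not_mem_of_generator_mem {X X' Yt : Scheme.{u}} (𝓙 𝓚 : X.IdealSheafData) (b : X' ⟶ X)
    (b' : Yt ⟶ 𝓙.subscheme) (hb' : BlowUp.IsEffCartierIdeal ((𝓚.comap 𝓙.subschemeι).comap b'))
    (k : Yt ⟶ X') (hk : k ≫ b = b' ≫ 𝓙.subschemeι) (V : X.affineOpens) (V'' : X'.affineOpens)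
    (hV : V''.1 ≤ b ⁻¹ᵁ V.1) (a : Γ(X', V''.1))
    (ha : a ∈ (𝓙.ideal V).map (b.appLE V.1 V''.1 hV).hom)
    (hE : (𝓚.comap b).ideal V'' = Ideal.span {a}) (y : Yt) : k y ∉ V''.1 := by
  intro hyV'
  have hEC : BlowUp.IsEffCartierIdeal ((𝓚.comap b).comap k) := by
    rw [← Scheme.IdealSheafData.comap_comp, hk, Scheme.IdealSheafData.comap_comp]
    exact hb'
  obtain ⟨_, ⟨W, hW, rfl⟩, hyW, hle0⟩ := Yt.isBasis_affineOpens.exists_subset_of_mem_open
    (show y ∈ k ⁻¹ᵁ V''.1 from hyV') (k ⁻¹ᵁ V''.1).2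
  have hle : W ≤ k ⁻¹ᵁ V''.1 := hle0
  refine ideal_ne_bot_of_isEffCartierIdeal _ hEC ⟨W, hW⟩ y hyW ?_
  rw [ideal_comap_eq_map _ k V'' ⟨W, hW⟩ hle, hE, Ideal.map_span, Set.image_singleton]
  have hcomp : b.appLE V.1 V''.1 hV ≫ k.appLE V''.1 W hle =
      𝓙.subschemeι.app V.1 ≫ b'.appLE (𝓙.subschemeι ⁻¹ᵁ V.1) W
        (by
          intro z hz
          have h1 : (k ≫ b) z ∈ V.1 := hV (hle hz)
          rw [hk] at h1
          exact h1) := by
    rw [Scheme.Hom.appLE_comp_appLE, appLE_congr_hom hk, Scheme.Hom.comp_appLE]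
  have hzero : (k.appLE V''.1 W hle).hom a = 0 := by
    have h1 : (k.appLE V''.1 W hle).hom a ∈
        ((𝓙.ideal V).map (b.appLE V.1 V''.1 hV).hom).map (k.appLE V''.1 W hle).hom :=
      Ideal.mem_map_of_mem _ ha
    rw [Ideal.map_map, ← CommRingCat.hom_comp, hcomp, CommRingCat.hom_comp, ← Ideal.map_map] at h1
    have h2 : (𝓙.ideal V).map (𝓙.subschemeι.app V.1).hom = ⊥ := by
      rw [← 𝓙.ker_subschemeι_app V]
      exact (Ideal.map_eq_bot_iff_le_ker _).2 le_rfl
    rw [h2, Ideal.map_bot] at h1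
    exact h1
  rw [hzero]
  simp

/-- Local algebra: if a principal ideal generated by a nonzerodivisor is a finite sum of ideals,
then near any prime one of the summands contains a generator. -/
lemma exists_generator_in_summand {B : Type*} [CommRing B] {n : ℕ} (K : Fin n → Ideal B) (e : B)
    (he : e ∈ nonZeroDivisors B) (hK : Ideal.span {e} = ⨆ i, K i) (q : Ideal B) [q.IsPrime] :
    ∃ i : Fin n, ∃ c : B, c ∉ q ∧ c * e ∈ K i := by
  have hmem : e ∈ ⨆ i, K i := hK ▸ Ideal.mem_span_singleton_self e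
  obtain ⟨f, hf, hsum⟩ := (Submodule.mem_iSup_iff_exists_finsupp K e).1 hmem
  have hfe : ∀ i, ∃ c, c * e = f i := fun i =>
    Ideal.mem_span_singleton'.1 (hK ▸ (le_iSup K i) (hf i))
  choose c hc using hfe
  have hsum' : (∑ i, c i) * e = e := by
    rw [Finset.sum_mul]
    simp only [hc]
    rw [← hsum, Finsupp.sum_fintype]
    intro i; rfl
  have hone : ∑ i, c i = 1 := by
    have : (∑ i, c i - 1) * e = 0 := by rw [sub_mul, hsum', one_mul, sub_self]
    exact sub_eq_zero.1 ((mem_nonZeroDivisors_iff_right.1 he) _ this)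
  by_contra hcon
  push Not at hcon
  have hall : ∀ i, c i ∈ q := by
    intro i
    by_contra hi
    exact hcon i (c i) hi (hc i ▸ hf i)
  have : (1 : B) ∈ q := hone ▸ Ideal.sum_mem _ fun i _ => hall i
  exact (Ideal.ne_top_iff_one q).1 (Ideal.IsPrime.ne_top ‹_›) this

open AlgebraicGeometry CategoryTheory Limits in
/-- Let X be any scheme, J_1, …, J_n quasi-coherent ideals on X with closed subschemes Y_i, and b : X' →
X a blowing up of X in the ideal J_1 + ⋯ + J_n of the intersection of the Y_i. For each i let b_i' :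
Y_i' → Y_i be a blowing up of Y_i in the inverse image of J_1 + ⋯ + J_n and k_i : Y_i' → X' the
morphism with k_i ≫ b = b_i' ≫ (Y_i → X), so that the image of k_i is the strict transform of Y_i.
Then the strict transforms have empty common intersection: no point of X' lies in the image of every
k_i. -/
theorem result
    {X X' : Scheme.{u}} {n : ℕ} (𝓙 : Fin n → X.IdealSheafData) (b : X' ⟶ X)
    (hb : BlowUp.IsBlowUp b (⨆ i, 𝓙 i))
    (Y' : Fin n → Scheme.{u}) (b' : ∀ i, Y' i ⟶ (𝓙 i).subscheme)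
    (hb' : ∀ i, BlowUp.IsBlowUp (b' i) ((⨆ j, 𝓙 j).comap (𝓙 i).subschemeι))
    (k : ∀ i, Y' i ⟶ X') (hk : ∀ i, k i ≫ b = b' i ≫ (𝓙 i).subschemeι) :
    (⋂ i, Set.range (fun y => k i y)) = (∅ : Set X') := by
  rw [Set.eq_empty_iff_forall_notMem]
  intro x' hx'
  rw [Set.mem_iInter] at hx'
  obtain ⟨_, ⟨V, hV, rfl⟩, hxV, -⟩ :=
    X.isBasis_affineOpens.exists_subset_of_mem_open (Set.mem_univ (b x')) isOpen_univ
  obtain ⟨V', hxV', hle, e, he, hE⟩ :=
    exists_affine_principal_nzd_le ((⨆ i, 𝓙 i).comap b) hb.1 x' (b ⁻¹ᵁ V) hxV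
  obtain ⟨q, rfl⟩ := exists_fromSpec_eq V' hxV'
  -- the ideal on V' as a sum
  have hsum : Ideal.span {e} = ⨆ i, ((𝓙 i).ideal ⟨V, hV⟩).map (b.appLE V V'.1 hle).hom := by
    rw [← hE, ideal_comap_eq_map _ b ⟨V, hV⟩ V' hle, Scheme.IdealSheafData.ideal_iSup, iSup_apply,
      Ideal.map_iSup]
  obtain ⟨i, c, hcq, hce⟩ := exists_generator_in_summand _ e he hsum q.asIdeal
  obtain ⟨y, hy⟩ := hx' i
  -- the basic open D(c)
  have hxc : V'.2.fromSpec q ∈ X'.basicOpen c := (fromSpec_mem_basicOpen_iff V' q c).2 hcq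
  have hle'' : (X'.affineBasicOpen c).1 ≤ b ⁻¹ᵁ V := (X'.basicOpen_le c).trans hle
  set res := (X'.presheaf.map (homOfLE (X'.basicOpen_le c)).op).hom with hres
  have hresapp : (b.appLE V (X'.affineBasicOpen c).1 hle'').hom =
      res.comp (b.appLE V V'.1 hle).hom :=
    (congrArg CommRingCat.Hom.hom (b.appLE_map hle (homOfLE (X'.basicOpen_le c)).op)).symm
  have hunit : IsUnit (res c) := by
    have inst := V'.2.isLocalization_basicOpen c
    exact IsLocalization.Away.algebraMap_isUnit c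
  refine not_mem_of_generator_mem (𝓙 i) (⨆ j, 𝓙 j) b (b' i) (hb' i).1 (k i) (hk i) ⟨V, hV⟩
    (X'.affineBasicOpen c) hle'' (res (c * e)) ?_ ?_ y (by rw [show k i y = _ from hy]; exact hxc)
  · have h3 : ((𝓙 i).ideal ⟨V, hV⟩).map (b.appLE V (X'.affineBasicOpen c).1 hle'').hom =
        (((𝓙 i).ideal ⟨V, hV⟩).map (b.appLE V V'.1 hle).hom).map res := by
      rw [Ideal.map_map]
      exact congrArg (fun φ => Ideal.map φ ((𝓙 i).ideal ⟨V, hV⟩)) hresapp
    rw [h3]
    exact Ideal.mem_map_of_mem _ hce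
  · rw [← Scheme.IdealSheafData.map_ideal_basicOpen, hE, Ideal.map_span, Set.image_singleton,
      map_mul]
    exact (Ideal.span_singleton_mul_left_unit hunit _).symm

end Groth.Agent.S17386
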