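import Groth.Statements.S17393
import Groth.Agent.Lib.Helper29.BlowUpUP2

set_option autoImplicit false
universe u
open BlowUp

namespace Groth.Agent.S17393

open Groth.Agent.Lib.Helper29.EffCart
open CategoryTheory CategoryTheory.Limits AlgebraicGeometry Opposite TopologicalSpace

/-- An effective Cartier ideal is nonzero on every nonempty affine open. -/
lemma ideal_ne_bot_of_isEffCartierIdeal {X : Scheme.{u}} (𝓔 : X.IdealSheafData)
    (h𝓔 : BlowUp.IsEffCartierIdeal 𝓔) (W : X.affineOpens) (y : X) (hy : y ∈ W.1) :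
    𝓔.ideal W ≠ ⊥ := by
  intro hbot
  obtain ⟨W', hyW', hle, e, he, hE⟩ := exists_affine_principal_nzd_le 𝓔 h𝓔 y W.1 hy
  have h1 := 𝓔.map_ideal (U := W') (V := W) hle
  rw [hbot, Ideal.map_bot, hE] at h1
  have he0 : e = 0 := by
    have : e ∈ (⊥ : Ideal Γ(X, W'.1)) := h1 ▸ Ideal.mem_span_singleton_self e
    exact this
  obtain ⟨q, -⟩ := exists_fromSpec_eq W' hyW'
  have hnt : Nontrivial Γ(X, W'.1) := by
    by_contra hn
    rw [not_nontrivial_iff_subsingleton] at hn
    exact q.2.ne_top (Ideal.eq_top_iff_one _ |>.2 (by rw [Subsingleton.elim (1 : Γ(X, W'.1)) 0]; exact zero_mem _))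
  rw [he0] at he
  exact zero_notMem_nonZeroDivisors he

open AlgebraicGeometry CategoryTheory Limits in
/-- Let X be any scheme, I and I' quasi-coherent ideals on X (of closed subschemes Y and Y'), b : X' → X
a blowing up of X in I + I' (the ideal of Y ∩ Y'), b' : Ỹ → Y a blowing up of Y = V(I) in the
inverse image of I + I' and k : Ỹ → X' the morphism with k ≫ b = b' ≫ (Y → X), whose image is the
strict transform of Y. For an affine open V of X, a section s of I over V, and an affine open V' ⊆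
b⁻¹(V) of X' which meets the image of k, the ideal of the inverse image ideal sheaf (I + I')·O_X' on
V' is not the principal ideal generated by the pullback of s. Equivalently the strict transform of Y
does not meet the open locus U(s) where s generates the (invertible) inverse image ideal; since the
U(s) for s ranging over local sections of I and of I' cover X', the strict transform of Y lies in
the union of the U(s) with s a local section of I'. -/
theorem result
    {X X' Yt : Scheme.{u}} (𝓘 𝓘' : X.IdealSheafData) (b : X' ⟶ X) (hb : BlowUp.IsBlowUp b (𝓘 ⊔ 𝓘'))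
    (b' : Yt ⟶ 𝓘.subscheme) (hb' : BlowUp.IsBlowUp b' ((𝓘 ⊔ 𝓘').comap 𝓘.subschemeι))
    (k : Yt ⟶ X') (hk : k ≫ b = b' ≫ 𝓘.subschemeι)
    (V : X.affineOpens) (s : Γ(X, V.1)) (hs : s ∈ 𝓘.ideal V)
    (V' : X'.affineOpens) (hV' : V'.1 ≤ b ⁻¹ᵁ V.1)
    (hmeet : (Set.range (fun y => k y) ∩ (V'.1 : Set X')).Nonempty) :
    ((𝓘 ⊔ 𝓘').comap b).ideal V' ≠ Ideal.span {(b.appLE V.1 V'.1 hV').hom s} := by
  intro heq
  obtain ⟨_, ⟨y, rfl⟩, hyV'⟩ := hmeet
  -- the effective Cartier ideal on `Yt`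
  have hE : BlowUp.IsEffCartierIdeal (((𝓘 ⊔ 𝓘').comap b).comap k) := by
    rw [← Scheme.IdealSheafData.comap_comp, hk, Scheme.IdealSheafData.comap_comp]
    exact hb'.1
  obtain ⟨_, ⟨W, hW, rfl⟩, hyW, hle0⟩ := Yt.isBasis_affineOpens.exists_subset_of_mem_open
    (show y ∈ k ⁻¹ᵁ V'.1 from hyV') (k ⁻¹ᵁ V'.1).2
  have hle : W ≤ k ⁻¹ᵁ V'.1 := hle0
  refine ideal_ne_bot_of_isEffCartierIdeal _ hE ⟨W, hW⟩ y hyW ?_
  rw [ideal_comap_eq_map _ k V' ⟨W, hW⟩ hle, heq, Ideal.map_span, Set.image_singleton]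
  have hcomp : b.appLE V.1 V'.1 hV' ≫ k.appLE V'.1 W hle =
      𝓘.subschemeι.app V.1 ≫ b'.appLE (𝓘.subschemeι ⁻¹ᵁ V.1) W
        (by
          intro z hz
          have h1 : (k ≫ b) z ∈ V.1 := hV' (hle hz)
          rw [hk] at h1
          exact h1) := by
    rw [Scheme.Hom.appLE_comp_appLE, appLE_congr_hom hk, Scheme.Hom.comp_appLE]
  have h2 : (𝓘.subschemeι.app V.1).hom s = 0 := by
    have : s ∈ RingHom.ker (𝓘.subschemeι.app V.1).hom := by
      rw [𝓘.ker_subschemeι_app V]; exact hs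
    exact this
  have hzero : (k.appLE V'.1 W hle).hom ((b.appLE V.1 V'.1 hV').hom s) = 0 := by
    have h1 : (k.appLE V'.1 W hle).hom ((b.appLE V.1 V'.1 hV').hom s) =
        ((b.appLE V.1 V'.1 hV' ≫ k.appLE V'.1 W hle)).hom s := rfl
    rw [h1, hcomp, CommRingCat.hom_comp, RingHom.comp_apply, h2, map_zero]
  rw [hzero]
  simp

end Groth.Agent.S17393
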