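import Groth.Statements.S17409
import Mathlib
-- import your own Groth.Agent.* helpers here

set_option autoImplicit false
universe u
open Prym5

namespace Groth.Agent.S17409

/-- Over a perfect field K of characteristic different from 2 and 3, let G₂, G₃, G₄ be polynomials in
two variables x, y and consider G₂ z² + 2 G₃ z + G₄ as a polynomial in the three variables x, y, z.
If it lies in the square of the ideal (x, y, z) — the surface it defines has a double point at the
origin — then the discriminant G₃² − G₂ G₄ lies in the square of the ideal (x, y) of K[x, y], so the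
plane curve G₃² − G₂ G₄ = 0 is singular at the origin. (This is the affine-local form used in the
published proof: the surface is a quartic with a node at the centre of projection placed at infinity
on the z-axis, and the curve is the branch sextic of that projection.) -/
theorem result (K : Type u) [Field K] [PerfectField K]
    (h2 : (2 : K) ≠ 0) (h3 : (3 : K) ≠ 0) (G₂ G₃ G₄ : MvPolynomial (Fin 2) K)
    (h : MvPolynomial.rename (Fin.castSucc : Fin 2 → Fin 3) G₂ * MvPolynomial.X (2 : Fin 3) ^ 2
        + 2 * MvPolynomial.rename (Fin.castSucc : Fin 2 → Fin 3) G₃ * MvPolynomial.X (2 : Fin 3)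
        + MvPolynomial.rename (Fin.castSucc : Fin 2 → Fin 3) G₄
        ∈ (Ideal.span (Set.range (MvPolynomial.X : Fin 3 → MvPolynomial (Fin 3) K))) ^ 2) :
    G₃ ^ 2 - G₂ * G₄ ∈ (Ideal.span (Set.range (MvPolynomial.X : Fin 2 → MvPolynomial (Fin 2) K))) ^ 2 := by
  classical
  have hm3 : (Ideal.span (Set.range (MvPolynomial.X : Fin 3 → MvPolynomial (Fin 3) K))) =
      MvPolynomial.idealOfVars (Fin 3) K := rfl
  have hm2 : (Ideal.span (Set.range (MvPolynomial.X : Fin 2 → MvPolynomial (Fin 2) K))) =
      MvPolynomial.idealOfVars (Fin 2) K := rfl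
  rw [hm3] at h
  rw [hm2]
  -- G₄ ∈ m₂²
  let ev : MvPolynomial (Fin 3) K →ₐ[K] MvPolynomial (Fin 2) K :=
    MvPolynomial.aeval (Fin.lastCases (0 : MvPolynomial (Fin 2) K) (fun i => MvPolynomial.X i))
  have hev : ∀ G : MvPolynomial (Fin 2) K, ev (MvPolynomial.rename Fin.castSucc G) = G := by
    intro G
    simp only [ev, MvPolynomial.aeval_rename]
    have : (Fin.lastCases (0 : MvPolynomial (Fin 2) K) (fun i => MvPolynomial.X i)) ∘
        (Fin.castSucc : Fin 2 → Fin 3) = MvPolynomial.X := by
      funext i
      simp
    rw [this, MvPolynomial.aeval_X_left, AlgHom.id_apply]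
  have hev2 : ev (MvPolynomial.X (2 : Fin 3)) = 0 := by
    simp only [ev, MvPolynomial.aeval_X]
    exact Fin.lastCases_last
  have hmap : Ideal.map ev (MvPolynomial.idealOfVars (Fin 3) K) ≤
      MvPolynomial.idealOfVars (Fin 2) K := by
    rw [MvPolynomial.idealOfVars, Ideal.map_span, Ideal.span_le]
    rintro _ ⟨_, ⟨i, rfl⟩, rfl⟩
    induction i using Fin.lastCases with
    | last =>
      simp only [ev, MvPolynomial.aeval_X, Fin.lastCases_last]
      exact Ideal.zero_mem _
    | cast i =>
      simp only [ev, MvPolynomial.aeval_X, Fin.lastCases_castSucc]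
      exact Ideal.subset_span ⟨i, rfl⟩
  have hG4 : G₄ ∈ MvPolynomial.idealOfVars (Fin 2) K ^ 2 := by
    have h1 := Ideal.mem_map_of_mem ev h
    rw [Ideal.map_pow] at h1
    have h2 := Ideal.pow_right_mono hmap 2 h1
    simpa [hev, hev2] using h2
  -- G₃(0) = 0
  have hG3 : G₃ ∈ MvPolynomial.idealOfVars (Fin 2) K := by
    have h1 := (MvPolynomial.mem_pow_idealOfVars_iff' 2 _).mp h (Finsupp.single 2 1)
      (by simp [Finsupp.degree_single])
    rw [MvPolynomial.coeff_add, MvPolynomial.coeff_add] at h1
    have hz : MvPolynomial.coeff (Finsupp.single (2 : Fin 3) 1)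
        (MvPolynomial.rename (Fin.castSucc : Fin 2 → Fin 3) G₄) = 0 := by
      apply MvPolynomial.coeff_rename_eq_zero
      intro u hu
      exfalso
      have := congrArg (fun f => f (2 : Fin 3)) hu
      simp only [Finsupp.single_eq_same] at this
      rw [Finsupp.mapDomain_notin_range] at this
      · exact absurd this (by norm_num)
      · rintro ⟨i, hi⟩
        have := congrArg Fin.val hi
        simp at this
        omega
    have hmem : (2 : Fin 3) ∈ (Finsupp.single (2 : Fin 3) 1).support := by
      rw [Finsupp.support_single_ne_zero _ one_ne_zero]; exact Finset.mem_singleton_self _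
    have hz2 : MvPolynomial.coeff (Finsupp.single (2 : Fin 3) 1)
        (MvPolynomial.rename (Fin.castSucc : Fin 2 → Fin 3) G₂ * MvPolynomial.X 2 ^ 2) = 0 := by
      rw [MvPolynomial.X_pow_eq_monomial, MvPolynomial.coeff_mul_monomial', if_neg]
      intro hle
      have := hle 2
      simp at this
    have hz3 : MvPolynomial.coeff (Finsupp.single (2 : Fin 3) 1)
        (2 * MvPolynomial.rename (Fin.castSucc : Fin 2 → Fin 3) G₃ * MvPolynomial.X 2) =
        2 * MvPolynomial.coeff 0 (MvPolynomial.rename (Fin.castSucc : Fin 2 → Fin 3) G₃) := by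
      rw [MvPolynomial.coeff_mul_X', if_pos hmem, tsub_self]
      have h2' : (2 : MvPolynomial (Fin 3) K) = MvPolynomial.C 2 := (map_ofNat MvPolynomial.C 2).symm
      rw [h2', MvPolynomial.coeff_C_mul]
    rw [hz, hz2, hz3, zero_add, add_zero] at h1
    have h3' : MvPolynomial.coeff 0 (MvPolynomial.rename (Fin.castSucc : Fin 2 → Fin 3) G₃) = 0 :=
      (mul_eq_zero.mp h1).resolve_left h2
    have h4 : MvPolynomial.coeff 0 G₃ = 0 := by
      have := MvPolynomial.coeff_rename_mapDomain (Fin.castSucc : Fin 2 → Fin 3)
        (Fin.castSucc_injective 2) G₃ 0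
      rw [Finsupp.mapDomain_zero] at this
      rw [← this]; exact h3'
    rw [← pow_one (MvPolynomial.idealOfVars (Fin 2) K), MvPolynomial.mem_pow_idealOfVars_iff']
    intro x hx
    have : x = 0 := by
      have : Finsupp.degree x = 0 := by omega
      exact (Finsupp.degree_eq_zero_iff x).mp this
    rw [this]; exact h4
  exact Ideal.sub_mem _ (Ideal.pow_mem_pow hG3 2) (Ideal.mul_mem_left _ _ hG4)

end Groth.Agent.S17409
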