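import Groth.Statements.S1741
import Groth.Agent.Lib.helper11.ExtTorZero

set_option autoImplicit false
universe u
open CategoryTheory
attribute [local instance] HasDerivedCategory.standard
open LocCoh

namespace Groth.Agent.S1741

/-- Equivalence of (4) and (7) in the Noetherian case. Let R be a Noetherian ring, α : M → M' a map of
R-modules with M finite, and e ≥ 0. Then precomposition with α kills all classes in Ext^{e+1}(M', N)
(maps M' → N[e+1] in D(R)) for every module N if and only if the map Tor_{e+1}(M, N) → Tor_{e+1}(M',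
N) induced by α is zero for every module N. -/
theorem result (R : Type u) [CommRing R] [IsNoetherianRing R] (M M' : Type u) [AddCommGroup M] [Module R M] [Module.Finite R M] [AddCommGroup M'] [Module R M'] (α : M →ₗ[R] M') (e : ℕ) : (∀ (N : Type u) [AddCommGroup N] [Module R N] (φ : Dual.inD R M' ⟶ (Dual.inD R N)⟦((e : ℤ) + 1)⟧), (DerivedCategory.singleFunctor (ModuleCat.{u} R) 0).map (ModuleCat.ofHom α) ≫ φ = 0) ↔ (∀ (N : Type u) [AddCommGroup N] [Module R N], ((CategoryTheory.Tor (ModuleCat.{u} R) (e + 1)).map (ModuleCat.ofHom α)).app (ModuleCat.of R N) = 0) := by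
  have key := Groth.Agent.Lib.helper11.ExtTorZero.EA_iff_TB e M M' α
  constructor
  · intro hA N _ _
    have hE : Groth.Agent.Lib.helper11.ExtTorZero.EA e α := by
      intro N x
      have aux : ∀ (n : ℤ) (hn : n = (e : ℤ) + 1)
          (φ : Dual.inD R M' ⟶ (Dual.inD R N)⟦n⟧),
          (DerivedCategory.singleFunctor (ModuleCat.{u} R) 0).map (ModuleCat.ofHom α) ≫ φ = 0 := by
        intro n hn φ
        subst hn
        exact hA N φ
      apply Abelian.Ext.ext
      rw [Abelian.Ext.comp_hom, Abelian.Ext.mk₀_hom, ShiftedHom.mk₀_comp, Abelian.Ext.zero_hom]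
      exact aux _ (by push_cast; rfl) x.hom
    exact (Groth.Agent.Lib.helper11.ExtTorZero.tor_map_eq_zero_iff α e (ModuleCat.of R N)).mpr
      (key.mp hE _)
  · intro hB N _ _ φ
    have hT : Groth.Agent.Lib.helper11.ExtTorZero.TB e α := fun N =>
      (Groth.Agent.Lib.helper11.ExtTorZero.tor_map_eq_zero_iff α e N).mp (hB N)
    have hE := key.mpr hT
    have aux : ∀ (n : ℤ) (hn : n = ((e + 1 : ℕ) : ℤ))
        (φ : Dual.inD R M' ⟶ (Dual.inD R N)⟦n⟧),
        (DerivedCategory.singleFunctor (ModuleCat.{u} R) 0).map (ModuleCat.ofHom α) ≫ φ = 0 := by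
      intro n hn φ
      subst hn
      have h1 := hE (ModuleCat.of R N) (Abelian.Ext.homEquiv.symm φ)
      have h2 := congrArg Abelian.Ext.hom h1
      rw [Abelian.Ext.comp_hom, Abelian.Ext.mk₀_hom, ShiftedHom.mk₀_comp, Abelian.Ext.zero_hom] at h2
      have h3 : (Abelian.Ext.homEquiv.symm φ).hom = φ := Equiv.apply_symm_apply _ φ
      rw [h3] at h2
      exact h2
    exact aux _ (by push_cast; rfl) φ

end Groth.Agent.S1741
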