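import Groth.Statements.S17414
import Mathlib
import Groth.Agent.S17409
-- import your own Groth.Agent.* helpers here

set_option autoImplicit false
universe u
open Prym5

namespace Groth.Agent.S17414

section aux
variable (K : Type u) [Field K]

noncomputable def ev : MvPolynomial (Fin 3) K →ₐ[K] MvPolynomial (Fin 2) K :=
  MvPolynomial.aeval (Fin.lastCases (0 : MvPolynomial (Fin 2) K) (fun i => MvPolynomial.X i))

theorem ev_rename (G : MvPolynomial (Fin 2) K) :
    ev K (MvPolynomial.rename Fin.castSucc G) = G := by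
  simp only [ev, MvPolynomial.aeval_rename]
  have : (Fin.lastCases (0 : MvPolynomial (Fin 2) K) (fun i => MvPolynomial.X i)) ∘
      (Fin.castSucc : Fin 2 → Fin 3) = MvPolynomial.X := by
    funext i
    simp
  rw [this, MvPolynomial.aeval_X_left, AlgHom.id_apply]

theorem ev_X2 : ev K (MvPolynomial.X (2 : Fin 3)) = 0 := by
  simp only [ev, MvPolynomial.aeval_X]
  exact Fin.lastCases_last

theorem ev_map : Ideal.map (ev K) (MvPolynomial.idealOfVars (Fin 3) K) ≤
    MvPolynomial.idealOfVars (Fin 2) K := by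
  rw [MvPolynomial.idealOfVars, Ideal.map_span, Ideal.span_le]
  rintro _ ⟨_, ⟨i, rfl⟩, rfl⟩
  induction i using Fin.lastCases with
  | last =>
    simp only [ev, MvPolynomial.aeval_X, Fin.lastCases_last]
    exact Ideal.zero_mem _
  | cast i =>
    simp only [ev, MvPolynomial.aeval_X, Fin.lastCases_castSucc]
    exact Ideal.subset_span ⟨i, rfl⟩

theorem rename_map : Ideal.map (MvPolynomial.rename (Fin.castSucc : Fin 2 → Fin 3) :
      MvPolynomial (Fin 2) K →ₐ[K] MvPolynomial (Fin 3) K)
    (MvPolynomial.idealOfVars (Fin 2) K) ≤ MvPolynomial.idealOfVars (Fin 3) K := by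
  rw [MvPolynomial.idealOfVars, Ideal.map_span, Ideal.span_le]
  rintro _ ⟨_, ⟨i, rfl⟩, rfl⟩
  simp only [MvPolynomial.rename_X]
  exact Ideal.subset_span ⟨_, rfl⟩

theorem rename_mem_pow (n : ℕ) (G : MvPolynomial (Fin 2) K)
    (hG : G ∈ MvPolynomial.idealOfVars (Fin 2) K ^ n) :
    MvPolynomial.rename (Fin.castSucc : Fin 2 → Fin 3) G ∈ MvPolynomial.idealOfVars (Fin 3) K ^ n := by
  have h1 := Ideal.mem_map_of_mem (MvPolynomial.rename (Fin.castSucc : Fin 2 → Fin 3) :
      MvPolynomial (Fin 2) K →ₐ[K] MvPolynomial (Fin 3) K) hG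
  rw [Ideal.map_pow] at h1
  exact Ideal.pow_right_mono (rename_map K) n h1

theorem mem_idealOfVars_iff {σ : Type*} (p : MvPolynomial σ K) :
    p ∈ MvPolynomial.idealOfVars σ K ↔ MvPolynomial.coeff 0 p = 0 := by
  rw [← pow_one (MvPolynomial.idealOfVars σ K), MvPolynomial.mem_pow_idealOfVars_iff']
  constructor
  · intro h; exact h 0 (by simp)
  · intro h x hx
    have : x = 0 := by
      have : Finsupp.degree x = 0 := by omega
      exact (Finsupp.degree_eq_zero_iff x).mp this
    rw [this]; exact h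

end aux

/-- Over a perfect field K of characteristic different from 2 and 3, let G₂, G₃, G₄ be polynomials in x,
y, let h = G₂ z² + 2 G₃ z + G₄ in K[x, y, z] and D = G₃² − G₂ G₄ in K[x, y]. Suppose h ∈ (x, y, z) —
the origin Q lies on the surface h = 0 — and D ∈ (x, y) — the image of Q under (x, y, z) ↦ (x, y)
lies on the discriminant curve D = 0. Then D ∈ (x, y)², i.e. the image point is singular on the
discriminant curve, if and only if either h ∈ (x, y, z)², i.e. Q is a singular point of the surface,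
or G₂, G₃, G₄ ∈ (x, y), i.e. Q lies on all three cones G₂ = G₃ = G₄ = 0. (Affine-local form, in a
chart where the node projected from sits at infinity on the z-axis and Q at the origin, of the
published claim: for a point Q ≠ P of the nodal quartic whose projection lies on the branch sextic,
the projection is singular on the sextic exactly when Q is singular on the quartic or lies on the
cones u₂ = u₃ = u₄ = 0.) -/
theorem result (K : Type u) [Field K] [PerfectField K]
    (h2 : (2 : K) ≠ 0) (h3 : (3 : K) ≠ 0) (G₂ G₃ G₄ : MvPolynomial (Fin 2) K)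
    (hQ : MvPolynomial.rename (Fin.castSucc : Fin 2 → Fin 3) G₂ * MvPolynomial.X (2 : Fin 3) ^ 2
        + 2 * MvPolynomial.rename (Fin.castSucc : Fin 2 → Fin 3) G₃ * MvPolynomial.X (2 : Fin 3)
        + MvPolynomial.rename (Fin.castSucc : Fin 2 → Fin 3) G₄
        ∈ Ideal.span (Set.range (MvPolynomial.X : Fin 3 → MvPolynomial (Fin 3) K)))
    (hD : G₃ ^ 2 - G₂ * G₄ ∈ Ideal.span (Set.range (MvPolynomial.X : Fin 2 → MvPolynomial (Fin 2) K))) :
    G₃ ^ 2 - G₂ * G₄ ∈ (Ideal.span (Set.range (MvPolynomial.X : Fin 2 → MvPolynomial (Fin 2) K))) ^ 2 ↔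
      (MvPolynomial.rename (Fin.castSucc : Fin 2 → Fin 3) G₂ * MvPolynomial.X (2 : Fin 3) ^ 2
          + 2 * MvPolynomial.rename (Fin.castSucc : Fin 2 → Fin 3) G₃ * MvPolynomial.X (2 : Fin 3)
          + MvPolynomial.rename (Fin.castSucc : Fin 2 → Fin 3) G₄
          ∈ (Ideal.span (Set.range (MvPolynomial.X : Fin 3 → MvPolynomial (Fin 3) K))) ^ 2 ∨
        (G₂ ∈ Ideal.span (Set.range (MvPolynomial.X : Fin 2 → MvPolynomial (Fin 2) K)) ∧
          G₃ ∈ Ideal.span (Set.range (MvPolynomial.X : Fin 2 → MvPolynomial (Fin 2) K)) ∧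
          G₄ ∈ Ideal.span (Set.range (MvPolynomial.X : Fin 2 → MvPolynomial (Fin 2) K)))) := by
  classical
  have hm3 : (Ideal.span (Set.range (MvPolynomial.X : Fin 3 → MvPolynomial (Fin 3) K))) =
      MvPolynomial.idealOfVars (Fin 3) K := rfl
  have hm2 : (Ideal.span (Set.range (MvPolynomial.X : Fin 2 → MvPolynomial (Fin 2) K))) =
      MvPolynomial.idealOfVars (Fin 2) K := rfl
  -- G₄ ∈ m₂
  have hG4 : G₄ ∈ MvPolynomial.idealOfVars (Fin 2) K := by
    have h1 := ev_map K (Ideal.mem_map_of_mem (ev K) hQ)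
    simpa [ev_rename, ev_X2] using h1
  have hc : MvPolynomial.coeff 0 G₄ = 0 := (mem_idealOfVars_iff K G₄).mp hG4
  -- G₃ ∈ m₂
  have hG3 : G₃ ∈ MvPolynomial.idealOfVars (Fin 2) K := by
    rw [mem_idealOfVars_iff]
    have h1 := (mem_idealOfVars_iff K _).mp hD
    have hc' : MvPolynomial.constantCoeff G₄ = 0 := by rw [MvPolynomial.constantCoeff_eq]; exact hc
    rw [← MvPolynomial.constantCoeff_eq] at h1 ⊢
    rw [map_sub, map_pow, map_mul, hc', mul_zero, sub_zero] at h1
    exact pow_eq_zero_iff (two_ne_zero) |>.mp h1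
  constructor
  · intro hD2
    by_cases hG2 : G₂ ∈ MvPolynomial.idealOfVars (Fin 2) K
    · right; exact ⟨hG2, hG3, hG4⟩
    · left
      rw [hm2] at hD2
      have h22 : G₂ * G₄ ∈ MvPolynomial.idealOfVars (Fin 2) K ^ 2 := by
        have := Ideal.sub_mem _ (Ideal.pow_mem_pow hG3 2) hD2
        simpa using this
      set a := MvPolynomial.coeff 0 G₂ with ha
      have ha0 : a ≠ 0 := by
        intro h0; exact hG2 ((mem_idealOfVars_iff K G₂).mpr h0)
      have hG2' : G₂ - MvPolynomial.C a ∈ MvPolynomial.idealOfVars (Fin 2) K := by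
        rw [mem_idealOfVars_iff, MvPolynomial.coeff_sub, MvPolynomial.coeff_zero_C, sub_self]
      have h3' : MvPolynomial.C a * G₄ ∈ MvPolynomial.idealOfVars (Fin 2) K ^ 2 := by
        have h4 : (G₂ - MvPolynomial.C a) * G₄ ∈ MvPolynomial.idealOfVars (Fin 2) K ^ 2 := by
          rw [pow_two]; exact Ideal.mul_mem_mul hG2' hG4
        have := Ideal.sub_mem _ h22 h4
        have e : G₂ * G₄ - (G₂ - MvPolynomial.C a) * G₄ = MvPolynomial.C a * G₄ := by ring
        rwa [e] at this
      have hG42 : G₄ ∈ MvPolynomial.idealOfVars (Fin 2) K ^ 2 := by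
        have := Ideal.mul_mem_left _ (MvPolynomial.C a⁻¹) h3'
        rwa [← mul_assoc, ← map_mul, inv_mul_cancel₀ ha0, map_one, one_mul] at this
      rw [hm3]
      refine Ideal.add_mem _ (Ideal.add_mem _ ?_ ?_) (rename_mem_pow K 2 G₄ hG42)
      · apply Ideal.mul_mem_left
        exact Ideal.pow_mem_pow (Ideal.subset_span (Set.mem_range_self _)) 2
      · rw [pow_two, mul_assoc]
        apply Ideal.mul_mem_left
        refine Ideal.mul_mem_mul ?_ (Ideal.subset_span (Set.mem_range_self _))
        have := rename_mem_pow K 1 G₃ (by rwa [pow_one])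
        rwa [pow_one] at this
  · rintro (h | ⟨hG2, -, -⟩)
    · exact Groth.Agent.S17409.result K h2 h3 G₂ G₃ G₄ h
    · rw [hm2]
      exact Ideal.sub_mem _ (Ideal.pow_mem_pow hG3 2) (by rw [pow_two]; exact Ideal.mul_mem_mul hG2 hG4)

end Groth.Agent.S17414
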