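import Groth.Statements.S1742
import Groth.Agent.Lib.Helper7.RegSeqSpread

set_option autoImplicit false
universe u
open LocCoh

namespace Groth.Agent.S1742

open Groth.Agent.Lib.Helper7.RegSpread Groth.Agent.Lib.Helper21.DepthKit RingTheory.Sequence

/-- elements of `I A_p` are unit multiples of images of elements of `I` -/
theorem exists_list_lift {A : Type u} [CommRing A] (I : Ideal A) (p : Ideal A) [p.IsPrime] :
    ∀ rs : List (Localization.AtPrime p),
      (∀ r ∈ rs, r ∈ I.map (algebraMap A (Localization.AtPrime p))) →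
      ∃ xs : List A, (∀ a ∈ xs, a ∈ I) ∧
        List.Forall₂ (fun r r' => ∃ u : Localization.AtPrime p, IsUnit u ∧ r' = u * r) rs
          (xs.map (algebraMap A (Localization.AtPrime p))) := by
  intro rs
  induction rs with
  | nil => intro _; exact ⟨[], by simp, by simp⟩
  | cons r rs ih =>
    intro hmem
    obtain ⟨xs, hxs, hall⟩ := ih (fun r' hr' => hmem r' (List.mem_cons_of_mem _ hr'))
    have hr := hmem r List.mem_cons_self
    rw [IsLocalization.mem_map_algebraMap_iff p.primeCompl] at hr
    obtain ⟨⟨a, s⟩, has⟩ := hr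
    refine ⟨a.1 :: xs, ?_, ?_⟩
    · intro b hb
      rcases List.mem_cons.1 hb with rfl | hb
      · exact a.2
      · exact hxs b hb
    · rw [List.map_cons]
      refine List.Forall₂.cons ⟨algebraMap A (Localization.AtPrime p) s,
        IsLocalization.map_units _ s, ?_⟩ hall
      rw [mul_comm]
      exact has.symm

/-- Let A be a Noetherian ring, I an ideal, M a finite A-module and p a prime containing I such that the
IA_p-depth of M_p is a finite number e. Then there is an open subset U of Spec A meeting V(p) such
that the IA_q-depth of M_q is at least e for every q in U ∩ V(p). -/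
theorem result (A : Type u) [CommRing A] [IsNoetherianRing A] (I : Ideal A) (M : Type u) [AddCommGroup M] [Module A M] [Module.Finite A M] (p : PrimeSpectrum A) (hp : I ≤ p.asIdeal) (e : ℕ) (he : LocCoh.idealDepth (I.map (algebraMap A (Localization.AtPrime p.asIdeal))) (LocalizedModule p.asIdeal.primeCompl M) = e) : ∃ U : Set (PrimeSpectrum A), IsOpen U ∧ (U ∩ PrimeSpectrum.zeroLocus (p.asIdeal : Set A)).Nonempty ∧ ∀ q : PrimeSpectrum A, q ∈ U → p ≤ q → (e : ℕ∞) ≤ LocCoh.idealDepth (I.map (algebraMap A (Localization.AtPrime q.asIdeal))) (LocalizedModule q.asIdeal.primeCompl M) := by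
  classical
  haveI := p.isPrime
  have hIM : (I.map (algebraMap A (Localization.AtPrime p.asIdeal))) •
      (⊤ : Submodule (Localization.AtPrime p.asIdeal) (LocalizedModule p.asIdeal.primeCompl M)) ≠ ⊤ := by
    intro h
    unfold LocCoh.idealDepth at he
    rw [if_pos h] at he
    exact absurd he (by simp)
  obtain ⟨rs, hlen, hmem, hreg⟩ := (natCast_le_idealDepth_iff _ hIM e).1 (le_of_eq he.symm)
  obtain ⟨xs, hxsI, hall⟩ := exists_list_lift I p.asIdeal rs hmem
  have hreg' := isWeaklyRegular_of_forall₂_unit hall _ hreg
  have hxlen : xs.length = e := by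
    have := hall.length_eq
    rw [List.length_map] at this
    rw [← this, hlen]
  obtain ⟨g, hgp, hg⟩ := exists_isWeaklyRegular_localization xs M p.asIdeal hreg'
  refine ⟨(PrimeSpectrum.basicOpen g : Set (PrimeSpectrum A)), (PrimeSpectrum.basicOpen g).isOpen,
    ⟨p, hgp, ?_⟩, ?_⟩
  · rw [PrimeSpectrum.mem_zeroLocus]
  · intro q hq _
    haveI := q.isPrime
    have hq' : g ∉ q.asIdeal := hq
    have h1 := hg q.asIdeal hq'
    have h2 := length_le_idealDepth (I.map (algebraMap A (Localization.AtPrime q.asIdeal)))
      (xs.map (algebraMap A (Localization.AtPrime q.asIdeal))) h1 (by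
        intro r hr
        obtain ⟨a, ha, rfl⟩ := List.mem_map.1 hr
        exact Ideal.mem_map_of_mem _ (hxsI a ha))
    rw [List.length_map, hxlen] at h2
    exact h2

end Groth.Agent.S1742
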