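import Groth.Statements.S17426
import Groth.Agent.Lib.Helper25.RelGenB
import Groth.Agent.Lib.Helper25.RelGenC
import Groth.Agent.Lib.Helper13.LimDescendCore
-- import your own Groth.Agent.* helpers here

set_option autoImplicit false
universe u
open CategoryTheory AlgebraicGeometry
open Lim

namespace Groth.Agent.S17426

open CategoryTheory.Limits Groth.Agent.Lib.Helper22 Groth.Agent.Lib.Helper13.LimDescend

/-- Let S = lim S_i be a cofiltered limit of schemes with affine transition morphisms, with S_{i₀} a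
quasi-compact quasi-separated stage; let X₀ and Y₀ be schemes of finite presentation over S_{i₀}, f₀
: X₀ → Y₀ an S_{i₀}-morphism and L₀ an invertible O_{X₀}-module. Let f : X → Y be the base change of
f₀ along S → S_{i₀} and L the pullback of L₀ to X (base changes are expressed by pullback squares).
Call an invertible module generated relative to a morphism when the counit of the
pullback–pushforward adjunction, f^*f_*L → L, is an epimorphism. If L is generated relative to f,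
then there is an index j over i₀ such that for every index k over j and every base change f_k : X_k
→ Y_k of f₀ along S_k → S_{i₀}, the pullback L_k of L₀ to X_k is generated relative to f_k. (Stated
for X₀, Y₀ of finite presentation over the quasi-compact quasi-separated stage, the setting in which
all the schemes involved are quasi-compact and quasi-separated; the semi-ample variant of the
source, some positive tensor power generated, is not restated.) -/
theorem result {I : Type u} [SmallCategory I] [IsCofiltered I]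
    (D : I ⥤ Scheme.{u}) (c : Limits.Cone D) (hc : Limits.IsLimit c)
    [∀ (i j : I) (u : i ⟶ j), IsAffineHom (D.map u)] (i₀ : I) [CompactSpace (D.obj i₀)] [QuasiSeparatedSpace (D.obj i₀)]
    {X₀ Y₀ : Scheme.{u}} (f₀ : X₀ ⟶ Y₀) (g₀ : Y₀ ⟶ D.obj i₀)
    [LocallyOfFinitePresentation g₀] [QuasiCompact g₀] [QuasiSeparated g₀]
    [LocallyOfFinitePresentation (f₀ ≫ g₀)] [QuasiCompact (f₀ ≫ g₀)] [QuasiSeparated (f₀ ≫ g₀)]
    (L₀ : X₀.Modules) (hL₀ : PicF.IsInvertible L₀)
    {X Y : Scheme.{u}} (f : X ⟶ Y) (g : Y ⟶ c.pt) (qY : Y ⟶ Y₀) (qX : X ⟶ X₀)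
    (hY : IsPullback qY g g₀ (c.π.app i₀)) (hX : IsPullback qX f f₀ qY)
    (hgen : Epi ((Scheme.Modules.pullbackPushforwardAdjunction f).counit.app ((Scheme.Modules.pullback qX).obj L₀))) :
    ∃ (j : I) (φ : j ⟶ i₀), ∀ (k : I) (ψ : k ⟶ j) (Xk Yk : Scheme.{u}) (fk : Xk ⟶ Yk) (gk : Yk ⟶ D.obj k)
      (pY : Yk ⟶ Y₀) (pX : Xk ⟶ X₀), IsPullback pY gk g₀ (D.map (ψ ≫ φ)) → IsPullback pX fk f₀ pY →
        Epi ((Scheme.Modules.pullbackPushforwardAdjunction fk).counit.app ((Scheme.Modules.pullback pX).obj L₀)) := by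
  classical
  haveI : QuasiCompact f₀ := QuasiCompact.of_comp f₀ g₀
  haveI : QuasiSeparated f₀ := QuasiSeparated.of_comp f₀ g₀
  haveI hL₀fp : SheafOfModules.IsFinitePresentation.{u} (R := X₀.ringCatSheaf) L₀ :=
    Groth.Agent.Lib.Helper25.RelGen.isFinitePresentation_of_isInvertible L₀ hL₀
  haveI hE : ∀ (j k : Over i₀) (φ : j ⟶ k), IsAffineHom ((bcDiag D i₀ g₀).map φ) :=
    fun _ _ φ => inferInstance
  let σ : (bcDiag D i₀ g₀).obj (top i₀) ⟶ Y₀ := pullback.snd (D.map (top i₀).hom) g₀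
  haveI hσiso : IsIso σ := isIso_snd_top D i₀ g₀
  let fk : X₀ ⟶ (bcDiag D i₀ g₀).obj (top i₀) := f₀ ≫ inv σ
  have hfkσ : fk ≫ σ = f₀ := by simp [fk]
  haveI : QuasiCompact fk := inferInstance
  haveI : QuasiSeparated fk := inferInstance
  haveI : CompactSpace Y₀ := QuasiCompact.compactSpace_of_compactSpace g₀
  haveI : QuasiSeparatedSpace Y₀ := quasiSeparatedSpace_of_quasiSeparated g₀
  haveI : CompactSpace ((bcDiag D i₀ g₀).obj (top i₀)) := inferInstance
  haveI : QuasiSeparatedSpace ((bcDiag D i₀ g₀).obj (top i₀)) :=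
    quasiSeparatedSpace_of_quasiSeparated σ
  let ιY : Y ≅ pullback (c.π.app i₀) g₀ := hY.flip.isoPullback
  have hιY1 : ιY.hom ≫ pullback.fst (c.π.app i₀) g₀ = g := hY.flip.isoPullback_hom_fst
  have hιY2 : ιY.hom ≫ pullback.snd (c.π.app i₀) g₀ = qY := hY.flip.isoPullback_hom_snd
  let π₀ : pullback (c.π.app i₀) g₀ ⟶ (bcDiag D i₀ g₀).obj (top i₀) :=
    (bcCone D c i₀ g₀).π.app (top i₀)
  have hπ₀ : π₀ ≫ σ = pullback.snd (c.π.app i₀) g₀ := bcCone_π_snd D c i₀ g₀ (top i₀)
  have pb1 : IsPullback qX (f ≫ ιY.hom) fk π₀ := by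
    refine IsPullback.of_iso hX (Iso.refl _) (Iso.refl _) ιY (asIso σ).symm (by simp) (by simp)
      (by simp [fk]) ?_
    change qY ≫ inv σ = ιY.hom ≫ π₀
    rw [IsIso.comp_inv_eq, Category.assoc, hπ₀, hιY2]
  let ιX : X ≅ pullback π₀ fk := pb1.flip.isoPullback
  have hιX1 : ιX.hom ≫ pullback.fst π₀ fk = f ≫ ιY.hom := pb1.flip.isoPullback_hom_fst
  have hιX2 : ιX.hom ≫ pullback.snd π₀ fk = qX := pb1.flip.isoPullback_hom_snd
  have hw : ιX.inv ≫ f = pullback.fst π₀ fk ≫ ιY.inv := by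
    rw [Iso.inv_comp_eq, ← Category.assoc, hιX1, Category.assoc, Iso.hom_inv_id, Category.comp_id]
  have hinvq : ιX.inv ≫ qX = pullback.snd π₀ fk := by rw [Iso.inv_comp_eq, hιX2]
  have hgen' : Epi ((Scheme.Modules.pullbackPushforwardAdjunction (pullback.fst π₀ fk)).counit.app
      ((Scheme.Modules.pullback (pullback.snd π₀ fk)).obj L₀)) :=
    Groth.Agent.Lib.Helper25.RelGen.epi_counit_of_square' f (pullback.fst π₀ fk) ιX.inv ιY.inv hw hgen
      ((Groth.Agent.Lib.Helper25.ModMapLocal.compIso ιX.inv qX (pullback.snd π₀ fk) hinvq).app L₀)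
  obtain ⟨m, Q, κ, hκ⟩ := Groth.Agent.Lib.Helper25.RelGen.exists_stage_epi (bcDiag D i₀ g₀)
    (bcIsLimit D hc i₀ g₀) (top i₀) fk L₀ hgen'
  haveI := hκ
  refine ⟨m.left.left, m.left.hom, ?_⟩
  intro k ψ Xk Yk fk' gk pY pX hYk hXk
  let a'₀ : Yk ⟶ pullback (D.map m.left.hom) g₀ :=
    pullback.lift (gk ≫ D.map ψ) pY (by
      rw [Category.assoc, ← D.map_comp]; exact hYk.w.symm)
  let a' : Yk ⟶ (bcDiag D i₀ g₀).obj m.left := a'₀
  have ha'2 : a' ≫ pullback.snd (D.map m.left.hom) g₀ = pY := pullback.lift_snd _ _ _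
  have hmapσ : (bcDiag D i₀ g₀).map m.hom ≫ σ = pullback.snd (D.map m.left.hom) g₀ :=
    bcDiag_map_snd D i₀ g₀ m.hom
  let b : Xk ⟶ pullback ((bcDiag D i₀ g₀).map m.hom) fk :=
    pullback.lift (fk' ≫ a') pX (by
      have h1 : ((fk' ≫ a') ≫ (bcDiag D i₀ g₀).map m.hom) ≫ σ = (pX ≫ fk) ≫ σ := by
        rw [Category.assoc, Category.assoc, hmapσ, ha'2, Category.assoc, hfkσ]
        exact hXk.w.symm
      exact (cancel_mono σ).1 h1)
  have hb1 : b ≫ pullback.fst ((bcDiag D i₀ g₀).map m.hom) fk = fk' ≫ a' := pullback.lift_fst _ _ _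
  have hb2 : b ≫ pullback.snd ((bcDiag D i₀ g₀).map m.hom) fk = pX := pullback.lift_snd _ _ _
  exact Groth.Agent.Lib.Helper25.RelGen.epi_counit_of_square
    (pullback.fst ((bcDiag D i₀ g₀).map m.hom) fk) fk' b a' hb1 κ
    ((Groth.Agent.Lib.Helper25.ModMapLocal.compIso b (pullback.snd ((bcDiag D i₀ g₀).map m.hom) fk)
      pX hb2).app L₀)

end Groth.Agent.S17426
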