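import Groth.Statements.S17428
import Mathlib
-- import your own Groth.Agent.* helpers here

set_option autoImplicit false
set_option linter.unusedSectionVars false
set_option linter.style.haveILetI false
universe u
open FrobAlg

namespace Groth.Agent.S17428

open TensorProduct

section

variable (p : ℕ) [Fact p.Prime] (A : Type u) [CommRing A] [CharP A p] (I : Ideal A)

theorem relFrob_tmul (B : Type u) [CommRing B] [Algebra A B] [CharP B p] (b : B) (a : Twist p A) :
    relFrob p A B (b ⊗ₜ a) = b ^ p * algebraMap A B ((toTwist p A).symm a) := by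
  simp [relFrob, frobHom, inclHom]
  rw [frobenius_def]

/-- The identity `Twist p A → A` as a Frobenius-semilinear map. -/
def symmSL : Twist p A →ₛₗ[frobenius A p] A where
  toFun := (toTwist p A).symm
  map_add' := map_add _
  map_smul' r m := by
    change (toTwist p A).symm (r • m) = frobenius A p r • (toTwist p A).symm m
    rw [Algebra.smul_def, algebraMap_twist, map_mul, RingEquiv.symm_apply_apply, smul_eq_mul,
      frobenius_def]

theorem symmSL_apply (m : Twist p A) : symmSL p A m = (toTwist p A).symm m := rfl

theorem smul_top_le_comap (n : ℕ) :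
    (I ^ n • ⊤ : Submodule A (Twist p A)) ≤
      Submodule.comap (symmSL p A) (I ^ n • ⊤ : Submodule A A) := by
  rw [Submodule.smul_le]
  intro r hr m _
  rw [Submodule.mem_comap, LinearMap.map_smulₛₗ]
  refine Submodule.smul_mem_smul ?_ Submodule.mem_top
  rw [frobenius_def]
  exact Ideal.pow_mem_of_mem _ hr p (Fact.out : p.Prime).pos

/-- The maps on the quotients. -/
noncomputable def phi (n : ℕ) :
    (Twist p A ⧸ (I ^ n • ⊤ : Submodule A (Twist p A))) →ₛₗ[frobenius A p]
      (A ⧸ (I ^ n • ⊤ : Submodule A A)) :=
  Submodule.mapQ _ _ (symmSL p A) (smul_top_le_comap p A I n)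

theorem phi_mk (n : ℕ) (x : Twist p A) :
    phi p A I n (Submodule.Quotient.mk x) = Submodule.Quotient.mk ((toTwist p A).symm x) := rfl

/-- The comparison map between the completions. -/
noncomputable def Phi (y : AdicCompletion I (Twist p A)) : AdicCompletion I A :=
  ⟨fun n => phi p A I n (y.val n), by
    intro m n hmn
    obtain ⟨x, hx⟩ := Submodule.Quotient.mk_surjective _ (y.val n)
    have hm : y.val m = Submodule.Quotient.mk x := by
      rw [← y.property hmn, ← hx]
      rfl
    change AdicCompletion.transitionMap I A hmn (phi p A I n (y.val n)) = phi p A I m (y.val m)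
    rw [hm, ← hx, phi_mk, phi_mk]
    rfl⟩

theorem Phi_val (y : AdicCompletion I (Twist p A)) (n : ℕ) :
    (Phi p A I y).val n = phi p A I n (y.val n) := rfl

theorem Phi_add (y y' : AdicCompletion I (Twist p A)) :
    Phi p A I (y + y') = Phi p A I y + Phi p A I y' := by
  apply AdicCompletion.ext
  intro n
  rw [AdicCompletion.val_add_apply, Phi_val, Phi_val, Phi_val, AdicCompletion.val_add_apply, map_add]

theorem Phi_zero : Phi p A I 0 = 0 := by
  apply AdicCompletion.ext
  intro n
  rw [Phi_val, AdicCompletion.val_zero_apply, AdicCompletion.val_zero_apply, map_zero]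

theorem Phi_ofTensorProduct_tmul [CharP (AdicCompletion I A) p] (b : AdicCompletion I A)
    (m : Twist p A) :
    Phi p A I (AdicCompletion.ofTensorProduct I (Twist p A) (b ⊗ₜ m)) =
      relFrob p A (AdicCompletion I A) (b ⊗ₜ m) := by
  apply AdicCompletion.ext
  intro n
  rw [AdicCompletion.ofTensorProduct_tmul, relFrob_tmul, Phi_val, AdicCompletion.smul_eval,
    AdicCompletion.val_mul]
  obtain ⟨bn, hbn⟩ := Submodule.Quotient.mk_surjective _ (b.val n)
  have h1 : (b ^ p).val n = (b.val n) ^ p := rfl
  have h2 : (algebraMap A (AdicCompletion I A) ((toTwist p A).symm m)).val n =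
      Submodule.Quotient.mk ((toTwist p A).symm m) := rfl
  have h3 : (AdicCompletion.of I (Twist p A) m).val n = Submodule.Quotient.mk m := rfl
  rw [h1, h2, h3, ← hbn]
  have h4 : (Submodule.Quotient.mk bn : A ⧸ (I ^ n • ⊤ : Submodule A A)) •
      (Submodule.Quotient.mk m : Twist p A ⧸ (I ^ n • ⊤ : Submodule A (Twist p A))) =
      Submodule.Quotient.mk (bn • m) := rfl
  have h5 : (toTwist p A).symm (bn • m) = bn ^ p * (toTwist p A).symm m := by
    rw [Algebra.smul_def, algebraMap_twist, map_mul, RingEquiv.symm_apply_apply]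
  rw [h4, phi_mk, h5]
  change Ideal.Quotient.mk (I ^ n • ⊤ : Ideal A) _ = Ideal.Quotient.mk (I ^ n • ⊤ : Ideal A) _ ^ p *
    Ideal.Quotient.mk (I ^ n • ⊤ : Ideal A) _
  rw [← map_pow, ← map_mul]

theorem Phi_ofTensorProduct [CharP (AdicCompletion I A) p]
    (w : AdicCompletion I A ⊗[A] Twist p A) :
    Phi p A I (AdicCompletion.ofTensorProduct I (Twist p A) w) =
      relFrob p A (AdicCompletion I A) w := by
  induction w using TensorProduct.induction_on with
  | zero => rw [map_zero, map_zero, Phi_zero]
  | tmul b m => exact Phi_ofTensorProduct_tmul p A I b m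
  | add x y hx hy => rw [map_add, map_add, Phi_add, hx, hy]

theorem exists_cofinal [IsNoetherianRing A] : ∃ k : ℕ, ∀ n : ℕ, ∀ a ∈ I ^ (k * n),
    toTwist p A a ∈ (I ^ n • ⊤ : Submodule A (Twist p A)) := by
  have hrad : I ≤ (I.map (frobenius A p)).radical := fun a ha =>
    ⟨p, by rw [← frobenius_def]; exact Ideal.mem_map_of_mem _ ha⟩
  obtain ⟨k, hk⟩ := Ideal.exists_pow_le_of_le_radical_of_fg hrad (IsNoetherian.noetherian I)
  refine ⟨k, fun n a ha => ?_⟩
  have h1 : a ∈ (I ^ n).map (frobenius A p) := by
    rw [Ideal.map_pow]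
    rw [pow_mul] at ha
    exact Ideal.pow_right_mono hk n ha
  rw [Ideal.smul_top_eq_map]
  have h2 : algebraMap A (Twist p A) = (toTwist p A : A →+* Twist p A).comp (frobenius A p) := rfl
  rw [h2, ← Ideal.map_map]
  exact Ideal.mem_map_of_mem _ h1

theorem Phi_injective [IsNoetherianRing A] : Function.Injective (Phi p A I) := by
  obtain ⟨k, hk⟩ := exists_cofinal p A I
  intro y y' h
  apply AdicCompletion.ext
  intro n
  have hN : n ≤ k * n + n := Nat.le_add_left _ _
  obtain ⟨x, hx⟩ := Submodule.Quotient.mk_surjective _ (y.val (k * n + n))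
  obtain ⟨x', hx'⟩ := Submodule.Quotient.mk_surjective _ (y'.val (k * n + n))
  have h1 := congrArg (fun z => z.val (k * n + n)) h
  simp only [Phi_val] at h1
  rw [← hx, ← hx', phi_mk, phi_mk, Submodule.Quotient.eq] at h1
  have h2 : (toTwist p A).symm x - (toTwist p A).symm x' ∈ I ^ (k * n) := by
    have : (I ^ (k * n + n) • ⊤ : Submodule A A) ≤ I ^ (k * n) := by
      rw [smul_eq_mul, Ideal.mul_top]
      exact Ideal.pow_le_pow_right (Nat.le_add_right _ _)
    exact this h1
  have h3 := hk n _ h2
  rw [map_sub, RingEquiv.apply_symm_apply, RingEquiv.apply_symm_apply] at h3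
  rw [← y.property hN, ← y'.property hN, ← hx, ← hx']
  change Submodule.Quotient.mk x = Submodule.Quotient.mk x'
  rw [Submodule.Quotient.eq]
  exact h3

theorem Phi_surjective [IsNoetherianRing A] : Function.Surjective (Phi p A I) := by
  obtain ⟨k, hk⟩ := exists_cofinal p A I
  intro z
  obtain ⟨c, rfl⟩ := AdicCompletion.mk_surjective I A z
  have hc : ∀ {m n : ℕ}, m ≤ n → c m ≡ c n [SMOD (I ^ m • ⊤ : Submodule A A)] := c.property
  refine ⟨⟨fun n => Submodule.Quotient.mk (toTwist p A (c (k * n + n))), ?_⟩, ?_⟩
  · intro m n hmn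
    change Submodule.Quotient.mk (toTwist p A (c (k * n + n))) =
      Submodule.Quotient.mk (toTwist p A (c (k * m + m)))
    rw [Submodule.Quotient.eq, ← map_sub]
    apply hk m
    have hle : k * m + m ≤ k * n + n := by nlinarith
    have h1 : c (k * m + m) ≡ c (k * n + n) [SMOD (I ^ (k * m + m) • ⊤ : Submodule A A)] := hc hle
    rw [SModEq.sub_mem] at h1
    have : (I ^ (k * m + m) • ⊤ : Submodule A A) ≤ I ^ (k * m) := by
      rw [smul_eq_mul, Ideal.mul_top]
      exact Ideal.pow_le_pow_right (Nat.le_add_right _ _)
    have h2 := this h1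
    rw [← neg_sub]
    exact (I ^ (k * m)).neg_mem h2
  · apply AdicCompletion.ext
    intro n
    change phi p A I n (Submodule.Quotient.mk (toTwist p A (c (k * n + n)))) =
      Submodule.Quotient.mk (c n)
    rw [phi_mk, RingEquiv.symm_apply_apply]
    exact (hc (Nat.le_add_left n (k * n))).symm

end

/-- Let p be a prime, A a regular local ring of characteristic p whose absolute Frobenius a ↦ a^p is a
finite ring homomorphism, I an ideal of A and Â the I-adic completion of A. Then Spec Â → Spec A is
relatively perfect: the relative Frobenius Â ⊗_{A,Frob} A → Â, b ⊗ a ↦ b^p a, is bijective. (Â is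
also flat over A since A is Noetherian, so the morphism is flat and relatively perfect. The instance
hypothesis that Â has characteristic p holds as soon as I ≠ A.) -/
theorem result (p : ℕ) [Fact p.Prime]
    (A : Type u) [CommRing A] [IsRegularLocalRing A] [CharP A p] (hF : (frobenius A p).Finite)
    (I : Ideal A) [CharP (AdicCompletion I A) p] :
    Function.Bijective (FrobAlg.relFrob p A (AdicCompletion I A)) := by
  haveI : Module.Finite A (Twist p A) := hF
  have h1 := AdicCompletion.ofTensorProduct_bijective_of_finite_of_isNoetherian I (Twist p A)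
  have h2 : Function.Bijective (Phi p A I) := ⟨Phi_injective p A I, Phi_surjective p A I⟩
  have h3 : (FrobAlg.relFrob p A (AdicCompletion I A) : _ → _) =
      (Phi p A I) ∘ (AdicCompletion.ofTensorProduct I (Twist p A)) := by
    funext w
    exact (Phi_ofTensorProduct p A I w).symm
  rw [h3]
  exact h2.comp h1

end Groth.Agent.S17428
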