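import Groth.Statements.S17444
-- import your own Groth.Agent.* helpers here

set_option autoImplicit false
universe u v
open SSRed

namespace Groth.Agent.S17444

/-- Let K be a field of characteristic zero, V a K-vector space and g a K-linear endomorphism of V such
that g - 1 is nilpotent (a unipotent automorphism). Then for every integer n > 0 the endomorphisms
gⁿ - 1 and g - 1 have the same kernel: a vector fixed by gⁿ is fixed by g. (The published statement
assumes V finite-dimensional; this row allows any V.) -/
theorem result (K : Type u) (V : Type v) [Field K] [CharZero K]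
    [AddCommGroup V] [Module K V] (g : Module.End K V) (hg : IsNilpotent (g - 1)) (n : ℕ) (hn : 0 < n) :
    LinearMap.ker (g ^ n - 1) = LinearMap.ker (g - 1) := by
  classical
  set S : Module.End K V := ∑ i ∈ Finset.range n, g ^ i with hS
  have hc : ∀ i : ℕ, Commute (g ^ i) (g - 1) := fun i =>
    ((Commute.refl g).pow_left i).sub_right (Commute.one_right _)
  -- S = n + Q * (g - 1)
  set Q : Module.End K V := ∑ i ∈ Finset.range n, ∑ j ∈ Finset.range i, g ^ j with hQ
  have hSQ : S = (n : Module.End K V) + Q * (g - 1) := by
    rw [hS, hQ, Finset.sum_mul]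
    simp_rw [geom_sum_mul]
    rw [Finset.sum_sub_distrib]
    simp
  have hQc : Commute Q (g - 1) := by
    rw [hQ]
    exact Commute.sum_left _ _ _ (fun i _ => Commute.sum_left _ _ _ (fun j _ => hc j))
  have hnil : IsNilpotent (Q * (g - 1)) := hQc.isNilpotent_mul_left hg
  have hn0 : (n : K) ≠ 0 := by exact_mod_cast hn.ne'
  have hunit : IsUnit (n : Module.End K V) := by
    have : (n : Module.End K V) = algebraMap K (Module.End K V) (n : K) := by simp
    rw [this]
    exact (IsUnit.mk0 (n : K) hn0).map _
  have hSunit : IsUnit S := by
    rw [hSQ]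
    exact hnil.isUnit_add_left_of_commute hunit (Nat.cast_commute n _).symm
  ext v
  simp only [LinearMap.mem_ker]
  rw [← geom_sum_mul g n, Module.End.mul_apply]
  constructor
  · intro h
    obtain ⟨u, hu⟩ := hSunit
    have h1 : ((↑u⁻¹ : Module.End K V) * ↑u) ((g - 1) v) = 0 := by
      rw [Module.End.mul_apply, hu, h, map_zero]
    simpa using h1
  · intro h
    rw [h, map_zero]

end Groth.Agent.S17444
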