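import Groth.Statements.S17449
import Mathlib
import Groth.Statements.S17449
import Groth.Agent.Lib.Helper13.GeomConnAll

set_option autoImplicit false
universe u
open CategoryTheory CategoryTheory.Limits AlgebraicGeometry
open Stein

namespace Groth.Agent.S17449

section helpers
set_option linter.unusedSectionVars false
set_option linter.unusedVariables false
set_option linter.style.haveILetI false
open CategoryTheory CategoryTheory.Limits AlgebraicGeometry TopologicalSpace PrimeSpectrum IsLocalRing


open Groth.Agent.Lib.Helper13.GeomConnAll

theorem main {X S : Scheme.{u}}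
    (f : X ⟶ S) [IsProper f] [Flat f] [Surjective f] [IsNoetherian S]
    (h : ∀ (Z : Set ↑S) (η : ↑S), Z ∈ irreducibleComponents ↑S → IsGenericPoint η Z →
      GeometricallyConnected (f.fiberToSpecResidueField η) ∧ Smooth (f.fiberToSpecResidueField η)) :
    GeometricallyConnected f := by
  rw [GeometricallyConnected.iff_geometricallyConnected_fiber]
  intro s
  haveI : Nonempty ↥(f.fiber s) := by
    obtain ⟨x, hx⟩ := f.surjective s
    have : x ∈ Set.range (f.fiberι s) := by rw [f.range_fiberι]; exact hx
    obtain ⟨z, _⟩ := this
    exact ⟨z⟩
  refine geometricallyConnected_fibre f (fun η hη _ => ?_) s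
  have hirr : IsIrreducible (closure ({η} : Set S)) := isIrreducible_singleton.closure
  obtain ⟨t, ht, hsub, hmax⟩ := exists_preirreducible _ hirr.isPreirreducible
  have hηt : η ∈ t := hsub (subset_closure rfl)
  have htirr : IsIrreducible t := ⟨⟨η, hηt⟩, ht⟩
  have htcomp : t ∈ irreducibleComponents ↑S := by
    refine ⟨htirr, fun u hu htu => ?_⟩
    exact (hmax u hu.isPreirreducible htu).le
  have htcl : IsClosed t := isClosed_of_mem_irreducibleComponents t htcomp
  obtain ⟨ξ, hξ⟩ := QuasiSober.sober htirr htcl
  have hξη : ξ ⤳ η := hξ.specializes hηt
  have := hη ξ hξη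
  subst this
  exact (h t ξ htcomp hξ).1


end helpers

/-- Let S be a Noetherian scheme and f : X → S a proper, flat and surjective morphism. Suppose that for
every generic point η of an irreducible component of S the fibre of f at η is geometrically
connected and smooth over the residue field κ(η). Then every fibre of f is geometrically connected. -/
theorem result {X S : Scheme.{u}}
    (f : X ⟶ S) [IsProper f] [Flat f] [Surjective f] [IsNoetherian S]
    (h : ∀ (Z : Set ↑S) (η : ↑S), Z ∈ irreducibleComponents ↑S → IsGenericPoint η Z →
      GeometricallyConnected (f.fiberToSpecResidueField η) ∧ Smooth (f.fiberToSpecResidueField η)) :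
    GeometricallyConnected f := by
  exact main f h

end Groth.Agent.S17449
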