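import Groth.Statements.S1746
import Groth.Agent.Lib.Helper16.HomFin
import Groth.Agent.Lib.Helper16.DerTrunc3
import Groth.Agent.Lib.Helper16.DComp2
import Mathlib.Algebra.Homology.DerivedCategory.Linear
import Mathlib.Algebra.Homology.DerivedCategory.KInjective
import Mathlib.Algebra.Homology.DerivedCategory.SingleTriangle
-- import your own Groth.Agent.* helpers here

set_option autoImplicit false
universe u
open CategoryTheory
attribute [local instance] HasDerivedCategory.standard
open Dual

namespace Groth.Agent.S1746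

open CategoryTheory.Limits CategoryTheory.Pretriangulated DerivedCategory
open Groth.Agent.Lib.Helper16.HomFin Groth.Agent.Lib.Helper16.DerT Groth.Agent.Lib.Helper16.DComp

section general
universe w v u'
variable {C : Type u'} [Category.{v} C] [Abelian C] [HasDerivedCategory.{w} C]

theorem exists_Q_map_of_isKInjective (L I : CochainComplex C ℤ) [I.IsKInjective]
    (α : Q.obj L ⟶ Q.obj I) : ∃ f : L ⟶ I, α = Q.map f := by
  obtain ⟨ψ, hψ⟩ := (CochainComplex.IsKInjective.Qh_map_bijective
    ((HomotopyCategory.quotient C (.up ℤ)).obj L) I).surjective α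
  obtain ⟨f, rfl⟩ := (HomotopyCategory.quotient C (.up ℤ)).map_surjective ψ
  exact ⟨f, hψ.symm⟩

/-- no maps from `D^{≥ b+1}` to a bounded below complex of injectives vanishing above `b` -/
lemma hom_eq_zero_of_isGE (I : CochainComplex C ℤ) (a b : ℤ) (hI : ∀ i, Injective (I.X i))
    (hz : ∀ i, i < a ∨ b < i → IsZero (I.X i)) (X : DerivedCategory C) [X.IsGE (b + 1)]
    (φ : X ⟶ Q.obj I) : φ = 0 := by
  obtain ⟨X', hX', ⟨e⟩⟩ := exists_iso_Q_obj_of_isGE X (b + 1)
  have : I.IsStrictlyGE a := by
    rw [CochainComplex.isStrictlyGE_iff]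
    exact fun i hi => hz i (Or.inl hi)
  have : I.IsKInjective := CochainComplex.isKInjective_of_injective I a
  obtain ⟨f, hf⟩ := exists_Q_map_of_isKInjective X' I (e.inv ≫ φ)
  have hf0 : f = 0 := by
    ext i : 1
    by_cases hi : b < i
    · exact (hz i (Or.inr hi)).eq_of_tgt _ _
    · exact (X'.isZero_of_isStrictlyGE (b + 1) i (by omega)).eq_of_src _ _
  rw [hf0, Functor.map_zero] at hf
  rw [← cancel_epi e.inv, hf, comp_zero]

/-- shifted version -/
lemma hom_shift_eq_zero_of_isGE (I : CochainComplex C ℤ) (a b : ℤ) (hI : ∀ i, Injective (I.X i))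
    (hz : ∀ i, i < a ∨ b < i → IsZero (I.X i)) (m : ℤ) (X : DerivedCategory C) (d : ℤ) (hd : b - m < d)
    [X.IsGE d] (φ : X ⟶ (Q.obj I)⟦m⟧) : φ = 0 := by
  have : X.IsGE ((b - m) + 1) := (TStructure.t (C := C)).isGE_of_ge X ((b - m) + 1) d (by omega)
  have h := hom_eq_zero_of_isGE (I⟦m⟧) (a - m) (b - m) (fun i => hI (i + m))
    (fun i hi => hz (i + m) (by omega)) X (φ ≫ ((Q.commShiftIso m).app I).inv)
  rw [← cancel_mono ((Q.commShiftIso m).app I).inv, h, zero_comp]

end general


section modules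
variable {A : Type u} [CommRing A]

noncomputable abbrev sg (M : ModuleCat.{u} A) : Dual.D A :=
  (singleFunctor (ModuleCat.{u} A) 0).obj M

/-- `theta` as a linear map. -/
noncomputable def thetaLin (F : ModuleCat.{u} A) (L' : Dual.D A) :
    (sg F ⟶ L') →ₗ[A] (F ⟶ (homologyFunctor (ModuleCat.{u} A) 0).obj L') where
  toFun := theta F L'
  map_add' φ ψ := by
    simp only [theta, Functor.map_add, Preadditive.comp_add]
  map_smul' a φ := by
    have h1 : a • φ = (singleFunctor (ModuleCat.{u} A) 0).map (a • 𝟙 F) ≫ φ := by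
      rw [Functor.map_smul, CategoryTheory.Functor.map_id, Linear.smul_comp, Category.id_comp]
    rw [h1, theta_comp_left, Linear.smul_comp, Category.id_comp]
    rfl

lemma finite_sg_free (r : ℕ) (L' : Dual.D A)
    [Module.Finite A ((homologyFunctor (ModuleCat.{u} A) 0).obj L')] :
    Module.Finite A (sg (ModuleCat.of A (Fin r → A)) ⟶ L') := by
  let F := ModuleCat.of A (Fin r → A)
  have : Projective F := ModuleCat.projective_of_free (Pi.basisFun A (Fin r))
  have hb := theta_bijective F L'
  let e := LinearEquiv.ofBijective (thetaLin F L') hb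
  have : Module.Finite A (F ⟶ (homologyFunctor (ModuleCat.{u} A) 0).obj L') :=
    Module.Finite.equiv (ModuleCat.homLinearEquiv (S := A)).symm
  exact Module.Finite.equiv e.symm


variable [IsNoetherianRing A]

lemma finite_sg (L : Dual.D A) (hL : ∀ j : ℤ, Module.Finite A (Dual.HD A L j)) (a : ℤ) [L.IsGE a] :
    ∀ (k : ℕ) (m : ℤ), m < a + k → ∀ (M : ModuleCat.{u} A) [Module.Finite A M],
      Module.Finite A (sg M ⟶ L⟦m⟧) := by
  intro k
  induction k with
  | zero =>
    intro m hm M _
    have : (L⟦m⟧).IsGE (a - m) := (TStructure.t).isGE_shift L a m (a - m) (by omega)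
    have : Subsingleton (sg M ⟶ L⟦m⟧) := ⟨fun x y => by
      rw [(TStructure.t).zero x 0 (a - m) (by push_cast at hm; omega),
        (TStructure.t).zero y 0 (a - m) (by push_cast at hm; omega)]⟩
    infer_instance
  | succ k ih =>
    intro m hm M _
    obtain ⟨r, f, hf⟩ := Module.Finite.exists_fin' A M
    let M' := ModuleCat.of A (LinearMap.ker f)
    let S : ShortComplex (ModuleCat.{u} A) :=
      ShortComplex.mk (ModuleCat.ofHom (LinearMap.ker f).subtype) (ModuleCat.ofHom f) (by
        ext x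
        exact x.2)
    have hS : S.ShortExact := by
      have : Mono S.f := (ModuleCat.mono_iff_injective _).mpr (Submodule.subtype_injective _)
      have : Epi S.g := (ModuleCat.epi_iff_surjective _).mpr hf
      refine ShortComplex.ShortExact.mk
        ((ShortComplex.ShortExact.moduleCat_exact_iff_function_exact _).mpr ?_)
      intro x
      constructor
      · intro hx
        exact ⟨⟨x, hx⟩, rfl⟩
      · rintro ⟨y, rfl⟩
        exact y.2
    have hT := hS.singleTriangle_distinguished
    have e0 : (homologyFunctor (ModuleCat.{u} A) 0).obj (L⟦m⟧) ≅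
        (homologyFunctor (ModuleCat.{u} A) m).obj L :=
      ((homologyFunctor (ModuleCat.{u} A) 0).shiftIso m 0 m (by omega)).app L
    have := hL m
    have : Module.Finite A ((homologyFunctor (ModuleCat.{u} A) 0).obj (L⟦m⟧)) :=
      Module.Finite.equiv e0.symm.toLinearEquiv
    have h2 := finite_sg_free r (L⟦m⟧)
    have h1 := ih (m - 1) (by push_cast at hm; omega) M'
    have h1' : Module.Finite A ((sg M')⟦(1 : ℤ)⟧ ⟶ (L⟦m - 1⟧)⟦(1 : ℤ)⟧) :=
      finite_map (shiftFunctor (Dual.D A) (1 : ℤ))
    have e1 : (L⟦m - 1⟧)⟦(1 : ℤ)⟧ ≅ L⟦m⟧ :=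
      ((shiftFunctorAdd' (Dual.D A) (m - 1) 1 m (by omega)).app L).symm
    have h1'' : Module.Finite A ((sg M')⟦(1 : ℤ)⟧ ⟶ L⟦m⟧) :=
      finite_of_iso (Iso.refl _) e1
    exact @finite_obj₃ A _ _ _ _ _ _ _ _ _ _ hS.singleTriangle hT (L⟦m⟧) h2 h1''


lemma finite_single (L : Dual.D A) (hL : ∀ j : ℤ, Module.Finite A (Dual.HD A L j)) (a : ℤ) [L.IsGE a]
    (M : ModuleCat.{u} A) [Module.Finite A M] (j m : ℤ) :
    Module.Finite A ((singleFunctor (ModuleCat.{u} A) j).obj M ⟶ L⟦m⟧) := by
  have e : (sg M)⟦-j⟧ ≅ (singleFunctor (ModuleCat.{u} A) j).obj M :=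
    ((singleFunctors (ModuleCat.{u} A)).shiftIso (-j) j 0 (by omega)).app M
  have h0 := finite_sg L hL a (m + j - a + 1).toNat (m + j) (by
    have := Int.self_le_toNat (m + j - a + 1)
    omega) M
  have h1 : Module.Finite A ((sg M)⟦-j⟧ ⟶ (L⟦m + j⟧)⟦-j⟧) :=
    finite_map (shiftFunctor (Dual.D A) (-j))
  have e1 : (L⟦m + j⟧)⟦-j⟧ ≅ L⟦m⟧ :=
    ((shiftFunctorAdd' (Dual.D A) (m + j) (-j) m (by omega)).app L).symm
  exact finite_of_iso e e1

omit [IsNoetherianRing A] in
lemma finite_HD_truncGE (K : Dual.D A) (hK : ∀ j : ℤ, Module.Finite A (Dual.HD A K j)) (c j : ℤ) :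
    Module.Finite A (Dual.HD A (((TStructure.t (C := ModuleCat.{u} A)).truncGE c).obj K) j) := by
  by_cases h : c ≤ j
  · have := isIso_homologyMap_truncGEπ K c j h
    have := hK j
    have e : (homologyFunctor (ModuleCat.{u} A) j).obj K ≅ (homologyFunctor (ModuleCat.{u} A) j).obj
        (((TStructure.t (C := ModuleCat.{u} A)).truncGE c).obj K) :=
      asIso ((homologyFunctor (ModuleCat.{u} A) j).map
        (((TStructure.t (C := ModuleCat.{u} A)).truncGEπ c).app K))
    exact Module.Finite.equiv e.toLinearEquiv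
  · have : (((TStructure.t (C := ModuleCat.{u} A)).truncGE c).obj K).IsGE c := by
      show (TStructure.t (C := ModuleCat.{u} A)).IsGE _ c
      infer_instance
    have hz := isZero_of_isGE (((TStructure.t (C := ModuleCat.{u} A)).truncGE c).obj K) c j (by omega)
    have : Subsingleton (Dual.HD A (((TStructure.t (C := ModuleCat.{u} A)).truncGE c).obj K) j) :=
      ModuleCat.subsingleton_of_isZero hz
    infer_instance

omit [IsNoetherianRing A] in
lemma finite_HD_truncLT (K : Dual.D A) (hK : ∀ j : ℤ, Module.Finite A (Dual.HD A K j)) (c j : ℤ) :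
    Module.Finite A (Dual.HD A (((TStructure.t (C := ModuleCat.{u} A)).truncLT c).obj K) j) := by
  by_cases h : j < c
  · have := isIso_homologyMap_truncLTι K c j h
    have := hK j
    have e : (homologyFunctor (ModuleCat.{u} A) j).obj
        (((TStructure.t (C := ModuleCat.{u} A)).truncLT c).obj K) ≅
        (homologyFunctor (ModuleCat.{u} A) j).obj K :=
      asIso ((homologyFunctor (ModuleCat.{u} A) j).map
        (((TStructure.t (C := ModuleCat.{u} A)).truncLTι c).app K))
    exact Module.Finite.equiv e.symm.toLinearEquiv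
  · have : (((TStructure.t (C := ModuleCat.{u} A)).truncLT c).obj K).IsLE (c - 1) := by
      show (TStructure.t (C := ModuleCat.{u} A)).IsLE _ (c - 1)
      infer_instance
    have hz := isZero_of_isLE (((TStructure.t (C := ModuleCat.{u} A)).truncLT c).obj K) (c - 1) j (by omega)
    have : Subsingleton (Dual.HD A (((TStructure.t (C := ModuleCat.{u} A)).truncLT c).obj K) j) :=
      ModuleCat.subsingleton_of_isZero hz
    infer_instance

/-- bounded case -/
lemma finite_bounded (L : Dual.D A) (hL : ∀ j : ℤ, Module.Finite A (Dual.HD A L j)) (a : ℤ) [L.IsGE a]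
    (Y : Dual.D A) (hY : ∀ j : ℤ, Module.Finite A (Dual.HD A Y j)) (c d : ℤ) [Y.IsGE c] [Y.IsLE d] :
    ∀ m : ℤ, Module.Finite A (Y ⟶ L⟦m⟧) := by
  have : Y.IsLE (c + (d + 1 - c).toNat - 1) :=
    (TStructure.t (C := ModuleCat.{u} A)).isLE_of_le Y d _ (by
      have := Int.self_le_toNat (d + 1 - c)
      omega)
  refine bounded_induction (C := ModuleCat.{u} A) (fun X => ∀ m : ℤ, Module.Finite A (X ⟶ L⟦m⟧))
    ?_ ?_ ?_ (d + 1 - c).toNat c (c + (d + 1 - c).toNat - 1) (by omega) Y ?_
  · intro X X' e h m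
    have := h m
    exact finite_of_iso e (Iso.refl _)
  · intro X hX m
    exact finite_of_isZero_left hX
  · intro T hT h1 h3 m
    have := h1 m
    have := h3 m
    exact finite_obj₂ T hT _
  · intro j _ _ m
    have := hY j
    exact finite_single L hL a _ j m

end modules


/-- Let A be a Noetherian ring and K, L objects of D(A) all of whose cohomology modules are finite
A-modules, with L of finite injective dimension. Then for every integer i the A-module of maps K →
L[i] in D(A) (the i-th cohomology of RHom(K, L)) is a finite A-module. -/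
theorem result (A : Type u) [CommRing A] [IsNoetherianRing A] (K L : Dual.D A) (hK : ∀ i : ℤ, Module.Finite A (Dual.HD A K i)) (hL : ∀ i : ℤ, Module.Finite A (Dual.HD A L i)) (hLi : DRing.HasFiniteInjDim A L) (i : ℤ) : Module.Finite A (K ⟶ L⟦i⟧) := by
  obtain ⟨a, b, E, hE, hinj, ⟨e⟩⟩ := hLi
  let t := TStructure.t (C := ModuleCat.{u} A)
  have hEinj : ∀ j, Injective (E.X j) := fun j =>
    Module.injective_object_of_injective_module (inj := hinj j) A (E.X j)
  have hEGE : E.IsStrictlyGE a := by
    rw [CochainComplex.isStrictlyGE_iff]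
    exact fun j hj => hE j (Or.inl hj)
  have hLGE : L.IsGE a := by
    have : (Q.obj E).IsGE a := inferInstance
    exact (TStructure.t (C := ModuleCat.{u} A)).isGE_of_iso e a
  -- vanishing of maps from D^{≥ b - i + 1}
  have hvan : ∀ (X : Dual.D A) [X.IsGE (b - i + 1)] (φ : X ⟶ L⟦i⟧), φ = 0 := by
    intro X _ φ
    have h := hom_shift_eq_zero_of_isGE E a b hEinj hE i X (b - i + 1) (by omega)
      (φ ≫ (shiftFunctor (Dual.D A) i).map e.inv)
    have : IsIso ((shiftFunctor (Dual.D A) i).map e.inv) := inferInstance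
    rw [← cancel_mono ((shiftFunctor (Dual.D A) i).map e.inv), h, zero_comp]
  let c := a - i
  let d := b - i + 1
  let K₁ := (t.truncGE c).obj K
  let K₂ := (t.truncLT d).obj K₁
  have hK₁ : ∀ j, Module.Finite A (Dual.HD A K₁ j) := finite_HD_truncGE K hK c
  have hK₂ : ∀ j, Module.Finite A (Dual.HD A K₂ j) := finite_HD_truncLT K₁ hK₁ d
  have i1 : K₂.IsGE c := by
    show t.IsGE ((t.truncLT d).obj ((t.truncGE c).obj K)) c
    infer_instance
  have i2 : K₂.IsLE (d - 1) := by
    show t.IsLE ((t.truncLT d).obj ((t.truncGE c).obj K)) (d - 1)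
    infer_instance
  have h2 : Module.Finite A (K₂ ⟶ L⟦i⟧) := finite_bounded L hL a K₂ hK₂ c (d - 1) i
  -- K₁
  have h1 : Module.Finite A (K₁ ⟶ L⟦i⟧) := by
    have hT := t.triangleLTGE_distinguished d K₁
    have i3 : ((t.truncGE d).obj K₁).IsGE (b - i + 1) := by
      show t.IsGE ((t.truncGE d).obj K₁) d
      infer_instance
    have : Module.Finite A (((t.triangleLTGE d).obj K₁).obj₁ ⟶ L⟦i⟧) := h2
    exact finite_obj₂_of_obj₁ (A := A) ((t.triangleLTGE d).obj K₁) hT (L⟦i⟧)
      (fun φ => hvan ((t.truncGE d).obj K₁) φ)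
  -- K
  have hT := t.triangleLTGE_distinguished c K
  have i4 : ((t.truncLT c).obj K).IsLE (c - 1) := by
    show t.IsLE ((t.truncLT c).obj K) (c - 1)
    infer_instance
  have i5 : (L⟦i⟧).IsGE c := t.isGE_shift L a i c (by omega)
  have : Module.Finite A (((t.triangleLTGE c).obj K).obj₃ ⟶ L⟦i⟧) := h1
  exact finite_obj₂_of_obj₃ (A := A) ((t.triangleLTGE c).obj K) hT (L⟦i⟧)
    (fun φ => t.zero φ (c - 1) c (by omega))

end Groth.Agent.S1746
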