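import Groth.Statements.S17463
import Mathlib.Tactic
-- import your own Groth.Agent.* helpers here

set_option autoImplicit false
universe u v w
open SSRed

namespace Groth.Agent.S17463

/-- Let K be a field of characteristic zero, V a K-vector space, G a group with a K-linear action ρ : G
→ GL(V) such that every ρ(g) is unipotent (ρ(g) - 1 is nilpotent), and H a subgroup of G of finite
index. Then the H-invariants equal the G-invariants: a vector fixed by every element of H is fixed
by every element of G. (In the source G and H are the absolute Galois groups of K and of a finite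
extension K', acting unipotently on the rational ℓ-adic Tate module of an abelian variety.) -/
theorem result (K : Type u) (V : Type v) (G : Type w) [Field K] [CharZero K]
    [AddCommGroup V] [Module K V] [Group G] (ρ : G →* (V ≃ₗ[K] V))
    (hunip : ∀ g : G, IsNilpotent (((ρ g : V ≃ₗ[K] V) : Module.End K V) - 1))
    (H : Subgroup G) [H.FiniteIndex] (v : V) (hv : ∀ h ∈ H, ρ h v = v) (g : G) :
    ρ g v = v := by
  obtain ⟨m, hm0, -, hmH⟩ := H.exists_pow_mem_of_index_ne_zero Subgroup.FiniteIndex.index_ne_zero g
  set u : Module.End K V := ((ρ g : V ≃ₗ[K] V) : Module.End K V) with hu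
  have hN : IsNilpotent (u - 1) := hunip g
  have hpow : ∀ k : ℕ, ∀ w : V, (u ^ k) w = (ρ (g ^ k)) w := by
    intro k
    induction k with
    | zero => intro w; simp
    | succ k ih =>
      intro w
      rw [pow_succ, pow_succ, map_mul, Module.End.mul_apply, ih]
      rfl
  have hum : (u ^ m) v = v := by rw [hpow]; exact hv _ hmH
  set Q : Module.End K V := ∑ i ∈ Finset.range m, u ^ i with hQ
  have hQmul : Q * (u - 1) = u ^ m - 1 := geom_sum_mul u m
  have hcu : ∀ i j : ℕ, Commute (u ^ i - 1) (u ^ j - 1) := by
    intro i j
    exact (((Commute.refl u).pow_pow i j).sub_left (Commute.one_left _)).sub_right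
      (Commute.one_right _)
  have hnil_i : ∀ i : ℕ, IsNilpotent (u ^ i - 1) := by
    intro i
    rw [← geom_sum_mul u i]
    apply Commute.isNilpotent_mul_left _ hN
    apply Commute.sum_left
    intro j _
    exact ((Commute.refl u).pow_left j).sub_right (Commute.one_right _)
  have hQnil : IsNilpotent (Q - (m : Module.End K V)) := by
    have : Q - (m : Module.End K V) = ∑ i ∈ Finset.range m, (u ^ i - 1) := by
      rw [Finset.sum_sub_distrib]; simp [hQ]
    rw [this]
    exact Commute.isNilpotent_sum (fun i _ => hnil_i i) (fun i j _ _ => hcu i j)
  have hmunit : IsUnit (m : Module.End K V) := by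
    have : (m : Module.End K V) = algebraMap K (Module.End K V) (m : K) := by simp
    rw [this]
    exact (isUnit_iff_ne_zero.2 (Nat.cast_ne_zero.2 hm0.ne')).map _
  have hQunit : IsUnit Q := by
    have := hQnil.isUnit_add_left_of_commute hmunit (by
      apply Commute.sub_left
      · exact (Nat.cast_commute m Q).symm
      · exact Commute.refl _)
    simpa using this
  have h0 : Q ((u - 1) v) = 0 := by
    rw [← Module.End.mul_apply, hQmul]
    simp [hum]
  have hinj : Function.Injective Q := by
    obtain ⟨Qu, hQu⟩ := hQunit
    intro a b hab
    have := congrArg (fun x => (↑Qu⁻¹ : Module.End K V) x) hab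
    simp only [← hQu, ← Module.End.mul_apply, Units.inv_mul, Module.End.one_apply] at this
    exact this
  have h1 : (u - 1) v = 0 := hinj (by rw [h0, map_zero])
  have h2 : u v = v := by
    have := h1
    simp only [LinearMap.sub_apply, Module.End.one_apply, sub_eq_zero] at this
    exact this
  exact h2

end Groth.Agent.S17463
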