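import Groth.Statements.S17469
import Groth.Agent.Lib.Helper13.NormalSections

set_option autoImplicit false
universe u
open CategoryTheory AlgebraicGeometry
open Variety

namespace Groth.Agent.S17469

/-- Let X be a locally Noetherian integral scheme all of whose local rings are integrally closed domains
and U an open subset of X. A section of O_X over U that is integral over the ring of global sections
of X, the latter acting through restriction, is itself the restriction of a global section. (The
published lemma is stated for an irreducible normal variety and for the graded ring of sections over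
U of all non-negative powers of a line bundle, integral over the corresponding ring of sections over
X; for the trivial line bundle its homogeneous components are the present statement, which is made
here for any locally Noetherian normal integral scheme.) -/
theorem result
    (X : Scheme.{u}) [AlgebraicGeometry.IsIntegral X] [IsLocallyNoetherian X]
    (hX : Pi1.IsNormalScheme X) (U : X.Opens) (b : Γ(X, U))
    (hb : (X.presheaf.map (homOfLE le_top : U ⟶ ⊤).op).hom.IsIntegralElem b) :
    b ∈ Set.range (X.presheaf.map (homOfLE le_top : U ⟶ ⊤).op).hom := by
  by_cases hU : Nonempty U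
  · haveI := hU
    haveI : Nonempty (⊤ : X.Opens) := ⟨⟨hU.some.1, trivial⟩⟩
    have hcomp : ∀ s : Γ(X, ⊤), X.germToFunctionField U
        ((X.presheaf.map (homOfLE le_top : U ⟶ ⊤).op).hom s) = X.germToFunctionField ⊤ s :=
      fun s => X.presheaf.germ_res_apply (homOfLE le_top) (genericPoint X) _ s
    have hk : IsIntegral Γ(X, ⊤) (X.germToFunctionField U b) := by
      obtain ⟨p, hp, hpb⟩ := hb
      refine ⟨p, hp, ?_⟩
      have h1 : algebraMap Γ(X, ⊤) X.functionField =
          (X.germToFunctionField U).hom.comp (X.presheaf.map (homOfLE le_top : U ⟶ ⊤).op).hom := by
        ext s; exact (hcomp s).symm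
      rw [h1, ← Polynomial.hom_eval₂, hpb, map_zero]
    obtain ⟨s, hs⟩ := Groth.Agent.Lib.Helper13.NormalSections.exists_section_of_isIntegral X
      (fun x => (hX x).2) ⊤ _ hk
    refine ⟨s, X.germToFunctionField_injective U ?_⟩
    rw [hcomp, hs]
  · have hbot : U = ⊥ := by
      ext x
      simp only [SetLike.mem_coe, TopologicalSpace.Opens.coe_bot, Set.mem_empty_iff_false, iff_false]
      exact fun hx => hU ⟨⟨x, hx⟩⟩
    subst hbot
    exact ⟨0, Subsingleton.elim _ _⟩

end Groth.Agent.S17469
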