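import Groth.Statements.S17471
-- import your own Groth.Agent.* helpers here

set_option autoImplicit false
universe u v w x
open RootCh

namespace Groth.Agent.S17471


section aux

variable {ι : Type u} {R : Type v} {M : Type w} {N : Type x}
    [Field R] [LinearOrder R] [IsStrictOrderedRing R]
    [AddCommGroup M] [Module R M] [AddCommGroup N] [Module R N] [Fintype ι]
    (P : RootPairing ι R M N) [P.IsRootSystem] [P.IsCrystallographic] [P.IsReduced]
    (b : P.Base)

lemma root_ne_neg_of_isPos {a c : ι} (ha : b.IsPos a) (hc : b.IsPos c) :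
    P.root a ≠ - P.root c := by
  intro h
  rw [P.root_eq_neg_iff] at h
  have h2 := b.height_reflectionPerm_self c
  change b.height (P.reflectionPerm c c) = _ at h2
  rw [← h] at h2
  rw [RootPairing.Base.isPos_iff] at ha hc
  omega

lemma pairing_of_root_eq_sub {k i θ : ι} (hk : P.root k = P.root i - P.root θ) :
    P.pairing k θ = P.pairing i θ - 2 := by
  rw [← P.root_coroot_eq_pairing k θ, hk, map_sub, LinearMap.sub_apply,
    P.root_coroot_eq_pairing, P.root_coroot_eq_pairing, P.pairing_same]

lemma key (θ : ι) (hθ : b.IsPos θ)
    (hmax : ∀ i : ι, b.IsPos i → P.root θ + P.root i ∉ Set.range P.root)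
    (i : ι) (hi : b.IsPos i) (hiθ : i ≠ θ) :
    P.pairingIn ℤ i θ = 0 ∨ P.pairingIn ℤ i θ = 1 := by
  set n := P.pairingIn ℤ i θ with hn
  have hnR : ((n : ℤ) : R) = P.pairing i θ := by
    rw [hn, ← P.algebraMap_pairingIn ℤ]; simp
  -- n ≥ 0
  have h0 : 0 ≤ n := by
    by_contra hneg
    rw [not_le] at hneg
    have := P.root_add_root_mem_of_pairingIn_neg hneg (root_ne_neg_of_isPos P b hi hθ)
    rw [add_comm] at this
    exact hmax i hi this
  -- n ≤ 1
  have h1 : n ≤ 1 := by
    by_contra h2
    rw [not_le] at h2
    have hpos : 0 < P.pairingIn ℤ i θ := by omega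
    obtain ⟨k, hk⟩ := P.root_sub_root_mem_of_pairingIn_pos hpos hiθ
    rcases lt_or_gt_of_ne (b.height_ne_zero k) with hkneg | hkpos
    · -- δ = -k positive
      set δ := P.reflectionPerm k k with hδ
      have hδroot : P.root δ = P.root θ - P.root i := by
        rw [hδ, P.root_reflectionPerm, P.reflection_apply_self, hk]; abel
      have hδpos : b.IsPos δ := by
        have h2 := b.height_reflectionPerm_self k
        change b.height (P.reflectionPerm k k) = _ at h2
        rw [RootPairing.Base.isPos_iff, hδ, h2]; omega
      have hmem : P.root θ + P.root δ ∈ Set.range P.root := by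
        rcases eq_or_lt_of_le (show 2 ≤ n by omega) with h2' | h3
        · -- n = 2: use the reflection
          have hp2 : P.pairing i θ = 2 := by rw [← hnR, ← h2']; norm_num
          have : P.root (P.reflectionPerm θ i) = P.root i - (2 : R) • P.root θ := by
            rw [P.root_reflectionPerm, P.reflection_apply_root, hp2]
          rw [← P.neg_mem_range_root_iff]
          refine ⟨P.reflectionPerm θ i, ?_⟩
          rw [this, hδroot, two_smul]; abel
        · -- n ≥ 3
          have hk' : P.root δ = - P.root k := by
            rw [hδ, P.root_reflectionPerm, P.reflection_apply_self]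
          have hpδ : P.pairing δ θ = 2 - P.pairing i θ := by
            rw [← P.root_coroot_eq_pairing δ θ, hδroot, map_sub, LinearMap.sub_apply,
              P.root_coroot_eq_pairing, P.root_coroot_eq_pairing, P.pairing_same]
          have hneg : P.pairingIn ℤ δ θ < 0 := by
            have : ((P.pairingIn ℤ δ θ : ℤ) : R) = ((2 - n : ℤ) : R) := by
              have e1 : ((P.pairingIn ℤ δ θ : ℤ) : R) = P.pairing δ θ := by
                rw [← P.algebraMap_pairingIn ℤ]; simp
              rw [e1, hpδ, ← hnR]; push_cast; ring
            have := Int.cast_injective this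
            omega
          have := P.root_add_root_mem_of_pairingIn_neg hneg (root_ne_neg_of_isPos P b hδpos hθ)
          rwa [add_comm] at this
      exact hmax δ hδpos hmem
    · -- k positive: θ + k = i is a root
      have hkpos' : b.IsPos k := hkpos
      apply hmax k hkpos'
      exact ⟨i, by rw [hk]; abel⟩
  omega

end aux

/-- Let Φ be a finite, reduced, crystallographic, irreducible root system with a base, and θ a positive
root such that θ + β is a root for no positive root β (so θ is the highest root). Then Σ_{β>0} ⟨β,
θ^∨⟩² = 2 + Σ_{β>0} ⟨β, θ^∨⟩ = 2(1 + ⟨ρ, θ^∨⟩), ρ being half the sum of the positive roots; in the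
source the left side is the index of the adjoint representation obtained from its formal character,
and 1 + ⟨ρ, θ^∨⟩ is the dual Coxeter number. -/
theorem result
    {ι : Type u} {R : Type v} {M : Type w} {N : Type x}
    [Field R] [LinearOrder R] [IsStrictOrderedRing R]
    [AddCommGroup M] [Module R M] [AddCommGroup N] [Module R N] [Fintype ι]
    (P : RootPairing ι R M N) [P.IsRootSystem] [P.IsCrystallographic] [P.IsReduced]
    [P.IsIrreducible] (b : P.Base) (θ : ι) (hθ : b.IsPos θ)
    (hmax : ∀ i : ι, b.IsPos i → P.root θ + P.root i ∉ Set.range P.root) :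
    ∑ i ∈ Finset.univ.filter (fun i => 0 < b.height i), P.pairing i θ ^ 2 =
      2 + ∑ i ∈ Finset.univ.filter (fun i => 0 < b.height i), P.pairing i θ := by
  classical
  set S := Finset.univ.filter (fun i => 0 < b.height i) with hS
  have hθS : θ ∈ S := by
    rw [hS, Finset.mem_filter]
    exact ⟨Finset.mem_univ _, hθ⟩
  have hkey : ∀ i ∈ S.erase θ, P.pairing i θ ^ 2 = P.pairing i θ := by
    intro i hi
    rw [Finset.mem_erase] at hi
    have hipos : b.IsPos i := (Finset.mem_filter.mp hi.2).2
    have hnR : ((P.pairingIn ℤ i θ : ℤ) : R) = P.pairing i θ := by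
      rw [← P.algebraMap_pairingIn ℤ]; simp
    rcases key P b θ hθ hmax i hipos hi.1 with h | h
    · rw [← hnR, h]; simp
    · rw [← hnR, h]; simp
  rw [← Finset.add_sum_erase S _ hθS, ← Finset.add_sum_erase S _ hθS,
    Finset.sum_congr rfl hkey, P.pairing_same]
  ring

end Groth.Agent.S17471
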