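import Groth.Statements.S17472
import Mathlib
import Groth.Agent.Lib.Helper14.HopfTranslate
-- import your own Groth.Agent.* helpers here

set_option autoImplicit false
set_option linter.unusedSectionVars false
set_option linter.style.haveILetI false
set_option linter.unusedVariables false
universe u
open HopfAlg

namespace Groth.Agent.S17472

section core
variable {A : Type u} [CommRing A]

lemma comap_comap_symm (e : A ≃+* A) (I : Ideal A) :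
    Ideal.comap (e : A →+* A) (Ideal.comap (e.symm : A →+* A) I) = I := by
  ext a
  rw [Ideal.mem_comap, Ideal.mem_comap]
  simp

lemma comap_symm_comap (e : A ≃+* A) (I : Ideal A) :
    Ideal.comap (e.symm : A →+* A) (Ideal.comap (e : A →+* A) I) = I := by
  ext a
  rw [Ideal.mem_comap, Ideal.mem_comap]
  simp

variable [IsNoetherianRing A]

lemma comap_mem_ass (e : A ≃+* A) {𝔭 : Ideal A} (h : 𝔭 ∈ associatedPrimes A A) :
    Ideal.comap (e : A →+* A) 𝔭 ∈ associatedPrimes A A := by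
  rw [AssociatedPrimes.mem_iff, isAssociatedPrime_iff] at h ⊢
  obtain ⟨hp, x, rfl⟩ := h
  refine ⟨Ideal.comap_isPrime _ _, e.symm x, ?_⟩
  ext a
  simp only [Ideal.mem_comap, Submodule.mem_colon_singleton, Submodule.mem_bot, smul_eq_mul,
    RingHom.coe_coe]
  constructor
  · intro h
    have := congrArg e.symm h
    simpa using this
  · intro h
    have := congrArg e h
    simpa using this

/-- generic closed point of `V(𝔭)` -/
lemma exists_generic_maximal [IsJacobsonRing A] {𝔭 : Ideal A} (h𝔭 : 𝔭 ∈ associatedPrimes A A) :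
    ∃ 𝔫 : Ideal A, 𝔫.IsMaximal ∧ 𝔭 ≤ 𝔫 ∧ ∀ 𝔮 ∈ associatedPrimes A A, 𝔮 ≤ 𝔫 → 𝔮 ≤ 𝔭 := by
  classical
  have hp : 𝔭.IsPrime := h𝔭.isPrime
  have hfin := associatedPrimes.finite A A
  -- choose elements
  have hch : ∀ 𝔮 : Ideal A, ∃ a : A, (¬ 𝔮 ≤ 𝔭 → a ∈ 𝔮) ∧ a ∉ 𝔭 := by
    intro 𝔮
    by_cases h : 𝔮 ≤ 𝔭
    · exact ⟨1, fun h' => absurd h h', fun h1 => hp.ne_top ((Ideal.eq_top_iff_one _).2 h1)⟩
    · obtain ⟨a, ha, ha'⟩ := SetLike.not_le_iff_exists.1 h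
      exact ⟨a, fun _ => ha, ha'⟩
  choose c hc1 hc2 using hch
  let a : A := ∏ 𝔮 ∈ hfin.toFinset, c 𝔮
  have ha : a ∉ 𝔭 := by
    intro h
    obtain ⟨𝔮, _, h𝔮⟩ := (hp.prod_mem_iff).1 h
    exact hc2 𝔮 h𝔮
  have hjac : 𝔭.jacobson = 𝔭 := IsJacobsonRing.out inferInstance hp.isRadical
  rw [← hjac, Ideal.jacobson, Submodule.mem_sInf] at ha
  push Not at ha
  obtain ⟨𝔫, ⟨h𝔭𝔫, h𝔫max⟩, ha𝔫⟩ := ha
  refine ⟨𝔫, h𝔫max, h𝔭𝔫, fun 𝔮 h𝔮 h𝔮𝔫 => ?_⟩
  by_contra hne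
  apply ha𝔫
  have hdvd : c 𝔮 ∣ a := Finset.dvd_prod_of_mem _ (hfin.mem_toFinset.2 h𝔮)
  exact Ideal.mem_of_dvd _ hdvd (h𝔮𝔫 (hc1 𝔮 hne))

/-- a homogeneous connected Noetherian Jacobson ring has no embedded points, so Krull's
intersection theorem holds at every maximal ideal -/
theorem core [IsJacobsonRing A] (hconn : ∀ e : A, IsIdempotentElem e → e = 0 ∨ e = 1)
    (m : Ideal A) [hm : m.IsMaximal]
    (htrans : ∀ 𝔫 : Ideal A, 𝔫.IsMaximal → ∃ e : A ≃+* A, Ideal.comap (e : A →+* A) m = 𝔫) :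
    (⨅ n : ℕ, m ^ n) = ⊥ := by
  classical
  haveI : Nontrivial A := ⟨⟨0, 1, fun h => hm.ne_top ((Ideal.eq_top_iff_one _).2 (h ▸ zero_mem _))⟩⟩
  have hfin := associatedPrimes.finite A A
  have hne : (associatedPrimes A A).Nonempty := associatedPrimes.nonempty A A
  -- transfer between maximal ideals
  have transfer_sub : ∀ (e : A ≃+* A) (𝔫₁ 𝔫₂ : Ideal A), Ideal.comap (e : A →+* A) 𝔫₁ = 𝔫₂ →
      (∀ 𝔭 ∈ associatedPrimes A A, ∀ 𝔮 ∈ associatedPrimes A A, 𝔭 ≤ 𝔫₁ → 𝔮 ≤ 𝔫₁ → 𝔭 = 𝔮) →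
      (∀ 𝔭 ∈ associatedPrimes A A, ∀ 𝔮 ∈ associatedPrimes A A, 𝔭 ≤ 𝔫₂ → 𝔮 ≤ 𝔫₂ → 𝔭 = 𝔮) := by
    intro e 𝔫₁ 𝔫₂ he h 𝔭 h𝔭 𝔮 h𝔮 h𝔭n h𝔮n
    have h1 : Ideal.comap (e.symm : A →+* A) 𝔭 ≤ 𝔫₁ := by
      rw [← comap_symm_comap e 𝔫₁, he]; exact Ideal.comap_mono h𝔭n
    have h2 : Ideal.comap (e.symm : A →+* A) 𝔮 ≤ 𝔫₁ := by
      rw [← comap_symm_comap e 𝔫₁, he]; exact Ideal.comap_mono h𝔮n
    have h3 := h _ (comap_mem_ass e.symm h𝔭) _ (comap_mem_ass e.symm h𝔮) h1 h2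
    rw [← comap_comap_symm e 𝔭, ← comap_comap_symm e 𝔮, h3]
  have transfer_ex : ∀ (e : A ≃+* A) (𝔫₁ 𝔫₂ : Ideal A), Ideal.comap (e : A →+* A) 𝔫₁ = 𝔫₂ →
      (∃ 𝔭 ∈ associatedPrimes A A, 𝔭 ≤ 𝔫₁) → (∃ 𝔭 ∈ associatedPrimes A A, 𝔭 ≤ 𝔫₂) := by
    rintro e 𝔫₁ 𝔫₂ he ⟨𝔭, h𝔭, h𝔭n⟩
    exact ⟨_, comap_mem_ass e h𝔭, he ▸ Ideal.comap_mono h𝔭n⟩
  -- a minimal associated prime and its generic closed point
  obtain ⟨𝔭₀, h𝔭₀, h𝔭₀min⟩ := hfin.exists_minimal hne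
  obtain ⟨𝔫₀, h𝔫₀max, h𝔭₀𝔫₀, h𝔫₀⟩ := exists_generic_maximal h𝔭₀
  have hsub𝔫₀ : ∀ 𝔭 ∈ associatedPrimes A A, ∀ 𝔮 ∈ associatedPrimes A A, 𝔭 ≤ 𝔫₀ → 𝔮 ≤ 𝔫₀ → 𝔭 = 𝔮 := by
    intro 𝔭 h𝔭 𝔮 h𝔮 h1 h2
    have e1 : 𝔭 = 𝔭₀ := le_antisymm (h𝔫₀ 𝔭 h𝔭 h1) (h𝔭₀min h𝔭 (h𝔫₀ 𝔭 h𝔭 h1))
    have e2 : 𝔮 = 𝔭₀ := le_antisymm (h𝔫₀ 𝔮 h𝔮 h2) (h𝔭₀min h𝔮 (h𝔫₀ 𝔮 h𝔮 h2))
    rw [e1, e2]
  -- same at m
  obtain ⟨e₀, he₀⟩ := htrans 𝔫₀ h𝔫₀max
  have hsub_m := transfer_sub e₀.symm 𝔫₀ m (by rw [← he₀, comap_symm_comap]) hsub𝔫₀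
  have hex_m := transfer_ex e₀.symm 𝔫₀ m (by rw [← he₀, comap_symm_comap]) ⟨𝔭₀, h𝔭₀, h𝔭₀𝔫₀⟩
  -- at every maximal ideal
  have hsub : ∀ 𝔫 : Ideal A, 𝔫.IsMaximal → ∀ 𝔭 ∈ associatedPrimes A A,
      ∀ 𝔮 ∈ associatedPrimes A A, 𝔭 ≤ 𝔫 → 𝔮 ≤ 𝔫 → 𝔭 = 𝔮 := by
    intro 𝔫 h𝔫
    obtain ⟨e, he⟩ := htrans 𝔫 h𝔫
    exact transfer_sub e m 𝔫 he hsub_m
  -- all associated primes are equal
  have hall : ∀ 𝔭 ∈ associatedPrimes A A, 𝔭 = 𝔭₀ := by
    intro 𝔭₁ h𝔭₁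
    by_contra hne1
    have hp0 : 𝔭₀.IsPrime := h𝔭₀.isPrime
    have hp1 : 𝔭₁.IsPrime := h𝔭₁.isPrime
    -- the other primes
    let S : Finset (Ideal A) := hfin.toFinset.erase 𝔭₀
    let I₂ : Ideal A := S.inf id
    have hI₂𝔭₁ : I₂ ≤ 𝔭₁ :=
      Finset.inf_le (f := id) (Finset.mem_erase.2 ⟨hne1, hfin.mem_toFinset.2 h𝔭₁⟩)
    have hsup : 𝔭₀ ⊔ I₂ = ⊤ := by
      by_contra htop
      obtain ⟨𝔫, h𝔫max, hle⟩ := Ideal.exists_le_maximal _ htop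
      have h1 : 𝔭₀ ≤ 𝔫 := le_sup_left.trans hle
      have h2 : I₂ ≤ 𝔫 := le_sup_right.trans hle
      obtain ⟨𝔮, h𝔮S, h𝔮𝔫⟩ := (h𝔫max.isPrime.inf_le' (s := S) (f := id)).1 h2
      rw [Finset.mem_erase] at h𝔮S
      exact h𝔮S.1 (hsub 𝔫 h𝔫max 𝔮 (hfin.mem_toFinset.1 h𝔮S.2) 𝔭₀ h𝔭₀ h𝔮𝔫 h1)
    obtain ⟨a, ha, b, hb, hab⟩ := Submodule.mem_sup.1 (hsup ▸ (Submodule.mem_top : (1 : A) ∈ ⊤))
    -- a * b is nilpotent
    have hnil : a * b ∈ nilradical A := by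
      rw [nilradical, ← Ideal.sInf_minimalPrimes, Submodule.mem_sInf]
      intro 𝔮 h𝔮
      have h𝔮T : 𝔮 ∈ associatedPrimes A A := by
        apply Module.associatedPrimes.minimalPrimes_annihilator_subset_associatedPrimes A A
        rwa [Module.annihilator_eq_bot.2 inferInstance]
      by_cases h : 𝔮 = 𝔭₀
      · rw [h]; exact Ideal.mul_mem_right _ _ ha
      · have : I₂ ≤ 𝔮 := Finset.inf_le (f := id) (Finset.mem_erase.2 ⟨h, hfin.mem_toFinset.2 h𝔮T⟩)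
        exact Ideal.mul_mem_left _ _ (this hb)
    -- idempotent lifting
    let f := Ideal.Quotient.mk (nilradical A)
    have hker : ∀ x ∈ RingHom.ker f, IsNilpotent x := by
      intro x hx
      rw [Ideal.mk_ker] at hx
      exact (mem_nilradical).1 hx
    have hidem : IsIdempotentElem (f a) := by
      have h0 : f a * f b = 0 := by
        rw [← map_mul]; exact Ideal.Quotient.eq_zero_iff_mem.2 hnil
      have h1 : f a + f b = 1 := by rw [← map_add, hab, map_one]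
      have : f b = 1 - f a := by rw [← h1]; ring
      rw [this, mul_sub, mul_one, sub_eq_zero] at h0
      exact h0.symm
    obtain ⟨e', he', hfe'⟩ := exists_isIdempotentElem_eq_of_ker_isNilpotent f hker (f a) ⟨a, rfl⟩ hidem
    rcases hconn e' he' with h | h
    · -- a nilpotent
      rw [h, map_zero] at hfe'
      have ha_nil : a ∈ nilradical A := Ideal.Quotient.eq_zero_iff_mem.1 hfe'.symm
      have ha1 : a ∈ 𝔭₁ := nilradical_le_prime 𝔭₁ ha_nil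
      have : (1 : A) ∈ 𝔭₁ := hab ▸ add_mem ha1 (hI₂𝔭₁ hb)
      exact hp1.ne_top ((Ideal.eq_top_iff_one _).2 this)
    · rw [h, map_one] at hfe'
      have h1a : 1 - a ∈ nilradical A := by
        rw [← Ideal.Quotient.eq_zero_iff_mem, map_sub, map_one, ← hfe', sub_self]
      have : (1 : A) ∈ 𝔭₀ := by
        have := add_mem (nilradical_le_prime 𝔭₀ h1a) ha
        rwa [sub_add_cancel] at this
      exact hp0.ne_top ((Ideal.eq_top_iff_one _).2 this)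
  -- conclusion
  rw [eq_bot_iff]
  intro x hx
  rw [Submodule.mem_bot]
  by_contra hx0
  have hx' : x ∈ (⨅ i : ℕ, m ^ i • ⊤ : Submodule A A) := by
    rw [Submodule.mem_iInf] at hx ⊢
    intro i
    have := hx i
    rwa [smul_eq_mul, Ideal.mul_top]
  obtain ⟨⟨r, hr⟩, hrx⟩ := (m.mem_iInf_smul_pow_eq_bot_iff x).1 hx'
  obtain ⟨P, hP, hPle⟩ := exists_le_isAssociatedPrime_of_isNoetherianRing A x hx0
  have hP0 : P = 𝔭₀ := hall P hP
  obtain ⟨𝔮, h𝔮, h𝔮m⟩ := hex_m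
  have h𝔮0 : 𝔮 = 𝔭₀ := hall 𝔮 h𝔮
  have h1 : (1 - r) ∈ P := by
    apply hPle
    rw [Submodule.mem_colon_singleton, Submodule.mem_bot, smul_eq_mul, sub_mul, one_mul]
    change x - r • x = 0
    rw [hrx, sub_self]
  have h2 : (1 - r) ∈ m := h𝔮m (h𝔮0 ▸ hP0 ▸ h1)
  have h3 : (1 : A) ∈ m := by
    have := add_mem h2 hr
    rwa [sub_add_cancel] at this
  exact hm.ne_top ((Ideal.eq_top_iff_one _).2 h3)

end core

section hopf
open Groth.Agent.Lib.Helper14.HopfTranslate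
variable {k : Type u} [Field k] [IsAlgClosed k] {A : Type u} [CommRing A] [Algebra k A]
  [Algebra.FiniteType k A]

lemma exists_point (𝔫 : Ideal A) [h𝔫 : 𝔫.IsMaximal] : ∃ γ : A →ₐ[k] k, RingHom.ker γ = 𝔫 := by
  letI := Ideal.Quotient.field 𝔫
  haveI : Module.Finite k (A ⧸ 𝔫) := finite_of_finite_type_of_isJacobsonRing k (A ⧸ 𝔫)
  have hbij : Function.Bijective (algebraMap k (A ⧸ 𝔫)) :=
    IsAlgClosed.algebraMap_bijective_of_isIntegral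
  let E : k ≃ₐ[k] (A ⧸ 𝔫) := AlgEquiv.ofBijective (Algebra.ofId k (A ⧸ 𝔫)) hbij
  refine ⟨(E.symm : (A ⧸ 𝔫) →ₐ[k] k).comp (Ideal.Quotient.mkₐ k 𝔫), ?_⟩
  ext a
  rw [RingHom.mem_ker]
  change E.symm (Ideal.Quotient.mk 𝔫 a) = 0 ↔ _
  rw [map_eq_zero_iff _ E.symm.injective, Ideal.Quotient.eq_zero_iff_mem]

end hopf

/-- Let k be an algebraically closed field and A a commutative Hopf algebra over k, finitely generated
as a k-algebra, whose only idempotents are 0 and 1 (so that Spec A is a connected affine algebraic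
group over k, possibly non-reduced). Let m be the kernel of the counit, the ideal of the neutral
element. Then the intersection of the powers m^n, n ≥ 0, is the zero ideal; equivalently the
infinitesimal neighbourhoods Spec (A/m^n) of the neutral element are jointly schematically dense.
(The published statement assumes the group smooth, that is, a connected linear algebraic group; the
statement here allows any connected affine algebraic group, possibly non-reduced, a case the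
published argument also treats.) -/
theorem result (k : Type u) [Field k] [IsAlgClosed k]
    (A : Type u) [CommRing A] [HopfAlgebra k A] [Algebra.FiniteType k A]
    (hconn : ∀ e : A, IsIdempotentElem e → e = 0 ∨ e = 1) :
    (⨅ n : ℕ, RingHom.ker (Bialgebra.counitAlgHom k A) ^ n) = ⊥ := by
  haveI : IsNoetherianRing A := Algebra.FiniteType.isNoetherianRing k A
  haveI : IsJacobsonRing A := isJacobsonRing_of_finiteType (A := k) (B := A)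
  have hsurj : Function.Surjective (Bialgebra.counitAlgHom k A) := fun c =>
    ⟨algebraMap k A c, by simp⟩
  haveI hm : (RingHom.ker (Bialgebra.counitAlgHom k A)).IsMaximal :=
    RingHom.ker_isMaximal_of_surjective _ hsurj
  refine core hconn _ ?_
  intro 𝔫 h𝔫
  obtain ⟨γ, hγ⟩ := exists_point (k := k) 𝔫
  refine ⟨(Groth.Agent.Lib.Helper14.HopfTranslate.Lequiv (WithConv.toConv γ)).toRingEquiv, ?_⟩
  rw [← hγ]
  exact Groth.Agent.Lib.Helper14.HopfTranslate.comap_L_ker_counit (WithConv.toConv γ)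

end Groth.Agent.S17472
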