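import Groth.Statements.S17487
import Mathlib

set_option autoImplicit false
universe u
open CategoryTheory CategoryTheory.Limits AlgebraicGeometry
open Coherent

namespace Groth.Agent.S17487

section gen
universe w v' u'
variable {C : Type u'} [Category.{v'} C] [Abelian C] [HasExt.{w} C]
open Abelian

theorem ext_subsingleton_right {X Z : C} {ι : Type*} [Fintype ι] [DecidableEq ι] (Y : ι → C)
    (π : ∀ t, Z ⟶ Y t) (i : ∀ t, Y t ⟶ Z) (h : ∑ t, π t ≫ i t = 𝟙 Z) (p : ℕ)
    (hY : ∀ t, Subsingleton (Ext X (Y t) p)) : Subsingleton (Ext X Z p) := by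
  suffices H : ∀ x : Ext X Z p, x = 0 from ⟨fun x y => (H x).trans (H y).symm⟩
  intro x
  have key : ∀ s : Finset ι, x.comp (Ext.mk₀ (∑ t ∈ s, π t ≫ i t)) (add_zero p) = 0 := by
    intro s
    induction s using Finset.induction_on with
    | empty => simp
    | insert a s ha ih =>
      rw [Finset.sum_insert ha, Ext.mk₀_add, Ext.comp_add, ih, add_zero, ← Ext.mk₀_comp_mk₀,
        ← Ext.comp_assoc_of_third_deg_zero]
      have := hY a
      rw [Subsingleton.elim (x.comp (Ext.mk₀ (π a)) (add_zero p)) 0, Ext.zero_comp]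
  have := key Finset.univ
  rw [h, Ext.comp_mk₀_id] at this
  exact this

theorem ext_subsingleton_left {W Z : C} {ι : Type*} [Fintype ι] [DecidableEq ι] (Y : ι → C)
    (π : ∀ t, Z ⟶ Y t) (i : ∀ t, Y t ⟶ Z) (h : ∑ t, π t ≫ i t = 𝟙 Z) (p : ℕ)
    (hY : ∀ t, Subsingleton (Ext (Y t) W p)) : Subsingleton (Ext Z W p) := by
  suffices H : ∀ x : Ext Z W p, x = 0 from ⟨fun x y => (H x).trans (H y).symm⟩
  intro x
  have key : ∀ s : Finset ι, (Ext.mk₀ (∑ t ∈ s, π t ≫ i t)).comp x (zero_add p) = 0 := by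
    intro s
    induction s using Finset.induction_on with
    | empty => simp
    | insert a s ha ih =>
      rw [Finset.sum_insert ha, Ext.mk₀_add, Ext.add_comp, ih, add_zero, ← Ext.mk₀_comp_mk₀,
        Ext.comp_assoc_of_second_deg_zero]
      have := hY a
      rw [Subsingleton.elim ((Ext.mk₀ (i a)).comp x (zero_add p)) 0, Ext.comp_zero]
  have := key Finset.univ
  rw [h, Ext.mk₀_id_comp] at this
  exact this

omit [HasExt.{w} C] in
theorem exists_decomp {Z : C} {m : ℕ} (f : Fin m → C) (e : Z ≅ ∐ f) :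
    ∃ (π : ∀ t, Z ⟶ f t) (i : ∀ t, f t ⟶ Z), ∑ t, π t ≫ i t = 𝟙 Z := by
  have := Abelian.hasFiniteBiproducts (C := C)
  have : HasBiproduct f := HasBiproductsOfShape.has_biproduct f
  refine ⟨fun t => e.hom ≫ (biproduct.isoCoproduct f).inv ≫ biproduct.π f t,
    fun t => biproduct.ι f t ≫ (biproduct.isoCoproduct f).hom ≫ e.inv, ?_⟩
  have h1 : ∀ t, (e.hom ≫ (biproduct.isoCoproduct f).inv ≫ biproduct.π f t) ≫
      (biproduct.ι f t ≫ (biproduct.isoCoproduct f).hom ≫ e.inv) =
      (e.hom ≫ (biproduct.isoCoproduct f).inv) ≫ (biproduct.π f t ≫ biproduct.ι f t) ≫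
        ((biproduct.isoCoproduct f).hom ≫ e.inv) := by
    intro t; simp only [Category.assoc]
  simp_rw [h1]
  rw [← Preadditive.comp_sum, ← Preadditive.sum_comp, biproduct.total, Category.id_comp,
    Category.assoc, Iso.inv_hom_id_assoc, Iso.hom_inv_id]

end gen

/-- Let k be an algebraically closed field of characteristic zero and Y a smooth projective variety over
k (an integral scheme, smooth over k, with a closed immersion into some P^n_k over k). Let E_1, …,
E_n be coherent O_Y-modules forming a strong exceptional sequence, expressed through Ext groups in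
the category of O_Y-modules (the Ext instance is the stated hypothesis; it holds): End(E_i) is
one-dimensional over k, Ext^p(E_i, E_j) = 0 for all p when i > j, and Ext^p(E_i, E_j) = 0 for all i,
j when p ≥ 1 (indices here run over 0, …, n-1). Let d ≤ n and let 0 → K → M → F → 0 be a short exact
sequence of O_Y-modules in which K is isomorphic to a finite direct sum of copies of members E_i
with i < d and M to a finite direct sum of copies of members E_i with i ≥ d (a two-term resolution
of F by the sequence, split at d). Then Ext^p(E_i, F) = 0 for every i and every p ≥ 1, and Ext^p(F,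
E_i) = 0 for every i < d and every p ≠ 1. (The published criterion also asks that the sequence
generate the derived category, states the first vanishing only for i ≥ d, and adds conditions on
terms of the associated filtration and cofiltration of F, which are not restated here; the
vanishings above follow from the resolution alone.) -/
theorem result
    (k : Type u) [Field k] [IsAlgClosed k] [CharZero k]
    (Y : Scheme.{u}) [Y.Over (Spec (CommRingCat.of k))] [AlgebraicGeometry.IsIntegral Y]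
    [Smooth (Y ↘ Spec (CommRingCat.of k))]
    (hproj : ∃ (N : ℕ) (ι : Y ⟶ CohB1.ProjSpace N k), IsClosedImmersion ι ∧
      ι ≫ CohB1.ProjSpace.toSpec N k = (Y ↘ (Spec (CommRingCat.of k))))
    [HasExt.{u} Y.Modules]
    (n d : ℕ) (hdn : d ≤ n) (E : Fin n → Y.Modules) (hEcoh : ∀ i, Coh.IsCoh (E i))
    (hend : ∀ i, Module.finrank k (E i ⟶ E i) = 1)
    (hexc : ∀ i j : Fin n, j < i → ∀ p : ℕ, Subsingleton (Abelian.Ext (E i) (E j) p))
    (hstr : ∀ (i j : Fin n) (p : ℕ), 1 ≤ p → Subsingleton (Abelian.Ext (E i) (E j) p))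
    (S : ShortComplex Y.Modules) (hS : S.ShortExact)
    (m₁ : ℕ) (c₁ : Fin m₁ → Fin n) (hc₁ : ∀ t, (c₁ t : ℕ) < d) (e₁ : S.X₁ ≅ ∐ fun t => E (c₁ t))
    (m₂ : ℕ) (c₂ : Fin m₂ → Fin n) (hc₂ : ∀ t, d ≤ (c₂ t : ℕ)) (e₂ : S.X₂ ≅ ∐ fun t => E (c₂ t)) :
    (∀ (i : Fin n) (p : ℕ), 1 ≤ p → Subsingleton (Abelian.Ext (E i) S.X₃ p)) ∧
      (∀ i : Fin n, (i : ℕ) < d → ∀ p : ℕ, p ≠ 1 → Subsingleton (Abelian.Ext S.X₃ (E i) p)) := by
  obtain ⟨π₁, i₁, h₁⟩ := exists_decomp (fun t => E (c₁ t)) e₁
  obtain ⟨π₂, i₂, h₂⟩ := exists_decomp (fun t => E (c₂ t)) e₂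
  constructor
  · intro i p hp
    suffices H : ∀ x : Abelian.Ext (E i) S.X₃ p, x = 0 from ⟨fun x y => (H x).trans (H y).symm⟩
    intro x₃
    have s1 : Subsingleton (Abelian.Ext (E i) S.X₁ (p + 1)) :=
      ext_subsingleton_right _ π₁ i₁ h₁ (p + 1) (fun t => hstr i (c₁ t) (p + 1) (by omega))
    have s2 : Subsingleton (Abelian.Ext (E i) S.X₂ p) :=
      ext_subsingleton_right _ π₂ i₂ h₂ p (fun t => hstr i (c₂ t) p hp)
    obtain ⟨x₂, rfl⟩ := Abelian.Ext.covariant_sequence_exact₃ (E i) hS x₃ rfl (Subsingleton.elim _ _)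
    rw [Subsingleton.elim x₂ 0, Abelian.Ext.zero_comp]
  · intro i hi p hp
    suffices H : ∀ x : Abelian.Ext S.X₃ (E i) p, x = 0 from ⟨fun x y => (H x).trans (H y).symm⟩
    intro x₃
    have s2 : Subsingleton (Abelian.Ext S.X₂ (E i) p) :=
      ext_subsingleton_left _ π₂ i₂ h₂ p (fun t => hexc (c₂ t) i (by
        rw [Fin.lt_def]; have := hc₂ t; omega) p)
    rcases Nat.eq_zero_or_pos p with rfl | hp0
    · have := hS.epi_g
      apply Abelian.Ext.precomp_mk₀_injective_of_epi (E i) S.g
      exact Subsingleton.elim _ _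
    · obtain ⟨q, rfl⟩ : ∃ q, p = 1 + q := ⟨p - 1, by omega⟩
      have s1 : Subsingleton (Abelian.Ext S.X₁ (E i) q) :=
        ext_subsingleton_left _ π₁ i₁ h₁ q (fun t => hstr (c₁ t) i q (by omega))
      obtain ⟨x₁, rfl⟩ := Abelian.Ext.contravariant_sequence_exact₃ hS (E i) x₃ (Subsingleton.elim _ _) rfl
      rw [Subsingleton.elim x₁ 0, Abelian.Ext.comp_zero]

end Groth.Agent.S17487
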