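import Groth.Statements.S1750
-- import your own Groth.Agent.* helpers here
import Groth.Agent.Lib.Helper26.HullCriterion
import Groth.Agent.Lib.Helper26.FlatLocalLength
import Groth.Agent.Lib.Helper26.HomQuot
import Mathlib.RingTheory.LocalRing.Length

set_option autoImplicit false
universe u
open InjHull

namespace Groth.Agent.S1750

/-- Let R → S be a flat local homomorphism of Noetherian local rings with m_R S = m_S inducing a
bijection on residue fields. If κ_S → E is an injective hull of the residue field of S over S, then
E regarded as an R-module is an injective hull of the residue field of R (for a suitable R-linear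
map κ_R → E). -/
theorem result (R S : Type u) [CommRing R] [CommRing S] [IsLocalRing R] [IsLocalRing S] [IsNoetherianRing R] [IsNoetherianRing S] [Algebra R S] [IsLocalHom (algebraMap R S)] [Module.Flat R S] (hm : (IsLocalRing.maximalIdeal R).map (algebraMap R S) = IsLocalRing.maximalIdeal S) (hk : Function.Bijective (IsLocalRing.ResidueField.map (algebraMap R S))) (E : Type u) [AddCommGroup E] [Module S E] [Module R E] [IsScalarTower R S E] (f : IsLocalRing.ResidueField S →ₗ[S] E) (hf : InjHull.IsInjectiveHull f) : ∃ g : IsLocalRing.ResidueField R →ₗ[R] E, InjHull.IsInjectiveHull g := by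
  classical
  have hEtorsS := Groth.Agent.Lib.Helper26.Matlis.isPowerTorsion hf.toIsEssentialInj
  have ha : LocCoh.IsPowerTorsion (IsLocalRing.maximalIdeal R) E := by
    intro x
    obtain ⟨n, hn⟩ := hEtorsS x
    refine ⟨n, fun a ha => ?_⟩
    rw [← algebraMap_smul S a x]
    apply hn
    rw [← hm, ← Ideal.map_pow]
    exact Ideal.mem_map_of_mem _ ha
  -- residue degree one
  have hdeg : Module.length (IsLocalRing.ResidueField R) (IsLocalRing.ResidueField S) = 1 := by
    let e : IsLocalRing.ResidueField R ≃ₗ[IsLocalRing.ResidueField R] IsLocalRing.ResidueField S :=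
      LinearEquiv.ofBijective (Algebra.linearMap _ _) hk
    rw [← e.length_eq]
    exact Module.length_eq_one _ _
  have core : ∀ J : Ideal R, IsFiniteLength R (R ⧸ J) →
      Module.length R ((R ⧸ J) →ₗ[R] E) = Module.length R (R ⧸ J) := by
    intro J hJ
    set TS : Submodule S E := Submodule.torsionBySet S E ((J.map (algebraMap R S) : Ideal S) : Set S)
      with hTS
    have hTeq : Submodule.torsionBySet R E (J : Set R) = TS.restrictScalars R := by
      ext x
      rw [Submodule.restrictScalars_mem, hTS, Groth.Agent.Lib.Helper26.HomQuot.mem_tors,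
        Groth.Agent.Lib.Helper26.HomQuot.mem_tors]
      constructor
      · intro h b hb
        refine Submodule.span_induction (p := fun b _ => b • x = 0) ?_ ?_ ?_ ?_ hb
        · rintro _ ⟨a, ha, rfl⟩
          rw [algebraMap_smul]; exact h a ha
        · exact zero_smul _ _
        · intro c c' _ _ hc hc'
          rw [add_smul, hc, hc', add_zero]
        · intro c' c _ hc
          rw [smul_eq_mul, mul_smul, hc, smul_zero]
      · intro h a ha
        rw [← algebraMap_smul S a x]
        exact h _ (Ideal.mem_map_of_mem _ ha)
    have e1 := (Groth.Agent.Lib.Helper26.HomQuot.homQuotEquiv J E).length_eq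
    have e2 := (Groth.Agent.Lib.Helper26.HomQuot.homQuotEquiv (J.map (algebraMap R S)) E).length_eq
    have e3 := (LinearEquiv.ofEq _ _ hTeq).length_eq
    have e4 := ((Submodule.restrictScalarsEquiv R S E TS).restrictScalars R).length_eq
    have e5 := IsLocalRing.length_restrictScalars R S TS
    have hlS : Module.length S (S ⧸ J.map (algebraMap R S)) = Module.length R (R ⧸ J) := by
      rw [(Groth.Agent.Lib.Helper26.FlatLocalLength.quotEquiv (B := S) J).length_eq]
      exact Groth.Agent.Lib.Helper26.FlatLocalLength.length_baseChange hm _ hJ
    have hflS : IsFiniteLength S (S ⧸ J.map (algebraMap R S)) := by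
      rw [← Module.length_ne_top_iff, hlS, Module.length_ne_top_iff]; exact hJ
    have e6 := Groth.Agent.Lib.Helper26.Matlis.length_linearMap hf _ hflS
    rw [e1, e3, e4, e5, hdeg, mul_one, ← e2, e6, hlS]
  refine Groth.Agent.Lib.Helper26.HullCriterion.exists_hull_of_lengths R E ha fun n => ?_
  exact (core _ (Groth.Agent.Lib.Helper26.Matlis.isFiniteLength_quotient_pow n)).symm

end Groth.Agent.S1750
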