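import Groth.Statements.S17500
import Mathlib.RingTheory.Flat.EquationalCriterion
import Mathlib.RingTheory.Flat.Tensor
import Mathlib.Data.Nat.Factorization.Basic

set_option autoImplicit false
universe u
open TorsMod

namespace Groth.Agent.S17500

/-- Let p be a prime number, n a natural number and H a module over ℤ/p^nℤ. Then H is flat over ℤ/p^nℤ
if and only if, for every i with 0 ≤ i ≤ n, the kernel of multiplication by p^i on H coincides with
the image of multiplication by p^(n-i) on H. (The published item is phrased for an fppf sheaf of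
ℤ/p^nℤ-modules on a scheme; this is the case of a single module, which is the case the argument
treats.) -/
theorem result (p n : ℕ) [Fact p.Prime]
    (H : Type u) [AddCommGroup H] [Module (ZMod (p ^ n)) H] :
    Module.Flat (ZMod (p ^ n)) H ↔
      ∀ i : ℕ, i ≤ n →
        LinearMap.ker ((p ^ i : ZMod (p ^ n)) • (LinearMap.id : H →ₗ[ZMod (p ^ n)] H)) =
          LinearMap.range ((p ^ (n - i) : ZMod (p ^ n)) • (LinearMap.id : H →ₗ[ZMod (p ^ n)] H)) := by
  classical
  have hp : p.Prime := Fact.out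
  haveI : NeZero (p ^ n) := ⟨pow_ne_zero n hp.ne_zero⟩
  have hpn : ((p : ZMod (p ^ n))) ^ n = 0 := by
    have := ZMod.natCast_self (p ^ n)
    rwa [Nat.cast_pow] at this
  -- F2
  have hF2 : ∀ i : ℕ, i ≤ n → ∀ r : ZMod (p ^ n), (p : ZMod (p ^ n)) ^ i * r = 0 →
      ∃ b : ZMod (p ^ n), r = (p : ZMod (p ^ n)) ^ (n - i) * b := by
    intro i hi r hr
    obtain ⟨m, rfl⟩ := ZMod.natCast_zmod_surjective r
    have h1 : ((p ^ i * m : ℕ) : ZMod (p ^ n)) = 0 := by
      push_cast
      exact hr
    rw [ZMod.natCast_eq_zero_iff] at h1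
    have h2 : p ^ n = p ^ i * p ^ (n - i) := by
      rw [← pow_add, Nat.add_sub_cancel' hi]
    rw [h2] at h1
    have h3 : p ^ (n - i) ∣ m := (Nat.mul_dvd_mul_iff_left (pow_pos hp.pos i)).1 h1
    obtain ⟨b, rfl⟩ := h3
    exact ⟨(b : ZMod (p ^ n)), by push_cast; ring⟩
  -- F1
  have hF1 : ∀ I : Ideal (ZMod (p ^ n)), ∃ i : ℕ, i ≤ n ∧
      I = Ideal.span {(p : ZMod (p ^ n)) ^ i} := by
    intro I
    have hex : ∃ i : ℕ, i ≤ n ∧ (p : ZMod (p ^ n)) ^ i ∈ I :=
      ⟨n, le_rfl, by rw [hpn]; exact I.zero_mem⟩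
    refine ⟨Nat.find hex, (Nat.find_spec hex).1, le_antisymm ?_ ?_⟩
    · intro r hr
      obtain ⟨m, rfl⟩ := ZMod.natCast_zmod_surjective r
      by_cases hm0 : ((m : ZMod (p ^ n))) = 0
      · rw [hm0]
        exact Ideal.zero_mem _
      have hmne : m ≠ 0 := by
        rintro rfl
        exact hm0 Nat.cast_zero
      obtain ⟨j, u, hu, rfl⟩ := Nat.exists_eq_pow_mul_and_not_dvd hmne p hp.ne_one
      have hcop : Nat.Coprime u (p ^ n) :=
        Nat.Coprime.pow_right n ((Nat.Prime.coprime_iff_not_dvd hp).2 hu).symm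
      let U := ZMod.unitOfCoprime u hcop
      have hU : (U : ZMod (p ^ n)) = (u : ZMod (p ^ n)) := ZMod.coe_unitOfCoprime u hcop
      have hjI : (p : ZMod (p ^ n)) ^ j ∈ I := by
        have h1 : (p : ZMod (p ^ n)) ^ j = ((p ^ j * u : ℕ) : ZMod (p ^ n)) * ((U⁻¹ : (ZMod (p ^ n))ˣ) : ZMod (p ^ n)) := by
          push_cast
          rw [mul_assoc, ← hU, Units.mul_inv, mul_one]
        rw [h1]
        exact I.mul_mem_right _ hr
      have hjn : j < n := by
        by_contra hge
        push Not at hge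
        apply hm0
        push_cast
        have : (p : ZMod (p ^ n)) ^ j = 0 := by
          rw [← Nat.sub_add_cancel hge, pow_add, hpn, mul_zero]
        rw [this, zero_mul]
      have hle : Nat.find hex ≤ j := Nat.find_min' hex ⟨hjn.le, hjI⟩
      rw [Ideal.mem_span_singleton]
      refine ⟨(p : ZMod (p ^ n)) ^ (j - Nat.find hex) * (u : ZMod (p ^ n)), ?_⟩
      push_cast
      rw [← mul_assoc, ← pow_add, Nat.add_sub_cancel' hle]
    · rw [Ideal.span_singleton_le_iff_mem]
      exact (Nat.find_spec hex).2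
  constructor
  · intro hflat i hi
    apply le_antisymm
    · intro h hh
      rw [LinearMap.mem_ker, LinearMap.smul_apply, LinearMap.id_apply] at hh
      have hrel : ∑ _j : Fin 1, (fun _ : Fin 1 => (p : ZMod (p ^ n)) ^ i) _j •
          (fun _ : Fin 1 => h) _j = 0 := by
        simpa using hh
      obtain ⟨k, a, y, hxy, hay⟩ := Module.Flat.isTrivialRelation_of_sum_smul_eq_zero hrel
      have hb : ∀ j : Fin k, ∃ b : ZMod (p ^ n), a 0 j = (p : ZMod (p ^ n)) ^ (n - i) * b := by
        intro j
        apply hF2 i hi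
        have := hay j
        simpa using this
      choose b hb using hb
      refine ⟨∑ j, b j • y j, ?_⟩
      have hx0 : h = ∑ j, a 0 j • y j := hxy 0
      rw [LinearMap.smul_apply, LinearMap.id_apply, Finset.smul_sum]
      conv_rhs => rw [hx0]
      refine Finset.sum_congr rfl fun j _ => ?_
      rw [hb j, mul_smul]
    · rintro _ ⟨h, rfl⟩
      rw [LinearMap.mem_ker]
      simp only [LinearMap.smul_apply, LinearMap.id_apply]
      rw [← mul_smul, ← pow_add, Nat.add_sub_cancel' hi, hpn, zero_smul]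
  · intro hker
    rw [Module.Flat.iff_rTensor_injective']
    intro I
    obtain ⟨i, hi, rfl⟩ := hF1 I
    set g : (Ideal.span {(p : ZMod (p ^ n)) ^ i}) :=
      ⟨(p : ZMod (p ^ n)) ^ i, Ideal.mem_span_singleton_self _⟩ with hg
    have hform : ∀ t : TensorProduct (ZMod (p ^ n)) (Ideal.span {(p : ZMod (p ^ n)) ^ i}) H,
        ∃ h : H, t = TensorProduct.tmul (ZMod (p ^ n)) g h := by
      intro t
      induction t using TensorProduct.induction_on with
      | zero => exact ⟨0, by simp⟩
      | tmul x h =>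
        obtain ⟨r, hr⟩ := Ideal.mem_span_singleton'.1 x.2
        refine ⟨r • h, ?_⟩
        have hx : x = r • g := Subtype.ext (by simp [hg, hr])
        rw [hx, TensorProduct.smul_tmul]
      | add t₁ t₂ h₁ h₂ =>
        obtain ⟨a₁, rfl⟩ := h₁
        obtain ⟨a₂, rfl⟩ := h₂
        exact ⟨a₁ + a₂, by rw [TensorProduct.tmul_add]⟩
    rw [injective_iff_map_eq_zero]
    intro t ht
    obtain ⟨h, rfl⟩ := hform t
    rw [LinearMap.rTensor_tmul] at ht
    have h2 := congrArg (TensorProduct.lid (ZMod (p ^ n)) H) ht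
    rw [TensorProduct.lid_tmul, map_zero] at h2
    have h3 : h ∈ LinearMap.ker ((p ^ i : ZMod (p ^ n)) • (LinearMap.id : H →ₗ[ZMod (p ^ n)] H)) := by
      rw [LinearMap.mem_ker, LinearMap.smul_apply, LinearMap.id_apply]
      exact h2
    rw [hker i hi] at h3
    obtain ⟨h', rfl⟩ := h3
    rw [LinearMap.smul_apply, LinearMap.id_apply, ← TensorProduct.smul_tmul]
    have hz : ((p : ZMod (p ^ n)) ^ (n - i)) • g = 0 := by
      apply Subtype.ext
      simp only [hg, Submodule.coe_smul, smul_eq_mul, Submodule.coe_zero]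
      rw [← pow_add, Nat.sub_add_cancel hi, hpn]
    rw [hz, TensorProduct.zero_tmul]

end Groth.Agent.S17500
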