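import Groth.Statements.S17537
-- import your own Groth.Agent.* helpers here

set_option autoImplicit false
universe u v
open CAlg

namespace Groth.Agent.S17537

theorem map_mem_smul_top {A : Type u} [CommRing A] (J : Ideal A) {M N : Type*} [AddCommGroup M] [Module A M]
    [AddCommGroup N] [Module A N] (f : M →ₗ[A] N) {x : M} (hx : x ∈ (J • ⊤ : Submodule A M)) :
    f x ∈ (J • ⊤ : Submodule A N) := by
  have h1 : f x ∈ (J • ⊤ : Submodule A M).map f := ⟨x, hx, rfl⟩
  rw [Submodule.map_smul''] at h1
  exact Submodule.smul_mono le_rfl le_top h1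

/-- For a commutative ring A, an ideal I and an A-module M, the I-adic completion M^ of M is itself
I-adically complete if and only if, for every n, every element of M^ is congruent modulo I^n M^ to
the image of an element of M (the maps M/I^n M → M^/I^n M^ are surjective). -/
theorem result {A : Type u} [CommRing A] (I : Ideal A)
    (M : Type v) [AddCommGroup M] [Module A M] :
    IsAdicComplete I (AdicCompletion I M) ↔
      ∀ (n : ℕ) (x : AdicCompletion I M), ∃ y : M,
        x - AdicCompletion.of I M y ∈ (I ^ n • ⊤ : Submodule A (AdicCompletion I M)) := by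
  constructor
  · intro hc n x
    obtain ⟨a, rfl⟩ := AdicCompletion.mk_surjective I M x
    have hcauchy : ∀ {m n : ℕ}, m ≤ n → AdicCompletion.of I M (a m) ≡ AdicCompletion.of I M (a n)
        [SMOD (I ^ m • ⊤ : Submodule A (AdicCompletion I M))] := by
      intro m n hmn
      rw [SModEq.sub_mem, ← map_sub]
      exact map_mem_smul_top _ _ (SModEq.sub_mem.1 (a.property hmn))
    obtain ⟨L, hL⟩ := hc.toIsPrecomplete.prec hcauchy
    have hLeq : L = AdicCompletion.mk I M a := by
      apply AdicCompletion.ext
      intro k
      have h1 := AdicCompletion.pow_smul_top_le_ker_eval I k (SModEq.sub_mem.1 (hL k))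
      rw [LinearMap.mem_ker, map_sub, sub_eq_zero] at h1
      simp only [AdicCompletion.eval_of, AdicCompletion.eval_apply] at h1
      rw [← h1]
      rfl
    refine ⟨a n, ?_⟩
    rw [← hLeq]
    exact SModEq.sub_mem.1 (hL n).symm
  · intro h
    have hK : ∀ n, LinearMap.ker (AdicCompletion.eval I M n) ≤
        (I ^ n • ⊤ : Submodule A (AdicCompletion I M)) := by
      intro n v hv
      obtain ⟨y, hy⟩ := h n v
      have hy' : AdicCompletion.of I M y ∈ (I ^ n • ⊤ : Submodule A (AdicCompletion I M)) := by
        apply map_mem_smul_top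
        have h2 : AdicCompletion.eval I M n (v - AdicCompletion.of I M y) = 0 :=
          AdicCompletion.pow_smul_top_le_ker_eval I n hy
        rw [map_sub, LinearMap.mem_ker.1 hv, zero_sub, neg_eq_zero, AdicCompletion.eval_of] at h2
        exact (Submodule.Quotient.mk_eq_zero _).1 h2
      have := Submodule.add_mem _ hy hy'
      simpa using this
    refine { toIsHausdorff := inferInstance, toIsPrecomplete := ⟨?_⟩ }
    intro f hf
    have hcompat : ∀ {m n : ℕ} (hmn : m ≤ n),
        AdicCompletion.transitionMap I M hmn ((f n).val n) = (f m).val m := by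
      intro m n hmn
      rw [(f n).property hmn]
      have h1 := AdicCompletion.pow_smul_top_le_ker_eval I m (SModEq.sub_mem.1 (hf hmn))
      rw [LinearMap.mem_ker, map_sub, sub_eq_zero] at h1
      exact h1.symm
    let L : AdicCompletion I M := ⟨fun n => (f n).val n, fun hmn => hcompat hmn⟩
    refine ⟨L, ?_⟩
    intro n
    rw [SModEq.sub_mem]
    apply hK n
    rw [LinearMap.mem_ker, map_sub, sub_eq_zero]
    rfl

end Groth.Agent.S17537
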