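import Groth.Statements.S17538
-- import your own Groth.Agent.* helpers here

set_option autoImplicit false
universe u v
open CAlg

namespace Groth.Agent.S17538

/-- For a commutative ring A, an ideal I and an A-module M, the canonical map from the I-adic completion
M^ to the I-adic completion of M^ admits an A-linear retraction (it is a split injection). (That M^
is I-adically separated is standard.) -/
theorem result {A : Type u} [CommRing A] (I : Ideal A)
    (M : Type v) [AddCommGroup M] [Module A M] :
    ∃ ψ : AdicCompletion I (AdicCompletion I M) →ₗ[A] AdicCompletion I M,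
      ψ ∘ₗ AdicCompletion.of I (AdicCompletion I M) = LinearMap.id := by
  let e : ∀ n, ((AdicCompletion I M) ⧸ (I ^ n • ⊤ : Submodule A (AdicCompletion I M))) →ₗ[A]
      (M ⧸ (I ^ n • ⊤ : Submodule A M)) :=
    fun n => Submodule.liftQ _ (AdicCompletion.eval I M n)
      (AdicCompletion.pow_smul_top_le_ker_eval I n)
  have he : ∀ n (y : AdicCompletion I M), e n (Submodule.Quotient.mk y) = y.val n :=
    fun n y => rfl
  have hcompat : ∀ {m n : ℕ} (hle : m ≤ n),
      AdicCompletion.transitionMap I M hle ∘ₗ e n =
        e m ∘ₗ AdicCompletion.transitionMap I (AdicCompletion I M) hle := by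
    intro m n hle
    apply Submodule.linearMap_qext
    ext y
    simp only [LinearMap.comp_apply, Submodule.mkQ_apply, he]
    rw [AdicCompletion.transitionMap_comp_eval_apply]
    rfl
  refine ⟨AdicCompletion.lift I (fun n => e n ∘ₗ AdicCompletion.eval I (AdicCompletion I M) n) ?_, ?_⟩
  · intro m n hle
    rw [← LinearMap.comp_assoc, hcompat hle, LinearMap.comp_assoc,
      AdicCompletion.transitionMap_comp_eval]
  · ext y n
    simp only [LinearMap.comp_apply, AdicCompletion.eval_lift_apply, AdicCompletion.eval_of,
      LinearMap.id_apply]
    rfl

end Groth.Agent.S17538
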