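import Groth.Statements.S17548
import Groth.Agent.Lib.Helper9.Decaying3
import Mathlib.RingTheory.Noetherian.Defs

set_option autoImplicit false
universe u v w
open W4c5adicflatcompl
open CAlg

namespace Groth.Agent.S17548

/-- Uniqueness: a linear map out of `decaying I Z Â` into a Hausdorff module which kills all
`single z 1` is zero (for `I` finitely generated). -/
theorem eq_zero_of_single_eq_zero {A : Type u} [CommRing A] (I : Ideal A) (hI : I.FG)
    (Z : Type v) [DecidableEq Z] (M : Type w) [AddCommGroup M] [Module A M] [IsHausdorff I M]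
    (δ : decaying I Z (AdicCompletion I A) →ₗ[A] M)
    (hδ : ∀ z, δ (single I z (1 : AdicCompletion I A)) = 0) : δ = 0 := by
  classical
  ext g
  rw [LinearMap.zero_apply]
  apply IsHausdorff.haus (I := I) (M := M) ‹_›
  intro n
  rw [SModEq.zero]
  -- approximate g by a finite combination of singles
  set S := (g.2 n).toFinset with hS
  have hSout : ∀ z, z ∉ S → (g : Z → AdicCompletion I A) z ∈
      (I ^ n • ⊤ : Submodule A (AdicCompletion I A)) := by
    intro z hz
    by_contra hcon
    exact hz ((g.2 n).mem_toFinset.mpr hcon)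
  have hrep : ∀ b : AdicCompletion I A, ∃ a : A,
      b - a • (1 : AdicCompletion I A) ∈ (I ^ n • ⊤ : Submodule A (AdicCompletion I A)) := by
    intro b
    obtain ⟨a, ha⟩ := Submodule.Quotient.mk_surjective _ (AdicCompletion.eval I A n b)
    refine ⟨a, ?_⟩
    rw [AdicCompletion.pow_smul_top_eq_ker_eval hI, LinearMap.mem_ker, map_sub, map_smul,
      sub_eq_zero]
    rw [← ha]
    show (Submodule.Quotient.mk a : A ⧸ (I ^ n • ⊤ : Submodule A A)) =
      a • (Submodule.Quotient.mk (1 : A))
    rw [← Submodule.Quotient.mk_smul]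
    congr 1
    exact (mul_one a).symm
  choose a ha using hrep
  set g' : decaying I Z (AdicCompletion I A) :=
    g - ∑ z ∈ S, a ((g : Z → AdicCompletion I A) z) • single I z (1 : AdicCompletion I A) with hg'
  have hg'val : ∀ z, (g' : Z → AdicCompletion I A) z ∈
      (I ^ n • ⊤ : Submodule A (AdicCompletion I A)) := by
    intro z
    have hval : (g' : Z → AdicCompletion I A) z = (g : Z → AdicCompletion I A) z -
        ∑ z' ∈ S, a ((g : Z → AdicCompletion I A) z') •
          (Pi.single z' (1 : AdicCompletion I A) : Z → AdicCompletion I A) z := by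
      simp [hg', Finset.sum_apply]
    rw [hval]
    by_cases hz : z ∈ S
    · rw [Finset.sum_eq_single z]
      · rw [Pi.single_eq_same]
        exact ha _
      · intro z' _ hne
        rw [Pi.single_eq_of_ne (Ne.symm hne), smul_zero]
      · intro h
        exact absurd hz h
    · rw [Finset.sum_eq_zero, sub_zero]
      · exact hSout z hz
      · intro z' hz'
        have : z ≠ z' := fun h => hz (h ▸ hz')
        rw [Pi.single_eq_of_ne this, smul_zero]
  have hg'mem : g' ∈ (I ^ n • ⊤ : Submodule A (decaying I Z (AdicCompletion I A))) :=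
    Groth.Agent.Lib.Helper9.decaying_mem_smul_top_of_forall_mem hI n g' hg'val
  have hδg' : δ g' ∈ (I ^ n • ⊤ : Submodule A M) :=
    Submodule.smul_top_le_comap_smul_top (I ^ n) δ hg'mem
  have : δ g = δ g' := by
    rw [hg', map_sub, map_sum]
    simp [hδ]
  rw [this]
  exact hδg'


/-- For a Noetherian ring A with I-adic completion Â, a set Z, an I-adically complete A-module M and any
function f : Z → M, there is a unique A-linear map from the module of I-adically decaying functions
Z → Â to M taking, for every z, the function supported at z with value 1 to f z. -/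
theorem result {A : Type u} [CommRing A] [IsNoetherianRing A]
    (I : Ideal A) (Z : Type v) [DecidableEq Z] (M : Type w) [AddCommGroup M] [Module A M]
    [IsAdicComplete I M] (f : Z → M) :
    ∃! φ : decaying I Z (AdicCompletion I A) →ₗ[A] M,
      ∀ z, φ (single I z (1 : AdicCompletion I A)) = f z := by
  classical
  have hI : I.FG := IsNoetherian.noetherian I
  have htop : ∀ k : ℕ, (I ^ k • ⊤ : Submodule A A) = I ^ k := fun k => by
    rw [smul_eq_mul, Ideal.mul_top]
  have hker : ∀ n : ℕ, (I ^ n • ⊤ : Submodule A A) ≤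
      LinearMap.ker ((LinearMap.lsmul A M).compr₂
        (Submodule.mkQ (I ^ n • ⊤ : Submodule A M))) := by
    intro n a ha
    rw [LinearMap.mem_ker]
    ext x
    show (Submodule.Quotient.mk (a • x) : M ⧸ (I ^ n • ⊤ : Submodule A M)) = 0
    rw [Submodule.Quotient.mk_eq_zero]
    rw [htop] at ha
    exact Submodule.smul_mem_smul ha Submodule.mem_top
  let γ : ∀ n : ℕ, (A ⧸ (I ^ n • ⊤ : Submodule A A)) →ₗ[A] M →ₗ[A]
      M ⧸ (I ^ n • ⊤ : Submodule A M) := fun n =>
    Submodule.liftQ _ ((LinearMap.lsmul A M).compr₂ (Submodule.mkQ _)) (hker n)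
  have hγ : ∀ n (a : A) (x : M), γ n (Submodule.Quotient.mk a) x =
      Submodule.Quotient.mk (a • x) := fun n a x => rfl
  let β : ∀ n : ℕ, AdicCompletion I A →ₗ[A] M →ₗ[A] M ⧸ (I ^ n • ⊤ : Submodule A M) :=
    fun n => (γ n) ∘ₗ (AdicCompletion.eval I A n)
  have hβ : ∀ n (b : AdicCompletion I A) (x : M), β n b x = γ n (b.val n) x := fun n b x => rfl
  obtain ⟨φ, hφ⟩ := Groth.Agent.Lib.Helper9.exists_linearMap_of_pairing (I := I) (Z := Z) β
    (fun {m n} h b x => by
      rw [hβ, hβ]
      obtain ⟨a, ha⟩ := Submodule.Quotient.mk_surjective _ (b.val n)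
      have hm : b.val m = Submodule.Quotient.mk a := by
        rw [← b.prop h, ← ha]
        rfl
      rw [hm, ← ha, hγ, hγ]
      rfl)
    (fun n b hb => by
      rw [AdicCompletion.pow_smul_top_eq_ker_eval hI, LinearMap.mem_ker] at hb
      show (γ n) (AdicCompletion.eval I A n b) = 0
      rw [hb, map_zero]) f
  have hsingle : ∀ z, φ (single I z (1 : AdicCompletion I A)) = f z := by
    intro z
    rw [← sub_eq_zero]
    apply IsHausdorff.haus (I := I) (M := M) IsAdicComplete.toIsHausdorff
    intro n
    rw [SModEq.zero, ← Submodule.Quotient.mk_eq_zero, Submodule.Quotient.mk_sub, sub_eq_zero]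
    rw [hφ _ n {z} (fun z' hz' => by
      have : z' ≠ z := fun h => hz' (by simp [h])
      rw [coe_single, Pi.single_eq_of_ne this]
      exact Submodule.zero_mem _)]
    rw [Finset.sum_singleton, coe_single, Pi.single_eq_same, hβ]
    have : (1 : AdicCompletion I A).val n = Submodule.Quotient.mk (1 : A) := rfl
    rw [this, hγ, one_smul]
  refine ⟨φ, hsingle, fun φ' hφ' => ?_⟩
  have : φ' - φ = 0 := eq_zero_of_single_eq_zero I hI Z M (φ' - φ) (fun z => by
    rw [LinearMap.sub_apply, hφ' z, hsingle z, sub_self])
  exact sub_eq_zero.mp this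

end Groth.Agent.S17548
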