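import Groth.Statements.S17549
import Groth.Agent.S17548

set_option autoImplicit false
universe u
open W4c5adicflatcompl
open CAlg

namespace Groth.Agent.S17549

/-- Over a Noetherian ring A with I-adic completion Â, an A-module P is I-adically projective
(I-adically complete, and every A-linear map from P to the target of a surjection between I-adically
complete modules lifts along that surjection) exactly when P is a retract of some module of
I-adically decaying functions Z → Â: there are a set Z, an A-linear map i from P to the decaying
functions Z → Â and an A-linear map r back with r ∘ i the identity of P. Test modules, P and Z live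
in the universe of A. -/
theorem result {A : Type u} [CommRing A] [IsNoetherianRing A]
    (I : Ideal A) (P : Type u) [AddCommGroup P] [Module A P] :
    IsAdicProjective I P ↔
      ∃ (Z : Type u) (i : P →ₗ[A] decaying I Z (AdicCompletion I A))
        (r : decaying I Z (AdicCompletion I A) →ₗ[A] P), r ∘ₗ i = LinearMap.id := by
  classical
  have hI : I.FG := IsNoetherian.noetherian I
  have hcompl : ∀ Z : Type u, IsAdicComplete I (decaying I Z (AdicCompletion I A)) := fun Z => by
    haveI : IsAdicComplete I (AdicCompletion I A) := AdicCompletion.isAdicComplete hI
    exact Groth.Agent.Lib.Helper9.isAdicComplete_decaying hI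
  constructor
  · rintro ⟨hPc, hlift⟩
    obtain ⟨r, hr, -⟩ := Groth.Agent.S17548.result I P P (fun p => p)
    have hrsurj : Function.Surjective r := fun p => ⟨_, hr p⟩
    obtain ⟨χ, hχ⟩ := hlift (decaying I P (AdicCompletion I A)) P (hcompl P) hPc r hrsurj
      LinearMap.id
    exact ⟨P, χ, r, hχ⟩
  · rintro ⟨Z, i, r, hri⟩
    have hri' : ∀ x, r (i x) = x := fun x => LinearMap.congr_fun hri x
    haveI := hcompl Z
    refine ⟨?_, ?_⟩
    · refine { toIsHausdorff := ⟨fun x hx => ?_⟩, toIsPrecomplete := ⟨fun F hF => ?_⟩ }
      · have : i x = 0 := by
          apply IsHausdorff.haus (I := I) (M := decaying I Z (AdicCompletion I A))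
            IsAdicComplete.toIsHausdorff
          intro n
          have := hx n
          rw [SModEq.zero] at this ⊢
          exact Submodule.smul_top_le_comap_smul_top (I ^ n) i this
        rw [← hri' x, this, map_zero]
      · obtain ⟨L, hL⟩ := IsPrecomplete.prec
          (IsAdicComplete.toIsPrecomplete (I := I) (M := decaying I Z (AdicCompletion I A)))
          (f := fun n => i (F n)) (fun {m n} hmn => by
            have := hF hmn
            rw [SModEq.sub_mem] at this ⊢
            rw [← map_sub]
            exact Submodule.smul_top_le_comap_smul_top (I ^ m) i this)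
        refine ⟨r L, fun n => ?_⟩
        have := hL n
        rw [SModEq.sub_mem] at this ⊢
        have h2 := Submodule.smul_top_le_comap_smul_top (I ^ n) r this
        rw [Submodule.mem_comap, map_sub, hri'] at h2
        exact h2
    · intro M N _ _ _ _ hM hN φ hφ ψ
      choose m hm using fun z : Z => hφ (ψ (r (single I z (1 : AdicCompletion I A))))
      obtain ⟨χ', hχ', -⟩ := Groth.Agent.S17548.result I Z M m
      have heq : φ ∘ₗ χ' = ψ ∘ₗ r := by
        have : φ ∘ₗ χ' - ψ ∘ₗ r = 0 :=
          Groth.Agent.S17548.eq_zero_of_single_eq_zero I hI Z N _ (fun z => by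
            rw [LinearMap.sub_apply, LinearMap.comp_apply, LinearMap.comp_apply, hχ' z, hm z,
              sub_self])
        exact sub_eq_zero.mp this
      refine ⟨χ' ∘ₗ i, ?_⟩
      rw [← LinearMap.comp_assoc, heq, LinearMap.comp_assoc, hri, LinearMap.comp_id]

end Groth.Agent.S17549
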