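import Groth.Statements.S17550
import Groth.Agent.S17548
import Mathlib.RingTheory.AdicCompletion.Functoriality
import Mathlib.RingTheory.TensorProduct.Basic

set_option autoImplicit false
universe u
open W4c5adicflatcompl
open scoped TensorProduct
open CAlg

namespace Groth.Agent.S17550

section
variable {A B : Type u} [CommRing A] [CommRing B] [Algebra A B] (I : Ideal A) (J : Ideal B)

/-- The `n`-th component map `A / I^n → B / J^n`. -/
noncomputable def γ (hpow : ∀ n, ∀ a ∈ I ^ n, algebraMap A B a ∈ J ^ n) (n : ℕ) :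
    (A ⧸ (I ^ n • ⊤ : Submodule A A)) →ₗ[A] (B ⧸ (J ^ n • ⊤ : Submodule B B)) :=
  Submodule.liftQ _ (((Submodule.mkQ (J ^ n • ⊤ : Submodule B B)).restrictScalars A) ∘ₗ
    (Algebra.linearMap A B)) (by
      intro a ha
      rw [smul_eq_mul, Ideal.mul_top] at ha
      rw [LinearMap.mem_ker]
      show (Submodule.Quotient.mk (algebraMap A B a) : B ⧸ (J ^ n • ⊤ : Submodule B B)) = 0
      rw [Submodule.Quotient.mk_eq_zero, smul_eq_mul, Ideal.mul_top]
      exact hpow n a ha)

theorem γ_mk (hpow : ∀ n, ∀ a ∈ I ^ n, algebraMap A B a ∈ J ^ n) (n : ℕ) (a : A) :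
    γ I J hpow n (Submodule.Quotient.mk a) = Submodule.Quotient.mk (algebraMap A B a) := rfl

/-- The comparison map between completions `Â_I → B^_J`, as an `A`-linear map. -/
noncomputable def cmap (hpow : ∀ n, ∀ a ∈ I ^ n, algebraMap A B a ∈ J ^ n) :
    AdicCompletion I A →ₗ[A] AdicCompletion J B where
  toFun x := ⟨fun n => γ I J hpow n (x.val n), by
    intro i j hij
    obtain ⟨a, ha⟩ := Submodule.Quotient.mk_surjective _ (x.val j)
    have hi : x.val i = Submodule.Quotient.mk a := by
      rw [← x.prop hij, ← ha]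
      rfl
    show AdicCompletion.transitionMap J B hij (γ I J hpow j (x.val j)) =
      γ I J hpow i (x.val i)
    rw [hi, ← ha, γ_mk, γ_mk]
    rfl⟩
  map_add' x y := by
    apply AdicCompletion.ext
    intro n
    show γ I J hpow n ((x + y).val n) = γ I J hpow n (x.val n) + γ I J hpow n (y.val n)
    rw [AdicCompletion.val_add_apply, map_add]
  map_smul' a x := by
    apply AdicCompletion.ext
    intro n
    show γ I J hpow n ((a • x).val n) = a • γ I J hpow n (x.val n)
    rw [AdicCompletion.val_smul_apply, map_smul]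

theorem cmap_val (hpow : ∀ n, ∀ a ∈ I ^ n, algebraMap A B a ∈ J ^ n) (x : AdicCompletion I A)
    (n : ℕ) : (cmap I J hpow x).val n = γ I J hpow n (x.val n) := rfl

theorem cmap_one (hpow : ∀ n, ∀ a ∈ I ^ n, algebraMap A B a ∈ J ^ n) :
    cmap I J hpow (1 : AdicCompletion I A) = 1 := by
  apply AdicCompletion.ext
  intro n
  rw [cmap_val]
  have h1 : (1 : AdicCompletion I A).val n = Submodule.Quotient.mk (1 : A) := rfl
  have h2 : (1 : AdicCompletion J B).val n = Submodule.Quotient.mk (1 : B) := rfl
  rw [h1, h2, γ_mk, map_one]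

theorem cmap_mem (hJ : J.FG) (hpow : ∀ n, ∀ a ∈ I ^ n, algebraMap A B a ∈ J ^ n)
    (n : ℕ) (x : AdicCompletion I A)
    (hx : x ∈ (I ^ n • ⊤ : Submodule A (AdicCompletion I A))) :
    cmap I J hpow x ∈ (J ^ n • ⊤ : Submodule B (AdicCompletion J B)) := by
  have h1 := AdicCompletion.pow_smul_top_le_ker_eval I (M := A) n hx
  rw [LinearMap.mem_ker, AdicCompletion.eval_apply] at h1
  rw [AdicCompletion.pow_smul_top_eq_ker_eval hJ, LinearMap.mem_ker, AdicCompletion.eval_apply,
    cmap_val, h1, map_zero]

end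


/-- For Noetherian rings A and B with B an A-algebra, ideals I of A and J of B with I B contained in J,
and an I-adically free A-module P, the J-adic completion of B ⊗ P is a J-adically free B-module (the
completed base change of an adically free module is adically free). -/
theorem result {A B : Type u} [CommRing A] [CommRing B] [Algebra A B]
    [IsNoetherianRing A] [IsNoetherianRing B] (I : Ideal A) (J : Ideal B)
    (hIJ : I.map (algebraMap A B) ≤ J) (P : Type u) [AddCommGroup P] [Module A P]
    (hP : IsAdicFree I P) :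
    IsAdicFree J (AdicCompletion J (B ⊗[A] P)) := by
  classical
  obtain ⟨Z, ⟨eP⟩⟩ := hP
  have hIfg : I.FG := IsNoetherian.noetherian I
  have hJfg : J.FG := IsNoetherian.noetherian J
  have hpow : ∀ n, ∀ a ∈ I ^ n, algebraMap A B a ∈ J ^ n := by
    intro n a ha
    have h1 : algebraMap A B a ∈ (I ^ n).map (algebraMap A B) := Ideal.mem_map_of_mem _ ha
    rw [Ideal.map_pow] at h1
    exact Ideal.pow_right_mono hIJ n h1
  have : IsAdicComplete J (AdicCompletion J B) := AdicCompletion.isAdicComplete hJfg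
  have hFc : IsAdicComplete J (decaying J Z (AdicCompletion J B)) :=
    Groth.Agent.Lib.Helper9.isAdicComplete_decaying hJfg
  have hQc : IsAdicComplete J (AdicCompletion J (B ⊗[A] P)) :=
    AdicCompletion.isAdicComplete hJfg
  -- β₀ : dec_I(Z, Â) → dec_J(Z, B^)
  let β₀ : decaying I Z (AdicCompletion I A) →ₗ[A] decaying J Z (AdicCompletion J B) :=
    { toFun := fun g => ⟨fun z => cmap I J hpow ((g : Z → AdicCompletion I A) z), fun n =>
        (g.2 n).subset fun z hz hcon => hz (cmap_mem I J hJfg hpow n _ hcon)⟩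
      map_add' := fun g g' => by
        apply Subtype.ext
        funext z
        exact map_add (cmap I J hpow) _ _
      map_smul' := fun a g => by
        apply Subtype.ext
        funext z
        exact map_smul (cmap I J hpow) _ _ }
  have hβ₀single : ∀ z, β₀ (single I z (1 : AdicCompletion I A)) =
      single J z (1 : AdicCompletion J B) := by
    intro z
    apply Subtype.ext
    funext z'
    show cmap I J hpow ((Pi.single z (1 : AdicCompletion I A) : Z → AdicCompletion I A) z') =
      (Pi.single z (1 : AdicCompletion J B) : Z → AdicCompletion J B) z'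
    by_cases h : z' = z
    · subst h
      rw [Pi.single_eq_same, Pi.single_eq_same, cmap_one]
    · rw [Pi.single_eq_of_ne h, Pi.single_eq_of_ne h, map_zero]
  let β₁ : P →ₗ[A] decaying J Z (AdicCompletion J B) := β₀ ∘ₗ eP.toLinearMap
  let β₂ : B ⊗[A] P →ₗ[B] decaying J Z (AdicCompletion J B) := β₁.liftBaseChange B
  let β : AdicCompletion J (B ⊗[A] P) →ₗ[B] decaying J Z (AdicCompletion J B) :=
    (AdicCompletion.ofLinearEquiv J (decaying J Z (AdicCompletion J B))).symm.toLinearMap ∘ₗ
      ((AdicCompletion.map J β₂).restrictScalars B)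
  have hβof : ∀ x : B ⊗[A] P, β (AdicCompletion.of J _ x) = β₂ x := by
    intro x
    show (AdicCompletion.ofLinearEquiv J (decaying J Z (AdicCompletion J B))).symm
      (AdicCompletion.map J β₂ (AdicCompletion.of J _ x)) = β₂ x
    rw [AdicCompletion.map_of, AdicCompletion.ofLinearEquiv_symm_of]
  -- α : dec_J(Z, B^) → Q
  let q : Z → AdicCompletion J (B ⊗[A] P) := fun z =>
    AdicCompletion.of J (B ⊗[A] P) ((1 : B) ⊗ₜ[A] eP.symm (single I z (1 : AdicCompletion I A)))
  obtain ⟨α, hα, -⟩ := Groth.Agent.S17548.result J Z (AdicCompletion J (B ⊗[A] P)) q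
  -- β ∘ α = id
  have hβα : β ∘ₗ α = LinearMap.id := by
    have : β ∘ₗ α - LinearMap.id = 0 :=
      Groth.Agent.S17548.eq_zero_of_single_eq_zero J hJfg Z _ _ (fun z => by
        rw [LinearMap.sub_apply, LinearMap.comp_apply, hα z, LinearMap.id_apply, hβof,
          LinearMap.liftBaseChange_tmul, one_smul]
        show β₀ (eP (eP.symm (single I z (1 : AdicCompletion I A)))) - _ = 0
        rw [LinearEquiv.apply_symm_apply, hβ₀single, sub_self])
    exact sub_eq_zero.mp this
  -- α ∘ β = id
  have hsubset : ∀ n : ℕ, ∀ x : AdicCompletion J (B ⊗[A] P),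
      x ∈ (I ^ n • ⊤ : Submodule A (AdicCompletion J (B ⊗[A] P))) →
      x ∈ (J ^ n • ⊤ : Submodule B (AdicCompletion J (B ⊗[A] P))) := by
    intro n x hx
    refine Submodule.smul_induction_on (p := fun x =>
      x ∈ (J ^ n • ⊤ : Submodule B (AdicCompletion J (B ⊗[A] P)))) hx ?_ ?_
    · intro a ha y _
      rw [← algebraMap_smul B a y]
      exact Submodule.smul_mem_smul (hpow n a ha) Submodule.mem_top
    · intro x y hx hy
      exact Submodule.add_mem _ hx hy
  have hQhausA : IsHausdorff I (AdicCompletion J (B ⊗[A] P)) := by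
    refine ⟨fun x hx => ?_⟩
    apply IsHausdorff.haus (I := J) (M := AdicCompletion J (B ⊗[A] P)) hQc.toIsHausdorff
    intro n
    have := hx n
    rw [SModEq.zero] at this ⊢
    exact hsubset n x this
  have hαβ₁ : ∀ p : P, α (β₁ p) = AdicCompletion.of J (B ⊗[A] P) ((1 : B) ⊗ₜ[A] p) := by
    let L1 : decaying I Z (AdicCompletion I A) →ₗ[A] AdicCompletion J (B ⊗[A] P) :=
      (α.restrictScalars A) ∘ₗ β₀
    let L2 : decaying I Z (AdicCompletion I A) →ₗ[A] AdicCompletion J (B ⊗[A] P) :=
      ((AdicCompletion.of J (B ⊗[A] P)).restrictScalars A) ∘ₗ (TensorProduct.mk A B P 1) ∘ₗ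
        eP.symm.toLinearMap
    have h0 : L1 - L2 = 0 :=
      Groth.Agent.S17548.eq_zero_of_single_eq_zero I hIfg Z _ _ (fun z => by
        rw [LinearMap.sub_apply]
        show α (β₀ (single I z 1)) - q z = 0
        rw [hβ₀single, hα z, sub_self])
    have h1 : L1 = L2 := sub_eq_zero.mp h0
    intro p
    have h2 := LinearMap.congr_fun h1 (eP p)
    show α (β₀ (eP p)) = _
    refine h2.trans ?_
    show AdicCompletion.of J (B ⊗[A] P) ((1 : B) ⊗ₜ[A] eP.symm (eP p)) = _
    rw [LinearEquiv.symm_apply_apply]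
  have hαβof : ∀ x : B ⊗[A] P, α (β (AdicCompletion.of J _ x)) = AdicCompletion.of J _ x := by
    intro x
    induction x using TensorProduct.induction_on with
    | zero => simp
    | tmul b p =>
      rw [hβof, LinearMap.liftBaseChange_tmul, map_smul, hαβ₁]
      rw [← map_smul, TensorProduct.smul_tmul', smul_eq_mul, mul_one]
    | add x y hx hy =>
      rw [map_add, map_add, map_add, hx, hy]
  have hαβ : α ∘ₗ β = LinearMap.id := by
    refine LinearMap.ext fun x => ?_
    rw [LinearMap.comp_apply, LinearMap.id_apply, ← sub_eq_zero]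
    apply IsHausdorff.haus (I := J) (M := AdicCompletion J (B ⊗[A] P)) hQc.toIsHausdorff
    intro n
    rw [SModEq.zero]
    obtain ⟨y, hy⟩ := Submodule.Quotient.mk_surjective _
      (AdicCompletion.eval J (B ⊗[A] P) n x)
    have hmem : x - AdicCompletion.of J _ y ∈
        (J ^ n • ⊤ : Submodule B (AdicCompletion J (B ⊗[A] P))) := by
      rw [AdicCompletion.pow_smul_top_eq_ker_eval hJfg, LinearMap.mem_ker, map_sub,
        AdicCompletion.eval_of, sub_eq_zero, ← hy]
      rfl
    let δ : AdicCompletion J (B ⊗[A] P) →ₗ[B] AdicCompletion J (B ⊗[A] P) :=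
      α ∘ₗ β - LinearMap.id
    have h1 : α (β x) - x = δ (x - AdicCompletion.of J _ y) := by
      have h2 : ∀ w, δ w = α (β w) - w := fun w => rfl
      rw [h2, map_sub, map_sub, hαβof]
      abel
    rw [h1]
    exact Submodule.smul_top_le_comap_smul_top (J ^ n) δ hmem
  exact ⟨Z, ⟨LinearEquiv.ofLinearMap β α hβα hαβ⟩⟩

end Groth.Agent.S17550
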