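import Groth.Statements.S17551
import Groth.Agent.Lib.Helper9.Decaying6
import Mathlib.LinearAlgebra.Basis.VectorSpace
import Mathlib.RingTheory.LocalRing.MaximalIdeal.Basic

set_option autoImplicit false
universe u
open W4c5adicflatcompl
open CAlg

namespace Groth.Agent.S17551

/-- For a complete Noetherian local ring A (maximal ideal m, m-adic completion Â) and an m-adic system
(M n, ψ n : M (n+1) → M n) of A-modules, meaning that each M n is a module over A/m^(n+1) and each ψ
n is surjective with kernel m^(n+1) M (n+1), if every M n is flat over A/m^(n+1) then the inverse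
limit of the system is m-adically free (isomorphic to the m-adically decaying functions Z → Â for
some set Z), and for every n its projection to M n is surjective with kernel m^(n+1) times the
limit. A, the M n and Z share one universe. -/
theorem result {A : Type u} [CommRing A] [IsNoetherianRing A] [IsLocalRing A]
    [IsAdicComplete (IsLocalRing.maximalIdeal A) A]
    (M : ℕ → Type u) [∀ n, AddCommGroup (M n)] [∀ n, Module A (M n)]
    [∀ n, Module (A ⧸ IsLocalRing.maximalIdeal A ^ (n + 1)) (M n)]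
    [∀ n, IsScalarTower A (A ⧸ IsLocalRing.maximalIdeal A ^ (n + 1)) (M n)]
    [∀ n, Module.Flat (A ⧸ IsLocalRing.maximalIdeal A ^ (n + 1)) (M n)]
    (ψ : ∀ n, M (n + 1) →ₗ[A] M n) (hψ : ∀ n, Function.Surjective (ψ n))
    (hker : ∀ n, LinearMap.ker (ψ n) =
      (IsLocalRing.maximalIdeal A ^ (n + 1) • ⊤ : Submodule A (M (n + 1)))) :
    IsAdicFree (IsLocalRing.maximalIdeal A) (sysLim M ψ) ∧
      ∀ n, Function.Surjective (sysProj M ψ n) ∧
        LinearMap.ker (sysProj M ψ n) =
          (IsLocalRing.maximalIdeal A ^ (n + 1) • ⊤ : Submodule A (sysLim M ψ)) := by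
  classical
  have hmfg : (IsLocalRing.maximalIdeal A).FG := IsNoetherian.noetherian (IsLocalRing.maximalIdeal A)
  have htop : ∀ k : ℕ, ((IsLocalRing.maximalIdeal A) ^ k • ⊤ : Submodule A A) = (IsLocalRing.maximalIdeal A) ^ k := fun k => by
    rw [smul_eq_mul, Ideal.mul_top]
  have hsm : ∀ n (c : A) (y : M n), (Ideal.Quotient.mk ((IsLocalRing.maximalIdeal A) ^ (n + 1)) c) • y = c • y := by
    intro n c y
    rw [← Ideal.Quotient.algebraMap_eq, algebraMap_smul]
  have hkill : ∀ n, ∀ a ∈ (IsLocalRing.maximalIdeal A) ^ (n + 1), ∀ y : M n, a • y = 0 := by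
    intro n a ha y
    rw [← hsm, Ideal.Quotient.eq_zero_iff_mem.mpr ha, zero_smul]
  have hkilltop : ∀ n, ((IsLocalRing.maximalIdeal A) ^ (n + 1) • ⊤ : Submodule A (M n)) = ⊥ := by
    intro n
    rw [eq_bot_iff]
    refine Submodule.smul_le.mpr fun a ha y _ => ?_
    rw [hkill n a ha y]
    exact Submodule.zero_mem _
  -- basis of M 0
  have hmax : ((IsLocalRing.maximalIdeal A) ^ (0 + 1)).IsMaximal := by
    rw [zero_add, pow_one]
    infer_instance
  let _ : Field (A ⧸ (IsLocalRing.maximalIdeal A) ^ (0 + 1)) := Ideal.Quotient.field ((IsLocalRing.maximalIdeal A) ^ (0 + 1))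
  let b := Module.Basis.ofVectorSpace (A ⧸ (IsLocalRing.maximalIdeal A) ^ (0 + 1)) (M 0)
  let Z := ↥(Module.Basis.ofVectorSpaceIndex (A ⧸ (IsLocalRing.maximalIdeal A) ^ (0 + 1)) (M 0))
  have hindep : ∀ (S : Finset Z) (a : Z → A), ∑ z ∈ S, a z • b z = 0 → ∀ z ∈ S, a z ∈ (IsLocalRing.maximalIdeal A) := by
    intro S a hsum z hz
    have h0 : ∑ z ∈ S, (Ideal.Quotient.mk ((IsLocalRing.maximalIdeal A) ^ (0 + 1)) (a z)) • b z = 0 := by
      simp_rw [hsm 0]
      exact hsum
    have h1 := linearIndependent_iff'.mp b.linearIndependent S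
      (fun z => Ideal.Quotient.mk ((IsLocalRing.maximalIdeal A) ^ (0 + 1)) (a z)) h0 z hz
    have h2 := Ideal.Quotient.eq_zero_iff_mem.mp h1
    rwa [zero_add, pow_one] at h2
  have hspan0 : ∀ y : M 0, ∃ (S : Finset Z) (c : Z → A), y = ∑ z ∈ S, c z • b z := by
    intro y
    have hy := b.linearCombination_repr y
    rw [Finsupp.linearCombination_apply, Finsupp.sum] at hy
    choose c hc using fun z : Z => Ideal.Quotient.mk_surjective (b.repr y z)
    refine ⟨(b.repr y).support, c, hy.symm.trans ?_⟩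
    refine Finset.sum_congr rfl fun z _ => ?_
    rw [← hc z, hsm 0]
  -- compatible lifts of the basis
  let e : Z → ∀ n, M n := fun z n =>
    Nat.rec (motive := fun n => M n) (b z) (fun n y => (hψ n y).choose) n
  have he0 : ∀ z, e z 0 = b z := fun z => rfl
  have hesucc : ∀ z n, ψ n (e z (n + 1)) = e z n := fun z n => (hψ n (e z n)).choose_spec
  have hfin : ∀ (g : decaying (IsLocalRing.maximalIdeal A) Z A) (k : ℕ), ∃ S : Finset Z,
      ∀ z, z ∉ S → (g : Z → A) z ∈ (IsLocalRing.maximalIdeal A) ^ k := by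
    intro g k
    refine ⟨(g.2 k).toFinset, fun z hz => ?_⟩
    by_contra hcon
    apply hz
    rw [Set.Finite.mem_toFinset]
    show (g : Z → A) z ∉ ((IsLocalRing.maximalIdeal A) ^ k • ⊤ : Submodule A A)
    rw [htop]
    exact hcon
  -- the maps φ n
  have hφex := fun n => Groth.Agent.Lib.Helper9.exists_finiteSum_linearMap (I := (IsLocalRing.maximalIdeal A)) (Z := Z)
    (n + 1) (hkill n) (fun z => e z n)
  choose φ hφ using hφex
  have hcompat : ∀ n g, ψ n (φ (n + 1) g) = φ n g := by
    intro n g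
    obtain ⟨S, hS2⟩ := hfin g (n + 1 + 1)
    have hS1 : ∀ z, z ∉ S → (g : Z → A) z ∈ (IsLocalRing.maximalIdeal A) ^ (n + 1) := fun z hz =>
      Ideal.pow_le_pow_right (Nat.le_succ _) (hS2 z hz)
    rw [hφ (n + 1) g S hS2, hφ n g S hS1, map_sum]
    refine Finset.sum_congr rfl fun z _ => ?_
    rw [map_smul, hesucc]
  -- projections to M 0
  let π : ∀ n, M n →ₗ[A] M 0 := fun n =>
    Nat.rec (motive := fun n => M n →ₗ[A] M 0) LinearMap.id (fun n p => p ∘ₗ ψ n) n
  have hπ0 : π 0 = LinearMap.id := rfl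
  have hπsucc : ∀ n, π (n + 1) = π n ∘ₗ ψ n := fun n => rfl
  have hπφ : ∀ n g, π n (φ n g) = φ 0 g := by
    intro n
    induction n with
    | zero => intro g; rfl
    | succ n ih =>
      intro g
      rw [hπsucc, LinearMap.comp_apply, hcompat, ih]
  have hπker : ∀ n, LinearMap.ker (π n) ≤ ((IsLocalRing.maximalIdeal A) • ⊤ : Submodule A (M n)) := by
    intro n
    induction n with
    | zero =>
      intro y hy
      rw [hπ0, LinearMap.mem_ker, LinearMap.id_apply] at hy
      rw [hy]
      exact Submodule.zero_mem _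
    | succ n ih =>
      intro y hy
      rw [hπsucc, LinearMap.mem_ker, LinearMap.comp_apply] at hy
      have h1 : ψ n y ∈ ((IsLocalRing.maximalIdeal A) • ⊤ : Submodule A (M n)) := ih hy
      have h2 : ((IsLocalRing.maximalIdeal A) • ⊤ : Submodule A (M n)) = ((IsLocalRing.maximalIdeal A) • ⊤ : Submodule A (M (n + 1))).map (ψ n) := by
        rw [Submodule.map_smul'', Submodule.map_top, LinearMap.range_eq_top.mpr (hψ n)]
      rw [h2] at h1
      obtain ⟨y', hy', hyy'⟩ := h1
      have h3 : y - y' ∈ LinearMap.ker (ψ n) := by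
        rw [LinearMap.mem_ker, map_sub, hyy', sub_self]
      rw [hker n] at h3
      have h4 : ((IsLocalRing.maximalIdeal A) ^ (n + 1) • ⊤ : Submodule A (M (n + 1))) ≤ (IsLocalRing.maximalIdeal A) • ⊤ :=
        Submodule.smul_mono_left (Ideal.pow_le_self (Nat.succ_ne_zero n))
      have : y = y' + (y - y') := by abel
      rw [this]
      exact Submodule.add_mem _ hy' (h4 h3)
  -- φ 0
  have hφ0single : ∀ z, φ 0 (single (IsLocalRing.maximalIdeal A) z (1 : A)) = b z := by
    intro z
    rw [hφ 0 _ {z} (fun z' hz' => by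
      have : z' ≠ z := fun h => hz' (by simp [h])
      rw [coe_single, Pi.single_eq_of_ne this]
      exact Submodule.zero_mem _)]
    rw [Finset.sum_singleton, coe_single, Pi.single_eq_same, one_smul]
    exact he0 z
  have hφ0surj : Function.Surjective (φ 0) := by
    intro y
    obtain ⟨S, c, rfl⟩ := hspan0 y
    refine ⟨∑ z ∈ S, c z • single (IsLocalRing.maximalIdeal A) z (1 : A), ?_⟩
    rw [map_sum]
    refine Finset.sum_congr rfl fun z _ => ?_
    rw [map_smul, hφ0single]
  have hAhaus : IsHausdorff (IsLocalRing.maximalIdeal A) A := IsAdicComplete.toIsHausdorff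
  have hφ0ker : ∀ g, φ 0 g = 0 → g ∈ ((IsLocalRing.maximalIdeal A) • ⊤ : Submodule A (decaying (IsLocalRing.maximalIdeal A) Z A)) := by
    intro g hg0
    obtain ⟨S, hS⟩ := hfin g (0 + 1)
    have h3 := hφ 0 g S hS
    rw [hg0] at h3
    have hval : ∀ z, (g : Z → A) z ∈ ((IsLocalRing.maximalIdeal A) ^ 1 • ⊤ : Submodule A A) := by
      intro z
      rw [htop, pow_one]
      by_cases hz : z ∈ S
      · exact hindep S (fun z => (g : Z → A) z) h3.symm z hz
      · have := hS z hz
        rwa [zero_add, pow_one] at this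
    have := Groth.Agent.Lib.Helper9.decaying_mem_smul_top_of_forall_mem hmfg 1 g hval
    rwa [pow_one] at this
  -- φ n is surjective
  have hφsurj : ∀ n, Function.Surjective (φ n) := by
    intro n
    rw [← LinearMap.range_eq_top]
    set N := LinearMap.range (φ n) with hN
    have h1 : N ⊔ (IsLocalRing.maximalIdeal A) • ⊤ = ⊤ := by
      rw [eq_top_iff]
      intro y _
      obtain ⟨g, hg⟩ := hφ0surj (π n y)
      have h2 : y - φ n g ∈ LinearMap.ker (π n) := by
        rw [LinearMap.mem_ker, map_sub, hπφ, hg, sub_self]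
      have h3 := hπker n h2
      have : y = φ n g + (y - φ n g) := by abel
      rw [this]
      exact Submodule.add_mem_sup ⟨g, rfl⟩ h3
    have hj : ∀ j : ℕ, N ⊔ (IsLocalRing.maximalIdeal A) ^ j • ⊤ = ⊤ := by
      intro j
      induction j with
      | zero => simp
      | succ j ih =>
        have h5 : ((IsLocalRing.maximalIdeal A) • ⊤ : Submodule A (M n)) ≤ N ⊔ (IsLocalRing.maximalIdeal A) ^ (j + 1) • ⊤ := by
          calc ((IsLocalRing.maximalIdeal A) • ⊤ : Submodule A (M n)) = (IsLocalRing.maximalIdeal A) • (N ⊔ (IsLocalRing.maximalIdeal A) ^ j • ⊤) := by rw [ih]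
            _ = (IsLocalRing.maximalIdeal A) • N ⊔ (IsLocalRing.maximalIdeal A) ^ (j + 1) • ⊤ := by rw [Submodule.smul_sup, ← mul_smul, ← pow_succ']
            _ ≤ N ⊔ (IsLocalRing.maximalIdeal A) ^ (j + 1) • ⊤ := sup_le_sup Submodule.smul_le_right le_rfl
        rw [eq_top_iff]
        calc (⊤ : Submodule A (M n)) = N ⊔ (IsLocalRing.maximalIdeal A) • ⊤ := h1.symm
          _ ≤ N ⊔ (IsLocalRing.maximalIdeal A) ^ (j + 1) • ⊤ := sup_le le_sup_left h5
    have := hj (n + 1)
    rwa [hkilltop n, sup_bot_eq] at this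
  -- kernel of φ n
  have hφker : ∀ n, LinearMap.ker (φ n) = ((IsLocalRing.maximalIdeal A) ^ (n + 1) • ⊤ : Submodule A (decaying (IsLocalRing.maximalIdeal A) Z A)) := by
    intro n
    have hPK : ((IsLocalRing.maximalIdeal A) ^ (n + 1) • ⊤ : Submodule A (decaying (IsLocalRing.maximalIdeal A) Z A)) ≤ LinearMap.ker (φ n) := by
      intro g hg
      have := Submodule.smul_top_le_comap_smul_top ((IsLocalRing.maximalIdeal A) ^ (n + 1)) (φ n) hg
      rw [Submodule.mem_comap, hkilltop n, Submodule.mem_bot] at this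
      exact this
    apply le_antisymm _ hPK
    have hKm : LinearMap.ker (φ n) ≤ ((IsLocalRing.maximalIdeal A) • ⊤ : Submodule A (decaying (IsLocalRing.maximalIdeal A) Z A)) := by
      intro g hg
      apply hφ0ker
      rw [← hπφ n, LinearMap.mem_ker.mp hg, map_zero]
    have hstep : LinearMap.ker (φ n) ≤
        (IsLocalRing.maximalIdeal A) • LinearMap.ker (φ n) ⊔ ((IsLocalRing.maximalIdeal A) ^ (n + 1) • ⊤ : Submodule A (decaying (IsLocalRing.maximalIdeal A) Z A)) := by
      intro g hg
      exact Groth.Agent.Lib.Helper9.mem_smul_ker_sup_of_flat_quotient ((IsLocalRing.maximalIdeal A) ^ (n + 1)) (φ n)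
        (hφsurj n) (IsLocalRing.maximalIdeal A) g hg (hKm hg)
    have hj : ∀ j : ℕ, LinearMap.ker (φ n) ≤
        (IsLocalRing.maximalIdeal A) ^ (j + 1) • LinearMap.ker (φ n) ⊔
          ((IsLocalRing.maximalIdeal A) ^ (n + 1) • ⊤ : Submodule A (decaying (IsLocalRing.maximalIdeal A) Z A)) := by
      intro j
      induction j with
      | zero => simpa using hstep
      | succ j ih =>
        refine le_trans hstep (sup_le ?_ le_sup_right)
        calc (IsLocalRing.maximalIdeal A) • LinearMap.ker (φ n)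
            ≤ (IsLocalRing.maximalIdeal A) • ((IsLocalRing.maximalIdeal A) ^ (j + 1) • LinearMap.ker (φ n) ⊔
                ((IsLocalRing.maximalIdeal A) ^ (n + 1) • ⊤ : Submodule A (decaying (IsLocalRing.maximalIdeal A) Z A))) :=
              Submodule.smul_mono le_rfl ih
          _ = (IsLocalRing.maximalIdeal A) ^ (j + 1 + 1) • LinearMap.ker (φ n) ⊔
                (IsLocalRing.maximalIdeal A) • ((IsLocalRing.maximalIdeal A) ^ (n + 1) • ⊤ : Submodule A (decaying (IsLocalRing.maximalIdeal A) Z A)) := by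
              rw [Submodule.smul_sup, ← mul_smul, ← pow_succ']
          _ ≤ (IsLocalRing.maximalIdeal A) ^ (j + 1 + 1) • LinearMap.ker (φ n) ⊔
                ((IsLocalRing.maximalIdeal A) ^ (n + 1) • ⊤ : Submodule A (decaying (IsLocalRing.maximalIdeal A) Z A)) :=
              sup_le_sup le_rfl Submodule.smul_le_right
    refine le_trans (hj n) (sup_le ?_ le_rfl)
    exact Submodule.smul_mono le_rfl le_top
  -- the comparison map
  let Φ : decaying (IsLocalRing.maximalIdeal A) Z A →ₗ[A] sysLim M ψ :=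
    LinearMap.codRestrict (sysLim M ψ) (LinearMap.pi φ) (fun g n => hcompat n g)
  have hΦ : ∀ n g, sysProj M ψ n (Φ g) = φ n g := fun n g => rfl
  have hD : IsHausdorff (IsLocalRing.maximalIdeal A) (decaying (IsLocalRing.maximalIdeal A) Z A) := Groth.Agent.Lib.Helper9.isHausdorff_decaying
  have hDc : IsAdicComplete (IsLocalRing.maximalIdeal A) (decaying (IsLocalRing.maximalIdeal A) Z A) :=
    Groth.Agent.Lib.Helper9.isAdicComplete_decaying hmfg
  have hΦinj : Function.Injective Φ := by
    rw [← LinearMap.ker_eq_bot, eq_bot_iff]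
    intro g hg
    rw [Submodule.mem_bot]
    apply IsHausdorff.haus hD
    intro n
    rw [SModEq.zero]
    have h1 : φ n g = 0 := by
      rw [← hΦ, LinearMap.mem_ker.mp hg, map_zero]
    have h2 : g ∈ LinearMap.ker (φ n) := h1
    rw [hφker n] at h2
    exact Groth.Agent.Lib.Helper9.pow_smul_top_anti (Nat.le_succ n) h2
  have hΦsurj : Function.Surjective Φ := by
    intro x
    choose G hG using fun n => hφsurj n (sysProj M ψ n x)
    have hx : ∀ n, ψ n ((x : ∀ k, M k) (n + 1)) = (x : ∀ k, M k) n := x.2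
    have hstep : ∀ n, G (n + 1) - G n ∈ ((IsLocalRing.maximalIdeal A) ^ (n + 1) • ⊤ : Submodule A (decaying (IsLocalRing.maximalIdeal A) Z A)) := by
      intro n
      rw [← hφker n, LinearMap.mem_ker, map_sub, ← hcompat n (G (n + 1)), hG (n + 1), hG n,
        sysProj_apply, sysProj_apply, hx n, sub_self]
    have hcauchy : ∀ {i j : ℕ}, i ≤ j →
        G i ≡ G j [SMOD ((IsLocalRing.maximalIdeal A) ^ i • ⊤ : Submodule A (decaying (IsLocalRing.maximalIdeal A) Z A))] := by
      intro i j hij
      induction j, hij using Nat.le_induction with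
      | base => rfl
      | succ j hij ih =>
        refine ih.trans ?_
        rw [SModEq.sub_mem]
        have h2 : G j - G (j + 1) = -(G (j + 1) - G j) := by abel
        rw [h2]
        exact Submodule.neg_mem _
          (Groth.Agent.Lib.Helper9.pow_smul_top_anti (by omega) (hstep j))
    obtain ⟨L, hL⟩ := IsPrecomplete.prec hDc.toIsPrecomplete hcauchy
    refine ⟨L, ?_⟩
    apply Subtype.ext
    funext n
    have h1 : L - G n ∈ LinearMap.ker (φ n) := by
      rw [hφker n]
      have ha := hL (n + 1)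
      rw [SModEq.sub_mem] at ha
      have : L - G n = -(G (n + 1) - L) + (G (n + 1) - G n) := by abel
      rw [this]
      exact Submodule.add_mem _ (Submodule.neg_mem _ ha) (hstep n)
    rw [LinearMap.mem_ker, map_sub, sub_eq_zero] at h1
    show φ n L = _
    rw [h1, hG n]
    rfl
  let eΦ : decaying (IsLocalRing.maximalIdeal A) Z A ≃ₗ[A] sysLim M ψ := LinearEquiv.ofBijective Φ ⟨hΦinj, hΦsurj⟩
  let eA : A ≃ₗ[A] AdicCompletion (IsLocalRing.maximalIdeal A) A := AdicCompletion.ofLinearEquiv (IsLocalRing.maximalIdeal A) A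
  refine ⟨⟨Z, ⟨eΦ.symm.trans (Groth.Agent.Lib.Helper9.decayingCongr (IsLocalRing.maximalIdeal A) Z eA)⟩⟩,
    fun n => ⟨?_, ?_⟩⟩
  · intro y
    obtain ⟨g, hg⟩ := hφsurj n y
    exact ⟨Φ g, hg⟩
  · ext x
    obtain ⟨g, rfl⟩ := hΦsurj x
    rw [LinearMap.mem_ker, hΦ]
    constructor
    · intro h
      have hg : g ∈ ((IsLocalRing.maximalIdeal A) ^ (n + 1) • ⊤ : Submodule A (decaying (IsLocalRing.maximalIdeal A) Z A)) := by
        rw [← hφker n]
        exact h
      exact Submodule.smul_top_le_comap_smul_top ((IsLocalRing.maximalIdeal A) ^ (n + 1)) Φ hg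
    · intro h
      have := Submodule.smul_top_le_comap_smul_top ((IsLocalRing.maximalIdeal A) ^ (n + 1)) (sysProj M ψ n) h
      rw [Submodule.mem_comap, hkilltop n, Submodule.mem_bot] at this
      rw [← hΦ]
      exact this

end Groth.Agent.S17551
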