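import Groth.Statements.S17552
import Groth.Agent.Lib.Helper9.Decaying5
import Groth.Agent.S17545

set_option autoImplicit false
universe u
open W4c5adicflatcompl
open CAlg

namespace Groth.Agent.S17552

/-- For a complete Noetherian local ring A (maximal ideal m, m-adic completion Â), an A-module M is
isomorphic to the module of m-adically decaying functions Z → Â for some set Z (m-adically free)
exactly when M is flat and m-adically complete. M and Z live in the universe of A. -/
theorem result {A : Type u} [CommRing A] [IsNoetherianRing A] [IsLocalRing A]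
    [IsAdicComplete (IsLocalRing.maximalIdeal A) A]
    (M : Type u) [AddCommGroup M] [Module A M] :
    IsAdicFree (IsLocalRing.maximalIdeal A) M ↔
      Module.Flat A M ∧ IsAdicComplete (IsLocalRing.maximalIdeal A) M := by
  have hmfg : (IsLocalRing.maximalIdeal A).FG := IsNoetherian.noetherian _
  let eA : A ≃ₗ[A] AdicCompletion (IsLocalRing.maximalIdeal A) A :=
    AdicCompletion.ofLinearEquiv (IsLocalRing.maximalIdeal A) A
  constructor
  · rintro ⟨Z, ⟨e⟩⟩
    let e' : M ≃ₗ[A] decaying (IsLocalRing.maximalIdeal A) Z A :=
      e.trans (Groth.Agent.Lib.Helper9.decayingCongr (IsLocalRing.maximalIdeal A) Z eA.symm)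
    have hflat : Module.Flat A (decaying (IsLocalRing.maximalIdeal A) Z A) :=
      Groth.Agent.S17545.result (IsLocalRing.maximalIdeal A) Z
    have hcompl : IsAdicComplete (IsLocalRing.maximalIdeal A)
        (decaying (IsLocalRing.maximalIdeal A) Z A) :=
      Groth.Agent.Lib.Helper9.isAdicComplete_decaying hmfg
    exact ⟨Module.Flat.of_linearEquiv e',
      Groth.Agent.Lib.Helper9.isAdicComplete_of_retract e'.toLinearMap e'.symm.toLinearMap
        (fun x => e'.symm_apply_apply x)⟩
  · rintro ⟨hflat, hcompl⟩
    obtain ⟨Z, ⟨e⟩⟩ := Groth.Agent.Lib.Helper9.exists_equiv_decaying_of_flat_of_complete (A := A) M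
    exact ⟨Z, ⟨e.trans
      (Groth.Agent.Lib.Helper9.decayingCongr (IsLocalRing.maximalIdeal A) Z eA)⟩⟩

end Groth.Agent.S17552
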