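import Groth.Statements.S17553
import Groth.Agent.Lib.Helper9.Decaying3

set_option autoImplicit false
universe u v w
open W4c5adicflatcompl
open CAlg

namespace Groth.Agent.S17553

/-- Let A be I-adically complete, M an I-adically complete A-module, Z a set and f : Z → M a function.
There is an A-linear map from the I-adically decaying functions Z → A to M whose value on g is the
I-adically convergent sum of the g z • f z. -/
theorem result {A : Type u} [CommRing A] (I : Ideal A) [IsAdicComplete I A]
    (Z : Type v) (M : Type w) [AddCommGroup M] [Module A M] [IsAdicComplete I M] (f : Z → M) :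
    ∃ φ : decaying I Z A →ₗ[A] M, ∀ (g : decaying I Z A) (n : ℕ), ∃ S : Finset Z,
      (∀ z, z ∉ S → (g : Z → A) z • f z ∈ (I ^ n • ⊤ : Submodule A M)) ∧
      φ g - (∑ z ∈ S, (g : Z → A) z • f z) ∈ (I ^ n • ⊤ : Submodule A M) := by
  classical
  have htop : ∀ k : ℕ, (I ^ k • ⊤ : Submodule A A) = I ^ k := fun k => by
    rw [smul_eq_mul, Ideal.mul_top]
  let β : ∀ n : ℕ, A →ₗ[A] M →ₗ[A] M ⧸ (I ^ n • ⊤ : Submodule A M) := fun n =>
    (LinearMap.lsmul A M).compr₂ (Submodule.mkQ _)
  have hβ : ∀ n (a : A) (x : M), β n a x = Submodule.Quotient.mk (a • x) := fun n a x => rfl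
  obtain ⟨φ, hφ⟩ := Groth.Agent.Lib.Helper9.exists_linearMap_of_pairing (I := I) (Z := Z) β
    (fun h b x => rfl)
    (fun n b hb => by
      ext x
      rw [hβ, LinearMap.zero_apply, Submodule.Quotient.mk_eq_zero]
      rw [htop] at hb
      exact Submodule.smul_mem_smul hb Submodule.mem_top) f
  refine ⟨φ, fun g n => ?_⟩
  refine ⟨(g.2 n).toFinset, fun z hz => ?_, ?_⟩
  · have : (g : Z → A) z ∈ (I ^ n • ⊤ : Submodule A A) := by
      by_contra hcon
      exact hz ((g.2 n).mem_toFinset.mpr hcon)
    rw [htop] at this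
    exact Submodule.smul_mem_smul this Submodule.mem_top
  · rw [← Submodule.Quotient.mk_eq_zero, Submodule.Quotient.mk_sub, sub_eq_zero]
    rw [hφ g n (g.2 n).toFinset (fun z hz => by
      by_contra hcon
      exact hz ((g.2 n).mem_toFinset.mpr hcon))]
    rw [← Submodule.mkQ_apply, map_sum]
    rfl

end Groth.Agent.S17553
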