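import Groth.Statements.S17586
import Groth.Agent.Lib.Helper2.Kodaira4

set_option autoImplicit false
open CategoryTheory CategoryTheory.Limits AlgebraicGeometry
open PosLin

namespace Groth.Agent.S17586

/-- Let X be a projective variety over the complex numbers (an integral scheme, proper over ℂ, with an
ample invertible module) of dimension n, and L an invertible O_X-module (the module of a Cartier
divisor D). The following two characterisations of bigness of D are equivalent: (a) for every ample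
invertible O_X-module A there are m > 0 and a monomorphism A → L^⊗m (that is, mD is linearly
equivalent to A plus an effective divisor); (b) there are a constant C > 0 and m₁ such that dim_ℂ
H^0(X, L^⊗m) ≥ C·m^n for all m ≥ m₁. (In the text both are shown equivalent to D having Iitaka
dimension n; this row states their equivalence with each other.) -/
theorem result (X : Scheme.{0}) [X.Over (Spec (CommRingCat.of ℂ))] [IsIntegral X]
    [IsProper (X ↘ Spec (CommRingCat.of ℂ))] (H : X.Modules) (hH : CohB1.IsAmple H)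
    (n : ℕ) (hn : topologicalKrullDim X = n)
    (L : X.Modules) (hL : PicF.IsInvertible L) :
    (∀ A : X.Modules, CohB1.IsAmple A → ∃ (m : ℕ) (φ : A ⟶ CohB1.tensorPow L m), 0 < m ∧ Mono φ) ↔
      ∃ C : ℝ, 0 < C ∧ ∃ m₁ : ℕ, ∀ m : ℕ, m₁ ≤ m →
        C * (m : ℝ) ^ n ≤ (Module.finrank ℂ (Coh.HH X (CohB1.tensorPow L m) 0) : ℝ) := by
  constructor
  · intro hbig
    have hbig' : ∀ A : X.Modules, CohB1.IsAmple A →
        ∃ m : ℕ, 0 < m ∧ Groth.Agent.Lib.Helper2.KodSub.Sub A (CohB1.tensorPow L m) := by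
      intro A hA
      obtain ⟨m, φ, hm, hφ⟩ := hbig A hA
      exact ⟨m, hm, φ, hφ⟩
    obtain ⟨N, m₁, hN, h⟩ := Groth.Agent.Lib.Helper2.Kodaira.growth_of_big ℂ n hn hH hL hbig'
    refine ⟨1 / (N : ℝ), by positivity, m₁, fun m hm => ?_⟩
    have h1 := h m hm
    unfold Groth.Agent.Lib.Helper2.KodUB.h0 at h1
    have hN' : (0 : ℝ) < (N : ℝ) := by exact_mod_cast hN
    rw [div_mul_eq_mul_div, one_mul, div_le_iff₀ hN']
    have h2 : ((m ^ n : ℕ) : ℝ) ≤ ((N * Module.finrank ℂ (Coh.HH X (CohB1.tensorPow L m) 0) : ℕ) : ℝ) := by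
      exact_mod_cast h1
    push_cast at h2
    linarith
  · rintro ⟨C, hC, m₁, h⟩ A hA
    obtain ⟨a, ha⟩ := Groth.Agent.Lib.Helper2.Kodaira.freq_of_real_lb
      (fun m => Groth.Agent.Lib.Helper2.KodUB.h0 ℂ (CohB1.tensorPow L m)) n C hC
      (fun M₀ => ⟨max M₀ m₁, le_max_left _ _, h _ (le_max_right _ _)⟩)
    obtain ⟨m, hm, φ, hφ⟩ := Groth.Agent.Lib.Helper2.Kodaira.sub_of_growth ℂ n hn hH hL a ha A hA
    exact ⟨m, φ, hm, hφ⟩


end Groth.Agent.S17586
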