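import Groth.Statements.S17587
import Groth.Agent.Lib.Helper2.Kodaira3

set_option autoImplicit false
open CategoryTheory CategoryTheory.Limits AlgebraicGeometry
open PosLin

namespace Groth.Agent.S17587

/-- Let X be a projective variety over the complex numbers (an integral scheme, proper over ℂ, with an
ample invertible module), and L an invertible O_X-module which is big, bigness being expressed
through the equivalent condition that every ample invertible O_X-module A admits a monomorphism A →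
L^⊗m for some m > 0. Then the exponent of L is 1, that is, H^0(X, L^⊗m) ≠ 0 for every sufficiently
large m. -/
theorem result (X : Scheme.{0}) [X.Over (Spec (CommRingCat.of ℂ))] [IsIntegral X]
    [IsProper (X ↘ Spec (CommRingCat.of ℂ))] (H : X.Modules) (hH : CohB1.IsAmple H)
    (L : X.Modules) (hL : PicF.IsInvertible L)
    (hbig : ∀ A : X.Modules, CohB1.IsAmple A → ∃ (m : ℕ) (φ : A ⟶ CohB1.tensorPow L m), 0 < m ∧ Mono φ) :
    ∃ m₁ : ℕ, ∀ m : ℕ, m₁ ≤ m → Nontrivial (Coh.HH X (CohB1.tensorPow L m) 0) := by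
  have hbig' : ∀ A : X.Modules, CohB1.IsAmple A →
      ∃ m : ℕ, 0 < m ∧ Groth.Agent.Lib.Helper2.KodSub.Sub A (CohB1.tensorPow L m) := by
    intro A hA
    obtain ⟨m, φ, hm, hφ⟩ := hbig A hA
    exact ⟨m, hm, φ, hφ⟩
  obtain ⟨A₁, p, -, -, -, heff⟩ := Groth.Agent.Lib.Helper2.Kodaira.eff_eventually_of_big ℂ hH hL hbig'
  refine ⟨p * p, fun m hm => ?_⟩
  have h1 := Groth.Agent.Lib.Helper2.KodSub.Sub.hh_le ℂ
    (Groth.Agent.Lib.Helper6.K0Op.isCoh_of_isInvertible _
      (Groth.Agent.Lib.Helper28.GenLocus.isInvertible_tensorPow hL m)) (heff m hm)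
  have h2 := Groth.Agent.Lib.Helper2.Kodaira.h0_unit_pos ℂ (X := X)
  unfold Groth.Agent.Lib.Helper2.KodUB.h0 at h2
  exact Module.nontrivial_of_finrank_pos (R := ℂ) (lt_of_lt_of_le h2 h1)


end Groth.Agent.S17587
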