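import Groth.Statements.S17588
import Groth.Agent.Lib.Helper2.NefRR6
import Groth.Agent.Lib.Helper2.Kodaira4

set_option autoImplicit false
open CategoryTheory CategoryTheory.Limits AlgebraicGeometry
open PosLin

namespace Groth.Agent.S17588

/-- Let X be a projective variety over the complex numbers (an integral scheme, proper over ℂ, with an
ample invertible module) of dimension n, L an invertible O_X-module which is numerically effective
(its restriction to every integral one-dimensional closed subscheme has non-negative degree), and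
L⁻¹ a tensor inverse of L. Then L is big, bigness being expressed through the equivalent growth
condition dim_ℂ H^0(X, L^⊗m) ≥ C·m^n for some constant C > 0 and all sufficiently large m, if and
only if the self-intersection number (L^n) = ∫ c_1(L)^n · [O_X] (the alternating sum of Euler
characteristics attached to n copies of L⁻¹) is positive. -/
theorem result (X : Scheme.{0}) [X.Over (Spec (CommRingCat.of ℂ))] [IsIntegral X]
    [IsProper (X ↘ Spec (CommRingCat.of ℂ))] (H : X.Modules) (hH : CohB1.IsAmple H)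
    (n : ℕ) (hn : topologicalKrullDim X = n)
    (L Linv : X.Modules) (hL : PicF.IsInvertible L) (hLinv : ClSub.IsInverseOf Linv L)
    (hnef : ∀ (Z : Scheme.{0}) (i : Z ⟶ X) [IsClosedImmersion i], IsIntegral Z → topologicalKrullDim Z = 1 →
      0 ≤ Pic13.curveDeg ℂ (i ≫ (X ↘ Spec (CommRingCat.of ℂ))) ((Scheme.Modules.pullback i).obj L)) :
    (∃ C : ℝ, 0 < C ∧ ∃ m₁ : ℕ, ∀ m : ℕ, m₁ ≤ m →
        C * (m : ℝ) ^ n ≤ (Module.finrank ℂ (Coh.HH X (CohB1.tensorPow L m) 0) : ℝ)) ↔
      0 < FGA.intNum ℂ X n (fun _ : Fin n => Linv) (Coh.structureModule X) := by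
  constructor
  · rintro ⟨C, hC, m₁, h⟩
    obtain ⟨a, ha⟩ := Groth.Agent.Lib.Helper2.Kodaira.freq_of_real_lb
      (fun m => Groth.Agent.Lib.Helper2.KodUB.h0 ℂ (CohB1.tensorPow L m)) n C hC
      (fun M₀ => ⟨max M₀ m₁, le_max_left _ _, h _ (le_max_right _ _)⟩)
    exact Groth.Agent.Lib.Helper2.NefRR6.pos_of_growth ℂ n hn hH hL hnef Linv hLinv a ha
  · intro hpos
    obtain ⟨N, m₁, hN, h⟩ := Groth.Agent.Lib.Helper2.NefRR6.growth_of_pos ℂ n hn hH hL hnef Linv hLinv hpos
    have hN' : (0 : ℝ) < (N : ℝ) := by exact_mod_cast hN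
    refine ⟨1 / (N : ℝ), by positivity, m₁, fun m hm => ?_⟩
    have h1 := h m hm
    have h2 : ((m : ℝ)) ^ n ≤ (N : ℝ) * (Module.finrank ℂ (Coh.HH X (CohB1.tensorPow L m) 0) : ℝ) := by
      exact_mod_cast h1
    rw [div_mul_eq_mul_div, one_mul, div_le_iff₀ hN', mul_comm]
    exact h2

end Groth.Agent.S17588
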