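import Groth.Statements.S17592
import Groth.Agent.Lib.Helper12.EtaleHomLift

set_option autoImplicit false
universe u
open Hensel

namespace Groth.Agent.S17592

/-- Let R → S be an étale ring map and I an ideal of R such that the induced map R/I → S/IS is
bijective. Then a Henselization of the pair (S, IS), regarded as an R-algebra, is a Henselization of
the pair (R, I). -/
theorem result (R : Type u) [CommRing R] (I : Ideal R)
    (S : Type u) [CommRing S] [Algebra R S] [Algebra.Etale R S]
    (hq : Function.Bijective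
      (Ideal.quotientMap (I.map (algebraMap R S)) (algebraMap R S) Ideal.le_comap_map))
    (H : Type u) [CommRing H] [Algebra S H] [Algebra R H] [IsScalarTower R S H]
    (hH : Hens2.IsPairHenselization S (I.map (algebraMap R S)) H) :
    Hens2.IsPairHenselization R I H := by
  obtain ⟨hHens, hUniv⟩ := hH
  have hmapeq : I.map (algebraMap R H) = (I.map (algebraMap R S)).map (algebraMap S H) := by
    rw [Ideal.map_map, ← IsScalarTower.algebraMap_eq]
  refine ⟨by rw [hmapeq]; exact hHens, ?_⟩
  intro C _ J f hC hIJ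
  letI : Algebra R C := f.toAlgebra
  have hfalg : algebraMap R C = f := rfl
  haveI := hC
  -- every element of `S` is congruent to an element of `R` modulo `I S`
  have hsurj : ∀ s : S, ∃ r : R, s - algebraMap R S r ∈ I.map (algebraMap R S) := by
    intro s
    obtain ⟨rbar, hr⟩ := hq.surjective (Ideal.Quotient.mk _ s)
    obtain ⟨r, rfl⟩ := Ideal.Quotient.mk_surjective rbar
    refine ⟨r, ?_⟩
    rw [← Ideal.Quotient.eq, ← hr]
    rfl
  -- any ring map `S → C` over `f` sends `I S` into `J`
  have hmapJ : ∀ (ψ : S →+* C), ψ.comp (algebraMap R S) = f →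
      (I.map (algebraMap R S)).map ψ ≤ J := by
    intro ψ hψ
    rw [Ideal.map_map, hψ]
    exact hIJ
  -- two ring maps `S → C` over `f` coincide
  have huniqS : ∀ (ψ₁ ψ₂ : S →+* C), ψ₁.comp (algebraMap R S) = f →
      ψ₂.comp (algebraMap R S) = f → ψ₁ = ψ₂ := by
    intro ψ₁ ψ₂ h₁ h₂
    let φ₁ : S →ₐ[R] C := { ψ₁ with commutes' := fun r => RingHom.congr_fun h₁ r }
    let φ₂ : S →ₐ[R] C := { ψ₂ with commutes' := fun r => RingHom.congr_fun h₂ r }
    have : φ₁ = φ₂ := by
      apply Groth.Agent.Lib.Helper12.algHom_eq_of_henselianRing J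
      intro x
      obtain ⟨r, hr⟩ := hsurj x
      have e1 : ψ₁ (x - algebraMap R S r) ∈ J :=
        hmapJ ψ₁ h₁ (Ideal.mem_map_of_mem _ hr)
      have e2 : ψ₂ (x - algebraMap R S r) ∈ J :=
        hmapJ ψ₂ h₂ (Ideal.mem_map_of_mem _ hr)
      have e3 : ψ₁ (algebraMap R S r) = ψ₂ (algebraMap R S r) := by
        rw [← RingHom.comp_apply, ← RingHom.comp_apply, h₁, h₂]
      have : φ₁ x - φ₂ x = ψ₁ (x - algebraMap R S r) - ψ₂ (x - algebraMap R S r) := by
        show ψ₁ x - ψ₂ x = _
        rw [map_sub, map_sub, e3]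
        ring
      rw [this]
      exact J.sub_mem e1 e2
    ext x
    exact AlgHom.congr_fun this x
  -- existence of a map `S → C` over `f`
  have hexS : ∃ ψ : S →+* C, ψ.comp (algebraMap R S) = f := by
    let e : R ⧸ I ≃+* S ⧸ I.map (algebraMap R S) := RingEquiv.ofBijective _ hq
    have hle : I ≤ J.comap f := Ideal.map_le_iff_le_comap.mp hIJ
    let gbar : R ⧸ I →+* C ⧸ J := Ideal.quotientMap J f hle
    let g0 : S →+* C ⧸ J :=
      (gbar.comp (e.symm : S ⧸ I.map (algebraMap R S) →+* R ⧸ I)).comp (Ideal.Quotient.mk _)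
    let g : S →ₐ[R] C ⧸ J :=
      { g0 with
        commutes' := by
          intro r
          show gbar (e.symm (Ideal.Quotient.mk _ (algebraMap R S r))) = _
          have : Ideal.Quotient.mk (I.map (algebraMap R S)) (algebraMap R S r) =
              e (Ideal.Quotient.mk I r) := rfl
          rw [this, RingEquiv.symm_apply_apply]
          rfl }
    obtain ⟨φ, -⟩ := Groth.Agent.Lib.Helper12.exists_algHom_lift_of_etale_of_henselianRing J g
    exact ⟨φ, RingHom.ext fun r => φ.commutes r⟩
  obtain ⟨ψ, hψ⟩ := hexS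
  obtain ⟨g, hg, hguniq⟩ := hUniv C J ψ hC (hmapJ ψ hψ)
  refine ⟨g, ?_, ?_⟩
  · show g.comp (algebraMap R H) = f
    rw [IsScalarTower.algebraMap_eq R S H, ← RingHom.comp_assoc, hg, hψ]
  · intro g' hg'
    apply hguniq
    apply huniqS _ _ _ hψ
    rw [RingHom.comp_assoc, ← IsScalarTower.algebraMap_eq R S H]
    exact hg'

end Groth.Agent.S17592
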