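import Groth.Statements.S17593
import Mathlib
import Groth.Agent.Lib.Helper21.FlatDescI
import Groth.Agent.Lib.lead.ValFlatG

set_option autoImplicit false
universe u
open Hensel

namespace Groth.Agent.S17593

/-- Suppose (A, I) is a Henselian pair, and R is an A-algebra of finite presentation for which A → R is
flat at each prime of R that contains IR. Then there is an étale R-algebra R' such that R/IR →
R'/IR' is bijective and A → R' is flat. -/
theorem result (A : Type u) [CommRing A] (I : Ideal A) [HenselianRing A I]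
    (R : Type u) [CommRing R] [Algebra A R] [Algebra.FinitePresentation A R]
    (h : ∀ (p : Ideal R) [p.IsPrime], I.map (algebraMap A R) ≤ p → Module.Flat A (Localization.AtPrime p))
    : ∃ (R' : Type u) (_ : CommRing R') (_ : Algebra R R') (_ : Algebra A R') (_ : IsScalarTower A R R'),
      Algebra.Etale R R' ∧
      Function.Bijective (Ideal.quotientMap ((I.map (algebraMap A R)).map (algebraMap R R'))
        (algebraMap R R') Ideal.le_comap_map) ∧ Module.Flat A R' := by
  classical
  set IR := I.map (algebraMap A R) with hIR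
  let U : Set (PrimeSpectrum R) :=
    {q | Module.Flat A (LocalizedModule q.asIdeal.primeCompl R)}
  have hUopen : IsOpen U :=
    Groth.Agent.Lib.Helper21.FlatDesc.isOpen_flatLocus_of_finitePresentation
      (R := A) (S := R) (M := R)
  have hflatU : ∀ q : PrimeSpectrum R,
      q ∈ U ↔ Module.Flat A (Localization.AtPrime q.asIdeal) := by
    intro q
    let e := IsLocalizedModule.iso q.asIdeal.primeCompl
      (Algebra.linearMap R (Localization.AtPrime q.asIdeal))
    exact ⟨fun h => by
        haveI : Module.Flat A (LocalizedModule q.asIdeal.primeCompl R) := h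
        exact Module.Flat.of_linearEquiv (e.restrictScalars A).symm,
      fun h => by
        haveI := h
        exact Module.Flat.of_linearEquiv (e.restrictScalars A)⟩
  have hVU : ∀ q : PrimeSpectrum R, IR ≤ q.asIdeal → q ∈ U := fun q hq =>
    (hflatU q).mpr (h q.asIdeal hq)
  obtain ⟨J, hJ⟩ : ∃ J : Ideal R, Uᶜ = PrimeSpectrum.zeroLocus (J : Set R) :=
    (PrimeSpectrum.isClosed_iff_zeroLocus_ideal _).mp hUopen.isClosed_compl
  have hsup : J ⊔ IR = ⊤ := by
    by_contra hne
    obtain ⟨m, hm, hle⟩ := Ideal.exists_le_maximal _ hne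
    have hmU : (⟨m, hm.isPrime⟩ : PrimeSpectrum R) ∈ U := hVU _ (le_sup_right.trans hle)
    have hmc : (⟨m, hm.isPrime⟩ : PrimeSpectrum R) ∈ Uᶜ := by
      rw [hJ, PrimeSpectrum.mem_zeroLocus]
      exact fun a ha => hle (Ideal.mem_sup_left ha)
    exact hmc hmU
  obtain ⟨j, hj, i, hi, hji⟩ := Submodule.mem_sup.1 ((Ideal.eq_top_iff_one _).1 hsup)
  have hpow : ∀ n : ℕ, 1 - j ^ n ∈ IR := by
    intro n
    have h1 : (1 : R) - j ∈ IR := by
      have : (1 : R) - j = i := by rw [← hji]; ring
      rw [this]; exact hi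
    have h2 : (1 : R) - j ^ n = (1 - j) * (Finset.range n).sum (fun k => j ^ k) :=
      (mul_neg_geom_sum j n).symm
    rw [h2]
    exact IR.mul_mem_right _ h1
  let S := Localization.Away j
  haveI tow : IsScalarTower A R S := inferInstance
  have hflatS : Module.Flat A S := by
    apply Groth.Agent.Lib.lead.ValFlatG.flat_of_isLocalizedModule_of_forall_prime
      (Submonoid.powers j) (Algebra.linearMap R S)
    intro Q _ hdisj
    have hjQ : j ∉ Q := fun h => Set.disjoint_left.mp hdisj h ⟨1, pow_one j⟩
    have hQU : (⟨Q, ‹_›⟩ : PrimeSpectrum R) ∈ U := by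
      by_contra hnot
      have h3 : (⟨Q, ‹_›⟩ : PrimeSpectrum R) ∈ PrimeSpectrum.zeroLocus (J : Set R) := by
        rw [← hJ]; exact hnot
      exact hjQ (h3 hj)
    exact (hflatU _).mp hQU
  haveI hEt : Algebra.Etale R S := Algebra.Etale.of_isLocalizationAway j
  refine ⟨S, inferInstance, inferInstance, inferInstance, tow, hEt, ?_, hflatS⟩
  refine ⟨?_, ?_⟩
  · apply Ideal.quotientMap_injective'
    intro x hx
    rw [Ideal.mem_comap,
      IsLocalization.algebraMap_mem_map_algebraMap_iff (Submonoid.powers j)] at hx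
    obtain ⟨m, ⟨n, rfl⟩, hm⟩ := hx
    have : x = j ^ n * x + (1 - j ^ n) * x := by ring
    rw [this]
    exact IR.add_mem hm (IR.mul_mem_right _ (hpow n))
  · intro y
    obtain ⟨y, rfl⟩ := Ideal.Quotient.mk_surjective y
    obtain ⟨r, ⟨_, ⟨n, rfl⟩⟩, rfl⟩ := IsLocalization.exists_mk'_eq (Submonoid.powers j) y
    refine ⟨Ideal.Quotient.mk _ r, ?_⟩
    rw [Ideal.quotientMap_mk, Ideal.Quotient.eq]
    have hspec := IsLocalization.mk'_spec S r (⟨j ^ n, ⟨n, rfl⟩⟩ : Submonoid.powers j)
    simp only at hspec
    set z := IsLocalization.mk' S r (⟨j ^ n, ⟨n, rfl⟩⟩ : Submonoid.powers j) with hz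
    have : algebraMap R S r - z = - (z * algebraMap R S (1 - j ^ n)) := by
      rw [← hspec, map_sub, map_one]; ring
    rw [this]
    exact neg_mem (Ideal.mul_mem_left _ _ (Ideal.mem_map_of_mem _ (hpow n)))

end Groth.Agent.S17593
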