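import Groth.Statements.S17595
import Groth.Agent.Lib.Helper12.PairOpenNbhd
import Groth.Agent.Lib.Helper12.QuasiFiniteOpen

set_option autoImplicit false
universe u
open Hensel

namespace Groth.Agent.S17595

/-- Suppose (A, I) is a Henselian pair, and R is an A-algebra of finite presentation for which A → R is
quasi-finite at each prime of R that contains IR. Then there is an étale R-algebra R' such that R/IR
→ R'/IR' is bijective and A → R' is quasi-finite. -/
theorem result (A : Type u) [CommRing A] (I : Ideal A) [HenselianRing A I]
    (R : Type u) [CommRing R] [Algebra A R] [Algebra.FinitePresentation A R]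
    (h : ∀ (p : Ideal R) [p.IsPrime], I.map (algebraMap A R) ≤ p → Algebra.QuasiFiniteAt A p)
    : ∃ (R' : Type u) (_ : CommRing R') (_ : Algebra R R') (_ : Algebra A R') (_ : IsScalarTower A R R'),
      Algebra.Etale R R' ∧
      Function.Bijective (Ideal.quotientMap ((I.map (algebraMap A R)).map (algebraMap R R'))
        (algebraMap R R') Ideal.le_comap_map) ∧ Algebra.QuasiFinite A R' := by
  classical
  -- the union of the quasi-finite principal opens
  let U : Set (PrimeSpectrum R) :=
    {q | ∃ r : R, r ∉ q.asIdeal ∧ Algebra.QuasiFinite A (Localization.Away r)}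
  have hUopen : IsOpen U := by
    rw [isOpen_iff_forall_mem_open]
    rintro q ⟨r, hrq, hr⟩
    refine ⟨PrimeSpectrum.basicOpen r, ?_, (PrimeSpectrum.basicOpen r).isOpen, hrq⟩
    intro q' hq'
    exact ⟨r, hq', hr⟩
  have hsub : PrimeSpectrum.zeroLocus ((I.map (algebraMap A R) : Ideal R) : Set R) ⊆ U := by
    intro x hx
    haveI := h x.asIdeal hx
    exact Groth.Agent.Lib.Helper12.exists_notMem_quasiFinite_away (A := A) x.asIdeal
  obtain ⟨f, hf1, hfU⟩ :=
    Groth.Agent.Lib.Helper12.PairNbhd.exists_basicOpen_subset_of_zeroLocus_subset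
      (I.map (algebraMap A R)) U hUopen hsub
  refine ⟨Localization.Away f, inferInstance, inferInstance, inferInstance, inferInstance,
    inferInstance, ?_, ?_⟩
  · exact Groth.Agent.Lib.Helper12.PairNbhd.away_quotient_bijective_of_sub_one_mem _ f hf1
  · apply Groth.Agent.Lib.Helper12.quasiFinite_away_of_forall f
    intro q hfq
    exact hfU hfq

end Groth.Agent.S17595
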