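import Groth.Statements.S17604
import Groth.Agent.Lib.Helper12.EtaleHomLift
import Groth.Agent.Lib.Helper12.HenselPairOps

set_option autoImplicit false
universe u
open Hensel

namespace Groth.Agent.S17604

/-- Let (A, I) be a Henselian pair, R and R' étale A-algebras, and B, B' Henselizations of the pairs (R,
IR), (R', IR') with their induced A-algebra structures (so B and B' are h-étale over A). Then
reduction modulo I is a bijection from A-algebra maps B → B' to A-algebra maps B/IB → B'/IB': two
A-algebra maps B → B' that agree modulo IB' are equal, and every A-algebra map B/IB → B'/IB' is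
induced by an A-algebra map B → B'. -/
theorem result (A : Type u) [CommRing A]
    (I : Ideal A) [HenselianRing A I]
    (R : Type u) [CommRing R] [Algebra A R] [Algebra.Etale A R]
    (B : Type u) [CommRing B] [Algebra R B] [Algebra A B] [IsScalarTower A R B]
    (hB : Hens2.IsPairHenselization R (I.map (algebraMap A R)) B)
    (R' : Type u) [CommRing R'] [Algebra A R'] [Algebra.Etale A R']
    (B' : Type u) [CommRing B'] [Algebra R' B'] [Algebra A B'] [IsScalarTower A R' B']
    (hB' : Hens2.IsPairHenselization R' (I.map (algebraMap A R')) B') :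
    (∀ φ ψ : B →ₐ[A] B', (∀ b : B, φ b - ψ b ∈ I.map (algebraMap A B')) → φ = ψ) ∧
    ∀ χ : (B ⧸ I.map (algebraMap A B)) →ₐ[A] (B' ⧸ I.map (algebraMap A B')),
      ∃ φ : B →ₐ[A] B', ∀ b : B,
        Ideal.Quotient.mk (I.map (algebraMap A B')) (φ b) = χ (Ideal.Quotient.mk (I.map (algebraMap A B)) b) := by
  classical
  have hmapB' : (I.map (algebraMap A R')).map (algebraMap R' B') = I.map (algebraMap A B') := by
    rw [Ideal.map_map, ← IsScalarTower.algebraMap_eq]
  haveI hHB' : HenselianRing B' (I.map (algebraMap A B')) := hmapB' ▸ hB'.1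
  constructor
  · intro φ ψ h
    -- restrictions to `R`
    let φR : R →ₐ[A] B' := φ.comp (IsScalarTower.toAlgHom A R B)
    let ψR : R →ₐ[A] B' := ψ.comp (IsScalarTower.toAlgHom A R B)
    have hR : φR = ψR :=
      Groth.Agent.Lib.Helper12.algHom_eq_of_henselianRing (I.map (algebraMap A B')) φR ψR
        (fun x => h _)
    have hle : (I.map (algebraMap A R)).map (φR : R →+* B') ≤ I.map (algebraMap A B') := by
      rw [Ideal.map_map]
      have : (φR : R →+* B').comp (algebraMap A R) = algebraMap A B' := φR.comp_algebraMap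
      rw [this]
    obtain ⟨g, -, huniq⟩ := hB.2 B' (I.map (algebraMap A B')) (φR : R →+* B') hHB' hle
    have h1 : (φ : B →+* B') = g := huniq _ (by ext x; rfl)
    have h2 : (ψ : B →+* B') = g := huniq _ (by
      ext x
      have := AlgHom.congr_fun hR x
      exact this.symm)
    ext b
    have := RingHom.congr_fun (h1.trans h2.symm) b
    exact this
  · intro χ
    let g₀ : R →ₐ[A] B' ⧸ I.map (algebraMap A B') :=
      (χ.comp (Ideal.Quotient.mkₐ A (I.map (algebraMap A B)))).comp (IsScalarTower.toAlgHom A R B)
    obtain ⟨g, hg⟩ :=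
      Groth.Agent.Lib.Helper12.exists_algHom_lift_of_etale_of_henselianRing
        (I.map (algebraMap A B')) g₀
    have hle : (I.map (algebraMap A R)).map (g : R →+* B') ≤ I.map (algebraMap A B') := by
      rw [Ideal.map_map]
      have : (g : R →+* B').comp (algebraMap A R) = algebraMap A B' := g.comp_algebraMap
      rw [this]
    obtain ⟨φ₀, hφ₀, -⟩ := hB.2 B' (I.map (algebraMap A B')) (g : R →+* B') hHB' hle
    have hφ₀' : ∀ x : R, φ₀ (algebraMap R B x) = g x := fun x => RingHom.congr_fun hφ₀ x
    let φ : B →ₐ[A] B' :=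
      { φ₀ with
        commutes' := by
          intro a
          show φ₀ (algebraMap A B a) = algebraMap A B' a
          rw [IsScalarTower.algebraMap_apply A R B, hφ₀', AlgHom.commutes] }
    refine ⟨φ, ?_⟩
    -- both sides are ring homs `B → B'/IB'` under `R`, target henselian w.r.t. `⊥`
    let q' := Ideal.Quotient.mk (I.map (algebraMap A B'))
    let f₁ : B →+* B' ⧸ I.map (algebraMap A B') := q'.comp φ₀
    let f₂ : B →+* B' ⧸ I.map (algebraMap A B') :=
      (χ : _ →+* _).comp (Ideal.Quotient.mk (I.map (algebraMap A B)))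
    have hbot : HenselianRing (B' ⧸ I.map (algebraMap A B')) ⊥ :=
      Groth.Agent.Lib.Helper12.henselianRing_bot
    have hle0 : (I.map (algebraMap A R)).map (g₀ : R →+* B' ⧸ I.map (algebraMap A B')) ≤
        (⊥ : Ideal (B' ⧸ I.map (algebraMap A B'))) := by
      rw [Ideal.map_map]
      have : (g₀ : R →+* B' ⧸ I.map (algebraMap A B')).comp (algebraMap A R) =
          algebraMap A (B' ⧸ I.map (algebraMap A B')) := g₀.comp_algebraMap
      rw [this, Ideal.map_le_iff_le_comap]
      intro a ha
      rw [Ideal.mem_comap, Ideal.mem_bot,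
        IsScalarTower.algebraMap_apply A B' (B' ⧸ I.map (algebraMap A B')),
        Ideal.Quotient.algebraMap_eq, Ideal.Quotient.eq_zero_iff_mem]
      exact Ideal.mem_map_of_mem _ ha
    obtain ⟨k, -, hkuniq⟩ := hB.2 (B' ⧸ I.map (algebraMap A B')) ⊥
      (g₀ : R →+* B' ⧸ I.map (algebraMap A B')) hbot hle0
    have e1 : f₁ = k := hkuniq _ (by
      ext x
      show q' (φ₀ (algebraMap R B x)) = g₀ x
      rw [hφ₀', hg])
    have e2 : f₂ = k := hkuniq _ (by ext x; rfl)
    intro b
    exact RingHom.congr_fun (e1.trans e2.symm) b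

end Groth.Agent.S17604
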