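import Groth.Statements.S17605
import Groth.Agent.Lib.Helper12.HenselPairOps

set_option autoImplicit false
universe u
open Hensel

namespace Groth.Agent.S17605

/-- Let A be a ring with an ideal I and let f₁, f₂ be elements of A such that D(f₂) ∩ V(I) ⊆ D(f₁) ∩
V(I) in Spec A. If H₁ is a Henselization of the pair (A_{f₁}, IA_{f₁}) and H₂ a Henselization of the
pair (A_{f₂}, IA_{f₂}), with their induced A-algebra structures, then there is exactly one A-algebra
map H₁ → H₂. -/
theorem result (A : Type u) [CommRing A]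
    (I : Ideal A) (f₁ f₂ : A)
    (h : (PrimeSpectrum.basicOpen f₂ : Set (PrimeSpectrum A)) ∩ PrimeSpectrum.zeroLocus (I : Set A) ⊆
      (PrimeSpectrum.basicOpen f₁ : Set (PrimeSpectrum A)) ∩ PrimeSpectrum.zeroLocus (I : Set A))
    (H₁ : Type u) [CommRing H₁] [Algebra (Localization.Away f₁) H₁] [Algebra A H₁]
    [IsScalarTower A (Localization.Away f₁) H₁]
    (hH₁ : Hens2.IsPairHenselization (Localization.Away f₁)
      (I.map (algebraMap A (Localization.Away f₁))) H₁)
    (H₂ : Type u) [CommRing H₂] [Algebra (Localization.Away f₂) H₂] [Algebra A H₂]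
    [IsScalarTower A (Localization.Away f₂) H₂]
    (hH₂ : Hens2.IsPairHenselization (Localization.Away f₂)
      (I.map (algebraMap A (Localization.Away f₂))) H₂) :
    Nonempty (H₁ →ₐ[A] H₂) ∧ Subsingleton (H₁ →ₐ[A] H₂) := by
  classical
  have hmap₂ : (I.map (algebraMap A (Localization.Away f₂))).map
      (algebraMap (Localization.Away f₂) H₂) = I.map (algebraMap A H₂) := by
    rw [Ideal.map_map, ← IsScalarTower.algebraMap_eq]
  haveI hH : HenselianRing H₂ (I.map (algebraMap A H₂)) := hmap₂ ▸ hH₂.1
  -- `f₁` is a unit in `H₂`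
  have hunit : IsUnit (algebraMap A H₂ f₁) := by
    -- enough modulo `I H₂`
    have hjac : I.map (algebraMap A H₂) ≤ Ideal.jacobson ⊥ := HenselianRing.jac
    by_contra hnu
    obtain ⟨M, hM, hfM⟩ := exists_max_ideal_of_mem_nonunits (show algebraMap A H₂ f₁ ∈ nonunits H₂ from hnu)
    have hIM : I.map (algebraMap A H₂) ≤ M := by
      refine hjac.trans ?_
      rw [Ideal.jacobson_bot]
      exact Ring.jacobson_le_of_isMaximal M |>.trans le_rfl
    let p : PrimeSpectrum A := ⟨M.comap (algebraMap A H₂), inferInstance⟩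
    have hp2 : p ∈ (PrimeSpectrum.basicOpen f₂ : Set (PrimeSpectrum A)) := by
      show f₂ ∉ M.comap (algebraMap A H₂)
      intro hf2
      rw [Ideal.mem_comap] at hf2
      have hu : IsUnit (algebraMap A H₂ f₂) := by
        rw [IsScalarTower.algebraMap_apply A (Localization.Away f₂) H₂]
        exact (IsLocalization.Away.algebraMap_isUnit (S := Localization.Away f₂) f₂).map _
      exact hM.ne_top (Ideal.eq_top_of_isUnit_mem _ hf2 hu)
    have hpI : p ∈ PrimeSpectrum.zeroLocus (I : Set A) := by
      intro a ha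
      show a ∈ M.comap (algebraMap A H₂)
      rw [Ideal.mem_comap]
      exact hIM (Ideal.mem_map_of_mem _ ha)
    have := (h ⟨hp2, hpI⟩).1
    exact this hfM
  -- the map `A_{f₁} → H₂`
  let g : Localization.Away f₁ →+* H₂ := IsLocalization.Away.lift (S := Localization.Away f₁) f₁ hunit
  have hg : g.comp (algebraMap A (Localization.Away f₁)) = algebraMap A H₂ :=
    IsLocalization.Away.lift_comp (S := Localization.Away f₁) f₁ hunit
  have hle : (I.map (algebraMap A (Localization.Away f₁))).map g ≤ I.map (algebraMap A H₂) := by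
    rw [Ideal.map_map, hg]
  obtain ⟨φ₀, hφ₀, huniq⟩ := hH₁.2 H₂ (I.map (algebraMap A H₂)) g hH hle
  constructor
  · refine ⟨{ φ₀ with commutes' := ?_ }⟩
    intro a
    show φ₀ (algebraMap A H₁ a) = algebraMap A H₂ a
    rw [IsScalarTower.algebraMap_apply A (Localization.Away f₁) H₁]
    have := RingHom.congr_fun hφ₀ (algebraMap A (Localization.Away f₁) a)
    rw [RingHom.comp_apply] at this
    rw [this]
    exact RingHom.congr_fun hg a
  · constructor
    intro φ ψ
    have key : ∀ χ : H₁ →ₐ[A] H₂, (χ : H₁ →+* H₂) = φ₀ := by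
      intro χ
      apply huniq
      apply IsLocalization.ringHom_ext (Submonoid.powers f₁)
      rw [RingHom.comp_assoc, hg, ← IsScalarTower.algebraMap_eq]
      exact χ.comp_algebraMap
    ext b
    exact RingHom.congr_fun ((key φ).trans (key ψ).symm) b

end Groth.Agent.S17605
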