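import Groth.Statements.S17607
import Groth.Agent.Lib.Helper12.HfpIff

set_option autoImplicit false
universe u
open Hensel

namespace Groth.Agent.S17607

/-- Let (A, I) and (B, IB) be Henselian pairs with B an A-algebra. Then the following are equivalent:
(i) A → B is Henselian finitely presented, i.e. there are n, a Henselization P of the pair
(A[X₁,…,Xₙ], I·A[X₁,…,Xₙ]) (a Henselized polynomial ring) and a surjective A-algebra map P → B with
finitely generated kernel; (ii) there are a finitely presented A-algebra R and an R-algebra
structure on B compatible with that of A for which B is a Henselization of the pair (R, IR). -/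
theorem result (A : Type u) [CommRing A] (I : Ideal A)
    [HenselianRing A I] (B : Type u) [CommRing B] [Algebra A B]
    [HenselianRing B (I.map (algebraMap A B))] :
    (∃ (n : ℕ) (P : Type u) (_ : CommRing P) (_ : Algebra (MvPolynomial (Fin n) A) P) (_ : Algebra A P)
        (_ : IsScalarTower A (MvPolynomial (Fin n) A) P),
        Hens2.IsPairHenselization (MvPolynomial (Fin n) A)
          (I.map (algebraMap A (MvPolynomial (Fin n) A))) P ∧
        ∃ φ : P →ₐ[A] B, Function.Surjective φ ∧ (RingHom.ker φ).FG) ↔
    ∃ (R : Type u) (_ : CommRing R) (_ : Algebra A R) (_ : Algebra R B) (_ : IsScalarTower A R B),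
      Algebra.FinitePresentation A R ∧ Hens2.IsPairHenselization R (I.map (algebraMap A R)) B := by
  constructor
  · rintro ⟨n, P, _, _, _, _, hP, φ, hφ, hker⟩
    exact Groth.Agent.Lib.Helper12.Hfp.exists_fp_of_surjective A I (MvPolynomial (Fin n) A) P hP B φ
      hφ hker
  · rintro ⟨R, _, _, _, _, hfp, hB⟩
    obtain ⟨n, π, hπ, hfg⟩ := Algebra.FinitePresentation.out (R := A) (A := R)
    have hP := Groth.Agent.Lib.Helper12.PairNbhd.Lim.isPairHenselization (MvPolynomial (Fin n) A)
      (I.map (algebraMap A (MvPolynomial (Fin n) A)))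
    letI : Algebra A (Groth.Agent.Lib.Helper12.PairNbhd.Lim (MvPolynomial (Fin n) A)
        (I.map (algebraMap A (MvPolynomial (Fin n) A)))) :=
      ((algebraMap (MvPolynomial (Fin n) A) _).comp (algebraMap A (MvPolynomial (Fin n) A))).toAlgebra
    haveI : IsScalarTower A (MvPolynomial (Fin n) A)
        (Groth.Agent.Lib.Helper12.PairNbhd.Lim (MvPolynomial (Fin n) A)
        (I.map (algebraMap A (MvPolynomial (Fin n) A)))) :=
      IsScalarTower.of_algebraMap_eq fun _ => rfl
    obtain ⟨φ, hφ, hker⟩ := Groth.Agent.Lib.Helper12.Hfp.exists_surjective_of_fp A I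
      (MvPolynomial (Fin n) A) _ hP R π hπ B hB
    refine ⟨n, _, inferInstance, inferInstance, inferInstance, inferInstance, hP, φ, hφ, ?_⟩
    rw [hker]
    exact Ideal.FG.map hfg _

end Groth.Agent.S17607
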