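import Groth.Statements.S17613
import Groth.Agent.Lib.Helper12.FPDirectLimit

set_option autoImplicit false
universe u
open Hensel

namespace Groth.Agent.S17613

/-- Let (A, I) be a Henselian pair and let B be a Henselization of the pair (R₀, IR₀) for a finitely
presented A-algebra R₀ (so A → B is Henselian finitely presented). Let (R_a) be a directed system of
A-algebras with A-compatible transition maps such that each (R_a, IR_a) is a Henselian pair, and let
L be its direct limit with the induced A-algebra structure. Then the canonical map from the colimit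
of the Hom_A(B, R_a) to Hom_A(B, L) is bijective: every A-algebra map B → L factors through some
R_a, and two A-algebra maps B → R_a whose composites with R_a → L agree become equal after passing
to some R_b. (Index set in the universe of the rings.) -/
theorem result (A : Type u) [CommRing A] (I : Ideal A)
    [HenselianRing A I] (R₀ : Type u) [CommRing R₀] [Algebra A R₀] [Algebra.FinitePresentation A R₀]
    (B : Type u) [CommRing B] [Algebra R₀ B] [Algebra A B] [IsScalarTower A R₀ B]
    (hB : Hens2.IsPairHenselization R₀ (I.map (algebraMap A R₀)) B)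
    {κ : Type u} [Preorder κ] [IsDirectedOrder κ] [Nonempty κ]
    (Ra : κ → Type u) [∀ a, CommRing (Ra a)] [∀ a, Algebra A (Ra a)]
    [∀ a, HenselianRing (Ra a) (I.map (algebraMap A (Ra a)))]
    (t : ∀ a b : κ, a ≤ b → (Ra a →+* Ra b)) [DirectedSystem Ra (fun a b h => t a b h)]
    (ht : ∀ (a b : κ) (h : a ≤ b), (t a b h).comp (algebraMap A (Ra a)) = algebraMap A (Ra b))
    [Algebra A (DirectLimit Ra t)]
    (halg : ∀ (a : κ) (x : A), algebraMap A (DirectLimit Ra t) x =
      DirectLimit.Ring.of Ra t a (algebraMap A (Ra a) x)) :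
    (∀ χ : B →ₐ[A] DirectLimit Ra t, ∃ (a : κ) (φ : B →ₐ[A] Ra a),
        ∀ x : B, DirectLimit.Ring.of Ra t a (φ x) = χ x) ∧
    ∀ (a : κ) (φ ψ : B →ₐ[A] Ra a),
      (∀ x : B, DirectLimit.Ring.of Ra t a (φ x) = DirectLimit.Ring.of Ra t a (ψ x)) →
      ∃ (b : κ) (h : a ≤ b), ∀ x : B, t a b h (φ x) = t a b h (ψ x) := by
  classical
  -- the limit pair is henselian
  let J : ∀ a, Ideal (Ra a) := fun a => I.map (algebraMap A (Ra a))
  have hJ : ∀ (a b : κ) (h : a ≤ b), (J a).map (t a b h) ≤ J b := by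
    intro a b h
    show (I.map (algebraMap A (Ra a))).map (t a b h) ≤ I.map (algebraMap A (Ra b))
    rw [Ideal.map_map, ht a b h]
  have hHL := Groth.Agent.Lib.Helper12.PairDirectLimit.henselianRing_limIdeal Ra t J hJ
  have hcomp : ∀ a, (DirectLimit.Ring.of Ra t a).comp (algebraMap A (Ra a)) =
      algebraMap A (DirectLimit Ra t) := by
    intro a
    ext x
    exact (halg a x).symm
  have hideal : Groth.Agent.Lib.Helper12.PairDirectLimit.limIdeal Ra t J =
      I.map (algebraMap A (DirectLimit Ra t)) := by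
    show ⨆ a, (I.map (algebraMap A (Ra a))).map (DirectLimit.Ring.of Ra t a) = _
    simp_rw [Ideal.map_map, hcomp]
    exact ciSup_const
  have hHL' : HenselianRing (DirectLimit Ra t) (I.map (algebraMap A (DirectLimit Ra t))) :=
    hideal ▸ hHL
  have hle : ∀ {C : Type u} [CommRing C] [Algebra A C] (g : R₀ →ₐ[A] C),
      (I.map (algebraMap A R₀)).map (g : R₀ →+* C) ≤ I.map (algebraMap A C) := by
    intro C _ _ g
    rw [Ideal.map_map]
    have : (g : R₀ →+* C).comp (algebraMap A R₀) = algebraMap A C := g.comp_algebraMap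
    rw [this]
  constructor
  · intro χ
    let χ₀ : R₀ →ₐ[A] DirectLimit Ra t := χ.comp (IsScalarTower.toAlgHom A R₀ B)
    obtain ⟨a, g, hg⟩ :=
      Groth.Agent.Lib.Helper12.FPDirectLimit.exists_algHom_of_finitePresentation Ra t ht halg χ₀
    obtain ⟨φ₀, hφ₀, -⟩ := hB.2 (Ra a) (I.map (algebraMap A (Ra a))) (g : R₀ →+* Ra a)
      inferInstance (hle g)
    have hφ₀' : ∀ x : R₀, φ₀ (algebraMap R₀ B x) = g x := fun x => RingHom.congr_fun hφ₀ x
    let φ : B →ₐ[A] Ra a :=
      { φ₀ with
        commutes' := by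
          intro x
          show φ₀ (algebraMap A B x) = algebraMap A (Ra a) x
          rw [IsScalarTower.algebraMap_apply A R₀ B, hφ₀', AlgHom.commutes] }
    refine ⟨a, φ, ?_⟩
    obtain ⟨k, -, hkuniq⟩ := hB.2 (DirectLimit Ra t) (I.map (algebraMap A (DirectLimit Ra t)))
      (χ₀ : R₀ →+* DirectLimit Ra t) hHL' (hle χ₀)
    have e1 : (DirectLimit.Ring.of Ra t a).comp φ₀ = k := hkuniq _ (by
      ext x
      show DirectLimit.Ring.of Ra t a (φ₀ (algebraMap R₀ B x)) = χ₀ x
      rw [hφ₀', hg])
    have e2 : (χ : B →+* DirectLimit Ra t) = k := hkuniq _ (by ext x; rfl)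
    intro x
    exact RingHom.congr_fun (e1.trans e2.symm) x
  · intro a φ ψ h
    let φ₀ : R₀ →ₐ[A] Ra a := φ.comp (IsScalarTower.toAlgHom A R₀ B)
    let ψ₀ : R₀ →ₐ[A] Ra a := ψ.comp (IsScalarTower.toAlgHom A R₀ B)
    obtain ⟨b, hab, hb⟩ :=
      Groth.Agent.Lib.Helper12.FPDirectLimit.exists_eq_of_finiteType Ra t ht a φ₀ ψ₀
        (fun x => h _)
    refine ⟨b, hab, ?_⟩
    let g' : R₀ →ₐ[A] Ra b :=
      (Groth.Agent.Lib.Helper12.FPDirectLimit.tAlg Ra t ht a b hab).comp φ₀
    obtain ⟨k, -, hkuniq⟩ := hB.2 (Ra b) (I.map (algebraMap A (Ra b))) (g' : R₀ →+* Ra b)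
      inferInstance (hle g')
    have e1 : (t a b hab).comp (φ : B →+* Ra a) = k := hkuniq _ (by ext x; rfl)
    have e2 : (t a b hab).comp (ψ : B →+* Ra a) = k := hkuniq _ (by
      ext x
      exact (hb x).symm)
    intro x
    exact RingHom.congr_fun (e1.trans e2.symm) x

end Groth.Agent.S17613
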