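import Groth.Statements.S17616
-- import your own Groth.Agent.* helpers here

set_option autoImplicit false
universe u
open Hensel

namespace Groth.Agent.S17616

/-- Let P be a property of ring maps (between rings in a fixed universe), and say that f : B → B' has P
at a prime q of B' if the composite B → B' → B'_g has P for some g ∉ q. Assume (i) for every
finitely presented f : B → B' the set of primes of B' at which f has P is ind-constructible in Spec
B', and f has P as soon as it has P at every prime; (ii) every étale ring map has P; (iii) for g : C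
→ C' and h : C' → C'', if h has P at a prime q of C'' and g has P at the inverse image of q in C',
then h ∘ g has P at q. Now suppose (A, I) is a Henselian pair, and take an A-algebra R of finite
presentation for which A → R has P at each prime of R that contains IR. Then there is an étale
R-algebra R' with R/IR → R'/IR' bijective such that A → R' has P. -/
theorem result
    (P : ∀ ⦃B B' : Type u⦄ [CommRing B] [CommRing B'], (B →+* B') → Prop)
    (PAt : ∀ ⦃B B' : Type u⦄ [CommRing B] [CommRing B'], (B →+* B') → Ideal B' → Prop)
    (hPAt : ∀ ⦃B B' : Type u⦄ [CommRing B] [CommRing B'] (f : B →+* B') (q : Ideal B'),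
      PAt f q ↔ ∃ g : B', g ∉ q ∧ P ((algebraMap B' (Localization.Away g)).comp f))
    (h₁ : ∀ ⦃B B' : Type u⦄ [CommRing B] [CommRing B'] (f : B →+* B'), f.FinitePresentation →
      ProCons.IsIndConstructible {q : PrimeSpectrum B' | PAt f q.asIdeal} ∧
        ((∀ q : PrimeSpectrum B', PAt f q.asIdeal) → P f))
    (h₂ : ∀ ⦃B B' : Type u⦄ [CommRing B] [CommRing B'] (f : B →+* B'), f.Etale → P f)
    (h₃ : ∀ ⦃C C' C'' : Type u⦄ [CommRing C] [CommRing C'] [CommRing C''] (g : C →+* C')
      (h : C' →+* C'') (q : Ideal C'') [q.IsPrime],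
      PAt h q → PAt g (q.comap h) → PAt (h.comp g) q)
    (A : Type u) [CommRing A] (I : Ideal A) [HenselianRing A I]
    (R : Type u) [CommRing R] [Algebra A R] [Algebra.FinitePresentation A R]
    (hR : ∀ (p : Ideal R) [p.IsPrime], I.map (algebraMap A R) ≤ p → PAt (algebraMap A R) p) :
    ∃ (R' : Type u) (_ : CommRing R') (_ : Algebra R R') (_ : Algebra A R') (_ : IsScalarTower A R R'),
      Algebra.Etale R R' ∧
      Function.Bijective (Ideal.quotientMap ((I.map (algebraMap A R)).map (algebraMap R R'))
        (algebraMap R R') Ideal.le_comap_map) ∧ P (algebraMap A R') := by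
  classical
  set IR := I.map (algebraMap A R) with hIR
  set G : Set R := {g | P ((algebraMap R (Localization.Away g)).comp (algebraMap A R))} with hG
  have hJ : Ideal.span G ⊔ IR = ⊤ := by
    by_contra hne
    obtain ⟨m, hm, hle⟩ := Ideal.exists_le_maximal _ hne
    haveI := hm.isPrime
    obtain ⟨g, hgm, hPg⟩ := (hPAt _ _).1 (hR m (le_sup_right.trans hle))
    exact hgm (hle (Ideal.mem_sup_left (Ideal.subset_span hPg)))
  obtain ⟨j, hj, i, hi, hji⟩ := Submodule.mem_sup.1 ((Ideal.eq_top_iff_one _).1 hJ)
  -- powers of j are 1 mod IR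
  have hpow : ∀ n : ℕ, 1 - j ^ n ∈ IR := by
    intro n
    have h1 : (1 : R) - j ∈ IR := by
      have : (1 : R) - j = i := by rw [← hji]; ring
      rw [this]; exact hi
    have h2 : (1 : R) - j ^ n = (1 - j) * (Finset.range n).sum (fun k => j ^ k) :=
      (mul_neg_geom_sum j n).symm
    rw [h2]
    exact IR.mul_mem_right _ h1
  let R' := Localization.Away j
  letI algAR' : Algebra A R' := inferInstance
  haveI : IsScalarTower A R R' := inferInstance
  haveI hEt : Algebra.Etale R R' := Algebra.Etale.of_isLocalizationAway j
  refine ⟨R', inferInstance, inferInstance, algAR', inferInstance, hEt, ⟨?_, ?_⟩, ?_⟩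
  · -- injective
    apply Ideal.quotientMap_injective'
    intro x hx
    rw [Ideal.mem_comap, IsLocalization.algebraMap_mem_map_algebraMap_iff (Submonoid.powers j)] at hx
    obtain ⟨m, ⟨n, rfl⟩, hm⟩ := hx
    have : x = j ^ n * x + (1 - j ^ n) * x := by ring
    rw [this]
    exact IR.add_mem hm (IR.mul_mem_right _ (hpow n))
  · -- surjective
    intro y
    obtain ⟨y, rfl⟩ := Ideal.Quotient.mk_surjective y
    obtain ⟨r, ⟨_, ⟨n, rfl⟩⟩, rfl⟩ := IsLocalization.exists_mk'_eq (Submonoid.powers j) y
    refine ⟨Ideal.Quotient.mk _ r, ?_⟩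
    rw [Ideal.quotientMap_mk, Ideal.Quotient.eq]
    have hspec := IsLocalization.mk'_spec R' r (⟨j ^ n, ⟨n, rfl⟩⟩ : Submonoid.powers j)
    simp only at hspec
    set z := IsLocalization.mk' R' r (⟨j ^ n, ⟨n, rfl⟩⟩ : Submonoid.powers j) with hz
    have : algebraMap R R' r - z = - (z * algebraMap R R' (1 - j ^ n)) := by
      rw [← hspec, map_sub, map_one]; ring
    rw [this]
    exact neg_mem (Ideal.mul_mem_left _ _ (Ideal.mem_map_of_mem _ (hpow n)))
  · -- P
    have hfp : (algebraMap A R').FinitePresentation := by
      have h1 : (algebraMap A R).FinitePresentation :=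
        RingHom.finitePresentation_algebraMap.2 inferInstance
      have h2 : (algebraMap R R').FinitePresentation :=
        RingHom.finitePresentation_algebraMap.2 hEt.finitePresentation
      rw [IsScalarTower.algebraMap_eq A R R']
      exact h2.comp h1
    refine (h₁ _ hfp).2 fun q => ?_
    have hcomp : algebraMap A R' = (algebraMap R R').comp (algebraMap A R) :=
      IsScalarTower.algebraMap_eq A R R'
    rw [hcomp]
    refine h₃ _ _ q.asIdeal ?_ ?_
    · rw [hPAt]
      refine ⟨1, fun h => q.isPrime.ne_top ((Ideal.eq_top_iff_one _).2 h), h₂ _ ?_⟩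
      have e1 : (algebraMap R' (Localization.Away (1 : R'))).Etale :=
        RingHom.etale_algebraMap.2 (Algebra.Etale.of_isLocalizationAway (1 : R'))
      have e2 : (algebraMap R R').Etale := RingHom.etale_algebraMap.2 hEt
      exact RingHom.Etale.stableUnderComposition _ _ e2 e1
    · rw [hPAt]
      by_contra hcon
      push Not at hcon
      have hle : Ideal.span G ≤ q.asIdeal.comap (algebraMap R R') :=
        Ideal.span_le.2 fun g hg => by_contra fun hgq => hcon g hgq hg
      have hjq : algebraMap R R' j ∈ q.asIdeal := hle hj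
      exact q.isPrime.ne_top
        (Ideal.eq_top_of_isUnit_mem _ hjq (IsLocalization.Away.algebraMap_isUnit j))

end Groth.Agent.S17616
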