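import Groth.Statements.S17617
import Mathlib
import Groth.Agent.Lib.Helper12.PairTrunc

set_option autoImplicit false
universe u
open Hensel

namespace Groth.Agent.S17617

open TensorProduct Groth.Agent.Lib.Helper12 in
/-- For a flat `A`-algebra `H` and `n : N` with `1 ⊗ n = 0` in `H ⊗ N`, one has `1 ∈ Ann(n) H`. -/
theorem one_mem_of_tmul_eq_zero {A : Type*} [CommRing A] (H : Type*) [CommRing H] [Algebra A H]
    [Module.Flat A H] {N : Type*} [AddCommGroup N] [Module A N] (n : N)
    (h : (1 : H) ⊗ₜ[A] n = 0) :
    (1 : H) ∈ Ideal.map (algebraMap A H) (LinearMap.ker (LinearMap.toSpanSingleton A N n)) := by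
  set φ := LinearMap.toSpanSingleton A N n with hφ
  set 𝔞 : Ideal A := LinearMap.ker φ with h𝔞
  let ι : (A ⧸ 𝔞) →ₗ[A] N := Submodule.liftQ 𝔞 φ le_rfl
  have hι : Function.Injective ι := by
    rw [← LinearMap.ker_eq_bot]
    exact Submodule.ker_liftQ_eq_bot _ _ _ le_rfl
  have hinj : Function.Injective (ι.lTensor H) :=
    Module.Flat.lTensor_preserves_injective_linearMap ι hι
  have h1 : (1 : H) ⊗ₜ[A] (Ideal.Quotient.mk 𝔞 1) = 0 := by
    apply hinj
    rw [map_zero, LinearMap.lTensor_tmul]
    have : ι (Ideal.Quotient.mk 𝔞 1) = n := by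
      change φ 1 = n
      simp [hφ]
    rw [this, h]
  have h2 := congrArg (TensorProduct.tensorQuotEquivQuotSMul H 𝔞) h1
  rw [TensorProduct.tensorQuotEquivQuotSMul_tmul_mk, map_zero, one_smul,
    Submodule.Quotient.mk_eq_zero, Ideal.smul_top_eq_map] at h2
  exact h2

/-- Let (A, I) be a Henselian pair and let M' → M → M'' be A-linear maps with zero composite. Then M' →
M → M'' is exact if and only if for every prime ideal p of A containing I and every Henselization H
of the pair (A_p, IA_p), the sequence H ⊗_A M' → H ⊗_A M → H ⊗_A M'' is exact. (The modules H ⊗_A M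
are the stalks at p of the sheaf associated to M on the affine Henselian scheme of (A, I), and
exactness of a sequence of such sheaves is exactness at every stalk, so this is the statement that
the sequence of modules is exact exactly when the associated sequence of sheaves is.) -/
theorem result (A : Type u) [CommRing A]
    (I : Ideal A) [HenselianRing A I]
    (M' M M'' : Type u) [AddCommGroup M'] [Module A M'] [AddCommGroup M] [Module A M]
    [AddCommGroup M''] [Module A M''] (f : M' →ₗ[A] M) (g : M →ₗ[A] M'') (hfg : g.comp f = 0) :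
    Function.Exact f g ↔
    ∀ (p : Ideal A) [p.IsPrime], I ≤ p →
      ∀ (H : Type u) [CommRing H] [Algebra (Localization.AtPrime p) H] [Algebra A H]
        [IsScalarTower A (Localization.AtPrime p) H],
        Hens2.IsPairHenselization (Localization.AtPrime p)
          (I.map (algebraMap A (Localization.AtPrime p))) H →
        Function.Exact (f.baseChange H) (g.baseChange H) := by
  classical
  constructor
  · intro hex p _ hp H _ _ _ _ hH
    haveI : Module.Flat (Localization.AtPrime p) H :=
      Groth.Agent.Lib.Helper12.PairUnique.flat_of_isPairHenselization hH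
    haveI : Module.Flat A H := Module.Flat.trans A (Localization.AtPrime p) H
    rw [LinearMap.baseChange_eq_ltensor, LinearMap.baseChange_eq_ltensor]
    exact Module.Flat.lTensor_exact H hex
  · intro hH
    rw [LinearMap.exact_iff]
    apply le_antisymm
    · intro x hx
      rw [LinearMap.mem_ker] at hx
      by_contra hxf
      set n : M ⧸ LinearMap.range f := Submodule.Quotient.mk x with hn
      set 𝔞 : Ideal A := LinearMap.ker (LinearMap.toSpanSingleton A (M ⧸ LinearMap.range f) n)
        with h𝔞
      have h𝔞top : 𝔞 ≠ ⊤ := by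
        intro h
        have h1 : (1 : A) ∈ 𝔞 := h ▸ Submodule.mem_top
        rw [h𝔞, LinearMap.mem_ker, LinearMap.toSpanSingleton_apply, one_smul, hn,
          Submodule.Quotient.mk_eq_zero] at h1
        exact hxf h1
      obtain ⟨𝔪, hmax, hle⟩ := Ideal.exists_le_maximal 𝔞 h𝔞top
      haveI := hmax
      have hI : I ≤ 𝔪 := by
        intro a ha
        have := (HenselianRing.jac (R := A) (I := I)) ha
        rw [Ideal.jacobson, Submodule.mem_sInf] at this
        exact this 𝔪 ⟨bot_le, hmax⟩
      let Ap := Localization.AtPrime 𝔪
      let H := Groth.Agent.Lib.Helper12.PairNbhd.Lim Ap (I.map (algebraMap A Ap))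
      letI : Algebra A H := ((algebraMap Ap H).comp (algebraMap A Ap)).toAlgebra
      haveI : IsScalarTower A Ap H := IsScalarTower.of_algebraMap_eq (fun _ => rfl)
      have hHens := Groth.Agent.Lib.Helper12.PairNbhd.Lim.isPairHenselization Ap
        (I.map (algebraMap A Ap))
      have hex := hH 𝔪 hI H hHens
      haveI : Module.Flat Ap H :=
        Groth.Agent.Lib.Helper12.PairUnique.flat_of_isPairHenselization hHens
      haveI : Module.Flat A H := Module.Flat.trans A Ap H
      obtain ⟨y, hy⟩ := (hex ((1 : H) ⊗ₜ[A] x)).mp (by
        rw [LinearMap.baseChange_tmul, hx, TensorProduct.tmul_zero])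
      have h0 : (1 : H) ⊗ₜ[A] n = 0 := by
        have e1 : (1 : H) ⊗ₜ[A] n =
            ((LinearMap.range f).mkQ.baseChange H) ((1 : H) ⊗ₜ[A] x) := by
          rw [LinearMap.baseChange_tmul]; rfl
        rw [e1, ← hy, ← LinearMap.comp_apply, ← LinearMap.baseChange_comp]
        have : (LinearMap.range f).mkQ ∘ₗ f = 0 := by
          ext z
          simp
        rw [this, LinearMap.baseChange_zero, LinearMap.zero_apply]
      have h1 := one_mem_of_tmul_eq_zero H n h0
      obtain ⟨χ, hχ, -⟩ := hHens.2 (IsLocalRing.ResidueField Ap) ⊥ (IsLocalRing.residue Ap)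
        inferInstance (by
          rw [Ideal.map_map, Ideal.map_le_iff_le_comap]
          intro a ha
          rw [Ideal.mem_comap, Ideal.mem_bot, RingHom.comp_apply, IsLocalRing.residue_eq_zero_iff,
            IsLocalization.AtPrime.to_map_mem_maximal_iff (Localization.AtPrime 𝔪) 𝔪]
          exact hI ha)
      have hker : Ideal.map (algebraMap A H) 𝔞 ≤ RingHom.ker χ := by
        rw [Ideal.map_le_iff_le_comap]
        intro a ha
        rw [Ideal.mem_comap, RingHom.mem_ker]
        have : algebraMap A H a = algebraMap Ap H (algebraMap A Ap a) := rfl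
        rw [this, ← RingHom.comp_apply, hχ, IsLocalRing.residue_eq_zero_iff,
          IsLocalization.AtPrime.to_map_mem_maximal_iff (Localization.AtPrime 𝔪) 𝔪]
        exact hle ha
      have := hker h1
      rw [RingHom.mem_ker, map_one] at this
      exact one_ne_zero this
    · rintro _ ⟨z, rfl⟩
      rw [LinearMap.mem_ker, ← LinearMap.comp_apply, hfg, LinearMap.zero_apply]

end Groth.Agent.S17617
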