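import Groth.Statements.S17618
import Groth.Agent.Lib.Helper12.HfpCompact3

set_option autoImplicit false
universe u
open Hensel

namespace Groth.Agent.S17618

/-- Let (A, I) and (B, IB) be Henselian pairs with B an A-algebra. Assume that for every directed system
(R_a) of A-algebras with A-compatible transition maps such that each (R_a, IR_a) is a Henselian
pair, with direct limit L carrying the induced A-algebra structure, the canonical map from the
colimit of the Hom_A(B, R_a) to Hom_A(B, L) is bijective (every A-algebra map B → L factors through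
some R_a, and two A-algebra maps B → R_a with equal composites to L agree after passing to some
R_b). Then A → B is Henselian finitely presented: there are a finitely presented A-algebra R and an
R-algebra structure on B compatible with that of A for which B is a Henselization of the pair (R,
IR). (Index sets in the universe of the rings.) -/
theorem result (A : Type u) [CommRing A] (I : Ideal A)
    [HenselianRing A I] (B : Type u) [CommRing B] [Algebra A B]
    [HenselianRing B (I.map (algebraMap A B))]
    (h : ∀ (κ : Type u) [Preorder κ] [IsDirectedOrder κ] [Nonempty κ]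
      (Ra : κ → Type u) [∀ a, CommRing (Ra a)] [∀ a, Algebra A (Ra a)]
      [∀ a, HenselianRing (Ra a) (I.map (algebraMap A (Ra a)))]
      (t : ∀ a b : κ, a ≤ b → (Ra a →+* Ra b)) [DirectedSystem Ra (fun a b hab => t a b hab)],
      (∀ (a b : κ) (hab : a ≤ b), (t a b hab).comp (algebraMap A (Ra a)) = algebraMap A (Ra b)) →
      ∀ [Algebra A (DirectLimit Ra t)],
      (∀ (a : κ) (x : A), algebraMap A (DirectLimit Ra t) x =
        DirectLimit.Ring.of Ra t a (algebraMap A (Ra a) x)) →
      (∀ χ : B →ₐ[A] DirectLimit Ra t, ∃ (a : κ) (φ : B →ₐ[A] Ra a),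
          ∀ x : B, DirectLimit.Ring.of Ra t a (φ x) = χ x) ∧
      ∀ (a : κ) (φ ψ : B →ₐ[A] Ra a),
        (∀ x : B, DirectLimit.Ring.of Ra t a (φ x) = DirectLimit.Ring.of Ra t a (ψ x)) →
        ∃ (b : κ) (hab : a ≤ b), ∀ x : B, t a b hab (φ x) = t a b hab (ψ x)) :
    ∃ (R : Type u) (_ : CommRing R) (_ : Algebra A R) (_ : Algebra R B) (_ : IsScalarTower A R B),
      Algebra.FinitePresentation A R ∧ Hens2.IsPairHenselization R (I.map (algebraMap A R)) B := by
  open Groth.Agent.Lib.Helper12 Groth.Agent.Lib.Helper12.HfpCompact
    Groth.Agent.Lib.Helper12.PairNbhd in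
  classical
  have hc : Compact I B := fun κ _ _ _ Ra _ _ _ t _ ht _ halg => (h κ Ra t ht halg).1
  obtain ⟨s, hsurj⟩ := exists_finset_surjective (A := A) (I := I) (B := B) hc
  letI algH : Algebra A (Hs A I B s) :=
    ((algebraMap (Q A B s) (Hs A I B s)).comp (algebraMap A (Q A B s))).toAlgebra
  haveI : IsScalarTower A (Q A B s) (Hs A I B s) := IsScalarTower.of_algebraMap_eq fun _ => rfl
  let Φ' : Hs A I B s →ₐ[A] B :=
    { Φ A I B s with
      commutes' := fun a => by
        show Φ A I B s (algebraMap (Q A B s) (Hs A I B s) (algebraMap A (Q A B s) a)) =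
          algebraMap A B a
        rw [Φ_algebraMap, AlgHom.commutes] }
  have hH := Lim.isPairHenselization (Q A B s) (I.map (algebraMap A (Q A B s)))
  have hfg : (RingHom.ker Φ').FG := fg_ker_of_compact hc s (Hs A I B s) hH Φ' hsurj
  exact Hfp.exists_fp_of_surjective A I (Q A B s) (Hs A I B s) hH B Φ' hsurj hfg

end Groth.Agent.S17618
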