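import Groth.Statements.S17619
-- import your own Groth.Agent.* helpers here
import Groth.Agent.Lib.Helper23.ComplInjJ
import Groth.Agent.Lib.Helper23.AssTensor
import Groth.Agent.S1223

set_option autoImplicit false
universe u
open FlatMor

namespace Groth.Agent.S17619

open scoped TensorProduct in
attribute [local instance] Algebra.TensorProduct.rightAlgebra in
/-- associated primes of `B ⊗ Q` meet the section -/
lemma sup_ne_top (A : Type u) [CommRing A] [IsNoetherianRing A] (B : Type u) [CommRing B]
    [Algebra A B] [IsNoetherianRing B] [Module.Flat A B]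
    (hfib : FlatCA.GeomIntegralFibres A B) (u : B →ₐ[A] A)
    (Q : Type u) [AddCommGroup Q] [Module A Q] [Module.Finite A Q]
    (P : Ideal B) (hP : P ∈ associatedPrimes B (B ⊗[A] Q)) : RingHom.ker u ⊔ P ≠ ⊤ := by
  obtain ⟨p₀, hp₀⟩ := Groth.Agent.Lib.Helper23.AssTensor.exists_prime_of_mem_ass B Q P hP
  have hprime : P.IsPrime := hP.isPrime
  have hover : P.comap (algebraMap A B) = p₀.asIdeal :=
    Groth.Agent.Lib.Helper23.AssTensor.under_eq B p₀.asIdeal P hp₀
  haveI : P.LiesOver p₀.asIdeal := ⟨hover.symm⟩
  have hass := Groth.Agent.Lib.Helper23.AssTensor.fiberIdeal_mem_ass p₀.asIdeal B P hp₀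
  have hpo : Algebra.IsPushout A B A B := ⟨IsBaseChange.linearMap A B⟩
  haveI := Groth.Agent.S1223.isDomain_fiber hpo hfib p₀.asIdeal
  have hbc : IsBaseChange B (LinearMap.id : B →ₗ[B] B) :=
    IsBaseChange.ofEquiv (LinearEquiv.refl B B)
  have hbot : FlatCA.fiberIdeal p₀.asIdeal P = ⊥ := by
    apply Groth.Agent.S1223.ass_domain
    rw [← LinearEquiv.AssociatedPrimes.eq
      (Groth.Agent.S1223.fiberModEquiv (LinearMap.id : B →ₗ[B] B) hbc p₀.asIdeal)]
    exact hass
  -- the prime `u⁻¹ p₀` contains both
  have hle : RingHom.ker u ⊔ P ≤ p₀.asIdeal.comap u.toRingHom := by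
    apply sup_le
    · intro b hb
      rw [Ideal.mem_comap]
      have : u b = 0 := hb
      change u b ∈ p₀.asIdeal
      rw [this]
      exact zero_mem _
    · intro s hs
      rw [Ideal.mem_comap]
      change u s ∈ p₀.asIdeal
      have h1 : ((1 : p₀.asIdeal.ResidueField) ⊗ₜ[A] s : p₀.asIdeal.Fiber B)
          ∈ FlatCA.fiberIdeal p₀.asIdeal P := Ideal.mem_map_of_mem _ hs
      rw [hbot, Ideal.mem_bot] at h1
      have h2 := congrArg (TensorProduct.rid A p₀.asIdeal.ResidueField ∘
        (u.toLinearMap.lTensor p₀.asIdeal.ResidueField)) h1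
      simp only [Function.comp_apply, LinearMap.lTensor_tmul, AlgHom.toLinearMap_apply,
        TensorProduct.rid_tmul, map_zero] at h2
      rw [Algebra.smul_def, mul_one] at h2
      exact Ideal.algebraMap_residueField_eq_zero.mp h2
  intro htop
  rw [htop, top_le_iff] at hle
  exact (Ideal.comap_isPrime u.toRingHom p₀.asIdeal).ne_top hle


/-- Let A be a Noetherian ring and B a smooth A-algebra whose fibres are geometrically integral, and let
u : B → A be an A-algebra retraction with kernel I (the situation reached, after a faithfully flat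
base change, in the proof that flat and pure modules are projective). Let B̂ be the I-adic
completion of B, presented as a B-algebra, compatibly an A-algebra, that is I B̂-adically complete
and for which every truncation B/I^n → B̂/I^n B̂ is bijective. Then the canonical map B → B̂ is
universally injective over A: it remains injective after tensoring over A with any A-module (modules
in the universe of A). -/
theorem result (A : Type u) [CommRing A]
    [IsNoetherianRing A] (B : Type u) [CommRing B] [Algebra A B] [Algebra.Smooth A B]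
    (hfib : FlatCA.GeomIntegralFibres A B) (u : B →ₐ[A] A)
    (Bh : Type u) [CommRing Bh] [Algebra B Bh] [Algebra A Bh] [IsScalarTower A B Bh]
    [IsAdicComplete ((RingHom.ker u).map (algebraMap B Bh)) Bh]
    (hq : ∀ n : ℕ, Function.Bijective (Ideal.quotientMap ((RingHom.ker u ^ n).map (algebraMap B Bh))
      (algebraMap B Bh) Ideal.le_comap_map)) :
    FlatCA.UnivInj A (IsScalarTower.toAlgHom A B Bh).toLinearMap := by
  have hft : Algebra.FiniteType A B := inferInstance
  have hnoe : IsNoetherianRing B := Algebra.FiniteType.isNoetherianRing A B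
  intro Q _ _
  refine Groth.Agent.Lib.Helper23.ComplInjJ.univInj (RingHom.ker u) Bh hq ?_ Q
  intro Q' _ _ hfin P hP
  exact sup_ne_top A B hfib u Q' P hP

end Groth.Agent.S17619
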