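import Groth.Statements.S17620
import Mathlib

set_option autoImplicit false
universe u
open Hensel

namespace Groth.Agent.S17620

/-- Let R be a local ring and J an ideal of R contained in the maximal ideal, let H be a Henselization
of the pair (R, J) which is a local ring with local structure map R → H, and let S be a strict
Henselization of the local ring H. Then S, with its composite R-algebra structure, is a strict
Henselization of the local ring R. (This is the identification of the strict Henselization of the
local ring of a scheme at a point with that of the local ring of its Henselization along a closed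
subscheme through the point.) -/
theorem result
    (R : Type u) [CommRing R] [IsLocalRing R] (J : Ideal R) (hJ : J ≤ IsLocalRing.maximalIdeal R)
    (H : Type u) [CommRing H] [IsLocalRing H] [Algebra R H] [IsLocalHom (algebraMap R H)]
    (hH : Hens2.IsPairHenselization R J H)
    (S : Type u) [CommRing S] [IsLocalRing S] [Algebra H S] [IsLocalHom (algebraMap H S)]
    [Hensel.IsStrictHenselization H S]
    [Algebra R S] [IsScalarTower R H S] [IsLocalHom (algebraMap R S)] :
    Hensel.IsStrictHenselization R S := by
  classical
  obtain ⟨hHens, hUniv⟩ := hH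
  -- a ring is henselian along the zero ideal
  have hbot : ∀ (C : Type u) [CommRing C], HenselianRing C (⊥ : Ideal C) := fun C _ =>
    { jac := bot_le
      is_henselian := fun f _ a₀ h₁ _ => ⟨a₀, h₁, by rw [sub_self]; exact Ideal.zero_mem _⟩ }
  -- `R → H/JH` is surjective
  have hsurj : ∀ h : H, ∃ r : R, h - algebraMap R H r ∈ J.map (algebraMap R H) := by
    obtain ⟨g₀, hg₀, -⟩ := hUniv (R ⧸ J) ⊥ (Ideal.Quotient.mk J) (hbot _) (by
      rw [Ideal.map_quotient_self])
    let ι : R ⧸ J →+* H ⧸ J.map (algebraMap R H) :=
      Ideal.quotientMap (J.map (algebraMap R H)) (algebraMap R H) Ideal.le_comap_map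
    obtain ⟨g₁, -, hg₁u⟩ := hUniv (H ⧸ J.map (algebraMap R H)) ⊥
      ((Ideal.Quotient.mk (J.map (algebraMap R H))).comp (algebraMap R H)) (hbot _) (by
        rw [← Ideal.map_map, Ideal.map_quotient_self])
    have h1 : Ideal.Quotient.mk (J.map (algebraMap R H)) = g₁ := hg₁u _ rfl
    have h2 : ι.comp g₀ = g₁ := hg₁u _ (by
      change (ι.comp g₀).comp (algebraMap R H) = _
      rw [RingHom.comp_assoc, hg₀]
      ext r
      simp [ι])
    intro h
    obtain ⟨r, hr⟩ := Ideal.Quotient.mk_surjective (g₀ h)
    refine ⟨r, ?_⟩
    rw [← Ideal.Quotient.eq]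
    have h3 : Ideal.Quotient.mk (J.map (algebraMap R H)) h = ι (g₀ h) := by
      rw [h1, ← h2]; rfl
    rw [h3, ← hr]
    simp [ι]
  have hJH : J.map (algebraMap R H) ≤ IsLocalRing.maximalIdeal H := by
    rw [Ideal.map_le_iff_le_comap]
    intro x hx
    exact (IsLocalRing.mem_maximalIdeal _).mpr (fun hu =>
      (IsLocalRing.mem_maximalIdeal _).mp (hJ hx) (isUnit_of_map_unit (algebraMap R H) x hu))
  -- the residue fields of `R` and `H` agree
  have hres : Function.Surjective (IsLocalRing.ResidueField.map (algebraMap R H)) := by
    intro y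
    obtain ⟨h, rfl⟩ := IsLocalRing.residue_surjective y
    obtain ⟨r, hr⟩ := hsurj h
    refine ⟨IsLocalRing.residue R r, ?_⟩
    rw [IsLocalRing.ResidueField.map_residue, eq_comm, ← sub_eq_zero, ← map_sub]
    exact Ideal.Quotient.eq_zero_iff_mem.mpr (hJH hr)
  haveI hS : HenselianLocalRing S := Hensel.IsStrictHenselization.henselian (R := H)
  have hsc : IsSepClosure (IsLocalRing.ResidueField H) (IsLocalRing.ResidueField S) :=
    Hensel.IsStrictHenselization.isSepClosure
  have halg : algebraMap R S = (algebraMap H S).comp (algebraMap R H) :=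
    IsScalarTower.algebraMap_eq R H S
  refine ⟨hS, ?_, ?_⟩
  · -- separable closure
    haveI := hsc.sep_closed
    haveI := hsc.separable
    haveI : Algebra.IsSeparable (IsLocalRing.ResidueField R) (IsLocalRing.ResidueField H) := by
      refine ⟨fun x => ?_⟩
      obtain ⟨y, rfl⟩ := hres x
      exact isSeparable_algebraMap (F := IsLocalRing.ResidueField R) y
    exact ⟨inferInstance, Algebra.IsSeparable.trans (IsLocalRing.ResidueField R)
      (IsLocalRing.ResidueField H) (IsLocalRing.ResidueField S)⟩
  · -- universal property
    intro T _ _ f hf τ hτ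
    have hJT : J.map f ≤ IsLocalRing.maximalIdeal T := by
      rw [Ideal.map_le_iff_le_comap]
      intro x hx
      exact (IsLocalRing.mem_maximalIdeal _).mpr (fun hu =>
        (IsLocalRing.mem_maximalIdeal _).mp (hJ hx) (isUnit_of_map_unit f x hu))
    obtain ⟨g, hg, hgu⟩ := hUniv T (IsLocalRing.maximalIdeal T) f inferInstance hJT
    have hgJ : ∀ j ∈ J.map (algebraMap R H), g j ∈ IsLocalRing.maximalIdeal T := by
      intro j hj
      have h1 : (J.map (algebraMap R H)).map g ≤ IsLocalRing.maximalIdeal T := by
        rw [Ideal.map_map, hg]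
        exact hJT
      exact h1 (Ideal.mem_map_of_mem g hj)
    haveI hgloc : IsLocalHom g := by
      constructor
      intro h hu
      by_contra hnu
      have hm : h ∈ IsLocalRing.maximalIdeal H := (IsLocalRing.mem_maximalIdeal _).mpr hnu
      obtain ⟨r, hr⟩ := hsurj h
      have hrm : algebraMap R H r ∈ IsLocalRing.maximalIdeal H := by
        have : algebraMap R H r = h - (h - algebraMap R H r) := by ring
        rw [this]
        exact Ideal.sub_mem _ hm (hJH hr)
      have hr' : r ∈ IsLocalRing.maximalIdeal R := by
        rw [IsLocalRing.mem_maximalIdeal]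
        intro hru
        exact (IsLocalRing.mem_maximalIdeal _).mp hrm (hru.map (algebraMap R H))
      have hfr : f r ∈ IsLocalRing.maximalIdeal T := by
        rw [IsLocalRing.mem_maximalIdeal]
        intro hfu
        exact (IsLocalRing.mem_maximalIdeal _).mp hr' (isUnit_of_map_unit f r hfu)
      have hgh : g h ∈ IsLocalRing.maximalIdeal T := by
        have h1 : g h = g (h - algebraMap R H r) + f r := by
          rw [map_sub, ← hg]; simp
        rw [h1]
        exact Ideal.add_mem _ (hgJ _ hr) hfr
      exact (IsLocalRing.mem_maximalIdeal _).mp hgh hu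
    have hτ' : τ.comp (IsLocalRing.ResidueField.map (algebraMap H S)) =
        IsLocalRing.ResidueField.map g := by
      ext y
      obtain ⟨x, rfl⟩ := hres y
      have h1 : (τ.comp (IsLocalRing.ResidueField.map (algebraMap R S))) x =
          IsLocalRing.ResidueField.map f x := by rw [hτ]
      obtain ⟨r, rfl⟩ := IsLocalRing.residue_surjective x
      simp only [RingHom.comp_apply, IsLocalRing.ResidueField.map_residue] at h1 ⊢
      have e1 : g (algebraMap R H r) = f r := RingHom.congr_fun hg r
      have e2 : algebraMap H S (algebraMap R H r) = algebraMap R S r :=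
        (RingHom.congr_fun halg r).symm
      rw [e1, e2]
      exact h1
    obtain ⟨φ, ⟨hφ1, hφ2⟩, hφu⟩ :=
      Hensel.IsStrictHenselization.universal (R := H) (S := S) T g τ hτ'
    refine ⟨φ, ⟨?_, hφ2⟩, ?_⟩
    · rw [halg, ← RingHom.comp_assoc, hφ1, hg]
    · rintro φ' ⟨hφ'1, hφ'2⟩
      refine hφu φ' ⟨?_, hφ'2⟩
      refine hgu _ ?_
      change (φ'.comp (algebraMap H S)).comp (algebraMap R H) = f
      rw [RingHom.comp_assoc, ← halg, hφ'1]

end Groth.Agent.S17620
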