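import Groth.Statements.S17626
import Groth.Agent.Lib.Helper2.AsympCoh1

set_option autoImplicit false
universe u
open CategoryTheory CategoryTheory.Limits AlgebraicGeometry
open Variety

namespace Groth.Agent.S17626

/-- Let X be an integral scheme, proper over an algebraically closed field k of characteristic zero and
admitting an ample invertible module, of dimension n ≥ 1 (stated in the source over the complex
numbers), and L an invertible O_X-module which is big, in the sense that its volume ĥ^0(X, L) =
limsup_m dim_k H^0(X, L^{⊗m}) · n!/m^n is positive. Then ĥ^n(X, L) = 0. (The published statement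
allows n = 0, where it fails: X is then a point, every L is big and ĥ^0(X, L) = 1; the printed
argument uses that L and its inverse cannot both be big, which needs n ≥ 1.) -/
theorem result (k : Type u) [Field k] [IsAlgClosed k] [CharZero k] (X : Scheme.{u})
    [X.Over (Spec (CommRingCat.of k))] [AlgebraicGeometry.IsIntegral X]
    [IsProper (X ↘ Spec (CommRingCat.of k))] (hproj : ∃ A : X.Modules, CohB1.IsAmple A)
    (n : ℕ) (hn : topologicalKrullDim X = n) (hn1 : 1 ≤ n)
    (L : X.Modules) (hL : PicF.IsInvertible L) (hbig : 0 < W4c5asymptcohfn.hhat k X n 0 L) :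
    W4c5asymptcohfn.hhat k X n n L = 0 := by
  obtain ⟨H, hH⟩ := hproj
  obtain ⟨d, rfl⟩ : ∃ d, n = d + 1 := ⟨n - 1, by omega⟩
  obtain ⟨a, ha⟩ := Groth.Agent.Lib.Helper2.AsympCoh1.freq_of_real_limsup_pos
    (fun m => Module.finrank k (Coh.HH X (CohB1.tensorPow L m) 0)) (d + 1) hbig
  obtain ⟨ν, hν, hsub⟩ := Groth.Agent.Lib.Helper2.Kodaira.sub_of_growth k (d + 1) hn hH hL a ha H hH
  obtain ⟨m₁, hm₁⟩ := Groth.Agent.Lib.Helper2.AsympCoh1.hh_top_eventually_zero k d hn hH hL ν hν hsub
  unfold W4c5asymptcohfn.hhat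
  have hev : (fun m : ℕ => (Module.finrank k (Coh.HH X (CohB1.tensorPow L m) (d + 1)) : ℝ) *
      ((d + 1).factorial : ℝ) / (m : ℝ) ^ (d + 1)) =ᶠ[Filter.atTop] fun _ => (0 : ℝ) := by
    rw [Filter.EventuallyEq, Filter.eventually_atTop]
    refine ⟨m₁, fun m hm => ?_⟩
    have h0 : Module.finrank k (Coh.HH X (CohB1.tensorPow L m) (d + 1)) = 0 := hm₁ m hm
    rw [h0]
    simp
  rw [Filter.limsup_congr hev, Filter.limsup_const]

end Groth.Agent.S17626
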