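import Groth.Statements.S17635
import Mathlib.Analysis.Normed.Group.Constructions
import Mathlib.Analysis.Normed.Field.Basic
import Mathlib.Algebra.BigOperators.Fin
import Mathlib.Tactic
-- import your own Groth.Agent.* helpers here

set_option autoImplicit false
open Finset
open Variety

namespace Groth.Agent.S17635

/-- sup norm of a rational vector -/
noncomputable def nr {r : ℕ} (v : Fin r → ℚ) : ℝ := ‖(fun j => ((v j : ℚ) : ℝ))‖

theorem nr_nonneg {r : ℕ} (v : Fin r → ℚ) : 0 ≤ nr v := norm_nonneg _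

theorem abs_le_nr {r : ℕ} (v : Fin r → ℚ) (j : Fin r) : |((v j : ℚ) : ℝ)| ≤ nr v := by
  have := norm_le_pi_norm (fun j => ((v j : ℚ) : ℝ)) j
  rw [Real.norm_eq_abs] at this
  exact this

theorem nr_le {r : ℕ} {v : Fin r → ℚ} {B : ℝ} (hB : 0 ≤ B) (h : ∀ j, |((v j : ℚ) : ℝ)| ≤ B) :
    nr v ≤ B := by
  rw [nr, pi_norm_le_iff_of_nonneg hB]
  intro j
  rw [Real.norm_eq_abs]
  exact h j

/-- The sum appearing in the estimates. -/
noncomputable def S (n : ℕ) (M D : ℝ) : ℝ := (Finset.Icc 1 n).sum (fun q => M ^ (n - q) * D ^ q)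

theorem S_nonneg {n : ℕ} {M D : ℝ} (hM : 0 ≤ M) (hD : 0 ≤ D) : 0 ≤ S n M D :=
  Finset.sum_nonneg fun q _ => mul_nonneg (pow_nonneg hM _) (pow_nonneg hD _)

theorem S_mono {n : ℕ} {M M' D D' : ℝ} (hM : 0 ≤ M) (hMM' : M ≤ M') (hD : 0 ≤ D) (hDD' : D ≤ D') :
    S n M D ≤ S n M' D' := by
  refine Finset.sum_le_sum fun q _ => ?_
  exact mul_le_mul (pow_le_pow_left₀ hM hMM' _) (pow_le_pow_left₀ hD hDD' _) (pow_nonneg hD _)
    (pow_nonneg (hM.trans hMM') _)

theorem S_scale (n : ℕ) (N M D : ℝ) : S n (N * M) (N * D) = N ^ n * S n M D := by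
  rw [S, S, Finset.mul_sum]
  refine Finset.sum_congr rfl fun q hq => ?_
  have hq' : q ≤ n := (Finset.mem_Icc.mp hq).2
  rw [mul_pow, mul_pow]
  have : N ^ n = N ^ (n - q) * N ^ q := by rw [← pow_add, Nat.sub_add_cancel hq']
  rw [this]; ring

theorem step_bound {r n : ℕ} (f : (Fin r → ℚ) → ℝ) (i : Fin r) (Ci : ℝ)
    (h : ∀ (v : Fin r → ℚ) (b : ℕ), 1 ≤ b → |f (v - (b : ℚ) • Pi.single i 1) - f v| ≤
      Ci * S n (nr v) (b : ℝ)) (a : Fin r → ℚ) (c : ℤ) :
    |f (a - (c : ℚ) • Pi.single i 1) - f a| ≤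
      |Ci| * S n (max (nr a) (nr (a - (c : ℚ) • Pi.single i 1))) |(c : ℝ)| := by
  have habs : ∀ X : ℝ, 0 ≤ X → Ci * X ≤ |Ci| * X := fun X hX =>
    mul_le_mul_of_nonneg_right (le_abs_self Ci) hX
  rcases lt_trichotomy c 0 with hc | hc | hc
  · -- negative
    set b := (-c).toNat with hb
    have hbc : (b : ℤ) = -c := Int.toNat_of_nonneg (by omega)
    have hb1 : 1 ≤ b := by omega
    have hbq : (b : ℚ) = -(c : ℚ) := by exact_mod_cast hbc
    have hbr : (b : ℝ) = |(c : ℝ)| := by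
      rw [abs_of_neg (by exact_mod_cast hc)]; exact_mod_cast hbc
    set a' := a - (c : ℚ) • Pi.single i 1 with ha'
    have haa : a' - (b : ℚ) • Pi.single i 1 = a := by
      rw [ha', hbq]; module
    have := h a' b hb1
    rw [haa, abs_sub_comm] at this
    refine this.trans ((habs _ (S_nonneg (nr_nonneg _) (Nat.cast_nonneg _))).trans ?_)
    refine mul_le_mul_of_nonneg_left ?_ (abs_nonneg _)
    rw [hbr]
    exact S_mono (nr_nonneg _) (le_max_right _ _) (abs_nonneg _) le_rfl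
  · subst hc
    simp only [Int.cast_zero, zero_smul, sub_zero, sub_self, abs_zero]
    exact mul_nonneg (abs_nonneg _) (S_nonneg (le_max_of_le_left (nr_nonneg _)) le_rfl)
  · set b := c.toNat with hb
    have hbc : (b : ℤ) = c := Int.toNat_of_nonneg (by omega)
    have hb1 : 1 ≤ b := by omega
    have hbq : (b : ℚ) = (c : ℚ) := by exact_mod_cast hbc
    have hbr : (b : ℝ) = |(c : ℝ)| := by
      rw [abs_of_pos (by exact_mod_cast hc)]; exact_mod_cast hbc
    have := h a b hb1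
    rw [hbq] at this
    refine this.trans ((habs _ (S_nonneg (nr_nonneg _) (Nat.cast_nonneg _))).trans ?_)
    refine mul_le_mul_of_nonneg_left ?_ (abs_nonneg _)
    rw [hbr]
    exact S_mono (nr_nonneg _) (le_max_left _ _) (abs_nonneg _) le_rfl

/-- A common denominator. -/
theorem exists_common_den {r : ℕ} (d : Fin r → ℚ) :
    ∃ N : ℕ, 0 < N ∧ ∀ j, ∃ c : ℤ, (N : ℚ) * d j = c := by
  refine ⟨∏ j, (d j).den, Finset.prod_pos fun j _ => (d j).den_pos, fun j => ?_⟩
  refine ⟨(d j).num * ∏ i ∈ Finset.univ.erase j, ((d i).den : ℤ), ?_⟩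
  rw [← Finset.mul_prod_erase Finset.univ _ (Finset.mem_univ j)]
  push_cast
  have := Rat.mul_den_eq_num (d j)
  calc (((d j).den : ℚ) * ∏ x ∈ Finset.univ.erase j, ((d x).den : ℚ)) * d j
      = (d j * (d j).den) * ∏ x ∈ Finset.univ.erase j, ((d x).den : ℚ) := by ring
    _ = _ := by rw [this]

/-- Let r and n be natural numbers and f : ℚ^r → ℝ a nonnegative function which is homogeneous of degree
n for positive rational scalars, f(q · v) = q^n · f(v) for q > 0; give ℚ^r the maximum norm ‖v‖ =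
max_j |v_j| of its standard basis. Suppose that for every standard basis vector e_i there is a
constant C_i with |f(v − b · e_i) − f(v)| ≤ C_i · Σ_{q=1}^{n} ‖v‖^{n−q} · b^q for all v ∈ ℚ^r and
all integers b ≥ 1. Then there is a constant C > 0 such that |f(v) − f(w)| ≤ C · Σ_{q=1}^{n}
max(‖v‖, ‖w‖)^{n−q} · ‖v − w‖^q for all v, w ∈ ℚ^r. (The source allows any norm on an r-dimensional
rational vector space with a chosen basis and argues with the maximum norm of that basis, which is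
the case stated here.) -/
theorem result (r n : ℕ) (f : (Fin r → ℚ) → ℝ)
    (hf0 : ∀ v, 0 ≤ f v)
    (hhom : ∀ (q : ℚ) (v : Fin r → ℚ), 0 < q → f (q • v) = (q : ℝ) ^ n * f v)
    (hdir : ∀ i : Fin r, ∃ Ci : ℝ, ∀ (v : Fin r → ℚ) (b : ℕ), 1 ≤ b →
      |f (v - (b : ℚ) • Pi.single i 1) - f v| ≤
        Ci * (Finset.Icc 1 n).sum (fun q => ‖(fun j => ((v j : ℚ) : ℝ))‖ ^ (n - q) * (b : ℝ) ^ q)) :
    ∃ C : ℝ, 0 < C ∧ ∀ v w : Fin r → ℚ,
      |f v - f w| ≤ C * (Finset.Icc 1 n).sum (fun q =>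
        (max ‖(fun j => ((v j : ℚ) : ℝ))‖ ‖(fun j => ((w j : ℚ) : ℝ))‖) ^ (n - q) *
          ‖(fun j => ((v j - w j : ℚ) : ℝ))‖ ^ q) := by
  classical
  choose Ci hCi using hdir
  have hCi' : ∀ i (v : Fin r → ℚ) (b : ℕ), 1 ≤ b → |f (v - (b : ℚ) • Pi.single i 1) - f v| ≤
      Ci i * S n (nr v) (b : ℝ) := fun i v b hb => hCi i v b hb
  refine ⟨1 + ∑ i, |Ci i|, by positivity, fun v w => ?_⟩
  change |f v - f w| ≤ _ * S n (max (nr v) (nr w)) (nr (fun j => v j - w j))
  set M := max (nr v) (nr w) with hM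
  set D := nr (fun j => v j - w j) with hD
  have hM0 : 0 ≤ M := le_max_of_le_left (nr_nonneg v)
  have hD0 : 0 ≤ D := nr_nonneg _
  obtain ⟨N, hN, hc⟩ := exists_common_den (fun j => v j - w j)
  choose c hc using hc
  have hNr : (0 : ℝ) < N := by exact_mod_cast hN
  -- the path
  let u : ℕ → (Fin r → ℚ) := fun m j => if (j : ℕ) < m then (N : ℚ) * w j else (N : ℚ) * v j
  have hu0 : u 0 = (N : ℚ) • v := by
    funext j; simp [u]
  have hur : u r = (N : ℚ) • w := by
    funext j; simp [u, j.2]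
  have hstep : ∀ m (hm : m < r), u (m + 1) = u m - ((c ⟨m, hm⟩ : ℤ) : ℚ) • Pi.single ⟨m, hm⟩ 1 := by
    intro m hm
    funext j
    simp only [u, Pi.sub_apply, Pi.smul_apply, smul_eq_mul]
    by_cases hj : j = ⟨m, hm⟩
    · subst hj
      simp only [Pi.single_eq_same, mul_one, lt_irrefl, if_false, Nat.lt_succ_self, if_true]
      rw [← hc]; ring
    · have hjm : (j : ℕ) ≠ m := fun h => hj (Fin.ext h)
      rw [Pi.single_eq_of_ne hj, mul_zero, sub_zero]
      by_cases hlt : (j : ℕ) < m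
      · rw [if_pos hlt, if_pos (by omega)]
      · rw [if_neg hlt, if_neg (by omega)]
  have hnru : ∀ m, nr (u m) ≤ N * M := by
    intro m
    refine nr_le (by positivity) fun j => ?_
    simp only [u]
    split_ifs
    · push_cast
      rw [abs_mul, abs_of_pos hNr]
      exact mul_le_mul_of_nonneg_left ((abs_le_nr w j).trans (le_max_right _ _)) hNr.le
    · push_cast
      rw [abs_mul, abs_of_pos hNr]
      exact mul_le_mul_of_nonneg_left ((abs_le_nr v j).trans (le_max_left _ _)) hNr.le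
  have hcb : ∀ j, |((c j : ℤ) : ℝ)| ≤ N * D := by
    intro j
    have h1 : ((c j : ℤ) : ℝ) = (N : ℝ) * (((v j - w j : ℚ)) : ℝ) := by
      have := hc j
      have h2 : (((c j : ℤ) : ℚ) : ℝ) = (((N : ℚ) * (v j - w j) : ℚ) : ℝ) := by rw [this]
      push_cast at h2 ⊢
      linarith
    rw [h1, abs_mul, abs_of_pos hNr]
    exact mul_le_mul_of_nonneg_left (abs_le_nr (fun j => v j - w j) j) hNr.le
  -- bound each step
  let g : ℕ → ℝ := fun m => if h : m < r then |Ci ⟨m, h⟩| else 0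
  have hg0 : ∀ m, 0 ≤ g m := by
    intro m; simp only [g]; split_ifs
    · exact abs_nonneg _
    · exact le_rfl
  have hbound : ∀ m ∈ Finset.range r, |f (u m) - f (u (m + 1))| ≤ g m * ((N : ℝ) ^ n * S n M D) := by
    intro m hm
    have hm' : m < r := Finset.mem_range.mp hm
    have h1 := step_bound (n := n) f ⟨m, hm'⟩ (Ci ⟨m, hm'⟩) (hCi' ⟨m, hm'⟩) (u m) (c ⟨m, hm'⟩)
    rw [← hstep m hm', abs_sub_comm] at h1
    refine h1.trans ?_
    have hg : g m = |Ci ⟨m, hm'⟩| := dif_pos hm'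
    rw [hg, ← S_scale]
    refine mul_le_mul_of_nonneg_left ?_ (abs_nonneg _)
    exact S_mono (le_max_of_le_left (nr_nonneg _)) (max_le (hnru m) (hnru (m + 1))) (abs_nonneg _)
      (hcb _)
  have htel : f (u 0) - f (u r) = ∑ m ∈ Finset.range r, (f (u m) - f (u (m + 1))) :=
    (Finset.sum_range_sub' (fun m => f (u m)) r).symm
  have hsum : ∑ m ∈ Finset.range r, g m = ∑ i, |Ci i| := by
    rw [← Fin.sum_univ_eq_sum_range]
    refine Finset.sum_congr rfl fun i _ => ?_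
    exact dif_pos i.2
  have hNq : (0 : ℚ) < N := by exact_mod_cast hN
  have hmain : (N : ℝ) ^ n * |f v - f w| ≤ (∑ i, |Ci i|) * ((N : ℝ) ^ n * S n M D) := by
    have e1 : f (u 0) = (N : ℝ) ^ n * f v := by
      rw [hu0, hhom _ _ hNq]; push_cast; rfl
    have e2 : f (u r) = (N : ℝ) ^ n * f w := by
      rw [hur, hhom _ _ hNq]; push_cast; rfl
    calc (N : ℝ) ^ n * |f v - f w| = |f (u 0) - f (u r)| := by
          rw [e1, e2, ← mul_sub, abs_mul, abs_of_pos (pow_pos hNr n)]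
      _ ≤ ∑ m ∈ Finset.range r, |f (u m) - f (u (m + 1))| := by
          rw [htel]; exact Finset.abs_sum_le_sum_abs _ _
      _ ≤ ∑ m ∈ Finset.range r, g m * ((N : ℝ) ^ n * S n M D) := Finset.sum_le_sum hbound
      _ = (∑ i, |Ci i|) * ((N : ℝ) ^ n * S n M D) := by rw [← Finset.sum_mul, hsum]
  have hS0 : 0 ≤ S n M D := S_nonneg hM0 hD0
  have hpos : (0 : ℝ) < (N : ℝ) ^ n := pow_pos hNr n
  have : (N : ℝ) ^ n * |f v - f w| ≤ (N : ℝ) ^ n * ((∑ i, |Ci i|) * S n M D) := by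
    calc _ ≤ _ := hmain
      _ = _ := by ring
  have h2 := le_of_mul_le_mul_left this hpos
  refine h2.trans ?_
  have : (0:ℝ) ≤ 1 * S n M D := by rw [one_mul]; exact hS0
  nlinarith

end Groth.Agent.S17635
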