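import Groth.Statements.S17643
import Groth.Agent.Lib.Helper15.RelPC23
-- import your own Groth.Agent.* helpers here

set_option autoImplicit false
universe u
open CategoryTheory AlgebraicGeometry
attribute [local instance] HasDerivedCategory.standard
open DerSch

namespace Groth.Agent.S17643

section H
namespace W1

open Groth.Agent.Lib.Helper15.RelPC9 Groth.Agent.Lib.Helper15.RelPC11
  Groth.Agent.Lib.Helper15.RelPC17 Groth.Agent.Lib.Helper15.RelPC21
  Groth.Agent.Lib.Helper15.RelPC22 Groth.Agent.Lib.Helper15.RelPC23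
  Groth.Agent.Lib.Helper16.TorAmp Groth.Agent.Lib.Helper16.TorBal

instance : HasRingHomProperty (affineLocally @FTD) @FTD := ⟨ftd_isLocal, rfl⟩

theorem main {X Y : Scheme.{u}} (f : X ⟶ Y) [LocallyOfFiniteType f]
    (hf : DerSch.HasFiniteTorDim f)
    (U : X.Opens) (hU : IsAffineOpen U) (V : Y.Opens) (hV : IsAffineOpen V) (hUV : U ≤ f ⁻¹ᵁ V) :
    ∃ (W : Scheme.{u}) (g : (U : Scheme.{u}) ⟶ W) (h : W ⟶ Y),
      IsClosedImmersion g ∧ DerSch.HasFiniteTorDim g ∧ Smooth h ∧ g ≫ h = U.ι ≫ f := by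
  obtain ⟨a, b, hab⟩ := hf
  have h1 : TDLE (-a).toNat (f.appLE V U hUV).hom := by
    refine tdle_appLE_of_stalks f V hV U hU hUV _ (fun x _ => ?_)
    letI : Algebra (Y.presheaf.stalk (f.base x)) (X.presheaf.stalk x) :=
      (f.stalkMap x).hom.toAlgebra
    exact hasTorDimLE_of_torAmp _ a b
      (hasTorAmplitudeIn_of_iso (Groth.Agent.Lib.Helper16.StalkTor.unitStalkIso f x) _ _ (hab x))
  letI : Algebra Γ(Y, V) Γ(X, U) := (f.appLE V U hUV).hom.toAlgebra
  have hft : Algebra.FiniteType Γ(Y, V) Γ(X, U) := f.finiteType_appLE hV hU hUV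
  obtain ⟨n, ψ, hψ⟩ := Algebra.FiniteType.iff_quotient_mvPolynomial''.1 hft
  have h2 : FTD (ψ : MvPolynomial (Fin n) Γ(Y, V) →+* Γ(X, U)) := ftd_presentation ⟨_, h1⟩ ψ
  let W : Scheme.{u} := Spec (CommRingCat.of (MvPolynomial (Fin n) Γ(Y, V)))
  let g0 : Spec Γ(X, U) ⟶ W :=
    Spec.map (CommRingCat.ofHom (ψ : MvPolynomial (Fin n) Γ(Y, V) →+* Γ(X, U)))
  let h0 : W ⟶ Spec Γ(Y, V) :=
    Spec.map (CommRingCat.ofHom (algebraMap Γ(Y, V) (MvPolynomial (Fin n) Γ(Y, V))))
  refine ⟨W, hU.isoSpec.hom ≫ g0, h0 ≫ hV.fromSpec, ?_, ?_, ?_, ?_⟩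
  · haveI : IsClosedImmersion g0 := IsClosedImmersion.spec_of_surjective _ hψ
    infer_instance
  · have hg : affineLocally @FTD (hU.isoSpec.hom ≫ g0) := by
      rw [MorphismProperty.cancel_left_of_respectsIso (affineLocally @FTD)]
      exact (HasRingHomProperty.Spec_iff (P := affineLocally @FTD)).2 h2
    haveI : IsAffine (U : Scheme.{u}) := hU
    obtain ⟨d, hd⟩ := HasRingHomProperty.appLE (P := affineLocally @FTD) (hU.isoSpec.hom ≫ g0) hg
      ⟨⊤, isAffineOpen_top W⟩ ⟨⊤, isAffineOpen_top (U : Scheme.{u})⟩ le_top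
    refine ⟨-(d : ℤ), 0, fun u => ?_⟩
    exact hasTorAmplitudeAt_unit_of_appLE (hU.isoSpec.hom ≫ g0) ⊤ (isAffineOpen_top W) ⊤
      (isAffineOpen_top (U : Scheme.{u})) le_top trivial d hd
  · haveI : Smooth h0 := (HasRingHomProperty.Spec_iff (P := @Smooth)).2
      (RingHom.smooth_algebraMap.2
        ({ } : Algebra.Smooth Γ(Y, V) (MvPolynomial (Fin n) Γ(Y, V))))
    infer_instance
  · rw [Category.assoc, ← Category.assoc g0, ← Spec.map_comp, ← hU.isoSpec_hom_fromSpec,
      Category.assoc, ← IsAffineOpen.SpecMap_appLE_fromSpec f hV hU hUV]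
    congr 3
    ext a
    exact ψ.commutes a

end W1
end H


/-- Let f : X ⟶ Y be a morphism of finite type between Noetherian schemes which is of finite
Tor-dimension (the structure sheaf of X, placed in degree 0, has finite tor amplitude stalkwise over
the local rings of Y), U ⊆ X an affine open subset and V ⊆ Y an affine open subset with f(U) ⊆ V.
Then the restriction of f to U factors as U ⟶ W ⟶ Y with U ⟶ W a closed immersion of finite
Tor-dimension and W ⟶ Y smooth. The published section's standing conventions also take all morphisms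
separated; the printed argument does not use this, so separatedness is not assumed here. -/
theorem result {X Y : Scheme.{u}}
    [IsNoetherian X] [IsNoetherian Y] (f : X ⟶ Y) [LocallyOfFiniteType f] (hf : DerSch.HasFiniteTorDim f)
    (U : X.Opens) (hU : IsAffineOpen U) (V : Y.Opens) (hV : IsAffineOpen V) (hUV : U ≤ f ⁻¹ᵁ V) :
    ∃ (W : Scheme.{u}) (g : (U : Scheme.{u}) ⟶ W) (h : W ⟶ Y),
      IsClosedImmersion g ∧ DerSch.HasFiniteTorDim g ∧ Smooth h ∧ g ≫ h = U.ι ≫ f := by
  exact W1.main f hf U hU V hV hUV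

end Groth.Agent.S17643
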