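import Groth.Statements.S17649
import Groth.Agent.S17647

set_option autoImplicit false
universe u
open CategoryTheory CategoryTheory.Limits AlgebraicGeometry
open QCohCat

namespace Groth.Agent.S17649

/-- Suppose the scheme X is quasi-compact and quasi-separated, and take two quasi-compact opens U, V ⊆
X. Given a quasi-compact open W, denote by S_W the class of quasi-coherent O_X-modules that restrict
to zero on W. Then S_{U ∩ V} is the smallest localizing subcategory of Qcoh(X) that contains both
S_U and S_V; concretely (this is the inclusion that is not formal): any quasi-coherent O_X-module F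
satisfying F|_{U ∩ V} = 0 arises as an extension of a quasi-coherent module that is zero on V by a
quasi-coherent submodule that is zero on U — one can find a monomorphism A ⟶ F where A is
quasi-coherent, A|_U = 0 and (F/A)|_V = 0. -/
theorem result {X : Scheme.{u}}
    [CompactSpace X] [QuasiSeparatedSpace X] (U V : X.Opens) [QuasiCompact U.ι] [QuasiCompact V.ι]
    (F : X.Modules) (hF : Coh.IsQCoh F) (h : IsZero ((Scheme.Modules.restrictFunctor (U ⊓ V).ι).obj F)) :
    ∃ (A : X.Modules) (i : A ⟶ F), Mono i ∧ Coh.IsQCoh A ∧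
      IsZero ((Scheme.Modules.restrictFunctor U.ι).obj A) ∧
      IsZero ((Scheme.Modules.restrictFunctor V.ι).obj (cokernel i)) := by
  classical
  haveI : F.IsQuasicoherent := hF
  let η : F ⟶ (Scheme.Modules.pushforward U.ι).obj ((Scheme.Modules.restrictFunctor U.ι).obj F) :=
    (Scheme.Modules.restrictAdjunction U.ι).unit.app F
  haveI : ((Scheme.Modules.restrictFunctor U.ι).obj F).IsQuasicoherent := inferInstance
  haveI : ((Scheme.Modules.pushforward U.ι).obj ((Scheme.Modules.restrictFunctor U.ι).obj F)).IsQuasicoherent :=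
    Groth.Agent.Lib.Helper28.QCohLoc.isQuasicoherent_pushforward U.ι _
  -- the restriction of the unit to `U` is an isomorphism
  have hη : IsIso ((Scheme.Modules.restrictFunctor U.ι).map η) := by
    have h1 := (Scheme.Modules.restrictAdjunction U.ι).left_triangle_components F
    haveI : IsIso ((Scheme.Modules.restrictAdjunction U.ι).counit.app
        ((Scheme.Modules.restrictFunctor U.ι).obj F)) := inferInstance
    exact IsIso.of_isIso_fac_right h1
  have hsupp := (Groth.Agent.S17647.isIso_restrict_iff_support U η).1 hη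
  have hle : ∀ T : (↑U : Scheme.{u}).Opens, ∀ x ∈ U.ι ''ᵁ T, x ∈ U := by
    rintro T x ⟨y, -, rfl⟩
    exact y.2
  refine ⟨kernel η, kernel.ι η, inferInstance, Groth.Agent.Lib.Helper17.CohKer.isQuasicoherent_kernel η, ?_, ?_⟩
  · rw [IsZero.iff_id_eq_zero]
    ext T s
    change s = 0
    exact Groth.Agent.Lib.Helper6.DevFin.section_eq_zero_of_notMem_support (kernel η) (U.ι ''ᵁ T)
      (fun x hx hxs => hsupp.1 hxs (hle T x hx)) s
  · -- sections of `F` over opens inside `U ⊓ V` vanish
    have hF0 : ∀ (W : X.Opens), W ≤ U ⊓ V → ∀ s : Γ(F, W), s = 0 := by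
      intro W hW s
      have himg : (U ⊓ V).ι ''ᵁ ((U ⊓ V).ι ⁻¹ᵁ W) = W := by
        rw [Scheme.Hom.image_preimage_eq_opensRange_inf, Scheme.Opens.opensRange_ι]
        exact inf_eq_right.2 hW
      have h2 : ∀ y : Γ(F, (U ⊓ V).ι ''ᵁ ((U ⊓ V).ι ⁻¹ᵁ W)), y = 0 := by
        intro y
        have h3 := h.eq_of_src (𝟙 _) 0
        have := congrArg (fun φ : (Scheme.Modules.restrictFunctor (U ⊓ V).ι).obj F ⟶
          (Scheme.Modules.restrictFunctor (U ⊓ V).ι).obj F => φ.app ((U ⊓ V).ι ⁻¹ᵁ W) y) h3
        exact this
      rw [himg] at h2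
      exact h2 s
    rw [IsZero.iff_id_eq_zero]
    ext T s
    change s = 0
    have key : ∀ t : Γ((Scheme.Modules.pushforward U.ι).obj ((Scheme.Modules.restrictFunctor U.ι).obj F),
        V.ι ''ᵁ T), t = 0 := by
      intro t
      refine hF0 (U.ι ''ᵁ (U.ι ⁻¹ᵁ (V.ι ''ᵁ T))) ?_ t
      rw [Scheme.Hom.image_preimage_eq_opensRange_inf, Scheme.Opens.opensRange_ι]
      refine inf_le_inf le_rfl ?_
      refine (V.ι.image_le_opensRange T).trans ?_
      rw [Scheme.Opens.opensRange_ι]
    haveI : Mono (Abelian.factorThruCoimage η) := inferInstance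
    apply Groth.Agent.Lib.Helper6.DevGen.app_injective_of_mono (Abelian.factorThruCoimage η) (V.ι ''ᵁ T)
    exact (key _).trans (key _).symm

end Groth.Agent.S17649
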