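import Groth.Statements.S17661
import Groth.Agent.Lib.Helper15.SmoothLiftLocal
import Groth.Agent.Lib.Helper13.ThickAffineInd
-- import your own Groth.Agent.* helpers here

set_option autoImplicit false
universe u
open CategoryTheory CategoryTheory.Limits AlgebraicGeometry
open Ribbon

namespace Groth.Agent.S17661

section H
namespace W1
open AlgebraicGeometry CategoryTheory

theorem main (k : Type u) [Field k] (C : Scheme.{u}) [C.Over (Spec (CommRingCat.of k))]
    (I : C.IdealSheafData) (hI : I ^ 2 = ⊥) [IsAffine I.subscheme]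
    [Smooth (I.subschemeι ≫ (C ↘ (Spec (CommRingCat.of k))))] :
    ∃ r : C ⟶ I.subscheme, I.subschemeι ≫ r = 𝟙 I.subscheme ∧
      r ≫ I.subschemeι ≫ (C ↘ (Spec (CommRingCat.of k))) = C ↘ (Spec (CommRingCat.of k)) := by
  classical
  have hsq : ∀ U : C.affineOpens, (I.ideal U) ^ 2 = ⊥ := by
    intro U
    have := congrArg (fun J : C.IdealSheafData => J.ideal U) hI
    simpa using this
  have hsurj : Function.Surjective I.subschemeι := by
    intro x
    have hx : x ∈ Set.range I.subschemeι := by
      rw [I.range_subschemeι]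
      show x ∈ I.support
      rw [Scheme.IdealSheafData.mem_support_iff]
      intro U
      rw [Scheme.mem_zeroLocus_iff]
      intro f hf hxf
      have hf2 : f ^ 2 = 0 := by
        have : f ^ 2 ∈ (I.ideal U) ^ 2 := Ideal.pow_mem_pow hf 2
        rw [hsq U] at this
        exact this
      have : C.basicOpen f = ⊥ := by
        rw [← Scheme.basicOpen_pow _ f (n := 2) (by norm_num), hf2, Scheme.basicOpen_zero]
      rw [this] at hxf
      exact hxf
    exact hx
  haveI : Surjective I.subschemeι := ⟨hsurj⟩
  haveI : IsAffine C := by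
    refine Groth.Agent.Lib.Helper13.ThickAffine.isAffine_of_nilpotent I.subschemeι hsurj ?_
    intro U' hU'
    refine ⟨2, ?_⟩
    have h1 : RingHom.ker (Groth.Agent.Lib.Helper13.ThickAffine.pb I.subschemeι
        (le_refl (I.subschemeι ⁻¹ᵁ U'))) = I.ideal ⟨U', hU'⟩ := by
      rw [← I.ker_subschemeι_app ⟨U', hU'⟩]
      show RingHom.ker (I.subschemeι.appLE U' (I.subschemeι ⁻¹ᵁ U') _).hom = _
      rw [Scheme.Hom.appLE_eq_app]
    rw [h1]
    exact hsq ⟨U', hU'⟩
  obtain ⟨ℓ, h1, h2⟩ := Groth.Agent.Lib.Helper15.SmoothLiftLocal.exists_lift_affine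
    (I.subschemeι ≫ (C ↘ (Spec (CommRingCat.of k)))) I.subschemeι (𝟙 _)
    (C ↘ (Spec (CommRingCat.of k))) (by simp)
  exact ⟨ℓ, h2, h1⟩

end W1
end H


/-- Let k be a field, C a scheme locally of finite type over k and I ⊂ O_C a quasi-coherent ideal with
I² = 0, with closed subscheme D ⊂ C; suppose D is affine, connected and smooth over k and that I,
regarded as an O_D-module, is invertible (so C is a ribbon on the smooth affine scheme D, and D is
the reduced scheme underlying C). Then the ribbon is split: the inclusion D → C admits a retraction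
C → D over k. -/
theorem result (k : Type u) [Field k] (C : Scheme.{u}) [C.Over (Spec (CommRingCat.of k))]
    [LocallyOfFiniteType (C ↘ (Spec (CommRingCat.of k)))]
    (I : C.IdealSheafData) (hI : I ^ 2 = ⊥) [IsAffine I.subscheme] [ConnectedSpace I.subscheme]
    [Smooth (I.subschemeι ≫ (C ↘ (Spec (CommRingCat.of k))))]
    (hconormal : PicF.IsInvertible ((Scheme.Modules.pullback I.subschemeι).obj (ClSub.idealMod I))) :
    ∃ r : C ⟶ I.subscheme, I.subschemeι ≫ r = 𝟙 I.subscheme ∧
      r ≫ I.subschemeι ≫ (C ↘ (Spec (CommRingCat.of k))) = C ↘ (Spec (CommRingCat.of k)) := by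
  exact W1.main k C I hI

end Groth.Agent.S17661
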