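import Groth.Statements.S17677
import Mathlib
-- import your own Groth.Agent.* helpers here

set_option autoImplicit false
universe u v
open Hoch

namespace Groth.Agent.S17677

open TensorProduct

section
variable (k : Type u) [CommRing k] (A : Type v) [Ring A] [Bialgebra k A]

/-- contraction with a functional on the last factor -/
noncomputable def contr (lam : A →ₗ[k] k) (M : Type v) [AddCommGroup M] [Module k M] :
    M ⊗[k] A →ₗ[k] M :=
  (TensorProduct.rid k M).toLinearMap ∘ₗ lam.lTensor M

theorem contr_natural (lam : A →ₗ[k] k) {M N : Type v} [AddCommGroup M] [Module k M]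
    [AddCommGroup N] [Module k N] (f : M →ₗ[k] N) :
    contr k A lam N ∘ₗ f.rTensor A = f ∘ₗ contr k A lam M := by
  ext m a
  simp [contr]

theorem contr_tail (lam : A →ₗ[k] k) (h1 : lam 1 = 1)
    (h2 : ∀ a : A, contr k A lam A (Coalgebra.comul (R := k) a) = lam a • (1 : A))
    (M : Type v) [AddCommGroup M] [Module k M] :
    contr k A lam (M ⊗[k] A) ∘ₗ tail k A M = - LinearMap.id := by
  have e : contr k A lam (M ⊗[k] A) ∘ₗ (TensorProduct.assoc k M A A).symm.toLinearMap =
      (contr k A lam A).lTensor M := by
    ext m a b
    simp [contr, TensorProduct.tmul_smul]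
  unfold tail
  rw [← LinearMap.comp_assoc, e, ← LinearMap.lTensor_comp]
  have e2 : contr k A lam A ∘ₗ redComul k A = - LinearMap.id := by
    ext a
    simp only [LinearMap.comp_apply, redComul_apply, map_sub, h2, LinearMap.neg_apply,
      LinearMap.id_apply]
    simp [contr, h1]
  rw [e2]
  ext m a
  simp

theorem H1_vanish (lam : A →ₗ[k] k) (h1 : lam 1 = 1)
    (h2 : ∀ a : A, contr k A lam A (Coalgebra.comul (R := k) a) = lam a • (1 : A))
    (V : Type v) [AddCommGroup V] [Module k V] [HopfRep.Comod k A V] :
    cocycles k A V 1 ≤ coboundaries k A V 1 := by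
  intro z hz
  have hz' : d k A V 1 z = 0 := hz
  rw [d_succ] at hz'
  simp only [LinearMap.add_apply, LinearMap.smul_apply, zero_add, pow_one, neg_smul, one_smul] at hz'
  have h3 := congrArg (contr k A lam (V ⊗[k] A)) hz'
  rw [map_add, map_neg, map_zero, ← LinearMap.comp_apply, ← LinearMap.comp_apply] at h3
  erw [contr_natural k A lam (d k A V 0), contr_tail k A lam h1 h2 V] at h3
  simp only [LinearMap.comp_apply, LinearMap.neg_apply, LinearMap.id_apply, neg_neg] at h3
  refine ⟨- contr k A lam V z, ?_⟩
  rw [map_neg]
  exact (eq_neg_of_add_eq_zero_right h3).symm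

end

/-- Let k be a commutative ring, M a commutative monoid and V a right comodule over the monoid bialgebra
k[M] (a quasi-coherent module with an action of the diagonalizable monoid scheme Spec k[M]). Then
every 1-cocycle of the Hochschild complex of V is a 1-coboundary, i.e. the first Hochschild
cohomology module of the diagonalizable monoid with coefficients in V is zero. (The source works
over an algebraic space with M finitely generated and cancellative, hypotheses it uses only to
identify modules under the monoid with comodules; the cocycle computation, which is the affine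
statement given here, uses neither.) -/
theorem result (k : Type u) [CommRing k] (M : Type u)
    [AddCommMonoid M] (V : Type u) [AddCommGroup V] [Module k V]
    [HopfRep.Comod k (AddMonoidAlgebra k M) V] :
    Hoch.cocycles k (AddMonoidAlgebra k M) V 1 ≤ Hoch.coboundaries k (AddMonoidAlgebra k M) V 1 := by
  refine H1_vanish k (AddMonoidAlgebra k M)
    (Finsupp.lapply (0 : M) ∘ₗ (AddMonoidAlgebra.coeffLinearEquiv k).toLinearMap) ?_ ?_ V
  · simp [AddMonoidAlgebra.one_def]
  · intro a
    induction a using AddMonoidAlgebra.induction_linear with
    | zero => simp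
    | add a b ha hb => simp only [map_add, ha, hb, add_smul]
    | single m r =>
      rw [AddMonoidAlgebra.comul_single]
      simp only [CommSemiring.comul_apply, TensorProduct.map_tmul, AddMonoidAlgebra.lsingle_apply]
      simp only [contr, LinearMap.comp_apply, LinearMap.lTensor_tmul, LinearEquiv.coe_coe,
        TensorProduct.rid_tmul, Finsupp.lapply_apply]
      by_cases hm : m = 0
      · subst hm
        simp [AddMonoidAlgebra.one_def]
      · simp [hm]

end Groth.Agent.S17677
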