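import Groth.Statements.S17679
import Mathlib
-- import your own Groth.Agent.* helpers here

set_option autoImplicit false
open DiagMon

namespace Groth.Agent.S17679

/-- For n ≥ 1 the minimal number of generators of ℤ^n as an additive monoid is n + 1: some n + 1
elements generate ℤ^n as a monoid, and every finite set generating ℤ^n as a monoid has at least n +
1 elements. (For n = 0 the empty set generates the zero monoid, so the count n + 1 is stated for n ≥
1 only.) -/
theorem result (n : ℕ) (hn : 1 ≤ n) :
    (∃ s : Finset (Fin n → ℤ), s.card = n + 1 ∧ AddSubmonoid.closure (s : Set (Fin n → ℤ)) = ⊤) ∧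
    ∀ s : Finset (Fin n → ℤ), AddSubmonoid.closure (s : Set (Fin n → ℤ)) = ⊤ → n + 1 ≤ s.card := by
  classical
  constructor
  · let u : Fin n → ℤ := fun _ => -1
    let e : Fin n → (Fin n → ℤ) := fun i => Pi.single i 1
    have he_inj : Function.Injective e := by
      intro i j hij
      by_contra hne
      have := congrFun hij i
      simp only [e, Pi.single_eq_same, Pi.single_eq_of_ne hne] at this
      exact one_ne_zero this
    refine ⟨insert u (Finset.univ.image e), ?_, ?_⟩
    · rw [Finset.card_insert_of_notMem, Finset.card_image_of_injective _ he_inj, Finset.card_univ,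
        Fintype.card_fin]
      simp only [Finset.mem_image, Finset.mem_univ, true_and, not_exists]
      intro i hi
      have := congrFun hi i
      simp only [e, u, Pi.single_eq_same] at this
      omega
    · rw [eq_top_iff]
      intro v _
      set c : ℕ := ∑ i, (v i).natAbs with hc_def
      have hc : ∀ i, 0 ≤ v i + c := by
        intro i
        have h1 : (v i).natAbs ≤ c :=
          Finset.single_le_sum (f := fun i => (v i).natAbs) (fun _ _ => Nat.zero_le _)
            (Finset.mem_univ i)
        have h2 : -((v i).natAbs : ℤ) ≤ v i := by
          have := neg_abs_le (v i)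
          rwa [Int.abs_eq_natAbs] at this
        have h3 : ((v i).natAbs : ℤ) ≤ (c : ℤ) := by exact_mod_cast h1
        linarith
      have hv : v = c • u + ∑ i, (v i + c).toNat • e i := by
        ext j
        simp only [Pi.add_apply, Pi.smul_apply, Finset.sum_apply, u, e, Pi.single_apply,
          smul_eq_mul]
        rw [Finset.sum_congr rfl (fun i _ => by rw [smul_ite, smul_zero]),
          Finset.sum_ite_eq Finset.univ j]
        simp only [Finset.mem_univ, if_true, nsmul_eq_mul, mul_one]
        rw [Int.toNat_of_nonneg (hc j)]
        ring
      rw [hv]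
      refine add_mem (nsmul_mem (AddSubmonoid.subset_closure (by simp)) _)
        (sum_mem fun i _ => nsmul_mem (AddSubmonoid.subset_closure ?_) _)
      simp only [Finset.coe_insert, Finset.coe_image, Finset.coe_univ, Set.image_univ,
        Set.mem_insert_iff, Set.mem_range]
      exact Or.inr ⟨i, rfl⟩
  · intro s hs
    by_contra hlt
    push Not at hlt
    let b : s → (Fin n → ℤ) := fun w => w.1
    have hspan : ⊤ ≤ Submodule.span ℤ (Set.range b) := by
      intro v _
      have hv : v ∈ AddSubmonoid.closure (s : Set (Fin n → ℤ)) := hs ▸ AddSubmonoid.mem_top v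
      have hle : AddSubmonoid.closure (s : Set (Fin n → ℤ)) ≤
          (Submodule.span ℤ (Set.range b)).toAddSubmonoid := by
        rw [AddSubmonoid.closure_le]
        intro w hw
        exact Submodule.subset_span ⟨⟨w, hw⟩, rfl⟩
      exact hle hv
    have hfin : Module.finrank ℤ (Fin n → ℤ) = n := by simp
    have hcard : Fintype.card s = n := by
      have h1 := finrank_range_le_card (R := ℤ) b
      unfold Set.finrank at h1
      rw [eq_top_iff.mpr hspan, finrank_top, hfin] at h1
      rw [Fintype.card_coe] at h1 ⊢
      omega
    have hli := linearIndependent_of_top_le_span_of_card_eq_finrank hspan (by rw [hcard, hfin])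
    have hne : s.Nonempty := by
      rw [← Finset.card_pos]
      rw [Fintype.card_coe] at hcard
      omega
    obtain ⟨v, hv⟩ := hne
    have hneg : -v ∈ AddSubmonoid.closure (s : Set (Fin n → ℤ)) := hs ▸ AddSubmonoid.mem_top _
    obtain ⟨a, ha⟩ := AddSubmonoid.mem_closure_finset'.mp hneg
    have h0 : ∑ i : s, ((a i : ℤ) + if i = ⟨v, hv⟩ then 1 else 0) • b i = 0 := by
      simp only [add_smul, Finset.sum_add_distrib, ite_smul, one_smul, zero_smul,
        Finset.sum_ite_eq', Finset.mem_univ, if_true]
      have : ∑ i : s, (a i : ℤ) • b i = -v := by
        rw [ha]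
        apply Finset.sum_congr rfl
        intros
        rw [natCast_zsmul]
      rw [this]
      simp [b]
    have := Fintype.linearIndependent_iff.mp hli _ h0 ⟨v, hv⟩
    simp only [if_true] at this
    omega

end Groth.Agent.S17679
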