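import Groth.Statements.S17685
import Mathlib
import Groth.Agent.Lib.Helper13.WeilProjOver
import Groth.Prelude.Def_AlgGrp

set_option autoImplicit false
universe u
open CategoryTheory MonoidalCategory CartesianMonoidalCategory MonObj GrpObj AlgebraicGeometry
open AlgGrp

namespace Groth.Agent.S17685

section helpers

open CategoryTheory MonoidalCategory CartesianMonoidalCategory MonObj GrpObj AlgebraicGeometry Limits


set_option backward.isDefEq.respectTransparency false in
theorem isImmersion_equalizer_ι_left {S : Scheme.{u}} {X Y : Over S}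
    (f g : X ⟶ Y) : IsImmersion (equalizer.ι f g).left := by
  refine MorphismProperty.of_isPullback
    ((Limits.isPullback_equalizer_prod f g).map (Over.forget _)).flip ?_
  rw [← MorphismProperty.cancel_right_of_respectsIso @IsImmersion _
    (Over.prodLeftIsoPullback Y Y).hom]
  convert! (inferInstance : IsImmersion (pullback.diagonal Y.hom))
  ext1 <;> simp [← Over.comp_left]

theorem main (S : Scheme.{u})
    (F X : Over S) (e : 𝟙_ (Over S) ⟶ F) (act : F ⊗ X ⟶ X) (he : (e ▷ X) ≫ act = (λ_ X).hom)
    [IsFinite F.hom] [Flat F.hom] [LocallyOfFinitePresentation F.hom]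
    [Surjective e.left] :
    ∃ (Z : Scheme.{u}) (i : Z ⟶ X.left), IsClosedImmersion i ∧
      ∀ (T : Over S) (x : T ⟶ X), (∃ y : T.left ⟶ Z, y ≫ i = x.left) ↔
        ∀ (T' : Over S) (t : T' ⟶ T) (g : T' ⟶ F), lift g (t ≫ x) ≫ act = t ≫ x := by
  -- the two maps `X ⊗ F ⟶ X`
  let f' : X ⊗ F ⟶ X := (β_ X F).hom ≫ act
  let g' : X ⊗ F ⟶ X := fst X F
  -- the section `x ↦ (x, e)`
  let s : X ⟶ X ⊗ F := lift (𝟙 X) (toUnit X ≫ e)
  have hs : s ≫ f' = s ≫ g' := by
    have h1 : s ≫ (β_ X F).hom = (λ_ X).inv ≫ e ▷ X := by
      ext <;> simp [s]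
    simp only [f', g', s]
    rw [← Category.assoc, h1, Category.assoc, he]
    simp
  -- `s.left` is surjective
  have hsurj : Surjective s.left := by
    have hR : IsPullback (fst X F).left (snd X F).left X.hom F.hom :=
      IsPullback.of_hasPullback X.hom F.hom
    have e1 : s.left ≫ (fst X F).left = 𝟙 _ := by
      rw [← Over.comp_left]; simp [s]
    have e2 : e.left ≫ F.hom = 𝟙 _ := Over.w e
    have hO : IsPullback (s.left ≫ (fst X F).left) X.hom X.hom (e.left ≫ F.hom) := by
      rw [e1, e2]
      haveI : IsIso (𝟙 (𝟙_ (Over S)).left) := IsIso.id _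
      exact IsPullback.of_horiz_isIso ⟨by simp⟩
    have hpb : IsPullback s.left X.hom (snd X F).left e.left := by
      refine IsPullback.of_right hO ?_ hR
      rw [← Over.comp_left]
      simp [s]
    exact MorphismProperty.of_isPullback (P := @Surjective) hpb.flip inferInstance
  haveI himm : IsImmersion (equalizer.ι f' g').left := isImmersion_equalizer_ι_left f' g'
  haveI hcl : IsClosedImmersion (equalizer.ι f' g').left := by
    haveI : IsPreimmersion (equalizer.ι f' g').left := inferInstance
    apply IsClosedImmersion.of_isPreimmersion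
    have : Set.range (equalizer.ι f' g').left = Set.univ := by
      rw [Set.eq_univ_iff_forall]
      intro p
      obtain ⟨q, rfl⟩ := hsurj.surj p
      have h2 : s.left = (equalizer.lift s hs).left ≫ (equalizer.ι f' g').left := by
        rw [← Over.comp_left, equalizer.lift_ι]
      rw [h2]
      exact ⟨_, rfl⟩
    rw [this]
    exact isClosed_univ
  obtain ⟨Z, j, hj, -, hZ⟩ := Groth.Agent.Lib.Helper13.WeilProjOver.exists_closed_eq' X F X f' g'
  refine ⟨Z.left, j.left, hj, ?_⟩
  intro T x
  have h1 : (∃ y : T.left ⟶ Z.left, y ≫ j.left = x.left) ↔ ∃ z : T ⟶ Z, z ≫ j = x := by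
    constructor
    · rintro ⟨y, hy⟩
      refine ⟨Over.homMk y ?_, ?_⟩
      · rw [← Over.w j, ← Category.assoc, hy, Over.w]
      · apply Over.OverMorphism.ext
        simpa using hy
    · rintro ⟨z, rfl⟩
      exact ⟨z.left, rfl⟩
  rw [h1, hZ]
  constructor
  · intro h T' t g
    have h2 : lift t g ≫ x ▷ F ≫ f' = lift t g ≫ x ▷ F ≫ g' :=
      congrArg (fun m => lift t g ≫ m) h
    have e1 : lift t g ≫ x ▷ F ≫ f' = lift g (t ≫ x) ≫ act := by
      simp only [f']
      rw [← Category.assoc, ← Category.assoc]
      congr 1
      ext <;> simp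
    have e2 : lift t g ≫ x ▷ F ≫ g' = t ≫ x := by
      simp [g']
    rw [e1, e2] at h2
    exact h2
  · intro h
    have h2 := h (T ⊗ F) (fst T F) (snd T F)
    have e1 : x ▷ F ≫ (β_ X F).hom = lift (snd T F) (fst T F ≫ x) := by
      ext <;> simp
    simp only [f', g']
    rw [← Category.assoc, e1, h2]
    simp


end helpers

/-- Let S be a scheme, F an S-scheme that is finite locally free over S (finite, flat and locally of
finite presentation) with a section e of F over S which is a surjective closed immersion (an
infinitesimal pointed S-scheme), and X an S-scheme with an action of the pointed scheme F, i.e. an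
S-morphism F ×_S X → X through which e acts as the identity. Then the subfunctor of F-fixed points
of X, whose T-points are the T-points x of X with g · x_{T'} = x_{T'} for every S-scheme T' over T
and every T'-point g of F, is represented by a closed subscheme of X. (The source allows F and X to
be algebraic spaces over S; this row is the case of schemes.) -/
theorem result (S : Scheme.{u})
    (F X : Over S) (e : 𝟙_ (Over S) ⟶ F) (act : F ⊗ X ⟶ X) (he : (e ▷ X) ≫ act = (λ_ X).hom)
    [IsFinite F.hom] [Flat F.hom] [LocallyOfFinitePresentation F.hom]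
    [IsClosedImmersion e.left] [Surjective e.left] :
    ∃ (Z : Scheme.{u}) (i : Z ⟶ X.left), IsClosedImmersion i ∧
      ∀ (T : Over S) (x : T ⟶ X), (∃ y : T.left ⟶ Z, y ≫ i = x.left) ↔
        ∀ (T' : Over S) (t : T' ⟶ T) (g : T' ⟶ F), lift g (t ≫ x) ≫ act = t ≫ x := by
  exact main S F X e act he

end Groth.Agent.S17685
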