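import Groth.Statements.S17689
import Groth.Agent.Lib.Helper9.PRad3
import Mathlib.FieldTheory.PurelyInseparable.Basic
import Mathlib.RingTheory.IntegralClosure.IntegrallyClosed
import Mathlib.RingTheory.Polynomial.RationalRoot
import Mathlib.RingTheory.DiscreteValuationRing.Basic

set_option autoImplicit false
universe u
open CategoryTheory AlgebraicGeometry
open Neron

namespace Groth.Agent.S17689

/-- Let R ⊆ S be a finite extension of discrete valuation rings (the structure map R → S is injective
and S is a finite R-module) such that the induced extension K ⊆ L of fraction fields is purely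
inseparable. Then the morphism Spec S → Spec R is a universal homeomorphism: every base change of it
is a homeomorphism on underlying spaces. (No excellence hypothesis is needed here.) -/
theorem result
    (R S K L : Type u) [CommRing R] [IsDomain R] [IsDiscreteValuationRing R]
    [CommRing S] [IsDomain S] [IsDiscreteValuationRing S] [Algebra R S] [Module.Finite R S] [FaithfulSMul R S]
    [Field K] [Field L] [Algebra R K] [IsFractionRing R K] [Algebra S L] [IsFractionRing S L]
    [Algebra K L] [Algebra R L] [IsScalarTower R S L] [IsScalarTower R K L] [IsPurelyInseparable K L] :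
    FlatMor.IsUnivHomeo (Spec.map (CommRingCat.ofHom (algebraMap R S))) := by
  rw [Groth.Agent.Lib.Helper9.UnivHomeoRing.isUnivHomeo_SpecMap_iff']
  haveI : Algebra.IsIntegral R S := inferInstance
  have hint : (algebraMap R S).IsIntegral := Algebra.IsIntegral.isIntegral
  have hinj : Function.Injective (algebraMap R S) := FaithfulSMul.algebraMap_injective R S
  refine ⟨hint, ?_, ?_⟩
  · intro c
    have hker : (⊥ : Ideal S).comap (algebraMap R S) ≤ c.asIdeal := by
      intro x hx
      have h0 : algebraMap R S x = 0 := hx
      rw [hinj (h0.trans (map_zero _).symm)]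
      exact c.asIdeal.zero_mem
    obtain ⟨q, -, hq_prime, hq⟩ :=
      Ideal.exists_ideal_over_prime_of_isIntegral c.asIdeal (⊥ : Ideal S) hker
    exact ⟨⟨q, hq_prime⟩, PrimeSpectrum.ext hq⟩
  · intro F _ g₁ g₂ h12
    have e : ∀ r : R, g₁ (algebraMap R S r) = g₂ (algebraMap R S r) := fun r =>
      congrArg (fun ψ : R →+* F => ψ r) h12
    have key : ∀ s : S, ∃ (n : ℕ) (r : R), s ^ ringExpChar K ^ n = algebraMap R S r := by
      intro s
      obtain ⟨n, z, hz⟩ := IsPurelyInseparable.pow_mem K (ringExpChar K) (algebraMap S L s)
      have hs : IsIntegral R s := hint s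
      have h1 : IsIntegral R (algebraMap K L z) := by
        rw [hz, ← map_pow]
        exact (hs.pow _).map (IsScalarTower.toAlgHom R S L)
      have h2 : IsIntegral R z :=
        (isIntegral_algHom_iff (IsScalarTower.toAlgHom R K L) (algebraMap K L).injective).mp h1
      obtain ⟨r, hr⟩ := IsIntegrallyClosed.isIntegral_iff.mp h2
      refine ⟨n, r, IsFractionRing.injective S L ?_⟩
      rw [map_pow, ← hz, ← hr, ← IsScalarTower.algebraMap_apply R K L,
        ← IsScalarTower.algebraMap_apply R S L]
    refine RingHom.ext fun s => ?_
    obtain ⟨n, r, hr⟩ := key s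
    have h3 : g₁ s ^ ringExpChar K ^ n = g₂ s ^ ringExpChar K ^ n := by
      rw [← map_pow, ← map_pow, hr, e]
    have hE : ∀ q : ℕ, ExpChar K q → g₁ s ^ q ^ n = g₂ s ^ q ^ n → g₁ s = g₂ s := by
      intro q hq h4
      rcases hq with _ | ⟨hprime⟩
      · simpa using h4
      · rename_i hchar
        have hqR : (q : R) = 0 := by
          apply IsFractionRing.injective R K
          rw [map_natCast, map_zero]
          exact CharP.cast_eq_zero K q
        have hqF : (q : F) = 0 := by
          rw [← map_natCast (g₁.comp (algebraMap R S)), hqR, map_zero]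
        haveI : Fact q.Prime := ⟨hprime⟩
        haveI : CharP F q := (CharP.charP_iff_prime_eq_zero hprime).mpr hqF
        exact iterateFrobenius_inj F q n h4
    exact hE (ringExpChar K) inferInstance h3

end Groth.Agent.S17689
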