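import Groth.Statements.S17715
-- import your own Groth.Agent.* helpers here

set_option autoImplicit false
open MoretBailly

namespace Groth.Agent.S17715

open PowerSeries in
theorem coeff_mul3 (P Q : PowerSeries ℚ) :
    coeff 0 (P * Q) = coeff 0 P * coeff 0 Q ∧
    coeff 1 (P * Q) = coeff 0 P * coeff 1 Q + coeff 1 P * coeff 0 Q ∧
    coeff 2 (P * Q) = coeff 0 P * coeff 2 Q + coeff 1 P * coeff 1 Q + coeff 2 P * coeff 0 Q ∧
    coeff 3 (P * Q) = coeff 0 P * coeff 3 Q + coeff 1 P * coeff 2 Q + coeff 2 P * coeff 1 Q +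
      coeff 3 P * coeff 0 Q := by
  refine ⟨?_, ?_, ?_, ?_⟩ <;>
  · rw [coeff_mul, Finset.Nat.sum_antidiagonal_eq_sum_range_succ_mk]
    simp [Finset.sum_range_succ]

/-- the 3-jet of a power series -/
def J (P : PowerSeries ℚ) (a0 a1 a2 a3 : ℚ) : Prop :=
  PowerSeries.coeff 0 P = a0 ∧ PowerSeries.coeff 1 P = a1 ∧ PowerSeries.coeff 2 P = a2 ∧
    PowerSeries.coeff 3 P = a3

theorem J.mul {P Q : PowerSeries ℚ} {a0 a1 a2 a3 b0 b1 b2 b3 : ℚ}
    (hP : J P a0 a1 a2 a3) (hQ : J Q b0 b1 b2 b3) :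
    J (P * Q) (a0 * b0) (a0 * b1 + a1 * b0) (a0 * b2 + a1 * b1 + a2 * b0)
      (a0 * b3 + a1 * b2 + a2 * b1 + a3 * b0) := by
  obtain ⟨h0, h1, h2, h3⟩ := coeff_mul3 P Q
  obtain ⟨p0, p1, p2, p3⟩ := hP
  obtain ⟨q0, q1, q2, q3⟩ := hQ
  refine ⟨?_, ?_, ?_, ?_⟩
  · rw [h0, p0, q0]
  · rw [h1, p0, p1, q0, q1]
  · rw [h2, p0, p1, p2, q0, q1, q2]
  · rw [h3, p0, p1, p2, p3, q0, q1, q2, q3]

theorem J.inv {P : PowerSeries ℚ} {a1 a2 a3 : ℚ} (hP : J P 1 a1 a2 a3) :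
    J P⁻¹ 1 (-a1) (a1 ^ 2 - a2) (-a3 + 2 * a1 * a2 - a1 ^ 3) := by
  have hc : PowerSeries.constantCoeff P ≠ 0 := by
    rw [← PowerSeries.coeff_zero_eq_constantCoeff_apply, hP.1]; exact one_ne_zero
  have h1 : P * P⁻¹ = 1 := PowerSeries.mul_inv_cancel P hc
  obtain ⟨h0', h1', h2', h3'⟩ := coeff_mul3 P P⁻¹
  obtain ⟨p0, p1, p2, p3⟩ := hP
  have c0 : PowerSeries.coeff 0 (1 : PowerSeries ℚ) = 1 := by simp
  have c1 : PowerSeries.coeff 1 (1 : PowerSeries ℚ) = 0 := by simp [PowerSeries.coeff_one]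
  have c2 : PowerSeries.coeff 2 (1 : PowerSeries ℚ) = 0 := by simp [PowerSeries.coeff_one]
  have c3 : PowerSeries.coeff 3 (1 : PowerSeries ℚ) = 0 := by simp [PowerSeries.coeff_one]
  rw [h1, p0] at h0' h1' h2' h3'
  rw [p1] at h1' h2' h3'
  rw [p2] at h2' h3'
  rw [p3] at h3'
  rw [c0] at h0'
  rw [c1] at h1'
  rw [c2] at h2'
  rw [c3] at h3'
  have e0 : PowerSeries.coeff 0 P⁻¹ = 1 := by linarith
  rw [e0] at h1' h2' h3'
  have e1 : PowerSeries.coeff 1 P⁻¹ = -a1 := by linarith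
  rw [e1] at h2' h3'
  have e2 : PowerSeries.coeff 2 P⁻¹ = a1 ^ 2 - a2 := by linarith
  rw [e2] at h3'
  have e3 : PowerSeries.coeff 3 P⁻¹ = -a3 + 2 * a1 * a2 - a1 ^ 3 := by linarith
  exact ⟨e0, e1, e2, e3⟩

theorem J_bern (a : ℚ) :
    J (PowerSeries.rescale a (bernoulli'PowerSeries ℚ)) 1 (a / 2) (a ^ 2 / 12) 0 := by
  refine ⟨?_, ?_, ?_, ?_⟩ <;>
  · rw [PowerSeries.coeff_rescale, bernoulli'PowerSeries, PowerSeries.coeff_mk]
    simp [Nat.factorial, bernoulli'_zero, bernoulli'_one, bernoulli'_two, bernoulli'_three]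
    try ring

theorem J_bern1 : J (bernoulli'PowerSeries ℚ) 1 (1 / 2) (1 / 12) 0 := by
  have := J_bern 1
  simpa using this

theorem J_exp (c : ℚ) :
    J (PowerSeries.rescale c (PowerSeries.exp ℚ)) 1 c (c ^ 2 / 2) (c ^ 3 / 6) := by
  refine ⟨?_, ?_, ?_, ?_⟩ <;>
  · rw [PowerSeries.coeff_rescale, PowerSeries.coeff_exp]
    simp [Nat.factorial]
    try ring

/-- Write B(x) = x/(1 - e^(-x)) for the exponential generating series of the Bernoulli numbers (B'_1 =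
1/2). For all natural numbers d and p the coefficient of x^3 in B(-dx)^(-1) B(-dpx) B(x)^4
e^((dp-d-3)x), i.e. the case n = 3, s = 1 of the Todd-class integrand, equals
-d(d+2)(p-1)(dp-d-2)/24 = -(d^3+2d^2) p^2/24 + (d^3+3d^2+2d) p/12 - (d^3+4d^2+4d)/24. (The published
closed form has the same p^2 and p coefficients but constant term -(d^3+2d^2+2d)/24; direct
expansion gives the value stated here, which vanishes at p = 1.) -/
theorem result (d p : ℕ) :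
    PowerSeries.coeff 3 ((PowerSeries.rescale (-(d : ℚ)) (bernoulli'PowerSeries ℚ))⁻¹ * PowerSeries.rescale (-((d : ℚ) * p)) (bernoulli'PowerSeries ℚ) * bernoulli'PowerSeries ℚ ^ (4) * PowerSeries.rescale ((d : ℚ) * p - d - 3) (PowerSeries.exp ℚ)) =
      -((d : ℚ) * (d + 2) * (p - 1) * (d * p - d - 2)) / 24 := by
  have hB := J_bern1
  have e4 : bernoulli'PowerSeries ℚ ^ 4 = (bernoulli'PowerSeries ℚ * bernoulli'PowerSeries ℚ) *
      (bernoulli'PowerSeries ℚ * bernoulli'PowerSeries ℚ) := by ring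
  rw [e4]
  have hB4 := (hB.mul hB).mul (hB.mul hB)
  have h1 := (J_bern (-(d : ℚ))).inv
  have h2 := J_bern (-((d : ℚ) * p))
  have h4 := J_exp ((d : ℚ) * p - d - 3)
  have h := (((h1.mul h2).mul hB4).mul h4).2.2.2
  rw [h]
  ring

end Groth.Agent.S17715
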