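import Groth.Statements.S17716
import Mathlib.Tactic

set_option autoImplicit false
open MoretBailly

namespace Groth.Agent.S17716

open PowerSeries

/-- first four coefficients -/
def Has4 (f : PowerSeries ℚ) (a0 a1 a2 a3 : ℚ) : Prop :=
  coeff 0 f = a0 ∧ coeff 1 f = a1 ∧ coeff 2 f = a2 ∧ coeff 3 f = a3

lemma Has4.mul {f g : PowerSeries ℚ} {a0 a1 a2 a3 b0 b1 b2 b3 : ℚ}
    (hf : Has4 f a0 a1 a2 a3) (hg : Has4 g b0 b1 b2 b3) :
    Has4 (f * g) (a0 * b0) (a0 * b1 + a1 * b0) (a0 * b2 + a1 * b1 + a2 * b0)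
      (a0 * b3 + a1 * b2 + a2 * b1 + a3 * b0) := by
  obtain ⟨h0, h1, h2, h3⟩ := hf
  obtain ⟨g0, g1, g2, g3⟩ := hg
  refine ⟨?_, ?_, ?_, ?_⟩ <;>
  · rw [coeff_mul, Finset.Nat.sum_antidiagonal_eq_sum_range_succ_mk]
    simp only [Finset.sum_range_succ, Finset.sum_range_zero, zero_add, Nat.sub_zero]
    norm_num [h0, h1, h2, h3, g0, g1, g2, g3]

lemma Has4.rescale {f : PowerSeries ℚ} {a0 a1 a2 a3 : ℚ} (hf : Has4 f a0 a1 a2 a3) (c : ℚ) :
    Has4 (PowerSeries.rescale c f) a0 (c * a1) (c ^ 2 * a2) (c ^ 3 * a3) := by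
  obtain ⟨h0, h1, h2, h3⟩ := hf
  refine ⟨?_, ?_, ?_, ?_⟩ <;> rw [coeff_rescale] <;> simp [h0, h1, h2, h3]

lemma has4_b : Has4 (bernoulli'PowerSeries ℚ) 1 (1 / 2) (1 / 12) 0 := by
  refine ⟨?_, ?_, ?_, ?_⟩ <;>
  · rw [bernoulli'PowerSeries, coeff_mk]
    norm_num [bernoulli'_zero, bernoulli'_one, bernoulli'_two, bernoulli'_three, Nat.factorial]

lemma has4_exp : Has4 (PowerSeries.exp ℚ) 1 1 (1 / 2) (1 / 6) := by
  refine ⟨?_, ?_, ?_, ?_⟩ <;>
  · rw [coeff_exp]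
    norm_num [Nat.factorial]

lemma Has4.inv {f : PowerSeries ℚ} {a1 a2 a3 : ℚ} (hf : Has4 f 1 a1 a2 a3) :
    Has4 f⁻¹ 1 (-a1) (-a2 + a1 ^ 2) (-a3 + 2 * a1 * a2 - a1 ^ 3) := by
  have hc : constantCoeff f ≠ 0 := by
    rw [← coeff_zero_eq_constantCoeff_apply, hf.1]; exact one_ne_zero
  have hinv : f⁻¹ * f = 1 := PowerSeries.inv_mul_cancel f hc
  have key : Has4 (f⁻¹ * f) 1 0 0 0 := by
    rw [hinv]
    refine ⟨?_, ?_, ?_, ?_⟩ <;> simp [coeff_one]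
  have hm := Has4.mul (f := f⁻¹) (g := f) ⟨rfl, rfl, rfl, rfl⟩ hf
  obtain ⟨k0, k1, k2, k3⟩ := key
  obtain ⟨m0, m1, m2, m3⟩ := hm
  rw [k0] at m0; rw [k1] at m1; rw [k2] at m2; rw [k3] at m3
  have e0 : coeff 0 f⁻¹ = 1 := by linarith
  have e1 : coeff 1 f⁻¹ = -a1 := by rw [e0] at m1; linarith
  have e2 : coeff 2 f⁻¹ = -a2 + a1 ^ 2 := by rw [e0, e1] at m2; linarith
  have e3 : coeff 3 f⁻¹ = -a3 + 2 * a1 * a2 - a1 ^ 3 := by rw [e0, e1, e2] at m3; linarith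
  exact ⟨e0, e1, e2, e3⟩


/-- Write B(x) = x/(1 - e^(-x)) for the exponential generating series of the Bernoulli numbers (B'_1 =
1/2). For natural numbers d ≥ 1 and p ≥ 4 the coefficient of x^3 in B(-dx)^(-1) B(-dpx) B(x)^4
e^((dp-d-3)x) (the case n = 3, s = 1 of the Todd-class integrand) is strictly negative. The
published argument needs only primes p ≥ 7; this row covers every natural p ≥ 4. -/
theorem result (d p : ℕ) (hd : 1 ≤ d) (hp : 4 ≤ p) :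
    PowerSeries.coeff 3 ((PowerSeries.rescale (-(d : ℚ)) (bernoulli'PowerSeries ℚ))⁻¹ * PowerSeries.rescale (-((d : ℚ) * p)) (bernoulli'PowerSeries ℚ) * bernoulli'PowerSeries ℚ ^ (4) * PowerSeries.rescale ((d : ℚ) * p - d - 3) (PowerSeries.exp ℚ)) < 0 := by
  have hg := (has4_b.rescale (-(d : ℚ))).inv
  have hf2 := has4_b.rescale (-((d : ℚ) * p))
  have hb4 : bernoulli'PowerSeries ℚ ^ 4
      = (bernoulli'PowerSeries ℚ * bernoulli'PowerSeries ℚ) *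
        (bernoulli'PowerSeries ℚ * bernoulli'PowerSeries ℚ) := by ring
  have hb4' := (has4_b.mul has4_b).mul (has4_b.mul has4_b)
  rw [← hb4] at hb4'
  have hf4 := has4_exp.rescale ((d : ℚ) * p - d - 3)
  have htot := ((hg.mul hf2).mul hb4').mul hf4
  rw [htot.2.2.2]
  have hD : (1 : ℚ) ≤ d := by exact_mod_cast hd
  have hP : (4 : ℚ) ≤ p := by exact_mod_cast hp
  generalize (d : ℚ) = D at *
  generalize (p : ℚ) = P at *
  have hform : ∀ x : ℚ, x = (D * (P - 1) / 24) * (4 - 2 * (D * (P - 2)) - D ^ 2 * (P - 1)) → x < 0 := by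
    intro x hx
    rw [hx]
    apply mul_neg_of_pos_of_neg
    · have : 0 < D * (P - 1) := mul_pos (by linarith) (by linarith)
      linarith
    · have h1 : 2 ≤ D * (P - 2) := by nlinarith
      have h2 : 3 ≤ D ^ 2 * (P - 1) := by nlinarith
      linarith
  apply hform
  ring

end Groth.Agent.S17716
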