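import Groth.Statements.S17721
import Mathlib.RingTheory.PowerSeries.Inverse
import Mathlib.RingTheory.LocalRing.ResidueField.Basic

set_option autoImplicit false
universe u
open CAlg

namespace Groth.Agent.S17721

open Polynomial IsLocalRing

section

variable {R : Type u} [CommRing R] [IsDomain R] [IsDiscreteValuationRing R]

lemma isUnit_of_not_dvd {π : R} (hπ : Irreducible π) {x : R} (hx : ¬ π ∣ x) : IsUnit x := by
  by_contra hnu
  have hmem : x ∈ maximalIdeal R := (IsLocalRing.mem_maximalIdeal x).mpr hnu
  rw [(IsDiscreteValuationRing.irreducible_iff_uniformizer π).mp hπ, Ideal.mem_span_singleton] at hmem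
  exact hx hmem

omit [IsDomain R] [IsDiscreteValuationRing R] in
lemma exists_eq_C_mul {π : R} (f : PowerSeries R) (h : ∀ i, π ∣ PowerSeries.coeff i f) :
    ∃ f' : PowerSeries R, f = PowerSeries.C π * f' := by
  choose c hc using h
  refine ⟨PowerSeries.mk c, ?_⟩
  ext i
  rw [PowerSeries.coeff_C_mul, PowerSeries.coeff_mk, hc i]

lemma gauss {π : R} (hπ : Irreducible π) : ∀ (n : ℕ) (f g : PowerSeries R) (d : R),
    f * g = PowerSeries.C d → Associated d (π ^ n) →
    ∀ i, PowerSeries.coeff 0 f ∣ PowerSeries.coeff i f := by
  intro n
  induction n with
  | zero =>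
    intro f g d hfg hd i
    rw [pow_zero] at hd
    have hdu : IsUnit d := hd.symm.isUnit (isUnit_one)
    have h0 : PowerSeries.coeff 0 f * PowerSeries.coeff 0 g = d := by
      have := congrArg (PowerSeries.coeff 0) hfg
      rwa [PowerSeries.coeff_mul, Finset.Nat.antidiagonal_zero, Finset.sum_singleton,
        PowerSeries.coeff_zero_C] at this
    have : IsUnit (PowerSeries.coeff 0 f) := isUnit_of_mul_isUnit_left (h0 ▸ hdu)
    exact this.dvd
  | succ m ih =>
    intro f g d hfg hd i
    obtain ⟨u, hu⟩ := hd.symm
    -- d = π^(m+1) * u
    have hπ0 : π ≠ 0 := hπ.ne_zero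
    have hCπ : (PowerSeries.C π : PowerSeries R) ≠ 0 := by
      intro h
      apply hπ0
      have := congrArg (PowerSeries.coeff 0) h
      simpa using this
    set d' : R := π ^ m * u with hd'
    have hdd' : d = π * d' := by rw [← hu, hd', pow_succ]; ring
    have hd'a : Associated d' (π ^ m) := ⟨u⁻¹, by rw [hd', mul_assoc, Units.mul_inv, mul_one]⟩
    by_cases hf : ∀ i, π ∣ PowerSeries.coeff i f
    · obtain ⟨f', rfl⟩ := exists_eq_C_mul f hf
      have h1 : f' * g = PowerSeries.C d' := by
        apply mul_left_cancel₀ hCπ
        rw [← mul_assoc, hfg, hdd', map_mul]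
      have := ih f' g d' h1 hd'a i
      rw [PowerSeries.coeff_C_mul, PowerSeries.coeff_C_mul]
      exact mul_dvd_mul_left π this
    · by_cases hg : ∀ i, π ∣ PowerSeries.coeff i g
      · obtain ⟨g', rfl⟩ := exists_eq_C_mul g hg
        have h1 : f * g' = PowerSeries.C d' := by
          apply mul_left_cancel₀ hCπ
          rw [← mul_assoc, mul_comm _ f, mul_assoc, hfg, hdd', map_mul]
        exact ih f g' d' h1 hd'a i
      · exfalso
        -- reduce mod π
        have hf' : PowerSeries.map (residue R) f ≠ 0 := by
          intro h0
          apply hf
          intro i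
          have := congrArg (PowerSeries.coeff i) h0
          rw [PowerSeries.coeff_map, map_zero, residue_eq_zero_iff,
            (IsDiscreteValuationRing.irreducible_iff_uniformizer π).mp hπ,
            Ideal.mem_span_singleton] at this
          exact this
        have hg' : PowerSeries.map (residue R) g ≠ 0 := by
          intro h0
          apply hg
          intro i
          have := congrArg (PowerSeries.coeff i) h0
          rw [PowerSeries.coeff_map, map_zero, residue_eq_zero_iff,
            (IsDiscreteValuationRing.irreducible_iff_uniformizer π).mp hπ,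
            Ideal.mem_span_singleton] at this
          exact this
        have hprod : PowerSeries.map (residue R) f * PowerSeries.map (residue R) g = 0 := by
          rw [← map_mul, hfg, PowerSeries.map_C]
          have : residue R d = 0 := by
            rw [residue_eq_zero_iff,
              (IsDiscreteValuationRing.irreducible_iff_uniformizer π).mp hπ,
              Ideal.mem_span_singleton]
            exact ⟨d', hdd'⟩
          rw [this, map_zero]
        rcases mul_eq_zero.mp hprod with h | h
        · exact hf' h
        · exact hg' h

end


open Polynomial IsLocalRing in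
/-- Let R be a complete discrete valuation ring with fraction field K, and f a polynomial over R with
non-zero constant term a₀ such that a₀ does not divide some coefficient of f of positive degree
(equivalently, the Newton polygon of f has a side of negative slope). Let b be the power series over
K with b · f = a₀, the expansion of the geometric series in 1 − f/a₀. Then the valuations of the
coefficients b_j are not bounded below: for every non-zero c in R there is an index j with c · b_j
outside R. -/
theorem result
    (R : Type u) [CommRing R] [IsDomain R] [IsDiscreteValuationRing R]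
    [IsAdicComplete (maximalIdeal R) R]
    (K : Type u) [Field K] [Algebra R K] [IsFractionRing R K]
    (f : R[X]) (h0 : f.coeff 0 ≠ 0) (hslope : ∃ i : ℕ, 0 < i ∧ ¬ (f.coeff 0 ∣ f.coeff i))
    (b : PowerSeries K)
    (hb : b * ((f.map (algebraMap R K) : K[X]) : PowerSeries K) = PowerSeries.C (algebraMap R K (f.coeff 0))) :
    ∀ c : R, c ≠ 0 → ∃ j : ℕ, algebraMap R K c * PowerSeries.coeff j b ∉ (algebraMap R K).range := by
  intro c hc
  by_contra hcon
  push Not at hcon
  choose g hg using hcon
  obtain ⟨π, hπ⟩ := IsDiscreteValuationRing.exists_irreducible R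
  have hinj : Function.Injective (algebraMap R K) := IsFractionRing.injective R K
  have hprod : (f : PowerSeries R) * PowerSeries.mk g = PowerSeries.C (c * f.coeff 0) := by
    have hmi : Function.Injective (PowerSeries.map (algebraMap R K)) := by
      intro x y hxy
      ext i
      apply hinj
      have := congrArg (PowerSeries.coeff i) hxy
      rwa [PowerSeries.coeff_map, PowerSeries.coeff_map] at this
    apply hmi
    have h1 : PowerSeries.map (algebraMap R K) (PowerSeries.mk g) =
        PowerSeries.C (algebraMap R K c) * b := by
      ext i
      rw [PowerSeries.coeff_map, PowerSeries.coeff_mk, PowerSeries.coeff_C_mul, hg i]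
    have h2 : PowerSeries.map (algebraMap R K) (f : PowerSeries R) =
        ((f.map (algebraMap R K) : K[X]) : PowerSeries K) := by
      ext i
      rw [PowerSeries.coeff_map, Polynomial.coeff_coe, Polynomial.coeff_coe, Polynomial.coeff_map]
    rw [map_mul, h1, h2, PowerSeries.map_C, map_mul, map_mul, mul_comm, mul_assoc, hb]
  have hne : c * f.coeff 0 ≠ 0 := mul_ne_zero hc h0
  obtain ⟨n, hn⟩ := IsDiscreteValuationRing.associated_pow_irreducible hne hπ
  obtain ⟨i, hi, hdvd⟩ := hslope
  apply hdvd
  have := gauss hπ n (f : PowerSeries R) (PowerSeries.mk g) _ hprod hn i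
  rwa [Polynomial.coeff_coe, Polynomial.coeff_coe] at this

end Groth.Agent.S17721
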