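import Groth.Statements.S17722
import Mathlib

set_option autoImplicit false
universe u
open CAlg

namespace Groth.Agent.S17722


/-- Let R → R' be a faithfully flat ring map between Noetherian integrally closed local domains, and p
an ideal of R. If the ideal pR' generated by the image of p is principal, then p is principal. (The
second assertion of the published lemma, descent of unique factorization, is not part of this row.) -/
theorem result
    (R R' : Type u) [CommRing R] [CommRing R'] [IsDomain R] [IsDomain R']
    [IsNoetherianRing R] [IsNoetherianRing R'] [IsLocalRing R] [IsLocalRing R']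
    [IsIntegrallyClosed R] [IsIntegrallyClosed R']
    [Algebra R R'] [Module.FaithfullyFlat R R']
    (p : Ideal R) (hp : (p.map (algebraMap R R')).IsPrincipal) :
    p.IsPrincipal := by
  obtain ⟨t, ht⟩ := hp
  have ht' : p.map (algebraMap R R') = Ideal.span {t} := ht
  have hinj : Function.Injective (Ideal.map (algebraMap R R')) :=
    Ideal.map_injective_of_faithfullyFlat
  by_cases h0 : ∃ x ∈ p, ∃ b : R', IsUnit b ∧ algebraMap R R' x = b * t
  · obtain ⟨x, hx, b, hb, hxb⟩ := h0
    refine ⟨x, ?_⟩
    show p = Ideal.span {x}
    apply hinj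
    rw [ht', Ideal.map_span, Set.image_singleton, hxb, Ideal.span_singleton_mul_left_unit hb]
  · have hle : p.map (algebraMap R R') ≤ IsLocalRing.maximalIdeal R' * Ideal.span {t} := by
      rw [Ideal.map, Ideal.span_le]
      rintro _ ⟨x, hx, rfl⟩
      have hmem : algebraMap R R' x ∈ Ideal.span {t} := by
        rw [← ht']; exact Ideal.mem_map_of_mem _ hx
      obtain ⟨b, hb⟩ := Ideal.mem_span_singleton'.1 hmem
      have hbn : ¬ IsUnit b := fun hbu => h0 ⟨x, hx, b, hbu, hb.symm⟩
      rw [← hb]
      exact Ideal.mul_mem_mul ((IsLocalRing.mem_maximalIdeal b).2 hbn)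
        (Ideal.mem_span_singleton_self t)
    have htm : t ∈ IsLocalRing.maximalIdeal R' * Ideal.span {t} := by
      apply hle
      rw [ht']
      exact Ideal.mem_span_singleton_self t
    obtain ⟨c, hc, hct⟩ := Ideal.mem_mul_span_singleton.1 htm
    have hu : IsUnit (1 - c) := by
      by_contra hn
      have h1 : (1 - c) ∈ IsLocalRing.maximalIdeal R' := (IsLocalRing.mem_maximalIdeal _).2 hn
      have h2 : (1 : R') ∈ IsLocalRing.maximalIdeal R' := by
        have := Ideal.add_mem _ h1 hc
        simpa using this
      exact (Ideal.ne_top_iff_one _).1 (IsLocalRing.maximalIdeal.isMaximal R').ne_top h2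
    have ht0 : t = 0 := by
      have h3 : (1 - c) * t = 0 := by rw [sub_mul, one_mul, hct, sub_self]
      exact (hu.mul_right_eq_zero).1 h3
    have hpb : p = ⊥ := by
      apply hinj
      rw [ht', ht0, Ideal.map_bot]
      simp
    rw [hpb]
    exact bot_isPrincipal

end Groth.Agent.S17722
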