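import Groth.Statements.S17723
import Mathlib

set_option autoImplicit false
universe u
open LabGraph

namespace Groth.Agent.S17723

open LabGraph

section Helpers

variable {V E : Type u} [Fintype V] [Fintype E] [DecidableEq V] [DecidableEq E]

/-- the span of the elementary Cartier functions -/
def elemSpan (ends : E → V × V) (l : E → ℕ) : Submodule ℤ (V → ℤ) :=
  Submodule.span ℤ {g : V → ℤ | ∃ n : ℕ, 0 < n ∧ (∀ v, (n : ℤ) ∣ g v) ∧
      ∀ e, ¬ (l e ∣ n) → g (ends e).1 = g (ends e).2}

/-- prime-to-`p` part of all labels -/
def Mp (l : E → ℕ) (p : ℕ) : ℕ := ∏ e, ordCompl[p] (l e)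

lemma Mp_pos (l : E → ℕ) (hl : ∀ e, 0 < l e) (p : ℕ) : 0 < Mp l p := by
  unfold Mp
  exact Finset.prod_pos fun e _ => Nat.ordCompl_pos p (hl e).ne'

lemma Mp_coprime (l : E → ℕ) (hl : ∀ e, 0 < l e) (p : ℕ) (hp : p.Prime) :
    Nat.Coprime p (Mp l p) := by
  unfold Mp
  exact Nat.Coprime.prod_right fun e _ => Nat.coprime_ordCompl hp (hl e).ne'

lemma dvd_level (l : E → ℕ) (p j : ℕ) (e : E) (h : (l e).factorization p ≤ j) :
    l e ∣ Mp l p * p ^ j := by
  have h1 : ordCompl[p] (l e) ∣ Mp l p := Finset.dvd_prod_of_mem _ (Finset.mem_univ e)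
  have h2 : ordProj[p] (l e) ∣ p ^ j := pow_dvd_pow p h
  have h3 : l e = ordCompl[p] (l e) * ordProj[p] (l e) := by
    rw [mul_comm]; exact (Nat.ordProj_mul_ordCompl_eq_self (l e) p).symm
  rw [h3]
  exact mul_dvd_mul h1 h2

lemma level (ends : E → V × V) (l : E → ℕ) (hl : ∀ e, 0 < l e) (p : ℕ) (hp : p.Prime) :
    ∀ k j : ℕ, (∀ e, (l e).factorization p ≤ j + k) → ∀ g : V → ℤ,
      (∀ e, (p : ℤ) ^ ((l e).factorization p - j) ∣ g (ends e).1 - g (ends e).2) →
      ((Mp l p * p ^ j : ℕ) : ℤ) • g ∈ elemSpan ends l := by
  intro k
  induction k with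
  | zero =>
    intro j hj g _
    apply Submodule.subset_span
    refine ⟨Mp l p * p ^ j, Nat.mul_pos (Mp_pos l hl p) (pow_pos hp.pos j), ?_, ?_⟩
    · intro v
      exact ⟨g v, by simp [Pi.smul_apply, smul_eq_mul]⟩
    · intro e he
      exact absurd (dvd_level l p j e (by simpa using hj e)) he
  | succ k ih =>
    intro j hj g hg
    -- the relation generated by the edges of level > j
    let r : V → V → Prop := fun u v => ∃ e, j < (l e).factorization p ∧ ends e = (u, v)
    let rep : V → V := fun v => (Quot.mk r v).out
    have hrep : ∀ v, Relation.EqvGen r (rep v) v := fun v =>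
      Quot.eqvGen_exact (Quot.out_eq (Quot.mk r v))
    have hS : ∀ u v, Relation.EqvGen r u v → (p : ℤ) ∣ g u - g v := by
      intro u v huv
      induction huv with
      | rel a b hab =>
        obtain ⟨e, he, hab⟩ := hab
        have := hg e
        rw [hab] at this
        refine dvd_trans ?_ this
        exact dvd_pow_self _ (by omega)
      | refl a => simp
      | symm a b _ ih' =>
        have : g b - g a = -(g a - g b) := by ring
        rw [this]; exact (dvd_neg).mpr ih'
      | trans a b c _ _ ih1 ih2 =>
        have : g a - g c = (g a - g b) + (g b - g c) := by ring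
        rw [this]; exact dvd_add ih1 ih2
    have hrep_edge : ∀ e, j < (l e).factorization p → rep (ends e).1 = rep (ends e).2 := by
      intro e he
      have : Quot.mk r (ends e).1 = Quot.mk r (ends e).2 := Quot.sound ⟨e, he, rfl⟩
      simp only [rep, this]
    let c : V → ℤ := fun v => g (rep v)
    let g' : V → ℤ := fun v => (g v - c v) / p
    have hg' : ∀ v, (p : ℤ) * g' v = g v - c v := by
      intro v
      have hd : (p : ℤ) ∣ g v - c v := by
        have := hS _ _ (hrep v)
        have e1 : g v - c v = -(g (rep v) - g v) := by simp only [c]; ring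
        rw [e1]; exact (dvd_neg).mpr this
      exact Int.mul_ediv_cancel' hd
    have hp0 : (p : ℤ) ≠ 0 := by exact_mod_cast hp.ne_zero
    -- the elementary part
    have hc : ((Mp l p * p ^ j : ℕ) : ℤ) • c ∈ elemSpan ends l := by
      apply Submodule.subset_span
      refine ⟨Mp l p * p ^ j, Nat.mul_pos (Mp_pos l hl p) (pow_pos hp.pos j), ?_, ?_⟩
      · intro v
        exact ⟨c v, by simp [Pi.smul_apply, smul_eq_mul]⟩
      · intro e he
        have hlt : j < (l e).factorization p := by
          by_contra hcon
          exact he (dvd_level l p j e (by omega))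
        simp only [Pi.smul_apply, c, hrep_edge e hlt]
    -- the next level
    have hnext : ((Mp l p * p ^ (j + 1) : ℕ) : ℤ) • g' ∈ elemSpan ends l := by
      apply ih (j + 1) (fun e => by have := hj e; omega) g'
      intro e
      by_cases he : (l e).factorization p ≤ j + 1
      · have : (l e).factorization p - (j + 1) = 0 := by omega
        rw [this]; simp
      · have hlt : j < (l e).factorization p := by omega
        have hce : c (ends e).1 = c (ends e).2 := by simp only [c, hrep_edge e hlt]
        have h1 := hg e
        have h2 : g (ends e).1 - g (ends e).2 = (p : ℤ) * (g' (ends e).1 - g' (ends e).2) := by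
          rw [mul_sub, hg', hg', hce]; ring
        rw [h2] at h1
        have h3 : (l e).factorization p - j = ((l e).factorization p - (j + 1)) + 1 := by omega
        rw [h3, pow_succ, mul_comm] at h1
        exact (mul_dvd_mul_iff_left hp0).mp h1
    have hsum : ((Mp l p * p ^ j : ℕ) : ℤ) • g =
        ((Mp l p * p ^ j : ℕ) : ℤ) • c + ((Mp l p * p ^ (j + 1) : ℕ) : ℤ) • g' := by
      funext v
      simp only [Pi.add_apply, Pi.smul_apply, smul_eq_mul]
      have := hg' v
      push_cast
      rw [pow_succ]
      linear_combination (-(Mp l p : ℤ) * (p : ℤ) ^ j) * this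
    rw [hsum]
    exact Submodule.add_mem _ hc hnext

lemma primePart (ends : E → V × V) (l : E → ℕ) (hl : ∀ e, 0 < l e) (p : ℕ) (hp : p.Prime)
    (f : V → ℤ) (hf : IsCartier ends l f) : ((Mp l p : ℕ) : ℤ) • f ∈ elemSpan ends l := by
  have := level ends l hl p hp (∑ e, (l e).factorization p) 0 (fun e => by
    rw [zero_add]
    exact Finset.single_le_sum (f := fun e => (l e).factorization p) (fun _ _ => Nat.zero_le _)
      (Finset.mem_univ e)) f (fun e => by
    rw [Nat.sub_zero]
    refine dvd_trans ?_ (hf e)
    have : p ^ (l e).factorization p ∣ l e := Nat.ordProj_dvd (l e) p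
    exact_mod_cast this)
  simpa using this

lemma IsCartier.smul (ends : E → V × V) (l : E → ℕ) (f : V → ℤ) (hf : IsCartier ends l f) (c : ℤ) :
    IsCartier ends l (c • f) := by
  intro e
  simp only [Pi.smul_apply, smul_eq_mul]
  rw [← mul_sub]
  exact Dvd.dvd.mul_left (hf e) c

lemma descent (ends : E → V × V) (l : E → ℕ) (hl : ∀ e, 0 < l e) :
    ∀ m : ℕ, 0 < m → (∀ f : V → ℤ, IsCartier ends l f → (m : ℤ) • f ∈ elemSpan ends l) →
      ∀ f : V → ℤ, IsCartier ends l f → f ∈ elemSpan ends l := by
  intro m
  induction m using Nat.strong_induction_on with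
  | _ m ih =>
    intro hm hgood f hf
    by_cases h1 : m = 1
    · have := hgood f hf
      rw [h1] at this
      simpa using this
    · have hp : (m.minFac).Prime := Nat.minFac_prime h1
      obtain ⟨d, hd⟩ := Nat.minFac_dvd m
      have hdpos : 0 < d := by
        rcases Nat.eq_zero_or_pos d with h0 | h0
        · rw [h0, mul_zero] at hd; omega
        · exact h0
      have hdlt : d < m := by
        have := hp.two_le
        nlinarith
      apply ih d hdlt hdpos _ f hf
      intro f' hf'
      -- Bezout
      have hcop : IsCoprime ((m.minFac : ℕ) : ℤ) ((Mp l m.minFac : ℕ) : ℤ) :=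
        Nat.isCoprime_iff_coprime.mpr (Mp_coprime l hl _ hp)
      obtain ⟨x, y, hxy⟩ := hcop
      have e1 : (d : ℤ) • f' = x • ((m : ℤ) • f') + y • (((Mp l m.minFac : ℕ) : ℤ) • ((d : ℤ) • f')) := by
        funext v
        simp only [Pi.add_apply, Pi.smul_apply, smul_eq_mul]
        have hm' : (m : ℤ) = (m.minFac : ℤ) * d := by exact_mod_cast hd
        rw [hm']
        linear_combination (-(d : ℤ) * f' v) * hxy
      rw [e1]
      refine Submodule.add_mem _ (Submodule.smul_mem _ _ (hgood f' hf')) (Submodule.smul_mem _ _ ?_)
      exact primePart ends l hl _ hp _ (IsCartier.smul ends l f' hf' _)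

end Helpers

/-- Let G be a finite connected multigraph with endpoint map ends and edge labels l taking positive
integer values. We say g : V → ℤ is elementary-Cartier if, for some integer n ≥ 1, all values of g
are multiples of n and, for each edge whose label fails to divide n, g agrees at its two endpoints
(equivalently, once the edges with label dividing n are removed, g takes a single value on each
connected piece of what remains). Then every Cartier function f (for each edge, the label divides
the difference of the values of f at its endpoints) lies in the ℤ-span of the elementary-Cartier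
functions. -/
theorem result
    {V E : Type u} [Fintype V] [Fintype E] [DecidableEq V] [DecidableEq E]
    (ends : E → V × V) (l : E → ℕ) (hl : ∀ e, 0 < l e) (hconn : LabGraph.Connected ends)
    (f : V → ℤ) (hf : LabGraph.IsCartier ends l f) :
    f ∈ Submodule.span ℤ {g : V → ℤ | ∃ n : ℕ, 0 < n ∧ (∀ v, (n : ℤ) ∣ g v) ∧
      ∀ e, ¬ (l e ∣ n) → g (ends e).1 = g (ends e).2} := by
  exact descent ends l hl (Mp l 2) (Mp_pos l hl 2)
    (fun f' hf' => primePart ends l hl 2 Nat.prime_two f' hf') f hf

end Groth.Agent.S17723
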