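import Groth.Statements.S17724
import Groth.Agent.Lib.Helper25.GraphTree2
-- import your own Groth.Agent.* helpers here

set_option autoImplicit false
universe u v
open LabGraph

namespace Groth.Agent.S17724

open LabGraph
open DualGr Groth.Agent.Lib.Helper25.GraphInc Groth.Agent.Lib.Helper25.GraphTree

theorem core {V E : Type u} [Fintype V] [Fintype E] [DecidableEq V] [DecidableEq E] {L : Type v}
    (ends : E → V × V) (lab : E → L) (n : E → ℕ)
    (hconn : LabGraph.Connected ends)
    (hcirc : ∀ C : Finset E, LabGraph.IsCircuit ends C → ∀ e ∈ C, ∀ e' ∈ C, lab e = lab e')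
    (f : V → ℤ) (hf : LabGraph.IsCartier ends n f) (v₀ : V) :
    ∃ (s : Finset L) (g : L → V → ℤ),
      (∀ a ∈ s, LabGraph.IsCartier ends n (g a) ∧
        (∃ B : Finset E, (∀ e ∈ B, ∀ e' ∈ B, lab e = lab e') ∧
          ∀ e, e ∉ B → g a (ends e).1 = g a (ends e).2) ∧ g a v₀ = 0) ∧
      f = (fun _ => f v₀) + ∑ a ∈ s, g a := by
  classical
  have hempty : IsForestSet ends (∅ : Finset E) := by
    intro C hC hCc
    obtain ⟨e, he⟩ := hCc.1
    exact absurd (hC he) (Finset.notMem_empty e)
  obtain ⟨T, -, hT⟩ := exists_spanningTree_extending ends hconn ∅ hempty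
  let x : L → E → ℤ := fun a e => if lab e = a then f (ends e).2 - f (ends e).1 else 0
  have hpot : ∀ a, ∃ g : V → ℤ, ∀ t ∈ T, g (ends t).2 - g (ends t).1 = x a t :=
    fun a => exists_potential ends T hT (x a)
  choose g₀ hg₀ using hpot
  let g : L → V → ℤ := fun a v => g₀ a v - g₀ a v₀
  have horth : ∀ a, ∀ C : Finset E, IsCircuit ends C → ∀ γ : E → ℤ,
      (∀ v, boundary ends γ v = 0) → (∀ e, e ∉ C → γ e = 0) → ∑ e, γ e * x a e = 0 := by
    intro a C hC γ hγ hγ0
    by_cases hex : ∃ e₁ ∈ C, lab e₁ = a
    · obtain ⟨e₁, he₁, hl₁⟩ := hex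
      rw [← sum_cycle_coboundary ends γ hγ f]
      refine Finset.sum_congr rfl fun e _ => ?_
      by_cases he : e ∈ C
      · have : lab e = a := (hcirc C hC e he e₁ he₁).trans hl₁
        simp only [x, this, if_true]
      · rw [hγ0 e he, zero_mul, zero_mul]
    · push Not at hex
      refine Finset.sum_eq_zero fun e _ => ?_
      by_cases he : e ∈ C
      · simp only [x, hex e he, if_false, mul_zero]
      · rw [hγ0 e he, zero_mul]
  have hall : ∀ a e, g a (ends e).2 - g a (ends e).1 = x a e := by
    intro a e
    have := coboundary_of_tree ends T hT (g₀ a) (x a) (hg₀ a) (horth a) e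
    simp only [g]
    linarith
  refine ⟨Finset.univ.image lab, g, ?_, ?_⟩
  · intro a _
    refine ⟨?_, ⟨Finset.univ.filter fun e => lab e = a, ?_, ?_⟩, ?_⟩
    · intro e
      have h1 := hall a e
      have h2 : g a (ends e).1 - g a (ends e).2 = -(x a e) := by linarith
      rw [h2]
      simp only [x]
      split_ifs
      · have := hf e
        rw [neg_sub]; exact this
      · simp
    · intro e he e' he'
      rw [(Finset.mem_filter.mp he).2, (Finset.mem_filter.mp he').2]
    · intro e he
      have hne : lab e ≠ a := fun h => he (by simp [h])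
      have h1 := hall a e
      simp only [x, hne, if_false] at h1
      linarith
    · simp [g]
  · -- the difference is constant along the tree
    have hconst := eq_of_const_on_tree ends T hT
      (fun v => f v - ∑ a ∈ Finset.univ.image lab, g a v) ?_
    · funext v
      have := hconst v v₀
      have h0 : ∑ a ∈ Finset.univ.image lab, g a v₀ = 0 :=
        Finset.sum_eq_zero fun a _ => by simp [g]
      rw [h0, sub_zero] at this
      simp only [Pi.add_apply, Finset.sum_apply]
      linarith
    · intro t _
      have hsum : ∑ a ∈ Finset.univ.image lab, (g a (ends t).2 - g a (ends t).1) =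
          f (ends t).2 - f (ends t).1 := by
        rw [Finset.sum_congr rfl fun a _ => hall a t]
        simp only [x]
        rw [Finset.sum_ite_eq]
        simp
      rw [Finset.sum_sub_distrib] at hsum
      show f (ends t).1 - ∑ a ∈ Finset.univ.image lab, g a (ends t).1 =
        f (ends t).2 - ∑ a ∈ Finset.univ.image lab, g a (ends t).2
      linarith

/-- Let G be a finite connected multigraph with endpoint map ends, whose edges carry labels lab in a set
L and positive integer labels n, and suppose the L-labels are constant along every circuit. Say g :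
V → ℤ is pre-achievable when for some finite set B of edges all carrying the same L-label, g takes
equal values at the two endpoints of every edge outside B (so g is constant on the connected
components of the graph with B deleted); say g is Cartier when for every edge e the integer n(e)
divides the difference of the values of g at its endpoints. Then every Cartier function f is a
finite sum of functions each of which is Cartier and pre-achievable, and when f vanishes at a vertex
v₀ the summands can all be taken to vanish at v₀. -/
theorem result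
    {V E : Type u} [Fintype V] [Fintype E] [DecidableEq V] [DecidableEq E] {L : Type v}
    (ends : E → V × V) (lab : E → L) (n : E → ℕ) (hn : ∀ e, 0 < n e)
    (hconn : LabGraph.Connected ends)
    (hcirc : ∀ C : Finset E, LabGraph.IsCircuit ends C → ∀ e ∈ C, ∀ e' ∈ C, lab e = lab e')
    (f : V → ℤ) (hf : LabGraph.IsCartier ends n f) :
    f ∈ AddSubmonoid.closure {g : V → ℤ | LabGraph.IsCartier ends n g ∧ (∃ B : Finset E, (∀ e ∈ B, ∀ e' ∈ B, lab e = lab e') ∧ ∀ e, e ∉ B → g (ends e).1 = g (ends e).2)} ∧
    ∀ v₀ : V, f v₀ = 0 →
      f ∈ AddSubmonoid.closure {g : V → ℤ | LabGraph.IsCartier ends n g ∧ (∃ B : Finset E, (∀ e ∈ B, ∀ e' ∈ B, lab e = lab e') ∧ ∀ e, e ∉ B → g (ends e).1 = g (ends e).2) ∧ g v₀ = 0} := by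
  constructor
  · obtain ⟨v₀⟩ := hconn.1
    obtain ⟨s, g, hg, hfg⟩ := core ends lab n hconn hcirc f hf v₀
    rw [hfg]
    refine add_mem (AddSubmonoid.subset_closure ⟨?_, ∅, ?_, ?_⟩) (sum_mem fun a ha => ?_)
    · intro e; simp
    · intro e he; exact absurd he (Finset.notMem_empty e)
    · intro e _; rfl
    · exact AddSubmonoid.subset_closure ⟨(hg a ha).1, (hg a ha).2.1⟩
  · intro v₀ hv₀
    obtain ⟨s, g, hg, hfg⟩ := core ends lab n hconn hcirc f hf v₀
    rw [hfg]
    have : (fun _ : V => f v₀) = 0 := by funext v; simp [hv₀]
    rw [this, zero_add]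
    exact sum_mem fun a ha => AddSubmonoid.subset_closure (hg a ha)

end Groth.Agent.S17724
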