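import Groth.Statements.S17725
import Groth.Agent.Lib.Helper4.SpecChain

set_option autoImplicit false
universe u
open SpecSp

namespace Groth.Agent.S17725

open AlgebraicGeometry in
/-- In a connected Noetherian scheme any two points p, q are linked by a finite chain of points p = x₁,
…, xₙ = q such that for each i one of x_i, x_{i+1} is a specialization of the other; equivalently, p
and q are related by the equivalence relation generated by the specialization relation. -/
theorem result
    (X : Scheme.{u}) [IsNoetherian X] [ConnectedSpace X] (p q : X) :
    Relation.EqvGen (fun x y : X => x ⤳ y) p q := by
  exact Groth.Agent.Lib.Helper4.SpecChain.main TopologicalSpace.NoetherianSpace.finite_irreducibleComponents p q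

end Groth.Agent.S17725
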