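import Groth.Statements.S17726
import Mathlib.RingTheory.Ideal.Operations
import Mathlib.Tactic.Ring

set_option autoImplicit false
universe u
open CAlg

namespace Groth.Agent.S17726

/-- Let f and g be non-zero-divisors of a commutative ring A, not both units; think of them as local
equations, at a point of the union of the supports, of two effective Cartier divisors E and D. If
the ideals generated by g^{m₁} and f^{n₁} coincide, and likewise for g^{m₂} and f^{n₂}, then m₁ n₂ =
m₂ n₁. So all pairs (m, n) with m D = n E locally at the point are proportional, and the saturation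
of the monoid they form is generated by a single element. -/
theorem result
    (A : Type u) [CommRing A] (f g : A)
    (hf : f ∈ nonZeroDivisors A) (hg : g ∈ nonZeroDivisors A) (hfg : ¬ (IsUnit f ∧ IsUnit g))
    (m₁ n₁ m₂ n₂ : ℕ)
    (h₁ : Ideal.span {g ^ m₁} = Ideal.span {f ^ n₁})
    (h₂ : Ideal.span {g ^ m₂} = Ideal.span {f ^ n₂}) :
    m₁ * n₂ = m₂ * n₁ := by
  -- key lemma: a non-zero-divisor with two different powers generating the same ideal is a unit
  have key : ∀ x : A, x ∈ nonZeroDivisors A → ∀ a b : ℕ, a < b →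
      Ideal.span {x ^ a} = Ideal.span {x ^ b} → IsUnit x := by
    intro x hx a b hab h
    have hmem : x ^ a ∈ Ideal.span {x ^ b} := by
      rw [← h]; exact Ideal.subset_span rfl
    obtain ⟨c, hc⟩ := Ideal.mem_span_singleton'.mp hmem
    obtain ⟨k, rfl⟩ := Nat.exists_eq_add_of_lt hab
    have hxa : x ^ a ∈ nonZeroDivisors A := pow_mem hx a
    have h1 : (c * x ^ (k + 1) - 1) * x ^ a = 0 := by
      have : c * x ^ (a + k + 1) = x ^ a := hc
      rw [sub_mul, one_mul, mul_assoc, ← pow_add, show k + 1 + a = a + k + 1 by ring, this,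
        sub_self]
    have h2 : c * x ^ (k + 1) - 1 = 0 := (mem_nonZeroDivisors_iff.mp hxa).2 _ h1
    have h3 : x * (c * x ^ k) = 1 := by
      have : c * x ^ (k + 1) = 1 := sub_eq_zero.mp h2
      rw [← this, pow_succ]; ring
    exact IsUnit.of_mul_eq_one _ h3
  have key' : ∀ x : A, x ∈ nonZeroDivisors A → ∀ a b : ℕ, a ≠ b →
      Ideal.span {x ^ a} = Ideal.span {x ^ b} → IsUnit x := by
    intro x hx a b hab h
    rcases lt_or_gt_of_ne hab with h' | h'
    · exact key x hx a b h' h
    · exact key x hx b a h' h.symm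
  have hpow : ∀ (x y : A) (a b k : ℕ), Ideal.span {x ^ a} = Ideal.span {y ^ b} →
      Ideal.span {x ^ (a * k)} = Ideal.span {y ^ (b * k)} := by
    intro x y a b k h
    rw [pow_mul, pow_mul, ← Ideal.span_singleton_pow (x ^ a), ← Ideal.span_singleton_pow (y ^ b), h]
  by_contra hne
  apply hfg
  constructor
  · -- f is a unit
    apply key' f hf (n₁ * m₂) (n₂ * m₁)
    · intro h; apply hne; rw [mul_comm m₁ n₂, mul_comm m₂ n₁]; exact h.symm
    · rw [← hpow g f m₁ n₁ m₂ h₁, ← hpow g f m₂ n₂ m₁ h₂, mul_comm]
  · -- g is a unit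
    apply key' g hg (m₁ * n₂) (m₂ * n₁) hne
    rw [hpow g f m₁ n₁ n₂ h₁, hpow g f m₂ n₂ n₁ h₂, mul_comm]

end Groth.Agent.S17726
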