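import Groth.Statements.S17732
import Groth.Agent.S2313

set_option autoImplicit false
universe u
open CDiv

namespace Groth.Agent.S17732

open CategoryTheory CategoryTheory.Limits AlgebraicGeometry TopologicalSpace
open Groth.Agent.Lib.Helper29.QCohStalk Groth.Agent.Lib.Helper28.QCohLoc
open Groth.Agent.S2313

/-- powers of a principal ideal generated by a non-unit non-zero-divisor are distinct -/
theorem pow_inj_of_nzd {R : Type*} [CommRing R] {g : R} (hg : g ∈ nonZeroDivisors R) (hgu : ¬ IsUnit g)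
    {a b : ℕ} (h : (Ideal.span {g} : Ideal R) ^ a = Ideal.span {g} ^ b) : a = b := by
  have key : ∀ a b : ℕ, a < b → (Ideal.span {g} : Ideal R) ^ a = Ideal.span {g} ^ b → False := by
    intro a b hab h
    rw [Ideal.span_singleton_pow, Ideal.span_singleton_pow] at h
    have h1 : g ^ a ∈ (Ideal.span {g ^ b} : Ideal R) := by
      rw [← h]; exact Ideal.mem_span_singleton_self _
    rw [Ideal.mem_span_singleton'] at h1
    obtain ⟨c, hc⟩ := h1
    obtain ⟨d, rfl⟩ := Nat.exists_eq_add_of_lt hab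
    have h2 : g ^ a * (c * g ^ (d + 1) - 1) = 0 := by
      calc g ^ a * (c * g ^ (d + 1) - 1) = c * g ^ (a + d + 1) - g ^ a := by ring
        _ = 0 := by rw [hc, sub_self]
    have h3 := (pow_mem hg a).1 _ h2 -- mem_nonZeroDivisors_iff
    have h4 : c * g ^ (d + 1) = 1 := sub_eq_zero.1 h3
    apply hgu
    have : g * (c * g ^ d) = 1 := by rw [← h4]; ring
    exact IsUnit.of_mul_eq_one _ this
  rcases lt_trichotomy a b with hab | hab | hab
  · exact (key a b hab h).elim
  · exact hab
  · exact (key b a hab h.symm).elim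

/-- the ratio of a local relation between two principal nzd ideals, one of which is proper, is unique -/
theorem cross_eq {R : Type*} [CommRing R] {g h : R} (hg : g ∈ nonZeroDivisors R) (hh : h ∈ nonZeroDivisors R)
    (hgu : ¬ IsUnit g ∨ ¬ IsUnit h) {m n m' n' : ℕ}
    (h1 : (Ideal.span {g} : Ideal R) ^ m = Ideal.span {h} ^ n)
    (h2 : (Ideal.span {g} : Ideal R) ^ m' = Ideal.span {h} ^ n') : m * n' = m' * n := by
  rcases hgu with hgu | hhu
  · apply pow_inj_of_nzd hg hgu
    rw [pow_mul, h1, ← pow_mul, mul_comm n n', pow_mul, ← h2, ← pow_mul]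
  · have : n * m' = n' * m := by
      apply pow_inj_of_nzd hh hhu
      rw [pow_mul, ← h1, ← pow_mul, mul_comm m m', pow_mul, h2, ← pow_mul]
    rw [mul_comm m n', ← this, mul_comm]

theorem prop_trans {a0 b0 m1 n1 m2 n2 : ℕ} (h1 : a0 * n1 = m1 * b0) (h2 : m1 * n2 = m2 * n1)
    (hne : (m1, n1) ≠ (0, 0)) : a0 * n2 = m2 * b0 := by
  rcases Nat.eq_zero_or_pos m1 with hm | hm
  · subst hm
    have hn1 : n1 ≠ 0 := fun h => hne (by rw [h])
    rw [zero_mul] at h1 h2
    have ha0 : a0 = 0 := (Nat.mul_eq_zero.1 h1).resolve_right hn1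
    have hm2 : m2 = 0 := (Nat.mul_eq_zero.1 h2.symm).resolve_right hn1
    rw [ha0, hm2, zero_mul, zero_mul]
  · apply Nat.eq_of_mul_eq_mul_left hm
    calc m1 * (a0 * n2) = a0 * (m1 * n2) := by ring
      _ = a0 * (m2 * n1) := by rw [h2]
      _ = m2 * (a0 * n1) := by ring
      _ = m2 * (m1 * b0) := by rw [h1]
      _ = m1 * (m2 * b0) := by ring

/-- an ideal sheaf is the unit ideal on an affine open missing its support -/
theorem ideal_eq_top_of_disjoint {X : Scheme.{u}} (D : X.IdealSheafData) (U : X.affineOpens)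
    (h : Disjoint (D.support : Set X) (U.1 : Set X)) : D.ideal U = ⊤ := by
  by_contra hne
  obtain ⟨p, hp, hle⟩ := Ideal.exists_le_maximal _ hne
  have hU : IsAffineOpen U.1 := U.2
  let pt : PrimeSpectrum Γ(X, U.1) := ⟨p, hp.isPrime⟩
  have hx := fromSpec_mem hU pt
  have hgp := germPrime_fromSpec hU pt
  have hz : hU.fromSpec pt ∈ X.zeroLocus (U := U.1) (D.ideal U) := by
    rw [Scheme.mem_zeroLocus_iff]
    intro f hf
    rw [← mem_germPrime_iff_notMem_basicOpen U.1 _ hx f, hgp]
    exact hle hf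
  have hs := (Scheme.IdealSheafData.mem_support_iff_of_mem (I := D) (U := U) hx).2 hz
  exact Set.disjoint_left.1 h hs hx

/-- at a point of a patch where `D = (g)` the stalk ideal is generated by the germ of `g`, which is a nzd, and a
non-unit if the point lies in the support -/
theorem stalkIdeal_principal {X : Scheme.{u}} (D : X.IdealSheafData) (U : X.affineOpens) (z : X) (hz : z ∈ U.1)
    (g : Γ(X, U.1)) (hg : g ∈ nonZeroDivisors Γ(X, U.1)) (hD : D.ideal U = Ideal.span {g}) :
    stalkIdeal D U z hz = Ideal.span {X.presheaf.germ U.1 z hz g} ∧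
      X.presheaf.germ U.1 z hz g ∈ nonZeroDivisors (X.presheaf.stalk z) ∧
      (z ∈ D.support → ¬ IsUnit (X.presheaf.germ U.1 z hz g)) := by
  have hU : IsAffineOpen U.1 := U.2
  refine ⟨?_, ?_, ?_⟩
  · unfold stalkIdeal
    rw [hD, Ideal.map_span, Set.image_singleton]
  · letI := X.presheaf.algebra_section_stalk ⟨z, hz⟩
    haveI := hU.isLocalization_stalk ⟨z, hz⟩
    exact IsLocalization.nonZeroDivisors_le_comap (hU.primeIdealOf ⟨z, hz⟩).asIdeal.primeCompl
      (X.presheaf.stalk z) hg
  · intro hs hu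
    have h1 := (Scheme.IdealSheafData.mem_support_iff_of_mem (I := D) (U := U) hz).1 hs
    rw [Scheme.mem_zeroLocus_iff] at h1
    have h2 := h1 g (by rw [hD]; exact Ideal.mem_span_singleton_self g)
    exact h2 ((Scheme.mem_basicOpen _ _ _ hz).2 hu)

/-- a relation on an affine patch gives the relation on stalk ideals -/
theorem stalkIdeal_rel {X : Scheme.{u}} (D E : X.IdealSheafData) (U : X.affineOpens) (z : X) (hz : z ∈ U.1)
    {m n : ℕ} (h : D.ideal U ^ m = E.ideal U ^ n) : stalkIdeal D U z hz ^ m = stalkIdeal E U z hz ^ n := by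
  unfold stalkIdeal
  rw [← Ideal.map_pow, ← Ideal.map_pow, h]

/-- uniqueness of the ratio at a point of the union of the supports -/
theorem ratio_unique {X : Scheme.{u}} (D E : X.IdealSheafData)
    (hD : (∀ x : X, ∃ U : X.affineOpens, x ∈ (U : X.Opens) ∧ ∃ g : Γ(X, U), g ∈ nonZeroDivisors Γ(X, U) ∧ D.ideal U = Ideal.span {g}))
    (hE : (∀ x : X, ∃ U : X.affineOpens, x ∈ (U : X.Opens) ∧ ∃ g : Γ(X, U), g ∈ nonZeroDivisors Γ(X, U) ∧ E.ideal U = Ideal.span {g}))
    (z : X) (hzZ : z ∈ (D.support : Set X) ∪ (E.support : Set X))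
    (U1 U2 : X.affineOpens) (hz1 : z ∈ U1.1) (hz2 : z ∈ U2.1) {m1 n1 m2 n2 : ℕ}
    (h1 : D.ideal U1 ^ m1 = E.ideal U1 ^ n1) (h2 : D.ideal U2 ^ m2 = E.ideal U2 ^ n2) : m1 * n2 = m2 * n1 := by
  obtain ⟨UD, hzD, g, hg, hDg⟩ := hD z
  obtain ⟨UE, hzE, h, hh, hEh⟩ := hE z
  obtain ⟨hD1, hD2, hD3⟩ := stalkIdeal_principal D UD z hzD g hg hDg
  obtain ⟨hE1, hE2, hE3⟩ := stalkIdeal_principal E UE z hzE h hh hEh
  have r1 := stalkIdeal_rel D E U1 z hz1 h1
  have r2 := stalkIdeal_rel D E U2 z hz2 h2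
  rw [stalkIdeal_eq D U1 UD z hz1 hzD, stalkIdeal_eq E U1 UE z hz1 hzE, hD1, hE1] at r1
  rw [stalkIdeal_eq D U2 UD z hz2 hzD, stalkIdeal_eq E U2 UE z hz2 hzE, hD1, hE1] at r2
  refine cross_eq hD2 hE2 ?_ r1 r2
  rcases hzZ with hz | hz
  · exact Or.inl (hD3 hz)
  · exact Or.inr (hE3 hz)

open AlgebraicGeometry in
/-- Let X be a Noetherian scheme and D, E effective Cartier divisors on X, encoded by their ideal
sheaves, each locally generated on an affine open by a single non-zero-divisor. Assume that the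
union of the supports of D and E is connected (or empty) and that every point of X has an affine
open neighbourhood on which the m-th power of the ideal of D equals the n-th power of the ideal of E
for some (m, n) ≠ (0, 0). Then there is a pair (m, n) ≠ (0, 0) for which this equality holds on
every affine open of X, that is, m D = n E globally. -/
theorem result
    (X : Scheme.{u}) [IsNoetherian X] (D E : X.IdealSheafData)
    (hD : (∀ x : X, ∃ U : X.affineOpens, x ∈ (U : X.Opens) ∧ ∃ g : Γ(X, U), g ∈ nonZeroDivisors Γ(X, U) ∧ D.ideal U = Ideal.span {g}))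
    (hE : (∀ x : X, ∃ U : X.affineOpens, x ∈ (U : X.Opens) ∧ ∃ g : Γ(X, U), g ∈ nonZeroDivisors Γ(X, U) ∧ E.ideal U = Ideal.span {g}))
    (hconn : IsPreconnected ((D.support : Set X) ∪ (E.support : Set X)))
    (hloc : ∀ x : X, ∃ U : X.affineOpens, x ∈ (U : X.Opens) ∧
      ∃ m n : ℕ, (m, n) ≠ (0, 0) ∧ D.ideal U ^ m = E.ideal U ^ n) :
    ∃ m n : ℕ, (m, n) ≠ (0, 0) ∧ ∀ U : X.affineOpens, D.ideal U ^ m = E.ideal U ^ n := by
  classical
  set Z : Set X := (D.support : Set X) ∪ (E.support : Set X) with hZdef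
  rcases Z.eq_empty_or_nonempty with hZ | ⟨z0, hz0⟩
  · refine ⟨1, 1, by simp, fun U => ?_⟩
    have hDd : Disjoint (D.support : Set X) (U.1 : Set X) := by
      rw [Set.disjoint_left]; intro x hx _
      have : x ∈ Z := Or.inl hx
      rw [hZ] at this; exact this
    have hEd : Disjoint (E.support : Set X) (U.1 : Set X) := by
      rw [Set.disjoint_left]; intro x hx _
      have : x ∈ Z := Or.inr hx
      rw [hZ] at this; exact this
    rw [ideal_eq_top_of_disjoint D U hDd, ideal_eq_top_of_disjoint E U hEd]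
  choose U hxU m n hmn hrel using hloc
  -- Claim A: every patch meeting `Z` has the ratio of the patch of `z0`
  have claimA : ∀ x : X, (Z ∩ ((U x).1 : Set X)).Nonempty → m z0 * n x = m x * n z0 := by
    intro x hx
    by_contra hne
    let u : Set X := ⋃ y ∈ {y : X | m z0 * n y = m y * n z0}, ((U y).1 : Set X)
    let v : Set X := ⋃ y ∈ {y : X | m z0 * n y ≠ m y * n z0}, ((U y).1 : Set X)
    have hu : IsOpen u := isOpen_biUnion fun y _ => (U y).1.isOpen
    have hv : IsOpen v := isOpen_biUnion fun y _ => (U y).1.isOpen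
    have hcov : Z ⊆ u ∪ v := by
      intro z _
      by_cases hz : m z0 * n z = m z * n z0
      · exact Or.inl (Set.mem_biUnion (show z ∈ {y : X | m z0 * n y = m y * n z0} from hz) (hxU z))
      · exact Or.inr (Set.mem_biUnion (show z ∈ {y : X | m z0 * n y ≠ m y * n z0} from hz) (hxU z))
    have hu1 : (Z ∩ u).Nonempty :=
      ⟨z0, hz0, Set.mem_biUnion (show z0 ∈ {y : X | m z0 * n y = m y * n z0} from rfl) (hxU z0)⟩
    have hv1 : (Z ∩ v).Nonempty := by
      obtain ⟨z, hzZ, hzU⟩ := hx
      exact ⟨z, hzZ, Set.mem_biUnion (show x ∈ {y : X | m z0 * n y ≠ m y * n z0} from hne) hzU⟩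
    obtain ⟨z, hzZ, hzu, hzv⟩ := hconn u v hu hv hcov hu1 hv1
    simp only [u, v, Set.mem_iUnion, Set.mem_setOf_eq] at hzu hzv
    obtain ⟨y1, hy1, hz1⟩ := hzu
    obtain ⟨y2, hy2, hz2⟩ := hzv
    have hcross := ratio_unique D E hD hE z hzZ (U y1) (U y2) hz1 hz2 (hrel y1) (hrel y2)
    exact hy2 (prop_trans hy1 hcross (hmn y1))
  -- finite subcover
  obtain ⟨t, ht⟩ := isCompact_univ.elim_nhds_subcover (fun x => ((U x).1 : Set X))
    (fun x _ => (U x).1.isOpen.mem_nhds (hxU x))
  set Q : ℕ := ∏ y ∈ t, (m y + n y) with hQ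
  have hpos : ∀ y, 0 < m y + n y := by
    intro y
    rcases Nat.eq_zero_or_pos (m y + n y) with h0 | h0
    · exfalso
      apply hmn y
      have h1 : m y = 0 := by omega
      have h2 : n y = 0 := by omega
      rw [h1, h2]
    · exact h0
  have hQpos : 0 < Q := Finset.prod_pos fun y _ => hpos y
  refine ⟨m z0 * Q, n z0 * Q, ?_, ?_⟩
  · intro h
    rw [Prod.mk.injEq] at h
    apply hmn z0
    have h1 : m z0 = 0 := (Nat.mul_eq_zero.1 h.1).resolve_right hQpos.ne'
    have h2 : n z0 = 0 := (Nat.mul_eq_zero.1 h.2).resolve_right hQpos.ne'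
    rw [h1, h2]
  -- the relation on each patch of the subcover
  have hpatch : ∀ x ∈ t, D.ideal (U x) ^ (m z0 * Q) = E.ideal (U x) ^ (n z0 * Q) := by
    intro x hxt
    by_cases hmeet : (Z ∩ ((U x).1 : Set X)).Nonempty
    · have hA := claimA x hmeet
      set P : ℕ := ∏ y ∈ t.erase x, (m y + n y) with hP
      have hQP : Q = (m x + n x) * P := (Finset.mul_prod_erase t (fun y => m y + n y) hxt).symm
      have e1 : m z0 * Q = m x * ((m z0 + n z0) * P) := by
        rw [hQP]
        calc m z0 * ((m x + n x) * P) = (m z0 * m x + m z0 * n x) * P := by ring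
          _ = (m z0 * m x + m x * n z0) * P := by rw [hA]
          _ = m x * ((m z0 + n z0) * P) := by ring
      have e2 : n z0 * Q = n x * ((m z0 + n z0) * P) := by
        rw [hQP]
        calc n z0 * ((m x + n x) * P) = (m x * n z0 + n z0 * n x) * P := by ring
          _ = (m z0 * n x + n z0 * n x) * P := by rw [hA]
          _ = n x * ((m z0 + n z0) * P) := by ring
      rw [e1, e2, pow_mul, hrel x, ← pow_mul]
    · rw [Set.not_nonempty_iff_eq_empty] at hmeet
      have hDd : Disjoint (D.support : Set X) ((U x).1 : Set X) := by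
        rw [Set.disjoint_left]; intro y hy hyU
        have : y ∈ Z ∩ ((U x).1 : Set X) := ⟨Or.inl hy, hyU⟩
        rw [hmeet] at this; exact this
      have hEd : Disjoint (E.support : Set X) ((U x).1 : Set X) := by
        rw [Set.disjoint_left]; intro y hy hyU
        have : y ∈ Z ∩ ((U x).1 : Set X) := ⟨Or.inr hy, hyU⟩
        rw [hmeet] at this; exact this
      rw [ideal_eq_top_of_disjoint D (U x) hDd, ideal_eq_top_of_disjoint E (U x) hEd, Ideal.top_pow, Ideal.top_pow]
  -- glue
  have hext : D ^ (m z0 * Q) = E ^ (n z0 * Q) := by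
    refine Scheme.IdealSheafData.ext_of_iSup_eq_top (fun x : t => U x.1) ?_ ?_
    · rw [eq_top_iff]
      intro y _
      have hy : y ∈ ⋃ x ∈ t, ((U x).1 : Set X) := ht.2 (Set.mem_univ y)
      simp only [Set.mem_iUnion] at hy
      obtain ⟨x, hxt, hyx⟩ := hy
      exact Opens.mem_iSup.2 ⟨⟨x, hxt⟩, hyx⟩
    · intro x
      rw [Scheme.IdealSheafData.ideal_pow, Scheme.IdealSheafData.ideal_pow]
      exact hpatch x.1 x.2
  intro V
  have := congrArg (fun I : X.IdealSheafData => I.ideal V) hext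
  simpa [Scheme.IdealSheafData.ideal_pow] using this

end Groth.Agent.S17732
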