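import Groth.Statements.S17751
import Mathlib.RingTheory.Ideal.Height
import Mathlib.RingTheory.Ideal.MinimalPrime.Noetherian
-- import your own Groth.Agent.* helpers here

set_option autoImplicit false
universe u
open LocCoh

namespace Groth.Agent.S17751

lemma key (R : Type u) [CommRing R] [IsNoetherianRing R] (I : Ideal R) (r : ℕ) :
    ∃ f : Fin r → R, (∀ i, f i ∈ I) ∧ ∀ (p : Ideal R) [p.IsPrime],
      Ideal.span (Set.range f) ≤ p → ¬ I ≤ p → (r : ℕ∞) ≤ p.height := by
  classical
  induction r with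
  | zero => exact ⟨Fin.elim0, fun i => i.elim0, fun p _ _ _ => by simp⟩
  | succ r ih =>
    obtain ⟨f, hfI, hf⟩ := ih
    set J := Ideal.span (Set.range f) with hJ
    have hfin : (J.minimalPrimes).Finite := Ideal.finite_minimalPrimes_of_isNoetherianRing R J
    let S : Finset (Ideal R) := hfin.toFinset.filter (fun q => ¬ I ≤ q)
    have hS : ∀ q, q ∈ S ↔ q ∈ J.minimalPrimes ∧ ¬ I ≤ q := by
      intro q
      simp [S]
    have hx : ∃ x ∈ I, ∀ q ∈ S, x ∉ q := by
      by_contra hcon
      push Not at hcon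
      have hsub : (I : Set R) ⊆ ⋃ q ∈ (↑S : Set (Ideal R)), (id q : Ideal R) := by
        intro x hx
        obtain ⟨q, hqS, hxq⟩ := hcon x hx
        exact Set.mem_biUnion hqS hxq
      obtain ⟨q, hqS, hIq⟩ := (Ideal.subset_union_prime (f := id) ⊥ ⊥ (fun q hq _ _ =>
        ((hS q).mp hq).1.1.1)).mp hsub
      exact ((hS q).mp hqS).2 hIq
    obtain ⟨x, hxI, hxS⟩ := hx
    refine ⟨Fin.snoc f x, ?_, ?_⟩
    · intro i
      refine Fin.lastCases ?_ (fun j => ?_) i
      · simpa using hxI
      · simpa using hfI j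
    · intro p _ hp hIp
      have hJp : J ≤ p := by
        refine le_trans (Ideal.span_mono ?_) hp
        rintro _ ⟨j, rfl⟩
        exact ⟨j.castSucc, by simp⟩
      have hxp : x ∈ p := hp (Ideal.subset_span ⟨Fin.last r, by simp⟩)
      obtain ⟨q, hq, hqp⟩ := Ideal.exists_minimalPrimes_le hJp
      have : q.IsPrime := hq.1.1
      have hIq : ¬ I ≤ q := fun h => hIp (h.trans hqp)
      have hxq : x ∉ q := hxS q ((hS q).mpr ⟨hq, hIq⟩)
      have hlt : q < p := lt_of_le_of_ne hqp (fun h => hxq (h ▸ hxp))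
      have h1 : (r : ℕ∞) ≤ q.height := hf q hq.1.2 hIq
      have h2 := Ideal.height_add_one_le_of_lt_of_isPrime hlt
      calc ((r + 1 : ℕ) : ℕ∞) = (r : ℕ∞) + 1 := by push_cast; rfl
        _ ≤ q.height + 1 := by gcongr
        _ ≤ p.height := h2


/-- Suppose R is a Noetherian ring, r is a natural number, and I is an ideal of R. Then there are
elements f_1, …, f_r of I such that for every prime ideal p of R of height less than r, p contains I
if and only if p contains f_1, …, f_r. (For r = 0 there is nothing to prove.) -/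
theorem result (R : Type u) [CommRing R] [IsNoetherianRing R] (I : Ideal R) (r : ℕ) : ∃ f : Fin r → R, (∀ i, f i ∈ I) ∧ ∀ (p : Ideal R) [p.IsPrime], p.height < r → (I ≤ p ↔ Ideal.span (Set.range f) ≤ p) := by
  obtain ⟨f, hfI, hf⟩ := key R I r
  refine ⟨f, hfI, fun p _ hp => ⟨fun h => le_trans (Ideal.span_le.mpr ?_) h, fun h => ?_⟩⟩
  · rintro _ ⟨i, rfl⟩
    exact hfI i
  · by_contra hIp
    exact absurd (hf p h hIp) (not_le.mpr hp)

end Groth.Agent.S17751
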