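import Groth.Statements.S17753
import Groth.Agent.S17751

set_option autoImplicit false
universe u
open LocCoh

namespace Groth.Agent.S17753

/-- Let R be a Noetherian local ring of Krull dimension d and I a proper ideal of R. Then there are d
elements f_1, …, f_d of I such that I and the ideal they generate have the same radical, so the
arithmetic rank of I is at most d. (The published statement has no properness hypothesis; for the
unit ideal of a field, d = 0 and no empty family generates the unit ideal up to radical, and the
published proof uses that the maximal ideal contains I.) -/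
theorem result (R : Type u) [CommRing R] [IsNoetherianRing R] [IsLocalRing R] (d : ℕ) (hd : ringKrullDim R = d) (I : Ideal R) (hI : I ≠ ⊤) : ∃ f : Fin d → R, (∀ i, f i ∈ I) ∧ I.radical = (Ideal.span (Set.range f)).radical := by
  obtain ⟨f, hfI, hf⟩ := Groth.Agent.S17751.key R I d
  have hfin : FiniteRingKrullDim R := by
    rw [finiteRingKrullDim_iff_ne_bot_and_top, hd]
    refine ⟨by simp, fun h => ?_⟩
    have h' : ((d : ℕ∞) : WithBot ℕ∞) = ((⊤ : ℕ∞) : WithBot ℕ∞) := h
    exact ENat.natCast_ne_top d (WithBot.coe_injective h')
  refine ⟨f, hfI, le_antisymm ?_ (Ideal.radical_mono (Ideal.span_le.mpr ?_))⟩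
  · rw [Ideal.radical_le_radical_iff, Ideal.radical_eq_sInf]
    refine le_sInf ?_
    rintro p ⟨hp, hpp⟩
    by_contra hIp
    have h1 : (d : ℕ∞) ≤ p.height := hf p hp hIp
    have h2 : (p.height : WithBot ℕ∞) ≤ ringKrullDim R := Ideal.height_le_ringKrullDim_of_isPrime
    have h3 : (p.height : WithBot ℕ∞) = ringKrullDim R := by
      refine le_antisymm h2 ?_
      rw [hd]
      exact_mod_cast h1
    have hmax : p.IsMaximal := Ideal.isMaximal_of_height_eq_ringKrullDim h3
    have hpm : p = IsLocalRing.maximalIdeal R := IsLocalRing.eq_maximalIdeal hmax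
    exact hIp (hpm ▸ IsLocalRing.le_maximalIdeal hI)
  · rintro _ ⟨i, rfl⟩
    exact hfI i

end Groth.Agent.S17753
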