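import Groth.Statements.S17754
import Mathlib.RingTheory.Ideal.KrullsHeightTheorem
import Mathlib.RingTheory.AdicCompletion.Noetherian
import Mathlib.Tactic.Ring

set_option autoImplicit false
universe u
open CAlg

namespace Groth.Agent.S17754

/-- Let R be a complete Noetherian local ring with maximal ideal m, and let I_0 ⊇ I_1 ⊇ I_2 ⊇ ⋯ be a
descending sequence of ideals of R whose intersection is zero. Then for every natural number n there
is an index s with I_s contained in m^n; that is, the filtration by the I_s is at least as fine as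
the m-adic one. -/
theorem result (R : Type u) [CommRing R] [IsNoetherianRing R] [IsLocalRing R] [IsAdicComplete (IsLocalRing.maximalIdeal R) R] (I : ℕ → Ideal R) (hI : Antitone I) (hinf : ⨅ s, I s = ⊥) (n : ℕ) : ∃ s : ℕ, I s ≤ IsLocalRing.maximalIdeal R ^ n := by
  classical
  by_contra hcon
  push Not at hcon
  -- Step A: stabilization modulo powers of the maximal ideal
  have hstab : ∀ k : ℕ, ∃ s0, ∀ s ≥ s0,
      I s ⊔ IsLocalRing.maximalIdeal R ^ (k + 1) = I s0 ⊔ IsLocalRing.maximalIdeal R ^ (k + 1) := by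
    intro k
    have hp : IsLocalRing.maximalIdeal R ∈ (IsLocalRing.maximalIdeal R ^ (k + 1)).minimalPrimes := by
      refine ⟨⟨inferInstance, Ideal.pow_le_self (Nat.succ_ne_zero k)⟩, ?_⟩
      rintro q ⟨hq, hle⟩ -
      exact Ideal.IsPrime.le_of_pow_le hle
    haveI : IsArtinianRing (R ⧸ IsLocalRing.maximalIdeal R ^ (k + 1)) :=
      IsLocalRing.quotient_artinian_of_mem_minimalPrimes_of_isLocalRing _ hp
    let f : ℕ →o (Ideal (R ⧸ IsLocalRing.maximalIdeal R ^ (k + 1)))ᵒᵈ :=
      ⟨fun s => OrderDual.toDual ((I s).map (Ideal.Quotient.mk _)),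
        fun s t hst => Ideal.map_mono (hI hst)⟩
    obtain ⟨s0, hs0⟩ := IsArtinian.monotone_stabilizes f
    refine ⟨s0, fun s hs => ?_⟩
    have h1 : (I s0).map (Ideal.Quotient.mk (IsLocalRing.maximalIdeal R ^ (k + 1))) =
        (I s).map (Ideal.Quotient.mk (IsLocalRing.maximalIdeal R ^ (k + 1))) := hs0 s hs
    have h2 := congrArg (Ideal.comap (Ideal.Quotient.mk (IsLocalRing.maximalIdeal R ^ (k + 1)))) h1
    rw [Ideal.comap_map_of_surjective _ Ideal.Quotient.mk_surjective,
      Ideal.comap_map_of_surjective _ Ideal.Quotient.mk_surjective,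
      ← RingHom.ker_eq_comap_bot, Ideal.mk_ker] at h2
    exact h2.symm
  choose σ hσ using hstab
  set J : ℕ → Ideal R := fun k => I (σ k) ⊔ IsLocalRing.maximalIdeal R ^ (k + 1) with hJ
  have hB1 : ∀ k t, J k ≤ I t ⊔ IsLocalRing.maximalIdeal R ^ (k + 1) := by
    intro k t
    have h1 := hσ k (max (σ k) t) (le_max_left _ _)
    show I (σ k) ⊔ _ ≤ _
    rw [← h1]
    exact sup_le_sup (hI (le_max_right _ _)) le_rfl
  have hB2 : ∀ k, J k ≤ J (k + 1) ⊔ IsLocalRing.maximalIdeal R ^ (k + 1) := by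
    intro k
    refine (hB1 k (σ (k + 1))).trans ?_
    exact sup_le_sup le_sup_left le_rfl
  -- Step C: the sequence
  have hx0 : ∃ x0, x0 ∈ J n ∧ x0 ∉ IsLocalRing.maximalIdeal R ^ n := by
    obtain ⟨x0, hx0, hx0'⟩ := Set.not_subset.mp (hcon (σ n))
    exact ⟨x0, Ideal.mem_sup_left hx0, hx0'⟩
  obtain ⟨x0, hx0J, hx0m⟩ := hx0
  have hnext : ∀ (j : ℕ) (x : {x : R // x ∈ J (n + j)}),
      ∃ x' : {x : R // x ∈ J (n + (j + 1))},
        (x' : R) - x ∈ IsLocalRing.maximalIdeal R ^ (n + j + 1) := by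
    intro j x
    obtain ⟨x', hx', t, ht, hxt⟩ := Submodule.mem_sup.mp (hB2 (n + j) x.2)
    refine ⟨⟨x', hx'⟩, ?_⟩
    have : x' - (x : R) = -t := by rw [← hxt]; ring
    rw [this]
    exact Ideal.neg_mem_iff _ |>.mpr ht
  choose nxt hnxt using hnext
  let y : ∀ j : ℕ, {x : R // x ∈ J (n + j)} := fun j =>
    Nat.rec (motive := fun j => {x : R // x ∈ J (n + j)}) ⟨x0, hx0J⟩ (fun j x => nxt j x) j
  have hy0 : (y 0 : R) = x0 := rfl
  have hysucc : ∀ j, ((y (j + 1) : R)) - (y j : R) ∈ IsLocalRing.maximalIdeal R ^ (n + j + 1) :=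
    fun j => hnxt j (y j)
  have htel : ∀ i j, i ≤ j → (y j : R) - (y i : R) ∈ IsLocalRing.maximalIdeal R ^ (n + i + 1) := by
    intro i j hij
    induction j, hij using Nat.le_induction with
    | base => simp
    | succ j hij ih =>
      have : (y (j + 1) : R) - (y i : R) = ((y (j + 1) : R) - (y j : R)) + ((y j : R) - (y i : R)) := by
        ring
      rw [this]
      exact Ideal.add_mem _ (Ideal.pow_le_pow_right (by omega) (hysucc j)) ih
  have htop : ∀ k : ℕ, (IsLocalRing.maximalIdeal R ^ k • ⊤ : Submodule R R) =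
      IsLocalRing.maximalIdeal R ^ k := fun k => by
    rw [smul_eq_mul, Ideal.mul_top]
  obtain ⟨L, hL⟩ := IsPrecomplete.prec
    (IsAdicComplete.toIsPrecomplete (I := IsLocalRing.maximalIdeal R) (M := R))
    (f := fun j => (y j : R)) (fun {i j} hij => by
      rw [SModEq.sub_mem, htop]
      have h1 := htel i j hij
      have : (y i : R) - (y j : R) = -((y j : R) - (y i : R)) := by ring
      rw [this]
      exact Ideal.neg_mem_iff _ |>.mpr (Ideal.pow_le_pow_right (by omega) h1))
  have hL' : ∀ j, (y j : R) - L ∈ IsLocalRing.maximalIdeal R ^ j := by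
    intro j
    have := hL j
    rwa [SModEq.sub_mem, htop] at this
  -- Step E: L lies in every I t
  have hLI : ∀ t, L ∈ I t := by
    intro t
    rw [← Ideal.Quotient.eq_zero_iff_mem]
    apply IsHausdorff.haus (I := IsLocalRing.maximalIdeal R) (M := R ⧸ I t) inferInstance
    intro j
    rw [SModEq.zero]
    have h1 : (y j : R) ∈ I t ⊔ IsLocalRing.maximalIdeal R ^ (n + j + 1) := hB1 (n + j) t (y j).2
    obtain ⟨a, ha, c, hc, hac⟩ := Submodule.mem_sup.mp h1
    have h2 : L = a + (c - ((y j : R) - L)) := by rw [← hac]; ring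
    have hc' : c - ((y j : R) - L) ∈ IsLocalRing.maximalIdeal R ^ j :=
      Ideal.sub_mem _ (Ideal.pow_le_pow_right (by omega) hc) (hL' j)
    have h3 : (Ideal.Quotient.mk (I t)) L =
        (c - ((y j : R) - L)) • (Ideal.Quotient.mk (I t)) 1 := by
      conv_lhs => rw [h2]
      rw [map_add, Ideal.Quotient.eq_zero_iff_mem.mpr ha, zero_add, Algebra.smul_def,
        Ideal.Quotient.algebraMap_eq, map_one, mul_one]
    rw [h3]
    exact Submodule.smul_mem_smul hc' Submodule.mem_top
  have hL0 : L = 0 := by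
    have : L ∈ ⨅ s, I s := by
      rw [Ideal.mem_iInf]
      exact hLI
    rw [hinf] at this
    exact this
  -- contradiction
  apply hx0m
  have h1 := hL' n
  have h2 := htel 0 n (Nat.zero_le n)
  rw [hL0, sub_zero] at h1
  rw [hy0] at h2
  have : x0 = (y n : R) - ((y n : R) - x0) := by ring
  rw [this]
  exact Ideal.sub_mem _ h1 (Ideal.pow_le_pow_right (by omega) h2)

end Groth.Agent.S17754
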