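import Groth.Statements.S17761
import Mathlib
import Groth.Agent.Lib.helper11.LCNonVanish

set_option autoImplicit false
universe u
open LocCoh

namespace Groth.Agent.S17761

/-- Let R be a Noetherian local ring with maximal ideal m and M a finitely generated R-module whose
support has positive dimension n. Then the local cohomology module H^n_m(M) is not a finitely
generated R-module. -/
theorem result (R : Type u) [CommRing R] [IsNoetherianRing R] [IsLocalRing R] (M : Type u) [AddCommGroup M] [Module R M] [Module.Finite R M] (n : ℕ) (hn0 : 0 < n) (hn : Module.supportDim R M = n) : ¬ Module.Finite R (LocCoh.H (IsLocalRing.maximalIdeal R) n M) := by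
  intro hfin
  haveI := Groth.Agent.Lib.helper11.LCKit.nontrivial_of_supportDim_eq n M hn
  have hL := Groth.Agent.Lib.helper11.LCKit.smul_top_eq_top_top n hn0 M hn.le
  have hbot : (⊤ : Submodule R (LocCoh.H (IsLocalRing.maximalIdeal R) n M)) = ⊥ := by
    apply Submodule.eq_bot_of_le_smul_of_le_jacobson_bot (IsLocalRing.maximalIdeal R) ⊤
      hfin.fg_top hL.ge
    rw [IsLocalRing.jacobson_eq_maximalIdeal ⊥ bot_ne_top]
  exact top_ne_bot hbot

end Groth.Agent.S17761
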