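import Groth.Statements.S17765
import Groth.Agent.Lib.helper11.ABFormula
import Groth.Agent.Lib.helper11.GorensteinLocal
import Groth.Agent.Lib.helper11.LocalizedPD
import Groth.Agent.S0342
import Groth.Agent.S0564
import Groth.Agent.S5752

set_option autoImplicit false
universe u
open CategoryTheory
open LocCoh

namespace Groth.Agent.S17765

/-- Let B be a regular local ring, M a finitely generated B-module and p an associated prime ideal of M.
Then the height of p is at most the projective dimension of M: for every n such that M has
projective dimension at most n, ht p ≤ n. -/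
theorem result (B : Type u) [CommRing B] [IsRegularLocalRing B] (M : Type u) [AddCommGroup M] [Module B M] [Module.Finite B M] (p : Ideal B) (hp : p ∈ associatedPrimes B M) (n : ℕ) (hn : HasProjectiveDimensionLE (ModuleCat.of B M) n) : p.height ≤ n := by
  classical
  haveI hpp : p.IsPrime := hp.isPrime
  haveI : IsRegularLocalRing (Localization.AtPrime p) := Groth.Agent.S0564.result B p
  have hass := Module.associatedPrimes.mem_associatedPrimes_atPrime_of_mem_associatedPrimes hp
  have hdepth0 : LocCoh.depth (Localization.AtPrime p) (LocalizedModule p.primeCompl M) = 0 :=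
    (Groth.Agent.S5752.result (Localization.AtPrime p) (LocalizedModule p.primeCompl M)).mpr hass
  haveI hnt : Nontrivial (LocalizedModule p.primeCompl M) := by
    by_contra hcon
    rw [not_nontrivial_iff_subsingleton] at hcon
    exact not_isAssociatedPrime_of_subsingleton hass
  have hpd := Groth.Agent.Lib.helper11.LocalizedPD.hasProjectiveDimensionLE_localizedModule
    p.primeCompl M n hn
  have hd : ringKrullDim (Localization.AtPrime p) =
      ((IsLocalRing.maximalIdeal (Localization.AtPrime p)).spanFinrank : ℕ) :=
    (IsRegularLocalRing.spanFinrank_maximalIdeal (R := Localization.AtPrime p)).symm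
  have hG := (Groth.Agent.S0342.result (Localization.AtPrime p)).exists_hasInjectiveDimensionLT
  have hdepth := (Groth.Agent.Lib.helper11.GorensteinLocal.gorenstein_main hG _ hd).2.2
  have hex : ∃ e, CategoryTheory.HasProjectiveDimensionLT
      (ModuleCat.of (Localization.AtPrime p) (LocalizedModule p.primeCompl M)) (e + 1) := ⟨n, hpd⟩
  have he1 := Nat.find_spec hex
  have hle : Nat.find hex ≤ n := Nat.find_min' hex hpd
  have he2 : ¬ CategoryTheory.HasProjectiveDimensionLT
      (ModuleCat.of (Localization.AtPrime p) (LocalizedModule p.primeCompl M)) (Nat.find hex) := by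
    intro hcon
    rcases he : Nat.find hex with _ | e'
    · rw [he] at hcon
      have hz : CategoryTheory.Limits.IsZero
          (ModuleCat.of (Localization.AtPrime p) (LocalizedModule p.primeCompl M)) :=
        CategoryTheory.isZero_of_hasProjectiveDimensionLT_zero _
      exact not_subsingleton _ (ModuleCat.subsingleton_of_isZero hz)
    · rw [he] at hcon
      exact Nat.find_min hex (m := e') (by omega) hcon
  have hAB := Groth.Agent.Lib.helper11.ABFormula.depth_eq_add_depth
    (LocalizedModule p.primeCompl M) _ he1 he2
  rw [hdepth, hdepth0, add_zero] at hAB
  have h1 : (IsLocalRing.maximalIdeal (Localization.AtPrime p)).spanFinrank = Nat.find hex := by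
    exact_mod_cast hAB
  have h2 : ringKrullDim (Localization.AtPrime p) = p.height :=
    IsLocalization.AtPrime.ringKrullDim_eq_height p (Localization.AtPrime p)
  rw [hd, h1] at h2
  have h3 : p.height = (Nat.find hex : ℕ∞) := by
    have := h2.symm
    exact_mod_cast this
  rw [h3]
  exact_mod_cast hle

end Groth.Agent.S17765
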