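import Groth.Statements.S17776
import Groth.Agent.Lib.Helper2.FullCech9

set_option autoImplicit false
universe u
open CategoryTheory CategoryTheory.Limits
attribute [local instance] HasDerivedCategory.standard
open LocCoh

namespace Groth.Agent.S17776

open AlgebraicGeometry Groth.Agent.Lib.Helper2.FullCech4 Groth.Agent.Lib.Helper2.FullCech5
  Groth.Agent.Lib.Helper2.FullCech7 Groth.Agent.Lib.Helper2.FullCech8
  Groth.Agent.Lib.Helper2.FullCech9 Groth.Agent.Lib.Helper2.CechGeoA1
  Groth.Agent.Lib.Helper2.CechGeoA2 Groth.Agent.Lib.Helper2.CechGeoA3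
  Groth.Agent.Lib.Helper2.CechLow2 Groth.Agent.Lib.Helper17

theorem torS_eq {R : Type u} [CommRing R] (fs : List R) (M : Type u) [AddCommGroup M]
    [Module R M] (m : M) :
    m ∈ DRing.torsionSub (Ideal.span {x : R | x ∈ fs}) M ↔ ∀ f ∈ fs, ∃ k : ℕ, f ^ k • m = 0 := by
  constructor
  · rintro ⟨n, hn⟩ f hf
    exact ⟨n, hn _ (Ideal.pow_mem_pow (Ideal.subset_span (show f ∈ {x : R | x ∈ fs} from hf)) n)⟩
  · intro h
    induction fs with
    | nil =>
      refine ⟨1, fun a ha => ?_⟩
      have : Ideal.span {x : R | x ∈ ([] : List R)} = ⊥ := by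
        rw [Ideal.span_eq_bot]
        intro x hx
        simp at hx
      rw [this, pow_one, Ideal.mem_bot] at ha
      rw [ha, zero_smul]
    | cons f fs ih =>
      obtain ⟨n, hn⟩ := ih (fun g hg => h g (List.mem_cons_of_mem _ hg))
      obtain ⟨k, hk⟩ := h f List.mem_cons_self
      refine ⟨k + n, fun a ha => ?_⟩
      have hspan : Ideal.span {x : R | x ∈ f :: fs} =
          Ideal.span {f} ⊔ Ideal.span {x : R | x ∈ fs} := by
        rw [← Ideal.span_union]
        congr 1
        ext x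
        simp
      rw [hspan] at ha
      have ha' := Ideal.sup_pow_add_le_pow_sup_pow ha
      obtain ⟨b, hb, c, hc, rfl⟩ := Submodule.mem_sup.1 ha'
      rw [Ideal.span_singleton_pow, Ideal.mem_span_singleton'] at hb
      obtain ⟨r, rfl⟩ := hb
      rw [add_smul, mul_smul, hk, smul_zero, hn c hc, add_zero]

theorem epsFun_eq_zero_iff_torS {A : Type u} [CommRing A] (fs : List A) (N : ModuleCat.{u} A)
    (m : N) : epsFun fs N m = 0 ↔ m ∈ torS fs N := by
  constructor
  · intro h f hf
    obtain ⟨i, rfl⟩ := List.mem_iff_get.1 hf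
    have h1 := comp_epsFun fs N m (fun _ : Fin (0 + 1) => (⟨i⟩ : ULift.{u} (Fin fs.length)))
    rw [h, CechElem.comp_zero] at h1
    haveI := isLoc_epsW N (gx fs (fun _ : Fin (0 + 1) => (⟨i⟩ : ULift.{u} (Fin fs.length)))) _
      (W_cov fs _)
    obtain ⟨c, hc⟩ := (IsLocalizedModule.eq_zero_iff (Submonoid.powers
      (gx fs (fun _ : Fin (0 + 1) => (⟨i⟩ : ULift.{u} (Fin fs.length))))) (epsW A N _)).1 h1.symm
    obtain ⟨c, k, rfl⟩ := c
    rw [gx_const] at hc
    exact ⟨k, hc⟩
  · intro h
    apply CechElem.ext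
    intro x
    rw [comp_epsFun, CechElem.comp_zero]
    haveI := isLoc_epsW N (gx fs x) _ (W_cov fs x)
    rw [IsLocalizedModule.eq_zero_iff (Submonoid.powers (gx fs x))]
    have hx : x = fun _ : Fin (0 + 1) => x 0 := by
      funext a
      have ha : a = 0 := Fin.fin_one_eq_zero a
      rw [ha]
    obtain ⟨k, hk⟩ := h (fs.get (x 0).down) (List.get_mem _ _)
    refine ⟨(⟨gx fs x ^ k, k, rfl⟩ : Submonoid.powers (gx fs x)), ?_⟩
    change gx fs x ^ k • m = 0
    rw [hx, gx_const]
    exact hk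

theorem map_torS {A : Type u} [CommRing A] (fs : List A) (N : ModuleCat.{u} A) :
    (torS fs N).map ((epsEquivN N : N ≃ₗ[A] SecA (phiA A) (Ft A N) ⊤) : N →ₗ[A] _) =
      LinearMap.ker (resL (phiA A) (Ft A N) (le_top : UofA (phiA A) fs ≤ ⊤)) := by
  ext y
  constructor
  · rintro ⟨m, hm, rfl⟩
    rw [LinearMap.mem_ker]
    have hm' : epsFun fs N m = 0 := (epsFun_eq_zero_iff_torS fs N m).2 hm
    exact (epsFun_eq_zero_iff fs N m).1 hm'
  · intro hy
    refine ⟨(epsEquivN N).symm y, ?_, LinearEquiv.apply_symm_apply _ _⟩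
    change (epsEquivN N).symm y ∈ torS fs N
    rw [← epsFun_eq_zero_iff_torS, epsFun_eq_zero_iff]
    have hy' : resL (phiA A) (Ft A N) (le_top : UofA (phiA A) fs ≤ ⊤) y = 0 := hy
    have : epsEquivN N ((epsEquivN N).symm y) = y := LinearEquiv.apply_symm_apply _ _
    rw [← this] at hy'
    exact hy'


/-- Let R be an arbitrary commutative ring, x_1, …, x_n a finite list of elements of R generating the
ideal I, and M an R-module. Then the degree-zero cohomology of the extended Čech complex 0 → M → ⊕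
M_{x_i} → ⊕ M_{x_i x_j} → ⋯ is isomorphic to Γ_I(M), the submodule of elements of M annihilated by
some power of I (existence of an isomorphism of R-modules; R need not be Noetherian). -/
theorem result (R : Type u) [CommRing R] (fs : List R) (M : Type u) [AddCommGroup M] [Module R M] : Nonempty (DerCA.extCechH fs (ModuleCat.of R M) 0 ≅ (DRing.gammaI (Ideal.span {x | x ∈ fs})).obj (ModuleCat.of R M)) := by
  let N : ModuleCat.{u} R := ModuleCat.of R M
  obtain ⟨e3⟩ := (jinv (phiA R) (Ft R N) fs).H0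
  obtain ⟨e4⟩ := extCechH_congr (epsEquivN N).toModuleIso fs 0
  have e5 : torS fs N ≃ₗ[R]
      LinearMap.ker (resL (phiA R) (Ft R N) (le_top : UofA (phiA R) fs ≤ ⊤)) :=
    LinearEquiv.ofSubmodules (epsEquivN N) _ _ (map_torS fs N)
  have e6 : torS fs N = DRing.torsionSub (Ideal.span {x | x ∈ fs}) M := by
    ext m
    rw [torS_eq]
    rfl
  have e7 : DerCA.extCechH fs N 0 ≃ₗ[R] DRing.torsionSub (Ideal.span {x | x ∈ fs}) M :=
    ((e4.trans e3).trans e5.symm).trans (LinearEquiv.ofEq _ _ e6)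
  exact ⟨e7.toModuleIso⟩

end Groth.Agent.S17776
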