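import Groth.Statements.S17779
import Mathlib
-- import your own Groth.Agent.* helpers here

set_option autoImplicit false
open DRR

namespace Groth.Agent.S17779


open Finset fwdDiff Nat

theorem key (n : ℕ) :
    ((fwdDiff (1 : ℤ))^[n] (fun (r : ℤ) ↦ r ^ (n + 1))) 0 = (((n + 1).choose 2 * n.factorial : ℕ) : ℤ) := by
  induction n with
  | zero => simp
  | succ n IH =>
    have h1 : (fwdDiff (1 : ℤ) fun (r : ℤ) ↦ r ^ (n + 2)) =
        ∑ i ∈ range (n + 2), (n + 2).choose i • fun r ↦ r ^ i := by
      ext x
      simp [nsmul_eq_mul, fwdDiff, add_pow, sum_range_succ, mul_comm]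
    rw [Function.iterate_succ_apply, h1, fwdDiff_iter_finsetSum]
    simp_rw [fwdDiff_iter_const_smul]
    rw [sum_range_succ, sum_range_succ]
    rw [sum_eq_zero (fun i hi => by
      rw [fwdDiff_iter_pow_eq_zero_of_lt (mem_range.1 hi), smul_zero])]
    simp only [Pi.add_apply, Pi.smul_apply, zero_add]
    rw [IH, fwdDiff_iter_eq_factorial]
    have h2 : (n + 1) * n = (n + 1).choose 2 * 2 := by
      have := Nat.add_one_mul_choose_eq n 1
      simpa using this
    have h3 : (n + 2).choose n = (n + 1) + (n + 1).choose 2 := by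
      rw [Nat.choose_symm_of_eq_add (show n + 2 = n + 2 from rfl)]
      rw [Nat.choose_succ_succ' (n + 1) 1]
      simp
    have h4 : (n + 2).choose (n + 1) = n + 2 := by
      rw [Nat.choose_symm_of_eq_add (show n + 2 = (n + 1) + 1 from rfl)]
      simp
    have h5 : (n + 2).choose 2 = (n + 1) + (n + 1).choose 2 := by
      rw [Nat.choose_succ_succ' (n + 1) 1]
      simp
    rw [h3, h4, h5, Nat.factorial_succ]
    simp only [nsmul_eq_mul, Pi.natCast_apply]
    push_cast
    have h2' : ((n : ℤ) + 1) * n = ((n + 1).choose 2 : ℤ) * 2 := by exact_mod_cast h2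
    linear_combination (-(n.factorial : ℤ)) * h2'

/-- For natural numbers n and k with k ≤ n + 1, the alternating sum over j = 0, …, n of (−1)^(n−j) C(n,
j) j^k (with the convention 0^0 = 1) equals n! · n(n+1)/2 when k = n + 1, equals n! when k = n, and
vanishes when k < n. (The published statement takes n ≥ 1 and divides through by n!; the case n = 0
holds as well and is included.) -/
theorem result (n k : ℕ) (hk : k ≤ n + 1) :
    (∑ j ∈ Finset.range (n + 1), (-1 : ℤ) ^ (n - j) * (n.choose j : ℤ) * (j : ℤ) ^ k) =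
      (if k = n + 1 then (((n + 1).choose 2 * n.factorial : ℕ) : ℤ)
        else if k = n then (n.factorial : ℤ) else 0) := by
  have h := fwdDiff_iter_eq_sum_shift (h := (1 : ℤ)) (fun r : ℤ => r ^ k) n 0
  have hL : (∑ j ∈ Finset.range (n + 1), (-1 : ℤ) ^ (n - j) * (n.choose j : ℤ) * (j : ℤ) ^ k) =
      ((fwdDiff (1 : ℤ))^[n] (fun r : ℤ => r ^ k)) 0 := by
    rw [h]
    apply Finset.sum_congr rfl
    intro j _
    simp
  rw [hL]
  by_cases h1 : k = n + 1
  · subst h1
    rw [if_pos rfl]
    exact key n
  · rw [if_neg h1]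
    by_cases h2 : k = n
    · subst h2
      rw [if_pos rfl, fwdDiff_iter_eq_factorial]
      simp
    · rw [if_neg h2]
      have hlt : k < n := by omega
      rw [fwdDiff_iter_pow_eq_zero_of_lt hlt]
      rfl

end Groth.Agent.S17779
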