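import Groth.Statements.S17780
import Groth.Agent.S17779
import Mathlib
-- import your own Groth.Agent.* helpers here

set_option autoImplicit false
universe u
open DRR

namespace Groth.Agent.S17780

/-- For x, y in a commutative ring and a natural number n, (n+1)! · x · y^n equals the sum over j = 0,
…, n of (−1)^(n−j) C(n, j) (x + j y)^(n+1), minus (n · (n+1)!/2) · y^(n+1). (The published identity
is stated in ℚ[x, y] with an overall factor 1/(n+1) and the coefficients C(n, j)(−1)^(n−j)/n!; it is
given here multiplied through by (n+1)!, which makes it an identity with integer coefficients valid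
in every commutative ring; n · (n+1)!/2 is an integer.) -/
theorem result (A : Type u) [CommRing A] (x y : A) (n : ℕ) :
    ((n + 1).factorial : A) * x * y ^ n =
      (∑ j ∈ Finset.range (n + 1), (-1 : A) ^ (n - j) * (n.choose j : A) * (x + (j : A) * y) ^ (n + 1))
        - ((n * (n + 1).factorial / 2 : ℕ) : A) * y ^ (n + 1) := by
  classical
  -- the three values of the alternating power sums, cast to A
  have hT1 : (∑ j ∈ Finset.range (n + 1), (-1 : A) ^ (n - j) * (n.choose j : A) * (j : A) ^ (n + 1)) =
      (((n + 1).choose 2 * n.factorial : ℕ) : A) := by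
    have := congrArg (Int.cast : ℤ → A) (Groth.Agent.S17779.result n (n + 1) le_rfl)
    rw [if_pos rfl] at this
    push_cast at this
    push_cast
    exact this
  have hT2 : (∑ j ∈ Finset.range (n + 1), (-1 : A) ^ (n - j) * (n.choose j : A) * (j : A) ^ n) =
      (n.factorial : A) := by
    have := congrArg (Int.cast : ℤ → A) (Groth.Agent.S17779.result n n (Nat.le_succ n))
    rw [if_neg (by omega), if_pos rfl] at this
    push_cast at this
    exact this
  have hT3 : ∀ i < n, (∑ j ∈ Finset.range (n + 1),
      (-1 : A) ^ (n - j) * (n.choose j : A) * (j : A) ^ i) = 0 := by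
    intro i hi
    have := congrArg (Int.cast : ℤ → A) (Groth.Agent.S17779.result n i (by omega))
    rw [if_neg (by omega), if_neg (by omega)] at this
    push_cast at this
    exact this
  have hc : (n * (n + 1).factorial / 2 : ℕ) = (n + 1).choose 2 * n.factorial := by
    have h2 : (n + 1) * n = (n + 1).choose 2 * 2 := by
      have := Nat.add_one_mul_choose_eq n 1
      simpa using this
    rw [Nat.factorial_succ]
    have : n * ((n + 1) * n.factorial) = 2 * ((n + 1).choose 2 * n.factorial) := by
      calc n * ((n + 1) * n.factorial) = ((n + 1) * n) * n.factorial := by ring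
        _ = ((n + 1).choose 2 * 2) * n.factorial := by rw [h2]
        _ = 2 * ((n + 1).choose 2 * n.factorial) := by ring
    rw [this, Nat.mul_div_cancel_left _ (by norm_num : 0 < 2)]
  have hS : (∑ j ∈ Finset.range (n + 1),
      (-1 : A) ^ (n - j) * (n.choose j : A) * (x + (j : A) * y) ^ (n + 1)) =
      ∑ m ∈ Finset.range (n + 2), x ^ m * y ^ (n + 1 - m) * ((n + 1).choose m : A) *
        (∑ j ∈ Finset.range (n + 1), (-1 : A) ^ (n - j) * (n.choose j : A) * (j : A) ^ (n + 1 - m)) := by
    simp_rw [add_pow, Finset.mul_sum]
    rw [Finset.sum_comm]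
    apply Finset.sum_congr rfl
    intro m _
    apply Finset.sum_congr rfl
    intro j _
    rw [mul_pow]
    ring
  rw [hS, Finset.sum_range_succ', Finset.sum_range_succ']
  rw [Finset.sum_eq_zero (fun m hm => by
    have hm' : m < n := Finset.mem_range.mp hm
    rw [hT3 (n + 1 - (m + 1 + 1)) (by omega), mul_zero])]
  simp only [zero_add, Nat.add_sub_cancel, pow_one, pow_zero, Nat.choose_one_right,
    Nat.choose_zero_right, Nat.cast_one, mul_one, one_mul, Nat.sub_zero]
  rw [hT1, hT2, hc, Nat.factorial_succ]
  push_cast
  ring

end Groth.Agent.S17780
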