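import Groth.Statements.S17814
import Groth.Agent.Lib.Helper29.FibreLeAlg
import Groth.Agent.Lib.Helper29.IdealComap

set_option autoImplicit false
universe u
open CategoryTheory CategoryTheory.Limits AlgebraicGeometry
open SDiv

namespace Groth.Agent.S17814



section Helpers

open TensorProduct TopologicalSpace
open Groth.Agent.Lib.Helper29.FibreLe Groth.Agent.Lib.Helper29.EffCart

variable {𝒞 T : Scheme.{u}} (π : 𝒞 ⟶ T)

lemma fromSpecResidueField_eq {W : T.Opens} (hW : IsAffineOpen W) (t : T) (ht : t ∈ W) :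
    T.fromSpecResidueField t = Spec.map (T.evaluation W t ht) ≫ hW.fromSpec := by
  rw [Scheme.fromSpecResidueField, ← hW.fromSpecStalk_eq_fromSpecStalk ht,
    IsAffineOpen.fromSpecStalk, ← Spec.map_comp_assoc]
  rfl

lemma fromSpec_mem {W : T.Opens} (hW : IsAffineOpen W) (p : Spec Γ(T, W)) :
    hW.fromSpec p ∈ W := by
  have : hW.fromSpec p ∈ Set.range hW.fromSpec := ⟨p, rfl⟩
  rw [hW.range_fromSpec] at this
  exact this

lemma ker_evaluation {W : T.Opens} (hW : IsAffineOpen W) (p : Spec Γ(T, W)) :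
    RingHom.ker (T.evaluation W (hW.fromSpec p) (fromSpec_mem hW p)).hom = p.asIdeal := by
  ext a
  rw [RingHom.mem_ker]
  have h1 := Scheme.evaluation_eq_zero_iff_notMem_basicOpen T (hW.fromSpec p) (fromSpec_mem hW p) a
  rw [h1]
  have h2 : hW.fromSpec p ∈ T.basicOpen a ↔ p ∈ hW.fromSpec ⁻¹ᵁ T.basicOpen a := Iff.rfl
  rw [h2, hW.fromSpec_preimage_basicOpen]
  exact not_not

/-- flatness of `Γ(U)/I'(U)` over `Γ(W)` from flatness of the closed subscheme. -/
theorem flat_quotient (D' : 𝒞.IdealSheafData) (hflat : Flat (D'.subschemeι ≫ π))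
    {U : 𝒞.Opens} (hU : IsAffineOpen U) {W : T.Opens} (hW : IsAffineOpen W) (e : U ≤ π ⁻¹ᵁ W) :
    letI := (π.appLE W U e).hom.toAlgebra
    Module.Flat Γ(T, W) (Γ(𝒞, U) ⧸ D'.ideal ⟨U, hU⟩) := by
  letI := (π.appLE W U e).hom.toAlgebra
  set Z : D'.subscheme.Opens := D'.subschemeι ⁻¹ᵁ U with hZ
  have hZaff : IsAffineOpen Z := hU.preimage D'.subschemeι
  have eZ : Z ≤ (D'.subschemeι ≫ π) ⁻¹ᵁ W := by
    intro z hz
    exact e hz
  have h1 : ((D'.subschemeι ≫ π).appLE W Z eZ).hom.Flat :=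
    HasRingHomProperty.appLE (P := @Flat) _ hflat ⟨W, hW⟩ ⟨Z, hZaff⟩ eZ
  set q : Γ(𝒞, U) →+* Γ(D'.subscheme, Z) := (D'.subschemeι.app U).hom with hq
  have hqs : Function.Surjective q := D'.subschemeι_app_surjective ⟨U, hU⟩
  have hqk : RingHom.ker q = D'.ideal ⟨U, hU⟩ := D'.ker_subschemeι_app ⟨U, hU⟩
  have h2 : ((D'.subschemeι ≫ π).appLE W Z eZ).hom = q.comp (π.appLE W U e).hom := by
    have := Scheme.Hom.appLE_comp_appLE D'.subschemeι π W U Z e le_rfl
    rw [Scheme.Hom.appLE_eq_app] at this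
    rw [← this]
    rfl
  letI algZ : Algebra Γ(T, W) Γ(D'.subscheme, Z) := ((D'.subschemeι ≫ π).appLE W Z eZ).hom.toAlgebra
  have h1' : Module.Flat Γ(T, W) Γ(D'.subscheme, Z) := h1
  let ε : (Γ(𝒞, U) ⧸ D'.ideal ⟨U, hU⟩) ≃+* Γ(D'.subscheme, Z) :=
    (Ideal.quotEquivOfEq hqk.symm).trans (RingHom.quotientKerEquivOfSurjective hqs)
  have hε : ∀ b, ε (Ideal.Quotient.mk _ b) = q b := fun b => rfl
  let εl : (Γ(𝒞, U) ⧸ D'.ideal ⟨U, hU⟩) ≃ₗ[Γ(T, W)] Γ(D'.subscheme, Z) :=
    { ε with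
      map_smul' := fun a y => by
        obtain ⟨b, rfl⟩ := Ideal.Quotient.mk_surjective y
        change ε (Ideal.Quotient.mk _ (a • b)) = algebraMap _ _ a * ε (Ideal.Quotient.mk _ b)
        rw [hε, hε, Algebra.smul_def, map_mul]
        change _ = ((D'.subschemeι ≫ π).appLE W Z eZ).hom a * q b
        rw [h2]
        rfl }
  exact Module.Flat.of_linearEquiv εl

lemma map_le_map_of_bijective {R S : Type*} [CommRing R] [CommRing S] (j : R →+* S)
    (hj : Function.Bijective j) (I J : Ideal R) (h : I.map j ≤ J.map j) : I ≤ J := by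
  have h1 := Ideal.comap_mono (f := j) h
  rwa [Ideal.comap_map_of_bijective j hj, Ideal.comap_map_of_bijective j hj] at h1

/-- the fibre hypothesis, read on an affine chart. -/
theorem map_le_of_fibre (D D' : 𝒞.IdealSheafData)
    {U : 𝒞.Opens} (hU : IsAffineOpen U) {W : T.Opens} (hW : IsAffineOpen W) (e : U ≤ π ⁻¹ᵁ W)
    (t : T) (ht : t ∈ W)
    (hfib : D.comap (pullback.fst π (T.fromSpecResidueField t)) ≤
      D'.comap (pullback.fst π (T.fromSpecResidueField t))) :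
    letI := (π.appLE W U e).hom.toAlgebra
    letI := (T.evaluation W t ht).hom.toAlgebra
    (D.ideal ⟨U, hU⟩).map (Algebra.TensorProduct.includeLeft (R := Γ(T, W)) (S := Γ(T, W))
        (A := Γ(𝒞, U)) (B := T.residueField t)).toRingHom ≤
      (D'.ideal ⟨U, hU⟩).map (Algebra.TensorProduct.includeLeft (R := Γ(T, W)) (S := Γ(T, W))
        (A := Γ(𝒞, U)) (B := T.residueField t)).toRingHom := by
  letI := (π.appLE W U e).hom.toAlgebra
  letI := (T.evaluation W t ht).hom.toAlgebra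
  set φL : Γ(𝒞, U) ⟶ CommRingCat.of (Γ(𝒞, U) ⊗[Γ(T, W)] T.residueField t) :=
    CommRingCat.ofHom (Algebra.TensorProduct.includeLeft (R := Γ(T, W)) (S := Γ(T, W))
        (A := Γ(𝒞, U)) (B := T.residueField t)).toRingHom with hφL
  set φR : T.residueField t ⟶ CommRingCat.of (Γ(𝒞, U) ⊗[Γ(T, W)] T.residueField t) :=
    CommRingCat.ofHom (Algebra.TensorProduct.includeRight (R := Γ(T, W))
        (A := Γ(𝒞, U)) (B := T.residueField t)).toRingHom with hφR
  have hcomm0 : π.appLE W U e ≫ φL = T.evaluation W t ht ≫ φR := by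
    apply CommRingCat.hom_ext
    apply RingHom.ext
    intro a
    change (algebraMap Γ(T, W) Γ(𝒞, U) a) ⊗ₜ[Γ(T, W)] (1 : T.residueField t) =
      (1 : Γ(𝒞, U)) ⊗ₜ[Γ(T, W)] (algebraMap Γ(T, W) (T.residueField t) a)
    rw [Algebra.algebraMap_eq_smul_one, Algebra.algebraMap_eq_smul_one, TensorProduct.smul_tmul]
  set θ : Spec (CommRingCat.of (Γ(𝒞, U) ⊗[Γ(T, W)] T.residueField t)) ⟶ 𝒞 :=
    Spec.map φL ≫ hU.fromSpec with hθ
  have hcomm : θ ≫ π = Spec.map φR ≫ T.fromSpecResidueField t := by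
    rw [hθ, Category.assoc, ← IsAffineOpen.SpecMap_appLE_fromSpec π hW hU e,
      fromSpecResidueField_eq hW t ht, ← Spec.map_comp_assoc, ← Spec.map_comp_assoc, hcomm0]
  set ψ := pullback.lift θ (Spec.map φR) hcomm with hψ
  have hψ1 : ψ ≫ pullback.fst π (T.fromSpecResidueField t) = θ := pullback.lift_fst _ _ _
  have hle : D.comap θ ≤ D'.comap θ := by
    rw [← hψ1, Scheme.IdealSheafData.comap_comp, Scheme.IdealSheafData.comap_comp]
    exact Scheme.IdealSheafData.comap_mono ψ hfib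
  have e' : (⊤ : (Spec (CommRingCat.of (Γ(𝒞, U) ⊗[Γ(T, W)] T.residueField t))).Opens) ≤
      θ ⁻¹ᵁ U := by
    intro z _
    change θ z ∈ U
    rw [hθ, Scheme.Hom.comp_apply]
    exact fromSpec_mem hU _
  have h1 := ideal_comap_eq_map D θ ⟨U, hU⟩ ⟨⊤, isAffineOpen_top _⟩ e'
  have h2 := ideal_comap_eq_map D' θ ⟨U, hU⟩ ⟨⊤, isAffineOpen_top _⟩ e'
  have h3 : θ.appLE U ⊤ e' = φL ≫ (Scheme.ΓSpecIso _).inv := by
    have h4 := Scheme.Hom.appLE_comp_appLE (Spec.map φL) hU.fromSpec U ⊤ ⊤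
      (by rw [hU.fromSpec_preimage_self]) le_top
    rw [fromSpec_appLE_top ⟨U, hU⟩] at h4
    rw [Scheme.ΓSpecIso_inv_naturality]
    rw [← h4]
    congr 1
  have h5 := hle ⟨⊤, isAffineOpen_top _⟩
  rw [h1, h2, h3, CommRingCat.hom_comp, ← Ideal.map_map, ← Ideal.map_map] at h5
  exact map_le_map_of_bijective _ ((ConcreteCategory.isIso_iff_bijective _).1 inferInstance) _ _ h5

/-- the local statement. -/
theorem ideal_le_of_fibre [IsLocallyNoetherian T] [AlgebraicGeometry.IsReduced T]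
    (D D' : 𝒞.IdealSheafData) (hflat : Flat (D'.subschemeι ≫ π))
    (hfib : ∀ t : ↥T, D.comap (pullback.fst π (T.fromSpecResidueField t)) ≤
      D'.comap (pullback.fst π (T.fromSpecResidueField t)))
    {U : 𝒞.Opens} (hU : IsAffineOpen U) {W : T.Opens} (hW : IsAffineOpen W) (e : U ≤ π ⁻¹ᵁ W) :
    D.ideal ⟨U, hU⟩ ≤ D'.ideal ⟨U, hU⟩ := by
  letI := (π.appLE W U e).hom.toAlgebra
  haveI : IsNoetherianRing Γ(T, W) := IsLocallyNoetherian.component_noetherian ⟨W, hW⟩
  haveI : Module.Flat Γ(T, W) (Γ(𝒞, U) ⧸ D'.ideal ⟨U, hU⟩) := flat_quotient π D' hflat hU hW e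
  intro x hx
  letI fK : ∀ p : PrimeSpectrum Γ(T, W), Field (T.residueField (hW.fromSpec p)) :=
    fun p => inferInstance
  letI algK : ∀ p : PrimeSpectrum Γ(T, W), Algebra Γ(T, W) (T.residueField (hW.fromSpec p)) :=
    fun p => (T.evaluation W (hW.fromSpec p) (fromSpec_mem hW p)).hom.toAlgebra
  refine mem_of_forall_fibre (A := Γ(T, W)) (B := Γ(𝒞, U)) (D'.ideal ⟨U, hU⟩) x
    (fun p => T.residueField (hW.fromSpec p)) (fun p => ker_evaluation hW p) (fun p => ?_)
  exact map_le_of_fibre π D D' hU hW e (hW.fromSpec p) (fromSpec_mem hW p) (hfib _)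
    (Ideal.mem_map_of_mem _ hx)

theorem le_of_fibre [IsLocallyNoetherian T] [AlgebraicGeometry.IsReduced T]
    (D D' : 𝒞.IdealSheafData) (hflat : Flat (D'.subschemeι ≫ π))
    (hfib : ∀ t : ↥T, D.comap (pullback.fst π (T.fromSpecResidueField t)) ≤
      D'.comap (pullback.fst π (T.fromSpecResidueField t))) : D ≤ D' := by
  refine Scheme.IdealSheafData.le_of_iSup_eq_top
    (ι := {U : 𝒞.affineOpens // ∃ W : T.affineOpens, U.1 ≤ π ⁻¹ᵁ W.1}) (fun U => U.1) ?_ ?_
  · rw [eq_top_iff]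
    intro x _
    obtain ⟨_, ⟨W, hW, rfl⟩, hxW, -⟩ := T.isBasis_affineOpens.exists_subset_of_mem_open
      (Set.mem_univ (π x)) isOpen_univ
    obtain ⟨_, ⟨U, hU, rfl⟩, hxU, hUW⟩ := 𝒞.isBasis_affineOpens.exists_subset_of_mem_open
      (show x ∈ (π ⁻¹ᵁ W : 𝒞.Opens) from hxW) (π ⁻¹ᵁ W).2
    exact Opens.mem_iSup.2 ⟨⟨⟨U, hU⟩, ⟨W, hW⟩, hUW⟩, hxU⟩
  · rintro ⟨⟨U, hU⟩, ⟨W, hW⟩, hUW⟩
    exact ideal_le_of_fibre π D D' hflat hfib hU hW hUW

end Helpers

/-- Let T be a reduced locally Noetherian scheme, π : 𝒞 ⟶ T a proper smooth morphism of relative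
dimension 1, and D, D' relative effective divisors on 𝒞/T: closed subschemes whose ideal sheaves are
locally generated by a single nonzerodivisor and which are flat over T. If for every point t of T
the fibre of D over t contains the fibre of D' as closed subschemes of 𝒞_t (containment of ideal
sheaves the other way), then D contains D': the ideal sheaf of D is contained in that of D'. (The
published statement has no hypothesis on T; over T = Spec k[ε] the divisors x = 0 and x = ε on the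
projective line have equal fibres while neither contains the other. This row assumes T reduced and
locally Noetherian.) -/
theorem result {𝒞 T : Scheme.{u}} [IsLocallyNoetherian T] [AlgebraicGeometry.IsReduced T]
    (π : 𝒞 ⟶ T) [IsProper π] [SmoothOfRelativeDimension 1 π]
    (D D' : 𝒞.IdealSheafData)
    (hD : BlowUp.IsEffCartierIdeal D ∧ Flat (D.subschemeι ≫ π))
    (hD' : BlowUp.IsEffCartierIdeal D' ∧ Flat (D'.subschemeι ≫ π))
    (hfib : ∀ t : ↥T, D.comap (pullback.fst π (T.fromSpecResidueField t)) ≤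
      D'.comap (pullback.fst π (T.fromSpecResidueField t))) :
    D ≤ D' := by
  exact le_of_fibre π D D' hD'.2 hfib



end Groth.Agent.S17814
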