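import Groth.Statements.S17825
import Mathlib
-- import your own Groth.Agent.* helpers here

set_option autoImplicit false
universe u
open CategoryTheory CategoryTheory.Limits AlgebraicGeometry
open JacVar

namespace Groth.Agent.S17825

section H
namespace W19
set_option backward.isDefEq.respectTransparency.types false

theorem main {S : Scheme.{u}} (Y : Over S) [IsSeparated Y.hom]
    (F : (Over S)ᵒᵖ ⥤ Type u) (f : yoneda.obj Y ⟶ F) (s : F ⟶ yoneda.obj Y) (hsf : s ≫ f = 𝟙 F) :
    ∃ (Z : Over S) (i : Z ⟶ Y), IsClosedImmersion i.left ∧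
      ∃ e : F ≅ yoneda.obj Z, e.hom ≫ yoneda.map i = s := by
  obtain ⟨g, hg⟩ : ∃ g : Y ⟶ Y, yoneda.map g = f ≫ s := ⟨_, (Yoneda.fullyFaithful).map_preimage (f ≫ s)⟩
  have key : ∀ (T : (Over S)ᵒᵖ) (x : F.obj T), s.app T x ≫ 𝟙 Y = s.app T x ≫ g := by
    intro T x
    have h1 : (yoneda.map g).app T (s.app T x) = s.app T x ≫ g := rfl
    rw [Category.comp_id, ← h1, hg]
    have h2 := congrArg (fun k => k.app T x) hsf
    simp only [NatTrans.comp_app, NatTrans.id_app, types_comp_apply, types_id_apply] at h2 ⊢
    rw [h2]
  let hom : F ⟶ yoneda.obj (equalizer (𝟙 Y) g) :=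
    { app := fun T => ↾(fun x => equalizer.lift (s.app T x) (key T x))
      naturality := by
        intro T T' k
        ext x
        apply equalizer.hom_ext
        have := congrArg (fun k => k x) (s.naturality k)
        simpa using this }
  have hhom : hom ≫ yoneda.map (equalizer.ι (𝟙 Y) g) = s := by
    ext T x
    simp [hom]
  refine ⟨equalizer (𝟙 Y) g, equalizer.ι (𝟙 Y) g, inferInstance, ⟨hom, yoneda.map (equalizer.ι (𝟙 Y) g) ≫ f, ?_, ?_⟩, hhom⟩
  · rw [← Category.assoc, hhom, hsf]
  · rw [← cancel_mono (yoneda.map (equalizer.ι (𝟙 Y) g)), Category.assoc, Category.assoc, hhom, ← hg,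
      ← Functor.map_comp, ← equalizer.condition, Category.comp_id, Category.id_comp]

end W19
end H


/-- Let S be a scheme, Y an S-scheme separated over S, F a presheaf of sets on the category of
S-schemes, f : h_Y ⟶ F a morphism from the functor of points of Y, and s : F ⟶ h_Y a section of f (s
followed by f is the identity). Then F is represented by a closed subscheme of Y: there are an
S-scheme Z, a morphism i : Z ⟶ Y over S which is a closed immersion, and an isomorphism F ≅ h_Z
whose composite with h_i : h_Z ⟶ h_Y is s. (The published lemma treats the case where Y is the r-th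
symmetric power of a curve, F the functor of degree-r invertible families modulo twisting and f the
divisor-class map.) -/
theorem result {S : Scheme.{u}} (Y : Over S) [IsSeparated Y.hom]
    (F : (Over S)ᵒᵖ ⥤ Type u) (f : yoneda.obj Y ⟶ F) (s : F ⟶ yoneda.obj Y) (hsf : s ≫ f = 𝟙 F) :
    ∃ (Z : Over S) (i : Z ⟶ Y), IsClosedImmersion i.left ∧
      ∃ e : F ≅ yoneda.obj Z, e.hom ≫ yoneda.map i = s := by
  exact W19.main Y F f s hsf

end Groth.Agent.S17825
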