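import Groth.Statements.S1783
import Groth.Agent.Lib.Helper8.RAdj3

set_option autoImplicit false
universe u
open CategoryTheory
attribute [local instance] HasDerivedCategory.standard
open Dual2

namespace Groth.Agent.S1783

/-- Let R → A be a ring map of finite type between Noetherian rings, where φ^!(K) is formed from a
presentation ψ : R[x_1, …, x_n] → A as RHom_P(A, K ⊗^L_R P)[n], assuming the derived base change to
P exists and taking for RHom_P(A, −) a right adjoint of restriction of scalars along ψ. If K in D(R)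
has vanishing cohomology below some degree, then so does φ^!(K); if moreover all cohomology modules
of K are finite R-modules, then all cohomology modules of φ^!(K) are finite A-modules. -/
theorem result (R A : Type u) [CommRing R] [CommRing A] [IsNoetherianRing R] [IsNoetherianRing A] [Algebra R A] (n : ℕ) (ψ : MvPolynomial (Fin n) R →ₐ[R] A) (hψ : Function.Surjective ψ) [DRing.HasLBaseChange (algebraMap R (MvPolynomial (Fin n) R))] (Rψ : Dual.D (MvPolynomial (Fin n) R) ⥤ Dual.D A) (adj : DRing.restrictD ψ.toRingHom ⊣ Rψ) (K : Dual.D R) (a : ℤ) (hKa : ∀ i : ℤ, i < a → Subsingleton (Dual.HD R K i)) : (∃ b : ℤ, ∀ i : ℤ, i < b → Subsingleton (Dual.HD A (Dual2.shriekVia n Rψ K) i)) ∧ ((∀ i : ℤ, Module.Finite R (Dual.HD R K i)) → ∀ i : ℤ, Module.Finite A (Dual.HD A (Dual2.shriekVia n Rψ K) i)) := by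
  letI : Algebra (MvPolynomial (Fin n) R) A := ψ.toRingHom.toAlgebra
  haveI : Module.Finite (MvPolynomial (Fin n) R) A :=
    Module.Finite.of_surjective (Algebra.linearMap (MvPolynomial (Fin n) R) A) hψ
  let φ := algebraMap R (MvPolynomial (Fin n) R)
  let L := (DRing.LBaseChange φ).obj K
  let e : L ≅ (Groth.Agent.Lib.Helper16.FlatBC.ε φ).obj K :=
    (Groth.Agent.Lib.Helper8.RGam.lBaseChangeIsoε φ).app K
  have hL : L.IsGE a := by
    haveI := Groth.Agent.Lib.Helper8.EFB.isGE_ε (B := MvPolynomial (Fin n) R) K a hKa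
    exact (DerivedCategory.TStructure.t).isGE_of_iso e.symm a
  have adj' : DRing.restrictD (algebraMap (MvPolynomial (Fin n) R) A) ⊣ Rψ := adj
  refine ⟨⟨a - n, fun i hi => ?_⟩, fun hfin i => ?_⟩
  · haveI := Groth.Agent.Lib.Helper8.RAdj.subsingleton_HD_rightAdjoint adj' L a hL
      ((n : ℤ) + i) (by omega)
    exact (Groth.Agent.Lib.Helper8.RAdj.HDShiftIso (Rψ.obj L) (n : ℤ)
      i).toLinearEquiv.toEquiv.subsingleton
  · have hLfin : ∀ j : ℤ, Module.Finite (MvPolynomial (Fin n) R)
        (Dual.HD (MvPolynomial (Fin n) R) L j) := by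
      intro j
      haveI := hfin j
      haveI := Groth.Agent.Lib.Helper8.EFB.finite_HD_ε (B := MvPolynomial (Fin n) R) K j
      exact Module.Finite.equiv
        ((DerivedCategory.homologyFunctor _ j).mapIso e).symm.toLinearEquiv
    haveI := Groth.Agent.Lib.Helper8.RAdj.finite_HD_rightAdjoint adj' L ⟨a, hL⟩ hLfin
      ((n : ℤ) + i)
    exact Module.Finite.equiv (Groth.Agent.Lib.Helper8.RAdj.HDShiftIso (Rψ.obj L) (n : ℤ)
      i).symm.toLinearEquiv

end Groth.Agent.S1783
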