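import Groth.Statements.S17859
import Mathlib
-- import your own Groth.Agent.* helpers here

set_option autoImplicit false
open CategoryTheory MonoidalCategory
universe u
open Algz

namespace Groth.Agent.S17859

section H
namespace W20
open TensorProduct

variable (R : Type u) [CommRing R] (M : Type u) [AddCommGroup M] [Module R M]
variable {n : ℕ} (e : Fin n → M) (φ : Fin n → Module.Dual R M)

/-- coevaluation from a dual basis pair -/
noncomputable def coev : R →ₗ[R] M ⊗[R] Module.Dual R M :=
  LinearMap.toSpanSingleton R _ (∑ i, e i ⊗ₜ[R] φ i)

theorem coev_one : coev R M e φ 1 = ∑ i, e i ⊗ₜ[R] φ i := by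
  simp [coev]

variable (h : ∀ m : M, ∑ i, φ i m • e i = m)
include h

theorem tri1 :
    (contractLeft R M).rTensor _ ∘ₗ
        (TensorProduct.assoc R _ _ _).symm.toLinearMap ∘ₗ
          (coev R M e φ).lTensor (Module.Dual R M) =
      (TensorProduct.lid R _).symm.toLinearMap ∘ₗ (TensorProduct.rid R _).toLinearMap := by
  apply TensorProduct.ext
  ext ψ : 1
  apply LinearMap.ext_ring
  rw [LinearMap.compr₂ₛₗ_apply, LinearMap.compr₂ₛₗ_apply, TensorProduct.mk_apply]
  simp only [LinearMap.coe_comp, Function.comp_apply, LinearEquiv.coe_toLinearMap]
  rw [rid_tmul, one_smul, lid_symm_apply]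
  simp only [LinearMap.lTensor_tmul, coev_one]
  rw [TensorProduct.tmul_sum, map_sum]; simp only [assoc_symm_tmul]
  rw [map_sum]; simp only [LinearMap.rTensor_tmul, contractLeft_apply]
  have : ∀ i, (ψ (e i)) ⊗ₜ[R] φ i = (1 : R) ⊗ₜ[R] (ψ (e i) • φ i) := by
    intro i
    rw [← TensorProduct.smul_tmul, smul_eq_mul, mul_one]
  simp only [this]
  rw [← TensorProduct.tmul_sum]
  congr 1
  ext m
  simp only [LinearMap.coe_sum, Finset.sum_apply, LinearMap.smul_apply, smul_eq_mul]
  conv_rhs => rw [← h m]
  simp [mul_comm]

theorem tri2 :
    (contractLeft R M).lTensor _ ∘ₗ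
        (TensorProduct.assoc R _ _ _).toLinearMap ∘ₗ (coev R M e φ).rTensor M =
      (TensorProduct.rid R _).symm.toLinearMap ∘ₗ (TensorProduct.lid R _).toLinearMap := by
  apply TensorProduct.ext
  apply LinearMap.ext_ring
  ext m : 1
  rw [LinearMap.compr₂ₛₗ_apply, LinearMap.compr₂ₛₗ_apply, TensorProduct.mk_apply]
  simp only [LinearMap.coe_comp, Function.comp_apply, LinearEquiv.coe_toLinearMap]
  rw [lid_tmul, one_smul, rid_symm_apply]
  simp only [LinearMap.rTensor_tmul, coev_one]
  rw [TensorProduct.sum_tmul, map_sum]; simp only [assoc_tmul]
  rw [map_sum]; simp only [LinearMap.lTensor_tmul, contractLeft_apply]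
  have : ∀ i, e i ⊗ₜ[R] (φ i m) = (φ i m • e i) ⊗ₜ[R] (1 : R) := by
    intro i
    rw [TensorProduct.smul_tmul, smul_eq_mul, mul_one]
  simp only [this]
  rw [← TensorProduct.sum_tmul, h m]

end W20

namespace W20

theorem main (R : Type u) [CommRing R] (M : ModuleCat.{u} R)
    [Module.Finite R M] [Module.Projective R M] : Nonempty (HasRightDual M) := by
  obtain ⟨n, f, g, -, -, hfg⟩ := Module.Finite.exists_comp_eq_id_of_projective R M
  classical
  let e : Fin n → M := fun i => f (Pi.single i 1)
  let φ : Fin n → Module.Dual R M := fun i => LinearMap.proj i ∘ₗ g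
  have h : ∀ m : M, ∑ i, φ i m • e i = m := by
    intro m
    have h1 : f (g m) = m := congrArg (fun k => k m) hfg
    conv_rhs => rw [← h1, LinearMap.pi_apply_eq_sum_univ f (g m)]
    refine Finset.sum_congr rfl (fun i _ => ?_)
    simp only [φ, e]
    congr 2
    ext j
    simp [Pi.single_apply, eq_comm]
  refine ⟨@HasRightDual.mk _ _ _ M (ModuleCat.of R (Module.Dual R M)) ?_⟩
  exact
    { coevaluation' := ModuleCat.ofHom (coev R M e φ)
      evaluation' := ModuleCat.ofHom (contractLeft R M)
      coevaluation_evaluation' := by
        ext : 1
        exact tri1 R M e φ h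
      evaluation_coevaluation' := by
        ext : 1
        exact tri2 R M e φ h }

end W20
end H


/-- Over an affine scheme, that is for modules over a commutative ring `R`, a finitely generated
projective `R`-module `M`, viewed as an object of the monoidal category of `R`-modules (tensor
product over `R`), has a right dual. (The published statement is the equivalence, for quasi-coherent
sheaves on a quasi-compact quasi-separated scheme, between being dualizable and being a vector
bundle; stated here is the affine case of the implication from vector bundle to dualizable. The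
converse implication, that a module admitting a dual is finitely generated projective, is stated
separately and is not repeated here.) -/
theorem result (R : Type u) [CommRing R] (M : ModuleCat.{u} R)
    [Module.Finite R M] [Module.Projective R M] : Nonempty (HasRightDual M) := by
  exact W20.main R M

end Groth.Agent.S17859
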