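import Groth.Statements.S17860
import Groth.Agent.Lib.Helper21.GenCover
import Groth.Agent.Lib.Helper21.EpiGen
-- import your own Groth.Agent.* helpers here
set_option autoImplicit false
open CategoryTheory AlgebraicGeometry
universe u
open Algz
namespace Groth.Agent.S17860
open Groth.Agent.Lib.Helper21

/-- Let `R` be a commutative ring and `M` a finite `R`-module. Suppose `Spec R` is covered by opens `U
0, …, U (m-1)` (not necessarily affine) such that over each `U i` the restriction of the associated
sheaf of modules `M~` is a quotient of the free module of rank `n` (it is generated by `n` sections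
over `U i`). Then `M` is generated by `n * m` elements. -/
theorem result (R : CommRingCat.{u}) (M : ModuleCat.{u} R)
    [Module.Finite R M] (n m : ℕ) (U : Fin m → (Spec R).Opens) (hU : ⨆ i, U i = ⊤)
    (hgen : ∀ i, ∃ φ : FlatMod.freeMod (↑(U i)) n ⟶ (AlgebraicGeometry.tilde M).restrict (U i).ι, Epi φ) :
    ∃ s : Fin (n * m) → M, Submodule.span R (Set.range s) = ⊤ := by
  refine GenCover.exists_span_eq_top (R := R) (M := M) n m
    (fun i => (U i).1) (fun i => (U i).2) ?_ ?_
  · intro i a ha
    obtain ⟨φ, hφ⟩ := hgen i
    obtain ⟨τ, hτ⟩ := EpiGen.exists_gen_of_epi (tilde M) (U i) n φ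
    exact EpiGen.good_of_gen M n (U i) τ hτ a ha
  · have h := congrArg (fun V : (Spec R).Opens => V.1) hU
    rw [TopologicalSpace.Opens.carrier_eq_coe, TopologicalSpace.Opens.coe_iSup] at h
    exact h

end Groth.Agent.S17860
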