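import Groth.Statements.S17864
import Mathlib.Tactic

set_option autoImplicit false
universe u
open Algz

namespace Groth.Agent.S17864

section
variable {A : Type u} [CommRing A] (I : Ideal A)

lemma of_pi_bijective [IsAdicComplete I A] (m : ℕ) :
    Function.Bijective (AdicCompletion.of I (Fin m → A)) := by
  have hA : Function.Bijective (AdicCompletion.of I A) := AdicCompletion.of_bijective I A
  have he : ∀ x : Fin m → A, AdicCompletion.piEquivFin I m (AdicCompletion.of I (Fin m → A) x)
      = fun j => AdicCompletion.of I A (x j) := by
    intro x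
    rw [AdicCompletion.piEquivFin_apply]
    funext j
    change AdicCompletion.map I (LinearMap.proj j) (AdicCompletion.of I (Fin m → A) x) = _
    rw [AdicCompletion.map_of]
    rfl
  constructor
  · intro x y hxy
    have := congrArg (AdicCompletion.piEquivFin I m) hxy
    rw [he, he] at this
    funext j
    exact hA.1 (congrFun this j)
  · intro z
    choose x hx using fun j => hA.2 (AdicCompletion.piEquivFin I m z j)
    refine ⟨x, ?_⟩
    apply (AdicCompletion.piEquivFin I m).injective
    rw [he]
    funext j
    exact hx j

variable {Q : Type u} [AddCommGroup Q] [Module A Q]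

lemma of_bijective_of_retract {F : Type u} [AddCommGroup F] [Module A F]
    (j : Q →ₗ[A] F) (r : F →ₗ[A] Q) (hrj : r ∘ₗ j = LinearMap.id)
    (hF : Function.Bijective (AdicCompletion.of I F)) :
    Function.Bijective (AdicCompletion.of I Q) := by
  have hrj' : ∀ q, r (j q) = q := fun q => by
    have := congrArg (fun h => h q) hrj
    simpa using this
  constructor
  · intro x y hxy
    have h1 : AdicCompletion.of I F (j x) = AdicCompletion.of I F (j y) := by
      rw [← AdicCompletion.map_of, ← AdicCompletion.map_of, hxy]
    have := hF.1 h1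
    rw [← hrj' x, ← hrj' y, this]
  · intro y
    obtain ⟨z, hz⟩ := hF.2 (AdicCompletion.map I j y)
    refine ⟨r z, ?_⟩
    rw [← AdicCompletion.map_of, hz, AdicCompletion.map_comp_apply, hrj, AdicCompletion.map_id]
    rfl

lemma of_bijective_of_projective [IsAdicComplete I A] [Module.Finite A Q] [Module.Projective A Q] :
    Function.Bijective (AdicCompletion.of I Q) := by
  obtain ⟨m, f, g, -, -, hfg⟩ := Module.Finite.exists_comp_eq_id_of_projective A Q
  exact of_bijective_of_retract I g f hfg (of_pi_bijective I m)

end


/-- The full-faithfulness assertion. Let `A` be a commutative ring which is `I`-adically complete for an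
ideal `I`, and `P`, `Q` finitely generated projective `A`-modules. An `A`-linear map `P → Q` is
determined by its reductions modulo the powers `I^n`, and every family of `A`-linear maps `P/I^n P →
Q/I^n Q` compatible with the transition maps is the family of reductions of an `A`-linear map `P →
Q`. (The companion assertion, that compatible systems of finite projective modules over the rings
`A/I^n` lift to `A`, is not restated here.) -/
theorem result (A : Type u) [CommRing A] (I : Ideal A)
    [IsAdicComplete I A] (P Q : Type u) [AddCommGroup P] [Module A P] [Module.Finite A P]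
    [Module.Projective A P] [AddCommGroup Q] [Module A Q] [Module.Finite A Q] [Module.Projective A Q] :
    (∀ f f' : P →ₗ[A] Q, (∀ n : ℕ, f.reduceModIdeal (I ^ n) = f'.reduceModIdeal (I ^ n)) → f = f') ∧
    (∀ g : ∀ n : ℕ, P ⧸ (I ^ n • ⊤ : Submodule A P) →ₗ[A] Q ⧸ (I ^ n • ⊤ : Submodule A Q),
      (∀ n : ℕ, AdicCompletion.transitionMap I Q (Nat.le_succ n) ∘ₗ g (n + 1) =
        g n ∘ₗ AdicCompletion.transitionMap I P (Nat.le_succ n)) →
      ∃ f : P →ₗ[A] Q, ∀ n : ℕ, f.reduceModIdeal (I ^ n) = g n) := by
  have hQ := of_bijective_of_projective I (Q := Q)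
  have hval : ∀ (f : P →ₗ[A] Q) (p : P) (n : ℕ),
      (AdicCompletion.of I Q (f p)).val n =
        f.reduceModIdeal (I ^ n) (Submodule.Quotient.mk p) := by
    intro f p n
    rw [LinearMap.reduceModIdeal_apply]
    rfl
  constructor
  · intro f f' h
    ext p
    apply hQ.1
    apply AdicCompletion.ext
    intro n
    rw [hval, hval, h n]
  · intro g hg
    have hcompat : ∀ {m n : ℕ} (hle : m ≤ n),
        AdicCompletion.transitionMap I Q hle ∘ₗ (g n ∘ₗ Submodule.mkQ (I ^ n • ⊤ : Submodule A P))
          = g m ∘ₗ Submodule.mkQ (I ^ m • ⊤ : Submodule A P) := by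
      intro m n hle
      induction n, hle using Nat.le_induction with
      | base =>
        ext x
        simp only [LinearMap.comp_apply]
        obtain ⟨y, hy⟩ := Submodule.mkQ_surjective _ (g m (Submodule.mkQ _ x))
        rw [← hy]
        exact Submodule.factor_mk _ y
      | succ n hmn ih =>
        rw [← ih]
        ext x
        simp only [LinearMap.comp_apply]
        have h1 := congrArg (fun h => h (Submodule.mkQ (I ^ (n + 1) • ⊤ : Submodule A P) x)) (hg n)
        simp only [LinearMap.comp_apply] at h1
        have h2 : AdicCompletion.transitionMap I P (Nat.le_succ n)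
            (Submodule.mkQ (I ^ (n + 1) • ⊤ : Submodule A P) x)
            = Submodule.mkQ (I ^ n • ⊤ : Submodule A P) x := Submodule.factor_mk _ x
        rw [h2] at h1
        rw [← h1]
        obtain ⟨y, hy⟩ := Submodule.mkQ_surjective _ (g (n + 1) (Submodule.mkQ _ x))
        rw [← hy]
        rw [AdicCompletion.transitionMap, AdicCompletion.transitionMap, AdicCompletion.transitionMap,
          Submodule.factorPow, Submodule.factorPow, Submodule.factorPow,
          Submodule.factor_mk, Submodule.factor_mk, Submodule.factor_mk]
    set F₀ : P →ₗ[A] AdicCompletion I Q :=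
      AdicCompletion.lift I (fun n => g n ∘ₗ Submodule.mkQ (I ^ n • ⊤ : Submodule A P)) hcompat
      with hF₀
    set e := LinearEquiv.ofBijective (AdicCompletion.of I Q) hQ with he
    refine ⟨e.symm.toLinearMap ∘ₗ F₀, fun n => ?_⟩
    apply LinearMap.ext
    intro x
    obtain ⟨p, rfl⟩ := Submodule.mkQ_surjective _ x
    have h1 : AdicCompletion.of I Q ((e.symm.toLinearMap ∘ₗ F₀) p) = F₀ p := by
      rw [LinearMap.comp_apply]
      exact e.apply_symm_apply (F₀ p)
    have h2 := hval (e.symm.toLinearMap ∘ₗ F₀) p n
    rw [h1] at h2
    rw [Submodule.mkQ_apply]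
    change (LinearMap.reduceModIdeal (I ^ n) (e.symm.toLinearMap ∘ₗ F₀)) (Submodule.Quotient.mk p) = _
    rw [← h2, hF₀, AdicCompletion.eval_lift_apply]
    rfl

end Groth.Agent.S17864
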