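import Groth.Statements.S17872
import Mathlib.LinearAlgebra.Vandermonde
import Mathlib.LinearAlgebra.Dual.Lemmas
-- import your own Groth.Agent.* helpers here

set_option autoImplicit false
universe u v
open GRRSing

namespace Groth.Agent.S17872

/-- Let H be a vector space over a field K and let b_0, …, b_l be elements of H. If the sum of the t ^ i
• b_i vanishes for infinitely many scalars t of K, then all the b_i are zero. -/
theorem result {K : Type u} {H : Type v} [Field K] [AddCommGroup H] [Module K H]
    (l : ℕ) (b : Fin (l + 1) → H)
    (h : Set.Infinite {t : K | ∑ i : Fin (l + 1), t ^ (i : ℕ) • b i = 0}) :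
    b = 0 := by
  let e := h.natEmbedding
  let t : Fin (l + 1) → K := fun j => (e j : K)
  have ht : Function.Injective t := by
    intro i j hij
    have : e (i : ℕ) = e (j : ℕ) := Subtype.ext hij
    exact Fin.ext (e.injective this)
  have hts : ∀ j, ∑ i : Fin (l + 1), t j ^ (i : ℕ) • b i = 0 := fun j => (e j).2
  funext i
  rw [Pi.zero_apply, ← Module.forall_dual_apply_eq_zero_iff K]
  intro φ
  have hv : (fun i => φ (b i)) = 0 := by
    apply Matrix.eq_zero_of_forall_index_sum_pow_mul_eq_zero ht
    intro j
    have := congrArg φ (hts j)
    simpa [map_sum, map_smul] using this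
  exact congrFun hv i

end Groth.Agent.S17872
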