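import Groth.Statements.S17873
import Groth.Agent.Lib.Helper9.CosetAvoid
import Groth.Agent.Lib.Helper21.DepthKit7

set_option autoImplicit false
universe u
open GRRSing

namespace Groth.Agent.S17873

open RingTheory.Sequence IsLocalRing Groth.Agent.Lib.Helper21.DepthKit

/-- inductive step/invariant: for `i ≤ grade J` there is a generating list of minimal length whose
first `i` terms form a weakly regular sequence. -/
theorem exists_prefix {T : Type u} [CommRing T] [IsNoetherianRing T] [IsLocalRing T]
    (J : Ideal T) (hJ : J ≠ ⊤) (j : ℕ) (hj : LocCoh.idealDepth J T = j) :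
    ∀ i : ℕ, i ≤ j → ∃ ts us : List T, ts.length = i ∧
      ts.length + us.length = Submodule.spanFinrank J ∧ Ideal.ofList (ts ++ us) = J ∧
      IsWeaklyRegular T ts := by
  classical
  have hJT : J • (⊤ : Submodule T T) ≠ ⊤ := by
    rw [smul_eq_mul, Ideal.mul_top]
    exact hJ
  intro i
  induction i with
  | zero =>
    intro _
    obtain ⟨s, hs1, hs2⟩ :=
      Submodule.FG.exists_span_finset_card_eq_spanFinrank (IsNoetherian.noetherian J)
    refine ⟨[], s.toList, rfl, by simpa using hs1, ?_, IsWeaklyRegular.nil T T⟩
    rw [List.nil_append]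
    change Ideal.span {r | r ∈ s.toList} = J
    rw [← hs2]
    congr 1
    ext r
    simp
  | succ i ih =>
    intro hij
    obtain ⟨ts, us, hlen, hc, hgen, hreg⟩ := ih (by omega)
    have htsJ : ∀ r ∈ ts, r ∈ J := by
      intro r hr
      rw [← hgen]
      exact Ideal.subset_span (List.mem_append_left _ hr)
    set M := T ⧸ (Ideal.ofList ts • ⊤ : Submodule T T) with hM
    -- depth of the quotient
    have hd := idealDepth_quot_ofList J ts T hJT htsJ hreg
    rw [hj, hlen] at hd
    have hd1 : 1 ≤ LocCoh.idealDepth J M := by
      by_contra hlt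
      rw [not_le, ENat.lt_one_iff_eq_zero] at hlt
      rw [hlt, zero_add] at hd
      have : i = j := by exact_mod_cast hd
      omega
    have hJM : J • (⊤ : Submodule T M) ≠ ⊤ := by
      intro h
      have hle : Ideal.ofList ts ≤ J := by
        rw [Ideal.span_le]
        exact fun r hr => htsJ r hr
      -- then `J + (ts) = ⊤`
      have h1 : (1 : T) ∈ J := by
        have h2 : (Submodule.Quotient.mk (1 : T) : M) ∈ J • (⊤ : Submodule T M) := by
          rw [h]; trivial
        have h3 : J • (⊤ : Submodule T M) =
            (J • (⊤ : Submodule T T)).map (Submodule.mkQ _) := by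
          rw [Submodule.map_smul'', Submodule.map_top, Submodule.range_mkQ]
        rw [h3, Submodule.mem_map] at h2
        obtain ⟨y, hy, hy2⟩ := h2
        rw [smul_eq_mul, Ideal.mul_top] at hy
        have h4 : y - 1 ∈ (Ideal.ofList ts • ⊤ : Submodule T T) := by
          rw [← Submodule.Quotient.eq]
          exact hy2
        rw [smul_eq_mul, Ideal.mul_top] at h4
        have : (1 : T) = y - (y - 1) := by ring
        rw [this]
        exact J.sub_mem hy (hle h4)
      exact hJ ((Ideal.eq_top_iff_one J).mpr h1)
    obtain ⟨x0, hx0J, hx0reg⟩ := exists_regular_of_one_le_idealDepth J hJM hd1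
    have hAss : ∀ P ∈ associatedPrimes T M, ¬ J ≤ P := by
      intro P hP hJP
      have h1 : x0 ∈ ⋃ p ∈ associatedPrimes T M, (p : Set T) :=
        Set.mem_biUnion hP (hJP hx0J)
      rw [biUnion_associatedPrimes_eq_compl_regular T M] at h1
      exact h1 hx0reg
    -- `us` is nonempty
    have hus : us ≠ [] := by
      rintro rfl
      rw [List.append_nil] at hgen
      -- `J = (ts)` kills `M`
      haveI : Nontrivial M := by
        rw [hM]
        apply Submodule.Quotient.nontrivial_iff.mpr
        rw [smul_eq_mul, Ideal.mul_top, hgen]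
        exact hJ
      obtain ⟨m, hm⟩ := exists_ne (0 : M)
      have hx0m : x0 • m = 0 := by
        obtain ⟨a, rfl⟩ := Submodule.Quotient.mk_surjective _ m
        rw [← Submodule.Quotient.mk_smul, Submodule.Quotient.mk_eq_zero, smul_eq_mul,
          smul_eq_mul, Ideal.mul_top, hgen]
        exact J.mul_mem_right _ hx0J
      exact hm (hx0reg (by simp only [hx0m, smul_zero]))
    obtain ⟨u, us', rfl⟩ := List.exists_cons_of_ne_nil hus
    set I := Ideal.ofList (ts ++ us') with hI
    have hJI : J = Ideal.span {u} ⊔ I := by
      rw [← hgen, hI, Ideal.ofList_append, Ideal.ofList_append, Ideal.ofList_cons]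
      rw [sup_left_comm]
    have hfin : (associatedPrimes T M).Finite := associatedPrimes.finite T M
    let s0 : Finset (PrimeSpectrum T) :=
      (hfin.toFinset.attach.image (fun P => (⟨P.1, ((Set.Finite.mem_toFinset hfin).mp P.2).isPrime⟩ :
        PrimeSpectrum T))).filter (fun P => ¬ I ≤ P.asIdeal)
    obtain ⟨x, hxI, hx⟩ := Groth.Agent.Lib.Helper9.CosetAvoid.exists_add_not_mem u I s0
      (fun P hP => (Finset.mem_filter.mp hP).2)
    have hIJ : I ≤ J := by rw [hJI]; exact le_sup_right
    have huJ : u ∈ J := by
      rw [hJI]
      exact Ideal.mem_sup_left (Ideal.subset_span rfl)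
    have htreg : IsSMulRegular M (u + x) := by
      by_contra hnr
      have h1 : u + x ∈ ({r : T | IsSMulRegular M r}ᶜ : Set T) := hnr
      rw [← biUnion_associatedPrimes_eq_compl_regular T M] at h1
      obtain ⟨P, hP, hmem⟩ := Set.mem_iUnion₂.mp h1
      haveI hPp : P.IsPrime := hP.isPrime
      by_cases hIP : I ≤ P
      · apply hAss P hP
        rw [hJI]
        refine sup_le ?_ hIP
        rw [Ideal.span_singleton_le_iff_mem]
        have : u = (u + x) - x := by ring
        rw [this]
        exact P.sub_mem hmem (hIP hxI)
      · have hPs : (⟨P, hPp⟩ : PrimeSpectrum T) ∈ s0 := by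
          rw [Finset.mem_filter]
          refine ⟨?_, hIP⟩
          rw [Finset.mem_image]
          exact ⟨⟨P, (Set.Finite.mem_toFinset hfin).mpr hP⟩, Finset.mem_attach _ _, rfl⟩
        exact hx _ hPs hmem
    refine ⟨ts ++ [u + x], us', by simp [hlen], ?_, ?_, ?_⟩
    · rw [List.length_append, List.length_singleton]
      rw [List.length_cons] at hc
      omega
    · rw [List.append_assoc, Ideal.ofList_append, List.singleton_append, Ideal.ofList_cons]
      apply le_antisymm
      · refine sup_le ?_ (sup_le ?_ ?_)
        · rw [Ideal.span_le]; exact fun r hr => htsJ r hr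
        · rw [Ideal.span_singleton_le_iff_mem]
          exact J.add_mem huJ (hIJ hxI)
        · refine le_trans ?_ hIJ
          rw [hI, Ideal.ofList_append]
          exact le_sup_right
      · rw [hJI]
        have hIle : I ≤ Ideal.ofList ts ⊔ (Ideal.span {u + x} ⊔ Ideal.ofList us') := by
          rw [hI, Ideal.ofList_append]
          exact sup_le le_sup_left (le_sup_of_le_right le_sup_right)
        refine sup_le ?_ hIle
        rw [Ideal.span_singleton_le_iff_mem]
        have hux : u + x ∈ Ideal.ofList ts ⊔ (Ideal.span {u + x} ⊔ Ideal.ofList us') :=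
          Ideal.mem_sup_right (Ideal.mem_sup_left (Ideal.subset_span rfl))
        have := Ideal.sub_mem _ hux (hIle hxI)
        rwa [add_sub_cancel_right] at this
    · rw [isWeaklyRegular_append_iff]
      exact ⟨hreg, (isWeaklyRegular_singleton_iff M (u + x)).mpr htreg⟩

/-- Let T be a Cohen–Macaulay Noetherian local ring, J a proper ideal of T, j the grade of J (the
J-depth of T, i.e. the supremum of the lengths of T-regular sequences inside J; a natural number
here) and c the minimal number of generators of J (equal to the dimension of J/𝔪J over the residue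
field). Then j ≤ c and there is a generating sequence t_1, …, t_c of J such that t_1, …, t_j is a
T-regular sequence. (The published statement does not exclude J = T; there c = 1 while the grade,
read as the depth of T, can exceed 1, so this row assumes J proper.) -/
theorem result {T : Type u} [CommRing T] [LocCoh.IsCohenMacaulayLocalRing T]
    (J : Ideal T) (hJ : J ≠ ⊤) (j : ℕ) (hj : LocCoh.idealDepth J T = j) :
    j ≤ Submodule.spanFinrank J ∧
      ∃ ts : List T, ts.length = Submodule.spanFinrank J ∧ Ideal.ofList ts = J ∧
        RingTheory.Sequence.IsRegular T (ts.take j) := by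
  haveI hT : LocCoh.IsCohenMacaulayLocalRing T := inferInstance
  haveI : IsNoetherianRing T := hT.toIsNoetherian
  haveI : IsLocalRing T := hT.toIsLocalRing
  obtain ⟨ts, us, hlen, hc, hgen, hreg⟩ := exists_prefix J hJ j hj j le_rfl
  refine ⟨by omega, ts ++ us, by rw [List.length_append]; exact hc, hgen, ?_⟩
  have htake : (ts ++ us).take j = ts := by
    rw [← hlen]
    exact List.take_left
  rw [htake]
  have hm : ∀ r ∈ ts, r ∈ maximalIdeal T := by
    intro r hr
    have : r ∈ J := by
      rw [← hgen]
      exact Ideal.subset_span (List.mem_append_left _ hr)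
    exact (IsLocalRing.le_maximalIdeal hJ) this
  exact (IsLocalRing.isRegular_iff_isWeaklyRegular_of_subset_maximalIdeal hm).mpr hreg

end Groth.Agent.S17873
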