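import Groth.Statements.S17875
import Mathlib.Tactic

set_option autoImplicit false
universe u
open Polynomial
open GRRSing

namespace Groth.Agent.S17875

lemma part1 {R : Type u} [CommRing R] [Algebra ℚ R]
    (r : R) (δ : ℕ) (hr : (r - 1) ^ (δ + 1) = 0) (n : ℕ) :
    r ^ n = ∑ k ∈ Finset.range (δ + 1), ((descPochhammer ℚ k).eval (n : ℚ) / (k.factorial : ℚ)) • (r - 1) ^ k := by
  have hcoef : ∀ k : ℕ, ((descPochhammer ℚ k).eval (n : ℚ) / (k.factorial : ℚ)) • (r - 1) ^ k
      = (r - 1) ^ k * (n.choose k : R) := by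
    intro k
    rw [descPochhammer_eval_eq_descFactorial, Nat.descFactorial_eq_factorial_mul_choose]
    have hk : (k.factorial : ℚ) ≠ 0 := by exact_mod_cast k.factorial_ne_zero
    rw [Nat.cast_mul, mul_div_cancel_left₀ _ hk, Nat.cast_smul_eq_nsmul, nsmul_eq_mul, mul_comm]
  simp_rw [hcoef]
  have hpow : ∀ k, δ + 1 ≤ k → (r - 1) ^ k = 0 := by
    intro k hk
    obtain ⟨m, rfl⟩ := Nat.exists_eq_add_of_le hk
    rw [pow_add, hr, zero_mul]
  have hsum : ∀ N : ℕ, δ + 1 ≤ N → n + 1 ≤ N →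
      r ^ n = ∑ k ∈ Finset.range N, (r - 1) ^ k * (n.choose k : R) := by
    intro N h1 h2
    have : r ^ n = ((r - 1) + 1) ^ n := by rw [sub_add_cancel]
    rw [this, add_pow]
    simp only [one_pow, mul_one]
    apply Finset.sum_subset_zero_on_sdiff
    · intro x hx; rw [Finset.mem_range] at *; omega
    · intro x hx
      rw [Finset.mem_sdiff, Finset.mem_range, Finset.mem_range] at hx
      rw [Nat.choose_eq_zero_of_lt (by omega)]; simp
    · intro x _; rfl
  rw [hsum (max (δ + 1) (n + 1)) (le_max_left _ _) (le_max_right _ _)]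
  symm
  apply Finset.sum_subset_zero_on_sdiff
  · intro x hx; rw [Finset.mem_range] at *; omega
  · intro x hx
    rw [Finset.mem_sdiff, Finset.mem_range, Finset.mem_range] at hx
    rw [hpow x (by omega), zero_mul]
  · intro x _; rfl

lemma coeff_desc {R : Type u} [CommRing R] (k m : ℕ) :
    (descPochhammer R k).coeff m = (((descPochhammer ℤ k).coeff m : ℤ) : R) := by
  rw [← descPochhammer_map (Int.castRingHom R) k, coeff_map]
  rfl

lemma coeff_desc_zero (k m : ℕ) (h : k < m) : (descPochhammer ℤ k).coeff m = 0 := by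
  apply coeff_eq_zero_of_natDegree_lt
  rw [descPochhammer_natDegree]
  exact h

lemma perk {R : Type u} [CommRing R] [Algebra ℚ R] (r : R) (δ k : ℕ) (hk : k < δ + 1) :
    ((k.factorial : ℚ)⁻¹ • (descPochhammer R k * Polynomial.C ((r - 1) ^ k))) =
      ∑ j ∈ Finset.range (δ + 1), Polynomial.C (∑ u ∈ Finset.range (k + 1),
        (((-1 : ℚ) ^ (k - u) * (((descPochhammer ℤ k).coeff j : ℤ) : ℚ)) /
          ((u.factorial * (k - u).factorial : ℕ) : ℚ)) • r ^ u) * Polynomial.X ^ j := by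
  ext m
  rw [coeff_smul, coeff_mul_C, finsetSum_coeff]
  simp_rw [coeff_C_mul_X_pow]
  rw [Finset.sum_ite_eq, coeff_desc]
  by_cases hm : m ∈ Finset.range (δ + 1)
  · rw [if_pos hm]
    have : (r - 1) ^ k = ∑ u ∈ Finset.range (k + 1), r ^ u * (-1) ^ (k - u) * (k.choose u : R) := by
      rw [sub_eq_add_neg, add_pow]
    rw [this, Finset.mul_sum, Finset.smul_sum]
    apply Finset.sum_congr rfl
    intro u hu
    rw [Finset.mem_range] at hu
    rw [Algebra.smul_def, Algebra.smul_def]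
    have e1 : (((descPochhammer ℤ k).coeff m : ℤ) : R)
        = algebraMap ℚ R (((descPochhammer ℤ k).coeff m : ℤ) : ℚ) := by
      exact (map_intCast (algebraMap ℚ R) _).symm
    have e2 : ((-1 : R)) ^ (k - u) = algebraMap ℚ R ((-1 : ℚ) ^ (k - u)) := by
      rw [map_pow, map_neg, map_one]
    have e3 : (k.choose u : R) = algebraMap ℚ R (k.choose u : ℚ) := by
      rw [map_natCast]
    rw [e1, e2, e3]
    have hq : ((k.factorial : ℚ)⁻¹ * ((((descPochhammer ℤ k).coeff m : ℤ) : ℚ) *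
        ((-1 : ℚ) ^ (k - u) * (k.choose u : ℚ))))
        = ((-1 : ℚ) ^ (k - u) * (((descPochhammer ℤ k).coeff m : ℤ) : ℚ)) /
          ((u.factorial * (k - u).factorial : ℕ) : ℚ) := by
      have h1 : ((k.choose u * u.factorial * (k - u).factorial : ℕ) : ℚ) = (k.factorial : ℚ) := by
        rw [Nat.choose_mul_factorial_mul_factorial (by omega)]
      have hk0 : (k.factorial : ℚ) ≠ 0 := by exact_mod_cast k.factorial_ne_zero
      have hu0 : ((u.factorial * (k - u).factorial : ℕ) : ℚ) ≠ 0 := by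
        exact_mod_cast Nat.mul_ne_zero u.factorial_ne_zero (k - u).factorial_ne_zero
      have hc0 : (k.choose u : ℚ) ≠ 0 := by
        exact_mod_cast (Nat.choose_pos (by omega : u ≤ k)).ne'
      have hu1 : (u.factorial : ℚ) ≠ 0 := by exact_mod_cast u.factorial_ne_zero
      have hu2 : ((k - u).factorial : ℚ) ≠ 0 := by exact_mod_cast (k - u).factorial_ne_zero
      rw [← h1]
      push_cast
      field_simp
    rw [← hq]
    simp only [map_mul]
    ring
  · rw [if_neg hm]
    rw [Finset.mem_range] at hm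
    rw [coeff_desc_zero k m (by omega)]
    simp


/-- Let R be a commutative ℚ-algebra, r an element of R and δ a natural number with (r - 1) ^ (δ + 1) =
0. Write s(k, j) for the signed Stirling numbers of the first kind, the coefficients of x (x - 1) ⋯
(x - k + 1) = Σ_j s(k, j) x ^ j. Then (i) for every natural number n, r ^ n = Σ_{k ≤ δ} [n (n - 1) ⋯
(n - k + 1) / k!] (r - 1) ^ k; and (ii) in the polynomial ring R[x], Σ_{k ≤ δ} [x (x - 1) ⋯ (x - k +
1) / k!] (r - 1) ^ k = Σ_{j ≤ δ} [Σ_{k ≤ δ} Σ_{u ≤ k} (-1) ^ (k - u) s(k, j) / (u! (k - u)!) · r ^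
u] x ^ j. -/
theorem result {R : Type u} [CommRing R] [Algebra ℚ R]
    (r : R) (δ : ℕ) (hr : (r - 1) ^ (δ + 1) = 0) :
    (∀ n : ℕ, r ^ n = ∑ k ∈ Finset.range (δ + 1), ((descPochhammer ℚ k).eval (n : ℚ) / (k.factorial : ℚ)) • (r - 1) ^ k) ∧
    (∑ k ∈ Finset.range (δ + 1), ((k.factorial : ℚ)⁻¹ • (descPochhammer R k * Polynomial.C ((r - 1) ^ k))) =
      ∑ j ∈ Finset.range (δ + 1), Polynomial.C (∑ k ∈ Finset.range (δ + 1), ∑ u ∈ Finset.range (k + 1),
        (((-1 : ℚ) ^ (k - u) * (((descPochhammer ℤ k).coeff j : ℤ) : ℚ)) / ((u.factorial * (k - u).factorial : ℕ) : ℚ)) • r ^ u) * Polynomial.X ^ j) := by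
  refine ⟨part1 r δ hr, ?_⟩
  rw [Finset.sum_congr rfl (fun k hk => perk r δ k (Finset.mem_range.mp hk)), Finset.sum_comm]
  apply Finset.sum_congr rfl
  intro j _
  rw [map_sum, Finset.sum_mul]

end Groth.Agent.S17875
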