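import Groth.Statements.S17876
import Groth.Agent.Lib.Helper6.K0Free

set_option autoImplicit false
universe u
open CategoryTheory CategoryTheory.Limits AlgebraicGeometry
attribute [local instance] HasDerivedCategory.standard
open GRRSing

namespace Groth.Agent.S17876


open Groth.Agent.Lib.Helper6.K0Loc Groth.Agent.Lib.Helper6.K0Len in
/-- over an open set trivializing `V`, the operator `[V ⊗ -] - r` moves classes supported in `Y` to classes
supported in `Y ∖ U` -/
theorem key {W : Scheme.{u}} [IsNoetherian W] (r : ℕ) (V : W.Modules) (hVcoh : Coh.IsCoh V)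
    [((DCoh.tensorBi (X := W)).obj V).Additive] [PreservesFiniteLimits ((DCoh.tensorBi (X := W)).obj V)]
    [PreservesFiniteColimits ((DCoh.tensorBi (X := W)).obj V)]
    (hVc : ∀ M : W.Modules, Coh.IsCoh M → Coh.IsCoh (((DCoh.tensorBi (X := W)).obj V).obj M))
    (U : W.Opens) (e : V.restrict U.ι ≅ FlatMod.freeMod (↑U : Scheme.{u}) r) (Y : Set W)
    (c : SGA6.Kcoh W) (hc : c ∈ FY Y) :
    (SGA6.mapSub ((DCoh.tensorBi (X := W)).obj V) (fun M : W.Modules => Coh.IsCoh M) (fun M : W.Modules => Coh.IsCoh M) hVc -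
        r • AddMonoidHom.id (SGA6.Kcoh W)) c ∈ FY (Y \ (U : Set W)) := by
  classical
  have hle : FY Y ≤ (FY (Y \ (U : Set W))).comap
      (SGA6.mapSub ((DCoh.tensorBi (X := W)).obj V) (fun M : W.Modules => Coh.IsCoh M)
        (fun M : W.Modules => Coh.IsCoh M) hVc - r • AddMonoidHom.id (SGA6.Kcoh W)) := by
    unfold FY
    rw [AddSubgroup.closure_le]
    rintro c ⟨G, hG, hs, rfl⟩
    rw [SetLike.mem_coe, AddSubgroup.mem_comap]
    have h1 : SGA6.mapSub ((DCoh.tensorBi (X := W)).obj V) (fun M : W.Modules => Coh.IsCoh M)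
        (fun M : W.Modules => Coh.IsCoh M) hVc (cls G) = cls (CohB1.tensorMod V G) := by
      unfold cls KZero.clSub
      rw [dif_pos hG, dif_pos (show Coh.IsCoh (CohB1.tensorMod V G) from hVc G hG)]
      unfold SGA6.mapSub
      rw [QuotientAddGroup.map_mk, FreeAbelianGroup.map_of_apply]
      rfl
    rw [AddMonoidHom.sub_apply, AddMonoidHom.smul_apply, AddMonoidHom.id_apply, h1,
      ← Groth.Agent.Lib.Helper6.K0Free.cls_freeMod_tensor r G hG]
    exact cls_tensor_sub_mem V (FlatMod.freeMod W r) hVcoh (Groth.Agent.Lib.Helper6.K0Free.isCoh_freeMod r) U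
      (e ≪≫ (Groth.Agent.Lib.Helper6.K0Free.restrictFreeModIso U r).symm) G hG Y hs
  exact hle hc

/-- Let W be a Noetherian scheme and V a finite locally free O_W-module of constant rank r. Tensoring
with V is exact and preserves coherence (carried here as hypotheses), so it induces an endomorphism
[V] ⊗ (−) of K_0(Coh W), the Grothendieck group of coherent O_W-modules. Then [V] ⊗ (−) − r · id is
a nilpotent endomorphism of K_0(Coh W): some iterate of it vanishes identically. (Equivalently:
rk(V) − V is nilpotent in the quotient of K^0(W) by the annihilator of K_0(W).) -/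
theorem result {W : Scheme.{u}} [IsNoetherian W] (r : ℕ) (V : W.Modules)
    (hV : FlatMod.IsFinLocFreeOfRank r V)
    [((DCoh.tensorBi (X := W)).obj V).Additive] [PreservesFiniteLimits ((DCoh.tensorBi (X := W)).obj V)]
    [PreservesFiniteColimits ((DCoh.tensorBi (X := W)).obj V)]
    (hVc : ∀ M : W.Modules, Coh.IsCoh M → Coh.IsCoh (((DCoh.tensorBi (X := W)).obj V).obj M)) :
    ∃ n : ℕ, ∀ y : SGA6.Kcoh W,
      (⇑(SGA6.mapSub ((DCoh.tensorBi (X := W)).obj V) (fun M : W.Modules => Coh.IsCoh M) (fun M : W.Modules => Coh.IsCoh M) hVc -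
        r • AddMonoidHom.id (SGA6.Kcoh W)))^[n] y = 0 := by
  classical
  have hfl : FlatMod.IsFinLocFree V := fun x => by
    obtain ⟨U, hxU, h⟩ := hV x
    exact ⟨U, r, hxU, h⟩
  have hVcoh : Coh.IsCoh V := ⟨Groth.Agent.Lib.Helper29.FreeIso.isQuasicoherent_of_isFinLocFree V hfl,
    Groth.Agent.Lib.Helper29.FreeIso.isFiniteType_of_isFinLocFree V hfl⟩
  choose U hxU hU using hV
  obtain ⟨t, ht⟩ := CompactSpace.elim_nhds_subcover (fun x => (U x : Set W))
    (fun x => (U x).isOpen.mem_nhds (hxU x))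
  refine ⟨t.card, fun y => ?_⟩
  have hmain : ∀ (s : Finset W) (y : SGA6.Kcoh W),
      (⇑(SGA6.mapSub ((DCoh.tensorBi (X := W)).obj V) (fun M : W.Modules => Coh.IsCoh M)
        (fun M : W.Modules => Coh.IsCoh M) hVc - r • AddMonoidHom.id (SGA6.Kcoh W)))^[s.card] y ∈
        Groth.Agent.Lib.Helper6.K0Loc.FY (Set.univ \ ⋃ x ∈ s, (U x : Set W)) := by
    intro s
    induction s using Finset.induction_on with
    | empty =>
      intro y
      simp only [Finset.card_empty, Function.iterate_zero, id_eq, Finset.notMem_empty, Set.iUnion_of_empty,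
        Set.iUnion_empty, Set.sdiff_empty]
      rw [Groth.Agent.Lib.Helper6.K0Loc.FY_univ]
      trivial
    | insert a s ha ih =>
      intro y
      rw [Finset.card_insert_of_notMem ha, Function.iterate_succ_apply']
      have h1 := key r V hVcoh hVc (U a) (hU a).some _ _ (ih y)
      refine Groth.Agent.Lib.Helper6.K0Loc.FY_mono ?_ h1
      rintro x ⟨⟨-, hx1⟩, hx2⟩
      refine ⟨trivial, fun hx => ?_⟩
      simp only [Finset.mem_insert, Set.iUnion_iUnion_eq_or_left, Set.mem_union] at hx
      rcases hx with hx | hx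
      · exact hx2 hx
      · exact hx1 hx
  have h2 := hmain t y
  have h3 : (Set.univ \ ⋃ x ∈ t, (U x : Set W)) = ∅ := by
    rw [ht]
    exact Set.sdiff_self
  rw [h3, Groth.Agent.Lib.Helper6.K0Loc.FY_empty, AddSubgroup.mem_bot] at h2
  exact h2

end Groth.Agent.S17876
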