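import Groth.Statements.S17878
import Mathlib
-- import your own Groth.Agent.* helpers here

set_option autoImplicit false
universe u
open Filter Topology
open GRRSing

namespace Groth.Agent.S17878

/-- `F j y = Σ_k k^j y^k`. -/
noncomputable def F (j : ℕ) (y : ℂ) : ℂ := ∑' k : ℕ, (k : ℂ) ^ j * y ^ k

theorem F_summable (j : ℕ) {y : ℂ} (hy : ‖y‖ < 1) : Summable (fun k : ℕ => (k : ℂ) ^ j * y ^ k) :=
  summable_pow_mul_geometric_of_norm_lt_one j hy

theorem F_rec (j : ℕ) {y : ℂ} (hy : ‖y‖ < 1) :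
    (1 - y) * F j y = (if j = 0 then 1 else 0) +
      y * ∑ i ∈ Finset.range j, (j.choose i : ℂ) * F i y := by
  have h1 : F j y = (if j = 0 then 1 else 0) + y * ∑ i ∈ Finset.range (j + 1), (j.choose i : ℂ) * F i y := by
    unfold F
    rw [(F_summable j hy).tsum_eq_zero_add]
    congr 1
    · by_cases hj : j = 0
      · simp [hj]
      · simp [hj]
    · have h2 : ∀ k : ℕ, ((k + 1 : ℕ) : ℂ) ^ j * y ^ (k + 1)
          = y * ∑ i ∈ Finset.range (j + 1), (j.choose i : ℂ) * ((k : ℂ) ^ i * y ^ k) := by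
        intro k
        push_cast
        rw [add_pow, Finset.sum_mul, Finset.mul_sum]
        apply Finset.sum_congr rfl
        intro i _
        rw [one_pow, pow_succ]; ring
      simp_rw [h2]
      rw [tsum_mul_left]
      congr 1
      rw [Summable.tsum_finsetSum]
      · apply Finset.sum_congr rfl
        intro i _
        rw [tsum_mul_left]
      · intro i _
        exact (F_summable i hy).mul_left _
  rw [Finset.sum_range_succ, Nat.choose_self, Nat.cast_one, one_mul] at h1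
  linear_combination (1 : ℂ) * h1


theorem E_rec (E : ℕ → ℚ)
    (hE : PowerSeries.mk (fun j => E j / (j.factorial : ℚ)) * (PowerSeries.exp ℚ + 1) = 2) (j : ℕ) :
    2 * E j + ∑ i ∈ Finset.range j, (j.choose i : ℚ) * E i = if j = 0 then 2 else 0 := by
  have h1 := congrArg (PowerSeries.coeff j) hE
  rw [PowerSeries.coeff_mul] at h1
  have h2 : (PowerSeries.coeff j) (2 : PowerSeries ℚ) = if j = 0 then 2 else 0 := by
    have : (2 : PowerSeries ℚ) = PowerSeries.C (2 : ℚ) := (map_ofNat PowerSeries.C 2).symm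
    rw [this, PowerSeries.coeff_C]
  rw [h2] at h1
  have h3 : ∀ x ∈ Finset.HasAntidiagonal.antidiagonal j,
      (PowerSeries.coeff x.1) (PowerSeries.mk fun j => E j / (j.factorial : ℚ)) *
        (PowerSeries.coeff x.2) (PowerSeries.exp ℚ + 1)
      = (E x.1 / (x.1.factorial : ℚ)) * (1 / (x.2.factorial : ℚ)) +
        (if x.2 = 0 then E x.1 / (x.1.factorial : ℚ) else 0) := by
    intro x _
    rw [PowerSeries.coeff_mk, map_add, PowerSeries.coeff_exp, PowerSeries.coeff_one]
    split_ifs <;> simp [mul_add]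
  rw [Finset.sum_congr rfl h3, Finset.sum_add_distrib] at h1
  have h4 : ∑ x ∈ Finset.HasAntidiagonal.antidiagonal j, (if x.2 = 0 then E x.1 / (x.1.factorial : ℚ) else 0)
      = E j / (j.factorial : ℚ) := by
    rw [Finset.sum_eq_single (j, 0)]
    · simp
    · intro b hb hne
      rw [Finset.HasAntidiagonal.mem_antidiagonal] at hb
      rw [if_neg]
      intro h0
      apply hne
      ext
      · simp only; omega
      · exact h0
    · intro h; exfalso; apply h; simp
  rw [h4, Finset.Nat.sum_antidiagonal_eq_sum_range_succ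
    (fun a b => E a / (a.factorial : ℚ) * (1 / (b.factorial : ℚ)))] at h1
  have hjf : (j.factorial : ℚ) ≠ 0 := by exact_mod_cast j.factorial_ne_zero
  have h5 : ∑ i ∈ Finset.range (j + 1), (j.choose i : ℚ) * E i
      = (j.factorial : ℚ) * ∑ i ∈ Finset.range (j + 1),
          E i / (i.factorial : ℚ) * (1 / ((j - i).factorial : ℚ)) := by
    rw [Finset.mul_sum]
    apply Finset.sum_congr rfl
    intro i hi
    rw [Finset.mem_range] at hi
    have hle : i ≤ j := by omega
    rw [Nat.choose_eq_factorial_div_factorial hle, Nat.cast_div (Nat.factorial_mul_factorial_dvd_factorial hle)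
      (by exact_mod_cast (Nat.mul_ne_zero i.factorial_ne_zero (j - i).factorial_ne_zero))]
    push_cast
    have h6 : (i.factorial : ℚ) ≠ 0 := by exact_mod_cast i.factorial_ne_zero
    have h7 : ((j - i).factorial : ℚ) ≠ 0 := by exact_mod_cast (j - i).factorial_ne_zero
    field_simp
  rw [Finset.sum_range_succ, Nat.choose_self, Nat.cast_one, one_mul] at h5
  have h8 : (j.factorial : ℚ) * (if j = 0 then (2 : ℚ) else 0) = if j = 0 then 2 else 0 := by
    by_cases hj : j = 0
    · simp [hj]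
    · simp [hj]
  have h9 : (j.factorial : ℚ) * (E j / (j.factorial : ℚ)) = E j := by field_simp
  rw [← h8, ← h1, mul_add, ← h5, h9]
  ring


theorem norm_ofReal_lt {y : ℝ} (hy : y ∈ Set.Ioo (-1 : ℝ) 1) : ‖(y : ℂ)‖ < 1 := by
  rw [Complex.norm_real, Real.norm_eq_abs, abs_lt]
  exact ⟨hy.1, hy.2⟩

theorem F_tendsto (E : ℕ → ℚ)
    (hE : PowerSeries.mk (fun j => E j / (j.factorial : ℚ)) * (PowerSeries.exp ℚ + 1) = 2) :
    ∀ j : ℕ, Tendsto (fun y : ℝ => F j (y : ℂ)) (𝓝[Set.Ioo (-1 : ℝ) 1] (-1 : ℝ))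
      (𝓝 (((E j : ℚ) : ℂ) / 2)) := by
  intro j
  induction j using Nat.strong_induction_on with
  | _ j ih =>
  have hy0 : Tendsto (fun y : ℝ => (y : ℂ)) (𝓝[Set.Ioo (-1 : ℝ) 1] (-1 : ℝ)) (𝓝 ((-1 : ℝ) : ℂ)) :=
    tendsto_nhdsWithin_of_tendsto_nhds (Complex.continuous_ofReal.tendsto _)
  have hnum : Tendsto (fun y : ℝ => ((if j = 0 then (1 : ℂ) else 0) +
      (y : ℂ) * ∑ i ∈ Finset.range j, (j.choose i : ℂ) * F i (y : ℂ)))
      (𝓝[Set.Ioo (-1 : ℝ) 1] (-1 : ℝ))
      (𝓝 ((if j = 0 then (1 : ℂ) else 0) +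
        ((-1 : ℝ) : ℂ) * ∑ i ∈ Finset.range j, (j.choose i : ℂ) * (((E i : ℚ) : ℂ) / 2))) := by
    apply Tendsto.add tendsto_const_nhds
    apply Tendsto.mul hy0
    apply tendsto_finsetSum
    intro i hi
    exact Tendsto.mul tendsto_const_nhds (ih i (Finset.mem_range.1 hi))
  have hden : Tendsto (fun y : ℝ => (1 : ℂ) - (y : ℂ)) (𝓝[Set.Ioo (-1 : ℝ) 1] (-1 : ℝ))
      (𝓝 ((1 : ℂ) - ((-1 : ℝ) : ℂ))) := Tendsto.sub tendsto_const_nhds hy0
  have hden0 : (1 : ℂ) - ((-1 : ℝ) : ℂ) ≠ 0 := by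
    push_cast; norm_num
  have hq := hnum.div hden hden0
  have hval : ((if j = 0 then (1 : ℂ) else 0) +
        ((-1 : ℝ) : ℂ) * ∑ i ∈ Finset.range j, (j.choose i : ℂ) * (((E i : ℚ) : ℂ) / 2))
        / ((1 : ℂ) - ((-1 : ℝ) : ℂ)) = ((E j : ℚ) : ℂ) / 2 := by
    have h1 := congrArg (fun q : ℚ => (q : ℂ)) (E_rec E hE j)
    simp only [Rat.cast_add, Rat.cast_mul, Rat.cast_sum, Rat.cast_natCast, Rat.cast_ofNat] at h1
    have h2 : ∑ i ∈ Finset.range j, (j.choose i : ℂ) * (((E i : ℚ) : ℂ) / 2)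
        = (∑ i ∈ Finset.range j, (j.choose i : ℂ) * ((E i : ℚ) : ℂ)) / 2 := by
      rw [Finset.sum_div]
      apply Finset.sum_congr rfl
      intro i _; ring
    rw [h2]
    push_cast
    by_cases hj : j = 0
    · simp only [hj, if_true] at h1 ⊢
      push_cast at h1
      linear_combination (-1 / 4 : ℂ) * h1
    · simp only [hj, if_false] at h1 ⊢
      push_cast at h1
      linear_combination (-1 / 4 : ℂ) * h1
  rw [hval] at hq
  apply hq.congr'
  apply eventually_nhdsWithin_of_forall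
  intro y hy
  have hr := F_rec j (norm_ofReal_lt hy)
  have hne : (1 : ℂ) - (y : ℂ) ≠ 0 := by
    intro h
    have : (y : ℂ) = 1 := (sub_eq_zero.1 h).symm
    have : y = 1 := by exact_mod_cast this
    exact absurd this (ne_of_lt hy.2)
  simp only [Pi.div_apply]
  rw [← hr, mul_div_cancel_left₀ _ hne]

/-- Let T be a nonzero commutative normed ℂ-algebra such that the map ℂ → T/nilradical(T) is surjective,
let P = Σ_j d_j x ^ j be a polynomial over T and put h_k = P(k). Let E_0, E_1, … be the rational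
numbers with 2/(e^t + 1) = Σ_j E_j t ^ j / j! (so E_0 = 1, E_1 = -1/2). Then for every complex y
with |y| < 1 the series Σ_k h_k y ^ k converges in T, and as y → -1 along real y in (-1, 1) its sum
tends to (1/2) Σ_j E_j d_j. (The published statement allows any norm topology on T as a complex
vector space; this row takes T a normed ℂ-algebra.) -/
theorem result {T : Type u} [NormedCommRing T] [NormedAlgebra ℂ T] [Nontrivial T]
    (hT : Function.Surjective (algebraMap ℂ (T ⧸ nilradical T)))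
    (E : ℕ → ℚ) (hE : PowerSeries.mk (fun j => E j / (j.factorial : ℚ)) * (PowerSeries.exp ℚ + 1) = 2)
    (P : Polynomial T) :
    (∀ y : ℂ, ‖y‖ < 1 → Summable (fun k : ℕ => y ^ k • P.eval (k : T))) ∧
    Tendsto (fun y : ℝ => ∑' k : ℕ, ((y : ℂ) ^ k) • P.eval (k : T)) (𝓝[Set.Ioo (-1 : ℝ) 1] (-1 : ℝ))
      (𝓝 ((2 : ℂ)⁻¹ • ∑ j ∈ Finset.range (P.natDegree + 1), ((E j : ℚ) : ℂ) • P.coeff j)) := by
  have hterm : ∀ (y : ℂ) (k : ℕ), y ^ k • P.eval (k : T)
      = ∑ j ∈ Finset.range (P.natDegree + 1), ((k : ℂ) ^ j * y ^ k) • P.coeff j := by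
    intro y k
    rw [Polynomial.eval_eq_sum_range, Finset.smul_sum]
    apply Finset.sum_congr rfl
    intro j _
    have : ((k : ℕ) : T) = algebraMap ℂ T (k : ℂ) := (map_natCast _ k).symm
    rw [this, ← map_pow, mul_comm (P.coeff j), ← Algebra.smul_def, smul_smul, mul_comm]
  have hsum : ∀ y : ℂ, ‖y‖ < 1 → ∀ j : ℕ,
      Summable (fun k : ℕ => ((k : ℂ) ^ j * y ^ k) • P.coeff j) := fun y hy j =>
    (F_summable j hy).smul_const _
  have htsum : ∀ y : ℂ, ‖y‖ < 1 → ∑' k : ℕ, y ^ k • P.eval (k : T)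
      = ∑ j ∈ Finset.range (P.natDegree + 1), F j y • P.coeff j := by
    intro y hy
    simp_rw [hterm y]
    rw [Summable.tsum_finsetSum (fun j _ => hsum y hy j)]
    apply Finset.sum_congr rfl
    intro j _
    rw [(F_summable j hy).tsum_smul_const]
    rfl
  refine ⟨?_, ?_⟩
  · intro y hy
    simp_rw [hterm y]
    exact summable_sum (fun j _ => hsum y hy j)
  · have hlim : Tendsto (fun y : ℝ => ∑ j ∈ Finset.range (P.natDegree + 1), F j (y : ℂ) • P.coeff j)
        (𝓝[Set.Ioo (-1 : ℝ) 1] (-1 : ℝ))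
        (𝓝 (∑ j ∈ Finset.range (P.natDegree + 1), (((E j : ℚ) : ℂ) / 2) • P.coeff j)) := by
      apply tendsto_finsetSum
      intro j _
      exact (F_tendsto E hE j).smul_const _
    have hval : (∑ j ∈ Finset.range (P.natDegree + 1), (((E j : ℚ) : ℂ) / 2) • P.coeff j)
        = (2 : ℂ)⁻¹ • ∑ j ∈ Finset.range (P.natDegree + 1), ((E j : ℚ) : ℂ) • P.coeff j := by
      rw [Finset.smul_sum]
      apply Finset.sum_congr rfl
      intro j _
      rw [smul_smul]; congr 1; ring
    rw [hval] at hlim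
    apply hlim.congr'
    apply eventually_nhdsWithin_of_forall
    intro y hy
    exact (htsum (y : ℂ) (norm_ofReal_lt hy)).symm

end Groth.Agent.S17878
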