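import Groth.Statements.S17880
import Mathlib
import Groth.Agent.Lib.Helper13.NaStage

set_option autoImplicit false
universe u
open CategoryTheory AlgebraicGeometry
open Lim

namespace Groth.Agent.S17880

section helpers

open CategoryTheory CategoryTheory.Limits AlgebraicGeometry Opposite


open Groth.Agent.Lib.Helper13.NaFP Groth.Agent.Lib.Helper13.NaOver Groth.Agent.Lib.Helper13.NaStage

theorem main {X Y : Scheme.{u}} (f : Y ⟶ X)
    [CompactSpace X] [QuasiSeparatedSpace X] [CompactSpace Y] [QuasiSeparatedSpace Y] :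
    ∃ (Z : Scheme.{u}) (g : Y ⟶ Z) (h : Z ⟶ X), IsAffineHom g ∧ LocallyOfFinitePresentation h ∧
      QuasiCompact h ∧ QuasiSeparated h ∧ (IsSeparated f → IsSeparated h) ∧ g ≫ h = f := by
  obtain ⟨I, _, _, _, G, s, π, ⟨hπ⟩, h1, h2, h3, h4⟩ := exists_fp_approx f
  have haff : ∀ i, IsAffineHom (pr π i) := fun i => by
    have : ∀ {i j : Iᵒᵖ} (a : i ⟶ j), IsAffineHom (G.map a) := fun a => h3 _ _ a
    exact isAffineHom_π_app G (Cone.mk Y π) hπ i
  by_cases hf : IsSeparated f
  · obtain ⟨i₁, hi₁⟩ := exists_separated_stage f G s π hπ h1 h3 (fun j => (h4 j).1)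
      (fun j => (h4 j).2)
    exact ⟨G.obj i₁, pr π i₁, s.app i₁, haff _, (h2 _).1, (h2 _).2.1, (h2 _).2.2,
      fun _ => hi₁ i₁ (𝟙 _), h1 _⟩
  · let i : Iᵒᵖ := op (Classical.arbitrary I)
    exact ⟨G.obj i, pr π i, s.app i, haff _, (h2 _).1, (h2 _).2.1, (h2 _).2.2,
      fun h => absurd h hf, h1 _⟩


end helpers

/-- Let f : Y → X be a morphism of schemes with X and Y quasi-compact and quasi-separated. Then f is the
composite of an affine morphism Y → Z and a morphism Z → X of finite presentation (locally of finite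
presentation, quasi-compact and quasi-separated); if f is separated, Z → X can in addition be chosen
separated. Both assertions are packaged in one existential. -/
theorem result {X Y : Scheme.{u}} (f : Y ⟶ X)
    [CompactSpace X] [QuasiSeparatedSpace X] [CompactSpace Y] [QuasiSeparatedSpace Y] :
    ∃ (Z : Scheme.{u}) (g : Y ⟶ Z) (h : Z ⟶ X), IsAffineHom g ∧ LocallyOfFinitePresentation h ∧
      QuasiCompact h ∧ QuasiSeparated h ∧ (IsSeparated f → IsSeparated h) ∧ g ≫ h = f := by
  exact main f

end Groth.Agent.S17880
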