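import Groth.Statements.S17881
-- import your own Groth.Agent.* helpers here

set_option autoImplicit false
universe u
open CAlg

namespace Groth.Agent.S17881

/-- Let O be a subring of a nontrivial commutative ring A. The following are equivalent: (i) A is a
local ring, every non-unit of A belongs to O, and for every unit u of A one of u, u⁻¹ belongs to O —
equivalently O is the preimage in the local ring A of a valuation ring of the residue field of A,
which makes O a semi-valuation ring with semi-fraction ring A; (ii) for all f, g in A generating the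
unit ideal, either f ∈ gO or g ∈ fO. (A is taken nontrivial: over the zero ring (ii) holds and (i)
fails.) -/
theorem result (A : Type u) [CommRing A] [Nontrivial A]
    (O : Subring A) :
    (IsLocalRing A ∧ (∀ a : A, ¬ IsUnit a → a ∈ O) ∧ (∀ u : Aˣ, (u : A) ∈ O ∨ ((u⁻¹ : Aˣ) : A) ∈ O)) ↔
      ∀ f g : A, IsCoprime f g → (∃ o ∈ O, f = g * o) ∨ (∃ o ∈ O, g = f * o) := by
  constructor
  · rintro ⟨hloc, hnu, hu⟩ f g hfg
    have hunit : IsUnit f ∨ IsUnit g := by
      obtain ⟨a, b, hab⟩ := hfg
      rcases IsLocalRing.isUnit_or_isUnit_of_add_one hab with h | h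
      · exact Or.inl (isUnit_of_mul_isUnit_right h)
      · exact Or.inr (isUnit_of_mul_isUnit_right h)
    by_cases hf : IsUnit f
    · by_cases hg : IsUnit g
      · obtain ⟨uf, rfl⟩ := hf
        obtain ⟨ug, rfl⟩ := hg
        rcases hu (uf⁻¹ * ug) with h | h
        · right
          refine ⟨_, h, ?_⟩
          simp
        · left
          refine ⟨_, h, ?_⟩
          simp
      · right
        obtain ⟨uf, rfl⟩ := hf
        refine ⟨((uf⁻¹ : Aˣ) : A) * g, hnu _ ?_, ?_⟩
        · intro h
          apply hg
          have := (uf.isUnit).mul h
          simpa using this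
        · simp
    · have hg : IsUnit g := hunit.resolve_left hf
      left
      obtain ⟨ug, rfl⟩ := hg
      refine ⟨((ug⁻¹ : Aˣ) : A) * f, hnu _ ?_, ?_⟩
      · intro h
        apply hf
        have := (ug.isUnit).mul h
        simpa using this
      · simp
  · intro H
    refine ⟨?_, ?_, ?_⟩
    · refine IsLocalRing.of_is_unit_or_is_unit_of_add_one ?_
      intro a b hab
      have hc : IsCoprime a b := ⟨1, 1, by simpa using hab⟩
      rcases H a b hc with ⟨o, -, ho⟩ | ⟨o, -, ho⟩
      · right
        apply IsUnit.of_mul_eq_one (o + 1)
        calc b * (o + 1) = b * o + b := by ring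
          _ = a + b := by rw [← ho]
          _ = 1 := hab
      · left
        apply IsUnit.of_mul_eq_one (1 + o)
        calc a * (1 + o) = a + a * o := by ring
          _ = a + b := by rw [← ho]
          _ = 1 := hab
    · intro a ha
      have hc : IsCoprime a 1 := isCoprime_one_right
      rcases H a 1 hc with ⟨o, ho, h⟩ | ⟨o, -, h⟩
      · rw [h, one_mul]
        exact ho
      · exact absurd (IsUnit.of_mul_eq_one o h.symm) ha
    · intro u
      have hc : IsCoprime (u : A) 1 := isCoprime_one_right
      rcases H u 1 hc with ⟨o, ho, h⟩ | ⟨o, ho, h⟩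
      · left
        rw [h, one_mul]
        exact ho
      · right
        have : ((u⁻¹ : Aˣ) : A) = o := by
          rw [Units.inv_eq_of_mul_eq_one_right h.symm]
        rw [this]
        exact ho

end Groth.Agent.S17881
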