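import Groth.Statements.S17882
import Mathlib
-- import your own Groth.Agent.* helpers here

set_option autoImplicit false
universe u
open CAlg

namespace Groth.Agent.S17882

/-- Let B be a commutative ring, r ≥ 1, N a finitely generated submodule of B^r, and n_1, …, n_r ∈ N.
Suppose the determinant of the matrix with rows n_1, …, n_r is a nonzerodivisor of B and that the
determinant of every matrix whose rows lie in N is a multiple of it (the image of the top exterior
power of N in that of B^r ≅ B is the principal ideal generated by n_1 ∧ ⋯ ∧ n_r, a nonzerodivisor).
Then n_1, …, n_r are linearly independent over B and span N: N is free of rank r with this basis. -/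
theorem result (B : Type u) [CommRing B] (r : ℕ) (hr : 0 < r)
    (N : Submodule B (Fin r → B)) (hN : N.FG) (n : Fin r → (Fin r → B)) (hn : ∀ i, n i ∈ N)
    (hgen : ∀ m : Fin r → (Fin r → B), (∀ i, m i ∈ N) →
      Matrix.det (Matrix.of m) ∈ Ideal.span {Matrix.det (Matrix.of n)})
    (hnzd : Matrix.det (Matrix.of n) ∈ nonZeroDivisors B) :
    LinearIndependent B n ∧ Submodule.span B (Set.range n) = N := by
  classical
  have hcancel : ∀ x : B, Matrix.det (Matrix.of n) * x = 0 → x = 0 := fun x hx =>
    (mul_right_mem_nonZeroDivisors_eq_zero_iff hnzd).mp (by rwa [mul_comm] at hx)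
  constructor
  · rw [Fintype.linearIndependent_iff]
    intro c hc i
    have h1 : Matrix.vecMul c (Matrix.of n) = 0 := by
      ext j
      have := congrFun hc j
      simp only [Finset.sum_apply, Pi.smul_apply, smul_eq_mul, Pi.zero_apply] at this
      simpa [Matrix.vecMul, dotProduct] using this
    have h2 : Matrix.vecMul c (Matrix.of n * (Matrix.of n).adjugate) = 0 := by
      rw [← Matrix.vecMul_vecMul, h1, Matrix.zero_vecMul]
    rw [Matrix.mul_adjugate, Matrix.vecMul_smul, Matrix.vecMul_one] at h2
    have h3 := congrFun h2 i
    exact hcancel _ (by simpa using h3)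
  · apply le_antisymm
    · rw [Submodule.span_le]
      rintro _ ⟨i, rfl⟩
      exact hn i
    · intro m hm
      have hv : ∀ i, ∃ b, Matrix.cramer (Matrix.of n).transpose m i =
          b * Matrix.det (Matrix.of n) := by
        intro i
        have h1 : Matrix.cramer (Matrix.of n).transpose m i =
            (Matrix.of (Function.update n i m)).det := by
          rw [Matrix.cramer_apply, ← Matrix.det_transpose, Matrix.updateCol_transpose,
            Matrix.transpose_transpose]
          rfl
        have h2 := hgen (Function.update n i m) (by
          intro j
          by_cases hj : j = i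
          · subst hj; simpa using hm
          · rw [Function.update_of_ne hj]; exact hn j)
        rw [Ideal.mem_span_singleton'] at h2
        obtain ⟨b, hb⟩ := h2
        exact ⟨b, by rw [h1, ← hb]⟩
      choose b hb using hv
      have h3 : m = ∑ i, b i • n i := by
        have h4 := Matrix.mulVec_cramer (Matrix.of n).transpose m
        rw [Matrix.det_transpose] at h4
        funext j
        have h5 := congrFun h4 j
        simp only [Matrix.mulVec, dotProduct, Matrix.transpose_apply, Matrix.of_apply,
          Pi.smul_apply, smul_eq_mul] at h5
        have h6 : Matrix.det (Matrix.of n) * (m j - (∑ i, b i • n i) j) = 0 := by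
          rw [mul_sub, ← h5, Finset.sum_apply, Finset.mul_sum, ← Finset.sum_sub_distrib]
          apply Finset.sum_eq_zero
          intro i _
          rw [hb i, Pi.smul_apply, smul_eq_mul]
          ring
        exact sub_eq_zero.mp (hcancel _ h6)
      rw [h3]
      exact Submodule.sum_mem _ (fun i _ => Submodule.smul_mem _ _ (Submodule.subset_span ⟨i, rfl⟩))

end Groth.Agent.S17882
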