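import Groth.Statements.S17885
import Mathlib
import Groth.Agent.Lib.Helper13.NaStage

set_option autoImplicit false
universe u
open CategoryTheory AlgebraicGeometry
open Lim

namespace Groth.Agent.S17885

section helpers

open CategoryTheory CategoryTheory.Limits AlgebraicGeometry Opposite


open Groth.Agent.Lib.Helper13.NaFP Groth.Agent.Lib.Helper13.NaOver Groth.Agent.Lib.Helper13.NaStage

/-- restriction of a directed system to the indices above a given one -/
theorem exists_restrict {C : Type*} [Category C] {I : Type u} [Preorder I] [IsDirected I (· ≤ ·)]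
    [Nonempty I] (G : Iᵒᵖ ⥤ C) (c : Cone G) (hc : IsLimit c) (i₀ : I) :
    ∃ (I' : Type u) (_ : Preorder I') (_ : IsDirected I' (· ≤ ·)) (_ : Nonempty I')
      (α : I' →o I), (∀ i', i₀ ≤ α i') ∧
      Nonempty (IsLimit (c.whisker α.monotone.functor.op)) := by
  let I' := {i : I // i₀ ≤ i}
  let α : I' →o I := ⟨Subtype.val, fun _ _ h => h⟩
  haveI : Nonempty I' := ⟨⟨i₀, le_refl _⟩⟩
  haveI : IsDirected I' (· ≤ ·) := ⟨fun x y => by
    obtain ⟨k, h1, h2⟩ := exists_ge_ge x.1 y.1
    exact ⟨⟨k, x.2.trans h1⟩, h1, h2⟩⟩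
  have hfin : α.monotone.functor.Final := by
    refine Functor.final_of_exists_of_isFiltered _ (fun d => ?_) (fun {d c} s s' => ?_)
    · obtain ⟨k, h1, h2⟩ := exists_ge_ge d i₀
      exact ⟨⟨k, h2⟩, ⟨homOfLE h1⟩⟩
    · exact ⟨c, 𝟙 c, Subsingleton.elim _ _⟩
  exact ⟨I', inferInstance, inferInstance, inferInstance, α, fun i' => i'.2,
    ⟨(Functor.Initial.isLimitWhiskerEquiv _ c).symm hc⟩⟩

theorem mp {X Y : Scheme.{u}} (f : Y ⟶ X)
    [CompactSpace X] [QuasiSeparatedSpace X] [CompactSpace Y] [QuasiSeparatedSpace Y]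
    [IsAffineHom f] :
    ∃ (I : Type u) (_ : SmallCategory I) (_ : IsFiltered I) (D : Iᵒᵖ ⥤ Over X)
        (c : Limits.Cone D) (_ : Limits.IsLimit c),
        (∀ i, IsAffineHom (D.obj i).hom ∧ LocallyOfFinitePresentation (D.obj i).hom) ∧
        Nonempty (c.pt ≅ Over.mk f) := by
  obtain ⟨I, _, _, _, G, s, π, ⟨hπ⟩, h1, h2, h3, h4⟩ := exists_fp_approx f
  obtain ⟨i₁, hi₁⟩ := exists_affine_stage f G s π hπ h1 h3 (fun j => (h4 j).1)
    (fun j => (h4 j).2)
  obtain ⟨I', _, _, _, α, hα, ⟨hlim⟩⟩ := exists_restrict G (Cone.mk Y π) hπ i₁.unop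
  let F := α.monotone.functor.op
  haveI : IsConnected I'ᵒᵖ := IsCofiltered.isConnected _
  have h1' : ∀ j : I'ᵒᵖ, pr (Functor.whiskerLeft F π) j ≫ (Functor.whiskerLeft F s).app j = f :=
    fun j => h1 (F.obj j)
  refine ⟨I', inferInstance, inferInstance, overDiag (F ⋙ G) (Functor.whiskerLeft F s),
    overCone (F ⋙ G) (Functor.whiskerLeft F s) (Functor.whiskerLeft F π) f h1',
    overIsLimit (F ⋙ G) (Functor.whiskerLeft F s) (Functor.whiskerLeft F π) f h1' hlim,
    fun i => ⟨?_, ?_⟩, ⟨Iso.refl _⟩⟩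
  · exact hi₁ (F.obj i) (homOfLE (hα i.unop)).op
  · exact (h2 (F.obj i)).1

theorem mpr {X Y : Scheme.{u}} (f : Y ⟶ X)
    (h : ∃ (I : Type u) (_ : SmallCategory I) (_ : IsFiltered I) (D : Iᵒᵖ ⥤ Over X)
        (c : Limits.Cone D) (_ : Limits.IsLimit c),
        (∀ i, IsAffineHom (D.obj i).hom ∧ LocallyOfFinitePresentation (D.obj i).hom) ∧
        Nonempty (c.pt ≅ Over.mk f)) : IsAffineHom f := by
  obtain ⟨I, _, _, D, c, hc, hD, ⟨e⟩⟩ := h
  haveI : IsConnected Iᵒᵖ := IsCofiltered.isConnected _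
  let D' := D ⋙ Over.forget X
  let c' := (Over.forget X).mapCone c
  have hc' : IsLimit c' := isLimitOfPreserves (Over.forget X) hc
  have haff : ∀ {i j : Iᵒᵖ} (a : i ⟶ j), IsAffineHom (D'.map a) := by
    intro i j a
    change IsAffineHom (D.map a).left
    have := (hD j).1
    have : IsAffineHom ((D.map a).left ≫ (D.obj j).hom) := by
      rw [Over.w]; exact (hD i).1
    exact IsAffineHom.of_comp _ (D.obj j).hom
  let i : Iᵒᵖ := op (IsFiltered.nonempty (C := I)).some
  have h1 : IsAffineHom (c.π.app i).left := isAffineHom_π_app D' c' hc' i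
  have h2 := (hD i).1
  have h3 : IsAffineHom c.pt.hom := by
    have : (c.π.app i).left ≫ (D.obj i).hom = c.pt.hom := Over.w _
    rw [← this]; infer_instance
  have h4 : e.inv.left ≫ c.pt.hom = f := Over.w e.inv
  haveI : IsIso e.inv.left := (Over.forget X).map_isIso e.inv
  rw [← h4]; infer_instance


end helpers

/-- Let f : Y → X be a morphism of schemes with X and Y quasi-compact and quasi-separated. Then f is
affine if and only if the X-scheme Y is a limit, in the category of schemes over X, of a filtered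
inverse system of X-schemes that are affine and of finite presentation over X. -/
theorem result {X Y : Scheme.{u}} (f : Y ⟶ X)
    [CompactSpace X] [QuasiSeparatedSpace X] [CompactSpace Y] [QuasiSeparatedSpace Y] :
    IsAffineHom f ↔
      ∃ (I : Type u) (_ : SmallCategory I) (_ : IsFiltered I) (D : Iᵒᵖ ⥤ Over X)
        (c : Limits.Cone D) (_ : Limits.IsLimit c),
        (∀ i, IsAffineHom (D.obj i).hom ∧ LocallyOfFinitePresentation (D.obj i).hom) ∧
        Nonempty (c.pt ≅ Over.mk f) := by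
  exact ⟨fun _ => mp f, mpr f⟩

end Groth.Agent.S17885
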