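import Groth.Statements.S17887
import Groth.Agent.Lib.Helper29.BlowUpUP2
import Groth.Agent.Lib.Helper29.EffCart2

set_option autoImplicit false
universe u
open CategoryTheory AlgebraicGeometry
open BlowUp

namespace Groth.Agent.S17887

open Groth.Agent.Lib.Helper29.EffCart
open CategoryTheory CategoryTheory.Limits AlgebraicGeometry Opposite TopologicalSpace


/-- Let X be a Noetherian scheme, U ⊆ X an open subscheme that is schematically dense in X, I a
quasi-coherent ideal sheaf on X whose support does not meet U, and π : X' → X a blowing-up of X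
along I. Then π⁻¹(U) is schematically dense in X'. -/
theorem result {X X' : Scheme.{u}} [IsNoetherian X]
    (U : X.Opens) [IsSchemeTheoreticallyDominant U.ι] (𝓘 : X.IdealSheafData)
    (hU : Disjoint (𝓘.support : Set X) (U : Set X)) (π : X' ⟶ X) (hπ : BlowUp.IsBlowUp π 𝓘) :
    IsSchemeTheoreticallyDominant (π ⁻¹ᵁ U).ι := by
  set U₀ : X.Opens := 𝓘.support.compl with hU₀
  set V₀ : X'.Opens := π ⁻¹ᵁ U₀ with hV₀def
  have hiso : IsIso (π ∣_ U₀) := IsBlowUp.isIso_morphismRestrict hπ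
  have hV₀ : IsSchemeTheoreticallyDominant V₀.ι := by
    have h := ker_ι_compl_support_eq_bot (𝓘.comap π) hπ.1
    have heq : (𝓘.comap π).support.compl = V₀ := by
      ext x
      change x ∉ (𝓘.comap π).support ↔ π x ∉ 𝓘.support
      rw [Scheme.IdealSheafData.support_comap]
      rfl
    rw [heq] at h
    exact ⟨h⟩
  have hg : V₀.ι ≫ π = (π ∣_ U₀) ≫ U₀.ι := (morphismRestrict_ι π U₀).symm
  have hoi : IsOpenImmersion (V₀.ι ≫ π) := by rw [hg]; infer_instance
  have h1 : IsSchemeTheoreticallyDominant ((V₀.ι ≫ π) ⁻¹ᵁ U).ι :=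
    .of_isPullback (isPullback_morphismRestrict (V₀.ι ≫ π) U)
  have h2 : IsSchemeTheoreticallyDominant (((V₀.ι ≫ π) ⁻¹ᵁ U).ι ≫ V₀.ι) := inferInstance
  have hr : Set.range (π ⁻¹ᵁ U).ι = Set.range (((V₀.ι ≫ π) ⁻¹ᵁ U).ι ≫ V₀.ι) := by
    ext x
    rw [Scheme.Opens.range_ι]
    constructor
    · intro hx
      have hxV₀ : x ∈ V₀ := fun hmem => Set.disjoint_left.1 hU hmem hx
      exact ⟨⟨⟨x, hxV₀⟩, hx⟩, rfl⟩
    · rintro ⟨z, rfl⟩
      exact z.2
  rw [← IsOpenImmersion.isoOfRangeEq_hom_fac (π ⁻¹ᵁ U).ι (((V₀.ι ≫ π) ⁻¹ᵁ U).ι ≫ V₀.ι) hr]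
  infer_instance

end Groth.Agent.S17887
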