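import Groth.Statements.S17901
-- import your own Groth.Agent.* helpers here
import Groth.Agent.Lib.Helper23.MilnorSeq

set_option autoImplicit false
universe u
open TensorProduct
open Pinch

namespace Groth.Agent.S17901

/-- Let R be a commutative ring and let B' → B → A, B' → A' → A be a fibre square of R-algebras (B' = B
×_A A') with A' → A surjective, where B, A' and A are flat over R. Then for every commutative
R-algebra R' the square obtained by applying R' ⊗_R − is again a fibre square: R' ⊗_R A' → R' ⊗_R A
is surjective and every pair of elements of R' ⊗_R B and R' ⊗_R A' with the same image in R' ⊗_R A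
is the image of a unique element of R' ⊗_R B'. (The published lemma concludes that the base-changed
square of spectra is co-cartesian in ringed spaces; this row states the ring form, surjective edge
and fibre product, which its proof establishes before translating it to ringed spaces.) -/
theorem result (R B' B A' A : Type u) [CommRing R] [CommRing B'] [CommRing B] [CommRing A'] [CommRing A]
    [Algebra B' B] [Algebra B' A'] [Algebra B A] [Algebra A' A] [Algebra B' A]
    [IsScalarTower B' B A] [IsScalarTower B' A' A]
    [Algebra R B'] [Algebra R B] [Algebra R A'] [Algebra R A]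
    [IsScalarTower R B' B] [IsScalarTower R B' A'] [IsScalarTower R B' A] [IsScalarTower R B A] [IsScalarTower R A' A]
    (hsq : EtMil.IsFibreSquare B' B A' A)
    [Module.Flat R B] [Module.Flat R A'] [Module.Flat R A]
    (R' : Type u) [CommRing R'] [Algebra R R'] :
    Function.Surjective (Algebra.TensorProduct.map (AlgHom.id R R') (IsScalarTower.toAlgHom R A' A)) ∧
    ∀ (x : R' ⊗[R] B) (y : R' ⊗[R] A'),
      Algebra.TensorProduct.map (AlgHom.id R R') (IsScalarTower.toAlgHom R B A) x =
        Algebra.TensorProduct.map (AlgHom.id R R') (IsScalarTower.toAlgHom R A' A) y →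
      ∃! z : R' ⊗[R] B',
        Algebra.TensorProduct.map (AlgHom.id R R') (IsScalarTower.toAlgHom R B' B) z = x ∧
        Algebra.TensorProduct.map (AlgHom.id R R') (IsScalarTower.toAlgHom R B' A') z = y := by
  have hmap : ∀ {X Y : Type u} [CommRing X] [CommRing Y] [Algebra R X] [Algebra R Y]
      (g : X →ₐ[R] Y) (t : R' ⊗[R] X),
      Algebra.TensorProduct.map (AlgHom.id R R') g t = g.toLinearMap.lTensor R' t := by
    intro X Y _ _ _ _ g t
    rfl
  refine ⟨?_, ?_⟩
  · intro t
    obtain ⟨s, hs⟩ := LinearMap.lTensor_surjective R' (g := (IsScalarTower.toAlgHom R A' A).toLinearMap)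
      hsq.1 t
    exact ⟨s, (hmap _ _).trans hs⟩
  · intro x y hxy
    simp only [hmap] at hxy ⊢
    have hinj : Function.Injective ((Helper23.MS.iR R B' B A').lTensor R') :=
      LinearMap.lTensor_injective_of_exact_of_flat (Helper23.MS.pR R B' B A' A)
        (Helper23.MS.pR_surjective hsq) (Helper23.MS.iR R B' B A') (Helper23.MS.iR_injective hsq)
        (Helper23.MS.exact_iR_pR hsq) R'
    have hex : Function.Exact ((Helper23.MS.iR R B' B A').lTensor R')
        ((Helper23.MS.pR R B' B A' A).lTensor R') :=
      lTensor_exact R' (Helper23.MS.exact_iR_pR hsq) (Helper23.MS.pR_surjective hsq)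
    have c1 : Helper23.MS.pR R B' B A' A ∘ₗ LinearMap.inl R B A' =
        (IsScalarTower.toAlgHom R B A).toLinearMap := by
      ext b; simp [Helper23.MS.pR_apply]
    have c2 : Helper23.MS.pR R B' B A' A ∘ₗ LinearMap.inr R B A' =
        -(IsScalarTower.toAlgHom R A' A).toLinearMap := by
      ext b; simp [Helper23.MS.pR_apply]
    have c3 : LinearMap.fst R B A' ∘ₗ Helper23.MS.iR R B' B A' =
        (IsScalarTower.toAlgHom R B' B).toLinearMap := by
      ext b; simp [Helper23.MS.iR_apply]
    have c4 : LinearMap.snd R B A' ∘ₗ Helper23.MS.iR R B' B A' =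
        (IsScalarTower.toAlgHom R B' A').toLinearMap := by
      ext b; simp [Helper23.MS.iR_apply]
    have hdecomp : ∀ w : R' ⊗[R] (B × A'),
        w = (LinearMap.inl R B A').lTensor R' ((LinearMap.fst R B A').lTensor R' w) +
          (LinearMap.inr R B A').lTensor R' ((LinearMap.snd R B A').lTensor R' w) := by
      intro w
      rw [← LinearMap.comp_apply, ← LinearMap.comp_apply, ← LinearMap.lTensor_comp,
        ← LinearMap.lTensor_comp, ← LinearMap.add_apply, ← LinearMap.lTensor_add]
      have : LinearMap.inl R B A' ∘ₗ LinearMap.fst R B A' +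
          LinearMap.inr R B A' ∘ₗ LinearMap.snd R B A' = LinearMap.id := by
        ext x <;> simp
      rw [this, LinearMap.lTensor_id, LinearMap.id_apply]
    have hw : (Helper23.MS.pR R B' B A' A).lTensor R'
        ((LinearMap.inl R B A').lTensor R' x + (LinearMap.inr R B A').lTensor R' y) = 0 := by
      rw [map_add, ← LinearMap.comp_apply, ← LinearMap.comp_apply, ← LinearMap.lTensor_comp,
        ← LinearMap.lTensor_comp, c1, c2, LinearMap.lTensor_neg, LinearMap.neg_apply, hxy,
        add_neg_cancel]
    obtain ⟨z, hz⟩ := (hex _).mp hw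
    have hz1 : (IsScalarTower.toAlgHom R B' B).toLinearMap.lTensor R' z = x := by
      rw [← c3, LinearMap.lTensor_comp, LinearMap.comp_apply, hz, map_add,
        ← LinearMap.comp_apply, ← LinearMap.comp_apply, ← LinearMap.lTensor_comp,
        ← LinearMap.lTensor_comp]
      have e1 : LinearMap.fst R B A' ∘ₗ LinearMap.inl R B A' = LinearMap.id := by ext; simp
      have e2 : LinearMap.fst R B A' ∘ₗ LinearMap.inr R B A' = 0 := by ext; simp
      rw [e1, e2, LinearMap.lTensor_id, LinearMap.lTensor_zero]
      simp
    have hz2 : (IsScalarTower.toAlgHom R B' A').toLinearMap.lTensor R' z = y := by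
      rw [← c4, LinearMap.lTensor_comp, LinearMap.comp_apply, hz, map_add,
        ← LinearMap.comp_apply, ← LinearMap.comp_apply, ← LinearMap.lTensor_comp,
        ← LinearMap.lTensor_comp]
      have e1 : LinearMap.snd R B A' ∘ₗ LinearMap.inl R B A' = 0 := by ext; simp
      have e2 : LinearMap.snd R B A' ∘ₗ LinearMap.inr R B A' = LinearMap.id := by ext; simp
      rw [e1, e2, LinearMap.lTensor_id, LinearMap.lTensor_zero]
      simp
    refine ⟨z, ⟨hz1, hz2⟩, ?_⟩
    rintro z' ⟨h1, h2⟩
    apply hinj
    rw [hz, hdecomp ((Helper23.MS.iR R B' B A').lTensor R' z')]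
    congr 2
    · rw [← LinearMap.comp_apply, ← LinearMap.lTensor_comp, c3, h1]
    · rw [← LinearMap.comp_apply, ← LinearMap.lTensor_comp, c4, h2]

end Groth.Agent.S17901
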