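import Groth.Statements.S17904
import Groth.Agent.Lib.Helper9.Ferrand28

set_option autoImplicit false
universe u
open CategoryTheory AlgebraicGeometry
open Pinch

namespace Groth.Agent.S17904

/-- Let S be a scheme and Z → X, Z → Z', X → X', Z' → X' a commutative square of S-schemes in which Z →
X and Z' → X' are closed immersions and Z → Z' and X → X' are affine, which is a pushout square in
the category of ringed spaces, with X, Z and Z' flat over S. Then for every morphism T → S the
square of base changes Z_T → X_T, Z_T → Z'_T, X_T → X'_T, Z'_T → X'_T is a pushout square in the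
category of ringed spaces. -/
theorem result {S X Z Z' X' : Scheme.{u}}
    (fX : X ⟶ S) (fZ' : Z' ⟶ S) (fX' : X' ⟶ S) (ι : Z ⟶ X) (q : Z ⟶ Z') (π : X ⟶ X') (ι' : Z' ⟶ X')
    [IsClosedImmersion ι] [IsClosedImmersion ι'] [IsAffineHom q] [IsAffineHom π]
    (hq : q ≫ fZ' = ι ≫ fX) (hπ : π ≫ fX' = fX) (hι' : ι' ≫ fX' = fZ')
    (hpo : IsPushout ((Scheme.forgetToLocallyRingedSpace ⋙ LocallyRingedSpace.forgetToSheafedSpace).map ι) ((Scheme.forgetToLocallyRingedSpace ⋙ LocallyRingedSpace.forgetToSheafedSpace).map q)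
      ((Scheme.forgetToLocallyRingedSpace ⋙ LocallyRingedSpace.forgetToSheafedSpace).map π) ((Scheme.forgetToLocallyRingedSpace ⋙ LocallyRingedSpace.forgetToSheafedSpace).map ι'))
    [Flat fX] [Flat (ι ≫ fX)] [Flat fZ']
    {T : Scheme.{u}} (g : T ⟶ S) :
    IsPushout
      ((Scheme.forgetToLocallyRingedSpace ⋙ LocallyRingedSpace.forgetToSheafedSpace).map
        ((Over.pullback g).map (Over.homMk ι rfl : Over.mk (ι ≫ fX) ⟶ Over.mk fX)).left)
      ((Scheme.forgetToLocallyRingedSpace ⋙ LocallyRingedSpace.forgetToSheafedSpace).map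
        ((Over.pullback g).map (Over.homMk q hq : Over.mk (ι ≫ fX) ⟶ Over.mk fZ')).left)
      ((Scheme.forgetToLocallyRingedSpace ⋙ LocallyRingedSpace.forgetToSheafedSpace).map
        ((Over.pullback g).map (Over.homMk π hπ : Over.mk fX ⟶ Over.mk fX')).left)
      ((Scheme.forgetToLocallyRingedSpace ⋙ LocallyRingedSpace.forgetToSheafedSpace).map
        ((Over.pullback g).map (Over.homMk ι' hι' : Over.mk fZ' ⟶ Over.mk fX')).left) := by
  open Groth.Agent.Lib.Helper9.Ferrand Limits in
  have w : ι ≫ π = q ≫ ι' := by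
    apply FF.map_injective
    rw [FF.map_comp, FF.map_comp]
    exact hpo.w
  have hP : IsPushout ι q π ι' := isPushout_of_isPushout_FF ι q π ι' w hpo
  haveI : Flat ((ι ≫ π) ≫ fX') := by rw [Category.assoc, hπ]; infer_instance
  let oπ : Over.mk fX ⟶ Over.mk fX' := Over.homMk π hπ
  let oι' : Over.mk fZ' ⟶ Over.mk fX' := Over.homMk ι' hι'
  let oι : Over.mk (ι ≫ fX) ⟶ Over.mk fX := Over.homMk ι rfl
  let oq : Over.mk (ι ≫ fX) ⟶ Over.mk fZ' := Over.homMk q hq
  have hw : oι ≫ oπ = oq ≫ oι' := by
    ext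
    exact w
  refine isPushout_FF_baseChange_of_flat_source ι q π ι' fX' g (pullback.fst fX' g)
    (pullback.snd fX' g)
    (pullback.fst fX g) ((Over.pullback g).map oπ).left
    (pullback.fst fZ' g) ((Over.pullback g).map oι').left
    (pullback.fst (ι ≫ fX) g) ((Over.pullback g).map (oι ≫ oπ)).left
    ((Over.pullback g).map oι).left ((Over.pullback g).map oq).left hP
    (IsPullback.of_hasPullback fX' g) (isPullback_overPullback_map g oπ)
    (isPullback_overPullback_map g oι') (isPullback_overPullback_map g (oι ≫ oπ))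
    (overPullback_map_fst g oι) ?_ (overPullback_map_fst g oq) ?_
  · rw [Functor.map_comp]; rfl
  · rw [hw, Functor.map_comp]; rfl


end Groth.Agent.S17904
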