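import Groth.Statements.S17905
import Groth.Agent.Lib.Helper9.Ferrand25

set_option autoImplicit false
universe u
open CategoryTheory AlgebraicGeometry
open Pinch

namespace Groth.Agent.S17905

/-- Let S be a scheme and Z → X, Z → Z', X → X', Z' → X' a commutative square of S-schemes which is a
pushout square in the category of ringed spaces, with Z → X and Z' → X' closed immersions, X → X'
affine, Z → Z' finite, flat and surjective, and X, Z, Z' flat over S. Suppose that for every T → S
the map O_T → (f_T)_* O_{X_T} induced by the base change f_T : X_T → T of X → S is an isomorphism.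
Then for every T → S the map O_T → (f'_T)_* O_{X'_T} induced by the base change of X' → S is an
isomorphism. (The published lemma is stated for the pinching of a finite surjective Z → Z' whose
fibres lie in affine opens of X, with X → S admitting a section; this row assumes X → X' only affine
and drops the affine-fibre and section conditions, which the printed proof does not use.) -/
theorem result {S X Z Z' X' : Scheme.{u}}
    (fX : X ⟶ S) (fZ' : Z' ⟶ S) (fX' : X' ⟶ S) (ι : Z ⟶ X) (q : Z ⟶ Z') (π : X ⟶ X') (ι' : Z' ⟶ X')
    [IsClosedImmersion ι] [IsClosedImmersion ι'] [IsFinite q] [Flat q] [Surjective q] [IsAffineHom π]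
    (hq : q ≫ fZ' = ι ≫ fX) (hπ : π ≫ fX' = fX) (hι' : ι' ≫ fX' = fZ')
    (hpo : IsPushout ((Scheme.forgetToLocallyRingedSpace ⋙ LocallyRingedSpace.forgetToSheafedSpace).map ι) ((Scheme.forgetToLocallyRingedSpace ⋙ LocallyRingedSpace.forgetToSheafedSpace).map q)
      ((Scheme.forgetToLocallyRingedSpace ⋙ LocallyRingedSpace.forgetToSheafedSpace).map π) ((Scheme.forgetToLocallyRingedSpace ⋙ LocallyRingedSpace.forgetToSheafedSpace).map ι'))
    [Flat fX] [Flat (ι ≫ fX)] [Flat fZ']
    (hX : ∀ (T : Scheme.{u}) (g : T ⟶ S) (U : T.Opens), IsIso ((Limits.pullback.snd fX g).app U))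
    (T : Scheme.{u}) (g : T ⟶ S) (U : T.Opens) :
    IsIso ((Limits.pullback.snd fX' g).app U) := by
  open Groth.Agent.Lib.Helper9.Ferrand Limits in
  have w : ι ≫ π = q ≫ ι' := by
    apply FF.map_injective
    rw [FF.map_comp, FF.map_comp]
    exact hpo.w
  haveI : IsAffineHom q := inferInstance
  have hP : IsPushout ι q π ι' := isPushout_of_isPushout_FF ι q π ι' w hpo
  haveI : Flat ((ι ≫ π) ≫ fX') := by rw [Category.assoc, hπ]; infer_instance
  let oπ : Over.mk fX ⟶ Over.mk fX' := Over.homMk π hπ
  let oι' : Over.mk fZ' ⟶ Over.mk fX' := Over.homMk ι' hι'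
  let oι : Over.mk (ι ≫ fX) ⟶ Over.mk fX := Over.homMk ι rfl
  let oq : Over.mk (ι ≫ fX) ⟶ Over.mk fZ' := Over.homMk q hq
  have hw : oι ≫ oπ = oq ≫ oι' := by
    ext
    exact w
  refine isIso_app_of_pushout_baseChange ι q π ι' fX' g (pullback.fst fX' g) (pullback.snd fX' g)
    (pullback.fst fX g) ((Over.pullback g).map oπ).left
    (pullback.fst fZ' g) ((Over.pullback g).map oι').left
    (pullback.fst (ι ≫ fX) g) ((Over.pullback g).map (oι ≫ oπ)).left
    ((Over.pullback g).map oι).left ((Over.pullback g).map oq).left hP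
    (IsPullback.of_hasPullback fX' g) (isPullback_overPullback_map g oπ)
    (isPullback_overPullback_map g oι') (isPullback_overPullback_map g (oι ≫ oπ))
    (overPullback_map_fst g oι) ?_ (overPullback_map_fst g oq) ?_
    (pullback.snd fX g) (overPullback_map_snd g oπ) U (hX T g U)
  · rw [Functor.map_comp]; rfl
  · rw [hw, Functor.map_comp]; rfl

end Groth.Agent.S17905
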