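import Groth.Statements.S17917
import Groth.Agent.Lib.Helper1.RefK07
import Groth.Agent.Lib.Helper28.ProjSpaceBasic

set_option autoImplicit false
universe u
open CategoryTheory CategoryTheory.Limits AlgebraicGeometry
open RefCh

namespace Groth.Agent.S17917

open Groth.Agent.Lib.Helper2.IntNum1 Groth.Agent.Lib.Helper6.K0Op Groth.Agent.Lib.Helper6.K0Len
  Groth.Agent.Lib.Helper4.Snapper Groth.Agent.Lib.Helper1.RefK0

/-- Let k be an algebraically closed field, X an integral normal scheme of dimension s + 2 admitting a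
closed immersion into some P^N_k over k, and L_1, …, L_s invertible O_X-modules with inverses M_1,
…, M_s. Let ℒ_1 be a coherent reflexive O_X-module of rank one (ℒ_1 = O_X(D_1) for a Weil divisor
D_1, with dual ℒ_1^∨ = O_X(-D_1)) and ℒ_2 an invertible O_X-module (a Cartier divisor D_2) with
inverse 𝓜_2. With q(ℱ) the limit of 2 χ(c_1(L_1) ⋯ c_1(L_s) · [ℱ^[m]]) / m^2 (reflexive powers,
FGA.intNum in the M_i), assumed to exist for ℒ_1, ℒ_2 and the reflexive hull ℒ_1 ⊗̂ ℒ_2 of ℒ_1 ⊗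
ℒ_2, one has (q(ℒ_1 ⊗̂ ℒ_2) - q(ℒ_1) - q(ℒ_2)) / 2 = χ(c_1(ℒ_2) c_1(L_1) ⋯ c_1(L_s) · ([O_X] -
[ℒ_1^∨])), the right side written as the difference of the alternating sums FGA.intNum in (𝓜_2, M_1,
…, M_s) of O_X and of ℒ_1^∨; that is, D_1 · D_2 · L_1 ⋯ L_s equals the usual intersection number of
the Cartier divisor D_2 and the L_i with the cycle of D_1. (The published text normalises D^2 · L_1
⋯ L_s as twice the limit of χ(c_1(L_1) ⋯ c_1(L_s) · ([O_X] - [O_X(-mD)])) / m^2, the negative of the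
number used here, and with that sign the identity fails for two lines on the projective plane, where
it would read -1 = 1.) -/
theorem result (k : Type u) [Field k] [IsAlgClosed k] (X : Scheme.{u}) [X.Over (Spec (CommRingCat.of k))]
    [AlgebraicGeometry.IsIntegral X] (hnorm : Pi1.IsNormalScheme X) (s : ℕ) (hdim : topologicalKrullDim X = (s + 2 : ℕ))
    (hproj : ∃ (N : ℕ) (ι : X ⟶ CohB1.ProjSpace N k), IsClosedImmersion ι ∧ ι ≫ CohB1.ProjSpace.toSpec N k = X ↘ Spec (CommRingCat.of k))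
    (L M : Fin s → X.Modules) (hL : ∀ i, PicF.IsInvertible (L i))
    (hLM : ∀ i, Nonempty (CohB1.tensorMod (L i) (M i) ≅ Coh.structureModule X))
    (ℒ₁ ℒ₂ 𝓜₂ : X.Modules) (h₁ : RefHull.IsRef1 ℒ₁) (h₂ : PicF.IsInvertible ℒ₂)
    (h₂' : Nonempty (CohB1.tensorMod ℒ₂ 𝓜₂ ≅ Coh.structureModule X))
    (q₁ q₂ q₁₂ : ℝ)
    (hq₁ : Filter.Tendsto (fun m : ℕ => (2 : ℝ) * (FGA.intNum k X (s + 2) M (RefPow.refPow ℒ₁ m) : ℝ) / ((m : ℝ) ^ 2)) Filter.atTop (nhds q₁))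
    (hq₂ : Filter.Tendsto (fun m : ℕ => (2 : ℝ) * (FGA.intNum k X (s + 2) M (RefPow.refPow ℒ₂ m) : ℝ) / ((m : ℝ) ^ 2)) Filter.atTop (nhds q₂))
    (hq₁₂ : Filter.Tendsto (fun m : ℕ => (2 : ℝ) * (FGA.intNum k X (s + 2) M (RefPow.refPow (RefPow.refTensor ℒ₁ ℒ₂) m) : ℝ) / ((m : ℝ) ^ 2)) Filter.atTop (nhds q₁₂)) :
    (q₁₂ - q₁ - q₂) / 2 =
      ((FGA.intNum k X (s + 2) (Fin.cons 𝓜₂ M) (Coh.structureModule X) -
        FGA.intNum k X (s + 2) (Fin.cons 𝓜₂ M) (RefHull.dual ℒ₁) : ℤ) : ℝ) := by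
  classical
  obtain ⟨N, ι, hι, hιeq⟩ := hproj
  haveI : IsProper (X ↘ Spec (CommRingCat.of k)) := by
    rw [← hιeq]
    haveI := Groth.Agent.Lib.Helper28.ProjSpaceBasic.isProper_toSpec N k
    infer_instance
  haveI : IsNoetherian X := isNoetherian k X
  have hd : topologicalKrullDim X ≤ ((s + 2 : ℕ) : WithBot ℕ∞) := hdim.le
  have hdim' : topologicalKrullDim X = (((s + 1) + 1 : ℕ) : WithBot ℕ∞) := hdim
  obtain ⟨e⟩ := h₂'
  have hMinv : ∀ i, PicF.IsInvertible (M i) := fun i =>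
    Groth.Agent.Lib.Helper6.K0Inv.isInvertible_of_tensor_iso (L i) (M i) (hL i) (hLM i).some
  have hM2 : PicF.IsInvertible 𝓜₂ := Groth.Agent.Lib.Helper6.K0Inv.isInvertible_of_tensor_iso ℒ₂ 𝓜₂ h₂ e
  have h₂r := isRef1_of_isInvertible ℒ₂ h₂
  have hO := Groth.Agent.Lib.Helper1.RefHullLib.isCoh_structureModule X
  have hall : ∀ G : X.Modules, Coh.IsCoh G → cls G ∈ Hlt X (s + 3) := fun G hG =>
    cls_mem_Hlt G hG (s + 2) ((topologicalKrullDim_subspace_le X _).trans hd)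
  -- notation
  set O := cls (Coh.structureModule X) with hOdef
  set α₀ : ℤ := chi k X ((1 - Top 𝓜₂) (Psi M O)) with hα₀
  set α₁ : ℤ := chi k X ((1 - Top 𝓜₂) (Psi M (cls ℒ₁ - O))) with hα₁
  set β₀ : ℤ := chi k X ((1 - Top 𝓜₂) ((1 - Top 𝓜₂) (Psi M O))) with hβ₀
  -- the three sequences
  have hf₁ : ∀ m : ℕ, FGA.intNum k X (s + 2) M (RefPow.refPow ℒ₁ m) =
      chi k X (Psi M (cls (RefPow.refPow ℒ₁ m))) := fun m =>
    intNum_eq k X (s + 2) hd M hMinv _ (isRef1_refPow ℒ₁ h₁ m).1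
  have hf₁₂ : ∀ m : ℕ, FGA.intNum k X (s + 2) M (RefPow.refPow (RefPow.refTensor ℒ₁ ℒ₂) m) =
      FGA.intNum k X (s + 2) M (RefPow.refPow ℒ₁ m) + m * (α₀ + m * α₁) + ((m + 1).choose 2 : ℤ) * β₀ := by
    intro m
    have hT := Groth.Agent.Lib.Helper1.RefHullLib.isRef1_ddual_tensorMod ℒ₁ ℒ₂ h₁ h₂r
    rw [intNum_eq k X (s + 2) hd M hMinv _ (isRef1_refPow _ hT m).1, hf₁ m,
      cls_refPow_refTensor hnorm ℒ₁ ℒ₂ h₁ h₂ m,
      chi_Psi_Top_pow (k := k) (X := X) s M hMinv ℒ₂ 𝓜₂ h₂ e _ (hall _ (isRef1_refPow ℒ₁ h₁ m).1) m]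
    obtain ⟨e1, e2⟩ := sub_Top_Psi_cls_refPow hnorm s hdim' M hMinv 𝓜₂ hM2 ℒ₁ h₁ m
    rw [e2, e1, map_add, map_nsmul, nsmul_eq_mul]
  have hf₂ : ∀ m : ℕ, FGA.intNum k X (s + 2) M (RefPow.refPow ℒ₂ m) =
      chi k X (Psi M O) + m * (α₀ + m * 0) + ((m + 1).choose 2 : ℤ) * β₀ := by
    intro m
    rw [intNum_eq k X (s + 2) hd M hMinv _ (isRef1_refPow ℒ₂ h₂r m).1,
      cls_refPow_of_isInvertible hnorm ℒ₂ h₂ m,
      chi_Psi_Top_pow (k := k) (X := X) s M hMinv ℒ₂ 𝓜₂ h₂ e _ (hall _ hO) m]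
    ring
  -- the limits
  have hlim₁₂ := tendsto_quadratic (fun m => (FGA.intNum k X (s + 2) M (RefPow.refPow ℒ₁ m) : ℝ)) q₁
    (α₀ : ℝ) (α₁ : ℝ) (β₀ : ℝ) hq₁
  have hq₁₂' : q₁₂ = q₁ + 2 * (α₁ : ℝ) + (β₀ : ℝ) := by
    refine tendsto_nhds_unique hq₁₂ (hlim₁₂.congr ?_)
    intro m
    rw [hf₁₂ m]
    push_cast
    ring
  have hconst : Filter.Tendsto (fun m : ℕ => (2 : ℝ) * ((chi k X (Psi M O) : ℤ) : ℝ) / ((m : ℝ) ^ 2))
      Filter.atTop (nhds 0) := by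
    have := tendsto_linear_div_sq ((chi k X (Psi M O) : ℤ) : ℝ) 0
    refine this.congr ?_
    intro m
    rw [mul_zero, add_zero]
  have hlim₂ := tendsto_quadratic (fun _ => ((chi k X (Psi M O) : ℤ) : ℝ)) 0 (α₀ : ℝ) 0 (β₀ : ℝ) hconst
  have hq₂' : q₂ = 0 + 2 * (0 : ℝ) + (β₀ : ℝ) := by
    refine tendsto_nhds_unique hq₂ (hlim₂.congr ?_)
    intro m
    rw [hf₂ m]
    push_cast
    ring
  -- the right-hand side
  have hcons : ∀ i, PicF.IsInvertible ((Fin.cons 𝓜₂ M : Fin (s + 1) → X.Modules) i) := by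
    intro i
    refine Fin.cases ?_ (fun j => ?_) i
    · rw [Fin.cons_zero]; exact hM2
    · rw [Fin.cons_succ]; exact hMinv j
  have hdualc : Coh.IsCoh (RefHull.dual ℒ₁) := (Groth.Agent.Lib.Helper1.RefHullLib.isRef1_dual ℒ₁ h₁).1
  have hrhs : (FGA.intNum k X (s + 2) (Fin.cons 𝓜₂ M) (Coh.structureModule X) -
      FGA.intNum k X (s + 2) (Fin.cons 𝓜₂ M) (RefHull.dual ℒ₁) : ℤ) = α₁ := by
    rw [intNum_eq k X (s + 2) hd _ hcons _ hO, intNum_eq k X (s + 2) hd _ hcons _ hdualc, Psi_cons, ← map_sub]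
    change chi k X ((1 - Top 𝓜₂) (Psi M O) - (1 - Top 𝓜₂) (Psi M (cls (RefHull.dual ℒ₁)))) = α₁
    rw [← map_sub, ← map_sub, hα₁, sub_Top_Psi_cls_dual hnorm s hdim' M hMinv 𝓜₂ hM2 ℒ₁ h₁]
  rw [hrhs, hq₁₂', hq₂']
  ring

end Groth.Agent.S17917
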