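import Groth.Statements.S17918
import Groth.Agent.Lib.Helper1.RefK04
import Groth.Agent.Lib.Helper6.K0Inv
import Groth.Agent.Lib.Helper28.ProjSpaceBasic

set_option autoImplicit false
universe u
open CategoryTheory CategoryTheory.Limits AlgebraicGeometry
open RefCh

namespace Groth.Agent.S17918

open Groth.Agent.Lib.Helper2.IntNum1 Groth.Agent.Lib.Helper6.K0Op Groth.Agent.Lib.Helper6.K0Len
  Groth.Agent.Lib.Helper4.Snapper

/-- Let k be an algebraically closed field, X an integral normal scheme of dimension s + 3 admitting a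
closed immersion into some P^N_k over k, L_1, …, L_s, A and B invertible O_X-modules with inverses
M_1, …, M_s, A' and B' (so that A' ⊗ B' is an inverse of A ⊗ B), and ℒ a coherent reflexive
O_X-module of rank one (ℒ = O_X(D)). Suppose 2 χ(c_1(A) c_1(L_1) ⋯ c_1(L_s) · [ℒ^[m]]) / m^2 → a, 2
χ(c_1(B) c_1(L_1) ⋯ c_1(L_s) · [ℒ^[m]]) / m^2 → b and 2 χ(c_1(A ⊗ B) c_1(L_1) ⋯ c_1(L_s) · [ℒ^[m]])
/ m^2 → c as m → ∞, the Euler characteristics being the alternating sums FGA.intNum in (A', M_1, …,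
M_s), (B', M_1, …, M_s) and (A' ⊗ B', M_1, …, M_s) of the reflexive powers ℒ^[m]. Then c = a + b:
the self-intersection number D^2 · L_0 · L_1 ⋯ L_s is additive in the invertible module L_0. -/
theorem result (k : Type u) [Field k] [IsAlgClosed k] (X : Scheme.{u}) [X.Over (Spec (CommRingCat.of k))]
    [AlgebraicGeometry.IsIntegral X] (hnorm : Pi1.IsNormalScheme X) (s : ℕ) (hdim : topologicalKrullDim X = (s + 3 : ℕ))
    (hproj : ∃ (N : ℕ) (ι : X ⟶ CohB1.ProjSpace N k), IsClosedImmersion ι ∧ ι ≫ CohB1.ProjSpace.toSpec N k = X ↘ Spec (CommRingCat.of k))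
    (L M : Fin s → X.Modules) (hL : ∀ i, PicF.IsInvertible (L i))
    (hLM : ∀ i, Nonempty (CohB1.tensorMod (L i) (M i) ≅ Coh.structureModule X))
    (A A' B B' : X.Modules) (hA : PicF.IsInvertible A) (hB : PicF.IsInvertible B)
    (hAA' : Nonempty (CohB1.tensorMod A A' ≅ Coh.structureModule X))
    (hBB' : Nonempty (CohB1.tensorMod B B' ≅ Coh.structureModule X))
    (ℒ : X.Modules) (hℒ : RefHull.IsRef1 ℒ) (a b c : ℝ)
    (ha : Filter.Tendsto (fun m : ℕ => (2 : ℝ) * (FGA.intNum k X (s + 3) (Fin.cons A' M) (RefPow.refPow ℒ m) : ℝ) / ((m : ℝ) ^ 2)) Filter.atTop (nhds a))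
    (hb : Filter.Tendsto (fun m : ℕ => (2 : ℝ) * (FGA.intNum k X (s + 3) (Fin.cons B' M) (RefPow.refPow ℒ m) : ℝ) / ((m : ℝ) ^ 2)) Filter.atTop (nhds b))
    (hc : Filter.Tendsto (fun m : ℕ => (2 : ℝ) * (FGA.intNum k X (s + 3) (Fin.cons (CohB1.tensorMod A' B') M) (RefPow.refPow ℒ m) : ℝ) / ((m : ℝ) ^ 2)) Filter.atTop (nhds c)) :
    c = a + b := by
  classical
  obtain ⟨N, ι, hι, hιeq⟩ := hproj
  haveI : IsProper (X ↘ Spec (CommRingCat.of k)) := by
    rw [← hιeq]
    haveI := Groth.Agent.Lib.Helper28.ProjSpaceBasic.isProper_toSpec N k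
    infer_instance
  haveI : IsNoetherian X := isNoetherian k X
  have hd : topologicalKrullDim X ≤ ((s + 3 : ℕ) : WithBot ℕ∞) := hdim.le
  have hdim' : topologicalKrullDim X = (((s + 2) + 1 : ℕ) : WithBot ℕ∞) := hdim
  have hMinv : ∀ i, PicF.IsInvertible (M i) := fun i =>
    Groth.Agent.Lib.Helper6.K0Inv.isInvertible_of_tensor_iso (L i) (M i) (hL i) (hLM i).some
  have hA' : PicF.IsInvertible A' := Groth.Agent.Lib.Helper6.K0Inv.isInvertible_of_tensor_iso A A' hA hAA'.some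
  have hB' : PicF.IsInvertible B' := Groth.Agent.Lib.Helper6.K0Inv.isInvertible_of_tensor_iso B B' hB hBB'.some
  have hAB' : PicF.IsInvertible (CohB1.tensorMod A' B') :=
    Groth.Agent.Lib.Helper28.GenLocus.isInvertible_tensorMod hA' hB'
  have hcons : ∀ (N₀ : X.Modules), PicF.IsInvertible N₀ →
      ∀ i, PicF.IsInvertible ((Fin.cons N₀ M : Fin (s + 1) → X.Modules) i) := by
    intro N₀ hN₀ i
    refine Fin.cases ?_ (fun j => ?_) i
    · rw [Fin.cons_zero]; exact hN₀
    · rw [Fin.cons_succ]; exact hMinv j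
  have hcoh : ∀ m, Coh.IsCoh (RefPow.refPow ℒ m) := fun m =>
    (Groth.Agent.Lib.Helper1.RefK0.isRef1_refPow ℒ hℒ m).1
  -- the three sequences through `K'_0`
  have hf : ∀ (N₀ : X.Modules), PicF.IsInvertible N₀ → ∀ m : ℕ,
      FGA.intNum k X (s + 3) (Fin.cons N₀ M) (RefPow.refPow ℒ m) =
        chi k X ((1 - Top N₀) (Psi M (cls (RefPow.refPow ℒ m)))) := by
    intro N₀ hN₀ m
    rw [intNum_eq k X (s + 3) hd _ (hcons N₀ hN₀) _ (hcoh m), Psi_cons]
    rfl
  -- the correction term is linear in `m`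
  set O := cls (Coh.structureModule X) with hO
  set D := cls ℒ - cls (Coh.structureModule X) with hD
  let Q : AddMonoid.End (K0 X) := (1 - Top A') * ((1 - Top B') * Psi M)
  have hQ0 : ∀ e : K0 X, e ∈ Hlt X (s + 2) → Q e = 0 := by
    intro e he
    have h1 := Psi_mem_Hlt M hMinv 2 e (by rw [show 2 + s = s + 2 by omega]; exact he)
    have h2 := sub_Top_mem_Hlt B' hB' 1 _ h1
    have h3 := sub_Top_mem_Hlt A' hA' 0 _ h2
    exact eq_zero_of_mem_Hlt_zero _ h3
  have hQ : ∀ m : ℕ, Q (cls (RefPow.refPow ℒ m)) = Q O + m • Q D := by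
    intro m
    have hm := Groth.Agent.Lib.Helper1.RefK0.cls_refPow_mem_Hlt hnorm (s + 2) hdim' ℒ hℒ m
    have h0 := hQ0 _ hm
    rw [map_sub, map_sub, map_nsmul, sub_eq_zero, sub_eq_iff_eq_add] at h0
    rw [h0]
    abel
  have hkey : ∀ m : ℕ, (FGA.intNum k X (s + 3) (Fin.cons (CohB1.tensorMod A' B') M) (RefPow.refPow ℒ m) : ℤ) =
      FGA.intNum k X (s + 3) (Fin.cons A' M) (RefPow.refPow ℒ m) +
        FGA.intNum k X (s + 3) (Fin.cons B' M) (RefPow.refPow ℒ m) -
        (chi k X (Q O) + m * chi k X (Q D)) := by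
    intro m
    rw [hf _ hAB' m, hf _ hA' m, hf _ hB' m, Top_tensorMod A' B' hA' hB']
    have e3 : (1 - Top A' * Top B' : AddMonoid.End (K0 X)) =
        (1 - Top A') + (1 - Top B') - (1 - Top A') * (1 - Top B') := by
      simp only [sub_mul, mul_sub, one_mul, mul_one]
      abel
    rw [e3]
    have hQm := congrArg (chi k X) (hQ m)
    rw [map_add, map_nsmul, nsmul_eq_mul] at hQm
    rw [← hQm]
    change chi k X ((1 - Top A') (Psi M (cls (RefPow.refPow ℒ m))) + (1 - Top B') (Psi M (cls (RefPow.refPow ℒ m))) -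
      (1 - Top A') ((1 - Top B') (Psi M (cls (RefPow.refPow ℒ m))))) = _
    rw [map_sub, map_add]
    rfl
  have hlim := (ha.add hb).sub (Groth.Agent.Lib.Helper1.RefK0.tendsto_linear_div_sq
    ((chi k X (Q O) : ℤ) : ℝ) ((chi k X (Q D) : ℤ) : ℝ))
  rw [sub_zero] at hlim
  refine tendsto_nhds_unique hc (hlim.congr ?_)
  intro m
  rw [hkey m]
  push_cast
  ring

end Groth.Agent.S17918
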