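import Groth.Statements.S17928
import Groth.Agent.Lib.Helper1.RefK02
import Groth.Agent.S2357

set_option autoImplicit false
universe u
open CategoryTheory CategoryTheory.Limits AlgebraicGeometry
open RefCh

namespace Groth.Agent.S17928

/-- the alternating sum for the family `(M₁, …, M_r)` is `Π (1 - [Mᵢ ⊗ -])` applied to `[G₁] - [G₂]`, mapped to
`K_0(Coh_{≤ a})` -/
theorem key {X : Scheme.{u}} [IsNoetherian X] (δ : X → ℤ) (hδ : Cyc.IsDimFun X δ) (a : ℤ) (hle : ∀ x : X, δ x ≤ a)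
    {r : ℕ} (M : Fin r → X.Modules) (hM : ∀ i, PicF.IsInvertible (M i))
    (G₁ G₂ : X.Modules) (h₁ : Coh.IsCoh G₁) (h₂ : Coh.IsCoh G₂) :
    (∑ I : Finset (Fin r), ((-1 : ℤ) ^ I.card) •
        (KZero.clSub (Cyc.CohLe δ a) (CohB1.tensorMod (FGA.tensorList ((I.sort (· ≤ ·)).map M)) G₁) -
          KZero.clSub (Cyc.CohLe δ a) (CohB1.tensorMod (FGA.tensorList ((I.sort (· ≤ ·)).map M)) G₂))) =
      Groth.Agent.Lib.Helper6.K0Delta.toLe δ a hle
        (((((Finset.univ : Finset (Fin r)).sort (· ≤ ·)).map M).map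
          (fun M => 1 - Groth.Agent.Lib.Helper6.K0Op.Top M)).prod
          (Groth.Agent.Lib.Helper6.K0Len.cls G₁ - Groth.Agent.Lib.Helper6.K0Len.cls G₂)) := by
  have h := Groth.Agent.Lib.Helper6.K0Op.altSum_eq δ hδ M hM G₁ G₂ h₁ h₂
  have h3 := congrArg (Groth.Agent.Lib.Helper6.K0Delta.toLe δ a hle) h
  rw [map_sum] at h3
  refine Eq.trans ?_ h3
  apply Finset.sum_congr rfl
  intro I _
  rw [map_zsmul, map_sub, Groth.Agent.Lib.Helper6.K0Delta.toLe_cls, Groth.Agent.Lib.Helper6.K0Delta.toLe_cls]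

/-- Let k be an algebraically closed field, X an integral normal scheme of dimension n = s + 2 admitting
a closed immersion into some P^N_k over k, δ a dimension function on X (Cyc.IsSetup) with δ(generic
point) = n, L_1, …, L_{n-1} invertible O_X-modules with inverses M_1, …, M_{n-1}, and ℒ_1, ℒ_2
coherent reflexive O_X-modules of rank one (ℒ_j = O_X(-D_j)); write ℒ_1 ⊗̂ ℒ_2 for the reflexive
hull of ℒ_1 ⊗ ℒ_2, which is O_X(-D_1 - D_2). In K(X) = K_0(Coh(X)) (classes KZero.clSub for the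
property 'coherent with support of δ-dimension ≤ n', i.e. all coherent modules) put S(ℒ) = Σ_{I ⊆
{1, …, n-1}} (-1)^{|I|} ([M_I ⊗ O_X] - [M_I ⊗ ℒ]) with M_I = ⊗_{i∈I} M_i, so that S(O_X(-D)) =
c_1(L_1) ⋯ c_1(L_{n-1}) · [O_D]. Then S(ℒ_1 ⊗̂ ℒ_2) = S(ℒ_1) + S(ℒ_2): the K(X)-valued symbol
c_1(L_1) ⋯ c_1(L_{n-1}) · [O_D] is additive, hence ℤ-linear, in the Weil divisor D. -/
theorem result (k : Type u) [Field k] [IsAlgClosed k] (X : Scheme.{u}) [X.Over (Spec (CommRingCat.of k))]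
    [AlgebraicGeometry.IsIntegral X] (hnorm : Pi1.IsNormalScheme X) (s : ℕ) (hdim : topologicalKrullDim X = (s + 2 : ℕ))
    (hproj : ∃ (N : ℕ) (ι : X ⟶ CohB1.ProjSpace N k), IsClosedImmersion ι ∧ ι ≫ CohB1.ProjSpace.toSpec N k = X ↘ Spec (CommRingCat.of k))
    (δ : X → ℤ) (hδ : Cyc.IsSetup X δ) (hδη : δ (genericPoint X) = (s + 2 : ℕ))
    (L M : Fin (s + 1) → X.Modules) (hL : ∀ i, PicF.IsInvertible (L i))
    (hLM : ∀ i, Nonempty (CohB1.tensorMod (L i) (M i) ≅ Coh.structureModule X))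
    (ℒ₁ ℒ₂ : X.Modules) (h₁ : RefHull.IsRef1 ℒ₁) (h₂ : RefHull.IsRef1 ℒ₂) :
    (∑ I : Finset (Fin (s + 1)), ((-1 : ℤ) ^ I.card) •
        (KZero.clSub (Cyc.CohLe δ (s + 2 : ℕ)) (CohB1.tensorMod (FGA.tensorList ((I.sort (· ≤ ·)).map M)) (Coh.structureModule X)) -
          KZero.clSub (Cyc.CohLe δ (s + 2 : ℕ)) (CohB1.tensorMod (FGA.tensorList ((I.sort (· ≤ ·)).map M)) (RefPow.refTensor ℒ₁ ℒ₂)))) =
      (∑ I : Finset (Fin (s + 1)), ((-1 : ℤ) ^ I.card) •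
        (KZero.clSub (Cyc.CohLe δ (s + 2 : ℕ)) (CohB1.tensorMod (FGA.tensorList ((I.sort (· ≤ ·)).map M)) (Coh.structureModule X)) -
          KZero.clSub (Cyc.CohLe δ (s + 2 : ℕ)) (CohB1.tensorMod (FGA.tensorList ((I.sort (· ≤ ·)).map M)) ℒ₁))) +
      (∑ I : Finset (Fin (s + 1)), ((-1 : ℤ) ^ I.card) •
        (KZero.clSub (Cyc.CohLe δ (s + 2 : ℕ)) (CohB1.tensorMod (FGA.tensorList ((I.sort (· ≤ ·)).map M)) (Coh.structureModule X)) -
          KZero.clSub (Cyc.CohLe δ (s + 2 : ℕ)) (CohB1.tensorMod (FGA.tensorList ((I.sort (· ≤ ·)).map M)) ℒ₂))) := by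
  classical
  obtain ⟨N, ι, hι, -⟩ := hproj
  haveI : IsNoetherian (CohB1.ProjSpace N k) := Groth.Agent.S2357.result (CohB1.polyGrading N k)
  haveI : IsLocallyNoetherian X := hδ.1
  haveI : CompactSpace X := QuasiCompact.compactSpace_of_compactSpace ι
  haveI : IsNoetherian X := {}
  have hle : ∀ x : X, δ x ≤ ((s + 2 : ℕ) : ℤ) := fun x => by
    rw [← hδη]
    exact Groth.Agent.Lib.Helper6.K0Delta.delta_le_generic δ hδ.2.2 x
  have hMinv : ∀ i, PicF.IsInvertible (M i) := fun i =>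
    Groth.Agent.Lib.Helper6.K0Inv.isInvertible_of_tensor_iso (L i) (M i) (hL i) (hLM i).some
  have hO : Coh.IsCoh (Coh.structureModule X) := Groth.Agent.Lib.Helper6.DevRed.isCoh_structureModule
  have hT : Coh.IsCoh (RefPow.refTensor ℒ₁ ℒ₂) :=
    (Groth.Agent.Lib.Helper1.RefHullLib.isRef1_ddual_tensorMod ℒ₁ ℒ₂ h₁ h₂).1
  have hcore := Groth.Agent.Lib.Helper1.RefK0.cls_refTensor_add_mem hnorm δ hδ.2.2 ℒ₁ ℒ₂ h₁ h₂
  rw [hδη] at hcore
  have e2 : (((s + 2 : ℕ) : ℤ) - 2) = ((s : ℕ) : ℤ) := by push_cast; ring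
  rw [e2] at hcore
  have hl : ∀ N ∈ ((Finset.univ : Finset (Fin (s + 1))).sort (· ≤ ·)).map M, PicF.IsInvertible N := by
    intro N hN
    obtain ⟨i, -, rfl⟩ := List.mem_map.1 hN
    exact hMinv i
  have hQ := Groth.Agent.Lib.Helper6.K0Op.prod_sub_Top_mem δ hδ.2.2 _ hl _ _ hcore
  rw [List.length_map, Finset.length_sort, Finset.card_univ, Fintype.card_fin] at hQ
  have e1 : (((s : ℕ) : ℤ) - ((s + 1 : ℕ) : ℤ)) = -1 := by push_cast; ring
  rw [e1, Groth.Agent.Lib.Helper6.K0Op.Hle_neg_one δ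
    (Groth.Agent.Lib.Helper6.K0Op.delta_nonneg δ hδ.2.2 (s + 2) hdim hδη), AddSubgroup.mem_bot] at hQ
  rw [key δ hδ.2.2 _ hle M hMinv _ _ hO hT, key δ hδ.2.2 _ hle M hMinv _ _ hO h₁.1,
    key δ hδ.2.2 _ hle M hMinv _ _ hO h₂.1, ← map_add]
  congr 1
  have ha : Groth.Agent.Lib.Helper6.K0Len.cls (Coh.structureModule X) -
      Groth.Agent.Lib.Helper6.K0Len.cls (RefPow.refTensor ℒ₁ ℒ₂) =
      (Groth.Agent.Lib.Helper6.K0Len.cls (Coh.structureModule X) - Groth.Agent.Lib.Helper6.K0Len.cls ℒ₁) +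
      (Groth.Agent.Lib.Helper6.K0Len.cls (Coh.structureModule X) - Groth.Agent.Lib.Helper6.K0Len.cls ℒ₂) -
      (Groth.Agent.Lib.Helper6.K0Len.cls (RefPow.refTensor ℒ₁ ℒ₂) +
        Groth.Agent.Lib.Helper6.K0Len.cls (Coh.structureModule X) - Groth.Agent.Lib.Helper6.K0Len.cls ℒ₁ -
        Groth.Agent.Lib.Helper6.K0Len.cls ℒ₂) := by abel
  rw [ha, map_sub, hQ, sub_zero, map_add]

end Groth.Agent.S17928
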