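import Groth.Statements.S17929
import Groth.Agent.Lib.Helper6.K0Op2
import Groth.Agent.S2357

set_option autoImplicit false
universe u
open CategoryTheory CategoryTheory.Limits AlgebraicGeometry
open RefCh

namespace Groth.Agent.S17929


/-- the alternating sum for the family `(N₀, M₁, …, M_s)` is `(1 - [N₀ ⊗ -]) Π (1 - [Mᵢ ⊗ -])` applied to
`[G₁] - [G₂]`, mapped to `K_0(Coh_{≤ a})` -/
theorem key {X : Scheme.{u}} [IsNoetherian X] (δ : X → ℤ) (hδ : Cyc.IsDimFun X δ) (a : ℤ) (hle : ∀ x : X, δ x ≤ a)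
    {s : ℕ} (M : Fin s → X.Modules) (hM : ∀ i, PicF.IsInvertible (M i)) (N₀ : X.Modules) (hN₀ : PicF.IsInvertible N₀)
    (G₁ G₂ : X.Modules) (h₁ : Coh.IsCoh G₁) (h₂ : Coh.IsCoh G₂) :
    (∑ I : Finset (Fin (s + 1)), ((-1 : ℤ) ^ I.card) •
        (KZero.clSub (Cyc.CohLe δ a) (CohB1.tensorMod (FGA.tensorList ((I.sort (· ≤ ·)).map (Fin.cons N₀ M))) G₁) -
          KZero.clSub (Cyc.CohLe δ a) (CohB1.tensorMod (FGA.tensorList ((I.sort (· ≤ ·)).map (Fin.cons N₀ M))) G₂))) =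
      Groth.Agent.Lib.Helper6.K0Delta.toLe δ a hle ((1 - Groth.Agent.Lib.Helper6.K0Op.Top N₀)
        ((((List.finRange s).map M).map (fun M => 1 - Groth.Agent.Lib.Helper6.K0Op.Top M)).prod
          (Groth.Agent.Lib.Helper6.K0Len.cls G₁ - Groth.Agent.Lib.Helper6.K0Len.cls G₂))) := by
  have hN : ∀ i, PicF.IsInvertible ((Fin.cons N₀ M : Fin (s + 1) → X.Modules) i) := by
    intro i
    refine Fin.cases ?_ (fun j => ?_) i
    · rw [Fin.cons_zero]; exact hN₀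
    · rw [Fin.cons_succ]; exact hM j
  have h := Groth.Agent.Lib.Helper6.K0Op.altSum_eq δ hδ (Fin.cons N₀ M : Fin (s + 1) → X.Modules) hN G₁ G₂ h₁ h₂
  have hmm : List.map (Fin.cons N₀ M : Fin (s + 1) → X.Modules) (List.map Fin.succ (List.finRange s)) =
      List.map M (List.finRange s) := by
    rw [List.map_map]
    congr 1
  rw [Fin.sort_univ, List.finRange_succ, List.map_cons, List.map_cons, List.prod_cons, Fin.cons_zero, hmm] at h
  have h3 := congrArg (Groth.Agent.Lib.Helper6.K0Delta.toLe δ a hle) h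
  rw [map_sum] at h3
  refine Eq.trans ?_ h3
  apply Finset.sum_congr rfl
  intro I _
  rw [map_zsmul, map_sub, Groth.Agent.Lib.Helper6.K0Delta.toLe_cls, Groth.Agent.Lib.Helper6.K0Delta.toLe_cls]

/-- Let k be an algebraically closed field, X an integral normal scheme of dimension n = s + 2 admitting
a closed immersion into some P^N_k over k, δ a dimension function on X (Cyc.IsSetup) with δ(generic
point) = n, L_1, …, L_s, A and B invertible O_X-modules with inverses M_1, …, M_s, A' and B' (so A'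
⊗ B' is an inverse of A ⊗ B), and ℒ a coherent reflexive O_X-module of rank one (ℒ = O_X(-D)). For a
family (N_0, …, N_s) of modules put S_N(ℒ) = Σ_{I ⊆ {0, …, s}} (-1)^{|I|} ([N_I ⊗ O_X] - [N_I ⊗ ℒ])
in K(X) = K_0(Coh(X)) (classes KZero.clSub of coherent modules), N_I = ⊗_{i∈I} N_i, so that S_{(A',
M_1, …, M_s)}(O_X(-D)) = c_1(A) c_1(L_1) ⋯ c_1(L_s) · [O_D]. Then S_{(A' ⊗ B', M)}(ℒ) = S_{(A',
M)}(ℒ) + S_{(B', M)}(ℒ): the K(X)-valued symbol c_1(L_0) c_1(L_1) ⋯ c_1(L_s) · [O_D] is additive,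
hence ℤ-linear, in the invertible module L_0. -/
theorem result (k : Type u) [Field k] [IsAlgClosed k] (X : Scheme.{u}) [X.Over (Spec (CommRingCat.of k))]
    [AlgebraicGeometry.IsIntegral X] (hnorm : Pi1.IsNormalScheme X) (s : ℕ) (hdim : topologicalKrullDim X = (s + 2 : ℕ))
    (hproj : ∃ (N : ℕ) (ι : X ⟶ CohB1.ProjSpace N k), IsClosedImmersion ι ∧ ι ≫ CohB1.ProjSpace.toSpec N k = X ↘ Spec (CommRingCat.of k))
    (δ : X → ℤ) (hδ : Cyc.IsSetup X δ) (hδη : δ (genericPoint X) = (s + 2 : ℕ))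
    (L M : Fin s → X.Modules) (hL : ∀ i, PicF.IsInvertible (L i))
    (hLM : ∀ i, Nonempty (CohB1.tensorMod (L i) (M i) ≅ Coh.structureModule X))
    (A A' B B' : X.Modules) (hA : PicF.IsInvertible A) (hB : PicF.IsInvertible B)
    (hAA' : Nonempty (CohB1.tensorMod A A' ≅ Coh.structureModule X))
    (hBB' : Nonempty (CohB1.tensorMod B B' ≅ Coh.structureModule X))
    (ℒ : X.Modules) (hℒ : RefHull.IsRef1 ℒ) :
    (∑ I : Finset (Fin (s + 1)), ((-1 : ℤ) ^ I.card) •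
        (KZero.clSub (Cyc.CohLe δ (s + 2 : ℕ)) (CohB1.tensorMod (FGA.tensorList ((I.sort (· ≤ ·)).map (Fin.cons (CohB1.tensorMod A' B') M))) (Coh.structureModule X)) -
          KZero.clSub (Cyc.CohLe δ (s + 2 : ℕ)) (CohB1.tensorMod (FGA.tensorList ((I.sort (· ≤ ·)).map (Fin.cons (CohB1.tensorMod A' B') M))) ℒ))) =
      (∑ I : Finset (Fin (s + 1)), ((-1 : ℤ) ^ I.card) •
        (KZero.clSub (Cyc.CohLe δ (s + 2 : ℕ)) (CohB1.tensorMod (FGA.tensorList ((I.sort (· ≤ ·)).map (Fin.cons A' M))) (Coh.structureModule X)) -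
          KZero.clSub (Cyc.CohLe δ (s + 2 : ℕ)) (CohB1.tensorMod (FGA.tensorList ((I.sort (· ≤ ·)).map (Fin.cons A' M))) ℒ))) +
      (∑ I : Finset (Fin (s + 1)), ((-1 : ℤ) ^ I.card) •
        (KZero.clSub (Cyc.CohLe δ (s + 2 : ℕ)) (CohB1.tensorMod (FGA.tensorList ((I.sort (· ≤ ·)).map (Fin.cons B' M))) (Coh.structureModule X)) -
          KZero.clSub (Cyc.CohLe δ (s + 2 : ℕ)) (CohB1.tensorMod (FGA.tensorList ((I.sort (· ≤ ·)).map (Fin.cons B' M))) ℒ))) := by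
  classical
  obtain ⟨N, ι, hι, -⟩ := hproj
  haveI : IsNoetherian (CohB1.ProjSpace N k) := Groth.Agent.S2357.result (CohB1.polyGrading N k)
  haveI : IsLocallyNoetherian X := hδ.1
  haveI : CompactSpace X := QuasiCompact.compactSpace_of_compactSpace ι
  haveI : IsNoetherian X := {}
  have hle : ∀ x : X, δ x ≤ ((s + 2 : ℕ) : ℤ) := fun x => by
    rw [← hδη]
    exact Groth.Agent.Lib.Helper6.K0Delta.delta_le_generic δ hδ.2.2 x
  have hMinv : ∀ i, PicF.IsInvertible (M i) := fun i =>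
    Groth.Agent.Lib.Helper6.K0Inv.isInvertible_of_tensor_iso (L i) (M i) (hL i) (hLM i).some
  have hA' : PicF.IsInvertible A' := Groth.Agent.Lib.Helper6.K0Inv.isInvertible_of_tensor_iso A A' hA hAA'.some
  have hB' : PicF.IsInvertible B' := Groth.Agent.Lib.Helper6.K0Inv.isInvertible_of_tensor_iso B B' hB hBB'.some
  have hAB' : PicF.IsInvertible (CohB1.tensorMod A' B') :=
    Groth.Agent.Lib.Helper28.GenLocus.isInvertible_tensorMod hA' hB'
  have hO : Coh.IsCoh (Coh.structureModule X) := Groth.Agent.Lib.Helper6.DevRed.isCoh_structureModule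
  have h1 := Groth.Agent.Lib.Helper6.K0Delta.cls_sub_mem_Hle_of_len_eq δ hδ.2.2 (Coh.structureModule X) ℒ
    hO hℒ.1
    (by rw [Groth.Agent.Lib.Helper6.K0Rank.len_structureModule_genericPoint,
      Groth.Agent.Lib.Helper6.K0Rank.len_genericPoint_of_genInvertible ℒ hℒ.2.2])
  rw [key δ hδ.2.2 _ hle M hMinv _ hAB' _ _ hO hℒ.1, key δ hδ.2.2 _ hle M hMinv _ hA' _ _ hO hℒ.1,
    key δ hδ.2.2 _ hle M hMinv _ hB' _ _ hO hℒ.1, ← map_add]
  congr 1
  have hl : ∀ N ∈ (List.finRange s).map M, PicF.IsInvertible N := by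
    intro N hN
    obtain ⟨i, -, rfl⟩ := List.mem_map.1 hN
    exact hMinv i
  have hQ := Groth.Agent.Lib.Helper6.K0Op.prod_sub_Top_mem δ hδ.2.2 _ hl _ _ h1
  rw [List.length_map, List.length_finRange, hδη] at hQ
  have e1 : (((s + 2 : ℕ) : ℤ) - 1 - (s : ℤ)) = 1 := by push_cast; ring
  rw [e1] at hQ
  generalize (List.map (fun M => 1 - Groth.Agent.Lib.Helper6.K0Op.Top M) (List.map M (List.finRange s))).prod
    (Groth.Agent.Lib.Helper6.K0Len.cls (Coh.structureModule X) - Groth.Agent.Lib.Helper6.K0Len.cls ℒ) = Q at hQ ⊢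
  have hQ1 := Groth.Agent.Lib.Helper6.K0Op.sub_Top_mem δ hδ.2.2 B' hB' _ _ hQ
  have hQ2 := Groth.Agent.Lib.Helper6.K0Op.sub_Top_mem δ hδ.2.2 A' hA' _ _ hQ1
  have e2 : ((1 : ℤ) - 1 - 1) = -1 := by ring
  rw [e2, Groth.Agent.Lib.Helper6.K0Op.Hle_neg_one δ
    (Groth.Agent.Lib.Helper6.K0Op.delta_nonneg δ hδ.2.2 (s + 2) hdim hδη), AddSubgroup.mem_bot] at hQ2
  rw [Groth.Agent.Lib.Helper6.K0Op.Top_tensorMod A' B' hA' hB']
  have e3 : (1 - Groth.Agent.Lib.Helper6.K0Op.Top A' * Groth.Agent.Lib.Helper6.K0Op.Top B' :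
      AddMonoid.End (KZero.K0sub (fun G : X.Modules => Coh.IsCoh G))) =
      (1 - Groth.Agent.Lib.Helper6.K0Op.Top A') + (1 - Groth.Agent.Lib.Helper6.K0Op.Top B') -
        (1 - Groth.Agent.Lib.Helper6.K0Op.Top A') * (1 - Groth.Agent.Lib.Helper6.K0Op.Top B') := by
    simp only [sub_mul, mul_sub, one_mul, mul_one]
    abel
  rw [e3]
  change _ + _ - (1 - Groth.Agent.Lib.Helper6.K0Op.Top A') ((1 - Groth.Agent.Lib.Helper6.K0Op.Top B') Q) = _
  rw [hQ2, sub_zero]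
  rfl

end Groth.Agent.S17929
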