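import Groth.Statements.S17932
import Groth.Agent.Lib.Helper1.RefK02
import Groth.Agent.S2357

set_option autoImplicit false
universe u
open CategoryTheory CategoryTheory.Limits AlgebraicGeometry
open RefCh

namespace Groth.Agent.S17932

/-- Let k be an algebraically closed field, X an integral normal scheme of dimension n = s + 2 admitting
a closed immersion into some P^N_k over k, δ a dimension function on X (Cyc.IsSetup) with δ(generic
point) = n, and ℒ_1, ℒ_2 coherent reflexive O_X-modules of rank one (ℒ_j = O_X(-D_j) for Weil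
divisors D_j); write ℒ_1 ⊗̂ ℒ_2 for the reflexive hull of ℒ_1 ⊗ ℒ_2, which is O_X(-D_1 - D_2). With
K_m(X) ⊆ K(X) = K_0(Coh(X)) generated by the coherent modules with support of dimension at most m
and [O_D] = [O_X] - [O_X(-D)], one has [ℒ_1 ⊗̂ ℒ_2] + [O_X] = [ℒ_1] + [ℒ_2] in K(X) / K_{n-2}(X)
(Cyc.toK0CohQuot δ n (n - 2)); that is, [O_{D_1 + D_2}] - [O_{D_1}] - [O_{D_2}] ∈ K_{n-2}(X), and
hence [O_D] - Σ a_i [O_{D_i}] ∈ K_{n-2}(X) whenever D = Σ a_i D_i. -/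
theorem result (k : Type u) [Field k] [IsAlgClosed k] (X : Scheme.{u}) [X.Over (Spec (CommRingCat.of k))]
    [AlgebraicGeometry.IsIntegral X] (hnorm : Pi1.IsNormalScheme X) (s : ℕ) (hdim : topologicalKrullDim X = (s + 2 : ℕ))
    (hproj : ∃ (N : ℕ) (ι : X ⟶ CohB1.ProjSpace N k), IsClosedImmersion ι ∧ ι ≫ CohB1.ProjSpace.toSpec N k = X ↘ Spec (CommRingCat.of k))
    (δ : X → ℤ) (hδ : Cyc.IsSetup X δ) (hδη : δ (genericPoint X) = (s + 2 : ℕ))
    (ℒ₁ ℒ₂ : X.Modules) (h₁ : RefHull.IsRef1 ℒ₁) (h₂ : RefHull.IsRef1 ℒ₂) :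
    Cyc.toK0CohQuot δ (s + 2 : ℕ) (s : ℕ) (RefPow.refTensor ℒ₁ ℒ₂) +
        Cyc.toK0CohQuot δ (s + 2 : ℕ) (s : ℕ) (Coh.structureModule X) =
      Cyc.toK0CohQuot δ (s + 2 : ℕ) (s : ℕ) ℒ₁ + Cyc.toK0CohQuot δ (s + 2 : ℕ) (s : ℕ) ℒ₂ := by
  classical
  obtain ⟨N, ι, hι, -⟩ := hproj
  haveI : IsNoetherian (CohB1.ProjSpace N k) := Groth.Agent.S2357.result (CohB1.polyGrading N k)
  haveI : IsLocallyNoetherian X := hδ.1
  haveI : CompactSpace X := QuasiCompact.compactSpace_of_compactSpace ι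
  haveI : IsNoetherian X := {}
  have hle : ∀ x : X, δ x ≤ ((s + 2 : ℕ) : ℤ) := fun x => by
    rw [← hδη]
    exact Groth.Agent.Lib.Helper6.K0Delta.delta_le_generic δ hδ.2.2 x
  have hcore := Groth.Agent.Lib.Helper1.RefK0.cls_refTensor_add_mem hnorm δ hδ.2.2 ℒ₁ ℒ₂ h₁ h₂
  rw [hδη] at hcore
  have e2 : (((s + 2 : ℕ) : ℤ) - 2) = ((s : ℕ) : ℤ) := by push_cast; ring
  rw [e2] at hcore
  have hmem := Groth.Agent.Lib.Helper6.K0Delta.toLe_mem δ ((s + 2 : ℕ) : ℤ) ((s : ℕ) : ℤ) hle _ hcore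
  rw [map_sub, map_sub, map_add, Groth.Agent.Lib.Helper6.K0Delta.toLe_cls,
    Groth.Agent.Lib.Helper6.K0Delta.toLe_cls, Groth.Agent.Lib.Helper6.K0Delta.toLe_cls,
    Groth.Agent.Lib.Helper6.K0Delta.toLe_cls] at hmem
  unfold Cyc.toK0CohQuot
  rw [← QuotientAddGroup.mk_add, ← QuotientAddGroup.mk_add, QuotientAddGroup.eq_iff_sub_mem]
  convert hmem using 1
  abel

end Groth.Agent.S17932
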