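import Groth.Statements.S17933
import Mathlib.Tactic
import Mathlib.LinearAlgebra.FreeModule.PID
import Mathlib.RingTheory.AdjoinRoot
-- import your own Groth.Agent.* helpers here

set_option autoImplicit false
universe u
open MultCrv

namespace Groth.Agent.S17933

theorem zpow_eq_zero (R : Type u) [CommRing R] (n : ℕ) : (z R n) ^ n = 0 := by
  change (Ideal.Quotient.mk (Ideal.span {(Polynomial.X : Polynomial R) ^ n}) Polynomial.X) ^ n = 0
  rw [← map_pow, Ideal.Quotient.eq_zero_iff_mem]
  exact Ideal.subset_span rfl

set_option backward.isDefEq.respectTransparency false in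
theorem zero_smul' (R : Type u) [CommRing R] (n : ℕ) (M : Type u) [AddCommGroup M] [Module (Rn R n) M]
    (w : M) : (0 : Rn R n) • w = 0 := zero_smul (Rn R n) w

instance finite_Rn (R : Type u) [CommRing R] (n : ℕ) : Module.Finite R (Rn R n) :=
  (Polynomial.monic_X_pow n).finite_adjoinRoot

theorem finite_R (R : Type u) [CommRing R] (n : ℕ) (M : Type u) [AddCommGroup M] [Module (MultCrv.Rn R n) M] [Module R M] [IsScalarTower R (MultCrv.Rn R n) M] [Module.Finite (MultCrv.Rn R n) M] : Module.Finite R M :=
  Module.Finite.trans (Rn R n) M


/-- Let R be a discrete valuation ring, n ≥ 1, A = R[X]/(X^n) with z the class of X, and M a finitely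
generated A-module. Then M is torsion-free as an R-module if and only if the submodule M^(1) of
elements killed by z is a free R-module. (This is the statement at a closed point of the sheaf
statement: for a primitive multiple curve of multiplicity n the local ring at a closed point is of
the form R[X]/(X^n) with R the local ring of the reduced smooth curve, torsion-freeness is the
absence of sections with finite support, and local freeness on the reduced curve is freeness of the
stalk; the row is stated for every discrete valuation ring R.) -/
theorem result (R : Type u) [CommRing R] [IsDomain R] [IsDiscreteValuationRing R] (n : ℕ) (hn : 1 ≤ n) (M : Type u) [AddCommGroup M] [Module (MultCrv.Rn R n) M] [Module R M] [IsScalarTower R (MultCrv.Rn R n) M] [Module.Finite (MultCrv.Rn R n) M] : Module.IsTorsionFree R M ↔ Module.Free R ↥(MultCrv.filt2 R n M 1) := by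
  haveI : Module.Finite R M := finite_R R n M
  haveI : IsNoetherian R M := inferInstance
  constructor
  · intro h
    haveI : Module.IsTorsionFree R ↥(filt2 R n M 1) :=
      Function.Injective.moduleIsTorsionFree (N := M) (fun x => (x : M)) Subtype.val_injective
        (fun r m => rfl)
    haveI : Module.Finite R ↥(filt2 R n M 1) := by
      have : IsNoetherian R ↥((filt2 R n M 1).restrictScalars R) := inferInstance
      exact Module.Finite.of_surjective (M := ↥((filt2 R n M 1).restrictScalars R))
        (LinearMap.id (R := R) (M := ↥((filt2 R n M 1).restrictScalars R))) (fun x => ⟨x, rfl⟩)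
    infer_instance
  · intro h
    haveI : Module.IsTorsionFree R ↥(filt2 R n M 1) := inferInstance
    rw [Module.isTorsionFree_iff_smul_eq_zero]
    intro r u hru
    by_contra hcon
    push_neg at hcon
    obtain ⟨hr, hne⟩ := hcon
    classical
    have hex : ∃ k : ℕ, (z R n) ^ k • u = 0 := ⟨n, by rw [zpow_eq_zero]; exact zero_smul' R n M u⟩
    have hk0 : Nat.find hex ≠ 0 := by
      intro h0
      have := Nat.find_spec hex
      rw [h0, pow_zero, one_smul] at this
      exact hne this
    obtain ⟨k, hk⟩ := Nat.exists_eq_succ_of_ne_zero hk0
    have h1 : ¬ (z R n) ^ k • u = 0 := Nat.find_min hex (by omega)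
    apply h1
    have hmem : (z R n) ^ k • u ∈ filt2 R n M 1 := by
      change (z R n) ^ 1 • ((z R n) ^ k • u) = 0
      rw [smul_smul, ← pow_add, add_comm, ← Nat.succ_eq_add_one, ← hk]
      exact Nat.find_spec hex
    have h2 : r • (⟨(z R n) ^ k • u, hmem⟩ : ↥(filt2 R n M 1)) = 0 := by
      apply Subtype.ext
      change r • ((z R n) ^ k • u) = 0
      rw [smul_comm, hru, smul_zero]
    rcases (smul_eq_zero.mp h2) with h3 | h3
    · exact absurd h3 hr
    · exact congrArg Subtype.val h3

end Groth.Agent.S17933
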