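import Groth.Statements.S17934
import Mathlib.Tactic
import Mathlib.LinearAlgebra.FreeModule.PID
import Mathlib.RingTheory.AdjoinRoot
-- import your own Groth.Agent.* helpers here

set_option autoImplicit false
universe u
open MultCrv

namespace Groth.Agent.S17934

theorem zpow_eq_zero (R : Type u) [CommRing R] (n : ℕ) : (z R n) ^ n = 0 := by
  change (Ideal.Quotient.mk (Ideal.span {(Polynomial.X : Polynomial R) ^ n}) Polynomial.X) ^ n = 0
  rw [← map_pow, Ideal.Quotient.eq_zero_iff_mem]
  exact Ideal.subset_span rfl

set_option backward.isDefEq.respectTransparency false in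
theorem zero_smul' (R : Type u) [CommRing R] (n : ℕ) (M : Type u) [AddCommGroup M] [Module (Rn R n) M]
    (w : M) : (0 : Rn R n) • w = 0 := zero_smul (Rn R n) w

instance finite_Rn (R : Type u) [CommRing R] (n : ℕ) : Module.Finite R (Rn R n) :=
  (Polynomial.monic_X_pow n).finite_adjoinRoot

theorem finite_R (R : Type u) [CommRing R] (n : ℕ) (M : Type u) [AddCommGroup M] [Module (MultCrv.Rn R n) M] [Module R M] [IsScalarTower R (MultCrv.Rn R n) M] [Module.Finite (MultCrv.Rn R n) M] : Module.Finite R M :=
  Module.Finite.trans (Rn R n) M


/-- Let R be a discrete valuation ring, n ≥ 1, A = R[X]/(X^n) with z the class of X, and M a finitely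
generated A-module that is torsion-free as an R-module. Then for 1 ≤ i ≤ n the graded piece
M^(i)/M^(i-1) of the second canonical filtration (M^(i) the elements killed by z^i) is a free
R-module. (Statement at a closed point of the sheaf statement on a primitive multiple curve of
multiplicity n, whose local rings are of the form R[X]/(X^n) with R the local ring of the reduced
smooth curve; stated for every discrete valuation ring R.) -/
theorem result (R : Type u) [CommRing R] [IsDomain R] [IsDiscreteValuationRing R] (n : ℕ) (hn : 1 ≤ n) (M : Type u) [AddCommGroup M] [Module (MultCrv.Rn R n) M] [Module R M] [IsScalarTower R (MultCrv.Rn R n) M] [Module.Finite (MultCrv.Rn R n) M] [Module.IsTorsionFree R M] (i : ℕ) (hi : 1 ≤ i) (hin : i ≤ n) : Module.Free R (MultCrv.G2 R n M i) := by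
  have : Module.Finite R M := finite_R R n M
  have : IsNoetherian R M := inferInstance
  have hfin : Module.Finite R ↥(filt2 R n M i) := by
    have : IsNoetherian R ↥((filt2 R n M i).restrictScalars R) := inferInstance
    exact Module.Finite.of_surjective (M := ↥((filt2 R n M i).restrictScalars R))
      (LinearMap.id (R := R) (M := ↥((filt2 R n M i).restrictScalars R))) (fun x => ⟨x, rfl⟩)
  have hfin2 : Module.Finite R (G2 R n M i) := by
    let q : ↥(filt2 R n M i) →ₗ[R] G2 R n M i :=
      { toFun := fun x => Submodule.Quotient.mk x
        map_add' := fun x y => rfl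
        map_smul' := fun r x => rfl }
    have hq : Function.Surjective q := fun x => Submodule.Quotient.mk_surjective _ x
    exact Module.Finite.of_surjective q hq
  have htf : Module.IsTorsionFree R (G2 R n M i) := by
    rw [Module.isTorsionFree_iff_smul_eq_zero]
    intro r x hrx
    by_cases hr : r = 0
    · exact Or.inl hr
    right
    obtain ⟨u, rfl⟩ := Submodule.mkQ_surjective _ x
    have h1 : r • u ∈ Submodule.comap (filt2 R n M i).subtype (filt2 R n M (i - 1)) := by
      rw [← Submodule.Quotient.mk_eq_zero]
      exact hrx
    rw [Submodule.mkQ_apply, Submodule.Quotient.mk_eq_zero, Submodule.mem_comap]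
    rw [Submodule.mem_comap] at h1
    change (z R n) ^ (i - 1) • ((filt2 R n M i).subtype u) = 0
    have h2 : (z R n) ^ (i - 1) • (r • (u : M)) = 0 := h1
    rw [smul_comm] at h2
    rcases smul_eq_zero.mp h2 with h3 | h3
    · exact absurd h3 hr
    · exact h3
  infer_instance

end Groth.Agent.S17934
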