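import Groth.Statements.S17945
import Mathlib.Tactic
-- import your own Groth.Agent.* helpers here

set_option autoImplicit false
universe u
open MultCrv

namespace Groth.Agent.S17945

theorem zpow_eq_zero (R : Type u) [CommRing R] (n : ℕ) : (z R n) ^ n = 0 := by
  change (Ideal.Quotient.mk (Ideal.span {(Polynomial.X : Polynomial R) ^ n}) Polynomial.X) ^ n = 0
  rw [← map_pow, Ideal.Quotient.eq_zero_iff_mem]
  exact Ideal.subset_span rfl

set_option backward.isDefEq.respectTransparency false in
theorem zero_smul' (R : Type u) [CommRing R] (n : ℕ) (M : Type u) [AddCommGroup M] [Module (Rn R n) M]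
    (w : M) : (0 : Rn R n) • w = 0 := zero_smul (Rn R n) w

theorem mem_filt_iff (R : Type u) [CommRing R] (n : ℕ) (M : Type u) [AddCommGroup M] [Module (Rn R n) M]
    (i : ℕ) (v : M) : v ∈ filt R n M i ↔ ∃ w : M, (z R n) ^ i • w = v := by
  unfold filt
  rw [LinearMap.mem_range]
  rfl


/-- Let R be a discrete valuation ring, n ≥ 1, A = R[X]/(X^n) with z the class of X, and φ : M → N an
A-linear map of finitely generated A-modules. Then φ is surjective if and only if the induced map
M/zM → N/zN is surjective, i.e. every element of N differs from an element of the image of φ by an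
element of zN. The induced maps z^i M/z^(i+1) M → z^i N/z^(i+1) N, 1 ≤ i < n, are then surjective as
well; that immediate consequence, which the published statement includes, is not part of this row.
(Statement at a closed point of the sheaf statement on a primitive multiple curve of multiplicity n
with local rings R[X]/(X^n), where M/zM is the stalk of the restriction to the reduced curve; stated
for every discrete valuation ring R.) -/
theorem result (R : Type u) [CommRing R] [IsDomain R] [IsDiscreteValuationRing R] (n : ℕ) (hn : 1 ≤ n) (M N : Type u) [AddCommGroup M] [Module (MultCrv.Rn R n) M] [Module.Finite (MultCrv.Rn R n) M] [AddCommGroup N] [Module (MultCrv.Rn R n) N] [Module.Finite (MultCrv.Rn R n) N] (φ : M →ₗ[MultCrv.Rn R n] N) : Function.Surjective φ ↔ ∀ v : N, ∃ u : M, v - φ u ∈ MultCrv.filt R n N 1 := by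
  constructor
  · intro h v
    obtain ⟨u, rfl⟩ := h v
    exact ⟨u, by simp⟩
  · intro h
    have key : ∀ k : ℕ, ∀ v : N, ∃ u : M, v - φ u ∈ filt R n N k := by
      intro k
      induction k with
      | zero =>
        intro v
        refine ⟨0, ?_⟩
        rw [mem_filt_iff]
        exact ⟨v, by simp⟩
      | succ k ih =>
        intro v
        obtain ⟨u, hu⟩ := ih v
        rw [mem_filt_iff] at hu
        obtain ⟨w, hw⟩ := hu
        obtain ⟨u', hu'⟩ := h w
        rw [mem_filt_iff] at hu'
        obtain ⟨w', hw'⟩ := hu'
        refine ⟨u + (z R n) ^ k • u', ?_⟩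
        rw [mem_filt_iff]
        refine ⟨w', ?_⟩
        rw [pow_one] at hw'
        rw [map_add, map_smul, pow_succ, mul_smul, hw', smul_sub, hw]
        abel
    intro v
    obtain ⟨u, hu⟩ := key n v
    rw [mem_filt_iff] at hu
    obtain ⟨w, hw⟩ := hu
    rw [zpow_eq_zero] at hw
    have hw0 : (0 : Rn R n) • w = 0 := zero_smul' R n N w
    rw [hw0] at hw
    exact ⟨u, (sub_eq_zero.mp hw.symm).symm⟩

end Groth.Agent.S17945
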