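import Groth.Statements.S17940
import Mathlib
import Groth.Agent.S17945
-- import your own Groth.Agent.* helpers here

set_option autoImplicit false
set_option linter.unusedSectionVars false
universe u
open MultCrv

namespace Groth.Agent.S17940

open MultCrv Polynomial

section ring

variable (R : Type u) [CommRing R] (n : ℕ)

lemma z_pow_n : z R n ^ n = 0 := Groth.Agent.S17945.zpow_eq_zero R n

lemma ann_z_pow [Nontrivial R] (j : ℕ) (hj : j ≤ n) (a : Rn R n) (ha : z R n ^ j * a = 0) :
    ∃ w : Rn R n, a = z R n ^ (n - j) * w := by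
  obtain ⟨f, rfl⟩ := Ideal.Quotient.mk_surjective a
  change (Ideal.Quotient.mk (Ideal.span {(X : R[X]) ^ n}) X) ^ j * _ = 0 at ha
  rw [← map_pow, ← map_mul, Ideal.Quotient.eq_zero_iff_mem, Ideal.mem_span_singleton] at ha
  have h1 : (X : R[X]) ^ n = X ^ j * X ^ (n - j) := by rw [← pow_add, Nat.add_sub_cancel' hj]
  rw [h1] at ha
  have h2 : (X : R[X]) ^ (n - j) ∣ f := by
    obtain ⟨g, hg⟩ := ha
    refine ⟨g, ?_⟩
    have hreg : IsLeftRegular ((X : R[X]) ^ j) := (monic_X_pow j).isRegular.left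
    apply hreg
    simp only
    rw [hg]; ring
  obtain ⟨g, rfl⟩ := h2
  refine ⟨Ideal.Quotient.mk _ g, ?_⟩
  change _ = (Ideal.Quotient.mk (Ideal.span {(X : R[X]) ^ n}) X) ^ (n - j) * _
  rw [map_mul, map_pow]

end ring

section maps

variable {A : Type u} [CommRing A] (z : A) (n : ℕ) (m : Fin n → ℕ)

abbrev FF (_z : A) : Type u := (i : Fin n) → Fin (m i) → A
abbrev TT (c : Fin n → ℕ) : Type u := (i : Fin n) → Fin (m i) → A ⧸ Ideal.span {z ^ c i}

noncomputable def qq (c : Fin n → ℕ) : FF n m z →ₗ[A] TT z n m c where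
  toFun f := fun i j => Ideal.Quotient.mk _ (f i j)
  map_add' f g := by funext i j; rfl
  map_smul' a f := by funext i j; rfl

lemma qq_apply (c : Fin n → ℕ) (f : FF n m z) (i : Fin n) (j : Fin (m i)) :
    qq z n m c f i j = Ideal.Quotient.mk _ (f i j) := rfl

lemma qq_surjective (c : Fin n → ℕ) : Function.Surjective (qq z n m c) := by
  intro g
  choose f hf using fun i j => Ideal.Quotient.mk_surjective (g i j)
  exact ⟨f, by funext i j; exact hf i j⟩

lemma mem_ker_qq (c : Fin n → ℕ) (f : FF n m z) :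
    f ∈ LinearMap.ker (qq z n m c) ↔ ∀ i j, ∃ w : A, f i j = z ^ (c i) * w := by
  rw [LinearMap.mem_ker]
  constructor
  · intro h i j
    have h1 := congrFun (congrFun h i) j
    rw [qq_apply] at h1
    have h2 : f i j ∈ Ideal.span {z ^ (c i)} := Ideal.Quotient.eq_zero_iff_mem.1 h1
    obtain ⟨w, hw⟩ := Ideal.mem_span_singleton'.1 h2
    exact ⟨w, by rw [← hw, mul_comm]⟩
  · intro h
    funext i j
    obtain ⟨w, hw⟩ := h i j
    rw [qq_apply, hw]
    exact Ideal.Quotient.eq_zero_iff_mem.2 (Ideal.mul_mem_right _ _ (Ideal.mem_span_singleton_self _))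

noncomputable def theta (c : Fin n → ℕ) : FF n m z →ₗ[A] FF n m z where
  toFun f := fun i j => z ^ (c i) * f i j
  map_add' f g := by funext i j; simp [mul_add]
  map_smul' a f := by funext i j; simp [mul_left_comm]

lemma theta_apply (c : Fin n → ℕ) (f : FF n m z) (i : Fin n) (j : Fin (m i)) :
    theta z n m c f i j = z ^ (c i) * f i j := rfl

lemma range_theta (c : Fin n → ℕ) :
    LinearMap.range (theta z n m c) = LinearMap.ker (qq z n m c) := by
  ext f
  rw [mem_ker_qq, LinearMap.mem_range]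
  constructor
  · rintro ⟨g, rfl⟩ i j
    exact ⟨g i j, rfl⟩
  · intro h
    choose g hg using h
    exact ⟨g, by funext i j; rw [theta_apply, hg]⟩

lemma ker_theta (hz : z ^ n = 0)
    (hann : ∀ j, j ≤ n → ∀ a : A, z ^ j * a = 0 → ∃ w : A, a = z ^ (n - j) * w)
    (c c' : Fin n → ℕ) (h : ∀ i, c i + c' i = n) :
    LinearMap.ker (theta z n m c) = LinearMap.ker (qq z n m c') := by
  ext f
  rw [mem_ker_qq, LinearMap.mem_ker]
  constructor
  · intro hf i j
    have h1 := congrFun (congrFun hf i) j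
    rw [theta_apply] at h1
    have h2 := hann (c i) (by have := h i; omega) (f i j) h1
    have h3 : n - c i = c' i := by have := h i; omega
    rwa [h3] at h2
  · intro hf
    funext i j
    obtain ⟨w, hw⟩ := hf i j
    rw [theta_apply, hw, ← mul_assoc, ← pow_add, h i, hz, zero_mul]
    rfl

/-- the kernel of the standard projection -/
noncomputable def kerEquiv (hz : z ^ n = 0)
    (hann : ∀ j, j ≤ n → ∀ a : A, z ^ j * a = 0 → ∃ w : A, a = z ^ (n - j) * w)
    (c c' : Fin n → ℕ) (h : ∀ i, c i + c' i = n) :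
    LinearMap.ker (qq z n m c) ≃ₗ[A] TT z n m c' := by
  let e1 : LinearMap.ker (qq z n m c) ≃ₗ[A] LinearMap.range (theta z n m c) :=
    LinearEquiv.ofEq _ _ (range_theta z n m c).symm
  let e2 : (FF n m z ⧸ LinearMap.ker (theta z n m c)) ≃ₗ[A] LinearMap.range (theta z n m c) :=
    LinearMap.quotKerEquivRange (theta z n m c)
  let e3 : (FF n m z ⧸ LinearMap.ker (theta z n m c)) ≃ₗ[A]
      (FF n m z ⧸ LinearMap.ker (qq z n m c')) :=
    Submodule.quotEquivOfEq _ _ (ker_theta z n m hz hann c c' h)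
  let e4 : (FF n m z ⧸ LinearMap.ker (qq z n m c')) ≃ₗ[A] TT z n m c' :=
    (qq z n m c').quotKerEquivOfSurjective (qq_surjective z n m c')
  exact e1.trans (e2.symm.trans (e3.trans e4))

end maps

section reindex

variable {A : Type u} [CommRing A] (z : A) (n : ℕ) (m : Fin n → ℕ)

/-- the index reversal on `Fin n` fixing the last index -/
def sig : Fin n ≃ Fin n where
  toFun j := if h : j.1 + 1 < n then ⟨n - 2 - j.1, by omega⟩ else j
  invFun j := if h : j.1 + 1 < n then ⟨n - 2 - j.1, by omega⟩ else j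
  left_inv j := by
    by_cases h : j.1 + 1 < n
    · have h' : (n - 2 - j.1) + 1 < n := by omega
      simp only [h, dite_true, h']
      apply Fin.ext
      simp only
      omega
    · simp only [h, dite_false]
  right_inv j := by
    by_cases h : j.1 + 1 < n
    · have h' : (n - 2 - j.1) + 1 < n := by omega
      simp only [h, dite_true, h']
      apply Fin.ext
      simp only
      omega
    · simp only [h, dite_false]

lemma sig_pos (j : Fin n) (h : j.1 + 1 < n) : (sig n j).1 = n - 2 - j.1 := by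
  unfold sig
  simp [h]

lemma sig_neg (j : Fin n) (h : ¬ j.1 + 1 < n) : sig n j = j := by
  unfold sig
  simp [h]

noncomputable def congrEquiv (a b k k' : ℕ) (hab : a = b) (hk : k = k') :
    (Fin a → A ⧸ Ideal.span {z ^ k}) ≃ₗ[A] (Fin b → A ⧸ Ideal.span {z ^ k'}) := by
  subst hab
  subst hk
  exact LinearEquiv.refl _ _

lemma subsingleton_quot_zero (k : ℕ) (hk : k = 0) : Subsingleton (A ⧸ Ideal.span {z ^ k}) := by
  subst hk
  rw [Ideal.Quotient.subsingleton_iff, pow_zero, Ideal.span_singleton_one]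

noncomputable def compEquiv (j : Fin n) :
    (Fin (m (sig n j)) → A ⧸ Ideal.span {z ^ (n - 1 - (sig n j).1)}) ≃ₗ[A]
      (Fin (revType n m j) → A ⧸ Ideal.span {z ^ (j.1 + 1)}) := by
  by_cases h : j.1 + 1 < n
  · refine congrEquiv z _ _ _ _ ?_ ?_
    · have h1 : sig n j = ⟨n - 2 - j.1, by omega⟩ := Fin.ext (sig_pos n j h)
      rw [h1]
      unfold revType
      rw [dif_pos h]
    · rw [sig_pos n j h]
      omega
  · haveI : Subsingleton (A ⧸ Ideal.span {z ^ (n - 1 - (sig n j).1)}) := by
      apply subsingleton_quot_zero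
      rw [sig_neg n j h]
      omega
    haveI : IsEmpty (Fin (revType n m j)) := by
      have : revType n m j = 0 := by
        unfold revType
        rw [dif_neg h]
      rw [this]
      infer_instance
    exact LinearEquiv.ofSubsingleton _ _

noncomputable def reindex :
    TT z n m (fun i => n - 1 - i.1) ≃ₗ[A]
      ((j : Fin n) → Fin (revType n m j) → A ⧸ Ideal.span {z ^ (j.1 + 1)}) :=
  (LinearEquiv.piCongrLeft' A (fun i : Fin n => Fin (m i) → A ⧸ Ideal.span {z ^ (n - 1 - i.1)})
    (sig n).symm).trans (LinearEquiv.piCongrRight (fun j => compEquiv z n m j))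

end reindex

section main

variable {A : Type u} [CommRing A] (z : A) (n : ℕ) (m : Fin n → ℕ)

theorem main_abstract (hn : 1 ≤ n) (hz : z ^ n = 0)
    (hann : ∀ j, j ≤ n → ∀ a : A, z ^ j * a = 0 → ∃ w : A, a = z ^ (n - j) * w)
    (M : Type u) [AddCommGroup M] [Module A M]
    (e : M ≃ₗ[A] TT z n m (fun i => i.1 + 1)) (r : ℕ) (φ : (Fin r → A) →ₗ[A] M)
    (hφ : Function.Surjective φ)
    (hφz : ∀ f : Fin r → A, (∃ w : M, φ f = z • w) → ∃ g : Fin r → A, f = z • g) :
    Nonempty (LinearMap.ker φ ≃ₗ[A]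
      ((j : Fin n) → Fin (revType n m j) → A ⧸ Ideal.span {z ^ (j.1 + 1)})) := by
  set c : Fin n → ℕ := fun i => i.1 + 1 with hc
  set c' : Fin n → ℕ := fun i => n - 1 - i.1 with hc'
  have hcc : ∀ i, c i + c' i = n := by
    intro i
    have := i.2
    simp only [hc, hc']
    omega
  obtain ⟨ψ, hψ⟩ := Module.projective_lifting_property (qq z n m c) (e.toLinearMap ∘ₗ φ)
    (qq_surjective z n m c)
  have hψ' : ∀ u, qq z n m c (ψ u) = e (φ u) := fun u => LinearMap.congr_fun hψ u
  -- kernel of qq is in z F'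
  have hker : ∀ f ∈ LinearMap.ker (qq z n m c), ∃ g : FF n m z, f = z • g := by
    intro f hf
    rw [mem_ker_qq] at hf
    choose w hw using hf
    refine ⟨fun i j => z ^ i.1 * w i j, ?_⟩
    funext i j
    rw [hw i j]
    show z ^ (i.1 + 1) * w i j = z * (z ^ i.1 * w i j)
    rw [pow_succ]; ring
  -- surjectivity of ψ
  have hstep : ∀ v : FF n m z, ∃ (u : Fin r → A) (g : FF n m z), v = ψ u + z • g := by
    intro v
    obtain ⟨u, hu⟩ := hφ (e.symm (qq z n m c v))
    have h1 : v - ψ u ∈ LinearMap.ker (qq z n m c) := by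
      rw [LinearMap.mem_ker, map_sub, hψ', hu, LinearEquiv.apply_symm_apply, sub_self]
    obtain ⟨g, hg⟩ := hker _ h1
    exact ⟨u, g, by rw [← hg]; abel⟩
  have hiter : ∀ k : ℕ, ∀ v : FF n m z, ∃ (u : Fin r → A) (g : FF n m z), v = ψ u + z ^ k • g := by
    intro k
    induction k with
    | zero => intro v; exact ⟨0, v, by simp⟩
    | succ k ih =>
      intro v
      obtain ⟨u, g, hv⟩ := ih v
      obtain ⟨u', g', hg⟩ := hstep g
      refine ⟨u + z ^ k • u', g', ?_⟩
      rw [hv, hg, map_add, map_smul, smul_add, smul_smul, ← pow_succ]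
      abel
  have hsurj : Function.Surjective ψ := by
    intro v
    obtain ⟨u, g, hv⟩ := hiter n v
    exact ⟨u, by rw [hv, hz, zero_smul, add_zero]⟩
  -- injectivity of ψ
  have hkstep : ∀ u : Fin r → A, ψ u = 0 → ∃ u' : Fin r → A, ψ u' = 0 ∧ u = z • u' := by
    intro u hu
    have h1 : φ u = 0 := by
      have := hψ' u
      rw [hu, map_zero] at this
      exact e.map_eq_zero_iff.1 this.symm
    obtain ⟨g, hg⟩ := hφz u ⟨0, by rw [h1, smul_zero]⟩
    have h2 : z • ψ g = 0 := by rw [← map_smul, ← hg, hu]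
    have h3 : ∀ i j, ∃ w : A, ψ g i j = z ^ (n - 1) * w := by
      intro i j
      have h4 : z ^ 1 * ψ g i j = 0 := by
        have := congrFun (congrFun h2 i) j
        rw [pow_one]
        exact this
      exact hann 1 (by have := i.2; omega) _ h4
    choose W hW using h3
    obtain ⟨x, hx⟩ := hsurj W
    refine ⟨g - z ^ (n - 1) • x, ?_, ?_⟩
    · rw [map_sub, map_smul, hx]
      funext i j
      show ψ g i j - z ^ (n - 1) * W i j = 0
      rw [hW i j, sub_self]
    · have hn1 : z * z ^ (n - 1) = 0 := by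
        rw [← pow_succ', Nat.sub_add_cancel hn, hz]
      rw [smul_sub, smul_smul, hn1, zero_smul, sub_zero, hg]
  have hkiter : ∀ k : ℕ, ∀ u : Fin r → A, ψ u = 0 → ∃ u' : Fin r → A, u = z ^ k • u' := by
    intro k
    induction k with
    | zero => intro u _; exact ⟨u, by simp⟩
    | succ k ih =>
      intro u hu
      obtain ⟨u', hu', rfl⟩ := hkstep u hu
      obtain ⟨u'', rfl⟩ := ih u' hu'
      exact ⟨u'', by rw [smul_smul, ← pow_succ']⟩
  have hinj : Function.Injective ψ := by
    rw [injective_iff_map_eq_zero]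
    intro u hu
    obtain ⟨u', rfl⟩ := hkiter n u hu
    rw [hz, zero_smul]
  let Ψ : (Fin r → A) ≃ₗ[A] FF n m z := LinearEquiv.ofBijective ψ ⟨hinj, hsurj⟩
  have hmap : (LinearMap.ker φ).map (Ψ : (Fin r → A) →ₗ[A] FF n m z) = LinearMap.ker (qq z n m c) := by
    ext f
    rw [Submodule.mem_map]
    constructor
    · rintro ⟨u, hu, rfl⟩
      rw [LinearMap.mem_ker] at hu ⊢
      show qq z n m c (ψ u) = 0
      rw [hψ', hu, map_zero]
    · intro hf
      obtain ⟨u, rfl⟩ := hsurj f
      refine ⟨u, ?_, rfl⟩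
      rw [LinearMap.mem_ker] at hf ⊢
      rw [hψ'] at hf
      exact e.map_eq_zero_iff.1 hf
  let E1 : LinearMap.ker φ ≃ₗ[A] LinearMap.ker (qq z n m c) :=
    (Ψ.submoduleMap (LinearMap.ker φ)).trans (LinearEquiv.ofEq _ _ hmap)
  let E2 : LinearMap.ker (qq z n m c) ≃ₗ[A] TT z n m c' := kerEquiv z n m hz hann c c' hcc
  exact ⟨E1.trans (E2.trans (reindex z n m))⟩

end main

/-- Let R be a discrete valuation ring, n ≥ 1, A = R[X]/(X^n) with z the class of X, and M an A-module
that is quasi-free of type (m_1, …, m_n), i.e. isomorphic to the direct sum of m_i copies of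
A/(z^i). Let φ be a surjective A-linear map from a finitely generated free module A^r onto M that is
bijective modulo z (the preimage of zM is zA^r). Then the kernel of φ is quasi-free of type
(m_{n-1}, m_{n-2}, …, m_1, 0). (Statement at a closed point of the sheaf statement on a primitive
multiple curve of multiplicity n with local rings R[X]/(X^n), for the kernel of a surjection from a
vector bundle onto a quasi locally free sheaf that is an isomorphism on the reduced curve; stated
for every discrete valuation ring R.) -/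
theorem result (R : Type u) [CommRing R] [IsDomain R] [IsDiscreteValuationRing R] (n : ℕ) (hn : 1 ≤ n) (m : Fin n → ℕ) (M : Type u) [AddCommGroup M] [Module (MultCrv.Rn R n) M] (hM : MultCrv.IsQuasiFreeOfType R n M m) (r : ℕ) (φ : (Fin r → MultCrv.Rn R n) →ₗ[MultCrv.Rn R n] M) (hφ : Function.Surjective φ) (hφz : ∀ f : Fin r → MultCrv.Rn R n, φ f ∈ MultCrv.filt R n M 1 → f ∈ MultCrv.filt R n (Fin r → MultCrv.Rn R n) 1) : MultCrv.IsQuasiFreeOfType R n ↥(LinearMap.ker φ) (MultCrv.revType n m) := by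
  obtain ⟨e⟩ := hM
  have key := main_abstract (z R n) n m hn (z_pow_n R n) (fun j hj a ha => ann_z_pow R n j hj a ha) M
    (e.trans (QFModel.equivPi R n m)) r φ hφ ?_
  · obtain ⟨E⟩ := key
    exact ⟨E.trans (QFModel.equivPi R n (revType n m)).symm⟩
  · rintro f ⟨w, hw⟩
    have h1 : φ f ∈ filt R n M 1 :=
      (Groth.Agent.S17945.mem_filt_iff R n M 1 (φ f)).2 ⟨w, by rw [pow_one, hw]⟩
    obtain ⟨g, hg⟩ := (Groth.Agent.S17945.mem_filt_iff R n _ 1 f).1 (hφz f h1)
    exact ⟨g, by rw [← hg, pow_one]⟩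

end Groth.Agent.S17940
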