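import Groth.Statements.S17943
import Mathlib.RingTheory.AdjoinRoot
import Mathlib.LinearAlgebra.Dimension.Localization
import Mathlib.LinearAlgebra.Dimension.RankNullity
import Mathlib.RingTheory.DiscreteValuationRing.Basic
-- import your own Groth.Agent.* helpers here

set_option autoImplicit false
universe u
open MultCrv

namespace Groth.Agent.S17943

/-- Let R be a discrete valuation ring, n ≥ 1, A = R[X]/(X^n) with z the class of X, and M a finitely
generated A-module. For 0 ≤ i < n the R-modules G^(i+1)(M) = M^(i+1)/M^(i) (M^(j) the elements
killed by z^j) and G_i(M) = z^i M/z^(i+1) M have the same rank over R. (Statement at a closed point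
of the sheaf statement on a primitive multiple curve of multiplicity n with local rings R[X]/(X^n),
where the rank of a coherent sheaf on the reduced smooth curve is its generic rank, here the rank
over R of the stalk; the equality of degrees that the published statement gives together with this
rank equality is a statement on the global curve and is not part of this row; stated for every
discrete valuation ring R.) -/
theorem result (R : Type u) [CommRing R] [IsDomain R] [IsDiscreteValuationRing R] (n : ℕ) (hn : 1 ≤ n) (M : Type u) [AddCommGroup M] [Module (MultCrv.Rn R n) M] [Module R M] [IsScalarTower R (MultCrv.Rn R n) M] [Module.Finite (MultCrv.Rn R n) M] (i : ℕ) (hi : i < n) : Module.finrank R (MultCrv.G2 R n M (i + 1)) = Module.finrank R (MultCrv.G1 R n M i) := by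
  have : Module.Finite R (MultCrv.Rn R n) := (Polynomial.monic_X_pow n).finite_quotient
  have : Module.Finite R M := Module.Finite.trans (MultCrv.Rn R n) M
  have : IsNoetherian R M := inferInstance
  -- finiteness of submodules
  have hfin : ∀ p : Submodule (MultCrv.Rn R n) M, Module.Finite R ↥p := fun p =>
    (inferInstance : Module.Finite R ↥(p.restrictScalars R))
  -- rank-nullity for multiplication by z^j
  have hrn : ∀ j : ℕ, Module.finrank R ↥(MultCrv.filt R n M j) + Module.finrank R ↥(MultCrv.filt2 R n M j)
      = Module.finrank R M := by
    intro j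
    set f : M →ₗ[MultCrv.Rn R n] M := (MultCrv.z R n ^ j) • LinearMap.id with hf
    have hker : LinearMap.ker f = MultCrv.filt2 R n M j := by
      ext x
      simp [hf, MultCrv.filt2, Submodule.mem_torsionBy_iff]
    have e := f.quotKerEquivRange
    have h1 : Module.finrank R (M ⧸ LinearMap.ker f) = Module.finrank R ↥(LinearMap.range f) :=
      LinearEquiv.finrank_eq (e.restrictScalars R)
    rw [Submodule.finrank_quotient, hker] at h1
    have hle : Module.finrank R ↥(MultCrv.filt2 R n M j) ≤ Module.finrank R M :=
      Submodule.finrank_le ((MultCrv.filt2 R n M j).restrictScalars R)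
    have h2 : LinearMap.range f = MultCrv.filt R n M j := rfl
    rw [h2] at h1
    omega
  -- monotonicity of the two filtrations
  have hfilt_le : MultCrv.filt R n M (i + 1) ≤ MultCrv.filt R n M i := by
    rintro _ ⟨x, rfl⟩
    refine ⟨MultCrv.z R n • x, ?_⟩
    simp [pow_succ, mul_smul, smul_comm (MultCrv.z R n)]
  have hfilt2_le : MultCrv.filt2 R n M i ≤ MultCrv.filt2 R n M (i + 1) := by
    intro x hx
    rw [MultCrv.filt2, Submodule.mem_torsionBy_iff] at hx ⊢
    rw [pow_succ', mul_smul, hx, smul_zero]
  -- graded pieces
  have hG1 : Module.finrank R (MultCrv.G1 R n M i) =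
      Module.finrank R ↥(MultCrv.filt R n M i) - Module.finrank R ↥(MultCrv.filt R n M (i + 1)) := by
    have := hfin (MultCrv.filt R n M i)
    rw [Submodule.finrank_quotient]
    congr 1
    exact LinearEquiv.finrank_eq
      ((Submodule.comapSubtypeEquivOfLe hfilt_le).restrictScalars R)
  have hG2 : Module.finrank R (MultCrv.G2 R n M (i + 1)) =
      Module.finrank R ↥(MultCrv.filt2 R n M (i + 1)) - Module.finrank R ↥(MultCrv.filt2 R n M i) := by
    have := hfin (MultCrv.filt2 R n M (i + 1))
    rw [Submodule.finrank_quotient]
    congr 1
    exact LinearEquiv.finrank_eq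
      ((Submodule.comapSubtypeEquivOfLe hfilt2_le).restrictScalars R)
  have hle1 : Module.finrank R ↥(MultCrv.filt R n M (i + 1)) ≤ Module.finrank R ↥(MultCrv.filt R n M i) := by
    have := hfin (MultCrv.filt R n M i)
    rw [← LinearEquiv.finrank_eq ((Submodule.comapSubtypeEquivOfLe hfilt_le).restrictScalars R)]
    exact Submodule.finrank_le
      ((Submodule.comap (MultCrv.filt R n M i).subtype (MultCrv.filt R n M (i + 1))).restrictScalars R)
  have h1 := hrn i
  have h2 := hrn (i + 1)
  omega


end Groth.Agent.S17943
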