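import Groth.Statements.S17944
import Mathlib
-- import your own Groth.Agent.* helpers here

set_option autoImplicit false
set_option linter.unusedSectionVars false
universe u
open MultCrv

namespace Groth.Agent.S17944

open MultCrv

section basics

variable (R : Type u) [CommRing R] (n : ℕ) (M : Type u) [AddCommGroup M] [Module (Rn R n) M]

theorem zpow_eq_zero : (z R n) ^ n = 0 := by
  change (Ideal.Quotient.mk (Ideal.span {(Polynomial.X : Polynomial R) ^ n}) Polynomial.X) ^ n = 0
  rw [← map_pow, Ideal.Quotient.eq_zero_iff_mem]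
  exact Ideal.subset_span rfl

set_option backward.isDefEq.respectTransparency false in
theorem zero_smul' (w : M) : (0 : Rn R n) • w = 0 := zero_smul (Rn R n) w

theorem mem_filt_iff (i : ℕ) (v : M) : v ∈ filt R n M i ↔ ∃ w : M, (z R n) ^ i • w = v := by
  unfold filt
  rw [LinearMap.mem_range]
  rfl

theorem mem_filt2_iff (i : ℕ) (v : M) : v ∈ filt2 R n M i ↔ (z R n) ^ i • v = 0 := by
  unfold filt2
  rw [Submodule.mem_torsionBy_iff]

theorem zpow_smul_eq_zero (k : ℕ) (hk : n ≤ k) (w : M) : (z R n) ^ k • w = 0 := by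
  obtain ⟨d, rfl⟩ := Nat.exists_eq_add_of_le hk
  rw [pow_add, zpow_eq_zero, zero_mul]
  exact zero_smul' R n M w

end basics

section core

variable (R : Type u) [CommRing R] (n : ℕ) (M : Type u) [AddCommGroup M] [Module (Rn R n) M]
  [Module R M] [IsScalarTower R (Rn R n) M]

/-- condition (A) for the scalar `r` -/
def CondA (r : R) : Prop :=
  ∀ j : ℕ, j < n → ∀ x : M, x ∈ filt R n M j → r • x ∈ filt R n M (j + 1) → x ∈ filt R n M (j + 1)

/-- condition (B') for the scalar `r` -/
def CondB (r : R) : Prop :=
  ∀ k : ℕ, 1 ≤ k → k ≤ n → ∀ u : M, u ∈ filt R n M (k - 1) → z R n • u = 0 →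
    r • u ∈ filt R n M k → u ∈ filt R n M k

lemma smul_comm' (r : R) (a : Rn R n) (x : M) : a • (r • x) = r • (a • x) := by
  rw [smul_comm]

lemma condA_imp (r : R) (hA : CondA R n M r) :
    ∀ k : ℕ, k ≤ n → ∀ x : M, r • x ∈ filt R n M k → x ∈ filt R n M k := by
  intro k
  induction k with
  | zero =>
    intro _ x _
    rw [mem_filt_iff]
    exact ⟨x, by rw [pow_zero, one_smul]⟩
  | succ k ih =>
    intro hk x hx
    have h1 : r • x ∈ filt R n M k := by
      rw [mem_filt_iff] at hx ⊢
      obtain ⟨w, hw⟩ := hx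
      exact ⟨z R n • w, by rw [smul_smul, ← pow_succ, hw]⟩
    exact hA k (by omega) x (ih (by omega) x h1) hx

lemma condB_of_condA (r : R) (hA : CondA R n M r) : CondB R n M r := by
  intro k _ hk u _ _ hru
  exact condA_imp R n M r hA k hk u hru

lemma condA_of_condB (r : R) (hB : CondB R n M r) : CondA R n M r := by
  intro j hj
  -- C(i)
  have hC : ∀ i : ℕ, ∀ x : M, x ∈ filt R n M j → (z R n) ^ i • x = 0 →
      r • x ∈ filt R n M (j + 1) → x ∈ filt R n M (j + 1) := by
    intro i
    induction i with
    | zero =>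
      intro x _ hx0 _
      rw [pow_zero, one_smul] at hx0
      rw [hx0]
      exact Submodule.zero_mem _
    | succ i ih =>
      intro x hxj hx0 hrx
      obtain ⟨m, hm⟩ := (mem_filt_iff R n M j x).1 hxj
      obtain ⟨y, hy⟩ := (mem_filt_iff R n M (j + 1) (r • x)).1 hrx
      -- u := z^i x
      have hu : (z R n) ^ i • x ∈ filt R n M (i + j + 1) := by
        by_cases hle : i + j + 1 ≤ n
        · apply hB (i + j + 1) (by omega) hle
          · rw [mem_filt_iff]
            refine ⟨m, ?_⟩
            rw [show i + j + 1 - 1 = i + j by omega, ← hm, smul_smul, ← pow_add]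
          · rw [smul_smul, ← pow_succ']
            exact hx0
          · rw [mem_filt_iff]
            refine ⟨y, ?_⟩
            rw [← smul_comm' R n M, ← hy, smul_smul, ← pow_add, add_assoc]
        · have h0 : (z R n) ^ i • x = 0 := by
            rw [← hm, smul_smul, ← pow_add]
            exact zpow_smul_eq_zero R n M _ (by omega) m
          rw [h0]
          exact Submodule.zero_mem _
      obtain ⟨a, ha⟩ := (mem_filt_iff R n M _ _).1 hu
      -- x' = x - z^(j+1) a
      have hx' : x - (z R n) ^ (j + 1) • a ∈ filt R n M (j + 1) := by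
        apply ih
        · exact Submodule.sub_mem _ hxj ((mem_filt_iff R n M j _).2
            ⟨z R n • a, by rw [smul_smul, ← pow_succ]⟩)
        · rw [smul_sub, smul_smul, ← pow_add, ← ha]
          rw [show i + (j + 1) = i + j + 1 by omega, sub_self]
        · rw [smul_sub]
          refine Submodule.sub_mem _ hrx ((mem_filt_iff R n M (j + 1) _).2 ⟨r • a, ?_⟩)
          rw [smul_comm' R n M]
      have : x = (x - (z R n) ^ (j + 1) • a) + (z R n) ^ (j + 1) • a := by abel
      rw [this]
      exact Submodule.add_mem _ hx' ((mem_filt_iff R n M (j + 1) _).2 ⟨a, rfl⟩)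
  intro x hxj hrx
  exact hC n x hxj (zpow_smul_eq_zero R n M n le_rfl x) hrx

end core

section translate

variable (R : Type u) [CommRing R] [IsDomain R] (n : ℕ) (M : Type u) [AddCommGroup M] [Module (Rn R n) M]
  [Module R M] [IsScalarTower R (Rn R n) M]

lemma G1_tf_iff (i : ℕ) : Module.IsTorsionFree R (G1 R n M i) ↔
    ∀ r : R, r ≠ 0 → ∀ x : M, x ∈ filt R n M i → r • x ∈ filt R n M (i + 1) →
      x ∈ filt R n M (i + 1) := by
  rw [Module.isTorsionFree_iff_smul_eq_zero]
  constructor
  · intro htf r hr x hx hrx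
    have h1 : r • (Submodule.Quotient.mk (⟨x, hx⟩ : ↥(filt R n M i)) : G1 R n M i) = 0 := by
      show (Submodule.Quotient.mk (r • (⟨x, hx⟩ : ↥(filt R n M i))) : G1 R n M i) = 0
      rw [Submodule.Quotient.mk_eq_zero, Submodule.mem_comap]
      exact hrx
    rcases htf r _ h1 with h | h
    · exact absurd h hr
    · rw [Submodule.Quotient.mk_eq_zero, Submodule.mem_comap] at h
      exact h
  · intro hE r X hrX
    by_cases hr : r = 0
    · exact Or.inl hr
    right
    obtain ⟨xb, rfl⟩ := Submodule.Quotient.mk_surjective _ X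
    have h1 : (Submodule.Quotient.mk (r • xb) : G1 R n M i) = 0 := hrX
    rw [Submodule.Quotient.mk_eq_zero, Submodule.mem_comap] at h1 ⊢
    exact hE r hr xb.1 xb.2 h1

/-- elementwise form of torsion-freeness of `Γ^(i)` -/
def CondE (i : ℕ) (r : R) : Prop :=
  ∀ x : M, x ∈ filt2 R n M (i + 1) → ∀ y : M, y ∈ filt2 R n M (i + 2) →
    (z R n) ^ i • (z R n • y - r • x) = 0 →
    ∃ y' : M, y' ∈ filt2 R n M (i + 2) ∧ (z R n) ^ i • (z R n • y' - x) = 0

lemma lamG2_mk (i : ℕ) (y : ↥(filt2 R n M (i + 2))) :
    lamG2 R n M i (Submodule.Quotient.mk y) = Submodule.Quotient.mk (zDown R n M (i + 1) y) := rfl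

lemma zDown_coe (i : ℕ) (y : ↥(filt2 R n M (i + 1))) :
    ((zDown R n M i y : ↥(filt2 R n M i)) : M) = z R n • (y : M) := rfl

lemma G2_mk_eq_iff (i : ℕ) (a b : ↥(filt2 R n M (i + 1))) :
    (Submodule.Quotient.mk a : G2 R n M (i + 1)) = Submodule.Quotient.mk b ↔
      (z R n) ^ i • ((a : M) - (b : M)) = 0 := by
  rw [Submodule.Quotient.eq, Submodule.mem_comap, mem_filt2_iff]
  have : i + 1 - 1 = i := by omega
  rw [this]
  rfl

lemma Gam2_tf_iff (i : ℕ) : Module.IsTorsionFree R (Gam2 R n M i) ↔
    ∀ r : R, r ≠ 0 → CondE R n M i r := by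
  rw [Module.isTorsionFree_iff_smul_eq_zero]
  constructor
  · intro htf r hr x hx y hy hxy
    have h1 : r • (Submodule.Quotient.mk (Submodule.Quotient.mk (⟨x, hx⟩ : ↥(filt2 R n M (i + 1))) :
        G2 R n M (i + 1)) : Gam2 R n M i) = 0 := by
      show (Submodule.Quotient.mk (Submodule.Quotient.mk (r • (⟨x, hx⟩ : ↥(filt2 R n M (i + 1)))) :
        G2 R n M (i + 1)) : Gam2 R n M i) = 0
      rw [Submodule.Quotient.mk_eq_zero, LinearMap.mem_range]
      refine ⟨Submodule.Quotient.mk ⟨y, hy⟩, ?_⟩
      rw [lamG2_mk, G2_mk_eq_iff]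
      exact hxy
    rcases htf r _ h1 with h | h
    · exact absurd h hr
    · rw [Submodule.Quotient.mk_eq_zero, LinearMap.mem_range] at h
      obtain ⟨Y, hY⟩ := h
      obtain ⟨yb, rfl⟩ := Submodule.Quotient.mk_surjective _ Y
      rw [lamG2_mk, G2_mk_eq_iff] at hY
      exact ⟨yb.1, yb.2, hY⟩
  · intro hE r X hrX
    by_cases hr : r = 0
    · exact Or.inl hr
    right
    obtain ⟨X', rfl⟩ := Submodule.Quotient.mk_surjective _ X
    obtain ⟨xb, rfl⟩ := Submodule.Quotient.mk_surjective _ X'
    have h1 : (Submodule.Quotient.mk (Submodule.Quotient.mk (r • xb) : G2 R n M (i + 1)) :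
        Gam2 R n M i) = 0 := hrX
    rw [Submodule.Quotient.mk_eq_zero, LinearMap.mem_range] at h1 ⊢
    obtain ⟨Y, hY⟩ := h1
    obtain ⟨yb, rfl⟩ := Submodule.Quotient.mk_surjective _ Y
    rw [lamG2_mk, G2_mk_eq_iff] at hY
    obtain ⟨y', hy', h2⟩ := hE r hr xb.1 xb.2 yb.1 yb.2 hY
    refine ⟨Submodule.Quotient.mk ⟨y', hy'⟩, ?_⟩
    rw [lamG2_mk, G2_mk_eq_iff]
    exact h2

lemma condB_iff_condE (r : R) :
    CondB R n M r ↔ ∀ i : ℕ, i < n → CondE R n M i r := by
  constructor
  · intro hB i hi x hx y hy hxy
    rw [mem_filt2_iff] at hx hy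
    have hu : (z R n) ^ i • x ∈ filt R n M (i + 1) := by
      apply hB (i + 1) (by omega) (by omega)
      · rw [mem_filt_iff]
        exact ⟨x, by rw [Nat.add_sub_cancel]⟩
      · rw [smul_smul, ← pow_succ']
        exact hx
      · rw [mem_filt_iff]
        refine ⟨y, ?_⟩
        rw [smul_sub, sub_eq_zero, smul_smul, ← pow_succ, smul_comm' R n M] at hxy
        exact hxy
    obtain ⟨y', hy'⟩ := (mem_filt_iff R n M _ _).1 hu
    refine ⟨y', ?_, ?_⟩
    · rw [mem_filt2_iff, pow_succ', ← smul_smul, hy', smul_smul, ← pow_succ']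
      exact hx
    · rw [smul_sub, smul_smul, ← pow_succ, hy', sub_self]
  · intro hE k hk1 hkn u hu hzu hru
    obtain ⟨i, rfl⟩ : ∃ i, k = i + 1 := ⟨k - 1, by omega⟩
    rw [Nat.add_sub_cancel] at hu
    obtain ⟨m, rfl⟩ := (mem_filt_iff R n M _ _).1 hu
    obtain ⟨y, hy⟩ := (mem_filt_iff R n M _ _).1 hru
    have hm : m ∈ filt2 R n M (i + 1) := by
      rw [mem_filt2_iff, pow_succ', ← smul_smul]
      exact hzu
    have hy2 : y ∈ filt2 R n M (i + 2) := by
      rw [mem_filt2_iff, show i + 2 = (i + 1) + 1 by omega, pow_succ', ← smul_smul, hy,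
        smul_comm' R n M, hzu, smul_zero]
    have hxy : (z R n) ^ i • (z R n • y - r • m) = 0 := by
      rw [smul_sub, smul_smul, ← pow_succ, hy, smul_comm' R n M, sub_self]
    obtain ⟨y', _, h2⟩ := hE i (by omega) m hm y hy2 hxy
    rw [mem_filt_iff]
    refine ⟨y', ?_⟩
    rw [smul_sub, sub_eq_zero, smul_smul, ← pow_succ] at h2
    exact h2

end translate

section fin

instance finite_Rn (R : Type u) [CommRing R] (n : ℕ) : Module.Finite R (Rn R n) :=
  (Polynomial.monic_X_pow n).finite_adjoinRoot

theorem finite_R (R : Type u) [CommRing R] (n : ℕ) (M : Type u)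
    [AddCommGroup M] [Module (Rn R n) M] [Module R M] [IsScalarTower R (Rn R n) M]
    [Module.Finite (Rn R n) M] : Module.Finite R M :=
  Module.Finite.trans (Rn R n) M

variable (R : Type u) [CommRing R] [IsDomain R] [IsDiscreteValuationRing R] (n : ℕ) (M : Type u)
  [AddCommGroup M] [Module (Rn R n) M] [Module R M] [IsScalarTower R (Rn R n) M]
  [Module.Finite (Rn R n) M]

theorem finite_sub (p : Submodule (Rn R n) M) : Module.Finite R ↥p := by
  haveI : Module.Finite R M := finite_R R n M
  haveI : IsNoetherian R M := inferInstance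
  have : IsNoetherian R ↥(p.restrictScalars R) := inferInstance
  exact Module.Finite.of_surjective (M := ↥(p.restrictScalars R))
    (LinearMap.id (R := R) (M := ↥(p.restrictScalars R))) (fun x => ⟨x, rfl⟩)

theorem finite_G1 (i : ℕ) : Module.Finite R (G1 R n M i) := by
  haveI := finite_sub R n M (filt R n M i)
  let q : ↥(filt R n M i) →ₗ[R] G1 R n M i :=
    { toFun := fun x => Submodule.Quotient.mk x
      map_add' := fun x y => rfl
      map_smul' := fun r x => rfl }
  have hq : Function.Surjective q := fun x => Submodule.Quotient.mk_surjective _ x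
  exact Module.Finite.of_surjective q hq

theorem finite_G2 (i : ℕ) : Module.Finite R (G2 R n M i) := by
  haveI := finite_sub R n M (filt2 R n M i)
  let q : ↥(filt2 R n M i) →ₗ[R] G2 R n M i :=
    { toFun := fun x => Submodule.Quotient.mk x
      map_add' := fun x y => rfl
      map_smul' := fun r x => rfl }
  have hq : Function.Surjective q := fun x => Submodule.Quotient.mk_surjective _ x
  exact Module.Finite.of_surjective q hq

theorem finite_Gam2 (i : ℕ) : Module.Finite R (Gam2 R n M i) := by
  haveI := finite_G2 R n M (i + 1)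
  let q : G2 R n M (i + 1) →ₗ[R] Gam2 R n M i :=
    { toFun := fun x => Submodule.Quotient.mk x
      map_add' := fun x y => rfl
      map_smul' := fun r x => rfl }
  have hq : Function.Surjective q := fun x => Submodule.Quotient.mk_surjective _ x
  exact Module.Finite.of_surjective q hq

end fin

/-- Let R be a discrete valuation ring, n ≥ 1, A = R[X]/(X^n) with z the class of X, and M a finitely
generated A-module. Then the graded pieces G_i(M) = z^i M/z^(i+1) M are free R-modules for all 0 ≤ i
< n if and only if the modules Γ^(i)(M) are free R-modules for all 0 ≤ i < n, where Γ^(i)(M) is the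
cokernel of the map M^(i+2)/M^(i+1) → M^(i+1)/M^(i) induced by multiplication by z (M^(j) the
elements killed by z^j). (Statement at a closed point P of the sheaf statement on a primitive
multiple curve of multiplicity n, whose local rings are R[X]/(X^n) with R the local ring of the
reduced smooth curve: the published conditions are local freeness on the reduced curve of the
corresponding sheaves, read here at P; the published statement also asserts that these conditions
are equivalent to the stalk being quasi-free, i.e. isomorphic to a direct sum of modules A/(z^j),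
which is not part of this row; stated for every discrete valuation ring R.) -/
theorem result (R : Type u) [CommRing R] [IsDomain R] [IsDiscreteValuationRing R] (n : ℕ) (hn : 1 ≤ n) (M : Type u) [AddCommGroup M] [Module (MultCrv.Rn R n) M] [Module R M] [IsScalarTower R (MultCrv.Rn R n) M] [Module.Finite (MultCrv.Rn R n) M] : (∀ i : ℕ, i < n → Module.Free R (MultCrv.G1 R n M i)) ↔ (∀ i : ℕ, i < n → Module.Free R (MultCrv.Gam2 R n M i)) := by
  have hA : (∀ i : ℕ, i < n → Module.IsTorsionFree R (G1 R n M i)) ↔
      ∀ r : R, r ≠ 0 → CondA R n M r := by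
    constructor
    · intro h r hr j hj x hx hrx
      exact (G1_tf_iff R n M j).1 (h j hj) r hr x hx hrx
    · intro h i hi
      rw [G1_tf_iff]
      intro r hr x hx hrx
      exact h r hr i hi x hx hrx
  have hB : (∀ i : ℕ, i < n → Module.IsTorsionFree R (Gam2 R n M i)) ↔
      ∀ r : R, r ≠ 0 → CondB R n M r := by
    constructor
    · intro h r hr
      rw [condB_iff_condE]
      intro i hi
      exact (Gam2_tf_iff R n M i).1 (h i hi) r hr
    · intro h i hi
      rw [Gam2_tf_iff]
      intro r hr
      exact (condB_iff_condE R n M r).1 (h r hr) i hi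
  have hAB : (∀ r : R, r ≠ 0 → CondA R n M r) ↔ (∀ r : R, r ≠ 0 → CondB R n M r) :=
    ⟨fun h r hr => condB_of_condA R n M r (h r hr), fun h r hr => condA_of_condB R n M r (h r hr)⟩
  constructor
  · intro h i hi
    have h1 : ∀ i : ℕ, i < n → Module.IsTorsionFree R (G1 R n M i) := fun i hi => by
      haveI := h i hi
      infer_instance
    haveI : Module.IsTorsionFree R (Gam2 R n M i) := (hB.2 (hAB.1 (hA.1 h1))) i hi
    haveI := finite_Gam2 R n M i
    infer_instance
  · intro h i hi
    have h1 : ∀ i : ℕ, i < n → Module.IsTorsionFree R (Gam2 R n M i) := fun i hi => by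
      haveI := h i hi
      infer_instance
    haveI : Module.IsTorsionFree R (G1 R n M i) := (hA.2 (hAB.2 (hB.1 h1))) i hi
    haveI := finite_G1 R n M i
    infer_instance

end Groth.Agent.S17944
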