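import Groth.Statements.S17949
import Groth.Agent.Lib.Helper21.HensSch2

set_option autoImplicit false
universe u
open CategoryTheory AlgebraicGeometry Opposite
open HensSch

namespace Groth.Agent.S17949

/-- Let `X` be a Henselian scheme and let `U = Sph(A, I)`, `V = Sph(B, J)` be affine Henselian opens of
`X` (open immersions `iU`, `iV` of the affine Henselian spectra of Henselian pairs). Then every
point of `U ∩ V` lies in an open subset of `X` which is at the same time the image of a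
distinguished open `D(f) ∩ V(I)` of `U` and the image of a distinguished open `D(g) ∩ V(J)` of `V`. -/
theorem result (X : LocallyRingedSpace.{u}) (hX : HensSch.IsHensScheme X)
    (U V : LocallyRingedSpace.{u}) (iU : U ⟶ X) [LocallyRingedSpace.IsOpenImmersion iU]
    (iV : V ⟶ X) [LocallyRingedSpace.IsOpenImmersion iV]
    (A : Type u) [CommRing A] (I : Ideal A) [HenselianRing A I] (πU : U ⟶ HensSch.specLRS A)
    (hU : HensSch.IsSph A I U πU)
    (B : Type u) [CommRing B] (J : Ideal B) [HenselianRing B J] (πV : V ⟶ HensSch.specLRS B)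
    (hV : HensSch.IsSph B J V πV)
    (x : X) (hxU : x ∈ Set.range iU.base) (hxV : x ∈ Set.range iV.base) :
    ∃ (f : A) (g : B), x ∈ iU.base '' (HensSch.dOpen πU f : Set U) ∧
      iU.base '' (HensSch.dOpen πU f : Set U) = iV.base '' (HensSch.dOpen πV g : Set V) := by
  obtain ⟨u, rfl⟩ := hxU
  obtain ⟨v, hv⟩ := hxV
  obtain ⟨hUemb, hUrange, hUaway⟩ := hU
  obtain ⟨hVemb, hVrange, hVaway⟩ := hV
  have hiU : Topology.IsOpenEmbedding iU.base :=
    AlgebraicGeometry.PresheafedSpace.IsOpenImmersion.base_open (f := iU.toHom)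
  have hiV : Topology.IsOpenEmbedding iV.base :=
    AlgebraicGeometry.PresheafedSpace.IsOpenImmersion.base_open (f := iV.toHom)
  let O₁ : TopologicalSpace.Opens U.toTopCat :=
    ⟨iU.base ⁻¹' Set.range iV.base, hiV.isOpen_range.preimage iU.base.hom.continuous⟩
  have hu1 : u ∈ O₁ := ⟨v, hv⟩
  obtain ⟨f₀, huf₀, hf₀⟩ :=
    Groth.Agent.Lib.Helper21.HensSch2.exists_dOpen_le πU hUemb.isInducing u O₁ hu1
  let O₂ : TopologicalSpace.Opens V.toTopCat :=
    ⟨iV.base ⁻¹' (iU.base '' (HensSch.dOpen πU f₀ : Set U)),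
      (hiU.isOpenMap _ (HensSch.dOpen πU f₀).2).preimage iV.base.hom.continuous⟩
  have hv2 : v ∈ O₂ := ⟨u, huf₀, hv.symm⟩
  obtain ⟨g₀, hvg₀, hg₀⟩ :=
    Groth.Agent.Lib.Helper21.HensSch2.exists_dOpen_le πV hVemb.isInducing v O₂ hv2
  have hNW : iU.base '' (HensSch.dOpen πU f₀ : Set U) ⊆
      iV.base '' (SetLike.coe ((TopologicalSpace.Opens.map πV.base).obj
        (⊤ : TopologicalSpace.Opens (PrimeSpectrum B)))) := by
    rintro _ ⟨u', hu', rfl⟩
    obtain ⟨v', hv'⟩ := hf₀ hu'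
    exact ⟨v', trivial, hv'⟩
  obtain ⟨γ, hγ⟩ := Groth.Agent.Lib.Helper21.HensSch2.exists_section_isUnit_iff iU iV
    (HensSch.dOpen πU f₀) ((TopologicalSpace.Opens.map πV.base).obj ⊤) hNW
    (Groth.Agent.Lib.Helper21.HensSch2.gs πV g₀)
  obtain ⟨a, n, han⟩ := Groth.Agent.Lib.Helper21.HensSch1.exists_congr_of_isHensAway I f₀ _ _
    (hUaway f₀) γ
  have claim : ∀ (u' : U) (hu' : u' ∈ HensSch.dOpen πU f₀),
      IsUnit (U.presheaf.germ _ u' hu' γ) ↔ u' ∈ HensSch.dOpen πU a := by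
    intro u' hu'
    have h1 := Groth.Agent.Lib.Helper21.HensSch2.not_isUnit_germ_of_mem_map πU I
      hUrange.le f₀ _ han u' hu'
    have h2 : IsUnit (U.presheaf.germ _ u' hu'
        (HensSch.secMap πU (PrimeSpectrum.basicOpen f₀) f₀)) := by
      rw [Groth.Agent.Lib.Helper21.HensSch2.germ_secMap]
      exact (Groth.Agent.Lib.Helper21.HensSch2.mem_dOpen_iff πU f₀ u').mp hu'
    have h3 := Groth.Agent.Lib.Helper21.HensSch2.germ_secMap πU (PrimeSpectrum.basicOpen f₀) a u' hu'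
    rw [Groth.Agent.Lib.Helper21.HensSch2.mem_dOpen_iff, ← h3]
    rw [map_sub, map_mul, map_pow] at h1
    have h4 := Groth.Agent.Lib.Helper21.HensSch2.isUnit_iff_of_sub_not_isUnit h1
    rw [← h4]
    exact (IsUnit.mul_right_iff (h2.pow n)).symm
  have hmul : ∀ u' : U, u' ∈ HensSch.dOpen πU (f₀ * a) ↔
      u' ∈ HensSch.dOpen πU f₀ ∧ u' ∈ HensSch.dOpen πU a := by
    intro u'
    show πU.base u' ∈ PrimeSpectrum.basicOpen (f₀ * a) ↔
      πU.base u' ∈ PrimeSpectrum.basicOpen f₀ ∧ πU.base u' ∈ PrimeSpectrum.basicOpen a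
    rw [PrimeSpectrum.basicOpen_mul]
    rfl
  have hsub1 : ∀ (u' : U) (hu' : u' ∈ HensSch.dOpen πU f₀) (v' : V),
      iU.base u' = iV.base v' → (u' ∈ HensSch.dOpen πU a ↔ v' ∈ HensSch.dOpen πV g₀) := by
    intro u' hu' v' h
    rw [← claim u' hu', hγ u' hu' v' trivial h,
      ← Groth.Agent.Lib.Helper21.HensSch2.mem_dOpen_iff]
  have hset : iU.base '' (HensSch.dOpen πU (f₀ * a) : Set U) =
      iV.base '' (HensSch.dOpen πV g₀ : Set V) := by
    ext y
    constructor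
    · rintro ⟨u', hu', rfl⟩
      obtain ⟨h1, h2⟩ := (hmul u').mp hu'
      obtain ⟨v', hv'⟩ := hf₀ h1
      exact ⟨v', (hsub1 u' h1 v' hv'.symm).mp h2, hv'⟩
    · rintro ⟨v', hv', rfl⟩
      obtain ⟨u', hu', huv⟩ := hg₀ hv'
      exact ⟨u', (hmul u').mpr ⟨hu', (hsub1 u' hu' v' huv).mpr hv'⟩, huv⟩
  refine ⟨f₀ * a, g₀, ?_, hset⟩
  rw [hset]
  exact ⟨v, hvg₀, hv⟩

end Groth.Agent.S17949
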