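import Groth.Statements.S17959
import Mathlib
import Groth.Agent.Lib.Helper12.HCoupB
import Groth.Agent.Lib.Helper12.HCoupF
import Groth.Agent.Lib.Helper12.IdemLiftAdjoinRoot

set_option autoImplicit false
open CategoryTheory CategoryTheory.Limits AlgebraicGeometry
universe u
open Hensel

namespace Groth.Agent.S17959

/-- Let X be a quasi-compact quasi-separated scheme and i : X₀ ⟶ X a closed immersion such that (X, X₀)
is a henselian couple, i.e. for every finite morphism g : Y ⟶ X every open-closed subset of Y ×_X X₀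
is the inverse image under the first projection of exactly one open-closed subset of Y. Let B = Γ(X,
O_X) and let J be the kernel of the restriction map B → Γ(X₀, O_{X₀}). Then (B, J) is a henselian
pair. -/
theorem result {X X₀ : Scheme.{u}}
    (i : X₀ ⟶ X) [IsClosedImmersion i] [CompactSpace ↥X] [QuasiSeparatedSpace ↥X]
    (hX : ∀ (Y : Scheme.{u}) (g : Y ⟶ X), IsFinite g →
      ∀ V : Set ↥(pullback g (i)), IsClopen V →
        ∃! U : Set ↥Y, IsClopen U ∧ (pullback.fst g (i)).base ⁻¹' U = V) :
    HenselianRing (Γ(X, ⊤) : Type u) (RingHom.ker i.appTop.hom) := by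
  apply Groth.Agent.Lib.Helper12.henselianRing_of_idempotents_lift_adjoinRoot
  · -- the kernel is contained in the Jacobson radical
    intro b hb
    rw [Ideal.mem_jacobson_bot]
    intro y
    have hby : i.appTop.hom (b * y) = 0 := by
      rw [map_mul, (RingHom.mem_ker).mp hb, zero_mul]
    have key := Groth.Agent.Lib.Helper12.HCoup.isUnit_one_add_of_unique i
      (fun Y g hg U U' hU hU' h => by
        obtain ⟨U₀, -, huniq⟩ := hX Y g hg ((pullback.fst g i).base ⁻¹' U)
          ⟨hU.1.preimage (pullback.fst g i).continuous,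
            hU.2.preimage (pullback.fst g i).continuous⟩
        exact (huniq U ⟨hU, rfl⟩).trans (huniq U' ⟨hU', h.symm⟩).symm) (b * y) hby
    rw [add_comm]
    exact key
  · intro m p hp hpm
    haveI : Module.Finite Γ(X, ⊤) (AdjoinRoot p) := hp.finite_adjoinRoot
    haveI : Module.Free Γ(X, ⊤) (AdjoinRoot p) := hp.free_adjoinRoot
    intro ē hē
    obtain ⟨c₀, rfl⟩ := Ideal.Quotient.mk_surjective ē
    have hc₀ : c₀ * c₀ - c₀ ∈
        (RingHom.ker i.appTop.hom).map (algebraMap Γ(X, ⊤) (AdjoinRoot p)) := by
      rw [← Ideal.Quotient.eq, map_mul]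
      exact hē
    obtain ⟨e, he, hec⟩ := Groth.Agent.Lib.Helper12.HCoup.exists_idempotent_lift i (AdjoinRoot p)
      (fun Y g hg V hV => (hX Y g hg V hV).exists) c₀ hc₀
    exact ⟨e, he, Ideal.Quotient.eq.mpr hec⟩

end Groth.Agent.S17959
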