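import Groth.Statements.S17962
-- import your own Groth.Agent.* helpers here

set_option autoImplicit false
open CategoryTheory CategoryTheory.Limits AlgebraicGeometry
universe u
open Hensel

namespace Groth.Agent.S17962

/-- Let i : X₀ ⟶ X be a closed immersion such that (X, X₀) is a henselian couple, i.e. for every finite
morphism g : Y ⟶ X every open-closed subset of Y ×_X X₀ is the inverse image under the first
projection of exactly one open-closed subset of Y. Then for every finite morphism h : Y ⟶ X the
couple (Y, Y ×_X X₀), with the first projection as closed immersion, is again henselian. -/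
theorem result {X X₀ : Scheme.{u}}
    (i : X₀ ⟶ X) [IsClosedImmersion i]
    (hX : ∀ (Y : Scheme.{u}) (g : Y ⟶ X), IsFinite g →
      ∀ V : Set ↥(pullback g (i)), IsClopen V →
        ∃! U : Set ↥Y, IsClopen U ∧ (pullback.fst g (i)).base ⁻¹' U = V)
    {Y : Scheme.{u}} (h : Y ⟶ X) [IsFinite h] :
    ∀ (Z : Scheme.{u}) (g : Z ⟶ Y), IsFinite g →
      ∀ V : Set ↥(pullback g (pullback.fst h i)), IsClopen V →
        ∃! U : Set ↥Z, IsClopen U ∧ (pullback.fst g (pullback.fst h i)).base ⁻¹' U = V := by
  intro Z g hg V hV
  have hgh : IsFinite (g ≫ h) := inferInstance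
  let e := pullbackRightPullbackFstIso h i g
  have he1 : e.hom ≫ pullback.fst (g ≫ h) i = pullback.fst g (pullback.fst h i) :=
    pullbackRightPullbackFstIso_hom_fst h i g
  have he2 : e.inv ≫ pullback.fst g (pullback.fst h i) = pullback.fst (g ≫ h) i :=
    pullbackRightPullbackFstIso_inv_fst h i g
  have hV' : IsClopen (e.inv.base ⁻¹' V) := hV.preimage e.inv.continuous
  have key := hX Z (g ≫ h) hgh (e.inv.base ⁻¹' V) hV'
  refine (existsUnique_congr fun U => and_congr_right fun _ => ?_).mp key
  constructor
  · intro hU
    have := congrArg (fun W => e.hom.base ⁻¹' W) hU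
    simp only [← Set.preimage_comp] at this
    rw [← he1]
    convert this using 1
    · rfl
    · have : e.inv.base ∘ e.hom.base = id := by
        ext x
        change (e.hom ≫ e.inv).base x = x
        rw [e.hom_inv_id]; rfl
      rw [this, Set.preimage_id]
  · intro hU
    rw [← he2, ← hU]
    rfl

end Groth.Agent.S17962
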