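import Groth.Statements.S17963
import Groth.Agent.Lib.lead.HensKF
import Groth.Agent.Lib.lead.HensKG
import Groth.Agent.Lib.lead.HensClopenC

set_option autoImplicit false
open CategoryTheory CategoryTheory.Limits AlgebraicGeometry
universe u
open Hensel

namespace Groth.Agent.S17963

/-- Let (A, I) be a henselian pair and f : X ⟶ Spec A a proper morphism of finite presentation, and let
X₀ = X ×_{Spec A} Spec (A/I). Then X is nonempty and connected if and only if X₀ is nonempty and
connected. -/
theorem result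
    (A : Type u) [CommRing A] (I : Ideal A) [HenselianRing A I] {X : Scheme.{u}}
    (f : X ⟶ Spec (CommRingCat.of A)) [IsProper f] [LocallyOfFinitePresentation f] :
    ConnectedSpace ↥X ↔ ConnectedSpace ↥(pullback f (Spec.map (CommRingCat.ofHom (Ideal.Quotient.mk I)))) := by
  have hq : IsClosedImmersion (Spec.map (CommRingCat.ofHom (Ideal.Quotient.mk I))) :=
    IsClosedImmersion.spec_of_surjective _ Ideal.Quotient.mk_surjective
  let i₀ : pullback f (Spec.map (CommRingCat.ofHom (Ideal.Quotient.mk I))) ⟶ X :=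
    pullback.fst f (Spec.map (CommRingCat.ofHom (Ideal.Quotient.mk I)))
  haveI : IsClosedImmersion i₀ :=
    inferInstanceAs (IsClosedImmersion
      (pullback.fst f (Spec.map (CommRingCat.ofHom (Ideal.Quotient.mk I)))))
  have hrange : Set.range i₀ = f ⁻¹' PrimeSpectrum.zeroLocus (I : Set A) := by
    have h1 : Set.range i₀ =
        f ⁻¹' Set.range (Spec.map (CommRingCat.ofHom (Ideal.Quotient.mk I))) :=
      Scheme.Pullback.range_fst f _
    rw [h1, Groth.Agent.Lib.lead.HensClopen.range_SpecMap_quotient]
  refine Groth.Agent.Lib.lead.HensK.connectedSpace_iff_of_clopen_extension (fun x => i₀ x)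
    i₀.isClosedEmbedding ?_ ?_
  · intro V hVZ hV hW
    change V ⊆ Set.range i₀ at hVZ
    change IsClosed (Set.range i₀ \ V) at hW
    rw [hrange] at hVZ hW
    obtain ⟨U, hU, hUV⟩ := Groth.Agent.Lib.lead.HensK.exists_clopen_of_fp A I f V hVZ hV hW
    refine ⟨U, hU, ?_⟩
    change U ∩ Set.range i₀ = V
    rw [hrange]; exact hUV
  · intro U₁ U₂ hU₁ hU₂ h
    change U₁ ∩ Set.range i₀ = U₂ ∩ Set.range i₀ at h
    rw [hrange] at h
    exact Groth.Agent.Lib.lead.HensClopen.eq_of_inter_eq I HenselianRing.jac (fun y => f y)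
      f.isClosedMap U₁ U₂ hU₁ hU₂ h

end Groth.Agent.S17963
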