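import Groth.Statements.S17965
import Mathlib
import Groth.Agent.S17959
import Groth.Agent.Lib.Helper12.HCoupI
import Groth.Agent.Lib.Helper12.PairNoethB

set_option autoImplicit false
open CategoryTheory CategoryTheory.Limits AlgebraicGeometry
universe u
open Hensel

namespace Groth.Agent.S17965

/-- Let A be a Noetherian ring, I an ideal of A, f : X ⟶ Spec A a proper morphism, i : X₀ = X ×_{Spec A}
Spec (A/I) ⟶ X the first projection, and assume that (X, X₀) is a henselian couple (for every finite
morphism g : Y ⟶ X, every open-closed subset of Y ×_X X₀ is the inverse image under the first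
projection of exactly one open-closed subset of Y). Then (X, X₀) is proper over a henselian pair:
there exist a Noetherian ring A' with an ideal I' such that (A', I') is a henselian pair, a proper
morphism f' : X ⟶ Spec A' and a morphism t : X₀ ⟶ Spec (A'/I') such that the square formed by i, t,
f' and Spec (A'/I') ⟶ Spec A' is cartesian. (The published statement asserts only that X is proper
over some henselian pair; this row also asks the ring of that pair to be Noetherian, which holds for
the henselization of (A, I) that the proof uses.) -/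
theorem result
    (A : Type u) [CommRing A] [IsNoetherianRing A] (I : Ideal A) {X : Scheme.{u}}
    (f : X ⟶ Spec (CommRingCat.of A)) [IsProper f]
    (hX : ∀ (Y : Scheme.{u}) (g : Y ⟶ X), IsFinite g →
      ∀ V : Set ↥(pullback g (pullback.fst f (Spec.map (CommRingCat.ofHom (Ideal.Quotient.mk I))))), IsClopen V →
        ∃! U : Set ↥Y, IsClopen U ∧ (pullback.fst g (pullback.fst f (Spec.map (CommRingCat.ofHom (Ideal.Quotient.mk I))))).base ⁻¹' U = V) :
    ∃ (A' : Type u) (_ : CommRing A') (I' : Ideal A') (_ : HenselianRing A' I') (_ : IsNoetherianRing A')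
      (f' : X ⟶ Spec (CommRingCat.of A')) (_ : IsProper f')
      (t : pullback f (Spec.map (CommRingCat.ofHom (Ideal.Quotient.mk I))) ⟶ Spec (CommRingCat.of (A' ⧸ I'))),
      IsPullback (pullback.fst f (Spec.map (CommRingCat.ofHom (Ideal.Quotient.mk I)))) t f' (Spec.map (CommRingCat.ofHom (Ideal.Quotient.mk I'))) := by
  classical
  haveI hq : IsClosedImmersion (Spec.map (CommRingCat.ofHom (Ideal.Quotient.mk I))) :=
    IsClosedImmersion.spec_of_surjective _ Ideal.Quotient.mk_surjective
  haveI : CompactSpace ↥X := QuasiCompact.compactSpace_of_compactSpace f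
  haveI : QuasiSeparatedSpace ↥X := quasiSeparatedSpace_of_quasiSeparated f
  have hB := Groth.Agent.S17959.result
    (pullback.fst f (Spec.map (CommRingCat.ofHom (Ideal.Quotient.mk I)))) hX
  have hA' := Groth.Agent.Lib.Helper12.PairNbhd.Lim.isPairHenselization A I
  haveI : IsNoetherianRing (Groth.Agent.Lib.Helper12.PairNbhd.Lim A I) :=
    Groth.Agent.Lib.Helper12.PairNbhd.isNoetherianRing_of_isPairHenselization hA'
  let ψ : CommRingCat.of A ⟶ Γ(X, ⊤) := (Scheme.ΓSpecIso (CommRingCat.of A)).inv ≫ f.appTop
  have hfac : X.toSpecΓ ≫ Spec.map ψ = f := by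
    rw [Spec.map_comp, ← Category.assoc, ← Scheme.toSpecΓ_naturality, Category.assoc,
      toSpecΓ_SpecMap_ΓSpecIso_inv, Category.comp_id]
  have e1 : ψ ≫ (pullback.fst f (Spec.map (CommRingCat.ofHom (Ideal.Quotient.mk I)))).appTop =
      CommRingCat.ofHom (Ideal.Quotient.mk I) ≫ (Scheme.ΓSpecIso _).inv ≫
        (pullback.snd f (Spec.map (CommRingCat.ofHom (Ideal.Quotient.mk I)))).appTop := by
    simp only [ψ, Category.assoc]
    rw [← Scheme.Hom.comp_appTop, pullback.condition, Scheme.Hom.comp_appTop, ← Category.assoc,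
      ← Scheme.ΓSpecIso_inv_naturality, Category.assoc]
  have hle : I.map ψ.hom ≤ RingHom.ker (pullback.fst f
      (Spec.map (CommRingCat.ofHom (Ideal.Quotient.mk I)))).appTop.hom := by
    rw [Ideal.map_le_iff_le_comap]
    intro a ha
    rw [Ideal.mem_comap, RingHom.mem_ker]
    have := congrArg (fun φ => φ.hom a) e1
    simp only [CommRingCat.hom_comp, RingHom.coe_comp, Function.comp_apply,
      CommRingCat.hom_ofHom] at this
    rw [this, Ideal.Quotient.eq_zero_iff_mem.mpr ha, map_zero, map_zero]
  obtain ⟨g, hg, -⟩ := hA'.2 Γ(X, ⊤) _ ψ.hom hB hle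
  let f' : X ⟶ Spec (CommRingCat.of (Groth.Agent.Lib.Helper12.PairNbhd.Lim A I)) :=
    X.toSpecΓ ≫ Spec.map (CommRingCat.ofHom g)
  have hf' : f' ≫ Spec.map (CommRingCat.ofHom
      (algebraMap A (Groth.Agent.Lib.Helper12.PairNbhd.Lim A I))) = f := by
    rw [Category.assoc, ← Spec.map_comp, ← CommRingCat.ofHom_comp, hg]
    exact hfac
  haveI : IsProper f' := by
    haveI : IsProper (f' ≫ Spec.map (CommRingCat.ofHom
        (algebraMap A (Groth.Agent.Lib.Helper12.PairNbhd.Lim A I)))) := by
      rw [hf']; infer_instance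
    exact IsProper.of_comp f' (Spec.map (CommRingCat.ofHom
        (algebraMap A (Groth.Agent.Lib.Helper12.PairNbhd.Lim A I))))
  obtain ⟨t, ht⟩ := Groth.Agent.Lib.Helper12.HCoup.exists_isPullback_of_factor A I f
    (Groth.Agent.Lib.Helper12.PairNbhd.Lim A I) f' hf'
  exact ⟨Groth.Agent.Lib.Helper12.PairNbhd.Lim A I, inferInstance,
    I.map (algebraMap A (Groth.Agent.Lib.Helper12.PairNbhd.Lim A I)), hA'.1, inferInstance,
    f', inferInstance, t, ht⟩

end Groth.Agent.S17965
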