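import Groth.Statements.S17969
import Mathlib

set_option autoImplicit false
open scoped TensorProduct
universe u
open CAlg

namespace Groth.Agent.S17969

open Polynomial

/-- Let A be an integrally closed domain with fraction field K and B a commutative A-algebra which is
finite and torsion-free as an A-module and generated as an A-algebra by a single element x. Let P be
the characteristic polynomial of multiplication by 1 ⊗ x on the finite free K-module K ⊗_A B. Then P
has coefficients in A, namely P is the image of a monic polynomial over A, and the kernel of the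
A-algebra map A[T] → B sending T to x is generated by that polynomial, so that B is A[T]/(P). -/
theorem result
    (A : Type u) [CommRing A] [IsDomain A] [IsIntegrallyClosed A]
    (B : Type u) [CommRing B] [Algebra A B] [Module.Finite A B] [NoZeroSMulDivisors A B]
    (x : B) (hx : Algebra.adjoin A {x} = ⊤) :
    ∃ P : Polynomial A, P.Monic ∧
      Polynomial.map (algebraMap A (FractionRing A)) P =
        (LinearMap.mulLeft (FractionRing A) ((1 : FractionRing A) ⊗ₜ[A] x)).charpoly ∧
      RingHom.ker (Polynomial.aeval x).toRingHom = Ideal.span {P} := by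
  set K := FractionRing A with hK
  set y : K ⊗[A] B := (1 : K) ⊗ₜ[A] x with hy
  -- the inclusion B → K ⊗ B
  let ι : B →ₐ[A] K ⊗[A] B := Algebra.TensorProduct.includeRight
  have hιx : ι x = y := rfl
  have hιinj : Function.Injective ι := by
    rw [injective_iff_map_eq_zero]
    intro b hb
    have h1 : TensorProduct.mk A K B 1 b = 0 := hb
    rw [IsLocalizedModule.eq_zero_iff (nonZeroDivisors A)] at h1
    obtain ⟨s, hs⟩ := h1
    have hs0 : (s : A) ≠ 0 := nonZeroDivisors.ne_zero s.2
    rcases smul_eq_zero.mp hs with h | h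
    · exact absurd h hs0
    · exact h
  -- aeval y (G.map) = ι (aeval x G)
  have haeval : ∀ G : A[X], aeval y (G.map (algebraMap A K)) = ι (aeval x G) := by
    intro G
    rw [aeval_map_algebraMap, ← hιx, aeval_algHom_apply]
  -- y generates
  have hytop : Algebra.adjoin K {y} = ⊤ := by
    rw [eq_top_iff]
    intro z hz
    clear hz
    induction z using TensorProduct.induction_on with
    | zero => exact Subalgebra.zero_mem _
    | add z₁ z₂ h₁ h₂ => exact Subalgebra.add_mem _ h₁ h₂
    | tmul k b =>
      have hb : b ∈ Algebra.adjoin A {x} := by rw [hx]; exact Algebra.mem_top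
      have : (1 : K) ⊗ₜ[A] b ∈ Algebra.adjoin K {y} := by
        rw [Algebra.adjoin_singleton_eq_range_aeval] at hb
        obtain ⟨G, rfl⟩ := hb
        have h2 : (1 : K) ⊗ₜ[A] ((aeval x) G) = aeval y (G.map (algebraMap A K)) := by
          rw [haeval]; rfl
        have h3 : (1 : K) ⊗ₜ[A] ((aeval x).toRingHom G) = (1 : K) ⊗ₜ[A] ((aeval x) G) := rfl
        rw [h3, h2, Algebra.adjoin_singleton_eq_range_aeval]
        exact ⟨_, rfl⟩
      have h4 : k ⊗ₜ[A] b = k • ((1 : K) ⊗ₜ[A] b) := by
        rw [TensorProduct.smul_tmul', smul_eq_mul, mul_one]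
      rw [h4]
      exact Subalgebra.smul_mem _ this k
  have hyint : IsIntegral K y := Algebra.IsIntegral.isIntegral y
  -- power basis, charpoly = minpoly
  let pb : PowerBasis K (K ⊗[A] B) := PowerBasis.ofAdjoinEqTop hyint hytop
  have hpbgen : pb.gen = y := PowerBasis.ofAdjoinEqTop_gen hyint hytop
  have hchar : (LinearMap.mulLeft K y).charpoly = minpoly K y := by
    rw [← LinearMap.charpoly_toMatrix (LinearMap.mulLeft K y) pb.basis, Algebra.toMatrix_lmul_eq,
      ← hpbgen, charpoly_leftMulMatrix]
  -- integrality
  have hxint : IsIntegral A x := Algebra.IsIntegral.isIntegral x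
  have hFmonic : (minpoly A x).Monic := minpoly.monic hxint
  have hdvd : minpoly K y ∣ (minpoly A x).map (algebraMap A K) := by
    apply minpoly.dvd
    rw [haeval, minpoly.aeval, map_zero]
  obtain ⟨P₀, hP₀⟩ := IsIntegrallyClosed.eq_map_mul_C_of_dvd K hFmonic hdvd
  have hμmonic : (minpoly K y).Monic := minpoly.monic hyint
  rw [hμmonic.leadingCoeff, C_1, mul_one] at hP₀
  have hinjAK : Function.Injective (algebraMap A K) := IsFractionRing.injective A K
  have hP₀monic : P₀.Monic := monic_of_injective hinjAK (by rw [hP₀]; exact hμmonic)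
  refine ⟨P₀, hP₀monic, by rw [hP₀, hchar], ?_⟩
  -- P₀(x) = 0
  have hP₀x : aeval x P₀ = 0 := by
    apply hιinj
    rw [← haeval, hP₀, minpoly.aeval, map_zero]
  ext G
  rw [RingHom.mem_ker, Ideal.mem_span_singleton]
  show aeval x G = 0 ↔ _
  constructor
  · intro hG
    rw [← modByMonic_eq_zero_iff_dvd hP₀monic]
    have h1 : aeval x (G %ₘ P₀) = 0 := by
      have := modByMonic_add_div G P₀
      have h2 : aeval x G = aeval x (G %ₘ P₀) + aeval x (P₀ * (G /ₘ P₀)) := by
        rw [← map_add, this]
      rw [map_mul, hP₀x, zero_mul, add_zero] at h2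
      rw [← h2, hG]
    have h3 : minpoly K y ∣ (G %ₘ P₀).map (algebraMap A K) := by
      apply minpoly.dvd
      rw [haeval, h1, map_zero]
    have hdeg : ((G %ₘ P₀).map (algebraMap A K)).degree < (minpoly K y).degree := by
      rw [← hP₀, degree_map_eq_of_injective hinjAK, degree_map_eq_of_injective hinjAK]
      exact degree_modByMonic_lt G hP₀monic
    have h4 := eq_zero_of_dvd_of_degree_lt h3 hdeg
    exact (Polynomial.map_eq_zero_iff hinjAK).mp h4
  · rintro ⟨Q, rfl⟩
    rw [map_mul, hP₀x, zero_mul]

end Groth.Agent.S17969
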