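import Groth.Statements.S17971
import Mathlib
import Groth.Agent.S17959
import Groth.Agent.Lib.Helper12.HCoupG
import Groth.Agent.Lib.Helper12.HenselPairOps

set_option autoImplicit false
open CategoryTheory CategoryTheory.Limits AlgebraicGeometry
universe u
open Hensel

namespace Groth.Agent.S17971

/-- For a commutative ring A and an ideal I, the pair (A, I) is henselian if and only if the couple
(Spec A, Spec (A/I)) is henselian, i.e. if and only if for every finite morphism g : Y ⟶ Spec A
every open-closed subset of Y ×_{Spec A} Spec (A/I) is the inverse image under the first projection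
of exactly one open-closed subset of Y. -/
theorem result (A : Type u) [CommRing A] (I : Ideal A) :
    HenselianRing A I ↔
    ∀ (Y : Scheme.{u}) (g : Y ⟶ Spec (CommRingCat.of A)), IsFinite g →
      ∀ V : Set ↥(pullback g (Spec.map (CommRingCat.ofHom (Ideal.Quotient.mk I)))), IsClopen V →
        ∃! U : Set ↥Y, IsClopen U ∧ (pullback.fst g (Spec.map (CommRingCat.ofHom (Ideal.Quotient.mk I)))).base ⁻¹' U = V := by
  constructor
  · intro h Y g hg V hV
    haveI := h
    haveI := hg
    exact Groth.Agent.Lib.Helper12.HCoup.couple_spec A I Y g V hV
  · intro hX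
    haveI : IsClosedImmersion (Spec.map (CommRingCat.ofHom (Ideal.Quotient.mk I))) :=
      IsClosedImmersion.spec_of_surjective _ Ideal.Quotient.mk_surjective
    have h1 := Groth.Agent.S17959.result
      (Spec.map (CommRingCat.ofHom (Ideal.Quotient.mk I))) hX
    set i := Spec.map (CommRingCat.ofHom (Ideal.Quotient.mk I)) with hi
    let e : Γ(Spec (CommRingCat.of A), ⊤) ≃+* A :=
      (Scheme.ΓSpecIso (CommRingCat.of A)).commRingCatIsoToRingEquiv
    letI : Algebra Γ(Spec (CommRingCat.of A), ⊤) A := (e : _ →+* A).toAlgebra
    haveI : Algebra.IsIntegral Γ(Spec (CommRingCat.of A), ⊤) A :=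
      Algebra.isIntegral_of_surjective e.surjective
    haveI := h1
    have h2 := Groth.Agent.Lib.Helper12.henselianRing_map_of_isIntegral
      Γ(Spec (CommRingCat.of A), ⊤) (RingHom.ker i.appTop.hom) A
    have h3 : (RingHom.ker i.appTop.hom).map
        (algebraMap Γ(Spec (CommRingCat.of A), ⊤) A) = I := by
      have hcomap : RingHom.ker i.appTop.hom = I.comap (e : _ →+* A) := by
        ext x
        rw [RingHom.mem_ker, Ideal.mem_comap]
        have hnat := congrArg (fun φ => φ.hom x) (Scheme.ΓSpecIso_naturality
          (CommRingCat.ofHom (Ideal.Quotient.mk I)))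
        simp only [CommRingCat.hom_comp, RingHom.coe_comp, Function.comp_apply,
          CommRingCat.hom_ofHom] at hnat
        have hinj : Function.Injective (Scheme.ΓSpecIso (CommRingCat.of (A ⧸ I))).hom.hom :=
          (ConcreteCategory.bijective_of_isIso (Scheme.ΓSpecIso (CommRingCat.of (A ⧸ I))).hom).1
        constructor
        · intro hx
          rw [← Ideal.Quotient.eq_zero_iff_mem]
          refine Eq.trans hnat.symm ?_
          rw [hi] at hx
          rw [hx, map_zero]
        · intro hx
          apply hinj
          rw [map_zero, hi]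
          refine Eq.trans hnat ?_
          exact Ideal.Quotient.eq_zero_iff_mem.mpr hx
      rw [hcomap]
      exact Ideal.map_comap_of_surjective _ e.surjective I
    rw [h3] at h2
    exact h2

end Groth.Agent.S17971
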