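import Groth.Statements.S17973
import Groth.Agent.Lib.Helper12.EssEtaleStrict

set_option autoImplicit false
universe u
open EGA4loc

namespace Groth.Agent.S17973

/-- Let A be a local ring, B a local ring which is a local-etale A-algebra (isomorphic over A to the
localization of an etale A-algebra at a prime ideal lying over the maximal ideal of A), and C a
local-etale B-algebra, regarded as an A-algebra through B. Then C is a local-etale A-algebra. -/
theorem result (A : Type u) [CommRing A] [IsLocalRing A]
    (B : Type u) [CommRing B] [IsLocalRing B] [Algebra A B]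
    (C : Type u) [CommRing C] [Algebra B C] [Algebra A C] [IsScalarTower A B C]
    (hB : EGA4loc.IsEssentiallyEtale A B) (hC : EGA4loc.IsEssentiallyEtale B C) :
    EGA4loc.IsEssentiallyEtale A C := by
  open Groth.Agent.Lib.Helper12 Groth.Agent.Lib.Helper12.StrictStruct in
  haveI hAB : IsLocalHom (algebraMap A B) := isLocalHom_of_isEssentiallyEtale A B hB
  haveI hBC : IsLocalHom (algebraMap B C) := isLocalHom_of_isEssentiallyEtale B C hC
  haveI : IsLocalRing C := isLocalRing_of_isEssentiallyEtale B C hC
  let T := StrictHenselization A
  obtain ⟨ψB, hψB⟩ := exists_local_algHom A T B hB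
  letI : Algebra B T := ψB.toRingHom.toAlgebra
  haveI : IsScalarTower A B T := IsScalarTower.of_algebraMap_eq (fun a => (ψB.commutes a).symm)
  haveI : IsLocalHom (algebraMap B T) := ⟨fun x hx => hψB x hx⟩
  haveI : Hensel.IsStrictHenselization B T := isStrictHenselization_of_isEssentiallyEtale A T B hB
  obtain ⟨ψC, hψC⟩ := exists_local_algHom B T C hC
  have hinj : Function.Injective ψC := injective_of_isEssentiallyEtale B T C hC ψC hψC
  haveI := essFiniteType_of_isEssentiallyEtale hB
  haveI := formallyEtale_of_isEssentiallyEtale hB
  haveI := essFiniteType_of_isEssentiallyEtale hC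
  haveI := formallyEtale_of_isEssentiallyEtale hC
  haveI : Algebra.EssFiniteType A C := Algebra.EssFiniteType.comp A B C
  haveI : Algebra.FormallyUnramified A C := Algebra.FormallyUnramified.comp A B C
  exact isEssentiallyEtale_of_formallyUnramified A T C (ψC.restrictScalars A) hinj hψC

end Groth.Agent.S17973
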