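import Groth.Statements.S17974
import Mathlib.RingTheory.Unramified.Finite

set_option autoImplicit false
universe u
open Unram

namespace Groth.Agent.S17974

/-- Let A be a commutative ring, B an unramified A-algebra (formally unramified and of finite type), C
an A-algebra, p a prime ideal of C, and u, v : B → C two A-algebra homomorphisms which agree after
composition with C → C/p. Then there is an element f of C not in p such that u and v agree after
composition with the localization map C → C[1/f]. -/
theorem result
    (A : Type u) [CommRing A] (B : Type u) [CommRing B] [Algebra A B]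
    [Algebra.FormallyUnramified A B] [Algebra.FiniteType A B]
    (C : Type u) [CommRing C] [Algebra A C] (p : Ideal C) [p.IsPrime]
    (u v : B →ₐ[A] C)
    (huv : (Ideal.Quotient.mk p).comp u.toRingHom = (Ideal.Quotient.mk p).comp v.toRingHom) :
    ∃ f : C, f ∉ p ∧
      (algebraMap C (Localization.Away f)).comp u.toRingHom =
        (algebraMap C (Localization.Away f)).comp v.toRingHom := by
  classical
  obtain ⟨t, ht1, ht2⟩ := (Algebra.FormallyUnramified.iff_exists_tensorProduct (R := A) (S := B)).mp
    inferInstance
  let P : TensorProduct A B B →ₐ[A] C := Algebra.TensorProduct.productMap u v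
  have hP : ∀ a b : B, P (TensorProduct.tmul A a b) = u a * v b := fun a b =>
    Algebra.TensorProduct.productMap_apply_tmul u v a b
  have hw : ∀ b : B, (v b - u b) * P t = 0 := by
    intro b
    have := congrArg P (ht1 b)
    rw [map_mul, map_sub, hP, hP, map_zero, map_one, map_one, one_mul, mul_one] at this
    exact this
  have hmk : Ideal.Quotient.mk p (P t) = 1 := by
    have h1 : (Ideal.Quotient.mkₐ A p).comp P =
        (Ideal.Quotient.mkₐ A p).comp (u.comp (Algebra.TensorProduct.lmul' A)) := by
      apply Algebra.TensorProduct.ext'
      intro a b
      simp only [AlgHom.comp_apply, hP, Algebra.TensorProduct.lmul'_apply_tmul, map_mul]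
      have : Ideal.Quotient.mk p (u b) = Ideal.Quotient.mk p (v b) := RingHom.congr_fun huv b
      show _ * Ideal.Quotient.mk p (v b) = _ * Ideal.Quotient.mk p (u b)
      rw [this]
    have h2 := AlgHom.congr_fun h1 t
    simp only [AlgHom.comp_apply, ht2, map_one] at h2
    exact h2
  refine ⟨P t, ?_, ?_⟩
  · intro hmem
    have : Ideal.Quotient.mk p (P t) = 0 := Ideal.Quotient.eq_zero_iff_mem.mpr hmem
    rw [hmk] at this
    have hne : (1 : C ⧸ p) ≠ 0 := one_ne_zero
    exact hne this
  · apply RingHom.ext
    intro b
    simp only [RingHom.comp_apply]
    rw [IsLocalization.eq_iff_exists (Submonoid.powers (P t))]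
    refine ⟨⟨P t, Submonoid.mem_powers _⟩, ?_⟩
    have := hw b
    show P t * u b = P t * v b
    have h3 : P t * v b - P t * u b = 0 := by
      rw [← mul_sub, mul_comm]; exact this
    exact (sub_eq_zero.mp h3).symm

end Groth.Agent.S17974
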