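import Groth.Statements.S17978
import Groth.Agent.S17977
import Mathlib.RingTheory.Unramified.Basic
import Mathlib.RingTheory.Kaehler.Basic
import Mathlib.RingTheory.Ideal.IdempotentFG

set_option autoImplicit false
universe u
open EGA4loc

namespace Groth.Agent.S17978

/-- Let A be a local ring, B a local ring which is a local-etale A-algebra, and C a local ring with a
local structure map A → C. Then two A-algebra homomorphisms B → C which agree after composition with
the residue map of C are equal; in other words an A-algebra map B → C is determined by the map it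
induces on residue fields. (The source states this for local ind-etale B and reduces to the
local-etale case stated here; C is an arbitrary local A-algebra with local structure map.) -/
theorem result (A : Type u) [CommRing A] [IsLocalRing A]
    (B : Type u) [CommRing B] [IsLocalRing B] [Algebra A B] (hB : EGA4loc.IsEssentiallyEtale A B)
    (C : Type u) [CommRing C] [IsLocalRing C] [Algebra A C] [IsLocalHom (algebraMap A C)]
    (u v : B →ₐ[A] C)
    (h : (IsLocalRing.residue C).comp u.toRingHom = (IsLocalRing.residue C).comp v.toRingHom) :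
    u = v := by
  obtain ⟨hEss, hUnr, -⟩ := Groth.Agent.S17977.props A B hB
  open TensorProduct in
  obtain ⟨e, he, hsp⟩ : ∃ e, IsIdempotentElem e ∧
      KaehlerDifferential.ideal A B = Ideal.span {e} :=
    (Ideal.isIdempotentElem_iff_of_fg _ (KaehlerDifferential.ideal_fg A B)).mp <|
      (Ideal.cotangent_subsingleton_iff _).mp <| inferInstanceAs <| Subsingleton (Ω[B⁄A])
  let w : TensorProduct A B B →ₐ[A] C := Algebra.TensorProduct.productMap u v
  have hw : ∀ s : B, w ((1 : B) ⊗ₜ[A] s - s ⊗ₜ[A] (1 : B)) = v s - u s := by
    intro s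
    simp [w]
  -- `w` maps the ideal into the maximal ideal
  have hmap : ∀ x ∈ KaehlerDifferential.ideal A B, w x ∈ IsLocalRing.maximalIdeal C := by
    intro x hx
    rw [← KaehlerDifferential.span_range_eq_ideal] at hx
    have : Ideal.span (Set.range fun s : B => (1 : B) ⊗ₜ[A] s - s ⊗ₜ[A] (1 : B)) ≤
        (IsLocalRing.maximalIdeal C).comap w.toRingHom := by
      rw [Ideal.span_le]
      rintro _ ⟨s, rfl⟩
      change w ((1 : B) ⊗ₜ[A] s - s ⊗ₜ[A] (1 : B)) ∈ IsLocalRing.maximalIdeal C
      rw [hw, ← IsLocalRing.residue_eq_zero_iff, map_sub, sub_eq_zero]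
      exact (RingHom.congr_fun h s).symm
    exact this hx
  have hemem : e ∈ KaehlerDifferential.ideal A B := by
    rw [hsp]; exact Ideal.mem_span_singleton_self e
  have hε : w e = 0 := by
    have h1 : w e ∈ IsLocalRing.maximalIdeal C := hmap e hemem
    have h2 : IsUnit (1 - w e) := IsLocalRing.isUnit_one_sub_self_of_mem_nonunits _ h1
    have h3 : w e * (1 - w e) = 0 := by
      rw [mul_sub, mul_one, ← map_mul, he.eq, sub_self]
    exact (h2.mul_left_eq_zero).mp h3
  ext s
  have hs : (1 : B) ⊗ₜ[A] s - s ⊗ₜ[A] (1 : B) ∈ KaehlerDifferential.ideal A B :=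
    KaehlerDifferential.one_smul_sub_smul_one_mem_ideal A s
  rw [hsp, Ideal.mem_span_singleton] at hs
  obtain ⟨y, hy⟩ := hs
  have := hw s
  rw [hy, map_mul, hε, zero_mul] at this
  exact (sub_eq_zero.mp this.symm).symm

end Groth.Agent.S17978
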