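import Groth.Statements.S17979
import Mathlib.RingTheory.AdjoinRoot
import Mathlib.RingTheory.Jacobson.Ideal
import Mathlib.RingTheory.Ideal.GoingUp
import Mathlib.RingTheory.Polynomial.Basic
-- import your own Groth.Agent.* helpers here

set_option autoImplicit false
universe u
open Hensel

namespace Groth.Agent.S17979

/-- Let A be a local ring with residue field k and Q, R polynomials over A with Q monic. If the images
of Q and R in k[T] generate the unit ideal, then Q and R already generate the unit ideal of A[T]. -/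
theorem result (A : Type u) [CommRing A] [IsLocalRing A]
    (Q R : Polynomial A) (hQ : Q.Monic)
    (h : IsCoprime (Polynomial.map (IsLocalRing.residue A) Q) (Polynomial.map (IsLocalRing.residue A) R)) :
    IsCoprime Q R := by
  classical
  obtain ⟨a, b, hab⟩ := h
  obtain ⟨S, rfl⟩ := Polynomial.map_surjective _ IsLocalRing.residue_surjective a
  obtain ⟨T, rfl⟩ := Polynomial.map_surjective _ IsLocalRing.residue_surjective b
  set m := IsLocalRing.maximalIdeal A with hm
  -- the error term
  set E : Polynomial A := 1 - (S * Q + T * R) with hE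
  have hEmap : Polynomial.map (IsLocalRing.residue A) E = 0 := by
    rw [hE, Polynomial.map_sub, Polynomial.map_add, Polynomial.map_mul, Polynomial.map_mul,
      Polynomial.map_one, hab, sub_self]
  have hEmem : E ∈ Ideal.map (Polynomial.C : A →+* Polynomial A) m := by
    rw [Ideal.mem_map_C_iff]
    intro n
    have := congrArg (fun p => Polynomial.coeff p n) hEmap
    simp only [Polynomial.coeff_map, Polynomial.coeff_zero] at this
    exact (IsLocalRing.residue_eq_zero_iff _).mp this
  have : Module.Finite A (AdjoinRoot Q) := hQ.finite_adjoinRoot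
  have hint : Algebra.IsIntegral A (AdjoinRoot Q) := inferInstance
  have hjac : Ideal.map (algebraMap A (AdjoinRoot Q)) m ≤ Ideal.jacobson ⊥ := by
    rw [Ideal.jacobson, le_sInf_iff]
    rintro M ⟨-, hM⟩
    have hM' : (M.comap (algebraMap A (AdjoinRoot Q))).IsMaximal :=
      Ideal.isMaximal_comap_of_isIntegral_of_isMaximal M
    rw [Ideal.map_le_iff_le_comap, hm, ← IsLocalRing.eq_maximalIdeal hM']
  have hεmem : AdjoinRoot.mk Q E ∈ Ideal.map (algebraMap A (AdjoinRoot Q)) m := by
    have hle : Ideal.map (Polynomial.C : A →+* Polynomial A) m ≤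
        (Ideal.map (algebraMap A (AdjoinRoot Q)) m).comap (AdjoinRoot.mk Q) := by
      rw [Ideal.map_le_iff_le_comap]
      intro x hx
      rw [Ideal.mem_comap, Ideal.mem_comap, AdjoinRoot.mk_C]
      exact Ideal.mem_map_of_mem _ hx
    exact hle hEmem
  have hunit : IsUnit (AdjoinRoot.mk Q T * AdjoinRoot.mk Q R) := by
    have h1 : AdjoinRoot.mk Q T * AdjoinRoot.mk Q R = AdjoinRoot.mk Q E * (-1) + 1 := by
      rw [hE, map_sub, map_add, map_mul, map_mul, AdjoinRoot.mk_self, map_one]
      ring
    rw [h1]
    exact Ideal.mem_jacobson_bot.mp (hjac hεmem) (-1)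
  have hunitR : IsUnit (AdjoinRoot.mk Q R) := isUnit_of_mul_isUnit_right hunit
  obtain ⟨s', hs'⟩ := hunitR.exists_right_inv
  obtain ⟨S', rfl⟩ := AdjoinRoot.mk_surjective s'
  have hdiv : Q ∣ R * S' - 1 := by
    rw [← AdjoinRoot.mk_eq_zero, map_sub, map_mul, hs', map_one, sub_self]
  obtain ⟨W, hW⟩ := hdiv
  refine ⟨-W, S', ?_⟩
  linear_combination hW

end Groth.Agent.S17979
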