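import Groth.Statements.S1798
import Groth.Prelude.Def_Canon
import Groth.Agent.Lib.Helper2.HomExt2
import Groth.Agent.Lib.Helper29.FreeIso4

set_option autoImplicit false
universe u
open CategoryTheory AlgebraicGeometry
open LocCoh

namespace Groth.Agent.S1798

section Helpers

open CategoryTheory CategoryTheory.Limits AlgebraicGeometry Opposite TopologicalSpace
open Groth.Agent.Lib.Helper28 Groth.Agent.Lib.Helper28.QCohLoc Groth.Agent.Lib.Helper17.Frame
open Groth.Agent.Lib.Helper2.HomExt

variable {X : Scheme.{u}}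

/-- a frame restricts to a frame on a smaller open -/
lemma isFrame_mono {L : X.Modules} {U W : X.Opens} {n : ℕ} {γ : Fin n → Γ(L, U)}
    (hγ : IsFrame L U γ) (hW : W ≤ U) : IsFrame L W (fun j => res L hW (γ j)) := by
  intro W' hW'
  have h := hγ W' (hW'.trans hW)
  have e : (fun c : Fin n → Γ(X, W') => (∑ j, c j • res L hW' (res L hW (γ j)) : Γ(L, W'))) =
      (fun c : Fin n → Γ(X, W') => (∑ j, c j • res L (hW'.trans hW) (γ j) : Γ(L, W'))) := by
    funext c
    refine Finset.sum_congr rfl fun j _ => ?_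
    rw [res_res]
  rw [e]
  exact h

/-- a finite locally free module on a quasi-compact scheme has a finite framed cover -/
lemma exists_framedCover [CompactSpace X] (F : X.Modules) (hF : FlatMod.IsFinLocFree F) :
    Nonempty (FramedCover F) := by
  classical
  -- framed affine neighbourhoods
  have h1 : ∀ x : X, ∃ (W : X.Opens) (n : ℕ) (δ : Fin n → Γ(F, W)),
      x ∈ W ∧ IsCompact (W : Set X) ∧ IsFrame F W δ := by
    intro x
    obtain ⟨U, n, hxU, ⟨e⟩⟩ := hF x
    obtain ⟨γ, hγ⟩ := exists_isFrame_of_iso F U n e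
    obtain ⟨_, ⟨W, hW, rfl⟩, hxW, hWU⟩ :=
      X.isBasis_affineOpens.exists_subset_of_mem_open hxU U.2
    exact ⟨W, n, fun j => res F hWU (γ j), hxW, hW.isCompact, isFrame_mono hγ hWU⟩
  choose W n δ hxW hWc hδ using h1
  obtain ⟨t, ht⟩ := isCompact_univ.elim_finite_subcover (fun x : X => (W x : Set X))
    (fun x => (W x).2) (fun x _ => Set.mem_iUnion.2 ⟨x, hxW x⟩)
  let e := t.equivFin
  refine ⟨{ ι := Fin t.card
            fin := inferInstance
            W := fun i => W (e.symm i).1
            compact := fun i => hWc _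
            cov := ?_
            n := fun i => n (e.symm i).1
            δ := fun i => δ (e.symm i).1
            frame := fun i => hδ _ }⟩
  intro x
  have hx := ht (Set.mem_univ x)
  simp only [Set.mem_iUnion] at hx
  obtain ⟨y, hy, hxy⟩ := hx
  refine ⟨e ⟨y, hy⟩, ?_⟩
  rw [Equiv.symm_apply_apply]
  exact hxy

/-- multiplication by a global function on the underlying abelian sheaf -/
lemma toSheaf_map_smulHom (M : X.Modules) (s : Γ(X, ⊤)) :
    (SheafOfModules.toSheaf X.ringCatSheaf).map (smulHom M s) = Coh.smulAb M s := by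
  ext U m
  exact (smulHom_app M s U.unop m).trans rfl

/-- **local step**: if `F` is free over `X_g`, `g` the image of `f`, a power of `f` times `J^n` kills
`H^p(X, F)`. -/
lemma exists_pow_mul_smul_eq_zero (A : Type u) [CommRing A] [X.Over (Spec (CommRingCat.of A))]
    [CompactSpace X] [QuasiSeparatedSpace X] (F : X.Modules) (hF : FlatMod.IsFinLocFree F)
    (J : Ideal A) (p n : ℕ)
    (hO : ∀ a ∈ J ^ n, ∀ x : Coh.HH X (Coh.structureModule X) p, a • x = 0)
    (f : A) (g : Γ(X, ⊤)) (hg : g = Coh.toGlobal (X ↘ Spec (CommRingCat.of A)) f) {r : ℕ}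
    (γ : Fin r → Γ(F, X.basicOpen g)) (hγ : IsFrame F (X.basicOpen g) γ) :
    ∃ N : ℕ, ∀ c ∈ J ^ n, ∀ x : Coh.HH X F p, (f ^ N * c) • x = 0 := by
  haveI : F.IsQuasicoherent :=
    Groth.Agent.Lib.Helper29.FreeIso.isQuasicoherent_of_isFinLocFree F hF
  obtain ⟨C⟩ := exists_framedCover F hF
  obtain ⟨N, a, b, hab⟩ := exists_factorization C g γ hγ
  have hsum : ∑ j, b j ≫ a j = smulHom F (g ^ N) := by
    apply Scheme.Modules.hom_ext
    intro V
    ext x
    refine (sum_app Finset.univ (fun j => b j ≫ a j) V x).trans ?_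
    rw [smulHom_app, gOn_pow, ← hab V x]
    rfl
  refine ⟨N, fun c hc x => ?_⟩
  rw [mul_smul]
  set z : Coh.HH X F p := c • x with hz
  -- `f^N • z` through the factorisation
  have h1 : (f ^ N) • z = Sheaf.H.map (Coh.smulAb F (g ^ N)) p z := by
    change Sheaf.H.map (Coh.smulAb F (Coh.toGlobal (X ↘ Spec (CommRingCat.of A)) (f ^ N))) p z = _
    rw [map_pow, hg]
    rfl
  rw [h1, ← toSheaf_map_smulHom, ← hsum]
  have h2 : ∀ (s : Finset (Fin r)),
      Sheaf.H.map ((SheafOfModules.toSheaf X.ringCatSheaf).map (∑ j ∈ s, b j ≫ a j)) p z = 0 := by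
    intro s
    induction s using Finset.induction_on with
    | empty =>
      rw [Finset.sum_empty, Functor.map_zero]
      change ((Sheaf.functorH _ p).map (0 : Coh.toAb F ⟶ Coh.toAb F)).hom z = 0
      rw [Functor.map_zero]
      rfl
    | insert j s hj ih =>
      rw [Finset.sum_insert hj, Functor.map_add, Sheaf.H.map_add_apply, ih, add_zero,
        Functor.map_comp, Sheaf.H.map_comp_apply]
      have h3 : Sheaf.H.map ((SheafOfModules.toSheaf X.ringCatSheaf).map (b j)) p z = 0 := by
        have h4 := (Canon.HHlin A (b j) p).map_smul c x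
        have h5 : (Canon.HHlin A (b j) p) (c • x) =
            Sheaf.H.map ((SheafOfModules.toSheaf X.ringCatSheaf).map (b j)) p z := rfl
        rw [← h5, h4]
        exact hO c hc _
      rw [h3, map_zero]
  exact h2 Finset.univ

end Helpers


/-- Let A be a ring, J ⊆ I finitely generated ideals, U the open complement of V(I) in Spec A and p ≥ 0.
If some power of J kills H^p(U, O_U), then for each finite locally free O_U-module F some power of J
kills H^p(U, F). -/
theorem result (A : Type u) [CommRing A] (J I : Ideal A) (hJI : J ≤ I) (hJ : J.FG) (hI : I.FG) (p n : ℕ) (hO : ∀ a ∈ J ^ n, ∀ x : Coh.HH (↑(LocCoh.puncturedOpen A I)) (Coh.structureModule (↑(LocCoh.puncturedOpen A I))) p, a • x = 0) (F : (↑(LocCoh.puncturedOpen A I) : Scheme.{u}).Modules) (hF : FlatMod.IsFinLocFree F) : ∃ m : ℕ, ∀ a ∈ J ^ m, ∀ x : Coh.HH (↑(LocCoh.puncturedOpen A I)) F p, a • x = 0 := by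
  classical
  haveI : CompactSpace (↑(LocCoh.puncturedOpen A I) : Scheme.{u}) := by
    have h : IsCompact ((LocCoh.puncturedOpen A I) : Set (Spec (CommRingCat.of A))) :=
      (PrimeSpectrum.isCompact_isOpen_iff_ideal.2 ⟨I, hI, rfl⟩).1
    exact isCompact_iff_compactSpace.1 h
  haveI : QuasiSeparatedSpace (↑(LocCoh.puncturedOpen A I) : Scheme.{u}) := quasiSeparatedSpace_of_quasiSeparated (LocCoh.puncturedOpen A I).ι
  -- the colon ideal
  let 𝔞 : Ideal A := Module.annihilator A (Coh.HH (↑(LocCoh.puncturedOpen A I)) F p)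
  let 𝔠 : Ideal A := Submodule.colon 𝔞 ((J ^ n : Ideal A) : Set A)
  have key : I ≤ 𝔠.radical := by
    rw [Ideal.radical_eq_sInf]
    refine le_sInf ?_
    rintro P ⟨hcP, hP⟩
    by_contra hIP
    -- the point of `(LocCoh.puncturedOpen A I)` defined by `P`
    let u₀ : PrimeSpectrum A := ⟨P, hP⟩
    have hu₀ : u₀ ∈ (LocCoh.puncturedOpen A I) := by
      change u₀ ∈ (PrimeSpectrum.zeroLocus (I : Set A))ᶜ
      rw [Set.mem_compl_iff, PrimeSpectrum.mem_zeroLocus]
      exact hIP
    let u : (↑(LocCoh.puncturedOpen A I) : Scheme.{u}) := ⟨u₀, hu₀⟩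
    obtain ⟨U', r, huU', ⟨e⟩⟩ := hF u
    obtain ⟨γ, hγ⟩ := Groth.Agent.Lib.Helper17.Frame.exists_isFrame_of_iso F U' r e
    -- a basic open around `u₀` inside the image of `U'`
    have hmem : u₀ ∈ ((LocCoh.puncturedOpen A I).ι ''ᵁ U' : (Spec (CommRingCat.of A)).Opens) := ⟨u, huU', rfl⟩
    obtain ⟨_, ⟨_, ⟨f, rfl⟩, rfl⟩, hu₀f, hfU'⟩ :=
      PrimeSpectrum.isBasis_basic_opens.exists_subset_of_mem_open hmem ((LocCoh.puncturedOpen A I).ι ''ᵁ U').2
    let g : Γ((↑(LocCoh.puncturedOpen A I) : Scheme.{u}), ⊤) := Coh.toGlobal (LocCoh.puncturedOpen A I).ι f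
    have hgle : (↑(LocCoh.puncturedOpen A I) : Scheme.{u}).basicOpen g ≤ U' := by
      have h1 : (↑(LocCoh.puncturedOpen A I) : Scheme.{u}).basicOpen g =
          (LocCoh.puncturedOpen A I).ι ⁻¹ᵁ (PrimeSpectrum.basicOpen f) := by
        rw [← basicOpen_eq_of_affine (R := CommRingCat.of A) f, Scheme.preimage_basicOpen_top]
        rfl
      rw [h1]
      intro y hy
      obtain ⟨y', hy', hyy'⟩ := hfU' hy
      have : y' = y := (LocCoh.puncturedOpen A I).ι.isOpenEmbedding.injective hyy'
      rw [← this]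
      exact hy'
    obtain ⟨N, hN⟩ := exists_pow_mul_smul_eq_zero A F hF J p n hO f g rfl
      (fun j => Groth.Agent.Lib.Helper28.QCohLoc.res F hgle (γ j)) (isFrame_mono hγ hgle)
    have hfc : f ^ N ∈ 𝔠 := by
      rw [Submodule.mem_colon]
      intro c hc
      rw [Module.mem_annihilator]
      intro x
      exact hN c hc x
    have hfP : f ∈ P := hP.mem_of_pow_mem N (hcP hfc)
    exact hu₀f hfP
  obtain ⟨M, hM⟩ := Ideal.exists_pow_le_of_le_radical_of_fg key hI
  refine ⟨M + n, fun a ha x => ?_⟩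
  have ha' : a ∈ 𝔞 := by
    rw [pow_add] at ha
    refine Ideal.mul_le.2 ?_ ha
    intro r hr s hs
    have hr' : r ∈ 𝔠 := hM (Ideal.pow_right_mono hJI M hr)
    exact Submodule.mem_colon.1 hr' s hs
  exact Module.mem_annihilator.1 ha' x

end Groth.Agent.S1798
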