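import Groth.Statements.S17980
import Groth.Agent.Lib.Helper12.CoprimeLift

set_option autoImplicit false
universe u
open Hensel

namespace Groth.Agent.S17980

/-- Let A be a local ring with residue field k, and let Q R = U V be two factorizations of one
polynomial over A with Q and U monic, such that Q and U have the same image in k[T], R and V have
the same image in k[T], and the images of Q and R in k[T] generate the unit ideal. Then Q = U and R
= V. -/
theorem result (A : Type u) [CommRing A] [IsLocalRing A]
    (Q R U V : Polynomial A) (hQ : Q.Monic) (hU : U.Monic)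
    (hQU : Polynomial.map (IsLocalRing.residue A) Q = Polynomial.map (IsLocalRing.residue A) U)
    (hRV : Polynomial.map (IsLocalRing.residue A) R = Polynomial.map (IsLocalRing.residue A) V)
    (hcop : IsCoprime (Polynomial.map (IsLocalRing.residue A) Q) (Polynomial.map (IsLocalRing.residue A) R))
    (h : Q * R = U * V) : Q = U ∧ R = V := by
  open Polynomial in
  have hjac : IsLocalRing.maximalIdeal A ≤ Ideal.jacobson ⊥ :=
    IsLocalRing.maximalIdeal_le_jacobson ⊥
  have hres : ∀ p : A[X], p.map (IsLocalRing.residue A) =
      p.map (Ideal.Quotient.mk (IsLocalRing.maximalIdeal A)) := fun p => rfl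
  have hcop' : IsCoprime Q V := by
    apply Groth.Agent.Lib.Helper12.isCoprime_of_isCoprime_map_mk_of_monic hjac hQ
    rw [← hres, ← hres, ← hRV]
    exact hcop
  have hdvd : Q ∣ U := by
    apply hcop'.dvd_of_dvd_mul_right
    exact ⟨R, h.symm⟩
  have hdeg : Q.natDegree = U.natDegree := by
    rw [← hQ.natDegree_map (IsLocalRing.residue A), ← hU.natDegree_map (IsLocalRing.residue A), hQU]
  have hQU' : Q = U := by
    obtain ⟨c, hc⟩ := hdvd
    have hcm : c.Monic := by
      have := hU
      rw [hc] at this
      exact hQ.of_mul_monic_left this
    have hcdeg : c.natDegree = 0 := by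
      have := congrArg natDegree hc
      rw [hQ.natDegree_mul hcm] at this
      omega
    rw [hc, eq_one_of_monic_natDegree_zero hcm hcdeg, mul_one]
  refine ⟨hQU', ?_⟩
  rw [← hQU'] at h
  exact hQ.isRegular.left h

end Groth.Agent.S17980
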