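import Groth.Statements.S17981
import Mathlib.RingTheory.Ideal.GoingUp
import Mathlib.RingTheory.IntegralClosure.IsIntegralClosure.Basic
-- import your own Groth.Agent.* helpers here

set_option autoImplicit false
universe u
open Hensel

namespace Groth.Agent.S17981

/-- Let A be a commutative ring, I an ideal contained in the Jacobson radical of A, and B a commutative
A-algebra which is finitely generated as an A-module. Then two idempotents of B with the same image
in B/IB are equal. -/
theorem result (A : Type u) [CommRing A] (I : Ideal A)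
    (hI : I ≤ Ideal.jacobson ⊥) (B : Type u) [CommRing B] [Algebra A B] [Module.Finite A B] :
    Set.InjOn (Ideal.Quotient.mk (Ideal.map (algebraMap A B) I)) {e : B | IsIdempotentElem e} := by
  have hint : Algebra.IsIntegral A B := inferInstance
  have hIB : Ideal.map (algebraMap A B) I ≤ Ideal.jacobson ⊥ := by
    rw [Ideal.jacobson, le_sInf_iff]
    rintro M ⟨-, hM⟩
    have hmax : (M.comap (algebraMap A B)).IsMaximal :=
      Ideal.isMaximal_comap_of_isIntegral_of_isMaximal M
    rw [Ideal.map_le_iff_le_comap]
    exact hI.trans (sInf_le ⟨bot_le, hmax⟩)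
  intro e he e' he' heq
  have hx : e - e' ∈ Ideal.map (algebraMap A B) I := Ideal.Quotient.eq.mp heq
  have hxj := hIB hx
  have he2 : e * e = e := he
  have he'2 : e' * e' = e' := he'
  have hcube : (e - e') * (1 - (e - e') * (e - e')) = 0 := by
    have : (e - e') * (1 - (e - e') * (e - e')) =
        (e - e') - (e * e * e - 3 * (e * e) * e' + 3 * e * (e' * e') - e' * e' * e') := by ring
    rw [this, he2, he2, he'2, he'2]
    have h3 : e - e' - (e - 3 * e * e' + 3 * e * e' - e') = 0 := by ring
    exact h3
  have hunit : IsUnit (1 - (e - e') * (e - e')) := by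
    have h1 : -(e - e') * (e - e') ∈ Ideal.jacobson (⊥ : Ideal B) :=
      Ideal.mul_mem_right _ _ ((Ideal.neg_mem_iff _).mpr hxj)
    have := (Ideal.mem_jacobson_bot.mp h1) 1
    have e3 : -(e - e') * (e - e') * 1 + 1 = 1 - (e - e') * (e - e') := by ring
    rwa [e3] at this
  have := (hunit.mul_left_eq_zero).mp hcube
  exact sub_eq_zero.mp this

end Groth.Agent.S17981
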