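import Groth.Statements.S17982
import Mathlib.RingTheory.Spectrum.Maximal.Localization
import Mathlib.RingTheory.Spectrum.Prime.RingHom

set_option autoImplicit false
universe u
open Hensel

namespace Groth.Agent.S17982

section aux

open MaximalSpectrum in
private theorem pi_surj {ι : Type u} [Finite ι] (C : ι → Type u) [∀ j, CommRing (C j)]
    [∀ j, IsLocalRing (C j)] : Function.Surjective (toPiLocalization (∀ j, C j)) := by
  intro y
  -- the maximal ideals n_j
  have hmax : ∀ j, (Ideal.comap (Pi.evalRingHom C j) (IsLocalRing.maximalIdeal (C j))).IsMaximal :=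
    fun j => Ideal.comap_isMaximal_of_surjective _ (Function.surjective_eval j)
  -- surjectivity of C j → Localization at max ideal
  have hsurj : ∀ j, Function.Surjective
      (algebraMap (C j) (Localization.AtPrime (IsLocalRing.maximalIdeal (C j)))) := by
    intro j z
    have H : (IsLocalRing.maximalIdeal (C j)).primeCompl ≤ IsUnit.submonoid (C j) := by
      intro x hx
      exact IsLocalRing.notMem_maximalIdeal.1 hx
    obtain ⟨x, hx⟩ := (IsLocalization.atUnits (C j) (IsLocalRing.maximalIdeal (C j)).primeCompl
      (S := Localization.AtPrime (IsLocalRing.maximalIdeal (C j))) H).surjective z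
    exact ⟨x, by rw [← hx]; exact ((IsLocalization.atUnits (C j) _ H).commutes x).symm⟩
  choose r hr using fun j => hsurj j
    (Localization.AtPrime.mapPiEvalRingHom (IsLocalRing.maximalIdeal (C j)) (y ⟨_, hmax j⟩))
  refine ⟨r, funext fun n => ?_⟩
  obtain ⟨n, hn⟩ := n
  obtain ⟨j, q, hq⟩ := PrimeSpectrum.exists_comap_evalRingHom_eq (⟨n, hn.isPrime⟩ : PrimeSpectrum (∀ j, C j))
  have hq' : Ideal.comap (Pi.evalRingHom C j) q.asIdeal = n := congrArg PrimeSpectrum.asIdeal hq
  have hqm : q.asIdeal = IsLocalRing.maximalIdeal (C j) := by
    have hle : q.asIdeal ≤ IsLocalRing.maximalIdeal (C j) := IsLocalRing.le_maximalIdeal q.2.ne_top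
    have h1 : n ≤ Ideal.comap (Pi.evalRingHom C j) (IsLocalRing.maximalIdeal (C j)) := by
      rw [← hq']; exact Ideal.comap_mono hle
    have h2 := hn.eq_of_le (hmax j).ne_top h1
    rw [← hq'] at h2
    exact Ideal.comap_injective_of_surjective _ (Function.surjective_eval j) h2
  subst hq'
  rw [toPiLocalization_apply_apply]
  have key : ∀ (I : Ideal (C j)) (hI : I.IsPrime) (hIm : I = IsLocalRing.maximalIdeal (C j))
      (hImax : (Ideal.comap (Pi.evalRingHom C j) I).IsMaximal),
      algebraMap (∀ j, C j) (Localization.AtPrime (Ideal.comap (Pi.evalRingHom C j) I)) r =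
        y ⟨_, hImax⟩ := by
    intro I hI hIm hImax
    subst hIm
    apply (Localization.AtPrime.mapPiEvalRingHom_bijective (IsLocalRing.maximalIdeal (C j))).1
    rw [Localization.AtPrime.mapPiEvalRingHom_algebraMap_apply, hr]
  exact key q.asIdeal q.2 hqm hn

end aux

/-- Let A be a local ring and B a commutative A-algebra which is finitely generated as an A-module. Then
B is ring-isomorphic to a finite product of local rings if and only if the canonical homomorphism
from B to the product of the localizations of B at its maximal ideals is bijective. -/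
theorem result
    (A : Type u) [CommRing A] [IsLocalRing A] (B : Type u) [CommRing B] [Algebra A B] [Module.Finite A B] :
    (∃ (ι : Type u) (_ : Fintype ι) (C : ι → Type u) (_ : ∀ j, CommRing (C j)),
        (∀ j, IsLocalRing (C j)) ∧ Nonempty (B ≃+* (∀ j, C j))) ↔
    Function.Bijective
      (RingHom.pi (fun n : MaximalSpectrum B => algebraMap B (Localization.AtPrime n.asIdeal))) := by
  have hfun : ⇑(RingHom.pi (fun n : MaximalSpectrum B => algebraMap B (Localization.AtPrime n.asIdeal))) =
      ⇑(MaximalSpectrum.toPiLocalization B) := by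
    funext b; rfl
  rw [hfun]
  constructor
  · rintro ⟨ι, hι, C, hC, hloc, ⟨e⟩⟩
    have hsurj := pi_surj C
    have hbij : Function.Bijective (MaximalSpectrum.toPiLocalization (∀ j, C j)) :=
      ⟨MaximalSpectrum.toPiLocalization_injective _, hsurj⟩
    have hnat := MaximalSpectrum.mapPiLocalization_naturality (e : B →+* (∀ j, C j)) e.bijective
    have h1 : Function.Bijective ((MaximalSpectrum.mapPiLocalization (e : B →+* (∀ j, C j)) e.bijective) ∘
        (MaximalSpectrum.toPiLocalization B)) := by
      have : ((MaximalSpectrum.mapPiLocalization (e : B →+* (∀ j, C j)) e.bijective) ∘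
        (MaximalSpectrum.toPiLocalization B)) = (MaximalSpectrum.toPiLocalization (∀ j, C j)) ∘ e := by
        funext b
        exact congrArg (fun f => f b) hnat
      rw [this]
      exact hbij.comp e.bijective
    exact (Function.Bijective.of_comp_iff' (MaximalSpectrum.mapPiLocalization_bijective _ e.bijective) _).1 h1
  · intro h
    have hfin : Finite (MaximalSpectrum B) := MaximalSpectrum.finite_of_toPiLocalization_surjective h.2
    refine ⟨MaximalSpectrum B, Fintype.ofFinite _, fun n => Localization.AtPrime n.asIdeal,
      fun n => inferInstance, fun n => inferInstance, ⟨RingEquiv.ofBijective (MaximalSpectrum.toPiLocalization B) h⟩⟩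

end Groth.Agent.S17982
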