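import Groth.Statements.S17983
import Mathlib

set_option autoImplicit false
universe u
open WeilNum

namespace Groth.Agent.S17983

section Aux

open Polynomial

/-- the scaled reverse polynomial `x^n P(q/x)` -/
noncomputable def star (P : ℤ[X]) (q : ℤ) : ℤ[X] :=
  ∑ j ∈ Finset.range (P.natDegree + 1), C (P.coeff j * q ^ j) * X ^ (P.natDegree - j)

lemma star_coeff (P : ℤ[X]) (q : ℤ) (j : ℕ) (hj : j ≤ P.natDegree) :
    (star P q).coeff (P.natDegree - j) = P.coeff j * q ^ j := by
  unfold star
  rw [finsetSum_coeff]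
  simp only [coeff_C_mul_X_pow]
  rw [Finset.sum_eq_single j]
  · simp
  · intro i hi hij
    rw [if_neg]
    intro h
    have := Finset.mem_range.mp hi
    omega
  · intro h
    exact absurd (Finset.mem_range.mpr (by omega)) h

lemma star_coeff_of_ge (P : ℤ[X]) (q : ℤ) (m : ℕ) (hm : P.natDegree < m) :
    (star P q).coeff m = 0 := by
  unfold star
  rw [finsetSum_coeff]
  apply Finset.sum_eq_zero
  intro i _
  rw [coeff_C_mul_X_pow, if_neg]
  omega

lemma eval_star (P : ℤ[X]) (q : ℤ) (z w : ℂ) (hzw : z * w = (q : ℂ))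
    (hw : eval₂ (Int.castRingHom ℂ) w P = 0) :
    eval₂ (Int.castRingHom ℂ) z (star P q) = 0 := by
  unfold star
  rw [eval₂_finsetSum]
  have : ∀ j ∈ Finset.range (P.natDegree + 1),
      eval₂ (Int.castRingHom ℂ) z (C (P.coeff j * q ^ j) * X ^ (P.natDegree - j))
        = z ^ P.natDegree * ((P.coeff j : ℂ) * w ^ j) := by
    intro j hj
    have hj' : j ≤ P.natDegree := by have := Finset.mem_range.mp hj; omega
    rw [eval₂_mul, eval₂_C, eval₂_X_pow]
    simp only [eq_intCast, Int.cast_mul, Int.cast_pow]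
    rw [← hzw]
    calc (P.coeff j : ℂ) * (z * w) ^ j * z ^ (P.natDegree - j)
        = (P.coeff j : ℂ) * w ^ j * (z ^ j * z ^ (P.natDegree - j)) := by ring
      _ = (P.coeff j : ℂ) * w ^ j * z ^ P.natDegree := by
          rw [← pow_add, Nat.add_sub_cancel' hj']
      _ = _ := by ring
  rw [Finset.sum_congr rfl this, ← Finset.mul_sum]
  rw [eval₂_eq_sum_range] at hw
  simp only [eq_intCast] at hw
  rw [hw, mul_zero]

lemma eval₂_conj (P : ℤ[X]) (z : ℂ) :
    eval₂ (Int.castRingHom ℂ) ((starRingEnd ℂ) z) P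
      = (starRingEnd ℂ) (eval₂ (Int.castRingHom ℂ) z P) := by
  rw [hom_eval₂]
  congr 1
  exact RingHom.ext_int _ _

lemma natDegree_lt_of_coeff (D : ℤ[X]) (n : ℕ) (hn : 0 < n) (h : ∀ m, n ≤ m → D.coeff m = 0) :
    D.natDegree < n := by
  by_contra hlt
  rw [not_lt] at hlt
  have h1 := h _ hlt
  have : D = 0 := leadingCoeff_eq_zero.mp h1
  rw [this, natDegree_zero] at hlt
  omega

theorem main (p e : ℕ) [Fact p.Prime] (he : 0 < e)
    (K : Type u) [Field K] [CharZero K] (π : K) (hπ : IsIntegral ℤ π)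
    (hweil : ∀ z ∈ (minpoly ℤ π).aroots ℂ, ‖z‖ = Real.sqrt ((p : ℝ) ^ e))
    (hnr : ∀ z ∈ (minpoly ℤ π).aroots ℂ, z.im ≠ 0) :
    Even (minpoly ℤ π).natDegree ∧
      ∀ r ≤ (minpoly ℤ π).natDegree / 2,
        (minpoly ℤ π).coeff ((minpoly ℤ π).natDegree / 2 - r) =
          (p : ℤ) ^ (e * r) * (minpoly ℤ π).coeff ((minpoly ℤ π).natDegree / 2 + r) := by
  set P := minpoly ℤ π with hP
  set n := P.natDegree with hn
  set q : ℤ := (p : ℤ) ^ e with hq
  have hq0 : q ≠ 0 := pow_ne_zero _ (by exact_mod_cast (Fact.out : p.Prime).ne_zero)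
  have hmonic : P.Monic := minpoly.monic hπ
  have hnpos : 0 < n := minpoly.natDegree_pos hπ
  -- complex polynomial
  set Pc : ℂ[X] := P.map (algebraMap ℤ ℂ) with hPc
  have hPcmonic : Pc.Monic := hmonic.map _
  have hPcdeg : Pc.natDegree = n := hmonic.natDegree_map _
  have hsplits : Pc.Splits := IsAlgClosed.splits Pc
  have hsep : Pc.Separable := by
    have h1 : minpoly ℚ π = P.map (algebraMap ℤ ℚ) :=
      minpoly.isIntegrallyClosed_eq_field_fractions' ℚ hπ
    have h2 : (minpoly ℚ π).Separable :=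
      (minpoly.irreducible (hπ.tower_top : IsIntegral ℚ π)).separable
    have h3 := h2.map (f := algebraMap ℚ ℂ)
    rw [h1, Polynomial.map_map] at h3
    have : (algebraMap ℚ ℂ).comp (algebraMap ℤ ℚ) = algebraMap ℤ ℂ := RingHom.ext_int _ _
    rwa [this] at h3
  have hnodup : Pc.roots.Nodup := nodup_roots hsep
  have hcard : Multiset.card Pc.roots = n := by
    rw [← hPcdeg]; exact (splits_iff_card_roots.mp hsplits)
  let S : Finset ℂ := ⟨Pc.roots, hnodup⟩
  have hSmem : ∀ z, z ∈ S ↔ z ∈ P.aroots ℂ := fun z => Iff.rfl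
  have hScard : S.card = n := hcard
  have hroot : ∀ z ∈ S, eval₂ (Int.castRingHom ℂ) z P = 0 := by
    intro z hz
    have : z ∈ Pc.roots := hz
    have h0 : Pc ≠ 0 := hPcmonic.ne_zero
    have := (mem_roots h0).mp this
    rwa [IsRoot, hPc, eval_map] at this
  have hmemS : ∀ z, eval₂ (Int.castRingHom ℂ) z P = 0 → z ∈ S := by
    intro z hz
    show z ∈ Pc.roots
    rw [mem_roots hPcmonic.ne_zero, IsRoot, hPc, eval_map]
    exact hz
  have hconjS : ∀ z ∈ S, (starRingEnd ℂ) z ∈ S := by
    intro z hz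
    apply hmemS
    rw [eval₂_conj, hroot z hz, map_zero]
  have hqR : (0 : ℝ) ≤ (p : ℝ) ^ e := by positivity
  have hmulconj : ∀ z ∈ S, z * (starRingEnd ℂ) z = (q : ℂ) := by
    intro z hz
    rw [Complex.mul_conj, Complex.normSq_eq_norm_sq, hweil z ((hSmem z).mp hz), Real.sq_sqrt hqR]
    simp [hq]
  -- star polynomial vanishes on S
  have hstar : ∀ z ∈ S, eval₂ (Int.castRingHom ℂ) z (star P q) = 0 := by
    intro z hz
    exact eval_star P q z _ (hmulconj z hz) (hroot _ (hconjS z hz))
  -- difference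
  have hD : star P q = C (P.coeff 0) * P := by
    have hinj : Function.Injective (Polynomial.map (Int.castRingHom ℂ)) :=
      Polynomial.map_injective _ Int.cast_injective
    have hsub : star P q - C (P.coeff 0) * P = 0 := by
      apply hinj
      rw [Polynomial.map_zero]
      apply eq_zero_of_natDegree_lt_card_of_eval_eq_zero' _ S
      · intro z hz
        rw [eval_map, eval₂_sub, eval₂_mul, hstar z hz, hroot z hz]
        simp
      · rw [hScard]
        refine lt_of_le_of_lt (natDegree_map_le) ?_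
        apply natDegree_lt_of_coeff _ _ hnpos
        intro m hm
        rw [coeff_sub, coeff_C_mul]
        rcases hm.eq_or_lt with rfl | hm'
        · have := star_coeff P q 0 (Nat.zero_le _)
          rw [Nat.sub_zero] at this
          rw [this, hmonic.coeff_natDegree]
          ring
        · rw [star_coeff_of_ge P q m hm', coeff_eq_zero_of_natDegree_lt hm']
          ring
    exact sub_eq_zero.mp hsub
  have hrel : ∀ j, j ≤ n → P.coeff j * q ^ j = P.coeff 0 * P.coeff (n - j) := by
    intro j hj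
    rw [← star_coeff P q j hj, hD, coeff_C_mul]
  -- the positive / negative imaginary part roots
  set Sp := S.filter (fun z => 0 < z.im) with hSp
  set Sm := S.filter (fun z => z.im < 0) with hSm
  have hunion : S = Sp ∪ Sm := by
    ext z
    simp only [Finset.mem_union, Finset.mem_filter, hSp, hSm]
    constructor
    · intro hz
      rcases lt_or_gt_of_ne (hnr z ((hSmem z).mp hz)) with h | h
      · exact Or.inr ⟨hz, h⟩
      · exact Or.inl ⟨hz, h⟩
    · rintro (⟨hz, -⟩ | ⟨hz, -⟩) <;> exact hz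
  have hdisj : Disjoint Sp Sm := by
    rw [Finset.disjoint_left]
    intro z hz hz'
    have h1 := (Finset.mem_filter.mp hz).2
    have h2 := (Finset.mem_filter.mp hz').2
    linarith
  have hSm_eq : Sm = Sp.image (starRingEnd ℂ) := by
    ext z
    simp only [Finset.mem_image, Finset.mem_filter, hSp, hSm]
    constructor
    · rintro ⟨hz, him⟩
      refine ⟨(starRingEnd ℂ) z, ⟨hconjS z hz, ?_⟩, Complex.conj_conj z⟩
      rw [Complex.conj_im]; linarith
    · rintro ⟨w, ⟨hw, him⟩, rfl⟩
      refine ⟨hconjS w hw, ?_⟩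
      rw [Complex.conj_im]; linarith
  have hconj_inj : Function.Injective (starRingEnd ℂ) := (starRingEnd ℂ).injective
  have hcardm : Sm.card = Sp.card := by
    rw [hSm_eq, Finset.card_image_of_injective _ hconj_inj]
  have hn2 : n = 2 * Sp.card := by
    rw [← hScard]
    conv_lhs => rw [hunion]
    rw [Finset.card_union_of_disjoint hdisj, hcardm]; ring
  have hprod : ∏ z ∈ S, z = (q : ℂ) ^ Sp.card := by
    conv_lhs => rw [hunion]
    rw [Finset.prod_union hdisj, hSm_eq, Finset.prod_image (fun x _ y _ h => hconj_inj h),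
      ← Finset.prod_mul_distrib,
      Finset.prod_congr rfl (fun z hz => hmulconj z (Finset.mem_filter.mp hz).1),
      Finset.prod_const]
  have ha0 : P.coeff 0 = q ^ Sp.card := by
    have h1 := hsplits.coeff_zero_eq_prod_roots_of_monic hPcmonic
    rw [hPcdeg, hPc, coeff_map] at h1
    have h2 : (P.map (algebraMap ℤ ℂ)).roots.prod = ∏ z ∈ S, z := by
      show Pc.roots.prod = (Multiset.map (fun z => z) Pc.roots).prod
      rw [Multiset.map_id']
    rw [h2, hprod, hn2, pow_mul] at h1
    simp only [neg_one_sq, one_pow, one_mul, eq_intCast] at h1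
    exact_mod_cast h1
  refine ⟨⟨Sp.card, by rw [hn2]; ring⟩, ?_⟩
  have hd : n / 2 = Sp.card := by omega
  rw [hd]
  intro r hr
  have hj : Sp.card + r ≤ n := by omega
  have h1 := hrel (Sp.card + r) hj
  have h2 : n - (Sp.card + r) = Sp.card - r := by omega
  rw [h2, ha0, pow_add] at h1
  have h3 : q ^ Sp.card * (q ^ r * P.coeff (Sp.card + r)) = q ^ Sp.card * P.coeff (Sp.card - r) := by
    linear_combination h1
  have h4 := mul_left_cancel₀ (pow_ne_zero _ hq0) h3
  rw [← h4, hq, ← pow_mul]


end Aux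

/-- Let p be a prime number, e ≥ 1 and q = p^e. Let π be an element of a field of characteristic zero
which is integral over ℤ, with minimal polynomial P over ℤ, and assume that every complex root of P
has absolute value √q and that no complex root of P is real (π is a nonreal Weil q-number). Then the
degree of P is even, say 2d, and writing a_j for the coefficient of x^j in P one has a_{d−r} = q^r ·
a_{d+r} for every 0 ≤ r ≤ d. -/
theorem result (p e : ℕ) [Fact p.Prime] (he : 0 < e)
    (K : Type u) [Field K] [CharZero K] (π : K) (hπ : IsIntegral ℤ π)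
    (hweil : ∀ z ∈ (minpoly ℤ π).aroots ℂ, ‖z‖ = Real.sqrt ((p : ℝ) ^ e))
    (hnr : ∀ z ∈ (minpoly ℤ π).aroots ℂ, z.im ≠ 0) :
    Even (minpoly ℤ π).natDegree ∧
      ∀ r ≤ (minpoly ℤ π).natDegree / 2,
        (minpoly ℤ π).coeff ((minpoly ℤ π).natDegree / 2 - r) =
          (p : ℤ) ^ (e * r) * (minpoly ℤ π).coeff ((minpoly ℤ π).natDegree / 2 + r) := by
  exact main p e he K π hπ hweil hnr

end Groth.Agent.S17983
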