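import Groth.Statements.S17984
import Groth.Agent.Lib.helper10.WeilG

set_option autoImplicit false
universe u
open MvPolynomial
open WeilNum
open Groth.Agent.Lib.helper10

namespace Groth.Agent.S17984

/-- Let p be a prime, e ≥ 1 and q = p^e. Let (π_i) be a finite family of pairwise nonconjugate Weil
q-numbers: π_i is an element of a field K_i of characteristic zero, integral over ℤ with minimal
polynomial P_i, every complex root of P_i has absolute value √q, and P_i ≠ P_j for i ≠ j. Suppose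
the total degree Σ_i deg P_i is even, equal to 2D (equivalently, the family contains either none or
both of the rational Weil q-numbers ±q^{1/2}). Put P_w = ∏_i P_i and let h ∈ ℤ[F, V] (F = X_0, V =
X_1) be any polynomial with F^D · h ≡ P_w(F) modulo FV − q; such an h exists, is unique modulo FV −
q, and the product of the symmetric polynomials h_{π_i} is one. Then the kernel of the ring map ℤ[F,
V] → ∏_i K_i, F ↦ (π_i), V ↦ (q/π_i), whose image is the minimal central order R_w, is the ideal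
generated by FV − q and h, and (FV − q, h) is a regular sequence in ℤ[F, V]: R_w is the complete
intersection ℤ[F, V]/(FV − q, h). -/
theorem result (p e : ℕ) [Fact p.Prime] (he : 0 < e)
    (ι : Type) [Fintype ι] (K : ι → Type u) [∀ i, Field (K i)] [∀ i, CharZero (K i)] (π : ∀ i, K i)
    (hint : ∀ i, IsIntegral ℤ (π i))
    (hweil : ∀ i, ∀ z ∈ (minpoly ℤ (π i)).aroots ℂ, ‖z‖ = Real.sqrt ((p : ℝ) ^ e))
    (hinj : ∀ i j, minpoly ℤ (π i) = minpoly ℤ (π j) → i = j)
    (D : ℕ) (hD : ∑ i, (minpoly ℤ (π i)).natDegree = 2 * D)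
    (h : MvPolynomial (Fin 2) ℤ)
    (hh : X 0 ^ D * h - Polynomial.aeval (X 0 : MvPolynomial (Fin 2) ℤ) (∏ i, minpoly ℤ (π i)) ∈
      Ideal.span ({X 0 * X 1 - C ((p : ℤ) ^ e)} : Set (MvPolynomial (Fin 2) ℤ))) :
    RingHom.ker (MvPolynomial.aeval ![fun i => π i, fun i => ((p : K i) ^ e) / π i] :
        MvPolynomial (Fin 2) ℤ →ₐ[ℤ] ((i : ι) → K i)) =
        Ideal.span {X 0 * X 1 - C ((p : ℤ) ^ e), h} ∧
      RingTheory.Sequence.IsWeaklyRegular (MvPolynomial (Fin 2) ℤ) [X 0 * X 1 - C ((p : ℤ) ^ e), h] := by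
  classical
  have hp : (p : ℤ) ≠ 0 := by exact_mod_cast (Fact.out : p.Prime).ne_zero
  have hq : ((p : ℤ) ^ e) ≠ 0 := pow_ne_zero _ hp
  have hq0 : (0 : ℤ) ≤ (p : ℤ) ^ e := pow_nonneg (by positivity) _
  have hqr : (((p : ℤ) ^ e : ℤ) : ℝ) = (p : ℝ) ^ e := by push_cast; rfl
  have hPm : (∏ i, minpoly ℤ (π i)).Monic := Polynomial.monic_prod_of_monic _ _
    (fun i _ => minpoly.monic (hint i))
  have hPd : (∏ i, minpoly ℤ (π i)).natDegree = 2 * D := by
    rw [Polynomial.natDegree_prod_of_monic _ _ (fun i _ => minpoly.monic (hint i)), hD]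
  have hh' : X 0 ^ D * h - Polynomial.aeval (X 0 : Weil.MP) (∏ i, minpoly ℤ (π i)) ∈
      Weil.J ((p : ℤ) ^ e) := hh
  have hI : Ideal.span {X 0 * X 1 - C ((p : ℤ) ^ e), h} = Weil.I ((p : ℤ) ^ e) h := rfl
  refine ⟨?_, Weil.regular _ hq h (Weil.mu_ne_zero _ D _ hPm.ne_zero h hh')⟩
  rw [hI]
  -- identify the evaluation map
  have hker : RingHom.ker (MvPolynomial.aeval ![fun i => π i, fun i => ((p : K i) ^ e) / π i] :
        MvPolynomial (Fin 2) ℤ →ₐ[ℤ] ((i : ι) → K i)) =
      RingHom.ker (Weil.ev (fun i => π i) (fun i => (((p : ℤ) ^ e : ℤ) : K i) / π i)) := by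
    ext g
    rw [RingHom.mem_ker, RingHom.mem_ker]
    have := Weil.eq_ev ((MvPolynomial.aeval ![fun i => π i, fun i => ((p : K i) ^ e) / π i] :
        MvPolynomial (Fin 2) ℤ →ₐ[ℤ] ((i : ι) → K i)).toRingHom) g
    simp only [AlgHom.toRingHom_eq_coe, RingHom.coe_coe, aeval_X] at this
    rw [this]
    have h2 : (fun i => (((p : ℤ) ^ e : ℤ) : K i) / π i) = fun i => ((p : K i) ^ e) / π i := by
      funext i; push_cast; rfl
    rw [h2]
    rfl
  rw [hker]
  rcases Nat.eq_zero_or_pos D with hD0 | hD1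
  · -- degenerate case: no Weil numbers at all
    subst hD0
    haveI : IsEmpty ι := by
      constructor
      intro i
      have h1 : (minpoly ℤ (π i)).natDegree = 0 := by
        have h2 : ∑ i, (minpoly ℤ (π i)).natDegree = 0 := by rw [hD]
        exact Finset.sum_eq_zero_iff.1 h2 i (Finset.mem_univ i)
      exact absurd h1 (minpoly.natDegree_pos (hint i)).ne'
    have h1 : h - 1 ∈ Weil.J ((p : ℤ) ^ e) := by
      have := hh'
      simpa using this
    have hone : (1 : Weil.MP) ∈ Weil.I ((p : ℤ) ^ e) h := Weil.mem_I_of_sub _ h 1 h1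
    rw [(Ideal.eq_top_iff_one _).2 hone, Ideal.eq_top_iff_one, RingHom.mem_ker]
    exact Subsingleton.elim _ _
  · have hsq : 0 < Real.sqrt ((p : ℝ) ^ e) := by
      apply Real.sqrt_pos.2
      have : (0 : ℝ) < p := by exact_mod_cast (Fact.out : p.Prime).pos
      positivity
    have hπ : ∀ i, π i ≠ 0 := fun i => Weil.pi_ne_zero (π i) _ hsq (hweil i)
    obtain ⟨u, hu, hP0⟩ := Weil.coeff_zero_prod π hint ((p : ℤ) ^ e) hq0
      (by rw [hqr]; exact hweil) D hD
    refine Weil.ker_eq π hπ _ hq D hD1 _ hPm hPd ?_ (Weil.prod_dvd π hint hinj) u hu hP0 h hh'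
    intro i
    rw [map_prod]
    exact Finset.prod_eq_zero (Finset.mem_univ i) (minpoly.aeval ℤ (π i))

end Groth.Agent.S17984
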