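import Groth.Statements.S17985
import Groth.Agent.Lib.helper10.WeilJ
import Groth.Agent.Lib.Helper29.IntegralDim

set_option autoImplicit false
universe u
open MvPolynomial
open WeilNum
open Groth.Agent.Lib.helper10

namespace Groth.Agent.S17985

/-- Let p be a prime, e ≥ 1 and q = p^e. Let (π_i) be a nonempty finite family of pairwise nonconjugate
Weil q-numbers: π_i is an element of a field K_i of characteristic zero, integral over ℤ with
minimal polynomial P_i, every complex root of P_i has absolute value √q, and P_i ≠ P_j for i ≠ j.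
Suppose the total degree Σ_i deg P_i is even, equal to 2D. Let R_w be the minimal central order, the
image of ℤ[F, V] → ∏_i K_i, F ↦ (π_i), V ↦ (q/π_i). Then R_w is free of rank 2D as a ℤ-module, has
Krull dimension 1, and is a Gorenstein ring (Noetherian, with all localizations at primes of finite
injective dimension over themselves). -/
theorem result (p e : ℕ) [Fact p.Prime] (he : 0 < e)
    (ι : Type) [Fintype ι] (K : ι → Type u) [∀ i, Field (K i)] [∀ i, CharZero (K i)] (π : ∀ i, K i)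
    (hint : ∀ i, IsIntegral ℤ (π i))
    (hweil : ∀ i, ∀ z ∈ (minpoly ℤ (π i)).aroots ℂ, ‖z‖ = Real.sqrt ((p : ℝ) ^ e))
    (hinj : ∀ i j, minpoly ℤ (π i) = minpoly ℤ (π j) → i = j)
    [Nonempty ι] (D : ℕ) (hD : ∑ i, (minpoly ℤ (π i)).natDegree = 2 * D) :
    Module.Free ℤ (MvPolynomial.aeval ![fun i => π i, fun i => ((p : K i) ^ e) / π i] :
        MvPolynomial (Fin 2) ℤ →ₐ[ℤ] ((i : ι) → K i)).range ∧
      Module.finrank ℤ (MvPolynomial.aeval ![fun i => π i, fun i => ((p : K i) ^ e) / π i] :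
        MvPolynomial (Fin 2) ℤ →ₐ[ℤ] ((i : ι) → K i)).range = 2 * D ∧
      ringKrullDim (MvPolynomial.aeval ![fun i => π i, fun i => ((p : K i) ^ e) / π i] :
        MvPolynomial (Fin 2) ℤ →ₐ[ℤ] ((i : ι) → K i)).range = 1 ∧
      LocCoh.IsGorensteinRing (MvPolynomial.aeval ![fun i => π i, fun i => ((p : K i) ^ e) / π i] :
        MvPolynomial (Fin 2) ℤ →ₐ[ℤ] ((i : ι) → K i)).range := by
  classical
  have hp : (p : ℤ) ≠ 0 := by exact_mod_cast (Fact.out : p.Prime).ne_zero
  have hq : ((p : ℤ) ^ e) ≠ 0 := pow_ne_zero _ hp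
  have hqpos : (0 : ℤ) < (p : ℤ) ^ e := by
    have : (0 : ℤ) < p := by exact_mod_cast (Fact.out : p.Prime).pos
    positivity
  have hq0 : (0 : ℤ) ≤ (p : ℤ) ^ e := hqpos.le
  have hqr : (((p : ℤ) ^ e : ℤ) : ℝ) = (p : ℝ) ^ e := by push_cast; rfl
  have hsq : 0 < Real.sqrt ((p : ℝ) ^ e) := by
    apply Real.sqrt_pos.2
    have : (0 : ℝ) < p := by exact_mod_cast (Fact.out : p.Prime).pos
    positivity
  have hπ : ∀ i, π i ≠ 0 := fun i => Weil.pi_ne_zero (π i) _ hsq (hweil i)
  have hweil' : ∀ i, ∀ z ∈ (minpoly ℤ (π i)).aroots ℂ,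
      ‖z‖ = Real.sqrt ((((p : ℤ) ^ e : ℤ)) : ℝ) := by rw [hqr]; exact hweil
  obtain ⟨u, hu, hP0⟩ := Weil.coeff_zero_prod π hint ((p : ℤ) ^ e) hq0 hweil' D hD
  have hroot : ∀ i, Polynomial.aeval (π i) (∏ i, minpoly ℤ (π i)) = 0 := by
    intro i
    rw [map_prod]
    exact Finset.prod_eq_zero (Finset.mem_univ i) (minpoly.aeval ℤ (π i))
  have hPm : (∏ i, minpoly ℤ (π i)).Monic := Polynomial.monic_prod_of_monic _ _
    (fun i _ => minpoly.monic (hint i))
  have hPd : (∏ i, minpoly ℤ (π i)).natDegree = 2 * D := by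
    rw [Polynomial.natDegree_prod_of_monic _ _ (fun i _ => minpoly.monic (hint i)), hD]
  have hD1 : 1 ≤ D := by
    obtain ⟨i⟩ := ‹Nonempty ι›
    have h1 := minpoly.natDegree_pos (hint i)
    have h2 : (minpoly ℤ (π i)).natDegree ≤ ∑ i, (minpoly ℤ (π i)).natDegree :=
      Finset.single_le_sum (f := fun i => (minpoly ℤ (π i)).natDegree)
        (fun _ _ => Nat.zero_le _) (Finset.mem_univ i)
    omega
  have hfe := Weil.funeq π hπ hint hinj ((p : ℤ) ^ e) hqpos hweil'
  obtain ⟨h, hh⟩ := Weil.exists_h _ _ hq D hD1 hPd hfe u hP0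
  -- identify the evaluation map
  have hker : RingHom.ker (MvPolynomial.aeval ![fun i => π i, fun i => ((p : K i) ^ e) / π i] :
        MvPolynomial (Fin 2) ℤ →ₐ[ℤ] ((i : ι) → K i)) =
      RingHom.ker (Weil.ev (fun i => π i) (fun i => (((p : ℤ) ^ e : ℤ) : K i) / π i)) := by
    ext g
    rw [RingHom.mem_ker, RingHom.mem_ker]
    have := Weil.eq_ev ((MvPolynomial.aeval ![fun i => π i, fun i => ((p : K i) ^ e) / π i] :
        MvPolynomial (Fin 2) ℤ →ₐ[ℤ] ((i : ι) → K i)).toRingHom) g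
    simp only [AlgHom.toRingHom_eq_coe, RingHom.coe_coe, aeval_X] at this
    rw [this]
    have h2 : (fun i => (((p : ℤ) ^ e : ℤ) : K i) / π i) = fun i => ((p : K i) ^ e) / π i := by
      funext i; push_cast; rfl
    rw [h2]
    rfl
  have hkerR : RingHom.ker ((MvPolynomial.aeval ![fun i => π i, fun i => ((p : K i) ^ e) / π i] :
        MvPolynomial (Fin 2) ℤ →ₐ[ℤ] ((i : ι) → K i)).rangeRestrict.toRingHom) =
      RingHom.ker (Weil.ev (fun i => π i) (fun i => (((p : ℤ) ^ e : ℤ) : K i) / π i)) := by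
    rw [← hker]
    exact AlgHom.ker_rangeRestrict _
  have hsurj : Function.Surjective
      ((MvPolynomial.aeval ![fun i => π i, fun i => ((p : K i) ^ e) / π i] :
        MvPolynomial (Fin 2) ℤ →ₐ[ℤ] ((i : ι) → K i)).rangeRestrict.toRingHom) :=
    AlgHom.rangeRestrict_surjective _
  obtain ⟨eqv⟩ := Weil.exists_addEquiv π hπ _ hq D hD1 _ hPm hPd hroot (Weil.prod_dvd π hint hinj)
    u hu hP0 h hh _ hsurj hkerR
  obtain ⟨hfree, hfin, hrank⟩ := Weil.free_finrank D eqv
  have hkI := Weil.ker_eq π hπ _ hq D hD1 _ hPm hPd hroot (Weil.prod_dvd π hint hinj)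
    u hu hP0 h hh
  refine ⟨?_, ?_, ?_, ?_⟩
  · convert hfree
  · convert hrank
  · haveI : Module.Finite ℤ (MvPolynomial.aeval ![fun i => π i, fun i => ((p : K i) ^ e) / π i] :
        MvPolynomial (Fin 2) ℤ →ₐ[ℤ] ((i : ι) → K i)).range := by convert hfin
    haveI : Algebra.IsIntegral ℤ (MvPolynomial.aeval ![fun i => π i,
        fun i => ((p : K i) ^ e) / π i] :
        MvPolynomial (Fin 2) ℤ →ₐ[ℤ] ((i : ι) → K i)).range := Algebra.IsIntegral.of_finite _ _
    rw [Groth.Agent.Lib.Helper29.ringKrullDim_eq_of_isIntegral_of_injective (A := ℤ)]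
    · exact IsPrincipalIdealRing.ringKrullDim_eq_one ℤ Int.not_isField
    · intro a b hab
      obtain ⟨i⟩ := ‹Nonempty ι›
      have h1 := congrArg (fun x => x.1 i) hab
      simp only [Subalgebra.coe_algebraMap] at h1
      have h2 : ((algebraMap ℤ ((i : ι) → K i)) a) i = (a : K i) := by simp
      have h3 : ((algebraMap ℤ ((i : ι) → K i)) b) i = (b : K i) := by simp
      rw [h2, h3] at h1
      exact_mod_cast h1
  · refine Weil.gorenstein_of_regular _ hsurj (Weil.rel ((p : ℤ) ^ e)) h ?_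
      (Weil.regular _ hq h (Weil.mu_ne_zero _ D _ hPm.ne_zero h hh))
    rw [hkerR, hkI]
    rfl

end Groth.Agent.S17985
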