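import Groth.Statements.S18003
import Groth.Agent.Lib.helper10.WeilH

set_option autoImplicit false
universe u
open MvPolynomial
open WeilNum
open Groth.Agent.Lib.helper10

namespace Groth.Agent.S18003

/-- Let p be a prime, e ≥ 1 and q = p^e; let (π_i) be a finite family of pairwise nonconjugate Weil
q-numbers (π_i in a field K_i of characteristic zero, integral over ℤ with minimal polynomial P_i,
all complex roots of P_i of absolute value √q, P_i ≠ P_j for i ≠ j) of even total degree Σ_i deg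
P_i, P_w = ∏_i P_i, and R_w ⊆ ∏_i K_i the minimal central order, the image of ℤ[F, V] → ∏_i K_i, F ↦
(π_i), V ↦ (q/π_i). Let T be a finitely generated free ℤ-module and F_T an endomorphism of T. Then
there exists an R_w-module structure on the additive group T in which the class of F acts as F_T if
and only if P_w(F_T) = 0 (equivalently: F_T is semisimple after tensoring with ℚ, with eigenvalues
among the conjugates of the π_i) and there is an endomorphism V_T of T with F_T ∘ V_T = q. When it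
exists the structure is determined by F_T (the class of V acts as V_T = q·F_T⁻¹), and reflexive
R_w-modules are exactly the ℤ-free finitely generated ones, so this identifies the objects of
Refl(R_w) with such pairs (T, F_T); the uniqueness remark is not part of the formal statement. -/
theorem result (p e : ℕ) [Fact p.Prime] (he : 0 < e)
    (ι : Type) [Fintype ι] (K : ι → Type u) [∀ i, Field (K i)] [∀ i, CharZero (K i)] (π : ∀ i, K i)
    (hint : ∀ i, IsIntegral ℤ (π i))
    (hweil : ∀ i, ∀ z ∈ (minpoly ℤ (π i)).aroots ℂ, ‖z‖ = Real.sqrt ((p : ℝ) ^ e))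
    (hinj : ∀ i j, minpoly ℤ (π i) = minpoly ℤ (π j) → i = j)
    (D : ℕ) (hD : ∑ i, (minpoly ℤ (π i)).natDegree = 2 * D)
    (T : Type) [AddCommGroup T] [Module.Finite ℤ T] [Module.Free ℤ T] (FT : T →ₗ[ℤ] T) :
    (∃ _ : Module (MvPolynomial.aeval ![fun i => π i, fun i => ((p : K i) ^ e) / π i] :
        MvPolynomial (Fin 2) ℤ →ₐ[ℤ] ((i : ι) → K i)).range T,
        ∀ t : T, (⟨(MvPolynomial.aeval ![fun i => π i, fun i => ((p : K i) ^ e) / π i] :
        MvPolynomial (Fin 2) ℤ →ₐ[ℤ] ((i : ι) → K i)) (X 0), AlgHom.mem_range_self _ _⟩ : (MvPolynomial.aeval ![fun i => π i, fun i => ((p : K i) ^ e) / π i] :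
        MvPolynomial (Fin 2) ℤ →ₐ[ℤ] ((i : ι) → K i)).range) • t = FT t) ↔
      (Polynomial.aeval FT (∏ i, minpoly ℤ (π i)) = 0 ∧
        ∃ VT : T →ₗ[ℤ] T, FT ∘ₗ VT = ((p : ℤ) ^ e) • LinearMap.id) := by
  classical
  have hp : (p : ℤ) ≠ 0 := by exact_mod_cast (Fact.out : p.Prime).ne_zero
  have hq : ((p : ℤ) ^ e) ≠ 0 := pow_ne_zero _ hp
  have hq0 : (0 : ℤ) ≤ (p : ℤ) ^ e := pow_nonneg (by positivity) _
  have hqr : (((p : ℤ) ^ e : ℤ) : ℝ) = (p : ℝ) ^ e := by push_cast; rfl
  have hsq : 0 < Real.sqrt ((p : ℝ) ^ e) := by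
    apply Real.sqrt_pos.2
    have : (0 : ℝ) < p := by exact_mod_cast (Fact.out : p.Prime).pos
    positivity
  have hπ : ∀ i, π i ≠ 0 := fun i => Weil.pi_ne_zero (π i) _ hsq (hweil i)
  obtain ⟨u, hu, hP0⟩ := Weil.coeff_zero_prod π hint ((p : ℤ) ^ e) hq0
    (by rw [hqr]; exact hweil) D hD
  have hP0' : (∏ i, minpoly ℤ (π i)).coeff 0 ≠ 0 := by
    rw [hP0]
    refine mul_ne_zero (pow_ne_zero _ hq) ?_
    rintro rfl
    simp at hu
  have hroot : ∀ i, Polynomial.aeval (π i) (∏ i, minpoly ℤ (π i)) = 0 := by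
    intro i
    rw [map_prod]
    exact Finset.prod_eq_zero (Finset.mem_univ i) (minpoly.aeval ℤ (π i))
  have htf : ∀ (c : ℤ) (t : T), c ≠ 0 → c • t = 0 → t = 0 := by
    intro c t hc hct
    rcases smul_eq_zero.1 hct with h1 | h1
    · exact absurd h1 hc
    · exact h1
  -- identify the evaluation map
  have hker : RingHom.ker (MvPolynomial.aeval ![fun i => π i, fun i => ((p : K i) ^ e) / π i] :
        MvPolynomial (Fin 2) ℤ →ₐ[ℤ] ((i : ι) → K i)) =
      RingHom.ker (Weil.ev (fun i => π i) (fun i => (((p : ℤ) ^ e : ℤ) : K i) / π i)) := by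
    ext g
    rw [RingHom.mem_ker, RingHom.mem_ker]
    have := Weil.eq_ev ((MvPolynomial.aeval ![fun i => π i, fun i => ((p : K i) ^ e) / π i] :
        MvPolynomial (Fin 2) ℤ →ₐ[ℤ] ((i : ι) → K i)).toRingHom) g
    simp only [AlgHom.toRingHom_eq_coe, RingHom.coe_coe, aeval_X] at this
    rw [this]
    have h2 : (fun i => (((p : ℤ) ^ e : ℤ) : K i) / π i) = fun i => ((p : K i) ^ e) / π i := by
      funext i; push_cast; rfl
    rw [h2]
    rfl
  have hkerR : RingHom.ker ((MvPolynomial.aeval ![fun i => π i, fun i => ((p : K i) ^ e) / π i] :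
        MvPolynomial (Fin 2) ℤ →ₐ[ℤ] ((i : ι) → K i)).rangeRestrict.toRingHom) =
      RingHom.ker (Weil.ev (fun i => π i) (fun i => (((p : ℤ) ^ e : ℤ) : K i) / π i)) := by
    rw [← hker]
    exact AlgHom.ker_rangeRestrict _
  have hsurj : Function.Surjective
      ((MvPolynomial.aeval ![fun i => π i, fun i => ((p : K i) ^ e) / π i] :
        MvPolynomial (Fin 2) ℤ →ₐ[ℤ] ((i : ι) → K i)).rangeRestrict.toRingHom) :=
    AlgHom.rangeRestrict_surjective _
  constructor
  · rintro ⟨inst, hF⟩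
    -- the composite ring hom `ℤ[F, V] → R_w → End T`
    let Φ : MvPolynomial (Fin 2) ℤ →+* Module.End ℤ T :=
      (Module.toModuleEnd ℤ (S := (MvPolynomial.aeval ![fun i => π i,
        fun i => ((p : K i) ^ e) / π i] :
        MvPolynomial (Fin 2) ℤ →ₐ[ℤ] ((i : ι) → K i)).range) T).comp
        ((MvPolynomial.aeval ![fun i => π i, fun i => ((p : K i) ^ e) / π i] :
        MvPolynomial (Fin 2) ℤ →ₐ[ℤ] ((i : ι) → K i)).rangeRestrict.toRingHom)
    have hΦ0 : Φ (X 0) = FT := by
      ext t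
      exact hF t
    have hΦker : ∀ g, g ∈ RingHom.ker (Weil.ev (fun i => π i)
        (fun i => (((p : ℤ) ^ e : ℤ) : K i) / π i)) → Φ g = 0 := by
      intro g hg
      rw [← hkerR, RingHom.mem_ker] at hg
      change (Module.toModuleEnd ℤ T) _ = 0
      rw [hg, map_zero]
    constructor
    · have h1 : Polynomial.aeval FT (∏ i, minpoly ℤ (π i)) =
          Φ (Polynomial.aeval (X 0 : MvPolynomial (Fin 2) ℤ) (∏ i, minpoly ℤ (π i))) := by
        rw [Polynomial.aeval_def, Polynomial.aeval_def, Polynomial.hom_eval₂, hΦ0]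
        congr 1
        exact RingHom.ext_int _ _
      rw [h1]
      apply hΦker
      rw [RingHom.mem_ker]
      funext i
      rw [Weil.ev_pi_apply, Weil.ev_aeval_X0, hroot i]
      rfl
    · refine ⟨Φ (X 1), ?_⟩
      have h1 : FT ∘ₗ Φ (X 1) = Φ (X 0 * X 1) := by rw [map_mul, hΦ0]; rfl
      have h2 : Φ (X 0 * X 1 - C ((p : ℤ) ^ e)) = 0 := by
        apply hΦker
        have := Weil.J_le_ker (S := (i : ι) → K i) (fun i => π i)
          (fun i => (((p : ℤ) ^ e : ℤ) : K i) / π i) ((p : ℤ) ^ e)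
          (by funext i; simpa using mul_div_cancel₀ _ (hπ i))
        exact this (Weil.rel_mem _)
      rw [map_sub, sub_eq_zero] at h2
      rw [h1, h2, eq_intCast (C : ℤ →+* MvPolynomial (Fin 2) ℤ), map_intCast]
      ext t
      simp
  · rintro ⟨hPF, VT, hFV⟩
    obtain ⟨ψ, hψ0, hψker⟩ := Weil.exists_psi π hπ _ hq _ (Weil.prod_dvd π hint hinj) hP0' htf
      FT VT hFV hPF
    rw [← hkerR] at hψker
    let φ := RingHom.liftOfSurjective _ hsurj ⟨ψ, hψker⟩
    refine ⟨Module.compHom T φ, ?_⟩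
    intro t
    change (φ _) t = FT t
    have h1 : φ (((MvPolynomial.aeval ![fun i => π i, fun i => ((p : K i) ^ e) / π i] :
        MvPolynomial (Fin 2) ℤ →ₐ[ℤ] ((i : ι) → K i)).rangeRestrict.toRingHom) (X 0)) = ψ (X 0) :=
      RingHom.liftOfSurjective_comp_apply _ hsurj ⟨ψ, hψker⟩ (X 0)
    rw [hψ0] at h1
    rw [← h1]
    rfl

end Groth.Agent.S18003
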