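import Groth.Statements.S18015
import Mathlib.RingTheory.Ideal.AssociatedPrime.Finiteness
import Mathlib.Algebra.Homology.ShortComplex.ModuleCat

set_option autoImplicit false
universe u
open CategoryTheory
open Coh

namespace Groth.Agent.S18015

/-- Let A be a Noetherian commutative ring and F an additive functor from A-modules to A-modules which
is half-exact, i.e. for every short exact sequence 0 → M' → M → M'' → 0 the sequence F(M') → F(M) →
F(M'') is exact at F(M). Then F(M) is a finitely generated A-module for every finitely generated
A-module M if and only if F(A/p) is a finitely generated A-module for every prime ideal p of A. (The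
published statement takes F from quasi-coherent sheaves on Spec A to abelian groups, with A acting
on each F(M) through F; this row allows any additive functor between A-module categories, A-linear
or not, and the same argument applies, since it uses only that each map F(f) is A-linear.) -/
theorem result {A : Type u} [CommRing A] [IsNoetherianRing A]
    (F : ModuleCat.{u} A ⥤ ModuleCat.{u} A) [F.Additive]
    (hF : ∀ S : ShortComplex (ModuleCat.{u} A), S.ShortExact → (S.map F).Exact) :
    (∀ M : ModuleCat.{u} A, Module.Finite A M → Module.Finite A (F.obj M)) ↔
      ∀ p : PrimeSpectrum A, Module.Finite A (F.obj (ModuleCat.of A (A ⧸ p.asIdeal))) := by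
  constructor
  · intro h p
    exact h _ inferInstance
  · intro h M hM
    have key : Module.Finite A (F.obj (ModuleCat.of A M)) := by
      refine IsNoetherianRing.induction_on_isQuotientEquivQuotientPrime A hM
        (motive := fun N _ _ _ => Module.Finite A (F.obj (ModuleCat.of A N))) ?_ ?_ ?_
      · intro N _ _ _ _
        have hz : Limits.IsZero (F.obj (ModuleCat.of A N)) :=
          F.map_isZero (ModuleCat.isZero_of_subsingleton _)
        haveI := ModuleCat.subsingleton_of_isZero hz
        infer_instance
      · intro N _ _ _ p e
        haveI := h p
        let e' : F.obj (ModuleCat.of A N) ≅ F.obj (ModuleCat.of A (A ⧸ p.asIdeal)) :=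
          F.mapIso e.toModuleIso
        exact Module.Finite.equiv e'.toLinearEquiv.symm
      · intro N₁ _ _ _ N₂ _ _ _ N₃ _ _ _ f g hf hg hfg h₁ h₃
        let S : ShortComplex (ModuleCat.{u} A) :=
          ShortComplex.mk (ModuleCat.ofHom f) (ModuleCat.ofHom g) (by
            ext x
            exact hfg.apply_apply_eq_zero x)
        have hS : S.ShortExact := ModuleCat.shortComplex_shortExact S hfg hf hg
        have hE := (hF S hS).moduleCat_range_eq_ker
        have i1 : IsNoetherian A (F.obj (ModuleCat.of A N₁)) :=
          isNoetherian_of_isNoetherianRing_of_finite A _
        have i3 : IsNoetherian A (F.obj (ModuleCat.of A N₃)) :=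
          isNoetherian_of_isNoetherianRing_of_finite A _
        have i2 : IsNoetherian A (F.obj (ModuleCat.of A N₂)) :=
          isNoetherian_of_range_eq_ker (M := F.obj (ModuleCat.of A N₁))
            (P := F.obj (ModuleCat.of A N₃)) (F.map (ModuleCat.ofHom f)).hom
            (F.map (ModuleCat.ofHom g)).hom hE
        infer_instance
    exact key

end Groth.Agent.S18015
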