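import Groth.Statements.S1802
import Groth.Agent.S0825
import Groth.Agent.Lib.Helper2.SpecSections
import Groth.Agent.Lib.Helper2.LCCompare
import Groth.Agent.Lib.Helper2.LCInj3

set_option autoImplicit false
universe u
open AlgebraicGeometry
open LocCoh

namespace Groth.Agent.S1802

section Helpers

open AlgebraicGeometry CategoryTheory TopologicalSpace Opposite Groth.Agent.Lib.Helper2

variable {A : Type u} [CommRing A] [IsNoetherianRing A] (I : Ideal A)

theorem nonempty_punctured (h0 : ¬ LocCoh.CdLE A I 0) :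
    ∃ p : PrimeSpectrum A, ¬ I ≤ p.asIdeal := by
  by_contra hcon
  push Not at hcon
  apply h0
  have hle : I ≤ (⊥ : Ideal A).radical := by
    rw [Ideal.radical_eq_sInf]
    refine le_sInf ?_
    rintro p ⟨-, hp⟩
    exact hcon ⟨p, hp⟩
  intro M _ _ i hi
  have hbij := LCCompare.HmapOfLE_bijective_of_le_radical (M := ModuleCat.of A M)
    (bot_le : (⊥ : Ideal A) ≤ I) hle i
  haveI : Subsingleton ((localCohomology (⊥ : Ideal A) i).obj (ModuleCat.of A M)) :=
    LCInj3.cd_bot (ModuleCat.of A M) i hi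
  exact hbij.1.subsingleton


theorem isAffine_punctured (h1 : LocCoh.CdLE A I 1) :
    IsAffineOpen (LocCoh.puncturedOpen A I) := by
  classical
  obtain ⟨r, f, hf⟩ := (Submodule.fg_iff_exists_fin_generating_family).1
    (IsNoetherian.noetherian I : I.FG)
  have h2 : ∀ K : ModuleCat.{u} A, Subsingleton ((localCohomology I 2).obj K) :=
    fun K => h1 K 2 (by norm_num)
  obtain ⟨c, lam, hlam⟩ := Groth.Agent.S0825.main I f hf.symm h2
  let X : Scheme.{u} := Spec (CommRingCat.of A)
  let U : Opens (PrimeSpectrum.Top A) := LocCoh.puncturedOpen A I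
  have hU : ∀ x : U, ∃ g : A, g ∈ I ^ (c + 1) ∧ g ∉ x.1.asIdeal := by
    intro x
    have hx : ¬ (I : Set A) ⊆ x.1.asIdeal := x.2
    by_contra hcon
    push Not at hcon
    apply hx
    intro a ha
    exact x.1.isPrime.mem_of_pow_mem (c + 1) (hcon _ (Ideal.pow_mem_pow ha _))
  have hsum := SpecSections.sum_eq_one f (I ^ (c + 1)) lam U hU hlam
  let s : Set Γ(X, LocCoh.puncturedOpen A I) :=
    Set.range (fun j => algebraMap A ((structureSheafInType A A).1.obj (op U)) (f j))
  apply isAffineOpen_of_isAffineOpen_basicOpen (X := X) (LocCoh.puncturedOpen A I) s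
  · have h1' : (1 : Γ(X, LocCoh.puncturedOpen A I)) =
        ∑ j, (algebraMap A ((structureSheafInType A A).1.obj (op U)) (f j) :
          Γ(X, LocCoh.puncturedOpen A I)) * (SpecSections.sSec (I ^ (c + 1)) lam U hU j :
            Γ(X, LocCoh.puncturedOpen A I)) := hsum.symm
    rw [Ideal.eq_top_iff_one, h1']
    exact Ideal.sum_mem _ (fun j _ => Ideal.mul_mem_right _ _ (Ideal.subset_span ⟨j, rfl⟩))
  · rintro _ ⟨j, rfl⟩
    have hi : (algebraMap A ((structureSheafInType A A).1.obj (op U)) (f j) :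
        Γ(X, LocCoh.puncturedOpen A I)) = X.presheaf.map (homOfLE le_top).op
          ((Scheme.ΓSpecIso (CommRingCat.of A)).inv (f j)) := rfl
    have hle : X.basicOpen ((Scheme.ΓSpecIso (CommRingCat.of A)).inv (f j)) ≤
        LocCoh.puncturedOpen A I := by
      rw [basicOpen_eq_of_affine]
      intro y hy hI
      exact hy (hI (hf ▸ Ideal.subset_span ⟨j, rfl⟩))
    change IsAffineOpen (X.basicOpen (algebraMap A ((structureSheafInType A A).1.obj (op U)) (f j) :
        Γ(X, LocCoh.puncturedOpen A I)))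
    rw [hi, Scheme.basicOpen_res, inf_eq_right.2 hle]
    exact (isAffineOpen_top X).basicOpen _

end Helpers

/-- For a Noetherian ring. Let I be an ideal of a Noetherian ring A with cd(A, I) = 1, i.e. H^i_I(M) = 0
for all modules M and all i ≥ 2 but H^1_I(M) ≠ 0 for some M. Then the open subscheme Spec A minus
V(I) is nonempty and affine. -/
theorem result (A : Type u) [CommRing A] [IsNoetherianRing A] (I : Ideal A) (h1 : LocCoh.CdLE A I 1) (h0 : ¬ LocCoh.CdLE A I 0) : Nonempty (↑(LocCoh.puncturedOpen A I) : Scheme.{u}) ∧ IsAffine (↑(LocCoh.puncturedOpen A I) : Scheme.{u}) := by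
  refine ⟨?_, isAffine_punctured I h1⟩
  obtain ⟨p, hp⟩ := nonempty_punctured I h0
  exact ⟨⟨p, fun h => hp h⟩⟩

end Groth.Agent.S1802
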