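import Groth.Statements.S18020
-- import your own Groth.Agent.* helpers here
import Mathlib

set_option autoImplicit false
open W4c5stacksedinertia

namespace Groth.Agent.S18020

universe u

theorem card_of (H : Type u) [Group H] [Finite H] : (Idx.of H).card = Nat.card H := by
  unfold Idx.card Idx.rep Idx.of
  have h : FinGrp.setoid (Quotient.out (s := FinGrp.setoid) (Quotient.mk FinGrp.setoid (FinGrp.of H))) (FinGrp.of H) :=
    Quotient.mk_out (s := FinGrp.setoid) (FinGrp.of H)
  obtain ⟨e⟩ := h
  rw [Nat.card_congr e.toEquiv]
  change Nat.card (Fin (Nat.card H)) = Nat.card H
  rw [Nat.card_eq_fintype_card, Fintype.card_fin]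

theorem inertiaROf_mem (n r : ℕ) (G : Type u) [Group G] [Finite G] (hG : Nat.card G ≤ n) :
    inertiaROf r G ∈ Kle n := by
  unfold inertiaROf
  refine finsum_induction (fun x => x ∈ Kle n) (Submodule.zero_mem _) (fun x y hx hy => Submodule.add_mem _ hx hy) ?_
  intro O
  unfold cl Kle
  refine Finsupp.single_mem_supported ℚ 1 ?_
  change (Idx.of _).card ≤ n
  rw [card_of]
  exact le_trans (Subgroup.card_le_card_group _) hG

open W4c5stacksedinertia in
/-- In the rational vector space K with basis the isomorphism classes of finite groups (the class of a
group standing for its classifying groupoid), the inertia operator, which sends the class of a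
finite group to the sum over its conjugacy classes of the classes of the centralizers of
representatives, preserves the subspace spanned by the classes of groups of order at most `n`. -/
theorem result (n : ℕ) (v : K) (hv : v ∈ Kle n) :
    inertia v ∈ Kle n := by
  unfold inertia inertiaR
  rw [Finsupp.linearCombination_apply]
  refine Submodule.sum_mem _ ?_
  intro i hi
  refine Submodule.smul_mem _ _ ?_
  refine inertiaROf_mem n 1 i.rep ?_
  have := (Finsupp.mem_supported ℚ v).1 hv hi
  exact this

end Groth.Agent.S18020
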