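import Groth.Statements.S18021
import Groth.Agent.Lib.Helper8.Inertia2
import Mathlib.Data.ZMod.Basic

set_option autoImplicit false
open W4c5stacksedinertia

namespace Groth.Agent.S18021

open Groth.Agent.Lib.Helper8.Inertia

universe u

theorem inertiaROf_one_comm (G : Type u) [CommGroup G] [Finite G] :
    inertiaROf 1 G = (Nat.card G : ℚ) • cl G := by
  apply smul_right_injective K (card_ne_zero G)
  change (Nat.card G : ℚ) • inertiaROf 1 G = (Nat.card G : ℚ) • ((Nat.card G : ℚ) • cl G)
  have := Fintype.ofFinite G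
  rw [burnside_one, finsum_eq_sum_of_fintype]
  have hc : ∀ g ∈ (Finset.univ : Finset G), Phi ({g} : Set G) = (Nat.card G : ℚ) • cl G :=
    fun g _ => Phi_central g (Subgroup.mem_center_iff.2 (fun h => mul_comm h g))
  rw [Finset.sum_congr rfl hc, Finset.sum_const, Finset.card_univ, ← Nat.card_eq_fintype_card]
  exact (Nat.cast_smul_eq_nsmul ℚ _ _).symm

theorem centerCard_pos (i : Idx) : 0 < i.centerCard := Nat.card_pos

theorem eigenvalue_pos (μ : ℚ) (h : Module.End.HasEigenvalue inertia μ) :
    ∃ n : ℕ, 0 < n ∧ μ = (n : ℚ) := by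
  obtain ⟨v, hv⟩ := h.exists_hasEigenvector
  have hI : inertia v = μ • v := Module.End.mem_eigenspace_iff.1 hv.1
  have hne : v.support.Nonempty := Finsupp.support_nonempty_iff.2 hv.2
  obtain ⟨i₀, hi₀, hk⟩ := Finset.exists_mem_eq_inf' hne Idx.centerCard
  obtain ⟨k, hkdef⟩ : ∃ k, k = v.support.inf' hne Idx.centerCard := ⟨_, rfl⟩
  rw [← hkdef] at hk
  have hvk : v ∈ Kge k := by
    unfold Kge
    rw [Finsupp.mem_supported]
    intro i hi
    change k ≤ i.centerCard
    rw [hkdef]
    exact Finset.inf'_le _ hi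
  refine ⟨k, hk ▸ centerCard_pos i₀, ?_⟩
  by_contra hμ
  have h1 := inertia_sub_mem_Kge k v hvk
  rw [hI, ← sub_smul, Submodule.smul_mem_iff _ (sub_ne_zero.2 hμ)] at h1
  have h2 := (Finsupp.mem_supported ℚ v).1 h1 hi₀
  change k + 1 ≤ i₀.centerCard at h2
  omega

theorem eigenvalue_of_pos (n : ℕ) (hn : 0 < n) : Module.End.HasEigenvalue inertia (n : ℚ) := by
  have : NeZero n := ⟨hn.ne'⟩
  have : Finite (Multiplicative (ZMod n)) := inferInstanceAs (Finite (ZMod n))
  have hcard : Nat.card (Multiplicative (ZMod n)) = n := by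
    change Nat.card (ZMod n) = n
    exact Nat.card_zmod n
  refine Module.End.hasEigenvalue_of_hasEigenvector (x := cl (Multiplicative (ZMod n))) ⟨?_, ?_⟩
  · rw [Module.End.mem_eigenspace_iff, inertiaR_cl, inertiaROf_one_comm, hcard]
  · unfold cl
    exact Finsupp.single_ne_zero.2 one_ne_zero

theorem aux :
    (⨆ n : ℕ, Module.End.eigenspace inertia (n : ℚ)) = ⊤ ∧
    ∀ μ : ℚ, Module.End.HasEigenvalue inertia μ ↔ ∃ n : ℕ, 0 < n ∧ μ = (n : ℚ) := by
  refine ⟨iSup_eigenspace_eq_top, fun μ => ⟨eigenvalue_pos μ, ?_⟩⟩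
  rintro ⟨n, hn, rfl⟩
  exact eigenvalue_of_pos n hn

open W4c5stacksedinertia in
/-- In the rational vector space K with basis the isomorphism classes of finite groups (the class of a
group standing for its classifying groupoid), the inertia operator is diagonalizable with spectrum
the positive integers: the eigenspaces attached to natural numbers span everything, and a rational
number is an eigenvalue if and only if it is a positive integer. -/
theorem result :
    (⨆ n : ℕ, Module.End.eigenspace inertia (n : ℚ)) = ⊤ ∧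
    ∀ μ : ℚ, Module.End.HasEigenvalue inertia μ ↔ ∃ n : ℕ, 0 < n ∧ μ = (n : ℚ) := by
  exact aux

end Groth.Agent.S18021
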