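import Groth.Statements.S18025
import Groth.Agent.Lib.Helper8.Inertia2
import Mathlib.Data.Nat.Choose.Sum

set_option autoImplicit false
open W4c5stacksedinertia

namespace Groth.Agent.S18025

open Groth.Agent.Lib.Helper8.Inertia

/-- binomial inversion kernel -/
theorem binom_inv (j k : ℕ) :
    ∑ r ∈ Finset.range (j + 1), ((-1 : ℚ) ^ (r + k)) * (Nat.choose r k : ℚ) * (Nat.choose j r : ℚ) =
      if j = k then 1 else 0 := by
  rcases lt_or_ge j k with h | h
  · rw [if_neg (Nat.ne_of_lt h)]
    apply Finset.sum_eq_zero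
    intro r hr
    have : r < k := lt_of_le_of_lt (Nat.lt_succ_iff.1 (Finset.mem_range.1 hr)) h
    rw [Nat.choose_eq_zero_of_lt this]
    simp
  · rw [Finset.range_eq_Ico, ← Finset.sum_Ico_consecutive _ (Nat.zero_le k) (Nat.le_succ_of_le h)]
    have h0 : ∑ r ∈ Finset.Ico 0 k,
        ((-1 : ℚ) ^ (r + k)) * (Nat.choose r k : ℚ) * (Nat.choose j r : ℚ) = 0 := by
      apply Finset.sum_eq_zero
      intro r hr
      rw [Nat.choose_eq_zero_of_lt (Finset.mem_Ico.1 hr).2]
      simp
    rw [h0, zero_add, Finset.sum_Ico_eq_sum_range]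
    have hterm : ∀ m ∈ Finset.range (j + 1 - k),
        ((-1 : ℚ) ^ (k + m + k)) * (Nat.choose (k + m) k : ℚ) * (Nat.choose j (k + m) : ℚ) =
          (Nat.choose j k : ℚ) * (((-1 : ℤ) ^ m * ((j - k).choose m : ℤ) : ℤ) : ℚ) := by
      intro m _
      have hc := Nat.choose_mul (n := j) (k := k + m) (s := k) (Nat.le_add_right k m)
      rw [Nat.add_sub_cancel_left] at hc
      have hc' : (Nat.choose j (k + m) : ℚ) * (Nat.choose (k + m) k : ℚ) =
          (Nat.choose j k : ℚ) * ((j - k).choose m : ℚ) := by exact_mod_cast hc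
      have hs : (-1 : ℚ) ^ (k + m + k) = (-1) ^ m := by
        rw [show k + m + k = m + 2 * k by ring, pow_add, pow_mul]
        simp
      rw [hs]
      push_cast
      calc (-1 : ℚ) ^ m * ((k + m).choose k : ℚ) * (j.choose (k + m) : ℚ)
          = (-1 : ℚ) ^ m * ((j.choose (k + m) : ℚ) * ((k + m).choose k : ℚ)) := by ring
        _ = (j.choose k : ℚ) * ((-1 : ℚ) ^ m * ((j - k).choose m : ℚ)) := by rw [hc']; ring
    rw [Finset.sum_congr rfl hterm, ← Finset.mul_sum, ← Int.cast_sum]
    have hjk : j + 1 - k = (j - k) + 1 := by omega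
    rw [hjk, Int.alternating_sum_range_choose]
    by_cases hjk' : j = k
    · subst hjk'
      simp
    · rw [if_neg hjk', if_neg (by omega)]
      simp

/-- coefficient identity -/
theorem coeff_id (n j k : ℕ) (hj : j ∈ Finset.range (n + 1)) :
    ∑ r ∈ Finset.range (n + 1),
      (((-1 : ℚ) ^ (r + k)) / (Nat.factorial r : ℚ) * (Nat.choose r k : ℚ)) *
        ((j.descFactorial r : ℕ) : ℚ) = if j = k then 1 else 0 := by
  rw [← binom_inv j k]
  have hsub : Finset.range (j + 1) ⊆ Finset.range (n + 1) :=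
    Finset.range_subset_range.2 (Nat.succ_le_of_lt (Finset.mem_range.1 hj))
  rw [← Finset.sum_subset hsub]
  · apply Finset.sum_congr rfl
    intro r _
    rw [Nat.descFactorial_eq_factorial_mul_choose, Nat.cast_mul]
    have : (Nat.factorial r : ℚ) ≠ 0 := by exact_mod_cast Nat.factorial_ne_zero r
    field_simp
  · intro r _ hr
    have : j < r := by
      rw [Finset.mem_range] at hr
      omega
    rw [Nat.descFactorial_eq_zero_iff_lt.2 this]
    simp

theorem aux (v : K) :
    (∀ k : ℕ, (∑ᶠ r : ℕ, (((-1 : ℚ) ^ (r + k)) / (Nat.factorial r : ℚ) * (Nat.choose r k : ℚ)) •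
        inertiaR r v) ∈ Module.End.eigenspace inertia (k : ℚ)) ∧
    (∑ᶠ k : ℕ, ∑ᶠ r : ℕ, (((-1 : ℚ) ^ (r + k)) / (Nat.factorial r : ℚ) * (Nat.choose r k : ℚ)) •
        inertiaR r v) = v := by
  obtain ⟨n, hn⟩ := exists_mem_Kle v
  have hmem := mem_iSup_range_of_mem_Kle n v hn
  rw [Submodule.mem_iSup_finset_iff_exists_sum] at hmem
  obtain ⟨w, hw⟩ := hmem
  have hIr : ∀ r, inertiaR r v =
      ∑ j ∈ Finset.range (n + 1), ((j.descFactorial r : ℕ) : ℚ) • (w j : K) := by
    intro r
    rw [← hw, map_sum]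
    apply Finset.sum_congr rfl
    intro j _
    exact inertiaR_of_eigen_nat j _ (Module.End.mem_eigenspace_iff.1 (w j).2) r
  have hP : ∀ k : ℕ, (∑ᶠ r : ℕ,
      (((-1 : ℚ) ^ (r + k)) / (Nat.factorial r : ℚ) * (Nat.choose r k : ℚ)) • inertiaR r v) =
        if k ∈ Finset.range (n + 1) then (w k : K) else 0 := by
    intro k
    rw [finsum_eq_sum_of_support_subset (s := Finset.range (n + 1))]
    · simp_rw [hIr, Finset.smul_sum, smul_smul]
      rw [Finset.sum_comm]
      simp_rw [← Finset.sum_smul]
      rw [Finset.sum_congr rfl (fun j hj => by rw [coeff_id n j k hj])]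
      simp only [ite_smul, one_smul, zero_smul]
      rw [Finset.sum_ite_eq']
    · intro r hr
      rw [Function.mem_support] at hr
      by_contra hr'
      apply hr
      have : n < r := by
        rw [Finset.mem_coe, Finset.mem_range] at hr'
        omega
      rw [inertiaR_eq_zero_of_mem_Kle n r this v hn, smul_zero]
  constructor
  · intro k
    rw [hP k]
    split_ifs
    · exact (w k).2
    · exact Submodule.zero_mem _
  · rw [finsum_congr hP, finsum_eq_sum_of_support_subset (s := Finset.range (n + 1))]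
    · rw [Finset.sum_congr rfl (fun k hk => if_pos hk)]
      exact hw
    · intro k hk
      rw [Function.mem_support] at hk
      by_contra hk'
      exact hk (if_neg hk')

open W4c5stacksedinertia in
/-- In the rational vector space K with basis the isomorphism classes of finite groups (the class of a
group standing for its classifying groupoid), the operators `P k := ∑ r, ((-1)^(r+k) / r!) *
Nat.choose r k • inertiaR r` (a finite sum on each vector) are the eigenprojections of the inertia
operator: `P k v` lies in the `k`-eigenspace of the inertia operator for every `v` and `k`, and `∑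
k, P k v = v`. -/
theorem result (v : K) :
    (∀ k : ℕ, (∑ᶠ r : ℕ, (((-1 : ℚ) ^ (r + k)) / (Nat.factorial r : ℚ) * (Nat.choose r k : ℚ)) •
        inertiaR r v) ∈ Module.End.eigenspace inertia (k : ℚ)) ∧
    (∑ᶠ k : ℕ, ∑ᶠ r : ℕ, (((-1 : ℚ) ^ (r + k)) / (Nat.factorial r : ℚ) * (Nat.choose r k : ℚ)) •
        inertiaR r v) = v := by
  exact aux v

end Groth.Agent.S18025
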