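import Groth.Statements.S18049
-- import your own Groth.Agent.* helpers here
import Mathlib.Tactic.Linarith
import Mathlib.Tactic.Ring

set_option autoImplicit false
open STCI

namespace Groth.Agent.S18049

theorem aux (a q r : ℕ) (ha2 : 2 ≤ a) (hq1 : 1 ≤ q) (hr0 : 0 < r) : q + a ≤ a * q + r := by
  obtain ⟨q', rfl⟩ : ∃ q', q = q' + 1 := ⟨q - 1, by omega⟩
  obtain ⟨a', rfl⟩ : ∃ a', a = a' + 2 := ⟨a - 2, by omega⟩
  nlinarith

/-- For natural numbers 0 < k < N such that k does not divide N, ⌊N/k⌋ ≤ (N - k)/gcd(k, N); stated here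
in the equivalent cleared form ⌊N/k⌋ · gcd(k, N) ≤ N - k. -/
theorem result (k N : ℕ) (hk : 0 < k) (hkN : k < N) (hndvd : ¬ k ∣ N) :
    N / k * Nat.gcd k N ≤ N - k := by
  obtain ⟨a, ha⟩ := Nat.gcd_dvd_left k N
  obtain ⟨c, hc⟩ := Nat.gcd_dvd_right k N
  have hg0 : 0 < Nat.gcd k N := Nat.gcd_pos_of_pos_left N hk
  generalize Nat.gcd k N = g at ha hc hg0 ⊢
  have ha0 : 0 < a := by
    rcases Nat.eq_zero_or_pos a with h | h
    · rw [h, mul_zero] at ha; omega
    · exact h
  have hdiv : N / k = c / a := by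
    rw [ha, hc, Nat.mul_div_mul_left _ _ hg0]
  have hac : ¬ a ∣ c := by
    rintro ⟨m, hm⟩
    apply hndvd
    refine ⟨m, ?_⟩
    rw [hc, hm, ha, mul_assoc]
  have ha2 : 2 ≤ a := by
    by_contra h
    have : a = 1 := by omega
    exact hac (this ▸ one_dvd c)
  have hmod : c = a * (c / a) + c % a := (Nat.div_add_mod c a).symm
  have hr0 : 0 < c % a := by
    rcases Nat.eq_zero_or_pos (c % a) with h | h
    · exact absurd (Nat.dvd_of_mod_eq_zero h) hac
    · exact h
  have hac' : a < c := by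
    have : g * a < g * c := by rw [← ha, ← hc]; exact hkN
    exact Nat.lt_of_mul_lt_mul_left this
  have hq1 : 1 ≤ c / a := Nat.div_pos (Nat.le_of_lt hac') ha0
  rw [hdiv, hc, ha, ← Nat.mul_sub, mul_comm (c / a) g]
  apply Nat.mul_le_mul_left
  have := aux a (c / a) (c % a) ha2 hq1 hr0
  omega

end Groth.Agent.S18049
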