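import Groth.Statements.S18050
import Mathlib.Algebra.BigOperators.Intervals
import Mathlib.Data.Nat.GCD.Basic
import Mathlib.Tactic
-- import your own Groth.Agent.* helpers here

set_option autoImplicit false
open STCI

namespace Groth.Agent.S18050

open W4c5stcicurvesp3

theorem irem_shift (a b : ℕ) (h : a % b ≠ 0) :
    ∀ i, irem a b (i + 1) = irem b (a % b) i ∧ irem a b (i + 2) = irem b (a % b) (i + 1) := by
  intro i
  induction i with
  | zero =>
    refine ⟨rfl, ?_⟩
    show (if irem a b 1 = 0 then 0 else irem a b 0 % irem a b 1) = b % (a % b)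
    have : irem a b 1 = a % b := rfl
    rw [this, if_neg h]
    rfl
  | succ i ih =>
    refine ⟨ih.2, ?_⟩
    show (if irem a b (i + 2) = 0 then 0 else irem a b (i + 1) % irem a b (i + 2)) =
      (if irem b (a % b) (i + 1) = 0 then 0 else irem b (a % b) i % irem b (a % b) (i + 1))
    rw [ih.1, ih.2]

theorem idiv_shift (a b : ℕ) (h : a % b ≠ 0) (i : ℕ) :
    idiv a b (i + 2) = idiv b (a % b) (i + 1) := by
  cases i with
  | zero =>
    show (if irem a b 1 = 0 then 0 else irem a b 0 / irem a b 1) = b / (a % b)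
    have : irem a b 1 = a % b := rfl
    rw [this, if_neg h]
    rfl
  | succ i =>
    show (if irem a b (i + 2) = 0 then 0 else irem a b (i + 1) / irem a b (i + 2)) =
      (if irem b (a % b) (i + 1) = 0 then 0 else irem b (a % b) i / irem b (a % b) (i + 1))
    rw [(irem_shift a b h i).1, (irem_shift a b h i).2]

theorem main : ∀ (t N k : ℕ), 0 < k → k ≤ N → irem N k (t + 1) = 0 →
    (∀ i, 0 < i → i < t + 1 → irem N k i ≠ 0) →
    (∑ i ∈ Finset.range (t + 1), idiv N k (i + 1)) * Nat.gcd k N ≤ N := by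
  intro t
  induction t with
  | zero =>
    intro N k hk hkN hzero _
    have h1 : N % k = 0 := hzero
    have hdvd : k ∣ N := Nat.dvd_of_mod_eq_zero h1
    rw [Finset.sum_range_one, Nat.gcd_eq_left hdvd]
    show N / k * k ≤ N
    rw [Nat.div_mul_cancel hdvd]
  | succ t ih =>
    intro N k hk hkN hzero hmin
    have hr : N % k ≠ 0 := hmin 1 (by omega) (by omega)
    have hrpos : 0 < N % k := Nat.pos_of_ne_zero hr
    have hrk : N % k ≤ k := (Nat.mod_lt N hk).le
    have hIH := ih k (N % k) hrpos hrk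
      (by rw [← (irem_shift N k hr (t + 1)).1]; exact hzero)
      (by
        intro i hi0 hit
        rw [← (irem_shift N k hr i).1]
        exact hmin (i + 1) (by omega) (by omega))
    have hg : Nat.gcd (N % k) k = Nat.gcd k N := (Nat.gcd_rec k N).symm
    rw [hg] at hIH
    rw [Finset.sum_range_succ']
    have hsum : ∑ i ∈ Finset.range (t + 1), idiv N k (i + 1 + 1) =
        ∑ i ∈ Finset.range (t + 1), idiv k (N % k) (i + 1) :=
      Finset.sum_congr rfl fun i _ => idiv_shift N k hr i
    rw [hsum]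
    have hd : idiv N k (0 + 1) = N / k := rfl
    rw [hd]
    set g := Nat.gcd k N with hgdef
    set S' := ∑ i ∈ Finset.range (t + 1), idiv k (N % k) (i + 1)
    have hgr : g ≤ N % k := by
      apply Nat.le_of_dvd hrpos
      rw [Nat.dvd_mod_iff (Nat.gcd_dvd_left k N)]
      exact Nat.gcd_dvd_right k N
    have hgk : g ≤ k := Nat.le_of_dvd hk (Nat.gcd_dvd_left k N)
    have hdpos : 1 ≤ N / k := (Nat.one_le_div_iff hk).mpr hkN
    have hN : k * (N / k) + N % k = N := Nat.div_add_mod N k
    obtain ⟨d', hd'⟩ : ∃ d', N / k = d' + 1 := ⟨N / k - 1, by omega⟩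
    rw [hd'] at hN ⊢
    have h1 : d' * g ≤ d' * k := Nat.mul_le_mul_left d' hgk
    calc (S' + (d' + 1)) * g = S' * g + d' * g + g := by ring
      _ ≤ k + d' * k + N % k := by omega
      _ = k * (d' + 1) + N % k := by ring
      _ = N := hN

open W4c5stcicurvesp3 in
/-- Let k ≤ N be positive integers, let t be the least positive integer with rem_t(N, k) = 0, where
rem_0 = k, rem_1 = N mod k and rem_i is the remainder of rem_{i-2} by rem_{i-1} (iterated Euclidean
remainders), and let d_i be the corresponding iterated quotients (d_1 = ⌊N/k⌋, d_i =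
⌊rem_{i-2}/rem_{i-1}⌋). Then d_1 + ⋯ + d_t ≤ N/gcd(k, N); stated in the cleared form (d_1 + ⋯ + d_t)
· gcd(k, N) ≤ N. -/
theorem result (k N t : ℕ) (hk : 0 < k) (hkN : k ≤ N) (ht : 0 < t)
    (hzero : irem N k t = 0) (hmin : ∀ i, 0 < i → i < t → irem N k i ≠ 0) :
    (∑ i ∈ Finset.Icc 1 t, idiv N k i) * Nat.gcd k N ≤ N := by
  obtain ⟨t', rfl⟩ : ∃ t', t = t' + 1 := ⟨t - 1, by omega⟩
  have := main t' N k hk hkN hzero hmin
  have hsum : ∑ i ∈ Finset.Icc 1 (t' + 1), idiv N k i = ∑ i ∈ Finset.range (t' + 1), idiv N k (i + 1) := by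
    rw [Finset.range_eq_Ico, Finset.sum_Ico_add' (fun i => idiv N k i) 0 (t' + 1) 1]
    congr 1
  rw [hsum]
  exact this

end Groth.Agent.S18050
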