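import Groth.Statements.S18051
import Mathlib

set_option autoImplicit false
open STCI

namespace Groth.Agent.S18051



theorem key (a b c e : ℚ) (ha : 0 ≤ a) (hb : 0 ≤ b) (hc : 0 ≤ c) (he : 0 ≤ e)
    (k N r1 r2 d1 d2 : ℚ) (hd1 : d1 = a + 2) (hd2 : d2 = b + 1) (hr2 : r2 = e) (hr1 : r1 = e + c)
    (hk : k = r1 * d2 + r2) (hN : N = k * d1 + r1) (hNpos : 0 < N) :
    (k - r1) / d1 + (r1 - r2) / (d1 + d2) + r2 / (d1 + d2 + 1) ≤ k ^ 2 / N := by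
  have hA : 0 < d1 := by rw [hd1]; linarith
  have hB : 0 < d1 + d2 := by rw [hd1, hd2]; linarith
  have hC : 0 < d1 + d2 + 1 := by linarith
  rw [div_add_div _ _ hA.ne' hB.ne', div_add_div _ _ (mul_pos hA hB).ne' hC.ne',
    div_le_div_iff₀ (mul_pos (mul_pos hA hB) hC) hNpos]
  have hQ : 0 ≤ 6*e^2 + 2*c*e + 11*b*e^2 + 15*b*c*e + 4*b*c^2 + 6*b^2*e^2 + 11*b^2*c*e + 5*b^2*c^2 + 1*b^3*e^2 + 2*b^3*c*e + 1*b^3*c^2 + 8*a*e^2 + 4*a*c*e + 14*a*b*e^2 + 19*a*b*c*e + 5*a*b*c^2 + 7*a*b^2*e^2 + 13*a*b^2*c*e + 6*a*b^2*c^2 + 1*a*b^3*e^2 + 2*a*b^3*c*e + 1*a*b^3*c^2 + 2*a^2*e^2 + 1*a^2*c*e + 3*a^2*b*e^2 + 4*a^2*b*c*e + 1*a^2*b*c^2 + 1*a^2*b^2*e^2 + 2*a^2*b^2*c*e + 1*a^2*b^2*c^2 := by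
    positivity
  have hid : k ^ 2 * (d1 * (d1 + d2) * (d1 + d2 + 1)) -
      (((k - r1) * (d1 + d2) + d1 * (r1 - r2)) * (d1 + d2 + 1) + d1 * (d1 + d2) * r2) * N
      = 6*e^2 + 2*c*e + 11*b*e^2 + 15*b*c*e + 4*b*c^2 + 6*b^2*e^2 + 11*b^2*c*e + 5*b^2*c^2 + 1*b^3*e^2 + 2*b^3*c*e + 1*b^3*c^2 + 8*a*e^2 + 4*a*c*e + 14*a*b*e^2 + 19*a*b*c*e + 5*a*b*c^2 + 7*a*b^2*e^2 + 13*a*b^2*c*e + 6*a*b^2*c^2 + 1*a*b^3*e^2 + 2*a*b^3*c*e + 1*a*b^3*c^2 + 2*a^2*e^2 + 1*a^2*c*e + 3*a^2*b*e^2 + 4*a^2*b*c*e + 1*a^2*b*c^2 + 1*a^2*b^2*e^2 + 2*a^2*b^2*c*e + 1*a^2*b^2*c^2 := by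
    rw [hN, hk, hr1, hr2, hd1, hd2]; ring
  linarith

open W4c5stcicurvesp3 in
/-- Let k ≤ N/2 be positive integers and let r_i = rem_i(N, k), d_i = div_i(N, k) be the iterated
Euclidean remainders and quotients of (N, k) (r_0 = k, r_1 = N mod k, r_2 = r_0 mod r_1, d_1 =
⌊N/k⌋, d_2 = ⌊r_0/r_1⌋). If the least positive t with r_t = 0 satisfies t ≥ 3, i.e. r_1 ≠ 0 and r_2
≠ 0, then (r_0 - r_1)/d_1 + (r_1 - r_2)/(d_1 + d_2) + r_2/(d_1 + d_2 + 1) ≤ k²/N (in ℚ). -/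
theorem result (k N : ℕ) (hk : 0 < k) (hkN : 2 * k ≤ N)
    (h1 : irem N k 1 ≠ 0) (h2 : irem N k 2 ≠ 0) :
    ((irem N k 0 : ℚ) - irem N k 1) / (idiv N k 1)
      + ((irem N k 1 : ℚ) - irem N k 2) / ((idiv N k 1 : ℚ) + idiv N k 2)
      + (irem N k 2 : ℚ) / ((idiv N k 1 : ℚ) + idiv N k 2 + 1)
      ≤ (k : ℚ) ^ 2 / N := by
  have e0 : irem N k 0 = k := rfl
  have e1 : irem N k 1 = N % k := rfl
  have hr1 : N % k ≠ 0 := h1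
  have e2 : irem N k 2 = k % (N % k) := by
    show (if irem N k 1 = 0 then 0 else irem N k 0 % irem N k 1) = _
    rw [if_neg h1]; rfl
  have f1 : idiv N k 1 = N / k := rfl
  have f2 : idiv N k 2 = k / (N % k) := by
    show (if irem N k 1 = 0 then 0 else irem N k 0 / irem N k 1) = _
    rw [if_neg h1]; rfl
  rw [e2] at h2
  rw [e0, e1, e2, f1, f2]
  set r1 := N % k with hr1def
  set r2 := k % r1 with hr2def
  set d1 := N / k with hd1def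
  set d2 := k / r1 with hd2def
  have hr1k : r1 < k := Nat.mod_lt _ hk
  have hr2r1 : r2 < r1 := Nat.mod_lt _ (Nat.pos_of_ne_zero hr1)
  have hNeq : N = k * d1 + r1 := (Nat.div_add_mod N k).symm
  have hkeq : k = r1 * d2 + r2 := (Nat.div_add_mod k r1).symm
  have hd1 : 2 ≤ d1 := by
    rw [hd1def, Nat.le_div_iff_mul_le hk]; exact hkN
  have hd2 : 1 ≤ d2 := by
    rw [hd2def, Nat.le_div_iff_mul_le (Nat.pos_of_ne_zero hr1)]; omega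
  obtain ⟨a, ha⟩ : ∃ a, d1 = a + 2 := ⟨d1 - 2, by omega⟩
  obtain ⟨b, hb⟩ : ∃ b, d2 = b + 1 := ⟨d2 - 1, by omega⟩
  obtain ⟨c, hc⟩ : ∃ c, r1 = r2 + c := ⟨r1 - r2, by omega⟩
  have hNpos : (0 : ℚ) < N := by
    have : 0 < N := by omega
    exact_mod_cast this
  refine key (a : ℚ) b c r2 (by positivity) (by positivity) (by positivity) (by positivity)
    k N r1 r2 d1 d2 (by rw [ha]; push_cast; ring) (by rw [hb]; push_cast; ring) rfl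
    (by rw [hc]; push_cast; ring) (by exact_mod_cast hkeq) (by exact_mod_cast hNeq) hNpos

end Groth.Agent.S18051
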