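import Groth.Statements.S18052
import Groth.Agent.S18050
import Mathlib

set_option autoImplicit false
open STCI

namespace Groth.Agent.S18052

section Helpers
open W4c5stcicurvesp3

theorem real_ineq (b r e : ℚ) (hb : 0 < b) (hr : 0 ≤ r) (hrb : r ≤ b) (he : 1 ≤ e) :
    (b - r) / e + r ^ 2 / (b + e * r) ≤ b ^ 2 / (e * b + r) := by
  have he0 : 0 < e := by linarith
  have h1 : 0 < b + e * r := by positivity
  have h2 : 0 < e * b + r := by positivity
  rw [div_add_div _ _ he0.ne' h1.ne', div_le_div_iff₀ (mul_pos he0 h1) h2]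
  have hid : b ^ 2 * (e * (b + e * r)) - ((b - r) * (b + e * r) + e * r ^ 2) * (e * b + r)
      = (e - 1) * r * (b - r) * b := by ring
  have hnn : 0 ≤ (e - 1) * r * (b - r) * b :=
    mul_nonneg (mul_nonneg (mul_nonneg (by linarith) hr) (by linarith)) hb.le
  linarith

theorem sum_Icc_one (f : ℕ → ℚ) (n : ℕ) :
    ∑ j ∈ Finset.Icc 1 n, f j = ∑ j ∈ Finset.range n, f (j + 1) := by
  rw [Finset.range_eq_Ico, Finset.sum_Ico_add' f 0 n 1]
  congr 1

theorem main : ∀ (t N k : ℕ) (c : ℚ), 0 < k → k ≤ N → 0 ≤ c → irem N k (t + 1) = 0 →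
    (∀ i, 0 < i → i < t + 1 → irem N k i ≠ 0) →
    ∑ i ∈ Finset.range (t + 1), ((irem N k i : ℚ) - irem N k (i + 1)) /
        (c + ∑ j ∈ Finset.range (i + 1), (idiv N k (j + 1) : ℚ))
      ≤ (k : ℚ) ^ 2 / (N + c * k) := by
  intro t
  induction t with
  | zero =>
    intro N k c hk hkN hc hzero _
    have h1 : N % k = 0 := hzero
    have hdvd : k ∣ N := Nat.dvd_of_mod_eq_zero h1
    rw [Finset.sum_range_one, Finset.sum_range_one]
    have e0 : irem N k 0 = k := rfl
    have e1 : irem N k (0 + 1) = 0 := hzero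
    have f1 : idiv N k (0 + 1) = N / k := rfl
    rw [e0, e1, f1]
    obtain ⟨d, rfl⟩ := hdvd
    rw [Nat.mul_div_cancel_left d hk]
    have hkq : (0 : ℚ) < k := by exact_mod_cast hk
    have hd : 1 ≤ d := by
      by_contra h
      have : d = 0 := by omega
      subst this
      omega
    have hdq : (1 : ℚ) ≤ d := by exact_mod_cast hd
    push_cast
    rw [sub_zero, div_le_div_iff₀ (by linarith) (by positivity)]
    apply le_of_eq
    ring
  | succ t ih =>
    intro N k c hk hkN hc hzero hmin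
    have hr : N % k ≠ 0 := hmin 1 (by omega) (by omega)
    have hrpos : 0 < N % k := Nat.pos_of_ne_zero hr
    have hrk : N % k ≤ k := (Nat.mod_lt N hk).le
    have hdpos : 1 ≤ N / k := (Nat.one_le_div_iff hk).mpr hkN
    have hdq : (1 : ℚ) ≤ (N / k : ℕ) := by exact_mod_cast hdpos
    have hIH := ih k (N % k) (c + (N / k : ℕ)) hrpos hrk (by linarith)
      (by rw [← (Groth.Agent.S18050.irem_shift N k hr (t + 1)).1]; exact hzero)
      (by
        intro i hi0 hit
        rw [← (Groth.Agent.S18050.irem_shift N k hr i).1]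
        exact hmin (i + 1) (by omega) (by omega))
    rw [Finset.sum_range_succ']
    have hsum : ∑ i ∈ Finset.range (t + 1), ((irem N k (i + 1) : ℚ) - irem N k (i + 1 + 1)) /
        (c + ∑ j ∈ Finset.range (i + 1 + 1), (idiv N k (j + 1) : ℚ))
        = ∑ i ∈ Finset.range (t + 1), ((irem k (N % k) i : ℚ) - irem k (N % k) (i + 1)) /
        (c + (N / k : ℕ) + ∑ j ∈ Finset.range (i + 1), (idiv k (N % k) (j + 1) : ℚ)) := by
      refine Finset.sum_congr rfl fun i _ => ?_
      rw [(Groth.Agent.S18050.irem_shift N k hr i).1, (Groth.Agent.S18050.irem_shift N k hr i).2]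
      congr 1
      rw [Finset.sum_range_succ' (fun j => (idiv N k (j + 1) : ℚ))]
      have f1 : idiv N k (0 + 1) = N / k := rfl
      rw [f1]
      have : ∑ j ∈ Finset.range (i + 1), (idiv N k (j + 1 + 1) : ℚ)
          = ∑ j ∈ Finset.range (i + 1), (idiv k (N % k) (j + 1) : ℚ) :=
        Finset.sum_congr rfl fun j _ => by rw [Groth.Agent.S18050.idiv_shift N k hr j]
      rw [this]
      ring
    rw [hsum]
    have e0 : irem N k 0 = k := rfl
    have e1 : irem N k (0 + 1) = N % k := rfl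
    have f1 : idiv N k (0 + 1) = N / k := rfl
    rw [Finset.sum_range_one, e0, e1, f1]
    have hkq : (0 : ℚ) < k := by exact_mod_cast hk
    have hrq : (0 : ℚ) ≤ (N % k : ℕ) := by positivity
    have hrkq : ((N % k : ℕ) : ℚ) ≤ k := by exact_mod_cast hrk
    have hN : (N : ℚ) = k * (N / k : ℕ) + (N % k : ℕ) := by
      exact_mod_cast (Nat.div_add_mod N k).symm
    have hreal := real_ineq (k : ℚ) ((N % k : ℕ) : ℚ) (c + (N / k : ℕ)) hkq hrq hrkq (by linarith)
    have hden1 : (k : ℚ) + (c + (N / k : ℕ)) * (N % k : ℕ) = k + (c + (N / k : ℕ)) * (N % k : ℕ) := rfl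
    have hden2 : (N : ℚ) + c * k = (c + (N / k : ℕ)) * k + (N % k : ℕ) := by rw [hN]; ring
    rw [hden2]
    calc _ ≤ ((N % k : ℕ) : ℚ) ^ 2 / (k + (c + (N / k : ℕ)) * (N % k : ℕ))
          + ((k : ℚ) - (N % k : ℕ)) / (c + (N / k : ℕ)) := by
          have := hIH
          push_cast at this ⊢
          linarith
      _ ≤ _ := by
          rw [add_comm]; exact hreal

end Helpers

open W4c5stcicurvesp3 in
/-- Let k ≤ N/2 be positive integers, let r_i = rem_i(N, k) and d_i = div_i(N, k) be the iterated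
Euclidean remainders and quotients of (N, k) (r_0 = k, r_1 = N mod k, …; d_1 = ⌊N/k⌋, d_i =
⌊r_{i-2}/r_{i-1}⌋), and let t be the least positive integer with r_t = 0. Then the sum over i = 0,
…, t - 1 of (r_i - r_{i+1})/(d_1 + ⋯ + d_{i+1}) is at most k²/N (in ℚ). -/
theorem result (k N t : ℕ) (hk : 0 < k) (hkN : 2 * k ≤ N) (ht : 0 < t)
    (hzero : irem N k t = 0) (hmin : ∀ i, 0 < i → i < t → irem N k i ≠ 0) :
    ∑ i ∈ Finset.range t, ((irem N k i : ℚ) - irem N k (i + 1)) / (∑ j ∈ Finset.Icc 1 (i + 1), (idiv N k j : ℚ))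
      ≤ (k : ℚ) ^ 2 / N := by
  obtain ⟨t', rfl⟩ : ∃ t', t = t' + 1 := ⟨t - 1, by omega⟩
  have := main t' N k 0 hk (by omega) le_rfl hzero hmin
  simp only [zero_add, zero_mul, add_zero] at this
  have hsum : ∀ i, ∑ j ∈ Finset.Icc 1 (i + 1), (idiv N k j : ℚ)
      = ∑ j ∈ Finset.range (i + 1), (idiv N k (j + 1) : ℚ) :=
    fun i => sum_Icc_one (fun j => (idiv N k j : ℚ)) (i + 1)
  simp only [hsum]
  exact this

end Groth.Agent.S18052
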