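import Groth.Statements.S18061
import Groth.Agent.Lib.Helper24.UnipSpec.Field
import Groth.Agent.Lib.Helper24.UnipSpec.Sat

set_option autoImplicit false
universe u
open scoped TensorProduct
open HopfRep

namespace Groth.Agent.S18061

/-- A is a discrete valuation ring, K denotes its field of fractions and k its residue field; G = Spec H
is a flat affine A-group scheme of finite presentation, H being a flat, finitely presented
commutative Hopf algebra over A. If the generic fibre G_K is unipotent (every nonzero
finite-dimensional representation has a nonzero fixed vector), then so is the special fibre G_k. -/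
theorem result (A : Type u) [CommRing A] [IsDomain A] [IsDiscreteValuationRing A]
    (K : Type u) [Field K] [Algebra A K] [IsFractionRing A K]
    (H : Type u) [CommRing H] [HopfAlgebra A H] [Module.Flat A H] [Algebra.FinitePresentation A H]
    (hK : HopfRep.IsUnipotent K (K ⊗[A] H)) :
    HopfRep.IsUnipotent (IsLocalRing.ResidueField A) (IsLocalRing.ResidueField A ⊗[A] H) := by
  open Groth.Agent.Lib.Helper24.UnipSpec in
  have h1 := iSup_L_eq_top_of_isUnipotent hK
  apply isUnipotent_of_iSup_L
  rw [eq_top_iff]
  rintro x -
  induction x using TensorProduct.induction_on with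
  | zero => exact zero_mem _
  | tmul c h =>
    have h2 : (1 : K) ⊗ₜ[A] h ∈ ⨆ s, L K (K ⊗[A] H) s := by rw [h1]; trivial
    obtain ⟨s, hs⟩ := (Submodule.mem_iSup_of_directed _ L_mono.directed_le).mp h2
    have h3 := mem_L_of_incl K s h hs
    have h4 := incl_mem_L (IsLocalRing.ResidueField A) s h3
    have h5 : c ⊗ₜ[A] h = c • ((1 : IsLocalRing.ResidueField A) ⊗ₜ[A] h) := by
      rw [TensorProduct.smul_tmul', smul_eq_mul, mul_one]
    rw [h5]
    exact Submodule.smul_mem _ _ (Submodule.mem_iSup_of_mem s h4)
  | add x y hx hy => exact add_mem hx hy


end Groth.Agent.S18061
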