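import Groth.Statements.S1830
import Groth.Agent.Lib.Helper5.KosFlatBC2
import Groth.Agent.Lib.Helper5.GorLCIB

set_option autoImplicit false
universe u
open CategoryTheory
open scoped TensorProduct
attribute [local instance] HasDerivedCategory.standard
open Goren

namespace Groth.Agent.S1830

attribute [local instance] MvPolynomial.algebraMvPolynomial

/-- A flat local complete intersection ring map has Gorenstein fibres: let A → B be a flat ring
homomorphism which is a local complete intersection. Then for every prime p of A the fibre ring B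
⊗_A κ(p) is a Gorenstein ring. (This is the affine form of the statement that a syntomic morphism is
a Gorenstein morphism.) -/
theorem result (A B : Type u) [CommRing A] [CommRing B] [Algebra A B] [Module.Flat A B] (hl : LCI.IsLCI A B) (p : PrimeSpectrum A) : LocCoh.IsGorensteinRing (B ⊗[A] p.asIdeal.ResidueField) := by
  obtain ⟨-, n, f, hf, hI⟩ := hl
  have hflatq : Module.Flat A (MvPolynomial (Fin n) A ⧸ RingHom.ker f.toRingHom) :=
    Module.Flat.of_linearEquiv (Ideal.quotientKerAlgEquivOfSurjective hf).toLinearEquiv
  have hI' := Groth.Agent.Lib.Helper5.KosFlatBC.isKoszulRegularIdeal_map_of_flat A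
    p.asIdeal.ResidueField (P' := MvPolynomial (Fin n) p.asIdeal.ResidueField)
    (RingHom.ker f.toRingHom) hI
  have hP' : LocCoh.IsGorensteinRing (MvPolynomial (Fin n) p.asIdeal.ResidueField) :=
    Groth.Agent.Lib.Helper5.GorFibre.isGorensteinRing_of_isRegularRing _
  have hQ := Groth.Agent.Lib.Helper5.GorLCI.isGorensteinRing_quotient hP' _ hI'
  let e := MvPolynomial.algebraTensorAlgEquiv (σ := Fin n) A p.asIdeal.ResidueField
  let m : p.asIdeal.ResidueField ⊗[A] MvPolynomial (Fin n) A →ₐ[p.asIdeal.ResidueField]
      p.asIdeal.ResidueField ⊗[A] B :=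
    Algebra.TensorProduct.map (AlgHom.id p.asIdeal.ResidueField p.asIdeal.ResidueField) f
  let c := Algebra.TensorProduct.comm A p.asIdeal.ResidueField B
  let Φ : MvPolynomial (Fin n) p.asIdeal.ResidueField →+* B ⊗[A] p.asIdeal.ResidueField :=
    (c.toRingEquiv.toRingHom.comp m.toRingHom).comp e.symm.toRingEquiv.toRingHom
  have hΦ : Function.Surjective Φ :=
    (c.surjective.comp (Algebra.TensorProduct.map_surjective _ f Function.surjective_id hf)).comp
      e.symm.surjective
  have hker : RingHom.ker Φ = (RingHom.ker f.toRingHom).map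
      (algebraMap (MvPolynomial (Fin n) A) (MvPolynomial (Fin n) p.asIdeal.ResidueField)) := by
    have h1 : RingHom.ker Φ = (RingHom.ker m.toRingHom).comap e.symm.toRingEquiv.toRingHom := by
      rw [← RingHom.ker_equiv_comp m.toRingHom c.toRingEquiv, RingHom.comap_ker]
    have h2 : RingHom.ker m.toRingHom = (RingHom.ker f.toRingHom).map
        (Algebra.TensorProduct.includeRight : MvPolynomial (Fin n) A →ₐ[A]
          p.asIdeal.ResidueField ⊗[A] MvPolynomial (Fin n) A) :=
      Algebra.TensorProduct.lTensor_ker f hf
    have h3 : ((RingHom.ker f.toRingHom).map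
        (Algebra.TensorProduct.includeRight : MvPolynomial (Fin n) A →ₐ[A]
          p.asIdeal.ResidueField ⊗[A] MvPolynomial (Fin n) A)).comap
          e.symm.toRingEquiv.toRingHom =
        ((RingHom.ker f.toRingHom).map
        (Algebra.TensorProduct.includeRight : MvPolynomial (Fin n) A →ₐ[A]
          p.asIdeal.ResidueField ⊗[A] MvPolynomial (Fin n) A)).map e.toRingEquiv :=
      Ideal.comap_symm e.toRingEquiv
    rw [h1, h2, h3]
    change Ideal.map e.toRingEquiv.toRingHom (Ideal.map
      (Algebra.TensorProduct.includeRight : MvPolynomial (Fin n) A →ₐ[A]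
          p.asIdeal.ResidueField ⊗[A] MvPolynomial (Fin n) A).toRingHom _) = _
    rw [Ideal.map_map]
    congr 1
    refine RingHom.ext fun x => ?_
    change e ((1 : p.asIdeal.ResidueField) ⊗ₜ[A] x) = MvPolynomial.map (algebraMap A _) x
    rw [MvPolynomial.algebraTensorAlgEquiv_tmul, one_smul]
  rw [← hker] at hQ
  exact Groth.Agent.Lib.Helper5.GorFibre.isGorensteinRing_of_ringEquiv
    (RingHom.quotientKerEquivOfSurjective hΦ) hQ

end Groth.Agent.S1830
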