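import Groth.Statements.S18126
import Groth.Agent.S1830
import Groth.Agent.Lib.helper10.LciH1
import Groth.Agent.Lib.helper10.LciH1Rel

set_option autoImplicit false
universe u
open Deform

namespace Groth.Agent.S18126

/-- Let A be a Noetherian ring in which 2 is invertible and P a flat A-algebra which is a local complete
intersection over A (of finite type, with Koszul-regular kernel for some polynomial presentation)
and whose fibres are generically smooth: every prime of P minimal among the primes of its fibre over
A lies in the smooth locus of A → P. Then the first homology of the naive cotangent complex of P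
over A vanishes, H_1(NL_{P/A}) = 0: for every presentation P = S/I by a polynomial A-algebra S the
conormal sequence 0 → I/I^2 → Ω_{S/A} ⊗_S P → Ω_{P/A} → 0 is exact on the left. Since the cotangent
complex of a local complete intersection is this two-term complex, it is quasi-isomorphic to Ω_{P/A}
in degree 0, which is the identification that makes T^1 = Ext^1(Ω_{P/A}, P) the degree-one
cohomology of RHom of the cotangent complex into P. (The text states the latter identification for a
flat local complete intersection morphism of Noetherian schemes with generically smooth fibres; the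
row is its affine content.) -/
theorem result
    (A : Type u) [CommRing A] [IsNoetherianRing A] (h2 : IsUnit (2 : A))
    (P : Type u) [CommRing P] [Algebra A P] [Module.Flat A P] (hlci : LCI.IsLCI A P)
    (hgs : ∀ 𝔓 : PrimeSpectrum P,
      (∀ 𝔔 : PrimeSpectrum P, 𝔔 ≤ 𝔓 →
          𝔔.asIdeal.comap (algebraMap A P) = 𝔓.asIdeal.comap (algebraMap A P) → 𝔔 = 𝔓) →
        𝔓 ∈ Algebra.smoothLocus A P) :
    Subsingleton (Algebra.H1Cotangent A P) := by
  classical
  have hlci' := hlci
  obtain ⟨-, n, f, hf, hI⟩ := hlci
  have : IsNoetherianRing P := isNoetherianRing_of_surjective (MvPolynomial (Fin n) A) P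
    f.toRingHom hf
  -- fibres have no embedded primes
  have hfib : ∀ (𝔭 : Ideal A) [𝔭.IsPrime] (q : Ideal (𝔭.Fiber P)),
      IsAssociatedPrime q (𝔭.Fiber P) → q ∈ minimalPrimes (𝔭.Fiber P) := by
    intro 𝔭 _ q hq
    have hG0 := Groth.Agent.S1830.result A P hlci' ⟨𝔭, inferInstance⟩
    have hG : LocCoh.IsGorensteinRing (𝔭.Fiber P) :=
      Groth.Agent.Lib.Helper5.GorFibre.isGorensteinRing_of_ringEquiv
        (Algebra.TensorProduct.comm A P 𝔭.ResidueField).toRingEquiv hG0
    have : IsNoetherianRing (𝔭.Fiber P) := hG.toIsNoetherian
    have hCM : ∀ (p : Ideal (𝔭.Fiber P)) [p.IsPrime],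
        LocCoh.IsCohenMacaulayLocalRing (Localization.AtPrime p) := fun p _ => by
      have := hG.isGorensteinLocalRing_localization p
      exact Groth.Agent.S0341.result _
    exact Groth.Agent.Lib.helper10.LciH1.mem_minimalPrimes_of_isAssociatedPrime hCM q hq
  have haeval : MvPolynomial.aeval (fun i => f (MvPolynomial.X i)) = f := by
    apply MvPolynomial.algHom_ext
    intro i
    rw [MvPolynomial.aeval_X]
  let G : Algebra.Generators A P (Fin n) :=
    Algebra.Generators.ofSurjective (fun i => f (MvPolynomial.X i)) (by rw [haeval]; exact hf)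
  have hker : G.toExtension.ker = RingHom.ker f.toRingHom := by
    ext x
    change algebraMap G.toExtension.Ring P x = 0 ↔ f x = 0
    have : algebraMap G.toExtension.Ring P x =
        MvPolynomial.aeval (fun i => f (MvPolynomial.X i)) x := rfl
    rw [this, haeval]
  have hK : LCI.IsKoszulRegularIdeal G.toExtension.ker := by rw [hker]; exact hI
  obtain ⟨-, hproj⟩ :=
    Groth.Agent.Lib.Helper5.CotLoc.extension_cotangent_finite_projective G.toExtension hK
  let e : Algebra.H1Cotangent A P ≃ₗ[P] G.toExtension.H1Cotangent :=
    Algebra.Generators.H1Cotangent.equiv (Algebra.Generators.self A P) G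
  suffices hall : ∀ h : Algebra.H1Cotangent A P, h = 0 from
    ⟨fun a b => by rw [hall a, hall b]⟩
  intro h
  have key : G.toExtension.h1Cotangentι (e h) = 0 := by
    apply Groth.Agent.Lib.helper10.LciH1Rel.eq_zero_of_forall_ass (A := P)
    intro p hp
    have : p.IsPrime := hp.isPrime
    have hsm : (⟨p, inferInstance⟩ : PrimeSpectrum P) ∈ Algebra.smoothLocus A P := by
      apply hgs
      intro 𝔔 hle hco
      exact Groth.Agent.Lib.helper10.LciH1Rel.eq_of_le_of_isAssociatedPrime hfib
        ⟨p, inferInstance⟩ hp 𝔔 hle hco
    have : Algebra.FormallySmooth A (Localization.AtPrime p) := hsm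
    have hsub : Subsingleton (Algebra.H1Cotangent A (Localization.AtPrime p)) :=
      Algebra.FormallySmooth.subsingleton_h1Cotangent
    let t := Algebra.tensorH1CotangentOfIsLocalization A (Localization.AtPrime p) p.primeCompl
    have h0 : (1 : Localization.AtPrime p) ⊗ₜ[P] h = 0 := t.injective (Subsingleton.elim _ _)
    have h0' : TensorProduct.mk P (Localization.AtPrime p) (Algebra.H1Cotangent A P) 1 h = 0 := h0
    obtain ⟨s, hs⟩ := (IsLocalizedModule.eq_zero_iff p.primeCompl
      (TensorProduct.mk P (Localization.AtPrime p) (Algebra.H1Cotangent A P) 1)).1 h0'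
    refine ⟨s, s.2, ?_⟩
    rw [← map_smul, ← map_smul]
    have : (s : P) • h = 0 := hs
    rw [this, map_zero, map_zero]
  apply e.injective
  rw [map_zero]
  exact Algebra.Extension.h1Cotangentι_injective (by rw [key, map_zero])

end Groth.Agent.S18126
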