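import Groth.Statements.S18136
import Mathlib

set_option autoImplicit false
universe u v
open IsLocalRing
open CAlg

namespace Groth.Agent.S18136

section Aux
variable {A : Type u} [CommRing A] [IsLocalRing A]
  {ι : Type v} [Preorder ι] [Nonempty ι] [IsDirected ι (· ≤ ·)]
  (B : ι → Type u) [∀ j, CommRing (B j)] [∀ j, IsLocalRing (B j)]
  (φ : ∀ i j, i ≤ j → (B i →+* B j)) (hφloc : ∀ i j (h : i ≤ j), IsLocalHom (φ i j h))
  (hφ : ∀ i j l (hij : i ≤ j) (hjl : j ≤ l), (φ j l hjl).comp (φ i j hij) = φ i l (hij.trans hjl))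
  (ψ : ∀ j, B j →+* A) (hψ : ∀ i j (h : i ≤ j), (ψ j).comp (φ i j h) = ψ i)
  (hsurj : ∀ a : A, ∃ j, ∃ x : B j, ψ j x = a)
  (hker : ∀ j (x : B j), ψ j x = 0 → ∃ l, ∃ h : j ≤ l, φ j l h x = 0)

include hφloc hφ hψ hsurj hker in
theorem psi_local (j : ι) : IsLocalHom (ψ j) := by
  constructor
  intro x hx
  obtain ⟨l, y, hy⟩ := hsurj (↑hx.unit⁻¹ : A)
  obtain ⟨l', hjl', hll'⟩ := exists_ge_ge j l
  have h1 : ψ l' (φ j l' hjl' x) = ψ j x := by rw [← RingHom.comp_apply, hψ]
  have h2 : ψ l' (φ l l' hll' y) = ψ l y := by rw [← RingHom.comp_apply, hψ]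
  have h0 : ψ l' (φ j l' hjl' x * φ l l' hll' y - 1) = 0 := by
    rw [map_sub, map_mul, map_one, h1, h2, hy, sub_eq_zero]
    exact hx.mul_val_inv
  obtain ⟨l'', hl'l'', hz⟩ := hker l' _ h0
  have hu : IsUnit (φ j l'' (hjl'.trans hl'l'') x) := by
    rw [map_sub, map_mul, map_one, sub_eq_zero] at hz
    rw [← hφ j l' l'' hjl' hl'l'', RingHom.comp_apply]
    exact IsUnit.of_mul_eq_one _ hz
  exact (hφloc j l'' _).map_nonunit x hu

include hφ hψ hsurj in
theorem exists_lift {n : Type*} [Fintype n] (a : n → A) :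
    ∃ (j₀ : ι) (x : n → B j₀), ∀ i, ψ j₀ (x i) = a i := by
  classical
  choose j y hy using fun i => hsurj (a i)
  obtain ⟨j₀, hj₀⟩ := Finset.exists_le (Finset.univ.image j)
  have hle : ∀ i, j i ≤ j₀ := fun i => hj₀ _ (Finset.mem_image_of_mem _ (Finset.mem_univ i))
  refine ⟨j₀, fun i => φ (j i) j₀ (hle i) (y i), fun i => ?_⟩
  rw [← RingHom.comp_apply, hψ, hy]

end Aux

theorem residue_smul_cot {B : Type u} [CommRing B] [IsLocalRing B] (c : B)
    (x : (maximalIdeal B).Cotangent) : (residue B c) • x = c • x := by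
  rfl

theorem indep_descend {A B : Type u} [CommRing A] [IsLocalRing A] [CommRing B] [IsLocalRing B]
    (ψ : B →+* A) [IsLocalHom ψ] {n : Type*} [Fintype n] (v : n → maximalIdeal B)
    (w : n → maximalIdeal A) (hvw : ∀ i, ψ (v i) = w i)
    (hind : LinearIndependent (ResidueField A) (⇑(maximalIdeal A).toCotangent ∘ w)) :
    LinearIndependent (ResidueField B) (⇑(maximalIdeal B).toCotangent ∘ v) := by
  rw [Fintype.linearIndependent_iff] at hind ⊢
  intro g hg i
  choose c hc using fun i => IsLocalRing.residue_surjective (g i)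
  have h1 : ∑ i, g i • ((maximalIdeal B).toCotangent ∘ v) i =
      (maximalIdeal B).toCotangent (∑ i, c i • v i) := by
    rw [map_sum]
    refine Finset.sum_congr rfl fun i _ => ?_
    rw [map_smul, ← hc i, residue_smul_cot]
    rfl
  rw [h1, Ideal.toCotangent_eq_zero] at hg
  have hle : (maximalIdeal B).map ψ ≤ maximalIdeal A := by
    rw [Ideal.map_le_iff_le_comap]
    intro x hx
    rw [Ideal.mem_comap, mem_maximalIdeal, mem_nonunits_iff]
    intro hu
    exact (mem_maximalIdeal _).mp hx (isUnit_of_map_unit ψ x hu)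
  have h2 : ψ (↑(∑ i, c i • v i)) ∈ maximalIdeal A ^ 2 := by
    have : (maximalIdeal B ^ 2).map ψ ≤ maximalIdeal A ^ 2 := by
      rw [Ideal.map_pow]
      exact Ideal.pow_right_mono hle 2
    exact this (Ideal.mem_map_of_mem _ hg)
  have h3 : ψ (↑(∑ i, c i • v i)) = ((∑ i, ψ (c i) • w i : maximalIdeal A) : A) := by
    simp [hvw]
  rw [h3, ← Ideal.toCotangent_eq_zero, map_sum] at h2
  have h4 : ∑ i, residue A (ψ (c i)) • ((maximalIdeal A).toCotangent ∘ w) i = 0 := by
    rw [← h2]
    refine Finset.sum_congr rfl fun i _ => ?_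
    rw [map_smul, residue_smul_cot]
    rfl
  have h5 := hind _ h4 i
  rw [residue_eq_zero_iff] at h5
  have h6 : c i ∈ maximalIdeal B := by
    by_contra hcon
    have hu : IsUnit (c i) := by
      rwa [mem_maximalIdeal, mem_nonunits_iff, not_not] at hcon
    exact (mem_maximalIdeal _).mp h5 (hu.map ψ)
  rw [← hc i, residue_eq_zero_iff]
  exact h6

theorem main
    {A : Type u} [CommRing A] [IsRegularLocalRing A]
    {ι : Type v} [Preorder ι] [Nonempty ι] [IsDirected ι (· ≤ ·)]
    (B : ι → Type u) [∀ j, CommRing (B j)] [∀ j, IsRegularLocalRing (B j)]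
    (φ : ∀ i j, i ≤ j → (B i →+* B j)) (hφloc : ∀ i j (h : i ≤ j), IsLocalHom (φ i j h))
    (hφ : ∀ i j l (hij : i ≤ j) (hjl : j ≤ l), (φ j l hjl).comp (φ i j hij) = φ i l (hij.trans hjl))
    (ψ : ∀ j, B j →+* A) (hψ : ∀ i j (h : i ≤ j), (ψ j).comp (φ i j h) = ψ i)
    (hsurj : ∀ a : A, ∃ j, ∃ x : B j, ψ j x = a)
    (hker : ∀ j (x : B j), ψ j x = 0 → ∃ l, ∃ h : j ≤ l, φ j l h x = 0)
    (c d : ℕ) (f : Fin c → maximalIdeal A) (g : Fin d → maximalIdeal A)
    (hind : LinearIndependent (ResidueField A) (⇑(maximalIdeal A).toCotangent ∘ Sum.elim f g)) :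
    ∃ j₀ : ι, ∃ (P : ∀ j, j₀ ≤ j → Ideal (B j)) (Q : ∀ j, j₀ ≤ j → Ideal (B j)),
      (∀ j (hj : j₀ ≤ j), ∃ (F : Fin c → maximalIdeal (B j)) (E : Fin d → maximalIdeal (B j)),
        LinearIndependent (ResidueField (B j)) (⇑(maximalIdeal (B j)).toCotangent ∘ Sum.elim F E) ∧
        P j hj = Ideal.span (Set.range (fun s => (F s : B j))) ∧
        Q j hj = P j hj ⊔ Ideal.span (Set.range (fun t => (E t : B j)))) ∧
      (∀ i j (hi : j₀ ≤ i) (hij : i ≤ j),
        (P i hi).map (φ i j hij) = P j (le_trans hi hij) ∧ (Q i hi).map (φ i j hij) = Q j (le_trans hi hij)) ∧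
      (∀ j (hj : j₀ ≤ j),
        (P j hj).map (ψ j) = Ideal.span (Set.range (fun s => (f s : A))) ∧
        (Q j hj).map (ψ j) = Ideal.span (Set.range (fun s => (f s : A))) ⊔ Ideal.span (Set.range (fun t => (g t : A)))) := by
  classical
  have hloc : ∀ j, IsLocalHom (ψ j) := psi_local B φ hφloc hφ ψ hψ hsurj hker
  obtain ⟨j₀, x, hx⟩ := exists_lift B φ hφ ψ hψ hsurj
    (fun s : Fin c ⊕ Fin d => ((Sum.elim f g s : maximalIdeal A) : A))
  let X : ∀ j, j₀ ≤ j → Fin c ⊕ Fin d → B j := fun j hj s => φ j₀ j hj (x s)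
  have hψX : ∀ j hj s, ψ j (X j hj s) = ((Sum.elim f g s : maximalIdeal A) : A) := by
    intro j hj s
    show ψ j (φ j₀ j hj (x s)) = _
    rw [← RingHom.comp_apply, hψ, hx]
  have hmem : ∀ j hj s, X j hj s ∈ maximalIdeal (B j) := by
    intro j hj s
    by_contra hcon
    have hu : IsUnit (X j hj s) := by
      rwa [mem_maximalIdeal, mem_nonunits_iff, not_not] at hcon
    have h1 := hu.map (ψ j)
    rw [hψX] at h1
    exact (mem_maximalIdeal _).mp (Sum.elim f g s).2 h1
  have hφX : ∀ i j (hi : j₀ ≤ i) (hij : i ≤ j) s, φ i j hij (X i hi s) = X j (le_trans hi hij) s := by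
    intro i j hi hij s
    show φ i j hij (φ j₀ i hi (x s)) = φ j₀ j _ (x s)
    rw [← RingHom.comp_apply, hφ]
  let V : ∀ j, j₀ ≤ j → Fin c ⊕ Fin d → maximalIdeal (B j) := fun j hj s => ⟨X j hj s, hmem j hj s⟩
  refine ⟨j₀, fun j hj => Ideal.span (Set.range fun s : Fin c => X j hj (Sum.inl s)),
    fun j hj => Ideal.span (Set.range fun s : Fin c => X j hj (Sum.inl s)) ⊔
      Ideal.span (Set.range fun t : Fin d => X j hj (Sum.inr t)), ?_, ?_, ?_⟩
  · intro j hj
    refine ⟨fun s => V j hj (Sum.inl s), fun t => V j hj (Sum.inr t), ?_, rfl, rfl⟩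
    have hVe : Sum.elim (fun s => V j hj (Sum.inl s)) (fun t => V j hj (Sum.inr t)) = V j hj := by
      funext s
      cases s <;> rfl
    rw [hVe]
    haveI := hloc j
    exact indep_descend (ψ j) (V j hj) (Sum.elim f g) (fun s => hψX j hj s) hind
  · intro i j hi hij
    have e1 : (Ideal.span (Set.range fun s : Fin c => X i hi (Sum.inl s))).map (φ i j hij) =
        Ideal.span (Set.range fun s : Fin c => X j (le_trans hi hij) (Sum.inl s)) := by
      rw [Ideal.map_span, ← Set.range_comp]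
      congr 2
      funext s
      exact hφX i j hi hij _
    have e2 : (Ideal.span (Set.range fun t : Fin d => X i hi (Sum.inr t))).map (φ i j hij) =
        Ideal.span (Set.range fun t : Fin d => X j (le_trans hi hij) (Sum.inr t)) := by
      rw [Ideal.map_span, ← Set.range_comp]
      congr 2
      funext s
      exact hφX i j hi hij _
    refine ⟨e1, ?_⟩
    rw [Ideal.map_sup, e1, e2]
  · intro j hj
    have e1 : (Ideal.span (Set.range fun s : Fin c => X j hj (Sum.inl s))).map (ψ j) =
        Ideal.span (Set.range (fun s => (f s : A))) := by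
      rw [Ideal.map_span, ← Set.range_comp]
      congr 2
      funext s
      exact hψX j hj _
    have e2 : (Ideal.span (Set.range fun t : Fin d => X j hj (Sum.inr t))).map (ψ j) =
        Ideal.span (Set.range (fun t => (g t : A))) := by
      rw [Ideal.map_span, ← Set.range_comp]
      congr 2
      funext s
      exact hψX j hj _
    refine ⟨e1, ?_⟩
    rw [Ideal.map_sup, e1, e2]


/-- Let A be a regular local ring with maximal ideal m and residue field k, written as a directed
colimit of regular local rings A_j with local transition maps (compatible maps ψ_j : A_j → A that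
are jointly surjective, an element dying in A dying at some later stage). Let f_1, …, f_c, g_1, …,
g_d ∈ m have linearly independent classes in m/m^2 over k, and put I = (f_1, …, f_c) ⊆ I' = (f_1, …,
f_c, g_1, …, g_d) (so I is generated by part of a regular system of parameters of A and I'/I by part
of a regular system of parameters of A/I; for a regular local ring the condition on I ⊆ I' is stated
through such a joint family). Then there are an index j_0 and ideals I_j ⊆ I'_j ⊆ A_j for j ≥ j_0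
such that: each I_j is generated by c elements and I'_j by these together with d further elements of
the maximal ideal m_j, the c + d classes in m_j/m_j^2 being linearly independent over the residue
field of A_j; the transition maps carry I_i, I'_i onto generators of I_j, I'_j for j_0 ≤ i ≤ j; and
I_j, I'_j generate I, I' in A. -/
theorem result
    {A : Type u} [CommRing A] [IsRegularLocalRing A]
    {ι : Type v} [Preorder ι] [Nonempty ι] [IsDirected ι (· ≤ ·)]
    (B : ι → Type u) [∀ j, CommRing (B j)] [∀ j, IsRegularLocalRing (B j)]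
    (φ : ∀ i j, i ≤ j → (B i →+* B j)) (hφloc : ∀ i j (h : i ≤ j), IsLocalHom (φ i j h))
    (hφ : ∀ i j l (hij : i ≤ j) (hjl : j ≤ l), (φ j l hjl).comp (φ i j hij) = φ i l (hij.trans hjl))
    (ψ : ∀ j, B j →+* A) (hψ : ∀ i j (h : i ≤ j), (ψ j).comp (φ i j h) = ψ i)
    (hsurj : ∀ a : A, ∃ j, ∃ x : B j, ψ j x = a)
    (hker : ∀ j (x : B j), ψ j x = 0 → ∃ l, ∃ h : j ≤ l, φ j l h x = 0)
    (c d : ℕ) (f : Fin c → maximalIdeal A) (g : Fin d → maximalIdeal A)
    (hind : LinearIndependent (ResidueField A) (⇑(maximalIdeal A).toCotangent ∘ Sum.elim f g)) :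
    ∃ j₀ : ι, ∃ (P : ∀ j, j₀ ≤ j → Ideal (B j)) (Q : ∀ j, j₀ ≤ j → Ideal (B j)),
      (∀ j (hj : j₀ ≤ j), ∃ (F : Fin c → maximalIdeal (B j)) (E : Fin d → maximalIdeal (B j)),
        LinearIndependent (ResidueField (B j)) (⇑(maximalIdeal (B j)).toCotangent ∘ Sum.elim F E) ∧
        P j hj = Ideal.span (Set.range (fun s => (F s : B j))) ∧
        Q j hj = P j hj ⊔ Ideal.span (Set.range (fun t => (E t : B j)))) ∧
      (∀ i j (hi : j₀ ≤ i) (hij : i ≤ j),
        (P i hi).map (φ i j hij) = P j (le_trans hi hij) ∧ (Q i hi).map (φ i j hij) = Q j (le_trans hi hij)) ∧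
      (∀ j (hj : j₀ ≤ j),
        (P j hj).map (ψ j) = Ideal.span (Set.range (fun s => (f s : A))) ∧
        (Q j hj).map (ψ j) = Ideal.span (Set.range (fun s => (f s : A))) ⊔ Ideal.span (Set.range (fun t => (g t : A)))) := by
  exact main B φ hφloc hφ ψ hψ hsurj hker c d f g hind

end Groth.Agent.S18136
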