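import Groth.Statements.S18153
import Mathlib
-- import your own Groth.Agent.* helpers here

set_option autoImplicit false
set_option linter.unusedSectionVars false
set_option linter.style.haveILetI false
universe u w
open FrobAlg

namespace Groth.Agent.S18153

open MvPolynomial

section
variable {R : Type u} [CommRing R] {τ : Type w}

theorem prod_monomial' {α : Type*} (s : Finset α) (e : α → τ →₀ ℕ) (c : α → R) :
    ∏ i ∈ s, monomial (e i) (c i) = monomial (∑ i ∈ s, e i) (∏ i ∈ s, c i) := by
  classical
  induction s using Finset.induction_on with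
  | empty => simp
  | insert a s ha ih =>
    rw [Finset.prod_insert ha, Finset.sum_insert ha, Finset.prod_insert ha, ih, monomial_mul]

/-- a square matrix whose columns each sum to zero has zero determinant -/
theorem det_eq_zero_of_col_sum {m : ℕ} (hm : 0 < m) (N : Matrix (Fin m) (Fin m) R)
    (h : ∀ j, ∑ i, N i j = 0) : N.det = 0 := by
  have h1 : Matrix.vecMul (fun _ => (1 : R)) N = 0 := by
    funext j
    simp only [Matrix.vecMul, dotProduct, one_mul, Pi.zero_apply]
    exact h j
  have h2 : Matrix.vecMul (fun _ => (1 : R)) (N * N.adjugate) = 0 := by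
    rw [← Matrix.vecMul_vecMul, h1, Matrix.zero_vecMul]
  rw [Matrix.mul_adjugate, Matrix.vecMul_smul, Matrix.vecMul_one] at h2
  have := congrFun h2 ⟨0, hm⟩
  simpa using this

end

/-- Let R be a commutative ring of prime characteristic p and f_1, …, f_m (m ≥ 1) polynomials over R in
the variables t_1, …, t_m and a further, possibly empty, family of variables s_a. Then in the m × m
Jacobian determinant det(∂f_i/∂t_j) with respect to the t-variables, the coefficient of the monomial
t_1^{p-1} ⋯ t_m^{p-1} (all s-exponents zero) vanishes. (In the source this is the claim, for formal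
power series in n ≥ m variables over the base field, to which the proof of the proposition reduces;
the coefficient in question only involves truncations of the f_i, so the polynomial form over any
ring of characteristic p is the same assertion.) -/
theorem result
    (p : ℕ) [Fact p.Prime] (R : Type u) [CommRing R] [CharP R p]
    {m : ℕ} (hm : 0 < m) (σ : Type w) (f : Fin m → MvPolynomial (Fin m ⊕ σ) R) :
    MvPolynomial.coeff
        (Finsupp.sumElim (Finsupp.equivFunOnFinite.symm fun _ : Fin m => p - 1) (0 : σ →₀ ℕ))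
        (Matrix.of fun i j : Fin m => MvPolynomial.pderiv (Sum.inl j) (f i)).det = 0 := by
  classical
  set μ : (Fin m ⊕ σ) →₀ ℕ :=
    Finsupp.sumElim (Finsupp.equivFunOnFinite.symm fun _ : Fin m => p - 1) (0 : σ →₀ ℕ) with hμ
  set S := MvPolynomial (Fin m ⊕ σ) R with hS
  let L : S →ₗ[R] (Fin m → S) :=
    LinearMap.pi fun j => ((MvPolynomial.pderiv (Sum.inl j) : Derivation R S S) : S →ₗ[R] S)
  let Φ : MultilinearMap R (fun _ : Fin m => S) R :=
    (MvPolynomial.lcoeff R μ).compMultilinearMap
      (((Matrix.detRowAlternating (R := S) (n := Fin m)).toMultilinearMap.restrictScalars R).compLinearMap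
        (fun _ => L))
  have hΦ : ∀ g : Fin m → S, Φ g =
      MvPolynomial.coeff μ (Matrix.of fun i j : Fin m => MvPolynomial.pderiv (Sum.inl j) (g i)).det :=
    fun g => rfl
  rw [← hΦ]
  suffices h0 : Φ = 0 by rw [h0]; rfl
  refine Module.Basis.ext_multilinear (fun _ => MvPolynomial.basisMonomials (Fin m ⊕ σ) R) ?_
  intro a
  rw [zero_apply, hΦ]
  have hb : ∀ s : (Fin m ⊕ σ) →₀ ℕ, MvPolynomial.basisMonomials (Fin m ⊕ σ) R s = monomial s 1 :=
    fun s => by rw [MvPolynomial.coe_basisMonomials]
  simp only [hb]
  rw [Matrix.det_apply, MvPolynomial.coeff_sum]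
  -- the total exponent
  set one_t : (Fin m ⊕ σ) →₀ ℕ := ∑ i : Fin m, Finsupp.single (Sum.inl i) 1 with hone
  have hone_apply : ∀ j : Fin m, one_t (Sum.inl j) = 1 := by
    intro j
    simp [hone, Finsupp.finsetSum_apply, Finsupp.single_apply]
  have hμ_apply : ∀ j : Fin m, μ (Sum.inl j) = p - 1 := by
    intro j
    simp [hμ]
  set Atot : (Fin m ⊕ σ) →₀ ℕ := ∑ i, a i with hA
  have hterm : ∀ π : Equiv.Perm (Fin m),
      ∏ i, (Matrix.of fun i j : Fin m =>
        MvPolynomial.pderiv (Sum.inl j) (monomial (a i) (1 : R))) (π i) i =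
      monomial (∑ i, (a (π i) - Finsupp.single (Sum.inl i) 1))
        (∏ i, ((a (π i) (Sum.inl i) : ℕ) : R)) := by
    intro π
    rw [← prod_monomial']
    refine Finset.prod_congr rfl fun i _ => ?_
    rw [Matrix.of_apply, MvPolynomial.pderiv_monomial, one_mul]
  have hsum_ge : ∀ π : Equiv.Perm (Fin m), (∀ i, 1 ≤ a (π i) (Sum.inl i)) →
      ∑ i, (a (π i) - Finsupp.single (Sum.inl i) 1) + one_t = Atot := by
    intro π hπ
    rw [hone, ← Finset.sum_add_distrib, hA, ← Equiv.sum_comp π a]
    refine Finset.sum_congr rfl fun i _ => ?_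
    refine tsub_add_cancel_of_le ?_
    rw [Finsupp.single_le_iff]
    exact hπ i
  have hzero : ∀ π : Equiv.Perm (Fin m), (¬ ∀ i, 1 ≤ a (π i) (Sum.inl i)) →
      ∏ i, ((a (π i) (Sum.inl i) : ℕ) : R) = 0 := by
    intro π hπ
    push Not at hπ
    obtain ⟨i, hi⟩ := hπ
    refine Finset.prod_eq_zero (Finset.mem_univ i) ?_
    rw [Nat.lt_one_iff.1 hi, Nat.cast_zero]
  by_cases hcase : Atot = μ + one_t
  · -- the coefficient is the determinant of the exponent matrix
    let N : Matrix (Fin m) (Fin m) R := Matrix.of fun i j => ((a i (Sum.inl j) : ℕ) : R)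
    have hN : N.det = 0 := by
      refine det_eq_zero_of_col_sum hm N fun j => ?_
      have : ∑ i, N i j = ((Atot (Sum.inl j) : ℕ) : R) := by
        rw [hA, Finsupp.finsetSum_apply, Nat.cast_sum]
        rfl
      rw [this, hcase, Finsupp.add_apply, hμ_apply, hone_apply,
        Nat.sub_add_cancel (Fact.out : p.Prime).one_le, CharP.cast_eq_zero]
    rw [Matrix.det_apply] at hN
    rw [← hN]
    refine Finset.sum_congr rfl fun π _ => ?_
    rw [hterm π, MvPolynomial.coeff_smul, MvPolynomial.coeff_monomial]
    congr 1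
    by_cases hπ : ∀ i, 1 ≤ a (π i) (Sum.inl i)
    · have h1 := hsum_ge π hπ
      rw [hcase] at h1
      rw [if_pos (add_right_cancel h1)]
      rfl
    · rw [hzero π hπ, ite_self]
      symm
      have := hzero π hπ
      exact this
  · refine Finset.sum_eq_zero fun π _ => ?_
    rw [hterm π, MvPolynomial.coeff_smul, MvPolynomial.coeff_monomial]
    by_cases hπ : ∀ i, 1 ≤ a (π i) (Sum.inl i)
    · have h1 := hsum_ge π hπ
      rw [if_neg, smul_zero]
      intro h2
      rw [h2] at h1
      exact hcase h1.symm
    · rw [hzero π hπ, ite_self, smul_zero]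

end Groth.Agent.S18153
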