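import Groth.Statements.S18154
import Mathlib
import Groth.Agent.Lib.Helper25.JacDet
-- import your own Groth.Agent.* helpers here

set_option autoImplicit false
set_option linter.unusedSectionVars false
set_option linter.style.haveILetI false
set_option linter.unusedVariables false
universe u v
open FrobAlg

namespace Groth.Agent.S18154

open Groth.Agent.Lib.Helper25.JacDet
open KaehlerDifferential

/-- evaluation at a maximal ideal of a f.g. algebra over an algebraically closed field -/
theorem exists_algHom_ker_eq {k A : Type*} [Field k] [IsAlgClosed k] [CommRing A] [Algebra k A]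
    [Algebra.FiniteType k A] (m : Ideal A) [hm : m.IsMaximal] :
    ∃ ψ : A →ₐ[k] k, ∀ a, ψ a = 0 ↔ a ∈ m := by
  letI := Ideal.Quotient.field m
  haveI : Module.Finite k (A ⧸ m) := finite_of_finite_type_of_isJacobsonRing k (A ⧸ m)
  haveI : Algebra.IsIntegral k (A ⧸ m) := Algebra.IsIntegral.of_finite k (A ⧸ m)
  have hb : Function.Bijective (algebraMap k (A ⧸ m)) :=
    IsAlgClosed.algebraMap_bijective_of_isIntegral
  let e : k ≃ₐ[k] (A ⧸ m) := AlgEquiv.ofBijective (Algebra.ofId k (A ⧸ m)) hb
  refine ⟨(e.symm : (A ⧸ m) →ₐ[k] k).comp (Ideal.Quotient.mkₐ k m), ?_⟩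
  intro a
  show e.symm (Ideal.Quotient.mk m a) = 0 ↔ a ∈ m
  rw [EmbeddingLike.map_eq_zero_iff, Ideal.Quotient.eq_zero_iff_mem]

/-- If `d x_i` form a basis of `Ω[A/k]` and `A` is formally smooth, then `k[X] → A` is formally
étale (adapted from helper19's `SmChart1.formallyEtale_localization`). -/
theorem formallyEtale_of_basis (k : Type u) [CommRing k] (A : Type v) [CommRing A] [Algebra k A]
    {d : ℕ} [Algebra (MvPolynomial (Fin d) k) A]
    [IsScalarTower k (MvPolynomial (Fin d) k) A] [Algebra.FormallySmooth k A]
    (b : Module.Basis (Fin d) A Ω[A⁄k])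
    (hb : ∀ i, b i = D k A (algebraMap (MvPolynomial (Fin d) k) A (MvPolynomial.X i))) :
    Algebra.FormallyEtale (MvPolynomial (Fin d) k) A := by
  let c : Module.Basis (Fin d) A (TensorProduct (MvPolynomial (Fin d) k) A Ω[MvPolynomial (Fin d) k⁄k]) :=
    (KaehlerDifferential.mvPolynomialBasis k (Fin d)).baseChange A
  have hmap : KaehlerDifferential.mapBaseChange k (MvPolynomial (Fin d) k) A =
      (c.equiv b (Equiv.refl _)).toLinearMap := by
    apply c.ext
    intro i
    rw [LinearEquiv.coe_toLinearMap, Module.Basis.equiv_apply, Equiv.refl_apply, hb]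
    simp only [c, Module.Basis.baseChange_apply, KaehlerDifferential.mvPolynomialBasis_apply,
      KaehlerDifferential.mapBaseChange_tmul, one_smul, KaehlerDifferential.map_D]
  have hbij : Function.Bijective
      (KaehlerDifferential.mapBaseChange k (MvPolynomial (Fin d) k) A) := by
    rw [hmap]; exact (c.equiv b (Equiv.refl _)).bijective
  have hΩ : Subsingleton Ω[A⁄MvPolynomial (Fin d) k] := by
    refine ⟨fun a b => ?_⟩
    have h0 : ∀ ω : Ω[A⁄MvPolynomial (Fin d) k], ω = 0 := by
      intro ω
      obtain ⟨ω', rfl⟩ := KaehlerDifferential.map_surjective k (MvPolynomial (Fin d) k) A ω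
      obtain ⟨z, rfl⟩ := hbij.2 ω'
      exact (KaehlerDifferential.exact_mapBaseChange_map k (MvPolynomial (Fin d) k) A _).mpr ⟨z, rfl⟩
    rw [h0 a, h0 b]
  have hH1 : Subsingleton (Algebra.H1Cotangent (MvPolynomial (Fin d) k) A) := by
    refine ⟨fun a b => ?_⟩
    have h0 : ∀ y : Algebra.H1Cotangent (MvPolynomial (Fin d) k) A, y = 0 := by
      intro y
      have h1 : Algebra.H1Cotangent.δ k (MvPolynomial (Fin d) k) A y = 0 := by
        apply hbij.1
        rw [map_zero]
        exact (Algebra.H1Cotangent.exact_δ_mapBaseChange k (MvPolynomial (Fin d) k) A _).mpr ⟨y, rfl⟩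
      obtain ⟨z, rfl⟩ := (Algebra.H1Cotangent.exact_map_δ k (MvPolynomial (Fin d) k) A y).mp h1
      rw [Subsingleton.elim z 0, map_zero]
    rw [h0 a, h0 b]
  haveI : Algebra.FormallyUnramified (MvPolynomial (Fin d) k) A :=
    (Algebra.formallyUnramified_iff _ _).mpr hΩ
  haveI : Algebra.FormallySmooth (MvPolynomial (Fin d) k) A := ⟨inferInstance, hH1⟩
  exact Algebra.FormallyEtale.of_formallyUnramified_and_formallySmooth

/-- Let k be an algebraically closed field of characteristic p, A a smooth k-algebra that is an integral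
domain, and t_1, …, t_n ∈ A such that dt_1, …, dt_n is a basis of the module of Kähler differentials
Ω_{A/k}. Let (B, ι, π, Φ) be a flat lifting of A over W_2(k) together with a lift Φ of Frobenius,
T_i ∈ B lifts of the t_i, and F_i ∈ B with Φ(T_i) = T_i^p + p·F_i; put f_i = π(F_i) ∈ A. Then the n
× n matrix over A with entries δ_{ij} t_i^{p-1} + ∂f_i/∂t_j, the partial derivatives being the
coordinates of df_i in the basis dt_j, has nonzero determinant. This is the matrix of the A-linear
map F_A^*Ω_{A/k} → Ω_{A/k} obtained from dΦ after dividing by p, which is therefore generically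
bijective. (The source states generic bijectivity for a smooth variety and reduces it to this
determinant on an affine open with étale coordinates.) -/
theorem result
    (p : ℕ) [Fact p.Prime] (k : Type u) [Field k] [IsAlgClosed k] [CharP k p]
    (A : Type v) [CommRing A] [IsDomain A] [Algebra k A] [Algebra.Smooth k A]
    {n : ℕ} (t : Fin n → A) (b : Module.Basis (Fin n) A (KaehlerDifferential k A))
    (hb : ∀ i, b i = KaehlerDifferential.D k A (t i))
    (B : Type v) [CommRing B] (ι : FrobAlg.W2 p k →+* B) (π : B →+* A) (Φ : B →+* B)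
    (hΦ : FrobAlg.IsFrobLift p k A B ι π Φ)
    (T F : Fin n → B) (hT : ∀ i, π (T i) = t i) (hF : ∀ i, Φ (T i) = T i ^ p + (p : B) * F i) :
    (Matrix.of fun i j : Fin n =>
        (if i = j then t i ^ (p - 1) else 0) +
          b.coord j (KaehlerDifferential.D k A (π (F i)))).det ≠ 0 := by
  classical
  -- a rational point
  obtain ⟨m, hm⟩ := Ideal.exists_maximal A
  haveI : Algebra.FiniteType k A := inferInstance
  obtain ⟨ev, hev⟩ := exists_algHom_ker_eq (k := k) m
  set c : Fin n → k := fun i => ev (t i) with hc
  set t' : Fin n → A := fun i => t i - algebraMap k A (c i) with ht'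
  -- the polynomial ring structure
  let P := MvPolynomial (Fin n) k
  letI algPA : Algebra P A := (MvPolynomial.aeval t').toRingHom.toAlgebra
  haveI : IsScalarTower k P A :=
    IsScalarTower.of_algebraMap_eq (fun r => ((MvPolynomial.aeval t').commutes r).symm)
  have hX : ∀ i, algebraMap P A (MvPolynomial.X i) = t' i := fun i => MvPolynomial.aeval_X t' i
  haveI : Algebra.FormallyEtale P A := by
    refine formallyEtale_of_basis k A b fun i => ?_
    rw [hb, hX, ht']
    simp only [map_sub, Derivation.map_algebraMap, sub_zero]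
  -- the Taylor expansion
  let S := MvPowerSeries (Fin n) k
  let I : Ideal S := Ideal.span (Set.range MvPowerSeries.X)
  have hcoe : ∀ q : P, algebraMap P S q = (q : MvPowerSeries (Fin n) k) := by
    intro q
    rw [MvPowerSeries.algebraMap_apply', Algebra.algebraMap_self, MvPowerSeries.map_id]
    rfl
  let f₀ : A →ₐ[P] S ⧸ I :=
    { toRingHom := (algebraMap k (S ⧸ I)).comp ev.toRingHom
      commutes' := by
        intro q
        have : ((algebraMap k (S ⧸ I)).comp ev.toRingHom).comp (algebraMap P A) =
            algebraMap P (S ⧸ I) := by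
          refine MvPolynomial.ringHom_ext (fun a => ?_) (fun i => ?_)
          · show algebraMap k (S ⧸ I) (ev (algebraMap P A (MvPolynomial.C a))) =
              algebraMap P (S ⧸ I) (MvPolynomial.C a)
            rw [← MvPolynomial.algebraMap_eq, ← IsScalarTower.algebraMap_apply k P A,
              ev.commutes, ← IsScalarTower.algebraMap_apply k P (S ⧸ I)]
            rfl
          · show algebraMap k (S ⧸ I) (ev (algebraMap P A (MvPolynomial.X i))) =
              algebraMap P (S ⧸ I) (MvPolynomial.X i)
            rw [hX, ht']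
            simp only [map_sub, AlgHom.commutes, hc, Algebra.algebraMap_self, RingHom.id_apply]
            rw [sub_self, IsScalarTower.algebraMap_apply P S (S ⧸ I)]
            symm
            rw [Ideal.Quotient.algebraMap_eq, Ideal.Quotient.eq_zero_iff_mem]
            refine Ideal.subset_span ⟨i, ?_⟩
            rw [hcoe, MvPolynomial.coe_X]
        exact congrArg (fun g : P →+* S ⧸ I => g q) this }
  obtain ⟨ψ, hψ⟩ := Algebra.FormallySmooth.exists_mkₐ_comp_eq_of_isAdicComplete (I := I) f₀
  clear hψ
  have hψX : ∀ i, ψ (t' i) = MvPowerSeries.X i := by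
    intro i
    rw [← hX, ψ.commutes, hcoe, MvPolynomial.coe_X]
  have hψk : ∀ a : k, ψ (algebraMap k A a) = MvPowerSeries.C a := by
    intro a
    rw [IsScalarTower.algebraMap_apply k P A, ψ.commutes, hcoe, MvPolynomial.algebraMap_eq,
      MvPolynomial.coe_C]
  have hψt : ∀ i, ψ (t i) = MvPowerSeries.X i + MvPowerSeries.C (c i) := by
    intro i
    have : t i = t' i + algebraMap k A (c i) := by rw [ht']; ring
    rw [this, map_add, hψX, hψk]
  -- compatibility with derivations
  letI algAS : Algebra A S := ψ.toRingHom.toAlgebra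
  have hAS : ∀ a : A, algebraMap A S a = ψ a := fun a => rfl
  haveI : IsScalarTower k A S := IsScalarTower.of_algebraMap_eq (fun a => by
    rw [hAS, hψk, MvPowerSeries.algebraMap_apply]
    rfl)
  have hKL : ∀ (j : Fin n) (a : A),
      ψ (b.coord j (KaehlerDifferential.D k A a)) = MvPowerSeries.pderiv k j (ψ a) := by
    intro j a
    let Dj : Derivation k A A := (b.coord j).compDer (KaehlerDifferential.D k A)
    let d1 : Derivation k A S := (Algebra.linearMap A S).compDer Dj
    let d2 : Derivation k A S := (MvPowerSeries.pderiv k j).compAlgebraMap A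
    have h1 : d1.liftKaehlerDifferential = d2.liftKaehlerDifferential := by
      refine b.ext fun i => ?_
      rw [hb, Derivation.liftKaehlerDifferential_comp_D, Derivation.liftKaehlerDifferential_comp_D]
      show algebraMap A S (b.coord j (KaehlerDifferential.D k A (t i))) =
        MvPowerSeries.pderiv k j (algebraMap A S (t i))
      rw [hAS, hAS, hψt, map_add, MvPowerSeries.pderiv_C, add_zero, ← hb,
        Module.Basis.coord_apply, Module.Basis.repr_self, Finsupp.single_apply]
      by_cases hij : i = j
      · subst hij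
        rw [if_pos rfl, map_one, MvPowerSeries.pderiv_X_self]
      · rw [if_neg hij, map_zero, MvPowerSeries.pderiv_X_of_ne hij]
    have h2 : d1 a = d2 a := by
      rw [← Derivation.liftKaehlerDifferential_comp_D d1, h1,
        Derivation.liftKaehlerDifferential_comp_D]
    exact h2
  intro hdet
  set N : ℕ := n * (p - 1) + 1 with hN
  let Fs : Fin n → S := fun i => ψ (π (F i))
  let φ : Fin n → P := fun i => MvPowerSeries.truncTotal (N + 1) (Fs i)
  let Gmat : Matrix (Fin n) (Fin n) P := Matrix.of fun i j : Fin n =>
    (if i = j then ((MvPolynomial.X i : P) + MvPolynomial.C (c i)) ^ (p - 1) else 0) +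
      MvPolynomial.pderiv j (φ i)
  have hG : MvPolynomial.coeff (mu p n) Gmat.det = 1 := coeff_det_shift p k n c φ
  let θ := MvPowerSeries.truncTotalAlgHom (Fin n) k N
  have hentry : ∀ i j : Fin n,
      θ (ψ ((if i = j then t i ^ (p - 1) else 0) +
        b.coord j (KaehlerDifferential.D k A (π (F i))))) =
      Ideal.Quotient.mk _ (Gmat i j) := by
    intro i j
    rw [map_add, map_add, hKL]
    have h1 : ψ (if i = j then t i ^ (p - 1) else 0) =
        algebraMap P S (if i = j then ((MvPolynomial.X i : P) + MvPolynomial.C (c i)) ^ (p - 1)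
          else 0) := by
      by_cases hij : i = j
      · rw [if_pos hij, if_pos hij, map_pow, hψt, map_pow, map_add, hcoe, hcoe,
          MvPolynomial.coe_X, MvPolynomial.coe_C]
      · rw [if_neg hij, if_neg hij, map_zero, map_zero]
    rw [h1, θ.commutes]
    show _ = Ideal.Quotient.mk _ ((if i = j then
      ((MvPolynomial.X i : P) + MvPolynomial.C (c i)) ^ (p - 1) else 0) +
      MvPolynomial.pderiv j (φ i))
    rw [map_add, Ideal.Quotient.algebraMap_eq]
    congr 1
    show Ideal.Quotient.mk _ (MvPowerSeries.truncTotal N (MvPowerSeries.pderiv k j (Fs i))) =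
      Ideal.Quotient.mk _ (MvPolynomial.pderiv j (φ i))
    rw [Ideal.Quotient.eq, MvPolynomial.mem_pow_idealOfVars_iff']
    intro x hx
    rw [MvPolynomial.coeff_sub, sub_eq_zero, MvPowerSeries.coeff_truncTotal _ hx,
      MvPowerSeries.coeff_pderiv, MvPolynomial.coeff_pderiv,
      MvPowerSeries.coeff_truncTotal]
    rw [map_add, Finsupp.degree_single]
    omega
  have hdetθ : θ (ψ (Matrix.of fun i j : Fin n =>
        (if i = j then t i ^ (p - 1) else 0) +
          b.coord j (KaehlerDifferential.D k A (π (F i)))).det) =
      Ideal.Quotient.mk _ Gmat.det := by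
    show (θ.toRingHom.comp ψ.toRingHom) _ = _
    rw [RingHom.map_det, RingHom.map_det]
    congr 1
    ext i j
    exact hentry i j
  rw [hdet, map_zero, map_zero] at hdetθ
  have hmem := (Ideal.Quotient.eq_zero_iff_mem.1 hdetθ.symm)
  rw [MvPolynomial.mem_pow_idealOfVars_iff'] at hmem
  have hdeg : (mu p n).degree < N := by
    rw [Finsupp.degree_eq_sum, hN]
    simp [mu]
  have := hmem (mu p n) hdeg
  rw [hG] at this
  exact one_ne_zero this

end Groth.Agent.S18154
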