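import Groth.Statements.S18158
import Groth.Agent.Lib.Helper15.EtThickGlue
import Groth.Agent.Lib.helper19.W2Et
-- import your own Groth.Agent.* helpers here

set_option autoImplicit false
universe u
open CategoryTheory CategoryTheory.Limits AlgebraicGeometry
open Lift

namespace Groth.Agent.S18158

section H
namespace W1
open Groth.Agent.Lib.Helper15

theorem surjective_specMap_of_sq_zero {A B : Type u} [CommRing A] [CommRing B] (φ : A →+* B)
    (hφ : Function.Surjective φ) (hk : RingHom.ker φ ^ 2 = ⊥) :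
    Surjective (Spec.map (CommRingCat.ofHom φ)) := by
  constructor
  rw [← Set.range_eq_univ]
  change Set.range (PrimeSpectrum.comap φ) = Set.univ
  rw [range_comap_of_surjective _ _ hφ]
  rw [Set.eq_univ_iff_forall]
  intro P
  rw [PrimeSpectrum.mem_zeroLocus]
  intro x hx
  have h2 : x ^ 2 ∈ RingHom.ker φ ^ 2 := Ideal.pow_mem_pow hx 2
  rw [hk] at h2
  have h3 : x ^ 2 ∈ P.asIdeal := by
    rw [(Ideal.mem_bot.1 h2)]; exact P.asIdeal.zero_mem
  exact P.isPrime.mem_of_pow_mem 2 h3

theorem res_surjective (p : ℕ) [Fact p.Prime] (k : Type u) [CommRing k] :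
    Function.Surjective (FrobAlg.res p k) := by
  intro a
  refine ⟨WittVector.truncate 2 (WittVector.teichmuller p a), ?_⟩
  rw [FrobAlg.res_truncate, WittVector.teichmuller_coeff_zero]

theorem main
    (p : ℕ) [Fact p.Prime] (k : Type u) [Field k] [CharP k p]
    (X Y : Scheme.{u}) (f : X ⟶ Spec (CommRingCat.of k))
    (q : Y ⟶ X) [AlgebraicGeometry.Etale q]
    [FrobSch.IsCharP X p] [FrobSch.IsCharP Y p]
    (Xl : Scheme.{u}) (g : Xl ⟶ Spec (CommRingCat.of (FrobAlg.W2 p k))) [Flat g]
    (i : X ⟶ Xl) (hsq : IsPullback i f g (Spec.map (CommRingCat.ofHom (FrobAlg.res p k))))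
    (Fl : Xl ⟶ Xl) (hF : i ≫ Fl = FrobSch.frob X p ≫ i) :
    ∃ (Yl : Scheme.{u}) (gY : Yl ⟶ Spec (CommRingCat.of (FrobAlg.W2 p k))) (j : Y ⟶ Yl) (Gl : Yl ⟶ Yl),
      Flat gY ∧ IsPullback j (q ≫ f) gY (Spec.map (CommRingCat.ofHom (FrobAlg.res p k))) ∧
        j ≫ Gl = FrobSch.frob Y p ≫ j := by
  have hr1 : IsClosedImmersion (Spec.map (CommRingCat.ofHom (FrobAlg.res p k))) :=
    IsClosedImmersion.spec_of_surjective _ (res_surjective p k)
  have hr2 : Surjective (Spec.map (CommRingCat.ofHom (FrobAlg.res p k))) :=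
    surjective_specMap_of_sq_zero _ (res_surjective p k) (Helper19.W2Et.ker_res_sq p k)
  have hi1 : IsClosedImmersion i :=
    MorphismProperty.of_isPullback (P := @IsClosedImmersion) hsq.flip hr1
  have hi2 : Surjective i :=
    MorphismProperty.of_isPullback (P := @Surjective) hsq.flip hr2
  obtain ⟨Yl, j, ql, hql, hpb⟩ := EtThickGlue.exists_lift i q
  have hj1 : IsClosedImmersion j :=
    MorphismProperty.of_isPullback (P := @IsClosedImmersion) hpb.flip hi1
  have hj2 : Surjective j :=
    MorphismProperty.of_isPullback (P := @Surjective) hpb.flip hi2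
  have hcomm : (FrobSch.frob Y p ≫ j) ≫ ql = j ≫ (ql ≫ Fl) := by
    rw [Category.assoc, hpb.w, ← Category.assoc, FrobSch.frob_comp, Category.assoc, ← hF,
      ← Category.assoc, ← hpb.w, Category.assoc]
  obtain ⟨Gl, hG1, hG2⟩ := Groth.Agent.S0117.W.surj ql (ql ≫ Fl) j (FrobSch.frob Y p ≫ j) hcomm
  refine ⟨Yl, ql ≫ g, j, Gl, inferInstance, ?_, hG2⟩
  exact hpb.paste_vert hsq

end W1
end H


/-- Let k be an algebraically closed field of characteristic p and q : Y → X an étale morphism to a
smooth k-scheme X. Suppose X has a W_2-lifting of its Frobenius: a scheme X~ flat over Spec W_2(k),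
a morphism i : X → X~ making X the base change of X~ along Spec k → Spec W_2(k) (the residue map),
and an endomorphism F~ of X~ with i ∘ F_X = F~ ∘ i, F_X the absolute Frobenius. Then Y has one as
well: there are a scheme Y~ flat over Spec W_2(k), a morphism j : Y → Y~ making Y the base change of
Y~ along the same map, and an endomorphism G~ of Y~ with j ∘ F_Y = G~ ∘ j. (The source speaks of an
étale cover Y → X of smooth varieties; its argument uses only that Y is étale over X and that X
lifts, so X is taken smooth over k and Y étale over X, with no integrality, separatedness or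
quasi-compactness assumed.) -/
theorem result
    (p : ℕ) [Fact p.Prime] (k : Type u) [Field k] [IsAlgClosed k] [CharP k p]
    (X Y : Scheme.{u}) (f : X ⟶ Spec (CommRingCat.of k)) [Smooth f]
    (q : Y ⟶ X) [AlgebraicGeometry.Etale q]
    [FrobSch.IsCharP X p] [FrobSch.IsCharP Y p]
    (Xl : Scheme.{u}) (g : Xl ⟶ Spec (CommRingCat.of (FrobAlg.W2 p k))) [Flat g]
    (i : X ⟶ Xl) (hsq : IsPullback i f g (Spec.map (CommRingCat.ofHom (FrobAlg.res p k))))
    (Fl : Xl ⟶ Xl) (hF : i ≫ Fl = FrobSch.frob X p ≫ i) :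
    ∃ (Yl : Scheme.{u}) (gY : Yl ⟶ Spec (CommRingCat.of (FrobAlg.W2 p k))) (j : Y ⟶ Yl) (Gl : Yl ⟶ Yl),
      Flat gY ∧ IsPullback j (q ≫ f) gY (Spec.map (CommRingCat.ofHom (FrobAlg.res p k))) ∧
        j ≫ Gl = FrobSch.frob Y p ≫ j := by
  exact W1.main p k X Y f q Xl g i hsq Fl hF

end Groth.Agent.S18158
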