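import Groth.Statements.S18174
import Groth.Agent.Lib.Helper18.FF.Special
import Groth.Agent.Lib.Helper18.FF.Weights2

set_option autoImplicit false
open FunFld

namespace Groth.Agent.S18174

/-- Let `k` be an algebraically closed field of characteristic zero and `K/k` a function field of one
variable (the function field of a smooth projective curve over `k`). A `g^r_d` is a divisor `D` of
degree `d` with a subspace `V ⊆ L(D)` of dimension `r + 1`; for a place `P` and `n ≥ 0`, `V(-nP) = V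
∩ L(D - nP)` is the space of members vanishing to order at least `n` at `P`, so `dim V(-nP)` counts
the vanishing orders `m_0 < ⋯ < m_r` of `V` at `P` that are at least `n`, and the weight of `V` at
`P` is `∑_{n=1}^{d} dim V(-nP) - r(r+1)/2`. Aspects `(D_Y, V_Y)` on `K_Y` and `(D_Z, V_Z)` on `K_Z`
of a limit `g^r_d` on two components meeting in a node (a place `P` of `K_Y` and a place `Q` of
`K_Z`) are compatible there when `m_i(V_Y, P) + m_{r-i}(V_Z, Q) = d` for every `i`, equivalently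
`dim V_Y(-nP) + dim V_Z(-(d+1-n)Q) = r + 1` for `0 ≤ n ≤ d + 1`. Let the component `Y` (function
field `K_Y`, aspect `(D_Y, V_Y)`) meet at the node `P` a chain of components `W_0, …, W_{n-1}`, `n ≥
1`, with aspects `(D_j, V_j)`, where `W_j` carries the node place `A_j` towards `Y` (for `j = 0`) or
towards `W_{j-1}`, and the node place `B_j ≠ A_j` towards `W_{j+1}` (for `j + 1 < n`); assume `W_0,
…, W_{n-2}` have genus `0`, `W_{n-1}` has positive genus, and consecutive aspects are compatible at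
every node. Then `V_Y` has at least a cusp at `P`: `m_1(V_Y, P) ≥ 2`, that is `dim V_Y(-2P) ≥ r`.
(The source assumes moreover that `Y` is rational; its argument does not use this, so that
hypothesis is omitted here.) (The source states this for curves over the complex numbers.) -/
theorem result
    (k : Type*) [Field k] [IsAlgClosed k] [CharZero k]
    (KY : Type*) [Field KY] [Algebra k KY] (hKY : FunFld.IsFunctionField k KY)
    (n : ℕ) (hn : 0 < n)
    (W : Fin n → Type*) [∀ j, Field (W j)] [∀ j, Algebra k (W j)]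
    (hW : ∀ j, FunFld.IsFunctionField k (W j))
    (hrat : ∀ j : Fin n, (j : ℕ) + 1 < n → FunFld.genus k (W j) = 0)
    (hpos : ∀ j : Fin n, (j : ℕ) + 1 = n → 0 < FunFld.genus k (W j))
    (d r : ℕ) (DY : FunFld.Divisor k KY) (hDY : DY.deg = d)
    (VY : Submodule k KY) (hVY : VY ≤ FunFld.L DY) (hVYr : Module.finrank k ↥VY = r + 1)
    (D : ∀ j, FunFld.Divisor k (W j)) (hD : ∀ j, (D j).deg = d)
    (V : ∀ j, Submodule k (W j)) (hV : ∀ j, V j ≤ FunFld.L (D j))
    (hVr : ∀ j, Module.finrank k ↥(V j) = r + 1)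
    (P : FunFld.Place k KY) (A B : ∀ j, FunFld.Place k (W j))
    (hAB : ∀ j : Fin n, (j : ℕ) + 1 < n → A j ≠ B j)
    (hcomp0 : ∀ m : ℕ, m ≤ d + 1 →
      Module.finrank k ↥(VY ⊓ FunFld.L (DY - Finsupp.single P ((m : ℤ)))) +
        Module.finrank k ↥((V ⟨0, hn⟩) ⊓ FunFld.L ((D ⟨0, hn⟩) - Finsupp.single (A ⟨0, hn⟩) ((d : ℤ) + 1 - m))) = r + 1)
    (hcomp : ∀ (j : Fin n) (hj : (j : ℕ) + 1 < n) (m : ℕ), m ≤ d + 1 →
      Module.finrank k ↥((V j) ⊓ FunFld.L ((D j) - Finsupp.single (B j) ((m : ℤ)))) +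
        Module.finrank k ↥((V ⟨(j : ℕ) + 1, hj⟩) ⊓ FunFld.L ((D ⟨(j : ℕ) + 1, hj⟩) - Finsupp.single (A ⟨(j : ℕ) + 1, hj⟩) ((d : ℤ) + 1 - m))) = r + 1) :
    r ≤ Module.finrank k ↥(VY ⊓ FunFld.L (DY - Finsupp.single P ((2 : ℤ)))) := by
  rcases Nat.eq_zero_or_pos d with hd0 | hdpos
  · -- degree zero: `r = 0`
    subst hd0
    have h1 := Groth.Agent.Lib.Helper18.FF.ell_le_deg_add_one hKY (D := DY) (by rw [hDY]; norm_num)
    rw [hDY] at h1
    haveI := Groth.Agent.Lib.Helper18.FF.finiteDimensional_L hKY DY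
    have h2 := Submodule.finrank_mono hVY
    rw [hVYr] at h2
    have h3 : (FunFld.ell DY : ℤ) ≤ 1 := by simpa using h1
    have h4 : FunFld.ell DY ≤ 1 := by exact_mod_cast h3
    unfold FunFld.ell at h4
    have : r = 0 := by omega
    rw [this]
    exact Nat.zero_le _
  have key : ∀ (t j : ℕ) (hj : j < n), j + t + 1 = n →
      Module.finrank k ↥((V ⟨j, hj⟩) ⊓ FunFld.L ((D ⟨j, hj⟩) -
        Finsupp.single (A ⟨j, hj⟩) ((d : ℤ) + 1 - ((2 : ℕ) : ℤ)))) ≤ 1 := by
    intro t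
    induction t with
    | zero =>
      intro j hj hjn
      have hg := hpos ⟨j, hj⟩ (by simpa using hjn)
      set E := (D ⟨j, hj⟩) - Finsupp.single (A ⟨j, hj⟩) ((d : ℤ) + 1 - ((2 : ℕ) : ℤ)) with hE
      have hEdeg : E.deg = 1 := by
        rw [hE, Groth.Agent.Lib.Helper18.FF.deg_sub, Groth.Agent.Lib.Helper18.FF.deg_single, hD,
          Groth.Agent.Lib.Helper18.FF.deg_eq_one_of_isAlgClosed (hW ⟨j, hj⟩)]
        push_cast; ring
      have h1 := Groth.Agent.Lib.Helper18.FF.ell_le_one_of_deg_eq_one (hW ⟨j, hj⟩) hg hEdeg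
      haveI := Groth.Agent.Lib.Helper18.FF.finiteDimensional_L (hW ⟨j, hj⟩) E
      have h2 : Module.finrank k ↥((V ⟨j, hj⟩) ⊓ FunFld.L E) ≤ Module.finrank k ↥(FunFld.L E) :=
        Submodule.finrank_mono inf_le_right
      unfold FunFld.ell at h1
      omega
    | succ t ih =>
      intro j hj hjn
      have hj1 : j + 1 < n := by omega
      have h0 := ih (j + 1) hj1 (by omega)
      have h1 : Module.finrank k ↥((V ⟨j, hj⟩) ⊓ FunFld.L ((D ⟨j, hj⟩) -
            Finsupp.single (B ⟨j, hj⟩) (((2 : ℕ) : ℤ)))) +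
          Module.finrank k ↥((V ⟨j + 1, hj1⟩) ⊓ FunFld.L ((D ⟨j + 1, hj1⟩) -
            Finsupp.single (A ⟨j + 1, hj1⟩) ((d : ℤ) + 1 - ((2 : ℕ) : ℤ)))) = r + 1 :=
        hcomp ⟨j, hj⟩ hj1 2 (by omega)
      have h2 := Groth.Agent.Lib.Helper18.FF.finrank_inf_add_le (hW ⟨j, hj⟩) (D ⟨j, hj⟩) d r (hD _)
        (V ⟨j, hj⟩) (hV _) (hVr _) (A ⟨j, hj⟩) (B ⟨j, hj⟩) (hAB ⟨j, hj⟩ hj1)
        ((d : ℤ) + 1 - ((2 : ℕ) : ℤ)) (((2 : ℕ) : ℤ)) (by push_cast; omega)
      omega
  have h0 := key (n - 1) 0 hn (by omega)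
  have h1 := hcomp0 2 (by omega)
  have e : (((2 : ℕ) : ℤ)) = (2 : ℤ) := by norm_num
  rw [e] at h1 h0
  omega

end Groth.Agent.S18174
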