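import Groth.Statements.S18184
import Groth.Agent.Lib.Helper18.FF.Weights

set_option autoImplicit false
open FunFld

namespace Groth.Agent.S18184

/-- Let `k` be an algebraically closed field of characteristic zero and `K/k` a function field of one
variable (the function field of a smooth projective curve over `k`). A `g^r_d` is a divisor `D` of
degree `d` with a subspace `V ⊆ L(D)` of dimension `r + 1`; for a place `P` and `n ≥ 0`, `V(-nP) = V
∩ L(D - nP)` is the space of members vanishing to order at least `n` at `P`, so `dim V(-nP)` counts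
the vanishing orders `m_0 < ⋯ < m_r` of `V` at `P` that are at least `n`, and the weight of `V` at
`P` is `∑_{n=1}^{d} dim V(-nP) - r(r+1)/2`. Aspects `(D_Y, V_Y)` on `K_Y` and `(D_Z, V_Z)` on `K_Z`
of a limit `g^r_d` on two components meeting in a node (a place `P` of `K_Y` and a place `Q` of
`K_Z`) are compatible there when `m_i(V_Y, P) + m_{r-i}(V_Z, Q) = d` for every `i`, equivalently
`dim V_Y(-nP) + dim V_Z(-(d+1-n)Q) = r + 1` for `0 ≤ n ≤ d + 1`. Consider a chain of components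
`U_0, U_1, …, U_n` (`n ≥ 1`; function fields `K_l`), `U_l` meeting `U_{l+1}` in a node given by
places `B_l` of `K_l` and `A_{l+1}` of `K_{l+1}`, with `A_l ≠ B_l` on the inner components `U_1, …,
U_{n-1}`, which have genus `0`; each `U_l` carries an aspect `(D_l, V_l)` of a limit `g^r_d`,
consecutive aspects compatible at the nodes, and the weight of `V_0` at `B_0` is at most `(r+1)(d-r)
- c`. (In the source `U_0` is a backbone component of a flag curve with `g` tails, `U_1, …, U_{n-1}`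
the chain of rational curves attached to it at `B_0`, `U_n` the elliptic tail, and `c = r(g-1)`, the
weight bound at `B_0` being the one established for backbone components.) Then for every `l ≥ 1` the
weight of `V_l` at its upper node `A_l` is at least `c`: `c + r(r+1)/2 ≤ ∑_{j=1}^{d} dim
V_l(-jA_l)`. (The source states this for curves over the complex numbers.) -/
theorem result
    (k : Type*) [Field k] [IsAlgClosed k] [CharZero k]
    (n : ℕ) (hn : 0 < n) (U : Fin (n + 1) → Type*) [∀ l, Field (U l)] [∀ l, Algebra k (U l)]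
    (hU : ∀ l, FunFld.IsFunctionField k (U l))
    (hrat : ∀ l : Fin (n + 1), 0 < (l : ℕ) → (l : ℕ) < n → FunFld.genus k (U l) = 0)
    (d r : ℕ) (D : ∀ l, FunFld.Divisor k (U l)) (hD : ∀ l, (D l).deg = d)
    (V : ∀ l, Submodule k (U l)) (hV : ∀ l, V l ≤ FunFld.L (D l))
    (hVr : ∀ l, Module.finrank k ↥(V l) = r + 1)
    (A B : ∀ l, FunFld.Place k (U l))
    (hAB : ∀ l : Fin (n + 1), 0 < (l : ℕ) → (l : ℕ) < n → A l ≠ B l)
    (hcomp : ∀ (l : Fin n) (m : ℕ), m ≤ d + 1 →
      Module.finrank k ↥((V l.castSucc) ⊓ FunFld.L ((D l.castSucc) - Finsupp.single (B l.castSucc) ((m : ℤ)))) +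
        Module.finrank k ↥((V l.succ) ⊓ FunFld.L ((D l.succ) - Finsupp.single (A l.succ) ((d : ℤ) + 1 - m))) = r + 1)
    (c : ℕ) (hc : (∑ j ∈ Finset.range d, Module.finrank k ↥((V 0) ⊓ FunFld.L ((D 0) - Finsupp.single (B 0) ((j : ℤ) + 1)))) + c + r * (r + 1) ≤ (r + 1) * d + r * (r + 1) / 2)
    (l : Fin (n + 1)) (hl : 0 < (l : ℕ)) :
    c + r * (r + 1) / 2 ≤ (∑ j ∈ Finset.range d, Module.finrank k ↥((V l) ⊓ FunFld.L ((D l) - Finsupp.single (A l) ((j : ℤ) + 1)))) := by
  have hT : r * (r + 1) / 2 * 2 = r * (r + 1) := by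
    have h2 : r * (r + 1) % 2 = 0 := by
      rcases Nat.even_or_odd r with ⟨a, ha⟩ | ⟨a, ha⟩
      · subst ha; rw [show (a + a) * (a + a + 1) = 2 * (a * (a + a + 1)) by ring]; simp
      · subst ha; rw [show (2 * a + 1) * (2 * a + 1 + 1) = 2 * ((2 * a + 1) * (a + 1)) by ring]; simp
    omega
  -- the claim for all positions `i + 1`
  have key : ∀ (i : ℕ) (hi : i + 1 < n + 1),
      c + r * (r + 1) / 2 ≤ (∑ j ∈ Finset.range d, Module.finrank k
        ↥((V ⟨i + 1, hi⟩) ⊓ FunFld.L ((D ⟨i + 1, hi⟩) -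
          Finsupp.single (A ⟨i + 1, hi⟩) ((j : ℤ) + 1)))) := by
    intro i
    induction i with
    | zero =>
      intro hi
      have h1 := Groth.Agent.Lib.Helper18.FF.compat_sum (V (⟨0, hn⟩ : Fin n).castSucc)
        (D (⟨0, hn⟩ : Fin n).castSucc) (B (⟨0, hn⟩ : Fin n).castSucc)
        (V (⟨0, hn⟩ : Fin n).succ) (D (⟨0, hn⟩ : Fin n).succ) (A (⟨0, hn⟩ : Fin n).succ) d r
        (hcomp ⟨0, hn⟩)
      have e0 : (⟨0, hn⟩ : Fin n).castSucc = 0 := rfl
      have e1 : (⟨0, hn⟩ : Fin n).succ = ⟨0 + 1, hi⟩ := rfl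
      rw [e0, e1] at h1
      omega
    | succ i ih =>
      intro hi
      have hi' : i + 1 < n + 1 := by omega
      have hin : i + 1 < n := by omega
      have h0 := ih hi'
      have h1 := Groth.Agent.Lib.Helper18.FF.compat_sum (V (⟨i + 1, hin⟩ : Fin n).castSucc)
        (D (⟨i + 1, hin⟩ : Fin n).castSucc) (B (⟨i + 1, hin⟩ : Fin n).castSucc)
        (V (⟨i + 1, hin⟩ : Fin n).succ) (D (⟨i + 1, hin⟩ : Fin n).succ)
        (A (⟨i + 1, hin⟩ : Fin n).succ) d r (hcomp ⟨i + 1, hin⟩)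
      have e0 : (⟨i + 1, hin⟩ : Fin n).castSucc = ⟨i + 1, hi'⟩ := rfl
      have e1 : (⟨i + 1, hin⟩ : Fin n).succ = ⟨i + 1 + 1, hi⟩ := rfl
      rw [e0, e1] at h1
      have h2 := Groth.Agent.Lib.Helper18.FF.weight_sum_le (hU ⟨i + 1, hi'⟩) (D ⟨i + 1, hi'⟩) d r
        (hD _) (V ⟨i + 1, hi'⟩) (hV _) (hVr _) (A ⟨i + 1, hi'⟩) (B ⟨i + 1, hi'⟩)
        (hAB ⟨i + 1, hi'⟩ (by simp) (by simpa using hin))
      omega
  obtain ⟨l, hl'⟩ := l
  obtain ⟨i, rfl⟩ : ∃ i, l = i + 1 := ⟨l - 1, by simp at hl; omega⟩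
  exact key i hl'

end Groth.Agent.S18184
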