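import Groth.Statements.S18185
import Groth.Agent.Lib.Helper18.FF.Cusp
import Groth.Agent.Lib.Helper18.FF.Special
import Groth.Agent.S18184

set_option autoImplicit false
open FunFld

namespace Groth.Agent.S18185

/-- Let `k` be an algebraically closed field of characteristic zero and `K/k` a function field of one
variable (the function field of a smooth projective curve over `k`). A `g^r_d` is a divisor `D` of
degree `d` with a subspace `V ⊆ L(D)` of dimension `r + 1`; for a place `P` and `n ≥ 0`, `V(-nP) = V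
∩ L(D - nP)` is the space of members vanishing to order at least `n` at `P`, so `dim V(-nP)` counts
the vanishing orders `m_0 < ⋯ < m_r` of `V` at `P` that are at least `n`, and the weight of `V` at
`P` is `∑_{n=1}^{d} dim V(-nP) - r(r+1)/2`. Aspects `(D_Y, V_Y)` on `K_Y` and `(D_Z, V_Z)` on `K_Z`
of a limit `g^r_d` on two components meeting in a node (a place `P` of `K_Y` and a place `Q` of
`K_Z`) are compatible there when `m_i(V_Y, P) + m_{r-i}(V_Z, Q) = d` for every `i`, equivalently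
`dim V_Y(-nP) + dim V_Z(-(d+1-n)Q) = r + 1` for `0 ≤ n ≤ d + 1`. Consider a chain of components
`U_0, U_1, …, U_n` (`n ≥ 1`; function fields `K_l`), `U_l` meeting `U_{l+1}` in a node given by
places `B_l` of `K_l` and `A_{l+1}` of `K_{l+1}`, with `A_l ≠ B_l` on the inner components `U_1, …,
U_{n-1}`, which have genus `0`; each `U_l` carries an aspect `(D_l, V_l)` of a limit `g^r_d`,
consecutive aspects compatible at the nodes, and the weight of `V_0` at `B_0` is at most `(r+1)(d-r)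
- c`. (In the source `U_0` is a backbone component of a flag curve with `g` tails, `U_1, …, U_{n-1}`
the chain of rational curves attached to it at `B_0`, `U_n` the elliptic tail, and `c = r(g-1)`, the
weight bound at `B_0` being the one established for backbone components.) Assume moreover that `U_n`
has positive genus. Then at every place `Q'` of an inner component `U_l` (`0 < l < n`) other than
`A_l, B_l`, the weight of `V_l` is at most `(r+1)(d-r) - c - r`: `∑_{j=1}^{d} dim V_l(-jQ') + c + r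
+ r(r+1) ≤ (r+1)d + r(r+1)/2`. With `c = r(g-1)` this is `(r+1)(d-r) - rg`, so when `ρ ≤ 0` the
limit of the moving ramification point (weight `≥ (r+1)(d-r) - rg + 1`) is not on the chain curves
either. (The printed argument bounds such weights only by `(r+1)(d-r) - r(g-1)`; the extra `r` comes
from the cusp that `V_l` has at `B_l`.) (The source states this for curves over the complex
numbers.) -/
theorem result
    (k : Type*) [Field k] [IsAlgClosed k] [CharZero k]
    (n : ℕ) (hn : 0 < n) (U : Fin (n + 1) → Type*) [∀ l, Field (U l)] [∀ l, Algebra k (U l)]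
    (hU : ∀ l, FunFld.IsFunctionField k (U l))
    (hrat : ∀ l : Fin (n + 1), 0 < (l : ℕ) → (l : ℕ) < n → FunFld.genus k (U l) = 0)
    (d r : ℕ) (D : ∀ l, FunFld.Divisor k (U l)) (hD : ∀ l, (D l).deg = d)
    (V : ∀ l, Submodule k (U l)) (hV : ∀ l, V l ≤ FunFld.L (D l))
    (hVr : ∀ l, Module.finrank k ↥(V l) = r + 1)
    (A B : ∀ l, FunFld.Place k (U l))
    (hAB : ∀ l : Fin (n + 1), 0 < (l : ℕ) → (l : ℕ) < n → A l ≠ B l)
    (hcomp : ∀ (l : Fin n) (m : ℕ), m ≤ d + 1 →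
      Module.finrank k ↥((V l.castSucc) ⊓ FunFld.L ((D l.castSucc) - Finsupp.single (B l.castSucc) ((m : ℤ)))) +
        Module.finrank k ↥((V l.succ) ⊓ FunFld.L ((D l.succ) - Finsupp.single (A l.succ) ((d : ℤ) + 1 - m))) = r + 1)
    (c : ℕ) (hc : (∑ j ∈ Finset.range d, Module.finrank k ↥((V 0) ⊓ FunFld.L ((D 0) - Finsupp.single (B 0) ((j : ℤ) + 1)))) + c + r * (r + 1) ≤ (r + 1) * d + r * (r + 1) / 2)
    (hpos : 0 < FunFld.genus k (U (Fin.last n)))
    (l : Fin (n + 1)) (hl0 : 0 < (l : ℕ)) (hln : (l : ℕ) < n)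
    (Q' : FunFld.Place k (U l)) (hQ'A : Q' ≠ A l) (hQ'B : Q' ≠ B l) :
    (∑ j ∈ Finset.range d, Module.finrank k ↥((V l) ⊓ FunFld.L ((D l) - Finsupp.single Q' ((j : ℤ) + 1)))) + c + r + r * (r + 1) ≤ (r + 1) * d + r * (r + 1) / 2 := by
  classical
  have hT2 : (∑ i : Fin (r + 1), (i : ℕ)) * 2 = r * (r + 1) := Groth.Agent.Lib.Helper18.FF.sum_fin_id r
  obtain ⟨l, hl'⟩ := l
  have hl0' : 0 < l := hl0
  have hln' : l < n := hln
  rcases Nat.eq_zero_or_pos d with hd0 | hdpos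
  · -- degree zero: `r = 0` and `c = 0`
    subst hd0
    have h1 := Groth.Agent.Lib.Helper18.FF.ell_le_deg_add_one (hU 0) (D := D 0) (by rw [hD]; norm_num)
    rw [hD] at h1
    haveI := Groth.Agent.Lib.Helper18.FF.finiteDimensional_L (hU 0) (D 0)
    have h2 := Submodule.finrank_mono (hV 0)
    rw [hVr] at h2
    have h3 : (FunFld.ell (D 0) : ℤ) ≤ 1 := by simpa using h1
    have h4 : FunFld.ell (D 0) ≤ 1 := by exact_mod_cast h3
    unfold FunFld.ell at h4
    have hr : r = 0 := by omega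
    subst hr
    simp only [Finset.range_zero, Finset.sum_empty] at hc ⊢
    omega
  -- vanishing to order `d - 1` at the upper node is at most one-dimensional down the chain
  have key : ∀ (t j : ℕ) (hj : j < n + 1), 0 < j → j + t = n →
      Module.finrank k ↥((V ⟨j, hj⟩) ⊓ FunFld.L ((D ⟨j, hj⟩) -
        Finsupp.single (A ⟨j, hj⟩) ((d : ℤ) + 1 - ((2 : ℕ) : ℤ)))) ≤ 1 := by
    intro t
    induction t with
    | zero =>
      intro j hj hj0 hjn
      have hjn' : j = n := by omega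
      subst hjn'
      have hg : 0 < FunFld.genus k (U ⟨j, hj⟩) := hpos
      set E := (D ⟨j, hj⟩) - Finsupp.single (A ⟨j, hj⟩) ((d : ℤ) + 1 - ((2 : ℕ) : ℤ)) with hE
      have hEdeg : E.deg = 1 := by
        rw [hE, Groth.Agent.Lib.Helper18.FF.deg_sub, Groth.Agent.Lib.Helper18.FF.deg_single, hD,
          Groth.Agent.Lib.Helper18.FF.deg_eq_one_of_isAlgClosed (hU ⟨j, hj⟩)]
        push_cast; ring
      have h1 := Groth.Agent.Lib.Helper18.FF.ell_le_one_of_deg_eq_one (hU ⟨j, hj⟩) hg hEdeg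
      haveI := Groth.Agent.Lib.Helper18.FF.finiteDimensional_L (hU ⟨j, hj⟩) E
      have h2 : Module.finrank k ↥((V ⟨j, hj⟩) ⊓ FunFld.L E) ≤ Module.finrank k ↥(FunFld.L E) :=
        Submodule.finrank_mono inf_le_right
      unfold FunFld.ell at h1
      omega
    | succ t ih =>
      intro j hj hj0 hjn
      have hj1 : j + 1 < n + 1 := by omega
      have hjn' : j < n := by omega
      have h0 := ih (j + 1) hj1 (by omega) (by omega)
      have h1 : Module.finrank k ↥((V ⟨j, hj⟩) ⊓ FunFld.L ((D ⟨j, hj⟩) -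
            Finsupp.single (B ⟨j, hj⟩) (((2 : ℕ) : ℤ)))) +
          Module.finrank k ↥((V ⟨j + 1, hj1⟩) ⊓ FunFld.L ((D ⟨j + 1, hj1⟩) -
            Finsupp.single (A ⟨j + 1, hj1⟩) ((d : ℤ) + 1 - ((2 : ℕ) : ℤ)))) = r + 1 :=
        hcomp ⟨j, hjn'⟩ 2 (by omega)
      have h2 := Groth.Agent.Lib.Helper18.FF.finrank_inf_add_le (hU ⟨j, hj⟩) (D ⟨j, hj⟩) d r (hD _)
        (V ⟨j, hj⟩) (hV _) (hVr _) (A ⟨j, hj⟩) (B ⟨j, hj⟩) (hAB ⟨j, hj⟩ hj0 hjn')
        ((d : ℤ) + 1 - ((2 : ℕ) : ℤ)) (((2 : ℕ) : ℤ)) (by push_cast; omega)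
      omega
  -- the cusp at `B l`
  have hl1 : l + 1 < n + 1 := by omega
  have hk := key (n - (l + 1)) (l + 1) hl1 (by omega) (by omega)
  have hcompl : Module.finrank k ↥((V ⟨l, hl'⟩) ⊓ FunFld.L ((D ⟨l, hl'⟩) -
        Finsupp.single (B ⟨l, hl'⟩) (((2 : ℕ) : ℤ)))) +
      Module.finrank k ↥((V ⟨l + 1, hl1⟩) ⊓ FunFld.L ((D ⟨l + 1, hl1⟩) -
        Finsupp.single (A ⟨l + 1, hl1⟩) ((d : ℤ) + 1 - ((2 : ℕ) : ℤ)))) = r + 1 :=
    hcomp ⟨l, hln'⟩ 2 (by omega)
  have e2 : (((2 : ℕ) : ℤ)) = (2 : ℤ) := by norm_num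
  rw [e2] at hcompl hk
  have hcusp : r ≤ Module.finrank k ↥((V ⟨l, hl'⟩) ⊓ FunFld.L ((D ⟨l, hl'⟩) -
      Finsupp.single (B ⟨l, hl'⟩) (2 : ℤ))) := by omega
  have hdeg1 := Groth.Agent.Lib.Helper18.FF.deg_eq_one_of_isAlgClosed (hU ⟨l, hl'⟩)
  have hWB := Groth.Agent.Lib.Helper18.FF.cusp_weight_ge (hU ⟨l, hl'⟩) (hdeg1 (B ⟨l, hl'⟩))
    (D ⟨l, hl'⟩) d (hD _) (V ⟨l, hl'⟩) (hV _) r hcusp
  have hWA := Groth.Agent.S18184.result k n hn U hU hrat d r D hD V hV hVr A B hAB hcomp c hc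
    ⟨l, hl'⟩ hl0'
  have hABl : A ⟨l, hl'⟩ ≠ B ⟨l, hl'⟩ := hAB ⟨l, hl'⟩ hl0' hln'
  have hpl := Groth.Agent.Lib.Helper18.FF.plucker (hU ⟨l, hl'⟩) (hrat ⟨l, hl'⟩ hl0' hln')
    (D ⟨l, hl'⟩) d r (hD _) (V ⟨l, hl'⟩) (hV _) (hVr _) {A ⟨l, hl'⟩, B ⟨l, hl'⟩, Q'}
  have hcard : ({A ⟨l, hl'⟩, B ⟨l, hl'⟩, Q'} : Finset (FunFld.Place k (U ⟨l, hl'⟩))).card = 3 := by
    rw [Finset.card_insert_of_notMem, Finset.card_insert_of_notMem, Finset.card_singleton]
    · simp only [Finset.mem_singleton]; exact fun h => hQ'B h.symm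
    · simp only [Finset.mem_insert, Finset.mem_singleton, not_or]
      exact ⟨hABl, fun h => hQ'A h.symm⟩
  rw [hcard, Finset.sum_insert (by
      simp only [Finset.mem_insert, Finset.mem_singleton, not_or]
      exact ⟨hABl, fun h => hQ'A h.symm⟩), Finset.sum_insert (by
      simp only [Finset.mem_singleton]; exact fun h => hQ'B h.symm),
    Finset.sum_singleton] at hpl
  have hTdiv : r * (r + 1) / 2 = ∑ i : Fin (r + 1), (i : ℕ) := by omega
  rw [hTdiv] at hpl hWA ⊢
  omega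

end Groth.Agent.S18185
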