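import Groth.Statements.S18188
import Mathlib.Tactic

set_option autoImplicit false
universe u
open OrbRR

namespace Groth.Agent.S18188

section
variable {K : Type u} [Field K]

lemma den_ne (w : K) (hw0 : w ≠ 0) (hw1 : w ≠ 1) : 2 - w - w⁻¹ ≠ 0 := by
  have h1 : (1 - w) ≠ 0 := sub_ne_zero.mpr (Ne.symm hw1)
  have : 2 - w - w⁻¹ = -((1 - w) ^ 2 / w) := by field_simp; ring
  rw [this]
  exact neg_ne_zero.mpr (div_ne_zero (pow_ne_zero 2 h1) hw0)

lemma secdiff_term (w : K) (hw0 : w ≠ 0) (hw1 : w ≠ 1) (t : ℕ) :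
    w ^ (t + 2) / (2 - w - w⁻¹) - 2 * (w ^ (t + 1) / (2 - w - w⁻¹)) + w ^ t / (2 - w - w⁻¹)
      = - w ^ (t + 1) := by
  have hd := den_ne w hw0 hw1
  have hw : w ^ (t + 1) * w⁻¹ = w ^ t := by
    rw [pow_succ, mul_assoc, mul_inv_cancel₀ hw0, mul_one]
  have h1 : w ^ (t + 2) - 2 * w ^ (t + 1) + w ^ t = (- w ^ (t + 1)) * (2 - w - w⁻¹) := by
    have : (- w ^ (t + 1)) * (2 - w - w⁻¹) = -2 * w ^ (t + 1) + w ^ (t + 1) * w + w ^ (t + 1) * w⁻¹ := by
      ring
    rw [this, hw]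
    ring
  generalize 2 - w - w⁻¹ = D at *
  have h2 : w ^ (t + 2) / D - 2 * (w ^ (t + 1) / D) + w ^ t / D
      = (w ^ (t + 2) - 2 * w ^ (t + 1) + w ^ t) / D := by ring
  rw [h2, h1, mul_div_cancel_right₀ _ hd]

lemma geom_zero (w : K) (hw1 : w ≠ 1) (N : ℕ) (hN : w ^ N = 1) :
    ∑ i ∈ Finset.range N, w ^ i = 0 := by
  have := geom_sum_mul w N
  rw [hN, sub_self] at this
  rcases mul_eq_zero.mp this with h | h
  · exact h
  · exact absurd (sub_eq_zero.mp h) hw1

end

lemma sum_g (K : Type u) [Field K] (h2 : (2 : K) ≠ 0) (h12 : (12 : K) ≠ 0) (N : K) (n : ℕ) :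
    ∑ t ∈ Finset.range n, ((t : K) * ((t : K) - N) / 2 + (N ^ 2 - 1) / 12)
      = ((n : K) - 1) * n * (2 * n - 1) / 12 - N * (n * ((n : K) - 1)) / 4 + n * (N ^ 2 - 1) / 12 := by
  have h4 : (4 : K) ≠ 0 := by
    have : (4 : K) = 2 * 2 := by norm_num
    rw [this]; exact mul_ne_zero h2 h2
  induction n with
  | zero => simp
  | succ n ih =>
    rw [Finset.sum_range_succ, ih]
    push_cast
    field_simp
    ring


/-- Let K be a field in which 6 ≠ 0, let j < N be natural numbers (so N ≥ 1), and let ζ ∈ K be a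
primitive N-th root of unity. Then the sum over i = 1, …, N − 1 of ζ^{ij} / (2 − ζ^i − ζ^{−i})
equals j(j − N)/2 + (N² − 1)/12. (The published setting is characteristic zero; the identity is
stated here over any field of characteristic different from 2 and 3, where the published proof
applies unchanged: a field containing a primitive N-th root of unity has characteristic prime to N,
and each denominator 2 − ζ^i − ζ^{−i} = −(1 − ζ^i)²/ζ^i with 0 < i < N is nonzero. In
characteristics 2 and 3 the right-hand side has no meaning.) -/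
theorem result (K : Type u) [Field K] (h6 : (6 : K) ≠ 0)
    (N j : ℕ) (hj : j < N) (ζ : K) (hζ : IsPrimitiveRoot ζ N) :
    ∑ i ∈ Finset.Ioo 0 N, ζ ^ (i * j) / (2 - ζ ^ i - (ζ ^ i)⁻¹) =
      (j : K) * ((j : K) - (N : K)) / 2 + ((N : K) ^ 2 - 1) / 12 := by
  have hNpos : 0 < N := by omega
  have : NeZero N := ⟨by omega⟩
  have hN0 : (N : K) ≠ 0 := (hζ.neZero').ne
  have h2 : (2 : K) ≠ 0 := by
    intro h; apply h6
    have : (6 : K) = 2 * 3 := by norm_num
    rw [this, h, zero_mul]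
  have h12 : (12 : K) ≠ 0 := by
    have : (12 : K) = 2 * 6 := by norm_num
    rw [this]; exact mul_ne_zero h2 h6
  have hζ0 : ζ ≠ 0 := hζ.ne_zero (by omega)
  have hw : ∀ i ∈ Finset.Ioo 0 N, ζ ^ i ≠ 0 ∧ ζ ^ i ≠ 1 ∧ (ζ ^ i) ^ N = 1 := by
    intro i hi
    rw [Finset.mem_Ioo] at hi
    refine ⟨pow_ne_zero _ hζ0, hζ.pow_ne_one_of_pos_of_lt (by omega) hi.2, ?_⟩
    rw [← pow_mul, mul_comm, pow_mul, hζ.pow_eq_one, one_pow]
  set F : ℕ → K := fun t => ∑ i ∈ Finset.Ioo 0 N, (ζ ^ i) ^ t / (2 - ζ ^ i - (ζ ^ i)⁻¹) with hFdef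
  set g : ℕ → K := fun t => (t : K) * ((t : K) - (N : K)) / 2 + ((N : K) ^ 2 - 1) / 12 with hgdef
  have hgoal : ∑ i ∈ Finset.Ioo 0 N, ζ ^ (i * j) / (2 - ζ ^ i - (ζ ^ i)⁻¹) = F j := by
    simp only [hFdef, pow_mul]
  rw [hgoal]
  change F j = g j
  -- sum over Ioo of powers
  have hIoo : ∀ x : K, x ≠ 1 → x ^ N = 1 → ∑ i ∈ Finset.Ioo 0 N, x ^ i = -1 := by
    intro x hx1 hxN
    have h := geom_zero x hx1 N hxN
    rw [Finset.range_eq_Ico, Finset.sum_eq_sum_Ico_succ_bot hNpos, pow_zero] at h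
    have h' : Finset.Ico (0 + 1) N = Finset.Ioo 0 N := by
      ext a; simp only [Finset.mem_Ico, Finset.mem_Ioo]; omega
    rw [h'] at h
    linear_combination h
  have hF2 : ∀ t, t + 1 < N → F (t + 2) - 2 * F (t + 1) + F t = 1 := by
    intro t ht
    simp only [hFdef]
    rw [Finset.mul_sum, ← Finset.sum_sub_distrib, ← Finset.sum_add_distrib]
    rw [Finset.sum_congr rfl (fun i hi => secdiff_term (ζ ^ i) (hw i hi).1 (hw i hi).2.1 t)]
    rw [Finset.sum_neg_distrib]
    have : ∑ i ∈ Finset.Ioo 0 N, (ζ ^ i) ^ (t + 1) = ∑ i ∈ Finset.Ioo 0 N, (ζ ^ (t + 1)) ^ i := by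
      apply Finset.sum_congr rfl
      intro i _
      rw [← pow_mul, ← pow_mul, mul_comm]
    rw [this, hIoo (ζ ^ (t + 1)) (hζ.pow_ne_one_of_pos_of_lt (by omega) ht)
      (by rw [← pow_mul, mul_comm, pow_mul, hζ.pow_eq_one, one_pow])]
    ring
  have hg2 : ∀ t : ℕ, g (t + 2) - 2 * g (t + 1) + g t = 1 := by
    intro t
    simp only [hgdef]
    push_cast
    field_simp
    ring
  have hD : ∀ t, t + 1 < N → (F (t + 2) - g (t + 2)) = 2 * (F (t + 1) - g (t + 1)) - (F t - g t) := by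
    intro t ht
    linear_combination hF2 t ht - hg2 t
  have hlin : ∀ t, (t ≤ N → F t - g t = (F 0 - g 0) + t * ((F 1 - g 1) - (F 0 - g 0))) ∧
      (t + 1 ≤ N → F (t + 1) - g (t + 1) = (F 0 - g 0) + (t + 1 : ℕ) * ((F 1 - g 1) - (F 0 - g 0))) := by
    intro t
    induction t with
    | zero => exact ⟨fun _ => by simp, fun _ => by simp⟩
    | succ t ih =>
      refine ⟨ih.2, fun ht => ?_⟩
      rw [show t + 1 + 1 = t + 2 from rfl, hD t (by omega), ih.1 (by omega), ih.2 (by omega)]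
      push_cast
      ring
  have hFN : F N = F 0 := by
    simp only [hFdef]
    apply Finset.sum_congr rfl
    intro i hi
    rw [(hw i hi).2.2, pow_zero]
  have hgN : g N = g 0 := by
    simp only [hgdef]
    push_cast
    ring
  have hslope : (F 1 - g 1) - (F 0 - g 0) = 0 := by
    have h := (hlin N).1 le_rfl
    rw [hFN, hgN] at h
    have : (N : K) * ((F 1 - g 1) - (F 0 - g 0)) = 0 := by linear_combination -h
    rcases mul_eq_zero.mp this with h' | h'
    · exact absurd h' hN0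
    · exact h'
  have hconst : ∀ t, t ≤ N → F t - g t = F 0 - g 0 := by
    intro t ht
    rw [(hlin t).1 ht, hslope, mul_zero, add_zero]
  have hsumF : ∑ t ∈ Finset.range N, F t = 0 := by
    simp only [hFdef]
    rw [Finset.sum_comm]
    apply Finset.sum_eq_zero
    intro i hi
    rw [← Finset.sum_div, geom_zero (ζ ^ i) (hw i hi).2.1 N (hw i hi).2.2, zero_div]
  have hsumg : ∑ t ∈ Finset.range N, g t = 0 := by
    simp only [hgdef]
    rw [sum_g K h2 h12 (N : K) N]
    have h4 : (4 : K) ≠ 0 := by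
      have : (4 : K) = 2 * 2 := by norm_num
      rw [this]; exact mul_ne_zero h2 h2
    field_simp
    ring
  have hsumD : ∑ t ∈ Finset.range N, (F t - g t) = (N : K) * (F 0 - g 0) := by
    rw [Finset.sum_congr rfl (fun t ht => hconst t (Finset.mem_range.mp ht).le)]
    rw [Finset.sum_const, Finset.card_range, nsmul_eq_mul]
  rw [Finset.sum_sub_distrib, hsumF, hsumg, sub_zero] at hsumD
  have h0 : F 0 - g 0 = 0 := by
    rcases mul_eq_zero.mp hsumD.symm with h' | h'
    · exact absurd h' hN0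
    · exact h'
  have := hconst j hj.le
  rw [h0] at this
  exact sub_eq_zero.mp this

end Groth.Agent.S18188
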