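import Groth.Statements.S18189
import Groth.Agent.S18188
import Mathlib.Tactic

set_option autoImplicit false
open OrbRR

namespace Groth.Agent.S18189

open ComplexConjugate in
lemma inv_den_real (w : ℂ) (hw : ‖w‖ = 1) :
    (2 - w - w⁻¹)⁻¹ = (((2 - 2 * w.re)⁻¹ : ℝ) : ℂ) ∧ 0 ≤ (2 - 2 * w.re)⁻¹ := by
  constructor
  · rw [Complex.inv_eq_conj hw]
    have : 2 - w - conj w = ((2 - 2 * w.re : ℝ) : ℂ) := by
      rw [sub_sub, Complex.add_conj]; push_cast; ring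
    rw [this, Complex.ofReal_inv]
  · apply inv_nonneg.mpr
    have := Complex.re_le_norm w
    rw [hw] at this
    linarith


/-- Let N ≥ 1 be a natural number, let ζ ∈ ℂ be a primitive N-th root of unity, and put f(i) = i(i −
N)/2 + (N² − 1)/12 for 0 ≤ i < N. For every natural number m the complex number ε_m = (1/N)
∑_{i=0}^{N−1} f(i) ζ^{mi}, an eigenvalue of the symmetric circulant N × N matrix with (i, j) entry
f(j − i)/N, is real and nonnegative. -/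
theorem result (N : ℕ) (hN : 0 < N) (ζ : ℂ)
    (hζ : IsPrimitiveRoot ζ N) (m : ℕ) :
    (∑ i ∈ Finset.range N,
        ((i : ℂ) * ((i : ℂ) - (N : ℂ)) / 2 + ((N : ℂ) ^ 2 - 1) / 12) / (N : ℂ) * ζ ^ (m * i)).im = 0 ∧
    0 ≤ (∑ i ∈ Finset.range N,
        ((i : ℂ) * ((i : ℂ) - (N : ℂ)) / 2 + ((N : ℂ) ^ 2 - 1) / 12) / (N : ℂ) * ζ ^ (m * i)).re := by
  have hN0 : (N : ℂ) ≠ 0 := by exact_mod_cast hN.ne'
  have h6 : (6 : ℂ) ≠ 0 := by norm_num
  -- rewrite f(i) via S18188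
  have hf : ∀ i ∈ Finset.range N,
      ((i : ℂ) * ((i : ℂ) - (N : ℂ)) / 2 + ((N : ℂ) ^ 2 - 1) / 12) / (N : ℂ) * ζ ^ (m * i)
        = ∑ l ∈ Finset.Ioo 0 N, (2 - ζ ^ l - (ζ ^ l)⁻¹)⁻¹ * ((ζ ^ (l + m)) ^ i / (N : ℂ)) := by
    intro i hi
    rw [← Groth.Agent.S18188.result ℂ h6 N i (Finset.mem_range.mp hi) ζ hζ]
    rw [Finset.sum_div, Finset.sum_mul]
    apply Finset.sum_congr rfl
    intro l _
    have e : (ζ ^ (l + m)) ^ i = ζ ^ (l * i) * ζ ^ (m * i) := by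
      rw [← pow_mul, add_mul, pow_add]
    rw [e]
    ring
  rw [Finset.sum_congr rfl hf, Finset.sum_comm]
  -- inner sums
  have hinner : ∀ l ∈ Finset.Ioo 0 N,
      ∑ i ∈ Finset.range N, (2 - ζ ^ l - (ζ ^ l)⁻¹)⁻¹ * ((ζ ^ (l + m)) ^ i / (N : ℂ))
        = (((2 - 2 * (ζ ^ l).re)⁻¹ * (if ζ ^ (l + m) = 1 then 1 else 0) : ℝ) : ℂ) := by
    intro l _
    have hnorm : ‖ζ ^ l‖ = 1 := by
      rw [norm_pow, hζ.norm'_eq_one hN.ne', one_pow]
    rw [← Finset.mul_sum, ← Finset.sum_div, (inv_den_real (ζ ^ l) hnorm).1]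
    push_cast
    congr 1
    split_ifs with h1
    · rw [h1]; simp [hN0]
    · rw [Groth.Agent.S18188.geom_zero _ h1 N
        (by rw [← pow_mul, mul_comm, pow_mul, hζ.pow_eq_one, one_pow]), zero_div]
      simp
  rw [Finset.sum_congr rfl hinner, ← Complex.ofReal_sum]
  refine ⟨Complex.ofReal_im _, ?_⟩
  rw [Complex.ofReal_re]
  apply Finset.sum_nonneg
  intro l _
  have hnorm : ‖ζ ^ l‖ = 1 := by
    rw [norm_pow, hζ.norm'_eq_one hN.ne', one_pow]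
  apply mul_nonneg (inv_den_real (ζ ^ l) hnorm).2
  split_ifs <;> norm_num

end Groth.Agent.S18189
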