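import Groth.Statements.S18190
import Mathlib

set_option autoImplicit false
open OrbRR

namespace Groth.Agent.S18190

open Finset

/-- the real quadratic `g(v) = v(v-N)/2 + (N²-1)/12`. -/
noncomputable def g (N : ℕ) (v : ℝ) : ℝ := v * (v - (N:ℝ)) / 2 + ((N:ℝ)^2 - 1)/12

/-- `h(d) = g(d.val)`. -/
noncomputable def h (N : ℕ) (d : ZMod N) : ℝ := g N (d.val : ℝ)

lemma g_N (N : ℕ) : g N (N:ℝ) = g N 0 := by simp [g]

lemma val_add_one (N : ℕ) [NeZero N] (d : ZMod N) : (d + 1).val = (d.val + 1) % N := by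
  rw [ZMod.val_add, ZMod.val_one_eq_one_mod, Nat.add_mod_mod]

lemma h_add_one (N : ℕ) [NeZero N] (d : ZMod N) : h N (d + 1) = g N ((d.val : ℝ) + 1) := by
  unfold h
  rw [val_add_one]
  have hlt : d.val + 1 ≤ N := ZMod.val_lt d
  rcases hlt.lt_or_eq with hlt | heq
  · rw [Nat.mod_eq_of_lt hlt]; push_cast; rfl
  · rw [heq, Nat.mod_self]
    have : ((d.val : ℝ) + 1) = N := by exact_mod_cast heq
    rw [this, g_N]; simp

lemma h_neg (N : ℕ) [NeZero N] (d : ZMod N) : h N (-d) = h N d := by
  unfold h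
  rw [ZMod.neg_val]
  split_ifs with h0
  · simp [h0]
  · rw [Nat.cast_sub (ZMod.val_le d)]
    simp only [g]; ring

/-- The discrete Laplacian of `h`. -/
lemma h_laplace (N : ℕ) [NeZero N] (e : ZMod N) :
    2 * h N (e + 1) - h N e - h N (e + 1 + 1) = (if e + 1 = 0 then (N:ℝ) else 0) - 1 := by
  rw [h_add_one N (e+1), h_add_one N e]
  have hlt : e.val + 1 ≤ N := ZMod.val_lt e
  have hv := val_add_one N e
  rcases hlt.lt_or_eq with hlt | heq
  · rw [Nat.mod_eq_of_lt hlt] at hv
    have hne : e + 1 ≠ 0 := by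
      intro h0
      rw [h0, ZMod.val_zero] at hv
      omega
    rw [if_neg hne, hv]
    simp only [h, g]; push_cast; ring
  · rw [heq, Nat.mod_self] at hv
    have h0 : e + 1 = 0 := (ZMod.val_eq_zero _).mp hv
    rw [if_pos h0, hv]
    have : (e.val : ℝ) = N - 1 := by
      have : ((e.val : ℝ) + 1) = N := by exact_mod_cast heq
      linarith
    simp only [h, g, this]; push_cast; ring

lemma sum_g_range (N m : ℕ) :
    ∑ v ∈ range m, g N (v:ℝ) =
      ((m:ℝ) - 1) * m * (2 * m - 1) / 12 - (N:ℝ) * m * (m - 1) / 4 + ((N:ℝ)^2 - 1)/12 * m := by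
  induction m with
  | zero => simp
  | succ m ih =>
    rw [sum_range_succ, ih]
    simp only [g]; push_cast; ring

lemma sum_h (N : ℕ) [NeZero N] : ∑ d : ZMod N, h N d = 0 := by
  obtain ⟨n, rfl⟩ : ∃ n, N = n + 1 := ⟨N - 1, (Nat.succ_pred_eq_of_ne_zero (NeZero.ne N)).symm⟩
  have : ∑ d : ZMod (n+1), h (n+1) d = ∑ v ∈ range (n+1), g (n+1) (v:ℝ) := by
    rw [← Fin.sum_univ_eq_sum_range (fun v => g (n+1) (v:ℝ)) (n+1)]
    rfl
  rw [this, sum_g_range]
  push_cast; ring


/-- Let N ≥ 1 and let f : ℤ/Nℤ → ℚ be f(x) = x(x − N)/2 + (N² − 1)/12, where x is read as its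
representative with 0 ≤ x < N. The real N × N matrix indexed by ℤ/Nℤ whose (i, j) entry is f(j −
i)/N, a symmetric circulant matrix, is positive semidefinite. -/
theorem result (N : ℕ) [NeZero N] :
    (Matrix.of fun i j : ZMod N =>
        ((((j - i).val : ℝ) * (((j - i).val : ℝ) - (N : ℝ))) / 2 + ((N : ℝ) ^ 2 - 1) / 12) / (N : ℝ)).PosSemidef := by
  have hN : (N:ℝ) ≠ 0 := Nat.cast_ne_zero.mpr (NeZero.ne N)
  have hM : (Matrix.of fun i j : ZMod N =>
        ((((j - i).val : ℝ) * (((j - i).val : ℝ) - (N : ℝ))) / 2 + ((N : ℝ) ^ 2 - 1) / 12) / (N : ℝ))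
      = Matrix.of fun i j : ZMod N => h N (j - i) / N := rfl
  rw [hM]
  refine Matrix.PosSemidef.of_dotProduct_mulVec_nonneg ?_ ?_
  · -- Hermitian
    ext i j
    simp only [Matrix.conjTranspose_apply, Matrix.of_apply, star_trivial]
    rw [← h_neg N (j - i), neg_sub]
  · intro x
    set y : ZMod N → ℝ := (Matrix.of fun i j : ZMod N => h N (j - i) / N).mulVec x with hy
    have hy_apply : ∀ i, y i = ∑ j, h N (j - i) / N * x j := fun i => rfl
    have L1 : ∀ i, 2 * y i - y (i + 1) - y (i - 1) = x i - (∑ j, x j) / N := by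
      intro i
      simp only [hy_apply]
      rw [Finset.mul_sum, ← Finset.sum_sub_distrib, ← Finset.sum_sub_distrib]
      have key : ∀ j, 2 * (h N (j - i) / N * x j) - h N (j - (i+1)) / N * x j
            - h N (j - (i-1)) / N * x j
          = (if j = i then x j else 0) - x j / N := by
        intro j
        have hl := h_laplace N (j - (i+1))
        have e1 : j - (i+1) + 1 = j - i := by ring
        have e2 : j - (i+1) + 1 + 1 = j - (i - 1) := by ring
        rw [e2, e1] at hl
        have : 2 * (h N (j - i) / N * x j) - h N (j - (i+1)) / N * x j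
            - h N (j - (i-1)) / N * x j
            = (2 * h N (j - i) - h N (j - (i + 1)) - h N (j - (i - 1))) / N * x j := by ring
        rw [this, hl]
        by_cases hji : j = i
        · have : j - i = 0 := by rw [hji, sub_self]
          rw [if_pos this, if_pos hji]
          field_simp
        · have : j - i ≠ 0 := sub_ne_zero.mpr hji
          rw [if_neg this, if_neg hji]
          field_simp
          ring
      rw [Finset.sum_congr rfl (fun j _ => key j), Finset.sum_sub_distrib, Finset.sum_ite_eq',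
        if_pos (Finset.mem_univ i), Finset.sum_div]
    have L2 : ∑ i, y i = 0 := by
      simp only [hy_apply]
      rw [Finset.sum_comm]
      have : ∀ j, ∑ i, h N (j - i) / N * x j = 0 := by
        intro j
        rw [← Finset.sum_mul, ← Finset.sum_div]
        have : ∑ i, h N (j - i) = ∑ d, h N d :=
          Fintype.sum_equiv (Equiv.subLeft j) _ _ (fun i => rfl)
        rw [this, sum_h]; simp
      simp [this]
    have L3 : star x ⬝ᵥ y = ∑ i, (y (i + 1) - y i) ^ 2 := by
      simp only [dotProduct, star_trivial]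
      have hx : ∀ i, x i = 2 * y i - y (i + 1) - y (i - 1) + (∑ j, x j) / N := by
        intro i; rw [L1 i]; ring
      have s1 : ∑ i, y (i + 1) ^ 2 = ∑ i, y i ^ 2 :=
        Fintype.sum_equiv (Equiv.addRight 1) _ _ (fun i => rfl)
      have s2 : ∑ i, y (i - 1) * y i = ∑ i, y i * y (i + 1) :=
        (Fintype.sum_equiv (Equiv.addRight 1) _ _ (fun i => by simp)).symm
      calc ∑ i, x i * y i
          = ∑ i, ((2 * y i - y (i + 1) - y (i - 1) + (∑ j, x j) / N) * y i) := by
            refine Finset.sum_congr rfl (fun i _ => ?_)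
            rw [← hx i]
        _ = 2 * ∑ i, y i ^ 2 - ∑ i, y i * y (i + 1) - ∑ i, y (i - 1) * y i
              + (∑ j, x j) / N * ∑ i, y i := by
            rw [Finset.mul_sum, Finset.mul_sum, ← Finset.sum_sub_distrib, ← Finset.sum_sub_distrib,
              ← Finset.sum_add_distrib]
            refine Finset.sum_congr rfl (fun i _ => ?_)
            ring
        _ = ∑ i, y (i + 1) ^ 2 + ∑ i, y i ^ 2 - 2 * ∑ i, y i * y (i + 1) := by
            rw [s1, s2, L2]; ring
        _ = ∑ i, (y (i + 1) - y i) ^ 2 := by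
            rw [Finset.mul_sum, ← Finset.sum_add_distrib, ← Finset.sum_sub_distrib]
            refine Finset.sum_congr rfl (fun i _ => ?_)
            ring
    rw [L3]
    exact Finset.sum_nonneg (fun i _ => sq_nonneg _)

end Groth.Agent.S18190
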