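import Groth.Statements.S18205
import Groth.Agent.Lib.Helper13.LocImmCore

set_option autoImplicit false
universe u
open LocImm

namespace Groth.Agent.S18205

open CategoryTheory AlgebraicGeometry in
/-- Let `f : X ⟶ Y` be a localizing immersion (localizing and injective on points) of Noetherian schemes
whose image is closed. Then `f` is an open immersion (so its image is open and closed and `f` is an
isomorphism onto a union of connected components of `Y`); in particular a surjective localizing
immersion is an isomorphism. -/
theorem result {X Y : Scheme.{u}} [IsNoetherian X] [IsNoetherian Y]
    (f : X ⟶ Y) (hf : LocImm.IsLocImmersion f) (hc : IsClosed (Set.range (fun x => f x))) : IsOpenImmersion f := by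
  open Groth.Agent.Lib.Helper13.LocImmLib in
  haveI : ∀ x, IsIso (f.stalkMap x) := fun x => IsLocalizing.isIso_stalkMap hf.1 x
  have hg : StableUnderGeneralization (Set.range (fun x => f x)) :=
    (IsLocalizing.generalizingMap hf.1).stableUnderGeneralization_range
  have hopen : IsOpen (Set.range (fun x => f x)) :=
    isOpen_of_isClosed_of_stableUnderGeneralization hc hg
  exact IsOpenImmersion.of_isIso_stalkMap f ⟨IsLocImmersion.isEmbedding hf, hopen⟩

end Groth.Agent.S18205
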