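import Groth.Statements.S18200
import Groth.Agent.Lib.Helper13.ZMTFinMain
import Groth.Agent.Lib.Helper13.LocImmMain

set_option autoImplicit false
universe u
open LocImm

namespace Groth.Agent.S18200

open CategoryTheory AlgebraicGeometry in
/-- Let `f : X ⟶ Y` be a separated morphism of Noetherian schemes that is essentially quasi-finite:
essentially of finite type with every fibre the spectrum of a finite algebra over the residue field
(equivalently, `f` locally quasi-finite in the fibrewise sense, which carries no finite-type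
condition). Then `f` factors as a localizing immersion `i : X ⟶ Z` (localizing and injective on
points, `Z` Noetherian) followed by a finite morphism `h : Z ⟶ Y`. -/
theorem result {X Y : Scheme.{u}} [IsNoetherian X] [IsNoetherian Y] (f : X ⟶ Y) [IsSeparated f] [EssFT.EssFiniteType f] [LocallyQuasiFinite f] :
    ∃ (Z : Scheme.{u}) (i : X ⟶ Z) (h : Z ⟶ Y), IsNoetherian Z ∧ LocImm.IsLocImmersion i ∧ IsFinite h ∧ i ≫ h = f := by
  open Groth.Agent.Lib.Helper13.LocImmLib in
  obtain ⟨Z₀, k, p, hZ₀, hk, hps, hpl, hpq, rfl⟩ := exists_factorization f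
  have := hZ₀
  have := hps
  have := hpl
  have := hpq
  -- the image of `k` lies in the quasi-finite locus of `p`
  have hmem : ∀ x : X, k x ∈ p.quasiFiniteLocus := by
    intro x
    have h1 : (k ≫ p).QuasiFiniteAt x := (k ≫ p).quasiFiniteAt x
    haveI : IsIso (k.stalkMap x) := IsLocalizing.isIso_stalkMap hk.1 x
    rw [Scheme.Hom.mem_quasiFiniteLocus]
    rw [Scheme.Hom.QuasiFiniteAt, Scheme.Hom.stalkMap_comp] at h1
    have h2 : ((k.stalkMap x).hom.comp (p.stalkMap (k x)).hom).QuasiFinite := h1
    exact (RingHom.QuasiFinite.respectsIso.cancel_right_isIso (p.stalkMap (k x))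
      (k.stalkMap x)).mp h2
  set Z₁ := p.quasiFiniteLocus with hZ₁
  haveI : IsNoetherian Z₁.toScheme := isNoetherian_of_locallyOfFiniteType Z₁.ι
  have hrange : Set.range k.base ⊆ Set.range Z₁.ι.base := by
    rintro _ ⟨x, rfl⟩
    rw [Scheme.Opens.range_ι]
    exact hmem x
  let k' : X ⟶ Z₁.toScheme := IsOpenImmersion.lift Z₁.ι k hrange
  have hk' : k' ≫ Z₁.ι = k := IsOpenImmersion.lift_fac _ _ _
  have hk'loc : LocImm.IsLocImmersion k' :=
    isLocImmersion_of_comp_isOpenImmersion k' Z₁.ι (hk' ▸ hk)
  have : LocallyQuasiFinite (Z₁.ι ≫ p) := by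
    rw [hZ₁]
    infer_instance
  obtain ⟨T, j, π, hj, -, -, hπ, e⟩ :=
    Groth.Agent.Lib.Helper13.ZMTFin.exists_finite_factorization (Z₁.ι ≫ p)
  have := hj
  have := hπ
  refine ⟨T, k' ≫ j, π, isNoetherian_of_locallyOfFiniteType π,
    IsLocImmersion.comp hk'loc (isLocImmersion_of_isOpenImmersion j), hπ, ?_⟩
  rw [Category.assoc, e, ← Category.assoc, hk']

end Groth.Agent.S18200
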