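import Groth.Statements.S18201
import Groth.Agent.Lib.Helper13.LocImmProp

set_option autoImplicit false
universe u
open LocImm

namespace Groth.Agent.S18201

open CategoryTheory AlgebraicGeometry in
/-- Let `P` be a property of morphisms of schemes such that (α) for every separated, essentially
finite-type `f : X ⟶ Y` of Noetherian schemes and every localizing immersion `i : W ⟶ X` (`W`
Noetherian; localizing and injective on points), `P f` implies `P (i ≫ f)`; and (β) for every
separated finite-type `f : X ⟶ Y` of Noetherian schemes, (i) `P f` holds whenever `P` holds for each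
composite `Spec O_{X,x} ⟶ X ⟶ Y`, and (ii) the set of `x` for which that composite satisfies `P` is
open. Then (i) and (ii) hold for every separated, essentially finite-type `f : X ⟶ Y` of Noetherian
schemes, and any such `f` with `P f` factors as a localizing immersion `X ⟶ Z` (`Z` Noetherian)
followed by a separated morphism of finite type `h : Z ⟶ Y` satisfying `P`. -/
theorem result (P : MorphismProperty Scheme.{u})
    (hα : ∀ {W X Y : Scheme.{u}} [IsNoetherian W] [IsNoetherian X] [IsNoetherian Y] (i : W ⟶ X) (f : X ⟶ Y) [IsSeparated f] [EssFT.EssFiniteType f], LocImm.IsLocImmersion i → P f → P (i ≫ f))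
    (hβ₁ : ∀ {X Y : Scheme.{u}} [IsNoetherian X] [IsNoetherian Y] (f : X ⟶ Y) [IsSeparated f] [LocallyOfFiniteType f], (∀ x : X, P (X.fromSpecStalk x ≫ f)) → P f)
    (hβ₂ : ∀ {X Y : Scheme.{u}} [IsNoetherian X] [IsNoetherian Y] (f : X ⟶ Y) [IsSeparated f] [LocallyOfFiniteType f], IsOpen {x : X | P (X.fromSpecStalk x ≫ f)})
    {X Y : Scheme.{u}} [IsNoetherian X] [IsNoetherian Y] (f : X ⟶ Y) [IsSeparated f] [EssFT.EssFiniteType f] :
    ((∀ x : X, P (X.fromSpecStalk x ≫ f)) → P f) ∧ IsOpen {x : X | P (X.fromSpecStalk x ≫ f)} ∧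
      (P f → ∃ (Z : Scheme.{u}) (i : X ⟶ Z) (h : Z ⟶ Y), IsNoetherian Z ∧ LocImm.IsLocImmersion i ∧ IsSeparated h ∧ LocallyOfFiniteType h ∧ QuasiCompact h ∧ P h ∧ i ≫ h = f) := by
  open Groth.Agent.Lib.Helper13.LocImmLib in
  classical
  obtain ⟨Z, k, p, hZ, hk, hps, hpl, hpq, rfl⟩ := exists_factorization f
  have := hZ
  have := hps
  have := hpl
  have := hpq
  -- the `P`-locus of `p`
  let Z' : Z.Opens := ⟨{z : Z | P (Z.fromSpecStalk z ≫ p)}, hβ₂ p⟩
  have hmem : ∀ x : X, P (X.fromSpecStalk x ≫ k ≫ p) ↔ k x ∈ Z' := fun x =>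
    prop_fromSpecStalk_iff P hα k p x (IsLocalizing.isIso_stalkMap hk.1 x)
  -- the construction
  have hC : (∀ x : X, k x ∈ Z') → ∃ (T : Scheme.{u}) (i : X ⟶ T) (h : T ⟶ Y), IsNoetherian T ∧
      LocImm.IsLocImmersion i ∧ IsSeparated h ∧ LocallyOfFiniteType h ∧ QuasiCompact h ∧ P h ∧
      i ≫ h = k ≫ p := by
    intro hr
    haveI : IsNoetherian Z'.toScheme := isNoetherian_of_locallyOfFiniteType Z'.ι
    have hrange : Set.range k.base ⊆ Set.range Z'.ι.base := by
      rintro _ ⟨x, rfl⟩
      rw [Scheme.Opens.range_ι]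
      exact hr x
    let k' : X ⟶ Z'.toScheme := IsOpenImmersion.lift Z'.ι k hrange
    have hk' : k' ≫ Z'.ι = k := IsOpenImmersion.lift_fac _ _ _
    refine ⟨Z'.toScheme, k', Z'.ι ≫ p, inferInstance, ?_, inferInstance, inferInstance,
      inferInstance, ?_, by rw [← Category.assoc, hk']⟩
    · exact isLocImmersion_of_comp_isOpenImmersion k' Z'.ι (hk' ▸ hk)
    · apply hβ₁
      intro z
      haveI : IsIso (Z'.ι.stalkMap z) := inferInstance
      rw [prop_fromSpecStalk_iff P hα Z'.ι p z inferInstance]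
      exact z.2
  refine ⟨fun hall => ?_, ?_, fun hPf => ?_⟩
  · obtain ⟨T, i, h, hT, hi, hhs, hhl, hhq, hPh, e⟩ := hC fun x => (hmem x).mp (hall x)
    have := hT
    have := hhs
    have := hhl
    have := hhq
    haveI : EssFT.EssFiniteType h := {}
    rw [← e]
    exact hα i h hi hPh
  · have : {x : X | P (X.fromSpecStalk x ≫ k ≫ p)} = k.base ⁻¹' (Z' : Set Z) := by
      ext x
      exact hmem x
    rw [this]
    exact Z'.isOpen.preimage k.continuous
  · refine hC fun x => (hmem x).mp ?_
    exact hα (X.fromSpecStalk x) (k ≫ p) (isLocImmersion_fromSpecStalk x) hPf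

end Groth.Agent.S18201
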