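import Groth.Statements.S18247
import Mathlib.Tactic

set_option autoImplicit false
universe u
open W4c5m1nsnscurves
open Curves

namespace Groth.Agent.S18247

open MvPolynomial

/-- values of the generators in the polynomial ring -/
noncomputable def val : UGen 2 → MvPolynomial (Fin 6) ℤ
  | .a => X 0
  | .ci i => if i = 0 then X 1 else X 3
  | .cbi i => if i = 0 then X 2 else X 4
  | .cij i _ _ => if i = 0 then X 5 else (X 0 + X 1 + X 2 + X 3 + X 4 - X 5)
  | .c => (X 0 + X 1 + X 2 + X 3 + X 4 - X 5) * X 3 + X 5 * X 1 - X 1 * X 3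
  | .cb => (X 0 + X 1 + X 2 + X 3 + X 4 - X 5) * X 2 + X 5 * X 4 - X 2 * X 4

/-- the map from the free polynomial ring -/
noncomputable def ψ0 : MvPolynomial (UGen 2) ℤ →ₐ[ℤ] MvPolynomial (Fin 6) ℤ := aeval val

lemma ψ0_rel : ∀ r ∈ URel ℤ 2, ψ0 r = 0 := by
  intro r hr
  simp only [URel, Set.mem_union, Set.mem_range] at hr
  rcases hr with ((⟨q, rfl⟩ | ⟨q, rfl⟩) | ⟨q, rfl⟩) | ⟨q, rfl⟩
  · obtain ⟨⟨i, j⟩, h⟩ := q
    fin_cases i <;> fin_cases j <;> simp at h <;> simp [ψ0, val] <;> ring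
  · obtain ⟨⟨i, j⟩, h⟩ := q
    fin_cases i <;> fin_cases j <;> simp at h <;> simp [ψ0, val] <;> ring
  · obtain ⟨⟨i, j⟩, h⟩ := q
    fin_cases i <;> fin_cases j <;> simp at h <;> simp [ψ0, val] <;> ring
  · obtain ⟨⟨i, j, k⟩, h1, h2, h3⟩ := q
    exfalso
    fin_cases i <;> fin_cases j <;> fin_cases k <;> simp at h1 h2 h3

/-- the inverse map -/
noncomputable def ψ : URing ℤ 2 →ₐ[ℤ] MvPolynomial (Fin 6) ℤ :=
  Ideal.Quotient.liftₐ (Ideal.span (URel ℤ 2)) ψ0 (by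
    intro x hx
    have : Ideal.span (URel ℤ 2) ≤ RingHom.ker ψ0.toRingHom := by
      rw [Ideal.span_le]
      intro r hr
      exact ψ0_rel r hr
    exact this hx)

lemma ψ_ugen (g : UGen 2) : ψ (ugen ℤ 2 g) = val g := by
  change ψ0 (X g) = val g
  simp [ψ0]

/-- the forward map -/
noncomputable def φ : MvPolynomial (Fin 6) ℤ →ₐ[ℤ] URing ℤ 2 :=
  MvPolynomial.aeval (R := ℤ) (S₁ := URing ℤ 2)
      ![ugen ℤ 2 .a, ugen ℤ 2 (.ci 0), ugen ℤ 2 (.cbi 0), ugen ℤ 2 (.ci 1), ugen ℤ 2 (.cbi 1),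
        ugen ℤ 2 (.cij 0 1 Fin.zero_ne_one)]

lemma ψφ : ψ.comp φ = AlgHom.id ℤ _ := by
  apply MvPolynomial.algHom_ext
  intro i
  fin_cases i <;> simp [φ, ψ_ugen, val]

def q01 : DPair 2 := ⟨(0, 1), Fin.zero_ne_one⟩

lemma hL : ugen ℤ 2 (.cij 1 0 (Ne.symm Fin.zero_ne_one)) =
    ugen ℤ 2 .a + ugen ℤ 2 (.ci 0) + ugen ℤ 2 (.cbi 0) + ugen ℤ 2 (.ci 1) + ugen ℤ 2 (.cbi 1)
      - ugen ℤ 2 (.cij 0 1 Fin.zero_ne_one) := by
  have hmem : (X (.cij q01.1.1 q01.1.2 q01.2) + X (.cij q01.1.2 q01.1.1 (Ne.symm q01.2)) -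
      (X .a + X (.ci q01.1.1) + X (.cbi q01.1.1) + X (.ci q01.1.2) + X (.cbi q01.1.2)) :
        MvPolynomial (UGen 2) ℤ) ∈ Ideal.span (URel ℤ 2) := by
    apply Ideal.subset_span
    simp only [URel, Set.mem_union, Set.mem_range]
    exact Or.inl (Or.inl (Or.inl ⟨q01, rfl⟩))
  have h0 := Ideal.Quotient.eq_zero_iff_mem.mpr hmem
  simp only [map_sub, map_add, q01] at h0
  simp only [ugen]
  linear_combination h0

lemma hQ : ugen ℤ 2 .c =
    ugen ℤ 2 (.cij 1 0 (Ne.symm Fin.zero_ne_one)) * ugen ℤ 2 (.ci 1) +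
      ugen ℤ 2 (.cij 0 1 Fin.zero_ne_one) * ugen ℤ 2 (.ci 0) - ugen ℤ 2 (.ci 0) * ugen ℤ 2 (.ci 1) := by
  have hmem : (X (.cij q01.1.2 q01.1.1 (Ne.symm q01.2)) * X (.ci q01.1.2) +
      X (.cij q01.1.1 q01.1.2 q01.2) * X (.ci q01.1.1) -
      X (.ci q01.1.1) * X (.ci q01.1.2) - X .c :
        MvPolynomial (UGen 2) ℤ) ∈ Ideal.span (URel ℤ 2) := by
    apply Ideal.subset_span
    simp only [URel, Set.mem_union, Set.mem_range]
    exact Or.inl (Or.inl (Or.inr ⟨q01, rfl⟩))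
  have h0 := Ideal.Quotient.eq_zero_iff_mem.mpr hmem
  simp only [map_sub, map_add, map_mul, q01] at h0
  simp only [ugen]
  linear_combination -h0

lemma hQb : ugen ℤ 2 .cb =
    ugen ℤ 2 (.cij 1 0 (Ne.symm Fin.zero_ne_one)) * ugen ℤ 2 (.cbi 0) +
      ugen ℤ 2 (.cij 0 1 Fin.zero_ne_one) * ugen ℤ 2 (.cbi 1) - ugen ℤ 2 (.cbi 0) * ugen ℤ 2 (.cbi 1) := by
  have hmem : (X (.cij q01.1.2 q01.1.1 (Ne.symm q01.2)) * X (.cbi q01.1.1) +
      X (.cij q01.1.1 q01.1.2 q01.2) * X (.cbi q01.1.2) -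
      X (.cbi q01.1.1) * X (.cbi q01.1.2) - X .cb :
        MvPolynomial (UGen 2) ℤ) ∈ Ideal.span (URel ℤ 2) := by
    apply Ideal.subset_span
    simp only [URel, Set.mem_union, Set.mem_range]
    exact Or.inl (Or.inr ⟨q01, rfl⟩)
  have h0 := Ideal.Quotient.eq_zero_iff_mem.mpr hmem
  simp only [map_sub, map_add, map_mul, q01] at h0
  simp only [ugen]
  linear_combination -h0

lemma φ_val (g : UGen 2) : φ (val g) = ugen ℤ 2 g := by
  cases g with
  | a => simp [val, φ]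
  | c =>
    rw [hQ, hL]
    simp [val, φ]
  | cb =>
    rw [hQb, hL]
    simp [val, φ]
  | ci i => fin_cases i <;> simp [val, φ]
  | cbi i => fin_cases i <;> simp [val, φ]
  | cij i j h =>
    fin_cases i <;> fin_cases j
    · exact absurd rfl h
    · simp [val, φ]
    · change φ (val (.cij 1 0 (Ne.symm Fin.zero_ne_one))) = ugen ℤ 2 (.cij 1 0 (Ne.symm Fin.zero_ne_one))
      rw [hL]
      simp [val, φ]
    · exact absurd rfl h

lemma φψ : φ.comp ψ = AlgHom.id ℤ _ := by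
  apply Ideal.Quotient.algHom_ext
  apply MvPolynomial.algHom_ext
  intro g
  change φ (ψ (ugen ℤ 2 g)) = ugen ℤ 2 g
  rw [ψ_ugen, φ_val]


/-- Case n = 5: the coordinate ring of U_5 over ℤ (m = 2 indices, standing for the points 4 and 5;
generators a, c, c̄, c_4, c̄_4, c_5, c̄_5, c_{45}, c_{54} with the linear and the two quadratic
relations for the one pair of indices, and no triple) is the polynomial ring on a, c_4, c̄_4, c_5,
c̄_5, c_{45}: the ℤ-algebra map from the polynomial ring in six variables sending the variables to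
these six classes, in this order, is bijective. -/
theorem result :
    Function.Bijective (MvPolynomial.aeval (R := ℤ) (S₁ := URing ℤ 2)
      ![ugen ℤ 2 .a, ugen ℤ 2 (.ci 0), ugen ℤ 2 (.cbi 0), ugen ℤ 2 (.ci 1), ugen ℤ 2 (.cbi 1),
        ugen ℤ 2 (.cij 0 1 Fin.zero_ne_one)]) := by
  change Function.Bijective φ
  constructor
  · intro x y hxy
    have := congrArg ψ hxy
    have hx := congrArg (fun f => f x) ψφ
    have hy := congrArg (fun f => f y) ψφ
    simp only [AlgHom.comp_apply, AlgHom.id_apply] at hx hy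
    rw [← hx, ← hy, this]
  · intro y
    refine ⟨ψ y, ?_⟩
    have hy := congrArg (fun f => f y) φψ
    simpa using hy

end Groth.Agent.S18247
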