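import Groth.Statements.S18251
import Mathlib.Tactic
import Mathlib.RingTheory.MvPolynomial.Groebner
import Mathlib.Algebra.Order.Monoid.Prod

set_option autoImplicit false
universe u
open W4c5m1nsnscurves
open Curves

namespace Groth.Agent.S18251

open MvPolynomial
open scoped MonomialOrder

/-- the additive equivalence `(Fin 2 →₀ ℕ) ≃+ ℕ ×ₗ ℕ`, second coordinate first -/
noncomputable def toSynEquiv : (Fin 2 →₀ ℕ) ≃+ ℕ ×ₗ ℕ where
  toFun c := toLex (c 1, c 0)
  invFun p := Finsupp.single 1 (ofLex p).1 + Finsupp.single 0 (ofLex p).2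
  left_inv c := by
    ext i
    fin_cases i <;> simp
  right_inv p := by
    apply ofLex.injective
    ext <;> simp
  map_add' c d := rfl

/-- the monomial order on two variables with `X 1 > X 0` (lexicographic) -/
noncomputable def mo : MonomialOrder (Fin 2) where
  syn := ℕ ×ₗ ℕ
  toSyn := toSynEquiv
  toSyn_monotone := by
    intro c d h
    change toLex (c 1, c 0) ≤ toLex (d 1, d 0)
    exact Prod.Lex.toLex_mono ⟨h 1, h 0⟩

lemma mo_lt_iff (c d : Fin 2 →₀ ℕ) :
    c ≺[mo] d ↔ c 1 < d 1 ∨ (c 1 = d 1 ∧ c 0 < d 0) := by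
  change toLex (c 1, c 0) < toLex (d 1, d 0) ↔ _
  rw [Prod.Lex.toLex_lt_toLex]

section
variable (R : Type u) [CommRing R] (a b c d : R)

/-- the defining polynomial -/
noncomputable abbrev gpoly : MvPolynomial (Fin 2) R :=
  X 0 * X 1 ^ 2 - X 0 ^ 2 * X 1 - (C a * X 0 * X 1 + C b * X 0 + C c * X 1 + C d)

/-- the leading exponent -/
noncomputable abbrev d0 : Fin 2 →₀ ℕ := Finsupp.single 0 1 + Finsupp.single 1 2

lemma g_eq : gpoly R a b c d = monomial d0 1 +
    (monomial (Finsupp.single 0 2 + Finsupp.single 1 1) (-1) +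
      monomial (Finsupp.single 0 1 + Finsupp.single 1 1) (-a) +
      monomial (Finsupp.single 0 1) (-b) + monomial (Finsupp.single 1 1) (-c) + monomial 0 (-d)) := by
  have h1 : (X 1 : MvPolynomial (Fin 2) R) ^ 2 = monomial (Finsupp.single 1 2) 1 :=
    X_pow_eq_monomial
  have h2 : (X 0 : MvPolynomial (Fin 2) R) ^ 2 = monomial (Finsupp.single 0 2) 1 :=
    X_pow_eq_monomial
  have h3 : (X 0 : MvPolynomial (Fin 2) R) = monomial (Finsupp.single 0 1) 1 := rfl
  have h4 : (X 1 : MvPolynomial (Fin 2) R) = monomial (Finsupp.single 1 1) 1 := rfl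
  simp only [gpoly, d0]
  rw [h1, h2, h3, h4]
  simp only [C_apply, monomial_mul, mul_one, one_mul, map_neg, zero_add]
  ring


/-- the lower-order part -/
noncomputable abbrev rest : MvPolynomial (Fin 2) R :=
  monomial (Finsupp.single 0 2 + Finsupp.single 1 1) (-1) +
      monomial (Finsupp.single 0 1 + Finsupp.single 1 1) (-a) +
      monomial (Finsupp.single 0 1) (-b) + monomial (Finsupp.single 1 1) (-c) + monomial 0 (-d)

lemma rest_support (e : Fin 2 →₀ ℕ) (he : e ∈ (rest R a b c d).support) : e ≺[mo] d0 := by
  have hsub : (rest R a b c d).support ⊆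
      {Finsupp.single 0 2 + Finsupp.single 1 1, Finsupp.single 0 1 + Finsupp.single 1 1,
        Finsupp.single 0 1, Finsupp.single 1 1, 0} := by
    classical
    intro x hx
    simp only [rest] at hx
    have h := MvPolynomial.support_add hx
    rcases Finset.mem_union.mp h with h | h
    · have h := MvPolynomial.support_add h
      rcases Finset.mem_union.mp h with h | h
      · have h := MvPolynomial.support_add h
        rcases Finset.mem_union.mp h with h | h
        · have h := MvPolynomial.support_add h
          rcases Finset.mem_union.mp h with h | h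
          · have := support_monomial_subset h
            simp only [Finset.mem_singleton] at this
            simp [this]
          · have := support_monomial_subset h
            simp only [Finset.mem_singleton] at this
            simp [this]
        · have := support_monomial_subset h
          simp only [Finset.mem_singleton] at this
          simp [this]
      · have := support_monomial_subset h
        simp only [Finset.mem_singleton] at this
        simp [this]
    · have := support_monomial_subset h
      simp only [Finset.mem_singleton] at this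
      simp [this]
  have h := hsub he
  simp only [Finset.mem_insert, Finset.mem_singleton] at h
  rw [mo_lt_iff]
  rcases h with rfl | rfl | rfl | rfl | rfl <;> simp [d0]


lemma zero_lt_d0 : 0 ≺[mo] d0 := by
  rw [mo_lt_iff]; simp [d0]

lemma deg_rest_lt [Nontrivial R] :
    mo.degree (rest R a b c d) ≺[mo] mo.degree (monomial d0 (1 : R)) := by
  classical
  rw [MonomialOrder.degree_monomial, if_neg one_ne_zero]
  exact (mo.degree_lt_iff zero_lt_d0).mpr (rest_support R a b c d)

lemma degree_g [Nontrivial R] : mo.degree (gpoly R a b c d) = d0 := by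
  classical
  rw [g_eq, MonomialOrder.degree_add_of_lt (deg_rest_lt R a b c d), MonomialOrder.degree_monomial,
    if_neg one_ne_zero]

lemma leadingCoeff_g [Nontrivial R] : mo.leadingCoeff (gpoly R a b c d) = 1 := by
  rw [g_eq, MonomialOrder.leadingCoeff_add_of_lt (deg_rest_lt R a b c d),
    MonomialOrder.leadingCoeff_monomial]


/-- exponents of the basis monomials -/
noncomputable def ex : Option (ℕ ⊕ (Fin 2 × ℕ)) → (Fin 2 →₀ ℕ)
  | none => 0
  | some (Sum.inl k) => Finsupp.single 0 (k + 1) + Finsupp.single 1 1
  | some (Sum.inr (y, k)) => Finsupp.single y (k + 1)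

lemma cmon3_eq (i : Option (ℕ ⊕ (Fin 2 × ℕ))) :
    cmon3 R a b c d i = Ideal.Quotient.mk _ (monomial (ex i) (1 : R)) := by
  rcases i with _ | (k | ⟨y, k⟩)
  · simp [cmon3, ex]
  · simp only [cmon3, ex]
    congr 1
    have h4 : (X 1 : MvPolynomial (Fin 2) R) = monomial (Finsupp.single 1 1) 1 := rfl
    rw [X_pow_eq_monomial, h4, monomial_mul, mul_one]
  · simp only [cmon3, ex]
    congr 1
    exact X_pow_eq_monomial

lemma d0_le_iff (e : Fin 2 →₀ ℕ) : d0 ≤ e ↔ 1 ≤ e 0 ∧ 2 ≤ e 1 := by
  rw [Finsupp.le_def, Fin.forall_fin_two]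
  simp [d0]

lemma ex_apply0 (i : Option (ℕ ⊕ (Fin 2 × ℕ))) : ¬ d0 ≤ ex i := by
  rw [d0_le_iff]
  rcases i with _ | (k | ⟨y, k⟩)
  · simp [ex]
  · simp [ex]
  · fin_cases y <;> simp [ex]

lemma ex_injective : Function.Injective ex := by
  intro i j h
  have h0 := DFunLike.congr_fun h 0
  have h1 := DFunLike.congr_fun h 1
  rcases i with _ | (k | ⟨y, k⟩) <;> rcases j with _ | (k' | ⟨y', k'⟩)
  · rfl
  · simp [ex] at h1
  · fin_cases y' <;> simp [ex] at h0 h1
  · simp [ex] at h1
  · simp [ex] at h0
    rw [h0]
  · fin_cases y' <;> simp [ex] at h0 h1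
  · fin_cases y <;> simp [ex] at h0 h1
  · fin_cases y <;> simp [ex] at h0 h1
  · fin_cases y <;> fin_cases y' <;> simp [ex] at h0 h1 <;> simp [h0, h1]

lemma ex_surj (e : Fin 2 →₀ ℕ) (he : ¬ d0 ≤ e) : ∃ i, ex i = e := by
  rw [d0_le_iff] at he
  have key : ∀ i, (ex i 0 = e 0 ∧ ex i 1 = e 1) → ex i = e := by
    intro i ⟨h0, h1⟩
    ext y
    fin_cases y
    · exact h0
    · exact h1
  by_cases h1 : e 1 = 0
  · by_cases h0 : e 0 = 0
    · exact ⟨none, key _ ⟨by simp [ex, h0], by simp [ex, h1]⟩⟩
    · refine ⟨some (Sum.inr (0, e 0 - 1)), key _ ⟨?_, ?_⟩⟩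
      · simp [ex]; omega
      · simp [ex, h1]
  · by_cases h1' : e 1 = 1
    · by_cases h0 : e 0 = 0
      · refine ⟨some (Sum.inr (1, 0)), key _ ⟨?_, ?_⟩⟩
        · simp [ex, h0]
        · simp [ex, h1']
      · refine ⟨some (Sum.inl (e 0 - 1)), key _ ⟨?_, ?_⟩⟩
        · simp [ex]; omega
        · simp [ex, h1']
    · have h0 : e 0 = 0 := by omega
      refine ⟨some (Sum.inr (1, e 1 - 1)), key _ ⟨?_, ?_⟩⟩
      · simp [ex, h0]
      · simp [ex]; omega


/-- a polynomial supported on basis exponents that is a multiple of `g` vanishes -/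
lemma eq_zero_of_mul [Nontrivial R] (h r : MvPolynomial (Fin 2) R)
    (hr : r = h * gpoly R a b c d) (hsupp : ∀ e ∈ r.support, ¬ d0 ≤ e) : r = 0 := by
  by_contra hne
  have hh : h ≠ 0 := by
    rintro rfl
    rw [zero_mul] at hr
    exact hne hr
  have hreg : IsRegular (mo.leadingCoeff (gpoly R a b c d)) := by
    rw [leadingCoeff_g]; exact isRegular_one
  have hdeg : mo.degree r = mo.degree h + d0 := by
    rw [hr, MonomialOrder.degree_mul_of_isRegular_right hh hreg, degree_g]
  have hmem := mo.degree_mem_support hne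
  apply hsupp _ hmem
  rw [hdeg]
  exact le_add_self

end


/-- Case n = 3: let R be a commutative ring and a, b, c, d elements of R (a point of U_3, which is
affine 4-space, so no condition is imposed). Then in the R-algebra R[x_2, x_3]/(x_2 x_3² − x_2² x_3
− a x_2 x_3 − b x_2 − c x_3 − d) the classes of the monomials 1, x_2^k x_3, x_2^k and x_3^k (k ≥ 1)
are linearly independent over R and span, i.e. form an R-basis. -/
theorem result (R : Type u) [CommRing R] (a b c d : R) :
    LinearIndependent R (cmon3 R a b c d) ∧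
      Submodule.span R (Set.range (cmon3 R a b c d)) = ⊤ := by
  classical
  rcases subsingleton_or_nontrivial R with hR | hR
  · haveI : Subsingleton (CurveAlg3 R a b c d) := by
      refine ⟨fun x y => ?_⟩
      rw [← one_smul R x, ← one_smul R y, Subsingleton.elim (1 : R) 0, zero_smul, zero_smul]
    refine ⟨?_, Subsingleton.elim _ _⟩
    rw [linearIndependent_iff]
    intro l _
    ext i
    exact Subsingleton.elim _ _
  constructor
  · rw [linearIndependent_iff]
    intro l hl
    set r : MvPolynomial (Fin 2) R := ∑ i ∈ l.support, monomial (ex i) (l i) with hr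
    have hmk : Ideal.Quotient.mk (Ideal.span {gpoly R a b c d}) r = 0 := by
      rw [← hl, Finsupp.linearCombination_apply, Finsupp.sum, hr, map_sum]
      apply Finset.sum_congr rfl
      intro i _
      rw [cmon3_eq, ← mul_one (l i), ← smul_eq_mul, ← MvPolynomial.smul_monomial, smul_eq_mul,
        mul_one]
      rfl
    rw [Ideal.Quotient.eq_zero_iff_mem, Ideal.mem_span_singleton'] at hmk
    obtain ⟨h, hh⟩ := hmk
    have hsupp : ∀ e ∈ r.support, ¬ d0 ≤ e := by
      intro e he
      have h1 := MvPolynomial.support_sum he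
      rw [Finset.mem_biUnion] at h1
      obtain ⟨i, _, hi⟩ := h1
      have h2 := support_monomial_subset hi
      rw [Finset.mem_singleton] at h2
      rw [h2]
      exact ex_apply0 i
    have hr0 : r = 0 := eq_zero_of_mul R a b c d h r hh.symm hsupp
    ext j
    by_cases hj : j ∈ l.support
    · have hc : coeff (ex j) r = l j := by
        rw [hr, coeff_sum]
        rw [Finset.sum_eq_single j]
        · simp
        · intro i _ hij
          rw [coeff_monomial, if_neg]
          intro h3
          exact hij (ex_injective h3)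
        · intro h3; exact absurd hj h3
      rw [hr0, coeff_zero] at hc
      rw [← hc]; rfl
    · rw [Finsupp.notMem_support_iff] at hj
      rw [hj]; rfl
  · rw [eq_top_iff]
    intro y _
    obtain ⟨f, rfl⟩ := Ideal.Quotient.mk_surjective y
    have hu : IsUnit (mo.leadingCoeff (gpoly R a b c d)) := by
      rw [leadingCoeff_g]; exact isUnit_one
    obtain ⟨q, r, hf, _, hsupp⟩ := mo.div_single hu f
    rw [degree_g] at hsupp
    have hmk : Ideal.Quotient.mk (Ideal.span {gpoly R a b c d}) f =
        Ideal.Quotient.mk (Ideal.span {gpoly R a b c d}) r := by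
      rw [hf, map_add]
      have : Ideal.Quotient.mk (Ideal.span {gpoly R a b c d}) (q * gpoly R a b c d) = 0 := by
        rw [Ideal.Quotient.eq_zero_iff_mem]
        exact Ideal.mul_mem_left _ _ (Ideal.subset_span rfl)
      rw [this, zero_add]
    rw [hmk, r.as_sum, map_sum]
    apply Submodule.sum_mem
    intro e he
    obtain ⟨i, hi⟩ := ex_surj e (hsupp e he)
    have : Ideal.Quotient.mk (Ideal.span {gpoly R a b c d}) (monomial e (coeff e r)) =
        coeff e r • cmon3 R a b c d i := by
      rw [cmon3_eq, hi, ← mul_one (coeff e r), ← smul_eq_mul, ← MvPolynomial.smul_monomial,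
        smul_eq_mul, mul_one]
      rfl
    rw [this]
    exact Submodule.smul_mem _ _ (Submodule.subset_span ⟨i, rfl⟩)

end Groth.Agent.S18251
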