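import Groth.Statements.S18256
import Mathlib
import Groth.Agent.S12707

set_option autoImplicit false
universe u
open ArtFun

namespace Groth.Agent.S18256

section helpers
open CategoryTheory ArtFun TensorProduct
open Groth.Agent.S12707

variable {Λ : Type u} {k : Type u} [CommRing Λ] [Field k] [Algebra Λ k]

lemma isSmallExt_step (B : Art Λ k) (J₀ : Ideal B) (x : B) (hx : x ∉ J₀)
    (hmx : ∀ a ∈ IsLocalRing.maximalIdeal B, a * x ∈ J₀)
    (h₀ : J₀ ≤ IsLocalRing.maximalIdeal B)
    (h₁ : J₀ ⊔ Ideal.span {x} ≤ IsLocalRing.maximalIdeal B)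
    (hz : ∀ a ∈ J₀, (proj B (J₀ ⊔ Ideal.span {x}) h₁) a = 0) :
    Art.IsSmallExt (liftQ B J₀ h₀ (proj B (J₀ ⊔ Ideal.span {x}) h₁) hz) := by
  set J' : Ideal B := J₀ ⊔ Ideal.span {x} with hJ'def
  let π := proj B J₀ h₀
  let π' := proj B J' h₁
  have hπ : Function.Surjective π := proj_surjective B J₀ h₀
  set p := liftQ B J₀ h₀ (proj B J' h₁) hz with hpdef
  have hxJ' : x ∈ J' := Ideal.mem_sup_right (Ideal.subset_span rfl)
  have hker : RingHom.ker p.toAlgHom = Ideal.span {π x} := by
    apply le_antisymm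
    · intro y hy
      obtain ⟨b, rfl⟩ := hπ y
      have hb : b ∈ J' := (proj_eq_zero_iff B J' h₁ b).1 hy
      obtain ⟨j, hj, z, hz, rfl⟩ := Submodule.mem_sup.1 hb
      obtain ⟨c, rfl⟩ := Ideal.mem_span_singleton'.1 hz
      have e1 : π (j + c * x) = π j + π c * π x := by
        rw [← map_mul π.toAlgHom, ← map_add π.toAlgHom]
      rw [e1, (proj_eq_zero_iff B J₀ h₀ j).2 hj, zero_add]
      exact Ideal.mul_mem_left _ _ (Ideal.subset_span rfl)
    · rw [Ideal.span_singleton_le_iff_mem]
      exact (proj_eq_zero_iff B J' h₁ x).2 hxJ'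
  refine ⟨?_, ?_, ?_, ?_⟩
  · intro y
    obtain ⟨b, rfl⟩ := proj_surjective B J' h₁ y
    exact ⟨π b, rfl⟩
  · rw [hker]
    intro h
    rw [Ideal.span_singleton_eq_bot] at h
    exact hx ((proj_eq_zero_iff B J₀ h₀ x).1 h)
  · rw [hker]
    exact ⟨⟨_, rfl⟩⟩
  · rw [hker, eq_bot_iff, Ideal.mul_le]
    intro y hy z hz
    obtain ⟨b, rfl⟩ := hπ y
    rw [mem_max_Q] at hy
    obtain ⟨c, rfl⟩ := Ideal.mem_span_singleton'.1 hz
    rw [Ideal.mem_bot]
    have e1 : π b * (c * π x) = c * π (b * x) := by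
      have : π (b * x) = π b * π x := map_mul π.toAlgHom b x
      rw [this]; ring
    rw [e1, (proj_eq_zero_iff B J₀ h₀ _).2 (hmx b hy), mul_zero]

variable (M : Type u) [AddCommGroup M] [Module Λ M]

/-- The property: `M ⊗ J → M ⊗ B` is injective. -/
def S (B : Art Λ k) (J : Ideal B) : Prop :=
  Function.Injective (LinearMap.lTensor M ((J.restrictScalars Λ).subtype))

lemma S_bot (B : Art Λ k) : S M B ⊥ := by
  intro a b _
  have key : ∀ z : M ⊗[Λ] ↥((⊥ : Ideal B).restrictScalars Λ), z = 0 := by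
    intro z
    induction z using TensorProduct.induction_on with
    | zero => rfl
    | tmul m n =>
      have : n = 0 := by
        apply Subtype.ext
        have := n.2
        rw [Submodule.restrictScalars_mem, Ideal.mem_bot] at this
        exact this
      rw [this, TensorProduct.tmul_zero]
    | add a b ha hb => rw [ha, hb, add_zero]
  rw [key a, key b]

lemma S_step (B : Art Λ k)
    (h : ∀ (A' A : Art Λ k) (p : A' ⟶ A), Art.IsSmallExt p →
      Function.Injective
        (LinearMap.lTensor M (((RingHom.ker p.toAlgHom).restrictScalars Λ).subtype)))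
    (J₀ : Ideal B) (x : B) (hx : x ∉ J₀)
    (hmx : ∀ a ∈ IsLocalRing.maximalIdeal B, a * x ∈ J₀)
    (h₁ : J₀ ⊔ Ideal.span {x} ≤ IsLocalRing.maximalIdeal B)
    (hS : S M B J₀) : S M B (J₀ ⊔ Ideal.span {x}) := by
  have h₀ : J₀ ≤ IsLocalRing.maximalIdeal B := le_sup_left.trans h₁
  set J₁ : Ideal B := J₀ ⊔ Ideal.span {x} with hJ₁
  have hle : J₀ ≤ J₁ := le_sup_left
  have hz : ∀ a ∈ J₀, (proj B J₁ h₁) a = 0 := fun a ha => (proj_eq_zero_iff B J₁ h₁ a).2 (hle ha)
  let p := liftQ B J₀ h₀ (proj B J₁ h₁) hz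
  have hp : Art.IsSmallExt p := isSmallExt_step B J₀ x hx hmx h₀ h₁ hz
  have hinj := h _ _ p hp
  let π₀ : B →ₗ[Λ] (Q B J₀ h₀) := (proj B J₀ h₀).toAlgHom.toLinearMap
  let N₀ : Submodule Λ B := J₀.restrictScalars Λ
  let N₁ : Submodule Λ B := J₁.restrictScalars Λ
  let Kp : Submodule Λ (Q B J₀ h₀) := (RingHom.ker p.toAlgHom).restrictScalars Λ
  have hN : N₀ ≤ N₁ := hle
  let ι : N₀ →ₗ[Λ] N₁ := Submodule.inclusion hN
  have hmem : ∀ a : N₁, (π₀ ∘ₗ N₁.subtype) a ∈ Kp := by
    intro a
    change p ((proj B J₀ h₀) a.1) = 0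
    change (proj B J₁ h₁) a.1 = 0
    exact (proj_eq_zero_iff B J₁ h₁ a.1).2 a.2
  let ψ : N₁ →ₗ[Λ] Kp := LinearMap.codRestrict Kp (π₀ ∘ₗ N₁.subtype) hmem
  have hψ : ∀ a : N₁, ((ψ a : Kp) : Q B J₀ h₀) = (proj B J₀ h₀) a.1 := fun a => rfl
  have hexact : Function.Exact ι ψ := by
    intro y
    constructor
    · intro hy
      have h1 : (proj B J₀ h₀) y.1 = 0 := by
        rw [← hψ, hy]; rfl
      have h2 : y.1 ∈ J₀ := (proj_eq_zero_iff B J₀ h₀ _).1 h1
      exact ⟨⟨y.1, h2⟩, Subtype.ext rfl⟩
    · rintro ⟨y₀, rfl⟩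
      apply Subtype.ext
      rw [hψ]
      exact (proj_eq_zero_iff B J₀ h₀ _).2 y₀.2
  have hsurj : Function.Surjective ψ := by
    intro z
    obtain ⟨b, hb⟩ := proj_surjective B J₀ h₀ z.1
    have hb1 : b ∈ J₁ := by
      apply (proj_eq_zero_iff B J₁ h₁ b).1
      have hz2 : p z.1 = 0 := z.2
      rw [← hb] at hz2
      exact hz2
    exact ⟨⟨b, hb1⟩, Subtype.ext hb⟩
  have hsq : Kp.subtype ∘ₗ ψ = π₀ ∘ₗ N₁.subtype := by
    apply LinearMap.ext
    intro a
    rfl
  have hex2 := lTensor_exact M hexact hsurj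
  -- chase
  rw [S, injective_iff_map_eq_zero]
  intro z hz0
  have e1 : (LinearMap.lTensor M Kp.subtype) (LinearMap.lTensor M ψ z) = 0 := by
    rw [← LinearMap.comp_apply, ← LinearMap.lTensor_comp, hsq, LinearMap.lTensor_comp,
      LinearMap.comp_apply]
    have : (LinearMap.lTensor M N₁.subtype) z = 0 := hz0
    rw [this, map_zero]
  have e2 : LinearMap.lTensor M ψ z = 0 := by
    apply hinj
    rw [map_zero]
    exact e1
  obtain ⟨z₀, rfl⟩ := (hex2 z).1 e2
  have e3 : (LinearMap.lTensor M N₀.subtype) z₀ = 0 := by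
    have : N₀.subtype = N₁.subtype ∘ₗ ι := by
      apply LinearMap.ext; intro a; rfl
    rw [this, LinearMap.lTensor_comp, LinearMap.comp_apply]
    exact hz0
  have e4 : z₀ = 0 := by
    apply hS
    rw [map_zero]
    exact e3
  rw [e4, map_zero]

theorem S_all (B : Art Λ k)
    (h : ∀ (A' A : Art Λ k) (p : A' ⟶ A), Art.IsSmallExt p →
      Function.Injective
        (LinearMap.lTensor M (((RingHom.ker p.toAlgHom).restrictScalars Λ).subtype)))
    (J : Ideal B) (hJ : J ≤ IsLocalRing.maximalIdeal B) : S M B J := by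
  let 𝒮 : Set (Ideal B) := {J₀ | J₀ ≤ J ∧ S M B J₀}
  have hne : 𝒮.Nonempty := ⟨⊥, bot_le, S_bot M B⟩
  obtain ⟨J₀, ⟨hJ₀J, hS₀⟩, hmax⟩ := wellFounded_gt.has_min 𝒮 hne
  by_cases hle : J ≤ J₀
  · have : J = J₀ := le_antisymm hle hJ₀J
    rw [this]; exact hS₀
  · exfalso
    obtain ⟨x, hxJ, hxJ₀, hmx⟩ := exists_socle_elt B J₀ J hle
    have hJ₁J : J₀ ⊔ Ideal.span {x} ≤ J := sup_le hJ₀J ((Ideal.span_singleton_le_iff_mem _).2 hxJ)
    have hS₁ := S_step M B h J₀ x hxJ₀ hmx (hJ₁J.trans hJ) hS₀
    have hgt : J₀ < J₀ ⊔ Ideal.span {x} :=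
      lt_of_le_of_ne le_sup_left
        (fun e => hxJ₀ (e ▸ Ideal.mem_sup_right (Ideal.subset_span rfl)))
    exact hmax _ ⟨hJ₁J, hS₁⟩ hgt

end helpers

section final
open CategoryTheory ArtFun TensorProduct
open Groth.Agent.S12707

variable (R : Type u) [CommRing R] [IsArtinianRing R] [IsLocalRing R]
    (k : Type u) [Field k] [Algebra R k] (hk : Function.Surjective (algebraMap R k))

/-- `R` itself as an object. -/
noncomputable abbrev RA : Art R k :=
  { carrier := R
    commRing := inferInstance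
    algebra := Algebra.id R
    isLocalRing := inferInstance
    isArtinianRing := inferInstance
    res := Algebra.ofId R k
    res_surjective := hk }

include hk in
theorem final
    (M : Type u) [AddCommGroup M] [Module R M] [Module.Finite R M]
    (h : ∀ (A' A : ArtFun.Art R k) (p : A' ⟶ A), ArtFun.Art.IsSmallExt p →
      Function.Injective
        (LinearMap.lTensor M (((RingHom.ker p.toAlgHom).restrictScalars R).subtype))) :
    Module.Free R M := by
  have hflat : Module.Flat R M := by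
    rw [Module.Flat.iff_lTensor_injective']
    intro I
    by_cases hI : I = ⊤
    · subst hI
      have hb : Function.Bijective ((⊤ : Ideal R).subtype) :=
        ⟨Subtype.val_injective, fun r => ⟨⟨r, trivial⟩, rfl⟩⟩
      let e : (⊤ : Ideal R) ≃ₗ[R] R := LinearEquiv.ofBijective _ hb
      have : LinearMap.lTensor M ((⊤ : Ideal R).subtype) = (e.lTensor M).toLinearMap := by
        apply TensorProduct.ext'
        intro m r
        rfl
      rw [this]
      exact (e.lTensor M).injective
    · have hIm : I ≤ IsLocalRing.maximalIdeal R := IsLocalRing.le_maximalIdeal hI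
      have := S_all M (RA R k hk) h I hIm
      exact this
  exact Module.free_of_flat_of_isLocalRing

end final


open CategoryTheory TensorProduct in
/-- Let R be an Artinian local ring with residue field k and M a finitely generated R-module. Suppose
that for every small extension p : A' → A of local Artinian R-algebras with residue field k (p
surjective, its kernel I a nonzero principal ideal killed by the maximal ideal of A'), the map M ⊗_R
I → M ⊗_R A' induced by the inclusion I ⊆ A' is injective (equivalently, the sequence 0 → M ⊗_R I →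
M ⊗_R A' → M ⊗_R A → 0 is exact). Then M is a free R-module. (The printed conclusion reads free over
the residue field; the proof establishes freeness over R, which is what is stated here.) -/
theorem result
    (R : Type u) [CommRing R] [IsArtinianRing R] [IsLocalRing R]
    (k : Type u) [Field k] [Algebra R k] (hk : Function.Surjective (algebraMap R k))
    (M : Type u) [AddCommGroup M] [Module R M] [Module.Finite R M]
    (h : ∀ (A' A : ArtFun.Art R k) (p : A' ⟶ A), ArtFun.Art.IsSmallExt p →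
      Function.Injective
        (LinearMap.lTensor M (((RingHom.ker p.toAlgHom).restrictScalars R).subtype))) :
    Module.Free R M := by
  exact final R k hk M h

end Groth.Agent.S18256
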