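import Groth.Statements.S18265
import Mathlib

set_option autoImplicit false
universe u
open InvQ

namespace Groth.Agent.S18265

section helpers

theorem isIntegrallyClosed_of_fixed {k A : Type*} [CommRing k] [CommRing A] [IsDomain A] [Algebra k A]
    [IsIntegrallyClosed A] (R : Subalgebra k A) {ι : Type*} (σ : ι → A →+* A)
    (hR : ∀ x, x ∈ R ↔ ∀ i, σ i x = x) : IsIntegrallyClosed R := by
  let K := FractionRing R
  let L := FractionRing A
  have hinj : Function.Injective ((algebraMap A L).comp R.val.toRingHom) :=
    (IsFractionRing.injective A L).comp Subtype.val_injective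
  let ψ : K →+* L := IsFractionRing.lift hinj
  have hψ : ∀ r : R, ψ (algebraMap R K r) = algebraMap A L (r : A) := fun r =>
    IsFractionRing.lift_algebraMap hinj r
  rw [isIntegrallyClosed_iff K]
  intro x hx
  have hx' : IsIntegral A (ψ x) := by
    refine IsIntegral.map_of_comp_eq R.val.toRingHom ψ ?_ hx
    ext r
    exact (hψ r).symm
  obtain ⟨c, hc⟩ := IsIntegrallyClosed.algebraMap_eq_of_integral hx'
  obtain ⟨a, b, rfl⟩ := IsLocalization.exists_mk'_eq (nonZeroDivisors R) x
  have hb0 : (b : R) ≠ 0 := nonZeroDivisors.ne_zero b.2
  have hb0' : ((b : R) : A) ≠ 0 := fun h => hb0 (Subtype.ext h)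
  have h1 : c * ((b : R) : A) = (a : A) := by
    apply IsFractionRing.injective A L
    rw [map_mul, hc, ← hψ, ← hψ, ← map_mul, IsLocalization.mk'_spec]
  have hcR : c ∈ R := by
    rw [hR]
    intro i
    have ha := (hR a).mp a.2 i
    have hb := (hR (b : R)).mp (b : R).2 i
    apply mul_right_cancel₀ hb0'
    calc σ i c * ((b : R) : A) = σ i c * σ i ((b : R) : A) := by rw [hb]
      _ = σ i (c * ((b : R) : A)) := (map_mul _ _ _).symm
      _ = σ i (a : A) := by rw [h1]
      _ = (a : A) := ha
      _ = c * ((b : R) : A) := h1.symm
  refine ⟨⟨c, hcR⟩, ?_⟩
  symm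
  rw [IsLocalization.mk'_eq_iff_eq_mul, ← map_mul]
  congr 1
  exact Subtype.ext h1.symm

open W4c5pointsetsdelpezzo in
theorem main (k : Type u) [Field k] [IsAlgClosed k] (n m : ℕ) :
    IsIntegrallyClosed (W4c5pointsetsdelpezzo.invRing k n m) := by
  refine isIntegrallyClosed_of_fixed (invRing k n m)
    (ι := Matrix.SpecialLinearGroup (Fin (n + 1)) k ⊕ {s : Fin m → kˣ // ∏ i, s i = 1})
    (fun i => Sum.elim (fun g => (slSubst k n m g).toRingHom) (fun s => (colScale k n m s.1).toRingHom) i) ?_
  intro x
  simp only [invRing, Algebra.mem_inf, Algebra.mem_iInf, AlgHom.mem_equalizer, Sum.forall, Sum.elim_inl,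
    Sum.elim_inr, AlgHom.toRingHom_eq_coe, RingHom.coe_coe, AlgHom.coe_id, id_eq]

end helpers

/-- Let k be an algebraically closed field and n, m natural numbers, and let R be the ring of polynomial
functions of m vectors of k^(n+1) invariant under the special linear group SL(n+1, k) acting on all
the vectors at once and under the rescalings of the individual vectors by units with product 1
(equivalently: invariant and homogeneous of one and the same degree in each vector) — the graded
ring of invariant sections whose Proj is the quotient variety of ordered m-point sets in projective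
n-space. Then R is integrally closed in its field of fractions; hence that quotient variety is
normal. (Only the normality assertion of the source's statement is given here; its dimension,
rationality and singular-locus assertions are not.) -/
theorem result (k : Type u) [Field k] [IsAlgClosed k] (n m : ℕ) :
    IsIntegrallyClosed (W4c5pointsetsdelpezzo.invRing k n m) := by
  exact main k n m

end Groth.Agent.S18265
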