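import Groth.Statements.S18294
import Mathlib.CategoryTheory.Sites.SubcanonicalOver
import Mathlib.AlgebraicGeometry.Sites.Fpqc

set_option autoImplicit false
universe u
open CategoryTheory MonoidalCategory CartesianMonoidalCategory MonObj AlgebraicGeometry Opposite
open Magnet

namespace Groth.Agent.S18294

universe v₁ u₁ in
theorem eqvHom_isSheaf {C : Type u₁} [Category.{v₁} C] [CartesianMonoidalCategory C]
    (J : GrothendieckTopology C) [J.Subcanonical] {A B X : C} [MonObj A]
    (ρ : Magnet.MonAct A B) (a : Magnet.MonAct A X) :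
    Presieve.IsSheaf J (Magnet.MonAct.eqvHom ρ a) := by
  have hY : Presieve.IsSheaf J (yoneda.obj X) :=
    GrothendieckTopology.Subcanonical.isSheaf_of_isRepresentable _
  intro T R hR x hx
  have hxs := (Presieve.compatible_iff_sieveCompatible x).mp hx
  -- restriction rule for the family `x`
  have hxr : ∀ {V W : C} (f : V ⟶ T) (g : W ⟶ V) (hf : R f),
      (x (g ≫ f) (R.downward_closed hf g)).1 = (B ◁ g) ≫ (x f hf).1 := by
    intro V W f g hf
    have := congrArg Subtype.val (hxs f g hf)
    exact this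
  let R' : Sieve (B ⊗ T) := R.pullback (snd B T)
  have hR' : R' ∈ J (B ⊗ T) := J.pullback_stable _ hR
  let y : Presieve.FamilyOfElements (yoneda.obj X) R'.arrows :=
    fun W h hh => lift (h ≫ fst B T) (𝟙 W) ≫ (x (h ≫ snd B T) hh).1
  have hy : y.Compatible := by
    rw [Presieve.compatible_iff_sieveCompatible]
    intro W W' h k hh
    change lift ((k ≫ h) ≫ fst B T) (𝟙 W') ≫ (x ((k ≫ h) ≫ snd B T) _).1 =
      k ≫ lift (h ≫ fst B T) (𝟙 W) ≫ (x (h ≫ snd B T) hh).1
    have e1 : (x ((k ≫ h) ≫ snd B T) (R'.downward_closed hh k)).1 =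
        (B ◁ k) ≫ (x (h ≫ snd B T) hh).1 := by
      have h2 := hxr (h ≫ snd B T) k hh
      have h3 : (k ≫ h) ≫ snd B T = k ≫ h ≫ snd B T := Category.assoc _ _ _
      rw [← h2]
      congr 2
    rw [e1, lift_whiskerLeft_assoc, ← Category.assoc k, comp_lift]
    simp
  obtain ⟨φ, hφ, huniq⟩ := hY R' hR' y hy
  have key : ∀ (V : C) (f : V ⟶ T) (hf : R f), (B ◁ f) ≫ φ = (x f hf).1 := by
    intro V f hf
    have hmem : R' (B ◁ f) := by
      change R ((B ◁ f) ≫ snd B T)
      rw [whiskerLeft_snd]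
      exact R.downward_closed hf _
    have h1 : (B ◁ f) ≫ φ = y (B ◁ f) hmem := hφ (B ◁ f) hmem
    rw [h1]
    change lift ((B ◁ f) ≫ fst B T) (𝟙 _) ≫ (x ((B ◁ f) ≫ snd B T) hmem).1 = _
    have e1 : (x ((B ◁ f) ≫ snd B T) hmem).1 = (B ◁ snd B V) ≫ (x f hf).1 := by
      have h2 := hxr f (snd B V) hf
      rw [← h2]
      congr 2
      exact whiskerLeft_snd _ _
    rw [e1, lift_whiskerLeft_assoc, whiskerLeft_fst, Category.id_comp, lift_fst_snd,
      Category.id_comp]
  have hφeq : Magnet.MonAct.IsEquivariant (ρ.prod (Magnet.MonAct.trivial A T)) a φ := by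
    rw [Magnet.MonAct.mem_eqvHom_iff]
    intro T' g b t
    have hY' : Presieve.IsSheaf J (yoneda.obj X) := hY
    apply (hY' _ (J.pullback_stable t hR)).isSeparatedFor.ext
    intro V i hi
    change i ≫ lift (lift g b ≫ ρ.act) t ≫ φ = i ≫ lift g (lift b t ≫ φ) ≫ a.act
    have hi' : R (i ≫ t) := hi
    have hx2 := (x (i ≫ t) hi').2
    rw [Magnet.MonAct.mem_eqvHom_iff] at hx2
    have h3 := hx2 V (i ≫ g) (i ≫ b) (𝟙 V)
    rw [← key V (i ≫ t) hi'] at h3
    rw [lift_whiskerLeft_assoc, lift_whiskerLeft_assoc, Category.id_comp] at h3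
    rw [← Category.assoc, comp_lift, ← Category.assoc i, comp_lift, ← Category.assoc i,
      comp_lift, ← Category.assoc i, comp_lift]
    exact h3
  refine ⟨⟨φ, hφeq⟩, ?_, ?_⟩
  · intro V f hf
    apply Subtype.ext
    exact key V f hf
  · intro z hz
    apply Subtype.ext
    apply huniq
    intro W h hh
    change h ≫ z.1 = lift (h ≫ fst B T) (𝟙 W) ≫ (x (h ≫ snd B T) hh).1
    have h1 : (B ◁ (h ≫ snd B T)) ≫ z.1 = (x (h ≫ snd B T) hh).1 :=
      congrArg Subtype.val (hz (h ≫ snd B T) hh)
    rw [← h1, lift_whiskerLeft_assoc, Category.id_comp, lift_comp_fst_snd]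

/-- Let A be a monoid object in schemes over S acting on S-schemes B and X (in the source A is the
diagonalizable monoid scheme A(M)_S and B = A(N)_S for a magnet N, so that the functor below is the
attractor X^N). Then the functor on S-schemes T ↦ (morphisms B ×_S T → X over S equivariant for A
acting on the first factor) is a sheaf for the fppf topology. -/
theorem result (S : Scheme.{u}) (A B X : Over S) [MonObj A] (ρ : Magnet.MonAct A B)
    (a : Magnet.MonAct A X) :
    Presheaf.IsSheaf (QuotSh.J Scheme.fppfPrecoverage S) (Magnet.MonAct.eqvHom ρ a) := by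
  rw [isSheaf_iff_isSheaf_of_type]
  haveI : (Scheme.fppfPrecoverage.toGrothendieck).Subcanonical :=
    inferInstanceAs (Scheme.fppfTopology.Subcanonical)
  exact eqvHom_isSheaf _ ρ a

end Groth.Agent.S18294
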