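import Groth.Statements.S18296
-- import your own Groth.Agent.* helpers here

set_option autoImplicit false
universe v₁ u₁
open CategoryTheory MonoidalCategory CartesianMonoidalCategory MonObj Opposite
open Magnet Magnet.MonAct

namespace Groth.Agent.S18296

theorem isEquivariant_lift {C : Type u₁} [Category.{v₁} C] [CartesianMonoidalCategory C]
    {A W Y Z : C} [MonObj A] (w : Magnet.MonAct A W) (a : Magnet.MonAct A Y)
    (b : Magnet.MonAct A Z) (φ₁ : W ⟶ Y) (φ₂ : W ⟶ Z)
    (h₁ : Magnet.MonAct.IsEquivariant w a φ₁) (h₂ : Magnet.MonAct.IsEquivariant w b φ₂) :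
    Magnet.MonAct.IsEquivariant w (a.prod b) (lift φ₁ φ₂) := by
  rw [Magnet.MonAct.isEquivariant_iff] at h₁ h₂ ⊢
  intro T g x
  have e : x ≫ lift φ₁ φ₂ = lift (x ≫ φ₁) (x ≫ φ₂) := comp_lift _ _ _
  rw [e, Magnet.MonAct.lift_prod_act, ← h₁, ← h₂]
  apply CartesianMonoidalCategory.hom_ext <;> simp

/-- Let A be a monoid object of a cartesian monoidal category acting on B, Y and Z, and let A act
componentwise on Y × Z (in the source A = A(M)_S acts on S-spaces and B = A(N)_S for a magnet N).
Then (Y × Z)^N = Y^N × Z^N: for every T, an equivariant map B × T → Y × Z is the same as a pair of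
equivariant maps to Y and to Z, the bijection being given by the two projections. -/
theorem result {C : Type u₁} [Category.{v₁} C] [CartesianMonoidalCategory C]
    {A B Y Z : C} [MonObj A] (ρ : Magnet.MonAct A B) (a : Magnet.MonAct A Y) (b : Magnet.MonAct A Z) (T : Cᵒᵖ) :
    Function.Bijective (fun φ : (Magnet.MonAct.eqvHom ρ (a.prod b)).obj T =>
      ((Magnet.MonAct.eqvHom.postcomp ρ (fst Y Z) (Magnet.MonAct.isEquivariant_prod_fst a b)).app T φ,
        (Magnet.MonAct.eqvHom.postcomp ρ (snd Y Z) (Magnet.MonAct.isEquivariant_prod_snd a b)).app T φ)) := by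
  constructor
  · intro φ ψ h
    have h1 := congrArg (fun p => (Prod.fst p).1) h
    have h2 := congrArg (fun p => (Prod.snd p).1) h
    simp only [Magnet.MonAct.eqvHom.postcomp_app_coe] at h1 h2
    apply Subtype.ext
    exact CartesianMonoidalCategory.hom_ext _ _ h1 h2
  · rintro ⟨φ₁, φ₂⟩
    refine ⟨⟨lift φ₁.1 φ₂.1, isEquivariant_lift _ a b φ₁.1 φ₂.1 φ₁.2 φ₂.2⟩, ?_⟩
    refine Prod.ext (Subtype.ext ?_) (Subtype.ext ?_)
    · simp only [Magnet.MonAct.eqvHom.postcomp_app_coe, lift_fst]
    · simp only [Magnet.MonAct.eqvHom.postcomp_app_coe, lift_snd]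

end Groth.Agent.S18296
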