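import Groth.Statements.S1834
import Groth.Agent.Lib.Helper18.Tame.CommonFactor

set_option autoImplicit false
universe u
open CycAlg

namespace Groth.Agent.S1834

/-- Let R be a Noetherian local ring of dimension 1 and a, b nonzerodivisors. There is a finite
extension ring R ⊆ R' with R'/R killed by a power of the maximal ideal, and nonzerodivisors t, a',
b' of R' with a = t a', b = t b' and (a', b') the unit ideal of R'. -/
theorem result (R : Type u) [CommRing R] [IsNoetherianRing R] [IsLocalRing R] (hR : ringKrullDim R = 1) (a b : R) (ha : a ∈ nonZeroDivisors R) (hb : b ∈ nonZeroDivisors R) : ∃ (R' : Type u) (_ : CommRing R') (_ : Algebra R R'), CycAlg.IsFinExt R R' (IsLocalRing.maximalIdeal R) ∧ ∃ t a' b' : R', t ∈ nonZeroDivisors R' ∧ a' ∈ nonZeroDivisors R' ∧ b' ∈ nonZeroDivisors R' ∧ algebraMap R R' a = t * a' ∧ algebraMap R R' b = t * b' ∧ Ideal.span {a', b'} = ⊤ := by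
  classical
  let Q := FractionRing R
  have hR' : ringKrullDim R ≤ 1 := hR.le
  have hua : IsUnit (algebraMap R Q a) := IsLocalization.map_units Q ⟨a, ha⟩
  have hub : IsUnit (algebraMap R Q b) := IsLocalization.map_units Q ⟨b, hb⟩
  obtain ⟨C', -, hfin, t, a', b', α, β, ht, ha', hb', hα, hβ, ea, eb, hαβ⟩ :=
    Groth.Agent.Lib.Helper18.Tame.exists_common_factor hR' (⊥ : Subalgebra R Q)
      (algebraMap R Q a) (algebraMap R Q b) (Subalgebra.algebraMap_mem _ _)
      (Subalgebra.algebraMap_mem _ _) hua hub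
  haveI := hfin
  have hnzd : ∀ z : C', IsUnit (z : Q) → z ∈ nonZeroDivisors C' := by
    intro z hz
    refine mem_nonZeroDivisors_of_injective (f := C'.val) Subtype.val_injective ?_
    exact hz.mem_nonZeroDivisors
  have hut : IsUnit t := isUnit_of_mul_isUnit_left (ea ▸ hua)
  have hua' : IsUnit a' := isUnit_of_mul_isUnit_right (ea ▸ hua)
  have hub' : IsUnit b' := isUnit_of_mul_isUnit_right (eb ▸ hub)
  refine ⟨C', inferInstance, inferInstance,
    Groth.Agent.Lib.Helper18.Tame.isFinExt hR' C', ⟨t, ht⟩, ⟨a', ha'⟩, ⟨b', hb'⟩,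
    hnzd _ hut, hnzd _ hua', hnzd _ hub', Subtype.ext ea, Subtype.ext eb, ?_⟩
  rw [Ideal.eq_top_iff_one]
  exact Ideal.mem_span_pair.2 ⟨⟨α, hα⟩, ⟨β, hβ⟩, Subtype.ext hαβ⟩

end Groth.Agent.S1834
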