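import Groth.Statements.S1835
import Mathlib
import Groth.Agent.Lib.Helper2.ChiLocal2
-- import your own Groth.Agent.* helpers here

set_option autoImplicit false
set_option linter.unusedSectionVars false
set_option linter.style.haveILetI false
universe u
open CycAlg

namespace Groth.Agent.S1835

open Groth.Agent.Lib.Helper2.ChiLocal Groth.Agent.Lib.Helper2.ChiLocal2
open Groth.Agent.Lib.Helper2.LenAt Function
open Pointwise

local notation "cok" => Groth.Agent.Lib.Helper2.Snake.a
local notation "kr" => Groth.Agent.Lib.Helper2.Snake.b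

theorem length_quot_sup_eq_ord {A : Type u} [CommRing A] (q : Ideal A) (x : A) :
    Module.length A (A ⧸ (q ⊔ Ideal.span {x})) = Ring.ord (A ⧸ q) (Ideal.Quotient.mk q x) := by
  unfold Ring.ord
  have hmap : (Ideal.span {x}).map (Ideal.Quotient.mk q) = Ideal.span {Ideal.Quotient.mk q x} := by
    rw [Ideal.map_span, Set.image_singleton]
  rw [← hmap, ← Module.length_eq_of_surjective (S := A) (R := A ⧸ q) Ideal.Quotient.mk_surjective]
  exact ((DoubleQuot.quotQuotEquivQuotSupₐ A q (Ideal.span {x})).toLinearEquiv).length_eq.symm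

section
variable {R : Type u} [CommRing R] [IsNoetherianRing R] [IsLocalRing R]

lemma exists_minimal_ne_max (hR : ringKrullDim R = 1) :
    ∃ p : Ideal R, p ∈ minimalPrimes R ∧ p ≠ IsLocalRing.maximalIdeal R := by
  obtain ⟨p, hp, -⟩ := Ideal.exists_minimalPrimes_le
    (show (⊥ : Ideal R) ≤ IsLocalRing.maximalIdeal R from bot_le)
  refine ⟨p, hp, ?_⟩
  intro h
  have h0 : Ring.KrullDimLE 0 R := by
    rw [Ring.krullDimLE_zero_iff]
    intro q hq
    have hqm : q ≤ IsLocalRing.maximalIdeal R := IsLocalRing.le_maximalIdeal hq.ne_top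
    have hmq : IsLocalRing.maximalIdeal R ≤ q := by
      rw [← h]
      exact hp.2 ⟨hq, bot_le⟩ (h ▸ hqm)
    rw [le_antisymm hqm hmq]
    infer_instance
  have := Ring.krullDimLE_iff.1 h0
  rw [hR] at this
  exact absurd this (by decide)

/-- the local formula specialised to a module over `R/p` on which `t` is injective -/
lemma cok_eq_lenAt_mul (p : Ideal R) [hp : p.IsPrime] (hpm : p ≠ IsLocalRing.maximalIdeal R)
    (t : R) (ht : t ∈ IsLocalRing.maximalIdeal R)
    (hk : ∃ k, IsLocalRing.maximalIdeal R ^ k ≤ Ideal.span {t})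
    (N : Type u) [AddCommGroup N] [Module R N] [Module.Finite R N]
    (hN : p ≤ Module.annihilator R N) (hinj : Injective (LinearMap.lsmul R N t)) :
    cok t N = lenAt ⟨p, hp⟩ N * cok t (R ⧸ p) := by
  have hdim : 0 < Module.supportDim R (R ⧸ p) := by
    rw [Module.supportDim, Order.krullDim_pos_iff]
    have h1 : (⟨p, hp⟩ : PrimeSpectrum R) ∈ Module.support R (R ⧸ p) := by
      rw [Module.mem_support_iff_of_finite, Ideal.annihilator_quotient]
    have h2 : IsLocalRing.closedPoint R ∈ Module.support R (R ⧸ p) := by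
      rw [Module.mem_support_iff_of_finite, Ideal.annihilator_quotient]
      exact IsLocalRing.le_maximalIdeal hp.ne_top
    refine ⟨⟨_, h1⟩, ⟨_, h2⟩, ?_⟩
    refine Subtype.mk_lt_mk.2 (lt_of_le_of_ne ?_ ?_)
    · exact IsLocalRing.le_maximalIdeal hp.ne_top
    · exact fun h : (⟨p, hp⟩ : PrimeSpectrum R) = IsLocalRing.closedPoint R =>
        hpm (congrArg PrimeSpectrum.asIdeal h)
  have hfin := a_ne_top_of_pow_le t hk (R ⧸ p)
  have hsupp : Module.support R N ⊆ Module.support R (R ⧸ p) := by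
    intro q hq
    rw [Module.mem_support_iff_of_finite] at hq ⊢
    rw [Ideal.annihilator_quotient]
    exact hN.trans hq
  obtain ⟨-, hform⟩ := main_aux t ht (R ⧸ p) hdim hfin N hsupp (a_ne_top_of_pow_le t hk N)
  have hb : kr t N = 0 := by
    unfold Groth.Agent.Lib.Helper2.Snake.b
    rw [Module.length_eq_zero_iff, LinearMap.ker_eq_bot.2 hinj]
    infer_instance
  rw [hform, hb, zero_add]
  have hmin : p ∈ (Module.annihilator R (R ⧸ p)).minimalPrimes := by
    rw [Ideal.annihilator_quotient, Ideal.minimalPrimes_eq_subsingleton_self]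
    rfl
  rw [finsum_eq_single _ (⟨p, hmin⟩ : (Module.annihilator R (R ⧸ p)).minimalPrimes)]
  rintro ⟨q, hq2⟩ hq
  exfalso
  apply hq
  apply Subtype.ext
  rw [Ideal.annihilator_quotient, Ideal.minimalPrimes_eq_subsingleton_self] at hq2
  exact hq2

lemma key (hR : ringKrullDim R = 1) (p : Ideal R) [hp : p.IsPrime]
    (hpm : p ≠ IsLocalRing.maximalIdeal R) (x y : R) (hx : x ∈ IsLocalRing.maximalIdeal R)
    (hxn : x ∈ nonZeroDivisors R) (hyn : y ∈ nonZeroDivisors R) (hxp : x ∉ p) (hyp : y ∉ p)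
    (R' : Type u) [CommRing R'] [Algebra R R'] (hinj : Injective (algebraMap R R'))
    [Module.Finite R R'] (m : ℕ) (c : R')
    (h : algebraMap R R' y = algebraMap R R' x ^ m * c) :
    m ≤ (cok y (R ⧸ p)).toNat := by
  rcases Nat.eq_zero_or_pos m with rfl | hm
  · exact Nat.zero_le _
  have hple : p ≤ IsLocalRing.maximalIdeal R := IsLocalRing.le_maximalIdeal hp.ne_top
  -- lying over
  haveI : Algebra.IsIntegral R R' := inferInstance
  obtain ⟨p', -, hp', hcomap⟩ := Ideal.exists_ideal_over_prime_of_isIntegral p (⊥ : Ideal R')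
    (by
      intro r hr
      have : algebraMap R R' r = 0 := by simpa using hr
      have : r = 0 := hinj (by rw [this, map_zero])
      rw [this]; exact zero_mem _)
  have hmem : ∀ r : R, algebraMap R R' r ∈ p' ↔ r ∈ p := fun r => by
    rw [← hcomap, Ideal.mem_comap]
  -- the module `N = R'/p'`
  haveI : Module.Finite R (R' ⧸ p') :=
    Module.Finite.of_surjective (Ideal.Quotient.mkₐ R p').toLinearMap
      (Ideal.Quotient.mkₐ_surjective R p')
  have hsmul : ∀ (r : R) (z : R'), r • (Ideal.Quotient.mk p' z) =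
      Ideal.Quotient.mk p' (algebraMap R R' r * z) := fun r z => by
    rw [← Algebra.smul_def]; rfl
  have hAnn1 : p ≤ Module.annihilator R (R' ⧸ p') := by
    intro r hr
    rw [Module.mem_annihilator]
    intro z
    obtain ⟨z, rfl⟩ := Ideal.Quotient.mk_surjective z
    rw [hsmul, Ideal.Quotient.eq_zero_iff_mem]
    exact Ideal.mul_mem_right _ _ ((hmem r).2 hr)
  have hAnn2 : Module.annihilator R (R' ⧸ p') ≤ p := by
    intro r hr
    have := Module.mem_annihilator.1 hr (Ideal.Quotient.mk p' 1)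
    rw [hsmul, mul_one, Ideal.Quotient.eq_zero_iff_mem] at this
    exact (hmem r).1 this
  have hinjN : ∀ t : R, t ∉ p → Injective (LinearMap.lsmul R (R' ⧸ p') t) := by
    intro t htp
    rw [← LinearMap.ker_eq_bot, LinearMap.ker_eq_bot']
    intro z hz
    obtain ⟨z, rfl⟩ := Ideal.Quotient.mk_surjective z
    have hz' : t • (Ideal.Quotient.mk p' z) = 0 := hz
    rw [hsmul, Ideal.Quotient.eq_zero_iff_mem] at hz'
    rw [Ideal.Quotient.eq_zero_iff_mem]
    exact (hp'.mem_or_mem hz').resolve_left (fun h' => htp ((hmem t).1 h'))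
  set ℓ := lenAt ⟨p, hp⟩ (R' ⧸ p') with hℓ
  have hℓ0 : ℓ ≠ 0 := by
    have hsupp : (⟨p, hp⟩ : PrimeSpectrum R) ∈ Module.support R (R' ⧸ p') := by
      rw [Module.mem_support_iff_of_finite]
      exact hAnn2
    rw [Module.mem_support_iff] at hsupp
    rw [hℓ]
    unfold lenAt
    rw [Ne, Module.length_eq_zero_iff, not_subsingleton_iff_nontrivial]
    exact hsupp
  have hkx := exists_pow_le_of_dim_one x hR.le hxn
  have hformx := cok_eq_lenAt_mul p hpm x hx hkx (R' ⧸ p') hAnn1 (hinjN x hxp)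
  have hcx0 : cok x (R ⧸ p) ≠ 0 := a_quot_ne_zero x hx p hple
  have hℓtop : ℓ ≠ ⊤ := by
    intro htop
    have := a_ne_top_of_pow_le x hkx (R' ⧸ p')
    rw [hformx, ← hℓ, htop, ENat.top_mul hcx0] at this
    exact this rfl
  -- the power
  have hxm : x ^ m ∈ IsLocalRing.maximalIdeal R := Ideal.pow_mem_of_mem _ hx m hm
  have hxmn : x ^ m ∈ nonZeroDivisors R := pow_mem hxn m
  have hxmp : x ^ m ∉ p := fun h' => hxp (hp.mem_of_pow_mem m h')
  have hkxm := exists_pow_le_of_dim_one (x ^ m) hR.le hxmn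
  have hformxm := cok_eq_lenAt_mul p hpm (x ^ m) hxm hkxm (R' ⧸ p') hAnn1 (hinjN _ hxmp)
  have hge : (m : ℕ∞) ≤ cok (x ^ m) (R ⧸ p) := by
    rw [a_quot_ideal, length_quot_sup_eq_ord, map_pow, Ring.ord_pow]
    · have h1 : (1 : ℕ∞) ≤ Ring.ord (R ⧸ p) (Ideal.Quotient.mk p x) := by
        rw [← length_quot_sup_eq_ord, ← a_quot_ideal, Order.one_le_iff_ne_zero]
        exact hcx0
      calc (m : ℕ∞) = m • (1 : ℕ∞) := by simp
        _ ≤ m • Ring.ord (R ⧸ p) (Ideal.Quotient.mk p x) := nsmul_le_nsmul_right h1 m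
    · apply mem_nonZeroDivisors_of_ne_zero
      rw [Ne, Ideal.Quotient.eq_zero_iff_mem]
      exact hxp
  -- comparison
  have hcmp : cok (x ^ m) (R' ⧸ p') ≤ cok y (R' ⧸ p') := by
    unfold Groth.Agent.Lib.Helper2.Snake.a
    have hle : Ideal.span {y} • (⊤ : Submodule R (R' ⧸ p')) ≤
        Ideal.span {x ^ m} • (⊤ : Submodule R (R' ⧸ p')) := by
      rw [Submodule.ideal_span_singleton_smul, Submodule.ideal_span_singleton_smul]
      intro z hz
      rw [Submodule.mem_smul_pointwise_iff_exists] at hz ⊢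
      obtain ⟨w, -, rfl⟩ := hz
      obtain ⟨w, rfl⟩ := Ideal.Quotient.mk_surjective w
      refine ⟨Ideal.Quotient.mk p' (c * w), trivial, ?_⟩
      rw [hsmul, hsmul, h, map_pow, mul_assoc]
    exact Module.length_le_of_surjective (Submodule.factor hle) (Submodule.factor_surjective hle)
  by_cases hy : y ∈ IsLocalRing.maximalIdeal R
  · have hky := exists_pow_le_of_dim_one y hR.le hyn
    have hformy := cok_eq_lenAt_mul p hpm y hy hky (R' ⧸ p') hAnn1 (hinjN y hyp)
    rw [hformxm, hformy, ← hℓ, ENat.mul_le_mul_left_iff hℓ0 hℓtop] at hcmp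
    have hytop : cok y (R ⧸ p) ≠ ⊤ := a_ne_top_of_pow_le y hky (R ⧸ p)
    have := hge.trans hcmp
    rw [← ENat.coe_toNat hytop] at this
    exact_mod_cast this
  · exfalso
    have hu : IsUnit y := by
      by_contra h'
      exact hy ((IsLocalRing.mem_maximalIdeal y).2 h')
    have h0 : cok y (R' ⧸ p') = 0 := by
      unfold Groth.Agent.Lib.Helper2.Snake.a
      rw [Module.length_eq_zero_iff]
      have : Ideal.span {y} • (⊤ : Submodule R (R' ⧸ p')) = ⊤ := by
        rw [Ideal.span_singleton_eq_top.2 hu, Submodule.top_smul]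
      rw [this]
      infer_instance
    rw [h0, hformxm, ← hℓ, nonpos_iff_eq_zero, mul_eq_zero] at hcmp
    rcases hcmp with h' | h'
    · exact hℓ0 h'
    · rw [h'] at hge
      have : (m : ℕ∞) = 0 := nonpos_iff_eq_zero.1 hge
      have : m = 0 := by exact_mod_cast this
      omega

end

/-- Let R be a Noetherian local ring of dimension 1, a a nonzerodivisor in the maximal ideal and b a
nonzerodivisor. There is an integer n such that whenever b = a^m c in some finite extension ring R ⊆
R', one has m ≤ n. -/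
theorem result (R : Type u) [CommRing R] [IsNoetherianRing R] [IsLocalRing R] (hR : ringKrullDim R = 1) (a b : R) (ha : a ∈ nonZeroDivisors R) (ham : a ∈ IsLocalRing.maximalIdeal R) (hb : b ∈ nonZeroDivisors R) : ∃ n : ℕ, ∀ (R' : Type u) [CommRing R'] [Algebra R R'], Function.Injective (algebraMap R R') → Module.Finite R R' → ∀ (m : ℕ) (c : R'), algebraMap R R' b = algebraMap R R' a ^ m * c → m ≤ n := by
  obtain ⟨p, hpmin, hpm⟩ := exists_minimal_ne_max hR
  haveI hp : p.IsPrime := hpmin.1.1
  have hap : a ∉ p := fun h =>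
    Set.disjoint_left.1 (Ideal.disjoint_nonZeroDivisors_of_mem_minimalPrimes hpmin) h ha
  have hbp : b ∉ p := fun h =>
    Set.disjoint_left.1 (Ideal.disjoint_nonZeroDivisors_of_mem_minimalPrimes hpmin) h hb
  refine ⟨(cok b (R ⧸ p)).toNat, ?_⟩
  intro R' _ _ hinj hfin m c h
  exact key hR p hpm a b ham ha hb hap hbp R' hinj m c h

end Groth.Agent.S1835
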