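import Groth.Statements.S1836
import Groth.Agent.Lib.Helper18.Tame.Monomialize

set_option autoImplicit false
universe u
open CycAlg

namespace Groth.Agent.S1836

/-- Let A be a Noetherian local ring of dimension 1 and a₁, …, a_r (r ≥ 2) nonzerodivisors, not all
units. There is a finite extension ring A ⊆ B with B/A killed by a power of the maximal ideal such
that at every maximal ideal of B there is a nonzerodivisor π of the local ring B_𝔪 with each a_i
equal to a unit of B_𝔪 times a power of π. -/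
theorem result (A : Type u) [CommRing A] [IsNoetherianRing A] [IsLocalRing A] (hA : ringKrullDim A = 1) (r : ℕ) (hr : 2 ≤ r) (a : Fin r → A) (ha : ∀ i, a i ∈ nonZeroDivisors A) (hna : ∃ i, ¬ IsUnit (a i)) : ∃ (B : Type u) (_ : CommRing B) (_ : Algebra A B), CycAlg.IsFinExt A B (IsLocalRing.maximalIdeal A) ∧ ∀ q : MaximalSpectrum B, ∃ π : Localization.AtPrime q.asIdeal, π ∈ nonZeroDivisors (Localization.AtPrime q.asIdeal) ∧ ∀ i, ∃ (v : (Localization.AtPrime q.asIdeal)ˣ) (e : ℕ), algebraMap A (Localization.AtPrime q.asIdeal) (a i) = (v : Localization.AtPrime q.asIdeal) * π ^ e := by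
  classical
  let Q := FractionRing A
  have hA' : ringKrullDim A ≤ 1 := hA.le
  let T : Finset Q := Finset.univ.image (fun i => algebraMap A Q (a i))
  have hT : ∀ x ∈ T, x ∈ (⊥ : Subalgebra A Q) ∧ IsUnit x := by
    intro x hx
    obtain ⟨i, -, rfl⟩ := Finset.mem_image.1 hx
    exact ⟨Subalgebra.algebraMap_mem _ _, IsLocalization.map_units Q ⟨a i, ha i⟩⟩
  obtain ⟨C', hCC', hfin, hloc⟩ :=
    Groth.Agent.Lib.Helper18.Tame.exists_finSub_local_monomial hA' ⊥ T hT
  haveI := hfin
  refine ⟨C', inferInstance, inferInstance, Groth.Agent.Lib.Helper18.Tame.isFinExt hA' C',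
    fun q => ?_⟩
  obtain ⟨π, hπ, h⟩ := hloc q
  refine ⟨π, hπ, fun i => ?_⟩
  obtain ⟨v, e, hv⟩ := h (algebraMap A Q (a i)) (Finset.mem_image.2 ⟨i, Finset.mem_univ _, rfl⟩)
  refine ⟨v, e, ?_⟩
  rw [← hv, IsScalarTower.algebraMap_apply A C' (Localization.AtPrime q.asIdeal)]
  rfl

end Groth.Agent.S1836
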