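import Groth.Statements.S18367
import Groth.Agent.Lib.Helper21.AcycKit2

set_option autoImplicit false
universe u
open CategoryTheory CategoryTheory.Limits
open LocAlg

namespace Groth.Agent.S18367

open Groth.Agent.Lib.Helper21.AcycKit in

/-- Let R be a Cohen–Macaulay local ring of Krull dimension g and K = (K^0 → K^1 → ⋯) a bounded cochain
complex of finitely generated free R-modules (K^i = 0 for i > N) such that every cohomology module
H^i(K) has finite length. Then H^i(K) = 0 for all i < g. -/
theorem result (R : Type u) [CommRing R]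
    [LocCoh.IsCohenMacaulayLocalRing R] (g : ℕ) (hg : ringKrullDim R = g) (K : CochainComplex (ModuleCat.{u} R) ℕ)
    (N : ℕ) (hbd : ∀ i, N < i → IsZero (K.X i)) (hfree : ∀ i, Module.Free R (K.X i) ∧ Module.Finite R (K.X i))
    (hfl : ∀ i, IsFiniteLength R (K.homology i)) (i : ℕ) (hi : i < g) :
    IsZero (K.homology i) := by
  have hd : LocCoh.depth R R = g := by
    have h1 := LocCoh.IsCohenMacaulayLocalRing.supportDim_eq_depth (R := R)
    rw [Module.supportDim_self_eq_ringKrullDim, hg] at h1
    have h2 : ((g : ℕ∞) : WithBot ℕ∞) = ((LocCoh.depth R R : ℕ∞) : WithBot ℕ∞) := by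
      exact_mod_cast h1
    exact (WithBot.coe_injective h2).symm
  obtain ⟨xs, hlen, hm, hreg, -⟩ := exists_seq_socle g hd
  have hregY : ∀ i, RingTheory.Sequence.IsWeaklyRegular ((ofCochain K).X i) xs := by
    intro i
    haveI : Module.Free R (K.X i) := (hfree i).1
    exact isWeaklyRegular_of_free hreg (K.X i)
  have h1 := al (IsLocalRing.maximalIdeal R) xs (ofCochain K) hm hregY i (hlen ▸ hi)
    (fun j _ => kill_ofCochain K j (hfl j))
  exact (ex_ofCochain_iff K i).1 h1

end Groth.Agent.S18367
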