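import Groth.Statements.S18376
import Mathlib
import Groth.Agent.Lib.Helper25.PhiStabTree
-- import your own Groth.Agent.* helpers here

set_option autoImplicit false
set_option linter.unusedSectionVars false
set_option linter.style.haveILetI false
set_option linter.unusedVariables false
set_option linter.deprecated false
universe u
open PhiStab

namespace Groth.Agent.S18376

open Groth.Agent.Lib.Helper25.PhiStabTree Groth.Agent.Lib.Helper25.GraphTree
  Groth.Agent.Lib.Helper25.PhiStabH

theorem ell_eq_hh {V E : Type u} [Fintype V] [Fintype E] [DecidableEq V] [DecidableEq E]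
    (ends : E → V × V) (φ : V → ℝ) (m : V → ℤ) (N : Finset E) (S : Finset V) (d : ℤ) :
    ell ends S d φ = hh ends φ m N S + ((d - degOn ends m N S : ℤ) : ℝ) := by
  unfold ell hh
  push_cast
  ring

open PhiStab in
/-- Let (V, E, ends) be a connected finite multigraph, b an integer, and φ₁, φ₂ real weightings of the
vertices with Σ_v φ₁ v = Σ_v φ₂ v = b, φ₁ nondegenerate. Then every φ₁-stable sheaf datum (m, N) of
total degree b is φ₂-semistable if and only if φ₂ lies in the closed stability polytope of φ₁, that
is, for every elementary vertex set S and every integer d with d - Σ_{v ∈ S} φ₁ v + cut S / 2 > 0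
one has d - Σ_{v ∈ S} φ₂ v + cut S / 2 ≥ 0. Membership in the closure of the polytope is expressed
by this half-space condition, the form in which the source's proof uses it; the sheaves of degree g
- 1 = b on stable pointed curves with this dual graph enter through their combinatorial data. -/
theorem result {V E : Type u} [Fintype V] [Fintype E] [DecidableEq V] [DecidableEq E]
    (ends : E → V × V)
    (hconn : LabGraph.Connected ends) (b : ℤ) (φ₁ φ₂ : V → ℝ) (h₁ : (∑ v : V, φ₁ v) = (b : ℝ))
    (h₂ : (∑ v : V, φ₂ v) = (b : ℝ)) (hnd : Nondegenerate ends φ₁) :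
    (∀ (m : V → ℤ) (N : Finset E), totDeg m N = b → IsStable ends φ₁ m N → IsSemistable ends φ₂ m N) ↔
      InClosedPolytope ends φ₁ φ₂ := by
  constructor
  · intro hall S hS d hd
    have hS1 := (connected_indEnds_iff ends S).1 hS.1
    have hS2 := (connected_indEnds_iff ends Sᶜ).1 hS.2
    obtain ⟨T, e, hT, hhalf⟩ := exists_tree_half ends hconn S hS1 hS2
    obtain ⟨m, ⟨htot, hst⟩, -⟩ := existsUnique_stable ends φ₁ T hT b h₁ hnd
    have hdeg1 : (∑ v : V, φ₁ v) = (totDeg m Tᶜ : ℝ) := by rw [htot, h₁]
    have hIoo := hh_half_mem_Ioo ends φ₁ m T hdeg1 hst hhalf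
    have hss := hall m Tᶜ htot hst
    rw [isSemistable_iff_hh] at hss
    have h2 := hss S (half_nonempty ends T hhalf) (half_ne_univ ends T hhalf)
    rw [ell_eq_hh ends φ₁ m Tᶜ S d] at hd
    rw [ell_eq_hh ends φ₂ m Tᶜ S d]
    have hd' : (-1 : ℝ) < ((d - degOn ends m Tᶜ S : ℤ) : ℝ) := by linarith [hIoo.2]
    have hd'' : -1 < d - degOn ends m Tᶜ S := by exact_mod_cast hd'
    have hd3 : (0 : ℝ) ≤ ((d - degOn ends m Tᶜ S : ℤ) : ℝ) := by
      have : 0 ≤ d - degOn ends m Tᶜ S := by omega
      exact_mod_cast this
    linarith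
  · intro hpoly m N htot hst
    have hdeg2 : (∑ v : V, φ₂ v) = (totDeg m N : ℝ) := by rw [htot, h₂]
    rw [isSemistable_iff_hh]
    rw [isStable_iff_hh] at hst
    intro W hW1 hW2
    refine reduce_all ends φ₂ m N (fun x => 0 ≤ x) (fun x y hx hy => add_nonneg hx hy) hconn hdeg2
      (fun W hW hWc => ?_) W.card W rfl hW1 hW2
    have hel : IsElementary ends W :=
      ⟨(connected_indEnds_iff ends W).2 hW, (connected_indEnds_iff ends Wᶜ).2 hWc⟩
    have hne : W.Nonempty := hW.1
    have hnu : W ≠ Finset.univ := by
      intro h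
      obtain ⟨x, hx⟩ := hWc.1
      rw [h] at hx
      simp at hx
    have hpos := hst W hne hnu
    have := hpoly W hel (degOn ends m N W) (by
      rw [ell_eq_hh ends φ₁ m N W]; simpa using hpos)
    rw [ell_eq_hh ends φ₂ m N W] at this
    simpa using this

end Groth.Agent.S18376
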