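import Groth.Statements.S18377
import Groth.Agent.Lib.Helper29.VerlE

set_option autoImplicit false
open Complex
open VerlindeComb

namespace Groth.Agent.S18377

open Groth.Agent.S19895 Groth.Agent.Lib.Helper29.Verl

set_option maxHeartbeats 800000

/-- Let r, k ≥ 1 be integers and v_1 > v_2 > ⋯ > v_r ≥ 0 integers below r + k; put z_j = exp(2πi v_j /
(r + k)) and, for μ = (μ_1, …, μ_r), let S_μ(z) = det(z_j^{μ_i + r - i}) / det(z_j^{r - i}) be the
value of the Schur polynomial (the z_j are distinct, so the Vandermonde denominator is nonzero).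
Then, summing over all μ with k > μ_1 ≥ ⋯ ≥ μ_r ≥ 0 and writing μ* = (k - μ_r, …, k - μ_1), one has
Σ_μ S_μ(z) S_{μ*}(z) = exp(2πi k (v_1 + ⋯ + v_r) / (r + k)) · k (r + k)^{r-1} / ∏_{i<j} (2 sin(π
(v_i - v_j) / (r + k)))². Indices are 0-based below: μ i stands for μ_{i+1}. -/
theorem result (r k : ℕ) (hr : 1 ≤ r) (hk : 1 ≤ k)
    (v : Fin r → ℕ) (hv : StrictAnti v) (hvlt : ∀ i, v i < r + k)
    (z : Fin r → ℂ) (hz : ∀ j, z j = Complex.exp (2 * Real.pi * Complex.I * (v j : ℂ) / ((r : ℂ) + k)))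
    (S : (Fin r → ℕ) → ℂ)
    (hS : ∀ μ : Fin r → ℕ, S μ =
      (Matrix.of fun i j : Fin r => z j ^ (μ i + (r - 1 - (i : ℕ)))).det /
        (Matrix.of fun i j : Fin r => z j ^ (r - 1 - (i : ℕ))).det) :
    (∑ μ ∈ (Finset.univ : Finset (Fin r → Fin k)).filter (fun μ : Fin r → Fin k => Antitone μ),
        S (fun i => (μ i : ℕ)) * S (fun i => k - (μ (Fin.rev i) : ℕ))) =
      Complex.exp (2 * Real.pi * Complex.I * (k : ℂ) * ((∑ j, v j : ℕ) : ℂ) / ((r : ℂ) + k)) *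
        ((k : ℂ) * ((r : ℂ) + k) ^ (r - 1)) /
        (∏ p ∈ (Finset.univ : Finset (Fin r × Fin r)).filter (fun p => p.1 < p.2),
          (((2 : ℝ) * Real.sin (Real.pi * ((v p.1 : ℝ) - (v p.2 : ℝ)) / ((r : ℝ) + k))) ^ 2 : ℝ) : ℂ) := by
  classical
  have hN : 0 < r + k := by omega
  have hcastC : ((r : ℂ)) + (k : ℂ) = ((r + k : ℕ) : ℂ) := by push_cast; ring
  have hcastR : ((r : ℝ)) + (k : ℝ) = ((r + k : ℕ) : ℝ) := by push_cast; ring
  set ζ : ℂ := exp (2 * Real.pi * I / ((r + k : ℕ) : ℂ)) with hζdef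
  have hζprim : IsPrimitiveRoot ζ (r + k) := Complex.isPrimitiveRoot_exp _ hN.ne'
  have hζ0 : ζ ≠ 0 := exp_ne_zero _
  have hz' : ∀ j, z j = ζ ^ v j := by
    intro j
    rw [hz, hζdef, ← exp_nat_mul, hcastC]
    congr 1
    ring
  have hinj : Function.Injective (fun j => ζ ^ v j) := by
    intro i j hij
    exact hv.injective (hζprim.pow_inj (hvlt i) (hvlt j) hij)
  set Δ := (Matrix.of fun i j : Fin r => (ζ ^ v j) ^ (r - 1 - (i : ℕ))).det with hΔ
  have hΔ0 : Δ ≠ 0 := by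
    have h1 : (Matrix.of fun i j : Fin r => (ζ ^ v j) ^ (r - 1 - (i : ℕ))) =
        ((Matrix.vandermonde (fun j => ζ ^ v j)).transpose).submatrix Fin.revPerm id := by
      ext i j
      simp only [Matrix.of_apply, Matrix.submatrix_apply, Matrix.transpose_apply,
        Matrix.vandermonde_apply, id, Fin.revPerm_apply, Fin.val_rev]
      congr 1
      omega
    rw [hΔ, h1, Matrix.det_permute, Matrix.det_transpose]
    apply mul_ne_zero
    · exact Int.cast_ne_zero.2 (Units.ne_zero _)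
    · exact Matrix.det_vandermonde_ne_zero_iff.2 hinj
  have hA : ∀ μ : Fin r → ℕ, (Matrix.of fun i j : Fin r => (ζ ^ v j) ^ (μ i + (r - 1 - (i : ℕ)))).det =
      D ζ (fun i => μ i + (r - 1 - (i : ℕ))) v := by
    intro μ
    unfold D
    congr 1
    ext i j
    simp only [Matrix.of_apply]
    rw [← pow_mul, mul_comm]
  have hSD : ∀ μ : Fin r → ℕ, S μ = D ζ (fun i => μ i + (r - 1 - (i : ℕ))) v / Δ := by
    intro μ
    rw [hS]
    simp_rw [hz']
    rw [hA μ]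
  have hsum := dual_sum hr hk hζprim v hv hvlt
  have hlhs : (∑ μ ∈ (Finset.univ : Finset (Fin r → Fin k)).filter (fun μ : Fin r → Fin k => Antitone μ),
        S (fun i => (μ i : ℕ)) * S (fun i => k - (μ (Fin.rev i) : ℕ))) =
      (∑ μ ∈ (Finset.univ : Finset (Fin r → Fin k)).filter (fun μ : Fin r → Fin k => Antitone μ),
        D ζ (fun i => (μ i : ℕ) + (r - 1 - (i : ℕ))) v *
        D ζ (fun i => (k - (μ (Fin.rev i) : ℕ)) + (r - 1 - (i : ℕ))) v) / Δ ^ 2 := by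
    rw [div_eq_mul_inv, Finset.sum_mul]
    apply Finset.sum_congr rfl
    intro μ _
    rw [hSD, hSD]
    field_simp
  rw [hlhs, hsum, sign_rev]
  have hP := P_id (r := r) hN v
  rw [← hζdef, ← hΔ] at hP
  rw [hcastR, ← Complex.ofReal_prod]
  set ε : ℂ := (-1) ^ ((Finset.univ : Finset (Fin r × Fin r)).filter (fun p => p.1 < p.2)).card with hε
  set Pc : ℂ := ((∏ p ∈ (Finset.univ : Finset (Fin r × Fin r)).filter (fun p => p.1 < p.2),
        ((2 : ℝ) * Real.sin (Real.pi * ((v p.1 : ℝ) - (v p.2 : ℝ)) / ((r + k : ℕ) : ℝ))) ^ 2 : ℝ) : ℂ) with hPc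
  have hεε : ε * ε = 1 := by rw [hε, ← mul_pow]; norm_num
  have hε0 : ε ≠ 0 := by
    intro h; rw [h, zero_mul] at hεε; exact zero_ne_one hεε
  set Z := ζ ^ ((r - 1) * ∑ j, v j) with hZ
  have hZ0 : Z ≠ 0 := pow_ne_zero _ hζ0
  have hPc0 : Pc ≠ 0 := by
    intro h
    rw [h, zero_mul] at hP
    have : ε * Δ ^ 2 ≠ 0 := mul_ne_zero hε0 (pow_ne_zero _ hΔ0)
    exact this hP.symm
  have hexp : exp (2 * Real.pi * I * (k : ℂ) * ((∑ j, v j : ℕ) : ℂ) / ((r : ℂ) + k)) = ζ ^ (k * ∑ j, v j) := by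
    rw [hζdef, ← exp_nat_mul, hcastC]
    congr 1
    push_cast
    ring
  rw [hexp]
  have hsplit : ζ ^ ((r + k - 1) * ∑ i, v i) = Z * ζ ^ (k * ∑ j, v j) := by
    rw [hZ, ← pow_add]
    congr 1
    have : r + k - 1 = (r - 1) + k := by omega
    rw [this]; ring
  rw [hsplit]
  have hΔ2 : Δ ^ 2 = ε * (Pc * Z) := by
    rw [hP, ← mul_assoc, hεε, one_mul]
  rw [hΔ2]
  field_simp

end Groth.Agent.S18377
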