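import Groth.Statements.S18378
import Groth.Agent.Lib.Helper29.VerlE

set_option autoImplicit false
open Complex
open VerlindeComb

namespace Groth.Agent.S18378

open Groth.Agent.S19895 Groth.Agent.Lib.Helper29.Verl

set_option maxHeartbeats 1600000

/-- Let r, k ≥ 1 be integers and v, v' two integer vectors with r + k > v_1 > ⋯ > v_r ≥ 0 and r + k >
v'_1 > ⋯ > v'_r ≥ 0 whose difference v - v' is not a constant vector (a, …, a). Put z_j = exp(2πi
v_j / (r + k)), z'_j = exp(2πi v'_j / (r + k)), let S_μ(w) = det(w_j^{μ_i + r - i}) / det(w_j^{r -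
i}) be the Schur value at w = z or z', and write |x| for the sum of the coordinates of a vector and
μ* = (k - μ_r, …, k - μ_1). Then the sum over all μ with k ≥ μ_1 ≥ ⋯ ≥ μ_{r-1} ≥ μ_r = 0 of exp(-2πi
|μ| |v| / (r (r + k))) · exp(-2πi |μ*| |v'| / (r (r + k))) · S_μ(z) · S_{μ*}(z') is zero. The
vanishing is the orthogonality of distinct characters and holds exactly for non-equivalent v, v';
for v - v' constant the sum is nonzero. Indices are 0-based below: μ i stands for μ_{i+1}. -/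
theorem result (r k : ℕ) (hr : 1 ≤ r)
    (hk : 1 ≤ k) (v v' : Fin r → ℕ) (hv : StrictAnti v) (hvlt : ∀ i, v i < r + k) (hv' : StrictAnti v')
    (hv'lt : ∀ i, v' i < r + k) (hne : ¬ ∃ a : ℤ, ∀ i, (v i : ℤ) - (v' i : ℤ) = a)
    (z z' : Fin r → ℂ) (hz : ∀ j, z j = Complex.exp (2 * Real.pi * Complex.I * (v j : ℂ) / ((r : ℂ) + k)))
    (hz' : ∀ j, z' j = Complex.exp (2 * Real.pi * Complex.I * (v' j : ℂ) / ((r : ℂ) + k)))
    (S S' : (Fin r → ℕ) → ℂ)
    (hS : ∀ μ : Fin r → ℕ, S μ =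
      (Matrix.of fun i j : Fin r => z j ^ (μ i + (r - 1 - (i : ℕ)))).det /
        (Matrix.of fun i j : Fin r => z j ^ (r - 1 - (i : ℕ))).det)
    (hS' : ∀ μ : Fin r → ℕ, S' μ =
      (Matrix.of fun i j : Fin r => z' j ^ (μ i + (r - 1 - (i : ℕ)))).det /
        (Matrix.of fun i j : Fin r => z' j ^ (r - 1 - (i : ℕ))).det) :
    (∑ μ ∈ (Finset.univ : Finset (Fin r → Fin (k + 1))).filter
        (fun μ : Fin r → Fin (k + 1) => Antitone μ ∧ ∀ i : Fin r, (i : ℕ) = r - 1 → (μ i : ℕ) = 0),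
      Complex.exp (-(2 * Real.pi * Complex.I * ((∑ i, (μ i : ℕ) : ℕ) : ℂ) * ((∑ j, v j : ℕ) : ℂ) /
          ((r : ℂ) * ((r : ℂ) + k)))) *
      Complex.exp (-(2 * Real.pi * Complex.I * ((∑ i, (k - (μ (Fin.rev i) : ℕ)) : ℕ) : ℂ) *
          ((∑ j, v' j : ℕ) : ℂ) / ((r : ℂ) * ((r : ℂ) + k)))) *
      S (fun i => (μ i : ℕ)) * S' (fun i => k - (μ (Fin.rev i) : ℕ))) = 0 := by
  classical
  rcases Nat.lt_or_ge r 2 with hr1 | hr2
  · exfalso
    obtain rfl : r = 1 := by omega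
    exact hne ⟨(v 0 : ℤ) - v' 0, fun i => by rw [Subsingleton.elim i 0]⟩
  obtain ⟨r'', rfl⟩ : ∃ r'', r = r'' + 2 := ⟨r - 2, by omega⟩
  have hN : 0 < r'' + 2 + k := by omega
  have hcastC : ((r'' + 2 : ℕ) : ℂ) + (k : ℂ) = ((r'' + 2 + k : ℕ) : ℂ) := by push_cast; ring
  set ζ : ℂ := exp (2 * Real.pi * I / ((r'' + 2 + k : ℕ) : ℂ)) with hζdef
  set η : ℂ := exp (-(2 * Real.pi * I / (((r'' + 2 : ℕ) : ℂ) * ((r'' + 2 + k : ℕ) : ℂ)))) with hηdef
  have hζprim : IsPrimitiveRoot ζ (r'' + 2 + k) := Complex.isPrimitiveRoot_exp _ hN.ne'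
  have hη0 : η ≠ 0 := exp_ne_zero _
  have hζ0 : ζ ≠ 0 := exp_ne_zero _
  have hηζ : η ^ (r'' + 2) * ζ = 1 := by
    rw [hηdef, hζdef, ← exp_nat_mul, ← exp_add]
    have : ((r'' + 2 : ℕ) : ℂ) * -(2 * Real.pi * I / (((r'' + 2 : ℕ) : ℂ) * ((r'' + 2 + k : ℕ) : ℂ))) +
        2 * Real.pi * I / ((r'' + 2 + k : ℕ) : ℂ) = 0 := by
      have hNC : ((r'' + 2 + k : ℕ) : ℂ) ≠ 0 := by exact_mod_cast hN.ne'
      have hrC : ((r'' + 2 : ℕ) : ℂ) ≠ 0 := by exact_mod_cast (by omega : r'' + 2 ≠ 0)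
      field_simp
      ring
    rw [this, exp_zero]
  have hηprim : IsPrimitiveRoot η ((r'' + 2) * (r'' + 2 + k)) := by
    have h := (Complex.isPrimitiveRoot_exp ((r'' + 2) * (r'' + 2 + k)) (by positivity)).inv
    have e : η = (exp (2 * Real.pi * I / (((r'' + 2) * (r'' + 2 + k) : ℕ) : ℂ)))⁻¹ := by
      rw [hηdef, ← exp_neg]
      congr 2
      push_cast
      ring
    rw [e]
    exact h
  have hζη : ζ = η ^ ((r'' + 2) * (r'' + 2 + k - 1)) := by
    have h1 : η ^ ((r'' + 2) * (r'' + 2 + k - 1)) * η ^ (r'' + 2) = 1 := by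
      rw [← pow_add]
      have : (r'' + 2) * (r'' + 2 + k - 1) + (r'' + 2) = (r'' + 2) * (r'' + 2 + k) := by
        obtain ⟨M, hM⟩ : ∃ M, r'' + 2 + k = M + 1 := ⟨r'' + 1 + k, by omega⟩
        rw [hM, Nat.add_sub_cancel]; ring
      rw [this]; exact hηprim.pow_eq_one
    have h2 : ζ * η ^ (r'' + 2) = 1 := by rw [mul_comm]; exact hηζ
    exact mul_right_cancel₀ (pow_ne_zero _ hη0) (h2.trans h1.symm)
  set ξ : ℂ := ζ ^ (r'' + 2 + k - 1) with hξ
  have hζξ : ζ * ξ = 1 := by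
    rw [hξ, ← pow_succ', Nat.sub_add_cancel hN, hζprim.pow_eq_one]
  set l' : Fin (r'' + 2) → ℕ := fun i => r'' + 2 + k - 1 - v' (Fin.rev i) with hl'def
  have hl' : StrictAnti l' := by
    intro i j hij
    have h1 : v' (Fin.rev i) < v' (Fin.rev j) := hv' (Fin.rev_lt_rev.2 hij)
    have h2 := hv'lt (Fin.rev j)
    simp only [hl'def]; omega
  have hl'N : ∀ i, l' i < r'' + 2 + k := by intro i; simp only [hl'def]; omega
  have hχ : η ^ ((∑ i, v i + ∑ i, l' i) * (r'' + 2 + k)) = 1 →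
      (r'' + 2) ∣ (∑ i, v i + ∑ i, l' i) := by
    intro h
    have := (hηprim.pow_eq_one_iff_dvd _).1 h
    exact Nat.dvd_of_mul_dvd_mul_right hN this
  have hne' : ¬ ∃ c : ℕ, ∀ i, v i + l' (Fin.rev i) = c := by
    rintro ⟨c, hc⟩
    apply hne
    refine ⟨(c : ℤ) - ((r'' + 2 + k : ℕ) : ℤ) + 1, fun i => ?_⟩
    have h1 := hc i
    simp only [hl'def, Fin.rev_rev] at h1
    have := hv'lt i
    omega
  have hmain := main_abstract ζ η hζprim hN hηζ v l' hv hl' hvlt hl'N hχ hne'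
  have hsuml' : ∑ i, l' i + ∑ i, v' i = (r'' + 2) * (r'' + 2 + k - 1) := by
    have h0 : ∑ i, v' i = ∑ i, v' (Fin.rev i) :=
      (Equiv.sum_comp (Fin.revPerm : Equiv.Perm (Fin (r'' + 2))) v').symm
    rw [h0, ← Finset.sum_add_distrib]
    have : ∀ i : Fin (r'' + 2), l' i + v' (Fin.rev i) = r'' + 2 + k - 1 := fun i => by
      have := hv'lt (Fin.rev i); simp only [hl'def]; omega
    simp [this]
  -- Schur values as D-ratios
  have hzz : ∀ j, z j = ζ ^ v j := by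
    intro j
    rw [hz, hζdef, ← exp_nat_mul, hcastC]
    congr 1
    ring
  have hzz' : ∀ j, z' j = ζ ^ v' j := by
    intro j
    rw [hz', hζdef, ← exp_nat_mul, hcastC]
    congr 1
    ring
  set Δ := (Matrix.of fun i j : Fin (r'' + 2) => (ζ ^ v j) ^ (r'' + 2 - 1 - (i : ℕ))).det with hΔ
  set Δ' := (Matrix.of fun i j : Fin (r'' + 2) => (ζ ^ v' j) ^ (r'' + 2 - 1 - (i : ℕ))).det with hΔ'
  have hA : ∀ (w μ : Fin (r'' + 2) → ℕ),
      (Matrix.of fun i j : Fin (r'' + 2) => (ζ ^ w j) ^ (μ i + (r'' + 2 - 1 - (i : ℕ)))).det =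
      D ζ (fun i => μ i + (r'' + 2 - 1 - (i : ℕ))) w := by
    intro w μ
    unfold D
    congr 1
    ext i j
    simp only [Matrix.of_apply]
    rw [← pow_mul, mul_comm]
  have hSD : ∀ μ : Fin (r'' + 2) → ℕ, S μ = D ζ (fun i => μ i + (r'' + 2 - 1 - (i : ℕ))) v / Δ := by
    intro μ
    rw [hS]
    simp_rw [hzz]
    rw [hA v μ]
  have hSD' : ∀ μ : Fin (r'' + 2) → ℕ, S' μ = D ζ (fun i => μ i + (r'' + 2 - 1 - (i : ℕ))) v' / Δ' := by
    intro μ
    rw [hS']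
    simp_rw [hzz']
    rw [hA v' μ]
  set R : ℕ := ∑ j : Fin (r'' + 2), (j : ℕ) with hR
  set sg : ℂ := (((Equiv.Perm.sign (Fin.revPerm : Equiv.Perm (Fin (r'' + 2))) : ℤˣ) : ℤ) : ℂ) with hsg
  have hss : sg * sg = 1 := by
    rw [hsg, ← Int.cast_mul, Int.units_coe_mul_self, Int.cast_one]
  set K : ℂ := ξ ^ (∑ i, v' i) * η ^ ((∑ i, v' i) * ((r'' + 2) * k + R)) *
    (η ^ ((∑ i, v i) * R))⁻¹ * Δ⁻¹ * Δ'⁻¹ with hK
  have hterm : ∀ μ ∈ (Finset.univ : Finset (Fin (r'' + 2) → Fin (k + 1))).filter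
        (fun μ : Fin (r'' + 2) → Fin (k + 1) =>
          Antitone μ ∧ ∀ i : Fin (r'' + 2), (i : ℕ) = r'' + 2 - 1 → (μ i : ℕ) = 0),
      Complex.exp (-(2 * Real.pi * Complex.I * ((∑ i, (μ i : ℕ) : ℕ) : ℂ) * ((∑ j, v j : ℕ) : ℂ) /
          (((r'' + 2 : ℕ) : ℂ) * (((r'' + 2 : ℕ) : ℂ) + k)))) *
      Complex.exp (-(2 * Real.pi * Complex.I * ((∑ i, (k - (μ (Fin.rev i) : ℕ)) : ℕ) : ℂ) *
          ((∑ j, v' j : ℕ) : ℂ) / (((r'' + 2 : ℕ) : ℂ) * (((r'' + 2 : ℕ) : ℂ) + k)))) *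
      S (fun i => (μ i : ℕ)) * S' (fun i => k - (μ (Fin.rev i) : ℕ)) =
      K * Fv ζ η (∑ i, v i + ∑ i, l' i) v l' (fun j => (μ (Fin.rev j) : ℕ) + (j : ℕ)) := by
    intro μ hμ
    rw [Finset.mem_filter] at hμ
    set n : Fin (r'' + 2) → ℕ := fun j => (μ (Fin.rev j) : ℕ) + (j : ℕ) with hn
    have e1 : (fun i : Fin (r'' + 2) => (μ i : ℕ) + (r'' + 2 - 1 - (i : ℕ))) =
        n ∘ (Fin.revPerm : Equiv.Perm (Fin (r'' + 2))) := by
      funext i
      simp only [hn, Function.comp_apply, Fin.revPerm_apply, Fin.rev_rev, Fin.val_rev]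
      congr 1
      have := i.is_lt
      omega
    have e2 : (fun i : Fin (r'' + 2) => (k - (μ (Fin.rev i) : ℕ)) + (r'' + 2 - 1 - (i : ℕ))) =
        fun j => r'' + 2 + k - 1 - n j := by
      funext i
      simp only [hn]
      have := i.is_lt
      have := (μ (Fin.rev i)).is_lt
      omega
    have hnle : ∀ j, n j ≤ r'' + 2 + k - 1 := by
      intro j
      simp only [hn]
      have := j.is_lt
      have := (μ (Fin.rev j)).is_lt
      omega
    have hv'le : ∀ j, v' j ≤ r'' + 2 + k - 1 := by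
      intro j; have := hv'lt j; omega
    have hD1 : D ζ (fun i : Fin (r'' + 2) => (μ i : ℕ) + (r'' + 2 - 1 - (i : ℕ))) v = sg * D ζ v n := by
      rw [D_transpose, e1, D_perm]
    have hD2 : D ζ (fun i : Fin (r'' + 2) => (k - (μ (Fin.rev i) : ℕ)) + (r'' + 2 - 1 - (i : ℕ))) v' =
        ξ ^ (∑ i, v' i) * D ξ v' n := by
      rw [D_transpose, e2, D_compl hζprim.pow_eq_one hN v' n hnle]
    have hD3 : D ζ l' n = sg * (ξ ^ (∑ j, n j) * D ξ v' n) := by
      have : l' = (fun j => r'' + 2 + k - 1 - v' j) ∘ (Fin.revPerm : Equiv.Perm (Fin (r'' + 2))) := by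
        funext i
        simp only [hl'def, Function.comp_apply, Fin.revPerm_apply]
      rw [D_transpose, this, D_perm, D_compl hζprim.pow_eq_one hN n v' hv'le, D_transpose ξ n v']
    have hD4 : D ξ v' n = ζ ^ (∑ j, n j) * sg * D ζ l' n := by
      rw [hD3]
      have : ζ ^ (∑ j, n j) * ξ ^ (∑ j, n j) = 1 := by rw [← mul_pow, hζξ, one_pow]
      calc D ξ v' n = (ζ ^ (∑ j, n j) * ξ ^ (∑ j, n j)) * (sg * sg) * D ξ v' n := by
            rw [this, hss]; ring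
        _ = _ := by ring
    have hE1 : Complex.exp (-(2 * Real.pi * Complex.I * ((∑ i, (μ i : ℕ) : ℕ) : ℂ) * ((∑ j, v j : ℕ) : ℂ) /
          (((r'' + 2 : ℕ) : ℂ) * (((r'' + 2 : ℕ) : ℂ) + k)))) = η ^ ((∑ i, (μ i : ℕ)) * ∑ j, v j) := by
      rw [hηdef, ← exp_nat_mul, hcastC]
      congr 1
      push_cast
      ring
    have hE2 : Complex.exp (-(2 * Real.pi * Complex.I * ((∑ i, (k - (μ (Fin.rev i) : ℕ)) : ℕ) : ℂ) *
          ((∑ j, v' j : ℕ) : ℂ) / (((r'' + 2 : ℕ) : ℂ) * (((r'' + 2 : ℕ) : ℂ) + k)))) =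
        η ^ ((∑ i, (k - (μ (Fin.rev i) : ℕ))) * ∑ j, v' j) := by
      rw [hηdef, ← exp_nat_mul, hcastC]
      congr 1
      push_cast
      ring
    rw [hE1, hE2, hSD, hSD', hD1, hD2, hD4]
    unfold Fv
    -- exponent bookkeeping
    have hsn : ∑ j, n j = ∑ i, (μ i : ℕ) + R := by
      simp only [hn]
      rw [Finset.sum_add_distrib, hR]
      congr 1
      exact Equiv.sum_comp (Fin.revPerm : Equiv.Perm (Fin (r'' + 2))) (fun i => ((μ i : Fin (k + 1)) : ℕ))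
    have hab : ∑ i, (μ i : ℕ) + ∑ i, (k - (μ (Fin.rev i) : ℕ)) = (r'' + 2) * k := by
      have h1 : ∑ i : Fin (r'' + 2), (k - (μ (Fin.rev i) : ℕ)) = ∑ i : Fin (r'' + 2), (k - (μ i : ℕ)) :=
        Equiv.sum_comp (Fin.revPerm : Equiv.Perm (Fin (r'' + 2))) (fun i : Fin (r'' + 2) => k - (μ i : ℕ))
      rw [h1, ← Finset.sum_add_distrib]
      have : ∀ i : Fin (r'' + 2), (μ i : ℕ) + (k - (μ i : ℕ)) = k := fun i => by
        have := (μ i).is_lt; omega
      simp [this]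
    set a := ∑ i, (μ i : ℕ) with ha
    set b := ∑ i, (k - (μ (Fin.rev i) : ℕ)) with hb
    set Vs := ∑ j, v j with hVs
    set Vs' := ∑ j, v' j with hVs'
    set L := ∑ i, l' i with hL
    have hph : η ^ (a * Vs) * η ^ (b * Vs') * ζ ^ (∑ j, n j) * η ^ (Vs * R) =
        η ^ ((Vs + L) * ∑ j, n j) * η ^ (Vs' * ((r'' + 2) * k + R)) := by
      rw [hζη, ← pow_mul, ← pow_add, ← pow_add, ← pow_add, ← pow_add]
      congr 1
      rw [hsn, ← hab, ← hsuml']
      ring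
    have hY0 : η ^ (Vs * R) ≠ 0 := pow_ne_zero _ hη0
    have hX : η ^ (a * Vs) * η ^ (b * Vs') * ζ ^ (∑ j, n j) =
        η ^ ((Vs + L) * ∑ j, n j) * η ^ (Vs' * ((r'' + 2) * k + R)) * (η ^ (Vs * R))⁻¹ := by
      rw [eq_mul_inv_iff_mul_eq₀ hY0]; exact hph
    calc η ^ (a * Vs) * η ^ (b * Vs') * (sg * D ζ v n / Δ) *
          (ξ ^ Vs' * (ζ ^ (∑ j, n j) * sg * D ζ l' n) / Δ')
        = (η ^ (a * Vs) * η ^ (b * Vs') * ζ ^ (∑ j, n j)) * (sg * sg) *
          (ξ ^ Vs' * D ζ v n * D ζ l' n * Δ⁻¹ * Δ'⁻¹) := by ring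
      _ = K * (η ^ ((Vs + L) * ∑ j, n j) * D ζ v n * D ζ l' n) := by
        rw [hX, hss, hK]; ring
  rw [Finset.sum_congr rfl hterm, ← Finset.mul_sum]
  have hbij : ∑ μ ∈ (Finset.univ : Finset (Fin (r'' + 2) → Fin (k + 1))).filter
        (fun μ : Fin (r'' + 2) → Fin (k + 1) =>
          Antitone μ ∧ ∀ i : Fin (r'' + 2), (i : ℕ) = r'' + 2 - 1 → (μ i : ℕ) = 0),
      Fv ζ η (∑ i, v i + ∑ i, l' i) v l' (fun j => (μ (Fin.rev j) : ℕ) + (j : ℕ)) =
      ∑ n ∈ Amono (r'' + 1) (r'' + 2 + k), Fv ζ η (∑ i, v i + ∑ i, l' i) v l' n := by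
    apply Finset.sum_nbij (fun (μ : Fin (r'' + 2) → Fin (k + 1)) (j : Fin (r'' + 2)) =>
      (μ (Fin.rev j) : ℕ) + (j : ℕ))
    · intro μ hμ
      rw [Finset.mem_filter] at hμ
      rw [mem_Amono]
      refine ⟨fun j => ?_, ?_, ?_⟩
      · have := j.is_lt
        have := (μ (Fin.rev j)).is_lt
        omega
      · intro a b hab
        have h1 : μ (Fin.rev a) ≤ μ (Fin.rev b) := hμ.2.1 (Fin.rev_le_rev.2 hab.le)
        have h2 : (a : ℕ) < b := hab
        have h3 : ((μ (Fin.rev a) : Fin (k + 1)) : ℕ) ≤ (μ (Fin.rev b) : ℕ) := h1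
        show (μ (Fin.rev a) : ℕ) + (a : ℕ) < (μ (Fin.rev b) : ℕ) + (b : ℕ)
        omega
      · have h0 : (μ (Fin.rev 0) : ℕ) = 0 := by
          apply hμ.2.2
          simp
        show (μ (Fin.rev 0) : ℕ) + ((0 : Fin (r'' + 2)) : ℕ) = 0
        rw [h0]; rfl
    · intro μ _ μ' _ h
      funext i
      have := congrFun h (Fin.rev i)
      simp only [Fin.rev_rev] at this
      apply Fin.ext
      omega
    · intro n hn
      rw [Finset.mem_coe, mem_Amono] at hn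
      obtain ⟨hn1, hn2, hn3⟩ := hn
      have hge : ∀ j : Fin (r'' + 2), (j : ℕ) ≤ n j := by
        intro j
        have := strictMono_gap n hn2 (j : ℕ) 0 j (by simp)
        omega
      have hlt : ∀ j : Fin (r'' + 2), n j - (j : ℕ) < k + 1 := by
        intro j
        have hj := j.is_lt
        have := strictMono_gap n hn2 (r'' + 2 - 1 - (j : ℕ)) j (Fin.last (r'' + 1))
          (by simp only [Fin.val_last]; omega)
        have h2 := hn1 (Fin.last (r'' + 1))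
        have := hge j
        omega
      refine ⟨fun i => ⟨n (Fin.rev i) - (Fin.rev i : ℕ), hlt _⟩, ?_, ?_⟩
      · rw [Finset.mem_coe, Finset.mem_filter]
        refine ⟨Finset.mem_univ _, ?_, ?_⟩
        · intro a b hab
          apply Fin.mk_le_mk.2
          have h1 : Fin.rev b ≤ Fin.rev a := Fin.rev_le_rev.2 hab
          have h3 : ((Fin.rev b : Fin (r'' + 2)) : ℕ) ≤ (Fin.rev a : ℕ) := h1
          have h5 : n (Fin.rev b) + (((Fin.rev a : Fin (r'' + 2)) : ℕ) - ((Fin.rev b : Fin (r'' + 2)) : ℕ)) ≤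
              n (Fin.rev a) :=
            strictMono_gap n hn2 _ (Fin.rev b) (Fin.rev a) (by omega)
          have h6 := hge (Fin.rev b)
          show n (Fin.rev b) - ((Fin.rev b : Fin (r'' + 2)) : ℕ) ≤ n (Fin.rev a) - ((Fin.rev a : Fin (r'' + 2)) : ℕ)
          omega
        · intro i hi
          have : Fin.rev i = 0 := by
            apply Fin.ext
            rw [Fin.val_rev]
            simp
            omega
          simp only [this]
          simp [hn3]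
      · funext j
        simp only [Fin.rev_rev]
        have := hge j
        omega
    · intro μ _
      rfl
  rw [hbij, hmain, mul_zero]

end Groth.Agent.S18378
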