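import Groth.Statements.S18379
import Groth.Agent.Lib.Helper29.VerlB

set_option autoImplicit false
open VerlindeComb

namespace Groth.Agent.S18379

open Complex Groth.Agent.S19895 Groth.Agent.Lib.Helper29.Verl

set_option maxHeartbeats 800000
lemma Pc_eq {r' N : ℕ} (hN : 0 < N) (η : ℂ)
    (hηζ : η ^ (r' + 1) * exp (2 * Real.pi * I / (N : ℂ)) = 1) (n : Fin (r' + 1) → ℕ)
    (hinj : Function.Injective (fun j => exp (2 * Real.pi * I / (N : ℂ)) ^ n j)) :
    ((∏ p ∈ (Finset.univ : Finset (Fin (r' + 1) × Fin (r' + 1))).filter (fun p => p.1 < p.2),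
        ((2 : ℝ) * Real.sin (Real.pi * ((n p.1 : ℝ) - (n p.2 : ℝ)) / (N : ℝ))) ^ 2 : ℝ) : ℂ) =
    (-1) ^ ((Finset.univ : Finset (Fin (r' + 1) × Fin (r' + 1))).filter (fun p => p.1 < p.2)).card *
      Fv (exp (2 * Real.pi * I / (N : ℂ))) η (∑ i, rho r' i + ∑ i, rho r' i) (rho r') (rho r') n := by
  have h := term_core hN η hηζ (fun _ => 0) (fun _ => 0) n hinj
  set ζ := exp (2 * Real.pi * I / (N : ℂ)) with hζ
  have hΔ0 : (Matrix.of fun i j : Fin (r' + 1) => (ζ ^ n j) ^ (r' + 1 - 1 - (i : ℕ))).det ≠ 0 := by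
    have h1 : (Matrix.of fun i j : Fin (r' + 1) => (ζ ^ n j) ^ (r' + 1 - 1 - (i : ℕ))) =
        ((Matrix.vandermonde (fun j => ζ ^ n j)).transpose).submatrix Fin.revPerm id := by
      ext i j
      simp only [Matrix.of_apply, Matrix.submatrix_apply, Matrix.transpose_apply,
        Matrix.vandermonde_apply, id, Fin.revPerm_apply, Fin.val_rev]
      congr 1
      omega
    rw [h1, Matrix.det_permute, Matrix.det_transpose]
    apply mul_ne_zero
    · exact Int.cast_ne_zero.2 (Units.ne_zero _)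
    · exact Matrix.det_vandermonde_ne_zero_iff.2 hinj
  simp only [Finset.sum_const_zero, zero_add, zero_mul, pow_zero, one_mul, div_self hΔ0] at h
  rw [h]
  unfold rho
  simp only [zero_add]

/-- Let r, k ≥ 1 be integers. Summing over all integer vectors v with r + k > v_1 > v_2 > ⋯ > v_{r-1} >
v_r = 0, one has Σ_v ∏_{i<j} (2 sin(π (v_i - v_j) / (r + k)))² = r (r + k)^{r-1}; that is, the
genus-zero Verlinde number of rank r and level k with no parabolic points, defined as (r (r +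
k)^{r-1})⁻¹ times this sum, equals 1. Indices are 0-based below: v i stands for v_{i+1}. -/
theorem result (r k : ℕ) (hr : 1 ≤ r) (hk : 1 ≤ k) :
    (∑ v ∈ (Finset.univ : Finset (Fin r → Fin (r + k))).filter
        (fun v : Fin r → Fin (r + k) => StrictAnti v ∧ ∀ i : Fin r, (i : ℕ) = r - 1 → (v i : ℕ) = 0),
      ∏ p ∈ (Finset.univ : Finset (Fin r × Fin r)).filter (fun p => p.1 < p.2),
        ((2 : ℝ) * Real.sin (Real.pi * ((v p.1 : ℕ) - (v p.2 : ℕ) : ℝ) / ((r : ℝ) + k))) ^ 2) =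
      (r : ℝ) * ((r : ℝ) + k) ^ (r - 1) := by
  classical
  obtain ⟨r', rfl⟩ : ∃ r', r = r' + 1 := ⟨r - 1, by omega⟩
  have hN : 0 < r' + 1 + k := by omega
  have hcastC : ((r' + 1 : ℕ) : ℂ) + (k : ℂ) = ((r' + 1 + k : ℕ) : ℂ) := by push_cast; ring
  have hcastR : ((r' + 1 : ℕ) : ℝ) + (k : ℝ) = ((r' + 1 + k : ℕ) : ℝ) := by push_cast; ring
  set ζ : ℂ := exp (2 * Real.pi * I / ((r' + 1 + k : ℕ) : ℂ)) with hζdef
  set η : ℂ := exp (-(2 * Real.pi * I / (((r' + 1 : ℕ) : ℂ) * ((r' + 1 + k : ℕ) : ℂ)))) with hηdef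
  have hζprim : IsPrimitiveRoot ζ (r' + 1 + k) := Complex.isPrimitiveRoot_exp _ hN.ne'
  have hηζ : η ^ (r' + 1) * ζ = 1 := by
    rw [hηdef, hζdef, ← exp_nat_mul, ← exp_add]
    have hrC : ((r' + 1 : ℕ) : ℂ) ≠ 0 := by exact_mod_cast (by omega : r' + 1 ≠ 0)
    have hNC : ((r' + 1 + k : ℕ) : ℂ) ≠ 0 := by exact_mod_cast hN.ne'
    have : ((r' + 1 : ℕ) : ℂ) * -(2 * Real.pi * I / (((r' + 1 : ℕ) : ℂ) * ((r' + 1 + k : ℕ) : ℂ))) +
        2 * Real.pi * I / ((r' + 1 + k : ℕ) : ℂ) = 0 := by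
      field_simp
      ring
    rw [this, exp_zero]
  apply Complex.ofReal_injective
  rw [Complex.ofReal_sum]
  have hterm : ∀ v ∈ (Finset.univ : Finset (Fin (r' + 1) → Fin (r' + 1 + k))).filter
        (fun v : Fin (r' + 1) → Fin (r' + 1 + k) =>
          StrictAnti v ∧ ∀ i : Fin (r' + 1), (i : ℕ) = r' + 1 - 1 → (v i : ℕ) = 0),
      ((∏ p ∈ (Finset.univ : Finset (Fin (r' + 1) × Fin (r' + 1))).filter (fun p => p.1 < p.2),
        ((2 : ℝ) * Real.sin (Real.pi * ((v p.1 : ℕ) - (v p.2 : ℕ) : ℝ) / (((r' + 1 : ℕ) : ℝ) + k))) ^ 2 : ℝ) : ℂ) =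
      (-1) ^ ((Finset.univ : Finset (Fin (r' + 1) × Fin (r' + 1))).filter (fun p => p.1 < p.2)).card *
        Fv ζ η (∑ i, rho r' i + ∑ i, rho r' i) (rho r') (rho r') (fun j => (v (Fin.rev j) : ℕ)) := by
    intro v hv
    rw [Finset.mem_filter] at hv
    have hinj : Function.Injective (fun j => ζ ^ (v j : ℕ)) := by
      intro i j hij
      have := hζprim.pow_inj (v i).is_lt (v j).is_lt hij
      exact hv.2.1.injective (Fin.ext this)
    have h1 := Pc_eq hN η hηζ (fun j => (v j : ℕ)) hinj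
    have h2 : Fv ζ η (∑ i, rho r' i + ∑ i, rho r' i) (rho r') (rho r') (fun j => (v (Fin.rev j) : ℕ)) =
        Fv ζ η (∑ i, rho r' i + ∑ i, rho r' i) (rho r') (rho r') (fun j => (v j : ℕ)) :=
      Fv_sym ζ η _ (rho r') (rho r') (fun j => (v j : ℕ)) Fin.revPerm
    rw [h2, ← h1, hcastR]
  rw [Finset.sum_congr rfl hterm, ← Finset.mul_sum]
  have hbij : ∑ v ∈ (Finset.univ : Finset (Fin (r' + 1) → Fin (r' + 1 + k))).filter
        (fun v : Fin (r' + 1) → Fin (r' + 1 + k) =>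
          StrictAnti v ∧ ∀ i : Fin (r' + 1), (i : ℕ) = r' + 1 - 1 → (v i : ℕ) = 0),
      Fv ζ η (∑ i, rho r' i + ∑ i, rho r' i) (rho r') (rho r') (fun j => (v (Fin.rev j) : ℕ)) =
      ∑ n ∈ Amono r' (r' + 1 + k), Fv ζ η (∑ i, rho r' i + ∑ i, rho r' i) (rho r') (rho r') n := by
    apply Finset.sum_nbij (fun v j => (v (Fin.rev j) : ℕ))
    · intro v hv
      rw [Finset.mem_filter] at hv
      rw [mem_Amono]
      refine ⟨fun j => (v (Fin.rev j)).is_lt, ?_, ?_⟩
      · intro a b hab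
        exact hv.2.1 (Fin.rev_lt_rev.2 hab)
      · apply hv.2.2
        simp [Fin.val_rev]
    · intro v _ v' _ h
      funext j
      have := congrFun h (Fin.rev j)
      simp only [Fin.rev_rev] at this
      exact Fin.ext this
    · intro n hn
      rw [Finset.mem_coe, mem_Amono] at hn
      refine ⟨fun j => ⟨n (Fin.rev j), hn.1 _⟩, ?_, ?_⟩
      · rw [Finset.mem_coe, Finset.mem_filter]
        refine ⟨Finset.mem_univ _, ?_, ?_⟩
        · intro a b hab
          exact hn.2.1 (Fin.rev_lt_rev.2 hab)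
        · intro i hi
          have : Fin.rev i = 0 := by
            apply Fin.ext
            rw [Fin.val_rev]
            simp
            omega
          simp only [this]
          exact hn.2.2
      · funext j
        simp
    · intro v _
      rfl
  rw [hbij, norm_sum hζprim (by omega) hηζ, sign_rev]
  have hε : ((-1 : ℂ) ^ ((Finset.univ : Finset (Fin (r' + 1) × Fin (r' + 1))).filter (fun p => p.1 < p.2)).card) *
      ((-1 : ℂ) ^ ((Finset.univ : Finset (Fin (r' + 1) × Fin (r' + 1))).filter (fun p => p.1 < p.2)).card) = 1 := by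
    rw [← mul_pow]; norm_num
  have hr1 : r' + 1 - 1 = r' := by omega
  rw [hr1]
  push_cast
  linear_combination (((r' : ℂ) + 1) * ((r' : ℂ) + 1 + (k : ℂ)) ^ r') * hε

end Groth.Agent.S18379
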