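import Groth.Statements.S18381
import Groth.Agent.S18377

set_option autoImplicit false
open Complex
open VerlindeComb

namespace Groth.Agent.S18381



set_option maxHeartbeats 800000

/-- Fix integers r, k ≥ 1. For g ≥ 0, d ∈ ℤ and parabolic data ω given by a finite family of partitions
λ_x with k ≥ λ_{x,1} ≥ ⋯ ≥ λ_{x,r} ≥ 0, write |ω| = Σ_x |λ_x|, z(v)_j = exp(2πi v_j / (r + k)),
S_λ(v) = det(z(v)_j^{λ_i + r - i}) / det(z(v)_j^{r - i}) (Schur value), P(v) = ∏_{i<j} (2 sin(π (v_i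
- v_j)/(r + k)))², and let V_g(r, d, ω) = (-1)^{d(r-1)} (k/r)^g (r (r+k)^{r-1})^{g-1} Σ_v exp(2πi
(d/r - |ω| / (r (r+k))) Σ_j v_j) · ∏_x S_{λ_x}(v) / P(v)^{g-1}, the sum over integer vectors r + k >
v_1 > ⋯ > v_{r-1} > v_r = 0 (the right-hand side of the Verlinde formula; it depends on ω only
through |ω| and the function v ↦ ∏_x S_{λ_x}(v), and is written that way below, with (r
(r+k)^{r-1})^{g-1} as the g-th power divided once and 1/P^{g-1} as P/P^g). Then V_{g+1}(r, d, ω) =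
Σ_μ V_g(r, d, ω^μ), the sum over all μ with k > μ_1 ≥ ⋯ ≥ μ_r ≥ 0, where ω^μ adjoins to ω the two
partitions μ and μ* = (k - μ_r, …, k - μ_1). Indices are 0-based below. -/
theorem result (r k : ℕ) (hr : 1 ≤ r) (hk : 1 ≤ k)
    (g : ℕ) (d : ℤ) (ι : Type) [Fintype ι] (lam : ι → Fin r → ℕ)
    (hlam : ∀ x, Antitone (lam x) ∧ ∀ i, lam x i ≤ k)
    (z : (Fin r → ℕ) → Fin r → ℂ)
    (hz : ∀ v j, z v j = Complex.exp (2 * Real.pi * Complex.I * (v j : ℂ) / ((r : ℂ) + k)))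
    (S : (Fin r → ℕ) → (Fin r → ℕ) → ℂ)
    (hS : ∀ μ v, S μ v = (Matrix.of fun i j : Fin r => z v j ^ (μ i + (r - 1 - (i : ℕ)))).det /
        (Matrix.of fun i j : Fin r => z v j ^ (r - 1 - (i : ℕ))).det)
    (P : (Fin r → ℕ) → ℝ)
    (hP : ∀ v, P v = ∏ p ∈ (Finset.univ : Finset (Fin r × Fin r)).filter (fun p => p.1 < p.2),
        ((2 : ℝ) * Real.sin (Real.pi * ((v p.1 : ℝ) - (v p.2 : ℝ)) / ((r : ℝ) + k))) ^ 2)
    (V : ℕ → ℤ → ℕ → ((Fin r → ℕ) → ℂ) → ℂ)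
    (hV : ∀ (g' : ℕ) (d' : ℤ) (w : ℕ) (Sω : (Fin r → ℕ) → ℂ), V g' d' w Sω =
        (-1 : ℂ) ^ (d' * ((r : ℤ) - 1)) * ((k : ℂ) / r) ^ g' *
          ((((r : ℂ) * ((r : ℂ) + k) ^ (r - 1)) ^ g') / ((r : ℂ) * ((r : ℂ) + k) ^ (r - 1))) *
          ∑ v ∈ (Finset.univ : Finset (Fin r → Fin (r + k))).filter
            (fun v : Fin r → Fin (r + k) => StrictAnti v ∧ ∀ i : Fin r, (i : ℕ) = r - 1 → (v i : ℕ) = 0),
            Complex.exp (2 * Real.pi * Complex.I * ((d' : ℂ) / r - (w : ℂ) / ((r : ℂ) * ((r : ℂ) + k))) *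
                ((∑ j, (v j : ℕ) : ℕ) : ℂ)) *
              Sω (fun j => (v j : ℕ)) *
              (((P (fun j => (v j : ℕ)) : ℂ)) / ((P (fun j => (v j : ℕ)) : ℂ)) ^ g')) :
    V (g + 1) d (∑ x, ∑ i, lam x i) (fun v => ∏ x, S (lam x) v) =
      ∑ μ ∈ (Finset.univ : Finset (Fin r → Fin k)).filter (fun μ : Fin r → Fin k => Antitone μ),
        V g d ((∑ x, ∑ i, lam x i) + (∑ i, (μ i : ℕ)) + (∑ i, (k - (μ (Fin.rev i) : ℕ))))
          (fun v => (∏ x, S (lam x) v) * S (fun i => (μ i : ℕ)) v *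
            S (fun i => k - (μ (Fin.rev i) : ℕ)) v) := by
  classical
  have hr0 : (r : ℂ) ≠ 0 := by exact_mod_cast (by omega : r ≠ 0)
  have hN0 : ((r : ℂ) + k) ≠ 0 := by
    have : ((r + k : ℕ) : ℂ) ≠ 0 := by exact_mod_cast (by omega : r + k ≠ 0)
    push_cast at this; exact this
  set W := ∑ x, ∑ i, lam x i with hW
  have hwt : ∀ μ : Fin r → Fin k,
      W + (∑ i, (μ i : ℕ)) + (∑ i, (k - (μ (Fin.rev i) : ℕ))) = W + r * k := by
    intro μ
    have h1 : ∑ i : Fin r, (k - (μ (Fin.rev i) : ℕ)) = ∑ i : Fin r, (k - (μ i : ℕ)) :=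
      Equiv.sum_comp (Fin.revPerm : Equiv.Perm (Fin r)) (fun i : Fin r => k - (μ i : ℕ))
    have h2 : ∑ i : Fin r, (μ i : ℕ) + ∑ i : Fin r, (k - (μ i : ℕ)) = r * k := by
      rw [← Finset.sum_add_distrib]
      have : ∀ i : Fin r, (μ i : ℕ) + (k - (μ i : ℕ)) = k := fun i => by
        have := (μ i).is_lt; omega
      simp [this]
    omega
  have key : ∀ v ∈ (Finset.univ : Finset (Fin r → Fin (r + k))).filter
            (fun v : Fin r → Fin (r + k) => StrictAnti v ∧ ∀ i : Fin r, (i : ℕ) = r - 1 → (v i : ℕ) = 0),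
      (∑ μ ∈ (Finset.univ : Finset (Fin r → Fin k)).filter (fun μ : Fin r → Fin k => Antitone μ),
        S (fun i => (μ i : ℕ)) (fun j => (v j : ℕ)) *
          S (fun i => k - (μ (Fin.rev i) : ℕ)) (fun j => (v j : ℕ))) =
      Complex.exp (2 * Real.pi * Complex.I * (k : ℂ) * ((∑ j, (v j : ℕ) : ℕ) : ℂ) / ((r : ℂ) + k)) *
        ((k : ℂ) * ((r : ℂ) + k) ^ (r - 1)) / (P (fun j => (v j : ℕ)) : ℂ) := by
    intro v hv
    rw [Finset.mem_filter] at hv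
    have hsa : StrictAnti (fun j => (v j : ℕ)) := fun a b hab => hv.2.1 hab
    have := Groth.Agent.S18377.result r k hr hk (fun j => (v j : ℕ)) hsa (fun i => (v i).is_lt)
      (z (fun j => (v j : ℕ))) (fun j => hz _ j) (fun μ => S μ (fun j => (v j : ℕ))) (fun μ => hS μ _)
    rw [this, hP, Complex.ofReal_prod]
  have hRHS : ∀ μ : Fin r → Fin k,
      V g d (W + (∑ i, (μ i : ℕ)) + (∑ i, (k - (μ (Fin.rev i) : ℕ))))
          (fun v => (∏ x, S (lam x) v) * S (fun i => (μ i : ℕ)) v *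
            S (fun i => k - (μ (Fin.rev i) : ℕ)) v) = V g d (W + r * k)
          (fun v => (∏ x, S (lam x) v) * S (fun i => (μ i : ℕ)) v *
            S (fun i => k - (μ (Fin.rev i) : ℕ)) v) := by
    intro μ
    rw [hwt μ]
  simp only [hRHS]
  simp only [hV]
  rw [← Finset.mul_sum, Finset.sum_comm]
  set c : ℂ := (-1 : ℂ) ^ (d * ((r : ℤ) - 1)) with hc
  set M : ℂ := (r : ℂ) * ((r : ℂ) + k) ^ (r - 1) with hM
  have hM0 : M ≠ 0 := mul_ne_zero hr0 (pow_ne_zero _ hN0)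
  have hconst : c * ((k : ℂ) / r) ^ (g + 1) * (M ^ (g + 1) / M) =
      (c * ((k : ℂ) / r) ^ g * (M ^ g / M)) * ((k : ℂ) * ((r : ℂ) + k) ^ (r - 1)) := by
    have hkM : ((k : ℂ) / r) * M = (k : ℂ) * ((r : ℂ) + k) ^ (r - 1) := by
      rw [hM]; field_simp
    rw [← hkM, pow_succ, pow_succ]; ring
  rw [hconst, mul_assoc _ ((k : ℂ) * ((r : ℂ) + k) ^ (r - 1)), Finset.mul_sum]
  congr 1
  apply Finset.sum_congr rfl
  intro v hv
  have hk' := key v hv
  set Pv : ℂ := (P (fun j => (v j : ℕ)) : ℂ) with hPv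
  set sv : ℂ := ((∑ j, (v j : ℕ) : ℕ) : ℂ) with hsv
  have hsum : (∑ μ ∈ (Finset.univ : Finset (Fin r → Fin k)).filter (fun μ : Fin r → Fin k => Antitone μ),
      Complex.exp (2 * Real.pi * Complex.I * ((d : ℂ) / r - ((W + r * k : ℕ) : ℂ) / ((r : ℂ) * ((r : ℂ) + k))) * sv) *
        ((∏ x, S (lam x) (fun j => (v j : ℕ))) * S (fun i => (μ i : ℕ)) (fun j => (v j : ℕ)) *
            S (fun i => k - (μ (Fin.rev i) : ℕ)) (fun j => (v j : ℕ))) * (Pv / Pv ^ g)) =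
      Complex.exp (2 * Real.pi * Complex.I * ((d : ℂ) / r - ((W + r * k : ℕ) : ℂ) / ((r : ℂ) * ((r : ℂ) + k))) * sv) *
        (∏ x, S (lam x) (fun j => (v j : ℕ))) * (Pv / Pv ^ g) *
        (∑ μ ∈ (Finset.univ : Finset (Fin r → Fin k)).filter (fun μ : Fin r → Fin k => Antitone μ),
        S (fun i => (μ i : ℕ)) (fun j => (v j : ℕ)) *
          S (fun i => k - (μ (Fin.rev i) : ℕ)) (fun j => (v j : ℕ))) := by
    rw [Finset.mul_sum]
    apply Finset.sum_congr rfl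
    intro μ _
    ring
  rw [hsum, hk']
  have hexp : Complex.exp (2 * Real.pi * Complex.I * ((d : ℂ) / r - (W : ℂ) / ((r : ℂ) * ((r : ℂ) + k))) * sv) =
      Complex.exp (2 * Real.pi * Complex.I * ((d : ℂ) / r - ((W + r * k : ℕ) : ℂ) / ((r : ℂ) * ((r : ℂ) + k))) * sv) *
      Complex.exp (2 * Real.pi * Complex.I * (k : ℂ) * sv / ((r : ℂ) + k)) := by
    rw [← Complex.exp_add]
    congr 1
    push_cast
    field_simp
    ring
  rw [hexp]
  rw [pow_succ]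
  by_cases hP0 : Pv = 0
  · rw [hP0]; simp
  · field_simp

end Groth.Agent.S18381
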