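import Groth.Statements.S18382
import Mathlib
import Groth.Agent.Lib.Helper25.TreeSide
-- import your own Groth.Agent.* helpers here

set_option autoImplicit false
set_option linter.unusedSectionVars false
set_option linter.style.haveILetI false
set_option linter.unusedVariables false
set_option linter.deprecated false
universe u
open PhiStab

namespace Groth.Agent.S18382

open LabGraph DualGr Groth.Agent.Lib.Helper25.GraphInc Groth.Agent.Lib.Helper25.GraphTree
  Groth.Agent.Lib.Helper25.TreeSide

section
variable {V E : Type u} [Fintype V] [Fintype E] [DecidableEq V] [DecidableEq E]
    (ends : E → V × V)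

theorem isTree_sub_univ (hT : DualGr.IsTree ends) : DualGr.IsTree (sub ends Finset.univ) := by
  refine ⟨⟨hT.1.1, fun v w => ?_⟩, ?_⟩
  · have := hT.1.2 v w
    induction this with
    | refl => exact .refl
    | tail _ hbc ih =>
      refine ih.tail ?_
      obtain ⟨e, he | he⟩ := hbc
      · have := adj_of_mem ends (Finset.mem_univ e)
        rw [he] at this; exact this
      · have := adj_symm _ (adj_of_mem ends (Finset.mem_univ e))
        rw [he] at this; exact this
  · rw [isForest_sub_iff]
    intro C _ hC
    exact hT.2 C hC

theorem side_eq (e : E) : side ends e = sideT ends Finset.univ e := by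
  classical
  ext v
  rw [mem_sideT]
  unfold side
  simp only [Finset.mem_filter, Finset.mem_univ, true_and]
  rfl

end

open PhiStab in
/-- Let (V, E, ends) be a finite tree, that is a connected multigraph without circuits. For every family
of real numbers c_e indexed by the edges and every real c₀ there is exactly one real weighting φ of
the vertices such that, for each edge e, the sum of φ over the side of e containing its first
endpoint (the vertices joined to that endpoint by a chain of edges other than e) equals c_e, and the
sum of φ over all vertices equals c₀. The lemma itself — a system of stability parameters on all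
treelike marked graphs compatible with contractions is determined by its components on the
two-vertex graphs — reduces to this square linear system being nondegenerate. -/
theorem result {V E : Type u} [Fintype V] [Fintype E] [DecidableEq V] [DecidableEq E]
    (ends : E → V × V) (hT : DualGr.IsTree ends)
    (c : E → ℝ) (c₀ : ℝ) :
    ∃! φ : V → ℝ, (∀ e : E, (∑ v ∈ side ends e, φ v) = c e) ∧ (∑ v : V, φ v) = c₀ := by
  obtain ⟨x, ⟨hx1, hx2⟩, hx3⟩ := existsUnique_sideSum ends ℝ (isTree_sub_univ ends hT) c c₀
  refine ⟨x, ⟨fun e => ?_, hx2⟩, ?_⟩
  · rw [side_eq]
    exact hx1 e (Finset.mem_univ e)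
  · intro y ⟨hy1, hy2⟩
    apply hx3
    refine ⟨fun e _ => ?_, hy2⟩
    have := hy1 e
    rw [side_eq] at this
    exact this

end Groth.Agent.S18382
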