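import Groth.Statements.S18385
import Groth.Agent.Lib.Helper24.Isog.Main7815
import Groth.Agent.Lib.Helper7.SmoothProperFlatFin

set_option autoImplicit false
universe u
open CategoryTheory CategoryTheory.Limits MonoidalCategory CartesianMonoidalCategory MonObj GrpObj AlgebraicGeometry
open AbSch

namespace Groth.Agent.S18385

/-- (2) ⇔ (3): let S be a scheme, A and B abelian schemes over S (S-group schemes, smooth and proper
over S with geometrically connected fibres) whose fibres A_s and B_s have the same dimension for
every point s of S, and f : A → B a homomorphism of S-group schemes. Then f is locally quasi-finite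
if and only if f is surjective (and then f is an isogeny). -/
theorem result {S : Scheme.{u}} (A B : Over S)
    [GrpObj A] [Smooth A.hom] [IsProper A.hom] [GeometricallyConnected A.hom]
    [GrpObj B] [Smooth B.hom] [IsProper B.hom] [GeometricallyConnected B.hom]
    (f : A ⟶ B) [IsMonHom f]
    (hdim : ∀ s : S, topologicalKrullDim ↥(A.hom.fiber s) = topologicalKrullDim ↥(B.hom.fiber s)) :
    LocallyQuasiFinite f.left ↔ Surjective f.left := by
  classical
  -- fibrewise: flat ↔ finite
  have hfib : ∀ s : S, Flat ((Over.pullback (Groth.Agent.Lib.Helper24.NFT.gs s)).map f).left ↔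
      IsFinite ((Over.pullback (Groth.Agent.Lib.Helper24.NFT.gs s)).map f).left := by
    intro s
    haveI : Smooth (Groth.Agent.Lib.Helper24.NFT.fib A s).hom :=
      inferInstanceAs (Smooth (pullback.snd A.hom (Groth.Agent.Lib.Helper24.NFT.gs s)))
    haveI : IsProper (Groth.Agent.Lib.Helper24.NFT.fib A s).hom :=
      inferInstanceAs (IsProper (pullback.snd A.hom (Groth.Agent.Lib.Helper24.NFT.gs s)))
    haveI : GeometricallyConnected (Groth.Agent.Lib.Helper24.NFT.fib A s).hom :=
      inferInstanceAs (GeometricallyConnected (pullback.snd A.hom (Groth.Agent.Lib.Helper24.NFT.gs s)))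
    haveI : Smooth (Groth.Agent.Lib.Helper24.NFT.fib B s).hom :=
      inferInstanceAs (Smooth (pullback.snd B.hom (Groth.Agent.Lib.Helper24.NFT.gs s)))
    haveI : IsProper (Groth.Agent.Lib.Helper24.NFT.fib B s).hom :=
      inferInstanceAs (IsProper (pullback.snd B.hom (Groth.Agent.Lib.Helper24.NFT.gs s)))
    haveI : GeometricallyConnected (Groth.Agent.Lib.Helper24.NFT.fib B s).hom :=
      inferInstanceAs (GeometricallyConnected (pullback.snd B.hom (Groth.Agent.Lib.Helper24.NFT.gs s)))
    exact Groth.Agent.Lib.Helper7.SmoothProperFlatFin.flat_iff_isFinite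
      (Groth.Agent.Lib.Helper24.NFT.resκ s)
      (Groth.Agent.Lib.Helper24.NFT.fib A s).hom (Groth.Agent.Lib.Helper24.NFT.fib B s).hom
      ((Over.pullback (Groth.Agent.Lib.Helper24.NFT.gs s)).map f).left
      (Over.w ((Over.pullback (Groth.Agent.Lib.Helper24.NFT.gs s)).map f)) (hdim s)
  constructor
  · -- locally quasi-finite ⇒ surjective
    intro hqf
    refine Groth.Agent.Lib.Helper24.Isog.surjective_of_fibres f fun s => ?_
    let us : Groth.Agent.Lib.Helper24.NFT.fib A s ⟶ Groth.Agent.Lib.Helper24.NFT.fib B s :=
      (Over.pullback (Groth.Agent.Lib.Helper24.NFT.gs s)).map f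
    have sq : IsPullback (pullback.fst A.hom (Groth.Agent.Lib.Helper24.NFT.gs s)) us.left f.left
        (pullback.fst B.hom (Groth.Agent.Lib.Helper24.NFT.gs s)) :=
      (Groth.Agent.Lib.Helper24.HomogSep.isPullback_pullback_map
        (Groth.Agent.Lib.Helper24.NFT.gs s) f).flip
    haveI : LocallyQuasiFinite us.left :=
      MorphismProperty.of_isPullback (P := @LocallyQuasiFinite) sq hqf
    haveI : IsProper (Groth.Agent.Lib.Helper24.NFT.fib A s).hom :=
      inferInstanceAs (IsProper (pullback.snd A.hom (Groth.Agent.Lib.Helper24.NFT.gs s)))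
    haveI : IsProper (Groth.Agent.Lib.Helper24.NFT.fib B s).hom :=
      inferInstanceAs (IsProper (pullback.snd B.hom (Groth.Agent.Lib.Helper24.NFT.gs s)))
    haveI : LocallyOfFinitePresentation (Groth.Agent.Lib.Helper24.NFT.fib A s).hom :=
      inferInstanceAs (LocallyOfFinitePresentation
        (pullback.snd A.hom (Groth.Agent.Lib.Helper24.NFT.gs s)))
    haveI : LocallyOfFinitePresentation (Groth.Agent.Lib.Helper24.NFT.fib B s).hom :=
      inferInstanceAs (LocallyOfFinitePresentation
        (pullback.snd B.hom (Groth.Agent.Lib.Helper24.NFT.gs s)))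
    haveI : IsProper us.left := by
      haveI : IsProper (us.left ≫ (Groth.Agent.Lib.Helper24.NFT.fib B s).hom) := by
        rw [Over.w us]; infer_instance
      exact IsProper.of_comp us.left (Groth.Agent.Lib.Helper24.NFT.fib B s).hom
    haveI : IsFinite us.left := IsFinite.of_isProper_of_locallyQuasiFinite us.left
    haveI : Flat us.left := (hfib s).2 inferInstance
    haveI : LocallyOfFinitePresentation us.left :=
      Groth.Agent.Lib.Helper4.CentralizerClosed.lfp_of_comp us.left
        (Groth.Agent.Lib.Helper24.NFT.fib B s).hom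
        (by rw [Over.w us]; infer_instance) inferInstance
    have hopen : IsOpen (Set.range us.left) := us.left.isOpenMap.isOpen_range
    have hclosed : IsClosed (Set.range us.left) := us.left.isClosedMap.isClosed_range
    haveI : ConnectedSpace ↥(Groth.Agent.Lib.Helper24.NFT.fib B s).left :=
      inferInstanceAs (ConnectedSpace ↥(B.hom.fiber s))
    have hne : (Set.range us.left).Nonempty := by
      have hne : Nonempty ↥(𝟙_ (Over (Spec (CommRingCat.of
          (Groth.Agent.Lib.Helper24.NFT.resκ s))))).left :=
        inferInstanceAs (Nonempty (PrimeSpectrum (Groth.Agent.Lib.Helper24.NFT.resκ s)))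
      obtain ⟨pt⟩ := hne
      exact ⟨_, ⟨η[Groth.Agent.Lib.Helper24.NFT.fib A s].left pt, rfl⟩⟩
    have huniv : Set.range us.left = Set.univ := IsClopen.eq_univ ⟨hclosed, hopen⟩ hne
    exact ⟨fun y => by
      have : y ∈ Set.range us.left := huniv ▸ Set.mem_univ y
      exact this⟩
  · -- surjective ⇒ locally quasi-finite
    intro hsurj
    haveI := hsurj
    haveI : GeometricallyReduced B.hom :=
      Groth.Agent.Lib.Helper24.Isog.geometricallyReduced_of_smooth B.hom
    refine (Groth.Agent.Lib.Helper24.Isog.isogeny_of_fibres f fun s => ?_).2.1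
    have hflat := Groth.Agent.Lib.Helper24.FibHom.flat_fib_of_surjective f s
    exact ⟨(hfib s).1 hflat,
      Groth.Agent.Lib.Helper24.HomogSep.surjective_pullback_map
        (Groth.Agent.Lib.Helper24.NFT.gs s) f hsurj⟩

end Groth.Agent.S18385
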