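import Groth.Statements.S18386
import Mathlib.RingTheory.Ideal.IdempotentFG
import Mathlib.RingTheory.Noetherian.Nilpotent
import Mathlib.AlgebraicGeometry.Morphisms.QuasiCompact

set_option autoImplicit false
universe u
open LVCorr

namespace Groth.Agent.S18386

open AlgebraicGeometry in
theorem compl_basicOpen_idem (X : Scheme.{u}) (U : X.Opens) (e : Γ(X, U))
    (he : IsIdempotentElem e) :
    (X.basicOpen e : Set X)ᶜ ∩ U = X.basicOpen (1 - e) := by
  ext x
  constructor
  · rintro ⟨hx1, hxU⟩
    rw [SetLike.mem_coe, X.mem_basicOpen _ x hxU]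
    rw [Set.mem_compl_iff, SetLike.mem_coe, X.mem_basicOpen _ x hxU] at hx1
    rw [map_sub, map_one]
    exact (IsLocalRing.isUnit_or_isUnit_one_sub_self _).resolve_left hx1
  · intro hx
    have hxU : x ∈ U := X.basicOpen_le _ hx
    refine ⟨fun hx' => ?_, hxU⟩
    have : x ∈ X.basicOpen (e * (1 - e)) := by rw [X.basicOpen_mul]; exact ⟨hx', hx⟩
    rw [mul_sub, mul_one, he.eq, sub_self, X.basicOpen_zero] at this
    exact this

open AlgebraicGeometry in
/-- Let X be a connected Noetherian scheme and I a quasi-coherent sheaf of ideals on X, different from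
the structure sheaf, such that I^k = I^(k+1) for some natural number k. Then I^k = 0. -/
theorem result (X : Scheme.{u}) [AlgebraicGeometry.IsNoetherian X]
    [ConnectedSpace X] (I : X.IdealSheafData) (hI : I ≠ ⊤) (k : ℕ)
    (h : I ^ k = I ^ (k + 1)) : I ^ k = ⊥ := by
  have hk : k ≠ 0 := by
    rintro rfl
    apply hI
    simpa using h.symm
  have hJJ : I ^ k * I ^ k = I ^ k := by
    have : ∀ j, I ^ (k + j) = I ^ k := by
      intro j
      induction j with
      | zero => rfl
      | succ j ih => rw [← add_assoc, pow_succ, ih, ← pow_succ, ← h]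
    rw [← pow_add, this]
  set J := I ^ k with hJ
  have hidem : ∀ U : X.affineOpens, IsIdempotentElem (J.ideal U) := by
    intro U
    have := congrArg (fun K : X.IdealSheafData => K.ideal U) hJJ
    simp only [Scheme.IdealSheafData.ideal_mul, Pi.mul_apply] at this
    exact this
  have hopen : IsOpen (J.support : Set X) := by
    rw [isOpen_iff_forall_mem_open]
    intro x hx
    obtain ⟨_, ⟨U, hU, rfl⟩, hxU, -⟩ :=
      X.isBasis_affineOpens.exists_subset_of_mem_open (Set.mem_univ x) isOpen_univ
    have hN : IsNoetherianRing Γ(X, U) := IsLocallyNoetherian.component_noetherian ⟨U, hU⟩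
    obtain ⟨e, he, hJe⟩ := (Ideal.isIdempotentElem_iff_of_fg _
      (IsNoetherian.noetherian _)).mp (hidem ⟨U, hU⟩)
    have key : (J.support : Set X) ∩ U = X.basicOpen (1 - e) := by
      rw [J.coe_support_inter ⟨U, hU⟩, hJe, X.zeroLocus_span, X.zeroLocus_singleton,
        compl_basicOpen_idem X U e he]
    refine ⟨X.basicOpen (1 - e), ?_, (X.basicOpen _).isOpen, ?_⟩
    · rw [← key]
      exact Set.inter_subset_left
    · rw [← key]
      exact ⟨hx, hxU⟩
  have hclopen : IsClopen (J.support : Set X) := ⟨J.support.isClosed, hopen⟩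
  rcases isClopen_iff.mp hclopen with h0 | h1
  · exfalso
    apply hI
    rw [← Scheme.IdealSheafData.support_eq_bot_iff, ← Scheme.IdealSheafData.support_pow I k hk]
    exact TopologicalSpace.Closeds.ext h0
  · apply Scheme.IdealSheafData.ext
    funext U
    have hN : IsNoetherianRing Γ(X, U.1) := IsLocallyNoetherian.component_noetherian U
    have hz : X.zeroLocus (U := U.1) (J.ideal U) ∩ U.1 = U.1 := by
      rw [← J.coe_support_inter, h1, Set.univ_inter]
    have hnil : J.ideal U ≤ nilradical Γ(X, U.1) := by
      intro f hf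
      have hb : X.basicOpen f = ⊥ := by
        rw [eq_bot_iff]
        intro x hx
        have hxU : x ∈ (U.1 : Set X) := X.basicOpen_le f hx
        rw [← hz] at hxU
        exact ((X.mem_zeroLocus_iff _ x).mp hxU.1 f hf hx).elim
      exact (Scheme.isNilpotent_iff_basicOpen_eq_bot_of_isCompact U.2.isCompact f).mpr hb
    obtain ⟨m, hm⟩ := IsNoetherianRing.isNilpotent_nilradical Γ(X, U.1)
    have h1 : (J.ideal U) ^ (m + 1) ≤ ⊥ := by
      refine (Ideal.pow_right_mono hnil (m + 1)).trans ?_
      rw [pow_succ, hm, Ideal.zero_eq_bot, Ideal.bot_mul]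
    rw [(hidem U).pow_succ_eq m] at h1
    exact le_bot_iff.mp h1

end Groth.Agent.S18386
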