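import Groth.Statements.S18387
import Mathlib.RingTheory.Noetherian.Nilpotent
import Mathlib.LinearAlgebra.FiniteDimensional.Lemmas
import Mathlib.RingTheory.Finiteness.Basic

set_option autoImplicit false
universe u
open LVCorr

namespace Groth.Agent.S18387

/-- In the affine form which its proof establishes. Let A be a commutative algebra over a field F which
is finite-dimensional of dimension d over F. Then the d-th power of the nilradical of A vanishes.
(Applied to the fibre algebra A = B/mB of a quasi-finite morphism over a closed point with maximal
ideal m, this says that the d-th power of the radical of mB lies in mB, i.e. the ramification of the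
morphism at that point is at most the degree d of the fibre.) -/
theorem result (F A : Type u) [Field F] [CommRing A] [Algebra F A]
    [FiniteDimensional F A] : nilradical A ^ Module.finrank F A = ⊥ := by
  have hNoeth : IsNoetherianRing A := isNoetherian_of_tower F (isNoetherian_of_isNoetherianRing_of_finite F A)
  obtain ⟨m, hm⟩ := IsNoetherianRing.isNilpotent_nilradical A
  rw [Ideal.zero_eq_bot] at hm
  set N := nilradical A with hN
  -- stabilization forces vanishing
  have hstab : ∀ i, N ^ (i + 1) = N ^ i → N ^ i = ⊥ := by
    intro i hi
    have : ∀ j, N ^ (i + j) = N ^ i := by
      intro j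
      induction j with
      | zero => rfl
      | succ j ih => rw [← add_assoc, pow_succ, ih, ← pow_succ, hi]
    rw [← this m, pow_add, hm, Ideal.mul_bot]
  have hlt : ∀ i, N ^ i ≠ ⊥ →
      Module.finrank F ↥((N ^ (i + 1)).restrictScalars F) <
        Module.finrank F ↥((N ^ i).restrictScalars F) := by
    intro i hi
    apply Submodule.finrank_lt_finrank_of_lt
    refine lt_of_le_of_ne ?_ ?_
    · intro x hx
      exact Ideal.pow_le_pow_right (Nat.le_succ i) hx
    · intro heq
      apply hi
      apply hstab
      exact Submodule.restrictScalars_injective F A A heq
  have key : ∀ i, N ^ i = ⊥ ∨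
      Module.finrank F ↥((N ^ i).restrictScalars F) + i ≤ Module.finrank F A := by
    intro i
    induction i with
    | zero =>
      right
      rw [pow_zero, Ideal.one_eq_top, Submodule.restrictScalars_top, finrank_top, add_zero]
    | succ i ih =>
      rcases ih with h | h
      · left; rw [pow_succ, h, Ideal.bot_mul]
      · by_cases h0 : N ^ i = ⊥
        · left; rw [pow_succ, h0, Ideal.bot_mul]
        · right
          have := hlt i h0
          omega
  rcases key (Module.finrank F A) with h | h
  · exact h
  · have h0 : Module.finrank F ↥((N ^ Module.finrank F A).restrictScalars F) = 0 := by omega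
    rw [Submodule.finrank_eq_zero] at h0
    apply Submodule.restrictScalars_injective F A A
    rw [h0, Submodule.restrictScalars_bot]

end Groth.Agent.S18387
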