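import Groth.Statements.S18389
-- import your own Groth.Agent.* helpers here

set_option autoImplicit false
universe u
open LVCorr

namespace Groth.Agent.S18389

open AlgebraicGeometry CategoryTheory in
theorem main {C Cb X Xb : Scheme.{u}}
    (j : C ⟶ Cb) [IsOpenImmersion j] (hj : DenseRange j.base)
    (jX : X ⟶ Xb) [IsOpenImmersion jX] (c₁ : C ⟶ X) (cb₁ : Cb ⟶ Xb) [IsSeparated cb₁]
    (h : j ≫ cb₁ = c₁ ≫ jX) (U : X.Opens) (hU : Dense ((c₁ ⁻¹ᵁ U : C.Opens) : Set C))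
    [IsProper (c₁ ∣_ U)] :
    cb₁ ⁻¹ᵁ (jX ''ᵁ U) = j ''ᵁ (c₁ ⁻¹ᵁ U) := by
  set V : Cb.Opens := cb₁ ⁻¹ᵁ (jX ''ᵁ U) with hV
  set W : C.Opens := c₁ ⁻¹ᵁ U with hW
  have hcomm : ∀ y : C, cb₁ (j y) = jX (c₁ y) := fun y => congr($h y)
  have hWV : j ''ᵁ W ≤ V := by
    rintro _ ⟨y, hy, rfl⟩
    change cb₁ (j y) ∈ jX ''ᵁ U
    rw [hcomm]
    exact ⟨c₁ y, hy, rfl⟩
  refine le_antisymm ?_ hWV
  -- morphisms
  let a : W.toScheme ⟶ V.toScheme := IsOpenImmersion.lift V.ι (W.ι ≫ j) (by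
    rintro _ ⟨y, rfl⟩
    rw [Scheme.Opens.range_ι]
    exact hWV ⟨y.1, y.2, rfl⟩)
  have ha : a ≫ V.ι = W.ι ≫ j := IsOpenImmersion.lift_fac _ _ _
  let g : V.toScheme ⟶ U.toScheme := IsOpenImmersion.lift (U.ι ≫ jX) (V.ι ≫ cb₁) (by
    rintro _ ⟨y, rfl⟩
    have : cb₁ y.1 ∈ jX ''ᵁ U := y.2
    obtain ⟨x, hx, hxe⟩ := this
    exact ⟨⟨x, hx⟩, hxe⟩)
  have hg : g ≫ (U.ι ≫ jX) = V.ι ≫ cb₁ := IsOpenImmersion.lift_fac _ _ _
  have hag : a ≫ g = c₁ ∣_ U := by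
    rw [← cancel_mono (U.ι ≫ jX), Category.assoc, hg, ← Category.assoc, ha, Category.assoc, h,
      ← Category.assoc, ← Category.assoc, morphismRestrict_ι]
  have hsep : IsSeparated g := by
    have : IsSeparated (g ≫ (U.ι ≫ jX)) := by rw [hg]; infer_instance
    exact IsSeparated.of_comp g (U.ι ≫ jX)
  have hprop : IsProper a := by
    have : IsProper (a ≫ g) := by rw [hag]; infer_instance
    exact IsProper.of_comp a g
  have hclosed : IsClosed (Set.range a) := a.isClosedMap.isClosed_range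
  have hdense : DenseRange a := by
    rw [DenseRange, dense_iff_inter_open]
    intro O hO hOne
    have hO' : IsOpen (V.ι '' O) := V.ι.isOpenEmbedding.isOpenMap O hO
    have hOne' : (V.ι '' O).Nonempty := hOne.image _
    obtain ⟨_, hz, ⟨y, rfl⟩⟩ := (dense_iff_inter_open.mp hj) _ hO' hOne'
    have hO'' : IsOpen (j ⁻¹' (V.ι '' O)) := hO'.preimage j.continuous
    obtain ⟨y', hy'1, hy'2⟩ := (dense_iff_inter_open.mp hU) _ hO'' ⟨y, hz⟩
    obtain ⟨o, ho, hoe⟩ := hy'1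
    refine ⟨o, ho, ⟨⟨y', hy'2⟩, ?_⟩⟩
    apply V.ι.isOpenEmbedding.injective
    rw [hoe]
    exact congr($ha ⟨y', hy'2⟩)
  have hsurj : Set.range a = Set.univ := by
    rw [← hclosed.closure_eq]
    exact hdense.closure_range
  intro y hy
  have : (⟨y, hy⟩ : V) ∈ Set.range a := hsurj ▸ Set.mem_univ _
  obtain ⟨w, hw⟩ := this
  refine ⟨w.1, w.2, ?_⟩
  have := congr($ha w)
  simp only [Scheme.Hom.comp_apply] at this
  rw [hw] at this
  exact this.symm

open AlgebraicGeometry CategoryTheory in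
/-- Let j : C → C̄ be an open immersion with dense image and jX : X → X̄ an open immersion, and let c₁ :
C → X and c̄₁ : C̄ → X̄ satisfy j followed by c̄₁ equals c₁ followed by jX, with c̄₁ separated. Let
U be an open subset of X such that c₁⁻¹(U) is dense in C and the restriction c₁⁻¹(U) → U of c₁ is
proper. Then c̄₁⁻¹(jX(U)) = j(c₁⁻¹(U)) as open subsets of C̄. (In the source all schemes are
separated of finite type over a field, C̄ and X̄ are compactifications of a correspondence and of X,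
so that c̄₁ is automatically separated.) -/
theorem result {C Cb X Xb : Scheme.{u}}
    (j : C ⟶ Cb) [IsOpenImmersion j] (hj : DenseRange j.base)
    (jX : X ⟶ Xb) [IsOpenImmersion jX] (c₁ : C ⟶ X) (cb₁ : Cb ⟶ Xb) [IsSeparated cb₁]
    (h : j ≫ cb₁ = c₁ ≫ jX) (U : X.Opens) (hU : Dense ((c₁ ⁻¹ᵁ U : C.Opens) : Set C))
    [IsProper (c₁ ∣_ U)] :
    cb₁ ⁻¹ᵁ (jX ''ᵁ U) = j ''ᵁ (c₁ ⁻¹ᵁ U) := by
  exact main j hj jX c₁ cb₁ h U hU

end Groth.Agent.S18389
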