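import Groth.Statements.S18390
-- import your own Groth.Agent.* helpers here

set_option autoImplicit false
universe u
open LVCorr

namespace Groth.Agent.S18390

theorem qsup {A : Type u} [CommRing A] (I L₁ L₂ : Ideal A) (h₁ : L₁ ≤ I) (h₂ : L₂ ≤ I)
    (k₁ k₂ : ℕ) (hk₁ : L₁ ^ k₁ ≤ I ^ (k₁ + 1)) (hk₂ : L₂ ^ k₂ ≤ I ^ (k₂ + 1)) :
    (L₁ ⊔ L₂) ^ (k₁ + k₂) ≤ I ^ (k₁ + k₂ + 1) := by
  rw [← Ideal.add_eq_sup, add_pow, Ideal.sum_eq_sup]
  refine Finset.sup_le fun m hm => ?_
  rw [Finset.mem_range] at hm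
  refine (Ideal.mul_le_left).trans ?_
  by_cases hmk : k₁ ≤ m
  · have e1 : L₁ ^ m = L₁ ^ k₁ * L₁ ^ (m - k₁) := by rw [← pow_add]; congr 1; omega
    have e2 : I ^ (k₁ + k₂ + 1) = I ^ (k₁ + 1) * I ^ (m - k₁) * I ^ (k₁ + k₂ - m) := by
      rw [← pow_add, ← pow_add]; congr 1; omega
    rw [e1, e2]
    exact Ideal.mul_mono (Ideal.mul_mono hk₁ (Ideal.pow_right_mono h₁ _))
      (Ideal.pow_right_mono h₂ _)
  · have e1 : L₂ ^ (k₁ + k₂ - m) = L₂ ^ k₂ * L₂ ^ (k₁ - m) := by
      rw [← pow_add]; congr 1; omega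
    have e2 : I ^ (k₁ + k₂ + 1) = I ^ m * (I ^ (k₂ + 1) * I ^ (k₁ - m)) := by
      rw [← pow_add, ← pow_add]; congr 1; omega
    rw [e1, e2]
    exact Ideal.mul_mono (Ideal.pow_right_mono h₁ _)
      (Ideal.mul_mono hk₂ (Ideal.pow_right_mono h₂ _))

/-- In the affine, ring-theoretic form which its proof establishes. Let φ : A' → A be a ring
homomorphism, I' a finitely generated ideal of A' and I an ideal of A containing the image of I'.
Then some power I'^k is mapped into I^(k+1) if and only if for every n ≥ 1 and every a ∈ I'^n there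
is a k with φ(a)^k ∈ I^(nk+1). (Geometrically, for a morphism f : (X, Z) → (X', Z') of pairs with Z
a closed subscheme of the preimage of Z', the normal cone of Z in X is the spectrum of the
associated graded algebra of I, and the second condition says that the induced map of normal cones
sends the normal cone of Z set-theoretically into the zero section Z'; the source states the
equivalence in that language.) -/
theorem result (A' A : Type u) [CommRing A'] [CommRing A]
    (φ : A' →+* A) (I' : Ideal A') (hI' : I'.FG) (I : Ideal A) (hle : I'.map φ ≤ I) :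
    (∃ k : ℕ, (I' ^ k).map φ ≤ I ^ (k + 1)) ↔
      ∀ n : ℕ, 1 ≤ n → ∀ a ∈ I' ^ n, ∃ k : ℕ, 1 ≤ k ∧ φ a ^ k ∈ I ^ (n * k + 1) := by
  constructor
  · rintro ⟨k, hk⟩ n hn a ha
    rcases Nat.eq_zero_or_pos k with rfl | hkpos
    · have h1 : (1 : A) ∈ I := by
        have : φ 1 ∈ (I' ^ 0).map φ := Ideal.mem_map_of_mem _ (by simp)
        have := hk this
        simpa using this
      have hI : I = ⊤ := (Ideal.eq_top_iff_one I).mpr h1
      exact ⟨1, le_rfl, by rw [hI, Ideal.top_pow]; trivial⟩
    · refine ⟨k, hkpos, ?_⟩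
      have h1 : a ^ k ∈ (I' ^ k) ^ n := by
        rw [← pow_mul, mul_comm, pow_mul]
        exact Ideal.pow_mem_pow ha k
      have h2 : φ (a ^ k) ∈ ((I' ^ k) ^ n).map φ := Ideal.mem_map_of_mem _ h1
      rw [Ideal.map_pow] at h2
      have h3 := Ideal.pow_right_mono hk n h2
      rw [← pow_mul] at h3
      rw [← map_pow]
      exact Ideal.pow_le_pow_right (by nlinarith) h3
  · intro H
    classical
    obtain ⟨S, rfl⟩ := hI'
    have key : ∀ T : Finset A', (∀ a ∈ T, a ∈ Ideal.span (S : Set A')) →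
        ∃ k, (Ideal.span (φ '' (T : Set A'))) ^ k ≤ I ^ (k + 1) := by
      intro T
      induction T using Finset.induction_on with
      | empty => intro _; exact ⟨1, by simp⟩
      | insert a T ha ih =>
        intro hT
        obtain ⟨k₂, hk₂⟩ := ih (fun b hb => hT b (Finset.mem_insert_of_mem hb))
        obtain ⟨k₁, hk₁pos, hk₁⟩ := H 1 le_rfl a (by
          rw [pow_one]; exact hT a (Finset.mem_insert_self a T))
        rw [one_mul] at hk₁
        refine ⟨k₁ + k₂, ?_⟩
        rw [Finset.coe_insert, Set.image_insert_eq, Ideal.span_insert]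
        refine qsup I _ _ ?_ ?_ k₁ k₂ ?_ hk₂
        · rw [Ideal.span_le, Set.singleton_subset_iff]
          exact hle (Ideal.mem_map_of_mem _ (hT a (Finset.mem_insert_self a T)))
        · rw [Ideal.span_le]
          rintro _ ⟨b, hb, rfl⟩
          exact hle (Ideal.mem_map_of_mem _ (hT b (Finset.mem_insert_of_mem hb)))
        · rw [Ideal.span_singleton_pow, Ideal.span_le, Set.singleton_subset_iff]
          exact hk₁
    obtain ⟨k, hk⟩ := key S (fun a ha => Ideal.subset_span ha)
    refine ⟨k, ?_⟩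
    rw [Ideal.map_pow, Ideal.map_span]
    exact hk

end Groth.Agent.S18390
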