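import Groth.Statements.S18391
import Groth.Agent.Lib.Helper17.HeightOne

set_option autoImplicit false
universe u
open LVCorr

namespace Groth.Agent.S18391

/-- Let A be a normal (integrally closed) Noetherian domain and z an element of A such that the radical
of the principal ideal (z) is prime. Then there exist elements w, t of A and a natural number r,
with w not in the radical of (z), such that in the localization A[1/w] the ideal generated by z
equals the ideal generated by t^r and the ideal generated by t is prime. (The condition on w is the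
one the printed proof produces and the later use of the lemma needs.) -/
theorem result (A : Type u) [CommRing A] [IsDomain A]
    [IsNoetherianRing A] [IsIntegrallyClosed A] (z : A) (hz : (Ideal.span {z}).radical.IsPrime) :
    ∃ (w t : A) (r : ℕ), w ∉ (Ideal.span {z}).radical ∧
      Ideal.span {algebraMap A (Localization.Away w) z} =
        Ideal.span {algebraMap A (Localization.Away w) t ^ r} ∧
      (Ideal.span {algebraMap A (Localization.Away w) t}).IsPrime := by
  classical
  by_cases hz0 : z = 0
  · subst hz0
    refine ⟨1, 0, 1, ?_, by simp, ?_⟩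
    · intro h
      exact hz.ne_top ((Ideal.eq_top_iff_one _).mpr h)
    · have : IsDomain (Localization.Away (1 : A)) :=
        IsLocalization.isDomain_localization
          (powers_le_nonZeroDivisors_of_noZeroDivisors one_ne_zero)
      rw [map_zero, Ideal.span_singleton_eq_bot.mpr rfl]
      exact Ideal.isPrime_bot
  obtain ⟨P, hPdef⟩ : ∃ P, P = (Ideal.span {z}).radical := ⟨_, rfl⟩
  have hP : P.IsPrime := hPdef ▸ hz
  rw [← hPdef]
  have hzP : z ∈ P := hPdef ▸ Ideal.le_radical (Ideal.mem_span_singleton_self z)
  have hPmin : P ∈ (Ideal.span {z}).minimalPrimes := by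
    refine ⟨⟨hP, hPdef ▸ Ideal.le_radical⟩, fun Q ⟨hQ, hzQ⟩ _ => ?_⟩
    rw [hPdef]
    exact hQ.radical_le_iff.mpr hzQ
  have hht : P.height ≤ 1 :=
    Ideal.height_le_one_of_isPrincipal_of_mem_minimalPrimes (Ideal.span {z}) P hPmin
  obtain ⟨hprin, hpow⟩ := Groth.Agent.Lib.Helper17.HeightOne.localization_height_le_one A P hht
  have hinj : Function.Injective (algebraMap A (Localization.AtPrime P)) := by
    apply IsLocalization.injective (Localization.AtPrime P) (M := P.primeCompl)
    intro x hx
    rw [mem_nonZeroDivisors_iff_ne_zero]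
    rintro rfl
    exact hx P.zero_mem
  -- a generator of the maximal ideal coming from `A`
  obtain ⟨t, htgen⟩ : ∃ t : A, IsLocalRing.maximalIdeal (Localization.AtPrime P) =
      Ideal.span {algebraMap A (Localization.AtPrime P) t} := by
    obtain ⟨π, hπ⟩ := hprin.principal
    obtain ⟨a, s, rfl⟩ := IsLocalization.exists_mk'_eq P.primeCompl π
    refine ⟨a, ?_⟩
    rw [hπ]
    change Ideal.span _ = _
    have hs : IsUnit (algebraMap A (Localization.AtPrime P) s) :=
      IsLocalization.map_units (Localization.AtPrime P) s
    have hspec : IsLocalization.mk' (Localization.AtPrime P) a s *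
        algebraMap A (Localization.AtPrime P) s = algebraMap A (Localization.AtPrime P) a :=
      IsLocalization.mk'_spec _ a s
    rw [← hspec]
    exact (Ideal.span_singleton_mul_right_unit hs _).symm
  have htP : t ∈ P := by
    rw [← IsLocalization.AtPrime.to_map_mem_maximal_iff (Localization.AtPrime P) P, htgen]
    exact Ideal.mem_span_singleton_self _
  -- (z) = m^r in the localization
  have hzL : Ideal.span {algebraMap A (Localization.AtPrime P) z} ≠ ⊥ := by
    rw [Ne, Ideal.span_singleton_eq_bot]
    intro h0
    exact hz0 (hinj (by rw [h0, map_zero]))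
  obtain ⟨r, hr⟩ := hpow _ hzL
  rw [htgen, Ideal.span_singleton_pow] at hr
  -- z = t^r * x and t^r = z * y in the localization
  obtain ⟨x, hx⟩ : algebraMap A (Localization.AtPrime P) t ^ r ∣
      algebraMap A (Localization.AtPrime P) z := by
    rw [← Ideal.span_singleton_le_span_singleton, hr]
  obtain ⟨y, hy⟩ : algebraMap A (Localization.AtPrime P) z ∣
      algebraMap A (Localization.AtPrime P) t ^ r := by
    rw [← Ideal.span_singleton_le_span_singleton, hr]
  obtain ⟨b₁, s₁, rfl⟩ := IsLocalization.exists_mk'_eq P.primeCompl x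
  obtain ⟨b₂, s₂, rfl⟩ := IsLocalization.exists_mk'_eq P.primeCompl y
  have e₁ : z * s₁ = t ^ r * b₁ := by
    apply hinj
    rw [map_mul, map_mul, map_pow, hx, mul_assoc, IsLocalization.mk'_spec]
  have e₂ : t ^ r * s₂ = z * b₂ := by
    apply hinj
    rw [map_mul, map_mul, map_pow, hy, mul_assoc, IsLocalization.mk'_spec]
  -- generators of P
  obtain ⟨G, hG⟩ := (isNoetherianRing_iff_ideal_fg A).mp inferInstance P
  have hGt : ∀ g : A, ∃ (s : A) (c : A), g ∈ G → s ∉ P ∧ g * s = t * c := by
    intro g
    by_cases hg : g ∈ G
    · have hgP : g ∈ P := hG ▸ Ideal.subset_span hg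
      have hgm : algebraMap A (Localization.AtPrime P) g ∈
          Ideal.span {algebraMap A (Localization.AtPrime P) t} := by
        rw [← htgen]
        exact (IsLocalization.AtPrime.to_map_mem_maximal_iff (Localization.AtPrime P) P g).mpr hgP
      obtain ⟨q, hq⟩ := Ideal.mem_span_singleton.mp hgm
      obtain ⟨c, s, rfl⟩ := IsLocalization.exists_mk'_eq P.primeCompl q
      refine ⟨s, c, fun _ => ⟨s.2, ?_⟩⟩
      apply hinj
      rw [map_mul, map_mul, hq, mul_assoc, IsLocalization.mk'_spec]
    · exact ⟨0, 0, fun h => absurd h hg⟩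
  choose sg cg hsg using hGt
  let w : A := s₁ * s₂ * ∏ g ∈ G, sg g
  have hwP : w ∉ P := by
    intro hw
    rcases hP.mem_or_mem hw with h | h
    · rcases hP.mem_or_mem h with h | h
      · exact s₁.2 h
      · exact s₂.2 h
    · obtain ⟨g, hg, hgP⟩ := (hP.prod_mem_iff).mp h
      exact (hsg g hg).1 hgP
  refine ⟨w, t, r, hwP, ?_, ?_⟩
  · have hwB : IsUnit (algebraMap A (Localization.Away w) w) :=
      IsLocalization.Away.algebraMap_isUnit w
    have hs₁ : IsUnit (algebraMap A (Localization.Away w) s₁) := by
      refine isUnit_of_dvd_unit ?_ hwB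
      exact map_dvd _ ⟨s₂ * ∏ g ∈ G, sg g, by simp only [w]; ring⟩
    have hs₂ : IsUnit (algebraMap A (Localization.Away w) s₂) := by
      refine isUnit_of_dvd_unit ?_ hwB
      exact map_dvd _ ⟨s₁ * ∏ g ∈ G, sg g, by simp only [w]; ring⟩
    obtain ⟨u₁, hu₁⟩ := hs₁.exists_right_inv
    obtain ⟨u₂, hu₂⟩ := hs₂.exists_right_inv
    apply le_antisymm
    · rw [Ideal.span_singleton_le_span_singleton]
      refine ⟨algebraMap A (Localization.Away w) b₁ * u₁, ?_⟩
      have := congrArg (algebraMap A (Localization.Away w)) e₁
      rw [map_mul, map_mul, map_pow] at this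
      rw [← mul_assoc, ← this, mul_assoc, hu₁, mul_one]
    · rw [Ideal.span_singleton_le_span_singleton]
      refine ⟨algebraMap A (Localization.Away w) b₂ * u₂, ?_⟩
      have := congrArg (algebraMap A (Localization.Away w)) e₂
      rw [map_mul, map_mul, map_pow] at this
      rw [← mul_assoc, ← this, mul_assoc, hu₂, mul_one]
  · have hwB : IsUnit (algebraMap A (Localization.Away w) w) :=
      IsLocalization.Away.algebraMap_isUnit w
    have hmap : Ideal.span {algebraMap A (Localization.Away w) t} =
        P.map (algebraMap A (Localization.Away w)) := by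
      apply le_antisymm
      · rw [Ideal.span_singleton_le_iff_mem]
        exact Ideal.mem_map_of_mem _ htP
      · rw [← hG, Ideal.map_span, Ideal.span_le]
        rintro _ ⟨g, hg, rfl⟩
        have hsgu : IsUnit (algebraMap A (Localization.Away w) (sg g)) := by
          refine isUnit_of_dvd_unit ?_ hwB
          refine map_dvd _ ?_
          exact Dvd.dvd.mul_left (Finset.dvd_prod_of_mem sg hg) _
        obtain ⟨u, hu⟩ := hsgu.exists_right_inv
        rw [SetLike.mem_coe, Ideal.mem_span_singleton]
        refine ⟨algebraMap A (Localization.Away w) (cg g) * u, ?_⟩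
        have := congrArg (algebraMap A (Localization.Away w)) (hsg g hg).2
        rw [map_mul, map_mul] at this
        rw [← mul_assoc, ← this, mul_assoc, hu, mul_one]
    rw [hmap]
    apply IsLocalization.isPrime_of_isPrime_disjoint (Submonoid.powers w) _ P hP
    rw [Set.disjoint_left]
    rintro _ ⟨n, rfl⟩ hn
    exact hwP (hP.mem_of_pow_mem n hn)

end Groth.Agent.S18391
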