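import Groth.Statements.S18392
import Groth.Agent.Lib.Helper17.HeightOne

set_option autoImplicit false
universe u
open LVCorr

namespace Groth.Agent.S18392

/-- Let A be a normal (integrally closed) Noetherian domain and z an element of A such that the radical
of (z) is prime. Then for every non-empty open subset V of Spec A contained in the basic open set
D(z) (that is, every non-empty open subset of Spec A[1/z]) there is an element x of A, not in the
radical of (z), such that the basic open set D(xz) = Spec A[1/xz] is contained in V. -/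
theorem result (A : Type u) [CommRing A]
    [IsDomain A] [IsNoetherianRing A] [IsIntegrallyClosed A] (z : A)
    (hz : (Ideal.span {z}).radical.IsPrime) (V : Set (PrimeSpectrum A)) (hV : IsOpen V)
    (hVz : V ⊆ (PrimeSpectrum.basicOpen z : Set (PrimeSpectrum A))) (hne : V.Nonempty) :
    ∃ x : A, x ∉ (Ideal.span {z}).radical ∧
      ((PrimeSpectrum.basicOpen (x * z) : TopologicalSpace.Opens (PrimeSpectrum A)) :
        Set (PrimeSpectrum A)) ⊆ V := by
  classical
  obtain ⟨p, hpV⟩ := hne
  obtain ⟨U, ⟨g, rfl⟩, hpU, hUV⟩ :=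
    (PrimeSpectrum.isTopologicalBasis_basic_opens).exists_subset_of_mem_open hpV hV
  have hg0 : g ≠ 0 := by
    rintro rfl
    exact hpU p.asIdeal.zero_mem
  have hz0 : z ≠ 0 := by
    rintro rfl
    exact hVz hpV p.asIdeal.zero_mem
  obtain ⟨P, hPdef⟩ : ∃ P, P = (Ideal.span {z}).radical := ⟨_, rfl⟩
  have hP : P.IsPrime := hPdef ▸ hz
  rw [← hPdef]
  have hzP : z ∈ P := hPdef ▸ Ideal.le_radical (Ideal.mem_span_singleton_self z)
  have hgP : g ∈ P := by
    rw [hPdef, ← PrimeSpectrum.basicOpen_le_basicOpen_iff]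
    exact fun q hq => hVz (hUV hq)
  have hPmin : P ∈ (Ideal.span {z}).minimalPrimes := by
    refine ⟨⟨hP, hPdef ▸ Ideal.le_radical⟩, fun Q ⟨hQ, hzQ⟩ _ => ?_⟩
    rw [hPdef]
    exact hQ.radical_le_iff.mpr hzQ
  have hht : P.height ≤ 1 :=
    Ideal.height_le_one_of_isPrincipal_of_mem_minimalPrimes (Ideal.span {z}) P hPmin
  obtain ⟨-, hpow⟩ := Groth.Agent.Lib.Helper17.HeightOne.localization_height_le_one A P hht
  have hinj : Function.Injective (algebraMap A (Localization.AtPrime P)) := by
    apply IsLocalization.injective (Localization.AtPrime P) (M := P.primeCompl)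
    intro x hx
    rw [mem_nonZeroDivisors_iff_ne_zero]
    rintro rfl
    exact hx P.zero_mem
  have hne0 : ∀ a : A, a ≠ 0 → Ideal.span {algebraMap A (Localization.AtPrime P) a} ≠ ⊥ := by
    intro a ha
    rw [Ne, Ideal.span_singleton_eq_bot]
    intro h0
    exact ha (hinj (by rw [h0, map_zero]))
  obtain ⟨r, hr⟩ := hpow _ (hne0 z hz0)
  obtain ⟨e, he⟩ := hpow _ (hne0 g hg0)
  have hr1 : r ≠ 0 := by
    rintro rfl
    rw [pow_zero, Ideal.one_eq_top, Ideal.span_singleton_eq_top] at hr
    have := (IsLocalization.AtPrime.isUnit_to_map_iff (Localization.AtPrime P) P z).mp hr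
    exact this hzP
  -- (z^e) = (g^r)
  have hpw : Ideal.span {algebraMap A (Localization.AtPrime P) z ^ e} =
      Ideal.span {algebraMap A (Localization.AtPrime P) g ^ r} := by
    rw [← Ideal.span_singleton_pow, ← Ideal.span_singleton_pow, hr, he, ← pow_mul, ← pow_mul,
      mul_comm]
  obtain ⟨q, hq⟩ : algebraMap A (Localization.AtPrime P) g ^ r ∣
      algebraMap A (Localization.AtPrime P) z ^ e := by
    rw [← Ideal.span_singleton_le_span_singleton, hpw]
  obtain ⟨b, s, rfl⟩ := IsLocalization.exists_mk'_eq P.primeCompl q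
  have e₁ : z ^ e * s = g ^ r * b := by
    apply hinj
    rw [map_mul, map_mul, map_pow, map_pow, hq, mul_assoc, IsLocalization.mk'_spec]
  refine ⟨s, s.2, ?_⟩
  refine subset_trans ?_ hUV
  have hmem : (s : A) * z ∈ (Ideal.span {g}).radical := by
    refine ⟨e + 1, ?_⟩
    rw [Ideal.mem_span_singleton]
    obtain ⟨r', rfl⟩ := Nat.exists_eq_succ_of_ne_zero hr1
    refine ⟨g ^ r' * b * (s : A) ^ e * z, ?_⟩
    calc ((s : A) * z) ^ (e + 1) = (s : A) ^ e * (z ^ e * s) * z := by ring
      _ = (s : A) ^ e * (g ^ (r' + 1) * b) * z := by rw [e₁]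
      _ = g * (g ^ r' * b * (s : A) ^ e * z) := by ring
  exact (PrimeSpectrum.basicOpen_le_basicOpen_iff _ _).mpr hmem

end Groth.Agent.S18392
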