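import Groth.Statements.S18393
-- import your own Groth.Agent.* helpers here

set_option autoImplicit false
universe u v
open LVCorr

namespace Groth.Agent.S18393

/-- Stated for the underlying continuous maps. Let c₁, c₂ : C → X be continuous maps with C a Noetherian
topological space, let Z be a closed subset of X and B the closure in C of c₂⁻¹(Z) ∖ c₁⁻¹(Z). Call Z
locally invariant when every point x of Z has an open neighbourhood U such that every y in C with
c₂(y) ∈ Z ∩ U and c₁(y) ∈ U satisfies c₁(y) ∈ Z. Then Z is locally invariant if and only if for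
every irreducible subset T of B the closures of c₁(T) and of c₂(T) in X are disjoint. (The source
states this for a correspondence c = (c₁, c₂) : C → X × X of separated schemes of finite type over
an algebraically closed field and for the irreducible components of B; the condition for all
irreducible subsets of B is the same condition.) -/
theorem result {C : Type u} {X : Type v}
    [TopologicalSpace C] [TopologicalSpace X] [TopologicalSpace.NoetherianSpace C]
    (c₁ c₂ : C → X) (hc₁ : Continuous c₁) (hc₂ : Continuous c₂) (Z : Set X) (hZ : IsClosed Z) :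
    (∀ x ∈ Z, ∃ U : Set X, IsOpen U ∧ x ∈ U ∧
        ∀ y : C, c₂ y ∈ Z → c₂ y ∈ U → c₁ y ∈ U → c₁ y ∈ Z) ↔
      ∀ T : Set C, T ⊆ closure (c₂ ⁻¹' Z \ c₁ ⁻¹' Z) → IsIrreducible T →
        closure (c₁ '' T) ∩ closure (c₂ '' T) = ∅ := by
  set W := c₂ ⁻¹' Z \ c₁ ⁻¹' Z with hW
  have hBZ : closure W ⊆ c₂ ⁻¹' Z := closure_minimal (fun y hy => hy.1) (hZ.preimage hc₂)
  constructor
  · intro H T hT hTirr
    rw [Set.eq_empty_iff_forall_notMem]
    rintro x ⟨hx1, hx2⟩
    have hxZ : x ∈ Z := by
      have : c₂ '' T ⊆ Z := by rintro _ ⟨y, hy, rfl⟩; exact hBZ (hT hy)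
      exact (closure_minimal this hZ) hx2
    obtain ⟨U, hUo, hxU, hU⟩ := H x hxZ
    have h1 : (T ∩ c₁ ⁻¹' U).Nonempty := by
      obtain ⟨_, hzU, ⟨y, hyT, rfl⟩⟩ := mem_closure_iff.mp hx1 U hUo hxU
      exact ⟨y, hyT, hzU⟩
    have h2 : (T ∩ c₂ ⁻¹' U).Nonempty := by
      obtain ⟨_, hzU, ⟨y, hyT, rfl⟩⟩ := mem_closure_iff.mp hx2 U hUo hxU
      exact ⟨y, hyT, hzU⟩
    obtain ⟨y, hyT, hy1, hy2⟩ := hTirr.isPreirreducible (c₁ ⁻¹' U) (c₂ ⁻¹' U)
      (hUo.preimage hc₁) (hUo.preimage hc₂) h1 h2
    obtain ⟨w, ⟨hw1, hw2⟩, hwW⟩ := mem_closure_iff.mp (hT hyT) (c₁ ⁻¹' U ∩ c₂ ⁻¹' U)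
      ((hUo.preimage hc₁).inter (hUo.preimage hc₂)) ⟨hy1, hy2⟩
    exact hwW.2 (hU w hwW.1 hw2 hw1)
  · intro H x hxZ
    obtain ⟨S, hSfin, hScl, hSirr, hSeq⟩ :=
      TopologicalSpace.NoetherianSpace.exists_finite_set_isClosed_irreducible
        (isClosed_closure (s := W))
    have hT : ∀ T ∈ S, x ∉ closure (c₁ '' T) ∨ x ∉ closure (c₂ '' T) := by
      intro T hTS
      have := H T (by rw [hSeq]; exact Set.subset_sUnion_of_mem hTS) (hSirr T hTS)
      by_contra hcon
      push Not at hcon
      exact (Set.eq_empty_iff_forall_notMem.mp this x) ⟨hcon.1, hcon.2⟩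
    classical
    let F : Set C → Set X := fun T =>
      if x ∈ closure (c₁ '' T) then closure (c₂ '' T) else closure (c₁ '' T)
    refine ⟨(⋃ T ∈ S, F T)ᶜ, ?_, ?_, ?_⟩
    · rw [isOpen_compl_iff]
      exact hSfin.isClosed_biUnion (fun T _ => by
        simp only [F]; split_ifs <;> exact isClosed_closure)
    · simp only [Set.mem_compl_iff, Set.mem_iUnion, not_exists]
      intro T hTS
      simp only [F]
      split_ifs with h
      · exact (hT T hTS).resolve_left (not_not.mpr h)
      · exact h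
    · intro y hy2Z hy2U hy1U
      by_contra hy1Z
      have hyW : y ∈ W := ⟨hy2Z, hy1Z⟩
      have hyB : y ∈ closure W := subset_closure hyW
      rw [hSeq] at hyB
      obtain ⟨T, hTS, hyT⟩ := hyB
      have : c₁ y ∈ F T ∨ c₂ y ∈ F T := by
        simp only [F]
        split_ifs
        · right; exact subset_closure ⟨y, hyT, rfl⟩
        · left; exact subset_closure ⟨y, hyT, rfl⟩
      rcases this with h | h
      · exact hy1U (Set.mem_biUnion hTS h)
      · exact hy2U (Set.mem_biUnion hTS h)

end Groth.Agent.S18393
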