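import Groth.Statements.S18396
import Groth.Agent.Lib.Helper29.IdealComap
import Mathlib

set_option autoImplicit false
universe u
open LVCorr

namespace Groth.Agent.S18396

section Helpers

open CategoryTheory CategoryTheory.Limits AlgebraicGeometry TopologicalSpace Opposite

/-- being an `N`-th power -/
def IsNPow {R : Type u} [CommRing R] (N : ℕ) (x : R) : Prop := ∃ y, x = y ^ N

theorem IsNPow.map {R S : Type u} [CommRing R] [CommRing S] {N : ℕ} {x : R} (h : IsNPow N x)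
    (φ : R →+* S) : IsNPow N (φ x) := by
  obtain ⟨y, rfl⟩ := h
  exact ⟨φ y, map_pow φ y N⟩

section FrobPow

variable (Z : Scheme.{u}) (p : ℕ) [Fact p.Prime] [FrobSch.IsCharP Z p]

/-- sections pulled back along the `k`-th power of the absolute Frobenius are `p^k`-th powers. -/
theorem frobPow_app_isNPow (k : ℕ) (U : Z.Opens) (a : Γ(Z, U)) :
    IsNPow (p ^ k) ((End.asHom (End.of (FrobSch.frob Z p) ^ k)).app U a) := by
  induction k generalizing U a with
  | zero =>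
    rw [pow_zero]
    exact ⟨_, (pow_one _).symm⟩
  | succ k ih =>
    have e : End.asHom (End.of (FrobSch.frob Z p) ^ (k + 1)) =
        FrobSch.frob Z p ≫ End.asHom (End.of (FrobSch.frob Z p) ^ k) := by
      rw [pow_succ, End.mul_def]
    have h1 := Scheme.Hom.congr_app e U
    rw [h1, CommRingCat.comp_apply]
    apply IsNPow.map (φ := (Z.presheaf.map _).hom)
    change IsNPow _ ((FrobSch.frob Z p).app ((End.asHom (End.of (FrobSch.frob Z p) ^ k)) ⁻¹ᵁ U)
      (Scheme.Hom.app (End.asHom (End.of (FrobSch.frob Z p) ^ k)) U a))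
    obtain ⟨y, hy⟩ := ih U a
    rw [hy, FrobSch.frob_app]
    exact ⟨y, by rw [← pow_mul, pow_succ]; rfl⟩

end FrobPow

section NPow

variable (p : ℕ) [Fact p.Prime]

/-- the `p^k`-th power ring endomorphism of a ring in which `p = 0`. -/
def powHomK (R : Type u) [CommRing R] (h : (p : R) = 0) (k : ℕ) : R →+* R :=
  (FrobSch.powHom p R h) ^ k

theorem powHomK_apply (R : Type u) [CommRing R] (h : (p : R) = 0) (k : ℕ) (r : R) :
    powHomK p R h k r = r ^ (p ^ k) := by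
  have h1 : ⇑(FrobSch.powHom p R h) = fun x => x ^ p := rfl
  rw [powHomK, RingHom.coe_pow, h1, pow_iterate]

theorem mem_range_powHomK (R : Type u) [CommRing R] (h : (p : R) = 0) (k : ℕ) (x : R) :
    x ∈ (powHomK p R h k).range ↔ IsNPow (p ^ k) x := by
  rw [RingHom.mem_range]
  constructor
  · rintro ⟨y, rfl⟩
    exact ⟨y, powHomK_apply p R h k y⟩
  · rintro ⟨y, rfl⟩
    exact ⟨y, powHomK_apply p R h k y⟩

end NPow

theorem subring_eq_top_of_isPushout {R A B P : CommRingCat.{u}} {f : R ⟶ A} {g : R ⟶ B}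
    {inl : A ⟶ P} {inr : B ⟶ P} (h : IsPushout f g inl inr) (K : Subring P)
    (h₁ : ∀ a, inl a ∈ K) (h₂ : ∀ b, inr b ∈ K) : K = ⊤ := by
  let Kc : CommRingCat.{u} := CommRingCat.of K
  let ι : Kc ⟶ P := CommRingCat.ofHom K.subtype
  let j₁ : A ⟶ Kc := CommRingCat.ofHom (inl.hom.codRestrict K h₁)
  let j₂ : B ⟶ Kc := CommRingCat.ofHom (inr.hom.codRestrict K h₂)
  have e₁ : j₁ ≫ ι = inl := by ext x; rfl
  have e₂ : j₂ ≫ ι = inr := by ext x; rfl
  have comm : f ≫ j₁ = g ≫ j₂ := by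
    ext x
    have := congrArg (fun t => t x) (congrArg (fun t => ConcreteCategory.hom t) h.w)
    exact this
  have hdesc : h.desc j₁ j₂ comm ≫ ι = 𝟙 P := by
    apply h.hom_ext
    · rw [← Category.assoc, h.inl_desc, e₁, Category.comp_id]
    · rw [← Category.assoc, h.inr_desc, e₂, Category.comp_id]
  rw [eq_top_iff]
  intro c _
  have : ι (h.desc j₁ j₂ comm c) = c := by
    have := congrArg (fun t => t c) (congrArg (fun t => ConcreteCategory.hom t) hdesc)
    exact this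
  rw [← this]
  exact (h.desc j₁ j₂ comm c).2

section P

variable {C : Scheme.{u}} (p : ℕ) [Fact p.Prime] [FrobSch.IsCharP C p] (k : ℕ) (Fr : C ⟶ C)

/-- the subring of sections whose pullback along `Fr` is a `p^k`-th power. -/
def P (V : C.Opens) : Subring Γ(C, V) :=
  (powHomK p Γ(C, Fr ⁻¹ᵁ V) (FrobSch.natCast_eq_zero_app C p _) k).range.comap (Fr.app V).hom

theorem mem_P {V : C.Opens} (m : Γ(C, V)) : m ∈ P p k Fr V ↔ IsNPow (p ^ k) (Fr.app V m) := by
  rw [P, Subring.mem_comap, mem_range_powHomK]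

theorem P_res {V V' : C.Opens} (h : V' ≤ V) {c : Γ(C, V)} (hc : c ∈ P p k Fr V) :
    C.presheaf.map (homOfLE h).op c ∈ P p k Fr V' := by
  rw [mem_P] at hc ⊢
  have hn := Fr.naturality (homOfLE h).op
  have h1 : Fr.app V' (C.presheaf.map (homOfLE h).op c) =
      C.presheaf.map ((Opens.map Fr.base).map (homOfLE h)).op (Fr.app V c) := by
    have := congrArg (fun t => t c) (congrArg (fun t => (ConcreteCategory.hom t)) hn)
    exact this
  rw [h1]
  exact hc.map (C.presheaf.map _).hom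

theorem P_inv {V : C.Opens} {u v : Γ(C, V)} (hu : u ∈ P p k Fr V) (huv : u * v = 1) :
    v ∈ P p k Fr V := by
  rw [mem_P] at hu ⊢
  obtain ⟨y, hy⟩ := hu
  have h1 : Fr.app V u * Fr.app V v = 1 := by rw [← map_mul, huv, map_one]
  -- y is a unit
  have hN : 0 < p ^ k := pow_pos (Fact.out : p.Prime).pos k
  have hyu : IsUnit (y ^ (p ^ k)) := by
    rw [← hy]
    exact IsUnit.of_mul_eq_one _ h1
  have hy' : IsUnit y := (isUnit_pow_iff hN.ne').mp hyu
  obtain ⟨w, hw⟩ := hy'.exists_right_inv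
  refine ⟨w, ?_⟩
  have h2 : y ^ (p ^ k) * w ^ (p ^ k) = 1 := by rw [← mul_pow, hw, one_pow]
  rw [hy] at h1
  calc Fr.app V v = (w ^ (p ^ k) * y ^ (p ^ k)) * Fr.app V v := by
        rw [mul_comm (w ^ (p ^ k)), h2, one_mul]
    _ = w ^ (p ^ k) * (y ^ (p ^ k) * Fr.app V v) := by rw [mul_assoc]
    _ = w ^ (p ^ k) := by rw [h1, mul_one]

theorem P_of_mul_unit {V : C.Opens} {z u : Γ(C, V)} (hu : u ∈ P p k Fr V) (hunit : IsUnit u)
    (hzu : z * u ∈ P p k Fr V) : z ∈ P p k Fr V := by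
  obtain ⟨v, hv⟩ := hunit.exists_right_inv
  have hvK := P_inv p k Fr hu hv
  have : z = (z * u) * v := by rw [mul_assoc, hv, mul_one]
  rw [this]
  exact (P p k Fr V).mul_mem hzu hvK

theorem P_basicOpen {W : C.Opens} (hW : IsAffineOpen W) (hK : P p k Fr W = ⊤) (h : Γ(C, W)) :
    P p k Fr (C.basicOpen h) = ⊤ := by
  rw [eq_top_iff]
  intro z _
  have := hW.isLocalization_basicOpen h
  obtain ⟨n, a, hz⟩ := IsLocalization.Away.surj h z
  have ha : algebraMap Γ(C, W) Γ(C, C.basicOpen h) a ∈ P p k Fr (C.basicOpen h) :=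
    P_res p k Fr (C.basicOpen_le h) (hK ▸ Subring.mem_top a)
  have hh : algebraMap Γ(C, W) Γ(C, C.basicOpen h) h ∈ P p k Fr (C.basicOpen h) :=
    P_res p k Fr (C.basicOpen_le h) (hK ▸ Subring.mem_top h)
  refine P_of_mul_unit p k Fr ((P p k Fr _).pow_mem hh n)
    ((IsLocalization.Away.algebraMap_isUnit h).pow n) ?_
  rw [hz]
  exact ha

end P

section Chart

variable {C C₀ : Scheme.{u}} (p : ℕ) [Fact p.Prime] [FrobSch.IsCharP C p] (k : ℕ) (Fr : C ⟶ C)

theorem P_of_comp {A : Scheme.{u}} (q r : C ⟶ A) (e : Fr ≫ q = r) (U : A.Opens) (c : Γ(A, U))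
    (hr : IsNPow (p ^ k) (r.app U c)) : q.app U c ∈ P p k Fr (q ⁻¹ᵁ U) := by
  subst e
  rw [mem_P]
  exact hr

theorem isNPow_Γ_Spec_of_isAlgClosed (K : Type u) [Field K] [IsAlgClosed K] (N : ℕ) (hN : 0 < N)
    (x : Γ(Spec (CommRingCat.of K), ⊤)) : IsNPow N x := by
  obtain ⟨ν, hν⟩ := IsAlgClosed.exists_pow_nat_eq ((Scheme.ΓSpecIso (CommRingCat.of K)).hom x) hN
  refine ⟨(Scheme.ΓSpecIso (CommRingCat.of K)).inv ν, ?_⟩
  rw [← map_pow, hν]
  exact ((Scheme.ΓSpecIso (CommRingCat.of K)).hom_inv_id_apply x).symm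

theorem P_top_of_chart [FrobSch.IsCharP C₀ p] (k₀ K : Type u) [Field k₀] [Field K] [Algebra k₀ K]
    [IsAlgClosed K] (f₀ : C₀ ⟶ Spec (CommRingCat.of k₀))
    (πC₀ : C ⟶ C₀) (πK : C ⟶ Spec (CommRingCat.of K))
    (hC : IsPullback πC₀ πK f₀ (Spec.map (CommRingCat.ofHom (algebraMap k₀ K))))
    (hFr₀ : Fr ≫ πC₀ = πC₀ ≫ End.asHom (End.of (FrobSch.frob C₀ p) ^ k))
    (hFrK : Fr ≫ πK = πK) (U₀ : C₀.Opens) (hU₀ : IsAffineOpen U₀) :
    P p k Fr (πC₀ ⁻¹ᵁ U₀ ⊓ πK ⁻¹ᵁ ⊤) = ⊤ := by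
  have hUST : (⊤ : (Spec (CommRingCat.of K)).Opens) ≤
      (Spec.map (CommRingCat.ofHom (algebraMap k₀ K))) ⁻¹ᵁ ⊤ := le_top
  have hUSX : U₀ ≤ f₀ ⁻¹ᵁ ⊤ := le_top
  have hpo := (isIso_pushoutSection_iff hC hUST hUSX rfl).mp
    (isIso_pushoutSection_of_isAffineOpen hC hUST hUSX rfl (isAffineOpen_top _)
      (isAffineOpen_top _) hU₀)
  refine subring_eq_top_of_isPushout hpo _ (fun a => ?_) (fun l => ?_)
  · refine P_res p k Fr inf_le_left (P_of_comp p k Fr πC₀ _ hFr₀ U₀ a ?_)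
    have := frobPow_app_isNPow C₀ p k U₀ a
    exact this.map (πC₀.app _).hom
  · refine P_res p k Fr inf_le_right (P_of_comp p k Fr πK _ hFrK ⊤ l ?_)
    exact (isNPow_Γ_Spec_of_isAlgClosed K _ (pow_pos (Fact.out : p.Prime).pos k) l).map
      (πK.app ⊤).hom

end Chart


end Helpers

open AlgebraicGeometry CategoryTheory in
/-- A sufficiently Frobenius-twisted correspondence is contracting near an invariant closed subscheme.
Let k₀ be a finite field with p^e elements, K an algebraic closure of k₀, C₀ a scheme over k₀ and C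
= C₀ ×_{k₀} Spec K with its two projections; let Fr : C → C be the n-th power of the geometric
Frobenius of C, i.e. the endomorphism over K whose composite with the projection to C₀ is that
projection followed by the (e·n)-th power of the absolute p-Frobenius of C₀. Let c₁, c₂ : C → X be
morphisms to a scheme X, I a quasi-coherent sheaf of ideals on X with zero locus Z, J the inverse
image ideal sheaf of I under c₂, and d a natural number with (√J)^d ⊂ J and d < p^(e n). If c₁ ∘ Fr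
maps c₂⁻¹(Z) into Z set-theoretically, then the inverse image ideal sheaf L of I under c₁ ∘ Fr
satisfies L ⊂ J and L^d ⊂ J^(d+1); that is, the twisted correspondence (c₁ ∘ Fr, c₂) stabilizes Z
and is contracting near Z. (In the source the correspondence is defined over k₀, the twist is
written with the geometric Frobenius of X, which gives the same first component, and d is the
ramification of c₂ at Z, the least exponent with (√J)^d ⊂ J; only the k₀-structure of C and the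
inequality (√J)^d ⊂ J are used.) -/
theorem result {C C₀ X : Scheme.{u}} (p : ℕ) [Fact p.Prime]
    (k₀ : Type u) [Field k₀] [Fintype k₀] [CharP k₀ p] (e : ℕ) (hq : Fintype.card k₀ = p ^ e)
    (K : Type u) [Field K] [Algebra k₀ K] [IsAlgClosure k₀ K]
    (f₀ : C₀ ⟶ Spec (CommRingCat.of k₀)) [FrobSch.IsCharP C₀ p]
    (πC₀ : C ⟶ C₀) (πK : C ⟶ Spec (CommRingCat.of K))
    (hC : IsPullback πC₀ πK f₀ (Spec.map (CommRingCat.ofHom (algebraMap k₀ K))))
    (n : ℕ) (Fr : C ⟶ C)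
    (hFr₀ : Fr ≫ πC₀ = πC₀ ≫ End.asHom (End.of (FrobSch.frob C₀ p) ^ (e * n)))
    (hFrK : Fr ≫ πK = πK)
    (c₁ c₂ : C ⟶ X) (I : X.IdealSheafData) (d : ℕ)
    (hd : (I.comap c₂).radical ^ d ≤ I.comap c₂) (hn : d < p ^ (e * n))
    (hinv : (Fr ≫ c₁).base '' (c₂.base ⁻¹' (I.support : Set X)) ⊆ (I.support : Set X)) :
    I.comap (Fr ≫ c₁) ≤ I.comap c₂ ∧ I.comap (Fr ≫ c₁) ^ d ≤ I.comap c₂ ^ (d + 1) := by
  haveI : IsAlgClosed K := IsAlgClosure.isAlgClosed k₀
  haveI : FrobSch.IsCharP C p := FrobSch.IsCharP.of_hom πC₀ p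
  have hNpos : 0 < p ^ (e * n) := pow_pos (Fact.out : p.Prime).pos _
  -- Step 1: L ≤ √J
  have hLrad : I.comap (Fr ≫ c₁) ≤ (I.comap c₂).radical := by
    rw [← Scheme.IdealSheafData.vanishingIdeal_support,
      ← Scheme.IdealSheafData.le_support_iff_le_vanishingIdeal,
      Scheme.IdealSheafData.support_comap, Scheme.IdealSheafData.support_comap]
    intro z hz
    exact hinv ⟨z, hz, rfl⟩
  -- Step 2: L ≤ (√J)^N
  have hkey : I.comap (Fr ≫ c₁) ≤ (I.comap c₂).radical ^ (p ^ (e * n)) := by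
    have hloc : ∀ z : C, ∃ W : C.affineOpens, z ∈ W.1 ∧
        (I.comap (Fr ≫ c₁)).ideal W ≤ ((I.comap c₂).radical ^ (p ^ (e * n))).ideal W := by
      intro z
      obtain ⟨V, hV, hxV, -⟩ :=
        exists_isAffineOpen_mem_and_subset (x := c₁ (Fr z)) (U := ⊤) trivial
      obtain ⟨U₀, hU₀, hyU₀, -⟩ :=
        exists_isAffineOpen_mem_and_subset (x := πC₀ (Fr z)) (U := ⊤) trivial
      have hUST : (⊤ : (Spec (CommRingCat.of K)).Opens) ≤
          (Spec.map (CommRingCat.ofHom (algebraMap k₀ K))) ⁻¹ᵁ ⊤ := le_top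
      have hUSX : U₀ ≤ f₀ ⁻¹ᵁ ⊤ := le_top
      have hW₀ : IsAffineOpen (πC₀ ⁻¹ᵁ U₀ ⊓ πK ⁻¹ᵁ ⊤) := by
        have : IsAffine _ := isAffineOpen_top (Spec (CommRingCat.of k₀))
        have : IsAffine _ := isAffineOpen_top (Spec (CommRingCat.of K))
        have : IsAffine _ := hU₀
        exact .of_isIso (Scheme.Hom.isPullback_resLE hC hUST hUSX rfl).isoPullback.hom
      have hP₀ : P p (e * n) Fr (πC₀ ⁻¹ᵁ U₀ ⊓ πK ⁻¹ᵁ ⊤) = ⊤ :=
        P_top_of_chart p (e * n) Fr k₀ K f₀ πC₀ πK hC hFr₀ hFrK U₀ hU₀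
      obtain ⟨h, hle, hzh⟩ := hW₀.exists_basicOpen_le (V := c₁ ⁻¹ᵁ V) ⟨Fr z, hxV⟩
        ⟨hyU₀, trivial⟩
      have hP' : P p (e * n) Fr (C.basicOpen h) = ⊤ := P_basicOpen p (e * n) Fr hW₀ hP₀ h
      obtain ⟨W, hW, hzW, hWle⟩ :=
        exists_isAffineOpen_mem_and_subset (x := z) (U := Fr ⁻¹ᵁ (C.basicOpen h)) hzh
      refine ⟨⟨W, hW⟩, hzW, ?_⟩
      have e1 : W ≤ (Fr ≫ c₁) ⁻¹ᵁ V := hWle.trans ((TopologicalSpace.Opens.map Fr.base).monotone hle)
      have hideal := Groth.Agent.Lib.Helper29.EffCart.ideal_comap_eq_map I (Fr ≫ c₁) ⟨V, hV⟩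
        ⟨W, hW⟩ e1
      rw [hideal, Ideal.map_le_iff_le_comap]
      intro i hi
      rw [Ideal.mem_comap]
      have hm : c₁.appLE V (C.basicOpen h) hle i ∈ P p (e * n) Fr (C.basicOpen h) :=
        hP' ▸ Subring.mem_top _
      rw [mem_P] at hm
      obtain ⟨y, hy⟩ := hm
      have hgen : (Fr ≫ c₁).appLE V W e1 i =
          (C.presheaf.map (homOfLE hWle).op y) ^ (p ^ (e * n)) := by
        have hcomp : (Fr ≫ c₁).appLE V W e1 =
            c₁.appLE V (C.basicOpen h) hle ≫ Fr.appLE (C.basicOpen h) W hWle :=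
          (Scheme.Hom.appLE_comp_appLE _ _ _ _ _ _ _).symm
        rw [hcomp, CommRingCat.comp_apply, Scheme.Hom.appLE, CommRingCat.comp_apply, hy, map_pow]
        rfl
      have hmemL : (Fr ≫ c₁).appLE V W e1 i ∈ ((I.comap c₂).radical).ideal ⟨W, hW⟩ := by
        apply hLrad ⟨W, hW⟩
        rw [hideal]
        exact Ideal.mem_map_of_mem _ hi
      rw [hgen] at hmemL ⊢
      rw [Scheme.IdealSheafData.radical_ideal] at hmemL
      have hy' := Ideal.mem_radical_of_pow_mem hmemL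
      rw [Scheme.IdealSheafData.ideal_pow, Pi.pow_apply, Scheme.IdealSheafData.radical_ideal]
      exact Ideal.pow_mem_pow hy' _
    choose W hzW hW using hloc
    refine Scheme.IdealSheafData.le_of_iSup_eq_top W ?_ hW
    rw [eq_top_iff]
    intro z _
    exact TopologicalSpace.Opens.mem_iSup.mpr ⟨z, hzW z⟩
  constructor
  · refine hkey.trans (le_trans ?_ hd)
    intro U
    rw [Scheme.IdealSheafData.ideal_pow, Scheme.IdealSheafData.ideal_pow, Pi.pow_apply,
      Pi.pow_apply]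
    exact Ideal.pow_le_pow_right hn.le
  · intro U
    have h1 := hkey U
    have h2 := hd U
    rw [Scheme.IdealSheafData.ideal_pow, Pi.pow_apply] at h1 h2
    rw [Scheme.IdealSheafData.ideal_pow, Scheme.IdealSheafData.ideal_pow, Pi.pow_apply,
      Pi.pow_apply]
    calc (I.comap (Fr ≫ c₁)).ideal U ^ d
        ≤ (((I.comap c₂).radical.ideal U) ^ (p ^ (e * n))) ^ d := Ideal.pow_right_mono h1 d
      _ = ((I.comap c₂).radical.ideal U) ^ (p ^ (e * n) * d) := (pow_mul _ _ _).symm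
      _ ≤ ((I.comap c₂).radical.ideal U) ^ (d * (d + 1)) := by
          apply Ideal.pow_le_pow_right
          calc d * (d + 1) = (d + 1) * d := Nat.mul_comm _ _
            _ ≤ p ^ (e * n) * d := Nat.mul_le_mul_right d hn
      _ = (((I.comap c₂).radical.ideal U) ^ d) ^ (d + 1) := pow_mul _ _ _
      _ ≤ (I.comap c₂).ideal U ^ (d + 1) := Ideal.pow_right_mono h2 (d + 1)

end Groth.Agent.S18396
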