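import Groth.Statements.S18397
import Groth.Agent.S18396
import Mathlib

set_option autoImplicit false
universe u
open LVCorr

namespace Groth.Agent.S18397

section Helpers

open CategoryTheory CategoryTheory.Limits AlgebraicGeometry TopologicalSpace Opposite
open Groth.Agent.S18396

/-- ideals pulled back through a Frobenius twist are locally generated by `p^k`-th powers, hence lie in
the `p^k`-th power of any radical ideal containing them. -/
theorem comap_le_radical_pow {C T X : Scheme.{u}} (p : ℕ) [Fact p.Prime] [FrobSch.IsCharP C p]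
    (k : ℕ) (Fr : C ⟶ C)
    (HP : ∀ (z' : C) (O : C.Opens), z' ∈ O → ∃ V' : C.Opens, z' ∈ V' ∧ V' ≤ O ∧ P p k Fr V' = ⊤)
    (j : T ⟶ C) (c₁ : C ⟶ X) (I : X.IdealSheafData) (R : T.IdealSheafData)
    (hrad : I.comap (j ≫ Fr ≫ c₁) ≤ R.radical) :
    I.comap (j ≫ Fr ≫ c₁) ≤ R.radical ^ (p ^ k) := by
  have hloc : ∀ z : T, ∃ W : T.affineOpens, z ∈ W.1 ∧
      (I.comap (j ≫ Fr ≫ c₁)).ideal W ≤ (R.radical ^ (p ^ k)).ideal W := by
    intro z
    obtain ⟨V, hV, hxV, -⟩ :=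
      exists_isAffineOpen_mem_and_subset (x := c₁ (Fr (j z))) (U := ⊤) trivial
    obtain ⟨V', hzV', hle, hP'⟩ := HP (Fr (j z)) (c₁ ⁻¹ᵁ V) hxV
    obtain ⟨W, hW, hzW, hWle⟩ :=
      exists_isAffineOpen_mem_and_subset (x := z) (U := j ⁻¹ᵁ (Fr ⁻¹ᵁ V')) hzV'
    refine ⟨⟨W, hW⟩, hzW, ?_⟩
    have e2 : Fr ⁻¹ᵁ V' ≤ (Fr ≫ c₁) ⁻¹ᵁ V := (Opens.map Fr.base).monotone hle
    have e1 : W ≤ (j ≫ Fr ≫ c₁) ⁻¹ᵁ V := hWle.trans ((Opens.map j.base).monotone e2)
    have hideal := Groth.Agent.Lib.Helper29.EffCart.ideal_comap_eq_map I (j ≫ Fr ≫ c₁) ⟨V, hV⟩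
      ⟨W, hW⟩ e1
    rw [hideal, Ideal.map_le_iff_le_comap]
    intro i hi
    rw [Ideal.mem_comap]
    have hm : c₁.appLE V V' hle i ∈ P p k Fr V' := hP' ▸ Subring.mem_top _
    rw [mem_P] at hm
    obtain ⟨y, hy⟩ := hm
    have hgen : (j ≫ Fr ≫ c₁).appLE V W e1 i = (j.appLE (Fr ⁻¹ᵁ V') W hWle y) ^ (p ^ k) := by
      have hc1 : (j ≫ Fr ≫ c₁).appLE V W e1 =
          (Fr ≫ c₁).appLE V (Fr ⁻¹ᵁ V') e2 ≫ j.appLE (Fr ⁻¹ᵁ V') W hWle :=
        (Scheme.Hom.appLE_comp_appLE _ _ _ _ _ _ _).symm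
      have hc2 : (Fr ≫ c₁).appLE V (Fr ⁻¹ᵁ V') e2 = c₁.appLE V V' hle ≫ Fr.appLE V' (Fr ⁻¹ᵁ V') le_rfl :=
        (Scheme.Hom.appLE_comp_appLE _ _ _ _ _ _ _).symm
      rw [hc1, hc2, Scheme.Hom.appLE_eq_app, CommRingCat.comp_apply, CommRingCat.comp_apply, hy,
        map_pow]
    have hmemL : (j ≫ Fr ≫ c₁).appLE V W e1 i ∈ (R.radical).ideal ⟨W, hW⟩ := by
      apply hrad ⟨W, hW⟩
      rw [hideal]
      exact Ideal.mem_map_of_mem _ hi
    rw [hgen] at hmemL ⊢
    rw [Scheme.IdealSheafData.radical_ideal] at hmemL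
    have hy' := Ideal.mem_radical_of_pow_mem hmemL
    rw [Scheme.IdealSheafData.ideal_pow, Pi.pow_apply, Scheme.IdealSheafData.radical_ideal]
    exact Ideal.pow_mem_pow hy' _
  choose W hzW hW using hloc
  refine Scheme.IdealSheafData.le_of_iSup_eq_top W ?_ hW
  rw [eq_top_iff]
  intro z _
  exact TopologicalSpace.Opens.mem_iSup.mpr ⟨z, hzW z⟩

/-- the condition `(√J)^d ≤ J` restricts to open subschemes. -/
theorem radical_pow_le_comap_ι {C : Scheme.{u}} (W : C.Opens) (J₀ : C.IdealSheafData) (d : ℕ)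
    (h : J₀.radical ^ d ≤ J₀) : (J₀.comap W.ι).radical ^ d ≤ J₀.comap W.ι := by
  intro U'
  have hV : IsAffineOpen (W.ι ''ᵁ U'.1) := U'.2.image_of_isOpenImmersion W.ι
  have e : U'.1 ≤ W.ι ⁻¹ᵁ (W.ι ''ᵁ U'.1) := (Scheme.Hom.preimage_image_eq W.ι U'.1).ge
  have hideal := Groth.Agent.Lib.Helper29.EffCart.ideal_comap_eq_map J₀ W.ι ⟨_, hV⟩ U' e
  have hbij : Function.Bijective (W.ι.appLE (W.ι ''ᵁ U'.1) U'.1 e).hom := by
    rw [← Scheme.Hom.appIso_hom']
    exact ConcreteCategory.bijective_of_isIso _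
  have h1 := h ⟨_, hV⟩
  rw [Scheme.IdealSheafData.ideal_pow, Pi.pow_apply, Scheme.IdealSheafData.radical_ideal] at h1 ⊢
  rw [hideal, ← Ideal.map_radical_of_surjective hbij.2, ← Ideal.map_pow]
  · exact Ideal.map_mono h1
  · rw [(RingHom.injective_iff_ker_eq_bot _).mp hbij.1]
    exact bot_le

end Helpers

open AlgebraicGeometry CategoryTheory CategoryTheory.Limits in
/-- Let k₀ be a finite field with p^e elements, K an algebraic closure of k₀, C₀ a scheme locally of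
finite type over k₀, C = C₀ ×_{k₀} Spec K with its projections, and Fr : C → C the n-th power of the
geometric Frobenius (over K, compatible with the (e·n)-th power of the absolute p-Frobenius of C₀).
Let X be locally of finite type over K and c₁, c₂ : C → X morphisms over K with c₂ quasi-finite, and
let d < p^(e n) be such that for every closed point x of X, with J_x the inverse image under c₂ of
the ideal sheaf of the reduced point x, one has (√J_x)^d ⊂ J_x (d bounds the ramification of c₂).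
Then the twisted correspondence (c₁ ∘ Fr, c₂) is contracting near every closed point in a
neighbourhood of its fixed points: for every closed point x of X there is an open subset W of C
containing every point of C whose image under (c₁ ∘ Fr, c₂) : C → X ×_K X lies in the diagonal, such
that, writing L and J for the inverse image ideal sheaves on W of the ideal of x under c₁ ∘ Fr and
under c₂, one has L ⊂ J and L^k ⊂ J^(k+1) for some k. (In the source the correspondence is defined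
over k₀ and the twist is written with the geometric Frobenius of X.) -/
theorem result {C C₀ X : Scheme.{u}}
    (p : ℕ) [Fact p.Prime] (k₀ : Type u) [Field k₀] [Fintype k₀] [CharP k₀ p] (e : ℕ)
    (hq : Fintype.card k₀ = p ^ e) (K : Type u) [Field K] [Algebra k₀ K] [IsAlgClosure k₀ K]
    (f₀ : C₀ ⟶ Spec (CommRingCat.of k₀)) [LocallyOfFiniteType f₀] [FrobSch.IsCharP C₀ p]
    (πC₀ : C ⟶ C₀) (πK : C ⟶ Spec (CommRingCat.of K))
    (hC : IsPullback πC₀ πK f₀ (Spec.map (CommRingCat.ofHom (algebraMap k₀ K))))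
    (n : ℕ) (Fr : C ⟶ C)
    (hFr₀ : Fr ≫ πC₀ = πC₀ ≫ End.asHom (End.of (FrobSch.frob C₀ p) ^ (e * n)))
    (hFrK : Fr ≫ πK = πK)
    (pX : X ⟶ Spec (CommRingCat.of K)) [LocallyOfFiniteType pX]
    (c₁ c₂ : C ⟶ X) (hc₁ : c₁ ≫ pX = πK) (hc₂ : c₂ ≫ pX = πK)
    [LocallyQuasiFinite c₂] [LocallyOfFiniteType c₂]
    (hcomm : (Fr ≫ c₁) ≫ pX = c₂ ≫ pX) (d : ℕ) (hn : d < p ^ (e * n))
    (hd : ∀ (x : X) (hx : IsClosed ({x} : Set X)),
      ((Scheme.IdealSheafData.vanishingIdeal ⟨{x}, hx⟩).comap c₂).radical ^ d ≤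
        (Scheme.IdealSheafData.vanishingIdeal ⟨{x}, hx⟩).comap c₂)
    (x : X) (hx : IsClosed ({x} : Set X)) :
    ∃ W : C.Opens,
      (pullback.lift (Fr ≫ c₁) c₂ hcomm).base ⁻¹' Set.range (pullback.diagonal pX).base ⊆ (W : Set C) ∧
      (Scheme.IdealSheafData.vanishingIdeal ⟨{x}, hx⟩).comap (W.ι ≫ Fr ≫ c₁) ≤
        (Scheme.IdealSheafData.vanishingIdeal ⟨{x}, hx⟩).comap (W.ι ≫ c₂) ∧
      ∃ k : ℕ, (Scheme.IdealSheafData.vanishingIdeal ⟨{x}, hx⟩).comap (W.ι ≫ Fr ≫ c₁) ^ k ≤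
        (Scheme.IdealSheafData.vanishingIdeal ⟨{x}, hx⟩).comap (W.ι ≫ c₂) ^ (k + 1) := by
  haveI : IsAlgClosed K := IsAlgClosure.isAlgClosed k₀
  haveI : FrobSch.IsCharP C p := FrobSch.IsCharP.of_hom πC₀ p
  -- local `p^(en)`-th power property
  have HP : ∀ (z' : C) (O : C.Opens), z' ∈ O →
      ∃ V' : C.Opens, z' ∈ V' ∧ V' ≤ O ∧ Groth.Agent.S18396.P p (e * n) Fr V' = ⊤ := by
    intro z' O hz'
    obtain ⟨U₀, hU₀, hyU₀, -⟩ :=
      exists_isAffineOpen_mem_and_subset (x := πC₀ z') (U := ⊤) trivial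
    have hUST : (⊤ : (Spec (CommRingCat.of K)).Opens) ≤
        (Spec.map (CommRingCat.ofHom (algebraMap k₀ K))) ⁻¹ᵁ ⊤ := le_top
    have hUSX : U₀ ≤ f₀ ⁻¹ᵁ ⊤ := le_top
    have hW₀ : IsAffineOpen (πC₀ ⁻¹ᵁ U₀ ⊓ πK ⁻¹ᵁ ⊤) := by
      have : IsAffine _ := isAffineOpen_top (Spec (CommRingCat.of k₀))
      have : IsAffine _ := isAffineOpen_top (Spec (CommRingCat.of K))
      have : IsAffine _ := hU₀
      exact .of_isIso (Scheme.Hom.isPullback_resLE hC hUST hUSX rfl).isoPullback.hom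
    have hP₀ : Groth.Agent.S18396.P p (e * n) Fr (πC₀ ⁻¹ᵁ U₀ ⊓ πK ⁻¹ᵁ ⊤) = ⊤ :=
      Groth.Agent.S18396.P_top_of_chart p (e * n) Fr k₀ K f₀ πC₀ πK hC hFr₀ hFrK U₀ hU₀
    obtain ⟨h, hle, hzh⟩ := hW₀.exists_basicOpen_le (V := O) ⟨z', hz'⟩ ⟨hyU₀, trivial⟩
    exact ⟨C.basicOpen h, hzh, hle, Groth.Agent.S18396.P_basicOpen p (e * n) Fr hW₀ hP₀ h⟩
  -- the bad set
  have hS : IsClosed {z : C | c₂ z = x ∧ c₁ (Fr z) ≠ x} := by
    have hF : IsClosed (c₂ ⁻¹' {x}) := hx.preimage c₂.continuous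
    haveI hdisc : DiscreteTopology (c₂ ⁻¹' {x}) :=
      isDiscrete_iff_discreteTopology.mp (c₂.isDiscrete_preimage_singleton x)
    have hS' : {z : C | c₂ z = x ∧ c₁ (Fr z) ≠ x} =
        Subtype.val '' {a : (c₂ ⁻¹' {x} : Set C) | c₁ (Fr a.1) ≠ x} := by
      ext z
      constructor
      · rintro ⟨h1, h2⟩
        exact ⟨⟨z, h1⟩, h2, rfl⟩
      · rintro ⟨a, ha, rfl⟩
        exact ⟨a.2, ha⟩
    rw [hS']
    exact hF.isClosedEmbedding_subtypeVal.isClosedMap _ (isClosed_discrete _)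
  refine ⟨⟨{z : C | c₂ z = x ∧ c₁ (Fr z) ≠ x}ᶜ, hS.isOpen_compl⟩, ?_, ?_⟩
  · intro z hz
    obtain ⟨x', hx'⟩ := hz
    rintro ⟨h1, h2⟩
    apply h2
    have a1 : (Fr ≫ c₁) z = x' := by
      have := congrArg (pullback.fst pX pX) hx'
      rw [← Scheme.Hom.comp_apply, ← Scheme.Hom.comp_apply, pullback.diagonal_fst,
        pullback.lift_fst] at this
      exact this.symm
    have a2 : c₂ z = x' := by
      have := congrArg (pullback.snd pX pX) hx'
      rw [← Scheme.Hom.comp_apply, ← Scheme.Hom.comp_apply, pullback.diagonal_snd,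
        pullback.lift_snd] at this
      exact this.symm
    change c₁ (Fr z) = x
    rw [← h1, a2]
    exact a1
  · set W : C.Opens := ⟨{z : C | c₂ z = x ∧ c₁ (Fr z) ≠ x}ᶜ, hS.isOpen_compl⟩ with hWdef
    have hLrad : (Scheme.IdealSheafData.vanishingIdeal ⟨{x}, hx⟩).comap (W.ι ≫ Fr ≫ c₁) ≤
        ((Scheme.IdealSheafData.vanishingIdeal ⟨{x}, hx⟩).comap (W.ι ≫ c₂)).radical := by
      rw [← Scheme.IdealSheafData.vanishingIdeal_support,
        ← Scheme.IdealSheafData.le_support_iff_le_vanishingIdeal,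
        Scheme.IdealSheafData.support_comap, Scheme.IdealSheafData.support_comap]
      intro z hz
      have hz' : c₂ (W.ι z) = x := by
        have : (W.ι ≫ c₂) z ∈ ((Scheme.IdealSheafData.vanishingIdeal ⟨{x}, hx⟩).support : Set X) := hz
        rw [Scheme.IdealSheafData.coe_support_vanishingIdeal] at this
        exact this
      have hzW : W.ι z ∈ W := by
        have := Set.mem_range_self (f := W.ι) z
        rw [Scheme.Opens.range_ι] at this
        exact this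
      have hgoal : c₁ (Fr (W.ι z)) = x := by
        by_contra hne
        exact hzW ⟨hz', hne⟩
      change (W.ι ≫ Fr ≫ c₁) z ∈ ((Scheme.IdealSheafData.vanishingIdeal ⟨{x}, hx⟩).support : Set X)
      rw [Scheme.IdealSheafData.coe_support_vanishingIdeal]
      exact hgoal
    have hkey := comap_le_radical_pow p (e * n) Fr HP W.ι c₁
      (Scheme.IdealSheafData.vanishingIdeal ⟨{x}, hx⟩) _ hLrad
    have hdW : ((Scheme.IdealSheafData.vanishingIdeal ⟨{x}, hx⟩).comap (W.ι ≫ c₂)).radical ^ d ≤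
        (Scheme.IdealSheafData.vanishingIdeal ⟨{x}, hx⟩).comap (W.ι ≫ c₂) := by
      rw [Scheme.IdealSheafData.comap_comp]
      exact radical_pow_le_comap_ι W _ d (hd x hx)
    refine ⟨?_, d, ?_⟩
    · refine hkey.trans (le_trans ?_ hdW)
      intro U
      rw [Scheme.IdealSheafData.ideal_pow, Scheme.IdealSheafData.ideal_pow, Pi.pow_apply,
        Pi.pow_apply]
      exact Ideal.pow_le_pow_right hn.le
    · intro U
      have h1 := hkey U
      have h2 := hdW U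
      rw [Scheme.IdealSheafData.ideal_pow, Pi.pow_apply] at h1 h2
      rw [Scheme.IdealSheafData.ideal_pow, Scheme.IdealSheafData.ideal_pow, Pi.pow_apply,
        Pi.pow_apply]
      calc ((Scheme.IdealSheafData.vanishingIdeal ⟨{x}, hx⟩).comap (W.ι ≫ Fr ≫ c₁)).ideal U ^ d
          ≤ ((((Scheme.IdealSheafData.vanishingIdeal ⟨{x}, hx⟩).comap (W.ι ≫ c₂)).radical.ideal U) ^
              (p ^ (e * n))) ^ d := Ideal.pow_right_mono h1 d
        _ = (((Scheme.IdealSheafData.vanishingIdeal ⟨{x}, hx⟩).comap (W.ι ≫ c₂)).radical.ideal U) ^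
              (p ^ (e * n) * d) := (pow_mul _ _ _).symm
        _ ≤ (((Scheme.IdealSheafData.vanishingIdeal ⟨{x}, hx⟩).comap (W.ι ≫ c₂)).radical.ideal U) ^
              (d * (d + 1)) := by
            apply Ideal.pow_le_pow_right
            calc d * (d + 1) = (d + 1) * d := Nat.mul_comm _ _
              _ ≤ p ^ (e * n) * d := Nat.mul_le_mul_right d hn
        _ = ((((Scheme.IdealSheafData.vanishingIdeal ⟨{x}, hx⟩).comap (W.ι ≫ c₂)).radical.ideal U) ^
              d) ^ (d + 1) := pow_mul _ _ _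
        _ ≤ ((Scheme.IdealSheafData.vanishingIdeal ⟨{x}, hx⟩).comap (W.ι ≫ c₂)).ideal U ^ (d + 1) :=
            Ideal.pow_right_mono h2 (d + 1)

end Groth.Agent.S18397
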