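import Groth.Statements.S18412
import Groth.Agent.Lib.Helper1.HesseOrbit

set_option autoImplicit false
universe u
open Cubic

namespace Groth.Agent.S18412

open Groth.Agent.Lib.Helper1.Hesse

open MvPolynomial in
theorem form_iff (k c : ℂ) (A : Matrix (Fin 3) (Fin 3) ℂ) :
    aeval (fun i : Fin 3 => ∑ j : Fin 3, C (A i j) * X j) (HesseCubic.form k) =
      C c * HesseCubic.form k ↔ ∀ v : V, hesse k (A.mulVec v) = c * hesse k v := by
  constructor
  · intro h v
    have := congrArg (eval v) h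
    rw [eval_aeval_matrix, eval_form, map_mul, eval_C, eval_form] at this
    exact this
  · intro h
    apply MvPolynomial.funext
    intro v
    rw [eval_aeval_matrix, eval_form, map_mul, eval_C, eval_form]
    exact h v

/-- the exceptional polynomial -/
noncomputable def badPoly : Polynomial ℂ :=
  (Polynomial.X ^ 3 - 1) * Polynomial.X * (Polynomial.X ^ 3 + 8) *
    (Polynomial.X ^ 6 - 20 * Polynomial.X ^ 3 - 8)

theorem badPoly_ne_zero : badPoly ≠ 0 := by
  intro h
  have := congrArg (Polynomial.eval 2) h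
  simp [badPoly] at this
  norm_num at this

theorem generic_of_not_mem (k : ℂ) (hk : k ∉ badPoly.roots.toFinset) :
    k ^ 3 ≠ 1 ∧ k ≠ 0 ∧ k ^ 3 + 8 ≠ 0 ∧ k ^ 6 - 20 * k ^ 3 - 8 ≠ 0 := by
  have h : Polynomial.eval k badPoly ≠ 0 := by
    intro h0
    apply hk
    rw [Multiset.mem_toFinset, Polynomial.mem_roots badPoly_ne_zero]
    exact h0
  simp only [badPoly, Polynomial.eval_mul, Polynomial.eval_sub, Polynomial.eval_add,
    Polynomial.eval_pow, Polynomial.eval_X, Polynomial.eval_one, Polynomial.eval_ofNat] at h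
  refine ⟨fun h1 => h ?_, fun h1 => h ?_, fun h1 => h ?_, fun h1 => h ?_⟩
  · rw [h1]; ring
  · rw [h1]; ring
  · rw [h1]; ring
  · rw [h1]; ring

/-- sign -/
def sg (ε : Bool) : ℂ := bif ε then -1 else 1

theorem sg_sq (ε : Bool) : sg ε * sg ε = 1 := by cases ε <;> simp [sg]

theorem sg_ne (ε : Bool) : sg ε ≠ 0 := by cases ε <;> simp [sg]

/-- cube roots of unity -/
def rt (ω : ℂ) : Fin 3 → ℂ := ![1, ω, ω ^ 2]

theorem rt_cube (ω : ℂ) (hω : ω ^ 2 + ω + 1 = 0) (e : Fin 3) : rt ω e ^ 3 = 1 := by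
  fin_cases e
  · simp [rt]
  · simp only [rt]; show ω ^ 3 = 1; linear_combination (ω - 1) * hω
  · simp only [rt]; show (ω ^ 2) ^ 3 = 1; linear_combination (ω ^ 4 - ω ^ 3 + ω - 1) * hω

theorem rt_ne (ω : ℂ) (hω : ω ^ 2 + ω + 1 = 0) (e : Fin 3) : rt ω e ≠ 0 := by
  intro h
  have := rt_cube ω hω e
  rw [h] at this
  norm_num at this

theorem rt_inj (ω : ℂ) (hω : ω ^ 2 + ω + 1 = 0) : Function.Injective (rt ω) := by
  have h1 : ω ≠ 1 := by
    rintro rfl
    norm_num at hω
  have h2 : ω ^ 2 ≠ 1 := by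
    intro h
    have e : ω = -2 := by linear_combination hω - h
    rw [e] at h
    norm_num at h
  have h3 : ω ^ 2 ≠ ω := by
    intro h
    have e : ω = -1 / 2 := by linear_combination (1 / 2 : ℂ) * hω - (1 / 2 : ℂ) * h
    rw [e] at h
    norm_num at h
  intro e e' h
  fin_cases e <;> fin_cases e' <;> first
    | rfl
    | exact (h1 (show ω = 1 from h)).elim
    | exact (h1 (show (1 : ℂ) = ω from h).symm).elim
    | exact (h2 (show ω ^ 2 = 1 from h)).elim
    | exact (h2 (show (1 : ℂ) = ω ^ 2 from h).symm).elim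
    | exact (h3 (show ω ^ 2 = ω from h)).elim
    | exact (h3 (show ω = ω ^ 2 from h).symm).elim

theorem rt_surj (ω : ℂ) (hω : ω ^ 2 + ω + 1 = 0) (x : ℂ) (hx : x ^ 3 = 1) :
    ∃ e : Fin 3, x = rt ω e := by
  have : (x - 1) * ((x - ω) * (x - ω ^ 2)) = 0 := by
    linear_combination hx + (-x ^ 2 + ω * x - ω + 1) * hω
  rcases mul_eq_zero.mp this with h | h
  · exact ⟨0, by simp only [rt]; show x = 1; linear_combination h⟩
  · rcases mul_eq_zero.mp h with h | h
    · exact ⟨1, by simp only [rt]; show x = ω; linear_combination h⟩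
    · exact ⟨2, by simp only [rt]; show x = ω ^ 2; linear_combination h⟩

/-- the parametrization -/
def Phi (ω : ℂ) (x : Fin 3 × Bool × Fin 3 × Fin 3) : Matrix (Fin 3) (Fin 3) ℂ :=
  Mon x.1 x.2.1 (sg x.2.1 * rt ω x.2.2.2) (sg x.2.1 * rt ω x.2.2.2 * rt ω x.2.2.1)
    (sg x.2.1 * rt ω x.2.2.2 * rt ω x.2.2.1 ^ 2)

theorem Phi_inj (ω : ℂ) (hω : ω ^ 2 + ω + 1 = 0) : Function.Injective (Phi ω) := by
  rintro ⟨t, ε, e, j⟩ ⟨t', ε', e', j'⟩ h
  simp only [Phi] at h
  have hj := rt_ne ω hω j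
  have he := rt_ne ω hω e
  have hs := sg_ne ε
  obtain ⟨rfl, rfl, ha, hb, -⟩ := Mon_inj _ _ _ _ _ _ _ _ _ _
    (mul_ne_zero hs hj) (mul_ne_zero (mul_ne_zero hs hj) he)
    (mul_ne_zero (mul_ne_zero hs hj) (pow_ne_zero 2 he)) h
  have hjj : j = j' := rt_inj ω hω (mul_left_cancel₀ hs ha)
  subst hjj
  have hee : e = e' := rt_inj ω hω (mul_left_cancel₀ (mul_ne_zero hs hj) hb)
  subst hee
  rfl

theorem mainAux (ω : ℂ) (hω : ω ^ 2 + ω + 1 = 0) (k : ℂ) (hk1 : k ^ 3 ≠ 1) (hk0 : k ≠ 0)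
    (hk8 : k ^ 3 + 8 ≠ 0) (hk6 : k ^ 6 - 20 * k ^ 3 - 8 ≠ 0) :
    {A : Matrix (Fin 3) (Fin 3) ℂ | A.det = 1 ∧
      ∃ c : ℂ, ∀ v : V, hesse k (A.mulVec v) = c * hesse k v} = Set.range (Phi ω) := by
  ext A
  constructor
  · rintro ⟨hdet, c, hA⟩
    obtain ⟨t, ε, p, γ, hp, hγ, rfl⟩ := surjS k hk1 hk0 hk8 hk6 A (by rw [hdet]; exact one_ne_zero) c hA
    rw [Mon_det] at hdet
    have hdet' : sg ε * p ^ 3 = 1 := by
      have : (bif ε then (-1 : ℂ) else 1) = sg ε := rfl
      rw [this] at hdet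
      linear_combination hdet - sg ε * p ^ 3 * hγ
    have h3 : (sg ε * p) ^ 3 = 1 := by
      linear_combination (sg ε * p ^ 3) * sg_sq ε + hdet'
    obtain ⟨j, hj⟩ := rt_surj ω hω _ h3
    obtain ⟨e, he⟩ := rt_surj ω hω γ hγ
    have hpj : p = sg ε * rt ω j := by
      rw [← hj, ← mul_assoc, sg_sq, one_mul]
    refine ⟨(t, ε, e, j), ?_⟩
    simp only [Phi]
    rw [← hpj, ← he]
  · rintro ⟨⟨t, ε, e, j⟩, rfl⟩
    simp only [Phi]
    have hj := rt_cube ω hω j
    have he := rt_cube ω hω e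
    have hs := sg_sq ε
    refine ⟨?_, sg ε, ?_⟩
    · rw [Mon_det]
      have : (bif ε then (-1 : ℂ) else 1) = sg ε := rfl
      rw [this]
      set s := sg ε
      set a := rt ω j
      set b := rt ω e
      linear_combination s ^ 4 * a ^ 3 * he + s ^ 4 * hj + (s ^ 2 + 1) * hs
    · intro v
      rw [Mon_hesse, hesse]
      set s := sg ε
      set a := rt ω j
      set b := rt ω e
      have e1 : (s * a) ^ 3 = s := by
        linear_combination s * a ^ 3 * hs + s * hj
      have e2 : (s * a * b) ^ 3 = s := by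
        linear_combination s * a ^ 3 * b ^ 3 * hs + s * b ^ 3 * hj + s * he
      have e3 : (s * a * b ^ 2) ^ 3 = s := by
        linear_combination s * a ^ 3 * b ^ 6 * hs + s * b ^ 6 * hj + s * (b ^ 3 + 1) * he
      have e4 : s * a * (s * a * b) * (s * a * b ^ 2) = s := by
        linear_combination s * a ^ 3 * b ^ 3 * hs + s * b ^ 3 * hj + s * he
      rw [e1, e2, e3, e4]
      ring

open MvPolynomial in

open MvPolynomial in
/-- For all k ∈ ℂ outside a finite set, the Hesse cubic h_k = X₀³ + X₁³ + X₂³ − 3k·X₀X₁X₂ has exactly 18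
projective automorphisms; spelled without quotients as: the matrices A of determinant 1 whose
substitution X_i ↦ Σ_j A_ij X_j carries h_k to a constant multiple of h_k are exactly 54 in number
(every projective class has three lifts of determinant one, so 54 = 3 · 18). As every smooth plane
cubic over ℂ is projectively equivalent to some h_k, this is the statement that the general smooth
plane cubic has a projective automorphism group of order 18. -/
theorem result :
    ∃ T : Finset ℂ, ∀ k : ℂ, k ∉ T →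
      Nat.card {A : Matrix (Fin 3) (Fin 3) ℂ // A.det = 1 ∧
        ∃ c : ℂ, aeval (fun i : Fin 3 => ∑ j : Fin 3, C (A i j) * X j) (HesseCubic.form k) =
          C c * HesseCubic.form k} = 54 := by
  obtain ⟨ω, hω⟩ := exists_omega
  refine ⟨badPoly.roots.toFinset, fun k hk => ?_⟩
  obtain ⟨hk1, hk0, hk8, hk6⟩ := generic_of_not_mem k hk
  have hset : {A : Matrix (Fin 3) (Fin 3) ℂ | A.det = 1 ∧
        ∃ c : ℂ, aeval (fun i : Fin 3 => ∑ j : Fin 3, C (A i j) * X j) (HesseCubic.form k) =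
          C c * HesseCubic.form k} = Set.range (Phi ω) := by
    rw [← mainAux ω hω k hk1 hk0 hk8 hk6]
    ext A
    simp only [Set.mem_ofPred_eq, form_iff]
  show Nat.card ↥{A : Matrix (Fin 3) (Fin 3) ℂ | A.det = 1 ∧
        ∃ c : ℂ, aeval (fun i : Fin 3 => ∑ j : Fin 3, C (A i j) * X j) (HesseCubic.form k) =
          C c * HesseCubic.form k} = 54
  rw [hset, Nat.card_range_of_injective (Phi_inj ω hω)]
  simp [Nat.card_eq_fintype_card]

end Groth.Agent.S18412
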