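import Groth.Statements.S18416
import Groth.Agent.Lib.helper19.SmSliceRing

set_option autoImplicit false
universe u v w
open CAlg

namespace Groth.Agent.S18416

/-- Let R → C and C → B be smooth ring homomorphisms, J an ideal of B and K the preimage of J in C, and
suppose that C surjects onto A = B/J (so that C/K = B/J = A). Then for every prime x of A there
exist f ∈ B whose image in A does not lie in x and an ideal J₀ of B_f contained in J B_f such that
the composite C → B_f → B_f/J₀ is étale. -/
theorem result (R : Type u) (C : Type v) (B : Type w)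
    [CommRing R] [CommRing C] [CommRing B] [Algebra R C] [Algebra C B] [Algebra R B] [IsScalarTower R C B]
    [Algebra.Smooth R C] [Algebra.Smooth C B] (J : Ideal B)
    (hsurj : Function.Surjective ((Ideal.Quotient.mk J).comp (algebraMap C B)))
    (x : PrimeSpectrum (B ⧸ J)) :
    ∃ f : B, Ideal.Quotient.mk J f ∉ x.asIdeal ∧
      ∃ J₀ : Ideal (Localization.Away f), J₀ ≤ J.map (algebraMap B (Localization.Away f)) ∧
        ((Ideal.Quotient.mk J₀).comp ((algebraMap B (Localization.Away f)).comp (algebraMap C B))).Etale := by
  classical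
  haveI : (x.asIdeal.comap (Ideal.Quotient.mk J)).IsPrime := Ideal.comap_isPrime _ _
  have hJq : J ≤ x.asIdeal.comap (Ideal.Quotient.mk J) := by
    intro b hb
    rw [Ideal.mem_comap, Ideal.Quotient.eq_zero_iff_mem.mpr hb]
    exact Ideal.zero_mem _
  obtain ⟨f, hf, J₀, hJ₀, het⟩ := Lib.Helper19.SmSliceRing.slice C B J hsurj
    (x.asIdeal.comap (Ideal.Quotient.mk J)) hJq
  exact ⟨f, fun h => hf (Ideal.mem_comap.mpr h), J₀, hJ₀, het⟩

end Groth.Agent.S18416
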