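import Groth.Statements.S18423
import Groth.Agent.Lib.Helper7.PurityDiscr

set_option autoImplicit false
universe u v
open Pi1

namespace Groth.Agent.S18423

/-- Let A be a Noetherian local ring of Krull dimension at least 2 and B a finite flat commutative
A-algebra. If B is etale over A at every prime of B lying over a non-maximal prime of A (that is,
Spec B is etale over the punctured spectrum of A), then B is etale over A. -/
theorem result (A : Type u) (B : Type v) [CommRing A] [CommRing B]
    [Algebra A B] [IsNoetherianRing A] [IsLocalRing A] (hdim : (2 : WithBot ℕ∞) ≤ ringKrullDim A)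
    [Module.Finite A B] [Module.Flat A B]
    (h : ∀ q : PrimeSpectrum B, q.asIdeal.comap (algebraMap A B) ≠ IsLocalRing.maximalIdeal A →
      Algebra.IsEtaleAt A q.asIdeal) :
    Algebra.Etale A B := by
  classical
  haveI : Module.FinitePresentation A B := Module.finitePresentation_of_finite A B
  haveI : Module.Free A B := Module.free_of_flat_of_isLocalRing
  let b := Module.Free.chooseBasis A B
  haveI : Fintype (Module.Free.ChooseBasisIndex A B) := Module.Free.ChooseBasisIndex.fintype A B
  apply Groth.Agent.Lib.Helper7.PurityDiscr.etale_of_forall_height_le_one b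
  intro q _ hq
  apply h ⟨q, inferInstance⟩
  intro heq
  change q.comap (algebraMap A B) = IsLocalRing.maximalIdeal A at heq
  rw [heq] at hq
  have h0 : (((IsLocalRing.maximalIdeal A).height : ℕ∞) : WithBot ℕ∞) ≤ ((1 : ℕ∞) : WithBot ℕ∞) :=
    WithBot.coe_le_coe.mpr hq
  rw [IsLocalRing.maximalIdeal_height_eq_ringKrullDim] at h0
  have h1 : (2 : WithBot ℕ∞) ≤ ((1 : ℕ∞) : WithBot ℕ∞) := le_trans hdim h0
  have h2 : ((2 : ℕ∞) : WithBot ℕ∞) ≤ ((1 : ℕ∞) : WithBot ℕ∞) := h1
  have h3 : (2 : ℕ∞) ≤ 1 := WithBot.coe_le_coe.mp h2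
  exact absurd h3 (by decide)

end Groth.Agent.S18423
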