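import Groth.Statements.S18426
import Groth.Agent.Lib.Helper13.NormField
import Groth.Agent.Lib.Helper13.IntBirational

set_option autoImplicit false
universe u
open Pi1

namespace Groth.Agent.S18426

open AlgebraicGeometry CategoryTheory CategoryTheory.Limits in
/-- Suppose X is an integral scheme that is Noetherian and normal, write K for its function field, and
take L to be a finite separable extension of K. Then the normalization of X in L, namely the
relative normalization of the morphism Spec L → Spec K → X, is finite over X. (That this
normalization is a normal integral scheme with function field L is not restated.) -/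
theorem result {X : Scheme.{u}} [IsIntegral X] [IsNoetherian X]
    (hX : Pi1.IsNormalScheme X) (L : Type u) [Field L] [Algebra X.functionField L] [FiniteDimensional X.functionField L]
    [Algebra.IsSeparable X.functionField L]
    [QuasiCompact (Spec.map (CommRingCat.ofHom (algebraMap X.functionField L)) ≫ X.fromSpecStalk (genericPoint X))]
    [QuasiSeparated (Spec.map (CommRingCat.ofHom (algebraMap X.functionField L)) ≫ X.fromSpecStalk (genericPoint X))] :
    IsFinite (Spec.map (CommRingCat.ofHom (algebraMap X.functionField L)) ≫ X.fromSpecStalk (genericPoint X)).fromNormalization := by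
  set g := Spec.map (CommRingCat.ofHom (algebraMap X.functionField L)) ≫
    X.fromSpecStalk (genericPoint X) with hg
  haveI : IsIntegralHom g.fromNormalization := inferInstance
  refine { finite_app := fun U hU => ?_ }
  by_cases hne : Nonempty U
  · haveI := hne
    have hηU : genericPoint X ∈ U :=
      ((genericPoint_spec X).mem_open_set_iff U.isOpen).mpr
        (by obtain ⟨x⟩ := hne; exact ⟨x.1, Set.mem_univ _, x.2⟩)
    haveI : IsDomain Γ(X, U) := IsIntegral.component_integral U
    haveI hfr := functionField_isFractionRing_of_isAffineOpen X U hU
    haveI : IsNoetherianRing Γ(X, U) := IsLocallyNoetherian.component_noetherian ⟨U, hU⟩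
    haveI : IsIntegrallyClosed Γ(X, U) :=
      Groth.Agent.Lib.Helper13.IntBirational.isIntegrallyClosed_of_isAffineOpen X U
        (fun x _ => (hX x).2) hU
    letI : Algebra Γ(X, U) L :=
      ((algebraMap X.functionField L).comp (X.presheaf.germ U (genericPoint X) hηU).hom).toAlgebra
    haveI : IsScalarTower Γ(X, U) X.functionField L := .of_algebraMap_eq (fun a => rfl)
    have hfin : Module.Finite Γ(X, U) (integralClosure Γ(X, U) L) :=
      IsIntegralClosure.finite Γ(X, U) X.functionField L (integralClosure Γ(X, U) L)
    obtain ⟨e, he⟩ := Groth.Agent.Lib.Helper13.NormField.exists_sectionsEquiv X L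
      (algebraMap X.functionField L) g hg hU hηU
    have h1 : (e.symm.toRingHom.comp (algebraMap Γ(X, U) (integralClosure Γ(X, U) L))).Finite :=
      RingHom.Finite.comp (RingHom.Finite.of_surjective _ e.symm.surjective)
        (RingHom.finite_algebraMap.mpr hfin)
    have h2 : e.symm.toRingHom.comp (algebraMap Γ(X, U) (integralClosure Γ(X, U) L)) =
        (g.fromNormalization.app U).hom := by
      ext a
      rw [RingHom.comp_apply, ← he a]
      exact e.symm_apply_apply _
    rw [h2] at h1
    exact h1
  · have hU0 : U = ⊥ := by
      ext x
      simp only [TopologicalSpace.Opens.coe_bot, Set.mem_empty_iff_false, iff_false]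
      exact fun hx => hne ⟨⟨x, hx⟩⟩
    subst hU0
    letI := (g.fromNormalization.app ⊥).hom.toAlgebra
    haveI : Subsingleton Γ(g.normalization, g.fromNormalization ⁻¹ᵁ ⊥) := by
      rw [Scheme.Hom.preimage_bot]
      infer_instance
    show Module.Finite _ _
    infer_instance

end Groth.Agent.S18426
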