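import Groth.Statements.S18427
import Mathlib
import Groth.Statements.S18427
import Groth.Agent.Lib.Helper13.GeomConnAll

set_option autoImplicit false
universe u
open Models

namespace Groth.Agent.S18427

section helpers
set_option linter.unusedSectionVars false
set_option linter.unusedVariables false
set_option linter.style.haveILetI false
open CategoryTheory CategoryTheory.Limits AlgebraicGeometry TopologicalSpace PrimeSpectrum IsLocalRing


open Groth.Agent.Lib.Helper13.GeomConnAll

/-- fibre over a point with zero ideal of a scheme over a domain `R`, whose base change to the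
fraction field is geometrically connected -/
theorem geomConn_fibre_of_bot (R : Type u) [CommRing R] [IsDomain R] {C X : Scheme.{u}}
    (f : C ⟶ Spec (CommRingCat.of (FractionRing R))) (p : X ⟶ Spec (CommRingCat.of R))
    [GeometricallyConnected f] (g : C ⟶ X)
    (hpb : IsPullback g f p (Spec.map (CommRingCat.ofHom (algebraMap R (FractionRing R)))))
    (η : ↥(Spec (CommRingCat.of R))) (hη : η.asIdeal = ⊥) :
    GeometricallyConnected (p.fiberToSpecResidueField η) := by
  refine ⟨fun L _ y Z fst snd hZ => ?_⟩
  have hZ1 : IsPullback (fst ≫ p.fiberι η) snd p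
      (y ≫ (Spec (CommRingCat.of R)).fromSpecResidueField η) :=
    hZ.paste_horiz (IsPullback.of_hasPullback p _)
  obtain ⟨ψ, hψ⟩ := Spec.map_surjective (y ≫ (Spec (CommRingCat.of R)).fromSpecResidueField η)
  have hinj : Function.Injective ψ.hom := by
    rw [RingHom.injective_iff_ker_eq_bot]
    let x : ↥(Spec (CommRingCat.of L)) := ⟨⊥, Ideal.isPrime_bot⟩
    have h1 : (Spec.map ψ) x = η := by
      rw [hψ, Scheme.Hom.comp_apply]
      exact Scheme.fromSpecResidueField_apply _ _
    have h2 : ((Spec.map ψ) x).asIdeal = RingHom.ker ψ.hom := rfl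
    rw [← h2, h1, hη]
  let ψ' : FractionRing R →+* L := IsFractionRing.lift (g := ψ.hom) hinj
  have hψ' : ψ'.comp (algebraMap R (FractionRing R)) = ψ.hom := by
    ext r
    exact IsFractionRing.lift_algebraMap hinj r
  have hfac : Spec.map (CommRingCat.ofHom ψ') ≫
      Spec.map (CommRingCat.ofHom (algebraMap R (FractionRing R))) =
      y ≫ (Spec (CommRingCat.of R)).fromSpecResidueField η := by
    rw [← hψ, ← Spec.map_comp]
    congr 1
    ext r
    exact congrArg (fun φ => φ r) hψ'
  rw [← hfac] at hZ1
  let l : Z ⟶ C := hpb.lift (fst ≫ p.fiberι η) (snd ≫ Spec.map (CommRingCat.ofHom ψ'))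
    (by rw [Category.assoc snd]; exact hZ1.w)
  have hl1 : l ≫ g = fst ≫ p.fiberι η := hpb.lift_fst _ _ _
  have hl2 : l ≫ f = snd ≫ Spec.map (CommRingCat.ofHom ψ') := hpb.lift_snd _ _ _
  have hZ2 : IsPullback l snd f (Spec.map (CommRingCat.ofHom ψ')) :=
    IsPullback.of_right (by rw [hl1]; exact hZ1) hl2 hpb
  exact GeometricallyConnected.geometrically_connectedSpace _ l snd hZ2

theorem main (R : Type u) [CommRing R] [IsDomain R]
    [IsDiscreteValuationRing R] (C X : Scheme.{u})
    (f : C ⟶ Spec (CommRingCat.of (FractionRing R))) (p : X ⟶ Spec (CommRingCat.of R))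
    (hC : Curve.IsSmoothProperCurve (FractionRing R) C f) [GeometricallyConnected f]
    (hX : Models.IsRegularProperModel R X p C f) :
    GeometricallyConnected p := by
  obtain ⟨⟨hflat, hlft, hqc, g, hpb⟩, hproper, -⟩ := hX
  haveI := hflat
  haveI := hproper
  -- every fibre is nonempty
  have hne : ∀ s : ↥(Spec (CommRingCat.of R)), Nonempty ↥(p.fiber s) := by
    intro s
    haveI : Nonempty ↥(Spec (CommRingCat.of (FractionRing R))) := ⟨⟨⊥, Ideal.isPrime_bot⟩⟩
    obtain ⟨c⟩ : Nonempty C := by
      obtain ⟨c, _⟩ := f.surjective ⟨⊥, Ideal.isPrime_bot⟩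
      exact ⟨c⟩
    have hcl : IsClosed (Set.range p) := p.isClosedMap.isClosed_range
    have hz : p (g c) ⤳ s := by
      have e := congrArg (fun φ : C ⟶ Spec (CommRingCat.of R) => φ c) hpb.w
      simp only [Scheme.Hom.comp_apply] at e
      rw [e]
      refine (PrimeSpectrum.le_iff_specializes _ s).mp ?_
      have h2 : ((Spec.map (CommRingCat.ofHom (algebraMap R (FractionRing R)))) (f c)).asIdeal =
          Ideal.comap (algebraMap R (FractionRing R)) (f c).asIdeal := rfl
      show ((Spec.map (CommRingCat.ofHom (algebraMap R (FractionRing R)))) (f c)).asIdeal ≤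
        s.asIdeal
      rw [h2]
      have h3 : (f c).asIdeal = ⊥ := by
        haveI := (f c).isPrime
        exact Ideal.eq_bot_of_prime _
      rw [h3]
      intro r hr
      have : algebraMap R (FractionRing R) r = 0 := hr
      have hr0 : r = 0 := (IsFractionRing.injective R (FractionRing R)) (by rw [this, map_zero])
      rw [hr0]; exact Ideal.zero_mem _
    obtain ⟨x, hx⟩ := hz.mem_closed hcl ⟨g c, rfl⟩
    have : x ∈ Set.range (p.fiberι s) := by rw [p.range_fiberι]; exact hx
    obtain ⟨z, _⟩ := this
    exact ⟨z⟩
  have hgen : ∀ η : ↥(Spec (CommRingCat.of R)),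
      (∀ η' : ↥(Spec (CommRingCat.of R)), η' ⤳ η → η' = η) → Nonempty ↥(p.fiber η) →
      GeometricallyConnected (p.fiberToSpecResidueField η) := by
    intro η hmax _
    let η₀ : ↥(Spec (CommRingCat.of R)) := ⟨⊥, Ideal.isPrime_bot⟩
    have h1 : η₀ = η := hmax η₀ ((PrimeSpectrum.le_iff_specializes η₀ η).mp bot_le)
    exact geomConn_fibre_of_bot R f p g hpb η (by rw [← h1])
  rw [GeometricallyConnected.iff_geometricallyConnected_fiber]
  intro s
  haveI := hne s
  exact geometricallyConnected_fibre p hgen s


end helpers

open CategoryTheory AlgebraicGeometry in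
/-- Let R be a discrete valuation ring with fraction field K, C a smooth proper geometrically connected
curve over K, and X a regular proper model of C over R (flat and proper over R, regular, with
generic fibre C). Then the structure morphism X → Spec R has geometrically connected fibres; in
particular the special fibre of X is geometrically connected over the residue field of R. -/
theorem result (R : Type u) [CommRing R] [IsDomain R]
    [IsDiscreteValuationRing R] (C X : Scheme.{u})
    (f : C ⟶ Spec (CommRingCat.of (FractionRing R))) (p : X ⟶ Spec (CommRingCat.of R))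
    (hC : Curve.IsSmoothProperCurve (FractionRing R) C f) [GeometricallyConnected f]
    (hX : Models.IsRegularProperModel R X p C f) :
    GeometricallyConnected p := by
  exact main R C X f p hC hX

end Groth.Agent.S18427
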