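import Groth.Statements.S18429
import Mathlib.Tactic

set_option autoImplicit false
universe u
open SpinCurv

namespace Groth.Agent.S18429

lemma secdiff_min (j t : ℕ) :
    ((min j t : ℕ) : ℤ) - 2 * ((min (j + 1) t : ℕ) : ℤ) + ((min (j + 2) t : ℕ) : ℤ)
      = if j + 1 = t then -1 else 0 := by
  split_ifs with h <;> omega

lemma mod_lin (n r : ℕ) (e : ℕ → ℤ) (he0 : e 0 = 0)
    (hdiv : ∀ j : ℕ, 1 ≤ j → j < n * r → (r : ℤ) ∣ e (j - 1) - 2 * e j + e (j + 1)) :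
    ∀ j : ℕ, j ≤ n * r → (r : ℤ) ∣ e j - j * e 1 ∧ (j + 1 ≤ n * r → (r : ℤ) ∣ e (j + 1) - (j + 1 : ℕ) * e 1) := by
  intro j
  induction j with
  | zero =>
    intro _
    refine ⟨by simp [he0], fun _ => by simp⟩
  | succ j ih =>
    intro hj
    obtain ⟨h1, h2⟩ := ih (by omega)
    refine ⟨h2 hj, fun hj2 => ?_⟩
    have h3 := hdiv (j + 1) (by omega) (by omega)
    have h2' := h2 hj
    simp only [Nat.add_sub_cancel] at h3
    have : e (j + 1 + 1) - ((j + 1 + 1 : ℕ) : ℤ) * e 1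
        = (e j - 2 * e (j + 1) + e (j + 1 + 1)) - (e j - j * e 1)
          + 2 * (e (j + 1) - ((j + 1 : ℕ) : ℤ) * e 1) := by
      push_cast; ring
    rw [this]
    exact dvd_add (dvd_sub h3 h1) (Dvd.dvd.mul_left h2' 2)


/-- Let n ≥ 1 and r ≥ 2 be integers and let e_0, …, e_{nr} be integers with e_0 = e_{nr} = 0 (the
coefficients of a chain of nr - 1 exceptional curves joining two non-exceptional components with
coefficient zero) such that at every interior index 1 ≤ j ≤ nr - 1 the second difference e_{j-1} - 2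
e_j + e_{j+1} (the degree of the divisor Σ e_i E_i on the j-th curve of the chain) is divisible by
r. Then there are integers e'_0, …, e'_{nr}, with e'_j ≡ e_j modulo r for every interior j, with
e'_0 = e'_{nr} = 0 and every e'_j ≤ 0, whose second differences at the interior indices are each 0
or r, and are nonzero at no two distinct interior indices. -/
theorem result (n r : ℕ) (hn : 1 ≤ n) (hr : 2 ≤ r)
    (e : ℕ → ℤ) (he0 : e 0 = 0) (henr : e (n * r) = 0)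
    (hdiv : ∀ j : ℕ, 1 ≤ j → j < n * r → (r : ℤ) ∣ e (j - 1) - 2 * e j + e (j + 1)) :
    ∃ e' : ℕ → ℤ, e' 0 = 0 ∧ e' (n * r) = 0 ∧
      (∀ j : ℕ, 1 ≤ j → j < n * r → (r : ℤ) ∣ e' j - e j) ∧
      (∀ j : ℕ, j ≤ n * r → e' j ≤ 0) ∧
      (∀ j : ℕ, 1 ≤ j → j < n * r →
        (e' (j - 1) - 2 * e' j + e' (j + 1) = 0 ∨ e' (j - 1) - 2 * e' j + e' (j + 1) = r)) ∧
      (∀ j j' : ℕ, 1 ≤ j → j < n * r → 1 ≤ j' → j' < n * r →
        e' (j - 1) - 2 * e' j + e' (j + 1) ≠ 0 → e' (j' - 1) - 2 * e' j' + e' (j' + 1) ≠ 0 → j = j') := by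
  have hr0 : (r : ℤ) ≠ 0 := by exact_mod_cast (by omega : r ≠ 0)
  have ha0 : 0 ≤ e 1 % (r : ℤ) := Int.emod_nonneg _ hr0
  have ha1 : e 1 % (r : ℤ) < r := Int.emod_lt_of_pos _ (by exact_mod_cast (by omega : 0 < r))
  obtain ⟨a, ha⟩ : ∃ a : ℕ, (a : ℤ) = e 1 % (r : ℤ) := ⟨(e 1 % (r : ℤ)).toNat, Int.toNat_of_nonneg ha0⟩
  have har : a < r := by
    have : (a : ℤ) < r := by rw [ha]; exact ha1
    exact_mod_cast this
  have hae : (r : ℤ) ∣ (a : ℤ) - e 1 := by
    rw [ha]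
    exact ⟨-(e 1 / r), by rw [Int.emod_def]; ring⟩
  -- second difference of e'
  have hsd : ∀ j : ℕ, ((a : ℤ) * (j : ℕ) - r * ((min j (n * a) : ℕ) : ℤ))
      - 2 * ((a : ℤ) * ((j + 1 : ℕ) : ℤ) - r * ((min (j + 1) (n * a) : ℕ) : ℤ))
      + ((a : ℤ) * ((j + 2 : ℕ) : ℤ) - r * ((min (j + 2) (n * a) : ℕ) : ℤ))
      = if j + 1 = n * a then (r : ℤ) else 0 := by
    intro j
    have := secdiff_min j (n * a)
    have h2 : ((a : ℤ) * (j : ℕ) - r * ((min j (n * a) : ℕ) : ℤ))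
      - 2 * ((a : ℤ) * ((j + 1 : ℕ) : ℤ) - r * ((min (j + 1) (n * a) : ℕ) : ℤ))
      + ((a : ℤ) * ((j + 2 : ℕ) : ℤ) - r * ((min (j + 2) (n * a) : ℕ) : ℤ))
      = - (r : ℤ) * (((min j (n * a) : ℕ) : ℤ) - 2 * ((min (j + 1) (n * a) : ℕ) : ℤ)
          + ((min (j + 2) (n * a) : ℕ) : ℤ)) := by
      push_cast; ring
    rw [h2, this]
    split_ifs <;> ring
  refine ⟨fun j => (a : ℤ) * (j : ℕ) - r * ((min j (n * a) : ℕ) : ℤ), ?_, ?_, ?_, ?_, ?_, ?_⟩
  · simp
  · have : min (n * r) (n * a) = n * a := min_eq_right (Nat.mul_le_mul_left n har.le)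
    simp only [this]
    push_cast; ring
  · intro j hj1 hj2
    have h1 := (mod_lin n r e he0 hdiv j hj2.le).1
    have : (a : ℤ) * (j : ℕ) - r * ((min j (n * a) : ℕ) : ℤ) - e j
        = ((a : ℤ) - e 1) * j - (e j - j * e 1) - r * ((min j (n * a) : ℕ) : ℤ) := by ring
    rw [this]
    exact dvd_sub (dvd_sub (Dvd.dvd.mul_right hae _) h1) (dvd_mul_right _ _)
  · intro j hj
    simp only
    rcases le_total j (n * a) with h | h
    · rw [min_eq_left h]
      have : (a : ℤ) ≤ r := by exact_mod_cast har.le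
      nlinarith [(Nat.cast_nonneg j : (0 : ℤ) ≤ j)]
    · rw [min_eq_right h]
      have h1 : (j : ℤ) ≤ (n * r : ℕ) := by exact_mod_cast hj
      push_cast at h1 ⊢
      nlinarith [(Nat.cast_nonneg a : (0 : ℤ) ≤ a)]
  · intro j hj1 hj2
    obtain ⟨i, rfl⟩ : ∃ i, j = i + 1 := ⟨j - 1, by omega⟩
    simp only [Nat.add_sub_cancel]
    have := hsd i
    rw [show i + 1 + 1 = i + 2 from rfl]
    rw [this]
    split_ifs
    · right; rfl
    · left; rfl
  · intro j j' hj1 hj2 hj1' hj2' h h'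
    obtain ⟨i, rfl⟩ : ∃ i, j = i + 1 := ⟨j - 1, by omega⟩
    obtain ⟨i', rfl⟩ : ∃ i, j' = i + 1 := ⟨j' - 1, by omega⟩
    simp only [Nat.add_sub_cancel] at h h'
    rw [show i + 1 + 1 = i + 2 from rfl, hsd i] at h
    rw [show i' + 1 + 1 = i' + 2 from rfl, hsd i'] at h'
    split_ifs at h with h1
    · split_ifs at h' with h2
      · omega
      · exact absurd rfl h'
    · exact absurd rfl h

end Groth.Agent.S18429
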