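import Groth.Statements.S18432
import Groth.Agent.Lib.helper10.NodeNFE

set_option autoImplicit false
universe u
open SpinCurv

namespace Groth.Agent.S18432

/-- Let R be a complete Noetherian local ring, p, q elements of its maximal ideal, A = R[[x, y]]/(xy -
pq), and α(p, q) the A-linear endomorphism of A² with matrix (x p; q y), sending a column (a, b) to
(x a + p b, q a + y b). Then the kernel of α(p, q) is the submodule of A² generated by the columns
(p, -x) and (y, -q); equivalently the image of α(p, q) (the standard rank-one torsion-free module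
E(p, q)) is presented by two generators ξ, v with the relations p ξ = x v and y ξ = q v. -/
theorem result (R : Type u) [CommRing R] [IsNoetherianRing R] [IsLocalRing R]
    [IsAdicComplete (IsLocalRing.maximalIdeal R) R]
    (p q : R) (hp : p ∈ IsLocalRing.maximalIdeal R) (hq : q ∈ IsLocalRing.maximalIdeal R) :
    LinearMap.ker (Matrix.mulVecLin (SpinCurv.nodeAlpha R p q)) =
      Submodule.span (SpinCurv.NodeRing R (p * q))
        {![algebraMap R (SpinCurv.NodeRing R (p * q)) p, -SpinCurv.NodeRing.x R (p * q)],
         ![SpinCurv.NodeRing.y R (p * q), -algebraMap R (SpinCurv.NodeRing R (p * q)) q]} := by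
  open Groth.Agent.Lib.helper10.NodeNF in
  apply le_antisymm
  · intro v hv
    rw [LinearMap.mem_ker, Matrix.mulVecLin_apply, mulVec_nodeAlpha, vec2_eq_zero] at hv
    obtain ⟨u, w, h0, h1⟩ := ker_le (IsLocalRing.maximalIdeal R) p q hp v hv.1 hv.2
    rw [Submodule.mem_span_pair]
    refine ⟨u, w, ?_⟩
    funext i
    fin_cases i
    · simp only [Fin.zero_eta, Pi.add_apply, Pi.smul_apply, Matrix.cons_val_zero, smul_eq_mul]
      rw [h0]
    · simp only [Fin.mk_one, Pi.add_apply, Pi.smul_apply, Matrix.cons_val_one, smul_eq_mul,
        Matrix.cons_val_zero]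
      rw [h1]; ring
  · rw [Submodule.span_le]
    have hxy := x_mul_y (R := R) (p * q)
    have hPQ : algebraMap R (SpinCurv.NodeRing R (p * q)) (p * q) =
        algebraMap R _ p * algebraMap R _ q := map_mul _ _ _
    rw [hPQ] at hxy
    rintro v (rfl | rfl)
    · rw [SetLike.mem_coe, LinearMap.mem_ker, Matrix.mulVecLin_apply, mulVec_nodeAlpha, vec2_eq_zero]
      simp only [Matrix.cons_val_zero, Matrix.cons_val_one]
      constructor
      · ring
      · linear_combination (-1 : SpinCurv.NodeRing R (p * q)) * hxy
    · rw [SetLike.mem_coe, LinearMap.mem_ker, Matrix.mulVecLin_apply, mulVec_nodeAlpha, vec2_eq_zero]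
      simp only [Matrix.cons_val_zero, Matrix.cons_val_one]
      constructor
      · linear_combination hxy
      · ring

end Groth.Agent.S18432
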