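import Groth.Statements.S18433
import Groth.Agent.Lib.helper10.NodeNFE

set_option autoImplicit false
universe u
open SpinCurv

namespace Groth.Agent.S18433

/-- Let R be a complete Noetherian local ring, p, q elements of its maximal ideal, A = R[[x, y]]/(xy -
pq), and α(p, q) the endomorphism (a, b) ↦ (x a + p b, q a + y b) of A². Restrict α(p, q) to pairs
(f, g) with f a power series in x alone and g a power series in y alone: the resulting map R[[x]] ×
R[[y]] → A², (f, g) ↦ (x f + p g, q f + y g), is injective and has the same image as α(p, q). Thus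
the image E(p, q) of α(p, q) is identified, R-linearly, with R[[x]] ⊕ R[[y]]. -/
theorem result (R : Type u) [CommRing R] [IsNoetherianRing R] [IsLocalRing R]
    [IsAdicComplete (IsLocalRing.maximalIdeal R) R]
    (p q : R) (hp : p ∈ IsLocalRing.maximalIdeal R) (hq : q ∈ IsLocalRing.maximalIdeal R) :
    Function.Injective (fun fg : PowerSeries R × PowerSeries R =>
        Matrix.mulVec (SpinCurv.nodeAlpha R p q)
          ![SpinCurv.NodeRing.ofX R (p * q) fg.1, SpinCurv.NodeRing.ofY R (p * q) fg.2]) ∧
    Set.range (fun fg : PowerSeries R × PowerSeries R =>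
        Matrix.mulVec (SpinCurv.nodeAlpha R p q)
          ![SpinCurv.NodeRing.ofX R (p * q) fg.1, SpinCurv.NodeRing.ofY R (p * q) fg.2]) =
      Set.range (Matrix.mulVec (SpinCurv.nodeAlpha R p q)) := by
  open Groth.Agent.Lib.helper10.NodeNF in
  constructor
  · rintro ⟨f, g⟩ ⟨f', g'⟩ h
    simp only at h
    rw [mulVec_nodeAlpha, mulVec_nodeAlpha] at h
    simp only [Matrix.cons_val_zero, Matrix.cons_val_one] at h
    have h0 := congrFun h 0
    have h1 := congrFun h 1
    simp only [Matrix.cons_val_zero, Matrix.cons_val_one] at h0 h1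
    obtain ⟨e1, e2⟩ := inj_aux (IsLocalRing.maximalIdeal R) p q hp f g f' g' h0 h1
    rw [e1, e2]
  · apply Set.Subset.antisymm
    · rintro _ ⟨fg, rfl⟩
      exact ⟨_, rfl⟩
    · rintro _ ⟨v, rfl⟩
      obtain ⟨f, g, h0, h1⟩ := range_aux (IsLocalRing.maximalIdeal R) p q hp v
      refine ⟨(f, g), ?_⟩
      simp only
      rw [mulVec_nodeAlpha, mulVec_nodeAlpha]
      simp only [Matrix.cons_val_zero, Matrix.cons_val_one]
      funext i
      fin_cases i
      · exact h0
      · exact h1

end Groth.Agent.S18433
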