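import Groth.Statements.S18435
import Mathlib.Tactic

set_option autoImplicit false
universe u
open SpinCurv

namespace Groth.Agent.S18435

open LaurentPolynomial in
lemma trunc_neg (k : Type u) [Field k] (F : Polynomial k) :
    LaurentPolynomial.trunc (LaurentPolynomial.T (-1) * LaurentPolynomial.invert (Polynomial.toLaurent F)) = 0 := by
  induction F using Polynomial.induction_on' with
  | add p q hp hq => rw [map_add, map_add, mul_add, map_add, hp, hq, add_zero]
  | monomial n a =>
    have e : LaurentPolynomial.invert (Polynomial.toLaurent (Polynomial.monomial n a))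
        = LaurentPolynomial.C a * LaurentPolynomial.T (-(n : ℤ)) := by
      rw [Polynomial.toLaurent_C_mul_T]
      simp
    rw [e, LaurentPolynomial.T_mul, mul_assoc, ← LaurentPolynomial.T_add, LaurentPolynomial.trunc_C_mul_T,
      if_neg (by omega)]

lemma key (k : Type u) [Field k] (G F : Polynomial k)
    (h : Polynomial.toLaurent G =
      LaurentPolynomial.T (-1) * LaurentPolynomial.invert (Polynomial.toLaurent F)) : G = 0 ∧ F = 0 := by
  have hG : G = 0 := by
    rw [← Polynomial.trunc_toLaurent G, h, trunc_neg]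
  refine ⟨hG, ?_⟩
  rw [hG, map_zero] at h
  have h1 : LaurentPolynomial.invert (Polynomial.toLaurent F) = 0 := by
    have hu := LaurentPolynomial.isUnit_T (R := k) (-1)
    exact (hu.mul_right_eq_zero).mp h.symm
  have h2 : Polynomial.toLaurent F = 0 := by
    have := congrArg LaurentPolynomial.invert h1
    rw [LaurentPolynomial.involutive_invert, map_zero] at this
    exact this
  exact Polynomial.toLaurent_eq_zero.mp h2

section
variable (k : Type u) [Field k]

local notation "A" => SpinCurv.PolyNodeRing k 0
local notation "x" => SpinCurv.PolyNodeRing.x k 0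
local notation "y" => SpinCurv.PolyNodeRing.y k 0

lemma xy_zero : x * y = 0 := by
  rw [← map_mul, Ideal.Quotient.eq_zero_iff_mem]
  apply Ideal.subset_span
  simp

lemma yx_zero : y * x = 0 := by rw [mul_comm, xy_zero]

lemma py_aux : ∀ a ∈ Ideal.span {(MvPolynomial.X 0 * MvPolynomial.X 1 - MvPolynomial.C 0 :
      MvPolynomial (Fin 2) k)}, MvPolynomial.aeval ![(0 : Polynomial k), Polynomial.X] a = 0 := by
  intro a ha
  have : Ideal.span {(MvPolynomial.X 0 * MvPolynomial.X 1 - MvPolynomial.C 0 :
      MvPolynomial (Fin 2) k)} ≤ RingHom.ker (MvPolynomial.aeval ![(0 : Polynomial k), Polynomial.X]) := by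
    rw [Ideal.span_le]
    rintro _ ⟨rfl⟩
    simp [RingHom.mem_ker]
  exact RingHom.mem_ker.mp (this ha)

/-- the projection `x ↦ 0, y ↦ X` -/
noncomputable def py : A →ₐ[k] Polynomial k :=
  Ideal.Quotient.liftₐ _ (MvPolynomial.aeval ![(0 : Polynomial k), Polynomial.X]) (py_aux k)

lemma py_x : py k x = 0 := by
  change MvPolynomial.aeval ![(0 : Polynomial k), Polynomial.X] (MvPolynomial.X 0) = 0
  simp

lemma py_y : py k y = Polynomial.X := by
  change MvPolynomial.aeval ![(0 : Polynomial k), Polynomial.X] (MvPolynomial.X 1) = Polynomial.X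
  simp

lemma decomp (a : A) : ∃ (c : k) (G₁ G₂ : Polynomial k),
    a = algebraMap k A c + x * Polynomial.aeval x G₁ + y * Polynomial.aeval y G₂ := by
  obtain ⟨P, rfl⟩ := Ideal.Quotient.mk_surjective a
  induction P using MvPolynomial.induction_on with
  | C c => exact ⟨c, 0, 0, by simp; rfl⟩
  | add p q hp hq =>
    obtain ⟨c, G₁, G₂, h⟩ := hp
    obtain ⟨c', G₁', G₂', h'⟩ := hq
    refine ⟨c + c', G₁ + G₁', G₂ + G₂', ?_⟩
    rw [map_add, h, h', map_add, map_add, map_add]
    ring
  | mul_X p i hp =>
    obtain ⟨c, G₁, G₂, h⟩ := hp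
    fin_cases i
    · refine ⟨0, Polynomial.C c + Polynomial.X * G₁, 0, ?_⟩
      rw [map_mul, h]
      simp only [Fin.zero_eta, map_zero, map_add, map_mul, Polynomial.aeval_C, Polynomial.aeval_X,
        mul_zero, add_zero, zero_add]
      have : (algebraMap k A c + x * Polynomial.aeval x G₁ + y * Polynomial.aeval y G₂) * x
          = x * (algebraMap k A c + x * Polynomial.aeval x G₁) + (y * x) * Polynomial.aeval y G₂ := by
        ring
      rw [this, yx_zero, zero_mul, add_zero]
    · refine ⟨0, 0, Polynomial.C c + Polynomial.X * G₂, ?_⟩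
      rw [map_mul, h]
      simp only [Fin.mk_one, map_zero, map_add, map_mul, Polynomial.aeval_C, Polynomial.aeval_X,
        mul_zero, add_zero, zero_add]
      have : (algebraMap k A c + x * Polynomial.aeval x G₁ + y * Polynomial.aeval y G₂) * y
          = y * (algebraMap k A c + y * Polynomial.aeval y G₂) + (x * y) * Polynomial.aeval x G₁ := by
        ring
      rw [this, xy_zero, zero_mul, add_zero]

/-- `y * a = 0` forces `a = x * G(x)` -/
lemma of_y_mul_eq_zero (a : A) (h : y * a = 0) : ∃ G : Polynomial k, a = x * Polynomial.aeval x G := by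
  obtain ⟨c, G₁, G₂, rfl⟩ := decomp k a
  refine ⟨G₁, ?_⟩
  have h1 : py k (y * (algebraMap k A c + x * Polynomial.aeval x G₁ + y * Polynomial.aeval y G₂)) = 0 := by
    rw [h]; exact map_zero (py k)
  rw [map_mul, map_add, map_add, map_mul, map_mul, py_x, py_y, zero_mul, add_zero,
    AlgHom.commutes, ← Polynomial.aeval_algHom_apply, py_y, Polynomial.aeval_X_left_apply] at h1
  have h2 : (algebraMap k (Polynomial k) c + Polynomial.X * G₂) = 0 := by
    rcases mul_eq_zero.mp h1 with h3 | h3
    · exact absurd h3 Polynomial.X_ne_zero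
    · exact h3
  have hc : c = 0 := by
    have := congrArg (Polynomial.coeff · 0) h2
    simpa [Polynomial.algebraMap_apply] using this
  have hG₂ : G₂ = 0 := by
    rw [hc, map_zero, zero_add] at h2
    rcases mul_eq_zero.mp h2 with h3 | h3
    · exact absurd h3 Polynomial.X_ne_zero
    · exact h3
  rw [hc, hG₂]
  simp

lemma aeval_T_one (G : Polynomial k) :
    Polynomial.aeval (LaurentPolynomial.T 1 : LaurentPolynomial k) G = Polynomial.toLaurent G := by
  have h := Polynomial.aeval_algHom_apply (Polynomial.toLaurentAlg (R := k)) (Polynomial.X) G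
  rw [Polynomial.aeval_X_left_apply, Polynomial.toLaurentAlg_apply, Polynomial.toLaurentAlg_apply,
    Polynomial.toLaurent_X] at h
  exact h

lemma aeval_T_neg_one (F : Polynomial k) :
    Polynomial.aeval (LaurentPolynomial.T (-1) : LaurentPolynomial k) F
      = LaurentPolynomial.invert (Polynomial.toLaurent F) := by
  have h := Polynomial.aeval_algHom_apply
    ((LaurentPolynomial.invert (R := k)).toAlgHom.comp (Polynomial.toLaurentAlg (R := k))) (Polynomial.X) F
  rw [Polynomial.aeval_X_left_apply] at h
  simp only [AlgHom.comp_apply, Polynomial.toLaurentAlg_apply, Polynomial.toLaurent_X] at h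
  have e : ((LaurentPolynomial.invert (R := k)).toAlgHom) (LaurentPolynomial.T 1)
      = LaurentPolynomial.T (-1) := LaurentPolynomial.invert_T 1
  rw [e] at h
  exact h

end


/-- Let k be a field and A = k[x, y]/(xy) the node, with the two affine charts U = Spec k[s, y]/(sy) and
V = Spec k[t, x]/(tx) of the curve obtained by the (p, q)-construction with p = q = 0, glued along
k[s, s⁻¹] by t = s⁻¹ (y ↦ 0 from U, x ↦ 0 from V), and with A → O(U) given by x ↦ 0, y ↦ y and A →
O(V) by x ↦ x, y ↦ 0. A global section of O(1) is a pair (g, f) with g = s f on U ∩ V. If such a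
pair is annihilated by both x and y (acting through the two restriction maps), then g = 0 and f = 0;
so the module of global sections of O(1) has no nonzero element killed by the maximal ideal (x, y),
i.e. its direct image on the node is torsion-free there. All three coordinate rings are written as
the quotient of the polynomial ring in two variables by the product of the variables, and the four
restriction homomorphisms are k-algebra maps pinned by their values on generators. (The published
proof reduces the torsion-freeness of the direct image of O(1), for general R, p, q, to exactly this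
case of a field with p = q = 0.) -/
theorem result (k : Type u) [Field k]
    (rU : SpinCurv.PolyNodeRing k 0 →ₐ[k] SpinCurv.PolyNodeRing k 0)
    (hrUx : rU (SpinCurv.PolyNodeRing.x k 0) = 0)
    (hrUy : rU (SpinCurv.PolyNodeRing.y k 0) = SpinCurv.PolyNodeRing.y k 0)
    (rV : SpinCurv.PolyNodeRing k 0 →ₐ[k] SpinCurv.PolyNodeRing k 0)
    (hrVx : rV (SpinCurv.PolyNodeRing.x k 0) = SpinCurv.PolyNodeRing.y k 0)
    (hrVy : rV (SpinCurv.PolyNodeRing.y k 0) = 0)
    (gU : SpinCurv.PolyNodeRing k 0 →ₐ[k] LaurentPolynomial k)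
    (hgUs : gU (SpinCurv.PolyNodeRing.x k 0) = LaurentPolynomial.T 1)
    (hgUy : gU (SpinCurv.PolyNodeRing.y k 0) = 0)
    (gV : SpinCurv.PolyNodeRing k 0 →ₐ[k] LaurentPolynomial k)
    (hgVt : gV (SpinCurv.PolyNodeRing.x k 0) = LaurentPolynomial.T (-1))
    (hgVx : gV (SpinCurv.PolyNodeRing.y k 0) = 0)
    (g f : SpinCurv.PolyNodeRing k 0) (hsec : gU g = LaurentPolynomial.T 1 * gV f)
    (hx : rU (SpinCurv.PolyNodeRing.x k 0) * g = 0 ∧ rV (SpinCurv.PolyNodeRing.x k 0) * f = 0)
    (hy : rU (SpinCurv.PolyNodeRing.y k 0) * g = 0 ∧ rV (SpinCurv.PolyNodeRing.y k 0) * f = 0) :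
    g = 0 ∧ f = 0 := by
  have hyg : SpinCurv.PolyNodeRing.y k 0 * g = 0 := by rw [← hrUy]; exact hy.1
  have hyf : SpinCurv.PolyNodeRing.y k 0 * f = 0 := by rw [← hrVx]; exact hx.2
  obtain ⟨G, rfl⟩ := of_y_mul_eq_zero k g hyg
  obtain ⟨F, rfl⟩ := of_y_mul_eq_zero k f hyf
  rw [map_mul, map_mul, ← Polynomial.aeval_algHom_apply, ← Polynomial.aeval_algHom_apply, hgUs, hgVt,
    aeval_T_one, aeval_T_neg_one] at hsec
  have hu := LaurentPolynomial.isUnit_T (R := k) 1
  have h := hu.mul_left_cancel hsec
  obtain ⟨hG, hF⟩ := key k G F h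
  rw [hG, hF]
  simp

end Groth.Agent.S18435
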