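import Groth.Statements.S18445
import Groth.Agent.Lib.Helper1.T1Glue
import Groth.Agent.Lib.Helper1.T1Tsze
import Groth.Agent.Lib.Helper1.RegPS

set_option autoImplicit false
universe u
open CategoryTheory
open Deform

namespace Groth.Agent.S18445

open ArtFun ArtFun.Art IsLocalRing Groth.Agent.Lib.Helper1.PSRing
  Groth.Agent.Lib.Helper1.T1Glue Groth.Agent.Lib.Helper1.T1Tsze

/-- The cotangent dimension of a power series ring. -/
lemma finrank_cotangentSpace_of_algEquiv {k : Type u} [Field k] (R : ArtFun.CRing k k) (d : ℕ)
    (e : MvPowerSeries (Fin d) k ≃ₐ[k] R.carrier) :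
    Module.finrank (IsLocalRing.ResidueField R.carrier) (IsLocalRing.CotangentSpace R.carrier) = d := by
  haveI : IsRegularLocalRing (MvPowerSeries (Fin d) k) :=
    Groth.Agent.Lib.Helper1.RegPS.isRegularLocalRing_ps d
  haveI : IsRegularLocalRing R.carrier := IsRegularLocalRing.of_ringEquiv e.toRingEquiv
  have h1 := (IsRegularLocalRing.iff_finrank_cotangentSpace R.carrier).1 inferInstance
  have h2 : ringKrullDim R.carrier = ringKrullDim (MvPowerSeries (Fin d) k) :=
    (ringKrullDim_eq_of_ringEquiv e.toRingEquiv).symm
  rw [h2, Groth.Agent.Lib.Helper1.RegPS.ringKrullDim_ps] at h1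
  exact_mod_cast h1

/-- Let k be a field of characteristic zero and R a complete local Noetherian k-algebra with residue
field k, with n the dimension of its cotangent space m_R/m_R². Then R is isomorphic as a k-algebra
to the power series ring k[[x_1, …, x_n]] if and only if for every local Artinian k-algebra A with
residue field k, all A-modules M and M' and every surjective A-linear map f : M' → M, every
k-algebra homomorphism R → A ⊕ M into the trivial square-zero extension is the composite of some
k-algebra homomorphism R → A ⊕ M' with the map A ⊕ M' → A ⊕ M induced by f. (The modules are taken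
in the universe of k, with the A-action on both sides equal; in positive characteristic the
criterion fails, e.g. for k[x]/(x^p).) -/
theorem result
    {k : Type u} [Field k] [CharZero k] (R : ArtFun.CRing k k) :
    Nonempty (R.carrier ≃ₐ[k] MvPowerSeries
        (Fin (Module.finrank (IsLocalRing.ResidueField R.carrier) (IsLocalRing.CotangentSpace R.carrier))) k) ↔
      ∀ (A : ArtFun.Art k k) (M M' : Type u) [AddCommGroup M] [Module (↥A) M] [Module (↥A)ᵐᵒᵖ M]
        [IsCentralScalar (↥A) M] [Module k M] [IsScalarTower k (↥A) M] [IsScalarTower k (↥A)ᵐᵒᵖ M]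
        [AddCommGroup M'] [Module (↥A) M'] [Module (↥A)ᵐᵒᵖ M'] [IsCentralScalar (↥A) M'] [Module k M']
        [IsScalarTower k (↥A) M'] [IsScalarTower k (↥A)ᵐᵒᵖ M'] (f : M' →ₗ[↥A] M),
        Function.Surjective f →
          ∀ φ : R.carrier →ₐ[k] TrivSqZeroExt (↥A) M,
            ∃ ψ : R.carrier →ₐ[k] TrivSqZeroExt (↥A) M',
              ∀ r : R.carrier, (ψ r).fst = (φ r).fst ∧ f (ψ r).snd = (φ r).snd := by
  classical
  constructor
  · rintro ⟨e⟩ A M M' _ _ _ _ _ _ _ _ _ _ _ _ _ _ f hf φ
    set n := Module.finrank (IsLocalRing.ResidueField R.carrier)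
      (IsLocalRing.CotangentSpace R.carrier) with hn
    -- images of the variables
    let y : Fin n → TrivSqZeroExt A M := fun i => φ (e.symm (MvPowerSeries.X i))
    choose m' hm' using fun i => hf (y i).snd
    let b : Fin n → TrivSqZeroExt A M' := fun i => ((y i).fst, m' i)
    have hres : (A.res.comp ((TrivSqZeroExt.fstHom k A M).comp
        (φ.comp (e.symm : MvPowerSeries (Fin n) k →ₐ[k] R.carrier)))) = psRes n :=
      Groth.Agent.Lib.Helper1.ArtFunObsPS.algHom_eq_psRes _
    have hyfst : ∀ i, IsNilpotent (y i).fst := by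
      intro i
      apply isNilpotent_of_mem_maximalIdeal A
      rw [A.mem_maximalIdeal_iff]
      have := congrArg (fun g : MvPowerSeries (Fin n) k →ₐ[k] k => g (MvPowerSeries.X i)) hres
      exact this.trans (psRes_X n i)
    have hb : ∀ i, IsNilpotent (b i) := fun i =>
      TrivSqZeroExt.isNilpotent_iff_isNilpotent_fst.2 (hyfst i)
    have hy : ∀ i, IsNilpotent (y i) := fun i =>
      TrivSqZeroExt.isNilpotent_iff_isNilpotent_fst.2 (hyfst i)
    let E : MvPowerSeries (Fin n) k →ₐ[k] TrivSqZeroExt A M' := evalNil b hb
    have hE : ∀ i, E (MvPowerSeries.X i) = b i := fun i => evalNil_X b hb i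
    have hcomp : (mapK (k := k) f).comp E =
        φ.comp (e.symm : MvPowerSeries (Fin n) k →ₐ[k] R.carrier) := by
      apply algHom_ext_X
      · intro i
        change mapK (k := k) f (E (MvPowerSeries.X i)) = y i
        rw [hE]
        exact TrivSqZeroExt.ext rfl (hm' i)
      · intro i
        change IsNilpotent (mapK (k := k) f (E (MvPowerSeries.X i)))
        rw [hE]
        have : mapK (k := k) f (b i) = y i := TrivSqZeroExt.ext rfl (hm' i)
        rw [this]
        exact hy i
    refine ⟨E.comp (e : R.carrier →ₐ[k] MvPowerSeries (Fin n) k), fun r => ?_⟩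
    have h1 := congrArg (fun g : MvPowerSeries (Fin n) k →ₐ[k] TrivSqZeroExt A M => g (e r)) hcomp
    change mapK (k := k) f (E (e r)) = φ (e.symm (e r)) at h1
    rw [AlgEquiv.symm_apply_apply] at h1
    constructor
    · exact congrArg TrivSqZeroExt.fst h1
    · exact congrArg TrivSqZeroExt.snd h1
  · intro H
    obtain ⟨d, π, hπ⟩ := exists_bijective_of_lifting R (by
      intro A d φ
      let f : (Fin d → A) →ₗ[A] (Fin d → A ⧸ maximalIdeal A) :=
        LinearMap.pi fun j => (Ideal.Quotient.mkₐ A (maximalIdeal A)).toLinearMap.comp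
          (LinearMap.proj j)
      have hf : Function.Surjective f := by
        intro v
        choose w hw using fun j => Ideal.Quotient.mk_surjective (v j)
        exact ⟨w, funext hw⟩
      obtain ⟨ψ, hψ⟩ := H A (Fin d → A ⧸ maximalIdeal A) (Fin d → A) f hf φ
      exact ⟨ψ, fun r => ⟨(hψ r).1, fun j => congrFun (hψ r).2 j⟩⟩)
    have e := AlgEquiv.ofBijective π hπ
    have hd := finrank_cotangentSpace_of_algEquiv R d e
    rw [hd]
    exact ⟨e.symm⟩

end Groth.Agent.S18445
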