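import Groth.Statements.S18470
import Mathlib
-- import your own Groth.Agent.* helpers here

set_option autoImplicit false
universe u v
open OortTate

namespace Groth.Agent.S18470

/-- Let R be a commutative ring and A a commutative Hopf algebra over R which is finitely generated and
projective as an R-module (a finite locally free group scheme G = Spec A, not assumed commutative),
and let A^D = Hom_R(A, R) be the dual algebra with its Hopf structure (the Cartier dual when A is
cocommutative), whose counit is evaluation at 1. Then restriction of linear forms to the
augmentation ideal I = ker ε_A of A is a bijection from the augmentation ideal of A^D onto the dual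
module Hom_R(I, R): the dual of the augmentation ideal of G is the augmentation ideal of the dual.
The published statement is for a group scheme of order p over a Λ_p-algebra; the argument uses only
the splitting A = R·1 ⊕ ker ε. -/
theorem result
    (R : Type u) [CommRing R] (A : Type v) [CommRing A] [HopfAlgebra R A]
    [Module.Finite R A] [Module.Projective R A] :
    Function.Bijective (fun f : LinearMap.ker (Bialgebra.counitAlgHom R (CartDual.D R A)).toLinearMap =>
      ((CartDual.toDual R A) (f : CartDual.D R A)).comp
        (LinearMap.ker (Bialgebra.counitAlgHom R A).toLinearMap).subtype) := by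
  classical
  -- the projection of A onto the augmentation ideal
  let I : Submodule R A := LinearMap.ker (Bialgebra.counitAlgHom R A).toLinearMap
  have hmemI : ∀ a : A, a ∈ I ↔ Coalgebra.counit (R := R) a = 0 := fun a => Iff.rfl
  let π₀ : A →ₗ[R] A := LinearMap.id - (Algebra.linearMap R A).comp (Coalgebra.counit (R := R) (A := A))
  have hπ₀ : ∀ a, π₀ a ∈ I := by
    intro a
    rw [hmemI]
    simp [π₀]
  let π : A →ₗ[R] I := LinearMap.codRestrict I π₀ hπ₀
  have hπI : ∀ a : I, π a = a := by
    intro a
    apply Subtype.ext
    have : Coalgebra.counit (R := R) (a : A) = 0 := (hmemI _).1 a.2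
    simp [π, π₀, this]
  have hmemD : ∀ f : CartDual.D R A,
      f ∈ LinearMap.ker (Bialgebra.counitAlgHom R (CartDual.D R A)).toLinearMap ↔
        (CartDual.toDual R A f) 1 = 0 := fun f => Iff.rfl
  constructor
  · rintro ⟨f, hf⟩ ⟨g, hg⟩ h
    apply Subtype.ext
    apply (CartDual.toDual R A).injective
    apply LinearMap.ext
    intro a
    have hf1 := (hmemD f).1 hf
    have hg1 := (hmemD g).1 hg
    have h2 := LinearMap.congr_fun h (π a)
    have ha : a = (π a : A) + (Coalgebra.counit (R := R) a) • (1 : A) := by
      simp [π, π₀, Algebra.algebraMap_eq_smul_one]
    change (CartDual.toDual R A f) (π a : A) = (CartDual.toDual R A g) (π a : A) at h2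
    rw [ha, map_add, map_add, map_smul, map_smul, hf1, hg1, h2]
  · intro g
    let f : CartDual.D R A := (CartDual.toDual R A).symm (g.comp π)
    have hf : f ∈ LinearMap.ker (Bialgebra.counitAlgHom R (CartDual.D R A)).toLinearMap := by
      rw [hmemD]
      change (CartDual.toDual R A ((CartDual.toDual R A).symm (g.comp π))) 1 = 0
      rw [LinearEquiv.apply_symm_apply]
      have : π 1 = 0 := by
        apply Subtype.ext
        simp [π, π₀]
      exact (congrArg g this).trans (map_zero g)
    refine ⟨⟨f, hf⟩, ?_⟩
    apply LinearMap.ext
    intro a
    change (CartDual.toDual R A ((CartDual.toDual R A).symm (g.comp π))) (a : A) = g a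
    rw [LinearEquiv.apply_symm_apply]
    exact congrArg g (hπI a)

end Groth.Agent.S18470
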