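import Groth.Statements.S18473
import Mathlib.RepresentationTheory.Maschke
import Mathlib.RingTheory.Jacobson.Semiprimary
import Mathlib.FieldTheory.Finite.Basic
-- import your own Groth.Agent.* helpers here

set_option autoImplicit false
set_option linter.unusedSectionVars false
universe u
open OortTate

namespace Groth.Agent.S18473

open WithConv

/-- power map on group-like basis elements -/
lemma powConv_single {R : Type u} [CommRing R] {G : Type} [CommGroup G] (n : ℕ) (g : G) :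
    SGA3b.powConv R (MonoidAlgebra R G) n (MonoidAlgebra.single g (1:R))
      = MonoidAlgebra.single (g ^ n) (1:R) := by
  unfold SGA3b.powConv
  induction n with
  | zero =>
    rw [pow_zero, pow_zero]
    show algebraMap R (MonoidAlgebra R G) (Coalgebra.counit (MonoidAlgebra.single g (1:R))) = _
    simp
  | succ n ih =>
    rw [pow_succ, AlgHom.convMul_apply, MonoidAlgebra.comul_single]
    simp [ih, pow_succ, MonoidAlgebra.single_mul_single]

section main

variable (R : Type u) [CommRing R] (p : ℕ) [Fact p.Prime]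

/-- `T^a` -/
noncomputable def Tm (a : ZMod p) : MonoidAlgebra R (Multiplicative (ZMod p)) :=
  MonoidAlgebra.single (Multiplicative.ofAdd a) (1:R)

lemma Tm_zero : Tm R p 0 = 1 := rfl

lemma Tm_add (a b : ZMod p) : Tm R p (a + b) = Tm R p a * Tm R p b := by
  unfold Tm
  rw [MonoidAlgebra.single_mul_single, one_mul, ofAdd_add]

lemma Tm_nsmul (a : ZMod p) (n : ℕ) : Tm R p a ^ n = Tm R p (n • a) := by
  unfold Tm
  rw [MonoidAlgebra.single_pow, one_pow, ofAdd_nsmul]

lemma muT_eq : muT R p = Tm R p 1 := rfl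

lemma powConv_Tm (n : ℕ) (a : ZMod p) :
    SGA3b.powConv R (MonoidAlgebra R (Multiplicative (ZMod p))) n (Tm R p a) = Tm R p (n * a) := by
  unfold Tm
  rw [powConv_single, ← ofAdd_nsmul, nsmul_eq_mul]

lemma powConv_val_Tm (m : (ZMod p)ˣ) (a : ZMod p) :
    SGA3b.powConv R (MonoidAlgebra R (Multiplicative (ZMod p))) (m : ZMod p).val (Tm R p a)
      = Tm R p (m * a) := by
  rw [powConv_Tm, ZMod.natCast_zmod_val]

variable {R p}

/-- explicit formula for `y_i` -/
lemma ygen_eq (u : R) (χ : (ZMod p)ˣ →* Rˣ) (i : ℕ) :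
    ygen R p u χ i = u • ∑ m : (ZMod p)ˣ, (((χ m⁻¹ : Rˣ) : R) ^ i) • (Tm R p (m : ZMod p) - 1) := by
  unfold ygen proj
  rw [LinearMap.smul_apply, LinearMap.sum_apply]
  congr 1
  refine Finset.sum_congr rfl fun m _ => ?_
  rw [LinearMap.smul_apply, AlgHom.toLinearMap_apply, map_sub, map_one, muT_eq, powConv_val_Tm,
    mul_one]

end main

section main2

variable {R : Type u} [CommRing R] {p : ℕ} [Fact p.Prime]

lemma chi_pow_card (χ : (ZMod p)ˣ →* Rˣ) (n : (ZMod p)ˣ) : ((χ n : Rˣ) : R) ^ (p - 1) = 1 := by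
  rw [← Units.val_pow_eq_pow_val, ← map_pow, ZMod.units_pow_card_sub_one_eq_one p n, map_one,
    Units.val_one]

/-- orthogonality of characters -/
lemma orth (u : R) (hu : u * ((p - 1 : ℕ) : R) = 1)
    (χ : (ZMod p)ˣ →* Rˣ) (hχ : ∀ m : (ZMod p)ˣ, m ≠ 1 → IsUnit ((χ m : R) - 1)) (n : (ZMod p)ˣ) :
    u * ∑ i ∈ Finset.range (p - 1), ((χ n : Rˣ) : R) ^ i = if n = 1 then 1 else 0 := by
  by_cases hn : n = 1
  · subst hn
    simp [hu]
  · rw [if_neg hn]
    have h1 : (((χ n : Rˣ) : R) - 1) * ∑ i ∈ Finset.range (p - 1), ((χ n : Rˣ) : R) ^ i = 0 := by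
      rw [mul_geom_sum, chi_pow_card, sub_self]
    have h2 := (hχ n hn).mul_right_eq_zero.1 h1
    rw [h2, mul_zero]

lemma chi_inv_mul (χ : (ZMod p)ˣ →* Rˣ) (m : (ZMod p)ˣ) :
    ((χ m⁻¹ : Rˣ) : R) * ((χ m : Rˣ) : R) = 1 := by
  rw [← Units.val_mul, ← map_mul, inv_mul_cancel, map_one, Units.val_one]

/-- `T^m - 1 = Σ_i χ(m)^i y_i` -/
lemma e_eq_sum (u : R) (hu : u * ((p - 1 : ℕ) : R) = 1)
    (χ : (ZMod p)ˣ →* Rˣ) (hχ : ∀ m : (ZMod p)ˣ, m ≠ 1 → IsUnit ((χ m : R) - 1)) (m' : (ZMod p)ˣ) :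
    Tm R p (m' : ZMod p) - 1 = ∑ i ∈ Finset.range (p - 1), (((χ m' : Rˣ) : R) ^ i) • ygen R p u χ i := by
  have h1 : ∀ i : ℕ, (((χ m' : Rˣ) : R) ^ i) • ygen R p u χ i
      = ∑ m : (ZMod p)ˣ, (u * ((χ (m' * m⁻¹) : Rˣ) : R) ^ i) • (Tm R p (m : ZMod p) - 1) := by
    intro i
    rw [ygen_eq, smul_smul, Finset.smul_sum]
    refine Finset.sum_congr rfl fun m _ => ?_
    rw [smul_smul, map_mul, Units.val_mul, mul_pow]
    ring_nf
  rw [Finset.sum_congr rfl fun i _ => h1 i, Finset.sum_comm]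
  have h2 : ∀ m : (ZMod p)ˣ, ∑ i ∈ Finset.range (p - 1),
      (u * ((χ (m' * m⁻¹) : Rˣ) : R) ^ i) • (Tm R p (m : ZMod p) - 1)
      = (if m = m' then (1:R) else 0) • (Tm R p (m : ZMod p) - 1) := by
    intro m
    rw [← Finset.sum_smul, ← Finset.mul_sum, orth u hu χ hχ]
    congr 1
    by_cases h : m = m'
    · subst h; simp
    · rw [if_neg h, if_neg]
      intro h'
      apply h
      rw [mul_inv_eq_one] at h'
      exact h'.symm
  rw [Finset.sum_congr rfl fun m _ => h2 m]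
  simp

end main2

section main3

variable {R : Type u} [CommRing R] {p : ℕ} [Fact p.Prime]

local notation "AA" => MonoidAlgebra R (Multiplicative (ZMod p))

lemma counit_Tm (a : ZMod p) :
    (Bialgebra.counitAlgHom R (MonoidAlgebra R (Multiplicative (ZMod p)))) (Tm R p a) = 1 := by
  unfold Tm
  show Coalgebra.counit (MonoidAlgebra.single (Multiplicative.ofAdd a) (1:R)) = 1
  rw [MonoidAlgebra.counit_single]
  rfl

lemma counit_e (a : ZMod p) :
    (Bialgebra.counitAlgHom R (MonoidAlgebra R (Multiplicative (ZMod p)))) (Tm R p a - 1) = 0 := by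
  rw [map_sub, counit_Tm, map_one, sub_self]

lemma sub_counit_mem (x : MonoidAlgebra R (Multiplicative (ZMod p))) :
    x - (Bialgebra.counitAlgHom R (MonoidAlgebra R (Multiplicative (ZMod p))) x) • 1
      ∈ Submodule.span R (Set.range fun m : (ZMod p)ˣ => Tm R p (m : ZMod p) - 1) := by
  induction x using MonoidAlgebra.induction_on with
  | of g =>
    have h1 : MonoidAlgebra.of R (Multiplicative (ZMod p)) g = Tm R p (Multiplicative.toAdd g) := rfl
    rw [h1, counit_Tm, one_smul]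
    generalize Multiplicative.toAdd g = a
    by_cases ha : a = 0
    · subst ha
      rw [Tm_zero, sub_self]
      exact Submodule.zero_mem _
    · exact Submodule.subset_span ⟨Units.mk0 a ha, rfl⟩
  | add x y hx hy =>
    have : x + y - (Bialgebra.counitAlgHom R (MonoidAlgebra R (Multiplicative (ZMod p))) (x + y)) • 1
        = (x - (Bialgebra.counitAlgHom R (MonoidAlgebra R (Multiplicative (ZMod p))) x) • 1)
          + (y - (Bialgebra.counitAlgHom R (MonoidAlgebra R (Multiplicative (ZMod p))) y) • 1) := by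
      rw [map_add, add_smul]; abel
    rw [this]
    exact Submodule.add_mem _ hx hy
  | smul r x hx =>
    have : r • x - (Bialgebra.counitAlgHom R (MonoidAlgebra R (Multiplicative (ZMod p))) (r • x)) • 1
        = r • (x - (Bialgebra.counitAlgHom R (MonoidAlgebra R (Multiplicative (ZMod p))) x) • 1) := by
      rw [map_smul, smul_sub, smul_eq_mul, mul_smul]
    rw [this]
    exact Submodule.smul_mem _ _ hx

lemma ker_le_span_e :
    LinearMap.ker (Bialgebra.counitAlgHom R (MonoidAlgebra R (Multiplicative (ZMod p)))).toLinearMap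
      ≤ Submodule.span R (Set.range fun m : (ZMod p)ˣ => Tm R p (m : ZMod p) - 1) := by
  intro x hx
  have h := sub_counit_mem x
  rw [LinearMap.mem_ker, AlgHom.toLinearMap_apply] at hx
  rwa [hx, zero_smul, sub_zero] at h

lemma ygen_mem_ker (u : R) (χ : (ZMod p)ˣ →* Rˣ) (i : ℕ) :
    ygen R p u χ i ∈
      LinearMap.ker (Bialgebra.counitAlgHom R (MonoidAlgebra R (Multiplicative (ZMod p)))).toLinearMap := by
  rw [ygen_eq]
  refine Submodule.smul_mem _ _ (Submodule.sum_mem _ fun m _ => Submodule.smul_mem _ _ ?_)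
  rw [LinearMap.mem_ker, AlgHom.toLinearMap_apply, counit_e]

lemma span_ygen (u : R) (hu : u * ((p - 1 : ℕ) : R) = 1)
    (χ : (ZMod p)ˣ →* Rˣ) (hχ : ∀ m : (ZMod p)ˣ, m ≠ 1 → IsUnit ((χ m : R) - 1)) :
    Submodule.span R (Set.range (fun i : Fin (p - 1) => OortTate.ygen R p u χ (i : ℕ))) =
      LinearMap.ker (Bialgebra.counitAlgHom R (MonoidAlgebra R (Multiplicative (ZMod p)))).toLinearMap := by
  apply le_antisymm
  · rw [Submodule.span_le]
    rintro _ ⟨i, rfl⟩
    exact ygen_mem_ker u χ i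
  · refine ker_le_span_e.trans ?_
    rw [Submodule.span_le]
    rintro _ ⟨m, rfl⟩
    show Tm R p (m : ZMod p) - 1 ∈ _
    rw [e_eq_sum u hu χ hχ m]
    refine Submodule.sum_mem _ fun i hi => Submodule.smul_mem _ _ ?_
    exact Submodule.subset_span ⟨⟨i, Finset.mem_range.1 hi⟩, rfl⟩

end main3

section main4

variable {R : Type u} [CommRing R] {p : ℕ} [Fact p.Prime]

lemma coeff_Tm (a b : ZMod p) :
    (Tm R p a).coeff (Multiplicative.ofAdd b) = if a = b then 1 else 0 := by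
  unfold Tm
  rw [MonoidAlgebra.coeff_single, Finsupp.single_apply]
  simp only [Multiplicative.ofAdd.injective.eq_iff]

lemma coeff_e (m m' : (ZMod p)ˣ) :
    (Tm R p (m : ZMod p) - 1).coeff (Multiplicative.ofAdd (m' : ZMod p)) = if m = m' then 1 else 0 := by
  have h1 : (1 : MonoidAlgebra R (Multiplicative (ZMod p))).coeff (Multiplicative.ofAdd (m' : ZMod p)) = 0 := by
    rw [← Tm_zero R p, coeff_Tm, if_neg (fun h => (Units.ne_zero m') h.symm)]
  rw [MonoidAlgebra.coeff_sub, Finsupp.sub_apply, h1, sub_zero, coeff_Tm]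
  simp only [Units.val_inj]

lemma e_indep (b : (ZMod p)ˣ → R) (hb : ∑ m : (ZMod p)ˣ, b m • (Tm R p (m : ZMod p) - 1) = 0)
    (m' : (ZMod p)ˣ) : b m' = 0 := by
  classical
  have h := congrArg (fun x : MonoidAlgebra R (Multiplicative (ZMod p)) =>
    x.coeff (Multiplicative.ofAdd (m' : ZMod p))) hb
  simp only [MonoidAlgebra.coeff_sum, Finsupp.finsetSum_apply, MonoidAlgebra.coeff_smul,
    Finsupp.smul_apply, coeff_e, MonoidAlgebra.coeff_zero, Finsupp.zero_apply] at h
  simpa using h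

lemma ygen_indep (u : R) (hu : u * ((p - 1 : ℕ) : R) = 1)
    (χ : (ZMod p)ˣ →* Rˣ) (hχ : ∀ m : (ZMod p)ˣ, m ≠ 1 → IsUnit ((χ m : R) - 1)) :
    LinearIndependent R (fun i : Fin (p - 1) => OortTate.ygen R p u χ (i : ℕ)) := by
  classical
  rw [Fintype.linearIndependent_iff]
  intro c hc
  let C : Matrix (Fin (p - 1)) (ZMod p)ˣ R := fun i m => u * ((χ m⁻¹ : Rˣ) : R) ^ (i : ℕ)
  let D : Matrix (ZMod p)ˣ (Fin (p - 1)) R := fun m i => ((χ m : Rˣ) : R) ^ (i : ℕ)
  have hDC : D * C = 1 := by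
    ext m m'
    rw [Matrix.mul_apply, Matrix.one_apply]
    have h1 : ∀ i : Fin (p - 1), D m i * C i m' = u * ((χ (m * m'⁻¹) : Rˣ) : R) ^ (i : ℕ) := by
      intro i
      show ((χ m : Rˣ) : R) ^ (i : ℕ) * (u * ((χ m'⁻¹ : Rˣ) : R) ^ (i : ℕ)) = _
      rw [map_mul, Units.val_mul, mul_pow]; ring
    rw [Finset.sum_congr rfl fun i _ => h1 i, ← Finset.mul_sum,
      Fin.sum_univ_eq_sum_range (fun i => ((χ (m * m'⁻¹) : Rˣ) : R) ^ i), orth u hu χ hχ]
    by_cases h : m = m'
    · subst h; simp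
    · rw [if_neg h, if_neg]
      intro h'
      exact h (mul_inv_eq_one.1 h')
  have hCD : C * D = 1 :=
    (Matrix.mul_eq_one_comm_of_card_eq _ _ _ (by rw [ZMod.card_units p, Fintype.card_fin])).1 hDC
  have h2 : ∑ m : (ZMod p)ˣ, (∑ i, c i * C i m) • (Tm R p (m : ZMod p) - 1) = 0 := by
    rw [← hc]
    simp_rw [Finset.sum_smul]
    rw [Finset.sum_comm]
    refine Finset.sum_congr rfl fun i _ => ?_
    rw [ygen_eq, Finset.smul_sum, Finset.smul_sum]
    refine Finset.sum_congr rfl fun m _ => ?_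
    rw [smul_smul, smul_smul]
    congr 1
    show c i * (u * _) = _
    ring
  have h3 : Matrix.vecMul c C = 0 := by
    funext m
    exact e_indep _ h2 m
  have h4 : c = Matrix.vecMul c (C * D) := by rw [hCD, Matrix.vecMul_one]
  intro i
  rw [h4, ← Matrix.vecMul_vecMul, h3, Matrix.zero_vecMul]
  rfl

end main4

section main5

variable {R : Type u} [CommRing R] {p : ℕ} [Fact p.Prime]

lemma P_e (m m' : (ZMod p)ˣ) :
    SGA3b.powConv R (MonoidAlgebra R (Multiplicative (ZMod p))) (m : ZMod p).val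
      (Tm R p (m' : ZMod p) - 1) = Tm R p ((m * m' : (ZMod p)ˣ) : ZMod p) - 1 := by
  rw [map_sub, map_one, powConv_val_Tm, Units.val_mul]

lemma chi_inv_pow_mul (χ : (ZMod p)ˣ →* Rˣ) (m : (ZMod p)ˣ) (i : ℕ) :
    ((χ m⁻¹ : Rˣ) : R) ^ i * ((χ m : Rˣ) : R) ^ i = 1 := by
  rw [← mul_pow, chi_inv_mul, one_pow]

/-- `[m] y_i = χ(m)^i y_i` -/
lemma P_ygen (u : R) (χ : (ZMod p)ˣ →* Rˣ) (i : ℕ) (m : (ZMod p)ˣ) :
    SGA3b.powConv R (MonoidAlgebra R (Multiplicative (ZMod p))) (m : ZMod p).val (ygen R p u χ i)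
      = (((χ m : Rˣ) : R) ^ i) • ygen R p u χ i := by
  rw [ygen_eq, map_smul, smul_comm]
  congr 1
  rw [map_sum, Finset.smul_sum, ← Equiv.sum_comp (Equiv.mulLeft m)
    (fun m'' => ((χ m : Rˣ) : R) ^ i • (((χ m''⁻¹ : Rˣ) : R) ^ i • (Tm R p (m'' : ZMod p) - 1)))]
  refine Finset.sum_congr rfl fun m' _ => ?_
  rw [map_smul, P_e, Equiv.coe_mulLeft, smul_smul]
  congr 1
  rw [mul_inv_rev, map_mul, Units.val_mul, mul_pow, mul_comm (((χ m'⁻¹ : Rˣ) : R) ^ i), ← mul_assoc,
    mul_comm (((χ m : Rˣ) : R) ^ i), chi_inv_pow_mul, one_mul]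

/-- `e_i (T^m' - 1) = χ(m')^i y_i` -/
lemma proj_e (u : R) (χ : (ZMod p)ˣ →* Rˣ) (j : ℕ) (m' : (ZMod p)ˣ) :
    proj R (MonoidAlgebra R (Multiplicative (ZMod p))) p u χ j (Tm R p (m' : ZMod p) - 1)
      = (((χ m' : Rˣ) : R) ^ j) • ygen R p u χ j := by
  rw [ygen_eq]
  unfold proj
  rw [LinearMap.smul_apply, smul_comm]
  congr 1
  rw [LinearMap.sum_apply, Finset.smul_sum, ← Equiv.sum_comp (Equiv.mulRight m')
    (fun m'' => ((χ m' : Rˣ) : R) ^ j • (((χ m''⁻¹ : Rˣ) : R) ^ j • (Tm R p (m'' : ZMod p) - 1)))]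
  refine Finset.sum_congr rfl fun m _ => ?_
  rw [LinearMap.smul_apply, AlgHom.toLinearMap_apply, P_e, Equiv.coe_mulRight, smul_smul]
  congr 1
  rw [mul_inv_rev, map_mul, Units.val_mul, mul_pow, ← mul_assoc, mul_comm (((χ m' : Rˣ) : R) ^ j),
    chi_inv_pow_mul, one_mul]

lemma mem_eigenAug_iff (χ : (ZMod p)ˣ →* Rˣ) (j : ℕ) (x : MonoidAlgebra R (Multiplicative (ZMod p))) :
    x ∈ eigenAug R (MonoidAlgebra R (Multiplicative (ZMod p))) p χ j ↔
      (Bialgebra.counitAlgHom R (MonoidAlgebra R (Multiplicative (ZMod p)))) x = 0 ∧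
      ∀ m : (ZMod p)ˣ, SGA3b.powConv R (MonoidAlgebra R (Multiplicative (ZMod p))) (m : ZMod p).val x
        = (((χ m : Rˣ) : R) ^ j) • x := by
  unfold eigenAug
  rw [Submodule.mem_inf, Submodule.mem_iInf, LinearMap.mem_ker]
  simp only [Module.End.mem_eigenspace_iff, AlgHom.toLinearMap_apply]

/-- the `χ^j`-eigenspace of the augmentation ideal is `R y_j` -/
lemma eigen_eq_smul (u : R) (hu : u * ((p - 1 : ℕ) : R) = 1) (χ : (ZMod p)ˣ →* Rˣ) (j : ℕ)
    (x : MonoidAlgebra R (Multiplicative (ZMod p)))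
    (hx : x ∈ eigenAug R (MonoidAlgebra R (Multiplicative (ZMod p))) p χ j) :
    ∃ c : R, x = c • ygen R p u χ j := by
  rw [mem_eigenAug_iff] at hx
  have h1 : proj R (MonoidAlgebra R (Multiplicative (ZMod p))) p u χ j x = x := by
    unfold proj
    rw [LinearMap.smul_apply, LinearMap.sum_apply]
    have : ∀ m : (ZMod p)ˣ, ((((χ m⁻¹ : Rˣ) : R) ^ j) •
        (SGA3b.powConv R (MonoidAlgebra R (Multiplicative (ZMod p))) (m : ZMod p).val).toLinearMap) x
        = x := by
      intro m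
      rw [LinearMap.smul_apply, AlgHom.toLinearMap_apply, hx.2 m, smul_smul, chi_inv_pow_mul,
        one_smul]
    rw [Finset.sum_congr rfl fun m _ => this m, Finset.sum_const, Finset.card_univ,
      ZMod.card_units p, ← Nat.cast_smul_eq_nsmul R, smul_smul, hu, one_smul]
  have h2 : x ∈ Submodule.span R (Set.range fun m : (ZMod p)ˣ => Tm R p (m : ZMod p) - 1) :=
    ker_le_span_e (by rw [LinearMap.mem_ker, AlgHom.toLinearMap_apply]; exact hx.1)
  have h3 : ∀ z ∈ Submodule.span R (Set.range fun m : (ZMod p)ˣ => Tm R p (m : ZMod p) - 1),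
      proj R (MonoidAlgebra R (Multiplicative (ZMod p))) p u χ j z
        ∈ Submodule.span R {ygen R p u χ j} := by
    intro z hz
    induction hz using Submodule.span_induction with
    | mem z hz =>
      obtain ⟨m, rfl⟩ := hz
      show proj R (MonoidAlgebra R (Multiplicative (ZMod p))) p u χ j (Tm R p (m : ZMod p) - 1) ∈ _
      rw [proj_e]
      exact Submodule.smul_mem _ _ (Submodule.mem_span_singleton_self _)
    | zero => rw [map_zero]; exact Submodule.zero_mem _
    | add a b _ _ ha hb => rw [map_add]; exact Submodule.add_mem _ ha hb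
    | smul r a _ ha => rw [map_smul]; exact Submodule.smul_mem _ _ ha
  have h4 := h3 x h2
  rw [h1, Submodule.mem_span_singleton] at h4
  obtain ⟨c, hc⟩ := h4
  exact ⟨c, hc.symm⟩

/-- powers of `y_1` are eigenvectors -/
lemma pow_mem_eigenAug (u : R) (χ : (ZMod p)ˣ →* Rˣ) (j : ℕ) (hj : 1 ≤ j) :
    ygen R p u χ 1 ^ j ∈ eigenAug R (MonoidAlgebra R (Multiplicative (ZMod p))) p χ j := by
  rw [mem_eigenAug_iff]
  constructor
  · have := ygen_mem_ker u χ 1
    rw [LinearMap.mem_ker, AlgHom.toLinearMap_apply] at this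
    rw [map_pow, this, zero_pow (by omega)]
  · intro m
    rw [map_pow, P_ygen, pow_one, smul_pow]

lemma pow_eq_smul (u : R) (hu : u * ((p - 1 : ℕ) : R) = 1) (χ : (ZMod p)ˣ →* Rˣ) (j : ℕ)
    (hj : 1 ≤ j) : ∃ c : R, ygen R p u χ 1 ^ j = c • ygen R p u χ j :=
  eigen_eq_smul u hu χ j _ (pow_mem_eigenAug u χ j hj)

/-- periodicity of `y_i` in `i` -/
lemma ygen_add_card (u : R) (χ : (ZMod p)ˣ →* Rˣ) (i : ℕ) :
    ygen R p u χ (i + (p - 1)) = ygen R p u χ i := by
  rw [ygen_eq, ygen_eq]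
  congr 1
  refine Finset.sum_congr rfl fun m _ => ?_
  rw [pow_add, chi_pow_card, mul_one]

end main5

section main6

variable {R : Type u} [CommRing R] {p : ℕ} [Fact p.Prime]

lemma ygen_add_mul_card (u : R) (χ : (ZMod p)ˣ →* Rˣ) (i k : ℕ) :
    ygen R p u χ (i + k * (p - 1)) = ygen R p u χ i := by
  induction k with
  | zero => rw [zero_mul, add_zero]
  | succ k ih => rw [add_mul, one_mul, ← add_assoc, ygen_add_card, ih]

lemma ygen_mod (u : R) (χ : (ZMod p)ˣ →* Rˣ) (i : ℕ) :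
    ygen R p u χ (i % (p - 1)) = ygen R p u χ i := by
  conv_rhs => rw [← Nat.mod_add_div i (p - 1), mul_comm]
  rw [ygen_add_mul_card]

lemma card_pos : 0 < p - 1 := by
  have := (Fact.out : p.Prime).two_le
  omega

lemma smul_ygen_eq_zero (u : R) (hu : u * ((p - 1 : ℕ) : R) = 1)
    (χ : (ZMod p)ˣ →* Rˣ) (hχ : ∀ m : (ZMod p)ˣ, m ≠ 1 → IsUnit ((χ m : R) - 1)) (i : ℕ) (c : R)
    (hc : c • ygen R p u χ i = 0) : c = 0 := by
  classical
  have hli := ygen_indep u hu χ hχ
  rw [Fintype.linearIndependent_iff] at hli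
  let i₀ : Fin (p - 1) := ⟨i % (p - 1), Nat.mod_lt _ card_pos⟩
  have := hli (Pi.single i₀ c) (by
    rw [Finset.sum_eq_single i₀]
    · rw [Pi.single_eq_same]
      show c • ygen R p u χ (i % (p - 1)) = 0
      rw [ygen_mod, hc]
    · intro b _ hb
      rw [Pi.single_eq_of_ne hb, zero_smul]
    · intro h; exact absurd (Finset.mem_univ _) h) i₀
  rwa [Pi.single_eq_same] at this

lemma ygen_ne_zero [Nontrivial R] (u : R) (hu : u * ((p - 1 : ℕ) : R) = 1)
    (χ : (ZMod p)ˣ →* Rˣ) (hχ : ∀ m : (ZMod p)ˣ, m ≠ 1 → IsUnit ((χ m : R) - 1)) (i : ℕ) :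
    ygen R p u χ i ≠ 0 := by
  intro h
  have := smul_ygen_eq_zero u hu χ hχ i 1 (by rw [h, smul_zero])
  exact one_ne_zero this

lemma Tm_one_pow (n : ℕ) : Tm R p 1 ^ n = Tm R p (n : ZMod p) := by
  rw [Tm_nsmul, nsmul_eq_mul, mul_one]

lemma Tm_eq_pow (a : ZMod p) : Tm R p a = Tm R p 1 ^ a.val := by
  rw [Tm_one_pow, ZMod.natCast_zmod_val]

end main6

section fieldcase

variable {k : Type u} [Field k] {p : ℕ} [Fact p.Prime]

lemma field_caseA (hp : (p : k) ≠ 0) (u : k) (hu : u * ((p - 1 : ℕ) : k) = 1)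
    (χ : (ZMod p)ˣ →* kˣ) (hχ : ∀ m : (ZMod p)ˣ, m ≠ 1 → IsUnit ((χ m : k) - 1)) :
    ygen k p u χ 1 ^ (p - 1) ≠ 0 := by
  have : NeZero (Nat.card (Multiplicative (ZMod p)) : k) := by
    refine ⟨?_⟩
    rw [Nat.card_eq_fintype_card, Fintype.card_multiplicative, ZMod.card]
    exact hp
  have : IsReduced (MonoidAlgebra k (Multiplicative (ZMod p))) := inferInstance
  exact pow_ne_zero _ (ygen_ne_zero u hu χ hχ 1)

end fieldcase

section fieldcaseB

variable {k : Type u} [Field k] {p : ℕ} [Fact p.Prime]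

local notation "AA" => MonoidAlgebra k (Multiplicative (ZMod p))

lemma t_pow_p (hp : (p : k) = 0) : (Tm k p 1 - 1) ^ p = 0 := by
  have : CharP k p := (CharP.charP_iff_prime_eq_zero (Fact.out : p.Prime)).2 hp
  have : CharP (MonoidAlgebra k (Multiplicative (ZMod p))) p :=
    charP_of_injective_algebraMap (algebraMap k (MonoidAlgebra k (Multiplicative (ZMod p)))).injective p
  rw [sub_pow_char, one_pow, Tm_one_pow, ZMod.natCast_self, Tm_zero, sub_self]

lemma t_top_mul_T (hp : (p : k) = 0) :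
    (Tm k p 1 - 1) ^ (p - 1) * Tm k p 1 = (Tm k p 1 - 1) ^ (p - 1) := by
  have h : (Tm k p 1 - 1) ^ (p - 1) * (Tm k p 1 - 1) = 0 := by
    rw [← pow_succ, Nat.sub_add_cancel (Fact.out : p.Prime).one_le, t_pow_p hp]
  rw [mul_sub, mul_one, sub_eq_zero] at h
  exact h

lemma t_top_mul_T_pow (hp : (p : k) = 0) (n : ℕ) :
    (Tm k p 1 - 1) ^ (p - 1) * Tm k p 1 ^ n = (Tm k p 1 - 1) ^ (p - 1) := by
  induction n with
  | zero => rw [pow_zero, mul_one]
  | succ n ih => rw [pow_succ, ← mul_assoc, ih, t_top_mul_T hp]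

lemma t_top_mul (hp : (p : k) = 0) (x : MonoidAlgebra k (Multiplicative (ZMod p))) :
    (Tm k p 1 - 1) ^ (p - 1) * x
      = (Bialgebra.counitAlgHom k (MonoidAlgebra k (Multiplicative (ZMod p))) x) •
        (Tm k p 1 - 1) ^ (p - 1) := by
  induction x using MonoidAlgebra.induction_on with
  | of g =>
    have h1 : MonoidAlgebra.of k (Multiplicative (ZMod p)) g = Tm k p (Multiplicative.toAdd g) := rfl
    rw [h1, counit_Tm, one_smul, Tm_eq_pow (Multiplicative.toAdd g), t_top_mul_T_pow hp]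
  | add x y hx hy => rw [mul_add, hx, hy, map_add, add_smul]
  | smul r x hx => rw [mul_smul_comm, hx, map_smul, smul_eq_mul, mul_smul]

lemma t_top_ne_zero : (Tm k p 1 - 1) ^ (p - 1) ≠ 0 := by
  classical
  intro h
  have h1 : (Tm k p 1 - 1) ^ (p - 1)
      = ∑ m ∈ Finset.range (p - 1 + 1), (((-1 : k)) ^ (p - 1 - m) * ((p - 1).choose m : k)) •
          Tm k p (m : ZMod p) := by
    rw [sub_eq_add_neg, add_pow]
    refine Finset.sum_congr rfl fun m _ => ?_
    rw [Tm_one_pow, Algebra.smul_def, map_mul, map_pow, map_neg, map_one, map_natCast]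
    ring
  have h2 := congrArg (fun x : MonoidAlgebra k (Multiplicative (ZMod p)) =>
    x.coeff (Multiplicative.ofAdd (0 : ZMod p))) h
  simp only [h1, MonoidAlgebra.coeff_sum, Finsupp.finsetSum_apply, MonoidAlgebra.coeff_smul,
    Finsupp.smul_apply, coeff_Tm, MonoidAlgebra.coeff_zero, Finsupp.zero_apply] at h2
  rw [Finset.sum_eq_single 0] at h2
  · simp at h2
  · intro b hb hb0
    rw [if_neg, smul_zero]
    rw [ZMod.natCast_eq_zero_iff]
    intro hdvd
    have := Nat.le_of_dvd (Nat.pos_of_ne_zero hb0) hdvd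
    have := Finset.mem_range.1 hb
    have := (Fact.out : p.Prime).two_le
    omega
  · intro h0
    exact absurd (Finset.mem_range.2 (Nat.succ_pos _)) h0

lemma field_caseB (hp : (p : k) = 0) (u : k) (hu : u * ((p - 1 : ℕ) : k) = 1)
    (χ : (ZMod p)ˣ →* kˣ)
    (hχp : ∀ m : (ZMod p)ˣ, ((χ m : kˣ) : k) - (((m : ZMod p).val : ℕ) : k) ∈ Ideal.span ({(p : k)} : Set k)) :
    ygen k p u χ 1 ^ (p - 1) ≠ 0 := by
  have hχ' : ∀ m : (ZMod p)ˣ, ((χ m : kˣ) : k) = (((m : ZMod p).val : ℕ) : k) := by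
    intro m
    have := hχp m
    rw [hp, Ideal.span_singleton_eq_bot.2 rfl, Ideal.mem_bot, sub_eq_zero] at this
    exact this
  -- y_1 = t * v
  let v : MonoidAlgebra k (Multiplicative (ZMod p)) :=
    u • ∑ m : (ZMod p)ˣ, ((χ m⁻¹ : kˣ) : k) • ∑ l ∈ Finset.range (m : ZMod p).val, Tm k p 1 ^ l
  have hy : ygen k p u χ 1 = (Tm k p 1 - 1) * v := by
    rw [ygen_eq]
    show _ = (Tm k p 1 - 1) * (u • ∑ m : (ZMod p)ˣ, ((χ m⁻¹ : kˣ) : k) •
      ∑ l ∈ Finset.range (m : ZMod p).val, Tm k p 1 ^ l)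
    rw [mul_smul_comm, Finset.mul_sum]
    congr 1
    refine Finset.sum_congr rfl fun m _ => ?_
    rw [pow_one, mul_smul_comm, mul_geom_sum, ← Tm_eq_pow]
  have hv : (Bialgebra.counitAlgHom k (MonoidAlgebra k (Multiplicative (ZMod p)))) v = 1 := by
    show (Bialgebra.counitAlgHom k (MonoidAlgebra k (Multiplicative (ZMod p))))
      (u • ∑ m : (ZMod p)ˣ, ((χ m⁻¹ : kˣ) : k) •
        ∑ l ∈ Finset.range (m : ZMod p).val, Tm k p 1 ^ l) = 1
    rw [map_smul, map_sum]
    have : ∀ m : (ZMod p)ˣ, (Bialgebra.counitAlgHom k (MonoidAlgebra k (Multiplicative (ZMod p))))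
        (((χ m⁻¹ : kˣ) : k) • ∑ l ∈ Finset.range (m : ZMod p).val, Tm k p 1 ^ l) = 1 := by
      intro m
      rw [map_smul, map_sum]
      simp only [map_pow, counit_Tm, one_pow, Finset.sum_const, Finset.card_range, smul_eq_mul,
        nsmul_eq_mul, mul_one]
      rw [← hχ' m, chi_inv_mul]
    rw [Finset.sum_congr rfl fun m _ => this m, Finset.sum_const, Finset.card_univ,
      ZMod.card_units p, smul_eq_mul, nsmul_eq_mul, mul_one, hu]
  rw [hy, mul_pow, t_top_mul hp, map_pow, hv, one_pow, one_smul]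
  exact t_top_ne_zero

end fieldcaseB

section units

variable {R : Type u} [CommRing R] {p : ℕ} [Fact p.Prime]

lemma field_case {k : Type u} [Field k] (u : k) (hu : u * ((p - 1 : ℕ) : k) = 1)
    (χ : (ZMod p)ˣ →* kˣ) (hχ : ∀ m : (ZMod p)ˣ, m ≠ 1 → IsUnit ((χ m : k) - 1))
    (hχp : ∀ m : (ZMod p)ˣ, ((χ m : kˣ) : k) - (((m : ZMod p).val : ℕ) : k) ∈ Ideal.span ({(p : k)} : Set k)) :
    ygen k p u χ 1 ^ (p - 1) ≠ 0 := by
  by_cases hp : (p : k) = 0
  · exact field_caseB hp u hu χ hχp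
  · exact field_caseA hp u hu χ hχ

lemma mapRingHom_smul {S : Type u} [CommRing S] (π : R →+* S) (r : R)
    (x : MonoidAlgebra R (Multiplicative (ZMod p))) :
    MonoidAlgebra.mapRingHom (Multiplicative (ZMod p)) π (r • x)
      = π r • MonoidAlgebra.mapRingHom (Multiplicative (ZMod p)) π x := by
  ext g
  rw [MonoidAlgebra.coeff_mapRingHom, MonoidAlgebra.coeff_smul, MonoidAlgebra.coeff_smul,
    Finsupp.smul_apply, Finsupp.smul_apply, MonoidAlgebra.coeff_mapRingHom, smul_eq_mul,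
    smul_eq_mul, map_mul]

lemma mapRingHom_Tm {S : Type u} [CommRing S] (π : R →+* S) (a : ZMod p) :
    MonoidAlgebra.mapRingHom (Multiplicative (ZMod p)) π (Tm R p a) = Tm S p a := by
  unfold Tm
  rw [MonoidAlgebra.mapRingHom_single, map_one]

lemma mapRingHom_ygen {S : Type u} [CommRing S] (π : R →+* S) (u : R) (χ : (ZMod p)ˣ →* Rˣ) (i : ℕ) :
    MonoidAlgebra.mapRingHom (Multiplicative (ZMod p)) π (ygen R p u χ i)
      = ygen S p (π u) ((Units.map (π : R →* S)).comp χ) i := by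
  rw [ygen_eq, ygen_eq, mapRingHom_smul, map_sum]
  congr 1
  refine Finset.sum_congr rfl fun m _ => ?_
  rw [mapRingHom_smul, map_sub, map_one, mapRingHom_Tm, map_pow]
  rfl

/-- the structure constants `w_j` are units -/
lemma isUnit_of_pow_eq (u : R) (hu : u * ((p - 1 : ℕ) : R) = 1)
    (χ : (ZMod p)ˣ →* Rˣ) (hχ : ∀ m : (ZMod p)ˣ, m ≠ 1 → IsUnit ((χ m : R) - 1))
    (hχp : ∀ m : (ZMod p)ˣ, ((χ m : Rˣ) : R) - (((m : ZMod p).val : ℕ) : R) ∈ Ideal.span ({(p : R)} : Set R))
    (j : ℕ) (hj : j ≤ p - 1) (c : R) (hc : ygen R p u χ 1 ^ j = c • ygen R p u χ j) : IsUnit c := by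
  by_contra hcu
  obtain ⟨I, hI, hcI⟩ := exists_max_ideal_of_mem_nonunits (show c ∈ nonunits R from hcu)
  let _ : Field (R ⧸ I) := Ideal.Quotient.field I
  let π : R →+* R ⧸ I := Ideal.Quotient.mk I
  have hu' : π u * ((p - 1 : ℕ) : R ⧸ I) = 1 := by
    rw [← map_natCast π, ← map_mul, hu, map_one]
  have hχ' : ∀ m : (ZMod p)ˣ, m ≠ 1 →
      IsUnit ((((Units.map (π : R →* R ⧸ I)).comp χ) m : R ⧸ I) - 1) := by
    intro m hm
    have := (hχ m hm).map π
    rwa [map_sub, map_one] at this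
  have hχp' : ∀ m : (ZMod p)ˣ, ((((Units.map (π : R →* R ⧸ I)).comp χ) m : (R ⧸ I)ˣ) : R ⧸ I)
      - (((m : ZMod p).val : ℕ) : R ⧸ I) ∈ Ideal.span ({(p : R ⧸ I)} : Set (R ⧸ I)) := by
    intro m
    have h1 := Ideal.mem_map_of_mem π (hχp m)
    rw [Ideal.map_span, Set.image_singleton, map_natCast, map_sub, map_natCast] at h1
    exact h1
  have hne := field_case (π u) hu' ((Units.map (π : R →* R ⧸ I)).comp χ) hχ' hχp'
  apply hne
  have h2 : ygen (R ⧸ I) p (π u) ((Units.map (π : R →* R ⧸ I)).comp χ) 1 ^ j = 0 := by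
    rw [← mapRingHom_ygen, ← map_pow, hc, mapRingHom_smul]
    have : π c = 0 := Ideal.Quotient.eq_zero_iff_mem.2 hcI
    rw [this, zero_smul]
  rw [← Nat.add_sub_cancel' hj, pow_add, h2, zero_mul]

end units

/-- With the preceding computation: let p be a prime, R a commutative ring containing u with u(p − 1) =
1, and χ a homomorphism from the units of ℤ/p to the units of R such that χ(m) − 1 is a unit for
every m ≠ 1 (the situation of an algebra over the subring Λ_p of the p-adic integers generated by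
the Teichmüller values and 1/(p(p − 1)), with χ the Teichmüller character, which is the published
setting); assume moreover χ(m) ≡ m modulo pR for every m. In the group algebra over R of the cyclic
group of order p, written R[T]/(T^p − 1) with T group-like (the Hopf algebra of μ_p, on which the
power map [m] sends T to T^m), put y_i = u Σ_m χ(m)^{−i}(T^m − 1), the average of T − 1 for the
character χ^i. Then the elements y_0, …, y_{p−2} are a basis of the augmentation ideal (they are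
linearly independent and span the kernel of the counit), the R-algebra is generated by y_1 alone,
and y_1^p = w·y_1 for a unique w ∈ R (the constant w_p of the classification). -/
theorem result
    (p : ℕ) [Fact p.Prime] (R : Type u) [CommRing R] (u : R) (hu : u * ((p - 1 : ℕ) : R) = 1)
    (χ : (ZMod p)ˣ →* Rˣ) (hχ : ∀ m : (ZMod p)ˣ, m ≠ 1 → IsUnit ((χ m : R) - 1))
    (hχp : ∀ m : (ZMod p)ˣ, ((χ m : Rˣ) : R) - (((m : ZMod p).val : ℕ) : R) ∈ Ideal.span ({(p : R)} : Set R)) :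
    LinearIndependent R (fun i : Fin (p - 1) => OortTate.ygen R p u χ (i : ℕ)) ∧
      Submodule.span R (Set.range (fun i : Fin (p - 1) => OortTate.ygen R p u χ (i : ℕ))) =
        LinearMap.ker (Bialgebra.counitAlgHom R (MonoidAlgebra R (Multiplicative (ZMod p)))).toLinearMap ∧
      Algebra.adjoin R ({OortTate.ygen R p u χ 1} : Set (MonoidAlgebra R (Multiplicative (ZMod p)))) = ⊤ ∧
      ∃! w : R, OortTate.ygen R p u χ 1 ^ p = w • OortTate.ygen R p u χ 1 := by
  have hp2 := (Fact.out : p.Prime).two_le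
  refine ⟨ygen_indep u hu χ hχ, span_ygen u hu χ hχ, ?_, ?_⟩
  · -- generation
    have hy1 : ygen R p u χ 1 ∈ Algebra.adjoin R
        ({ygen R p u χ 1} : Set (MonoidAlgebra R (Multiplicative (ZMod p)))) :=
      Algebra.subset_adjoin (Set.mem_singleton _)
    have hyj : ∀ j : ℕ, 1 ≤ j → j ≤ p - 1 → ygen R p u χ j ∈ Algebra.adjoin R
        ({ygen R p u χ 1} : Set (MonoidAlgebra R (Multiplicative (ZMod p)))) := by
      intro j hj1 hj2
      obtain ⟨c, hc⟩ := pow_eq_smul u hu χ j hj1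
      have hcu := isUnit_of_pow_eq u hu χ hχ hχp j hj2 c hc
      obtain ⟨c', rfl⟩ := hcu
      have : ygen R p u χ j = ((c'⁻¹ : Rˣ) : R) • ygen R p u χ 1 ^ j := by
        rw [hc, smul_smul, Units.inv_mul, one_smul]
      rw [this]
      exact Subalgebra.smul_mem _ (Subalgebra.pow_mem _ hy1 j) _
    have hy : ∀ i : ℕ, ygen R p u χ i ∈ Algebra.adjoin R
        ({ygen R p u χ 1} : Set (MonoidAlgebra R (Multiplicative (ZMod p)))) := by
      intro i
      rw [← ygen_mod u χ i]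
      have hlt : i % (p - 1) < p - 1 := Nat.mod_lt _ card_pos
      by_cases h0 : i % (p - 1) = 0
      · rw [h0, ← ygen_add_card u χ 0, zero_add]
        exact hyj (p - 1) (by omega) le_rfl
      · exact hyj _ (by omega) hlt.le
    have hT : Tm R p 1 ∈ Algebra.adjoin R
        ({ygen R p u χ 1} : Set (MonoidAlgebra R (Multiplicative (ZMod p)))) := by
      have h1 := e_eq_sum u hu χ hχ 1
      rw [Units.val_one] at h1
      have h2 : Tm R p 1 = 1 + ∑ i ∈ Finset.range (p - 1),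
          (((χ 1 : Rˣ) : R) ^ i) • ygen R p u χ i := by
        rw [← h1]; abel
      rw [h2]
      exact Subalgebra.add_mem _ (Subalgebra.one_mem _)
        (Subalgebra.sum_mem _ fun i _ => Subalgebra.smul_mem _ (hy i) _)
    rw [eq_top_iff]
    intro x hx
    clear hx
    induction x using MonoidAlgebra.induction_on with
    | of g =>
      have h1 : MonoidAlgebra.of R (Multiplicative (ZMod p)) g = Tm R p (Multiplicative.toAdd g) := rfl
      rw [h1, Tm_eq_pow]
      exact Subalgebra.pow_mem _ hT _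
    | add x y hx hy => exact Subalgebra.add_mem _ hx hy
    | smul r x hx => exact Subalgebra.smul_mem _ hx r
  · -- the constant w
    obtain ⟨c, hc⟩ := pow_eq_smul u hu χ p (by omega)
    have hper : ygen R p u χ p = ygen R p u χ 1 := by
      have := ygen_add_card u χ 1
      rwa [show 1 + (p - 1) = p by omega] at this
    rw [hper] at hc
    refine ⟨c, hc, fun c' hc' => ?_⟩
    have h3 : (c' - c) • ygen R p u χ 1 = 0 := by
      rw [sub_smul, ← hc, ← hc', sub_self]
    exact sub_eq_zero.1 (smul_ygen_eq_zero u hu χ hχ 1 _ h3)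

end Groth.Agent.S18473
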