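import Groth.Statements.S1848
import Groth.Agent.Lib.Helper18.Tame.Laws
open Groth.Agent.Lib.Helper18.Tame

set_option autoImplicit false
universe u
open CycAlg

namespace Groth.Agent.S1848

/-- For a Noetherian local ring A of dimension 1, the tame symbol ∂ on pairs of nonzerodivisors of A
takes nonzero values, is multiplicative in each variable, satisfies ∂(b, b) = (−1)^m and ∂(u, b) =
ū^m for a unit u (ū its image in the residue field), where m = length_A(A/bA), and satisfies ∂(a, b
− a) ∂(b, b) = ∂(b, b − a) ∂(a, b) whenever a, b and b − a are nonzerodivisors. -/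
theorem result (A : Type u) [CommRing A] [IsNoetherianRing A] [IsLocalRing A] (hA : ringKrullDim A = 1) : (∀ a b : A, a ∈ nonZeroDivisors A → b ∈ nonZeroDivisors A → CycAlg.tameSymbol A a b ≠ 0) ∧ (∀ a a' b : A, a ∈ nonZeroDivisors A → a' ∈ nonZeroDivisors A → b ∈ nonZeroDivisors A → CycAlg.tameSymbol A (a * a') b = CycAlg.tameSymbol A a b * CycAlg.tameSymbol A a' b ∧ CycAlg.tameSymbol A b (a * a') = CycAlg.tameSymbol A b a * CycAlg.tameSymbol A b a') ∧ (∀ b : A, b ∈ nonZeroDivisors A → CycAlg.tameSymbol A b b = (-1) ^ (Module.length A (A ⧸ Ideal.span {b})).toNat) ∧ (∀ (c : Aˣ) (b : A), b ∈ nonZeroDivisors A → CycAlg.tameSymbol A (c : A) b = IsLocalRing.residue A (c : A) ^ (Module.length A (A ⧸ Ideal.span {b})).toNat) ∧ (∀ a b : A, a ∈ nonZeroDivisors A → b ∈ nonZeroDivisors A → b - a ∈ nonZeroDivisors A → CycAlg.tameSymbol A a (b - a) * CycAlg.tameSymbol A b b = CycAlg.tameSymbol A b (b - a) * CycAlg.tameSymbol A a b) := by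
  classical
  have hA' : ringKrullDim A ≤ 1 := hA.le
  refine ⟨?_, ?_, ?_, ?_, ?_⟩
  · intro a b ha hb
    obtain ⟨Dc⟩ := exists_commonData hA' ({a, b} : Finset A) (by
      intro x hx
      simp only [Finset.mem_insert, Finset.mem_singleton] at hx
      rcases hx with rfl | rfl <;> assumption)
    haveI := Dc.finite_maxSpec
    haveI : Fintype (MaximalSpectrum Dc.C) := Fintype.ofFinite _
    rw [Dc.symbol_eq hA' ha hb (Dc.v a) (Dc.v b) (Dc.k a) (Dc.k b) (Dc.fac a (by simp))
      (Dc.fac b (by simp))]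
    exact Finset.prod_ne_zero_iff.2 fun q _ => Dc.lfac_ne_zero q _ _ _ _
  · intro a a' b ha ha' hb
    obtain ⟨Dc⟩ := exists_commonData hA' ({a, a', b} : Finset A) (by
      intro x hx
      simp only [Finset.mem_insert, Finset.mem_singleton] at hx
      rcases hx with rfl | rfl | rfl <;> assumption)
    haveI := Dc.finite_maxSpec
    haveI : Fintype (MaximalSpectrum Dc.C) := Fintype.ofFinite _
    have fa := Dc.fac a (by simp)
    have fa' := Dc.fac a' (by simp)
    have fb := Dc.fac b (by simp)
    have faa' : ∀ q, algebraMap A (Localization.AtPrime q.asIdeal) (a * a') =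
        ((Dc.v a q * Dc.v a' q : (Localization.AtPrime q.asIdeal)ˣ) :
          Localization.AtPrime q.asIdeal) * Dc.π q ^ (Dc.k a q + Dc.k a' q) := by
      intro q
      rw [map_mul, fa q, fa' q, Units.val_mul, pow_add]
      ring
    constructor
    · rw [Dc.symbol_eq hA' (mul_mem ha ha') hb (fun q => Dc.v a q * Dc.v a' q) (Dc.v b)
        (fun q => Dc.k a q + Dc.k a' q) (Dc.k b) faa' fb,
        Dc.symbol_eq hA' ha hb _ _ _ _ fa fb, Dc.symbol_eq hA' ha' hb _ _ _ _ fa' fb,
        ← Finset.prod_mul_distrib]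
      exact Finset.prod_congr rfl fun q _ => Dc.lfac_mul_left q _ _ _ _ _ _
    · rw [Dc.symbol_eq hA' hb (mul_mem ha ha') (Dc.v b) (fun q => Dc.v a q * Dc.v a' q)
        (Dc.k b) (fun q => Dc.k a q + Dc.k a' q) fb faa',
        Dc.symbol_eq hA' hb ha _ _ _ _ fb fa, Dc.symbol_eq hA' hb ha' _ _ _ _ fb fa',
        ← Finset.prod_mul_distrib]
      exact Finset.prod_congr rfl fun q _ => Dc.lfac_mul_right q _ _ _ _ _ _
  · intro b hb
    obtain ⟨Dc⟩ := exists_commonData hA' ({b} : Finset A) (by
      intro x hx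
      simp only [Finset.mem_singleton] at hx
      rcases hx with rfl; assumption)
    haveI := Dc.finite_maxSpec
    haveI : Fintype (MaximalSpectrum Dc.C) := Fintype.ofFinite _
    have fb := Dc.fac b (by simp)
    rw [Dc.symbol_eq hA' hb hb _ _ _ _ fb fb, Dc.length_eq_sum hA' (by simp) hb,
      ← Finset.prod_pow_eq_pow_sum]
    exact Finset.prod_congr rfl fun q _ => Dc.lfac_diag q _ _
  · intro c b hb
    obtain ⟨Dc⟩ := exists_commonData hA' ({b} : Finset A) (by
      intro x hx
      simp only [Finset.mem_singleton] at hx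
      rcases hx with rfl; assumption)
    haveI := Dc.finite_maxSpec
    haveI : Fintype (MaximalSpectrum Dc.C) := Fintype.ofFinite _
    have fb := Dc.fac b (by simp)
    have fc : ∀ q, algebraMap A (Localization.AtPrime q.asIdeal) (c : A) =
        ((Units.map (algebraMap A (Localization.AtPrime q.asIdeal)).toMonoidHom c :
          (Localization.AtPrime q.asIdeal)ˣ) : Localization.AtPrime q.asIdeal) *
          Dc.π q ^ 0 := by
      intro q
      rw [pow_zero, mul_one]
      rfl
    rw [Dc.symbol_eq hA' c.isUnit.mem_nonZeroDivisors hb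
      (fun q => Units.map (algebraMap A (Localization.AtPrime q.asIdeal)).toMonoidHom c)
      (Dc.v b) (fun _ => 0) (Dc.k b) fc fb, Dc.length_eq_sum hA' (by simp) hb,
      ← Finset.prod_pow_eq_pow_sum]
    exact Finset.prod_congr rfl fun q _ => Dc.lfac_unit q c _ _
  · intro a b ha hb hba
    obtain ⟨Dc⟩ := exists_commonData hA' ({a, b, b - a} : Finset A) (by
      intro x hx
      simp only [Finset.mem_insert, Finset.mem_singleton] at hx
      rcases hx with rfl | rfl | rfl <;> assumption)
    haveI := Dc.finite_maxSpec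
    haveI : Fintype (MaximalSpectrum Dc.C) := Fintype.ofFinite _
    have fa := Dc.fac a (by simp)
    have fb := Dc.fac b (by simp)
    have fba := Dc.fac (b - a) (by simp)
    rw [Dc.symbol_eq hA' ha hba _ _ _ _ fa fba, Dc.symbol_eq hA' hb hb _ _ _ _ fb fb,
      Dc.symbol_eq hA' hb hba _ _ _ _ fb fba, Dc.symbol_eq hA' ha hb _ _ _ _ fa fb,
      ← Finset.prod_mul_distrib, ← Finset.prod_mul_distrib]
    exact Finset.prod_congr rfl fun q _ => Dc.lfac_steinberg q _ _ _ _ _ _ (by
      rw [← fa q, ← fb q, ← fba q, map_sub])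

end Groth.Agent.S1848
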