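import Groth.Statements.S18483
import Groth.Agent.Lib.Helper24.Neron.Mapping

set_option autoImplicit false
universe u
open CategoryTheory CategoryTheory.Limits AlgebraicGeometry MonObj
open Neron

namespace Groth.Agent.S18483

/-- Let R be a Dedekind domain with fraction field K and N a proper smooth group scheme over Spec R,
with no connectedness condition on its fibres. Then N is a Néron model of its generic fibre N_K: N
is smooth, separated and of finite type over Spec R, and for every smooth Spec R-scheme Y
restriction to generic fibres is a bijection from R-morphisms Y → N onto K-morphisms Y_K → N_K. (The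
source allows any connected Dedekind scheme as base; the affine case is stated.) -/
theorem result (R : Type u) [CommRing R] [IsDedekindDomain R]
    (N : Over (Spec (CommRingCat.of R))) [GrpObj N] [IsProper N.hom] [Smooth N.hom] :
    Neron.IsNeronModelOf R N ((Neron.genericFibre R).obj N) (Iso.refl _) := by
  haveI : GrpObj (Over.mk N.hom) := inferInstanceAs (GrpObj N)
  refine ⟨inferInstance, inferInstance, inferInstance, inferInstance, ?_⟩
  intro Y hY
  haveI : Smooth Y.hom := hY
  constructor
  · intro g₁ g₂ hg
    have hg' : (Neron.genericFibre R).map g₁ = (Neron.genericFibre R).map g₂ := by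
      simpa using hg
    have hl : pullback.fst Y.hom (Neron.genPt R) ≫ g₁.left =
        pullback.fst Y.hom (Neron.genPt R) ≫ g₂.left := by
      have h1 : ∀ g : Y ⟶ N, ((Neron.genericFibre R).map g).left ≫
          pullback.fst N.hom (Neron.genPt R) = pullback.fst Y.hom (Neron.genPt R) ≫ g.left := by
        intro g
        simp [Neron.genericFibre]
        exact pullback.lift_fst _ _ _
      rw [← h1, ← h1, hg']
    have hh : (pullback.fst Y.hom (Neron.genPt R) ≫ g₁.left) ≫ N.hom =
        pullback.fst Y.hom (Neron.genPt R) ≫ Y.hom := by
      rw [Category.assoc, Over.w]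
    have hu := Lib.Helper24.Neron.neron_mapping Y.hom N.hom _ hh
    apply Over.OverMorphism.ext
    exact hu.unique ⟨Over.w g₁, rfl⟩ ⟨Over.w g₂, hl.symm⟩
  · intro gK
    have hh : (gK.left ≫ pullback.fst N.hom (Neron.genPt R)) ≫ N.hom =
        pullback.fst Y.hom (Neron.genPt R) ≫ Y.hom := by
      have hw : gK.left ≫ pullback.snd N.hom (Neron.genPt R) =
          pullback.snd Y.hom (Neron.genPt R) := Over.w gK
      rw [Category.assoc, pullback.condition, ← Category.assoc, hw, pullback.condition]
    obtain ⟨g, ⟨hg1, hg2⟩, -⟩ := Lib.Helper24.Neron.neron_mapping Y.hom N.hom _ hh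
    refine ⟨Over.homMk g hg1, ?_⟩
    change (Neron.genericFibre R).map (Over.homMk g hg1) ≫ 𝟙 _ = gK
    rw [Category.comp_id]
    apply Over.OverMorphism.ext
    apply pullback.hom_ext
    · rw [← hg2]
      simp [Neron.genericFibre]
      exact pullback.lift_fst _ _ _
    · have hw : gK.left ≫ pullback.snd N.hom (Neron.genPt R) =
          pullback.snd Y.hom (Neron.genPt R) := Over.w gK
      rw [hw]
      simp [Neron.genericFibre]
      exact pullback.lift_snd _ _ _

end Groth.Agent.S18483
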