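import Groth.Statements.S18490
-- import your own Groth.Agent.* helpers here
import Mathlib.AlgebraicGeometry.Morphisms.Flat
import Mathlib.AlgebraicGeometry.Morphisms.Separated
import Mathlib.AlgebraicGeometry.Morphisms.FiniteType

set_option autoImplicit false
universe u
open CategoryTheory CategoryTheory.Limits AlgebraicGeometry
open FlatMor

namespace Groth.Agent.S18490

lemma ringHom_flat_of_retract {A B C : Type*} [CommRing A] [CommRing B] [CommRing C]
    (φ : A →+* B) (χ : A →+* C) (s : C →+* B) (r : B →+* C)
    (h1 : r.comp φ = χ) (h2 : s.comp r = RingHom.id B) (hχ : χ.Flat) : φ.Flat := by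
  letI := φ.toAlgebra
  letI := χ.toAlgebra
  have hC : Module.Flat A C := hχ
  show Module.Flat A B
  have hr : ∀ a b, r (φ a * b) = χ a * r b := by
    intro a b
    rw [map_mul, ← h1]; rfl
  have hs : ∀ a c, s (χ a * c) = φ a * s c := by
    intro a c
    rw [map_mul, ← h1]
    have := congrArg (fun g => g (φ a)) h2
    simp only [RingHom.comp_apply, RingHom.id_apply] at this
    rw [RingHom.comp_apply, this]
  refine Module.Flat.of_retract (M := C) (N := B)
    { toFun := r, map_add' := map_add r, map_smul' := fun a b => hr a b }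
    { toFun := s, map_add' := map_add s, map_smul' := fun a c => hs a c } ?_
  ext b
  exact congrArg (fun g => g b) h2

lemma flat_of_retract {X P S : Scheme.{u}} (f : X ⟶ S) (q : P ⟶ S) (σ : X ⟶ P) (p : P ⟶ X)
    (h1 : σ ≫ p = 𝟙 X) (h2 : p ≫ f = q) [Flat q] : Flat f := by
  refine Flat.of_stalkMap f fun x => ?_
  have hx : p (σ x) = x := by
    have := congrArg (fun g : X ⟶ X => g x) h1
    simpa using this
  let κ : X.presheaf.stalk (p (σ x)) ≅ X.presheaf.stalk x := X.presheaf.stalkCongr (.of_eq hx)
  let ι : S.presheaf.stalk (f x) ≅ S.presheaf.stalk (q (σ x)) :=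
    S.presheaf.stalkCongr (.of_eq (by rw [← h2]; simp [hx]))
  refine ringHom_flat_of_retract (f.stalkMap x).hom (ι.hom ≫ q.stalkMap (σ x)).hom
    (σ.stalkMap x).hom (κ.inv ≫ p.stalkMap (σ x)).hom ?_ ?_ ?_
  · rw [← CommRingCat.hom_comp]
    congr 1
    subst h2
    have h3 := Scheme.Hom.stalkMap_congr_point f (p (σ x)) x hx
    have h4 : f.stalkMap x = (S.presheaf.stalkCongr (.of_eq (by rw [hx]))).inv ≫
        f.stalkMap (p (σ x)) ≫ κ.hom := by
      rw [h3, Iso.inv_hom_id_assoc]
    rw [h4, Scheme.Hom.stalkMap_comp]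
    simp only [Category.assoc, Iso.hom_inv_id_assoc]
    rfl
  · rw [← CommRingCat.hom_comp, Category.assoc, ← Scheme.Hom.stalkMap_comp,
      Scheme.Hom.stalkMap_congr_hom (σ ≫ p) (𝟙 X) h1 x, Scheme.Hom.stalkMap_id]
    simp [κ]
  · rw [CommRingCat.hom_comp]
    refine RingHom.Flat.comp (RingHom.Flat.of_bijective ?_) (Flat.stalkMap q (σ x))
    exact (ConcreteCategory.bijective_of_isIso ι.hom)

/-- Let f : X → S and g : Y → S be morphisms of schemes and suppose that g has a section y : S → Y. If
the structure morphism X ×_S Y → S (first projection followed by f) is quasi-compact, then so is f;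
likewise for locally of finite type, for separated, and for flat. (Finite type, also listed in the
source, is the conjunction of the first two.) -/
theorem result {X Y S : Scheme.{u}} (f : X ⟶ S) (g : Y ⟶ S)
    (y : S ⟶ Y) (hy : y ≫ g = 𝟙 S) :
    (QuasiCompact (pullback.fst f g ≫ f) → QuasiCompact f) ∧
    (LocallyOfFiniteType (pullback.fst f g ≫ f) → LocallyOfFiniteType f) ∧
    (IsSeparated (pullback.fst f g ≫ f) → IsSeparated f) ∧
    (Flat (pullback.fst f g ≫ f) → Flat f) := by
  let σ : X ⟶ pullback f g := pullback.lift (𝟙 X) (f ≫ y) (by simp [hy])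
  have hσ : σ ≫ pullback.fst f g = 𝟙 X := pullback.lift_fst _ _ _
  have hf : f = σ ≫ (pullback.fst f g ≫ f) := by rw [← Category.assoc, hσ, Category.id_comp]
  refine ⟨?_, ?_, ?_, ?_⟩
  · intro h
    constructor
    intro U hU hU'
    have h1 := h.isCompact_preimage U hU hU'
    have h2 : f ⁻¹' U = (pullback.fst f g) '' ((pullback.fst f g ≫ f) ⁻¹' U) := by
      ext x
      constructor
      · intro hx
        refine ⟨σ x, ?_, ?_⟩
        · show (pullback.fst f g ≫ f) (σ x) ∈ U
          have : (pullback.fst f g ≫ f) (σ x) = f x := by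
            rw [← Scheme.Hom.comp_apply, ← hf]
          rw [this]; exact hx
        · rw [← Scheme.Hom.comp_apply, hσ]; rfl
      · rintro ⟨z, hz, rfl⟩
        exact hz
    rw [h2]
    exact h1.image (pullback.fst f g).continuous
  · intro h
    have : LocallyOfFiniteType (σ ≫ pullback.fst f g) := by rw [hσ]; infer_instance
    have : LocallyOfFiniteType σ := locallyOfFiniteType_of_comp σ (pullback.fst f g)
    rw [hf]; infer_instance
  · intro h
    have : IsSeparated (σ ≫ pullback.fst f g) := by rw [hσ]; infer_instance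
    have : IsSeparated σ := IsSeparated.of_comp σ (pullback.fst f g)
    rw [hf]; infer_instance
  · intro h
    exact flat_of_retract f (pullback.fst f g ≫ f) σ (pullback.fst f g) hσ rfl

end Groth.Agent.S18490
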