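import Groth.Statements.S18498
import Mathlib.Tactic
import Mathlib.AlgebraicGeometry.Morphisms.SchemeTheoreticallyDominant
import Mathlib.AlgebraicGeometry.Morphisms.Separated
-- import your own Groth.Agent.* helpers here

set_option autoImplicit false
universe u
open CategoryTheory CategoryTheory.Limits AlgebraicGeometry MonObj
open Neron

namespace Groth.Agent.S18498

set_option backward.isDefEq.respectTransparency.types false in
theorem isSchemeTheoreticallyDominant_Spec_map {A B : CommRingCat.{u}} (φ : A ⟶ B)
    (hφ : Function.Injective φ.hom) : IsSchemeTheoreticallyDominant (Spec.map φ) := by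
  constructor
  apply Scheme.IdealSheafData.ext_of_isAffine
  have hinj : Function.Injective (Spec.map φ).appTop := by
    have h1 : (Spec.map φ).appTop = (Scheme.ΓSpecIso A).hom ≫ φ ≫ (Scheme.ΓSpecIso B).inv := by
      rw [Scheme.ΓSpecIso_inv_naturality, Iso.hom_inv_id_assoc]
    rw [h1]
    intro a b hab
    have h2 := congrArg (Scheme.ΓSpecIso B).hom hab
    simp only [CommRingCat.comp_apply] at h2
    have h3 : ∀ y, (Scheme.ΓSpecIso B).hom ((Scheme.ΓSpecIso B).inv y) = y := fun y => by
      rw [← CommRingCat.comp_apply, Iso.inv_hom_id]; rfl
    rw [h3, h3] at h2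
    have h4 := hφ h2
    exact (ConcreteCategory.bijective_of_isIso (Scheme.ΓSpecIso A).hom).1 h4
  have hinj' : Function.Injective ((Spec.map φ).app ⊤).hom := hinj
  simp [(Spec.map φ).ker_apply ⟨⊤, isAffineOpen_top _⟩, ← RingHom.injective_iff_ker_eq_bot]
  exact hinj'


/-- Let R be a Dedekind domain with fraction field K, X a Spec R-scheme which is flat over Spec R, Y a
Spec R-scheme which is separated over Spec R, and f, g : X → Y two R-morphisms whose restrictions to
generic fibres X_K → Y_K are equal. Then f = g: an R-morphism from a flat R-scheme to a separated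
R-scheme is determined by its generic fibre. (The source states this for algebraic spaces over a
connected Dedekind scheme; the case of schemes over an affine base is stated.) -/
theorem result (R : Type u) [CommRing R] [IsDedekindDomain R]
    (X Y : Over (Spec (CommRingCat.of R))) [Flat X.hom] [IsSeparated Y.hom] (f g : X ⟶ Y)
    (h : (Neron.genericFibre R).map f = (Neron.genericFibre R).map g) : f = g := by
  haveI : IsSchemeTheoreticallyDominant (Neron.genPt R) :=
    isSchemeTheoreticallyDominant_Spec_map _ (IsFractionRing.injective R (FractionRing R))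
  let j : pullback X.hom (Neron.genPt R) ⟶ X.left := pullback.fst X.hom (Neron.genPt R)
  haveI : IsSchemeTheoreticallyDominant j := inferInstance
  have hj : j ≫ f.left = j ≫ g.left := by
    have h1 := congrArg (fun φ => φ.left ≫ pullback.fst Y.hom (Neron.genPt R)) h
    have hf1 : ((Neron.genericFibre R).map f).left ≫ pullback.fst Y.hom (Neron.genPt R) = j ≫ f.left :=
      pullback.lift_fst _ _ _
    have hg1 : ((Neron.genericFibre R).map g).left ≫ pullback.fst Y.hom (Neron.genPt R) = j ≫ g.left :=
      pullback.lift_fst _ _ _
    rw [← hf1, ← hg1]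
    exact h1
  -- equalizer
  let X' : Over (Spec (CommRingCat.of R)) := Over.mk (j ≫ X.hom)
  let j' : X' ⟶ X := Over.homMk j
  have hj' : j' ≫ f = j' ≫ g := by
    ext1
    exact hj
  have hci : IsClosedImmersion (equalizer.ι f g).left := inferInstance
  have hker : (equalizer.ι f g).left.ker = ⊥ := by
    have h1 : (equalizer.lift j' hj').left ≫ (equalizer.ι f g).left = j := by
      rw [← Over.comp_left, equalizer.lift_ι]
      rfl
    have h2 := Scheme.Hom.le_ker_comp (equalizer.lift j' hj').left (equalizer.ι f g).left
    rw [h1, Scheme.Hom.ker_eq_bot j] at h2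
    exact le_bot_iff.mp h2
  have hiso : IsIso (equalizer.ι f g).left := IsClosedImmersion.isIso_iff_ker_eq_bot.mpr hker
  ext1
  rw [← cancel_epi (equalizer.ι f g).left]
  exact congrArg (fun φ => φ.left) (equalizer.condition f g)

end Groth.Agent.S18498
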