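import Groth.Statements.S18502
import Groth.Agent.Lib.Helper26.GQ1
import Groth.Agent.Lib.Helper26.PB1

set_option autoImplicit false
universe u
open CategoryTheory MonoidalCategory CartesianMonoidalCategory MonObj GrpObj AlgebraicGeometry Topology
open EqInt

namespace Groth.Agent.S18502

/-- Over a field k, let an affine group scheme G of finite type act on X, let X and Y be separated and
of finite type over k, and let φ : X → Y be G-invariant, flat and surjective with (σ, p₂) : G × X →
X ×_Y X an isomorphism (X is a principal G-bundle over Y). Conclusion: the pair (Y, φ) realizes Y as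
a geometric quotient of X under G, and G acts freely, meaning (σ, p₂) : G × X → X × X is a closed
immersion. (The source takes X and Y integral; integrality plays no role. A geometric quotient is
taken here with φ universally submersive.) -/
theorem result (k : Type u) [Field k]
    (G X Y : Over (Spec (CommRingCat.of k))) [GrpObj G] [IsAffine G.left] [LocallyOfFiniteType G.hom]
    [LocallyOfFiniteType X.hom] [QuasiCompact X.hom] [IsSeparated X.hom]
    [LocallyOfFiniteType Y.hom] [QuasiCompact Y.hom] [IsSeparated Y.hom]
    (a : AlgGrp.Action G X) (φ : X ⟶ Y) (hinv : GIT.IsInvariant a φ) [Flat φ.left] [Surjective φ.left]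
    (hcart : IsIso (GIT.PsiY a φ hinv)) :
    GIT.IsGeomQuot a φ ∧ IsClosedImmersion (GIT.psi a (𝟙 X)).left := by
  have hqc : QuasiCompact φ.left := by
    have h1 : QuasiCompact (φ.left ≫ Y.hom) := by rw [Over.w φ]; infer_instance
    exact QuasiCompact.of_comp φ.left Y.hom
  constructor
  · refine Lib.Helper26.GQ1.isGeomQuot_of_torsor a φ hinv (fun T u v huv => ?_) ?_
    · exact Lib.Helper26.PB1.exists_pt a φ hinv u v huv
    · exact (GIT.PsiY a φ hinv).surjective
  · have hm1 : Limits.pullback.mapDesc φ.left φ.left Y.hom ≫
        (Limits.pullback.congrHom (Over.w φ) (Over.w φ)).hom ≫ Limits.pullback.fst X.hom X.hom =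
        Limits.pullback.fst φ.left φ.left := by
      rw [Limits.pullback.congrHom_hom]
      unfold Limits.pullback.mapDesc
      rw [Limits.pullback.map, Limits.pullback.map]
      rw [Limits.pullback.lift_fst, Limits.pullback.lift_fst_assoc]
      simp
    have hm2 : Limits.pullback.mapDesc φ.left φ.left Y.hom ≫
        (Limits.pullback.congrHom (Over.w φ) (Over.w φ)).hom ≫ Limits.pullback.snd X.hom X.hom =
        Limits.pullback.snd φ.left φ.left := by
      rw [Limits.pullback.congrHom_hom]
      unfold Limits.pullback.mapDesc
      rw [Limits.pullback.map, Limits.pullback.map]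
      rw [Limits.pullback.lift_snd, Limits.pullback.lift_snd_assoc]
      simp
    have e : (GIT.psi a (𝟙 X)).left = GIT.PsiY a φ hinv ≫ Limits.pullback.mapDesc φ.left φ.left Y.hom ≫
        (Limits.pullback.congrHom (Over.w φ) (Over.w φ)).hom := by
      apply Limits.pullback.hom_ext
      · have h1 := congrArg (fun m => Over.Hom.left m)
          (lift_fst ((G ◁ 𝟙 X) ≫ a.act) (snd G X))
        simp only [Over.comp_left] at h1
        have h2 : (GIT.psi a (𝟙 X)).left ≫ Limits.pullback.fst X.hom X.hom = a.act.left := by
          unfold GIT.psi
          rw [MonoidalCategory.whiskerLeft_id, Category.id_comp] at h1 ⊢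
          exact h1
        rw [h2, Category.assoc, Category.assoc, hm1, Lib.Helper26.PB1.psiY_fst]
      · have h1 := congrArg (fun m => Over.Hom.left m)
          (lift_snd ((G ◁ 𝟙 X) ≫ a.act) (snd G X))
        simp only [Over.comp_left] at h1
        have h2 : (GIT.psi a (𝟙 X)).left ≫ Limits.pullback.snd X.hom X.hom = (snd G X).left := by
          unfold GIT.psi
          exact h1
        rw [h2, Category.assoc, Category.assoc, hm2, Lib.Helper26.PB1.psiY_snd]
    rw [e]
    infer_instance

end Groth.Agent.S18502
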