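import Groth.Statements.S18507
import Groth.Agent.Lib.Helper9.GeomQ6

set_option autoImplicit false
universe u
open CategoryTheory MonoidalCategory CartesianMonoidalCategory MonObj GrpObj AlgebraicGeometry Topology
open EqInt

namespace Groth.Agent.S18507

/-- Over a field k, let an affine group scheme G of finite type act on X, with X and Y separated of
finite type over k, and let φ : X → Y be G-invariant. Let α : Y' → Y be faithfully flat and
quasi-compact, let X' → Y' be the base change of φ with its induced action of G (the action on X'
for which X' → X is equivariant and X' → Y' is invariant). If (Y', φ') is a geometric quotient of X'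
by G, then (Y, φ) is a geometric quotient of X by G. (The source takes X and Y integral; integrality
plays no role. A geometric quotient is taken here with universally submersive structure map, on both
sides.) -/
theorem result (k : Type u) [Field k]
    (G X Y X' Y' : Over (Spec (CommRingCat.of k))) [GrpObj G] [IsAffine G.left] [LocallyOfFiniteType G.hom]
    [LocallyOfFiniteType X.hom] [QuasiCompact X.hom] [IsSeparated X.hom]
    [LocallyOfFiniteType Y.hom] [QuasiCompact Y.hom] [IsSeparated Y.hom]
    (a : AlgGrp.Action G X) (φ : X ⟶ Y) (hinv : GIT.IsInvariant a φ)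
    (α : Y' ⟶ Y) [Flat α.left] [Surjective α.left] [QuasiCompact α.left]
    (pr : X' ⟶ X) (φ' : X' ⟶ Y') (hpb : IsPullback pr φ' φ α)
    (a' : AlgGrp.Action G X') (heq : a'.act ≫ pr = (G ◁ pr) ≫ a.act) (hinv' : GIT.IsInvariant a' φ')
    (h : GIT.IsGeomQuot a' φ') :
    GIT.IsGeomQuot a φ := by
  have H : IsPullback pr.left φ'.left φ.left α.left := hpb.map (Over.forget _)
  have hσ : a'.act.left ≫ pr.left = (G ◁ pr).left ≫ a.act.left := by
    rw [← Over.comp_left, ← Over.comp_left, heq]
  have hρ : (snd G X').left ≫ pr.left = (G ◁ pr).left ≫ (snd G X).left := by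
    rw [← Over.comp_left, ← Over.comp_left, whiskerLeft_snd]
  have hφX : φ.left ≫ Y.hom = X.hom := Over.w φ
  haveI : QuasiCompact (φ.left ≫ Y.hom) := by rw [hφX]; infer_instance
  haveI : IsSeparated (φ.left ≫ Y.hom) := by rw [hφX]; infer_instance
  haveI : QuasiCompact φ.left := QuasiCompact.of_comp φ.left Y.hom
  haveI : IsSeparated φ.left := IsSeparated.of_comp φ.left Y.hom
  haveI : QuasiCompact φ'.left :=
    MorphismProperty.of_isPullback (P := @QuasiCompact) H inferInstance
  haveI : IsSeparated φ'.left :=
    MorphismProperty.of_isPullback (P := @IsSeparated) H inferInstance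
  refine ⟨hinv, ?_, ?_, ?_, ?_⟩
  · exact Groth.Agent.Lib.Helper9.GeomQ.surj_descend H h.surj
  · exact Groth.Agent.Lib.Helper9.GeomQ.orbit_descend H a.act.left (snd G X).left a'.act.left
      (snd G X').left (G ◁ pr).left hσ hρ hinv.left hinv'.left h.orbit
  · exact Groth.Agent.Lib.Helper9.GeomQ.subm_descend H h.subm
  · intro U
    exact Groth.Agent.Lib.Helper9.GeomQ.sections_descend H a.act.left (snd G X).left a'.act.left
      (snd G X').left (G ◁ pr).left hσ hρ hinv.left h.sections U

end Groth.Agent.S18507
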