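import Groth.Statements.S18510
import Groth.Agent.Lib.Helper26.PB4
import Groth.Agent.Lib.Helper9.ProperOver4
import Groth.Agent.Lib.Helper9.FpqcLoc2

set_option autoImplicit false
universe u
open CategoryTheory MonoidalCategory CartesianMonoidalCategory MonObj GrpObj AlgebraicGeometry Topology
open EqInt

namespace Groth.Agent.S18510

/-- Over a field k, let an affine group scheme G of finite type act on X, on Y and on U (quasi-separated
schemes of finite type over k), let f : X → Y be G-equivariant, and let q_X : X × U → X_G and q_Y :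
Y × U → Y_G be principal bundle quotients for the diagonal actions (each is invariant, flat and
surjective, and (σ, p₂) into the fibre square over the quotient is an isomorphism), X_G and Y_G
being quasi-separated of finite type over k. Let f_G : X_G → Y_G satisfy f_G ∘ q_X = q_Y ∘ (f ×
id_U) as maps X × U → Y_G. If f is proper, resp. flat, resp. smooth, then so is f_G. (Stated for
schemes; the source allows algebraic spaces and also treats regular embeddings and local complete
intersection morphisms, which are not stated here.) -/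
theorem result (k : Type u) [Field k]
    (G X Y U XG YG : Over (Spec (CommRingCat.of k))) [GrpObj G] [IsAffine G.left] [LocallyOfFiniteType G.hom]
    [LocallyOfFiniteType X.hom] [QuasiCompact X.hom] [QuasiSeparated X.hom]
    [LocallyOfFiniteType Y.hom] [QuasiCompact Y.hom] [QuasiSeparated Y.hom]
    [LocallyOfFiniteType U.hom] [QuasiCompact U.hom] [QuasiSeparated U.hom]
    [LocallyOfFiniteType XG.hom] [QuasiCompact XG.hom] [QuasiSeparated XG.hom]
    [LocallyOfFiniteType YG.hom] [QuasiCompact YG.hom] [QuasiSeparated YG.hom]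
    (a : AlgGrp.Action G X) (aY : AlgGrp.Action G Y) (b : AlgGrp.Action G U)
    (f : X ⟶ Y) (hf : AlgGrp.Action.IsEquivariant a aY f)
    (qX : X ⊗ U ⟶ XG) (hqX : GIT.IsInvariant (a.prod b) qX) [Flat qX.left] [Surjective qX.left]
    (hcX : IsIso (GIT.PsiY (a.prod b) qX hqX))
    (qY : Y ⊗ U ⟶ YG) (hqY : GIT.IsInvariant (aY.prod b) qY) [Flat qY.left] [Surjective qY.left]
    (hcY : IsIso (GIT.PsiY (aY.prod b) qY hqY))
    (fG : XG ⟶ YG) (hfG : qX ≫ fG = (f ▷ U) ≫ qY) :
    (IsProper f.left → IsProper fG.left) ∧ (Flat f.left → Flat fG.left) ∧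
      (Smooth f.left → Smooth fG.left) := by
  have : QuasiCompact (X ⊗ U).hom := Lib.Helper26.PB2.quasiCompact_tensor_hom X U
  have : QuasiCompact (Y ⊗ U).hom := Lib.Helper26.PB2.quasiCompact_tensor_hom Y U
  have : QuasiCompact qX.left := Lib.Helper26.PB2.quasiCompact_left qX
  have : QuasiCompact qY.left := Lib.Helper26.PB2.quasiCompact_left qY
  have heq : (a.prod b).act ≫ (f ▷ U) = (G ◁ (f ▷ U)) ≫ (aY.prod b).act :=
    Lib.Helper26.PB4.equivariant_whiskerRight a aY b f hf
  have hPB : IsPullback qX.left (f ▷ U).left fG.left qY.left :=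
    Lib.Helper26.PB1.isPullback (a.prod b) qX hqX (aY.prod b) qY hqY (f ▷ U) heq fG hfG
  have htop0 : IsPullback (f ▷ U) (fst X U) (fst Y U) f :=
    Lib.Helper26.PB4.isPullback_whiskerRight_fst f U
  have htop : IsPullback (f ▷ U).left (fst X U).left (fst Y U).left f.left :=
    htop0.map (Over.forget _)
  have hQ : (@Surjective ⊓ @Flat ⊓ @QuasiCompact : MorphismProperty Scheme.{u}) qY.left :=
    ⟨⟨inferInstance, inferInstance⟩, inferInstance⟩
  refine ⟨fun hP => ?_, fun hP => ?_, fun hP => ?_⟩
  · have h1 : IsProper (f ▷ U).left := MorphismProperty.of_isPullback (P := @IsProper) htop.flip hP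
    have hsnd : IsProper (Limits.pullback.snd fG.left qY.left) := by
      have e : hPB.isoPullback.hom ≫ Limits.pullback.snd fG.left qY.left = (f ▷ U).left :=
        hPB.isoPullback_hom_snd
      have e2 : Limits.pullback.snd fG.left qY.left = hPB.isoPullback.inv ≫ (f ▷ U).left :=
        (Iso.inv_comp_eq _).mpr e.symm |>.symm
      rw [e2]
      exact (MorphismProperty.cancel_left_of_respectsIso @IsProper _ _).mpr h1
    exact Lib.Helper9.ProperOver.isProper_of_pullback_snd_fpqc fG.left qY.left hsnd
  · have h1 : Flat (f ▷ U).left := MorphismProperty.of_isPullback (P := @Flat) htop.flip hP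
    have := Lib.Helper9.FpqcLoc.descendsAlong_flat_fpqc.{u}
    exact MorphismProperty.of_isPullback_of_descendsAlong (P := @Flat)
      (Q := @Surjective ⊓ @Flat ⊓ @QuasiCompact) hPB.flip hQ h1
  · have h1 : Smooth (f ▷ U).left := MorphismProperty.of_isPullback (P := @Smooth) htop.flip hP
    exact MorphismProperty.of_isPullback_of_descendsAlong (P := @Smooth)
      (Q := @Surjective ⊓ @Flat ⊓ @QuasiCompact) hPB.flip hQ h1

end Groth.Agent.S18510
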