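import Groth.Statements.S18511
import Groth.Agent.Lib.Helper9.GeomQ7

set_option autoImplicit false
universe u
open CategoryTheory MonoidalCategory CartesianMonoidalCategory MonObj GrpObj AlgebraicGeometry Topology
open EqInt

namespace Groth.Agent.S18511

/-- Over a field k, let an affine group scheme G of finite type act on X, with X and Y separated of
finite type over k, and let φ : X → Y be G-invariant. Let α : Y' → Y be faithfully flat and
quasi-compact and let X' → Y' be the base change of φ with its induced action of G (X' → X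
equivariant, X' → Y' invariant). If (Y', φ') is a universal geometric quotient of X' by G, then (Y,
φ) is a universal geometric quotient of X by G. (The source takes X and Y integral; integrality
plays no role. Geometric quotients are taken with universally submersive structure map.) -/
theorem result (k : Type u) [Field k]
    (G X Y X' Y' : Over (Spec (CommRingCat.of k))) [GrpObj G] [IsAffine G.left] [LocallyOfFiniteType G.hom]
    [LocallyOfFiniteType X.hom] [QuasiCompact X.hom] [IsSeparated X.hom]
    [LocallyOfFiniteType Y.hom] [QuasiCompact Y.hom] [IsSeparated Y.hom]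
    (a : AlgGrp.Action G X) (φ : X ⟶ Y) (hinv : GIT.IsInvariant a φ)
    (α : Y' ⟶ Y) [Flat α.left] [Surjective α.left] [QuasiCompact α.left]
    (pr : X' ⟶ X) (φ' : X' ⟶ Y') (hpb : IsPullback pr φ' φ α)
    (a' : AlgGrp.Action G X') (heq : a'.act ≫ pr = (G ◁ pr) ≫ a.act) (hinv' : GIT.IsInvariant a' φ')
    (h : GIT.IsUnivGeomQuot a' φ') :
    GIT.IsUnivGeomQuot a φ := by
  have H : IsPullback pr.left φ'.left φ.left α.left := hpb.map (Over.forget _)
  have hφX : φ.left ≫ Y.hom = X.hom := Over.w φ
  haveI : QuasiCompact (φ.left ≫ Y.hom) := by rw [hφX]; infer_instance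
  haveI : IsSeparated (φ.left ≫ Y.hom) := by rw [hφX]; infer_instance
  haveI : QuasiCompact φ.left := QuasiCompact.of_comp φ.left Y.hom
  haveI : IsSeparated φ.left := IsSeparated.of_comp φ.left Y.hom
  haveI : QuasiCompact φ'.left :=
    MorphismProperty.of_isPullback (P := @QuasiCompact) H inferInstance
  haveI : IsSeparated φ'.left :=
    MorphismProperty.of_isPullback (P := @IsSeparated) H inferInstance
  refine ⟨Groth.Agent.Lib.Helper9.GeomQ.isGeomQuot_descend a φ hinv α pr φ' hpb a' heq hinv' h.1, ?_⟩
  intro XW W prW φW gW _ sqW aW heqW hinvW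
  let j : Limits.pullback gW α ⟶ W := Limits.pullback.fst gW α
  let l : Limits.pullback gW α ⟶ Y' := Limits.pullback.snd gW α
  let p1 : Limits.pullback φW j ⟶ XW := Limits.pullback.fst φW j
  let p2 : Limits.pullback φW j ⟶ Limits.pullback gW α := Limits.pullback.snd φW j
  have sqJ : IsPullback j l gW α := IsPullback.of_hasPullback gW α
  have sqA : IsPullback p1 p2 φW j := IsPullback.of_hasPullback φW j
  have sqB : IsPullback (p1 ≫ prW) p2 φ (j ≫ gW) := sqA.paste_horiz sqW
  have hjl : j ≫ gW = l ≫ α := Limits.pullback.condition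
  have w : (p1 ≫ prW) ≫ φ = (p2 ≫ l) ≫ α := by
    rw [sqB.w, Category.assoc, hjl]
  let r : Limits.pullback φW j ⟶ X' := hpb.lift (p1 ≫ prW) (p2 ≫ l) w
  have sqC : IsPullback r p2 φ' l := by
    refine IsPullback.of_right ?_ (hpb.lift_snd _ _ _) hpb
    rw [hpb.lift_fst, ← hjl]; exact sqB
  let aW' := Groth.Agent.Lib.Helper9.GeomQ.inducedAction aW φW hinvW sqA
  have e1 : aW'.act ≫ p1 = (G ◁ p1) ≫ aW.act :=
    Groth.Agent.Lib.Helper9.GeomQ.inducedAction_act_fst aW φW hinvW sqA
  have i1 : GIT.IsInvariant aW' p2 :=
    Groth.Agent.Lib.Helper9.GeomQ.inducedAction_act_snd aW φW hinvW sqA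
  have e2 : aW'.act ≫ r = (G ◁ r) ≫ a'.act := by
    apply hpb.hom_ext
    · rw [Category.assoc, hpb.lift_fst, ← Category.assoc, e1, Category.assoc, heqW,
        Category.assoc, heq, ← MonoidalCategory.whiskerLeft_comp_assoc,
        ← MonoidalCategory.whiskerLeft_comp_assoc, hpb.lift_fst]
    · have h1 : a'.act ≫ φ' = snd G X' ≫ φ' := hinv'
      have h2 : aW'.act ≫ p2 = snd G _ ≫ p2 := i1
      calc (aW'.act ≫ r) ≫ φ' = aW'.act ≫ p2 ≫ l := by rw [Category.assoc, hpb.lift_snd]
        _ = snd G _ ≫ p2 ≫ l := by rw [← Category.assoc, h2, Category.assoc]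
        _ = snd G _ ≫ r ≫ φ' := by rw [hpb.lift_snd]
        _ = (G ◁ r) ≫ snd G X' ≫ φ' := by
          rw [← Category.assoc, ← whiskerLeft_snd, Category.assoc]
        _ = ((G ◁ r) ≫ a'.act) ≫ φ' := by rw [Category.assoc, h1]
  have hq' : GIT.IsGeomQuot aW' p2 := h.2 r p2 l trivial sqC aW' e2 i1
  have HJ : IsPullback j.left l.left gW.left α.left := sqJ.map (Over.forget _)
  have HA : IsPullback p1.left p2.left φW.left j.left := sqA.map (Over.forget _)
  have HW : IsPullback prW.left φW.left φ.left gW.left := sqW.map (Over.forget _)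
  haveI : Flat j.left := MorphismProperty.of_isPullback (P := @Flat) HJ.flip inferInstance
  haveI : Surjective j.left :=
    MorphismProperty.of_isPullback (P := @Surjective) HJ.flip inferInstance
  haveI : QuasiCompact j.left :=
    MorphismProperty.of_isPullback (P := @QuasiCompact) HJ.flip inferInstance
  haveI : QuasiCompact φW.left :=
    MorphismProperty.of_isPullback (P := @QuasiCompact) HW inferInstance
  haveI : IsSeparated φW.left :=
    MorphismProperty.of_isPullback (P := @IsSeparated) HW inferInstance
  haveI : QuasiCompact p2.left :=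
    MorphismProperty.of_isPullback (P := @QuasiCompact) HA inferInstance
  haveI : IsSeparated p2.left :=
    MorphismProperty.of_isPullback (P := @IsSeparated) HA inferInstance
  exact Groth.Agent.Lib.Helper9.GeomQ.isGeomQuot_descend aW φW hinvW j p1 p2 sqA aW' e1 i1 hq'

end Groth.Agent.S18511
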