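import Groth.Statements.S18535
import Mathlib
import Groth.Agent.Lib.Helper12.HenselIntegralDomain
import Groth.Agent.Lib.Helper12.NoetherianAux

set_option autoImplicit false
universe u
open EtAlg

namespace Groth.Agent.S18535

section helpers
open IsLocalRing



/-- Vandermonde generation: if the differences of the conjugates of `s` are units, then
every element of `S` is an `R`-combination of `1, s, …, s^{N-1}` with `N = |G|`. -/
theorem exists_eq_sum_pow {R S G : Type u} [CommRing R] [CommRing S] [Algebra R S]
    [Group G] [Finite G] [MulSemiringAction G S] [Algebra.IsInvariant R S G]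
    (s : S) (hs : ∀ g h : G, g ≠ h → IsUnit (g • s - h • s)) (z : S) :
    ∃ c : Fin (Nat.card G) → R, z = ∑ j, algebraMap R S (c j) * s ^ (j : ℕ) := by
  classical
  let e : G ≃ Fin (Nat.card G) := Finite.equivFin G
  let v : Fin (Nat.card G) → S := fun i => (e.symm i) • s
  let V := Matrix.vandermonde v
  have hdet : IsUnit V.det := by
    rw [Matrix.det_vandermonde]
    refine IsUnit.prod_univ_iff.mpr fun i => IsUnit.prod_iff.mpr fun j hj => ?_
    refine hs _ _ fun h => ?_
    have : j = i := e.symm.injective h
    simp [this] at hj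
  have hV : IsUnit V := (Matrix.isUnit_iff_isUnit_det V).mpr hdet
  let w : Fin (Nat.card G) → S := fun i => (e.symm i) • z
  obtain ⟨c, hc⟩ := Matrix.mulVec_surjective_iff_isUnit.mpr hV w
  have hrow : ∀ i, ∑ j : Fin (Nat.card G), v i ^ (j : ℕ) * c j = w i := by
    intro i
    have := congrFun hc i
    simpa [Matrix.mulVec, dotProduct, V, Matrix.vandermonde_apply] using this
  have hinv : ∀ σ : G, (fun j => σ • c j) = c := by
    intro σ
    apply Matrix.mulVec_injective_of_isUnit hV
    funext i
    have h1 := hrow (e (σ⁻¹ * e.symm i))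
    have h2 := congrArg (fun x => σ • x) h1
    simp only [Finset.smul_sum, smul_mul', smul_pow', v, w, Equiv.symm_apply_apply, ← mul_smul,
      mul_inv_cancel_left] at h2
    rw [hc]
    simpa [Matrix.mulVec, dotProduct, V, Matrix.vandermonde_apply, v, w] using h2
  have hc' : ∀ j, ∃ a : R, algebraMap R S a = c j := fun j =>
    Algebra.IsInvariant.isInvariant (A := R) (G := G) (c j) fun g => congrFun (hinv g) j
  choose c' hc' using hc'
  refine ⟨c', ?_⟩
  have h1 := hrow (e 1)
  simp only [v, w, Equiv.symm_apply_apply, one_smul] at h1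
  rw [← h1]
  refine Finset.sum_congr rfl fun j _ => ?_
  rw [hc', mul_comm]




theorem exists_separating_element (E : Type u) [Field E] (H : Type u) [Group H] [Finite H]
    [MulSemiringAction H E] [FaithfulSMul H E] :
    ∃ θ : E, ∀ σ τ : H, σ • θ = τ • θ → σ = τ := by
  obtain ⟨θ, hθ⟩ := Field.exists_primitive_element (FixedPoints.subfield H E) E
  refine ⟨θ, fun σ τ h => ?_⟩
  have hadj : Algebra.adjoin (FixedPoints.subfield H E) {θ} = ⊤ := by
    have := IntermediateField.adjoin_simple_toSubalgebra_of_isAlgebraic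
      (F := FixedPoints.subfield H E) (α := θ) (Algebra.IsAlgebraic.isAlgebraic θ)
    rw [← this, hθ, IntermediateField.top_toSubalgebra]
  apply MulSemiringAction.toAlgHom_injective (FixedPoints.subfield H E) E
  apply AlgHom.ext_of_adjoin_eq_top hadj
  rintro x rfl
  exact h




open scoped Pointwise in
theorem forward (R S G : Type u) [CommRing R] [CommRing S] [IsDomain S]
    [HenselianLocalRing R]
    [Algebra R S] [Group G] [Finite G] [MulSemiringAction G S] [SMulCommClass G R S]
    [Algebra.IsInvariant R S G]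
    (n : Ideal S) [n.IsMaximal] [n.LiesOver (maximalIdeal R)]
    (hI : n.toAddSubgroup.inertia G = ⊥) :
    (maximalIdeal R).map (algebraMap R S) = n ∧
        Module.Finite (R ⧸ maximalIdeal R) (S ⧸ n) ∧
        Algebra.IsSeparable (R ⧸ maximalIdeal R) (S ⧸ n) := by
  classical
  haveI : Algebra.IsIntegral R S := Algebra.IsInvariant.isIntegral R S G
  haveI : IsLocalRing S := Groth.Agent.Lib.Helper12.isLocalRing_of_isIntegral_of_isDomain R S
  have hn : n = maximalIdeal S := IsLocalRing.eq_maximalIdeal ‹_›
  letI : Field (R ⧸ maximalIdeal R) := Ideal.Quotient.field _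
  letI : Field (S ⧸ n) := Ideal.Quotient.field _
  -- the stabilizer is everything
  have hstab : ∀ g : G, g • n = n := by
    intro g
    ext x
    have hu : IsUnit (g⁻¹ • x) ↔ IsUnit x := by
      constructor
      · intro h
        have := h.map (MulSemiringAction.toRingHom G S g)
        simpa using this
      · intro h
        exact h.map (MulSemiringAction.toRingHom G S g⁻¹)
    rw [Ideal.mem_pointwise_smul_iff_inv_smul_mem, hn, mem_maximalIdeal, mem_maximalIdeal,
      mem_nonunits_iff, mem_nonunits_iff, hu]
  -- the map `G → Gal(k_S/k)`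
  let ψ : G → ((S ⧸ n) ≃ₐ[R ⧸ maximalIdeal R] (S ⧸ n)) := fun g =>
    Ideal.Quotient.stabilizerHom n (maximalIdeal R) G ⟨g, hstab g⟩
  have hψ : ∀ g b, ψ g (Ideal.Quotient.mk n b) = Ideal.Quotient.mk n (g • b) := fun g b => rfl
  have hψsurj : Function.Surjective ψ := by
    intro τ
    obtain ⟨⟨g, hg⟩, rfl⟩ := Ideal.Quotient.stabilizerHom_surjective G (maximalIdeal R) n τ
    exact ⟨g, rfl⟩
  have hψinj : Function.Injective ψ := by
    intro g h hgh
    have : g⁻¹ * h ∈ n.toAddSubgroup.inertia G := by
      rw [AddSubgroup.mem_inertia]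
      intro x
      have h1 : Ideal.Quotient.mk n (g • x) = Ideal.Quotient.mk n (h • x) := by
        rw [← hψ, ← hψ, hgh]
      rw [Ideal.Quotient.eq] at h1
      have h2 : g⁻¹ • (h • x - g • x) ∈ n := by
        have := Ideal.smul_mem_pointwise_smul g⁻¹ _ n (neg_mem h1)
        rw [hstab] at this
        simpa using this
      simpa [mul_smul, smul_sub] using h2
    rw [hI, Subgroup.mem_bot, inv_mul_eq_one] at this
    exact this
  haveI : Finite ((S ⧸ n) ≃ₐ[R ⧸ maximalIdeal R] (S ⧸ n)) := Finite.of_surjective ψ hψsurj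
  obtain ⟨θ, hθ⟩ := exists_separating_element (S ⧸ n)
    ((S ⧸ n) ≃ₐ[R ⧸ maximalIdeal R] (S ⧸ n))
  obtain ⟨s, rfl⟩ := Ideal.Quotient.mk_surjective θ
  have hs : ∀ g h : G, g ≠ h → IsUnit (g • s - h • s) := by
    intro g h hgh
    by_contra hu
    have hmem : g • s - h • s ∈ n := by
      rw [hn, mem_maximalIdeal, mem_nonunits_iff]; exact hu
    rw [← Ideal.Quotient.eq, ← hψ, ← hψ] at hmem
    exact hgh (hψinj (hθ _ _ hmem))
  have gen := exists_eq_sum_pow (R := R) (G := G) s hs
  -- spanning family
  let b : Fin (Nat.card G) → S ⧸ n := fun j => (Ideal.Quotient.mk n s) ^ (j : ℕ)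
  have hspan : ⊤ ≤ Submodule.span (R ⧸ maximalIdeal R) (Set.range b) := by
    rintro x -
    obtain ⟨z, rfl⟩ := Ideal.Quotient.mk_surjective x
    obtain ⟨c, hc⟩ := gen z
    rw [hc, map_sum]
    refine Submodule.sum_mem _ fun j _ => ?_
    rw [map_mul, map_pow, ← Ideal.Quotient.algebraMap_mk_of_liesOver n (maximalIdeal R),
      ← Algebra.smul_def]
    exact Submodule.smul_mem _ _ (Submodule.subset_span ⟨j, rfl⟩)
  haveI hfin : Module.Finite (R ⧸ maximalIdeal R) (S ⧸ n) := by
    refine Module.finite_def.mpr ?_
    rw [← top_le_iff.mp hspan]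
    exact Submodule.fg_span (Set.finite_range b)
  have hle : Module.finrank (R ⧸ maximalIdeal R) (S ⧸ n) ≤ Nat.card G := by
    have := finrank_range_le_card (R := R ⧸ maximalIdeal R) b
    rw [Set.finrank, top_le_iff.mp hspan, finrank_top, Fintype.card_fin] at this
    exact this
  have hcard : Nat.card ((S ⧸ n) ≃ₐ[R ⧸ maximalIdeal R] (S ⧸ n)) = Nat.card G :=
    (Nat.card_congr (Equiv.ofBijective ψ ⟨hψinj, hψsurj⟩)).symm
  have hge : Nat.card ((S ⧸ n) ≃ₐ[R ⧸ maximalIdeal R] (S ⧸ n)) ≤
      Module.finrank (R ⧸ maximalIdeal R) (S ⧸ n) := by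
    rw [Nat.card_eq_fintype_card]
    exact AlgEquiv.card_le
  have hfr : Module.finrank (R ⧸ maximalIdeal R) (S ⧸ n) = Nat.card G :=
    le_antisymm hle (hcard ▸ hge)
  haveI : IsGalois (R ⧸ maximalIdeal R) (S ⧸ n) :=
    IsGalois.of_card_aut_eq_finrank _ _ (hcard.trans hfr.symm)
  refine ⟨le_antisymm ?_ ?_, hfin, inferInstance⟩
  · rw [Ideal.map_le_iff_le_comap]
    exact le_of_eq (Ideal.over_def n (maximalIdeal R))
  · intro z hz
    obtain ⟨c, hc⟩ := gen z
    have hli : LinearIndependent (R ⧸ maximalIdeal R) b :=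
      linearIndependent_of_top_le_span_of_card_eq_finrank hspan (by rw [Fintype.card_fin, hfr])
    have h0 : ∑ j, Ideal.Quotient.mk (maximalIdeal R) (c j) • b j = 0 := by
      have : Ideal.Quotient.mk n z = 0 := Ideal.Quotient.eq_zero_iff_mem.mpr hz
      rw [hc, map_sum] at this
      rw [← this]
      refine Finset.sum_congr rfl fun j _ => ?_
      rw [map_mul, map_pow, ← Ideal.Quotient.algebraMap_mk_of_liesOver n (maximalIdeal R),
        ← Algebra.smul_def]
    have h1 := Fintype.linearIndependent_iff.mp hli _ h0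
    rw [hc]
    refine Ideal.sum_mem _ fun j _ => ?_
    exact Ideal.mul_mem_right _ _ (Ideal.mem_map_of_mem _ (Ideal.Quotient.eq_zero_iff_mem.mp (h1 j)))




theorem finite_of_isGaloisGroup (R S G : Type u) [CommRing R] [CommRing S] [IsDomain R]
    [IsDomain S] [IsNoetherianRing R] [IsIntegrallyClosed R] [Algebra R S] [FaithfulSMul R S]
    [IsIntegrallyClosed S] [Group G] [Finite G] [MulSemiringAction G S]
    [IsGaloisGroup G R S] : Module.Finite R S := by
  letI := FractionRing.liftAlgebra R (FractionRing S)
  letI := IsFractionRing.mulSemiringAction G S (FractionRing S)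
  haveI : IsGaloisGroup G (FractionRing R) (FractionRing S) :=
    IsGaloisGroup.toFractionRing G R S
  haveI := IsGaloisGroup.isGalois G (FractionRing R) (FractionRing S)
  haveI := IsGaloisGroup.finiteDimensional G (FractionRing R) (FractionRing S)
  haveI : Algebra.IsIntegral R S := Algebra.IsInvariant.isIntegral R S G
  haveI : IsIntegralClosure S R (FractionRing S) :=
    IsIntegralClosure.of_isIntegrallyClosed S R (FractionRing S)
  exact IsIntegralClosure.finite R (FractionRing R) (FractionRing S) S

open scoped Pointwise in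
theorem backward (R S G : Type u) [CommRing R] [CommRing S] [IsDomain R] [IsDomain S]
    [IsNoetherianRing R] [IsLocalRing R] [IsIntegrallyClosed R]
    [Algebra R S] [FaithfulSMul R S] [IsIntegrallyClosed S]
    [Group G] [Finite G] [MulSemiringAction G S] [SMulCommClass G R S] [IsGaloisGroup G R S]
    (n : Ideal S) [n.IsMaximal] [n.LiesOver (maximalIdeal R)]
    (h1 : (maximalIdeal R).map (algebraMap R S) = n)
    (h2 : Module.Finite (R ⧸ maximalIdeal R) (S ⧸ n))
    (h3 : Algebra.IsSeparable (R ⧸ maximalIdeal R) (S ⧸ n)) :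
    n.toAddSubgroup.inertia G = ⊥ := by
  classical
  haveI hfinS : Module.Finite R S := finite_of_isGaloisGroup R S G
  letI : Field (R ⧸ maximalIdeal R) := Ideal.Quotient.field _
  letI : Field (S ⧸ n) := Ideal.Quotient.field _
  -- basis of `k_S` over `k`, lifted to `S`
  let B := Module.finBasis (R ⧸ maximalIdeal R) (S ⧸ n)
  have hlift : ∀ i, ∃ b : S, Ideal.Quotient.mk n b = B i := fun i =>
    Ideal.Quotient.mk_surjective _
  choose b hb using hlift
  have hspan : Submodule.span R (Set.range b) = ⊤ := by
    rw [eq_top_iff]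
    apply Submodule.le_of_le_smul_of_le_jacobson_bot (I := maximalIdeal R)
      Module.Finite.fg_top (IsLocalRing.maximalIdeal_le_jacobson ⊥)
    rintro z -
    have hz := B.sum_repr (Ideal.Quotient.mk n z)
    choose a ha using fun i => Ideal.Quotient.mk_surjective (B.repr (Ideal.Quotient.mk n z) i)
    have hmem : z - ∑ i, a i • b i ∈ n := by
      rw [← Ideal.Quotient.eq, map_sum, ← hz]
      refine (Finset.sum_congr rfl fun i _ => ?_).symm
      rw [Algebra.smul_def, map_mul, hb, ← ha, Algebra.smul_def,
        Ideal.Quotient.algebraMap_mk_of_liesOver]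
    rw [Submodule.mem_sup]
    refine ⟨∑ i, a i • b i, Submodule.sum_mem _ fun i _ =>
      Submodule.smul_mem _ _ (Submodule.subset_span ⟨i, rfl⟩), z - ∑ i, a i • b i, ?_, by ring⟩
    rw [Ideal.smul_top_eq_map, h1]
    exact hmem
  have hG : Nat.card G ≤ Module.finrank (R ⧸ maximalIdeal R) (S ⧸ n) := by
    rw [IsGaloisGroup.card_eq_finrank' G R S]
    have := finrank_range_le_card (R := R) b
    rw [Set.finrank, hspan, finrank_top, Fintype.card_fin] at this
    exact this
  haveI : Normal (R ⧸ maximalIdeal R) (S ⧸ n) := Ideal.Quotient.normal G (maximalIdeal R) n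
  haveI : IsGalois (R ⧸ maximalIdeal R) (S ⧸ n) := ⟨⟩
  have hH : Nat.card ((S ⧸ n) ≃ₐ[R ⧸ maximalIdeal R] (S ⧸ n)) =
      Module.finrank (R ⧸ maximalIdeal R) (S ⧸ n) := IsGalois.card_aut_eq_finrank _ _
  have hq : Nat.card (MulAction.stabilizer G n ⧸ n.inertia (MulAction.stabilizer G n)) =
      Module.finrank (R ⧸ maximalIdeal R) (S ⧸ n) :=
    (Nat.card_congr
      (Ideal.Quotient.stabilizerQuotientInertiaEquiv G (maximalIdeal R) n).toEquiv).trans hH
  have hD := Subgroup.card_eq_card_quotient_mul_card_subgroup
    (n.inertia (MulAction.stabilizer G n))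
  have hDle : Nat.card (MulAction.stabilizer G n) ≤ Nat.card G := Subgroup.card_le_card_group _
  have hfpos : 0 < Module.finrank (R ⧸ maximalIdeal R) (S ⧸ n) := Module.finrank_pos
  have hIle : Nat.card (n.inertia (MulAction.stabilizer G n)) ≤ 1 := by
    by_contra hcon
    push_neg at hcon
    rw [hq] at hD
    nlinarith
  have hIbot := Subgroup.eq_bot_of_card_le _ hIle
  rw [eq_bot_iff]
  intro g hg
  have hgD : g ∈ MulAction.stabilizer G n := Ideal.inertia_le_stabilizer n hg
  have hmem : (⟨g, hgD⟩ : MulAction.stabilizer G n) ∈ n.inertia (MulAction.stabilizer G n) :=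
    (Ideal.coe_mem_inertia (H := MulAction.stabilizer G n)).mp hg
  rw [hIbot, Subgroup.mem_bot] at hmem
  exact Subgroup.mem_bot.mpr (congrArg Subtype.val hmem)


end helpers

/-- Let R be a complete Noetherian local normal domain with maximal ideal m, let S be a normal domain
containing R on which a finite group G acts by R-algebra automorphisms, faithfully and with ring of
invariants exactly R (so that S is the integral closure of R in some finite Galois extension, with
group G, of Frac R), and let n be a maximal ideal of S over m. Then the inertia subgroup of n in G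
(the elements g with g s - s ∈ n for all s ∈ S) is trivial if and only if mS = n and the residue
field S/n is finite and separable over R/m. -/
theorem result
    (R S G : Type u) [CommRing R] [CommRing S] [IsDomain R] [IsDomain S]
    [IsNoetherianRing R] [IsLocalRing R] [IsIntegrallyClosed R]
    [IsAdicComplete (IsLocalRing.maximalIdeal R) R]
    [Algebra R S] [FaithfulSMul R S] [IsIntegrallyClosed S]
    [Group G] [Finite G] [MulSemiringAction G S] [SMulCommClass G R S] [IsGaloisGroup G R S]
    (n : Ideal S) [n.IsMaximal] [n.LiesOver (IsLocalRing.maximalIdeal R)] :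
    n.toAddSubgroup.inertia G = ⊥ ↔
      ((IsLocalRing.maximalIdeal R).map (algebraMap R S) = n ∧
        Module.Finite (R ⧸ IsLocalRing.maximalIdeal R) (S ⧸ n) ∧
        Algebra.IsSeparable (R ⧸ IsLocalRing.maximalIdeal R) (S ⧸ n)) := by
  haveI : HenselianRing R (IsLocalRing.maximalIdeal R) := inferInstance
  haveI : HenselianLocalRing R := Groth.Agent.Lib.Helper12.henselianLocalRing_of_henselianRing R
  constructor
  · intro hI
    exact forward R S G n hI
  · rintro ⟨h1, h2, h3⟩
    exact backward R S G n h1 h2 h3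

end Groth.Agent.S18535
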