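import Groth.Statements.S18538
-- import your own Groth.Agent.* helpers here
import Mathlib.LinearAlgebra.Basis.VectorSpace
import Mathlib.RingTheory.IntegralClosure.IsIntegralClosure.Basic

set_option autoImplicit false
universe u
open EtAlg

namespace Groth.Agent.S18538

/-- Let A ⊆ B be an injective finite extension of integrally closed domains, with fraction fields K ⊆ L
and L separable over K. Then A → B → B ⊗_A B is exact, the second map being b ↦ b ⊗ 1 - 1 ⊗ b: every
element of B whose two images in B ⊗_A B agree comes from A. -/
theorem result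
    (A B K L : Type u) [CommRing A] [CommRing B] [IsDomain A] [IsDomain B]
    [IsIntegrallyClosed A] [IsIntegrallyClosed B] [Algebra A B] [FaithfulSMul A B] [Module.Finite A B]
    [Field K] [Field L] [Algebra A K] [IsFractionRing A K] [Algebra B L] [IsFractionRing B L]
    [Algebra K L] [Algebra A L] [IsScalarTower A K L] [IsScalarTower A B L]
    [Algebra.IsSeparable K L] :
    Algebra.IsEffective A B := by
  intro b
  refine ⟨fun hb => ?_, Algebra.TensorProduct.includeLeftSubRight_zero_of_mem_range⟩
  -- a K-linear retraction of K → L
  obtain ⟨φ, hφ⟩ := LinearMap.exists_leftInverse_of_injective (Algebra.linearMap K L)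
    (LinearMap.ker_eq_bot.mpr (algebraMap K L).injective)
  have hφ1 : ∀ c : K, φ (algebraMap K L c) = c := fun c => LinearMap.congr_fun hφ c
  have hB : ∀ (a : A) (x : B), algebraMap B L (a • x) = a • algebraMap B L x := fun a x => by
    rw [Algebra.smul_def, map_mul, ← IsScalarTower.algebraMap_apply, ← Algebra.smul_def]
  let Ψ : TensorProduct A B B →ₗ[A] L := TensorProduct.lift
    (LinearMap.mk₂ A (fun x y : B => φ (algebraMap B L x) • algebraMap B L y)
      (fun x x' y => by simp only [map_add, add_smul])
      (fun a x y => by rw [hB, LinearMap.map_smul_of_tower, smul_assoc])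
      (fun x y y' => by simp only [map_add, smul_add])
      (fun a x y => by rw [hB, smul_comm]))
  have h0 : Ψ (Algebra.TensorProduct.includeLeftSubRight A B b) = 0 := by rw [hb, map_zero]
  rw [Algebra.TensorProduct.includeLeftSubRight_apply, map_sub] at h0
  simp only [Ψ, TensorProduct.lift.tmul, LinearMap.mk₂_apply, map_one] at h0
  have h1 : φ 1 = 1 := by simpa using hφ1 1
  rw [h1, one_smul, sub_eq_zero, Algebra.smul_def, mul_one] at h0
  -- so b lies in K
  set c : K := φ (algebraMap B L b) with hc
  have hbint : IsIntegral A b := Algebra.IsIntegral.isIntegral b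
  have hcint : IsIntegral A c := by
    have h2 : IsIntegral A (algebraMap K L c) := by
      rw [h0]
      exact hbint.map (IsScalarTower.toAlgHom A B L)
    exact (isIntegral_algHom_iff (IsScalarTower.toAlgHom A K L) (algebraMap K L).injective).mp h2
  obtain ⟨a, ha⟩ := IsIntegrallyClosed.isIntegral_iff.mp hcint
  refine ⟨a, ?_⟩
  apply IsFractionRing.injective B L
  rw [← h0, ← ha, Algebra.linearMap_apply, ← IsScalarTower.algebraMap_apply,
    ← IsScalarTower.algebraMap_apply]

end Groth.Agent.S18538
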