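import Groth.Statements.S18539
-- import your own Groth.Agent.* helpers here
import Mathlib.RingTheory.Regular.RegularSequence

set_option autoImplicit false
universe u v w
open CAlg

namespace Groth.Agent.S18539

open Pointwise in
lemma aux (R : Type u) [CommRing R] (M : Type v) (N : Type w)
    [AddCommGroup M] [Module R M] [AddCommGroup N] [Module R N]
    (r₁ r₂ : R) (h1 : IsSMulRegular N r₁) (h2 : IsSMulRegular (QuotSMulTop r₁ N) r₂) :
    IsSMulRegular (QuotSMulTop r₁ (M →ₗ[R] N)) r₂ := by
  have h2' := (isSMulRegular_quotient_iff_mem_of_smul_mem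
    (r₁ • (⊤ : Submodule R N)) r₂).mp h2
  refine (isSMulRegular_quotient_iff_mem_of_smul_mem
    (r₁ • (⊤ : Submodule R (M →ₗ[R] N))) r₂).mpr ?_
  intro f hf
  obtain ⟨g, -, hg⟩ := (Submodule.mem_smul_pointwise_iff_exists _ _ _).mp hf
  -- every value of f lies in r₁ N
  have hfx : ∀ x, ∃ y : N, r₁ • y = f x := by
    intro x
    have hx : r₂ • f x ∈ r₁ • (⊤ : Submodule R N) := by
      have := LinearMap.congr_fun hg x
      simp only [LinearMap.smul_apply] at this
      rw [← this]
      exact Submodule.smul_mem_pointwise_smul _ _ _ Submodule.mem_top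
    obtain ⟨y, -, hy⟩ := (Submodule.mem_smul_pointwise_iff_exists _ _ _).mp (h2' _ hx)
    exact ⟨y, hy⟩
  choose g' hg' using hfx
  have hinj : Function.Injective (fun y : N => r₁ • y) := h1
  refine (Submodule.mem_smul_pointwise_iff_exists _ _ _).mpr
    ⟨{ toFun := g'
       map_add' := fun x y => hinj (by simp only [smul_add, hg', map_add])
       map_smul' := fun c x => hinj (by
         simp only [RingHom.id_apply, hg', map_smul, smul_comm r₁ c]) }, Submodule.mem_top, ?_⟩
  ext x
  simpa using hg' x

/-- For a commutative ring R, R-modules M and N and elements r₁, r₂ of R such that r₁ is a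
non-zero-divisor on N and r₂ is a non-zero-divisor on N/r₁N, the element r₁ is a non-zero-divisor on
the module Hom_R(M, N) and r₂ is a non-zero-divisor on Hom_R(M, N)/r₁Hom_R(M, N). (Weak regularity
on both sides: no condition that the quotient by (r₁, r₂) is nonzero, which would fail for M = 0.) -/
theorem result
    (R : Type u) [CommRing R] (M : Type v) (N : Type w)
    [AddCommGroup M] [Module R M] [AddCommGroup N] [Module R N]
    (r₁ r₂ : R) (h : RingTheory.Sequence.IsWeaklyRegular N [r₁, r₂]) :
    RingTheory.Sequence.IsWeaklyRegular (M →ₗ[R] N) [r₁, r₂] := by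
  rw [RingTheory.Sequence.isWeaklyRegular_cons_iff,
    RingTheory.Sequence.isWeaklyRegular_cons_iff] at h ⊢
  obtain ⟨h1, h2, -⟩ := h
  refine ⟨?_, aux R M N r₁ r₂ h1 h2, RingTheory.Sequence.IsWeaklyRegular.nil _ _⟩
  refine IsSMulRegular.of_right_eq_zero_of_smul ?_
  intro f hf
  ext x
  have : r₁ • f x = 0 := by
    have := LinearMap.congr_fun hf x
    simpa using this
  simpa using h1.right_eq_zero_of_smul this

end Groth.Agent.S18539
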