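import Groth.Statements.S18548
import Mathlib.LinearAlgebra.TensorProduct.Basis
import Mathlib.LinearAlgebra.Basis.Basic

set_option autoImplicit false
open scoped TensorProduct
universe u v w
open GalCoh

namespace Groth.Agent.S18548


section aux

variable {V : Type v} [AddCommGroup V] [Module (ZMod 2) V] {ι : Type w}

private lemma basis_ind {P : V → Prop} (b : Module.Basis ι (ZMod 2) V) (h0 : P 0)
    (hadd : ∀ x y, P x → P y → P (x + y)) (hsmul : ∀ (c : ZMod 2) x, P x → P (c • x))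
    (hb : ∀ i, P (b i)) : ∀ x, P x := by
  intro x
  have hx : x ∈ Submodule.span (ZMod 2) (Set.range b) := by rw [b.span_eq]; exact Submodule.mem_top
  refine Submodule.span_induction (p := fun x _ => P x) ?_ h0 ?_ ?_ hx
  · rintro _ ⟨i, rfl⟩; exact hb i
  · intro x y _ _ hx hy; exact hadd x y hx hy
  · intro c x _ hx; exact hsmul c x hx

private lemma add_self_zero {T : Type*} [AddCommGroup T] [Module (ZMod 2) T] (t : T) : t + t = 0 := by
  rw [← two_smul (ZMod 2) t]
  have : (2 : ZMod 2) = 0 := by decide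
  rw [this, zero_smul]

end aux

/-- Let G be a group acting linearly on a vector space V over the field 𝔽₂ with two elements, and
suppose V is a permutation module: G permutes the vectors of some basis of V. Then the short exact
sequence of G-modules 0 → V → S²V → Λ²V → 0 (v ↦ v·v, x·y ↦ x ∧ y) splits G-equivariantly. Here, for
a vector space V over the field with two elements carrying a linear action ρ of a group G, write N_a
⊆ V ⊗ V for the span of the tensors v ⊗ v and N_s ⊆ N_a for the span of the tensors x ⊗ y + y ⊗ x,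
so that S²V = (V ⊗ V)/N_s, Λ²V = (V ⊗ V)/N_a and the surjection S²V → Λ²V, x·y ↦ x ∧ y, is
G-equivariant for the diagonal action; a G-equivariant linear section of this surjection is the same
thing as a G-stable subspace W of V ⊗ V with W ∩ N_a = N_s and W + N_a = V ⊗ V, which is how the
splitting is stated. (The source has the absolute Galois group of a field acting continuously; any
group and any basis index set are allowed here.) -/
theorem result (G : Type u) [Group G] (V : Type v)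
    [AddCommGroup V] [Module (ZMod 2) V] (ρ : Representation (ZMod 2) G V)
    (ι : Type w) (b : Module.Basis ι (ZMod 2) V) (hb : ∀ g : G, ∀ i : ι, ∃ j : ι, ρ g (b i) = b j) :
    ∃ W : Submodule (ZMod 2) (V ⊗[ZMod 2] V),
      (∀ g : G, ∀ w ∈ W, ρ.tprod ρ g w ∈ W) ∧
      W ⊓ Submodule.span (ZMod 2) (Set.range fun v : V => v ⊗ₜ[ZMod 2] v) =
        Submodule.span (ZMod 2) (Set.range fun p : V × V => p.1 ⊗ₜ[ZMod 2] p.2 + p.2 ⊗ₜ[ZMod 2] p.1) ∧
      W ⊔ Submodule.span (ZMod 2) (Set.range fun v : V => v ⊗ₜ[ZMod 2] v) = ⊤ := by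
  classical
  set B := b.tensorProduct b with hB
  have hBij : ∀ i j, B (i, j) = b i ⊗ₜ[ZMod 2] b j := fun i j => Module.Basis.tensorProduct_apply b b i j
  set W : Submodule (ZMod 2) (V ⊗[ZMod 2] V) :=
    Submodule.span (ZMod 2) {t | ∃ i j, i ≠ j ∧ t = b i ⊗ₜ[ZMod 2] b j} with hW
  set Na : Submodule (ZMod 2) (V ⊗[ZMod 2] V) :=
    Submodule.span (ZMod 2) (Set.range fun v : V => v ⊗ₜ[ZMod 2] v) with hNa
  set Ns : Submodule (ZMod 2) (V ⊗[ZMod 2] V) :=
    Submodule.span (ZMod 2) (Set.range fun p : V × V => p.1 ⊗ₜ[ZMod 2] p.2 + p.2 ⊗ₜ[ZMod 2] p.1) with hNs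
  set Δ : Submodule (ZMod 2) (V ⊗[ZMod 2] V) :=
    Submodule.span (ZMod 2) (Set.range fun i : ι => b i ⊗ₜ[ZMod 2] b i) with hΔ
  -- injectivity of ρ g
  have hρinj : ∀ g : G, Function.Injective (ρ g) := by
    intro g x y hxy
    have h1 : ρ g⁻¹ (ρ g x) = ρ g⁻¹ (ρ g y) := by rw [hxy]
    have h2 : ∀ z, ρ g⁻¹ (ρ g z) = z := fun z => by
      rw [← Module.End.mul_apply, ← map_mul, inv_mul_cancel, map_one]; rfl
    rwa [h2, h2] at h1
  -- (1) stability
  have hstab : ∀ g : G, ∀ w ∈ W, ρ.tprod ρ g w ∈ W := by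
    intro g w hw
    refine Submodule.span_induction ?_ ?_ ?_ ?_ hw
    · rintro _ ⟨i, j, hij, rfl⟩
      obtain ⟨i', hi'⟩ := hb g i
      obtain ⟨j', hj'⟩ := hb g j
      rw [Representation.tprod_apply, TensorProduct.map_tmul, hi', hj']
      refine Submodule.subset_span ⟨i', j', ?_, rfl⟩
      intro h
      apply hij
      apply b.injective
      apply hρinj g
      rw [hi', hj', h]
    · rw [map_zero]; exact zero_mem _
    · intro x y _ _ hx hy; rw [map_add]; exact add_mem hx hy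
    · intro c x _ hx; rw [map_smul]; exact Submodule.smul_mem _ _ hx
  -- (2) diagonal coordinates vanish on W
  have hWdiag : ∀ w ∈ W, ∀ i, B.repr w (i, i) = 0 := by
    intro w hw i
    refine Submodule.span_induction ?_ ?_ ?_ ?_ hw
    · rintro _ ⟨j, k, hjk, rfl⟩
      rw [← hBij, Module.Basis.repr_self, Finsupp.single_apply, if_neg]
      intro h
      have h1 : j = i := congrArg Prod.fst h
      have h2 : k = i := congrArg Prod.snd h
      exact hjk (h1.trans h2.symm)
    · simp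
    · intro x y _ _ hx hy; rw [map_add, Finsupp.add_apply, hx, hy, add_zero]
    · intro c x _ hx; rw [map_smul, Finsupp.smul_apply, hx, smul_zero]
  -- off-diagonal coordinates vanish on Δ
  have hΔoff : ∀ d ∈ Δ, ∀ j k, j ≠ k → B.repr d (j, k) = 0 := by
    intro d hd j k hjk
    refine Submodule.span_induction ?_ ?_ ?_ ?_ hd
    · rintro _ ⟨i, rfl⟩
      change B.repr (b i ⊗ₜ[ZMod 2] b i) (j, k) = 0
      rw [← hBij, Module.Basis.repr_self, Finsupp.single_apply, if_neg]
      intro h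
      have h1 : i = j := congrArg Prod.fst h
      have h2 : i = k := congrArg Prod.snd h
      exact hjk (h1.symm.trans h2)
    · simp
    · intro x y _ _ hx hy; rw [map_add, Finsupp.add_apply, hx, hy, add_zero]
    · intro c x _ hx; rw [map_smul, Finsupp.smul_apply, hx, smul_zero]
  -- (4) Ns ≤ W
  have hNsW : Ns ≤ W := by
    rw [hNs, Submodule.span_le]
    rintro _ ⟨⟨x, y⟩, rfl⟩
    change x ⊗ₜ[ZMod 2] y + y ⊗ₜ[ZMod 2] x ∈ W
    revert y
    refine basis_ind (P := fun x => ∀ y, x ⊗ₜ[ZMod 2] y + y ⊗ₜ[ZMod 2] x ∈ W) b ?_ ?_ ?_ ?_ x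
    · intro y; simp
    · intro x x' hx hx' y
      have : (x + x') ⊗ₜ[ZMod 2] y + y ⊗ₜ[ZMod 2] (x + x')
          = (x ⊗ₜ[ZMod 2] y + y ⊗ₜ[ZMod 2] x) + (x' ⊗ₜ[ZMod 2] y + y ⊗ₜ[ZMod 2] x') := by
        rw [TensorProduct.add_tmul, TensorProduct.tmul_add]; abel
      rw [this]; exact add_mem (hx y) (hx' y)
    · intro c x hx y
      have : (c • x) ⊗ₜ[ZMod 2] y + y ⊗ₜ[ZMod 2] (c • x) = c • (x ⊗ₜ[ZMod 2] y + y ⊗ₜ[ZMod 2] x) := by
        rw [smul_add, TensorProduct.smul_tmul', TensorProduct.tmul_smul]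
      rw [this]; exact Submodule.smul_mem _ _ (hx y)
    · intro i
      refine basis_ind (P := fun y => b i ⊗ₜ[ZMod 2] y + y ⊗ₜ[ZMod 2] b i ∈ W) b ?_ ?_ ?_ ?_
      · simp
      · intro y y' hy hy'
        have : b i ⊗ₜ[ZMod 2] (y + y') + (y + y') ⊗ₜ[ZMod 2] b i
            = (b i ⊗ₜ[ZMod 2] y + y ⊗ₜ[ZMod 2] b i) + (b i ⊗ₜ[ZMod 2] y' + y' ⊗ₜ[ZMod 2] b i) := by
          rw [TensorProduct.add_tmul, TensorProduct.tmul_add]; abel
        rw [this]; exact add_mem hy hy'
      · intro c y hy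
        have : b i ⊗ₜ[ZMod 2] (c • y) + (c • y) ⊗ₜ[ZMod 2] b i
            = c • (b i ⊗ₜ[ZMod 2] y + y ⊗ₜ[ZMod 2] b i) := by
          rw [TensorProduct.tmul_smul, ← TensorProduct.smul_tmul', ← smul_add]
        rw [this]; exact Submodule.smul_mem _ _ hy
      · intro j
        by_cases hij : i = j
        · subst hij
          rw [add_self_zero]; exact zero_mem _
        · exact add_mem (Submodule.subset_span ⟨i, j, hij, rfl⟩)
            (Submodule.subset_span ⟨j, i, fun h => hij h.symm, rfl⟩)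
  -- (5) Ns ≤ Na
  have hNsNa : Ns ≤ Na := by
    rw [hNs, Submodule.span_le]
    rintro _ ⟨⟨x, y⟩, rfl⟩
    change x ⊗ₜ[ZMod 2] y + y ⊗ₜ[ZMod 2] x ∈ Na
    have : x ⊗ₜ[ZMod 2] y + y ⊗ₜ[ZMod 2] x
        = (x + y) ⊗ₜ[ZMod 2] (x + y) - x ⊗ₜ[ZMod 2] x - y ⊗ₜ[ZMod 2] y := by
      rw [TensorProduct.add_tmul, TensorProduct.tmul_add, TensorProduct.tmul_add]; abel
    rw [this]
    exact sub_mem (sub_mem (Submodule.subset_span ⟨x + y, rfl⟩) (Submodule.subset_span ⟨x, rfl⟩))
      (Submodule.subset_span ⟨y, rfl⟩)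
  -- (3) Na ≤ Δ ⊔ Ns
  have hNaΔ : Na ≤ Δ ⊔ Ns := by
    rw [hNa, Submodule.span_le]
    rintro _ ⟨v, rfl⟩
    change v ⊗ₜ[ZMod 2] v ∈ Δ ⊔ Ns
    refine basis_ind (P := fun v => v ⊗ₜ[ZMod 2] v ∈ Δ ⊔ Ns) b ?_ ?_ ?_ ?_ v
    · simp
    · intro x y hx hy
      have : (x + y) ⊗ₜ[ZMod 2] (x + y)
          = x ⊗ₜ[ZMod 2] x + y ⊗ₜ[ZMod 2] y + (x ⊗ₜ[ZMod 2] y + y ⊗ₜ[ZMod 2] x) := by
        rw [TensorProduct.add_tmul, TensorProduct.tmul_add, TensorProduct.tmul_add]; abel
      rw [this]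
      exact add_mem (add_mem hx hy) (Submodule.mem_sup_right (Submodule.subset_span ⟨(x, y), rfl⟩))
    · intro c x hx
      rw [← TensorProduct.smul_tmul', TensorProduct.tmul_smul]
      exact Submodule.smul_mem _ _ (Submodule.smul_mem _ _ hx)
    · intro i
      exact Submodule.mem_sup_left (Submodule.subset_span ⟨i, rfl⟩)
  refine ⟨W, hstab, ?_, ?_⟩
  · apply le_antisymm
    · rintro t ⟨htW, htNa⟩
      obtain ⟨d, hd, n, hn, rfl⟩ := Submodule.mem_sup.1 (hNaΔ htNa)
      have hdW : d ∈ W := by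
        have : d = (d + n) - n := by abel
        rw [this]; exact sub_mem htW (hNsW hn)
      have hd0 : d = 0 := by
        apply B.ext_elem
        rintro ⟨j, k⟩
        rw [map_zero, Finsupp.zero_apply]
        by_cases hjk : j = k
        · subst hjk; exact hWdiag d hdW j
        · exact hΔoff d hd j k hjk
      rw [hd0, zero_add]; exact hn
    · exact le_inf hNsW hNsNa
  · rw [eq_top_iff, ← B.span_eq, Submodule.span_le]
    rintro _ ⟨⟨i, j⟩, rfl⟩
    rw [hBij]
    by_cases hij : i = j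
    · subst hij
      exact Submodule.mem_sup_right (Submodule.subset_span ⟨b i, rfl⟩)
    · exact Submodule.mem_sup_left (Submodule.subset_span ⟨i, j, hij, rfl⟩)

end Groth.Agent.S18548
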