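import Groth.Statements.S18550
import Groth.Agent.Lib.Helper16.DerTrunc
-- import your own Groth.Agent.* helpers here

set_option autoImplicit false
open CategoryTheory Limits
universe w v u
open CohDer

namespace Groth.Agent.S18550

open DerivedCategory Pretriangulated Groth.Agent.Lib.Helper16.DerT

theorem pow_eq_zero_aux {A : Type u} [Category.{v} A] [Abelian A] [HasDerivedCategory.{w} A] :
    ∀ (n : ℕ) (a : ℤ) (X : DerivedCategory A) (_ : X.IsGE a) (_ : X.IsLE (a + n)) (f : End X),
      (∀ i : ℤ, (homologyFunctor A i).map f = 0) → f ^ (n + 1) = 0 := by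
  intro n
  induction n with
  | zero =>
    intro a X hGE hLE f hf
    have : X.IsLE a := by simpa using hLE
    rw [zero_add, pow_one]
    exact eq_zero_of_homologyMap_eq_zero a f (hf a)
  | succ n ih =>
    intro a X hGE hLE f hf
    set m : ℤ := a + ((n + 1 : ℕ) : ℤ) with hm
    have hLE' : X.IsLE m := hLE
    let v := ((TStructure.t (C := A)).truncGEπ m).app X
    let u := ((TStructure.t (C := A)).truncLTι m).app X
    have hT := (TStructure.t (C := A)).triangleLTGE_distinguished m X
    -- f ≫ v = 0
    have nat1 : f ≫ v = v ≫ ((TStructure.t (C := A)).truncGE m).map f :=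
      ((TStructure.t (C := A)).truncGEπ m).naturality f
    have hτ : ((TStructure.t (C := A)).truncGE m).map f = 0 := by
      apply eq_zero_of_homologyMap_eq_zero m
      have := epi_homologyMap_truncGEπ X m m
      rw [← cancel_epi ((homologyFunctor A m).map v), comp_zero, ← Functor.map_comp, ← nat1,
        Functor.map_comp, hf m, zero_comp]
    have hfv : f ≫ v = 0 := by rw [nat1, hτ, comp_zero]
    obtain ⟨g', hg'⟩ : ∃ g' : X ⟶ ((TStructure.t (C := A)).truncLT m).obj X, f = g' ≫ u :=
      Triangle.coyoneda_exact₂ _ hT f hfv
    let f' : End (((TStructure.t (C := A)).truncLT m).obj X) :=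
      ((TStructure.t (C := A)).truncLT m).map f
    have nat2 : f' ≫ u = u ≫ f := ((TStructure.t (C := A)).truncLTι m).naturality f
    have hf' : ∀ i : ℤ, (homologyFunctor A i).map f' = 0 := by
      intro i
      have := mono_homologyMap_truncLTι X m i
      rw [← cancel_mono ((homologyFunctor A i).map u), zero_comp, ← Functor.map_comp, nat2,
        Functor.map_comp, hf i, comp_zero]
    have hLEτ : (((TStructure.t (C := A)).truncLT m).obj X).IsLE (a + n) :=
      (TStructure.t (C := A)).isLE_truncLT_obj X m (a + n) (by rw [hm]; push_cast; omega)
    have hGEτ : (((TStructure.t (C := A)).truncLT m).obj X).IsGE a := inferInstance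
    have IH := ih a _ hGEτ hLEτ f' hf'
    have comm : ∀ k : ℕ, u ≫ (f ^ k : End X) = (f' ^ k : End _) ≫ u := by
      intro k
      induction k with
      | zero => simp [End.one_def]
      | succ k ihk =>
        rw [pow_succ, pow_succ, End.mul_def, End.mul_def, ← Category.assoc, ← nat2,
          Category.assoc, ihk, Category.assoc]
    have e1 : f ≫ (f ^ (n + 1) : End X) = g' ≫ (u ≫ (f ^ (n + 1) : End X)) := by
      rw [← Category.assoc, ← hg']
    rw [pow_succ, End.mul_def, e1, comm (n + 1), IH, zero_comp, comp_zero]


/-- Let A be an abelian category, X an object of its derived category whose cohomology objects H^i(X)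
are zero for all integers i outside the interval [a, a + n], and f : X → X an endomorphism in the
derived category such that H^i(f) = 0 for every i. Then f^(n+1) = 0. (The source works in the
bounded derived category; the statement in D(A) for an object with cohomology bounded in this way is
the same assertion, the bounded derived category being a full subcategory.) -/
theorem result (A : Type u) [Category.{v} A] [Abelian A]
    [HasDerivedCategory.{w} A] (X : DerivedCategory A) (a : ℤ) (n : ℕ)
    (hX : ∀ i : ℤ, i < a ∨ a + n < i → IsZero ((DerivedCategory.homologyFunctor A i).obj X))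
    (f : CategoryTheory.End X) (hf : ∀ i : ℤ, (DerivedCategory.homologyFunctor A i).map f = 0) :
    f ^ (n + 1) = 0 := by
  have hGE : X.IsGE a := (isGE_iff X a).2 (fun i hi => hX i (Or.inl hi))
  have hLE : X.IsLE (a + n) := (isLE_iff X (a + n)).2 (fun i hi => hX i (Or.inr hi))
  exact pow_eq_zero_aux n a X hGE hLE f hf

end Groth.Agent.S18550
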