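import Groth.Statements.S18560
import Mathlib

set_option autoImplicit false
universe u v
open PtQuiv

namespace Groth.Agent.S18560

/-- Let K be a field and s i ∈ K² (i in a finite index type) nonzero vectors, regarded as a
representation of the quiver with a central vertex carrying the plane and one vertex per i carrying
a line that maps to the plane by 1 ↦ s i. For a weight θ in the hypersimplex (0 ≤ θ i ≤ 1, Σ θ i =
2, central weight -1) the representation is θ-semistable if and only if, for every vector v, the
indices i with s i on the line K ∙ v have total weight at most 1. (The published statement is over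
an algebraically closed field, assumes semistability for some interior weight instead of s i ≠ 0,
and phrases the bound through the classes of pairwise proportional s i; any field is allowed here.
Its further assertion that the bounding walls, where the total weight of one proportionality class
equals 1, do not meet in the interior of the hypersimplex is not part of this row.) -/
theorem result (K : Type u) [Field K] (ι : Type v) [Fintype ι]
    (s : ι → (Fin 2 → K)) (hs : ∀ i, s i ≠ 0) (θ : ι → ℚ) (h0 : ∀ i, 0 ≤ θ i)
    (h1 : ∀ i, θ i ≤ 1) (h2 : ∑ i, θ i = 2) :
    PtQuiv.QSemistable (-1) θ s ↔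
      ∀ (J : Finset ι) (v : Fin 2 → K), (∀ i ∈ J, s i ∈ K ∙ v) → ∑ i ∈ J, θ i ≤ 1 := by
  classical
  constructor
  · rintro ⟨_, hss⟩ J v hJ
    by_cases hv : v = 0
    · subst hv
      have hJe : J = ∅ := by
        rw [Finset.eq_empty_iff_forall_notMem]
        intro i hi
        have := hJ i hi
        rw [Submodule.span_zero_singleton, Submodule.mem_bot] at this
        exact hs i this
      rw [hJe]; simp
    · have := hss (K ∙ v) J hJ
      unfold PtQuiv.QWt at this
      rw [finrank_span_singleton hv] at this
      push_cast at this
      linarith
  · intro H
    refine ⟨by rw [h2]; norm_num, ?_⟩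
    intro L I hLI
    unfold PtQuiv.QWt
    have hle : Module.finrank K L ≤ 2 := by
      have := Submodule.finrank_le L
      rwa [Module.finrank_fin_fun] at this
    have hIle : ∑ i ∈ I, θ i ≤ 2 := by
      rw [← h2]
      exact Finset.sum_le_sum_of_subset_of_nonneg (Finset.subset_univ I) (fun i _ _ => h0 i)
    interval_cases hr : Module.finrank K L
    · -- L = ⊥
      have hL : L = ⊥ := Submodule.finrank_eq_zero.mp hr
      have hIe : I = ∅ := by
        rw [Finset.eq_empty_iff_forall_notMem]
        intro i hi
        have := hLI i hi
        rw [hL, Submodule.mem_bot] at this
        exact hs i this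
      rw [hIe]; simp
    · obtain ⟨v, hv, hall⟩ := finrank_eq_one_iff'.mp hr
      have := H I v.1 (fun i hi => by
        obtain ⟨c, hc⟩ := hall ⟨s i, hLI i hi⟩
        rw [Submodule.mem_span_singleton]
        exact ⟨c, congrArg Subtype.val hc⟩)
      push_cast
      linarith
    · push_cast
      linarith

end Groth.Agent.S18560
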