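import Groth.Statements.S18561
import Groth.Agent.S18560
import Mathlib

set_option autoImplicit false
universe u v
open PtQuiv

namespace Groth.Agent.S18561



theorem prop_symm {K : Type u} [Field K] {u w : Fin 2 → K} (hu : u ≠ 0)
    (h : u ∈ K ∙ w) : w ∈ K ∙ u := by
  obtain ⟨c, rfl⟩ := Submodule.mem_span_singleton.mp h
  have hc : c ≠ 0 := by
    rintro rfl
    exact hu (zero_smul _ _)
  rw [Submodule.mem_span_singleton]
  exact ⟨c⁻¹, by rw [smul_smul, inv_mul_cancel₀ hc, one_smul]⟩

theorem prop_trans {K : Type u} [Field K] {u v w : Fin 2 → K}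
    (h1 : u ∈ K ∙ v) (h2 : v ∈ K ∙ w) : u ∈ K ∙ w := by
  have : K ∙ v ≤ K ∙ w := by
    rw [Submodule.span_le]
    rintro _ rfl
    exact h2
  exact this h1

/-- Let K be a field and s i ∈ K² (i in a finite index type) nonzero vectors, regarded as a
representation of the quiver with a central vertex carrying the plane and one vertex per i carrying
a line mapping to the plane by 1 ↦ s i. Then the representation is stable for some weight of the
hypersimplex (0 ≤ θ i ≤ 1, Σ θ i = 2, central weight -1) if and only if the s i fall into at least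
three proportionality classes, i.e. three of them are pairwise non-proportional. (The published
statement is over an algebraically closed field and assumes semistability for some interior weight
instead of s i ≠ 0; any field is allowed here. Its further assertions, that the set of semistability
weights is full-dimensional exactly in this case and is a wall otherwise, are not part of this row.) -/
theorem result (K : Type u) [Field K] (ι : Type v)
    [Fintype ι] (s : ι → (Fin 2 → K)) (hs : ∀ i, s i ≠ 0) :
    (∃ θ : ι → ℚ, (∀ i, 0 ≤ θ i) ∧ (∀ i, θ i ≤ 1) ∧ ∑ i, θ i = 2 ∧ PtQuiv.QStable (-1) θ s) ↔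
      ∃ i j k : ι, s i ∉ K ∙ s j ∧ s j ∉ K ∙ s k ∧ s i ∉ K ∙ s k := by
  classical
  constructor
  · rintro ⟨θ, h0, h1, h2, hst⟩
    have hss := (Groth.Agent.S18560.result K ι s hs θ h0 h1 h2).mp hst.1
    by_contra hno
    push Not at hno
    have hne : Nonempty ι := by
      by_contra hemp
      rw [not_nonempty_iff] at hemp
      simp at h2
    obtain ⟨i0⟩ := hne
    let C1 : Finset ι := Finset.univ.filter fun l => s l ∈ K ∙ s i0
    have hC1 : ∀ l ∈ C1, s l ∈ K ∙ s i0 := fun l hl => (Finset.mem_filter.mp hl).2
    have hC1le := hss C1 (s i0) hC1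
    have hC1eq : ∑ l ∈ C1, θ l = 1 := by
      by_cases hall : ∀ l, l ∈ C1
      · have : C1 = Finset.univ := Finset.eq_univ_of_forall hall
        rw [this, h2] at hC1le
        norm_num at hC1le
      · push Not at hall
        obtain ⟨j0, hj0⟩ := hall
        have hj0' : s j0 ∉ K ∙ s i0 := fun h => hj0 (Finset.mem_filter.mpr ⟨Finset.mem_univ _, h⟩)
        let C2 : Finset ι := Finset.univ.filter fun l => s l ∈ K ∙ s j0
        have hC2 : ∀ l ∈ C2, s l ∈ K ∙ s j0 := fun l hl => (Finset.mem_filter.mp hl).2
        have hC2le := hss C2 (s j0) hC2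
        have hcov : ∀ l, l ∈ C1 ∪ C2 := by
          intro l
          by_contra hl
          rw [Finset.mem_union, not_or] at hl
          have hl1 : s l ∉ K ∙ s i0 := fun h => hl.1 (Finset.mem_filter.mpr ⟨Finset.mem_univ _, h⟩)
          have hl2 : s l ∉ K ∙ s j0 := fun h => hl.2 (Finset.mem_filter.mpr ⟨Finset.mem_univ _, h⟩)
          have h12 : s i0 ∉ K ∙ s j0 := fun h => hj0' (prop_symm (hs i0) h)
          have h23 : s j0 ∉ K ∙ s l := fun h => hl2 (prop_symm (hs j0) h)
          have h13 : s i0 ∉ K ∙ s l := fun h => hl1 (prop_symm (hs i0) h)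
          exact h13 (hno i0 j0 l h12 h23)
        have huniv : C1 ∪ C2 = Finset.univ := Finset.eq_univ_of_forall hcov
        have hsum : ∑ l, θ l ≤ ∑ l ∈ C1, θ l + ∑ l ∈ C2, θ l := by
          rw [← huniv]
          have := Finset.sum_union_inter (s₁ := C1) (s₂ := C2) (f := θ)
          have hnn : 0 ≤ ∑ l ∈ C1 ∩ C2, θ l := Finset.sum_nonneg fun l _ => h0 l
          linarith
        rw [h2] at hsum
        linarith
    have hsub : PtQuiv.QSubrep s (K ∙ s i0) C1 := hC1
    have hwt : PtQuiv.QWt K (-1) θ (K ∙ s i0) C1 = 0 := by
      unfold PtQuiv.QWt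
      rw [finrank_span_singleton (hs i0), hC1eq]
      norm_num
    rcases hst.2 _ _ hsub hwt with ⟨hbot, -⟩ | ⟨htop, -⟩
    · have : s i0 ∈ (⊥ : Submodule K (Fin 2 → K)) := by
        rw [← hbot]; exact Submodule.mem_span_singleton_self _
      exact hs i0 ((Submodule.mem_bot K).mp this)
    · have h1' : Module.finrank K (K ∙ s i0) = 1 := finrank_span_singleton (hs i0)
      rw [htop, finrank_top, Module.finrank_fin_fun] at h1'
      norm_num at h1'
  · rintro ⟨i, j, k, hij, hjk, hik⟩
    have hij' : i ≠ j := by
      rintro rfl; exact hij (Submodule.mem_span_singleton_self _)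
    have hjk' : j ≠ k := by
      rintro rfl; exact hjk (Submodule.mem_span_singleton_self _)
    have hik' : i ≠ k := by
      rintro rfl; exact hik (Submodule.mem_span_singleton_self _)
    let T : Finset ι := {i, j, k}
    have hTcard : T.card = 3 := by
      simp [T, Finset.card_insert_of_notMem, hij', hjk', hik']
    set n : ℕ := Fintype.card ι with hn
    have hn3 : 3 ≤ n := by
      rw [← hTcard]
      exact Finset.card_le_univ T
    have hnpos : (0 : ℚ) < n := by exact_mod_cast (by omega : 0 < n)
    set ε : ℚ := 1 / (2 * n) with hε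
    have hεpos : 0 < ε := by positivity
    have hnε : (n : ℚ) * ε = 1 / 2 := by
      rw [hε]; field_simp
    set a : ℚ := (2 - ((n : ℚ) - 3) * ε) / 3 with ha
    have ha_lo : 1 / 2 < a := by
      rw [ha]
      have : ((n : ℚ) - 3) * ε = 1 / 2 - 3 * ε := by rw [sub_mul, hnε]
      rw [this]; linarith
    have ha_hi : a ≤ 2 / 3 := by
      rw [ha]
      have h3 : (3 : ℚ) ≤ n := by exact_mod_cast hn3
      have : 0 ≤ ((n : ℚ) - 3) * ε := mul_nonneg (by linarith) hεpos.le
      linarith
    let θ : ι → ℚ := fun l => if l ∈ T then a else ε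
    have hθpos : ∀ l, 0 < θ l := by
      intro l
      simp only [θ]
      split_ifs
      · linarith
      · exact hεpos
    have hθle : ∀ l, θ l ≤ 1 := by
      intro l
      simp only [θ]
      split_ifs
      · linarith
      · rw [hε, div_le_one (by positivity)]
        have h3 : (3 : ℚ) ≤ n := by exact_mod_cast hn3
        linarith
    have hTc : (Finset.univ \ T).card = n - 3 := by
      rw [Finset.card_sdiff_of_subset (Finset.subset_univ T), Finset.card_univ, hTcard]
    have hsumθ : ∑ l, θ l = 2 := by
      rw [← Finset.sum_sdiff (Finset.subset_univ T)]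
      have e1 : ∑ l ∈ Finset.univ \ T, θ l = ((n : ℚ) - 3) * ε := by
        rw [Finset.sum_congr rfl (g := fun _ => ε)]
        · rw [Finset.sum_const, hTc, nsmul_eq_mul, Nat.cast_sub hn3]
          norm_num
        · intro l hl
          simp only [θ, if_neg (Finset.mem_sdiff.mp hl).2]
      have e2 : ∑ l ∈ T, θ l = 3 * a := by
        rw [Finset.sum_congr rfl (g := fun _ => a)]
        · rw [Finset.sum_const, hTcard, nsmul_eq_mul]
          norm_num
        · intro l hl
          simp only [θ, if_pos hl]
      rw [e1, e2, ha]; ring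
    -- strict bound on lines
    have hline : ∀ (J : Finset ι) (v : Fin 2 → K), (∀ l ∈ J, s l ∈ K ∙ v) → ∑ l ∈ J, θ l < 1 := by
      intro J v hJ
      have hJT : (J ∩ T).card ≤ 1 := by
        rw [Finset.card_le_one]
        intro x hx y hy
        by_contra hxy
        have hxJ := hJ x (Finset.mem_inter.mp hx).1
        have hyJ := hJ y (Finset.mem_inter.mp hy).1
        have hxyp : s x ∈ K ∙ s y := prop_trans hxJ (prop_symm (hs y) hyJ)
        have hyxp : s y ∈ K ∙ s x := prop_symm (hs x) hxyp
        have hxT := (Finset.mem_inter.mp hx).2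
        have hyT := (Finset.mem_inter.mp hy).2
        simp only [T, Finset.mem_insert, Finset.mem_singleton] at hxT hyT
        rcases hxT with rfl | rfl | rfl <;> rcases hyT with rfl | rfl | rfl
        all_goals first | exact hxy rfl | exact hij hxyp | exact hij hyxp | exact hjk hxyp | exact hjk hyxp | exact hik hxyp | exact hik hyxp
      have hsplit : ∑ l ∈ J, θ l = ∑ l ∈ J ∩ T, θ l + ∑ l ∈ J \ T, θ l := by
        rw [add_comm, ← Finset.sum_union]
        · congr 1
          ext l; simp only [Finset.mem_union, Finset.mem_sdiff, Finset.mem_inter]; tauto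
        · rw [Finset.disjoint_left]
          intro l h1 h2
          exact (Finset.mem_sdiff.mp h1).2 (Finset.mem_inter.mp h2).2
      have b1 : ∑ l ∈ J ∩ T, θ l ≤ a := by
        rw [Finset.sum_congr rfl (g := fun _ => a)]
        · rw [Finset.sum_const, nsmul_eq_mul]
          have : ((J ∩ T).card : ℚ) ≤ 1 := by exact_mod_cast hJT
          nlinarith
        · intro l hl
          simp only [θ, if_pos (Finset.mem_inter.mp hl).2]
      have b2 : ∑ l ∈ J \ T, θ l ≤ ((n : ℚ) - 3) * ε := by
        rw [Finset.sum_congr rfl (g := fun _ => ε)]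
        · rw [Finset.sum_const, nsmul_eq_mul]
          have hc : (J \ T).card ≤ n - 3 := by
            rw [← hTc]
            exact Finset.card_le_card (Finset.sdiff_subset_sdiff (Finset.subset_univ J) le_rfl)
          have : ((J \ T).card : ℚ) ≤ (n : ℚ) - 3 := by
            have : ((J \ T).card : ℚ) ≤ ((n - 3 : ℕ) : ℚ) := by exact_mod_cast hc
            rwa [Nat.cast_sub hn3] at this
          exact mul_le_mul_of_nonneg_right this hεpos.le
        · intro l hl
          simp only [θ, if_neg (Finset.mem_sdiff.mp hl).2]
      have : ((n : ℚ) - 3) * ε = 1 / 2 - 3 * ε := by rw [sub_mul, hnε]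
      rw [hsplit]
      have ha' : a = (2 - (1 / 2 - 3 * ε)) / 3 := by rw [ha, this]
      linarith
    refine ⟨θ, fun l => (hθpos l).le, hθle, hsumθ, ?_, ?_⟩
    · rw [Groth.Agent.S18560.result K ι s hs θ (fun l => (hθpos l).le) hθle hsumθ]
      intro J v hJ
      exact (hline J v hJ).le
    · intro L I hLI hw
      unfold PtQuiv.QWt at hw
      have hle : Module.finrank K L ≤ 2 := by
        have := Submodule.finrank_le L
        rwa [Module.finrank_fin_fun] at this
      interval_cases hr : Module.finrank K L
      · left
        refine ⟨Submodule.finrank_eq_zero.mp hr, ?_⟩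
        by_contra hI
        obtain ⟨l, hl⟩ := Finset.nonempty_iff_ne_empty.mpr hI
        have : 0 < ∑ l ∈ I, θ l := Finset.sum_pos (fun l _ => hθpos l) ⟨l, hl⟩
        norm_num at hw
        linarith
      · exfalso
        obtain ⟨v, hv⟩ := finrank_eq_one_iff'.mp hr
        obtain ⟨v, hvL⟩ := v
        have hLv : L = K ∙ v := by
          apply le_antisymm
          · intro w hw
            obtain ⟨c, hc⟩ := hv.2 ⟨w, hw⟩
            rw [Submodule.mem_span_singleton]
            exact ⟨c, by simpa using congrArg Subtype.val hc⟩
          · rw [Submodule.span_le]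
            rintro _ rfl
            exact hvL
        have := hline I v (fun l hl => hLv ▸ hLI l hl)
        norm_num at hw
        linarith
      · right
        have hLtop : L = ⊤ := by
          apply Submodule.eq_top_of_finrank_eq
          rw [hr, Module.finrank_fin_fun]
        refine ⟨hLtop, ?_⟩
        by_contra hI
        have hss : I ⊂ Finset.univ := Finset.ssubset_univ_iff.mpr hI
        have : ∑ l ∈ I, θ l < ∑ l, θ l :=
          Finset.sum_lt_sum_of_subset (Finset.subset_univ I)
            (Finset.mem_univ (Classical.choose (Finset.exists_of_ssubset hss)))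
            (Classical.choose_spec (Finset.exists_of_ssubset hss)).2 (hθpos _)
            (fun l _ _ => (hθpos l).le)
        rw [hsumθ] at this
        norm_num at hw
        linarith

end Groth.Agent.S18561
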