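import Groth.Statements.S1858
import Groth.Agent.Lib.Helper18.Push.BaseChange
import Groth.Agent.Lib.lead.DimFunPullback
import Groth.Agent.Lib.Helper18.Bivar.Envelope
import Groth.Agent.Lib.lead.FibreDimBCLocal
import Groth.Agent.Lib.Helper18.Cyc.PullSquare

set_option autoImplicit false
universe u
open CategoryTheory AlgebraicGeometry
open CategoryTheory.Limits
open Cyc

namespace Groth.Agent.S1858

/-- Let f : X → Y be proper and g : Y' → Y flat, locally of finite type, of relative dimension r, and
form X' = X ×_Y Y' with projections g' to X and f' to Y'. For a k-cycle α on X one has g^*(f_*α) =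
f'_*(g'^*α) as (k + r)-cycles on Y' (stated on coefficient functions, for any cycle on X' with the
coefficients of g'^*α). Here a pair (X, δ) with Cyc.IsSetup plays the role of a scheme locally of
finite type over a fixed base with a dimension function (X locally Noetherian with universally
catenary local rings, δ a dimension function), and Cyc.DeltaCompat records that the dimension
function upstairs is the induced one. -/
theorem result (X Y Y' : Scheme.{u}) (f : X ⟶ Y) (g : Y' ⟶ Y) [IsProper f] [Flat g] [LocallyOfFiniteType g] (δX : X → ℤ) (δY : Y → ℤ) (δY' : Y' → ℤ) (δX' : ↥(pullback f g) → ℤ) (r : ℕ) (hr : Cyc.HasRelDim g r) (hY : Cyc.IsSetup Y δY) (hX : Cyc.IsSetup X δX) (hY' : Cyc.IsSetup Y' δY') (hf : Cyc.DeltaCompat f δX δY) (hg : Cyc.DeltaCompat g δY' δY) (hX' : Cyc.DeltaCompat (pullback.snd f g) δX' δY') (k : ℤ) (α : AlgebraicCycle X ℤ) (hα : α ∈ Cyc.Zk X δX k) (α' : AlgebraicCycle (pullback f g) ℤ) (hα' : ⇑α' = Cyc.pullFun (pullback.fst f g) δX' δX r ⇑α) : ⇑(AlgebraicCycle.map (pullback.snd f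 g) δX' δY' α') = Cyc.pullFun g δY' δY r ⇑(AlgebraicCycle.map f δX δY α) := by
  haveI : IsLocallyNoetherian Y' := hY'.1
  have hdimP : Cyc.IsDimFun (pullback f g) δX' :=
    Groth.Agent.Lib.lead.DimFunPullback.main (pullback.snd f g) δY' hY' δX' hX'
  have hcomp : Cyc.DeltaCompat (pullback.fst f g ≫ f) δX' δY := by
    rw [pullback.condition]
    exact Bivar.deltaCompat_comp (pullback.snd f g) g δX' δY' δY hX' hg
  have hfst : Cyc.DeltaCompat (pullback.fst f g) δX' δX :=
    Groth.Agent.Lib.Helper18.BivarEnv.deltaCompat_cancel (pullback.fst f g) f δX' δX δY hcomp hf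
  have hr' : Cyc.HasRelDim (pullback.fst f g) r :=
    (Groth.Agent.Lib.lead.FibreDimBCLocal.S9358 g f (pullback.snd f g) (pullback.fst f g)
      (IsPullback.of_hasPullback f g).flip r).2.2 hr
  have hc : ∀ y' : Y', (∀ y, g y = g y' → y ⤳ y' → y = y') → δY' y' = δY (g y') + (r : ℤ) := by
    intro y' hmax
    rw [Groth.Agent.Lib.Helper18.CycPull.delta_eq_add_tr g δY' δY hg y',
      Groth.Agent.Lib.Helper18.CycPull.tr_eq_of_isMax g r hr y' hmax]
  have hcP : ∀ z : ↥(pullback f g), (∀ y, pullback.fst f g y = pullback.fst f g z → y ⤳ z → y = z) →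
      δX' z = δX (pullback.fst f g z) + (r : ℤ) := by
    intro z hmax
    rw [Groth.Agent.Lib.Helper18.CycPull.delta_eq_add_tr (pullback.fst f g) δX' δX hfst z,
      Groth.Agent.Lib.Helper18.CycPull.tr_eq_of_isMax (pullback.fst f g) r hr' z hmax]
  exact (Groth.Agent.Lib.Helper18.Push.pullFun_map_eq_map_pullFun (IsPullback.of_hasPullback f g)
    δY δY' δX δX' hY'.2.2 hdimP hf hX' (r : ℤ) hc hcP α α' hα').symm

end Groth.Agent.S1858
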