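import Groth.Statements.S18580
import Mathlib
-- import your own Groth.Agent.* helpers here

set_option autoImplicit false
universe u
open EtBase

namespace Groth.Agent.S18580

namespace W2
open AlgebraicGeometry CategoryTheory CategoryTheory.Limits
set_option backward.isDefEq.respectTransparency.types false in
instance : MorphismProperty.HasOfPostcompProperty
    @IsOpenImmersion (@LocallyOfFiniteType ⊓ @FormallyUnramified) := by
  rw [MorphismProperty.hasOfPostcompProperty_iff_le_diagonal]
  intro X Y f ⟨hft, hfu⟩
  exact inferInstanceAs <| IsOpenImmersion (pullback.diagonal f)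
end W2


open W2 CategoryTheory.Limits in
open AlgebraicGeometry CategoryTheory in
/-- Let Y be a connected scheme and f : X ⟶ Y a separated morphism that is unramified (locally of finite
type and formally unramified). Then the sections of f correspond bijectively to the connected
components of X mapping isomorphically onto Y: there is a bijection from the set of sections s of f
to the set of open subschemes U of X whose underlying set is a connected component of X and for
which U ⟶ X ⟶ Y is an isomorphism, sending s to its image. In particular every section is an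
isomorphism onto a connected component of X and is determined by its image. (A connected component
mapping isomorphically onto Y is the image of a section, hence open, so restricting to open
components loses nothing. The published statement also assumes Y Noetherian; that hypothesis plays
no role and is omitted.) -/
theorem result {X Y : Scheme.{u}} (f : X ⟶ Y)
    [FormallyUnramified f] [LocallyOfFiniteType f] [IsSeparated f] [ConnectedSpace Y] :
    ∃ e : {s : Y ⟶ X // s ≫ f = 𝟙 Y} ≃
        {U : X.Opens // (∃ x : X, (U : Set X) = connectedComponent x) ∧ IsIso (U.ι ≫ f)},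
      ∀ s : {s : Y ⟶ X // s ≫ f = 𝟙 Y}, ((e s).1 : Set X) = Set.range s.1 := by
  have hopen : ∀ s : {s : Y ⟶ X // s ≫ f = 𝟙 Y}, IsOpenImmersion s.1 := fun s => by
    have : IsOpenImmersion (s.1 ≫ f) := by rw [s.2]; infer_instance
    exact MorphismProperty.of_postcomp (W := @IsOpenImmersion)
      (W' := @LocallyOfFiniteType ⊓ @FormallyUnramified) s.1 f ⟨inferInstance, inferInstance⟩ this
  have hclosed : ∀ s : {s : Y ⟶ X // s ≫ f = 𝟙 Y}, IsClosedImmersion s.1 := fun s => by
    have : IsClosedImmersion (s.1 ≫ f) := by rw [s.2]; infer_instance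
    exact MorphismProperty.of_postcomp (W := @IsClosedImmersion)
      (W' := @IsSeparated) s.1 f inferInstance this
  obtain ⟨y₀⟩ : Nonempty Y := inferInstance
  have hcomp : ∀ s : {s : Y ⟶ X // s ≫ f = 𝟙 Y}, Set.range s.1 = connectedComponent (s.1 y₀) := by
    intro s
    have := hopen s
    have := hclosed s
    apply Set.Subset.antisymm
    · exact (isPreconnected_range s.1.continuous).subset_connectedComponent ⟨y₀, rfl⟩
    · exact IsClopen.connectedComponent_subset
        ⟨(Scheme.Hom.isClosedEmbedding s.1).isClosed_range, s.1.isOpenEmbedding.isOpen_range⟩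
        ⟨y₀, rfl⟩
  let Φ : {s : Y ⟶ X // s ≫ f = 𝟙 Y} →
      {U : X.Opens // (∃ x : X, (U : Set X) = connectedComponent x) ∧ IsIso (U.ι ≫ f)} := fun s =>
    haveI := hopen s
    ⟨s.1.opensRange, ⟨s.1 y₀, hcomp s⟩, by
      have e1 : s.1.isoOpensRange.hom ≫ s.1.opensRange.ι = s.1 := s.1.isoOpensRange_hom_ι
      have e2 : s.1.opensRange.ι ≫ f = s.1.isoOpensRange.inv := by
        rw [← cancel_epi s.1.isoOpensRange.hom, ← Category.assoc, e1, s.2, Iso.hom_inv_id]
      rw [e2]; infer_instance⟩
  have hΦ : ∀ s, ((Φ s).1 : Set X) = Set.range s.1 := fun s => rfl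
  refine ⟨Equiv.ofBijective Φ ⟨?_, ?_⟩, fun s => rfl⟩
  · intro s s' hss'
    have hr : Set.range s.1 = Set.range s'.1 := by
      rw [← hΦ s, ← hΦ s', hss']
    have := hopen s
    have := hopen s'
    have hl : IsOpenImmersion.lift s'.1 s.1 hr.le ≫ s'.1 = s.1 := IsOpenImmersion.lift_fac _ _ _
    have h1 : IsOpenImmersion.lift s'.1 s.1 hr.le = 𝟙 Y := by
      have := congrArg (· ≫ f) hl
      simp only [Category.assoc, s.2, s'.2, Category.comp_id] at this
      exact this
    rw [h1, Category.id_comp] at hl
    exact Subtype.ext hl.symm
  · rintro ⟨U, hU, hiso⟩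
    refine ⟨⟨inv (U.ι ≫ f) ≫ U.ι, by rw [Category.assoc, IsIso.inv_hom_id]⟩, ?_⟩
    apply Subtype.ext
    apply TopologicalSpace.Opens.ext
    rw [hΦ]
    simp only [Scheme.Hom.comp_base, TopCat.coe_comp, Set.range_comp]
    rw [Set.range_eq_univ.2 (inv (U.ι ≫ f)).surjective, Set.image_univ, Scheme.Opens.range_ι]

end Groth.Agent.S18580
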