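import Groth.Statements.S18591
import Mathlib
-- import your own Groth.Agent.* helpers here

set_option autoImplicit false
universe v u
open W4c5suslinpi1ab

namespace Groth.Agent.S18591


open CategoryTheory MonoidalCategory Functor.LaxMonoidal Functor.OplaxMonoidal

section
variable {C : Type u} [Category.{v} C] [MonoidalCategory C]
variable {D : Type u} [Category.{v} D] [MonoidalCategory D]

set_option backward.isDefEq.respectTransparency false in
/-- adjoint of `projR`-type composite -/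
lemma map_projR_counit {L : C ⥤ D} {R : D ⥤ C} (adj : L ⊣ R) [L.OplaxMonoidal] [R.LaxMonoidal]
    [adj.IsMonoidal] (A : D) (B : C) :
    L.map (projR adj A B) ≫ adj.counit.app (A ⊗ L.obj B) =
      δ L (R.obj A) B ≫ (adj.counit.app A ▷ L.obj B) := by
  rw [projR, Functor.map_comp, Category.assoc, Adjunction.map_μ_comp_counit_app_tensor]
  erw [← δ_natural_right_assoc]
  congr 1
  rw [MonoidalCategory.tensorHom_def', ← MonoidalCategory.whiskerLeft_comp_assoc]
  simp

set_option backward.isDefEq.respectTransparency false in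
lemma map_projL_counit {L : C ⥤ D} {R : D ⥤ C} (adj : L ⊣ R) [L.OplaxMonoidal] [R.LaxMonoidal]
    [adj.IsMonoidal] (A : C) (B : D) :
    L.map (projL adj A B) ≫ adj.counit.app (L.obj A ⊗ B) =
      δ L A (R.obj B) ≫ (L.obj A ◁ adj.counit.app B) := by
  rw [projL, Functor.map_comp, Category.assoc, Adjunction.map_μ_comp_counit_app_tensor]
  erw [← δ_natural_left_assoc]
  congr 1
  rw [MonoidalCategory.tensorHom_def, ← MonoidalCategory.comp_whiskerRight_assoc]
  simp

end

lemma main {S₀ : Type u} [Category.{v} S₀] [MonoidalCategory S₀]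
    {Y₁ : Type u} [Category.{v} Y₁] [MonoidalCategory Y₁]
    {Y₂ : Type u} [Category.{v} Y₂] [MonoidalCategory Y₂]
    {X : Type u} [Category.{v} X] [MonoidalCategory X]
    {fL : S₀ ⥤ Y₁} {fR : Y₁ ⥤ S₀} (adjf : fL ⊣ fR) [fL.OplaxMonoidal] [fR.LaxMonoidal]
    [adjf.IsMonoidal] {gR : Y₂ ⥤ S₀}
    {pL : Y₁ ⥤ X} {pR : X ⥤ Y₁} (adjp : pL ⊣ pR) [pL.OplaxMonoidal] [pR.LaxMonoidal]
    [adjp.IsMonoidal] {qL : Y₂ ⥤ X} {qR : X ⥤ Y₂} (adjq : qL ⊣ qR)
    (ν : qR ⋙ gR ⟶ pR ⋙ fR) (A : Y₁) (B : Y₂) :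
    ((adjf.comp adjp).homEquiv _ _).symm (W4c5suslinpi1ab.extProd adjf adjp adjq ν A B) =
      δ (fL ⋙ pL) (fR.obj A) (gR.obj B) ≫
        (pL.map (adjf.counit.app A) ⊗ₘ
          (pL.map ((W4c5suslinpi1ab.bcMor adjf adjq ν).app B) ≫ adjp.counit.app (qL.obj B))) := by
  rw [extProd]
  generalize (W4c5suslinpi1ab.bcMor adjf adjq ν).app B = bc
  dsimp only [Functor.id_obj, Functor.comp_obj] at bc ⊢
  have h1 : fL.map (projR adjf A (gR.obj B) ≫ fR.map (A ◁ bc) ≫
      fR.map (projL adjp A (qL.obj B))) ≫ adjf.counit.app (pR.obj (pL.obj A ⊗ qL.obj B)) =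
      δ fL (fR.obj A) (gR.obj B) ≫ (adjf.counit.app A ▷ fL.obj (gR.obj B)) ≫ (A ◁ bc) ≫
        projL adjp A (qL.obj B) := by
    simp only [Functor.map_comp, Category.assoc, Adjunction.counit_naturality,
      Adjunction.counit_naturality_assoc, Functor.id_obj, Functor.comp_obj]
    rw [reassoc_of% (map_projR_counit adjf A (gR.obj B))]
  rw [Adjunction.homEquiv_symm_apply, Adjunction.comp_counit_app]
  dsimp only [Functor.id_obj, Functor.comp_obj, Functor.comp_map]
  rw [← pL.map_comp_assoc, h1]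
  simp only [Functor.map_comp, Category.assoc]
  rw [map_projL_counit adjp A (qL.obj B), comp_δ]
  simp only [Category.assoc]
  congr 1
  dsimp only [Functor.id_obj, Functor.comp_obj]
  rw [← δ_natural_right_assoc, ← δ_natural_left_assoc, MonoidalCategory.tensorHom_def,
    MonoidalCategory.whiskerLeft_comp]


open CategoryTheory MonoidalCategory Functor.LaxMonoidal Functor.OplaxMonoidal in
/-- In a square of adjunctions between monoidal categories — fL ⊣ fR from the base S₀ to Y₁, pL ⊣ pR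
from Y₁ to X (both left adjoints oplax monoidal, right adjoints with the induced lax structure), qL
⊣ qR from Y₂ to X, a functor gR : Y₂ ⥤ S₀ and a natural transformation ν : qR ⋙ gR ⟶ pR ⋙ fR from
which the base change fL gR ⟶ pR qL is built, the adjoint under the composite adjunction fL ⋙ pL ⊣
pR ⋙ fR of the exterior product fR A ⊗ gR B ⟶ fR pR (pL A ⊗ qL B) is the oplax comparison map of fL
⋙ pL followed by (pL of the counit of adjf at A) ⊗ (pL of the base change at B, then the counit of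
adjp at qL B). (The published statement assumes symmetric monoidal categories and monoidal pullbacks
and writes the domain of this map as a tensor product of pullbacks; here only oplax left adjoints
are assumed and the oplax comparison map is kept explicit.) -/
theorem result {S₀ : Type u} [Category.{v} S₀] [MonoidalCategory S₀]
    {Y₁ : Type u} [Category.{v} Y₁] [MonoidalCategory Y₁]
    {Y₂ : Type u} [Category.{v} Y₂] [MonoidalCategory Y₂]
    {X : Type u} [Category.{v} X] [MonoidalCategory X]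
    {fL : S₀ ⥤ Y₁} {fR : Y₁ ⥤ S₀} (adjf : fL ⊣ fR) [fL.OplaxMonoidal] [fR.LaxMonoidal]
    [adjf.IsMonoidal] {gR : Y₂ ⥤ S₀}
    {pL : Y₁ ⥤ X} {pR : X ⥤ Y₁} (adjp : pL ⊣ pR) [pL.OplaxMonoidal] [pR.LaxMonoidal]
    [adjp.IsMonoidal] {qL : Y₂ ⥤ X} {qR : X ⥤ Y₂} (adjq : qL ⊣ qR)
    (ν : qR ⋙ gR ⟶ pR ⋙ fR) (A : Y₁) (B : Y₂) :
    ((adjf.comp adjp).homEquiv _ _).symm (W4c5suslinpi1ab.extProd adjf adjp adjq ν A B) =
      δ (fL ⋙ pL) (fR.obj A) (gR.obj B) ≫
        (pL.map (adjf.counit.app A) ⊗ₘ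
          (pL.map ((W4c5suslinpi1ab.bcMor adjf adjq ν).app B) ≫ adjp.counit.app (qL.obj B))) :=
  main adjf adjp adjq ν A B

end Groth.Agent.S18591
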