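import Groth.Statements.S18593
import Mathlib
-- import your own Groth.Agent.* helpers here

set_option autoImplicit false
universe v u
open W4c5suslinpi1ab

namespace Groth.Agent.S18593


open CategoryTheory MonoidalCategory Functor.LaxMonoidal Functor.OplaxMonoidal

@[reassoc]
lemma map_homEquiv_counit {C : Type*} [Category C] {D : Type*} [Category D] {F : C ⥤ D} {G : D ⥤ C}
    (adj : F ⊣ G) {X : C} {Y : D} (φ : F.obj X ⟶ Y) :
    F.map (adj.homEquiv X Y φ) ≫ adj.counit.app Y = φ := by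
  have := (adj.homEquiv X Y).symm_apply_apply φ
  rwa [Adjunction.homEquiv_symm_apply] at this

section
variable {C : Type u} [Category.{v} C] [MonoidalCategory C]
variable {D : Type u} [Category.{v} D] [MonoidalCategory D]

@[reassoc]
lemma projR_natural {L : C ⥤ D} {R : D ⥤ C} (adj : L ⊣ R) [R.LaxMonoidal] (A : D) {B B' : C}
    (g : B ⟶ B') :
    (R.obj A ◁ g) ≫ projR adj A B' = projR adj A B ≫ R.map (A ◁ L.map g) := by
  rw [projR, projR, ← MonoidalCategory.whiskerLeft_comp_assoc]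
  have h := adj.unit_naturality g
  dsimp only [Functor.id_obj, Functor.comp_obj] at h ⊢
  rw [← h, MonoidalCategory.whiskerLeft_comp_assoc, Category.assoc, μ_natural_right]

lemma cupShriek_natural {L : C ⥤ D} {R : D ⥤ C} {S : C ⥤ D} (adj : L ⊣ R) (adj' : R ⊣ S)
    [R.LaxMonoidal] [∀ (A : D) (B : C), IsIso (projR adj A B)] (A : C) {B B' : C} (g : B ⟶ B') :
    (S.obj A ◁ L.map g) ≫ cupShriek adj adj' A B' = cupShriek adj adj' A B ≫ S.map (A ◁ g) := by
  rw [cupShriek, cupShriek, ← Adjunction.homEquiv_naturality_left,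
    ← Adjunction.homEquiv_naturality_right]
  congr 1
  have h := projR_natural adj (S.obj A) g
  have h2 : R.map (S.obj A ◁ L.map g) ≫ inv (projR adj (S.obj A) B') =
      inv (projR adj (S.obj A) B) ≫ (R.obj (S.obj A) ◁ g) := by
    rw [IsIso.eq_inv_comp, ← Category.assoc, ← h, Category.assoc, IsIso.hom_inv_id, Category.comp_id]
  rw [← Category.assoc, h2, Category.assoc, Category.assoc, whisker_exchange]
  rfl

end

lemma main {S₀ : Type u} [Category.{v} S₀] [MonoidalCategory S₀]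
    {Y₁ : Type u} [Category.{v} Y₁] [MonoidalCategory Y₁]
    {Y₂ : Type u} [Category.{v} Y₂] [MonoidalCategory Y₂]
    {X : Type u} [Category.{v} X] [MonoidalCategory X]
    {fL : S₀ ⥤ Y₁} {fR : Y₁ ⥤ S₀} (adjf : fL ⊣ fR) [fL.OplaxMonoidal] [fR.LaxMonoidal]
    [adjf.IsMonoidal] {gR : Y₂ ⥤ S₀}
    {pL : Y₁ ⥤ X} {pR : X ⥤ Y₁} (adjp : pL ⊣ pR) [pL.OplaxMonoidal] [pR.LaxMonoidal]
    [adjp.IsMonoidal] {qL : Y₂ ⥤ X} {qR : X ⥤ Y₂} (adjq : qL ⊣ qR)
    (ν : qR ⋙ gR ⟶ pR ⋙ fR)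
    {fS : S₀ ⥤ Y₁} (adjf' : fR ⊣ fS) {gS : S₀ ⥤ Y₂} (adjg' : gR ⊣ gS)
    {pS : Y₁ ⥤ X} (adjp' : pR ⊣ pS)
    [∀ (A : Y₁) (B : S₀), IsIso (W4c5suslinpi1ab.projR adjf A B)]
    [∀ (A : Y₁) (B : X), IsIso (W4c5suslinpi1ab.projL adjp A B)]
    [∀ B : Y₂, IsIso ((W4c5suslinpi1ab.bcMor adjf adjq ν).app B)] (A B : S₀) :
    W4c5suslinpi1ab.extProd adjf adjp adjq ν (fS.obj A) (gS.obj B) ≫
      fR.map (pR.map (W4c5suslinpi1ab.prodShriek adjf adjf' adjg' adjp adjp' adjq ν A B)) ≫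
        fR.map (adjp'.counit.app (fS.obj (A ⊗ B))) =
      (fR.obj (fS.obj A) ◁ adjg'.counit.app B) ≫ W4c5suslinpi1ab.projR adjf (fS.obj A) B ≫
        fR.map (W4c5suslinpi1ab.cupShriek adjf adjf' A B) := by
  rw [prodShriek, extProd]
  dsimp only [Functor.id_obj, Functor.comp_obj, Functor.comp_map]
  rw [← fR.map_comp (pR.map _), map_homEquiv_counit adjp']
  simp only [Functor.map_comp, Category.assoc]
  rw [← fR.map_comp_assoc (projL adjp _ _), IsIso.hom_inv_id, fR.map_id, Category.id_comp,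
    ← fR.map_comp_assoc (_ ◁ _), ← MonoidalCategory.whiskerLeft_comp, IsIso.hom_inv_id,
    MonoidalCategory.whiskerLeft_id, fR.map_id, Category.id_comp]
  have hc := cupShriek_natural adjf adjf' A (adjg'.counit.app B)
  have hp := projR_natural adjf (fS.obj A) (adjg'.counit.app B)
  dsimp only [Functor.id_obj, Functor.comp_obj] at hc hp
  rw [← fR.map_comp, ← hc, fR.map_comp, ← Category.assoc, ← hp, Category.assoc]


open CategoryTheory MonoidalCategory Functor.LaxMonoidal Functor.OplaxMonoidal in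
/-- In a square of adjunctions between monoidal categories — fL ⊣ fR from the base S₀ to Y₁, pL ⊣ pR
from Y₁ to X (both left adjoints oplax monoidal, right adjoints with the induced lax structure), qL
⊣ qR from Y₂ to X, a functor gR : Y₂ ⥤ S₀ and a natural transformation ν : qR ⋙ gR ⟶ pR ⋙ fR from
which the base change fL gR ⟶ pR qL is built, with right adjoints fS of fR, gS of gR, pS of pR and
the right projection morphisms of adjf, the left projection morphisms of adjp and the base change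
all isomorphisms, the square relating the two shriek products commutes: exterior product, then fR pR
of the shriek product of the square, then fR of the counit of pR ⊣ pS, equals the counit of gR ⊣ gS
on the second factor, then the right projection morphism of adjf, then fR of the shriek cup product
fS A ⊗ fL B ⟶ fS (A ⊗ B). -/
theorem result {S₀ : Type u} [Category.{v} S₀] [MonoidalCategory S₀]
    {Y₁ : Type u} [Category.{v} Y₁] [MonoidalCategory Y₁]
    {Y₂ : Type u} [Category.{v} Y₂] [MonoidalCategory Y₂]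
    {X : Type u} [Category.{v} X] [MonoidalCategory X]
    {fL : S₀ ⥤ Y₁} {fR : Y₁ ⥤ S₀} (adjf : fL ⊣ fR) [fL.OplaxMonoidal] [fR.LaxMonoidal]
    [adjf.IsMonoidal] {gR : Y₂ ⥤ S₀}
    {pL : Y₁ ⥤ X} {pR : X ⥤ Y₁} (adjp : pL ⊣ pR) [pL.OplaxMonoidal] [pR.LaxMonoidal]
    [adjp.IsMonoidal] {qL : Y₂ ⥤ X} {qR : X ⥤ Y₂} (adjq : qL ⊣ qR)
    (ν : qR ⋙ gR ⟶ pR ⋙ fR)
    {fS : S₀ ⥤ Y₁} (adjf' : fR ⊣ fS) {gS : S₀ ⥤ Y₂} (adjg' : gR ⊣ gS)
    {pS : Y₁ ⥤ X} (adjp' : pR ⊣ pS)
    [∀ (A : Y₁) (B : S₀), IsIso (W4c5suslinpi1ab.projR adjf A B)]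
    [∀ (A : Y₁) (B : X), IsIso (W4c5suslinpi1ab.projL adjp A B)]
    [∀ B : Y₂, IsIso ((W4c5suslinpi1ab.bcMor adjf adjq ν).app B)] (A B : S₀) :
    W4c5suslinpi1ab.extProd adjf adjp adjq ν (fS.obj A) (gS.obj B) ≫
      fR.map (pR.map (W4c5suslinpi1ab.prodShriek adjf adjf' adjg' adjp adjp' adjq ν A B)) ≫
        fR.map (adjp'.counit.app (fS.obj (A ⊗ B))) =
      (fR.obj (fS.obj A) ◁ adjg'.counit.app B) ≫ W4c5suslinpi1ab.projR adjf (fS.obj A) B ≫
        fR.map (W4c5suslinpi1ab.cupShriek adjf adjf' A B) :=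
  main adjf adjp adjq ν adjf' adjg' adjp' A B

end Groth.Agent.S18593
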