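import Groth.Statements.S18594
import Groth.Agent.S18592

set_option autoImplicit false
universe v u
open W4c5suslinpi1ab

namespace Groth.Agent.S18594

section Helpers
open CategoryTheory MonoidalCategory Functor.LaxMonoidal Functor.OplaxMonoidal

section
variable {C : Type u} [Category.{v} C] [MonoidalCategory C]
variable {D : Type u} [Category.{v} D] [MonoidalCategory D]

lemma projR_nat₂ {L : C ⥤ D} {R : D ⥤ C} (adj : L ⊣ R) [R.LaxMonoidal] {A A₁ : D} {B B₁ : C}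
    (a : A ⟶ A₁) (g : B ⟶ B₁) :
    (R.map a ⊗ₘ g) ≫ projR adj A₁ B₁ = projR adj A B ≫ R.map (a ⊗ₘ L.map g) := by
  simp only [projR]
  have h := adj.unit_naturality g
  rw [Category.assoc, ← μ_natural, ← Category.assoc, ← Category.assoc]
  congr 1
  rw [← id_tensorHom, ← id_tensorHom, tensorHom_comp_tensorHom, tensorHom_comp_tensorHom,
    Category.comp_id, Category.id_comp, h]

lemma projL_nat₂ {L : C ⥤ D} {R : D ⥤ C} (adj : L ⊣ R) [R.LaxMonoidal] {A A₁ : C} {B B₁ : D}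
    (a : A ⟶ A₁) (g : B ⟶ B₁) :
    (a ⊗ₘ R.map g) ≫ projL adj A₁ B₁ = projL adj A B ≫ R.map (L.map a ⊗ₘ g) := by
  simp only [projL]
  have h := adj.unit_naturality a
  rw [Category.assoc, ← μ_natural, ← Category.assoc, ← Category.assoc]
  congr 1
  rw [← tensorHom_id, ← tensorHom_id, tensorHom_comp_tensorHom, tensorHom_comp_tensorHom,
    Category.comp_id, Category.id_comp, h]

end

section Square

variable {S₀ : Type u} [Category.{v} S₀] [MonoidalCategory S₀]
variable {Y₁ : Type u} [Category.{v} Y₁] [MonoidalCategory Y₁]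
variable {Y₂ : Type u} [Category.{v} Y₂] [MonoidalCategory Y₂]
variable {X : Type u} [Category.{v} X] [MonoidalCategory X]
variable {fL : S₀ ⥤ Y₁} {fR : Y₁ ⥤ S₀} {gR : Y₂ ⥤ S₀}
variable {pL : Y₁ ⥤ X} {pR : X ⥤ Y₁} {qL : Y₂ ⥤ X} {qR : X ⥤ Y₂}

lemma extProd_natural (adjf : fL ⊣ fR) (adjp : pL ⊣ pR) (adjq : qL ⊣ qR) [fR.LaxMonoidal]
    [pR.LaxMonoidal] (ν : qR ⋙ gR ⟶ pR ⋙ fR) {A A₁ : Y₁} {B B₁ : Y₂} (a : A ⟶ A₁) (b : B ⟶ B₁) :
    (fR.map a ⊗ₘ gR.map b) ≫ extProd adjf adjp adjq ν A₁ B₁ =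
      extProd adjf adjp adjq ν A B ≫ fR.map (pR.map (pL.map a ⊗ₘ qL.map b)) := by
  simp only [extProd]
  rw [← Category.assoc, projR_nat₂, Category.assoc, Category.assoc]
  congr 1
  rw [← fR.map_comp, ← fR.map_comp, ← fR.map_comp, ← fR.map_comp]
  congr 1
  have hbc := (bcMor adjf adjq ν).naturality b
  dsimp only [Functor.comp_obj, Functor.comp_map] at hbc
  rw [← Category.assoc, ← id_tensorHom, tensorHom_comp_tensorHom, Category.comp_id, hbc,
    Category.assoc, ← projL_nat₂, ← Category.assoc, ← id_tensorHom, tensorHom_comp_tensorHom,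
    Category.id_comp]

instance extProd_isIso (adjf : fL ⊣ fR) (adjp : pL ⊣ pR) (adjq : qL ⊣ qR) [fR.LaxMonoidal]
    [pR.LaxMonoidal] (ν : qR ⋙ gR ⟶ pR ⋙ fR)
    [∀ (A : Y₁) (B : S₀), IsIso (projR adjf A B)]
    [∀ (A : Y₁) (B : X), IsIso (projL adjp A B)]
    [∀ B : Y₂, IsIso ((bcMor adjf adjq ν).app B)] (A : Y₁) (B : Y₂) :
    IsIso (extProd adjf adjp adjq ν A B) := by
  unfold extProd
  infer_instance

end Square

end Helpers

open CategoryTheory MonoidalCategory Functor.LaxMonoidal Functor.OplaxMonoidal in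

open CategoryTheory MonoidalCategory Functor.LaxMonoidal Functor.OplaxMonoidal in
/-- In a square of adjunctions between monoidal categories — fL ⊣ fR from the base S₀ to Y₁, pL ⊣ pR
from Y₁ to X (both left adjoints oplax monoidal, right adjoints with the induced lax structure), qL
⊣ qR from Y₂ to X, a functor gR : Y₂ ⥤ S₀ and a natural transformation ν : qR ⋙ gR ⟶ pR ⋙ fR from
which the base change fL gR ⟶ pR qL is built, with right adjoints fS of fR, gS of gR, pS of pR and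
the projection morphisms and base change isomorphisms, fix morphisms trA : A' ⟶ fS A, trB : B' ⟶ gS
B, trC : C' ⟶ pS fS (A ⊗ B) and a product m : pL A' ⊗ qL B' ⟶ C'. Then (pL trA ⊗ qL trB) followed by
the shriek product of the square equals m ≫ trC if and only if the Fubini identity holds: the tensor
product of the adjoint maps fR A' ⟶ A and gR B' ⟶ B equals the exterior product fR A' ⊗ gR B' ⟶ fR
pR (pL A' ⊗ qL B') followed by fR pR m and the adjoint map fR pR C' ⟶ A ⊗ B. -/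
theorem result {S₀ : Type u} [Category.{v} S₀] [MonoidalCategory S₀]
    {Y₁ : Type u} [Category.{v} Y₁] [MonoidalCategory Y₁]
    {Y₂ : Type u} [Category.{v} Y₂] [MonoidalCategory Y₂]
    {X : Type u} [Category.{v} X] [MonoidalCategory X]
    {fL : S₀ ⥤ Y₁} {fR : Y₁ ⥤ S₀} (adjf : fL ⊣ fR) [fL.OplaxMonoidal] [fR.LaxMonoidal]
    [adjf.IsMonoidal] {gR : Y₂ ⥤ S₀}
    {pL : Y₁ ⥤ X} {pR : X ⥤ Y₁} (adjp : pL ⊣ pR) [pL.OplaxMonoidal] [pR.LaxMonoidal]
    [adjp.IsMonoidal] {qL : Y₂ ⥤ X} {qR : X ⥤ Y₂} (adjq : qL ⊣ qR)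
    (ν : qR ⋙ gR ⟶ pR ⋙ fR)
    {fS : S₀ ⥤ Y₁} (adjf' : fR ⊣ fS) {gS : S₀ ⥤ Y₂} (adjg' : gR ⊣ gS)
    {pS : Y₁ ⥤ X} (adjp' : pR ⊣ pS)
    [∀ (A : Y₁) (B : S₀), IsIso (W4c5suslinpi1ab.projR adjf A B)]
    [∀ (A : Y₁) (B : X), IsIso (W4c5suslinpi1ab.projL adjp A B)]
    [∀ B : Y₂, IsIso ((W4c5suslinpi1ab.bcMor adjf adjq ν).app B)] (A B : S₀) (A' : Y₁) (B' : Y₂) (C' : X)
    (trA : A' ⟶ fS.obj A) (trB : B' ⟶ gS.obj B) (trC : C' ⟶ pS.obj (fS.obj (A ⊗ B)))
    (m : pL.obj A' ⊗ qL.obj B' ⟶ C') :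
    ((pL.map trA ⊗ₘ qL.map trB) ≫ W4c5suslinpi1ab.prodShriek adjf adjf' adjg' adjp adjp' adjq ν A B =
        m ≫ trC) ↔
      (((adjf'.homEquiv _ _).symm trA ⊗ₘ (adjg'.homEquiv _ _).symm trB) =
        W4c5suslinpi1ab.extProd adjf adjp adjq ν A' B' ≫ fR.map (pR.map m) ≫
          ((adjp'.comp adjf').homEquiv _ _).symm trC) := by
  have key1 : extProd adjf adjp adjq ν A' B' ≫ ((adjp'.comp adjf').homEquiv _ _).symm
      ((pL.map trA ⊗ₘ qL.map trB) ≫ prodShriek adjf adjf' adjg' adjp adjp' adjq ν A B) =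
      ((adjf'.homEquiv _ _).symm trA ⊗ₘ (adjg'.homEquiv _ _).symm trB) := by
    rw [Adjunction.homEquiv_naturality_left_symm, Functor.comp_map, ← Category.assoc,
      ← extProd_natural, Category.assoc, Groth.Agent.S18592.main, tensorHom_comp_tensorHom,
      Adjunction.homEquiv_symm_apply, Adjunction.homEquiv_symm_apply]
  have key2 : extProd adjf adjp adjq ν A' B' ≫ ((adjp'.comp adjf').homEquiv _ _).symm (m ≫ trC) =
      extProd adjf adjp adjq ν A' B' ≫ fR.map (pR.map m) ≫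
          ((adjp'.comp adjf').homEquiv _ _).symm trC := by
    rw [Adjunction.homEquiv_naturality_left_symm, Functor.comp_map]
  constructor
  · intro h
    rw [← key1, ← key2, h]
  · intro h
    apply ((adjp'.comp adjf').homEquiv _ _).symm.injective
    rw [← cancel_epi (extProd adjf adjp adjq ν A' B'), key1, key2]
    exact h

end Groth.Agent.S18594
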