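import Groth.Statements.S18598
import Mathlib

set_option autoImplicit false
universe u
open SSRed

namespace Groth.Agent.S18598

section aux

-- universe u declared in template
open Polynomial

section
variable {O : Type u} [CommRing O] [IsDomain O]

/-- `(1 - α)^{φ(m)}` divides `Φ_m(1)` for a primitive `m`-th root of unity `α` -/
theorem pow_totient_dvd {α : O} {m : ℕ} (hm : 0 < m) (hα : IsPrimitiveRoot α m) :
    (1 - α) ^ m.totient ∣ eval 1 (cyclotomic m O) := by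
  haveI : NeZero m := ⟨hm.ne'⟩
  rw [cyclotomic_eq_prod_X_sub_primitiveRoots hα, eval_prod, ← hα.card_primitiveRoots,
    ← Finset.prod_const]
  apply Finset.prod_dvd_prod_of_dvd
  intro μ hμ
  rw [eval_sub, eval_X, eval_C]
  have hμ' : IsPrimitiveRoot μ m := (mem_primitiveRoots hm).mp hμ
  obtain ⟨i, -, rfl⟩ := hα.eq_pow_of_pow_eq_one hμ'.pow_eq_one
  have := sub_dvd_pow_sub_pow (1 : O) α i
  rwa [one_pow] at this

end

section
variable {O : Type u} [CommRing O] [IsDomain O] [CharZero O]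

theorem arith (ℓ e k : ℕ) (hℓ : ℓ.Prime) (he : 1 ≤ e) (h : e * (ℓ ^ k * (ℓ - 1)) ≤ 2) :
    (ℓ ^ e = 3 ∧ ℓ ^ (k + 1) = 3) ∨ (ℓ ^ e = 2 ∧ ℓ ^ (k + 1) = 2) ∨ (ℓ ^ e = 4 ∧ ℓ ^ (k + 1) = 2) ∨
      (ℓ ^ e = 2 ∧ ℓ ^ (k + 1) = 4) := by
  have h2 : 2 ≤ ℓ := hℓ.two_le
  have hk : 1 ≤ ℓ ^ k := Nat.one_le_pow _ _ (by omega)
  have h1 : 1 ≤ ℓ - 1 := by omega
  have hA : e * (ℓ ^ k * (ℓ - 1)) ≥ e * 1 := Nat.mul_le_mul_left _ (by nlinarith)
  have he2 : e ≤ 2 := by omega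
  have hB : ℓ ^ k * (ℓ - 1) ≤ 2 := by
    calc ℓ ^ k * (ℓ - 1) = 1 * (ℓ ^ k * (ℓ - 1)) := (one_mul _).symm
      _ ≤ e * (ℓ ^ k * (ℓ - 1)) := Nat.mul_le_mul_right _ he
      _ ≤ 2 := h
  have hℓ3 : ℓ ≤ 3 := by
    have : ℓ - 1 ≤ ℓ ^ k * (ℓ - 1) := Nat.le_mul_of_pos_left _ (by omega)
    omega
  have hk2 : ℓ ^ k ≤ 2 := by
    have : ℓ ^ k ≤ ℓ ^ k * (ℓ - 1) := Nat.le_mul_of_pos_right _ (by omega)
    omega
  have hk1 : k ≤ 1 := by
    by_contra hcon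
    push Not at hcon
    have : ℓ ^ 2 ≤ ℓ ^ k := Nat.pow_le_pow_right (by omega) hcon
    nlinarith
  interval_cases ℓ
  · -- ℓ = 2
    interval_cases k <;> interval_cases e <;> simp_all
  · -- ℓ = 3
    interval_cases k <;> interval_cases e <;> simp_all

theorem classify (n : ℕ) (hn : 2 ≤ n) (hO : ∀ p : ℕ, p.Prime → p ∣ n → ¬ IsUnit (p : O))
    (α : O) (hm : 0 < orderOf α) (h : (n : O) ∣ (α - 1) ^ 2) :
    orderOf α = 1 ∨ (n = 3 ∧ orderOf α = 3) ∨ (n = 2 ∧ orderOf α = 2) ∨ (n = 4 ∧ orderOf α = 2) ∨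
      (n = 2 ∧ orderOf α = 4) := by
  set m := orderOf α with hmdef
  by_cases hm1 : m = 1
  · exact Or.inl hm1
  right
  have hprim : IsPrimitiveRoot α m := IsPrimitiveRoot.orderOf α
  have hdvd := pow_totient_dvd hm hprim
  have hφ : 0 < m.totient := Nat.totient_pos.mpr hm
  have h' : (n : O) ∣ (1 - α) ^ 2 := by
    have : (1 - α) ^ 2 = (α - 1) ^ 2 := by ring
    rw [this]; exact h
  obtain ⟨p0, hp0, hp0n⟩ := Nat.exists_prime_and_dvd (by omega : n ≠ 1)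
  have hcast : ∀ {a b : ℕ}, a ∣ b → (a : O) ∣ (b : O) := fun hab => by exact_mod_cast Nat.cast_dvd_cast (α := O) hab
  by_cases hpp : ∃ ℓ k : ℕ, ℓ.Prime ∧ ℓ ^ k = m
  swap
  · exfalso
    have hev : eval 1 (cyclotomic m O) = 1 :=
      eval_one_cyclotomic_not_prime_pow (fun {p} hp k hk => hpp ⟨p, k, hp, hk⟩)
    rw [hev] at hdvd
    have hu : IsUnit (1 - α) := by
      have : IsUnit ((1 - α) ^ m.totient) := isUnit_of_dvd_one hdvd
      exact (isUnit_pow_iff hφ.ne').mp this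
    have hu2 : IsUnit ((1 - α) ^ 2) := hu.pow 2
    have : IsUnit (p0 : O) := isUnit_of_dvd_unit ((hcast hp0n).trans h') hu2
    exact hO p0 hp0 hp0n this
  obtain ⟨ℓ, k, hℓ, hℓk⟩ := hpp
  have hk0 : k ≠ 0 := by
    rintro rfl
    exact hm1 (by rw [← hℓk, pow_zero])
  obtain ⟨k', rfl⟩ := Nat.exists_eq_succ_of_ne_zero hk0
  haveI : Fact ℓ.Prime := ⟨hℓ⟩
  have hev : eval 1 (cyclotomic m O) = (ℓ : O) := by
    rw [← hℓk]; exact eval_one_cyclotomic_prime_pow k'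
  rw [hev] at hdvd
  have hℓ0 : (ℓ : O) ≠ 0 := Nat.cast_ne_zero.mpr hℓ.ne_zero
  -- every prime dividing n is ℓ
  have hprimes : ∀ {p : ℕ}, p.Prime → p ∣ n → p = ℓ := by
    intro p hp hpn
    by_contra hne
    have h1 : (p : O) ^ m.totient ∣ (ℓ : O) ^ 2 := by
      calc (p : O) ^ m.totient ∣ ((1 - α) ^ 2) ^ m.totient := pow_dvd_pow_of_dvd ((hcast hpn).trans h') _
        _ = ((1 - α) ^ m.totient) ^ 2 := by rw [← pow_mul, ← pow_mul, mul_comm]
        _ ∣ (ℓ : O) ^ 2 := pow_dvd_pow_of_dvd hdvd 2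
    have hcop : Nat.Coprime (p ^ m.totient) (ℓ ^ 2) :=
      Nat.Coprime.pow _ _ ((Nat.coprime_primes hp hℓ).mpr hne)
    have hcopO : IsCoprime ((p : O) ^ m.totient) ((ℓ : O) ^ 2) := by
      have := (Nat.isCoprime_iff_coprime.mpr hcop).map (Int.castRingHom O)
      simpa using this
    have hu : IsUnit ((p : O) ^ m.totient) := hcopO.isUnit_of_dvd' dvd_rfl h1
    exact hO p hp hpn ((isUnit_pow_iff hφ.ne').mp hu)
  have hnpow : n = ℓ ^ n.primeFactorsList.length :=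
    Nat.eq_prime_pow_of_unique_prime_dvd (by omega) hprimes
  set e := n.primeFactorsList.length with hedef
  have he : 1 ≤ e := by
    by_contra hcon
    have : e = 0 := by omega
    rw [this, pow_zero] at hnpow
    omega
  have hℓn : ℓ ∣ n := by rw [hnpow]; exact dvd_pow_self _ (by omega)
  have hbound : e * m.totient ≤ 2 := by
    by_contra hcon
    push Not at hcon
    have h1 : (ℓ : O) ^ (e * m.totient) ∣ (ℓ : O) ^ 2 := by
      calc (ℓ : O) ^ (e * m.totient) = ((ℓ : O) ^ e) ^ m.totient := by rw [pow_mul]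
        _ = ((n : O)) ^ m.totient := by rw [hnpow]; push_cast; rfl
        _ ∣ ((1 - α) ^ 2) ^ m.totient := pow_dvd_pow_of_dvd h' _
        _ = ((1 - α) ^ m.totient) ^ 2 := by rw [← pow_mul, ← pow_mul, mul_comm]
        _ ∣ (ℓ : O) ^ 2 := pow_dvd_pow_of_dvd hdvd 2
    have h2 : (ℓ : O) ^ 3 ∣ (ℓ : O) ^ 2 := (pow_dvd_pow _ (by omega)).trans h1
    have h3 : (ℓ : O) ^ 2 * (ℓ : O) ∣ (ℓ : O) ^ 2 * 1 := by
      rw [mul_one, ← pow_succ]; exact h2
    have h4 : (ℓ : O) ∣ 1 := (mul_dvd_mul_iff_left (pow_ne_zero 2 hℓ0)).mp h3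
    exact hO ℓ hℓ hℓn (isUnit_of_dvd_one h4)
  have htot : m.totient = ℓ ^ k' * (ℓ - 1) := by
    rw [← hℓk, Nat.totient_prime_pow_succ hℓ]
  rw [htot] at hbound
  have := arith ℓ e k' hℓ he hbound
  rw [← hnpow, hℓk] at this
  exact this

end

theorem main (O : Type u) [CommRing O] [IsDomain O] [CharZero O]
    (n : ℕ) (hn : 0 < n) (hO : ∀ p : ℕ, p.Prime → p ∣ n → ¬ IsUnit (p : O))
    (α : O) (hα : IsOfFinOrder α) (h : (n : O) ∣ (α - 1) ^ 2) :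
    (5 ≤ n → α = 1) ∧ (n = 4 → α ^ 2 = 1) ∧ (n = 3 → α ^ 3 = 1) ∧ (n = 2 → α ^ 4 = 1) := by
  by_cases hn1 : n = 1
  · subst hn1
    refine ⟨fun h5 => by omega, fun h4 => by omega, fun h3 => by omega, fun h2 => by omega⟩
  have hn2 : 2 ≤ n := by omega
  have hm : 0 < orderOf α := hα.orderOf_pos
  have hc := classify n hn2 hO α hm h
  have h1 : orderOf α = 1 → α = 1 := fun h => orderOf_eq_one_iff.mp h
  refine ⟨fun h5 => ?_, fun h4 => ?_, fun h3 => ?_, fun h2 => ?_⟩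
  · rcases hc with hc | ⟨hc, -⟩ | ⟨hc, -⟩ | ⟨hc, -⟩ | ⟨hc, -⟩
    · exact h1 hc
    all_goals omega
  · apply orderOf_dvd_iff_pow_eq_one.mp
    rcases hc with hc | ⟨hc, -⟩ | ⟨hc, -⟩ | ⟨-, hc⟩ | ⟨hc, -⟩
    · rw [hc]; norm_num
    · omega
    · omega
    · rw [hc]
    · omega
  · apply orderOf_dvd_iff_pow_eq_one.mp
    rcases hc with hc | ⟨-, hc⟩ | ⟨hc, -⟩ | ⟨hc, -⟩ | ⟨hc, -⟩
    · rw [hc]; norm_num
    · rw [hc]
    · omega
    · omega
    · omega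
  · apply orderOf_dvd_iff_pow_eq_one.mp
    rcases hc with hc | ⟨hc, -⟩ | ⟨-, hc⟩ | ⟨hc, -⟩ | ⟨-, hc⟩
    · rw [hc]; norm_num
    · omega
    · rw [hc]; norm_num
    · omega
    · rw [hc]

end aux

/-- Let O be a commutative integral domain of characteristic zero, n a positive integer such that no
prime number dividing n is a unit in O, and α an element of O of finite multiplicative order such
that (α − 1)² is divisible by n in O. Then α = 1 if n ≥ 5, α² = 1 if n = 4, α³ = 1 if n = 3, and α⁴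
= 1 if n = 2. -/
theorem result (O : Type u) [CommRing O] [IsDomain O] [CharZero O]
    (n : ℕ) (hn : 0 < n) (hO : ∀ p : ℕ, p.Prime → p ∣ n → ¬ IsUnit (p : O))
    (α : O) (hα : IsOfFinOrder α) (h : (n : O) ∣ (α - 1) ^ 2) :
    (5 ≤ n → α = 1) ∧ (n = 4 → α ^ 2 = 1) ∧ (n = 3 → α ^ 3 = 1) ∧ (n = 2 → α ^ 4 = 1) := by
  exact main O n hn hO α hα h

end Groth.Agent.S18598
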