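import Groth.Statements.S18599
import Mathlib

set_option autoImplicit false
universe u
open SSRed

namespace Groth.Agent.S18599

section Aux
open Submodule

/-- L1: multiplicativity of index of ranges -/
theorem index_range_comp {G : Type*} [AddCommGroup G] (φ ψ : G →+ G) (hφ : Function.Injective φ) :
    (φ.comp ψ).range.index = ψ.range.index * φ.range.index := by
  have h1 : (φ.comp ψ).range = ψ.range.map φ := (AddMonoidHom.map_range φ ψ).symm
  have h2 : φ.range = (⊤ : AddSubgroup G).map φ := AddMonoidHom.range_eq_map φ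
  have hle : (φ.comp ψ).range ≤ φ.range := by
    rintro _ ⟨x, rfl⟩; exact ⟨ψ x, rfl⟩
  rw [← AddSubgroup.relIndex_mul_index hle, h1, h2,
    AddSubgroup.relIndex_map_map_of_injective _ _ hφ, AddSubgroup.relIndex_top_right]

variable {ℓ : ℕ} [Fact ℓ.Prime]

/-- L2 -/
theorem index_smul (M' : Type*) [AddCommGroup M'] [Module ℤ_[ℓ] M'] [Module.Free ℤ_[ℓ] M']
    [Module.Finite ℤ_[ℓ] M'] (φ : M' →+ M') (U : M' ≃ₗ[ℤ_[ℓ]] M')
    (hφ : ∀ x, φ x = (ℓ : ℤ_[ℓ]) • U x) :
    φ.range.index = ℓ ^ Module.finrank ℤ_[ℓ] M' := by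
  classical
  set c := Module.finrank ℤ_[ℓ] M'
  let b := Module.finBasis ℤ_[ℓ] M'
  let π : M' →+ (Fin c → ZMod ℓ) :=
    { toFun := fun x i => PadicInt.toZMod (b.repr x i)
      map_zero' := by ext; simp
      map_add' := by intros; ext; simp }
  have hsurj : Function.Surjective π := by
    intro y
    have hs : Function.Surjective (PadicInt.toZMod (p := ℓ)) := ZMod.ringHom_surjective _
    choose z hz using fun i => hs (y i)
    refine ⟨∑ i, z i • b i, ?_⟩
    ext i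
    show PadicInt.toZMod (b.repr (∑ i, z i • b i) i) = y i
    rw [b.repr_sum_self]; exact hz i
  have hker : π.ker = φ.range := by
    ext x
    simp only [AddMonoidHom.mem_ker, AddMonoidHom.mem_range]
    constructor
    · intro hx
      have h1 : ∀ i, ∃ w, b.repr x i = (ℓ : ℤ_[ℓ]) * w := by
        intro i
        have h2 : PadicInt.toZMod (b.repr x i) = 0 := congrFun hx i
        rw [← RingHom.mem_ker, PadicInt.ker_toZMod, PadicInt.maximalIdeal_eq_span_p,
          Ideal.mem_span_singleton] at h2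
        exact h2
      choose w hw using h1
      refine ⟨U.symm (∑ i, w i • b i), ?_⟩
      rw [hφ, LinearEquiv.apply_symm_apply]
      apply b.repr.injective
      ext i
      rw [map_smul, Finsupp.smul_apply, b.repr_sum_self, hw, smul_eq_mul]
    · rintro ⟨y, rfl⟩
      ext i
      simp [π, hφ]
  rw [← hker, AddSubgroup.index_ker, AddMonoidHom.range_eq_top.2 hsurj]
  rw [Nat.card_congr (AddSubgroup.topEquiv (G := Fin c → ZMod ℓ)).toEquiv]
  simp [Nat.card_eq_fintype_card, ZMod.card]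


theorem main_abs (M : Type u) [AddCommGroup M] [Module ℤ_[ℓ] M] [Module.Free ℤ_[ℓ] M]
    [Module.Finite ℤ_[ℓ] M]
    (f E : Module.End ℤ_[ℓ] M) (U : M ≃ₗ[ℤ_[ℓ]] M) (e : ℕ) (he : e = 1 ∨ e = 2)
    (hfE : ∀ x, f (E x) = 0) (hEf : ∀ x, E (f x) = 0) (hfix : ∀ x, f x = 0 → E x = x)
    (hU : ∀ x, E x = 0 → (f ^ e) x = (ℓ : ℤ_[ℓ]) • U x)
    (hUE : ∀ x, E (U x) = U (E x)) :
    (∀ x ∈ Submodule.torsion ℤ_[ℓ] (M ⧸ LinearMap.range f), (ℓ : ℤ_[ℓ]) • x = 0) ∧
      ∃ r : ℕ, r * e = Module.finrank ℤ_[ℓ] M - Module.finrank ℤ_[ℓ] (LinearMap.ker f) ∧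
        Nat.card (Submodule.torsion ℤ_[ℓ] (M ⧸ LinearMap.range f)) = ℓ ^ r := by
  classical
  have hprime : ℓ.Prime := Fact.out
  have hℓ0 : (ℓ : ℤ_[ℓ]) ≠ 0 := by exact_mod_cast hprime.ne_zero
  have hE2 : ∀ x, E (E x) = E x := fun x => hfix (E x) (hfE x)
  have hUsE : ∀ x, E (U.symm x) = U.symm (E x) := by
    intro x; apply U.injective; rw [← hUE]; simp
  have hkey1 : ∀ x, E x = 0 → ∃ y, f y = (ℓ : ℤ_[ℓ]) • x := by
    intro x hx
    have h1 : E (U.symm x) = 0 := by rw [hUsE, hx, map_zero]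
    have h2 := hU _ h1
    rw [LinearEquiv.apply_symm_apply] at h2
    rcases he with rfl | rfl
    · exact ⟨U.symm x, by simpa using h2⟩
    · exact ⟨f (U.symm x), by rw [← h2, pow_two]; rfl⟩
  have hT : ∀ x : M, (Submodule.Quotient.mk x : M ⧸ LinearMap.range f) ∈
      Submodule.torsion ℤ_[ℓ] (M ⧸ LinearMap.range f) ↔ E x = 0 := by
    intro x
    constructor
    · intro h
      obtain ⟨a, ha⟩ := (Submodule.mem_torsion_iff _).1 h
      have ha' : (a : ℤ_[ℓ]) • (Submodule.Quotient.mk x : M ⧸ LinearMap.range f) = 0 := ha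
      rw [← Submodule.Quotient.mk_smul, Submodule.Quotient.mk_eq_zero] at ha'
      obtain ⟨y, hy⟩ := ha'
      have h3 : (a : ℤ_[ℓ]) • E x = 0 := by rw [← map_smul, ← hy, hEf]
      exact (smul_eq_zero.1 h3).resolve_left (nonZeroDivisors.ne_zero a.2)
    · intro h
      obtain ⟨y, hy⟩ := hkey1 x h
      rw [Submodule.mem_torsion_iff]
      refine ⟨⟨(ℓ : ℤ_[ℓ]), mem_nonZeroDivisors_of_ne_zero hℓ0⟩, ?_⟩
      show (ℓ : ℤ_[ℓ]) • (Submodule.Quotient.mk x : M ⧸ LinearMap.range f) = 0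
      rw [← Submodule.Quotient.mk_smul, Submodule.Quotient.mk_eq_zero]
      exact ⟨y, hy⟩
  refine ⟨?_, ?_⟩
  · intro z hz
    obtain ⟨x, rfl⟩ := Submodule.Quotient.mk_surjective _ z
    obtain ⟨y, hy⟩ := hkey1 x ((hT x).1 hz)
    rw [← Submodule.Quotient.mk_smul, Submodule.Quotient.mk_eq_zero]
    exact ⟨y, hy⟩
  -- cardinality
  set M' : Submodule ℤ_[ℓ] M := LinearMap.ker E with hM'
  have hfM' : ∀ x ∈ M', f x ∈ M' := fun x _ => hEf x
  let f' : M' →ₗ[ℤ_[ℓ]] M' := f.restrict hfM'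
  have hUM' : M'.map (U : M →ₗ[ℤ_[ℓ]] M) = M' := by
    ext x
    simp only [Submodule.mem_map, hM', LinearMap.mem_ker, LinearEquiv.coe_coe]
    constructor
    · rintro ⟨y, hy, rfl⟩; rw [hUE, hy, map_zero]
    · intro hx; exact ⟨U.symm x, by rw [hUsE, hx, map_zero], by simp⟩
  let U' : M' ≃ₗ[ℤ_[ℓ]] M' := U.ofSubmodules M' M' hUM'
  let g : M' →ₗ[ℤ_[ℓ]] (M ⧸ LinearMap.range f) := (LinearMap.range f).mkQ ∘ₗ M'.subtype
  have hrange : ∀ z, z ∈ LinearMap.range g ↔ z ∈ Submodule.torsion ℤ_[ℓ] (M ⧸ LinearMap.range f) := by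
    intro z
    constructor
    · rintro ⟨x, rfl⟩
      exact (hT x.1).2 x.2
    · intro hz
      obtain ⟨x, rfl⟩ := Submodule.Quotient.mk_surjective _ z
      exact ⟨⟨x, (hT x).1 hz⟩, rfl⟩
  have hker : g.toAddMonoidHom.ker = f'.toAddMonoidHom.range := by
    ext x
    simp only [AddMonoidHom.mem_ker, AddMonoidHom.mem_range, LinearMap.toAddMonoidHom_coe]
    constructor
    · intro hx
      have hx' : (Submodule.Quotient.mk (x : M) : M ⧸ LinearMap.range f) = 0 := hx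
      rw [Submodule.Quotient.mk_eq_zero] at hx'
      obtain ⟨y, hy⟩ := hx'
      refine ⟨⟨y - E y, ?_⟩, ?_⟩
      · show E (y - E y) = 0
        rw [map_sub, hE2, sub_self]
      · apply Subtype.ext
        show f (y - E y) = x
        rw [map_sub, hfE, sub_zero, hy]
    · rintro ⟨y, rfl⟩
      show (Submodule.Quotient.mk (f y.1) : M ⧸ LinearMap.range f) = 0
      rw [Submodule.Quotient.mk_eq_zero]
      exact ⟨y.1, rfl⟩
  have hcard : Nat.card (Submodule.torsion ℤ_[ℓ] (M ⧸ LinearMap.range f))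
      = f'.toAddMonoidHom.range.index := by
    rw [← hker, AddSubgroup.index_ker]
    apply Nat.card_congr
    exact Equiv.subtypeEquivRight (fun z => (hrange z).symm)
  have hinj : Function.Injective f' := by
    rw [← LinearMap.ker_eq_bot, LinearMap.ker_eq_bot']
    intro x hx
    have h1 : f x.1 = 0 := congrArg Subtype.val hx
    apply Subtype.ext
    have h2 := hfix _ h1
    have h3 : E x.1 = 0 := x.2
    rw [← h2, h3]; rfl
  have hpow : (f'.toAddMonoidHom.range.index) ^ e = ℓ ^ Module.finrank ℤ_[ℓ] M' := by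
    have hφ : ∀ x : M', ((f' ^ e : Module.End ℤ_[ℓ] M')).toAddMonoidHom x = (ℓ : ℤ_[ℓ]) • U' x := by
      intro x
      apply Subtype.ext
      have h1 : ∀ (k : ℕ) (y : M'), (((f' ^ k : Module.End ℤ_[ℓ] M') y : M') : M) = (f ^ k) y.1 := by
        intro k
        induction k with
        | zero => intro y; simp
        | succ k ih =>
          intro y
          rw [pow_succ', pow_succ', Module.End.mul_apply, Module.End.mul_apply]
          show f ((f' ^ k) y : M') = _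
          rw [ih]
      show (((f' ^ e : Module.End ℤ_[ℓ] M') x : M') : M) = _
      rw [h1, hU _ x.2]
      rfl
    rw [← index_smul M' _ U' hφ]
    rcases he with rfl | rfl
    · simp
    · rw [pow_two (f' : Module.End ℤ_[ℓ] M')]
      have := index_range_comp f'.toAddMonoidHom f'.toAddMonoidHom hinj
      rw [pow_two, ← this]
      rfl
  have hrank : Module.finrank ℤ_[ℓ] M' =
      Module.finrank ℤ_[ℓ] M - Module.finrank ℤ_[ℓ] (LinearMap.ker f) := by
    have h1 := Submodule.finrank_quotient_add_finrank (LinearMap.ker E)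
    rw [E.quotKerEquivRange.finrank_eq] at h1
    have h2 : LinearMap.range E = LinearMap.ker f := by
      ext x
      simp only [LinearMap.mem_range, LinearMap.mem_ker]
      constructor
      · rintro ⟨y, rfl⟩; exact hfE y
      · intro hx; exact ⟨x, hfix x hx⟩
    rw [h2, ← hM'] at h1
    omega
  rw [hcard, ← hrank]
  set t := f'.toAddMonoidHom.range.index with ht
  have he0 : e ≠ 0 := by rcases he with rfl | rfl <;> norm_num
  have hdvd : t ∣ ℓ ^ Module.finrank ℤ_[ℓ] M' := by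
    rw [← hpow]; exact dvd_pow_self t he0
  obtain ⟨r, _, hr⟩ := (Nat.dvd_prime_pow hprime).1 hdvd
  refine ⟨r, ?_, hr⟩
  rw [hr, ← pow_mul] at hpow
  exact Nat.pow_right_injective hprime.two_le hpow


theorem case2 (M : Type u) [AddCommGroup M] [Module ℤ_[2] M] [Module.Free ℤ_[2] M]
    [Module.Finite ℤ_[2] M]
    (A : M ≃ₗ[ℤ_[2]] M) (hA : A ^ 2 = 1) (f : Module.End ℤ_[2] M)
    (hf : f = (A : M →ₗ[ℤ_[2]] M) - 1) (B : Module.End ℤ_[2] M) (hB : f = (2 : ℤ_[2]) • B) :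
    (∀ x ∈ Submodule.torsion ℤ_[2] (M ⧸ LinearMap.range f), ((2:ℕ) : ℤ_[2]) • x = 0) ∧
      ∃ r : ℕ, r * 1 = Module.finrank ℤ_[2] M - Module.finrank ℤ_[2] (LinearMap.ker f) ∧
        Nat.card (Submodule.torsion ℤ_[2] (M ⧸ LinearMap.range f)) = 2 ^ r := by
  have hAx : ∀ x, A x = x + f x := by intro x; rw [hf]; simp
  have h2 : (2 : ℤ_[2]) ≠ 0 := by norm_num
  have hAA : ∀ x, A (A x) = x := by
    intro x
    have := congrArg (fun T : M ≃ₗ[ℤ_[2]] M => T x) hA
    simpa [pow_two] using this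
  have hfx : ∀ x, f x = (2 : ℤ_[2]) • B x := by intro x; rw [hB]; rfl
  have hBB : ∀ x, B x + B (B x) = 0 := by
    intro x
    have h1 := hAA x
    rw [hAx, hAx, map_add] at h1
    have h3 : (4 : ℤ_[2]) • (B x + B (B x)) = 0 := by
      have : f x + (f x + f (f x)) = 0 := by
        have := congrArg (fun y => y - x) h1
        simp only [sub_self] at this
        rw [← this]; abel
      rw [hfx (f x), hfx x, map_smul] at this
      rw [← this]
      simp only [smul_add, smul_smul]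
      norm_num
      module
    exact (smul_eq_zero.1 h3).resolve_left (by norm_num)
  refine main_abs (ℓ := 2) M f (1 + B) (LinearEquiv.neg ℤ_[2]) 1 (Or.inl rfl) ?_ ?_ ?_ ?_ ?_
  · intro x
    simp only [LinearMap.add_apply, Module.End.one_apply, hfx, map_add]
    rw [hBB, smul_zero]
  · intro x
    simp only [LinearMap.add_apply, Module.End.one_apply, hfx, map_smul]
    rw [hBB, smul_zero]
  · intro x hx
    rw [hfx] at hx
    have := (smul_eq_zero.1 hx).resolve_left h2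
    simp [this]
  · intro x hx
    simp only [LinearMap.add_apply, Module.End.one_apply] at hx
    have hBx : B x = -x := by rw [eq_neg_iff_add_eq_zero, add_comm]; exact hx
    simp [hfx, hBx]
  · intro x
    simp [add_comm]


theorem case3 (M : Type u) [AddCommGroup M] [Module ℤ_[3] M] [Module.Free ℤ_[3] M]
    [Module.Finite ℤ_[3] M]
    (A : M ≃ₗ[ℤ_[3]] M) (hA : A ^ 3 = 1) (f : Module.End ℤ_[3] M)
    (hf : f = (A : M →ₗ[ℤ_[3]] M) - 1) (B : Module.End ℤ_[3] M) (hB : f ^ 2 = (3 : ℤ_[3]) • B) :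
    (∀ x ∈ Submodule.torsion ℤ_[3] (M ⧸ LinearMap.range f), ((3:ℕ) : ℤ_[3]) • x = 0) ∧
      ∃ r : ℕ, r * 2 = Module.finrank ℤ_[3] M - Module.finrank ℤ_[3] (LinearMap.ker f) ∧
        Nat.card (Submodule.torsion ℤ_[3] (M ⧸ LinearMap.range f)) = 3 ^ r := by
  have hAx : ∀ x, A x = x + f x := by intro x; rw [hf]; simp
  have h3 : (3 : ℤ_[3]) ≠ 0 := by norm_num
  have hAAA : ∀ x, A (A (A x)) = x := by
    intro x
    have := congrArg (fun T : M ≃ₗ[ℤ_[3]] M => T x) hA
    simpa [pow_succ] using this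
  have hff : ∀ x, f (f x) = (3 : ℤ_[3]) • B x := by
    intro x
    have := congrArg (fun T : Module.End ℤ_[3] M => T x) hB
    simpa [pow_two] using this
  have hcan : ∀ y : M, (3 : ℤ_[3]) • y = 0 → y = 0 := fun y hy =>
    (smul_eq_zero.1 hy).resolve_left h3
  have hinj3 : ∀ y z : M, (3 : ℤ_[3]) • y = (3 : ℤ_[3]) • z → y = z := fun y z h =>
    smul_right_injective M h3 h
  have hfB : ∀ x, f (B x) = B (f x) := by
    intro x
    apply hinj3
    rw [← map_smul, ← hff, ← hff]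
  have hEf : ∀ x, f x + f (f x) + B (f x) = 0 := by
    intro x
    have h1 := hAAA x
    rw [hAx (A (A x)), hAx (A x), hAx x] at h1
    simp only [map_add] at h1
    apply hcan
    rw [smul_add, smul_add, ← hff (f x)]
    rw [← sub_eq_zero] at h1
    rw [← h1]
    module
  have hBA : ∀ x, B (A x) = A (B x) := by
    intro x
    rw [hAx, hAx, map_add, hfB]
  refine main_abs (ℓ := 3) M f (1 + f + B) (A.trans (LinearEquiv.neg ℤ_[3])) 2 (Or.inr rfl)
    ?_ ?_ ?_ ?_ ?_
  · intro x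
    simp only [LinearMap.add_apply, Module.End.one_apply, map_add, hfB]
    exact hEf x
  · intro x
    simp only [LinearMap.add_apply, Module.End.one_apply]
    exact hEf x
  · intro x hx
    have hBx : B x = 0 := by
      apply hcan
      rw [← hff, hx, map_zero]
    simp [hx, hBx]
  · intro x hx
    simp only [LinearMap.add_apply, Module.End.one_apply] at hx
    rw [pow_two, Module.End.mul_apply, hff]
    simp only [LinearEquiv.trans_apply, LinearEquiv.neg_apply, hAx, Nat.cast_ofNat]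
    congr 1
    rw [eq_neg_iff_add_eq_zero, ← hx]; abel
  · intro x
    simp only [LinearMap.add_apply, Module.End.one_apply, LinearEquiv.trans_apply,
      LinearEquiv.neg_apply, map_neg, map_add, hBA]
    rw [hAx (f x), hAx x, map_add]
    abel

theorem main (ℓ : ℕ) [Fact ℓ.Prime]
    (M : Type u) [AddCommGroup M] [Module ℤ_[ℓ] M] [Module.Free ℤ_[ℓ] M] [Module.Finite ℤ_[ℓ] M]
    (A : M ≃ₗ[ℤ_[ℓ]] M) (hA : A ^ ℓ = 1) (f : Module.End ℤ_[ℓ] M) (hf : f = (A : M →ₗ[ℤ_[ℓ]] M) - 1)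
    (hcase : (ℓ = 2 ∧ ∃ B : Module.End ℤ_[ℓ] M, f = (2 : ℤ_[ℓ]) • B) ∨
      (ℓ = 2 ∧ ∃ B : Module.End ℤ_[ℓ] M, f ^ 2 = (4 : ℤ_[ℓ]) • B) ∨
      (ℓ = 3 ∧ ∃ B : Module.End ℤ_[ℓ] M, f ^ 2 = (3 : ℤ_[ℓ]) • B))
    (c : ℕ) (hc : c = Module.finrank ℤ_[ℓ] M - Module.finrank ℤ_[ℓ] (LinearMap.ker f)) :
    (∀ x ∈ Submodule.torsion ℤ_[ℓ] (M ⧸ LinearMap.range f), (ℓ : ℤ_[ℓ]) • x = 0) ∧
      ∃ r : ℕ, r * (ℓ - 1) = c ∧
        Nat.card (Submodule.torsion ℤ_[ℓ] (M ⧸ LinearMap.range f)) = ℓ ^ r := by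
  rcases hcase with ⟨h2, B, hB⟩ | ⟨h2, B, hB⟩ | ⟨h3, B, hB⟩
  · subst h2
    obtain ⟨h1, r, hr, hcard⟩ := case2 M A hA f hf B hB
    refine ⟨h1, r, ?_, hcard⟩
    rw [hc]; simpa using hr
  · subst h2
    have hAx : ∀ x, A x = x + f x := by intro x; rw [hf]; simp
    have hAA : ∀ x, A (A x) = x := by
      intro x
      have := congrArg (fun T : M ≃ₗ[ℤ_[2]] M => T x) hA
      simpa [pow_two] using this
    have hff : ∀ x, f (f x) = (4 : ℤ_[2]) • B x := by
      intro x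
      have := congrArg (fun T : Module.End ℤ_[2] M => T x) hB
      simpa [pow_two] using this
    have hB' : f = (2 : ℤ_[2]) • (-B) := by
      ext x
      have h1 := hAA x
      rw [hAx, hAx, map_add, hff] at h1
      rw [← sub_eq_zero] at h1
      have h3 : (2 : ℤ_[2]) • (f x - ((2 : ℤ_[2]) • (-B)) x) = 0 := by
        rw [← h1]
        simp only [LinearMap.smul_apply, LinearMap.neg_apply]
        have h4 : (4 : ℤ_[2]) = 2 * 2 := by norm_num
        rw [h4]
        module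
      have := (smul_eq_zero.1 h3).resolve_left (by norm_num)
      exact sub_eq_zero.1 this
    obtain ⟨h1, r, hr, hcard⟩ := case2 M A hA f hf (-B) hB'
    refine ⟨h1, r, ?_, hcard⟩
    rw [hc]; simpa using hr
  · subst h3
    obtain ⟨h1, r, hr, hcard⟩ := case3 M A hA f hf B hB
    refine ⟨h1, r, ?_, hcard⟩
    rw [hc]; simpa using hr

end Aux

/-- Let ℓ be a prime number, M a free ℤ_ℓ-module of finite rank, A an automorphism of M with A^ℓ = 1,
and c the rank of M minus the rank of the submodule of A-invariants. Assume that ℓ = 2 and A − 1 ∈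
2·End(M), or that ℓ = 2 and (A − 1)² ∈ 4·End(M), or that ℓ = 3 and (A − 1)² ∈ 3·End(M). Then the
torsion submodule of M/(A − 1)M is a vector space over ℤ/ℓℤ of dimension c/(ℓ − 1): it is killed by
ℓ and has ℓ^r elements for some r with r(ℓ − 1) = c. -/
theorem result (ℓ : ℕ) [Fact ℓ.Prime]
    (M : Type u) [AddCommGroup M] [Module ℤ_[ℓ] M] [Module.Free ℤ_[ℓ] M] [Module.Finite ℤ_[ℓ] M]
    (A : M ≃ₗ[ℤ_[ℓ]] M) (hA : A ^ ℓ = 1) (f : Module.End ℤ_[ℓ] M) (hf : f = (A : M →ₗ[ℤ_[ℓ]] M) - 1)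
    (hcase : (ℓ = 2 ∧ ∃ B : Module.End ℤ_[ℓ] M, f = (2 : ℤ_[ℓ]) • B) ∨
      (ℓ = 2 ∧ ∃ B : Module.End ℤ_[ℓ] M, f ^ 2 = (4 : ℤ_[ℓ]) • B) ∨
      (ℓ = 3 ∧ ∃ B : Module.End ℤ_[ℓ] M, f ^ 2 = (3 : ℤ_[ℓ]) • B))
    (c : ℕ) (hc : c = Module.finrank ℤ_[ℓ] M - Module.finrank ℤ_[ℓ] (LinearMap.ker f)) :
    (∀ x ∈ Submodule.torsion ℤ_[ℓ] (M ⧸ LinearMap.range f), (ℓ : ℤ_[ℓ]) • x = 0) ∧
      ∃ r : ℕ, r * (ℓ - 1) = c ∧
        Nat.card (Submodule.torsion ℤ_[ℓ] (M ⧸ LinearMap.range f)) = ℓ ^ r := by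
  exact main ℓ M A hA f hf hcase c hc

end Groth.Agent.S18599
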