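import Groth.Statements.S18600
import Mathlib

set_option autoImplicit false
universe v
open SSRed

namespace Groth.Agent.S18600

section Aux
open Polynomial Matrix

/-- key identity -/
theorem key {R : Type*} [CommRing R] {g : ℕ} (A : Matrix (Fin g) (Fin g) R) :
    expand R 2 ((A - 1) ^ 2).charpoly =
      (-1) ^ g * A.charpoly.comp (X + 1) * A.charpoly.comp (1 - X) := by
  have h1 : expand R 2 ((A - 1) ^ 2).charpoly
      = eval (X ^ 2) ((((A - 1) ^ 2).map (C : R →+* R[X])).charpoly) := by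
    rw [Matrix.charpoly_map, coe_expand, eval₂_eq_eval_map]
  have h2 : ∀ y : R[X], A.charpoly.comp y = eval y ((A.map (C : R →+* R[X])).charpoly) := by
    intro y
    rw [Matrix.charpoly_map, Polynomial.comp, eval₂_eq_eval_map]
  rw [h1, h2, h2, Matrix.eval_charpoly, Matrix.eval_charpoly, Matrix.eval_charpoly]
  set A' := A.map (C : R →+* R[X]) with hA'
  have h3 : ((A - 1) ^ 2).map (C : R →+* R[X]) = (A' - 1) ^ 2 := by
    have := (RingHom.mapMatrix (C : R →+* R[X]) (m := Fin g)).map_pow (A - 1) 2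
    simp only [RingHom.mapMatrix_apply] at this
    rw [this, Matrix.map_sub _ (by simp), Matrix.map_one _ (by simp) (by simp)]
  rw [h3]
  have h4 : (Matrix.scalar (Fin g)) ((X:R[X]) ^ 2) - (A' - 1) ^ 2
      = ((Matrix.scalar (Fin g)) ((X:R[X]) + 1) - A') * (-((Matrix.scalar (Fin g)) (1 - (X:R[X])) - A')) := by
    have hc : Commute ((Matrix.scalar (Fin g)) (X:R[X])) (A' - 1) :=
      Matrix.scalar_commute _ (fun _ => Commute.all _ _) _
    simp only [map_add, map_sub, map_pow, map_one]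
    rw [pow_two, pow_two, hc.mul_self_sub_mul_self_eq']
    congr 1 <;> abel
  rw [h4, Matrix.det_mul, Matrix.det_neg, Fintype.card_fin]
  ring

/-- scaling -/
theorem scal {R : Type*} [CommRing R] {g : ℕ} (c : R) (B : Matrix (Fin g) (Fin g) R) :
    (c • B).charpoly.comp (C c * X) = C c ^ g * B.charpoly := by
  have h2 : ∀ (M : Matrix (Fin g) (Fin g) R) (y : R[X]),
      M.charpoly.comp y = eval y ((M.map (C : R →+* R[X])).charpoly) := by
    intro M y
    rw [Matrix.charpoly_map, Polynomial.comp, eval₂_eq_eval_map]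
  rw [h2, Matrix.eval_charpoly]
  have : (Matrix.scalar (Fin g)) (C c * X) - (c • B).map (C : R →+* R[X]) = C c • B.charmatrix := by
    rw [Matrix.charmatrix]
    ext i j
    simp [Matrix.scalar_apply, Matrix.diagonal_apply, mul_sub]
  rw [this, Matrix.det_smul, Fintype.card_fin, Matrix.charpoly]

theorem scal_coeff {R : Type*} [CommRing R] [IsDomain R] {g : ℕ} (c : R) (hc : c ≠ 0)
    (B : Matrix (Fin g) (Fin g) R) (k : ℕ) (hk : k ≤ g) :
    (c • B).charpoly.coeff k = c ^ (g - k) * B.charpoly.coeff k := by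
  have := congrArg (fun p => p.coeff k) (scal c B)
  simp only [comp_C_mul_X_coeff, ← C_pow, coeff_C_mul] at this
  have h3 : c ^ g = c ^ (g - k) * c ^ k := by rw [← pow_add, Nat.sub_add_cancel hk]
  rw [h3] at this
  have hck : c ^ k ≠ 0 := pow_ne_zero _ hc
  apply mul_right_cancel₀ hck
  rw [this]; ring


theorem dvd_of_local (n : ℕ) (hn : 0 < n) (j : ℕ) (c : ℤ)
    (h : ∀ (ℓ : ℕ) [Fact ℓ.Prime], ℓ ∣ n → ((n : ℤ_[ℓ]) ^ j ∣ (c : ℤ_[ℓ]))) : ((n:ℤ) ^ j ∣ c) := by
  by_cases hc : c = 0
  · subst hc; exact dvd_zero _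
  have hc' : c.natAbs ≠ 0 := Int.natAbs_ne_zero.2 hc
  have hnj : n ^ j ≠ 0 := pow_ne_zero _ hn.ne'
  rw [← Int.natAbs_dvd_natAbs, Int.natAbs_pow, Int.natAbs_natCast]
  rw [← Nat.factorization_prime_le_iff_dvd hnj hc']
  intro p hp
  by_cases hpn : p ∣ n
  · haveI : Fact p.Prime := ⟨hp⟩
    rw [← hp.pow_dvd_iff_le_factorization hc']
    have h1 : p ^ (n ^ j).factorization p ∣ n ^ j := Nat.ordProj_dvd _ _
    have h2 : ((p : ℤ_[p]) ^ (n ^ j).factorization p) ∣ ((c : ℤ) : ℤ_[p]) := by
      refine dvd_trans ?_ (h p hpn)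
      obtain ⟨m, hm⟩ := h1
      refine ⟨(m : ℤ_[p]), ?_⟩
      have := congrArg (fun x : ℕ => (x : ℤ_[p])) hm
      simpa using this
    rw [PadicInt.pow_p_dvd_int_iff] at h2
    have := Int.natAbs_dvd_natAbs.2 h2
    simpa [Int.natAbs_pow] using this
  · rw [Nat.factorization_pow]
    simp [Nat.factorization_eq_zero_of_not_dvd hpn]

theorem main (n : ℕ) (hn : 0 < n) (g : ℕ) (f : Polynomial ℤ)
    (hf : f.Monic)
    (hA : ∀ (ℓ : ℕ) [Fact ℓ.Prime], ℓ ∣ n → ∃ A : Matrix (Fin g) (Fin g) ℤ_[ℓ],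
      A.charpoly = f.map (Int.castRingHom ℤ_[ℓ]) ∧
        ∃ B : Matrix (Fin g) (Fin g) ℤ_[ℓ], (A - 1) ^ 2 = (n : ℤ_[ℓ]) • B)
    (K : Type v) [Field K] [CharZero K] (α s : K) (hα : Polynomial.aeval α f = 0) (hs : s ^ 2 = (n : K)) :
    IsIntegral ℤ ((α - 1) / s) := by
  classical
  set d := f.natDegree with hd
  set q : ℤ[X] := (-1) ^ d * f.comp (X + 1) * f.comp (1 - X) with hq
  have hf1 : (f.comp (X + 1)).Monic := by
    have := hf.comp_X_add_C (1:ℤ)
    simpa using this
  have hf1d : (f.comp (X + 1)).natDegree = d := by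
    have h0 : (X + 1 : ℤ[X]) = X + C 1 := by simp
    rw [h0, natDegree_comp, natDegree_X_add_C, mul_one]
  have hf2 : f.comp (1 - X) = (f.comp (X + 1)).comp (-X) := by
    rw [comp_assoc]; congr 1; simp [add_comm, sub_eq_add_neg]
  have hqm : q.Monic := by
    have h1 := hf1.neg_one_pow_natDegree_mul_comp_neg_X
    rw [hf1d, ← hf2] at h1
    have : q = ((-1) ^ d * f.comp (1 - X)) * f.comp (X + 1) := by rw [hq]; ring
    rw [this]
    exact h1.mul hf1
  have heven : q.comp (-X) = q := by
    rw [hq, hf2]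
    simp only [mul_comp, pow_comp, neg_comp, one_comp, comp_neg_X_comp_neg_X]
    ring
  have hodd : ∀ k, ¬ 2 ∣ k → q.coeff k = 0 := by
    intro k hk
    have h1 := congrArg (fun p => p.coeff k) heven
    have h2 : (-X : ℤ[X]) = C (-1) * X := by simp
    simp only [h2, comp_C_mul_X_coeff] at h1
    have hk' : Odd k := Nat.odd_iff.2 (Nat.two_dvd_ne_zero.1 hk)
    rw [hk'.neg_one_pow] at h1
    linarith
  set h := contract 2 q with hh
  have hexp : expand ℤ 2 h = q := by
    ext k
    rw [coeff_expand two_pos, coeff_contract two_ne_zero]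
    split_ifs with hk
    · rw [Nat.div_mul_cancel hk]
    · exact (hodd k hk).symm
  have hmonic : h.Monic := (monic_expand_iff two_pos).1 (hexp ▸ hqm)
  have hqdeg : q.natDegree = 2 * d := by
    have h1 := hf1.neg_one_pow_natDegree_mul_comp_neg_X
    rw [hf1d, ← hf2] at h1
    have : q = ((-1) ^ d * f.comp (1 - X)) * f.comp (X + 1) := by rw [hq]; ring
    rw [this, h1.natDegree_mul hf1, hf1d]
    have : ((-1) ^ d * f.comp (1 - X)).natDegree = d := by
      rw [hf2]
      have h3 : ((-1 : ℤ[X]) ^ d) = C ((-1) ^ d) := by simp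
      rw [h3, natDegree_C_mul (by simp)]
      rw [natDegree_comp]; simp [hf1d]
    rw [this]; ring
  have hdeg : h.natDegree = d := by
    have := natDegree_expand 2 h
    rw [hexp, hqdeg] at this
    omega
  have hroot : aeval ((α - 1) ^ 2) h = 0 := by
    rw [← expand_aeval, hexp, hq]
    simp only [map_mul, aeval_comp, map_add, aeval_X, map_one, sub_add_cancel, hα, mul_zero, zero_mul]
  have hdiv : ∀ k, k ≤ d → ((n:ℤ) ^ (d - k) ∣ h.coeff k) := by
    intro k hk
    apply dvd_of_local n hn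
    intro ℓ _ hℓ
    obtain ⟨A, hAf, B, hB⟩ := hA ℓ hℓ
    have hg : g = d := by
      have h1 := A.charpoly_natDegree_eq_dim
      rw [hAf, hf.natDegree_map, Fintype.card_fin] at h1
      exact h1.symm
    have hmap : h.map (Int.castRingHom ℤ_[ℓ]) = ((A - 1) ^ 2).charpoly := by
      apply expand_injective two_pos
      rw [key, ← map_expand, hexp, hq, hAf, hg]
      simp only [Polynomial.map_mul, Polynomial.map_pow, Polynomial.map_neg, Polynomial.map_one,
        map_comp, Polynomial.map_add, Polynomial.map_sub, map_X]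
    rw [hB] at hmap
    have h1 := congrArg (fun p => p.coeff k) hmap
    simp only [coeff_map] at h1
    have hn0 : (n : ℤ_[ℓ]) ≠ 0 := by exact_mod_cast hn.ne'
    rw [scal_coeff _ hn0 B k (hk.trans hg.ge)] at h1
    rw [← hg]
    refine ⟨B.charpoly.coeff k, ?_⟩
    simpa using h1
  -- the integral element γ = (α-1)^2/n
  have hnK : (n : K) ≠ 0 := by exact_mod_cast hn.ne'
  have hs0 : s ≠ 0 := by
    intro h0; rw [h0] at hs; simp at hs; exact hnK hs.symm
  set γ : K := (α - 1) ^ 2 / n with hγ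
  have hδ : (α - 1) ^ 2 = n * γ := by rw [hγ]; field_simp
  suffices hint : IsIntegral ℤ γ by
    have h2 : ((α - 1) / s) ^ 2 = γ := by rw [div_pow, hs]
    exact IsIntegral.of_pow two_pos (h2 ▸ hint)
  choose! c hc using hdiv
  set h' : ℤ[X] := X ^ d + ∑ k ∈ Finset.range d, C (c k) * X ^ k with hh'
  have hm' : h'.Monic := by
    apply monic_X_pow_add
    refine (degree_sum_le _ _).trans_lt ?_
    refine (Finset.sup_lt_iff (WithBot.bot_lt_coe d)).2 fun k hk => ?_
    exact (degree_C_mul_X_pow_le _ _).trans_lt (WithBot.coe_lt_coe.2 (Finset.mem_range.1 hk))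
  refine ⟨h', hm', ?_⟩
  rw [← aeval_def]
  have h3 : (n:K) ^ d * aeval γ h' = aeval ((α - 1) ^ 2) h := by
    have hR : aeval ((α - 1) ^ 2) h
        = ∑ i ∈ Finset.range (d + 1), (h.coeff i : K) * ((α - 1) ^ 2) ^ i := by
      rw [aeval_eq_sum_range, hdeg]
      simp [zsmul_eq_mul]
    have hL : aeval γ h' = γ ^ d + ∑ k ∈ Finset.range d, (c k : K) * γ ^ k := by
      simp [hh']
    rw [hR, hL, Finset.sum_range_succ, mul_add, Finset.mul_sum]
    have hcd : h.coeff d = 1 := by
      have := hmonic.coeff_natDegree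
      rwa [hdeg] at this
    rw [hcd, hδ, add_comm]
    congr 1
    · apply Finset.sum_congr rfl
      intro k hk
      have hk' : k ≤ d := (Finset.mem_range.1 hk).le
      rw [hc k hk', mul_pow]
      push_cast
      have : (n:K) ^ d = (n:K) ^ (d - k) * (n:K) ^ k := by
        rw [← pow_add, Nat.sub_add_cancel hk']
      rw [this]; ring
    · rw [mul_pow]; simp
  rw [hroot] at h3
  exact (mul_eq_zero.1 h3).resolve_left (pow_ne_zero _ hnK)

end Aux

/-- Let n be a positive integer, g a natural number and f ∈ ℤ[x] a monic polynomial such that for every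
prime ℓ dividing n there is a g × g matrix A_ℓ over ℤ_ℓ whose characteristic polynomial is f and
such that (A_ℓ − 1)² lies in n·M_g(ℤ_ℓ). Then for every root α of f in a field of characteristic
zero and every square root s of n in that field, (α − 1)/s is integral over ℤ. (The published
statement is for matrices of size 2d and speaks of the eigenvalues of the A_ℓ, which are the roots
of their common characteristic polynomial f; the parity of the size plays no role.) -/
theorem result (n : ℕ) (hn : 0 < n) (g : ℕ) (f : Polynomial ℤ)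
    (hf : f.Monic)
    (hA : ∀ (ℓ : ℕ) [Fact ℓ.Prime], ℓ ∣ n → ∃ A : Matrix (Fin g) (Fin g) ℤ_[ℓ],
      A.charpoly = f.map (Int.castRingHom ℤ_[ℓ]) ∧
        ∃ B : Matrix (Fin g) (Fin g) ℤ_[ℓ], (A - 1) ^ 2 = (n : ℤ_[ℓ]) • B)
    (K : Type v) [Field K] [CharZero K] (α s : K) (hα : Polynomial.aeval α f = 0) (hs : s ^ 2 = (n : K)) :
    IsIntegral ℤ ((α - 1) / s) := by
  exact main n hn g f hf hA K α s hα hs

end Groth.Agent.S18600
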