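import Groth.Statements.S18614
import Mathlib.LinearAlgebra.Basis.VectorSpace
import Mathlib.LinearAlgebra.LinearPMap

set_option autoImplicit false
universe u v
open LinTop

namespace Groth.Agent.S18614

lemma continuous_of_le_ker {k : Type u} {M : Type v} [Field k]
    [TopologicalSpace k] [DiscreteTopology k] [AddCommGroup M] [Module k M] [TopologicalSpace M]
    [IsTopologicalAddGroup M] (U : Submodule k M) (hU : IsOpen (U : Set M)) (f : M →ₗ[k] k)
    (hf : U ≤ LinearMap.ker f) : Continuous f := by
  rw [continuous_discrete_rng]
  intro b
  rw [isOpen_iff_mem_nhds]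
  intro y hy
  have hc : Continuous (fun z : M => z - y) := continuous_id.sub continuous_const
  have h0 : (fun z : M => z - y) ⁻¹' (U : Set M) ∈ nhds y :=
    hc.continuousAt.preimage_mem_nhds (by simpa using hU.mem_nhds U.zero_mem)
  refine Filter.mem_of_superset h0 ?_
  intro z hz
  have hz' : f (z - y) = 0 := hf hz
  have hy' : f y = b := hy
  change f z = b
  rw [map_sub, sub_eq_zero] at hz'
  rw [hz', hy']

/-- Let k be a field carrying the discrete topology and M a separated topological k-module with a
k-linear topology (the open k-submodules form a basis of neighbourhoods of zero and M is a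
topological additive group). For a closed submodule M₁, the perpendicular of the perpendicular of
M₁, both taken with respect to the pairing of M with its continuous dual (the continuous k-linear
maps M → k), is M₁ itself: an element killed by every continuous functional vanishing on M₁ belongs
to M₁. -/
theorem result (k : Type u) (M : Type v) [Field k]
    [TopologicalSpace k] [DiscreteTopology k] [AddCommGroup M] [Module k M] [TopologicalSpace M]
    [IsTopologicalAddGroup M] [IsLinearTopology k M] [T2Space M]
    (M₁ : Submodule k M) (hM₁ : IsClosed (M₁ : Set M)) (x : M)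
    (hx : ∀ φ : M →L[k] k, (∀ m ∈ M₁, φ m = 0) → φ x = 0) : x ∈ M₁ := by
  by_contra hxM
  have hopen : IsOpen ((M₁ : Set M)ᶜ) := hM₁.isOpen_compl
  have hx0 : (fun y => x + y) ⁻¹' ((M₁ : Set M)ᶜ) ∈ nhds (0 : M) := by
    have hc : Continuous (fun y : M => x + y) := continuous_const.add continuous_id
    exact hc.continuousAt.preimage_mem_nhds (by simpa using hopen.mem_nhds hxM)
  obtain ⟨U, hUopen, hUsub⟩ := (IsLinearTopology.hasBasis_open_submodule k).mem_iff.1 hx0
  have hxN : x ∉ M₁ ⊔ U := by
    intro h
    obtain ⟨a, ha, b, hb, hab⟩ := Submodule.mem_sup.1 h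
    have h1 : x + (-b) ∈ (M₁ : Set M)ᶜ := hUsub (U.neg_mem hb)
    apply h1
    have h2 : x + -b = a := by rw [← hab]; abel
    rw [h2]; exact ha
  obtain ⟨f, hfx, hfker⟩ := Submodule.exists_le_ker_of_notMem hxN
  have hfcont : Continuous f := continuous_of_le_ker U hUopen f (le_sup_right.trans hfker)
  exact hfx (hx ⟨f, hfcont⟩ (fun m hm => hfker (le_sup_left (a := M₁) hm)))

end Groth.Agent.S18614
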