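import Groth.Statements.S18615
import Mathlib.LinearAlgebra.Basis.VectorSpace
import Mathlib.LinearAlgebra.LinearPMap

set_option autoImplicit false
universe u v
open LinTop

namespace Groth.Agent.S18615

lemma continuous_of_le_ker {k : Type u} {M : Type v} [Field k]
    [TopologicalSpace k] [DiscreteTopology k] [AddCommGroup M] [Module k M] [TopologicalSpace M]
    [IsTopologicalAddGroup M] (U : Submodule k M) (hU : IsOpen (U : Set M)) (f : M →ₗ[k] k)
    (hf : U ≤ LinearMap.ker f) : Continuous f := by
  rw [continuous_discrete_rng]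
  intro b
  rw [isOpen_iff_mem_nhds]
  intro y hy
  have hc : Continuous (fun z : M => z - y) := continuous_id.sub continuous_const
  have h0 : (fun z : M => z - y) ⁻¹' (U : Set M) ∈ nhds y :=
    hc.continuousAt.preimage_mem_nhds (by simpa using hU.mem_nhds U.zero_mem)
  refine Filter.mem_of_superset h0 ?_
  intro z hz
  have hz' : f (z - y) = 0 := hf hz
  have hy' : f y = b := hy
  change f z = b
  rw [map_sub, sub_eq_zero] at hz'
  rw [hz', hy']

/-- Let k be a field carrying the discrete topology and M a separated topological k-module with a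
k-linear topology (open k-submodules form a basis of neighbourhoods of zero, M a topological
additive group). For closed submodules M₁ ⊆ M₂ there is a short exact sequence 0 → M₂^⊥ → M₁^⊥ →
(M₂/M₁)^* → 0 of plain k-modules, where ⊥ denotes the annihilator in the continuous dual of M and *
the continuous dual. Stated here as its one non-formal part, surjectivity on the right: every
continuous functional on M₂ (subspace topology) that vanishes on M₁ is the restriction of a
continuous functional on M vanishing on M₁ (continuous functionals on M₂/M₁ being the continuous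
functionals on M₂ that kill M₁). -/
theorem result (k : Type u) (M : Type v) [Field k]
    [TopologicalSpace k] [DiscreteTopology k] [AddCommGroup M] [Module k M] [TopologicalSpace M]
    [IsTopologicalAddGroup M] [IsLinearTopology k M] [T2Space M]
    (M₁ M₂ : Submodule k M) (h₁₂ : M₁ ≤ M₂) (hM₁ : IsClosed (M₁ : Set M))
    (hM₂ : IsClosed (M₂ : Set M)) (ψ : M₂ →L[k] k)
    (hψ : ∀ m : M₂, (m : M) ∈ M₁ → ψ m = 0) :
    ∃ φ : M →L[k] k, (∀ m ∈ M₁, φ m = 0) ∧ ∀ m : M₂, φ (m : M) = ψ m := by
  have hker : IsOpen (ψ ⁻¹' {0}) := (isOpen_discrete _).preimage ψ.continuous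
  obtain ⟨V, hVopen, hV⟩ := isOpen_induced_iff.1 hker
  have h0V : (0 : M) ∈ V := by
    have : (0 : M₂) ∈ Subtype.val ⁻¹' V := by rw [hV]; simp
    exact this
  obtain ⟨U, hUopen, hUV⟩ :=
    (IsLinearTopology.hasBasis_open_submodule k).mem_iff.1 (hVopen.mem_nhds h0V)
  have hU : ∀ x : M₂, (x : M) ∈ U → ψ x = 0 := by
    intro x hxU
    have : x ∈ Subtype.val ⁻¹' V := hUV hxU
    rw [hV] at this
    exact this
  let f : M →ₗ.[k] k := ⟨M₂, (ψ : M₂ →ₗ[k] k)⟩
  let g : M →ₗ.[k] k := ⟨U, 0⟩
  have hfg : ∀ (x : f.domain) (y : g.domain), (x : M) = y → f x = g y := by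
    intro x y hxy
    change ψ x = 0
    exact hU x (by rw [hxy]; exact y.2)
  obtain ⟨G, hG⟩ := (f.sup g hfg).toFun.exists_extend
  have hG' : ∀ z : (f.sup g hfg).domain, G z = (f.sup g hfg) z := fun z => by
    have := congrArg (fun l => l z) hG; exact this
  have hGM₂ : ∀ m : M₂, G m = ψ m := by
    intro m
    have hm : (m : M) ∈ (f.sup g hfg).domain := (LinearPMap.left_le_sup f g hfg).1 m.2
    rw [show G (m : M) = G ((⟨m, hm⟩ : (f.sup g hfg).domain) : M) from rfl, hG']
    exact ((LinearPMap.left_le_sup f g hfg).2 (x := m) (y := ⟨m, hm⟩) rfl).symm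
  have hGU : U ≤ LinearMap.ker G := by
    intro u hu
    have hm : u ∈ (f.sup g hfg).domain := (LinearPMap.right_le_sup f g hfg).1 hu
    rw [LinearMap.mem_ker, show G u = G ((⟨u, hm⟩ : (f.sup g hfg).domain) : M) from rfl, hG']
    exact ((LinearPMap.right_le_sup f g hfg).2 (x := ⟨u, hu⟩) (y := ⟨u, hm⟩) rfl).symm
  refine ⟨⟨G, continuous_of_le_ker U hUopen G hGU⟩, ?_, ?_⟩
  · intro m hm
    exact (hGM₂ ⟨m, h₁₂ hm⟩).trans (hψ ⟨m, h₁₂ hm⟩ hm)
  · intro m; exact hGM₂ m

end Groth.Agent.S18615
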