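import Groth.Statements.S18616
import Mathlib
-- import your own Groth.Agent.* helpers here

set_option autoImplicit false
set_option linter.unusedSectionVars false
set_option linter.style.haveILetI false
set_option linter.unusedVariables false
universe u
open DeRham

namespace Groth.Agent.S18616

section PS
variable {k : Type u} [Field k] [CharZero k] {σ : Type u} [Fintype σ]

/-- Euler operator + q. -/
noncomputable def eu (q : ℕ) (f : MvPowerSeries σ k) : MvPowerSeries σ k :=
  ∑ i, MvPowerSeries.X i * MvPowerSeries.pderiv k i f + q • f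

lemma coeff_X_mul_pderiv (i : σ) (f : MvPowerSeries σ k) (m : σ →₀ ℕ) :
    MvPowerSeries.coeff m (MvPowerSeries.X i * MvPowerSeries.pderiv k i f)
      = (m i : k) * MvPowerSeries.coeff m f := by
  classical
  rw [MvPowerSeries.X_def, MvPowerSeries.coeff_monomial_mul]
  split_ifs with h
  · rw [MvPowerSeries.coeff_pderiv, one_mul]
    have h1 : 1 ≤ m i := by simpa using h i
    have : m - Finsupp.single i 1 + Finsupp.single i 1 = m := tsub_add_cancel_of_le h
    rw [this, mul_comm]
    congr 1
    simp only [Finsupp.coe_tsub, Pi.sub_apply, Finsupp.single_eq_same]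
    rw [← Nat.cast_one (R := k), ← Nat.cast_add, Nat.sub_add_cancel h1]
  · have : m i = 0 := by
      by_contra h0
      apply h
      intro j
      by_cases hj : j = i
      · subst hj; simp; omega
      · simp [Ne.symm hj]
    simp [this]

lemma coeff_eu (q : ℕ) (f : MvPowerSeries σ k) (m : σ →₀ ℕ) :
    MvPowerSeries.coeff m (eu q f) = ((∑ i, m i + q : ℕ) : k) * MvPowerSeries.coeff m f := by
  unfold eu
  rw [map_add, map_sum, map_nsmul]
  simp_rw [coeff_X_mul_pderiv]
  rw [← Finset.sum_mul, nsmul_eq_mul, ← add_mul]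
  push_cast
  rfl

lemma eu_add (q : ℕ) (f g : MvPowerSeries σ k) : eu q (f + g) = eu q f + eu q g := by
  ext m
  simp only [coeff_eu, map_add, mul_add]

lemma eu_zero (q : ℕ) : eu q (0 : MvPowerSeries σ k) = 0 := by
  ext m
  simp only [coeff_eu, map_zero, mul_zero]

lemma eu_injective (q : ℕ) (hq : 0 < q) (f : MvPowerSeries σ k) (h : eu q f = 0) : f = 0 := by
  ext m
  have := congrArg (MvPowerSeries.coeff m) h
  rw [coeff_eu, map_zero, mul_eq_zero] at this
  rcases this with h0 | h0
  · exfalso
    have : (∑ i, m i + q : ℕ) = 0 := by exact_mod_cast h0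
    omega
  · simpa using h0

lemma eu_surjective (q : ℕ) (hq : 0 < q) (r : MvPowerSeries σ k) : ∃ f, eu q f = r := by
  let g : MvPowerSeries σ k := fun m => ((∑ i, m i + q : ℕ) : k)⁻¹ * MvPowerSeries.coeff m r
  refine ⟨g, ?_⟩
  ext m
  rw [coeff_eu]
  have h0 : ((∑ i, m i + q : ℕ) : k) ≠ 0 := by
    have : (∑ i, m i + q : ℕ) ≠ 0 := by omega
    exact_mod_cast this
  change _ * (((∑ i, m i + q : ℕ) : k)⁻¹ * MvPowerSeries.coeff m r) = _
  rw [← mul_assoc, mul_inv_cancel₀ h0, one_mul]

end PS

open exteriorPower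

section Main
variable {k : Type u} [Field k] [CharZero k] {σ : Type u} [Fintype σ] [LinearOrder σ]

local notation "A" => MvPowerSeries σ k
local notation "M" => (σ → MvPowerSeries σ k)
local notation "Λ" => ExteriorAlgebra (MvPowerSeries σ k) (σ → MvPowerSeries σ k)

/-- coordinate basis vector -/
noncomputable def e (i : σ) : M := Pi.single i 1

/-- wedge of basis vectors in Λ -/
noncomputable def w (p : ℕ) (s : Fin p → σ) : Λ :=
  ExteriorAlgebra.ιMulti A p (fun j => e (k := k) (s j))

lemma w_zero (s : Fin 0 → σ) : w (k := k) 0 s = 1 := ExteriorAlgebra.ιMulti_zero_apply _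

lemma w_succ (p : ℕ) (s : Fin (p + 1) → σ) :
    w (k := k) (p + 1) s = ExteriorAlgebra.ι A (e (s 0)) * w p (fun j => s j.succ) := by
  unfold w
  rw [ExteriorAlgebra.ιMulti_succ_apply]
  rfl

lemma w_cons (p : ℕ) (i : σ) (s : Fin p → σ) :
    w (k := k) (p + 1) (Fin.cons i s) = ExteriorAlgebra.ι A (e i) * w p s := by
  rw [w_succ]
  simp

lemma w_mem (p : ℕ) (s : Fin p → σ) : w (k := k) p s ∈ ⋀[A]^p M :=
  (exteriorPower.ιMulti A p (fun j => e (k := k) (s j))).2

lemma ι_mul_mem (n : ℕ) (m : M) (z : Λ) (hz : z ∈ ⋀[A]^n M) :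
    ExteriorAlgebra.ι A m * z ∈ ⋀[A]^(n + 1) M := by
  change _ ∈ (LinearMap.range (ExteriorAlgebra.ι A)) ^ (n + 1)
  rw [pow_succ']
  exact Submodule.mul_mem_mul (LinearMap.mem_range_self _ m) hz

/-- the basis of the exterior power -/
noncomputable def B (q : ℕ) : Module.Basis (Set.powersetCard σ q) A (⋀[A]^q M) :=
  (Pi.basisFun A σ).exteriorPower q

lemma B_coe (q : ℕ) (S : Set.powersetCard σ q) :
    ((B (k := k) q S : ⋀[A]^q M) : Λ) = w q (fun j => Set.powersetCard.ofFinEmbEquiv.symm S j) := by
  unfold B w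
  rw [exteriorPower.basis_apply]
  unfold exteriorPower.ιMulti_family
  rw [exteriorPower.ιMulti_apply_coe]
  congr 1
  funext j
  simp [e, Pi.basisFun_apply]

lemma gen_induction (P : Λ → Prop) (h0 : P 0) (hadd : ∀ x y, P x → P y → P (x + y))
    (hgen : ∀ (p : ℕ) (s : Fin p → σ) (f : A), P (f • w p s)) : ∀ x, P x := by
  intro x
  induction x using DirectSum.Decomposition.inductionOn (fun p : ℕ => ⋀[A]^p M) with
  | zero => exact h0
  | add x y hx hy => exact hadd x y hx hy
  | @homogeneous p y =>
    rw [← (B p).linearCombination_repr y]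
    induction ((B p).repr y) using Finsupp.induction_linear with
    | zero => simpa using h0
    | add r r' hr hr' =>
      rw [map_add, Submodule.coe_add]
      exact hadd _ _ hr hr'
    | single S f =>
      rw [Finsupp.linearCombination_single, Submodule.coe_smul, B_coe]
      exact hgen _ _ _

/-- Euler dual vector -/
noncomputable def Ed : Module.Dual A M :=
  ∑ i, (MvPowerSeries.X i : A) • (LinearMap.proj i : M →ₗ[A] A)

lemma Ed_apply (m : M) : Ed (k := k) m = ∑ i, MvPowerSeries.X i * m i := by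
  simp [Ed, LinearMap.sum_apply]

lemma Ed_e (i : σ) : Ed (k := k) (e i) = MvPowerSeries.X i := by
  rw [Ed_apply]
  simp [e, Pi.single_apply]

/-- contraction with the Euler vector field -/
noncomputable def c : Λ →ₗ[A] Λ := CliffordAlgebra.contractLeft Ed

lemma c_ι_mul (m : M) (x : Λ) :
    c (k := k) (ExteriorAlgebra.ι A m * x) = Ed m • x - ExteriorAlgebra.ι A m * c x :=
  CliffordAlgebra.contractLeft_ι_mul _ _ _

lemma c_one : c (k := k) (σ := σ) 1 = 0 := CliffordAlgebra.contractLeft_one _ _

lemma c_w_mem (p : ℕ) (s : Fin (p + 1) → σ) : c (w (k := k) (p + 1) s) ∈ ⋀[A]^p M := by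
  induction p with
  | zero =>
    rw [w_succ, c_ι_mul, w_zero, c_one, mul_zero, sub_zero]
    exact Submodule.smul_mem _ _ (by rw [← w_zero (k := k) (fun j => s j.succ)]; exact w_mem _ _)
  | succ p ih =>
    rw [w_succ, c_ι_mul]
    refine Submodule.sub_mem _ (Submodule.smul_mem _ _ (w_mem _ _)) ?_
    exact ι_mul_mem _ _ _ (ih _)

lemma c_mem (p : ℕ) (y : ⋀[A]^(p + 1) M) : c (k := k) (y : Λ) ∈ ⋀[A]^p M := by
  rw [← (B (p + 1)).linearCombination_repr y]
  induction ((B (p + 1)).repr y) using Finsupp.induction_linear with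
  | zero => simp
  | add r r' hr hr' =>
    rw [map_add, Submodule.coe_add, map_add]
    exact Submodule.add_mem _ hr hr'
  | single S f =>
    rw [Finsupp.linearCombination_single, Submodule.coe_smul, B_coe, map_smul]
    exact Submodule.smul_mem _ _ (c_w_mem _ _)

variable (d : ∀ p : ℕ, ↥(⋀[MvPowerSeries σ k]^p (σ → MvPowerSeries σ k)) →ₗ[k]
  ↥(⋀[MvPowerSeries σ k]^(p + 1) (σ → MvPowerSeries σ k)))

/-- total differential on the exterior algebra -/
noncomputable def Dt : Λ →+ Λ :=
  (DirectSum.toAddMonoid (fun p : ℕ =>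
    ((⋀[A]^(p + 1) M).subtype.toAddMonoidHom.comp (d p).toAddMonoidHom))).comp
    (DirectSum.decomposeAddEquiv (fun p : ℕ => ⋀[A]^p M)).toAddMonoidHom

lemma Dt_coe (p : ℕ) (y : ⋀[A]^p M) : Dt d (y : Λ) = ((d p y : ⋀[A]^(p + 1) M) : Λ) := by
  simp [Dt, DirectSum.decompose_coe, DirectSum.toAddMonoid_of]

variable (δ : Derivation k (MvPowerSeries σ k) (σ → MvPowerSeries σ k))
  (hδ : ∀ (f : MvPowerSeries σ k) (i : σ), δ f i = MvPowerSeries.pderiv k i f)

include hδ in
lemma δ_X (j : σ) : δ (MvPowerSeries.X j) = e j := by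
  funext i
  rw [hδ, MvPowerSeries.pderiv_X]
  simp [e, Pi.single_apply, eq_comm]

include hδ in
lemma Ed_δ (f : A) : Ed (δ f) = ∑ i, MvPowerSeries.X i * MvPowerSeries.pderiv k i f := by
  rw [Ed_apply]
  simp_rw [hδ]

variable (hd : DeRham.IsDiff δ d)

include hδ hd in
lemma D_gen (p : ℕ) (s : Fin p → σ) (f : A) :
    Dt d (f • w p s) = ExteriorAlgebra.ι A (δ f) * w p s := by
  have h1 := hd.1 p f (fun j => MvPowerSeries.X (s j))
  have h2 : (f • w p s : Λ) =
      ((DeRham.gen δ p f (fun j => MvPowerSeries.X (s j)) : ⋀[A]^p M) : Λ) := by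
    simp [DeRham.gen, w, δ_X δ hδ]
  rw [h2, Dt_coe, h1, exteriorPower.ιMulti_apply_coe, ExteriorAlgebra.ιMulti_succ_apply]
  simp [w, δ_X δ hδ, Matrix.vecTail, Function.comp_def]

include hδ hd in
lemma D_smul (g : A) (x : Λ) :
    Dt d (g • x) = ExteriorAlgebra.ι A (δ g) * x + g • Dt d x := by
  induction x using gen_induction with
  | h0 => simp
  | hadd x y hx hy =>
    rw [smul_add, map_add, hx, hy, map_add, mul_add, smul_add]
    abel
  | hgen p s f =>
    rw [smul_smul, D_gen d δ hδ hd, D_gen d δ hδ hd, Derivation.leibniz, map_add, map_smul, map_smul,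
      add_mul, smul_mul_assoc, smul_mul_assoc, mul_smul_comm]
    abel

include hδ hd in
lemma D_ι_e_mul (i : σ) (x : Λ) :
    Dt d (ExteriorAlgebra.ι A (e i) * x) = -(ExteriorAlgebra.ι A (e i) * Dt d x) := by
  induction x using gen_induction with
  | h0 => simp
  | hadd x y hx hy =>
    rw [mul_add, map_add, hx, hy, map_add, mul_add, neg_add]
  | hgen p s f =>
    rw [mul_smul_comm, ← w_cons, D_gen d δ hδ hd, D_gen d δ hδ hd, w_cons, ← mul_assoc, ← mul_assoc]
    have := ExteriorAlgebra.ι_add_mul_swap (R := A) (δ f) (e i)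
    rw [eq_neg_of_add_eq_zero_left this, neg_mul]

include hδ hd in
lemma D_D (x : Λ) : Dt d (Dt d x) = 0 := by
  induction x using gen_induction with
  | h0 => simp
  | hadd x y hx hy => rw [map_add, map_add, hx, hy, add_zero]
  | hgen p s f =>
    have h2 : (f • w p s : Λ) = ((f • (⟨w p s, w_mem p s⟩ : ⋀[A]^p M) : ⋀[A]^p M) : Λ) := rfl
    rw [h2, Dt_coe, Dt_coe]
    have := LinearMap.congr_fun (hd.2 p) (f • (⟨w p s, w_mem p s⟩ : ⋀[A]^p M))
    simp only [LinearMap.comp_apply, LinearMap.zero_apply] at this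
    rw [this]
    rfl

/-- the Lie derivative along the Euler field -/
noncomputable def L (x : Λ) : Λ := Dt d (c x) + c (Dt d x)

lemma L_zero : L d (0 : Λ) = 0 := by simp [L]

lemma L_add (x y : Λ) : L d (x + y) = L d x + L d y := by
  simp only [L, map_add]
  abel

include hδ hd in
lemma L_smul (g : A) (x : Λ) : L d (g • x) = Ed (δ g) • x + g • L d x := by
  simp only [L]
  rw [map_smul, D_smul d δ hδ hd, D_smul d δ hδ hd, map_add, c_ι_mul, map_smul, smul_add]
  abel

include hδ hd in
lemma L_ι_e_mul (i : σ) (x : Λ) :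
    L d (ExteriorAlgebra.ι A (e i) * x) =
      ExteriorAlgebra.ι A (e i) * x + ExteriorAlgebra.ι A (e i) * L d x := by
  simp only [L]
  rw [c_ι_mul, map_sub, D_smul d δ hδ hd, D_ι_e_mul d δ hδ hd, D_ι_e_mul d δ hδ hd, map_neg,
    c_ι_mul, Ed_e, δ_X δ hδ, mul_add]
  abel

include hδ hd in
lemma L_w (p : ℕ) (s : Fin p → σ) : L d (w p s) = p • w p s := by
  induction p with
  | zero =>
    rw [w_zero, zero_smul]
    simp only [L]
    rw [c_one, map_zero, zero_add]
    have := D_gen d δ hδ hd 0 s 1
    rw [one_smul, w_zero, Derivation.map_one_eq_zero, map_zero, zero_mul] at this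
    rw [this, map_zero]
  | succ p ih =>
    rw [w_succ, L_ι_e_mul d δ hδ hd, ih, mul_smul_comm, succ_nsmul]
    abel

include hδ hd in
lemma L_gen (p : ℕ) (s : Fin p → σ) (f : A) : L d (f • w p s) = eu p f • w p s := by
  rw [L_smul d δ hδ hd, L_w d δ hδ hd, Ed_δ δ hδ, eu, add_smul, smul_comm f p, smul_assoc]

include hδ hd in
lemma D_L (x : Λ) : Dt d (L d x) = L d (Dt d x) := by
  simp only [L]
  rw [map_add, D_D d δ hδ hd, D_D d δ hδ hd, map_zero, zero_add, add_zero]

include hδ hd in
lemma L_lc (q : ℕ) (r : Set.powersetCard σ q →₀ A) :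
    L d ((Finsupp.linearCombination A (B q) r : ⋀[A]^q M) : Λ) =
      ((Finsupp.linearCombination A (B q) (r.mapRange (eu q) (eu_zero q)) : ⋀[A]^q M) : Λ) := by
  induction r using Finsupp.induction_linear with
  | zero => simp [L_zero]
  | add r r' hr hr' =>
    rw [map_add, Submodule.coe_add, L_add, hr, hr', Finsupp.mapRange_add (eu_add q), map_add,
      Submodule.coe_add]
  | single S f =>
    rw [Finsupp.mapRange_single, Finsupp.linearCombination_single, Finsupp.linearCombination_single,
      Submodule.coe_smul, Submodule.coe_smul, B_coe, L_gen d δ hδ hd]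

include hδ hd in
lemma L_inj (q : ℕ) (hq : 0 < q) (y : ⋀[A]^q M) (h : L d (y : Λ) = 0) : y = 0 := by
  rw [← (B q).linearCombination_repr y] at h ⊢
  rw [L_lc d δ hδ hd] at h
  have h1 : Finsupp.linearCombination A (B q) (((B q).repr y).mapRange (eu q) (eu_zero q)) = 0 :=
    Subtype.ext h
  have h2 := congrArg (B q).repr h1
  rw [Module.Basis.repr_linearCombination, map_zero] at h2
  have h3 : (B q).repr y = 0 := by
    refine Finsupp.ext fun S => ?_
    have := DFunLike.congr_fun h2 S
    rw [Finsupp.mapRange_apply] at this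
    exact eu_injective q hq _ this
  rw [h3, map_zero]

include hδ hd in
lemma L_surj (q : ℕ) (hq : 0 < q) (y : ⋀[A]^q M) : ∃ η : ⋀[A]^q M, L d (η : Λ) = (y : Λ) := by
  choose g hg using eu_surjective (k := k) (σ := σ) q hq
  have hg0 : g 0 = 0 := eu_injective q hq _ (by rw [hg])
  refine ⟨Finsupp.linearCombination A (B q) (((B q).repr y).mapRange g hg0), ?_⟩
  rw [L_lc d δ hδ hd]
  conv_rhs => rw [← (B q).linearCombination_repr y]
  congr 3
  ext S
  simp [hg]

include hδ hd in
theorem main (p : ℕ) : DeRham.cocycles d (p + 1) ≤ DeRham.coboundaries d (p + 1) := by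
  intro ω hω
  have hω' : d (p + 1) ω = 0 := hω
  obtain ⟨η, hη⟩ := L_surj d δ hδ hd (p + 1) (Nat.succ_pos p) ω
  have h1 : d (p + 1) η = 0 := by
    apply L_inj d δ hδ hd (p + 2) (Nat.succ_pos _)
    rw [← Dt_coe, ← D_L d δ hδ hd, hη, Dt_coe, hω']
    rfl
  have h2 : (ω : Λ) = Dt d (c (η : Λ)) := by
    rw [← hη]
    simp only [L]
    rw [Dt_coe, h1]
    simp
  change ω ∈ LinearMap.range (d p)
  refine ⟨⟨c (η : Λ), c_mem p η⟩, ?_⟩
  apply Subtype.ext
  rw [h2]
  exact (Dt_coe d p ⟨c (η : Λ), c_mem p η⟩).symm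

end Main

open exteriorPower in
/-- The formal Poincaré lemma. The published statement is that for a complete separated linearly
topologized commutative algebra K over a field k of characteristic zero the inclusion of the
separated de Rham complex of K into that of K[[t_1, ..., t_n]] is a quasi-isomorphism; this row is
the case K = k in positive degrees. Concretely: k is a field of characteristic 0, σ is finite, A =
k[[σ]]; the separated differentials are modelled by the free A-module of functions σ → A (the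
coordinate dt_i being the i-th basis vector) with the derivation δ whose components are the formal
partial derivatives, so that δ(A) generates it; d is any family of k-linear maps between consecutive
exterior powers of this module over A satisfying the de Rham rule with d ∘ d = 0. Then for every p ≥
1 the closed p-forms are exact. (Degree zero, that a power series with all partial derivatives zero
is constant, is omitted.) -/
theorem result (k : Type u) [Field k] [CharZero k]
    (σ : Type u) [Finite σ]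
    (δ : Derivation k (MvPowerSeries σ k) (σ → MvPowerSeries σ k))
    (hδ : ∀ (f : MvPowerSeries σ k) (i : σ), δ f i = MvPowerSeries.pderiv k i f)
    (hgen : Submodule.span (MvPowerSeries σ k) (Set.range δ) = ⊤)
    (d : ∀ p : ℕ, ↥(⋀[MvPowerSeries σ k]^p (σ → MvPowerSeries σ k)) →ₗ[k]
      ↥(⋀[MvPowerSeries σ k]^(p + 1) (σ → MvPowerSeries σ k)))
    (hd : DeRham.IsDiff δ d) (p : ℕ) :
    DeRham.cocycles d (p + 1) ≤ DeRham.coboundaries d (p + 1) := by
  classical
  haveI : Fintype σ := Fintype.ofFinite σ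
  letI : LinearOrder σ := linearOrderOfSTO WellOrderingRel
  exact main d δ hδ hd p

end Groth.Agent.S18616
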