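import Groth.Statements.S18617
import Mathlib
-- import your own Groth.Agent.* helpers here

set_option autoImplicit false
universe u
open LocRes

namespace Groth.Agent.S18617

/-- The published statement is that, for a complete separated linearly topologized commutative algebra K
over a field of characteristic zero, the separated de Rham complex of K tensored with the exterior
algebra on symbols α_1, ..., α_n maps quasi-isomorphically to the separated de Rham complex of the
iterated Laurent series ring K((t_1, ..., t_n)), α_i going to dlog t_i; this row is the case K = k
and n = 1, unpacked: over a field k of characteristic 0, a formal Laurent series f in k((t)) has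
term-by-term derivative zero if and only if it is the constant series on its coefficient of degree
0, and a Laurent series g is the derivative of some Laurent series if and only if its residue (the
coefficient of t⁻¹) vanishes; so H⁰ of the complex k((t)) → k((t)) dt is k and H¹ is the line
spanned by the class of dt/t, on which the residue is 1. -/
theorem result (k : Type u) [Field k] [CharZero k] :
    (∀ f : LaurentSeries k, LocRes.D k f = 0 ↔ f = HahnSeries.C (f.coeff 0)) ∧
      ∀ g : LaurentSeries k, (∃ f : LaurentSeries k, LocRes.D k f = g) ↔ LocRes.res k g = 0 := by
  refine ⟨fun f => ⟨fun h => ?_, fun h => ?_⟩, fun g => ⟨?_, fun h => ?_⟩⟩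
  · ext n
    rw [HahnSeries.C_apply, HahnSeries.coeff_single]
    by_cases hn : n = 0
    · rw [if_pos hn, hn]
    · rw [if_neg hn]
      have h1 := congrArg (fun s => HahnSeries.coeff s (n - 1)) h
      simp only [LocRes.D_coeff, HahnSeries.coeff_zero, sub_add_cancel] at h1
      rcases smul_eq_zero.mp h1 with h2 | h2
      · exact absurd h2 hn
      · exact h2
  · rw [h, LocRes.D_apply, LocRes.derivative_C]
  · rintro ⟨f, rfl⟩
    rw [LocRes.res_apply, LocRes.D_coeff]
    simp
  · rw [LocRes.res_apply] at h
    have hbdd : BddBelow (Function.support fun n : ℤ => if n = 0 then (0 : k) else g.coeff (n - 1) / (n : k)) := by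
      apply HahnSeries.forallLTEqZero_supp_BddBelow _ (g.order + 1)
      intro m hm
      by_cases hm0 : m = 0
      · rw [if_pos hm0]
      · rw [if_neg hm0, HahnSeries.coeff_eq_zero_of_lt_order (by omega), zero_div]
    refine ⟨HahnSeries.ofSuppBddBelow _ hbdd, ?_⟩
    ext n
    rw [LocRes.D_coeff, HahnSeries.coeff_ofSuppBddBelow]
    by_cases hn : n + 1 = 0
    · have hn' : n = -1 := by omega
      rw [if_pos hn, smul_zero, hn', h]
    · rw [if_neg hn, add_sub_cancel_right, zsmul_eq_mul]
      have : ((n + 1 : ℤ) : k) ≠ 0 := by exact_mod_cast hn
      field_simp


end Groth.Agent.S18617
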