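import Groth.Statements.S1863
import Groth.Agent.Lib.Helper18.Cyc.DivFamily

set_option autoImplicit false
universe u
open CategoryTheory AlgebraicGeometry
open Cyc

namespace Groth.Agent.S1863

/-- Let U ⊆ X be open and α, β k-cycles on X whose restrictions to U are rationally equivalent on U (for
the restricted dimension function). Then there is a k-cycle γ on X vanishing on U with α rationally
equivalent to β + γ. Here a pair (X, δ) with Cyc.IsSetup plays the role of a scheme locally of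
finite type over a fixed base with a dimension function (X locally Noetherian with universally
catenary local rings, δ a dimension function). -/
theorem result (X : Scheme.{u}) (δ : X → ℤ) (hX : Cyc.IsSetup X δ) (U : X.Opens) (k : ℤ) (α β : AlgebraicCycle X ℤ) (hα : α ∈ Cyc.Zk X δ k) (hβ : β ∈ Cyc.Zk X δ k) (αU βU : AlgebraicCycle (↑U : Scheme.{u}) ℤ) (hαU : ∀ u : ↥U, αU u = α (U.ι u)) (hβU : ∀ u : ↥U, βU u = β (U.ι u)) (h : Cyc.RatEquiv (fun u : ↥U => δ (U.ι u)) k αU βU) : ∃ γ : AlgebraicCycle X ℤ, γ ∈ Cyc.Zk X δ k ∧ (∀ x : X, x ∈ U → γ x = 0) ∧ Cyc.RatEquiv δ k α (β + γ) := by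
  classical
  haveI : IsLocallyNoetherian X := hX.1
  obtain ⟨ι, ξ, f, hξk, hf0, hlf, hsum⟩ := h
  have hbij : ∀ i, Function.Bijective (U.ι.residueFieldMap (ξ i)).hom := fun i =>
    Groth.Agent.Lib.Helper18.CycDiv.residueFieldMap_bijective_of_surjective U.ι (ξ i)
      (U.ι.stalkMap_surjective (ξ i))
  let eK : ∀ i, X.residueField (U.ι (ξ i)) ≃+* (U : Scheme.{u}).residueField (ξ i) := fun i =>
    RingEquiv.ofBijective _ (hbij i)
  let ξ' : ι → X := fun i => U.ι (ξ i)
  let f' : ∀ i, X.residueField (ξ' i) := fun i => (eK i).symm (f i)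
  have hf'0 : ∀ i, f' i ≠ 0 := fun i => by
    intro h0
    apply hf0 i
    exact (map_eq_zero_iff _ (eK i).symm.injective).1 h0
  have hf'f : ∀ i, (U.ι.residueFieldMap (ξ i)).hom (f' i) = f i := fun i =>
    (eK i).apply_symm_apply (f i)
  have hlf' : ∀ x : X, ∃ V : Set X, IsOpen V ∧ x ∈ V ∧
      {i | (closure {ξ' i} ∩ V).Nonempty}.Finite :=
    Groth.Agent.Lib.Helper18.CycDiv.locallyFinite_of_open U ξ hlf
  let D : X → ℤ := fun x => ∑ᶠ i, Cyc.divFun δ (ξ' i) (f' i) x
  have hDlf : LocallyFiniteSupport D :=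
    Groth.Agent.Lib.Helper18.CycDiv.locallyFiniteSupport_finsum_divFun δ hX ξ' f' hf'0 hlf'
  let Dc : AlgebraicCycle X ℤ :=
    { toFun := D
      supportWithinDomain' := Set.subset_univ _
      supportLocallyFiniteWithinDomain' := fun z _ => hDlf z }
  have hDc : ∀ x, Dc x = D x := fun _ => rfl
  have hDk : ∀ x, δ x ≠ k → D x = 0 := by
    intro x hx
    have h0 : ∀ i, Cyc.divFun δ (ξ' i) (f' i) x = 0 := fun i =>
      Groth.Agent.Lib.Helper18.CycDiv.divFun_eq_zero_of_ne δ _ _ x (by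
        have h1 : δ (ξ' i) = k + 1 := hξk i
        rw [h1]
        intro h
        apply hx
        omega)
    show ∑ᶠ i, Cyc.divFun δ (ξ' i) (f' i) x = 0
    simp only [h0]
    exact finsum_zero
  have hDU : ∀ u : ↥U, D (U.ι u) = α (U.ι u) - β (U.ι u) := by
    intro u
    have h1 := hsum u
    rw [Function.locallyFinsuppWithin.coe_sub, Pi.sub_apply, hαU, hβU] at h1
    rw [h1]
    show ∑ᶠ i, Cyc.divFun δ (ξ' i) (f' i) (U.ι u) = _
    apply finsum_congr
    intro i
    rw [Groth.Agent.Lib.Helper18.CycDiv.divFun_preimmersion U.ι δ (ξ i) (f' i) u, hf'f i]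
    rfl
  refine ⟨α - β - Dc, ?_, ?_, ?_⟩
  · intro x hx
    rw [Function.locallyFinsuppWithin.coe_sub, Function.locallyFinsuppWithin.coe_sub, Pi.sub_apply,
      Pi.sub_apply, hα x hx, hβ x hx, hDc, hDk x hx]
    simp
  · intro x hxU
    rw [Function.locallyFinsuppWithin.coe_sub, Function.locallyFinsuppWithin.coe_sub, Pi.sub_apply,
      Pi.sub_apply, hDc]
    have := hDU ⟨x, hxU⟩
    have hx : U.ι ⟨x, hxU⟩ = x := rfl
    rw [hx] at this
    rw [this]
    ring
  · refine ⟨ι, ξ', f', hξk, hf'0, hlf', ?_⟩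
    intro x
    have : α - (β + (α - β - Dc)) = Dc := by abel
    rw [this, hDc]

end Groth.Agent.S1863
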