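import Groth.Statements.S5168
-- import your own Groth.Agent.* helpers here
import Groth.Agent.S0299
import Groth.Agent.S0301

set_option autoImplicit false
universe u
open InjHull

namespace Groth.Agent.S5168

/-- Let A be a Noetherian ring, J an ideal and H a J-power torsion A-module. Then H is injective if and
only if Hom_A(−, H) is exact on finite A-modules killed by a power of J, i.e. every linear map to H
from a submodule of such a module M extends to M. -/
theorem result (A : Type u) [CommRing A] [IsNoetherianRing A] (J : Ideal A) (H : Type u) [AddCommGroup H] [Module A H] (hH : LocCoh.IsPowerTorsion J H) : Module.Injective A H ↔ ∀ (M : Type u) [AddCommGroup M] [Module A M], Module.Finite A M → (∃ k : ℕ, (J ^ k) • (⊤ : Submodule A M) = ⊥) → ∀ (N : Submodule A M) (g : N →ₗ[A] H), ∃ g' : M →ₗ[A] H, g'.comp N.subtype = g := by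
  constructor
  · intro hinj M _ _ _ _ N g
    exact Module.Injective.extension_property A H N M N.subtype (Submodule.subtype_injective _) g
  · intro hext
    obtain ⟨I, _, _, _, i, hi⟩ := Groth.Agent.S0299.exists_injective_embedding A H
    let e : H ≃ₗ[A] LinearMap.range i := LinearEquiv.ofInjective i hi
    have hpt : ∀ x ∈ LinearMap.range i, ∃ n : ℕ, ∀ a ∈ J ^ n, a • x = 0 := by
      rintro _ ⟨h, rfl⟩
      obtain ⟨n, hn⟩ := hH h
      exact ⟨n, fun a ha => by rw [← map_smul, hn a ha, map_zero]⟩
    have hrange : Module.Injective A (LinearMap.range i) := by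
      apply Groth.Agent.Lib.Helper26.InjHull.injective_of_forall_essIn_eq
      intro E' hE'
      apply le_antisymm _ hE'.1
      intro x hx
      obtain ⟨k, hk⟩ := Groth.Agent.S0301.powerTorsion_of_essIn J hpt hE' x hx
      -- the cyclic module generated by `x`
      let M : Submodule A I := Submodule.span A {x}
      have hxM : x ∈ M := Submodule.mem_span_singleton_self x
      have hfin : Module.Finite A M := Module.Finite.span_singleton A x
      have hkill : (J ^ k) • (⊤ : Submodule A M) = ⊥ := by
        rw [eq_bot_iff, Submodule.smul_le]
        intro a ha y _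
        rw [Submodule.mem_bot]
        apply Subtype.ext
        obtain ⟨r, hr⟩ := Submodule.mem_span_singleton.1 y.2
        show a • (y : I) = 0
        rw [← hr, smul_comm, hk a ha, smul_zero]
      let N : Submodule A M := (LinearMap.range i).comap M.subtype
      let g : N →ₗ[A] H := e.symm.toLinearMap ∘ₗ
        (LinearMap.codRestrict (LinearMap.range i) (M.subtype ∘ₗ N.subtype) (fun y => y.2))
      have hg : ∀ y : N, i (g y) = ((y : M) : I) := by
        intro y
        have : (e (g y) : I) = ((y : M) : I) := by
          show (e (e.symm _) : I) = _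
          rw [LinearEquiv.apply_symm_apply]
          rfl
        exact this
      obtain ⟨g', hg'⟩ := hext M hfin ⟨k, hkill⟩ N g
      set h : I := i (g' ⟨x, hxM⟩) with hh
      by_contra hxr
      have hz0 : x - h ≠ 0 := by
        intro h0
        apply hxr
        rw [sub_eq_zero] at h0
        rw [h0]; exact ⟨_, rfl⟩
      have hzE' : x - h ∈ E' := E'.sub_mem hx (hE'.1 ⟨_, rfl⟩)
      obtain ⟨r, hr1, hr2⟩ := hE'.2 _ hzE' hz0
      have hrx : r • x ∈ LinearMap.range i := by
        have : r • x = r • (x - h) + r • h := by rw [smul_sub, sub_add_cancel]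
        rw [this]
        exact Submodule.add_mem _ hr1 (Submodule.smul_mem _ r ⟨_, rfl⟩)
      let y : N := ⟨⟨r • x, M.smul_mem r hxM⟩, hrx⟩
      have h1 : i (g' (y : M)) = r • x := by
        have : g' (y : M) = g y := LinearMap.congr_fun hg' y
        rw [this, hg y]
      have h2 : i (g' (y : M)) = r • h := by
        have : (y : M) = r • (⟨x, hxM⟩ : M) := rfl
        rw [this, map_smul, map_smul]
      apply hr2
      rw [smul_sub, ← h1, h2, sub_self]
    exact (Module.Baer.of_equiv e.symm (Module.Baer.of_injective hrange)).injective

end Groth.Agent.S5168
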