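import Groth.Statements.S18637
import Groth.Agent.Lib.Helper20.GrKit17
import Groth.Agent.S13211
import Groth.Agent.S13220
import Groth.Agent.S5168
-- import your own Groth.Agent.* helpers here

set_option autoImplicit false
universe u
open GrLC

namespace Groth.Agent.S18637

/-- Let R be a commutative Noetherian ℤ-graded ring and m a maximal ideal of R which is graded. If e :
R/m → E is a *injective envelope of R/m in the category of graded R-modules (E graded and
*injective, e degree-preserving and injective, every nonzero graded submodule of E meeting the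
image), then e is an injective hull of R/m as an ordinary R-module: E is an injective R-module and e
is an essential injection. -/
theorem result (R : Type u) [CommRing R] [IsNoetherianRing R] (𝒜 : ℤ → AddSubgroup R) [GradedRing 𝒜] (m : HomogeneousIdeal 𝒜) [m.toIdeal.IsMaximal] (E' : Type u) [AddCommGroup E'] [Module R E'] (𝓔 : ℤ → AddSubgroup E') [DirectSum.Decomposition 𝓔] [SetLike.GradedSMul 𝒜 𝓔] (e : (R ⧸ m.toIdeal) →ₗ[R] E') (he : GrLC.IsStarInjHull 𝒜 (GrLC.quotGr 𝒜 m) 𝓔 e) : InjHull.IsInjectiveHull e := by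
  classical
  have htors : GrLC.gam m.toIdeal E' = ⊤ := Groth.Agent.S13220.result R 𝒜 m E' 𝓔 e he
  have hPT : LocCoh.IsPowerTorsion m.toIdeal E' := by
    intro x
    have : x ∈ GrLC.gam m.toIdeal E' := by rw [htors]; trivial
    exact this
  have hext : ∀ φ : m.toIdeal →ₗ[R] E', ∃ h : R →ₗ[R] E',
      h ∘ₗ (Submodule.subtype m.toIdeal) = φ := fun φ =>
    Groth.Agent.Lib.Helper20.GrKit.exists_extension 𝒜 𝒜 m.toIdeal
      (fun g x hx => m.isHomogeneous g hx) 𝓔 he.starInj (IsNoetherian.noetherian _) φ
  have hinj : Module.Injective R E' :=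
    (Groth.Agent.S5168.result R m.toIdeal E' hPT).2 (fun M _ _ hfin hk N g => by
      haveI := hfin
      obtain ⟨k, hk⟩ := hk
      exact Groth.Agent.Lib.Helper20.GrKit.exists_extension_of_pow_smul_eq_bot m.toIdeal hext k hk N g)
  have hess0 := he.toIsStarEss
  rw [Groth.Agent.Lib.Helper20.GrKit.quotGr_eq_quoGr] at hess0
  letI : DirectSum.Decomposition (Groth.Agent.Lib.Helper20.GrKit.quoGr 𝒜 m.toIdeal) :=
    Groth.Agent.Lib.Helper20.GrKit.quoDecomposition 𝒜 m.toIdeal (fun g x hx => m.isHomogeneous g hx)
  have hess := Groth.Agent.S13211.result R 𝒜 (R ⧸ m.toIdeal)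
    (Groth.Agent.Lib.Helper20.GrKit.quoGr 𝒜 m.toIdeal) E' 𝓔 e hess0
  exact { toIsEssentialInj := hess, isInjective := hinj }

end Groth.Agent.S18637
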