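import Groth.Statements.S1864
import Mathlib
import Groth.Agent.Lib.Helper24.HomogSep.GrpIrr
import Groth.Agent.Lib.Helper24.HomogSep.Transl
import Groth.Agent.Lib.Helper24.Homog.KPoints

set_option autoImplicit false
universe u v
open CategoryTheory MonoidalCategory CartesianMonoidalCategory MonObj GrpObj AlgebraicGeometry
open GrpSch

namespace Groth.Agent.S1864

section helpers

open CategoryTheory MonoidalCategory CartesianMonoidalCategory MonObj GrpObj AlgebraicGeometry
open TopologicalSpace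


open Groth.Agent.Lib.Helper24.HomogSep Groth.Agent.Lib.Helper24.Unibranch
open Groth.Agent.Lib.Helper24.Homog
open Groth.Agent.Lib.Helper4.ActShear Groth.Agent.Lib.Helper4.ActShear2

section top

variable {X : Type*} [TopologicalSpace X] [QuasiSober X] [T0Space X] (h : ∀ x : X, UMax x)

include h

theorem subset_comp {A : Set X} (hA : IsPreirreducible A) {z : X} (hz : z ∈ A) :
    A ⊆ irreducibleComponent z := by
  have hA' : IsIrreducible A := ⟨⟨z, hz⟩, hA⟩
  obtain ⟨Z', hZ', hAZ'⟩ := exists_mem_irreducibleComponents_subset_of_isIrreducible _ hA'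
  obtain ⟨Z₀, -, hZ₀⟩ := (h z).existsUnique_irreducibleComponent
  rw [hZ₀ _ ⟨irreducibleComponent_mem_irreducibleComponents z, mem_irreducibleComponent⟩,
    ← hZ₀ Z' ⟨hZ', hAZ' hz⟩]
  exact hAZ'

theorem comp_eq_of_mem {y z : X} (hy : y ∈ irreducibleComponent z) :
    irreducibleComponent y = irreducibleComponent z := by
  obtain ⟨Z₀, -, hZ₀⟩ := (h y).existsUnique_irreducibleComponent
  rw [hZ₀ _ ⟨irreducibleComponent_mem_irreducibleComponents y, mem_irreducibleComponent⟩,
    hZ₀ _ ⟨irreducibleComponent_mem_irreducibleComponents z, hy⟩]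

end top

variable {K : Type u} [Field K] [IsAlgClosed K] (G : Over (Spec (CommRingCat.of K))) [GrpObj G]
  [LocallyOfFiniteType G.hom]

noncomputable def cpt : ↥(Spec (CommRingCat.of K)) := IsLocalRing.closedPoint K

noncomputable def ptOf (x : 𝟙_ (Over (Spec (CommRingCat.of K))) ⟶ G) : G.left := x.left.base cpt

omit [IsAlgClosed K] [LocallyOfFiniteType G.hom] in
theorem ptOf_comp (x : 𝟙_ (Over (Spec (CommRingCat.of K))) ⟶ G) (f : G ⟶ G) :
    ptOf G (x ≫ f) = f.left.base (ptOf G x) := by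
  unfold ptOf
  rw [Over.comp_left, Scheme.Hom.comp_apply]

theorem exists_section_of_closed (z : G.left) (hz : IsClosed ({z} : Set G.left)) :
    ∃ x : 𝟙_ (Over (Spec (CommRingCat.of K))) ⟶ G, ptOf G x = z := by
  obtain ⟨y, hy1, hy2⟩ := exists_Kpoint_of_isClosed_singleton (k := K) (K := K) G.hom z hz
  refine ⟨Over.homMk y ?_, hy2 _⟩
  change y ≫ G.hom = 𝟙 _
  rw [hy1, Algebra.algebraMap_self]
  exact Spec.map_id _

theorem exists_section_mem_open (V : G.left.Opens) (hne : (V : Set G.left).Nonempty) :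
    ∃ x : 𝟙_ (Over (Spec (CommRingCat.of K))) ⟶ G, ptOf G x ∈ V := by
  obtain ⟨y, hy1, hy2⟩ := exists_Kpoint_mem_open (k := K) (K := K) G.hom V hne
  refine ⟨Over.homMk y ?_, hy2 _⟩
  change y ≫ G.hom = 𝟙 _
  rw [hy1, Algebra.algebraMap_self]
  exact Spec.map_id _

/-- the open `x · V` -/
noncomputable def tV (V : G.left.Opens) (x : 𝟙_ (Over (Spec (CommRingCat.of K))) ⟶ G) :
    G.left.Opens :=
  (tr (selfAct G) (x ≫ ι[G])).left ⁻¹ᵁ V

/-- the open `{c | c⁻¹ s ∈ V}` -/
noncomputable def wV (V : G.left.Opens) (s : 𝟙_ (Over (Spec (CommRingCat.of K))) ⟶ G) :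
    G.left.Opens :=
  (tr (selfAct G) (s ≫ ι[G]) ≫ ι[G]).left ⁻¹ᵁ V

omit [IsAlgClosed K] [LocallyOfFiniteType G.hom] in
theorem isIso_tr (x : 𝟙_ (Over (Spec (CommRingCat.of K))) ⟶ G) :
    IsIso (tr (selfAct G) x) := (trIso (selfAct G) x).isIso_hom

omit [IsAlgClosed K] [LocallyOfFiniteType G.hom] in
theorem isIso_left {A B : Over (Spec (CommRingCat.of K))} (f : A ⟶ B) [IsIso f] :
    IsIso f.left := inferInstanceAs (IsIso ((Over.forget _).map f))

omit [IsAlgClosed K] [LocallyOfFiniteType G.hom] in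
theorem mem_tV (V : G.left.Opens) (x c : 𝟙_ (Over (Spec (CommRingCat.of K))) ⟶ G) :
    ptOf G c ∈ tV G V x ↔ ptOf G (x⁻¹ * c) ∈ V := by
  unfold tV
  rw [← point_tr, ptOf_comp, Hom.inv_def]
  rfl

omit [IsAlgClosed K] [LocallyOfFiniteType G.hom] in
theorem mem_wV (V : G.left.Opens) (s c : 𝟙_ (Over (Spec (CommRingCat.of K))) ⟶ G) :
    ptOf G c ∈ wV G V s ↔ ptOf G (c⁻¹ * s) ∈ V := by
  unfold wV
  have h : c⁻¹ * s = (c ≫ tr (selfAct G) (s ≫ ι[G])) ≫ ι[G] := by
    rw [point_tr, ← Hom.inv_def, ← Hom.inv_def]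
    group
  rw [h, ptOf_comp, ptOf_comp]
  rfl

omit [IsAlgClosed K] [LocallyOfFiniteType G.hom] in
theorem one_eq : (1 : 𝟙_ (Over (Spec (CommRingCat.of K))) ⟶ G) = η[G] := by
  rw [Hom.one_def, toUnit_unique (toUnit (𝟙_ (Over (Spec (CommRingCat.of K))))) (𝟙 _),
    Category.id_comp]

omit [IsAlgClosed K] [LocallyOfFiniteType G.hom] in
theorem isAffineOpen_tV (V : G.left.Opens) (hV : IsAffineOpen V)
    (x : 𝟙_ (Over (Spec (CommRingCat.of K))) ⟶ G) : IsAffineOpen (tV G V x) := by
  unfold tV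
  haveI := isIso_tr G (x ≫ ι[G])
  haveI := isIso_left (tr (selfAct G) (x ≫ ι[G]))
  exact hV.preimage_of_isIso _

omit [IsAlgClosed K] [LocallyOfFiniteType G.hom] in
theorem isPreirreducible_tV (V : G.left.Opens) (hV : IsPreirreducible (V : Set G.left))
    (x : 𝟙_ (Over (Spec (CommRingCat.of K))) ⟶ G) :
    IsPreirreducible (tV G V x : Set G.left) := by
  unfold tV
  haveI := isIso_tr G (x ≫ ι[G])
  haveI := isIso_left (tr (selfAct G) (x ≫ ι[G]))
  exact hV.preimage (Scheme.Hom.isOpenEmbedding _)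

omit [IsAlgClosed K] [LocallyOfFiniteType G.hom] in
theorem isPreirreducible_wV (V : G.left.Opens) (hV : IsPreirreducible (V : Set G.left))
    (x : 𝟙_ (Over (Spec (CommRingCat.of K))) ⟶ G) :
    IsPreirreducible (wV G V x : Set G.left) := by
  unfold wV
  haveI := isIso_tr G (x ≫ ι[G])
  haveI := isIso_left (tr (selfAct G) (x ≫ ι[G]) ≫ ι[G])
  exact hV.preimage (Scheme.Hom.isOpenEmbedding _)

theorem main (n : ℕ) (g : Fin n → G.left) (hg : ∀ i, IsClosed ({g i} : Set G.left)) :
    ∃ U : G.left.Opens, IsAffineOpen U ∧ ∀ i, g i ∈ U := by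
  classical
  haveI : IsLocallyNoetherian G.left := LocallyOfFiniteType.isLocallyNoetherian G.hom
  have hU : ∀ x : G.left, UMax x := fun x =>
    uMax_all (Groth.Agent.Lib.Helper4.GrpToGrpd.ofGrp G) K (Iso.refl _) x
  have hopen : ∀ x : G.left, IsOpen (irreducibleComponent x) :=
    isOpen_irreducibleComponent_of_uMax hU
  -- sections through the `g i`
  choose σ hσ using fun i => exists_section_of_closed G (g i) (hg i)
  -- an irreducible affine neighbourhood of the identity
  let e : G.left := ptOf G η[G]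
  let Ce : G.left.Opens := ⟨irreducibleComponent e, hopen e⟩
  obtain ⟨V, hV, heV, hVC⟩ :=
    exists_isAffineOpen_mem_and_subset (x := e) (U := Ce) mem_irreducibleComponent
  have hVirr : IsPreirreducible (V : Set G.left) :=
    isIrreducible_irreducibleComponent.isPreirreducible.open_subset V.2 hVC
  -- `ptOf x ∈ x · V`
  have hself : ∀ x : 𝟙_ (Over (Spec (CommRingCat.of K))) ⟶ G, ptOf G x ∈ tV G V x := by
    intro x
    rw [mem_tV, inv_mul_cancel, one_eq]
    exact heV
  -- `g i ∈ W i ⊆ Z i`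
  have hgW : ∀ i, g i ∈ wV G V (σ i) := by
    intro i
    rw [← hσ i, mem_wV, inv_mul_cancel, one_eq]
    exact heV
  have hWZ : ∀ i, (wV G V (σ i) : Set G.left) ⊆ irreducibleComponent (g i) := fun i =>
    subset_comp hU (isPreirreducible_wV G V hVirr (σ i)) (hgW i)
  -- the key choice
  have key : ∀ i₀ : Fin n, ∃ x : 𝟙_ (Over (Spec (CommRingCat.of K))) ⟶ G,
      ∀ i, irreducibleComponent (g i) = irreducibleComponent (g i₀) →
        ptOf G x ∈ wV G V (σ i) := by
    intro i₀
    have hirr : IsIrreducible (irreducibleComponent (g i₀)) := isIrreducible_irreducibleComponent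
    rw [isIrreducible_iff_sInter] at hirr
    let F : Finset (Set G.left) :=
      (Finset.univ.filter (fun i => irreducibleComponent (g i) = irreducibleComponent (g i₀))).image
        (fun i => (wV G V (σ i) : Set G.left))
    have hF1 : ∀ u ∈ F, IsOpen u := by
      intro u hu
      obtain ⟨i, -, rfl⟩ := Finset.mem_image.1 hu
      exact (wV G V (σ i)).2
    have hF2 : ∀ u ∈ F, (irreducibleComponent (g i₀) ∩ u).Nonempty := by
      intro u hu
      obtain ⟨i, hi, rfl⟩ := Finset.mem_image.1 hu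
      rw [Finset.mem_filter] at hi
      exact ⟨g i, by rw [← hi.2]; exact mem_irreducibleComponent, hgW i⟩
    obtain ⟨y, -, hy⟩ := hirr F hF1 hF2
    let O : G.left.Opens := ⟨⋂₀ (↑F : Set (Set G.left)), F.finite_toSet.isOpen_sInter hF1⟩
    obtain ⟨x, hx⟩ := exists_section_mem_open G O ⟨y, hy⟩
    refine ⟨x, fun i hi => ?_⟩
    have : (wV G V (σ i) : Set G.left) ∈ F :=
      Finset.mem_image.2 ⟨i, Finset.mem_filter.2 ⟨Finset.mem_univ _, hi⟩, rfl⟩
    exact Set.mem_sInter.1 hx _ this
  -- choice of a section per component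
  let P : Set G.left → (𝟙_ (Over (Spec (CommRingCat.of K))) ⟶ G) → Prop := fun Z x =>
    ∀ i, irreducibleComponent (g i) = Z → ptOf G x ∈ wV G V (σ i)
  let xZ : Set G.left → (𝟙_ (Over (Spec (CommRingCat.of K))) ⟶ G) := fun Z =>
    if h : ∃ x, P Z x then h.choose else η[G]
  have hxZ : ∀ i, P (irreducibleComponent (g i)) (xZ (irreducibleComponent (g i))) := by
    intro i
    have h : ∃ x, P (irreducibleComponent (g i)) x := key i
    simp only [xZ, dif_pos h]
    exact h.choose_spec
  let UZ : Set G.left → G.left.Opens := fun Z => tV G V (xZ Z)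
  have hgU : ∀ i, g i ∈ UZ (irreducibleComponent (g i)) := by
    intro i
    have h1 := hxZ i i rfl
    rw [mem_wV] at h1
    have h2 := (mem_tV G V (xZ (irreducibleComponent (g i))) (σ i)).2 h1
    rw [hσ i] at h2
    exact h2
  have hUZsub : ∀ i, (UZ (irreducibleComponent (g i)) : Set G.left) ⊆
      irreducibleComponent (g i) := fun i =>
    subset_comp hU (isPreirreducible_tV G V hVirr _) (hgU i)
  refine ⟨⨆ Z ∈ Set.range (fun i => irreducibleComponent (g i)), UZ Z, ?_, ?_⟩
  · refine IsAffineOpen.biSup_of_disjoint (Set.finite_range _)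
      (fun Z _ => isAffineOpen_tV G V hV _) ?_
    rintro _ ⟨i, rfl⟩ _ ⟨j, rfl⟩ hne
    change Disjoint (UZ _) (UZ _)
    rw [← Opens.coe_disjoint]
    refine Set.disjoint_left.2 fun y hy1 hy2 => hne ?_
    have h1 := comp_eq_of_mem hU (hUZsub i hy1)
    have h2 := comp_eq_of_mem hU (hUZsub j hy2)
    exact h1.symm.trans h2
  · intro i
    exact (le_iSup₂ (f := fun Z (_ : Z ∈ Set.range (fun i => irreducibleComponent (g i))) => UZ Z)
      (irreducibleComponent (g i)) ⟨i, rfl⟩) (hgU i)


end helpers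

/-- Let G be a group scheme locally of finite type over an algebraically closed field and g₁, …, g_n
finitely many closed points of G. Then some affine open of G contains all the g_i. -/
theorem result (K : Type u) [Field K] [IsAlgClosed K] (G : Over (Spec (CommRingCat.of K))) [GrpObj G] [LocallyOfFiniteType G.hom] (n : ℕ) (g : Fin n → G.left) (hg : ∀ i, IsClosed ({g i} : Set G.left)) : ∃ U : G.left.Opens, IsAffineOpen U ∧ ∀ i, g i ∈ U := by
  exact main G n g hg

end Groth.Agent.S1864
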