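import Groth.Statements.S18664
import Groth.Agent.Lib.Helper20.StdOne6
import Groth.Agent.Lib.Helper20.SegCM7
import Groth.Agent.Lib.Helper20.SegTrdeg
-- import your own Groth.Agent.* helpers here

set_option autoImplicit false
universe u
open scoped TensorProduct
open GrSegre

namespace Groth.Agent.S18664

/-- Let R and S be standard graded rings defined over a field k which are Cohen–Macaulay, with dim R = 1
and dim S ≥ 2. Then the Segre product T = R # S is a Cohen–Macaulay ring if and only if R is a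
polynomial ring over k (in one variable). Here a graded ring defined over k is a commutative
k-algebra of finite type, graded in nonnegative degrees by k-subspaces with degree-zero part k·1,
standard graded when its irrelevant ideal is generated by the degree-one piece; the Segre product T
= ⊕_n R_n ⊗_k S_n is presented abstractly as a graded k-algebra T with an injective k-algebra
homomorphism ψ : T → R ⊗_k S carrying T_n onto the k-span of the elementary tensors a ⊗ b with a ∈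
R_n, b ∈ S_n. -/
theorem result (k : Type u) [Field k] (R : Type u) [CommRing R] [Algebra k R] (𝒜 : ℤ → Submodule k R) [GradedAlgebra 𝒜] (hposR : ∀ n : ℤ, n < 0 → 𝒜 n = ⊥) (h0R : 𝒜 0 = Submodule.span k {(1 : R)}) [Algebra.FiniteType k R] (S : Type u) [CommRing S] [Algebra k S] (ℬ : ℤ → Submodule k S) [GradedAlgebra ℬ] (hposS : ∀ n : ℤ, n < 0 → ℬ n = ⊥) (h0S : ℬ 0 = Submodule.span k {(1 : S)}) [Algebra.FiniteType k S] (T : Type u) [CommRing T] [Algebra k T] (𝒯 : ℤ → Submodule k T) [GradedAlgebra 𝒯] (ψ : T →ₐ[k] TensorProduct k R S) (hψ : Function.Injective ψ) (hdegT : ∀ n : ℤ, (𝒯 n).map ψ.toLinearMap = Submodule.span k {x : TensorProduct k R S | ∃ a ∈ 𝒜 n, ∃ b ∈ ℬ n, x = a ⊗ₜ[k] b}) [LocCoh.IsCohenMacaulayRing R] [LocCoh.IsCohenMacaulayRing S] (hstdR : Ideal.span (⋃ n ∈ Set.Ioi (0 : ℤ), (𝒜 n : Set R)) = Ideal.span ((𝒜 1 : Submodule k R) : Set R)) (hstdS : Ideal.span (⋃ n ∈ Set.Ioi (0 : ℤ), (ℬ n : Set S)) = Ideal.span ((ℬ 1 : Submodule k S) : Set S)) (hr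 : ringKrullDim R = 1) (hs : 2 ≤ ringKrullDim S) : LocCoh.IsCohenMacaulayRing T ↔ Nonempty (R ≃ₐ[k] Polynomial k) := by
  classical
  have hr' : ringKrullDim R = ((1 : ℕ) : WithBot ℕ∞) := by exact_mod_cast hr
  haveI : Nontrivial R := Groth.Agent.Lib.Helper20.SegCM.nontrivial_of_dim 1 hr'
  haveI : Nontrivial S := by
    by_contra hcon
    rw [not_nontrivial_iff_subsingleton] at hcon
    rw [ringKrullDim_eq_bot_of_subsingleton] at hs
    exact absurd hs (by decide)
  haveI : IsNoetherianRing R := Algebra.FiniteType.isNoetherianRing k R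
  haveI : IsNoetherianRing S := Algebra.FiniteType.isNoetherianRing k S
  obtain ⟨s, hs'⟩ := Groth.Agent.Lib.Helper20.SegTrdeg.exists_dim_eq k S
  have h2s : 2 ≤ s := by
    rw [hs'] at hs
    exact_mod_cast hs
  have h1S : 1 ≤ ringKrullDim S := le_trans (by norm_num) hs
  obtain ⟨I⟩ := Groth.Agent.Lib.Helper20.SegCM.nonempty_starInjRes' (𝒜 := 𝒜) (ℳ := 𝒜)
  rw [Groth.Agent.Lib.Helper20.SegCM.cm_segreRing_iff_B k R 𝒜 hposR h0R S ℬ hposS h0S T 𝒯 ψ
    hψ hdegT (Groth.Agent.Lib.Helper20.SegCM.irrH 𝒜)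
    (Groth.Agent.Lib.Helper20.SegCM.irrH_toIdeal 𝒜) I s hr hs' h2s]
  constructor
  · intro h
    have ha : ∀ d : ℤ, 0 ≤ d → I.Hcomp (Groth.Agent.Lib.Helper20.SegCM.irrH 𝒜) 1 d = ⊥ :=
      fun d hd => (h d).resolve_right
        (Groth.Agent.Lib.Helper20.SegCM.piece_ne_bot ℬ hposS h0S hstdS h1S hd)
    obtain ⟨y, hy, hreg, hspan⟩ :=
      Groth.Agent.Lib.Helper20.StdOne.exists_principal_of_aInv_neg 𝒜 hposR h0R hr' hstdR
        (Groth.Agent.Lib.Helper20.SegCM.irrH 𝒜)
        (Groth.Agent.Lib.Helper20.SegCM.irrH_toIdeal 𝒜) I ha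
    exact Groth.Agent.Lib.Helper20.StdOne.nonempty_algEquiv_polynomial 𝒜 hposR h0R y hy hreg hspan
  · intro h n
    obtain ⟨y, hy, hreg, hspan⟩ :=
      Groth.Agent.Lib.Helper20.StdOne.exists_principal_of_algEquiv 𝒜 hposR h0R hr' hstdR h
    by_cases hn : 0 ≤ n
    · left
      exact Groth.Agent.Lib.Helper20.StdOne.Hcomp_eq_bot_of_principal 𝒜 hposR h0R
        (Groth.Agent.Lib.Helper20.SegCM.irrH 𝒜)
        (Groth.Agent.Lib.Helper20.SegCM.irrH_toIdeal 𝒜) I hr' y hy hreg hspan n hn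
    · right
      exact hposS n (by omega)

end Groth.Agent.S18664
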