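import Groth.Statements.S18672

set_option autoImplicit false
universe u
open GrLC

namespace Groth.Agent.S18672

open DirectSum

section

variable {R : Type u} [CommRing R] (𝒜 : ℤ → AddSubgroup R) [GradedRing 𝒜]

/-- additive closure of products of pieces -/
def prodCl (s t : ℤ) : AddSubgroup R :=
  AddSubgroup.closure {x | ∃ u ∈ 𝒜 s, ∃ v ∈ 𝒜 t, x = u * v}

variable (hstd : Ideal.span (⋃ n ∈ Set.Ioi (0 : ℤ), (𝒜 n : Set R)) = Ideal.span ((𝒜 1 : AddSubgroup R) : Set R))

include hstd in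
theorem step (n : ℤ) (hn : 0 ≤ n) : 𝒜 (1 + n) ≤ prodCl 𝒜 1 n := by
  classical
  intro x hx
  have hxI : x ∈ Ideal.span (⋃ n ∈ Set.Ioi (0 : ℤ), (𝒜 n : Set R)) := by
    apply Ideal.subset_span
    simp only [Set.mem_iUnion, Set.mem_Ioi, SetLike.mem_coe, exists_prop]
    exact ⟨1 + n, by omega, hx⟩
  rw [hstd] at hxI
  obtain ⟨c, t, hts, -, hsum⟩ := Submodule.mem_span_iff_exists_finset_subset.mp hxI
  have e1 : ((decompose 𝒜 x) (1 + n) : R) = x := decompose_of_mem_same 𝒜 hx
  rw [← e1, ← hsum, decompose_sum, DFinsupp.finsetSum_apply, AddSubgroup.val_finsetSum]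
  apply AddSubgroup.sum_mem
  intro y hy
  have hy1 : y ∈ 𝒜 1 := hts hy
  have h := coe_decompose_mul_add_of_right_mem 𝒜 (i := n) (a := c y) hy1
  rw [add_comm n 1] at h
  rw [smul_eq_mul, h]
  apply AddSubgroup.subset_closure
  exact ⟨y, hy1, _, SetLike.coe_mem ((decompose 𝒜 (c y)) n), mul_comm _ _⟩

include hstd in
theorem prod_le (s : ℕ) (t : ℤ) (ht : 0 ≤ t) : 𝒜 ((s : ℤ) + t) ≤ prodCl 𝒜 s t := by
  induction s with
  | zero =>
    intro x hx
    apply AddSubgroup.subset_closure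
    refine ⟨1, ?_, x, ?_, (one_mul x).symm⟩
    · simpa using (SetLike.GradedOne.one_mem : (1 : R) ∈ 𝒜 0)
    · simpa using hx
  | succ s ih =>
    intro x hx
    have hx' : x ∈ 𝒜 (1 + ((s : ℤ) + t)) := by
      have : ((s + 1 : ℕ) : ℤ) + t = 1 + ((s : ℤ) + t) := by push_cast; ring
      rwa [this] at hx
    have h1 := step 𝒜 hstd ((s : ℤ) + t) (by omega) hx'
    refine AddSubgroup.closure_induction (p := fun x _ => x ∈ prodCl 𝒜 ((s + 1 : ℕ) : ℤ) t)
      ?_ ?_ ?_ ?_ h1
    · rintro _ ⟨u, hu, v, hv, rfl⟩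
      have hv' := ih hv
      refine AddSubgroup.closure_induction
        (p := fun v _ => u * v ∈ prodCl 𝒜 ((s + 1 : ℕ) : ℤ) t) ?_ ?_ ?_ ?_ hv'
      · rintro _ ⟨w, hw, z, hz, rfl⟩
        apply AddSubgroup.subset_closure
        refine ⟨u * w, ?_, z, hz, (mul_assoc _ _ _).symm⟩
        have := SetLike.GradedMul.mul_mem hu hw
        have e : (1 : ℤ) + (s : ℤ) = ((s + 1 : ℕ) : ℤ) := by push_cast; ring
        rwa [e] at this
      · rw [mul_zero]; exact zero_mem _
      · intro a b _ _ ha hb; rw [mul_add]; exact add_mem ha hb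
      · intro a _ ha; rw [mul_neg]; exact neg_mem ha
    · exact zero_mem _
    · intro a b _ _ ha hb; exact add_mem ha hb
    · intro a _ ha; exact neg_mem ha

end


/-- Let R be a graded ring defined over a field k = R_0 which is Cohen–Macaulay and generated over k by
R_1 (the standing hypotheses of this section; only generation in degree one is used), q ≥ 1, R' =
R^(q), and a an integer. Then the Veronese submodule [R(a)]^(q) = ⊕_j R_{a+jq} is generated over R'
by its piece R(a)_n = R_{a+n}, where n is the smallest multiple of q with n + a ≥ 0. Here 'graded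
ring defined over a field' means R = ⊕_{n ≥ 0} R_n is Noetherian with R_0 a field, and m = R_+ is
its unique graded maximal ideal. The Veronese subring R^(q) = ⊕_j R_{jq}, regraded by (R^(q))_j =
R_{jq}, is presented abstractly as a ℤ-graded ring R' with an injective ring homomorphism φ : R' → R
carrying R'_j onto R_{jq} for every j. The module [R(a)]^(q) is presented as a graded R'-module M'
with an injective additive map g : M' → R, semilinear over φ, carrying M'_j onto R_{a+jq} for every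
j; with n = j₀q, the conclusion is that the R'-span of M'_{j₀} is all of M'. -/
theorem result (R : Type u) [CommRing R] [LocCoh.IsCohenMacaulayRing R] (𝒜 : ℤ → AddSubgroup R) [GradedRing 𝒜] (hpos : ∀ n : ℤ, n < 0 → 𝒜 n = ⊥) (h0 : IsField (GrLC.deg0 𝒜)) (hstd : Ideal.span (⋃ n ∈ Set.Ioi (0 : ℤ), (𝒜 n : Set R)) = Ideal.span ((𝒜 1 : AddSubgroup R) : Set R)) (q : ℕ) (hq : 0 < q) (R' : Type u) [CommRing R'] (𝒜' : ℤ → AddSubgroup R') [GradedRing 𝒜'] (φ : R' →+* R) (hφ : Function.Injective φ) (hdeg : ∀ j : ℤ, (𝒜' j).map (φ : R' →+ R) = 𝒜 (j * q)) (a : ℤ) (M' : Type u) [AddCommGroup M'] [Module R' M'] (ℳ' : ℤ → AddSubgroup M') [DirectSum.Decomposition ℳ'] [SetLike.GradedSMul 𝒜' ℳ'] (g : M' →ₛₗ[φ] R) (hg : Function.Injective g) (hgdeg : ∀ j : ℤ, (ℳ' j).map (g : M' →+ R) = 𝒜 (a + j * q)) (j₀ : ℤ) (hj₀ : 0 ≤ a + j₀ * q) (hj₀' : a + (j₀ - 1) * q < 0) : Submodule.span R' ((ℳ' j₀ : AddSubgroup M') : Set M') = ⊤ := by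
  classical
  rw [eq_top_iff]
  intro x _
  rw [← DirectSum.sum_support_decompose ℳ' x]
  apply Submodule.sum_mem
  intro j _
  set xj : M' := ((decompose ℳ' x) j : M') with hxj
  have hxjm : xj ∈ ℳ' j := SetLike.coe_mem _
  have hgx : g xj ∈ 𝒜 (a + j * q) := by
    rw [← hgdeg j]; exact ⟨xj, hxjm, rfl⟩
  have hqpos : (0 : ℤ) < q := by exact_mod_cast hq
  by_cases hjj : j < j₀
  · -- piece is zero
    have hneg : a + j * q < 0 := by
      have : j * q ≤ (j₀ - 1) * q := by
        apply mul_le_mul_of_nonneg_right _ hqpos.le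
        omega
      omega
    rw [hpos _ hneg, AddSubgroup.mem_bot] at hgx
    have : xj = 0 := hg (by rw [hgx, map_zero])
    rw [this]; exact zero_mem _
  · push Not at hjj
    obtain ⟨s, hs⟩ : ∃ s : ℕ, (s : ℤ) = (j - j₀) * q := by
      refine ⟨((j - j₀) * q).toNat, Int.toNat_of_nonneg ?_⟩
      exact mul_nonneg (by omega) hqpos.le
    have hdegx : a + j * q = (s : ℤ) + (a + j₀ * q) := by rw [hs]; ring
    rw [hdegx] at hgx
    have h1 := prod_le 𝒜 hstd s (a + j₀ * q) hj₀ hgx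
    -- pull back along g
    have key : ∀ y ∈ prodCl 𝒜 (s : ℤ) (a + j₀ * q),
        ∃ z ∈ Submodule.span R' ((ℳ' j₀ : AddSubgroup M') : Set M'), g z = y := by
      intro y hy
      refine AddSubgroup.closure_induction
        (p := fun y _ => ∃ z ∈ Submodule.span R' ((ℳ' j₀ : AddSubgroup M') : Set M'), g z = y)
        ?_ ?_ ?_ ?_ hy
      · rintro _ ⟨u, hu, v, hv, rfl⟩
        rw [hs, ← hdeg (j - j₀)] at hu
        rw [← hgdeg j₀] at hv
        obtain ⟨u', -, rfl⟩ := hu
        obtain ⟨v', hv', rfl⟩ := hv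
        refine ⟨u' • v', Submodule.smul_mem _ _ (Submodule.subset_span hv'), ?_⟩
        rw [map_smulₛₗ]; rfl
      · exact ⟨0, zero_mem _, map_zero _⟩
      · rintro a b _ _ ⟨za, hza, rfl⟩ ⟨zb, hzb, rfl⟩
        exact ⟨za + zb, add_mem hza hzb, map_add _ _ _⟩
      · rintro a _ ⟨za, hza, rfl⟩
        exact ⟨-za, neg_mem hza, map_neg _ _⟩
    obtain ⟨z, hz, hgz⟩ := key _ h1
    have : z = xj := hg hgz
    rw [← this]; exact hz

end Groth.Agent.S18672
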