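import Groth.Statements.S18701
import Mathlib
import Groth.Agent.Lib.Helper21.DepthKit10

set_option autoImplicit false
universe u
open QGor

namespace Groth.Agent.S18701

open RingTheory.Sequence IsLocalRing Module Pointwise
open Groth.Agent.Lib.Helper21.DepthKit


/-- Affine form. Let A be a Noetherian ring and G the kernel of a linear map u : E⁰ → E¹ of finite
A-modules. If E⁰ has (S_1) then G has (S_1). If Supp G ⊆ Supp E¹, E¹ has (S_1) and E⁰ has (S_2),
then G has (S_2). -/
theorem result (A : Type u) [CommRing A] [IsNoetherianRing A]
    (E0 E1 : Type u) [AddCommGroup E0] [Module A E0] [Module.Finite A E0] [AddCommGroup E1] [Module A E1]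
    [Module.Finite A E1] (u : E0 →ₗ[A] E1) :
    (LocCoh.HasSk 1 A E0 → LocCoh.HasSk 1 A (LinearMap.ker u)) ∧
    (Module.support A (LinearMap.ker u) ⊆ Module.support A E1 → LocCoh.HasSk 1 A E1 → LocCoh.HasSk 2 A E0 →
      LocCoh.HasSk 2 A (LinearMap.ker u)) := by
  have hsub : Module.support A (LinearMap.ker u) ⊆ Module.support A E0 :=
    Module.support_subset_of_injective (LinearMap.ker u).subtype (Submodule.injective_subtype _)
  constructor
  · intro h p _
    refine sk_transfer (supportDim_localization_le_of_support_subset p hsub) ?_ (h p)
    intro j hj hjN
    have hj2 : j = 0 ∨ j = 1 := by omega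
    rcases hj2 with rfl | rfl
    · simp
    · have := one_le_depth_localization_ker u p (by simpa using hjN)
      simpa using this
  · intro hS h1 h2 p _
    by_cases hE1 : 1 ≤ LocCoh.depth (Localization.AtPrime p) (LocalizedModule p.primeCompl E1)
    · refine sk_transfer (supportDim_localization_le_of_support_subset p hsub) ?_ (h2 p)
      intro j hj hjN
      have hj2 : j = 0 ∨ j = 1 ∨ j = 2 := by omega
      rcases hj2 with rfl | rfl | rfl
      · simp
      · have := one_le_depth_localization_ker u p (by simpa using hjN)
        simpa using this
      · have := two_le_depth_localization_ker u p (by simpa using hjN) hE1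
        simpa using this
    · have hd0 : LocCoh.depth (Localization.AtPrime p) (LocalizedModule p.primeCompl E1) = 0 := by
        rw [ENat.one_le_iff_ne_zero, not_not] at hE1
        exact hE1
      have h3 := h1 p
      rw [hd0] at h3
      have hdE1 : supportDim (Localization.AtPrime p) (LocalizedModule p.primeCompl E1) ≤ 0 := by
        rcases le_total ((1 : ℕ) : WithBot ℕ∞)
          (supportDim (Localization.AtPrime p) (LocalizedModule p.primeCompl E1)) with h4 | h4
        · rw [min_eq_left h4] at h3
          exact absurd h3 (by norm_num)
        · rwa [min_eq_right h4] at h3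
      have hdG := (supportDim_localization_le_of_support_subset p hS).trans hdE1
      refine (min_le_right _ _).trans (hdG.trans ?_)
      exact WithBot.coe_le_coe.2 bot_le

end Groth.Agent.S18701
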