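import Groth.Statements.S18704
import Groth.Agent.S18699
import Groth.Agent.S18702
import Groth.Agent.S18703
import Groth.Agent.Lib.Helper21.DepthKit8
import Groth.Agent.Lib.Helper2.R0S1

set_option autoImplicit false
universe u
open QGor

namespace Groth.Agent.S18704

/-- Affine form. Let A be a Noetherian ring with Serre's condition (S_2), I an ideal with ht I ≥ 2
(every prime containing I has height ≥ 2), and G a finite A-module with G_p reflexive for every
prime p not containing I. Then the following are equivalent: (i) G has (S_2) and dim Supp(G_p) ≥ 2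
for every prime p ⊇ I in Supp G; (ii) depth_I G ≥ 2; (iii) G is reflexive. -/
theorem result (A : Type u) [CommRing A] [IsNoetherianRing A]
    (hA : LocCoh.HasSk 2 A A) (I : Ideal A) (hI : 2 ≤ I.height)
    (G : Type u) [AddCommGroup G] [Module A G] [Module.Finite A G]
    (hU : ∀ p : PrimeSpectrum A, ¬ I ≤ p.asIdeal →
      Module.IsReflexive (Localization.AtPrime p.asIdeal) (LocalizedModule p.asIdeal.primeCompl G)) :
    ((LocCoh.HasSk 2 A G ∧ ∀ p : PrimeSpectrum A, I ≤ p.asIdeal → p ∈ Module.support A G →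
        (2 : WithBot ℕ∞) ≤ Module.supportDim (Localization.AtPrime p.asIdeal) (LocalizedModule p.asIdeal.primeCompl G)) ↔
      2 ≤ LocCoh.idealDepth I G) ∧
    (2 ≤ LocCoh.idealDepth I G ↔ Module.IsReflexive A G) := by
  have hA2 : (2 : ℕ∞) ≤ LocCoh.idealDepth I A := by
    have := Groth.Agent.S18699.result 2 A A I hA (by
      intro p hIp _
      haveI := p.isPrime
      rw [Groth.Agent.Lib.Helper2.R0S1.supportDim_loc]
      have h1 : I.height ≤ p.asIdeal.height := Ideal.height_mono hIp
      have h2 : (2 : ℕ∞) ≤ p.asIdeal.height := hI.trans h1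
      have h3 : ((2 : ℕ∞) : WithBot ℕ∞) ≤ ((p.asIdeal.height : ℕ∞) : WithBot ℕ∞) :=
        WithBot.coe_le_coe.2 h2
      exact h3)
    exact_mod_cast this
  have hA1 : (1 : ℕ∞) ≤ LocCoh.idealDepth I A := le_trans (by norm_num) hA2
  have h23 : 2 ≤ LocCoh.idealDepth I G → Module.IsReflexive A G :=
    fun h => Groth.Agent.S18703.result A I hA1 G hU h
  have h32 : Module.IsReflexive A G → 2 ≤ LocCoh.idealDepth I G := by
    intro h
    haveI := h
    exact (Groth.Agent.S18702.result A I G).2.1 hA2
  refine ⟨⟨?_, ?_⟩, ⟨h23, h32⟩⟩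
  · rintro ⟨hS, hcodim⟩
    have := Groth.Agent.S18699.result 2 A G I hS hcodim
    exact_mod_cast this
  · intro h
    haveI := h23 h
    refine ⟨(Groth.Agent.S18702.result A I G).2.2.2 hA, ?_⟩
    intro p hIp hp
    haveI := p.isPrime
    haveI hnt : Nontrivial (LocalizedModule p.asIdeal.primeCompl G) := Module.mem_support_iff.1 hp
    have h1 := Groth.Agent.Lib.Helper21.DepthKit.idealDepth_le_depth_localization (M := G) I
      p.asIdeal hIp
    have h2 := Groth.Agent.Lib.Helper21.DepthKit.depth_le_supportDim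
      (A := Localization.AtPrime p.asIdeal) (M := LocalizedModule p.asIdeal.primeCompl G)
    have h3 : (2 : ℕ∞) ≤ LocCoh.depth (Localization.AtPrime p.asIdeal)
        (LocalizedModule p.asIdeal.primeCompl G) := h.trans h1
    have h4 : ((2 : ℕ∞) : WithBot ℕ∞) ≤ ((LocCoh.depth (Localization.AtPrime p.asIdeal)
        (LocalizedModule p.asIdeal.primeCompl G) : ℕ∞) : WithBot ℕ∞) := WithBot.coe_le_coe.2 h3
    exact le_trans (by exact_mod_cast le_refl _) (h4.trans h2)

end Groth.Agent.S18704
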