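import Groth.Statements.S18710
import Mathlib
import Groth.Agent.Lib.Helper21.FlatLocal16

set_option autoImplicit false
universe u
open QGor

namespace Groth.Agent.S18710

open Groth.Agent.Lib.Helper21

open TensorProduct in
/-- Affine form. Let A → B be a flat homomorphism of Noetherian rings and I an ideal of A with V(I)
contained in the image of Spec B → Spec A (every prime containing I is a contraction of a prime of
B). Then ht(IB) = ht(I) (codimension of the preimage equals codimension), and for every finite
A-module G one has depth_{IB} (B ⊗_A G) = depth_I G. -/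
theorem result (A B : Type u) [CommRing A] [CommRing B]
    [IsNoetherianRing A] [IsNoetherianRing B] [Algebra A B] [Module.Flat A B] (I : Ideal A)
    (hI : ∀ p : PrimeSpectrum A, I ≤ p.asIdeal → ∃ q : PrimeSpectrum B, q.asIdeal.comap (algebraMap A B) = p.asIdeal)
    (G : Type u) [AddCommGroup G] [Module A G] [Module.Finite A G] :
    (I.map (algebraMap A B)).height = I.height ∧
    LocCoh.idealDepth (I.map (algebraMap A B)) (B ⊗[A] G) = LocCoh.idealDepth I G := by
  -- good primes over primes containing `I`
  have hgood : ∀ (p : Ideal A) [p.IsPrime], I ≤ p → ∃ (r : Ideal B) (_ : r.IsPrime),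
      r.under A = p ∧ r ∈ ((r.under A).map (algebraMap A B)).minimalPrimes := by
    intro p hp hIp
    obtain ⟨q0, hq0⟩ := hI ⟨p, hp⟩ hIp
    obtain ⟨r, hr, hrp, hmin⟩ := FlatLocal.exists_good_prime_of_liesOver (B := A) (C := B) p
      q0.asIdeal hq0
    refine ⟨r, hr, hrp, ?_⟩
    rw [hrp]
    exact hmin
  constructor
  · apply le_antisymm
    · rw [Ideal.height_eq_inf_minimalPrimes I]
      refine le_iInf₂ fun p hp => ?_
      haveI := hp.1.1
      obtain ⟨r, hr, hrp, hmin⟩ := hgood p hp.1.2
      have h1 : I.map (algebraMap A B) ≤ r := by
        rw [Ideal.map_le_iff_le_comap]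
        intro x hx
        have : x ∈ r.under A := by rw [hrp]; exact hp.1.2 hx
        exact this
      calc (I.map (algebraMap A B)).height ≤ r.height := Ideal.height_mono h1
        _ = (r.under A).height := FlatLocal.height_eq_of_minimal (A := A) r hmin
        _ = p.height := by rw [hrp]
    · rw [Ideal.height_eq_inf_minimalPrimes (I.map (algebraMap A B))]
      refine le_iInf₂ fun q hq => ?_
      haveI := hq.1.1
      have h1 : I ≤ q.under A := Ideal.map_le_iff_le_comap.1 hq.1.2
      exact (Ideal.height_mono h1).trans (FlatLocal.height_under_le (A := A) q)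
  · haveI : Module.Finite B (B ⊗[A] G) := FlatKit.finite_tensor B G
    rw [DepthKit.idealDepth_eq_iInf_depth_localization,
      DepthKit.idealDepth_eq_iInf_depth_localization]
    apply le_antisymm
    · refine le_iInf₂ fun p hp => ?_
      obtain ⟨r, hr, hrp, hmin⟩ := hgood p.asIdeal hp
      have h1 : I.map (algebraMap A B) ≤ r := by
        rw [Ideal.map_le_iff_le_comap]
        intro x hx
        have : x ∈ r.under A := by rw [hrp]; exact hp hx
        exact this
      refine iInf₂_le_of_le ⟨r, hr⟩ h1 ?_
      have key : ∀ (p' : Ideal A) [p'.IsPrime], p' = r.under A →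
          LocCoh.depth (Localization.AtPrime r) (LocalizedModule r.primeCompl (B ⊗[A] G)) ≤
          LocCoh.depth (Localization.AtPrime p') (LocalizedModule p'.primeCompl G) := by
        intro p' _ h
        subst h
        have h2 := FlatLocal.depth_loc_tensor (r.under A) r B G
        change _ = _ + LocCoh.depth (Localization.AtPrime r) (EGA4.FibLocMod A B r B) at h2
        rw [FlatLocal.depth_fibLocMod_eq_zero r hmin, add_zero] at h2
        rw [h2]
      exact key p.asIdeal hrp.symm
    · refine le_iInf₂ fun q hq => ?_
      have h1 : I ≤ q.asIdeal.under A := Ideal.map_le_iff_le_comap.1 hq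
      refine iInf₂_le_of_le ⟨q.asIdeal.under A, inferInstance⟩ h1 ?_
      have h2 := FlatLocal.depth_loc_tensor (q.asIdeal.under A) q.asIdeal B G
      rw [h2]
      exact le_self_add

end Groth.Agent.S18710
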