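import Groth.Statements.S18712
import Mathlib
import Groth.Agent.Lib.Helper21.RelS2F
import Groth.Agent.Lib.Helper21.RelS2G
import Groth.Agent.Lib.Helper21.RelS2H
import Groth.Agent.Lib.Helper21.EvalLoc

set_option autoImplicit false
universe u
open QGor

namespace Groth.Agent.S18712

open TensorProduct in
/-- Infinitesimal criterion, affine-local form. Let R be a Noetherian local ring with maximal ideal m, C
a finitely generated flat R-algebra, y = n a prime of C over m at which the fibre C_n/mC_n satisfies
S₂ (the structure morphism satisfies relative S₂ at y), and F a finite reflexive C-module which is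
free at every prime not containing an ideal J such that every fibre local ring C_q/pC_q at primes q
⊇ J has dimension ≥ 2 (F is locally free in codimension one on each fibre). Suppose that for every
surjective homomorphism R → A′ onto an Artinian local ring and the Noetherian pushout C′ = A′ ⊗_R C,
at every prime q′ of C′ lying over n the double dual (C′ ⊗_C F)^∨∨ is flat over A′ at q′ and its
fibre stalk satisfies S₂. Then F is flat over R at n and the fibre stalk F_n/mF_n satisfies S₂ (F
satisfies relative S₂ at y). Test rings A′ range over the universe of R. -/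
theorem result (R C : Type u) [CommRing R] [CommRing C] [IsNoetherianRing R] [IsLocalRing R] [IsNoetherianRing C]
    [Algebra R C] [Module.Flat R C] (hft : Algebra.FiniteType R C)
    (n : PrimeSpectrum C) (hn : (IsLocalRing.maximalIdeal R).map (algebraMap R C) ≤ n.asIdeal)
    (hS2 : LocCoh.HasSk 2 (EGA4.FibLocRing R C n.asIdeal) (EGA4.FibLocRing R C n.asIdeal))
    (F : Type u) [AddCommGroup F] [Module C F] [Module R F] [IsScalarTower R C F] [Module.Finite C F]
    [Module.IsReflexive C F] (J : Ideal C)
    (hFU : ∀ q : PrimeSpectrum C, ¬ J ≤ q.asIdeal → Module.Free (Localization.AtPrime q.asIdeal) (LocalizedModule q.asIdeal.primeCompl F))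
    (hcodim : ∀ q : PrimeSpectrum C, J ≤ q.asIdeal → (2 : WithBot ℕ∞) ≤ ringKrullDim (EGA4.FibLocRing R C q.asIdeal))
    (hI : ∀ (A' : Type u) [CommRing A'] [IsArtinianRing A'] [IsLocalRing A'] [Algebra R A'],
      Function.Surjective (algebraMap R A') →
      ∀ (C' : Type u) [CommRing C'] [IsNoetherianRing C'] [Algebra C C'] [Algebra A' C'] [Algebra R C']
        [IsScalarTower R C C'] [IsScalarTower R A' C'], Algebra.IsPushout R C A' C' →
        ∀ q' : PrimeSpectrum C', q'.asIdeal.comap (algebraMap C C') = n.asIdeal →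
          FlatCA.FlatAt A' q'.asIdeal (Module.Dual C' (Module.Dual C' (C' ⊗[C] F))) ∧
          LocCoh.HasSk 2 (EGA4.FibLocRing A' C' q'.asIdeal)
            (EGA4.FibLocMod A' C' q'.asIdeal (Module.Dual C' (Module.Dual C' (C' ⊗[C] F))))) :
    FlatCA.FlatAt R n.asIdeal F ∧ LocCoh.HasSk 2 (EGA4.FibLocRing R C n.asIdeal) (EGA4.FibLocMod R C n.asIdeal F) := by
  classical
  haveI : Algebra.FiniteType R C := hft
  have hcomap : n.asIdeal.comap (algebraMap R C) = IsLocalRing.maximalIdeal R := by
    have h1 : IsLocalRing.maximalIdeal R ≤ n.asIdeal.comap (algebraMap R C) :=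
      Ideal.map_le_iff_le_comap.1 hn
    exact ((IsLocalRing.maximalIdeal.isMaximal R).eq_of_le
      (Ideal.comap_ne_top _ n.isPrime.ne_top) h1).symm
  haveI : IsLocalHom (algebraMap R (Localization.AtPrime n.asIdeal)) := by
    refine ⟨fun r hr => ?_⟩
    by_contra hnu
    have hrm : r ∈ IsLocalRing.maximalIdeal R := (IsLocalRing.mem_maximalIdeal r).2 hnu
    have h1 : algebraMap R C r ∈ n.asIdeal := hn (Ideal.mem_map_of_mem _ hrm)
    have h2 : algebraMap C (Localization.AtPrime n.asIdeal) (algebraMap R C r) ∈
        IsLocalRing.maximalIdeal (Localization.AtPrime n.asIdeal) :=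
      (IsLocalization.AtPrime.to_map_mem_maximal_iff _ n.asIdeal _).2 h1
    rw [← IsScalarTower.algebraMap_apply] at h2
    exact (IsLocalRing.mem_maximalIdeal _).1 h2 hr
  haveI : Module.Flat R (Localization.AtPrime n.asIdeal) :=
    Module.Flat.trans R C (Localization.AtPrime n.asIdeal)
  haveI : Module.IsReflexive (Localization.AtPrime n.asIdeal)
      (LocalizedModule n.asIdeal.primeCompl F) :=
    Groth.Agent.Lib.Helper21.EvalLoc.isReflexive_localization F n.asIdeal
  -- freeness off `V(J_n)`
  have hFUn : ∀ Q : PrimeSpectrum (Localization.AtPrime n.asIdeal),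
      ¬ J.map (algebraMap C (Localization.AtPrime n.asIdeal)) ≤ Q.asIdeal →
      Module.Free (Localization.AtPrime Q.asIdeal)
        (LocalizedModule Q.asIdeal.primeCompl (LocalizedModule n.asIdeal.primeCompl F)) := by
    intro Q hQ
    have h1 : Q ∈ Module.freeLocus (Localization.AtPrime n.asIdeal)
        (LocalizedModule n.asIdeal.primeCompl F) := by
      rw [Module.freeLocus_localization]
      exact hFU _ (fun h => hQ (Ideal.map_le_iff_le_comap.2 h))
    exact h1
  -- the infinitesimal hypothesis, localized
  have hIloc : ∀ k : ℕ, 0 < k → ∃ (B' : Type u) (_ : CommRing B') (_ : IsNoetherianRing B')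
      (_ : Algebra (Localization.AtPrime n.asIdeal) B')
      (_ : Algebra (R ⧸ IsLocalRing.maximalIdeal R ^ k) B') (_ : Algebra R B')
      (_ : IsScalarTower R (Localization.AtPrime n.asIdeal) B')
      (_ : IsScalarTower R (R ⧸ IsLocalRing.maximalIdeal R ^ k) B')
      (_ : Algebra.IsPushout R (Localization.AtPrime n.asIdeal)
        (R ⧸ IsLocalRing.maximalIdeal R ^ k) B'),
      Module.Flat (R ⧸ IsLocalRing.maximalIdeal R ^ k) (Module.Dual B' (Module.Dual B'
        (B' ⊗[Localization.AtPrime n.asIdeal] (LocalizedModule n.asIdeal.primeCompl F)))) := by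
    intro k hk
    haveI := Groth.Agent.Lib.Helper21.RelS2.nontrivial_quot_pow R k hk
    haveI := Groth.Agent.Lib.Helper21.RelS2.isArtinianRing_quot_pow R k
    refine Groth.Agent.Lib.Helper21.RelS2.exists_local_pushout R C
      (IsLocalRing.maximalIdeal R ^ k) n.asIdeal ?_ F ?_
    · exact (Ideal.map_mono (Ideal.pow_le_self hk.ne')).trans hn
    · intro C' _ _ _ _ _ _ _ hpo q' hq'
      exact (hI (R ⧸ IsLocalRing.maximalIdeal R ^ k) Ideal.Quotient.mk_surjective C' hpo q' hq').1
  obtain ⟨hflat, hdepth⟩ := Groth.Agent.Lib.Helper21.RelS2.local_main R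
    (Localization.AtPrime n.asIdeal) (J.map (algebraMap C (Localization.AtPrime n.asIdeal)))
    (Groth.Agent.Lib.Helper21.RelS2.hZ_loc R C n hS2 J hcodim)
    (LocalizedModule n.asIdeal.primeCompl F) hFUn hIloc
  refine ⟨hflat, ?_⟩
  -- `(S₂)` of the closed fibre
  have heq : EGA4.mB R (Localization.AtPrime n.asIdeal) •
      (⊤ : Submodule (Localization.AtPrime n.asIdeal) (LocalizedModule n.asIdeal.primeCompl F)) =
      ((n.asIdeal.comap (algebraMap R C)).map (algebraMap R (Localization.AtPrime n.asIdeal))) •
      (⊤ : Submodule (Localization.AtPrime n.asIdeal)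
        (LocalizedModule n.asIdeal.primeCompl F)) := by
    rw [hcomap]
  rw [Groth.Agent.Lib.Helper21.DepthKit.idealDepth_congr _ (Submodule.quotEquivOfEq _ _ heq)]
    at hdepth
  rw [Groth.Agent.Lib.Helper21.DepthKit.idealDepth_map_of_surjective
    (R := Localization.AtPrime n.asIdeal) (S := EGA4.FibLocRing R C n.asIdeal)
    (EGA4.FibLocMod R C n.asIdeal F) Ideal.Quotient.mk_surjective] at hdepth
  refine Groth.Agent.Lib.Helper21.RelS2.hasSk_two_of_free_off_of_depth
    (EGA4.FibLocRing R C n.asIdeal) _ (EGA4.FibLocMod R C n.asIdeal F) hS2 ?_ hdepth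
  intro r hr
  exact (Groth.Agent.Lib.Helper21.RelS2.free_off_quotient _
    (J.map (algebraMap C (Localization.AtPrime n.asIdeal)))
    (LocalizedModule n.asIdeal.primeCompl F) hFUn r hr).2

end Groth.Agent.S18712
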