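import Groth.Statements.S18713
import Mathlib
import Groth.Agent.Lib.Helper21.ValS2F
import Groth.Agent.Lib.Helper21.RelS2F
import Groth.Agent.Lib.Helper21.RelS2G
import Groth.Agent.Lib.Helper21.RelS2H
import Groth.Agent.Lib.Helper21.EvalLoc
import Groth.Agent.S18709
import Groth.Agent.S18708

set_option autoImplicit false
universe u
open QGor

namespace Groth.Agent.S18713

open TensorProduct in
/-- Valuative criterion, affine-local form. Let R be a Noetherian local ring with maximal ideal m, C a
finitely generated flat R-algebra, y = n a prime of C over m at which the fibre C_n/mC_n satisfies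
S₂ (the structure morphism satisfies relative S₂ at y), and F a finite reflexive C-module which is
free at every prime not containing an ideal J such that every fibre local ring C_q/pC_q at primes q
⊇ J has dimension ≥ 2 (F is locally free in codimension one on each fibre). Assume R is reduced, and
that for every local homomorphism R → D to a discrete valuation ring and the Noetherian pushout C′ =
D ⊗_R C, at every prime q′ of C′ lying over n and over the closed point of D the double dual (C′ ⊗_C
F)^∨∨ is flat over D at q′ and its fibre stalk satisfies S₂. Then F is flat over R at n and F_n/mF_n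
satisfies S₂ (F satisfies relative S₂ at y). Test rings D range over the universe of R. -/
theorem result (R C : Type u) [CommRing R] [CommRing C] [IsNoetherianRing R] [IsLocalRing R] [IsNoetherianRing C]
    [Algebra R C] [Module.Flat R C] (hft : Algebra.FiniteType R C)
    (n : PrimeSpectrum C) (hn : (IsLocalRing.maximalIdeal R).map (algebraMap R C) ≤ n.asIdeal)
    (hS2 : LocCoh.HasSk 2 (EGA4.FibLocRing R C n.asIdeal) (EGA4.FibLocRing R C n.asIdeal))
    (F : Type u) [AddCommGroup F] [Module C F] [Module R F] [IsScalarTower R C F] [Module.Finite C F]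
    [Module.IsReflexive C F] (J : Ideal C)
    (hFU : ∀ q : PrimeSpectrum C, ¬ J ≤ q.asIdeal → Module.Free (Localization.AtPrime q.asIdeal) (LocalizedModule q.asIdeal.primeCompl F))
    (hcodim : ∀ q : PrimeSpectrum C, J ≤ q.asIdeal → (2 : WithBot ℕ∞) ≤ ringKrullDim (EGA4.FibLocRing R C q.asIdeal)) [IsReduced R]
    (hII : ∀ (D : Type u) [CommRing D] [IsDomain D] [IsDiscreteValuationRing D] [Algebra R D],
      IsLocalHom (algebraMap R D) →
      ∀ (C' : Type u) [CommRing C'] [IsNoetherianRing C'] [Algebra C C'] [Algebra D C'] [Algebra R C']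
        [IsScalarTower R C C'] [IsScalarTower R D C'], Algebra.IsPushout R C D C' →
        ∀ q' : PrimeSpectrum C', q'.asIdeal.comap (algebraMap C C') = n.asIdeal →
          (IsLocalRing.maximalIdeal D).map (algebraMap D C') ≤ q'.asIdeal →
          FlatCA.FlatAt D q'.asIdeal (Module.Dual C' (Module.Dual C' (C' ⊗[C] F))) ∧
          LocCoh.HasSk 2 (EGA4.FibLocRing D C' q'.asIdeal)
            (EGA4.FibLocMod D C' q'.asIdeal (Module.Dual C' (Module.Dual C' (C' ⊗[C] F))))) :
    FlatCA.FlatAt R n.asIdeal F ∧ LocCoh.HasSk 2 (EGA4.FibLocRing R C n.asIdeal) (EGA4.FibLocMod R C n.asIdeal F) := by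
  classical
  haveI : Algebra.FiniteType R C := hft
  have hcomap : n.asIdeal.comap (algebraMap R C) = IsLocalRing.maximalIdeal R := by
    have h1 : IsLocalRing.maximalIdeal R ≤ n.asIdeal.comap (algebraMap R C) :=
      Ideal.map_le_iff_le_comap.1 hn
    exact ((IsLocalRing.maximalIdeal.isMaximal R).eq_of_le
      (Ideal.comap_ne_top _ n.isPrime.ne_top) h1).symm
  haveI : IsLocalHom (algebraMap R (Localization.AtPrime n.asIdeal)) := by
    refine ⟨fun r hr => ?_⟩
    by_contra hnu
    have hrm : r ∈ IsLocalRing.maximalIdeal R := (IsLocalRing.mem_maximalIdeal r).2 hnu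
    have h1 : algebraMap R C r ∈ n.asIdeal := hn (Ideal.mem_map_of_mem _ hrm)
    have h2 : algebraMap C (Localization.AtPrime n.asIdeal) (algebraMap R C r) ∈
        IsLocalRing.maximalIdeal (Localization.AtPrime n.asIdeal) :=
      (IsLocalization.AtPrime.to_map_mem_maximal_iff _ n.asIdeal _).2 h1
    rw [← IsScalarTower.algebraMap_apply] at h2
    exact (IsLocalRing.mem_maximalIdeal _).1 h2 hr
  haveI : Module.Flat R (Localization.AtPrime n.asIdeal) :=
    Module.Flat.trans R C (Localization.AtPrime n.asIdeal)
  -- freeness off `V(J_n)`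
  have hFUn : ∀ Q : PrimeSpectrum (Localization.AtPrime n.asIdeal),
      ¬ J.map (algebraMap C (Localization.AtPrime n.asIdeal)) ≤ Q.asIdeal →
      Module.Free (Localization.AtPrime Q.asIdeal)
        (LocalizedModule Q.asIdeal.primeCompl (LocalizedModule n.asIdeal.primeCompl F)) := by
    intro Q hQ
    have h1 : Q ∈ Module.freeLocus (Localization.AtPrime n.asIdeal)
        (LocalizedModule n.asIdeal.primeCompl F) := by
      rw [Module.freeLocus_localization]
      exact hFU _ (fun h => hQ (Ideal.map_le_iff_le_comap.2 h))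
    exact h1
  -- the global resolution
  obtain ⟨a, b, g, h, hg, hgh, hGU⟩ := Groth.Agent.S18709.result C J F hFU
  have huv : Function.Exact h (LinearMap.range h).mkQ := LinearMap.exact_map_mkQ_range h
  have hv : Function.Surjective (LinearMap.range h).mkQ := Submodule.mkQ_surjective _
  -- the valuative criterion: the localized cokernel is flat
  haveI hGflat : Module.Flat R
      (LocalizedModule n.asIdeal.primeCompl ((Fin b → C) ⧸ LinearMap.range h)) :=
    Groth.Agent.Lib.Helper21.ValS2.flat_localized_coker R C n hn hS2 J hcodim F (Fin a → C)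
      (Fin b → C) ((Fin b → C) ⧸ LinearMap.range h) g h (LinearMap.range h).mkQ hg hgh huv hv hGU
      (fun D _ _ _ _ hl C' _ _ _ _ _ _ _ hpo q' h1 h2 => (hII D hl C' hpo q' h1 h2).2)
  -- the localized sequence
  haveI : Module.Flat R (Fin a → C) := Module.Flat.trans R C (Fin a → C)
  haveI : Module.Flat R (Fin b → C) := Module.Flat.trans R C (Fin b → C)
  haveI : Module.Flat R (LocalizedModule n.asIdeal.primeCompl (Fin a → C)) :=
    Groth.Agent.Lib.Helper21.FlatLocal.flat_of_isLocalizedModule n.asIdeal.primeCompl
      (LocalizedModule.mkLinearMap n.asIdeal.primeCompl (Fin a → C))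
  haveI : Module.Flat R (LocalizedModule n.asIdeal.primeCompl (Fin b → C)) :=
    Groth.Agent.Lib.Helper21.FlatLocal.flat_of_isLocalizedModule n.asIdeal.primeCompl
      (LocalizedModule.mkLinearMap n.asIdeal.primeCompl (Fin b → C))
  have hgn : Function.Injective (LocalizedModule.map n.asIdeal.primeCompl g) :=
    LocalizedModule.map_injective n.asIdeal.primeCompl g hg
  have hghn : Function.Exact (LocalizedModule.map n.asIdeal.primeCompl g)
      (LocalizedModule.map n.asIdeal.primeCompl h) :=
    LocalizedModule.map_exact n.asIdeal.primeCompl g h hgh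
  have huvn : Function.Exact (LocalizedModule.map n.asIdeal.primeCompl h)
      (LocalizedModule.map n.asIdeal.primeCompl (LinearMap.range h).mkQ) :=
    LocalizedModule.map_exact n.asIdeal.primeCompl h _ huv
  have hvn : Function.Surjective
      (LocalizedModule.map n.asIdeal.primeCompl (LinearMap.range h).mkQ) :=
    LocalizedModule.map_surjective n.asIdeal.primeCompl _ hv
  have hflat : Module.Flat R (LocalizedModule n.asIdeal.primeCompl F) :=
    Groth.Agent.S18708.flat_F_of_flat (LocalizedModule.map n.asIdeal.primeCompl g)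
      (LocalizedModule.map n.asIdeal.primeCompl h)
      (LocalizedModule.map n.asIdeal.primeCompl (LinearMap.range h).mkQ) hghn huvn hvn hgn
  -- depth of the closed fibres of the free terms
  have hZ := Groth.Agent.Lib.Helper21.RelS2.hZ_loc R C n hS2 J hcodim
  letI : Algebra (R ⧸ IsLocalRing.maximalIdeal R)
      ((Localization.AtPrime n.asIdeal) ⊗[R] (R ⧸ IsLocalRing.maximalIdeal R)) :=
    Algebra.TensorProduct.rightAlgebra
  haveI : IsNoetherianRing
      ((Localization.AtPrime n.asIdeal) ⊗[R] (R ⧸ IsLocalRing.maximalIdeal R)) :=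
    isNoetherianRing_of_surjective (Localization.AtPrime n.asIdeal) _
      (algebraMap (Localization.AtPrime n.asIdeal)
        ((Localization.AtPrime n.asIdeal) ⊗[R] (R ⧸ IsLocalRing.maximalIdeal R)))
      (Groth.Agent.Lib.Helper21.RelS2.surjective_algebraMap_of_isPushout_quotient R
        (Localization.AtPrime n.asIdeal) (IsLocalRing.maximalIdeal R)
        ((Localization.AtPrime n.asIdeal) ⊗[R] (R ⧸ IsLocalRing.maximalIdeal R)))
  have h0 : 2 ≤ LocCoh.idealDepth (J.map (algebraMap C (Localization.AtPrime n.asIdeal)))
      (EGA4.FibMod R (Localization.AtPrime n.asIdeal)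
        (LocalizedModule n.asIdeal.primeCompl (Fin a → C))) :=
    Groth.Agent.Lib.Helper21.RelS2.le_idealDepth_quot_of_pushout R
      (Localization.AtPrime n.asIdeal) (IsLocalRing.maximalIdeal R)
      ((Localization.AtPrime n.asIdeal) ⊗[R] (R ⧸ IsLocalRing.maximalIdeal R))
      (J.map (algebraMap C (Localization.AtPrime n.asIdeal))) hZ
      (LocalizedModule n.asIdeal.primeCompl (Fin a → C))
  have h1 : 2 ≤ LocCoh.idealDepth (J.map (algebraMap C (Localization.AtPrime n.asIdeal)))
      (EGA4.FibMod R (Localization.AtPrime n.asIdeal)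
        (LocalizedModule n.asIdeal.primeCompl (Fin b → C))) :=
    Groth.Agent.Lib.Helper21.RelS2.le_idealDepth_quot_of_pushout R
      (Localization.AtPrime n.asIdeal) (IsLocalRing.maximalIdeal R)
      ((Localization.AtPrime n.asIdeal) ⊗[R] (R ⧸ IsLocalRing.maximalIdeal R))
      (J.map (algebraMap C (Localization.AtPrime n.asIdeal))) hZ
      (LocalizedModule n.asIdeal.primeCompl (Fin b → C))
  have hdepth : 2 ≤ LocCoh.idealDepth (J.map (algebraMap C (Localization.AtPrime n.asIdeal)))
      (EGA4.FibMod R (Localization.AtPrime n.asIdeal) (LocalizedModule n.asIdeal.primeCompl F)) :=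
    Groth.Agent.S18708.depth_of_flat (J.map (algebraMap C (Localization.AtPrime n.asIdeal)))
      (LocalizedModule.map n.asIdeal.primeCompl g)
      (LocalizedModule.map n.asIdeal.primeCompl h)
      (LocalizedModule.map n.asIdeal.primeCompl (LinearMap.range h).mkQ) hghn huvn hvn hgn h0
      (le_trans (by norm_num) h1)
  refine ⟨hflat, ?_⟩
  -- `(S₂)` of the closed fibre
  have heq : EGA4.mB R (Localization.AtPrime n.asIdeal) •
      (⊤ : Submodule (Localization.AtPrime n.asIdeal) (LocalizedModule n.asIdeal.primeCompl F)) =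
      ((n.asIdeal.comap (algebraMap R C)).map (algebraMap R (Localization.AtPrime n.asIdeal))) •
      (⊤ : Submodule (Localization.AtPrime n.asIdeal)
        (LocalizedModule n.asIdeal.primeCompl F)) := by
    rw [hcomap]
  rw [Groth.Agent.Lib.Helper21.DepthKit.idealDepth_congr _ (Submodule.quotEquivOfEq _ _ heq)]
    at hdepth
  rw [Groth.Agent.Lib.Helper21.DepthKit.idealDepth_map_of_surjective
    (R := Localization.AtPrime n.asIdeal) (S := EGA4.FibLocRing R C n.asIdeal)
    (EGA4.FibLocMod R C n.asIdeal F) Ideal.Quotient.mk_surjective] at hdepth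
  refine Groth.Agent.Lib.Helper21.RelS2.hasSk_two_of_free_off_of_depth
    (EGA4.FibLocRing R C n.asIdeal) _ (EGA4.FibLocMod R C n.asIdeal F) hS2 ?_ hdepth
  intro r hr
  exact (Groth.Agent.Lib.Helper21.RelS2.free_off_quotient _
    (J.map (algebraMap C (Localization.AtPrime n.asIdeal)))
    (LocalizedModule n.asIdeal.primeCompl F) hFUn r hr).2

end Groth.Agent.S18713
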