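import Groth.Statements.S18718
import Mathlib
import Groth.Agent.Lib.Helper21.QuasiInv
import Groth.Agent.Lib.Helper21.RdBC7
import Groth.Agent.S18722

set_option autoImplicit false
universe u
open QGor

namespace Groth.Agent.S18718

open TensorProduct in
/-- Affine form. Let A → B be a flat homomorphism of Noetherian rings, J an ideal of B such that the
fibre local ring B_q/pB_q has depth ≥ 2 at every prime q ⊇ J (p its contraction), A → A′ a
homomorphism of Noetherian rings with Noetherian pushout B′ = A′ ⊗_A B, and F a finite B-module with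
F_q free for every prime q not containing J. Then depth_J (F^∨∨) ≥ 2 (the double dual is the module
of sections of F off V(J)); the natural map (B′ ⊗_B F)^∨∨ → (B′ ⊗_B F^∨∨)^∨∨ obtained by dualising
twice the base change of F → F^∨∨ is bijective; and if moreover F is flat over A and the fibre
stalks F_q/pF_q have depth ≥ 2 at all primes q ⊇ J, then F and B′ ⊗_B F are reflexive. -/
theorem result (A B : Type u) [CommRing A] [CommRing B] [IsNoetherianRing A] [IsNoetherianRing B] [Algebra A B]
    (A' B' : Type u) [CommRing A'] [CommRing B'] [IsNoetherianRing A'] [IsNoetherianRing B']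
    [Algebra A A'] [Algebra B B'] [Algebra A' B'] [Algebra A B'] [IsScalarTower A B B'] [IsScalarTower A A' B']
    [Algebra.IsPushout A B A' B'] [Module.Flat A B] (J : Ideal B)
    (hZ : ∀ q : PrimeSpectrum B, J ≤ q.asIdeal →
      2 ≤ LocCoh.idealDepth (q.asIdeal.map (algebraMap B (EGA4.FibLocRing A B q.asIdeal))) (EGA4.FibLocRing A B q.asIdeal))
    (F : Type u) [AddCommGroup F] [Module B F] [Module A F] [IsScalarTower A B F] [Module.Finite B F]
    (hFU : ∀ q : PrimeSpectrum B, ¬ J ≤ q.asIdeal → Module.Free (Localization.AtPrime q.asIdeal) (LocalizedModule q.asIdeal.primeCompl F)) :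
    2 ≤ LocCoh.idealDepth J (Module.Dual B (Module.Dual B F)) ∧
    Function.Bijective (((Module.Dual.eval B F).baseChange B').dualMap.dualMap) ∧
    (Module.Flat A F →
      (∀ q : PrimeSpectrum B, J ≤ q.asIdeal →
        2 ≤ LocCoh.idealDepth (q.asIdeal.map (algebraMap B (EGA4.FibLocRing A B q.asIdeal))) (EGA4.FibLocMod A B q.asIdeal F)) →
      Module.IsReflexive B F ∧ Module.IsReflexive B' (B' ⊗[B] F)) := by
  classical
  open Groth.Agent.Lib.Helper21 Groth.Agent.Lib.Helper21.RetractUpTo
    Groth.Agent.Lib.Helper21.QuasiInv in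
  haveI hpo : Algebra.IsPushout A A' B B' := Algebra.IsPushout.symm inferInstance
  haveI : Module.Flat A' B' := Module.Flat.isBaseChange A A' B B' hpo.out
  -- depth of the rings along `J`
  have hB2 : 2 ≤ LocCoh.idealDepth J B := Groth.Agent.S18722.le_idealDepth_self_of_fibre A B J 2 hZ
  have hZ' := RdBC.forall_fibre_self_bc A B A' B' J 2 hZ
  have hB'2 : 2 ≤ LocCoh.idealDepth (J.map (algebraMap B B')) B' :=
    Groth.Agent.S18722.le_idealDepth_self_of_fibre A' B' (J.map (algebraMap B B')) 2 hZ'
  have hB1 : 1 ≤ LocCoh.idealDepth J B := le_trans (by norm_num) hB2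
  have hB'1 : 1 ≤ LocCoh.idealDepth (J.map (algebraMap B B')) B' := le_trans (by norm_num) hB'2
  have hcast2 : (2 : ℕ∞) = ((2 : ℕ) : ℕ∞) := rfl
  -- the retract ideal
  obtain ⟨n, hn⟩ := exists_pow_le_retractIdeal F J hFU
  have hn' : (J.map (algebraMap B B')) ^ n ≤ retractIdeal (B' ⊗[B] F) := by
    rw [← Ideal.map_pow]
    exact (Ideal.map_mono hn).trans (map_retractIdeal_le B' F)
  haveI : Module.Finite B (Module.Dual B F) := Groth.Agent.S6876.finite_hom
  haveI : Module.Finite B (Module.Dual B (Module.Dual B F)) := Groth.Agent.S6876.finite_hom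
  refine ⟨?_, ?_, ?_⟩
  · rw [hcast2]
    exact Groth.Agent.S18702.le_idealDepth_hom J 2 le_rfl (by rw [← hcast2]; exact hB2)
  · -- the base change of the evaluation map is invertible up to `(J B')^n`
    have h1 : (J.map (algebraMap B B')) ^ n ≤
        quasiInvIdeal ((Module.Dual.eval B F).baseChange B') := by
      rw [← Ideal.map_pow]
      exact (Ideal.map_mono (hn.trans (retractIdeal_le_quasiInvIdeal_eval F))).trans
        (map_quasiInvIdeal_le_baseChange B' _)
    have h2 := h1.trans (quasiInvIdeal_le_dualMap _)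
    haveI : Module.Finite B' (Module.Dual B' (B' ⊗[B] F)) := Groth.Agent.S6876.finite_hom
    haveI : Module.Finite B' (Module.Dual B' (B' ⊗[B] Module.Dual B (Module.Dual B F))) :=
      Groth.Agent.S6876.finite_hom
    have hd : ∀ (M : Type u) [AddCommGroup M] [Module B' M] [Module.Finite B' M],
        2 ≤ LocCoh.idealDepth (J.map (algebraMap B B')) (Module.Dual B' M) := by
      intro M _ _ _
      rw [hcast2]
      exact Groth.Agent.S18702.le_idealDepth_hom _ 2 le_rfl (by rw [← hcast2]; exact hB'2)
    have hbij := bijective_of_pow_le_quasiInvIdeal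
      ((Module.Dual.eval B F).baseChange B').dualMap (J.map (algebraMap B B')) n h2
      (hd _) (le_trans (by norm_num) (hd _))
    exact (LinearEquiv.ofBijective _ hbij).dualMap.bijective
  · intro hflat hFd
    haveI := hflat
    refine ⟨?_, ?_⟩
    · have hF2 : 2 ≤ LocCoh.idealDepth J F := FlatLocal.le_idealDepth_of_fibre (A := A) F J 2 hFd
      exact isReflexive_of_pow_le F J n (hn.trans (retractIdeal_le_quasiInvIdeal_eval F)) hF2 hB1
    · haveI : Module.Flat A' (B' ⊗[B] F) :=
        Module.Flat.of_linearEquiv (Algebra.IsPushout.cancelBaseChange A A' B B' F)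
      have hFd' := RdBC.forall_fibre_bc A B A' B' F (B' ⊗[B] F) (TensorProduct.mk B B' F 1)
        (TensorProduct.isBaseChange B F B') J 2 hFd
      have hF2 : 2 ≤ LocCoh.idealDepth (J.map (algebraMap B B')) (B' ⊗[B] F) :=
        FlatLocal.le_idealDepth_of_fibre (A := A') (B' ⊗[B] F) (J.map (algebraMap B B')) 2 hFd'
      exact isReflexive_of_pow_le (B' ⊗[B] F) (J.map (algebraMap B B')) n
        (hn'.trans (retractIdeal_le_quasiInvIdeal_eval _)) hF2 hB'1

end Groth.Agent.S18718
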