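import Groth.Statements.S1872
import Groth.Agent.Lib.Helper7.IntMultSerre
import Groth.Agent.Lib.Helper7.IntMultCM
import Groth.Agent.Lib.Helper7.CMRegList
import Groth.Agent.Lib.Helper7.TorVanishCM
import Groth.Agent.Lib.Helper5.RegSmoothScheme2

set_option autoImplicit false
universe u
open CategoryTheory AlgebraicGeometry
attribute [local instance] HasDerivedCategory.standard
open IntMult

namespace Groth.Agent.S1872

/-- First statement; the cycle-level consequence V·W = [V ∩ W] is not stated: when both local rings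
O_{V,ξ} and O_{W,ξ} are Cohen–Macaulay, the intersection multiplicity e(X, V·W, Z) is the length
over O_{X,ξ} of the local ring at ξ of the scheme-theoretic intersection V ∩ W. Here X is a
nonsingular variety over an algebraically closed field K (smooth, separated, of finite type,
integral), V and W are closed subvarieties given by quasi-coherent ideal sheaves with integral
subschemes, of dimensions r and s with dim X = n, intersecting properly, and ξ is the generic point
of an irreducible component Z of V ∩ W; e(X, V·W, Z) is the alternating sum of lengths of Tor over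
O_{X,ξ}. -/
theorem result (K : Type u) [Field K] [IsAlgClosed K] (X : Scheme.{u}) (f : X ⟶ Spec (CommRingCat.of K)) [Smooth f] [IsSeparated f] [QuasiCompact f] [IsIntegral X] (IV IW : X.IdealSheafData) [IsIntegral IV.subscheme] [IsIntegral IW.subscheme] (n r s : ℕ) (hn : topologicalKrullDim X = n) (hr : topologicalKrullDim IV.support = r) (hs : topologicalKrullDim IW.support = s) (hprop : IntMult.ProperInt (IV.support : Set X) (IW.support : Set X) n r s) (ξ : X) (hξV : ξ ∈ IV.support) (hξW : ξ ∈ IW.support) (hmax : ∀ ξ' : X, ξ' ∈ IV.support → ξ' ∈ IW.support → ξ' ⤳ ξ → ξ' = ξ) (hV : LocCoh.IsCohenMacaulayLocalRing (↑(X.presheaf.stalk ξ) ⧸ IntMult.stalkIdeal IV ξ)) (hW : LocCoh.IsCohenMacaulayLocalRing (↑(X.presheaf.stalk ξ) ⧸ IntMult.stalkIdeal IW ξ)) : (IntMult.mult IV IW ξ : ℤ) = (Module.length (X.presheaf.stalk ξ) (↑(X.presheaf.stalk ξ) ⧸ (IntMult.stalkIdeal IV ξ ⊔ IntMult.stalkIdeal IW ξ))).toNat := by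
  classical
  haveI hlft : LocallyOfFiniteType f := inferInstance
  haveI hnoeth : IsLocallyNoetherian X :=
    Groth.Agent.Lib.Helper7.IMSerre.isLocallyNoetherian_of_field K X f
  letI : X.Over (Spec (CommRingCat.of K)) := ⟨f⟩
  haveI : LocallyOfFiniteType (X ↘ Spec (CommRingCat.of K)) := ‹LocallyOfFiniteType f›
  obtain ⟨a, v, w, z, ha, hv, hw, h1, h2, h3, h4⟩ :=
    Groth.Agent.Lib.Helper7.IMDim.exists_dims K X IV IW n r s hn hr hs hprop ξ hξV hξW
  haveI hregA : IsRegularLocalRing (X.presheaf.stalk ξ) :=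
    Groth.Agent.Lib.Helper5.RegSmooth.regular_stalk_of_smooth K X f ξ
  obtain ⟨xs, hxs, hxl, hxreg⟩ :=
    Groth.Agent.Lib.Helper7.CMRegList.exists_regular_list (IntMult.stalkIdeal IV ξ) hV v hv
  obtain ⟨ys, hys, hyl, hyreg⟩ :=
    Groth.Agent.Lib.Helper7.CMRegList.exists_regular_list (IntMult.stalkIdeal IW ξ) hW w hw
  have hprim : ∀ x ∈ IsLocalRing.maximalIdeal (X.presheaf.stalk ξ),
      ∃ k : ℕ, x ^ k ∈ IntMult.stalkIdeal IV ξ ⊔ IntMult.stalkIdeal IW ξ := by
    intro x hx
    have : x ∈ (IntMult.stalkIdeal IV ξ ⊔ IntMult.stalkIdeal IW ξ).radical := by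
      rw [Ideal.radical_eq_sInf, Ideal.mem_sInf]
      rintro q ⟨hq1, hq2⟩
      haveI := hq2
      rw [Groth.Agent.Lib.Helper7.IMBridge.eq_maximalIdeal_of_le IV IW ξ hmax q
        (le_sup_left.trans hq1) (le_sup_right.trans hq1)]
      exact hx
    exact this
  have hvan : ∀ t : ℕ, 1 ≤ t → Limits.IsZero (((Tor (ModuleCat.{u} (X.presheaf.stalk ξ)) t).obj
      (ModuleCat.of (X.presheaf.stalk ξ) (X.presheaf.stalk ξ ⧸ IntMult.stalkIdeal IW ξ))).obj
      (ModuleCat.of (X.presheaf.stalk ξ) (X.presheaf.stalk ξ ⧸ IntMult.stalkIdeal IV ξ))) :=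
    fun t ht => Groth.Agent.Lib.Helper7.TorVanishCM.isZero_tor a v w ha _ _ hprim xs hxs hxreg hxl
      ys hys hyreg hyl (by omega) t ht
  unfold IntMult.mult IntMult.chi
  rw [finsum_eq_single _ 0 (fun i hi => by
    haveI : Subsingleton (DRing.Tor (X.presheaf.stalk ξ) i
        (X.presheaf.stalk ξ ⧸ IntMult.stalkIdeal IW ξ)
        (X.presheaf.stalk ξ ⧸ IntMult.stalkIdeal IV ξ)) :=
      ModuleCat.subsingleton_of_isZero (hvan i (Nat.one_le_iff_ne_zero.2 hi))
    rw [Module.length_eq_zero]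
    simp)]
  have e1 : DRing.Tor (X.presheaf.stalk ξ) 0 (X.presheaf.stalk ξ ⧸ IntMult.stalkIdeal IW ξ)
      (X.presheaf.stalk ξ ⧸ IntMult.stalkIdeal IV ξ) ≃ₗ[X.presheaf.stalk ξ]
      TensorProduct (X.presheaf.stalk ξ) (X.presheaf.stalk ξ ⧸ IntMult.stalkIdeal IW ξ)
        (X.presheaf.stalk ξ ⧸ IntMult.stalkIdeal IV ξ) :=
    ((Functor.leftDerivedZeroIsoSelf (MonoidalCategory.tensorLeft (ModuleCat.of (X.presheaf.stalk ξ)
      (X.presheaf.stalk ξ ⧸ IntMult.stalkIdeal IW ξ)))).app
        (ModuleCat.of (X.presheaf.stalk ξ)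
          (X.presheaf.stalk ξ ⧸ IntMult.stalkIdeal IV ξ))).toLinearEquiv
  have e2 := TensorProduct.quotTensorEquivQuotSMul
    (X.presheaf.stalk ξ ⧸ IntMult.stalkIdeal IV ξ) (IntMult.stalkIdeal IW ξ)
  rw [(e1 ≪≫ₗ e2).length_eq,
    Groth.Agent.Lib.Helper7.IMSerre.length_quot_ideal_smul_top]
  simp

end Groth.Agent.S1872
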