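import Groth.Statements.S6452
import Groth.Agent.Lib.Helper7.IntMultSerre
import Groth.Agent.Lib.Helper7.IntMultCM
import Groth.Agent.Lib.Helper7.KosRegular

set_option autoImplicit false
universe u
open CategoryTheory AlgebraicGeometry
attribute [local instance] HasDerivedCategory.standard
open IntMult

namespace Groth.Agent.S6452

/-- Suppose the ideal of V in O_{X,ξ} is generated by a regular sequence g₁, …, g_c and the local ring
O_{W,ξ} is Cohen–Macaulay. Then e(X, V·W, Z) = length_{O_{X,ξ}}(O_{W,ξ}/(g₁, …, g_c)O_{W,ξ}), i.e.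
the length of O_{X,ξ}/(I_{W,ξ} + I_{V,ξ}). Here X is a nonsingular variety over an algebraically
closed field K (smooth, separated, quasi-compact, integral), V and W are closed subvarieties given
by quasi-coherent ideal sheaves with integral subschemes, of dimensions r and s with dim X = n,
intersecting properly, and ξ is the generic point of an irreducible component Z of V ∩ W (a point of
V ∩ W maximal under specialization); e(X, V·W, Z) = IntMult.mult is the alternating sum of lengths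
of Tor over O_{X,ξ}, and O_{W,ξ} = O_{X,ξ}/I_{W,ξ}. -/
theorem result (K : Type u) [Field K] [IsAlgClosed K] (X : Scheme.{u}) (f : X ⟶ Spec (CommRingCat.of K)) [Smooth f] [IsSeparated f] [QuasiCompact f] [IsIntegral X] (IV IW : X.IdealSheafData) [IsIntegral IV.subscheme] [IsIntegral IW.subscheme] (n r s : ℕ) (hn : topologicalKrullDim X = n) (hr : topologicalKrullDim IV.support = r) (hs : topologicalKrullDim IW.support = s) (hprop : IntMult.ProperInt (IV.support : Set X) (IW.support : Set X) n r s) (ξ : X) (hξV : ξ ∈ IV.support) (hξW : ξ ∈ IW.support) (hmax : ∀ ξ' : X, ξ' ∈ IV.support → ξ' ∈ IW.support → ξ' ⤳ ξ → ξ' = ξ) (c : ℕ) (g : Fin c → ↑(X.presheaf.stalk ξ)) (hg : IntMult.stalkIdeal IV ξ = Ideal.span (Set.range g)) (hreg : RingTheory.Sequence.IsRegular (↑(X.presheaf.stalk ξ)) (List.ofFn g)) (hW : LocCoh.IsCohenMacaulayLocalRing (↑(X.presheaf.stalk ξ) ⧸ IntMult.stalkIdeal IW ξ)) : (IntMult.mult IV IW ξ : ℤ) = (Module.length (X.presheaf.stalk ξ) (↑(X.presheaf.stalk ξ)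 ⧸ (IntMult.stalkIdeal IW ξ ⊔ IntMult.stalkIdeal IV ξ))).toNat := by
  classical
  haveI hlft : LocallyOfFiniteType f := inferInstance
  haveI hnoeth : IsLocallyNoetherian X :=
    Groth.Agent.Lib.Helper7.IMSerre.isLocallyNoetherian_of_field K X f
  have hdim := Groth.Agent.Lib.Helper7.IMSerre.supportDim_eq K X f IV IW n r s hn hr hs hprop ξ
    hξV hξW hmax c g hg hreg
  rw [Module.supportDim_quotient_eq_ringKrullDim] at hdim
  have hfl := Groth.Agent.Lib.Helper7.IMSerre.isFiniteLength_quot X IV IW ξ hmax c g hg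
  have hof : Ideal.ofList (List.ofFn g) = Ideal.span (Set.range g) := by
    show Ideal.span {a | a ∈ List.ofFn g} = _
    rw [Groth.Agent.Lib.Helper2.KosChi3.setOf_mem_ofFn]
  -- the sequence is regular on `O_{W,ξ}`
  have hwr : RingTheory.Sequence.IsWeaklyRegular
      (X.presheaf.stalk ξ ⧸ IntMult.stalkIdeal IW ξ) (List.ofFn g) := by
    apply Groth.Agent.Lib.Helper7.IMCM.isWeaklyRegular_quot_of_CM _ hW
    · intro a ha
      rw [List.mem_ofFn] at ha
      obtain ⟨j, rfl⟩ := ha
      exact Groth.Agent.Lib.Helper7.IMSerre.mem_maximalIdeal X IV ξ hξV c g hg j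
    · rw [hdim, List.length_ofFn]
    · intro q hq hVq hWq
      apply Groth.Agent.Lib.Helper7.IMBridge.eq_maximalIdeal_of_le IV IW ξ hmax q _ hWq
      rw [hg, ← hof]
      exact hVq
  have hlen : Module.length (X.presheaf.stalk ξ)
      ((X.presheaf.stalk ξ ⧸ IntMult.stalkIdeal IW ξ) ⧸ (Ideal.ofList (List.ofFn g) •
        (⊤ : Submodule (X.presheaf.stalk ξ) (X.presheaf.stalk ξ ⧸ IntMult.stalkIdeal IW ξ)))) ≠ ⊤ := by
    rw [hof]
    exact Module.length_ne_top_iff.2 hfl
  obtain ⟨-, hK⟩ := Groth.Agent.Lib.Helper7.KosReg.chiK_of_isWeaklyRegular (List.ofFn g)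
    (X.presheaf.stalk ξ ⧸ IntMult.stalkIdeal IW ξ) hwr hlen
  have hmult : IntMult.mult IV IW ξ = IntMult.chi (X.presheaf.stalk ξ)
      (X.presheaf.stalk ξ ⧸ Ideal.span (Set.range g))
      (X.presheaf.stalk ξ ⧸ IntMult.stalkIdeal IW ξ) := by
    unfold IntMult.mult
    rw [Groth.Agent.Lib.Helper7.IMSymm.chi_comm, hg]
  have hc := Groth.Agent.S1914.chi_eq (List.ofFn g) hreg.toIsWeaklyRegular
    (X.presheaf.stalk ξ ⧸ IntMult.stalkIdeal IW ξ)
  rw [Groth.Agent.Lib.Helper2.KosChi3.setOf_mem_ofFn] at hc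
  rw [hmult, hc, ← Groth.Agent.Lib.Helper2.KosChi2.chiK_eq, hK, hof,
    Groth.Agent.Lib.Helper7.IMSerre.length_quot_ideal_smul_top, hg]

end Groth.Agent.S6452
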