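import Groth.Statements.S1873
import Groth.Agent.Lib.Helper7.IntMultSerre
import Groth.Agent.Lib.Helper7.RegularSplit
import Groth.Agent.Lib.Helper5.RegSmoothScheme2
import Groth.Agent.S6452
import Groth.Agent.S0561
import Groth.Agent.S0559
import Groth.Agent.S10834

set_option autoImplicit false
universe u
open CategoryTheory AlgebraicGeometry
attribute [local instance] HasDerivedCategory.standard
open IntMult

namespace Groth.Agent.S1873

/-- a prefix of a regular sequence in a local ring is regular -/
theorem isRegular_prefix {R : Type u} [CommRing R] [IsLocalRing R] [IsNoetherianRing R]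
    (d c : ℕ) (hc : c ≤ d) (x : Fin d → R)
    (hreg : RingTheory.Sequence.IsRegular R (List.ofFn x)) :
    RingTheory.Sequence.IsRegular R (List.ofFn (fun i : Fin c => x (Fin.castLE hc i))) := by
  have htake : List.ofFn (fun i : Fin c => x (Fin.castLE hc i)) = (List.ofFn x).take c := by
    apply List.ext_getElem
    · simp [hc]
    · intro i h1 h2
      simp
  have hm : ∀ r ∈ List.ofFn x, r ∈ IsLocalRing.maximalIdeal R := by
    intro r hr
    by_contra hnot
    have hu : IsUnit r := by
      by_contra hnu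
      exact hnot ((IsLocalRing.mem_maximalIdeal r).2 hnu)
    apply hreg.top_ne_smul
    have h1 : Ideal.ofList (List.ofFn x) = ⊤ :=
      Ideal.eq_top_of_isUnit_mem _ (Ideal.subset_span hr) hu
    rw [h1]
    simp
  rw [htake]
  have hw : RingTheory.Sequence.IsWeaklyRegular R ((List.ofFn x).take c) := by
    have h := hreg.toIsWeaklyRegular
    rw [← List.take_append_drop c (List.ofFn x),
      RingTheory.Sequence.isWeaklyRegular_append_iff] at h
    exact h.1
  exact (IsLocalRing.isRegular_iff_isWeaklyRegular_of_subset_maximalIdeal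
    (fun r hr => hm r (List.mem_of_mem_take hr))).2 hw


/-- If the multiplicity of Z in the closed subscheme V ∩ W is 1, i.e. length_{O_{X,ξ}}(O_{V∩W,ξ}) = 1,
then e(X, V·W, Z) = 1 and the local rings O_{V,ξ}, O_{W,ξ} are regular (V and W are smooth at a
general point of Z). Here X is a nonsingular variety over an algebraically closed field K (smooth,
separated, of finite type, integral), V and W are closed subvarieties given by quasi-coherent ideal
sheaves with integral subschemes, of dimensions r and s with dim X = n, intersecting properly, and ξ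
is the generic point of an irreducible component Z of V ∩ W; e(X, V·W, Z) is the alternating sum of
lengths of Tor over O_{X,ξ}. -/
theorem result (K : Type u) [Field K] [IsAlgClosed K] (X : Scheme.{u}) (f : X ⟶ Spec (CommRingCat.of K)) [Smooth f] [IsSeparated f] [QuasiCompact f] [IsIntegral X] (IV IW : X.IdealSheafData) [IsIntegral IV.subscheme] [IsIntegral IW.subscheme] (n r s : ℕ) (hn : topologicalKrullDim X = n) (hr : topologicalKrullDim IV.support = r) (hs : topologicalKrullDim IW.support = s) (hprop : IntMult.ProperInt (IV.support : Set X) (IW.support : Set X) n r s) (ξ : X) (hξV : ξ ∈ IV.support) (hξW : ξ ∈ IW.support) (hmax : ∀ ξ' : X, ξ' ∈ IV.support → ξ' ∈ IW.support → ξ' ⤳ ξ → ξ' = ξ) (h1 : Module.length (X.presheaf.stalk ξ) (↑(X.presheaf.stalk ξ) ⧸ (IntMult.stalkIdeal IV ξ ⊔ IntMult.stalkIdeal IW ξ)) = 1) : IntMult.mult IV IW ξ = 1 ∧ IsRegularLocalRing (↑(X.presheaf.stalk ξ) ⧸ IntMult.stalkIdeal IV ξ) ∧ IsRegularLocalRing (↑(X.presheaf.stalk ξ) ⧸ IntMult.stalkIdeal IW ξ) := by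
  classical
  haveI hlft : LocallyOfFiniteType f := inferInstance
  haveI hnoeth : IsLocallyNoetherian X :=
    Groth.Agent.Lib.Helper7.IMSerre.isLocallyNoetherian_of_field K X f
  haveI hregA : IsRegularLocalRing (X.presheaf.stalk ξ) :=
    Groth.Agent.Lib.Helper5.RegSmooth.regular_stalk_of_smooth K X f ξ
  letI : X.Over (Spec (CommRingCat.of K)) := ⟨f⟩
  haveI : LocallyOfFiniteType (X ↘ Spec (CommRingCat.of K)) := hlft
  obtain ⟨a, v, w, z, ha, hv, hw, e1, e2, e3, e4⟩ :=
    Groth.Agent.Lib.Helper7.IMDim.exists_dims K X IV IW n r s hn hr hs hprop ξ hξV hξW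
  -- `I_V + I_W` is the maximal ideal
  have hsimple : IsSimpleModule (X.presheaf.stalk ξ)
      (X.presheaf.stalk ξ ⧸ (IntMult.stalkIdeal IV ξ ⊔ IntMult.stalkIdeal IW ξ)) :=
    Module.length_eq_one_iff.1 h1
  have hmaxl : (IntMult.stalkIdeal IV ξ ⊔ IntMult.stalkIdeal IW ξ).IsMaximal := by
    rw [Ideal.isMaximal_def, ← isSimpleModule_iff_isCoatom]
    exact hsimple
  have hsup : IntMult.stalkIdeal IV ξ ⊔ IntMult.stalkIdeal IW ξ =
      IsLocalRing.maximalIdeal (X.presheaf.stalk ξ) := IsLocalRing.eq_maximalIdeal hmaxl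
  have hdim : ringKrullDim (X.presheaf.stalk ξ) ≤
      ringKrullDim (X.presheaf.stalk ξ ⧸ IntMult.stalkIdeal IV ξ) +
        ringKrullDim (X.presheaf.stalk ξ ⧸ IntMult.stalkIdeal IW ξ) := by
    rw [ha, hv, hw]
    have : a ≤ v + w := by omega
    exact_mod_cast this
  obtain ⟨hRV, hRW⟩ := Groth.Agent.Lib.Helper7.RegSplit.isRegularLocalRing_quotient_of_sup_eq
    (IntMult.stalkIdeal IV ξ) (IntMult.stalkIdeal IW ξ) hsup hdim
  refine ⟨?_, hRV, hRW⟩
  -- `I_V` is generated by a regular sequence
  haveI := hRV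
  obtain ⟨x, c, hc, hx, hIV⟩ := Groth.Agent.S0561.result (X.presheaf.stalk ξ) a ha
    (IntMult.stalkIdeal IV ξ)
  have hregx := Groth.Agent.S0559.result (X.presheaf.stalk ξ) a ha x hx
  have hregg := isRegular_prefix a c hc x hregx
  -- `O_{W,ξ}` is Cohen–Macaulay
  haveI := hRW
  have hCM : LocCoh.IsCohenMacaulayLocalRing (X.presheaf.stalk ξ ⧸ IntMult.stalkIdeal IW ξ) :=
    { supportDim_eq_depth := Groth.Agent.S10834.isCM_of_isRegularLocalRing _ }
  have key := Groth.Agent.S6452.result K X f IV IW n r s hn hr hs hprop ξ hξV hξW hmax c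
    (fun i : Fin c => x (Fin.castLE hc i)) hIV hregg hCM
  rw [sup_comm, h1] at key
  simpa using key

end Groth.Agent.S1873
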