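import Groth.Statements.S18731
import Groth.Agent.Lib.Helper29.EffCart4
import Groth.Agent.Lib.Helper29.IdealComap

set_option autoImplicit false
universe u
open CategoryTheory CategoryTheory.Limits AlgebraicGeometry TopologicalSpace
open ModPair

namespace Groth.Agent.S18731

open Groth.Agent.Lib.Helper29.EffCart


/-- Let I on X and J on Y be quasi-coherent ideal sheaves of effective Cartier divisors and f : X ⟶ Y a
morphism satisfying the modulus condition I ≤ J.comap f (the closed subscheme J ×_Y X of X lies
inside the closed subscheme cut out by I). Then the pull-back of the divisor of J along f is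
defined: J.comap f is the ideal sheaf of an effective Cartier divisor on X. -/
theorem result {X Y : Scheme.{u}} (I : X.IdealSheafData)
    (J : Y.IdealSheafData) (hI : BlowUp.IsEffCartierIdeal I) (hJ : BlowUp.IsEffCartierIdeal J)
    (f : X ⟶ Y) (hf : ModPair.IsAmbient I J f) : BlowUp.IsEffCartierIdeal (J.comap f) := by
  intro x
  obtain ⟨V, hxV, t, ht, hJV⟩ := hJ (f x)
  obtain ⟨U, hxU, hUle, s, hs, hIU⟩ := exists_affine_principal_nzd_le I hI x (f ⁻¹ᵁ V.1) hxV
  refine ⟨U, hxU, (f.appLE V.1 U.1 hUle).hom t, ?_, ?_⟩
  · -- s ∈ (f^♯ t), s nzd ⟹ f^♯ t nzd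
    have hle : I.ideal U ≤ (J.comap f).ideal U := hf U
    rw [ideal_comap_eq_map J f V U hUle, hJV, Ideal.map_span, Set.image_singleton, hIU,
      Ideal.span_singleton_le_span_singleton] at hle
    obtain ⟨c, hc⟩ := hle
    rw [mem_nonZeroDivisors_iff_right]
    intro y hy
    apply (mem_nonZeroDivisors_iff_right.1 hs) y
    rw [hc, ← mul_assoc, hy, zero_mul]
  · rw [ideal_comap_eq_map J f V U hUle, hJV, Ideal.map_span, Set.image_singleton]

end Groth.Agent.S18731
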