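import Groth.Statements.S18732
import Groth.Agent.S8853
import Groth.Agent.Lib.Helper29.EffCart4
import Groth.Agent.Lib.Helper29.EffCart2
import Groth.Agent.Lib.Helper29.IdealComap

set_option autoImplicit false
universe u
open CategoryTheory CategoryTheory.Limits AlgebraicGeometry TopologicalSpace
open ModPair

namespace Groth.Agent.S18732

open Groth.Agent.Lib.Helper29.EffCart


/-- Let X be a scheme, I the quasi-coherent ideal sheaf of an effective Cartier divisor on X with open
complement U, and f : X' ⟶ X a morphism of schemes for which the open immersion of f⁻¹(U) into X'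
has all of X' as its scheme-theoretic image. Then f⁻¹(U) is scheme-theoretically dense in X' (for
every open W of X' the inclusion of f⁻¹(U) ∩ W into W is scheme-theoretically dominant), and the
closed subscheme of X' pulled back from the divisor of I is an effective Cartier divisor: I.comap f
is the ideal sheaf of an effective Cartier divisor. -/
theorem result {X X' : Scheme.{u}}
    (I : X.IdealSheafData) (hI : BlowUp.IsEffCartierIdeal I) (f : X' ⟶ X)
    [IsSchemeTheoreticallyDominant (f ⁻¹ᵁ ModPair.interior I).ι] :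
    (∀ W : X'.Opens, IsSchemeTheoreticallyDominant
        (X'.homOfLE (inf_le_right : f ⁻¹ᵁ ModPair.interior I ⊓ W ≤ W))) ∧
      BlowUp.IsEffCartierIdeal (I.comap f) := by
  set O : X'.Opens := f ⁻¹ᵁ ModPair.interior I with hO
  have hOeq : O = (I.comap f).support.compl := by
    ext x
    change f x ∉ I.support ↔ x ∉ (I.comap f).support
    rw [Scheme.IdealSheafData.support_comap]
    rfl
  -- local principality of the pulled back ideal
  have hloc : ∀ x : X', ∃ U : X'.affineOpens, x ∈ U.1 ∧ ∃ (V : X.affineOpens) (e : U.1 ≤ f ⁻¹ᵁ V.1)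
      (t : Γ(X, V.1)), (I.comap f).ideal U = Ideal.span {(f.appLE V.1 U.1 e).hom t} := by
    intro x
    obtain ⟨V, hxV, t, -, hIV⟩ := hI (f x)
    obtain ⟨_, ⟨U, hU, rfl⟩, hxU, hUV⟩ :=
      X'.isBasis_affineOpens.exists_subset_of_mem_open (show x ∈ f ⁻¹ᵁ V.1 from hxV)
        (f ⁻¹ᵁ V.1).isOpen
    refine ⟨⟨U, hU⟩, hxU, V, hUV, t, ?_⟩
    rw [ideal_comap_eq_map I f V ⟨U, hU⟩ hUV, hIV, Ideal.map_span, Set.image_singleton]
  have haff : IsAffineHom O.ι := by
    rw [hOeq]
    refine Groth.Agent.S8853.result (I.comap f) ?_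
    intro x _
    obtain ⟨U, hxU, V, e, t, h⟩ := hloc x
    exact ⟨U, hxU, _, h⟩
  have hqc : QuasiCompact O.ι := inferInstance
  refine ⟨fun W => ?_, ?_⟩
  · exact IsSchemeTheoreticallyDominant.of_isPullback (isPullback_opens_inf O W)
  · intro x
    obtain ⟨V, hxV, t, ht, hIV⟩ := hI (f x)
    obtain ⟨_, ⟨U, hU, rfl⟩, hxU, hUV⟩ :=
      X'.isBasis_affineOpens.exists_subset_of_mem_open (show x ∈ f ⁻¹ᵁ V.1 from hxV)
        (f ⁻¹ᵁ V.1).isOpen
    have hJU : (I.comap f).ideal ⟨U, hU⟩ = Ideal.span {(f.appLE V.1 U hUV).hom t} := by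
      rw [ideal_comap_eq_map I f V ⟨U, hU⟩ hUV, hIV, Ideal.map_span, Set.image_singleton]
    refine ⟨⟨U, hU⟩, hxU, (f.appLE V.1 U hUV).hom t, ?_, hJU⟩
    set e := (f.appLE V.1 U hUV).hom t with he
    rw [mem_nonZeroDivisors_iff_right]
    intro y hy
    have hinj := Scheme.Hom.app_injective O.ι U
    apply hinj
    rw [map_zero]
    -- O ⊓ U = basicOpen e
    have hbo : O ⊓ U = X'.basicOpen e := by
      rw [hOeq]
      exact compl_support_inf_eq_basicOpen (I.comap f) ⟨U, hU⟩ e hJU
    have hle : O.ι ''ᵁ O.ι ⁻¹ᵁ U ≤ X'.basicOpen e := by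
      rw [← hbo]
      intro z hz
      obtain ⟨w, hw, rfl⟩ := hz
      exact ⟨w.2, hw⟩
    -- y restricted to the basic open of e vanishes
    have hunit := X'.toRingedSpace.isUnit_res_basicOpen e
    have hy0 : (X'.presheaf.map (homOfLE (X'.basicOpen_le e)).op).hom y = 0 := by
      have h1 : (X'.presheaf.map (homOfLE (X'.basicOpen_le e)).op).hom (y * e) = 0 := by
        rw [hy, map_zero]
      rw [map_mul] at h1
      exact (hunit.mul_left_eq_zero).1 h1
    rw [Scheme.Opens.ι_app]
    have hfac : X'.presheaf.map (homOfLE (Set.image_preimage_subset _ _ :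
        O.ι ''ᵁ O.ι ⁻¹ᵁ U ≤ U)).op =
        X'.presheaf.map (homOfLE (X'.basicOpen_le e)).op ≫ X'.presheaf.map (homOfLE hle).op := by
      rw [← Functor.map_comp]
      rfl
    have := congrArg (fun φ => φ.hom y) hfac
    simp only [CommRingCat.hom_comp, RingHom.comp_apply] at this
    refine this.trans ?_
    rw [hy0, map_zero]
    rfl

end Groth.Agent.S18732
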