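import Groth.Statements.S18750
import Groth.Agent.Lib.Helper9.BlowExist2
import Groth.Agent.Lib.Helper9.MProd3

set_option autoImplicit false
universe u
open CategoryTheory CategoryTheory.Limits AlgebraicGeometry TopologicalSpace
open ModPair

namespace Groth.Agent.S18750

/-- Let (S, I_S), (T, J), (X, I) be schemes with quasi-coherent ideal sheaves of effective Cartier
divisors and f : X ⟶ S, g : T ⟶ S morphisms satisfying the modulus condition, and let Y₀ be the
scheme-theoretic image of pr₁⁻¹(X°) ∩ pr₂⁻¹(T°) in X ×_S T. Then the ambient product exists: there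
are a blowing up π : Y ⟶ Y₀ of Y₀ in the sum of the two pulled-back moduli and an ideal sheaf K on Y
whose product with the exceptional ideal is the product of the pull-backs of I and J (the divisor
D_X + D_T − E exists). -/
theorem result {S T X : Scheme.{u}} (IS : S.IdealSheafData)
    (J : T.IdealSheafData) (I : X.IdealSheafData) (hS : BlowUp.IsEffCartierIdeal IS)
    (hT : BlowUp.IsEffCartierIdeal J) (hX : BlowUp.IsEffCartierIdeal I)
    (f : X ⟶ S) (hf : ModPair.IsAmbient I IS f) (g : T ⟶ S) (hg : ModPair.IsAmbient J IS g) :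
    ∃ (Y : Scheme.{u}) (π : Y ⟶ ModPair.mprod f g I J) (K : Y.IdealSheafData),
      ModPair.IsAmbProd f g I J π K := by
  obtain ⟨Y, π, hbl⟩ := Groth.Agent.Lib.Helper9.BlowExist.exists_isBlowUp (ModPair.prodCentre f g I J)
  have hA₀ := Groth.Agent.Lib.Helper9.MProd3.isEffCartier_comap_mprodι_fst J I hT hX f g
  have hB₀ := Groth.Agent.Lib.Helper9.MProd3.isEffCartier_comap_mprodι_snd J I hT hX f g
  have hA := Groth.Agent.Lib.Helper29.EffCart.IsBlowUp.isEffCartierIdeal_comap hbl _ hA₀
  have hB := Groth.Agent.Lib.Helper29.EffCart.IsBlowUp.isEffCartierIdeal_comap hbl _ hB₀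
  have hE := hbl.1
  have hsup : (ModPair.prodCentre f g I J).comap π =
      (I.comap (ModPair.mprodι f g I J ≫ pullback.fst f g)).comap π ⊔
        (J.comap (ModPair.mprodι f g I J ≫ pullback.snd f g)).comap π := by
    rw [ModPair.prodCentre, Scheme.IdealSheafData.comap_sup]
  rw [hsup] at hE
  obtain ⟨A', B', -, -, hA', hB', -, -⟩ :=
    Groth.Agent.Lib.Helper9.ColonE.effCartier_sub_inter_coprime _ _ hA hB hE
  refine ⟨Y, π, A' * B' * (ModPair.prodCentre f g I J).comap π, hbl, ?_⟩
  rw [hsup]
  generalize (I.comap (ModPair.mprodι f g I J ≫ pullback.fst f g)).comap π = A at *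
  generalize (J.comap (ModPair.mprodι f g I J ≫ pullback.snd f g)).comap π = B at *
  calc A' * B' * (A ⊔ B) * (A ⊔ B) = (A' * (A ⊔ B)) * (B' * (A ⊔ B)) := by ring
    _ = A * B := by rw [← hA', ← hB']

end Groth.Agent.S18750
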