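import Groth.Statements.S18752
import Groth.Agent.Lib.Helper9.LocPull3

set_option autoImplicit false
universe u
open CategoryTheory CategoryTheory.Limits AlgebraicGeometry TopologicalSpace
open ModPair

namespace Groth.Agent.S18752

/-- Let f : X ⟶ P and g : T ⟶ P be ambient morphisms of modulus pairs and let (Y, K), with π : Y ⟶ Y₀ ⊆
X ×_P T, be an ambient product of X and T over P: Y₀ is the scheme-theoretic image of the product of
the interiors, π a blowing up of Y₀ in the sum of the pulled-back moduli, and K the ideal sheaf of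
an effective Cartier divisor with K times the exceptional ideal equal to the product of the
pulled-back moduli, the two projections satisfying the modulus condition. Then in the localization
of the category of modulus pairs at the abstract admissible blow-ups, the square with vertex (Y, K),
sides the two projections to T and X, and g, f, is a pullback square. -/
theorem result (P T X : ModPair.Pair.{u}) (f : X ⟶ P) (g : T ⟶ P)
    {Y : Scheme.{u}} (π : Y ⟶ ModPair.mprod f.hom g.hom X.mod T.mod) (K : Y.IdealSheafData)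
    (hY : ModPair.IsAmbProd f.hom g.hom X.mod T.mod π K) (hK : BlowUp.IsEffCartierIdeal K)
    (hX : ModPair.IsAmbient K X.mod (π ≫ ModPair.mprodι f.hom g.hom X.mod T.mod ≫ pullback.fst f.hom g.hom))
    (hT : ModPair.IsAmbient K T.mod (π ≫ ModPair.mprodι f.hom g.hom X.mod T.mod ≫ pullback.snd f.hom g.hom)) :
    IsPullback
      ((ModPair.Pair.admBlowup.{u}).Q.map
        (ModPair.Pair.Hom.mk (P := ModPair.Pair.mk Y K hK) (Q := T)
          (π ≫ ModPair.mprodι f.hom g.hom X.mod T.mod ≫ pullback.snd f.hom g.hom) hT))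
      ((ModPair.Pair.admBlowup.{u}).Q.map
        (ModPair.Pair.Hom.mk (P := ModPair.Pair.mk Y K hK) (Q := X)
          (π ≫ ModPair.mprodι f.hom g.hom X.mod T.mod ≫ pullback.fst f.hom g.hom) hX))
      ((ModPair.Pair.admBlowup.{u}).Q.map g) ((ModPair.Pair.admBlowup.{u}).Q.map f) := by
  haveI := Groth.Agent.Lib.Helper9.RCalc.hasRightCalculusOfFractions.{u}
  refine Groth.Agent.Lib.Helper9.LocPull.isPullback_map (ModPair.Pair.admBlowup.{u})
    (ModPair.Pair.admBlowup.{u}).Q _ _ g f ?_ ?_ ?_
  · apply ModPair.Pair.Hom.ext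
    change (π ≫ ModPair.mprodι f.hom g.hom X.mod T.mod ≫ pullback.snd f.hom g.hom) ≫ g.hom =
      (π ≫ ModPair.mprodι f.hom g.hom X.mod T.mod ≫ pullback.fst f.hom g.hom) ≫ f.hom
    simp only [Category.assoc]
    rw [pullback.condition]
  · intro A b a hab
    obtain ⟨A', s, hs, h, h1, h2⟩ :=
      Groth.Agent.Lib.Helper9.LocPull.exists_lift_ambProd f g π K hK hY A b a hab
    exact ⟨A', s, hs, h, ModPair.Pair.Hom.ext h1, ModPair.Pair.Hom.ext h2⟩
  · intro A h₁ h₂ e₁ e₂
    refine ⟨A, 𝟙 A, Groth.Agent.Lib.Helper9.RCalc.admBlowup_id A, ?_⟩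
    rw [Category.id_comp, Category.id_comp]
    exact Groth.Agent.Lib.Helper9.LocPull.hom_ext_ambProd f g π K hK hY hX hT h₁ h₂
      (congrArg ModPair.Pair.Hom.hom e₁) (congrArg ModPair.Pair.Hom.hom e₂)

end Groth.Agent.S18752
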