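import Groth.Statements.S18739
import Groth.Agent.Lib.Helper9.LocPull4
import Groth.Agent.Lib.Helper9.RCalc2
import Groth.Agent.S18749
import Groth.Agent.S18750
import Groth.Agent.S18752

set_option autoImplicit false
universe u
open CategoryTheory CategoryTheory.Limits AlgebraicGeometry TopologicalSpace
open ModPair

namespace Groth.Agent.S18739

/-- The localization of the category of modulus pairs and ambient morphisms at the class of abstract
admissible blow-ups has all finite limits. -/
theorem result :
    HasFiniteLimits (ModPair.Pair.admBlowup.{u}).Localization := by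
  haveI := Groth.Agent.Lib.Helper9.RCalc.hasRightCalculusOfFractions.{u}
  -- terminal object
  let T₀ : ModPair.Pair.{u} :=
    ModPair.Pair.mk (⊤_ Scheme.{u}) ⊤ Groth.Agent.Lib.Helper29.EffCart.isEffCartierIdeal_top
  have hT₀ : IsTerminal T₀ := by
    refine IsTerminal.ofUniqueHom (fun A => ⟨terminal.from A.total, ?_⟩) (fun A m => ?_)
    · change A.mod ≤ (⊤ : Scheme.IdealSheafData _).comap _
      rw [Scheme.IdealSheafData.comap_top]
      exact le_top
    · apply ModPair.Pair.Hom.ext
      exact terminal.hom_ext _ _
  haveI : HasTerminal (ModPair.Pair.admBlowup.{u}).Localization :=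
    Groth.Agent.Lib.Helper9.LocPull.hasTerminal_of_isTerminal (ModPair.Pair.admBlowup.{u})
      (ModPair.Pair.admBlowup.{u}).Q hT₀
  haveI : HasPullbacks (ModPair.Pair.admBlowup.{u}).Localization := by
    refine Groth.Agent.Lib.Helper9.LocPull.hasPullbacks_of_exists (ModPair.Pair.admBlowup.{u})
      (ModPair.Pair.admBlowup.{u}).Q ?_
    intro X T P f g
    obtain ⟨Y, π, K, hY⟩ := Groth.Agent.S18750.result P.mod T.mod X.mod P.isEffCartier
      T.isEffCartier X.isEffCartier f.hom f.cond g.hom g.cond
    obtain ⟨hK, hX, hT, -⟩ := Groth.Agent.S18749.result P.mod T.mod X.mod P.isEffCartier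
      T.isEffCartier X.isEffCartier f.hom f.cond g.hom g.cond π K hY
    exact ⟨ModPair.Pair.mk Y K hK, _, _, Groth.Agent.S18752.result P T X f g π K hY hK hX hT⟩
  exact hasFiniteLimits_of_hasTerminal_and_pullbacks

end Groth.Agent.S18739
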