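import Groth.Statements.S1876
import Mathlib.Algebra.Homology.DerivedCategory.KProjective
import Mathlib.Algebra.Category.ModuleCat.Projective
import Mathlib.LinearAlgebra.Trace
-- import your own Groth.Agent.* helpers here

set_option autoImplicit false
universe u
open CategoryTheory
attribute [local instance] HasDerivedCategory.standard
open Trace

namespace Groth.Agent.S1876

variable {Λ : Type u} [CommRing Λ]

/-- alternating trace of a degreewise family of endomorphisms -/
noncomputable def altTr (P : DRing.Cx Λ) (a b : ℤ) (φ : ∀ i, P.X i ⟶ P.X i) : Λ :=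
  ∑ i ∈ Finset.Icc a b, ((i.negOnePow : ℤˣ) : ℤ) • LinearMap.trace Λ (P.X i) (φ i).hom

lemma trace_eq_zero_of_isZero (M : ModuleCat.{u} Λ) (hM : Limits.IsZero M) (φ : M ⟶ M) :
    LinearMap.trace Λ M φ.hom = 0 := by
  have : φ = 0 := hM.eq_of_src _ _
  rw [this]; simp

lemma altTr_homotopy (P : DRing.Cx Λ) (a b : ℤ) (hP : DRing.VanishesOutside P a b)
    (hPf : DRing.TermwiseFiniteFree P) (φ ψ : P ⟶ P) (h : Homotopy φ ψ) :
    altTr P a b (fun i => φ.f i) = altTr P a b (fun i => ψ.f i) := by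
  have hfin : ∀ i, Module.Finite Λ (P.X i) := fun i => (hPf i).1
  have hfree : ∀ i, Module.Free Λ (P.X i) := fun i => (hPf i).2
  -- u j = trace of d ∘ h on P_j
  let u : ℤ → Λ := fun j => LinearMap.trace Λ (P.X j) (h.hom j (j - 1) ≫ P.d (j - 1) j).hom
  have hu0 : ∀ j, (j < a + 1 ∨ b < j) → u j = 0 := by
    intro j hj
    by_cases h1 : j < a ∨ b < j
    · exact trace_eq_zero_of_isZero _ (hP j h1) _
    · have hja : j = a := by omega
      have hz : Limits.IsZero (P.X (j - 1)) := hP _ (Or.inl (by omega))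
      have : h.hom j (j - 1) ≫ P.d (j - 1) j = 0 := by
        rw [hz.eq_of_tgt (h.hom j (j - 1)) 0, Limits.zero_comp]
      show LinearMap.trace Λ (P.X j) (h.hom j (j - 1) ≫ P.d (j - 1) j).hom = 0
      rw [this]; simp
  have hdiff : ∀ i, LinearMap.trace Λ (P.X i) (φ.f i).hom =
      u (i + 1) + u i + LinearMap.trace Λ (P.X i) (ψ.f i).hom := by
    intro i
    have hc := h.comm i
    have e1 : dNext i h.hom = P.d i (i + 1) ≫ h.hom (i + 1) i := dNext_eq _ (by simp)
    have e2 : prevD i h.hom = h.hom i (i - 1) ≫ P.d (i - 1) i := prevD_eq _ (by simp)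
    rw [hc, e1, e2, ModuleCat.hom_add, ModuleCat.hom_add, map_add, map_add]
    congr 2
    -- cyclicity
    have := LinearMap.trace_comp_comm' (R := Λ) (P.d i (i + 1)).hom (h.hom (i + 1) i).hom
    rw [ModuleCat.hom_comp, this]
    show _ = LinearMap.trace Λ (P.X (i + 1)) (h.hom (i + 1) (i + 1 - 1) ≫ P.d (i + 1 - 1) (i + 1)).hom
    have e3 : i + 1 - 1 = i := by omega
    rw [e3, ModuleCat.hom_comp]
  unfold altTr
  have hsplit : ∑ i ∈ Finset.Icc a b, ((i.negOnePow : ℤˣ) : ℤ) • (u (i + 1) + u i) = 0 := by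
    let c : ℤ → Λ := fun j => ((j.negOnePow : ℤˣ) : ℤ) • u j
    have hc0 : ∀ j, (j < a + 1 ∨ b < j) → c j = 0 := fun j hj => by
      show _ • u j = 0
      rw [hu0 j hj, smul_zero]
    have e1 : ∀ i, ((i.negOnePow : ℤˣ) : ℤ) • (u (i + 1) + u i) = c i - c (i + 1) := by
      intro i
      show _ = _ • u i - _ • u (i + 1)
      rw [Int.negOnePow_succ, Units.val_neg, neg_smul, smul_add]
      abel
    rw [Finset.sum_congr rfl fun i _ => e1 i, Finset.sum_sub_distrib]
    have s1 : ∑ i ∈ Finset.Icc a b, c i = ∑ i ∈ Finset.Icc (a + 1) b, c i := by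
      symm
      apply Finset.sum_subset
      · intro x hx; rw [Finset.mem_Icc] at hx ⊢; omega
      · intro x hx hx'
        rw [Finset.mem_Icc] at hx hx'
        exact hc0 x (by omega)
    have s2 : ∑ i ∈ Finset.Icc a b, c (i + 1) = ∑ i ∈ Finset.Icc (a + 1) b, c i := by
      have : ∑ i ∈ Finset.Icc a b, c (i + 1) = ∑ j ∈ Finset.Icc (a + 1) (b + 1), c j := by
        rw [← Finset.map_add_right_Icc, Finset.sum_map]
        rfl
      rw [this]
      symm
      apply Finset.sum_subset
      · intro x hx; rw [Finset.mem_Icc] at hx ⊢; omega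
      · intro x hx hx'
        rw [Finset.mem_Icc] at hx hx'
        exact hc0 x (by omega)
    rw [s1, s2, sub_self]
  calc ∑ i ∈ Finset.Icc a b, ((i.negOnePow : ℤˣ) : ℤ) • LinearMap.trace Λ (P.X i) (φ.f i).hom
      = ∑ i ∈ Finset.Icc a b, (((i.negOnePow : ℤˣ) : ℤ) • (u (i + 1) + u i) +
          ((i.negOnePow : ℤˣ) : ℤ) • LinearMap.trace Λ (P.X i) (ψ.f i).hom) := by
        refine Finset.sum_congr rfl fun i _ => ?_
        rw [hdiff i, smul_add]
    _ = _ := by rw [Finset.sum_add_distrib, hsplit, zero_add]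

lemma altTr_comm (P Q : DRing.Cx Λ) (a b : ℤ)
    (hPf : DRing.TermwiseFiniteFree P) (hQf : DRing.TermwiseFiniteFree Q)
    (u : P ⟶ Q) (v : Q ⟶ P) :
    altTr P a b (fun i => (u ≫ v).f i) = altTr Q a b (fun i => (v ≫ u).f i) := by
  unfold altTr
  refine Finset.sum_congr rfl fun i _ => ?_
  have := (hPf i).1; have := (hPf i).2; have := (hQf i).1; have := (hQf i).2
  congr 1
  show LinearMap.trace Λ (P.X i) ((u ≫ v).f i).hom = LinearMap.trace Λ (Q.X i) ((v ≫ u).f i).hom
  rw [HomologicalComplex.comp_f, HomologicalComplex.comp_f, ModuleCat.hom_comp, ModuleCat.hom_comp]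
  exact LinearMap.trace_comp_comm' (R := Λ) (u.f i).hom (v.f i).hom

open DerivedCategory in
/-- lifting morphisms in the derived category out of a K-projective complex -/
lemma exists_lift (K L : DRing.Cx Λ) [K.IsKProjective] (φ : Q.obj K ⟶ Q.obj L) :
    ∃ a : K ⟶ L, Q.map a = φ := by
  obtain ⟨a', ha'⟩ := (CochainComplex.IsKProjective.Qh_map_bijective K
    ((HomotopyCategory.quotient _ _).obj L)).surjective
    ((quotientCompQhIso _).hom.app K ≫ φ ≫ (quotientCompQhIso _).inv.app L)
  obtain ⟨a, rfl⟩ := (HomotopyCategory.quotient _ _).map_surjective a'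
  refine ⟨a, ?_⟩
  have nat := (quotientCompQhIso (ModuleCat.{u} Λ)).hom.naturality a
  dsimp at nat
  rw [ha'] at nat
  simp only [Category.assoc, Iso.inv_hom_id_app, Category.comp_id] at nat
  exact ((cancel_epi _).1 nat).symm

open DerivedCategory in
lemma nonempty_homotopy_of_Q_map_eq (K L : DRing.Cx Λ) [K.IsKProjective] (a a' : K ⟶ L)
    (h : Q.map a = Q.map a') : Nonempty (Homotopy a a') := by
  have h' : Qh.map ((HomotopyCategory.quotient _ _).map a) =
      Qh.map ((HomotopyCategory.quotient _ _).map a') := by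
    have n1 := (quotientCompQhIso (ModuleCat.{u} Λ)).hom.naturality a
    have n2 := (quotientCompQhIso (ModuleCat.{u} Λ)).hom.naturality a'
    dsimp at n1 n2
    rw [h, ← n2] at n1
    exact (cancel_mono _).1 n1
  have := (CochainComplex.IsKProjective.Qh_map_bijective K _).injective h'
  exact ⟨HomotopyCategory.homotopyOfEq _ _ this⟩



/-- Commutative coefficient ring, finite free terms: let P and Q be bounded complexes of finite free
Λ-modules with chain endomorphisms f and g, and α : P ≅ Q an isomorphism in the derived category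
D(Λ) with α ∘ f = g ∘ α there. Then Σ_i (−1)^i Tr(f^i | P^i) = Σ_i (−1)^i Tr(g^i | Q^i); that is,
the trace of an endomorphism of a perfect object of D(Λ) is well defined. -/
theorem result (Λ : Type u) [CommRing Λ] (P Q : DRing.Cx Λ) (a b : ℤ) (hP : DRing.VanishesOutside P a b) (hQ : DRing.VanishesOutside Q a b) (hPf : DRing.TermwiseFiniteFree P) (hQf : DRing.TermwiseFiniteFree Q) (f : P ⟶ P) (g : Q ⟶ Q) (α : DRing.toD P ≅ DRing.toD Q) (h : α.hom ≫ DerivedCategory.Q.map g = DerivedCategory.Q.map f ≫ α.hom) : ∑ i ∈ Finset.Icc a b, ((i.negOnePow : ℤˣ) : ℤ) • LinearMap.trace Λ (P.X i) (f.f i).hom = ∑ i ∈ Finset.Icc a b, ((i.negOnePow : ℤˣ) : ℤ) • LinearMap.trace Λ (Q.X i) (g.f i).hom := by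
  have : ∀ n, Projective (P.X n) := fun n => by
    have := (hPf n).2
    infer_instance
  have : ∀ n, Projective (Q.X n) := fun n => by
    have := (hQf n).2
    infer_instance
  have : CochainComplex.IsStrictlyLE P b := by
    rw [CochainComplex.isStrictlyLE_iff]
    intro i hi
    exact hP i (Or.inr hi)
  have : CochainComplex.IsStrictlyLE Q b := by
    rw [CochainComplex.isStrictlyLE_iff]
    intro i hi
    exact hQ i (Or.inr hi)
  have : P.IsKProjective := CochainComplex.isKProjective_of_projective P b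
  have : Q.IsKProjective := CochainComplex.isKProjective_of_projective Q b
  obtain ⟨u, hu⟩ := exists_lift P Q α.hom
  obtain ⟨v, hv⟩ := exists_lift Q P α.inv
  obtain ⟨h1⟩ := nonempty_homotopy_of_Q_map_eq P P (u ≫ v) (𝟙 P) (by
    rw [Functor.map_comp, hu, hv, α.hom_inv_id, CategoryTheory.Functor.map_id])
  obtain ⟨h2⟩ := nonempty_homotopy_of_Q_map_eq Q Q (v ≫ u) (𝟙 Q) (by
    rw [Functor.map_comp, hu, hv, α.inv_hom_id, CategoryTheory.Functor.map_id])
  obtain ⟨h3⟩ := nonempty_homotopy_of_Q_map_eq P Q (u ≫ g) (f ≫ u) (by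
    rw [Functor.map_comp, Functor.map_comp, hu]; exact h)
  show altTr P a b (fun i => f.f i) = altTr Q a b (fun i => g.f i)
  have s1 : altTr P a b (fun i => f.f i) = altTr P a b (fun i => (f ≫ (u ≫ v)).f i) := by
    refine (altTr_homotopy P a b hP hPf _ _ ((h1.compLeft f).trans (Homotopy.ofEq ?_))).symm
    rw [Category.comp_id]
  have s2 : altTr P a b (fun i => (f ≫ (u ≫ v)).f i) =
      altTr P a b (fun i => (u ≫ (g ≫ v)).f i) := by
    refine altTr_homotopy P a b hP hPf _ _ ?_
    refine (Homotopy.ofEq ?_).trans ((h3.symm.compRight v).trans (Homotopy.ofEq ?_))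
    · rw [Category.assoc]
    · rw [Category.assoc]
  have s3 := altTr_comm P Q a b hPf hQf u (g ≫ v)
  have s4 : altTr Q a b (fun i => ((g ≫ v) ≫ u).f i) = altTr Q a b (fun i => g.f i) := by
    refine altTr_homotopy Q a b hQ hQf _ _ ?_
    refine (Homotopy.ofEq ?_).trans ((h2.compLeft g).trans (Homotopy.ofEq ?_))
    · rw [Category.assoc]
    · rw [Category.comp_id]
  rw [s1, s2, s3, s4]

end Groth.Agent.S1876
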