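import Groth.Statements.S18774
import Groth.Agent.Lib.Helper2.VBDeg
import Groth.Agent.Lib.Helper17.FFLocFree
import Groth.Agent.Lib.Helper24.Rigid.Field
import Groth.Agent.S1536

set_option autoImplicit false
universe u
open CategoryTheory CategoryTheory.Limits AlgebraicGeometry
open VBCurve

namespace Groth.Agent.S18774

/-- Let k be a finite field and C a smooth proper geometrically integral curve over k (proper, smooth
and geometrically integral over k, of dimension one), and write g = dim_k H^1(C, O_C). Let E be a
finite locally free O_C-module and F a finite locally free submodule of E of rank r' ≥ 1 (a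
monomorphism F → E). Then deg F ≤ r' · (dim_k H^0(C, E) + g − 1), that is, the slope of F is at most
h^0(C, E) + g − 1; here the degree of a rank-n locally free module G is χ(G) − n·χ(O_C). -/
theorem result (k : Type u) [Field k] [Finite k] (X : Scheme.{u}) [X.Over (Spec (CommRingCat.of k))]
    [IsProper (X ↘ Spec (CommRingCat.of k))] [Smooth (X ↘ Spec (CommRingCat.of k))]
    [GeometricallyIntegral (X ↘ Spec (CommRingCat.of k))] (hdim : topologicalKrullDim ↥X = 1)
    (E : X.Modules) (hE : FlatMod.IsFinLocFree E) (F : X.Modules) (r' : ℕ) (hr' : 0 < r')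
    (hF : FlatMod.IsFinLocFreeOfRank r' F) (i : F ⟶ E) [Mono i] :
    Curv2.deg k X F r' ≤ (r' : ℤ) * ((Module.finrank k (Coh.HH X E 0) : ℤ) + (Curv2.genus k X : ℤ) - 1) := by
  haveI : IsIntegral X := GeometricallyIntegral.isIntegral_of_subsingleton (X ↘ Spec (CommRingCat.of k))
  haveI : GeometricallyConnected (X ↘ Spec (CommRingCat.of k)) :=
    Groth.Agent.Lib.Helper24.Rigid.geometricallyConnected_of_geometricallyIrreducible _
  have hEc := Groth.Agent.Lib.Helper17.FFLocFree.isCoh_of_isFinLocFree E hE
  have h1 := Groth.Agent.Lib.Helper2.VBDeg.deg_le_of_mono k X hdim i hEc hF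
  have hOc : Coh.IsCoh (Coh.structureModule X) := Groth.Agent.Lib.Helper6.DevRed.isCoh_structureModule
  have h2 := Groth.Agent.Lib.Helper8.CurveRR.euler_eq_sub k X hdim.le (Coh.structureModule X) hOc.1
  have h3 : Module.finrank k (Coh.HH X (Coh.structureModule X) 0) = 1 := Groth.Agent.S1536.result k X
  rw [h3] at h2
  rw [h2] at h1
  unfold Curv2.genus
  have hr : (1 : ℤ) ≤ r' := by exact_mod_cast hr'
  have hh : (0 : ℤ) ≤ (Module.finrank k (Coh.HH X E 0) : ℤ) := by positivity
  push_cast at h1 ⊢
  nlinarith

end Groth.Agent.S18774
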