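import Groth.Statements.S18792
-- import your own Groth.Agent.* helpers here

set_option autoImplicit false
universe u
open DefMod

namespace Groth.Agent.S18792

/-- Let A be an associative unital algebra over ℚ, let a ∈ A be nilpotent and let b ∈ A. Then the
commutator map x ↦ a x − x a is a nilpotent ℚ-linear endomorphism of A, and exp(a) b exp(−a) =
exp(ad a)(b), where exp is the finite exponential series of a nilpotent element and ad a is the
commutator map. (The published statement takes A an algebra over an arbitrary commutative ring; the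
factorials in the exponential series require the rationals to act, so A is taken to be a ℚ-algebra
here. The intermediate double-sum expansion printed between the two sides is not restated.) -/
theorem result {A : Type u} [Ring A] [Algebra ℚ A] (a b : A)
    (ha : IsNilpotent a) :
    IsNilpotent (LinearMap.mulLeft ℚ a - LinearMap.mulRight ℚ a) ∧
      IsNilpotent.exp a * b * IsNilpotent.exp (-a) =
        IsNilpotent.exp (LinearMap.mulLeft ℚ a - LinearMap.mulRight ℚ a) b := by
  obtain ⟨k, hk⟩ := ha
  have hLpow : ∀ i : ℕ, (LinearMap.mulLeft ℚ a) ^ i = LinearMap.mulLeft ℚ (a ^ i) := by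
    intro i
    induction i with
    | zero => ext x; simp
    | succ i ih => rw [pow_succ, ih, pow_succ]; ext x; simp [mul_assoc]
  have hRpow : ∀ i : ℕ, (-LinearMap.mulRight ℚ a) ^ i = LinearMap.mulRight ℚ ((-a) ^ i) := by
    intro i
    induction i with
    | zero => ext x; simp
    | succ i ih => rw [pow_succ, ih, pow_succ']; ext x; simp [mul_assoc]
  have hLnil : IsNilpotent (LinearMap.mulLeft ℚ a) := ⟨k, by rw [hLpow, hk]; ext x; simp⟩
  have hk' : (-a) ^ k = 0 := by rw [neg_pow, hk, mul_zero]
  have hRnil : IsNilpotent (-LinearMap.mulRight ℚ a) := ⟨k, by rw [hRpow, hk']; ext x; simp⟩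
  have hcomm : Commute (LinearMap.mulLeft ℚ a) (-LinearMap.mulRight ℚ a) :=
    (LinearMap.commute_mulLeft_right a a).neg_right
  have hsub : LinearMap.mulLeft ℚ a - LinearMap.mulRight ℚ a =
      LinearMap.mulLeft ℚ a + (-LinearMap.mulRight ℚ a) := sub_eq_add_neg _ _
  refine ⟨by rw [hsub]; exact hcomm.isNilpotent_add hLnil hRnil, ?_⟩
  rw [hsub, IsNilpotent.exp_add_of_commute hcomm hLnil hRnil]
  have hL : ∀ x : A, IsNilpotent.exp (LinearMap.mulLeft ℚ a) x = IsNilpotent.exp a * x := by
    intro x
    have h1 : (LinearMap.mulLeft ℚ a) ^ k = 0 := by rw [hLpow, hk]; ext x; simp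
    rw [IsNilpotent.exp_eq_sum h1, IsNilpotent.exp_eq_sum hk, LinearMap.sum_apply, Finset.sum_mul]
    refine Finset.sum_congr rfl fun i _ => ?_
    rw [LinearMap.smul_apply, hLpow, LinearMap.mulLeft_apply, smul_mul_assoc]
  have hR : ∀ x : A, IsNilpotent.exp (-LinearMap.mulRight ℚ a) x = x * IsNilpotent.exp (-a) := by
    intro x
    have h1 : (-LinearMap.mulRight ℚ a) ^ k = 0 := by rw [hRpow, hk']; ext x; simp
    rw [IsNilpotent.exp_eq_sum h1, IsNilpotent.exp_eq_sum hk', LinearMap.sum_apply, Finset.mul_sum]
    refine Finset.sum_congr rfl fun i _ => ?_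
    rw [LinearMap.smul_apply, hRpow, LinearMap.mulRight_apply, mul_smul_comm]
  rw [Module.End.mul_apply, hL, hR, mul_assoc]

end Groth.Agent.S18792
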