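import Groth.Statements.S18794
import Mathlib

set_option autoImplicit false
universe u v w
open scoped TensorProduct
open DefMod

namespace Groth.Agent.S18794

section
variable {K : Type u} [Field K] {D : Type v} [Ring D] [Algebra K D]
  {E : Type w} [AddCommGroup E] [Module K E] [Module D E] [IsScalarTower K D E]

/-- The irreducibility predicate of the statement. -/
def Irr (K : Type u) [Field K] (D : Type v) [Ring D] [Algebra K D]
    (E : Type w) [AddCommGroup E] [Module K E] [Module D E] [IsScalarTower K D E]
    (L : Type*) [Field L] [Algebra K L] : Prop :=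
  Nontrivial (L ⊗[K] E) ∧ ∀ N : Submodule L (L ⊗[K] E),
    (∀ (d : D) (x : L ⊗[K] E), x ∈ N → (DistribSMul.toLinearMap K E d).baseChange L x ∈ N) →
      N = ⊥ ∨ N = ⊤

/-- descent: if `M ⊗ E` is irreducible for an extension `j : L → M`, then so is `L ⊗ E`. -/
theorem irr_of_irr {L : Type*} [Field L] [Algebra K L] {M : Type*} [Field M] [Algebra K M]
    (j : L →ₐ[K] M) (h : Irr K D E M) : Irr K D E L := by
  obtain ⟨hnt, hirr⟩ := h
  have hE : Nontrivial E := by
    by_contra hE
    rw [not_nontrivial_iff_subsingleton] at hE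
    obtain ⟨x, y, hxy⟩ := hnt
    exact hxy (Subsingleton.elim _ _)
  refine ⟨(Module.Flat.tensorProduct_mk_injective K E L).nontrivial, fun N hN => ?_⟩
  by_contra hcon
  rw [not_or] at hcon
  obtain ⟨hbot, htop⟩ := hcon
  let ι : L ⊗[K] E →ₗ[K] M ⊗[K] E := j.toLinearMap.rTensor E
  have hι : Function.Injective ι :=
    Module.Flat.rTensor_preserves_injective_linearMap (M := E) j.toLinearMap j.injective
  have hιd : ∀ (d : D) (z : L ⊗[K] E), ι ((DistribSMul.toLinearMap K E d).baseChange L z) =
      (DistribSMul.toLinearMap K E d).baseChange M (ι z) := by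
    intro d z
    induction z using TensorProduct.induction_on with
    | zero => simp
    | tmul l e => simp [ι]
    | add z1 z2 h1 h2 => simp only [map_add, h1, h2]
  let N' : Submodule M (M ⊗[K] E) := Submodule.span M (ι '' (N : Set (L ⊗[K] E)))
  have hN' : ∀ (d : D) (x : M ⊗[K] E), x ∈ N' →
      (DistribSMul.toLinearMap K E d).baseChange M x ∈ N' := by
    intro d
    show N' ≤ N'.comap ((DistribSMul.toLinearMap K E d).baseChange M)
    refine Submodule.span_le.mpr ?_
    rintro _ ⟨z, hz, rfl⟩
    show (DistribSMul.toLinearMap K E d).baseChange M (ι z) ∈ N'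
    rw [← hιd]
    exact Submodule.subset_span ⟨_, hN d z hz, rfl⟩
  rcases hirr N' hN' with h | h
  · apply hbot
    rw [eq_bot_iff]
    intro z hz
    have : ι z ∈ N' := Submodule.subset_span ⟨z, hz, rfl⟩
    rw [h, Submodule.mem_bot] at this
    rw [Submodule.mem_bot]
    exact hι (this.trans (map_zero ι).symm)
  · obtain ⟨f, hf0, hfN⟩ := Submodule.exists_le_ker_of_lt_top N (lt_top_iff_ne_top.mpr htop)
    let g : E →ₗ[K] L := (f.restrictScalars K) ∘ₗ (TensorProduct.mk K L E 1)
    let f' : M ⊗[K] E →ₗ[M] M := LinearMap.liftBaseChange M (j.toLinearMap ∘ₗ g)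
    have hf' : ∀ z : L ⊗[K] E, f' (ι z) = j (f z) := by
      intro z
      induction z using TensorProduct.induction_on with
      | zero => simp
      | tmul l e =>
        have : f (l ⊗ₜ[K] e) = l * f (1 ⊗ₜ[K] e) := by
          rw [← smul_eq_mul, ← map_smul, TensorProduct.smul_tmul', smul_eq_mul, mul_one]
        simp [ι, f', g, this]
      | add z1 z2 h1 h2 => simp only [map_add, h1, h2]
    have hle : N' ≤ LinearMap.ker f' := by
      refine Submodule.span_le.mpr ?_
      rintro _ ⟨z, hz, rfl⟩
      show f' (ι z) = 0
      rw [hf', LinearMap.mem_ker.mp (hfN hz), map_zero]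
    apply hf0
    refine LinearMap.ext fun z => ?_
    have : ι z ∈ LinearMap.ker f' := hle (h ▸ Submodule.mem_top)
    rw [LinearMap.mem_ker, hf'] at this
    simpa using this

theorem irr_algClosure
    (h : ∀ (L : Type u) [Field L] [Algebra K L] [FiniteDimensional K L], Irr K D E L) :
    Irr K D E (AlgebraicClosure K) := by
  classical
  have hK := h K
  have hE : Nontrivial E := by
    by_contra hE
    rw [not_nontrivial_iff_subsingleton] at hE
    obtain ⟨x, y, hxy⟩ := hK.1
    exact hxy (Subsingleton.elim _ _)
  refine ⟨(Module.Flat.tensorProduct_mk_injective K E (AlgebraicClosure K)).nontrivial,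
    fun N hN => ?_⟩
  by_cases hbot : N = ⊥
  · exact Or.inl hbot
  right
  obtain ⟨n, hnN, hn0⟩ := (Submodule.ne_bot_iff N).mp hbot
  let b := Module.Free.chooseBasis K E
  let bb := Algebra.TensorProduct.basis (AlgebraicClosure K) b
  let c := bb.repr n
  let S : Set (AlgebraicClosure K) := c '' (c.support : Set _)
  haveI : Finite S := (Set.Finite.image _ c.support.finite_toSet).to_subtype
  let L := IntermediateField.adjoin K S
  haveI : FiniteDimensional K L :=
    IntermediateField.finiteDimensional_adjoin (fun x _ => Algebra.IsIntegral.isIntegral x)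
  obtain ⟨-, hLirr⟩ := h L
  let ι : L ⊗[K] E →ₗ[K] (AlgebraicClosure K) ⊗[K] E := (L.val.toLinearMap).rTensor E
  have hιsmul : ∀ (l : L) (z : L ⊗[K] E), ι (l • z) = (l : AlgebraicClosure K) • ι z := by
    intro l z
    induction z using TensorProduct.induction_on with
    | zero => simp
    | tmul l' e => simp [ι, TensorProduct.smul_tmul']
    | add z1 z2 h1 h2 => simp only [smul_add, map_add, h1, h2]
  have hιd : ∀ (d : D) (z : L ⊗[K] E), ι ((DistribSMul.toLinearMap K E d).baseChange L z) =
      (DistribSMul.toLinearMap K E d).baseChange (AlgebraicClosure K) (ι z) := by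
    intro d z
    induction z using TensorProduct.induction_on with
    | zero => simp
    | tmul l e => simp [ι]
    | add z1 z2 h1 h2 => simp only [map_add, h1, h2]
  let NL : Submodule L (L ⊗[K] E) :=
    { carrier := {z | ι z ∈ N}
      add_mem' := fun {x y} hx hy => by
        simp only [Set.mem_ofPred_eq, map_add] at hx hy ⊢
        exact N.add_mem hx hy
      zero_mem' := by simp
      smul_mem' := fun l z hz => by
        simp only [Set.mem_ofPred_eq] at hz ⊢
        rw [hιsmul]
        exact N.smul_mem _ hz }
  have hNLstab : ∀ (d : D) (x : L ⊗[K] E), x ∈ NL →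
      (DistribSMul.toLinearMap K E d).baseChange L x ∈ NL := by
    intro d x hx
    show ι _ ∈ N
    rw [hιd]
    exact hN d _ hx
  have hcmem : ∀ i, i ∈ c.support → c i ∈ L := fun i hi =>
    IntermediateField.subset_adjoin K S ⟨i, hi, rfl⟩
  let cL : Module.Free.ChooseBasisIndex K E → L := fun i =>
    if hi : i ∈ c.support then ⟨c i, hcmem i hi⟩ else 0
  let nL : L ⊗[K] E := ∑ i ∈ c.support, cL i ⊗ₜ[K] b i
  have hnL : ι nL = n := by
    have h1 : ι nL = ∑ i ∈ c.support, c i • bb i := by
      simp only [nL, map_sum]
      refine Finset.sum_congr rfl fun i hi => ?_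
      simp only [ι, LinearMap.rTensor_tmul, AlgHom.toLinearMap_apply, bb,
        Algebra.TensorProduct.basis_apply, TensorProduct.smul_tmul', smul_eq_mul, mul_one, cL,
        dif_pos hi]
      rfl
    rw [h1]
    have h2 := bb.linearCombination_repr n
    rw [Finsupp.linearCombination_apply, Finsupp.sum] at h2
    exact h2
  have hnLmem : nL ∈ NL := by
    show ι nL ∈ N
    rw [hnL]; exact hnN
  have hnL0 : nL ≠ 0 := by
    intro h0
    rw [h0, map_zero] at hnL
    exact hn0 hnL.symm
  have hNLtop : NL = ⊤ := by
    rcases hLirr NL hNLstab with h1 | h1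
    · exact absurd ((Submodule.eq_bot_iff NL).mp h1 nL hnLmem) hnL0
    · exact h1
  rw [eq_top_iff]
  intro z _
  induction z using TensorProduct.induction_on with
  | zero => exact N.zero_mem
  | tmul a e =>
    have h1 : (1 : L) ⊗ₜ[K] e ∈ NL := hNLtop ▸ Submodule.mem_top
    have h2 : ι ((1 : L) ⊗ₜ[K] e) ∈ N := h1
    have h3 : ι ((1 : L) ⊗ₜ[K] e) = (1 : AlgebraicClosure K) ⊗ₜ[K] e := by simp [ι]
    rw [h3] at h2
    have := N.smul_mem a h2
    rwa [TensorProduct.smul_tmul', smul_eq_mul, mul_one] at this
  | add z1 z2 h1 h2 => exact N.add_mem (h1 Submodule.mem_top) (h2 Submodule.mem_top)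

end


/-- Let E be a left module over an associative algebra D over a field K of characteristic zero. For a
field extension L of K, the base change L ⊗_K E is a module over L ⊗_K D, i.e. an L-vector space
with a commuting action of D; call it irreducible when it is nonzero and its only L-subspaces stable
under every element of D are 0 and the whole space. Then E is absolutely irreducible (its base
change to an algebraic closure of K is irreducible) if and only if L ⊗_K E is irreducible for every
finite extension L of K. (Finite extensions are taken in the universe of K.) -/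
theorem result
    {K : Type u} [Field K] [CharZero K]
    {D : Type v} [Ring D] [Algebra K D]
    {E : Type w} [AddCommGroup E] [Module K E] [Module D E] [IsScalarTower K D E] :
    (Nontrivial (AlgebraicClosure K ⊗[K] E) ∧ ∀ N : Submodule (AlgebraicClosure K) (AlgebraicClosure K ⊗[K] E), (∀ (d : D) (x : AlgebraicClosure K ⊗[K] E), x ∈ N → (DistribSMul.toLinearMap K E d).baseChange (AlgebraicClosure K) x ∈ N) → N = ⊥ ∨ N = ⊤) ↔
      ∀ (L : Type u) [Field L] [Algebra K L] [FiniteDimensional K L],
        (Nontrivial (L ⊗[K] E) ∧ ∀ N : Submodule (L) (L ⊗[K] E), (∀ (d : D) (x : L ⊗[K] E), x ∈ N → (DistribSMul.toLinearMap K E d).baseChange (L) x ∈ N) → N = ⊥ ∨ N = ⊤) := by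
  constructor
  · intro h L _ _ _
    exact irr_of_irr (IsAlgClosed.lift : L →ₐ[K] AlgebraicClosure K) h
  · intro h
    exact irr_algClosure h

end Groth.Agent.S18794
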