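import Groth.Statements.S18795
import Mathlib

set_option autoImplicit false
universe u v w
open scoped TensorProduct
open DefMod

namespace Groth.Agent.S18795
open Polynomial

lemma exists_root_not_injective {A : Type*} [Field A] [IsAlgClosed A] {V : Type*}
    [AddCommGroup V] [Module A V] (ψ : Module.End A V) :
    ∀ (n : ℕ) (p : A[X]), p.natDegree = n → p ≠ 0 → ¬ Function.Injective (aeval ψ p) →
      ∃ a : A, ¬ Function.Injective (ψ - algebraMap A (Module.End A V) a) := by
  intro n
  induction n with
  | zero =>
    intro p hp hp0 hinj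
    exfalso; apply hinj
    rw [Polynomial.eq_C_of_natDegree_eq_zero hp] at hp0 ⊢
    have hc : p.coeff 0 ≠ 0 := by simpa using hp0
    simp only [aeval_C]
    intro x y hxy
    have : p.coeff 0 • x = p.coeff 0 • y := by simpa [Module.algebraMap_end_apply] using hxy
    exact smul_right_injective V hc this
  | succ n ih =>
    intro p hp hp0 hinj
    obtain ⟨a, ha⟩ := IsAlgClosed.exists_root p (by
      rw [Polynomial.degree_eq_natDegree hp0, hp]; exact_mod_cast Nat.succ_ne_zero n)
    obtain ⟨q, rfl⟩ := Polynomial.dvd_iff_isRoot.mpr ha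
    by_cases h1 : Function.Injective (ψ - algebraMap A (Module.End A V) a)
    · have hq0 : q ≠ 0 := right_ne_zero_of_mul hp0
      have hq : q.natDegree = n := by
        have := Polynomial.natDegree_mul (X_sub_C_ne_zero a) hq0
        rw [hp, natDegree_X_sub_C] at this; omega
      apply ih q hq hq0
      intro h2
      apply hinj
      rw [map_mul, map_sub, aeval_X, aeval_C]
      exact h1.comp h2
    · exact ⟨a, h1⟩

section
variable {K : Type u} [Field K] {D : Type v} [Ring D] [Algebra K D]
  {E : Type w} [AddCommGroup E] [Module K E] [Module D E] [IsScalarTower K D E]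

/-- restriction of scalars as an algebra hom -/
def rs : Module.End D E →ₐ[K] Module.End K E where
  toFun f := f.restrictScalars K
  map_one' := rfl
  map_mul' _ _ := rfl
  map_zero' := rfl
  map_add' _ _ := rfl
  commutes' r := by ext x; simp [Module.algebraMap_end_apply]

end


/-- Let E be a left module over an associative algebra D over a field K of characteristic zero. Assume
that the D-linear endomorphisms of E form a finite-dimensional K-vector space, that E has a finite
presentation over D, and that E is absolutely irreducible: its base change K̄ ⊗_K E to an algebraic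
closure K̄ of K is nonzero and its only K̄-subspaces stable under every element of D are 0 and the
whole space. Then End_D(E) = K: every D-linear endomorphism of E is multiplication by a scalar from
K. -/
theorem result
    {K : Type u} [Field K] [CharZero K]
    {D : Type v} [Ring D] [Algebra K D]
    {E : Type w} [AddCommGroup E] [Module K E] [Module D E] [IsScalarTower K D E]
    [Module.Finite K (E →ₗ[D] E)] [Module.FinitePresentation D E]
    (habs : (Nontrivial (AlgebraicClosure K ⊗[K] E) ∧ ∀ N : Submodule (AlgebraicClosure K) (AlgebraicClosure K ⊗[K] E), (∀ (d : D) (x : AlgebraicClosure K ⊗[K] E), x ∈ N → (DistribSMul.toLinearMap K E d).baseChange (AlgebraicClosure K) x ∈ N) → N = ⊥ ∨ N = ⊤))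
    (φ : E →ₗ[D] E) : ∃ c : K, ∀ x : E, φ x = c • x := by
  obtain ⟨hnt, hirr⟩ := habs
  have hint : IsIntegral K (φ : Module.End D E) := Algebra.IsIntegral.isIntegral φ
  let Φ : Module.End D E →ₐ[K] Module.End (AlgebraicClosure K) (AlgebraicClosure K ⊗[K] E) :=
    (Module.End.baseChangeHom K (AlgebraicClosure K) E).comp rs
  set ψ := Φ φ with hψ
  have hψ_apply : ∀ (a : AlgebraicClosure K) (x : E), ψ (a ⊗ₜ x) = a ⊗ₜ φ x := fun a x => rfl
  have h0 : aeval ψ ((minpoly K φ).map (algebraMap K (AlgebraicClosure K))) = 0 := by
    rw [Polynomial.aeval_map_algebraMap, hψ, Polynomial.aeval_algHom_apply, minpoly.aeval, map_zero]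
  have hne : (minpoly K φ).map (algebraMap K (AlgebraicClosure K)) ≠ 0 :=
    (Polynomial.map_ne_zero_iff (algebraMap K (AlgebraicClosure K)).injective).mpr (minpoly.ne_zero hint)
  have hninj : ¬ Function.Injective
      (aeval ψ ((minpoly K φ).map (algebraMap K (AlgebraicClosure K)))) := by
    rw [h0]
    intro h
    obtain ⟨x, y, hxy⟩ := hnt
    exact hxy (h rfl)
  obtain ⟨a, ha⟩ := exists_root_not_injective ψ _ _ rfl hne hninj
  set T : Module.End (AlgebraicClosure K) (AlgebraicClosure K ⊗[K] E) :=
    ψ - algebraMap (AlgebraicClosure K) _ a with hT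
  have hTapply : ∀ z, T z = ψ z - a • z := fun z => by
    simp [hT, Module.algebraMap_end_apply]
  -- commutation with `D`
  have hcomm : ∀ (d : D) (z : AlgebraicClosure K ⊗[K] E),
      ψ ((DistribSMul.toLinearMap K E d).baseChange (AlgebraicClosure K) z) =
        (DistribSMul.toLinearMap K E d).baseChange (AlgebraicClosure K) (ψ z) := by
    intro d z
    induction z using TensorProduct.induction_on with
    | zero => simp
    | tmul b x =>
      simp only [LinearMap.baseChange_tmul, hψ_apply]
      congr 1
      exact φ.map_smul d x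
    | add z1 z2 h1 h2 => simp only [map_add, h1, h2]
  have hstab : ∀ (d : D) (x : AlgebraicClosure K ⊗[K] E), x ∈ LinearMap.ker T →
      (DistribSMul.toLinearMap K E d).baseChange (AlgebraicClosure K) x ∈ LinearMap.ker T := by
    intro d x hx
    rw [LinearMap.mem_ker, hTapply] at hx ⊢
    rw [hcomm, sub_eq_zero.mp hx, map_smul, sub_self]
  have hker : LinearMap.ker T = ⊤ := by
    rcases hirr _ hstab with h | h
    · exact absurd (LinearMap.ker_eq_bot.mp h) ha
    · exact h
  have hψa : ∀ z, ψ z = a • z := by
    intro z
    have : z ∈ LinearMap.ker T := hker ▸ Submodule.mem_top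
    rw [LinearMap.mem_ker, hTapply] at this
    exact sub_eq_zero.mp this
  -- extract the scalar
  let b := Module.Free.chooseBasis K E
  have hne' : Nonempty (Module.Free.ChooseBasisIndex K E) := by
    by_contra hemp
    rw [not_nonempty_iff] at hemp
    haveI : Subsingleton E := b.repr.toEquiv.subsingleton
    obtain ⟨x, y, hxy⟩ := hnt
    exact hxy (Subsingleton.elim _ _)
  obtain ⟨i⟩ := hne'
  let bb := Algebra.TensorProduct.basis (AlgebraicClosure K) b
  have h1 := hψa ((1 : AlgebraicClosure K) ⊗ₜ b i)
  rw [hψ_apply] at h1
  have h2 := congrArg (fun z => bb.repr z i) h1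
  simp only [bb, Algebra.TensorProduct.basis_repr_tmul, map_smul, Finsupp.smul_apply,
    Module.Basis.repr_self, Finsupp.mapRange_apply, Finsupp.single_eq_same, one_smul, map_one,
    smul_eq_mul, mul_one] at h2
  refine ⟨b.repr (φ (b i)) i, fun x => ?_⟩
  apply Module.Flat.tensorProduct_mk_injective K E (AlgebraicClosure K)
  have h3 := hψa ((1 : AlgebraicClosure K) ⊗ₜ x)
  rw [hψ_apply] at h3
  show (1 : AlgebraicClosure K) ⊗ₜ[K] φ x = 1 ⊗ₜ[K] (b.repr (φ (b i)) i • x)
  rw [h3, ← h2, TensorProduct.smul_tmul', smul_eq_mul, mul_one, Algebra.algebraMap_eq_smul_one,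
    TensorProduct.smul_tmul]

end Groth.Agent.S18795
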