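import Groth.Statements.S18796
import Mathlib

set_option autoImplicit false
universe u v w w' u'
open scoped TensorProduct
open DefMod

namespace Groth.Agent.S18796


/-- Let K be a field of characteristic zero, D an associative K-algebra, E a left D-module that is
finitely presented over D, F a left D-module and P a commutative K-algebra. The canonical P-linear
map Φ : P ⊗_K Hom_D(E, F) → Hom_P(P ⊗_K E, P ⊗_K F), determined by p ⊗ f ↦ p · (1_P ⊗ f), is
injective, and its image consists exactly of the P-linear maps that commute with the action of every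
element of D; in other words Φ identifies P ⊗_K Hom_D(E, F) with the module of homomorphisms P ⊗_K E
→ P ⊗_K F over P ⊗_K D. The map Φ is pinned here by its values on pure tensors. -/
theorem result
    {K : Type u} [Field K] [CharZero K]
    {D : Type v} [Ring D] [Algebra K D]
    {E : Type w} [AddCommGroup E] [Module K E] [Module D E] [IsScalarTower K D E]
    [Module.FinitePresentation D E]
    {F : Type w'} [AddCommGroup F] [Module K F] [Module D F] [IsScalarTower K D F]
    (P : Type u') [CommRing P] [Algebra K P]
    (Φ : P ⊗[K] (E →ₗ[D] F) →ₗ[P] (P ⊗[K] E →ₗ[P] P ⊗[K] F))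
    (hΦ : ∀ (p : P) (f : E →ₗ[D] F), Φ (p ⊗ₜ[K] f) = p • (f.restrictScalars K).baseChange P) :
    Function.Injective Φ ∧
      ∀ g : P ⊗[K] E →ₗ[P] P ⊗[K] F,
        g ∈ LinearMap.range Φ ↔
          ∀ d : D, g ∘ₗ (DistribSMul.toLinearMap K E d).baseChange P =
            (DistribSMul.toLinearMap K F d).baseChange P ∘ₗ g := by
  classical
  let b := Module.Free.chooseBasis K P
  let eH := TensorProduct.equivFinsuppOfBasisLeft (N := E →ₗ[D] F) b
  let eF := TensorProduct.equivFinsuppOfBasisLeft (N := F) b
  -- key identity
  have key : ∀ (x : P ⊗[K] (E →ₗ[D] F)) (e : E) (i : Module.Free.ChooseBasisIndex K P),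
      eF (Φ x (1 ⊗ₜ e)) i = (eH x i) e := by
    intro x e i
    induction x using TensorProduct.induction_on with
    | zero => simp
    | tmul p f =>
      rw [hΦ]
      simp only [LinearMap.smul_apply, LinearMap.baseChange_tmul, TensorProduct.smul_tmul',
        smul_eq_mul, mul_one, eF, eH, TensorProduct.equivFinsuppOfBasisLeft_apply_tmul_apply,
        LinearMap.smul_apply, LinearMap.coe_restrictScalars]
    | add x y hx hy =>
      simp only [map_add, LinearMap.add_apply, Finsupp.add_apply, hx, hy]
  -- the action of `d` in coordinates
  have hdF : ∀ (d : D) (z : P ⊗[K] F) (i : Module.Free.ChooseBasisIndex K P),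
      eF ((DistribSMul.toLinearMap K F d).baseChange P z) i = d • eF z i := by
    intro d z i
    induction z using TensorProduct.induction_on with
    | zero => simp
    | tmul p y =>
      simp only [LinearMap.baseChange_tmul, eF,
        TensorProduct.equivFinsuppOfBasisLeft_apply_tmul_apply, DistribSMul.toLinearMap_apply]
      rw [smul_comm]
    | add x y hx hy => simp only [map_add, Finsupp.add_apply, hx, hy, smul_add]
  refine ⟨?_, fun g => ⟨?_, ?_⟩⟩
  · rw [injective_iff_map_eq_zero]
    intro x hx
    apply eH.injective
    rw [map_zero]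
    ext i e
    rw [← key, hx]
    simp
  · rintro ⟨x, rfl⟩ d
    induction x using TensorProduct.induction_on with
    | zero => simp
    | tmul p f =>
      rw [hΦ]
      apply TensorProduct.AlgebraTensorModule.ext
      intro a e
      simp only [LinearMap.comp_apply, LinearMap.smul_apply, LinearMap.baseChange_tmul,
        LinearMap.coe_restrictScalars, DistribSMul.toLinearMap_apply, map_smul]
    | add x y hx hy =>
      rw [map_add, LinearMap.add_comp, LinearMap.comp_add, hx, hy]
  · intro hg
    -- the coordinate maps
    let f : Module.Free.ChooseBasisIndex K P → (E →ₗ[D] F) := fun i =>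
      { toFun := fun e => eF (g (1 ⊗ₜ e)) i
        map_add' := fun e e' => by
          simp only [TensorProduct.tmul_add, map_add, Finsupp.add_apply]
        map_smul' := fun d e => by
          have h1 : g ((1 : P) ⊗ₜ[K] (d • e)) =
              (DistribSMul.toLinearMap K F d).baseChange P (g (1 ⊗ₜ e)) := by
            have := LinearMap.congr_fun (hg d) ((1 : P) ⊗ₜ[K] e)
            simpa using this
          simp only [RingHom.id_apply]
          rw [h1, hdF] }
    have hf : ∀ i e, f i e = eF (g (1 ⊗ₜ e)) i := fun i e => rfl
    obtain ⟨G, hG⟩ := (Module.Finite.fg_top : (⊤ : Submodule D E).FG)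
    let J : Finset (Module.Free.ChooseBasisIndex K P) :=
      G.biUnion fun e => (eF (g (1 ⊗ₜ e))).support
    have hfJ : ∀ i, i ∉ J → f i = 0 := by
      intro i hi
      refine LinearMap.ext_on hG ?_
      intro e he
      simp only [LinearMap.zero_apply, hf]
      by_contra hne
      apply hi
      simp only [J, Finset.mem_biUnion]
      exact ⟨e, he, Finsupp.mem_support_iff.mpr hne⟩
    refine ⟨∑ j ∈ J, b j ⊗ₜ[K] f j, ?_⟩
    apply TensorProduct.AlgebraTensorModule.ext
    intro a e
    have h1 : a ⊗ₜ[K] e = a • ((1 : P) ⊗ₜ[K] e) := by
      rw [TensorProduct.smul_tmul', smul_eq_mul, mul_one]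
    rw [h1, map_smul, map_smul]
    congr 1
    apply eF.injective
    ext i
    rw [key, ← hf]
    congr 1
    rw [map_sum, Finsupp.finsetSum_apply]
    simp only [eH, TensorProduct.equivFinsuppOfBasisLeft_apply_tmul_apply, Module.Basis.repr_self,
      Finsupp.single_apply, ite_smul, one_smul, zero_smul]
    rw [Finset.sum_ite_eq']
    split_ifs with hi
    · rfl
    · exact (hfJ i hi).symm

end Groth.Agent.S18796
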