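import Groth.Statements.S18797
import Mathlib
-- import your own Groth.Agent.* helpers here

set_option autoImplicit false
universe u v w
open DefMod

namespace Groth.Agent.S18797

/-- Let K be a field of characteristic zero, O a commutative K-algebra with a K-linear derivation ∂, and
E a finite free O-module equipped with a K-linear map ∂_E satisfying the Leibniz rule ∂_E(a e) =
∂(a) e + a ∂_E(e) (a differential module). The induced derivation on End_O(E) sends φ to ∂_E ∘ φ − φ
∘ ∂_E, which is again O-linear; the trace End_O(E) → O is compatible with the two derivations: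
tr(∂_E ∘ φ − φ ∘ ∂_E) = ∂(tr φ). Here the O-linear map ψ = ∂_E ∘ φ − φ ∘ ∂_E is given by its values.
(The published lemma also asserts that the trace is split surjective and that it respects commutator
brackets; the split surjectivity fails for E = 0 over a nonzero ring and holds only in positive
rank, and neither clause is restated.) -/
theorem result
    {K : Type u} [Field K] [CharZero K]
    {O : Type v} [CommRing O] [Algebra K O] (δ : Derivation K O O)
    {E : Type w} [AddCommGroup E] [Module O E] [Module K E] [IsScalarTower K O E]
    [Module.Free O E] [Module.Finite O E]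
    (δE : E →ₗ[K] E) (hδE : ∀ (a : O) (e : E), δE (a • e) = δ a • e + a • δE e)
    (φ ψ : E →ₗ[O] E) (hψ : ∀ e : E, ψ e = δE (φ e) - φ (δE e)) :
    LinearMap.trace O E ψ = δ (LinearMap.trace O E φ) := by
  classical
  let b := Module.Free.chooseBasis O E
  set A := LinearMap.toMatrix b b φ with hA
  let C : Matrix (Module.Free.ChooseBasisIndex O E) (Module.Free.ChooseBasisIndex O E) O :=
    fun i j => b.repr (δE (b j)) i
  have hφb : ∀ j, φ (b j) = ∑ i, A i j • b i := by
    intro j
    conv_lhs => rw [← b.sum_repr (φ (b j))]
    apply Finset.sum_congr rfl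
    intro i _
    rw [hA, LinearMap.toMatrix_apply]
  have hδb : ∀ j, δE (b j) = ∑ i, C i j • b i := fun j => (b.sum_repr (δE (b j))).symm
  have h1 : ∀ j, δE (φ (b j)) = ∑ l, (δ (A l j) + (C * A) l j) • b l := by
    intro j
    rw [hφb j, map_sum]
    simp_rw [hδE, hδb, Finset.smul_sum, smul_smul]
    rw [Finset.sum_add_distrib, Finset.sum_comm]
    rw [← Finset.sum_add_distrib]
    apply Finset.sum_congr rfl
    intro l _
    rw [add_smul, Matrix.mul_apply, Finset.sum_smul]
    congr 1
    apply Finset.sum_congr rfl
    intro i _
    rw [mul_comm]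
  have h2 : ∀ j, φ (δE (b j)) = ∑ l, ((A * C) l j) • b l := by
    intro j
    rw [hδb j, map_sum]
    simp_rw [map_smul, hφb, Finset.smul_sum, smul_smul]
    rw [Finset.sum_comm]
    apply Finset.sum_congr rfl
    intro l _
    rw [Matrix.mul_apply, Finset.sum_smul]
    apply Finset.sum_congr rfl
    intro i _
    rw [mul_comm]
  have hψm : ∀ l j, LinearMap.toMatrix b b ψ l j = δ (A l j) + (C * A) l j - (A * C) l j := by
    intro l j
    rw [LinearMap.toMatrix_apply, hψ, h1, h2, ← Finset.sum_sub_distrib]
    simp_rw [← sub_smul]
    rw [b.repr_sum_self]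
  rw [LinearMap.trace_eq_matrix_trace O b ψ, LinearMap.trace_eq_matrix_trace O b φ]
  simp only [Matrix.trace, Matrix.diag_apply, hψm, map_sum]
  rw [Finset.sum_sub_distrib, Finset.sum_add_distrib]
  have h3 : ∑ i, (C * A) i i = ∑ i, (A * C) i i := by
    have := Matrix.trace_mul_comm C A
    simpa [Matrix.trace] using this
  rw [h3]
  ring

end Groth.Agent.S18797
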