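import Groth.Statements.S18802
import Mathlib.LinearAlgebra.Basis.VectorSpace
import Mathlib.Algebra.Exact.Basic
import Mathlib.Algebra.Module.Projective
import Mathlib.LinearAlgebra.Dimension.Free

set_option autoImplicit false
universe u v w w' w''
open DefMod

namespace Groth.Agent.S18802

/-- Let K be a field of characteristic zero, D an associative K-algebra and E, F left D-modules. A
K-linear map s : D → Hom_K(E, F) with s(ab)(e) = a s(b)(e) + s(a)(b e) (a derivation into the
bimodule Hom_K(E, F), i.e. a Hochschild 1-cocycle) defines the twisted sum F ⊕_s E = F × E with a ·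
(f, e) = (a f + s(a) e, a e), an extension of E by F. Every extension of left D-modules 0 → F → Q →
E → 0 arises this way: there are such an s and a D-linear isomorphism Q ≅ F ⊕_s E carrying the given
map F → Q to the inclusion f ↦ (f, 0) and compatible with the two projections onto E. (Together with
the splitting criterion this identifies derivations modulo principal derivations with Ext¹_D(E, F);
the compatibility of that identification with addition and scalars is not restated.) -/
theorem result
    {K : Type u} [Field K] [CharZero K]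
    {D : Type v} [Ring D] [Algebra K D]
    {E : Type w} [AddCommGroup E] [Module K E] [Module D E] [IsScalarTower K D E]
    {F : Type w'} [AddCommGroup F] [Module K F] [Module D F] [IsScalarTower K D F]
    {Q : Type w''} [AddCommGroup Q] [Module D Q]
    (i : F →ₗ[D] Q) (p : Q →ₗ[D] E) (hi : Function.Injective i) (hp : Function.Surjective p)
    (hex : Function.Exact i p) :
    ∃ (s : D →ₗ[K] E →ₗ[K] F) (hs : W4c6defoisocp1.IsHomDerivation s) (Φ : Q ≃ₗ[D] W4c6defoisocp1.TwistExt s hs),
      (∀ f : F, Φ (i f) = W4c6defoisocp1.TwistExt.inl f) ∧ ∀ q : Q, W4c6defoisocp1.TwistExt.snd (Φ q) = p q := by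
  classical
  let _ : Module K Q := Module.compHom Q (algebraMap K D)
  have : IsScalarTower K D Q := IsScalarTower.of_compHom K D Q
  -- K-linear section of p and retraction of i
  obtain ⟨σ, hσ⟩ := (p.restrictScalars K).exists_rightInverse_of_surjective
    (LinearMap.range_eq_top.mpr hp)
  have hσ' : ∀ e, p (σ e) = e := fun e => LinearMap.congr_fun hσ e
  obtain ⟨r, hr⟩ := (i.restrictScalars K).exists_leftInverse_of_injective
    (LinearMap.ker_eq_bot.mpr hi)
  have hr' : ∀ f, r (i f) = f := fun f => LinearMap.congr_fun hr f
  have hir : ∀ q : Q, p q = 0 → i (r q) = q := by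
    intro q hq
    obtain ⟨f, rfl⟩ := (hex q).mp hq
    rw [hr']
  let s : D →ₗ[K] E →ₗ[K] F := LinearMap.mk₂ K (fun a e => r (a • σ e - σ (a • e)))
    (fun a b e => by
      rw [← map_add]
      congr 1
      rw [add_smul, add_smul, map_add]
      abel)
    (fun c a e => by
      rw [← map_smul r, smul_sub, smul_assoc c a (σ e), smul_assoc c a e, map_smul σ])
    (fun a e e' => by
      rw [← map_add]
      congr 1
      rw [map_add, smul_add, smul_add, map_add]
      abel)
    (fun c a e => by
      rw [← map_smul r, smul_sub, map_smul σ c e, smul_comm a c (σ e), smul_comm a c e,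
        map_smul σ])
  have hs_apply : ∀ a e, s a e = r (a • σ e - σ (a • e)) := fun a e => rfl
  have his : ∀ a e, i (s a e) = a • σ e - σ (a • e) := by
    intro a e
    rw [hs_apply]
    apply hir
    rw [map_sub, map_smul, hσ', hσ', sub_self]
  have hs : W4c6defoisocp1.IsHomDerivation s := by
    intro a b e
    apply hi
    rw [map_add, map_smul, his, his, his, mul_smul, mul_smul, smul_sub]
    abel
  -- the isomorphism
  have hmem : ∀ q : Q, p (q - σ (p q)) = 0 := by
    intro q
    rw [map_sub, hσ', sub_self]
  let Φ₀ : Q →ₗ[D] W4c6defoisocp1.TwistExt s hs :=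
    { toFun := fun q => W4c6defoisocp1.TwistExt.mk (r (q - σ (p q)), p q)
      map_add' := fun q q' => by
        apply W4c6defoisocp1.TwistExt.ext
        · show r (q + q' - σ (p (q + q'))) = r (q - σ (p q)) + r (q' - σ (p q'))
          rw [← map_add r, map_add p, map_add σ]
          congr 1
          abel
        · simp
      map_smul' := fun a q => by
        apply W4c6defoisocp1.TwistExt.ext
        · show r (a • q - σ (p (a • q))) = a • r (q - σ (p q)) + s a (p q)
          apply hi
          have h1 := hir _ (hmem (a • q))
          rw [map_add i, map_smul i, his, hir _ (hmem q), h1, map_smul p, smul_sub]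
          abel
        · simp }
  have hΦ₀ : ∀ q, W4c6defoisocp1.TwistExt.val (Φ₀ q) = (r (q - σ (p q)), p q) := fun q => rfl
  have hexact0 : ∀ f, p (i f) = 0 := fun f => (hex (i f)).mpr ⟨f, rfl⟩
  have hΦinj : Function.Injective Φ₀ := by
    rw [← LinearMap.ker_eq_bot, eq_bot_iff]
    intro q hq
    rw [LinearMap.mem_ker] at hq
    have h1 := congrArg W4c6defoisocp1.TwistExt.val hq
    rw [hΦ₀] at h1
    have h2 : p q = 0 := congrArg Prod.snd h1
    have h3 : r (q - σ (p q)) = 0 := congrArg Prod.fst h1
    rw [h2, map_zero, sub_zero] at h3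
    rw [Submodule.mem_bot, ← hir q h2, h3, map_zero]
  have hΦsurj : Function.Surjective Φ₀ := by
    intro x
    refine ⟨i (W4c6defoisocp1.TwistExt.val x).1 + σ (W4c6defoisocp1.TwistExt.val x).2, ?_⟩
    apply W4c6defoisocp1.TwistExt.ext
    · rw [hΦ₀]
      simp only [map_add, hexact0, hσ', zero_add, add_sub_cancel_right, hr']
    · rw [hΦ₀]
      simp only [map_add, hexact0, hσ', zero_add]
  refine ⟨s, hs, LinearEquiv.ofBijective Φ₀ ⟨hΦinj, hΦsurj⟩, fun f => ?_, fun q => ?_⟩
  · apply W4c6defoisocp1.TwistExt.ext
    · show (W4c6defoisocp1.TwistExt.val (Φ₀ (i f))).1 = _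
      rw [hΦ₀]
      simp [hexact0, hr']
    · show (W4c6defoisocp1.TwistExt.val (Φ₀ (i f))).2 = _
      rw [hΦ₀]
      simp [hexact0]
  · rfl

end Groth.Agent.S18802
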