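import Groth.Statements.S18803
import Mathlib.Algebra.Algebra.Basic
import Mathlib.Algebra.Module.Submodule.Equiv

set_option autoImplicit false
universe u v w w'
open DefMod

namespace Groth.Agent.S18803

/-- Let K be a field of characteristic zero, D an associative K-algebra, E and F left D-modules, and s :
D → Hom_K(E, F) a K-linear map with s(ab)(e) = a s(b)(e) + s(a)(b e). The twisted sum F ⊕_s E (that
is F × E with a · (f, e) = (a f + s(a) e, a e)) is a trivial extension of E by F — there is a
D-linear isomorphism F ⊕_s E ≅ F × E with the direct-sum module structure, carrying the inclusion f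
↦ (f, 0) to itself and compatible with the second projections — if and only if s is principal:
s(a)(e) = a σ(e) − σ(a e) for some K-linear σ : E → F (a Hochschild 1-coboundary). -/
theorem result
    {K : Type u} [Field K] [CharZero K]
    {D : Type v} [Ring D] [Algebra K D]
    {E : Type w} [AddCommGroup E] [Module K E] [Module D E] [IsScalarTower K D E]
    {F : Type w'} [AddCommGroup F] [Module K F] [Module D F] [IsScalarTower K D F]
    (s : D →ₗ[K] E →ₗ[K] F) (hs : W4c6defoisocp1.IsHomDerivation s) :
    (∃ Ψ : W4c6defoisocp1.TwistExt s hs ≃ₗ[D] F × E,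
        (∀ f : F, Ψ (W4c6defoisocp1.TwistExt.inl f) = (f, 0)) ∧ ∀ x : W4c6defoisocp1.TwistExt s hs, (Ψ x).2 = W4c6defoisocp1.TwistExt.snd x) ↔
      W4c6defoisocp1.IsPrincipal s := by
  constructor
  · rintro ⟨Ψ, hΨ1, hΨ2⟩
    -- τ e := first component of Ψ (0, e)
    have hmk : ∀ (f : F) (e : E), (W4c6defoisocp1.TwistExt.mk (f, e) : W4c6defoisocp1.TwistExt s hs) =
        W4c6defoisocp1.TwistExt.inl f + W4c6defoisocp1.TwistExt.mk (0, e) := by
      intro f e
      apply W4c6defoisocp1.TwistExt.ext <;> simp
    have hsmul0 : ∀ (a : D) (e : E),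
        a • (W4c6defoisocp1.TwistExt.mk (0, e) : W4c6defoisocp1.TwistExt s hs) =
        W4c6defoisocp1.TwistExt.inl (s a e) + W4c6defoisocp1.TwistExt.mk (0, a • e) := by
      intro a e
      apply W4c6defoisocp1.TwistExt.ext <;> simp
    have halg : ∀ c : K, s (algebraMap K D c) = 0 := by
      intro c
      rw [Algebra.algebraMap_eq_smul_one, map_smul,
        W4c6defoisocp1.TwistExt.map_one_eq_zero hs, smul_zero]
    let τ : E →ₗ[K] F :=
      { toFun := fun e => (Ψ (W4c6defoisocp1.TwistExt.mk (0, e))).1
        map_add' := fun e e' => by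
          have : (W4c6defoisocp1.TwistExt.mk (0, e + e') : W4c6defoisocp1.TwistExt s hs) =
              W4c6defoisocp1.TwistExt.mk (0, e) + W4c6defoisocp1.TwistExt.mk (0, e') := by
            apply W4c6defoisocp1.TwistExt.ext <;> simp
          rw [this, map_add, Prod.fst_add]
        map_smul' := fun c e => by
          have h1 := hsmul0 (algebraMap K D c) e
          rw [halg, LinearMap.zero_apply, map_zero, zero_add] at h1
          show (Ψ (W4c6defoisocp1.TwistExt.mk (0, c • e))).1 =
            c • (Ψ (W4c6defoisocp1.TwistExt.mk (0, e))).1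
          rw [← algebraMap_smul D c e, ← h1, map_smul, Prod.smul_fst, algebraMap_smul] }
    have hτ : ∀ e, (Ψ (W4c6defoisocp1.TwistExt.mk (0, e))).1 = τ e := fun e => rfl
    refine ⟨τ, fun a e => ?_⟩
    have h1 := congrArg (fun x => Ψ x) (hsmul0 a e)
    simp only [map_smul, map_add, hΨ1] at h1
    have h2 := congrArg Prod.fst h1
    simp only [Prod.smul_fst, Prod.fst_add, hτ] at h2
    rw [h2]
    abel
  · rintro ⟨σ, hσ⟩
    let Ψ₀ : W4c6defoisocp1.TwistExt s hs →ₗ[D] F × E :=
      { toFun := fun x => ((W4c6defoisocp1.TwistExt.val x).1 + σ (W4c6defoisocp1.TwistExt.val x).2,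
          (W4c6defoisocp1.TwistExt.val x).2)
        map_add' := fun x y => by
          ext
          · simp only [W4c6defoisocp1.TwistExt.val_add, Prod.fst_add, Prod.snd_add, map_add]
            abel
          · simp
        map_smul' := fun a x => by
          ext
          · simp only [W4c6defoisocp1.TwistExt.val_smul, RingHom.id_apply, Prod.smul_fst,
              smul_add, hσ]
            abel
          · simp }
    have hΨ₀ : ∀ x, Ψ₀ x = ((W4c6defoisocp1.TwistExt.val x).1 +
        σ (W4c6defoisocp1.TwistExt.val x).2, (W4c6defoisocp1.TwistExt.val x).2) := fun x => rfl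
    have hinj : Function.Injective Ψ₀ := by
      rw [← LinearMap.ker_eq_bot, eq_bot_iff]
      intro x hx
      rw [LinearMap.mem_ker, hΨ₀] at hx
      have h2 : (W4c6defoisocp1.TwistExt.val x).2 = 0 := congrArg Prod.snd hx
      have h1 : (W4c6defoisocp1.TwistExt.val x).1 + σ (W4c6defoisocp1.TwistExt.val x).2 = 0 :=
        congrArg Prod.fst hx
      rw [h2, map_zero, add_zero] at h1
      rw [Submodule.mem_bot]
      exact W4c6defoisocp1.TwistExt.ext (by simpa using h1) (by simpa using h2)
    have hsurj : Function.Surjective Ψ₀ := by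
      rintro ⟨f, e⟩
      refine ⟨W4c6defoisocp1.TwistExt.mk (f - σ e, e), ?_⟩
      rw [hΨ₀]
      simp
    refine ⟨LinearEquiv.ofBijective Ψ₀ ⟨hinj, hsurj⟩, fun f => ?_, fun x => rfl⟩
    show Ψ₀ (W4c6defoisocp1.TwistExt.inl f) = (f, 0)
    rw [hΨ₀]
    simp

end Groth.Agent.S18803
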