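import Groth.Statements.S18807
import Mathlib
-- import your own Groth.Agent.* helpers here

set_option autoImplicit false
universe u v v' w w' x
open TensorProduct
open HopfRep

namespace Groth.Agent.S18807

theorem hcomm {k : Type u} [Field k] {C : Type v} [AddCommGroup C] [Module k C]
    {D : Type v'} [AddCommGroup D] [Module k D] {V : Type w} [AddCommGroup V] [Module k V]
    (i : C →ₗ[k] D) (e : V →ₗ[k] V) (x : V ⊗[k] C) :
    i.lTensor V (e.rTensor C x) = e.rTensor D (i.lTensor V x) := by
  induction x using TensorProduct.induction_on with
  | zero => simp
  | tmul a b => simp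
  | add a b ha hb => simp [ha, hb]

/-- Let k be a field, i : C → D an injective morphism of k-coalgebras, and V a k-vector space carrying a
right C-comodule structure with coaction ρ_C and a right D-comodule structure whose coaction is ρ_C
followed by V ⊗ C → V ⊗ D. Then every k-subspace W of V which is a D-subcomodule (the D-coaction
maps W into the image of W ⊗ D) is a C-subcomodule (ρ_C maps W into the image of W ⊗ C);
consequently the quotient by W is again a C-comodule. (The source states this for left comodules
over the coordinate bialgebras of an affine monoid scheme and of its open schematically dense group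
of units, using only the injectivity of the restriction map; it also records that a D-comodule map
between C-comodules is a C-comodule map, which is immediate from that injectivity and is not part of
this row.) -/
theorem result (k : Type u) [Field k]
    (C : Type v) [AddCommGroup C] [Module k C] [Coalgebra k C]
    (D : Type v') [AddCommGroup D] [Module k D] [Coalgebra k D]
    (i : C →ₗc[k] D) (hi : Function.Injective i)
    (V : Type w) [AddCommGroup V] [Module k V] [HopfRep.Comod k C V] [HopfRep.Comod k D V]
    (hcd : (i : C →ₗ[k] D).lTensor V ∘ₗ HopfRep.Comod.coact (k := k) (A := C) =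
      HopfRep.Comod.coact (k := k) (A := D) (V := V))
    (W : Submodule k V) (hW : HopfRep.IsSubcomod (k := k) (A := D) W) :
    HopfRep.IsSubcomod (k := k) (A := C) W := by
  intro w hw
  obtain ⟨π, hπ⟩ := W.subtype.exists_leftInverse_of_injective (by simp)
  -- π : V →ₗ W with π ∘ subtype = id
  set e : V →ₗ[k] V := W.subtype ∘ₗ π with he
  have hinj : Function.Injective ((i : C →ₗ[k] D).lTensor V) :=
    Module.Flat.lTensor_preserves_injective_linearMap (M := V) (i : C →ₗ[k] D) hi
  obtain ⟨z, hz⟩ := hW w hw
  have hy : (i : C →ₗ[k] D).lTensor V (HopfRep.Comod.coact (k := k) (A := C) w)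
      = W.subtype.rTensor D z := by
    rw [hz, ← hcd]; rfl
  have key : e.rTensor C (HopfRep.Comod.coact (k := k) (A := C) w)
      = HopfRep.Comod.coact (k := k) (A := C) w := by
    apply hinj
    rw [hcomm, hy, ← LinearMap.comp_apply, ← LinearMap.rTensor_comp]
    congr 2
    rw [he, LinearMap.comp_assoc, hπ, LinearMap.comp_id]
  refine ⟨π.rTensor C (HopfRep.Comod.coact (k := k) (A := C) w), ?_⟩
  rw [← LinearMap.comp_apply, ← LinearMap.rTensor_comp, ← he, key]

end Groth.Agent.S18807
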