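import Groth.Statements.S18809
import Mathlib
import Groth.Agent.S18807
-- import your own Groth.Agent.* helpers here

set_option autoImplicit false
universe u v v' w w' x
open TensorProduct
open HopfRep

namespace Groth.Agent.S18809

theorem assoc_map_map {k : Type u} [Field k] {C : Type v} [AddCommGroup C] [Module k C]
    {D : Type v'} [AddCommGroup D] [Module k D] {V : Type w} [AddCommGroup V] [Module k V]
    (i : C →ₗ[k] D) (z : V ⊗[k] C) (c : C) :
    TensorProduct.assoc k V D D ((i.lTensor V z) ⊗ₜ[k] i c) =
      (TensorProduct.map i i).lTensor V (TensorProduct.assoc k V C C (z ⊗ₜ[k] c)) := by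
  induction z using TensorProduct.induction_on with
  | zero => simp
  | tmul a b => simp
  | add a b ha hb => simp only [map_add, TensorProduct.add_tmul, ha, hb]

theorem assoc_map_map' {k : Type u} [Field k] {C : Type v} [AddCommGroup C] [Module k C]
    {D : Type v'} [AddCommGroup D] [Module k D] {V : Type w} [AddCommGroup V] [Module k V]
    (i : C →ₗ[k] D) (ρ : V →ₗ[k] V ⊗[k] C) (y : V ⊗[k] C) :
    TensorProduct.assoc k V D D ((i.lTensor V ∘ₗ ρ).rTensor D (i.lTensor V y)) =
      (TensorProduct.map i i).lTensor V (TensorProduct.assoc k V C C (ρ.rTensor C y)) := by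
  induction y using TensorProduct.induction_on with
  | zero => simp
  | tmul a b =>
    simp only [LinearMap.lTensor_tmul, LinearMap.rTensor_tmul, LinearMap.comp_apply]
    exact assoc_map_map i (ρ a) b
  | add a b ha hb => simp only [map_add, ha, hb]

theorem lTensor_rTensor_comm {k : Type u} [Field k] {C : Type v} [AddCommGroup C] [Module k C]
    {D : Type v'} [AddCommGroup D] [Module k D] {V : Type w} [AddCommGroup V] [Module k V]
    {W : Type*} [AddCommGroup W] [Module k W]
    (i : C →ₗ[k] D) (e : W →ₗ[k] V) (x : W ⊗[k] C) :
    i.lTensor V (e.rTensor C x) = e.rTensor D (i.lTensor W x) := by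
  induction x using TensorProduct.induction_on with
  | zero => simp
  | tmul a b => simp
  | add a b ha hb => simp [ha, hb]

/-- restriction of scalars... pushforward of a comodule along a coalgebra map -/
@[reducible] noncomputable def pushComod {k : Type u} [Field k]
    {C : Type v} [AddCommGroup C] [Module k C] [Coalgebra k C]
    {D : Type v'} [AddCommGroup D] [Module k D] [Coalgebra k D]
    (i : C →ₗc[k] D)
    (V : Type w) [AddCommGroup V] [Module k V] [inst : HopfRep.Comod k C V] : HopfRep.Comod k D V where
  coact := (i : C →ₗ[k] D).lTensor V ∘ₗ inst.coact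
  coassoc := by
    ext v
    simp only [LinearMap.comp_apply, LinearEquiv.coe_coe]
    rw [assoc_map_map']
    have h := LinearMap.congr_fun inst.coassoc v
    simp only [LinearMap.comp_apply, LinearEquiv.coe_coe] at h
    rw [h, ← LinearMap.comp_apply, ← LinearMap.comp_apply (LinearMap.lTensor V _),
      ← LinearMap.lTensor_comp, ← LinearMap.lTensor_comp]
    congr 2
    exact CoalgHomClass.map_comp_comul i
  counit_comp := by
    rw [← LinearMap.comp_assoc, ← LinearMap.lTensor_comp]
    have : (CoalgebraStruct.counit (R := k) (A := D)) ∘ₗ (i : C →ₗ[k] D) =
        CoalgebraStruct.counit (R := k) (A := C) := CoalgHomClass.counit_comp i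
    rw [this]
    exact inst.counit_comp

/-- Let k be a field and i : C → D an injective morphism of k-coalgebras. If every right D-comodule is
semisimple (every subcomodule has a complementary subcomodule), then every right C-comodule is
semisimple. (The source states this for the coordinate bialgebras of an affine monoid scheme over k
and of its open schematically dense group of units, through the injectivity of the restriction map,
with semisimple meaning that every representation is a sum of irreducible subrepresentations;
D-comodules are quantified in the universe of the given C-comodule.) -/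
theorem result (k : Type u) [Field k]
    (C : Type v) [AddCommGroup C] [Module k C] [Coalgebra k C]
    (D : Type v') [AddCommGroup D] [Module k D] [Coalgebra k D]
    (i : C →ₗc[k] D) (hi : Function.Injective i)
    (hD : ∀ (W : Type w) [AddCommGroup W] [Module k W] [HopfRep.Comod k D W], HopfRep.IsSemisimpleComod k D W)
    (V : Type w) [AddCommGroup V] [Module k V] [HopfRep.Comod k C V] :
    HopfRep.IsSemisimpleComod k C V := by
  intro W hW
  let instD : HopfRep.Comod k D V := pushComod i V
  have hWD : HopfRep.IsSubcomod (k := k) (A := D) W := by
    intro w hw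
    obtain ⟨z, hz⟩ := hW w hw
    refine ⟨(i : C →ₗ[k] D).lTensor W z, ?_⟩
    rw [← lTensor_rTensor_comm, hz]
    rfl
  obtain ⟨W', hW', hc⟩ := hD V W hWD
  refine ⟨W', ?_, hc⟩
  exact Groth.Agent.S18807.result k C D i hi V rfl W' hW'

end Groth.Agent.S18809
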