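import Groth.Statements.S18806
import Mathlib
import Groth.Agent.S18809
-- import your own Groth.Agent.* helpers here

set_option autoImplicit false
universe u v v' w w' x
open TensorProduct
open HopfRep

namespace Groth.Agent.S18806

/-- Let k be a field, i : C → D an injective morphism of k-coalgebras and V a right D-comodule with
coaction ρ : V → V ⊗ D. If ρ(v) lies in the image of V ⊗ C → V ⊗ D (induced by i) for every v, then
V comes from a C-comodule: there is a C-comodule structure on V whose coaction, followed by V ⊗ C →
V ⊗ D, is ρ. (The source states this for left comodules over the coordinate bialgebras of an affine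
monoid scheme over k and of its group of units, assumed open and schematically dense, and uses that
assumption only through the injectivity of the restriction map of coordinate rings; the row is the
right-comodule mirror image for any injective coalgebra map. The converse direction is immediate.) -/
theorem result (k : Type u) [Field k]
    (C : Type v) [AddCommGroup C] [Module k C] [Coalgebra k C]
    (D : Type v') [AddCommGroup D] [Module k D] [Coalgebra k D]
    (i : C →ₗc[k] D) (hi : Function.Injective i)
    (V : Type w) [AddCommGroup V] [Module k V] [HopfRep.Comod k D V]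
    (h : ∀ v : V, HopfRep.Comod.coact (k := k) (A := D) v ∈ LinearMap.range ((i : C →ₗ[k] D).lTensor V)) :
    ∃ c : HopfRep.Comod k C V,
      (i : C →ₗ[k] D).lTensor V ∘ₗ c.coact = HopfRep.Comod.coact (k := k) (A := D) := by
  have hinj : Function.Injective ((i : C →ₗ[k] D).lTensor V) :=
    Module.Flat.lTensor_preserves_injective_linearMap (M := V) (i : C →ₗ[k] D) hi
  have hinj2 : Function.Injective ((TensorProduct.map (i : C →ₗ[k] D) (i : C →ₗ[k] D)).lTensor V) :=
    Module.Flat.lTensor_preserves_injective_linearMap (M := V) _
      (TensorProduct.map_injective_of_flat_flat _ _ hi hi)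
  set ρD : V →ₗ[k] V ⊗[k] D := HopfRep.Comod.coact (k := k) (A := D) with hρD
  let ρ : V →ₗ[k] V ⊗[k] C :=
    (LinearEquiv.ofInjective _ hinj).symm.toLinearMap ∘ₗ
      (ρD.codRestrict (LinearMap.range ((i : C →ₗ[k] D).lTensor V)) h)
  have hρ : (i : C →ₗ[k] D).lTensor V ∘ₗ ρ = ρD := by
    ext v
    simp only [ρ, LinearMap.comp_apply, LinearEquiv.coe_coe]
    have := LinearEquiv.apply_symm_apply (LinearEquiv.ofInjective _ hinj)
      (ρD.codRestrict (LinearMap.range ((i : C →ₗ[k] D).lTensor V)) h v)
    have h2 := congrArg Subtype.val this
    simpa using h2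
  refine ⟨{ coact := ρ, coassoc := ?_, counit_comp := ?_ }, hρ⟩
  · ext v
    apply hinj2
    simp only [LinearMap.comp_apply, LinearEquiv.coe_coe]
    rw [← Groth.Agent.S18809.assoc_map_map', hρ]
    have e1 : (i : C →ₗ[k] D).lTensor V (ρ v) = ρD v := LinearMap.congr_fun hρ v
    rw [e1]
    have h3 := LinearMap.congr_fun (HopfRep.Comod.coassoc (k := k) (A := D) (V := V)) v
    simp only [LinearMap.comp_apply, LinearEquiv.coe_coe] at h3
    rw [h3, ← e1, ← LinearMap.comp_apply (LinearMap.lTensor V _),
      ← LinearMap.comp_apply (LinearMap.lTensor V _),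
      ← LinearMap.lTensor_comp, ← LinearMap.lTensor_comp]
    congr 2
    exact (CoalgHomClass.map_comp_comul i).symm
  · have e2 : (CoalgebraStruct.counit (R := k) (A := D)) ∘ₗ (i : C →ₗ[k] D) =
        CoalgebraStruct.counit (R := k) (A := C) := CoalgHomClass.counit_comp i
    rw [← e2, LinearMap.lTensor_comp, LinearMap.comp_assoc, hρ]
    exact HopfRep.Comod.counit_comp

end Groth.Agent.S18806
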