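import Groth.Statements.S18808
import Groth.Agent.Lib.Helper25.Comod2
-- import your own Groth.Agent.* helpers here

set_option autoImplicit false
universe u v v' w w' x
open TensorProduct
open HopfRep

namespace Groth.Agent.S18808

open Groth.Agent.Lib.Helper25.Comod Groth.Agent.Lib.Helper20.CB

section
variable {k : Type u} [Field k] {C : Type v} [AddCommGroup C] [Module k C]
  {D : Type v'} [AddCommGroup D] [Module k D] {V : Type w} [AddCommGroup V] [Module k V]

/-- membership in the image of `K ⊗ D` is tested on coefficients -/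
theorem mem_range_rTensor_iff {I : Type*} [DecidableEq I] (b : Module.Basis I k D)
    (K : Submodule k V) (t : V ⊗[k] D) :
    t ∈ LinearMap.range (K.subtype.rTensor D) ↔ ∀ l, coef b l t ∈ K := by
  constructor
  · rintro ⟨s, rfl⟩ l
    induction s using TensorProduct.induction_on with
    | zero => simp
    | tmul x c =>
      rw [LinearMap.rTensor_tmul, coef_tmul]
      exact K.smul_mem _ x.2
    | add t₁ t₂ h₁ h₂ => rw [map_add, map_add]; exact K.add_mem h₁ h₂
  · intro h
    rw [expand b t]
    refine Submodule.sum_mem _ (fun l _ => ?_)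
    exact ⟨(⟨coef b l t, h l⟩ : K) ⊗ₜ[k] b l, rfl⟩

/-- `t` comes from `Q ⊗ C` iff it is killed by `id ⊗ e`, `e = id - i ∘ r` -/
theorem mem_range_lTensor_iff (i : C →ₗ[k] D) (r : D →ₗ[k] C) (hr : r ∘ₗ i = LinearMap.id)
    {Q : Type*} [AddCommGroup Q] [Module k Q] (t : Q ⊗[k] D) :
    t ∈ LinearMap.range (i.lTensor Q) ↔ (LinearMap.id - i ∘ₗ r).lTensor Q t = 0 := by
  constructor
  · rintro ⟨s, rfl⟩
    rw [← LinearMap.comp_apply, ← LinearMap.lTensor_comp, LinearMap.sub_comp, LinearMap.id_comp,
      LinearMap.comp_assoc, hr, LinearMap.comp_id, sub_self, LinearMap.lTensor_zero,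
      LinearMap.zero_apply]
  · intro h
    refine ⟨r.lTensor Q t, ?_⟩
    rw [← LinearMap.comp_apply, ← LinearMap.lTensor_comp]
    rw [LinearMap.lTensor_sub, LinearMap.sub_apply, LinearMap.lTensor_id, LinearMap.id_apply,
      sub_eq_zero] at h
    exact h.symm

theorem admissible_iff (i : C →ₗ[k] D) (r : D →ₗ[k] C) (hr : r ∘ₗ i = LinearMap.id)
    {I : Type*} [DecidableEq I] (b : Module.Basis I k D) (K : Submodule k V) (t : V ⊗[k] D) :
    K.mkQ.rTensor D t ∈ LinearMap.range (i.lTensor (V ⧸ K)) ↔
      ∀ l, coef b l ((LinearMap.id - i ∘ₗ r).lTensor V t) ∈ K := by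
  rw [mem_range_lTensor_iff i r hr, ← mem_range_rTensor_iff b K, ← rTensor_mkQ, LinearMap.mem_ker]
  rw [← LinearMap.comp_apply, ← LinearMap.comp_apply, LinearMap.lTensor_comp_rTensor,
    LinearMap.rTensor_comp_lTensor]

end

/-- Let k be a field, i : C → D an injective morphism of k-coalgebras and V a right D-comodule with
coaction ρ. Call a D-subcomodule K of V admissible when the induced coaction of V/K, namely ρ
followed by the projection V ⊗ D → (V/K) ⊗ D, takes all its values in the image of (V/K) ⊗ C → (V/K)
⊗ D (so that V/K comes from a C-comodule). Then there is a least admissible D-subcomodule of V: V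
has a largest quotient D-comodule coming from C, through which every D-comodule map from V to a
comodule coming from C factors. (The source states this for left comodules over the coordinate
bialgebras of an affine monoid scheme and its open schematically dense group of units, as the
existence of a universal map from a representation of the unit group to a representation of the
monoid; it uses that assumption only through the injectivity of the restriction map.) -/
theorem result (k : Type u) [Field k]
    (C : Type v) [AddCommGroup C] [Module k C] [Coalgebra k C]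
    (D : Type v') [AddCommGroup D] [Module k D] [Coalgebra k D]
    (i : C →ₗc[k] D) (hi : Function.Injective i)
    (V : Type w) [AddCommGroup V] [Module k V] [HopfRep.Comod k D V] :
    ∃ K : Submodule k V, HopfRep.IsSubcomod (k := k) (A := D) K ∧
      (∀ v : V, K.mkQ.rTensor D (HopfRep.Comod.coact (k := k) (A := D) v) ∈
        LinearMap.range ((i : C →ₗ[k] D).lTensor (V ⧸ K))) ∧
      ∀ K' : Submodule k V, HopfRep.IsSubcomod (k := k) (A := D) K' →
        (∀ v : V, K'.mkQ.rTensor D (HopfRep.Comod.coact (k := k) (A := D) v) ∈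
          LinearMap.range ((i : C →ₗ[k] D).lTensor (V ⧸ K'))) → K ≤ K' := by
  classical
  obtain ⟨r, hr⟩ := LinearMap.exists_leftInverse_of_injective (i : C →ₗ[k] D)
    (LinearMap.ker_eq_bot.mpr hi)
  let b := Module.Basis.ofVectorSpace k D
  let 𝒜 : Set (Submodule k V) := {K' | HopfRep.IsSubcomod (k := k) (A := D) K' ∧
    ∀ v : V, K'.mkQ.rTensor D (HopfRep.Comod.coact (k := k) (A := D) v) ∈
      LinearMap.range ((i : C →ₗ[k] D).lTensor (V ⧸ K'))}
  refine ⟨sInf 𝒜, ?_, ?_, ?_⟩
  · rw [sInf_eq_iInf']
    exact isSubcomod_iInf (fun K' => K'.2.1)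
  · intro v
    rw [admissible_iff (i : C →ₗ[k] D) r hr b]
    intro l
    rw [Submodule.mem_sInf]
    intro K' hK'
    exact (admissible_iff (i : C →ₗ[k] D) r hr b K' _).mp (hK'.2 v) l
  · intro K' hK' hadm
    exact sInf_le ⟨hK', hadm⟩

end Groth.Agent.S18808
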