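import Groth.Statements.S18810
import Groth.Agent.Lib.Helper25.Comod2
-- import your own Groth.Agent.* helpers here

set_option autoImplicit false
universe u v v' w w' x
open TensorProduct
open HopfRep

namespace Groth.Agent.S18810

open Groth.Agent.Lib.Helper25.Comod in

/-- Let k be a field, C a k-coalgebra, V a right C-comodule and (S_j) a family of simple C-comodules
which are pairwise non-isomorphic (for j ≠ j' no k-linear isomorphism S_j ≃ S_j' commutes with the
coactions). For each j let V[j] be the isotypic component of type S_j: the sum of the images of all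
comodule maps S_j → V (equivalently of all simple subcomodules of V isomorphic to S_j, a nonzero
such map being injective). Then the family j ↦ V[j] is independent, so that the socle of V is the
direct sum of its isotypic components. (The source states this for representations of an affine
monoid scheme over k, i.e. left comodules over its coordinate bialgebra; the row is the
right-comodule form over any coalgebra.) -/
theorem result (k : Type u) [Field k]
    (C : Type v) [AddCommGroup C] [Module k C] [Coalgebra k C]
    (V : Type w) [AddCommGroup V] [Module k V] [HopfRep.Comod k C V]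
    {ι : Type x} (S : ι → Type w') [∀ j, AddCommGroup (S j)] [∀ j, Module k (S j)]
    [∀ j, HopfRep.Comod k C (S j)] (hS : ∀ j, HopfRep.IsSimpleComod k C (S j))
    (hne : ∀ j j', j ≠ j' → ∀ e : S j ≃ₗ[k] S j', ¬ Hoch.IsComodHom C (e : S j →ₗ[k] S j')) :
    iSupIndep (fun j => ⨆ f : {f : S j →ₗ[k] V // Hoch.IsComodHom C f}, LinearMap.range f.1) := by
  intro j
  rw [disjoint_iff]
  by_contra hN0
  -- the intersection is a nonzero subcomodule
  have hVj : ∀ j, IsSubcomod (k := k) (A := C)
      (⨆ f : {f : S j →ₗ[k] V // Hoch.IsComodHom C f}, LinearMap.range f.1) :=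
    fun j => isSubcomod_iSup (fun f => isSubcomod_range' f.2)
  have hN : IsSubcomod (k := k) (A := C)
      ((⨆ f : {f : S j →ₗ[k] V // Hoch.IsComodHom C f}, LinearMap.range f.1) ⊓
        ⨆ j', ⨆ (_ : j' ≠ j),
          ⨆ f : {f : S j' →ₗ[k] V // Hoch.IsComodHom C f}, LinearMap.range f.1) :=
    isSubcomod_inf (hVj j) (isSubcomod_iSup (fun j' => isSubcomod_iSup (fun _ => hVj j')))
  obtain ⟨T, hTle, hT⟩ := exists_isSimpleSub_le hN hN0
  -- T ≅ S j
  obtain ⟨f, u, hu, hui, hur⟩ := exists_injective_hom_range_eq
    (K := fun _ : {f : S j →ₗ[k] V // Hoch.IsComodHom C f} => S j) (fun _ => hS j)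
    (fun f => f.1) (fun f => f.2) hT (hTle.trans inf_le_left)
  -- T ≅ S j' for some j' ≠ j
  let I' := {p : Σ j' : ι, {f : S j' →ₗ[k] V // Hoch.IsComodHom C f} // p.1 ≠ j}
  have hle2 : T ≤ ⨆ p : I', LinearMap.range p.1.2.1 := by
    refine (hTle.trans inf_le_right).trans ?_
    refine iSup_le (fun j' => iSup_le (fun hj' => iSup_le (fun f => ?_)))
    exact le_iSup (fun p : I' => LinearMap.range p.1.2.1) ⟨⟨j', f⟩, hj'⟩
  obtain ⟨p, u', hu', hui', hur'⟩ := exists_injective_hom_range_eq
    (K := fun p : I' => S p.1.1) (fun p => hS p.1.1)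
    (fun p => p.1.2.1) (fun p => p.1.2.2) hT hle2
  obtain ⟨e, he⟩ := exists_equiv_of_range_eq hu hu' hui hui' (hur.trans hur'.symm)
  exact hne j p.1.1 (Ne.symm p.2) e he

end Groth.Agent.S18810
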