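import Groth.Statements.S18814
import Mathlib
import Groth.Agent.Lib.Helper25.Comod
-- import your own Groth.Agent.* helpers here

set_option autoImplicit false
universe u v v' w w'
open TensorProduct
open HopfRep

namespace Groth.Agent.S18814

open Groth.Agent.Lib.Helper20.CB

section
variable {k : Type u} [Field k] {C : Type v} [CommRing C] [Bialgebra k C] {D : Type v'} [CommRing D]
  [Bialgebra k D] {V : Type w} [AddCommGroup V] [Module k V]

/-- contraction `v ⊗ (c ⊗ d) ↦ v ⊗ φ(c) d` -/
noncomputable def Φ (φ : C →ₗ[k] k) : V ⊗[k] (C ⊗[k] D) →ₗ[k] V ⊗[k] D :=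
  LinearMap.lTensor V ((TensorProduct.lid k D).toLinearMap ∘ₗ LinearMap.rTensor D φ)

theorem L1 (φ : C →ₗ[k] k) (t : V ⊗[k] C) (d : D) :
    Φ φ ((TensorProduct.assoc k V C D) (t ⊗ₜ[k] d)) =
      (TensorProduct.rid k V (LinearMap.lTensor V φ t)) ⊗ₜ[k] d := by
  induction t using TensorProduct.induction_on with
  | zero => simp
  | tmul x c =>
    simp only [Φ, TensorProduct.assoc_tmul, LinearMap.lTensor_tmul, LinearMap.comp_apply,
      LinearMap.rTensor_tmul, LinearEquiv.coe_coe, TensorProduct.lid_tmul, TensorProduct.rid_tmul]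
    rw [TensorProduct.tmul_smul, TensorProduct.smul_tmul']
  | add t₁ t₂ h₁ h₂ =>
    rw [TensorProduct.add_tmul, map_add, map_add, h₁, h₂, map_add, map_add, TensorProduct.add_tmul]

theorem L2 (φ : C →ₗ[k] k) (u : V ⊗[k] D) (c : C) :
    Φ φ (LinearMap.lTensor V (TensorProduct.comm k D C).toLinearMap
      ((TensorProduct.assoc k V D C) (u ⊗ₜ[k] c))) = φ c • u := by
  induction u using TensorProduct.induction_on with
  | zero => simp
  | tmul y d =>
    simp only [Φ, TensorProduct.assoc_tmul, LinearMap.lTensor_tmul, LinearMap.comp_apply,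
      LinearMap.rTensor_tmul, LinearEquiv.coe_coe, TensorProduct.lid_tmul, TensorProduct.comm_tmul]
    rw [TensorProduct.tmul_smul]
  | add t₁ t₂ h₁ h₂ =>
    rw [TensorProduct.add_tmul, map_add, map_add, map_add, h₁, h₂, smul_add]

variable [HopfRep.Comod k C V] [HopfRep.Comod k D V]

theorem I1 (φ : C →ₗ[k] k) (X : V ⊗[k] D) :
    Φ φ ((TensorProduct.assoc k V C D)
      ((HopfRep.Comod.coact (k := k) (A := C) (V := V)).rTensor D X)) =
      (act (k := k) (C := C) (V := V) φ).rTensor D X := by
  induction X using TensorProduct.induction_on with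
  | zero => simp
  | tmul x d =>
    rw [LinearMap.rTensor_tmul, L1, LinearMap.rTensor_tmul]
    rfl
  | add t₁ t₂ h₁ h₂ => rw [map_add, map_add, map_add, h₁, h₂, map_add]

theorem I2 (φ : C →ₗ[k] k) (Y : V ⊗[k] C) :
    Φ φ (LinearMap.lTensor V (TensorProduct.comm k D C).toLinearMap
      ((TensorProduct.assoc k V D C)
        ((HopfRep.Comod.coact (k := k) (A := D) (V := V)).rTensor C Y))) =
      HopfRep.Comod.coact (k := k) (A := D) (V := V)
        (TensorProduct.rid k V (LinearMap.lTensor V φ Y)) := by
  induction Y using TensorProduct.induction_on with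
  | zero => simp
  | tmul y c =>
    rw [LinearMap.rTensor_tmul, L2, LinearMap.lTensor_tmul, TensorProduct.rid_tmul, map_smul]
  | add t₁ t₂ h₁ h₂ =>
    rw [map_add, map_add, map_add, map_add, h₁, h₂, map_add, map_add, map_add]

theorem act_isComodHom
    (hcomm : (TensorProduct.assoc k V C D).toLinearMap ∘ₗ
        (HopfRep.Comod.coact (k := k) (A := C) (V := V)).rTensor D ∘ₗ HopfRep.Comod.coact (k := k) (A := D) =
      (TensorProduct.comm k D C).toLinearMap.lTensor V ∘ₗ (TensorProduct.assoc k V D C).toLinearMap ∘ₗ
        (HopfRep.Comod.coact (k := k) (A := D) (V := V)).rTensor C ∘ₗ HopfRep.Comod.coact (k := k) (A := C))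
    (φ : C →ₗ[k] k) : Hoch.IsComodHom D (act (k := k) (C := C) (V := V) φ) := by
  apply LinearMap.ext
  intro v
  have h := LinearMap.congr_fun hcomm v
  simp only [LinearMap.comp_apply, LinearEquiv.coe_coe] at h
  rw [LinearMap.comp_apply, LinearMap.comp_apply, ← I1, h, I2]
  rfl

end

/-- Let k be a field, C and D commutative bialgebras over k (coordinate rings of affine monoid schemes M
and N) and V a k-vector space carrying a right C-comodule structure with coaction ρ_C : V → V ⊗ C
and a right D-comodule structure with coaction ρ_D : V → V ⊗ D which commute: (ρ_C ⊗ id_D) ∘ ρ_D and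
(ρ_D ⊗ id_C) ∘ ρ_C agree in V ⊗ C ⊗ D after reassociating and swapping the last two factors (the
actions of M and N on V commute). Assume V is semisimple as a D-comodule. Then for every simple
D-comodule S the isotypic component of V of type S, the sum of the images of all D-comodule maps S →
V, is a C-subcomodule of V. (The source works with left comodules; this is the right-comodule form.) -/
theorem result (k : Type u) [Field k]
    (C : Type v) [CommRing C] [Bialgebra k C] (D : Type v') [CommRing D] [Bialgebra k D]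
    (V : Type w) [AddCommGroup V] [Module k V] [HopfRep.Comod k C V] [HopfRep.Comod k D V]
    (hcomm : (TensorProduct.assoc k V C D).toLinearMap ∘ₗ
        (HopfRep.Comod.coact (k := k) (A := C) (V := V)).rTensor D ∘ₗ HopfRep.Comod.coact (k := k) (A := D) =
      (TensorProduct.comm k D C).toLinearMap.lTensor V ∘ₗ (TensorProduct.assoc k V D C).toLinearMap ∘ₗ
        (HopfRep.Comod.coact (k := k) (A := D) (V := V)).rTensor C ∘ₗ HopfRep.Comod.coact (k := k) (A := C))
    (hV : HopfRep.IsSemisimpleComod k D V)
    (S : Type w') [AddCommGroup S] [Module k S] [HopfRep.Comod k D S] (hS : HopfRep.IsSimpleComod k D S) :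
    HopfRep.IsSubcomod (k := k) (A := C)
      (⨆ f : {f : S →ₗ[k] V // Hoch.IsComodHom D f}, LinearMap.range f.1) := by
  classical
  apply isSubcomod_of_act_stable (Module.Basis.ofVectorSpace k C)
  intro φ w hw
  induction hw using Submodule.iSup_induction' with
  | mem f x hx =>
    obtain ⟨s, rfl⟩ := hx
    have hcomp : Hoch.IsComodHom D ((act (k := k) (C := C) (V := V) φ) ∘ₗ f.1) := by
      have h1 := act_isComodHom hcomm φ
      have h2 := f.2
      unfold Hoch.IsComodHom at h1 h2 ⊢
      rw [← LinearMap.comp_assoc, h1, LinearMap.comp_assoc, h2, ← LinearMap.comp_assoc,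
        LinearMap.rTensor_comp]
    exact Submodule.mem_iSup_of_mem ⟨_, hcomp⟩ ⟨s, rfl⟩
  | zero => rw [map_zero]; exact Submodule.zero_mem _
  | add x y _ _ hx hy => rw [map_add]; exact Submodule.add_mem _ hx hy

end Groth.Agent.S18814
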