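import Groth.Statements.S18816
import Mathlib
import Groth.Agent.Lib.Helper13.WeilClosed
import Groth.Prelude.Def_AlgGrp

set_option autoImplicit false
universe u
open CategoryTheory MonoidalCategory CartesianMonoidalCategory AlgebraicGeometry
open AlgGrp

namespace Groth.Agent.S18816

section helpers

open CategoryTheory MonoidalCategory CartesianMonoidalCategory AlgebraicGeometry Limits


theorem main (k : Type u) [Field k]
    (X Y : Over (Spec (CommRingCat.of k))) [IsSeparated X.hom] (a : Y ⊗ X ⟶ X) :
    ∃ (Z : Over (Spec (CommRingCat.of k))) (j : Z ⟶ X), IsClosedImmersion j.left ∧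
      (Y ◁ j) ≫ a = CartesianMonoidalCategory.snd Y Z ≫ j ∧
      ∀ (T : Over (Spec (CommRingCat.of k))) (x : T ⟶ X),
        (Y ◁ x) ≫ a = CartesianMonoidalCategory.snd Y T ≫ x → ∃ z : T ⟶ Z, z ≫ j = x := by
  let f : X ⊗ Y ⟶ X := (β_ X Y).hom ≫ a
  let g : X ⊗ Y ⟶ X := fst X Y
  let c : (equalizer f g).left ⟶ pullback X.hom Y.hom := (equalizer.ι f g).left
  haveI : IsClosedImmersion c := isClosedImmersion_equalizer_ι_left f g
  obtain ⟨Z', j', hj', hZ⟩ := Groth.Agent.Lib.Helper13.WeilClosed.exists_closed' X.hom Y.hom c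
  have hfg : ∀ (T : Over (Spec (CommRingCat.of k))) (x : T ⟶ X),
      (x ▷ Y) ≫ f = (x ▷ Y) ≫ g ↔ (Y ◁ x) ≫ a = snd Y T ≫ x := by
    intro T x
    have h1 : (x ▷ Y) ≫ f = (β_ T Y).hom ≫ (Y ◁ x) ≫ a := by
      simp only [f]
      rw [← Category.assoc, BraidedCategory.braiding_naturality_left, Category.assoc]
    have h2 : (x ▷ Y) ≫ g = (β_ T Y).hom ≫ snd Y T ≫ x := by
      simp only [g]
      rw [whiskerRight_fst, ← Category.assoc, braiding_hom_snd]
    rw [h1, h2, cancel_epi]
  have key : ∀ (T : Over (Spec (CommRingCat.of k))) (x : T ⟶ X),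
      (∃ z : T.left ⟶ Z', z ≫ j' = x.left) ↔ (Y ◁ x) ≫ a = snd Y T ≫ x := by
    intro T x
    rw [hZ T.hom x.left (Over.w x), ← hfg]
    constructor
    · rintro ⟨w, hw⟩
      apply Over.OverMorphism.ext
      rw [Over.comp_left, Over.comp_left]
      have hc : c ≫ f.left = c ≫ g.left := by
        simp only [c]
        rw [← Over.comp_left, ← Over.comp_left, equalizer.condition]
      calc (x ▷ Y).left ≫ f.left = (w ≫ c) ≫ f.left := by rw [hw]; rfl
        _ = (w ≫ c) ≫ g.left := by rw [Category.assoc, hc, Category.assoc]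
        _ = (x ▷ Y).left ≫ g.left := by rw [hw]; rfl
    · intro h
      refine ⟨(equalizer.lift (x ▷ Y) h).left, ?_⟩
      simp only [c]
      rw [← Over.comp_left, equalizer.lift_ι]
      rfl
  refine ⟨Over.mk (j' ≫ X.hom), Over.homMk j' rfl, hj', ?_, ?_⟩
  · exact (key _ _).mp ⟨𝟙 _, Category.id_comp _⟩
  · intro T x hx
    obtain ⟨z, hz⟩ := (key T x).mpr hx
    refine ⟨Over.homMk z ?_, ?_⟩
    · simp only [Over.mk_hom]
      rw [← Category.assoc, hz, Over.w]
    · apply Over.OverMorphism.ext
      simpa using hz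


end helpers

/-- Let k be a field, X a separated k-scheme, Y an arbitrary k-scheme and a : Y ×_k X → X an arbitrary
k-morphism. Consider the subfunctor X^a of X whose T-valued points, for a k-scheme T, are the
k-morphisms x : T → X with a ∘ (id_Y × x) = x ∘ pr_T as morphisms Y ×_k T → X. Then X^a is
represented by a closed subscheme of X: there is a closed immersion j : Z → X over k lying in X^a(Z)
through which every element of X^a(T) factors. In particular, when Y = G is a k-group scheme and a
is an action of G on the separated k-scheme X, the functor X^G of G-fixed points is representable by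
some closed subscheme of X. No finiteness condition is imposed on X, Y or G. -/
theorem result (k : Type u) [Field k]
    (X Y : Over (Spec (CommRingCat.of k))) [IsSeparated X.hom] (a : Y ⊗ X ⟶ X) :
    ∃ (Z : Over (Spec (CommRingCat.of k))) (j : Z ⟶ X), IsClosedImmersion j.left ∧
      (Y ◁ j) ≫ a = CartesianMonoidalCategory.snd Y Z ≫ j ∧
      ∀ (T : Over (Spec (CommRingCat.of k))) (x : T ⟶ X),
        (Y ◁ x) ≫ a = CartesianMonoidalCategory.snd Y T ≫ x → ∃ z : T ⟶ Z, z ≫ j = x := by
  exact main k X Y a

end Groth.Agent.S18816
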