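import Groth.Statements.S18821
-- import your own Groth.Agent.* helpers here

set_option autoImplicit false
universe u
open CategoryTheory MonoidalCategory CartesianMonoidalCategory MonObj AlgebraicGeometry
open AlgGrp

namespace Groth.Agent.S18821

/-- Let k be a commutative ring and M a monoid k-scheme (a monoid object in k-schemes). Then the group
k-functor of units T ↦ M(T)^× is representable by a k-scheme: there are a k-scheme G and a
monomorphism i : G → M such that, for every k-scheme T, a T-valued point of M factors through i if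
and only if it is invertible in the monoid M(T). If moreover M is affine then G is affine. -/
theorem result (k : Type u) [CommRing k]
    (M : Over (Spec (CommRingCat.of k))) [MonObj M] :
    ∃ (G : Over (Spec (CommRingCat.of k))) (i : G ⟶ M), Mono i ∧
      (∀ (T : Over (Spec (CommRingCat.of k))) (m : T ⟶ M), (∃ g : T ⟶ G, g ≫ i = m) ↔ IsUnit m) ∧
      (IsAffine M.left → IsAffine G.left) := by
  classical
  let φ : M ⊗ M ⟶ M ⊗ M := lift (fst M M * snd M M) (snd M M * fst M M)
  let e : 𝟙_ (Over (Spec (CommRingCat.of k))) ⟶ M ⊗ M := lift 1 1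
  have key : ∀ {T : Over (Spec (CommRingCat.of k))} (p : T ⟶ M ⊗ M)
      (t : T ⟶ 𝟙_ (Over (Spec (CommRingCat.of k)))),
      p ≫ φ = t ≫ e ↔ (p ≫ fst M M) * (p ≫ snd M M) = 1 ∧ (p ≫ snd M M) * (p ≫ fst M M) = 1 := by
    intro T p t
    have e1 : p ≫ φ = lift ((p ≫ fst M M) * (p ≫ snd M M)) ((p ≫ snd M M) * (p ≫ fst M M)) := by
      apply CartesianMonoidalCategory.hom_ext
      · simp only [φ, Category.assoc, lift_fst, MonObj.comp_mul]
      · simp only [φ, Category.assoc, lift_snd, MonObj.comp_mul]
    have e2 : t ≫ e = lift 1 1 := by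
      apply CartesianMonoidalCategory.hom_ext
      · simp only [e, Category.assoc, lift_fst, MonObj.comp_one]
      · simp only [e, Category.assoc, lift_snd, MonObj.comp_one]
    rw [e1, e2]
    constructor
    · intro h
      refine ⟨?_, ?_⟩
      · have := congrArg (· ≫ fst M M) h
        simpa only [lift_fst] using this
      · have := congrArg (· ≫ snd M M) h
        simpa only [lift_snd] using this
    · rintro ⟨h1, h2⟩
      rw [h1, h2]
  refine ⟨Limits.pullback φ e, Limits.pullback.fst φ e ≫ fst M M, ?_, ?_, ?_⟩
  · constructor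
    intro T g₁ g₂ h
    have c1 := (key (g₁ ≫ Limits.pullback.fst φ e) (g₁ ≫ Limits.pullback.snd φ e)).1
      (by rw [Category.assoc, Category.assoc, Limits.pullback.condition])
    have c2 := (key (g₂ ≫ Limits.pullback.fst φ e) (g₂ ≫ Limits.pullback.snd φ e)).1
      (by rw [Category.assoc, Category.assoc, Limits.pullback.condition])
    have hf : (g₁ ≫ Limits.pullback.fst φ e) ≫ fst M M = (g₂ ≫ Limits.pullback.fst φ e) ≫ fst M M := by
      simpa only [Category.assoc] using h
    have hs : (g₁ ≫ Limits.pullback.fst φ e) ≫ snd M M = (g₂ ≫ Limits.pullback.fst φ e) ≫ snd M M := by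
      -- uniqueness of inverses
      have a1 := c1.2
      have a2 := c2.1
      rw [← hf] at a2
      calc (g₁ ≫ Limits.pullback.fst φ e) ≫ snd M M
          = ((g₁ ≫ Limits.pullback.fst φ e) ≫ snd M M) * 1 := (_root_.mul_one _).symm
        _ = ((g₁ ≫ Limits.pullback.fst φ e) ≫ snd M M) *
              (((g₁ ≫ Limits.pullback.fst φ e) ≫ fst M M) *
                ((g₂ ≫ Limits.pullback.fst φ e) ≫ snd M M)) := by rw [a2]
        _ = (((g₁ ≫ Limits.pullback.fst φ e) ≫ snd M M) *
              ((g₁ ≫ Limits.pullback.fst φ e) ≫ fst M M)) *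
                ((g₂ ≫ Limits.pullback.fst φ e) ≫ snd M M) := (mul_assoc _ _ _).symm
        _ = (g₂ ≫ Limits.pullback.fst φ e) ≫ snd M M := by rw [a1, _root_.one_mul]
    apply Limits.pullback.hom_ext
    · exact CartesianMonoidalCategory.hom_ext _ _ hf hs
    · exact toUnit_unique _ _
  · intro T m
    constructor
    · rintro ⟨g, rfl⟩
      have c1 := (key (g ≫ Limits.pullback.fst φ e) (g ≫ Limits.pullback.snd φ e)).1
        (by rw [Category.assoc, Category.assoc, Limits.pullback.condition])
      rw [← Category.assoc]
      exact ⟨⟨_, _, c1.1, c1.2⟩, rfl⟩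
    · rintro ⟨⟨m, m', h1, h2⟩, rfl⟩
      have := (key (lift m m') (toUnit T)).2 (by simp only [lift_fst, lift_snd]; exact ⟨h1, h2⟩)
      refine ⟨Limits.pullback.lift (lift m m') (toUnit T) this, ?_⟩
      rw [← Category.assoc, Limits.pullback.lift_fst, lift_fst]
  · intro hM
    -- the forgetful functor to schemes preserves pullbacks
    have hS : IsAffine (𝟙_ (Over (Spec (CommRingCat.of k)))).left := by
      change IsAffine (Spec (CommRingCat.of k)); infer_instance
    have hMM : IsAffine (M ⊗ M).left := by
      change IsAffine (Limits.pullback M.hom M.hom); infer_instance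
    have iso := Limits.PreservesPullback.iso (Over.forget (Spec (CommRingCat.of k))) φ e
    have : IsAffine (Limits.pullback ((Over.forget (Spec (CommRingCat.of k))).map φ)
        ((Over.forget (Spec (CommRingCat.of k))).map e)) := by
      change IsAffine (Limits.pullback φ.left e.left); infer_instance
    exact IsAffine.of_isIso iso.hom

end Groth.Agent.S18821
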