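import Groth.Statements.S18822
import Mathlib.CategoryTheory.Sites.SubcanonicalOver
import Mathlib.AlgebraicGeometry.Sites.BigZariski

set_option autoImplicit false
universe u
open CategoryTheory MonoidalCategory CartesianMonoidalCategory MonObj AlgebraicGeometry Opposite
open Magnet

namespace Groth.Agent.S18822

universe v₁ u₁ in
theorem fixed_isSheaf {C : Type u₁} [Category.{v₁} C] [CartesianMonoidalCategory C]
    (J : GrothendieckTopology C) [J.Subcanonical] {A X : C} [MonObj A] (a : Magnet.MonAct A X) :
    Presieve.IsSheaf J (Magnet.MonAct.fixedPsh a) := by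
  have hY : Presieve.IsSheaf J (yoneda.obj X) :=
    GrothendieckTopology.Subcanonical.isSheaf_of_isRepresentable _
  intro T R hR x hx
  let y : Presieve.FamilyOfElements (yoneda.obj X) R.arrows := fun V f hf => (x f hf).1
  have hy : y.Compatible := by
    intro Y₁ Y₂ Z g₁ g₂ f₁ f₂ h₁ h₂ e
    have := congrArg Subtype.val (hx g₁ g₂ h₁ h₂ e)
    exact this
  obtain ⟨s, hs, huniq⟩ := hY R hR y hy
  have hfix : ∀ (T' : C) (t : T' ⟶ T) (g : T' ⟶ A), lift g (t ≫ s) ≫ a.act = t ≫ s := by
    intro T' t g
    have hY' : Presieve.IsSheaf J (yoneda.obj X) := hY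
    apply (hY' _ (J.pullback_stable t hR)).isSeparatedFor.ext
    intro V i hi
    have h1 : (i ≫ t) ≫ s = (x (i ≫ t) hi).1 := hs (i ≫ t) hi
    have h2 := (x (i ≫ t) hi).2 V (𝟙 V) (i ≫ g)
    rw [Category.id_comp, ← h1] at h2
    change i ≫ (lift g (t ≫ s) ≫ a.act) = i ≫ (t ≫ s)
    rw [← Category.assoc, comp_lift, ← Category.assoc i t s]
    exact h2
  refine ⟨⟨s, hfix⟩, ?_, ?_⟩
  · intro V f hf
    apply Subtype.ext
    exact hs f hf
  · intro z hz
    apply Subtype.ext
    apply huniq
    intro V f hf
    exact congrArg Subtype.val (hz f hf)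

/-- Let k be a commutative ring, M a monoid k-scheme and X a k-scheme with an action a of M. Then the
fixed-point subpresheaf X^M of X, whose T-valued points are the k-morphisms x : T → X such that g ·
(x ∘ t) = x ∘ t for every k-scheme T', every t : T' → T and every T'-valued point g of M, is a sheaf
for the Zariski topology on k-schemes (the topology induced on schemes over Spec k). -/
theorem result (k : Type u) [CommRing k]
    (M X : Over (Spec (CommRingCat.of k))) [MonObj M] (a : Magnet.MonAct M X) :
    Presheaf.IsSheaf (Scheme.zariskiTopology.over (Spec (CommRingCat.of k))) (Magnet.MonAct.fixedPsh a) := by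
  rw [isSheaf_iff_isSheaf_of_type]
  exact fixed_isSheaf _ a

end Groth.Agent.S18822
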