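import Groth.Statements.S18827
import Groth.Agent.Lib.Helper25.Comod2
-- import your own Groth.Agent.* helpers here

set_option autoImplicit false
universe u v w
open TensorProduct
open HopfRep

namespace Groth.Agent.S18827

open Groth.Agent.Lib.Helper25.Comod in

/-- Let k be a field, C a k-coalgebra, V a right C-comodule which is semisimple (every subcomodule has a
complementary subcomodule, which over a field is the same as being the sum of its simple
subcomodules) and W a subcomodule of V. Then the subcomodule W with its induced structure and the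
quotient comodule V/W are again semisimple. (The source states this for representations of an affine
monoid scheme over k.) -/
theorem result (k : Type u) [Field k]
    (C : Type v) [AddCommGroup C] [Module k C] [Coalgebra k C]
    (V : Type w) [AddCommGroup V] [Module k V] [c : HopfRep.Comod k C V] (hV : HopfRep.IsSemisimpleComod k C V)
    (W : Submodule k V) (hW : HopfRep.IsSubcomod (k := k) (A := C) W) :
    @HopfRep.IsSemisimpleComod k C _ _ _ _ ↥W _ _ (ComodSub.Comod.restr c W hW) ∧
      @HopfRep.IsSemisimpleComod k C _ _ _ _ (V ⧸ W) _ _ (ComodSub.Comod.quot c W hW) := by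
  constructor
  · let _ := ComodSub.Comod.restr c W hW
    have hsub : Hoch.IsComodHom C W.subtype := ComodSub.isComodHom_subtype c W hW
    intro W₁ hW₁
    obtain ⟨U, hU, hc⟩ := hV (W₁.map W.subtype) (isSubcomod_map hsub hW₁)
    refine ⟨U.comap W.subtype, isSubcomod_comap hsub hU, ?_, ?_⟩
    · rw [Submodule.disjoint_def]
      intro x hx1 hx2
      have : x.1 ∈ W₁.map W.subtype ⊓ U := ⟨⟨x, hx1, rfl⟩, hx2⟩
      rw [hc.inf_eq_bot] at this
      exact Subtype.ext ((Submodule.mem_bot k).mp this)
    · rw [codisjoint_iff, eq_top_iff]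
      intro x _
      have : x.1 ∈ W₁.map W.subtype ⊔ U := hc.sup_eq_top ▸ Submodule.mem_top
      obtain ⟨a, ⟨a₁, ha₁, rfl⟩, b, hb, hab⟩ := Submodule.mem_sup.mp this
      have hbW : b ∈ W := by
        have : b = x.1 - a₁.1 := by rw [← hab]; simp
        rw [this]
        exact W.sub_mem x.2 a₁.2
      exact Submodule.mem_sup.mpr ⟨a₁, ha₁, ⟨b, hbW⟩, hb, Subtype.ext hab⟩
  · let _ := ComodSub.Comod.quot c W hW
    have hq : Hoch.IsComodHom C W.mkQ := ComodSub.isComodHom_mkQ c W hW
    intro Q₁ hQ₁
    obtain ⟨U, hU, hc⟩ := hV (Q₁.comap W.mkQ) (isSubcomod_comap hq hQ₁)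
    refine ⟨U.map W.mkQ, isSubcomod_map hq hU, ?_, ?_⟩
    · rw [Submodule.disjoint_def]
      rintro x hx1 ⟨u, hu, rfl⟩
      have : u ∈ Q₁.comap W.mkQ ⊓ U := ⟨hx1, hu⟩
      rw [hc.inf_eq_bot] at this
      rw [(Submodule.mem_bot k).mp this, map_zero]
    · rw [codisjoint_iff, eq_top_iff]
      intro x _
      obtain ⟨v, rfl⟩ := W.mkQ_surjective x
      have : v ∈ Q₁.comap W.mkQ ⊔ U := hc.sup_eq_top ▸ Submodule.mem_top
      obtain ⟨p, hp, u, hu, rfl⟩ := Submodule.mem_sup.mp this
      rw [map_add]
      exact Submodule.add_mem_sup hp ⟨u, hu, rfl⟩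

end Groth.Agent.S18827
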