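import Groth.Statements.S18830
import Mathlib
import Groth.Agent.Lib.Helper4.FpqcDesc
import Groth.Prelude.Def_AlgGrp

set_option autoImplicit false
universe u
open CategoryTheory MonoidalCategory CartesianMonoidalCategory MonObj AlgebraicGeometry
open AlgGrp

namespace Groth.Agent.S18830

section helpers

open CategoryTheory MonoidalCategory CartesianMonoidalCategory MonObj AlgebraicGeometry

open Limits Groth.Agent.Lib.Helper4

theorem main (k : Type u) [Field k]
    (M G : Over (Spec (CommRingCat.of k))) [MonObj M] [LocallyOfFiniteType M.hom] [QuasiCompact M.hom]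
    (i : G ⟶ M) [Mono i]
    (hi : ∀ (T : Over (Spec (CommRingCat.of k))) (m : T ⟶ M), (∃ g : T ⟶ G, g ≫ i = m) ↔ IsUnit m) :
    LocallyOfFiniteType G.hom ∧ QuasiCompact G.hom := by
  let ψ : M ⊗ M ⟶ M ⊗ M := lift (fst M M * snd M M) (snd M M * fst M M)
  let e2 : 𝟙_ (Over (Spec (CommRingCat.of k))) ⟶ M ⊗ M := lift η[M] η[M]
  let U : Over (Spec (CommRingCat.of k)) := Over.mk (pullback.fst ψ.left e2.left ≫ (M ⊗ M).hom)
  let j : U ⟶ M ⊗ M := Over.homMk (pullback.fst ψ.left e2.left) rfl
  have hsnd : pullback.snd ψ.left e2.left = (toUnit U).left := by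
    have h1 : e2.left ≫ (M ⊗ M).hom = 𝟙 _ := Over.w e2
    have h2 : ψ.left ≫ (M ⊗ M).hom = (M ⊗ M).hom := Over.w ψ
    have h3 : (toUnit U).left = U.hom := by
      have := Over.w (toUnit U)
      rw [← this]
      exact (Category.comp_id _).symm
    rw [h3]
    change _ = pullback.fst ψ.left e2.left ≫ (M ⊗ M).hom
    rw [← h2, pullback.condition_assoc, h1, Category.comp_id]
  have hj : j ≫ ψ = toUnit U ≫ e2 := by
    apply Over.OverMorphism.ext
    change pullback.fst ψ.left e2.left ≫ ψ.left = (toUnit U).left ≫ e2.left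
    rw [← hsnd, pullback.condition]
  haveI : Mono e2.left := by
    have h1 : e2.left ≫ (M ⊗ M).hom = 𝟙 _ := Over.w e2
    exact mono_of_mono_fac h1
  haveI : Mono j := by
    haveI : Mono j.left := by
      change Mono (pullback.fst ψ.left e2.left)
      infer_instance
    exact Over.mono_of_mono_left _
  -- universal property
  have huniv : ∀ (T : Over (Spec (CommRingCat.of k))) (p : T ⟶ M ⊗ M), p ≫ ψ = toUnit T ≫ e2 →
      ∃ u : T ⟶ U, u ≫ j = p := by
    intro T p hp
    have hp' : p.left ≫ ψ.left = (toUnit T).left ≫ e2.left := congrArg (fun φ => φ.left) hp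
    refine ⟨Over.homMk (pullback.lift p.left (toUnit T).left hp') ?_, ?_⟩
    · change pullback.lift p.left (toUnit T).left hp' ≫ pullback.fst ψ.left e2.left ≫ (M ⊗ M).hom = T.hom
      rw [pullback.lift_fst_assoc]
      exact Over.w p
    · apply Over.OverMorphism.ext
      change pullback.lift p.left (toUnit T).left hp' ≫ pullback.fst ψ.left e2.left = p.left
      rw [pullback.lift_fst]
  -- G → U
  have hiu : IsUnit i := (hi G i).mp ⟨𝟙 G, Category.id_comp i⟩
  obtain ⟨v, hv1, hv2⟩ := isUnit_iff_exists.mp hiu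
  obtain ⟨α, hα⟩ := huniv G (lift i v) (by
    simp only [ψ, e2]
    rw [comp_lift, comp_lift, comp_mul, comp_mul, lift_fst, lift_snd, hv1, hv2]
    rfl)
  -- U → G
  have hxy : (j ≫ fst M M) * (j ≫ snd M M) = 1 := by
    rw [← comp_mul]
    have : fst M M * snd M M = ψ ≫ fst M M := by simp only [ψ, lift_fst]
    rw [this, ← Category.assoc, hj]
    simp only [e2, Category.assoc, lift_fst]
    rfl
  have hyx : (j ≫ snd M M) * (j ≫ fst M M) = 1 := by
    rw [← comp_mul]
    have : snd M M * fst M M = ψ ≫ snd M M := by simp only [ψ, lift_snd]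
    rw [this, ← Category.assoc, hj]
    simp only [e2, Category.assoc, lift_snd]
    rfl
  have hxu : IsUnit (j ≫ fst M M) := isUnit_iff_exists.mpr ⟨j ≫ snd M M, hxy, hyx⟩
  obtain ⟨β, hβ⟩ := (hi U (j ≫ fst M M)).mpr hxu
  have hαβ : α ≫ β = 𝟙 G := by
    rw [← cancel_mono i, Category.assoc, hβ, ← Category.assoc, hα, lift_fst, Category.id_comp]
  have hβv : β ≫ v = j ≫ snd M M := by
    have h1 : (β ≫ i) * (β ≫ v) = 1 := by
      rw [← comp_mul, hv1]; exact comp_one _
    rw [hβ] at h1
    exact (left_inv_eq_right_inv hyx h1).symm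
  have hβα : β ≫ α = 𝟙 U := by
    rw [← cancel_mono j, Category.assoc, hα, comp_lift, hβ, hβv, Category.id_comp]
    apply CartesianMonoidalCategory.hom_ext <;> simp
  haveI : IsIso α := ⟨β, hαβ, hβα⟩
  haveI : IsIso α.left := inferInstanceAs (IsIso ((Over.forget _).map α))
  -- finiteness of U
  haveI hMM1 : LocallyOfFiniteType (M ⊗ M).hom := by
    change LocallyOfFiniteType (pullback.fst M.hom M.hom ≫ M.hom)
    infer_instance
  haveI hMM2 : QuasiCompact (M ⊗ M).hom := by
    change QuasiCompact (pullback.fst M.hom M.hom ≫ M.hom)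
    infer_instance
  haveI : LocallyOfFiniteType e2.left := by
    haveI : LocallyOfFiniteType (e2.left ≫ (M ⊗ M).hom) := by
      rw [Over.w e2]
      change LocallyOfFiniteType (𝟙 _)
      infer_instance
    exact locallyOfFiniteType_of_comp e2.left (M ⊗ M).hom
  haveI : QuasiCompact e2.left := by
    haveI : QuasiCompact (𝟙_ (Over (Spec (CommRingCat.of k)))).hom := by
      change QuasiCompact (𝟙 _)
      infer_instance
    exact FpqcDesc.quasiCompact_of_field k _ (M ⊗ M) e2
  haveI : LocallyOfFiniteType U.hom := by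
    change LocallyOfFiniteType (pullback.fst ψ.left e2.left ≫ (M ⊗ M).hom)
    infer_instance
  haveI : QuasiCompact U.hom := by
    change QuasiCompact (pullback.fst ψ.left e2.left ≫ (M ⊗ M).hom)
    infer_instance
  have hG : G.hom = α.left ≫ U.hom := (Over.w α).symm
  rw [hG]
  exact ⟨inferInstance, inferInstance⟩


end helpers

/-- Let k be a field and M an algebraic monoid over k (a monoid k-scheme of finite type). Let i : G → M
be its group of units: a monomorphism of k-schemes through which a T-valued point of M factors if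
and only if it is invertible in the monoid M(T). Then G is of finite type over k, i.e. the unit
group is an algebraic group. -/
theorem result (k : Type u) [Field k]
    (M G : Over (Spec (CommRingCat.of k))) [MonObj M] [LocallyOfFiniteType M.hom] [QuasiCompact M.hom]
    (i : G ⟶ M) [Mono i]
    (hi : ∀ (T : Over (Spec (CommRingCat.of k))) (m : T ⟶ M), (∃ g : T ⟶ G, g ≫ i = m) ↔ IsUnit m) :
    LocallyOfFiniteType G.hom ∧ QuasiCompact G.hom := by
  exact main k M G i hi

end Groth.Agent.S18830
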