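import Groth.Statements.S18832
import Groth.Agent.S2060
import Groth.Agent.S2116
import Groth.Agent.Lib.helper10.CurvJets

set_option autoImplicit false
universe u
open Polynomial
open DefT

namespace Groth.Agent.S18832

open Groth.Agent.Lib.helper10.CurvJets in
/-- Let k be an algebraically closed field of characteristic zero, A a finitely generated k-algebra and
m a maximal ideal of A. Then A_m is a regular local ring (the pointed scheme (Spec A, m) is smooth
at m) if and only if, for every l ≥ 1, every k-algebra homomorphism φ : A → k[X]/(X^l) mapping m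
into the nilpotent elements extends to a k-algebra homomorphism ψ : A → k[X]/(X^(l+1)) reducing to φ
modulo X^l. Only jets along Spec k[X]/(X^l) are tested, not all local Artinian algebras. -/
theorem result (k : Type u) [Field k] [IsAlgClosed k] [CharZero k]
    (A : Type u) [CommRing A] [Algebra k A] [Algebra.FiniteType k A]
    (m : Ideal A) [m.IsMaximal] :
    IsRegularLocalRing (Localization.AtPrime m) ↔
      ∀ (l : ℕ), 1 ≤ l →
        ∀ (φ : A →ₐ[k] (k[X] ⧸ Ideal.span {(X : k[X]) ^ l})),
          (∀ a ∈ m, IsNilpotent (φ a)) →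
          ∃ ψ : A →ₐ[k] (k[X] ⧸ Ideal.span {(X : k[X]) ^ (l + 1)}),
            (Ideal.Quotient.factorₐ k
                (Ideal.span_singleton_le_span_singleton.mpr (pow_dvd_pow (X : k[X]) (Nat.le_succ l)))).comp ψ = φ := by
  classical
  have hmp : m.IsPrime := Ideal.IsMaximal.isPrime inferInstance
  haveI : IsNoetherianRing A := Algebra.FiniteType.isNoetherianRing k A
  haveI hfin : Module.Finite k (A ⧸ m) := by
    letI : Field (A ⧸ m) := Ideal.Quotient.field m
    exact finite_of_finite_type_of_isJacobsonRing k (A ⧸ m)
  have hres : Function.Surjective (algebraMap k (A ⧸ m)) := by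
    haveI : Algebra.IsIntegral k (A ⧸ m) := Algebra.IsIntegral.of_finite k (A ⧸ m)
    letI : Field (A ⧸ m) := Ideal.Quotient.field m
    exact (IsAlgClosed.algebraMap_bijective_of_isIntegral (k := k) (K := A ⧸ m)).2
  constructor
  · -- regular ⇒ jets lift
    intro hreg l hl φ hφ
    have hsm : Algebra.IsSmoothAt k m := (Groth.Agent.S2116.result m).mp hreg
    haveI : Algebra.FormallySmooth k (Localization.AtPrime m) := hsm
    have hunits : ∀ s : m.primeCompl, IsUnit (φ s.1) := by
      intro s
      obtain ⟨c, hc⟩ := hres (Ideal.Quotient.mk m s.1)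
      have hmem : s.1 - algebraMap k A c ∈ m := by
        rw [← Ideal.Quotient.eq, hc.symm]
        rfl
      have hc0 : c ≠ 0 := by
        rintro rfl
        rw [map_zero, sub_zero] at hmem
        exact s.2 hmem
      have h1 : φ s.1 = φ (s.1 - algebraMap k A c) + algebraMap k _ c := by
        rw [map_sub, AlgHom.commutes, sub_add_cancel]
      rw [h1]
      exact (hφ _ hmem).isUnit_add_right_of_commute
        ((isUnit_iff_ne_zero.mpr hc0).map (algebraMap k _)) (Commute.all _ _)
    let φh : Localization.AtPrime m →ₐ[k] Q k l :=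
      IsLocalization.liftAlgHom (M := m.primeCompl) (f := φ) hunits
    have hnil : IsNilpotent (RingHom.ker (trunc k l : Q k (l + 1) →+* Q k l)) := by
      refine ⟨2, ?_⟩
      have hle : RingHom.ker (trunc k l : Q k (l + 1) →+* Q k l) ≤
          Ideal.span {(x k (l + 1)) ^ l} := by
        intro z hz
        obtain ⟨d, rfl⟩ := ker_trunc k l (z := z) hz
        exact Ideal.mul_mem_right _ _ (Ideal.subset_span rfl)
      have h2 := Ideal.pow_right_mono hle 2
      rw [Ideal.span_singleton_pow, ← pow_mul, x_pow_eq_zero k (by omega : l + 1 ≤ l * 2),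
        Ideal.span_singleton_eq_bot.mpr rfl] at h2
      exact le_bot_iff.mp h2
    let lft := Algebra.FormallySmooth.liftOfSurjective φh (trunc k l) (trunc_surjective k l) hnil
    refine ⟨lft.comp (IsScalarTower.toAlgHom k A (Localization.AtPrime m)), ?_⟩
    show (trunc k l).comp (lft.comp (IsScalarTower.toAlgHom k A (Localization.AtPrime m))) = φ
    rw [← AlgHom.comp_assoc, Algebra.FormallySmooth.comp_liftOfSurjective]
    refine AlgHom.ext fun y => ?_
    exact IsLocalization.lift_eq _ y
  · -- jets lift ⇒ regular
    intro H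
    haveI : Module.Finite A m.Cotangent :=
      Module.Finite.of_surjective m.toCotangent m.toCotangent_surjective
    haveI : Module.Finite (A ⧸ m) m.Cotangent :=
      Module.Finite.of_restrictScalars_finite A (A ⧸ m) m.Cotangent
    haveI : IsScalarTower k (A ⧸ m) m.Cotangent := by
      refine ⟨fun c q v => ?_⟩
      obtain ⟨r, rfl⟩ := Ideal.Quotient.mk_surjective q
      have h1 : c • (Ideal.Quotient.mk m r) = Ideal.Quotient.mk m (c • r) := rfl
      rw [h1]
      show (c • r) • v = c • (r • v)
      exact smul_assoc c r v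
    haveI : Module.Finite k m.Cotangent := Module.Finite.trans (A ⧸ m) m.Cotangent
    let bas := Module.finBasis k m.Cotangent
    choose a0 ha0 using fun i => m.toCotangent_surjective (bas i)
    have hsum : ∀ c : Fin (Module.finrank k m.Cotangent) → k,
        m.toCotangent (∑ i, algebraMap k A (c i) • a0 i) = ∑ i, c i • bas i := by
      intro c
      rw [map_sum]
      refine Finset.sum_congr rfl fun i _ => ?_
      rw [map_smul, ha0, algebraMap_smul]
    have hcoe : ∀ c : Fin (Module.finrank k m.Cotangent) → k,
        ((∑ i, algebraMap k A (c i) • a0 i : m) : A) = ∑ i, c i • (a0 i).1 := by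
      intro c
      rw [Submodule.coe_sum]
      refine Finset.sum_congr rfl fun i _ => ?_
      rw [Submodule.coe_smul, smul_eq_mul, Algebra.smul_def]
    have hspan : ∀ μ ∈ m, ∃ c : Fin (Module.finrank k m.Cotangent) → k,
        μ - ∑ i, c i • (a0 i).1 ∈ m ^ 2 := by
      intro μ hμ
      refine ⟨fun i => bas.repr (m.toCotangent ⟨μ, hμ⟩) i, ?_⟩
      have h0 : m.toCotangent (⟨μ, hμ⟩ - ∑ i, algebraMap k A
          (bas.repr (m.toCotangent ⟨μ, hμ⟩) i) • a0 i) = 0 := by
        rw [map_sub, hsum, bas.sum_repr, sub_self]
      have h1 := (m.toCotangent_eq_zero _).mp h0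
      rw [Submodule.coe_sub, hcoe] at h1
      exact h1
    have hindep : ∀ c : Fin (Module.finrank k m.Cotangent) → k,
        ∑ i, c i • (a0 i).1 ∈ m ^ 2 → c = 0 := by
      intro c hc
      rw [← hcoe c] at hc
      have h0 := (m.toCotangent_eq_zero _).mpr hc
      rw [hsum] at h0
      funext i
      exact Fintype.linearIndependent_iff.mp bas.linearIndependent c h0 i
    refine (Groth.Agent.S2116.result (k := k) m).mpr ((Groth.Agent.S2060.result (R := k) m).mpr ?_)
    intro B' B _ _ _ _ _ _ _ _ π hπ _ g hg
    exact exists_lift_of_jets m hres (fun i => (a0 i).1) (fun i => (a0 i).2) hspan hindep H π hπ g hg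

end Groth.Agent.S18832
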