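import Groth.Statements.S18859
import Mathlib
import Groth.Agent.Lib.Helper4.GaPts
import Groth.Agent.Lib.Helper4.CovSieve
import Groth.Agent.Lib.Helper4.FpqcDesc
import Groth.Prelude.Def_AlgGrp
import Groth.Prelude.Def_NonAbH2

set_option autoImplicit false
universe u
open CategoryTheory MonoidalCategory CartesianMonoidalCategory MonObj GrpObj AlgebraicGeometry
open NonAbH1

namespace Groth.Agent.S18859

section helpers
set_option linter.unusedSectionVars false
open CategoryTheory MonoidalCategory CartesianMonoidalCategory MonObj GrpObj AlgebraicGeometry Limits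
open Groth.Agent.Lib.Helper4


theorem main {S : Scheme.{u}} {G X : Over S}
    [GrpObj G] (a : AlgGrp.Action G X) (ha : NonAbH1.IsTorsorFor Scheme.fpqcPrecoverage a) :
    Function.Injective X.hom.appTop.hom ∧
      ∀ s : Γ(X.left, ⊤), s ∈ Set.range X.hom.appTop.hom ↔
        a.act.left.appTop.hom s = (CartesianMonoidalCategory.snd G X).left.appTop.hom s := by
  obtain ⟨hps, hloc⟩ := ha
  have hc : CovSieve.CovMor X.hom := CovSieve.covMor_of_isLocallyTrivialFor_fpqc X.hom hloc
  let Y : Over S := Over.mk (𝟙 S)
  let q : X ⟶ Y := Over.homMk X.hom (by simp [Y])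
  haveI hee : EffectiveEpi q.left := hc.effectiveEpi
  haveI hepi : Epi q := Over.epi_of_epi_left _
  have hq : ∀ ψ : Y ⟶ Red.Ga S, Red.gaFn (q ≫ ψ) = X.hom.appTop.hom (Red.gaFn ψ) :=
    fun ψ => GaPts.gaFn_comp q ψ
  refine ⟨?_, fun s => ⟨?_, ?_⟩⟩
  · intro r r' h
    have h1 : q ≫ GaPts.ptOfFn (T := Y) r = q ≫ GaPts.ptOfFn (T := Y) r' := by
      apply GaPts.gaFn_injective
      rw [hq, hq, GaPts.gaFn_ptOfFn, GaPts.gaFn_ptOfFn]
      exact h
    have h2 := (cancel_epi q).mp h1
    have := congrArg Red.gaFn h2
    rwa [GaPts.gaFn_ptOfFn, GaPts.gaFn_ptOfFn] at this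
  · rintro ⟨r, rfl⟩
    have e1 : a.act.left ≫ X.hom = (CartesianMonoidalCategory.snd G X).left ≫ X.hom := by
      rw [Over.w, Over.w]
    change (X.hom.appTop ≫ a.act.left.appTop).hom r =
      (X.hom.appTop ≫ (CartesianMonoidalCategory.snd G X).left.appTop).hom r
    rw [← Scheme.Hom.comp_appTop, ← Scheme.Hom.comp_appTop, e1]
  · intro hinv
    let φ : X ⟶ Red.Ga S := GaPts.ptOfFn s
    have hφ : a.act ≫ φ = CartesianMonoidalCategory.snd G X ≫ φ := by
      apply GaPts.gaFn_injective
      rw [GaPts.gaFn_comp, GaPts.gaFn_comp, GaPts.gaFn_ptOfFn]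
      exact hinv
    haveI : IsIso (lift a.act (CartesianMonoidalCategory.snd G X)) := hps
    obtain ⟨ψ, hψ⟩ := FpqcDesc.exists_desc q φ (by
      intro W u v _
      let w : W ⟶ G ⊗ X := lift u v ≫ inv (lift a.act (CartesianMonoidalCategory.snd G X))
      have hw : w ≫ lift a.act (CartesianMonoidalCategory.snd G X) = lift u v := by
        rw [Category.assoc, IsIso.inv_hom_id, Category.comp_id]
      have hw1 : w ≫ a.act = u := by
        have := congrArg (fun f => f ≫ fst X X) hw
        simpa using this
      have hw2 : w ≫ CartesianMonoidalCategory.snd G X = v := by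
        have := congrArg (fun f => f ≫ CartesianMonoidalCategory.snd X X) hw
        simpa using this
      calc u ≫ φ = w ≫ a.act ≫ φ := by rw [← Category.assoc, hw1]
        _ = w ≫ CartesianMonoidalCategory.snd G X ≫ φ := by rw [hφ]
        _ = v ≫ φ := by rw [← Category.assoc, hw2])
    refine ⟨Red.gaFn ψ, ?_⟩
    rw [← hq, hψ, GaPts.gaFn_ptOfFn]


end helpers

/-- Let S be a scheme, G a group scheme over S and X → S a G-torsor for the fpqc topology (a
pseudo-torsor under G acquiring sections on the members of some fpqc covering family of S). Then the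
functions on S are the G-invariant functions on X: the ring map Γ(S, O_S) → Γ(X, O_X) is injective,
and a global function s on X lies in its image if and only if the pullbacks of s to G ×_S X along
the action morphism and along the second projection coincide. (The source works over a scheme of
finite type over a field with G the base change of an affine group scheme over that field and states
the equality O_S = (O_X)^G as sheaves on S; applied to the restriction of the torsor over each open
of S, the present global form is that equality.) -/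
theorem result {S : Scheme.{u}} {G X : Over S}
    [GrpObj G] (a : AlgGrp.Action G X) (ha : NonAbH1.IsTorsorFor Scheme.fpqcPrecoverage a) :
    Function.Injective X.hom.appTop.hom ∧
      ∀ s : Γ(X.left, ⊤), s ∈ Set.range X.hom.appTop.hom ↔
        a.act.left.appTop.hom s = (CartesianMonoidalCategory.snd G X).left.appTop.hom s := by
  exact main a ha

end Groth.Agent.S18859
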