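import Groth.Statements.S18866
import Groth.Agent.S0341

set_option autoImplicit false
universe u
open Liaison

namespace Groth.Agent.S18866

/-- depth zero when the maximal ideal kills a nonzero element -/
theorem depth_eq_zero {S : Type u} [CommRing S] [IsLocalRing S] (x : S) (hx : x ≠ 0)
    (hm : ∀ r ∈ IsLocalRing.maximalIdeal S, r * x = 0) : LocCoh.depth S S = 0 := by
  unfold LocCoh.depth LocCoh.idealDepth
  have hne : IsLocalRing.maximalIdeal S • (⊤ : Submodule S S) ≠ ⊤ := by
    rw [Ideal.smul_top_eq_map]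
    simp only [Algebra.algebraMap_self, Ideal.map_id]
    intro h
    have : (IsLocalRing.maximalIdeal S : Submodule S S) = ⊤ := by
      simpa using h
    exact (IsLocalRing.maximalIdeal.isMaximal S).ne_top (by exact_mod_cast this)
  rw [if_neg hne]
  apply le_antisymm _ zero_le
  apply iSup_le; intro rs; apply iSup_le; rintro ⟨hreg, hmem⟩
  cases rs with
  | nil => simp
  | cons r rs' =>
    exfalso
    have hr : r ∈ IsLocalRing.maximalIdeal S := hmem r (by simp)
    have h1 : IsSMulRegular S r := by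
      rw [RingTheory.Sequence.isWeaklyRegular_cons_iff] at hreg
      exact hreg.1
    have : r • x = r • (0 : S) := by simp [hm r hr]
    exact hx (h1 this)


/-- associated primes of a Gorenstein quotient are minimal -/
theorem unmixed {R : Type u} [CommRing R] [IsNoetherianRing R] (𝔠 : Ideal R)
    [LocCoh.IsGorensteinRing (R ⧸ 𝔠)] (p : Ideal R) (hp : p ∈ associatedPrimes R (R ⧸ 𝔠)) :
    p ∈ 𝔠.minimalPrimes := by
  obtain ⟨hpp, xbar, hx⟩ := (isAssociatedPrime_iff).mp hp
  obtain ⟨x, rfl⟩ := Ideal.Quotient.mk_surjective xbar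
  have hmem : ∀ r : R, r ∈ p ↔ r * x ∈ 𝔠 := by
    intro r
    rw [hx, Submodule.mem_colon_singleton, Submodule.mem_bot]
    change (Ideal.Quotient.mk 𝔠 r) * (Ideal.Quotient.mk 𝔠 x) = 0 ↔ _
    rw [← map_mul, Ideal.Quotient.eq_zero_iff_mem]
  have hcp : 𝔠 ≤ p := fun r hr => (hmem r).mpr (𝔠.mul_mem_right x hr)
  set π := Ideal.Quotient.mk 𝔠 with hπ
  have hker : RingHom.ker π ≤ p := by rw [hπ, Ideal.mk_ker]; exact hcp
  have hsurj : Function.Surjective π := Ideal.Quotient.mk_surjective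
  let q : Ideal (R ⧸ 𝔠) := p.map π
  haveI hq : q.IsPrime := Ideal.map_isPrime_of_surjective hsurj hker
  have hcomap : q.comap π = p := Ideal.comap_map_of_surjective' π hsurj p ▸ by
    rw [sup_eq_left]; exact hker
  have hqmem : ∀ r : R, π r ∈ q ↔ r ∈ p := by
    intro r; rw [← Ideal.mem_comap, hcomap]
  haveI : LocCoh.IsGorensteinLocalRing (Localization.AtPrime q) :=
    LocCoh.IsGorensteinRing.isGorensteinLocalRing_localization q
  haveI hCM : LocCoh.IsCohenMacaulayLocalRing (Localization.AtPrime q) :=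
    Groth.Agent.S0341.result (Localization.AtPrime q)
  -- depth zero
  have hd : LocCoh.depth (Localization.AtPrime q) (Localization.AtPrime q) = 0 := by
    apply depth_eq_zero (algebraMap (R ⧸ 𝔠) (Localization.AtPrime q) (π x))
    · intro h0
      rw [IsLocalization.map_eq_zero_iff q.primeCompl] at h0
      obtain ⟨⟨s, hs⟩, hs0⟩ := h0
      obtain ⟨s', rfl⟩ := hsurj s
      have : s' ∉ p := fun h => hs ((hqmem s').mpr h)
      apply this
      rw [hmem, ← Ideal.Quotient.eq_zero_iff_mem, map_mul]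
      exact hs0
    · intro r hr
      obtain ⟨a, s, rfl⟩ := IsLocalization.exists_mk'_eq q.primeCompl r
      rw [IsLocalization.AtPrime.mk'_mem_maximal_iff (Localization.AtPrime q) q] at hr
      obtain ⟨a', rfl⟩ := hsurj a
      have ha' : a' ∈ p := (hqmem a').mp hr
      have h0 : π a' * π x = 0 := by
        rw [← map_mul, Ideal.Quotient.eq_zero_iff_mem, ← hmem]; exact ha'
      rw [← IsLocalization.mk'_one (M := q.primeCompl) (Localization.AtPrime q) (π x),
        ← IsLocalization.mk'_mul, h0, IsLocalization.mk'_zero]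
  have hdim : ringKrullDim (Localization.AtPrime q) = 0 := by
    have := hCM.supportDim_eq_depth
    rw [hd, Module.supportDim_self_eq_ringKrullDim] at this
    exact_mod_cast this
  rw [IsLocalization.AtPrime.ringKrullDim_eq_height q] at hdim
  have hq0 : q.height = 0 := by exact_mod_cast hdim
  rw [Ideal.height_eq_zero_iff] at hq0
  rw [Ideal.minimalPrimes_eq_comap]
  exact ⟨q, hq0, hcomap⟩


theorem key {R : Type u} [CommRing R] [IsNoetherianRing R] (𝔠 I J : Ideal R)
    [LocCoh.IsGorensteinRing (R ⧸ 𝔠)]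
    (hIJ : 𝔠.colon (I : Set R) = J) (hJI : 𝔠.colon (J : Set R) = I)
    (hdisj : Disjoint (associatedPrimes R (R ⧸ I)) (associatedPrimes R (R ⧸ J))) :
    I ⊓ J = 𝔠 := by
  have hcI : 𝔠 ≤ I := by
    rw [← hJI]; intro r hr
    rw [Submodule.mem_colon]; intro j _; exact 𝔠.mul_mem_right j hr
  have hcJ : 𝔠 ≤ J := by
    rw [← hIJ]; intro r hr
    rw [Submodule.mem_colon]; intro j _; exact 𝔠.mul_mem_right j hr
  have hIJc : ∀ i ∈ I, ∀ j ∈ J, i * j ∈ 𝔠 := by
    intro i hi j hj
    rw [← hIJ, Submodule.mem_colon] at hj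
    have := hj i hi
    rw [smul_eq_mul] at this
    rwa [mul_comm]
  apply le_antisymm _ (le_inf hcI hcJ)
  intro m hm
  by_contra hmc
  -- the class of m in R/𝔠 is nonzero; take an associated prime containing its annihilator
  have hne : (Ideal.Quotient.mk 𝔠 m : R ⧸ 𝔠) ≠ 0 := by
    rwa [Ne, Ideal.Quotient.eq_zero_iff_mem]
  obtain ⟨p, hpass, hle⟩ := exists_le_isAssociatedPrime_of_isNoetherianRing R
    (Ideal.Quotient.mk 𝔠 m : R ⧸ 𝔠) hne
  have hpmin : p ∈ 𝔠.minimalPrimes := unmixed 𝔠 p hpass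
  haveI : p.IsPrime := hpass.isPrime
  have hann : ∀ s : R, s * m ∈ 𝔠 → s ∈ p := by
    intro s hs
    apply hle
    rw [Submodule.mem_colon_singleton, Submodule.mem_bot]
    change (Ideal.Quotient.mk 𝔠 s) * (Ideal.Quotient.mk 𝔠 m) = 0
    rw [← map_mul, Ideal.Quotient.eq_zero_iff_mem]; exact hs
  -- I ≤ p and J ≤ p
  have hIp : I ≤ p := fun s hs => hann s (hIJc s hs m hm.2)
  have hJp : J ≤ p := fun s hs => hann s (by rw [mul_comm]; exact hIJc m hm.1 s hs)
  -- p minimal over I and J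
  have hminI : p ∈ I.minimalPrimes := by
    refine ⟨⟨inferInstance, hIp⟩, ?_⟩
    rintro q ⟨hq, hIq⟩ hqp
    exact hpmin.2 ⟨hq, hcI.trans hIq⟩ hqp
  have hminJ : p ∈ J.minimalPrimes := by
    refine ⟨⟨inferInstance, hJp⟩, ?_⟩
    rintro q ⟨hq, hJq⟩ hqp
    exact hpmin.2 ⟨hq, hcJ.trans hJq⟩ hqp
  have hassI : p ∈ associatedPrimes R (R ⧸ I) := by
    apply Module.associatedPrimes.minimalPrimes_annihilator_subset_associatedPrimes
    rwa [Ideal.annihilator_quotient]
  have hassJ : p ∈ associatedPrimes R (R ⧸ J) := by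
    apply Module.associatedPrimes.minimalPrimes_annihilator_subset_associatedPrimes
    rwa [Ideal.annihilator_quotient]
  exact (Set.disjoint_left.mp hdisj hassI) hassJ


/-- Let K be a field, R = K[x_0, …, x_n] graded by degree, c ≥ 2, 𝔠 ⊂ R a homogeneous ideal of height c
such that R/𝔠 is a Gorenstein ring, and I, J ⊂ R homogeneous ideals that are directly linked by 𝔠,
that is 𝔠 : I = J and 𝔠 : J = I. If R/I and R/J have no associated prime in common, then I ∩ J = 𝔠,
so I and J are geometrically linked by 𝔠. -/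
theorem result (K : Type u) [Field K] (n c : ℕ) (hc : 2 ≤ c)
    (𝔠 I J : Ideal (MvPolynomial (Fin (n + 1)) K))
    (h𝔠 : 𝔠.IsHomogeneous (GrSyz.stdGr K (Fin (n + 1)))) (hI : I.IsHomogeneous (GrSyz.stdGr K (Fin (n + 1)))) (hJ : J.IsHomogeneous (GrSyz.stdGr K (Fin (n + 1))))
    [LocCoh.IsGorensteinRing (MvPolynomial (Fin (n + 1)) K ⧸ 𝔠)] (h𝔠c : 𝔠.height = c)
    (hIJ : 𝔠.colon (I : Set (MvPolynomial (Fin (n + 1)) K)) = J) (hJI : 𝔠.colon (J : Set (MvPolynomial (Fin (n + 1)) K)) = I)
    (hdisj : Disjoint (associatedPrimes (MvPolynomial (Fin (n + 1)) K) (MvPolynomial (Fin (n + 1)) K ⧸ I)) (associatedPrimes (MvPolynomial (Fin (n + 1)) K) (MvPolynomial (Fin (n + 1)) K ⧸ J))) :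
    I ⊓ J = 𝔠 := by
  exact key 𝔠 I J hIJ hJI hdisj

end Groth.Agent.S18866
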