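import Groth.Statements.S18865
import Groth.Agent.S18866
import Groth.Agent.Lib.Helper7.StdGrUnmixed

set_option autoImplicit false
universe u
open Liaison

namespace Groth.Agent.S18865

/-- associated primes of `R/(𝔠 : I)` are minimal primes of `𝔠` when `R/𝔠` is Gorenstein -/
theorem ass_colon_mem_minimalPrimes {R : Type u} [CommRing R] [IsNoetherianRing R] (𝔠 I : Ideal R)
    [LocCoh.IsGorensteinRing (R ⧸ 𝔠)] (p : Ideal R)
    (hp : p ∈ associatedPrimes R (R ⧸ 𝔠.colon (I : Set R))) : p ∈ 𝔠.minimalPrimes := by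
  obtain ⟨hpp, xbar, hx⟩ := (isAssociatedPrime_iff).mp hp
  obtain ⟨x, rfl⟩ := Ideal.Quotient.mk_surjective xbar
  have hmem : ∀ r : R, r ∈ p ↔ ∀ i ∈ I, r * x * i ∈ 𝔠 := by
    intro r
    rw [hx, Submodule.mem_colon_singleton, Submodule.mem_bot]
    change (Ideal.Quotient.mk _ r) * (Ideal.Quotient.mk _ x) = 0 ↔ _
    rw [← map_mul, Ideal.Quotient.eq_zero_iff_mem, Submodule.mem_colon]
    rfl
  have hcp : 𝔠 ≤ p := by
    intro r hr
    rw [hmem]
    intro i _
    rw [mul_assoc]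
    exact 𝔠.mul_mem_right _ hr
  have h1 : ¬ (∀ i ∈ I, 1 * x * i ∈ 𝔠) :=
    fun h => hpp.ne_top ((Ideal.eq_top_iff_one _).2 ((hmem 1).2 h))
  push_neg at h1
  obtain ⟨i, hi, hxi⟩ := h1
  rw [one_mul] at hxi
  have hne : (Ideal.Quotient.mk 𝔠 (x * i) : R ⧸ 𝔠) ≠ 0 := by
    rwa [Ne, Ideal.Quotient.eq_zero_iff_mem]
  obtain ⟨p', hp'ass, hle⟩ := exists_le_isAssociatedPrime_of_isNoetherianRing R
    (Ideal.Quotient.mk 𝔠 (x * i) : R ⧸ 𝔠) hne
  have hp'min := Groth.Agent.S18866.unmixed 𝔠 p' hp'ass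
  have hpp' : p ≤ p' := by
    intro r hr
    apply hle
    rw [Submodule.mem_colon_singleton, Submodule.mem_bot]
    change (Ideal.Quotient.mk 𝔠 r) * (Ideal.Quotient.mk 𝔠 (x * i)) = 0
    rw [← map_mul, Ideal.Quotient.eq_zero_iff_mem, ← mul_assoc]
    exact (hmem r).1 hr i hi
  have hp'p : p' ≤ p := hp'min.2 ⟨hpp, hcp⟩ hpp'
  rw [le_antisymm hpp' hp'p]
  exact hp'min

/-- Let K be a field, R = K[x_0, …, x_n] graded by degree, c ≥ 2 an integer, 𝔠 ⊂ R a homogeneous ideal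
of height c such that R/𝔠 is a Gorenstein ring, and I ⊂ R a homogeneous ideal with I ⊄ 𝔠. Then the
ideal quotient 𝔠 : I is unmixed of codimension c: it has height c and every associated prime of R/(𝔠
: I) has height c. (A Gorenstein ideal of the notes, one whose quotient is Cohen–Macaulay with last
graded Betti number 1, is rendered as: the quotient ring is Gorenstein.) -/
theorem result (K : Type u) [Field K] (n c : ℕ) (hc : 2 ≤ c)
    (𝔠 I : Ideal (MvPolynomial (Fin (n + 1)) K))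
    (h𝔠 : 𝔠.IsHomogeneous (GrSyz.stdGr K (Fin (n + 1)))) (hI : I.IsHomogeneous (GrSyz.stdGr K (Fin (n + 1))))
    [LocCoh.IsGorensteinRing (MvPolynomial (Fin (n + 1)) K ⧸ 𝔠)] (h𝔠c : 𝔠.height = c) (hI𝔠 : ¬ I ≤ 𝔠) :
    (𝔠.colon (I : Set (MvPolynomial (Fin (n + 1)) K))).height = c ∧
      ∀ p ∈ associatedPrimes (MvPolynomial (Fin (n + 1)) K) (MvPolynomial (Fin (n + 1)) K ⧸ 𝔠.colon (I : Set (MvPolynomial (Fin (n + 1)) K))), p.height = c := by
  haveI hCM : LocCoh.IsCohenMacaulayRing (MvPolynomial (Fin (n + 1)) K ⧸ 𝔠) :=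
    { isCohenMacaulayLocalRing_localization := fun q _ => by
        haveI : LocCoh.IsGorensteinLocalRing (Localization.AtPrime q) :=
          LocCoh.IsGorensteinRing.isGorensteinLocalRing_localization q
        exact Groth.Agent.S0341.result (Localization.AtPrime q) }
  have hass : ∀ p ∈ associatedPrimes (MvPolynomial (Fin (n + 1)) K)
      (MvPolynomial (Fin (n + 1)) K ⧸ 𝔠.colon (I : Set (MvPolynomial (Fin (n + 1)) K))),
      p.height = c := by
    intro p hp
    have hmin := ass_colon_mem_minimalPrimes 𝔠 I p hp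
    rw [Groth.Agent.Lib.Helper7.StdGrUnmixed.height_eq_of_mem_minimalPrimes K (n + 1) h𝔠 hmin, h𝔠c]
  refine ⟨?_, hass⟩
  have hle : 𝔠 ≤ 𝔠.colon (I : Set (MvPolynomial (Fin (n + 1)) K)) := by
    intro r hr
    rw [Submodule.mem_colon]
    intro i _
    exact 𝔠.mul_mem_right i hr
  have hne : 𝔠.colon (I : Set (MvPolynomial (Fin (n + 1)) K)) ≠ ⊤ := by
    intro h
    apply hI𝔠
    intro i hi
    have h1 : (1 : MvPolynomial (Fin (n + 1)) K) ∈
        𝔠.colon (I : Set (MvPolynomial (Fin (n + 1)) K)) := h ▸ Submodule.mem_top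
    rw [Submodule.mem_colon] at h1
    simpa using h1 i hi
  haveI : Nontrivial (MvPolynomial (Fin (n + 1)) K ⧸
      𝔠.colon (I : Set (MvPolynomial (Fin (n + 1)) K))) := Ideal.Quotient.nontrivial_iff.2 hne
  obtain ⟨p, hp⟩ := associatedPrimes.nonempty (MvPolynomial (Fin (n + 1)) K)
    (MvPolynomial (Fin (n + 1)) K ⧸ 𝔠.colon (I : Set (MvPolynomial (Fin (n + 1)) K)))
  have hcp : 𝔠.colon (I : Set (MvPolynomial (Fin (n + 1)) K)) ≤ p := by
    have := IsAssociatedPrime.annihilator_le hp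
    rwa [Submodule.annihilator_top, Ideal.annihilator_quotient] at this
  apply le_antisymm
  · calc (𝔠.colon (I : Set (MvPolynomial (Fin (n + 1)) K))).height ≤ p.height :=
        Ideal.height_mono hcp
      _ = c := hass p hp
  · rw [← h𝔠c]
    exact Ideal.height_mono hle

end Groth.Agent.S18865
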