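import Groth.Statements.S18867
import Groth.Agent.Lib.helper11.Liaison

set_option autoImplicit false
universe u
open Liaison

namespace Groth.Agent.S18867

/-- Let K be a field, R = K[x_0, …, x_n] graded by degree, c ≥ 2, 𝔠 ⊂ R a homogeneous ideal of height c
such that R/𝔠 is a Gorenstein ring, and I ⊂ R a homogeneous ideal of height c which is unmixed
(every associated prime of R/I has height c) and properly contains 𝔠. Then 𝔠 : (𝔠 : I) = I, so that
I and 𝔠 : I are directly linked by 𝔠. -/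
theorem result (K : Type u) [Field K] (n c : ℕ) (hc : 2 ≤ c)
    (𝔠 I : Ideal (MvPolynomial (Fin (n + 1)) K))
    (h𝔠 : 𝔠.IsHomogeneous (GrSyz.stdGr K (Fin (n + 1)))) (hI : I.IsHomogeneous (GrSyz.stdGr K (Fin (n + 1))))
    [LocCoh.IsGorensteinRing (MvPolynomial (Fin (n + 1)) K ⧸ 𝔠)] (h𝔠c : 𝔠.height = c) (hIc : I.height = c)
    (hIu : ∀ p ∈ associatedPrimes (MvPolynomial (Fin (n + 1)) K) (MvPolynomial (Fin (n + 1)) K ⧸ I), p.height = c) (hlt : 𝔠 < I) :
    𝔠.colon ((𝔠.colon (I : Set (MvPolynomial (Fin (n + 1)) K)) : Ideal (MvPolynomial (Fin (n + 1)) K)) : Set (MvPolynomial (Fin (n + 1)) K)) = I := by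
  refine Groth.Agent.Lib.helper11.Liaison.colon_colon_eq 𝔠 I hlt.le ?_
  intro P hP
  haveI hPp : P.IsPrime := hP.isPrime
  have hIP : I ≤ P := by
    have := IsAssociatedPrime.annihilator_le hP
    rwa [Submodule.annihilator_top, Ideal.annihilator_quotient] at this
  obtain ⟨Q, hQ, hQP⟩ := Ideal.exists_minimalPrimes_le (hlt.le.trans hIP)
  haveI hQp : Q.IsPrime := hQ.1.1
  have h1 : (c : ℕ∞) ≤ Q.height := by
    rw [← h𝔠c, Ideal.height_eq_inf_minimalPrimes 𝔠]
    exact iInf₂_le Q hQ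
  by_cases hne : Q = P
  · rw [← hne]
    exact hQ
  · exfalso
    have hlt' : Q < P := lt_of_le_of_ne hQP hne
    have h2 := Ideal.height_strict_mono_of_isPrime_of_isPrime hlt'
    rw [hIu P hP] at h2
    exact absurd h1 (not_le.2 h2)

end Groth.Agent.S18867
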