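import Groth.Statements.S18870
import Mathlib

set_option autoImplicit false
universe u
open Liaison

namespace Groth.Agent.S18870

theorem height_bdl {R : Type*} [CommRing R] (J I : Ideal R) (f : R) (h : ℕ) (hJI : J ≤ I)
    (hJh : J.height = h) (hIh : I.height = h + 1) (hJf : J.colon {f} = J) :
    (J ⊔ Ideal.span {f} * I).height = h + 1 := by
  apply le_antisymm
  · rw [← hIh]
    exact Ideal.height_mono (sup_le hJI Ideal.mul_le_right)
  · rw [Ideal.height_eq_inf_minimalPrimes]
    refine le_iInf₂ fun P hP => ?_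
    have hPprime : P.IsPrime := hP.1.1
    have hle : J ⊔ Ideal.span {f} * I ≤ P := hP.1.2
    have hJP : J ≤ P := le_sup_left.trans hle
    have hfI : Ideal.span {f} * I ≤ P := le_sup_right.trans hle
    rcases (Ideal.IsPrime.mul_le hPprime).1 hfI with hf | hI
    · have hfP : f ∈ P := hf (Ideal.subset_span rfl)
      obtain ⟨Q, hQ, hQP⟩ := Ideal.exists_minimalPrimes_le hJP
      have hQprime : Q.IsPrime := hQ.1.1
      have hfQ : f ∉ Q := by
        intro hfQ
        obtain ⟨y, hy, hxy⟩ := Ideal.exists_mul_mem_of_mem_minimalPrimes hQ hfQ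
        apply hy
        rw [← hJf, Submodule.mem_colon_singleton, smul_eq_mul, mul_comm]
        exact hxy
      have hlt : Q < P := lt_of_le_of_ne hQP (fun e => hfQ (e ▸ hfP))
      have h1 : Q.height + 1 ≤ P.height := Ideal.height_add_one_le_of_lt_of_isPrime hlt
      have h2 : J.height ≤ Q.height := Ideal.height_mono hQ.1.2
      rw [hJh] at h2
      calc (h : ℕ∞) + 1 ≤ Q.height + 1 := by gcongr
        _ ≤ P.height := h1
    · rw [← hIh]
      exact Ideal.height_mono hI


/-- Let K be a field, R = K[x_0, …, x_n] graded by degree, and J ⊆ I ⊂ R homogeneous ideals with J ≠ 0,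
height I = height J + 1 = h + 1 and R/J Cohen–Macaulay; let f ∈ R be homogeneous of degree d with J
: f = J, and put Ĩ = J + fI (the basic double link). Then Ĩ has the same height h + 1 as I. -/
theorem result (K : Type u) [Field K] (n h : ℕ)
    (J I : Ideal (MvPolynomial (Fin (n + 1)) K))
    (hJ : J.IsHomogeneous (GrSyz.stdGr K (Fin (n + 1)))) (hI : I.IsHomogeneous (GrSyz.stdGr K (Fin (n + 1))))
    (hJ0 : J ≠ ⊥) (hJI : J ≤ I) (hJh : J.height = h) (hIh : I.height = h + 1)
    [LocCoh.IsCohenMacaulayRing (MvPolynomial (Fin (n + 1)) K ⧸ J)]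
    (f : MvPolynomial (Fin (n + 1)) K) (d : ℕ) (hf : f ∈ GrSyz.stdGr K (Fin (n + 1)) (d : ℤ)) (hJf : J.colon {f} = J) :
    (J ⊔ Ideal.span {f} * I).height = h + 1 := by
  exact height_bdl J I f h hJI hJh hIh hJf

end Groth.Agent.S18870
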