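import Groth.Statements.S18871
import Groth.Agent.Lib.Helper7.CMRegularQuot

set_option autoImplicit false
universe u
open Liaison

namespace Groth.Agent.S18871

open Groth.Agent.Lib.Helper7

section general

variable {R : Type u} [CommRing R]

/-- transfer of associated primes of `R/(J + fR)` to `(R/J)/(f̄)` -/
theorem transfer [IsNoetherianRing R] (J : Ideal R) (f : R) (p : Ideal R)
    (hp : p ∈ associatedPrimes R (R ⧸ (J ⊔ Ideal.span {f}))) :
    J ≤ p ∧ p.map (Ideal.Quotient.mk J) ∈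
      associatedPrimes (R ⧸ J) ((R ⧸ J) ⧸ Ideal.span {Ideal.Quotient.mk J f}) := by
  obtain ⟨hpp, xbar, hx⟩ := (isAssociatedPrime_iff).mp hp
  obtain ⟨x, rfl⟩ := Ideal.Quotient.mk_surjective xbar
  have hmem : ∀ r : R, r ∈ p ↔ r * x ∈ J ⊔ Ideal.span {f} := by
    intro r
    rw [hx, Submodule.mem_colon_singleton, Submodule.mem_bot]
    change (Ideal.Quotient.mk _ r) * (Ideal.Quotient.mk _ x) = 0 ↔ _
    rw [← map_mul, Ideal.Quotient.eq_zero_iff_mem]
  have hJp : J ≤ p := by
    intro r hr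
    rw [hmem]
    exact Ideal.mem_sup_left (J.mul_mem_right x hr)
  refine ⟨hJp, ?_⟩
  have hsurj : Function.Surjective (Ideal.Quotient.mk J) := Ideal.Quotient.mk_surjective
  have hker : RingHom.ker (Ideal.Quotient.mk J) ≤ p := by rw [Ideal.mk_ker]; exact hJp
  haveI hPprime : (p.map (Ideal.Quotient.mk J)).IsPrime :=
    Ideal.map_isPrime_of_surjective hsurj hker
  have hcomap : (p.map (Ideal.Quotient.mk J)).comap (Ideal.Quotient.mk J) = p := by
    rw [Ideal.comap_map_of_surjective _ hsurj, ← RingHom.ker_eq_comap_bot, Ideal.mk_ker,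
      sup_eq_left.2 hJp]
  rw [associatedPrimes, Set.mem_ofPred_eq, isAssociatedPrime_iff]
  refine ⟨hPprime, Ideal.Quotient.mk _ (Ideal.Quotient.mk J x), ?_⟩
  ext s
  obtain ⟨r, rfl⟩ := hsurj s
  rw [Submodule.mem_colon_singleton, Submodule.mem_bot]
  change _ ↔ (Ideal.Quotient.mk _ (Ideal.Quotient.mk J r)) *
    (Ideal.Quotient.mk _ (Ideal.Quotient.mk J x)) = 0
  rw [← map_mul, Ideal.Quotient.eq_zero_iff_mem, ← map_mul, ← Ideal.mem_comap, hcomap, hmem]
  have hspan : Ideal.span {Ideal.Quotient.mk J f} = (Ideal.span {f}).map (Ideal.Quotient.mk J) := by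
    rw [Ideal.map_span, Set.image_singleton]
  rw [hspan, ← Ideal.mem_comap, Ideal.comap_map_of_surjective _ hsurj,
    ← RingHom.ker_eq_comap_bot, Ideal.mk_ker, sup_comm]

variable (J I : Ideal R) (f : R)

/-- multiplication by `f` as a map `R/I → R/(J + fI)` -/
noncomputable def φ : (R ⧸ I) →ₗ[R] (R ⧸ (J ⊔ Ideal.span {f} * I)) :=
  Submodule.liftQ I (f • Submodule.mkQ (J ⊔ Ideal.span {f} * I)) (by
    intro r hr
    rw [LinearMap.mem_ker, LinearMap.smul_apply, Submodule.mkQ_apply, ← Submodule.Quotient.mk_smul,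
      Submodule.Quotient.mk_eq_zero, smul_eq_mul]
    exact Ideal.mem_sup_right (Ideal.mul_mem_mul (Ideal.mem_span_singleton_self f) hr))

theorem φ_mk (r : R) : φ J I f (Submodule.Quotient.mk r) = Submodule.Quotient.mk (f * r) := by
  unfold φ
  rw [Submodule.liftQ_apply, LinearMap.smul_apply, Submodule.mkQ_apply,
    ← Submodule.Quotient.mk_smul, smul_eq_mul]

/-- the projection `R/(J + fI) → R/(J + fR)` -/
noncomputable def ψ : (R ⧸ (J ⊔ Ideal.span {f} * I)) →ₗ[R] (R ⧸ (J ⊔ Ideal.span {f})) :=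
  Submodule.liftQ _ (Submodule.mkQ (J ⊔ Ideal.span {f})) (by
    intro r hr
    rw [LinearMap.mem_ker, Submodule.mkQ_apply, Submodule.Quotient.mk_eq_zero]
    exact (sup_le_sup_left Ideal.mul_le_left J) hr)

theorem ψ_mk (r : R) : ψ J I f (Submodule.Quotient.mk r) = Submodule.Quotient.mk r := by
  unfold ψ
  rw [Submodule.liftQ_apply, Submodule.mkQ_apply]

theorem φ_injective (hJI : J ≤ I) (hJf : J.colon {f} = J) : Function.Injective (φ J I f) := by
  rw [injective_iff_map_eq_zero]
  intro y hy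
  obtain ⟨r, rfl⟩ := Submodule.Quotient.mk_surjective _ y
  rw [φ_mk, Submodule.Quotient.mk_eq_zero] at hy
  rw [Submodule.Quotient.mk_eq_zero]
  obtain ⟨j, hj, z, hz, hjz⟩ := Submodule.mem_sup.1 hy
  obtain ⟨i, hi, rfl⟩ := Ideal.mem_span_singleton_mul.1 hz
  have h1 : (r - i) ∈ J.colon {f} := by
    rw [Submodule.mem_colon_singleton, smul_eq_mul]
    have : (r - i) * f = j := by
      linear_combination (-1 : R) * hjz
    rw [this]; exact hj
  rw [hJf] at h1
  have h2 : r - i ∈ I := hJI h1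
  have := I.add_mem h2 hi
  rwa [sub_add_cancel] at this

theorem exact_φ_ψ : Function.Exact (φ J I f) (ψ J I f) := by
  intro y
  obtain ⟨r, rfl⟩ := Submodule.Quotient.mk_surjective _ y
  rw [ψ_mk, Submodule.Quotient.mk_eq_zero]
  constructor
  · intro h
    obtain ⟨j, hj, z, hz, hjz⟩ := Submodule.mem_sup.1 h
    obtain ⟨s, rfl⟩ := Ideal.mem_span_singleton'.1 hz
    refine ⟨Submodule.Quotient.mk s, ?_⟩
    rw [φ_mk, Submodule.Quotient.eq]
    have : f * s - r = -j := by rw [← hjz]; ring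
    rw [this]
    exact Ideal.mem_sup_left (J.neg_mem hj)
  · rintro ⟨x, hx⟩
    obtain ⟨s, rfl⟩ := Submodule.Quotient.mk_surjective _ x
    rw [φ_mk, Submodule.Quotient.eq] at hx
    have h1 : f * s - r ∈ J ⊔ Ideal.span {f} := (sup_le_sup_left Ideal.mul_le_left J) hx
    have h2 : f * s ∈ J ⊔ Ideal.span {f} :=
      Ideal.mem_sup_right (Ideal.mul_mem_right _ _ (Ideal.mem_span_singleton_self f))
    have := (J ⊔ Ideal.span {f}).sub_mem h2 h1
    rwa [sub_sub_cancel] at this

end general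

/-- Let K be a field, R = K[x_0, …, x_n] graded by degree, and J ⊆ I ⊂ R homogeneous ideals with J ≠ 0,
height I = height J + 1 = h + 1 and R/J Cohen–Macaulay; let f ∈ R be homogeneous of degree d with J
: f = J, and put Ĩ = J + fI (the basic double link). Then I is unmixed, meaning that every
associated prime of R/I has height h + 1, if and only if Ĩ is unmixed in the same sense. -/
theorem result (K : Type u) [Field K] (n h : ℕ)
    (J I : Ideal (MvPolynomial (Fin (n + 1)) K))
    (hJ : J.IsHomogeneous (GrSyz.stdGr K (Fin (n + 1)))) (hI : I.IsHomogeneous (GrSyz.stdGr K (Fin (n + 1))))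
    (hJ0 : J ≠ ⊥) (hJI : J ≤ I) (hJh : J.height = h) (hIh : I.height = h + 1)
    [LocCoh.IsCohenMacaulayRing (MvPolynomial (Fin (n + 1)) K ⧸ J)]
    (f : MvPolynomial (Fin (n + 1)) K) (d : ℕ) (hf : f ∈ GrSyz.stdGr K (Fin (n + 1)) (d : ℤ)) (hJf : J.colon {f} = J) :
    (∀ p ∈ associatedPrimes (MvPolynomial (Fin (n + 1)) K) (MvPolynomial (Fin (n + 1)) K ⧸ I), p.height = h + 1) ↔
      ∀ p ∈ associatedPrimes (MvPolynomial (Fin (n + 1)) K) (MvPolynomial (Fin (n + 1)) K ⧸ (J ⊔ Ideal.span {f} * I)), p.height = h + 1 := by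
  have hφinj := φ_injective J I f hJI hJf
  have hex := exact_φ_ψ J I f
  have hsub1 := associatedPrimes.subset_of_injective hφinj
  have hsub2 := associatedPrimes.subset_union_of_exact hφinj hex
  -- associated primes of R/(J + fR) have height h + 1
  have hL : ∀ p ∈ associatedPrimes (MvPolynomial (Fin (n + 1)) K)
      (MvPolynomial (Fin (n + 1)) K ⧸ (J ⊔ Ideal.span {f})), p.height = h + 1 := by
    intro p hp
    haveI hpp : p.IsPrime := hp.isPrime
    obtain ⟨hJp, hP⟩ := transfer J f p hp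
    have hreg : IsSMulRegular (MvPolynomial (Fin (n + 1)) K ⧸ J) (Ideal.Quotient.mk J f) := by
      rw [isSMulRegular_iff_right_eq_zero_of_smul]
      intro y hy
      obtain ⟨r, rfl⟩ := Ideal.Quotient.mk_surjective y
      rw [smul_eq_mul, ← map_mul, Ideal.Quotient.eq_zero_iff_mem] at hy
      rw [Ideal.Quotient.eq_zero_iff_mem, ← hJf, Submodule.mem_colon_singleton, smul_eq_mul,
        mul_comm]
      exact hy
    have hht := CMRegQ.height_eq_one_of_mem_associatedPrimes _ hreg _ hP
    obtain ⟨q, hq, hcov⟩ := CMRegQ.exists_minimalPrime_covBy J p hJp hht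
    have h1 := CMRegQ.height_eq_add_one_of_covBy K (n + 1) _ _ hcov
    have h2 := StdGrUnmixed.height_eq_of_mem_minimalPrimes K (n + 1) hJ hq
    change p.height = q.height + 1 at h1
    rw [h1, h2, hJh]
  constructor
  · intro hIu p hp
    rcases hsub2 hp with h1 | h1
    · exact hIu p h1
    · exact hL p h1
  · intro hIu p hp
    exact hIu p (hsub1 hp)

end Groth.Agent.S18871
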