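import Groth.Statements.S18874
import Mathlib
import Groth.Agent.Lib.Helper13.StalkSpread
import Groth.Agent.Lib.Helper9.ProperOver4
import Groth.Prelude.Def_EGA4b

set_option autoImplicit false
universe u
open Lim

namespace Groth.Agent.S18874

section helpers
set_option linter.unusedSectionVars false
set_option linter.unusedVariables false
set_option linter.style.haveILetI false
open CategoryTheory CategoryTheory.Limits AlgebraicGeometry


open Groth.Agent.Lib.Helper13.StalkSpread Groth.Agent.Lib.Helper9.ProperOver

theorem isProper_of_isPullback_fpqc {X Y X' Y' : Scheme.{u}} (k : X ⟶ Y) (g' : Y' ⟶ Y)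
    (l : X' ⟶ X) (k' : X' ⟶ Y') (sq : IsPullback l k' k g')
    [QuasiCompact g'] [Flat g'] [Surjective g'] (h : IsProper k') : IsProper k := by
  apply isProper_of_pullback_snd_fpqc k g'
  have : pullback.snd k g' = sq.isoPullback.inv ≫ k' := by
    rw [Iso.eq_inv_comp]; exact sq.isoPullback_hom_snd
  rw [this]
  infer_instance

theorem faithfullyFlat_cpl (A : Type u) [CommRing A] [IsLocalRing A] [IsNoetherianRing A] :
    Module.FaithfullyFlat A (EGA4.Cpl A) := by
  exact Module.FaithfullyFlat.of_flat_of_isLocalHom

set_option maxHeartbeats 1600000 in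
theorem main (S : Scheme.{u}) [CompactSpace S] (hS : ∀ U : S.affineOpens, EGA4.IsExcellent Γ(S, U.1))
    {X Y : Scheme.{u}} (f : X ⟶ Y) (g : Y ⟶ S)
    [QuasiCompact g] [QuasiSeparated g] [LocallyOfFinitePresentation g]
    [QuasiCompact (f ≫ g)] [QuasiSeparated (f ≫ g)] [LocallyOfFinitePresentation (f ≫ g)]
    (s : S) (hs : IsClosed ({s} : Set S))
    (hR : IsProper (Limits.pullback.snd f (Limits.pullback.fst g
      (Spec.map (CommRingCat.ofHom (algebraMap (S.presheaf.stalk s) (EGA4.Cpl (S.presheaf.stalk s)))) ≫
        S.fromSpecStalk s)))) :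
    ∃ W : S.Opens, s ∈ W ∧ IsProper (f ∣_ (g ⁻¹ᵁ W)) := by
  haveI : IsLocallyNoetherian S := ⟨fun U => (hS U).1⟩
  haveI : IsNoetherianRing (S.presheaf.stalk s) := inferInstance
  apply exists_nhd_of_stalk @IsProper descends_isProper S f g s
  let e : Spec (CommRingCat.of (EGA4.Cpl (S.presheaf.stalk s))) ⟶ Spec (S.presheaf.stalk s) :=
    Spec.map (CommRingCat.ofHom (algebraMap (S.presheaf.stalk s) (EGA4.Cpl (S.presheaf.stalk s))))
  let fss := S.fromSpecStalk s
  let r := pullback.fst g fss
  haveI hff := faithfullyFlat_cpl (S.presheaf.stalk s)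
  haveI : Flat e := by
    refine Flat.SpecMap_iff.mpr ?_
    show (algebraMap (S.presheaf.stalk s) (EGA4.Cpl (S.presheaf.stalk s))).Flat
    rw [RingHom.flat_algebraMap_iff]
    infer_instance
  haveI : Surjective e := by
    constructor
    exact PrimeSpectrum.comap_surjective_of_faithfullyFlat
  let g' : pullback g (e ≫ fss) ⟶ pullback g fss :=
    pullback.lift (pullback.fst g (e ≫ fss)) (pullback.snd g (e ≫ fss) ≫ e)
      (by rw [Category.assoc]; exact pullback.condition)
  have hg'1 : g' ≫ r = pullback.fst g (e ≫ fss) := pullback.lift_fst _ _ _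
  have hg'2 : g' ≫ pullback.snd g fss = pullback.snd g (e ≫ fss) ≫ e := pullback.lift_snd _ _ _
  have sqg : IsPullback g' (pullback.snd g (e ≫ fss)) (pullback.snd g fss) e := by
    have big : IsPullback (g' ≫ r) (pullback.snd g (e ≫ fss)) g (e ≫ fss) := by
      rw [hg'1]; exact IsPullback.of_hasPullback _ _
    exact IsPullback.of_right big hg'2 (IsPullback.of_hasPullback g fss)
  haveI : QuasiCompact g' :=
    MorphismProperty.of_isPullback (P := @QuasiCompact) sqg.flip inferInstance
  haveI : Flat g' := MorphismProperty.of_isPullback (P := @Flat) sqg.flip inferInstance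
  haveI : Surjective g' := MorphismProperty.of_isPullback (P := @Surjective) sqg.flip inferInstance
  let k := pullback.snd f r
  let l : pullback f (pullback.fst g (e ≫ fss)) ⟶ pullback f r :=
    pullback.lift (pullback.fst f _) (pullback.snd f _ ≫ g')
      (by rw [Category.assoc, hg'1]; exact pullback.condition)
  have hl1 : l ≫ pullback.fst f r = pullback.fst f _ := pullback.lift_fst _ _ _
  have hl2 : l ≫ k = pullback.snd f _ ≫ g' := pullback.lift_snd _ _ _
  have sqf : IsPullback l (pullback.snd f (pullback.fst g (e ≫ fss))) k g' := by
    have big : IsPullback (l ≫ pullback.fst f r) (pullback.snd f (pullback.fst g (e ≫ fss))) f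
        (g' ≫ r) := by
      rw [hl1, hg'1]; exact IsPullback.of_hasPullback _ _
    exact IsPullback.of_right big hl2 (IsPullback.of_hasPullback f r)
  exact isProper_of_isPullback_fpqc k g' l _ sqf hR


end helpers

open CategoryTheory AlgebraicGeometry in
/-- Let S be a quasi-compact scheme whose affine opens have excellent coordinate rings, let X → S and Y
→ S be quasi-compact, quasi-separated and locally of finite presentation, let f : X → Y be a
morphism over S, let s be a closed point of S and R the completion of the local ring of S at s. If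
the base change X ×_S Spec R → Y ×_S Spec R of f is proper, then s has an open neighbourhood W in S
such that X ×_S W → Y ×_S W is proper. (The published statement assumes X and Y only locally of
finite presentation over S; for S the affine line over a field, s the origin, Y = S and X the
disjoint union of S with one reduced point over each closed point other than s, the base change to
Spec R is an isomorphism while X ×_S W → W is not quasi-compact for any open W ∋ s, so X and Y are
taken of finite presentation over S here, which is what the limit argument of the published proof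
uses.) -/
theorem result
    (S : Scheme.{u}) [CompactSpace S] (hS : ∀ U : S.affineOpens, EGA4.IsExcellent Γ(S, U.1))
    {X Y : Scheme.{u}} (f : X ⟶ Y) (g : Y ⟶ S)
    [QuasiCompact g] [QuasiSeparated g] [LocallyOfFinitePresentation g]
    [QuasiCompact (f ≫ g)] [QuasiSeparated (f ≫ g)] [LocallyOfFinitePresentation (f ≫ g)]
    (s : S) (hs : IsClosed ({s} : Set S))
    (hR : IsProper (Limits.pullback.snd f (Limits.pullback.fst g
      (Spec.map (CommRingCat.ofHom (algebraMap (S.presheaf.stalk s) (EGA4.Cpl (S.presheaf.stalk s)))) ≫
        S.fromSpecStalk s)))) :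
    ∃ W : S.Opens, s ∈ W ∧ IsProper (f ∣_ (g ⁻¹ᵁ W)) := by
  exact main S hS f g s hs hR

end Groth.Agent.S18874
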