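import Groth.Statements.S18887
import Mathlib
-- import your own Groth.Agent.* helpers here

set_option autoImplicit false
universe u v
open DblCov

namespace Groth.Agent.S18887

/-- Let A be a commutative ring in which 2 is invertible and B a commutative A-algebra which is free of
rank 2 as an A-module and whose trace form tr : B → A has kernel free of rank 1 over A. Then σ(b) =
tr(b) − b defines an A-algebra endomorphism σ of B with σ ≠ id and σ ∘ σ = id, and the elements
fixed by σ are exactly the image of A in B. -/
theorem result {A : Type u} {B : Type v} [CommRing A] [CommRing B]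
    [Algebra A B] (h2 : IsUnit (2 : A)) [Module.Free A B] [Module.Finite A B]
    (hrk : Module.finrank A B = 2)
    [Module.Free A (LinearMap.ker (Algebra.trace A B))]
    (hker : Module.finrank A (LinearMap.ker (Algebra.trace A B)) = 1) :
    ∃ σ : B →ₐ[A] B, (∀ b : B, σ b = algebraMap A B (Algebra.trace A B b) - b) ∧
      σ ≠ AlgHom.id A B ∧ σ.comp σ = AlgHom.id A B ∧
      ∀ b : B, σ b = b ↔ b ∈ Set.range (algebraMap A B) := by
  classical
  have : Nontrivial A := by
    by_contra hA
    rw [not_nontrivial_iff_subsingleton] at hA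
    have h0 : Module.finrank A B = 1 := by
      rw [Module.finrank, rank_subsingleton]
      simp
    omega
  have htr1 : ∀ a : A, Algebra.trace A B (algebraMap A B a) = 2 * a := by
    intro a
    rw [Algebra.trace_algebraMap, hrk, two_mul, two_smul]
  obtain ⟨u, hu⟩ := h2
  have hu1 : (↑u⁻¹ : A) * 2 = 1 := by rw [← hu]; exact u.inv_mul
  have hu2 : (2 : A) * ↑u⁻¹ = 1 := by rw [← hu]; exact u.mul_inv
  have : Module.Finite A (LinearMap.ker (Algebra.trace A B)) :=
    Module.finite_of_finrank_pos (by omega)
  let bK := Module.finBasisOfFinrankEq A (LinearMap.ker (Algebra.trace A B)) hker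
  set y : B := (bK 0 : B) with hy
  have hy0 : Algebra.trace A B y = 0 := (bK 0).2
  have hgen : ∀ z : B, Algebra.trace A B z = 0 → ∃ c : A, z = c • y := by
    intro z hz
    refine ⟨bK.repr ⟨z, hz⟩ 0, ?_⟩
    have h1 := bK.sum_repr ⟨z, hz⟩
    rw [Fin.sum_univ_one] at h1
    have h2 := congrArg Subtype.val h1
    simpa using h2.symm
  have hfree : ∀ c : A, c • y = 0 → c = 0 := by
    intro c hc
    have h1 : c • bK 0 = 0 := Subtype.ext (by simpa using hc)
    have h2 := congrArg (fun t => bK.repr t 0) h1
    simpa using h2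
  have hdec : ∀ b : B, ∃ a c : A, b = algebraMap A B a + c • y := by
    intro b
    obtain ⟨c, hc⟩ := hgen (b - algebraMap A B ((↑u⁻¹ : A) * Algebra.trace A B b)) (by
      rw [map_sub, htr1, ← mul_assoc, hu2, one_mul, sub_self])
    exact ⟨_, c, by rw [← hc]; ring⟩
  -- basis {1, y}
  have hli : LinearIndependent A ![(1 : B), y] := by
    rw [LinearIndependent.pair_iff]
    intro s t hst
    have h1' : Algebra.trace A B (s • (1 : B)) = 0 := by
      have := congrArg (Algebra.trace A B) hst
      rw [map_add, map_smul _ t, hy0, smul_zero, add_zero, map_zero] at this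
      exact this
    rw [← Algebra.algebraMap_eq_smul_one, htr1] at h1'
    have hs : s = 0 := by
      calc s = (↑u⁻¹ * 2) * s := by rw [hu1, one_mul]
        _ = ↑u⁻¹ * (2 * s) := by ring
        _ = 0 := by rw [h1', mul_zero]
    refine ⟨hs, ?_⟩
    rw [hs, zero_smul, zero_add] at hst
    exact hfree t hst
  have hsp : ⊤ ≤ Submodule.span A (Set.range ![(1 : B), y]) := by
    rintro b -
    obtain ⟨a, c, rfl⟩ := hdec b
    refine Submodule.add_mem _ ?_ ?_
    · rw [Algebra.algebraMap_eq_smul_one]
      exact Submodule.smul_mem _ _ (Submodule.subset_span ⟨0, rfl⟩)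
    · exact Submodule.smul_mem _ _ (Submodule.subset_span ⟨1, rfl⟩)
  let b2 : Module.Basis (Fin 2) A B := Module.Basis.mk hli hsp
  have hb0 : b2 0 = 1 := by simp [b2]
  have hb1 : b2 1 = y := by simp [b2]
  -- y * y ∈ A
  have hy2 : ∃ α : A, y * y = algebraMap A B α := by
    obtain ⟨α, β, hαβ⟩ := hdec (y * y)
    have h1 := Algebra.trace_eq_matrix_trace b2 y
    rw [Matrix.trace_fin_two, Algebra.leftMulMatrix_eq_repr_mul, Algebra.leftMulMatrix_eq_repr_mul,
      hb0, hb1, mul_one, hy0, hαβ] at h1
    have h2 : b2.repr y 0 = 0 := by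
      rw [← hb1, b2.repr_self]; simp
    have h3 : b2.repr (algebraMap A B α + β • y) 1 = β := by
      rw [Algebra.algebraMap_eq_smul_one, ← hb0, ← hb1]
      simp
    rw [h2, h3, zero_add] at h1
    refine ⟨α, ?_⟩
    rw [hαβ, ← h1, zero_smul, add_zero]
  obtain ⟨α, hα⟩ := hy2
  let f : B →ₗ[A] B := (Algebra.linearMap A B) ∘ₗ (Algebra.trace A B) - LinearMap.id
  have hf : ∀ b, f b = algebraMap A B (Algebra.trace A B b) - b := fun b => rfl
  have hfd : ∀ a c : A, f (algebraMap A B a + c • y) = algebraMap A B a - c • y := by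
    intro a c
    rw [hf, map_add, map_smul, hy0, smul_zero, add_zero, htr1, map_mul]
    have : algebraMap A B 2 = 2 := map_ofNat _ 2
    rw [this]
    ring
  let σ : B →ₐ[A] B := AlgHom.ofLinearMap f
    (by
      have := hfd 1 0
      simpa using this)
    (by
      intro b b'
      obtain ⟨a, c, rfl⟩ := hdec b
      obtain ⟨a', c', rfl⟩ := hdec b'
      have hprod : (algebraMap A B a + c • y) * (algebraMap A B a' + c' • y) =
          algebraMap A B (a * a' + c * c' * α) + (a * c' + a' * c) • y := by
        simp only [map_add, map_mul, Algebra.smul_def, ← hα]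
        ring
      rw [hprod, hfd, hfd, hfd]
      simp only [map_add, map_mul, Algebra.smul_def, ← hα]
      ring)
  have hσ : ∀ b, σ b = algebraMap A B (Algebra.trace A B b) - b := fun b => rfl
  refine ⟨σ, hσ, ?_, ?_, ?_⟩
  · intro hid
    have h1 : σ y = y := by rw [hid]; rfl
    rw [hσ, hy0, map_zero, zero_sub] at h1
    have h2 : (2 : A) • y = 0 := by
      rw [two_smul]
      calc y + y = y + -y := by rw [h1]
        _ = 0 := add_neg_cancel y
    have := hfree 2 h2
    rw [this, mul_zero] at hu1
    exact zero_ne_one hu1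
  · apply AlgHom.ext
    intro b
    show σ (σ b) = b
    rw [hσ, hσ, map_sub, htr1, map_sub, map_mul]
    have : algebraMap A B 2 = 2 := map_ofNat _ 2
    rw [this]
    ring
  · intro b
    constructor
    · intro h
      rw [hσ] at h
      refine ⟨(↑u⁻¹ : A) * Algebra.trace A B b, ?_⟩
      have h1 : algebraMap A B (Algebra.trace A B b) = 2 * b := by
        rw [two_mul]
        calc algebraMap A B (Algebra.trace A B b) =
            (algebraMap A B (Algebra.trace A B b) - b) + b := by ring
          _ = b + b := by rw [h]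
      rw [map_mul, h1, ← mul_assoc]
      have : algebraMap A B (↑u⁻¹ : A) * 2 = 1 := by
        have := congrArg (algebraMap A B) hu1
        rw [map_mul, map_one, map_ofNat] at this
        exact this
      rw [this, one_mul]
    · rintro ⟨a, rfl⟩
      rw [hσ, htr1, map_mul]
      have : algebraMap A B 2 = 2 := map_ofNat _ 2
      rw [this]
      ring

end Groth.Agent.S18887
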