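import Groth.Statements.S18888
import Mathlib.RingTheory.Polynomial.RationalRoot
import Mathlib.RingTheory.Localization.NumDen
import Mathlib.LinearAlgebra.FiniteDimensional.Lemmas
import Mathlib.RingTheory.IntegralClosure.IntegrallyClosed
import Mathlib.Tactic

set_option autoImplicit false
universe u v w
open CAlg

namespace Groth.Agent.S18888

/-- Let A be a unique factorisation domain in which 2 is invertible, with fraction field K, and let L ⊇
K be a quadratic extension field (of degree 2 over K) containing an element y ∉ K whose square is a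
squarefree element d of A. Then the integral closure of A in L equals the A-subalgebra A[y]
generated by y. -/
theorem result {A : Type u} {K : Type v} {L : Type w}
    [CommRing A] [IsDomain A] [UniqueFactorizationMonoid A] [Field K] [Algebra A K] [IsFractionRing A K]
    [Field L] [Algebra K L] [Algebra A L] [IsScalarTower A K L]
    (h2 : IsUnit (2 : A)) (hL : Module.finrank K L = 2)
    (d : A) (hd : Squarefree d) (y : L) (hy : y * y = algebraMap A L d)
    (hyK : y ∉ Set.range (algebraMap K L)) :
    integralClosure A L = Algebra.adjoin A {y} := by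
  classical
  haveI : IsIntegrallyClosed A := inferInstance
  have hfd : FiniteDimensional K L := FiniteDimensional.of_finrank_pos (by rw [hL]; norm_num)
  have hinjKL : Function.Injective (algebraMap K L) := (algebraMap K L).injective
  have hinjAK : Function.Injective (algebraMap A K) := IsFractionRing.injective A K
  have hli : LinearIndependent K ![(1 : L), y] := by
    rw [LinearIndependent.pair_iff' one_ne_zero]
    intro a ha
    apply hyK
    exact ⟨a, by rw [← ha, Algebra.smul_def, mul_one]⟩
  let b : Module.Basis (Fin 2) K L :=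
    basisOfLinearIndependentOfCardEqFinrank hli (by simp [hL])
  have hb0 : b 0 = 1 := by simp [b]
  have hb1 : b 1 = y := by simp [b]
  let σ : L →ₗ[K] L := b.constr K ![(1 : L), -y]
  have hσ0 : σ 1 = 1 := by
    have := b.constr_basis K ![(1 : L), -y] 0
    rw [hb0] at this
    exact this.trans (by simp)
  have hσ1 : σ y = -y := by
    have := b.constr_basis K ![(1 : L), -y] 1
    rw [hb1] at this
    exact this.trans (by simp)
  have hyd : y * y = algebraMap K L (algebraMap A K d) := by
    rw [hy, IsScalarTower.algebraMap_apply A K L]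
  have hσd : ∀ c : K, σ (algebraMap K L c) = algebraMap K L c := by
    intro c
    rw [Algebra.algebraMap_eq_smul_one, map_smul, hσ0]
  have hmul : ∀ u v, σ (u * v) = σ u * σ v := by
    have h : (LinearMap.mul K L).compr₂ σ = (LinearMap.mul K L).compl₁₂ σ σ := by
      apply b.ext
      intro i
      apply b.ext
      intro j
      fin_cases i <;> fin_cases j
      · simp [hb0, hσ0]
      · simp [hb0, hb1, hσ0, hσ1]
      · simp [hb0, hb1, hσ0, hσ1]
      · simp only [Fin.mk_one, Fin.isValue, LinearMap.compr₂_apply, LinearMap.mul_apply', hb1,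
          LinearMap.compl₁₂_apply, hσ1, neg_mul_neg]
        rw [hyd, hσd]
    intro u v
    exact LinearMap.congr_fun (LinearMap.congr_fun h u) v
  let σ' : L →ₐ[K] L := AlgHom.ofLinearMap σ hσ0 hmul
  apply le_antisymm
  · intro z hz
    have hz' : IsIntegral A z := hz
    set α : K := b.repr z 0 with hα
    set β : K := b.repr z 1 with hβ
    have hzd : z = algebraMap K L α + β • y := by
      conv_lhs => rw [← b.sum_repr z, Fin.sum_univ_two, hb0, hb1]
      rw [Algebra.algebraMap_eq_smul_one]
    have hσz : σ z = algebraMap K L α - β • y := by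
      rw [hzd, map_add, hσd, map_smul, hσ1, smul_neg, sub_eq_add_neg]
    have hσint : IsIntegral A (σ z) := IsIntegral.map σ' hz'
    -- trace
    have h2α : IsIntegral A (algebraMap K L (2 * α)) := by
      have h1 := hz'.add hσint
      have h2 : z + σ z = algebraMap K L (2 * α) := by
        rw [hσz, hzd, map_mul, map_ofNat]; ring
      rwa [h2] at h1
    rw [isIntegral_algebraMap_iff hinjKL] at h2α
    obtain ⟨a2, ha2⟩ := IsIntegrallyClosed.isIntegral_iff.1 h2α
    obtain ⟨t, ht⟩ := h2.unit⁻¹.isUnit
    have hα' : α = algebraMap A K (↑(h2.unit⁻¹) * a2) := by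
      rw [map_mul, ha2, ← mul_assoc]
      have : algebraMap A K (↑(h2.unit⁻¹)) * 2 = 1 := by
        rw [← map_ofNat (algebraMap A K) 2, ← map_mul]
        have : (↑(h2.unit⁻¹) : A) * 2 = 1 := by
          have := h2.unit.inv_mul
          simpa using this
        rw [this, map_one]
      rw [this, one_mul]
    -- β y integral
    have hβy : IsIntegral A (β • y) := by
      have h1 : β • y = z - algebraMap K L α := by rw [hzd]; ring
      rw [h1, hα', ← IsScalarTower.algebraMap_apply A K L]
      exact hz'.sub isIntegral_algebraMap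
    have hβ2 : IsIntegral A (algebraMap K L (β ^ 2 * algebraMap A K d)) := by
      have h1 := hβy.pow 2
      have h2 : (β • y) ^ 2 = algebraMap K L (β ^ 2 * algebraMap A K d) := by
        rw [map_mul, ← hyd, Algebra.smul_def, map_pow]; ring
      rwa [h2] at h1
    rw [isIntegral_algebraMap_iff hinjKL] at hβ2
    obtain ⟨c, hc⟩ := IsIntegrallyClosed.isIntegral_iff.1 hβ2
    obtain ⟨r, s, hrs, hβrs⟩ := IsFractionRing.exists_reduced_fraction (A := A) (K := K) β
    have hs0 : algebraMap A K (s : A) ≠ 0 := by
      intro h0
      exact nonZeroDivisors.ne_zero s.2 (hinjAK (by rw [h0, map_zero]))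
    have hβs : β * algebraMap A K (s : A) = algebraMap A K r := by
      rw [← hβrs, IsLocalization.mk'_spec]
    have hcs : c * (s : A) ^ 2 = r ^ 2 * d := by
      apply hinjAK
      rw [map_mul, map_mul, map_pow, map_pow, hc, ← hβs]; ring
    have hdvd : (s : A) ^ 2 ∣ d := by
      have h1 : (s : A) ^ 2 ∣ r ^ 2 * d := ⟨c, by rw [← hcs]; ring⟩
      have h2 : IsRelPrime ((s : A) ^ 2) (r ^ 2) := (hrs.symm.pow_left).pow_right
      exact h2.dvd_of_dvd_mul_left h1
    have hsu : IsUnit (s : A) := hd _ (by rw [← pow_two]; exact hdvd)
    obtain ⟨su, hsu'⟩ := hsu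
    have hβ' : β = algebraMap A K (r * ↑su⁻¹) := by
      rw [map_mul, ← hβs, ← hsu', mul_assoc, ← map_mul, Units.mul_inv, map_one, mul_one]
    rw [hzd, hα', hβ', ← IsScalarTower.algebraMap_apply A K L, Algebra.smul_def,
      ← IsScalarTower.algebraMap_apply A K L]
    exact Subalgebra.add_mem _ (Subalgebra.algebraMap_mem _ _)
      (Subalgebra.mul_mem _ (Subalgebra.algebraMap_mem _ _) (Algebra.subset_adjoin rfl))
  · rw [Algebra.adjoin_le_iff]
    intro x hx
    rw [Set.mem_singleton_iff] at hx
    rw [hx]
    show IsIntegral A y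
    refine ⟨Polynomial.X ^ 2 - Polynomial.C d, Polynomial.monic_X_pow_sub_C d (by norm_num), ?_⟩
    simp [pow_two, hy]

end Groth.Agent.S18888
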