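import Groth.Statements.S18890
-- import your own Groth.Agent.* helpers here

set_option autoImplicit false
universe u v w w'
open CAlg

namespace Groth.Agent.S18890

/-- Let R be a commutative ring, G a finite group whose order is invertible in R, M an R-module with an
R-linear action ρ of G and N an arbitrary R-module. Then the natural map M^G ⊗_R N → M ⊗_R N induced
by the inclusion of the invariants is injective, and its image is the submodule of invariants of M
⊗_R N under the action ρ ⊗ 1 (G acting on the first factor). (The source lets G be a group of
R-automorphisms of M; a possibly non-faithful linear action changes nothing.) -/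
theorem result {R : Type u} [CommRing R]
    {G : Type v} [Group G] [Finite G] (hG : IsUnit ((Nat.card G : ℕ) : R))
    {M : Type w} {N : Type w'} [AddCommGroup M] [Module R M] [AddCommGroup N] [Module R N]
    (ρ : Representation R G M) :
    Function.Injective (LinearMap.rTensor N ρ.invariants.subtype) ∧
      LinearMap.range (LinearMap.rTensor N ρ.invariants.subtype) =
        (ρ.tprod (Representation.trivial R G N)).invariants := by
  classical
  haveI : Fintype G := Fintype.ofFinite G
  obtain ⟨cu, hcu⟩ := hG
  have hc : (↑cu⁻¹ : R) * (Fintype.card G : R) = 1 := by
    rw [← Nat.card_eq_fintype_card, ← hcu, Units.inv_mul]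
  let e : M →ₗ[R] M := (↑cu⁻¹ : R) • ∑ g : G, ρ g
  have he_inv : ∀ m, e m ∈ ρ.invariants := by
    intro m h
    simp only [e, LinearMap.smul_apply, LinearMap.sum_apply, map_smul, map_sum]
    congr 1
    rw [← Fintype.sum_equiv (Equiv.mulLeft h) (fun g => ρ (h * g) m) (fun g => ρ g m)
      (fun g => by simp)]
    exact Finset.sum_congr rfl fun g _ => by rw [map_mul]; rfl
  have he_id : ∀ m ∈ ρ.invariants, e m = m := by
    intro m hm
    simp only [e, LinearMap.smul_apply, LinearMap.sum_apply]
    rw [Finset.sum_congr rfl (fun g _ => hm g), Finset.sum_const, Finset.card_univ,
      ← Nat.cast_smul_eq_nsmul R, smul_smul, hc, one_smul]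
  let e' : M →ₗ[R] ρ.invariants := e.codRestrict ρ.invariants he_inv
  have hcomp : e'.comp ρ.invariants.subtype = LinearMap.id := by
    apply LinearMap.ext
    intro m
    apply Subtype.ext
    exact he_id m.1 m.2
  have hcomp2 : ρ.invariants.subtype.comp e' = e := by
    apply LinearMap.ext
    intro m
    rfl
  constructor
  · have : (LinearMap.rTensor N e').comp (LinearMap.rTensor N ρ.invariants.subtype) =
        LinearMap.id := by
      rw [← LinearMap.rTensor_comp, hcomp, LinearMap.rTensor_id]
    exact Function.LeftInverse.injective (g := LinearMap.rTensor N e')
      (fun z => by rw [← LinearMap.comp_apply, this, LinearMap.id_apply])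
  · apply le_antisymm
    · rintro _ ⟨z, rfl⟩ g
      rw [Representation.tprod_apply]
      have h1 : (TensorProduct.map (ρ g) (Representation.trivial R G N g)).comp
          (LinearMap.rTensor N ρ.invariants.subtype) = LinearMap.rTensor N ρ.invariants.subtype := by
        apply TensorProduct.ext'
        intro m n
        simp only [LinearMap.comp_apply, LinearMap.rTensor_tmul, TensorProduct.map_tmul,
          Submodule.subtype_apply, Representation.trivial_apply]
        rw [m.2 g]
      rw [← LinearMap.comp_apply, h1]
    · intro z hz
      have hz' : ∀ g : G, LinearMap.rTensor N (ρ g) z = z := by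
        intro g
        have := hz g
        rw [Representation.tprod_apply] at this
        have h2 : TensorProduct.map (ρ g) (Representation.trivial R G N g) =
            LinearMap.rTensor N (ρ g) := by
          apply TensorProduct.ext'
          intro m n
          simp [Representation.trivial_apply]
        rwa [h2] at this
      have h3 : LinearMap.rTensor N e z = z := by
        have : LinearMap.rTensor N e = (↑cu⁻¹ : R) • ∑ g : G, LinearMap.rTensor N (ρ g) := by
          simp only [e, ← LinearMap.coe_rTensorHom, map_smul, map_sum]
        rw [this, LinearMap.smul_apply, LinearMap.sum_apply,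
          Finset.sum_congr rfl (fun g _ => hz' g), Finset.sum_const, Finset.card_univ,
          ← Nat.cast_smul_eq_nsmul R, smul_smul, hc, one_smul]
      refine ⟨LinearMap.rTensor N e' z, ?_⟩
      rw [← LinearMap.comp_apply, ← LinearMap.rTensor_comp, hcomp2, h3]

end Groth.Agent.S18890
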