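import Groth.Statements.S18895
import Groth.Agent.Lib.Helper8.Descend
import Groth.Agent.Lib.Helper8.H0Field
import Groth.Agent.Lib.helper19.RegularLocal
import Groth.Agent.S1535
import Groth.Agent.S1564

set_option autoImplicit false
universe u
open CategoryTheory CategoryTheory.Limits AlgebraicGeometry
open Curves

namespace Groth.Agent.S18895

/-- Let k be an algebraically closed field of characteristic different from 2 (the standing convention
of the section; it plays no role here) and X a connected smooth proper curve over k of genus dim_k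
H¹(X, O_X) ≥ 1. For every invertible O_X-module L of positive degree one has dim_k H⁰(X, L) ≤ deg L. -/
theorem result (k : Type u) [Field k] [IsAlgClosed k] (h2 : (2 : k) ≠ 0)
    (X : Scheme.{u}) [X.Over (Spec (CommRingCat.of k))]
    [IsProper (X ↘ Spec (CommRingCat.of k))] [Smooth (X ↘ Spec (CommRingCat.of k))] [ConnectedSpace ↥X]
    (hX : topologicalKrullDim ↥X = 1) (hg : 1 ≤ Curv2.genus k X)
    (L : X.Modules) (hL : PicF.IsInvertible L) (hdeg : 0 < Curv2.deg k X L 1) :
    (Module.finrank k (Coh.HH X L 0) : ℤ) ≤ Curv2.deg k X L 1 := by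
  haveI : IsLocallyNoetherian X := Groth.Agent.Lib.Helper8.EulerK.isLocallyNoetherian k X
  haveI : CompactSpace X := QuasiCompact.compactSpace_of_compactSpace (X ↘ Spec (CommRingCat.of k))
  haveI : IsNoetherian X := {}
  haveI : IsIntegral X := Groth.Agent.Lib.Helper8.NormalPt.isIntegral_of_connected (fun x => by
    haveI := Groth.Agent.S1535.result k X x
    exact Groth.Agent.Lib.helper19.isDomain_of_isRegularLocalRing _)
  obtain ⟨⟨M, hM, a0, -⟩, -⟩ := Groth.Agent.Lib.Helper8.Descend.exists_h0_h1 k X hX
  have hO0 := Groth.Agent.Lib.Helper8.H0Field.finrank_H0_eq_one (X := X) (k := k) M 0 a0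
  have hLc := Groth.Agent.Lib.Helper6.K0Op.isCoh_of_isInvertible L hL
  haveI := Groth.Agent.Lib.Helper8.EulerK.finite_HH k X _ hLc 0
  by_cases hs : Nontrivial (Coh.HH X L 0)
  · obtain ⟨h1, h2⟩ := Groth.Agent.S1564.result k X hX hO0 L hL hs
    by_contra hlt
    have heq : (Module.finrank k (Coh.HH X L 0) : ℤ) = Curv2.deg k X L 1 + 1 := by omega
    have := h2 heq hdeg
    omega
  · rw [not_nontrivial_iff_subsingleton] at hs
    rw [Module.finrank_zero_of_subsingleton]
    push_cast
    exact hdeg.le

end Groth.Agent.S18895
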