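import Groth.Statements.S18899
import Mathlib
-- import your own Groth.Agent.* helpers here

set_option autoImplicit false
universe u v w
open CAlg

namespace Groth.Agent.S18899


theorem pointwise {A : Type*} [CommRing A] {G : Type*} [Group G] [Finite G]
    [MulSemiringAction G A] {K : Type*} [Field K] (f₁ f₂ : A →+* K)
    (h : ∀ a : A, (∀ g : G, g • a = a) → f₁ a = f₂ a) (a : A) :
    ∃ g : G, f₂ a = f₁ (g • a) := by
  classical
  haveI := Fintype.ofFinite G
  have hmap : (prodXSubSMul G A a).map f₁ = (prodXSubSMul G A a).map f₂ := by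
    ext n
    rw [Polynomial.coeff_map, Polynomial.coeff_map]
    exact h _ (fun g => prodXSubSMul.coeff G A a g n)
  have h0 : ((prodXSubSMul G A a).map f₂).eval (f₂ a) = 0 := by
    rw [Polynomial.eval_map, Polynomial.eval₂_at_apply, prodXSubSMul.eval, map_zero]
  rw [← hmap] at h0
  simp only [prodXSubSMul, Polynomial.map_prod, Polynomial.eval_prod, Polynomial.map_sub,
    Polynomial.map_X, Polynomial.map_C, Polynomial.eval_sub, Polynomial.eval_X,
    Polynomial.eval_C] at h0
  obtain ⟨q, -, hq⟩ := Finset.prod_eq_zero_iff.mp h0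
  induction q using QuotientGroup.induction_on with
  | H g =>
    refine ⟨g, ?_⟩
    rw [sub_eq_zero] at hq
    simpa [MulAction.ofQuotientStabilizer_mk] using hq

/-- Let A be a commutative ring on which a finite group G acts by ring automorphisms, with ring of
invariants A^G, and let K be a field. If two ring homomorphisms f₁, f₂ : A → K have the same
restriction to A^G, then f₂ = f₁ ∘ γ for some γ ∈ G. -/
theorem result {A : Type u} [CommRing A] {G : Type v} [Group G] [Finite G]
    [MulSemiringAction G A] {K : Type w} [Field K] (f₁ f₂ : A →+* K)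
    (h : ∀ a : A, (∀ g : G, g • a = a) → f₁ a = f₂ a) :
    ∃ γ : G, ∀ a : A, f₂ a = f₁ (γ • a) := by
  classical
  by_contra hcon
  push_neg at hcon
  choose a ha using hcon
  haveI := Fintype.ofFinite G
  let e : G ≃ Fin (Fintype.card G) := Fintype.equivFin G
  let b : Polynomial A := ∑ g : G, Polynomial.C (a g) * Polynomial.X ^ (e g : ℕ)
  have hcoeff : ∀ g, b.coeff (e g) = a g := by
    intro g
    simp only [b, Polynomial.finset_sum_coeff, Polynomial.coeff_C_mul, Polynomial.coeff_X_pow]
    rw [Finset.sum_eq_single g]
    · simp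
    · intro g' _ hg'
      have : ((e g : ℕ)) ≠ (e g' : ℕ) := by
        intro hh
        exact hg' (e.injective (Fin.ext hh)).symm
      simp [this]
    · intro hg; exact absurd (Finset.mem_univ g) hg
  let F₁ : Polynomial A →+* RatFunc K :=
    (algebraMap (Polynomial K) (RatFunc K)).comp (Polynomial.mapRingHom f₁)
  let F₂ : Polynomial A →+* RatFunc K :=
    (algebraMap (Polynomial K) (RatFunc K)).comp (Polynomial.mapRingHom f₂)
  have hF : ∀ c : Polynomial A, (∀ g : G, g • c = c) → F₁ c = F₂ c := by
    intro c hc
    simp only [F₁, F₂, RingHom.comp_apply]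
    congr 1
    ext n
    simp only [Polynomial.coe_mapRingHom, Polynomial.coeff_map]
    apply h
    intro g
    rw [← Polynomial.coeff_smul, hc]
  obtain ⟨γ, hγ⟩ := pointwise F₁ F₂ hF b
  have hinj : Function.Injective (algebraMap (Polynomial K) (RatFunc K)) :=
    IsFractionRing.injective (Polynomial K) (RatFunc K)
  have h1 : Polynomial.map f₂ b = Polynomial.map f₁ (γ • b) := hinj hγ
  have h2 := congrArg (fun q => q.coeff (e γ)) h1
  simp only [Polynomial.coeff_map, Polynomial.coeff_smul, hcoeff] at h2
  exact ha γ h2

end Groth.Agent.S18899
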