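import Groth.Statements.S18900
import Groth.Agent.Lib.Helper29.DblCovCov
import Groth.Agent.Lib.Helper29.DblCovQuot

set_option autoImplicit false
universe u
open CategoryTheory CategoryTheory.Limits AlgebraicGeometry
open DblCov

namespace Groth.Agent.S18900



section Helpers

open Groth.Agent.Lib.Helper29.DblCov

variable {X Y : Scheme.{u}} {f : X ⟶ Y} [IsAffineHom f]
  (hcov : ∀ y : Y, ∃ V : Y.Opens, Good f V ∧ y ∈ V)

/-- the involution as an automorphism -/
noncomputable def sigmaAut : Aut X :=
  ⟨sigma hcov, sigma hcov, sigma_sigma hcov, sigma_sigma hcov⟩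

lemma sigmaAut_mul : sigmaAut hcov * sigmaAut hcov = 1 := by
  apply Iso.ext
  exact sigma_sigma hcov

lemma zpowers_le_stab : Subgroup.zpowers (sigmaAut hcov) ≤ stab f :=
  Subgroup.zpowers_le.2 (sigma_comp hcov)

theorem isQuot_sigma (h2 : IsUnit (2 : Γ(Y, ⊤))) :
    SGA1.IsQuot (Subgroup.zpowers (sigmaAut hcov)).subtype f where
  affine := inferInstance
  inv g := zpowers_le_stab hcov g.2
  injective U := app_injective hcov U
  range_iff U s := by
    constructor
    · rintro ⟨t, rfl⟩ g
      exact appLE_app_of_comp_eq _ (zpowers_le_stab hcov g.2) U _ t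
    · intro h
      exact mem_range_of_fixed hcov h2 U s
        (h ⟨sigmaAut hcov, Subgroup.mem_zpowers _⟩)

end Helpers

/-- Let f : X → Y be a double cover, i.e. a finite, flat, locally finitely presented morphism of rank 2
at every point, and assume 2 is invertible in O_Y(Y). Then X carries a Y-automorphism σ with σ ∘ σ =
id such that f is the quotient of X by the group generated by σ: f is affine and σ-invariant, and
over every open subset of Y the sections of O_Y are exactly the σ-invariant sections of O_X. (The
source adds that σ has order exactly 2, which holds as soon as X is non-empty.) -/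
theorem result {X Y : Scheme.{u}} (f : X ⟶ Y)
    [IsFinite f] [Flat f] [LocallyOfFinitePresentation f] (hrk : ∀ y : Y, f.finrank y = 2)
    (h2 : IsUnit (2 : Γ(Y, ⊤))) :
    ∃ σ : Aut X, σ.hom ≫ f = f ∧ σ * σ = 1 ∧ SGA1.IsQuot (Subgroup.zpowers σ).subtype f := by
  have hcov := Groth.Agent.Lib.Helper29.DblCov.exists_good f hrk
  exact ⟨sigmaAut hcov, Groth.Agent.Lib.Helper29.DblCov.sigma_comp hcov, sigmaAut_mul hcov,
    isQuot_sigma hcov h2⟩



end Groth.Agent.S18900
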