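import Groth.Statements.S3855
import Mathlib

set_option autoImplicit false
universe u
open FCompl

namespace Groth.Agent.S3855


open AlgebraicGeometry CategoryTheory in
/-- The kernel of `Γ(Spec ψ)` on global sections. -/
theorem ker_appTop_SpecMap {R R' : Type u} [CommRing R] [CommRing R'] (ψ : R →+* R') :
    RingHom.ker (Spec.map (CommRingCat.ofHom ψ)).appTop.hom =
      (RingHom.ker ψ).comap (Scheme.ΓSpecIso (CommRingCat.of R)).hom.hom := by
  ext x
  rw [Ideal.mem_comap, RingHom.mem_ker, RingHom.mem_ker]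
  have h := Scheme.ΓSpecIso_naturality (CommRingCat.ofHom ψ)
  have h2 := congrArg (fun f => f.hom x) h
  have h3 : (Scheme.ΓSpecIso (CommRingCat.of R')).hom.hom
      ((Spec.map (CommRingCat.ofHom ψ)).appTop.hom x) =
      ψ ((Scheme.ΓSpecIso (CommRingCat.of R)).hom.hom x) := h2
  rw [← h3]
  have hinj := (ConcreteCategory.bijective_of_isIso
    (Scheme.ΓSpecIso (CommRingCat.of R')).hom).1
  constructor
  · intro hx
    rw [hx, map_zero]
  · intro hx
    apply hinj
    rw [hx]
    exact (map_zero _).symm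

open AlgebraicGeometry CategoryTheory in
/-- The kernel ideal sheaf of `Spec ψ`. -/
theorem ker_SpecMap {R R' : Type u} [CommRing R] [CommRing R'] (ψ : R →+* R') :
    (Spec.map (CommRingCat.ofHom ψ)).ker =
      Scheme.IdealSheafData.ofIdealTop
        ((RingHom.ker ψ).comap (Scheme.ΓSpecIso (CommRingCat.of R)).hom.hom) := by
  rw [Scheme.ker_of_isAffine, ker_appTop_SpecMap]

open AlgebraicGeometry CategoryTheory in
theorem ofIdealTop_pow {X : Scheme.{u}} [IsAffine X] (I : Ideal Γ(X, ⊤)) (k : ℕ) :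
    Scheme.IdealSheafData.ofIdealTop (I ^ k) = (Scheme.IdealSheafData.ofIdealTop I) ^ k := by
  have := map_pow (Scheme.IdealSheafData.equivOfIsAffine (X := X)).symm I k
  exact this

open AlgebraicGeometry CategoryTheory in
theorem comap_iso_pow {R : Type u} [CommRing R] (K : Ideal R) (k : ℕ) :
    (K ^ k).comap (Scheme.ΓSpecIso (CommRingCat.of R)).hom.hom =
      (K.comap (Scheme.ΓSpecIso (CommRingCat.of R)).hom.hom) ^ k := by
  let e : Γ(Spec (CommRingCat.of R), ⊤) ≃+* R :=
    (Scheme.ΓSpecIso (CommRingCat.of R)).commRingCatIsoToRingEquiv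
  have h1 : ∀ L : Ideal R, L.comap (Scheme.ΓSpecIso (CommRingCat.of R)).hom.hom =
      L.map (e.symm : R →+* Γ(Spec (CommRingCat.of R), ⊤)) := by
    intro L
    exact (Ideal.map_symm (I := L) e).symm
  rw [h1, h1, Ideal.map_pow]

open AlgebraicGeometry CategoryTheory in
theorem spf_toX (A : Type u) [CommRing A] (J : Ideal A) (n : ℕ) :
    (FSch.spf A J).toX n = Spec.map (CommRingCat.ofHom
      (Ideal.Quotient.factor (Ideal.pow_le_pow_right (Nat.succ_le_succ (Nat.zero_le n))) :
        A ⧸ J ^ (n + 1) →+* A ⧸ J ^ (0 + 1))) := by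
  induction n with
  | zero =>
    change 𝟙 _ = _
    have : (Ideal.Quotient.factor (Ideal.pow_le_pow_right (Nat.succ_le_succ (Nat.zero_le 0))) :
        A ⧸ J ^ (0 + 1) →+* A ⧸ J ^ (0 + 1)) = RingHom.id _ := by
      apply Ideal.Quotient.ringHom_ext
      ext a
      rfl
    rw [this, CommRingCat.ofHom_id]
    exact (Spec.map_id _).symm
  | succ n ih =>
    change (FSch.spf A J).toX n ≫ CohB1.specQuotTrans J n = _
    rw [ih, CohB1.specQuotTrans]
    refine (Spec.map_comp _ _).symm.trans ?_
    rw [← CommRingCat.ofHom_comp]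
    congr 2
    apply Ideal.Quotient.ringHom_ext
    ext a
    rfl

open AlgebraicGeometry CategoryTheory in
theorem adic_aux (A : Type u) [CommRing A] (J : Ideal A) (n : ℕ) :
    (Spec.map (CommRingCat.ofHom
      (Ideal.Quotient.factor (Ideal.pow_le_pow_right (Nat.le_succ (n + 1))) :
        A ⧸ J ^ (n + 2) →+* A ⧸ J ^ (n + 1)))).ker =
    (Spec.map (CommRingCat.ofHom
      (Ideal.Quotient.factor (Ideal.pow_le_pow_right (Nat.succ_le_succ (Nat.zero_le (n + 1)))) :
        A ⧸ J ^ (n + 1 + 1) →+* A ⧸ J ^ (0 + 1)))).ker ^ (n + 1) := by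
  rw [ker_SpecMap, ker_SpecMap, ← ofIdealTop_pow, ← comap_iso_pow]
  congr 2
  rw [Ideal.Quotient.factor_ker, Ideal.Quotient.factor_ker, ← Ideal.map_pow, ← pow_mul]
  congr 2
  ring

open AlgebraicGeometry in
/-- Sufficiency (the formal spectrum presented as the system Spec(A/J) -> Spec(A/J^2) -> ...). For a
Noetherian ring A and an ideal J this system is a locally Noetherian adic formal system: the
transition maps are surjective closed immersions, the kernel ideal of Spec(A/J^(n+1)) ->
Spec(A/J^(n+2)) is the (n+1)-st power of that of Spec(A/J) -> Spec(A/J^(n+2)), and every level is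
locally Noetherian. -/
theorem result (A : Type u) [CommRing A] [IsNoetherianRing A] (J : Ideal A) :
    (FSch.spf A J).IsLocNoethFormal := by
  refine ⟨fun n => ⟨?_, ?_⟩, fun n => ?_, fun n => ?_⟩
  · exact IsClosedImmersion.spec_of_surjective _
      (Ideal.Quotient.factor_surjective (Ideal.pow_le_pow_right (Nat.le_succ (n + 1))))
  · -- surjective on points: nilpotent kernel
    change Function.Surjective (Spec.map (CommRingCat.ofHom
      (Ideal.Quotient.factor (Ideal.pow_le_pow_right (Nat.le_succ (n + 1))) :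
        A ⧸ J ^ (n + 2) →+* A ⧸ J ^ (n + 1)))).base
    intro y
    have h1 : Set.range (PrimeSpectrum.comap
        (Ideal.Quotient.factor (Ideal.pow_le_pow_right (Nat.le_succ (n + 1))) :
        A ⧸ J ^ (n + 2) →+* A ⧸ J ^ (n + 1))) = Set.univ := by
      rw [range_comap_of_surjective _ _ (Ideal.Quotient.factor_surjective _),
        PrimeSpectrum.zeroLocus_eq_univ_iff]
      intro x hx
      change x ∈ nilradical _
      rw [mem_nilradical]
      rw [Ideal.Quotient.factor_ker] at hx
      refine ⟨n + 2, ?_⟩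
      have h2 : x ^ (n + 2) ∈ ((J ^ (n + 1)).map (Ideal.Quotient.mk (J ^ (n + 2)))) ^ (n + 2) :=
        Ideal.pow_mem_pow hx _
      rw [← Ideal.map_pow, ← pow_mul] at h2
      have h3 : (J ^ ((n + 1) * (n + 2))).map (Ideal.Quotient.mk (J ^ (n + 2))) = ⊥ := by
        rw [Ideal.map_eq_bot_iff_le_ker, Ideal.mk_ker]
        exact Ideal.pow_le_pow_right (by nlinarith)
      rw [h3] at h2
      exact h2
    have : y ∈ Set.range (PrimeSpectrum.comap
        (Ideal.Quotient.factor (Ideal.pow_le_pow_right (Nat.le_succ (n + 1))) :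
        A ⧸ J ^ (n + 2) →+* A ⧸ J ^ (n + 1))) := by rw [h1]; trivial
    obtain ⟨x, hx⟩ := this
    exact ⟨x, hx⟩
  · -- adic
    rw [spf_toX]
    exact adic_aux A J n
  · change IsLocallyNoetherian (Spec (CommRingCat.of (A ⧸ J ^ (n + 1))))
    infer_instance

end Groth.Agent.S3855
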