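import Groth.Statements.S18905
import Mathlib
import Groth.Agent.S3855

set_option autoImplicit false
universe u
open CategoryTheory CategoryTheory.Limits AlgebraicGeometry
open Mor

namespace Groth.Agent.S18905

open TrivSqZeroExt in
theorem alg_aux (k : Type u) [Field k] [IsAlgClosed k] (B : Type u) [CommRing B] [Algebra k B]
    [Algebra.FiniteType k B]
    (H : ∀ φ₁ φ₂ : B →ₐ[k] DualNumber k,
      (∀ b, (φ₁ b).fst = (φ₂ b).fst) → φ₁ = φ₂) :
    Algebra.FormallyUnramified k B := by
  have key : ∀ m : Ideal B, m.IsMaximal → (⊤ : Submodule B Ω[B⁄k]) ≤ m • ⊤ := by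
    intro m hm x _
    by_contra hx
    letI := Ideal.Quotient.field m
    haveI : Module.Finite k (B ⧸ m) := finite_of_finite_type_of_isJacobsonRing k (B ⧸ m)
    have hbij : Function.Bijective (algebraMap k (B ⧸ m)) :=
      IsAlgClosed.algebraMap_bijective_of_isIntegral
    let e : k ≃ₐ[k] B ⧸ m := AlgEquiv.ofBijective (Algebra.ofId k _) hbij
    let ev : B →ₐ[k] k := e.symm.toAlgHom.comp (Ideal.Quotient.mkₐ k m)
    have hev : ∀ b, b - algebraMap k B (ev b) ∈ m := by
      intro b
      rw [← Ideal.Quotient.eq]
      have : e (ev b) = Ideal.Quotient.mk m b := by simp [ev]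
      rw [← this]
      rfl
    let N0 : Submodule B Ω[B⁄k] := m • ⊤
    obtain ⟨ℓ, hℓx⟩ : ∃ ℓ : Module.Dual k (Ω[B⁄k] ⧸ N0), ℓ (N0.mkQ x) ≠ 0 := by
      by_contra hcon
      push Not at hcon
      have := (Module.forall_dual_apply_eq_zero_iff k (N0.mkQ x)).mp hcon
      exact hx ((Submodule.Quotient.mk_eq_zero N0).mp this)
    have hℓ : ∀ (b : B) (y : Ω[B⁄k]), ℓ (N0.mkQ (b • y)) = ev b * ℓ (N0.mkQ y) := by
      intro b y
      have h1 : b • y = (b - algebraMap k B (ev b)) • y + (ev b) • y := by
        rw [sub_smul, algebraMap_smul]; abel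
      have h2 : N0.mkQ ((b - algebraMap k B (ev b)) • y) = 0 := by
        rw [Submodule.mkQ_apply, Submodule.Quotient.mk_eq_zero]
        exact Submodule.smul_mem_smul (hev b) trivial
      rw [h1, map_add, h2, zero_add]
      have : N0.mkQ (ev b • y) = ev b • N0.mkQ y := rfl
      rw [this, map_smul, smul_eq_mul]
    let N : Submodule B Ω[B⁄k] :=
      { carrier := {y | ℓ (N0.mkQ y) = 0}
        add_mem' := fun {a b} ha hb => by
          simp only [Set.mem_setOf_eq] at ha hb ⊢
          rw [map_add, map_add, ha, hb, add_zero]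
        zero_mem' := by simp
        smul_mem' := fun b y hy => by
          simp only [Set.mem_setOf_eq] at hy ⊢
          rw [hℓ, hy, mul_zero] }
    let Dd : B → k := fun b => ℓ (N0.mkQ (KaehlerDifferential.D k B b))
    let φ₁ : B →ₐ[k] DualNumber k := (Algebra.ofId k (DualNumber k)).comp ev
    let φ₂ : B →ₐ[k] DualNumber k :=
      { toFun := fun b => inl (ev b) + inr (Dd b)
        map_one' := by
          ext <;> simp [Dd]
        map_mul' := fun a b => by
          have : Dd (a * b) = ev a * Dd b + ev b * Dd a := by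
            simp only [Dd]
            rw [Derivation.leibniz, map_add, map_add, hℓ, hℓ]
          ext
          · simp
          · simp [this]; ring
        map_zero' := by
          ext <;> simp [Dd]
        map_add' := fun a b => by
          ext
          · simp
          · simp [Dd]
        commutes' := fun c => by
          ext
          · simp [Algebra.algebraMap_eq_smul_one]
          · simp [Dd, Algebra.algebraMap_eq_smul_one] }
    have h12 := H φ₁ φ₂ (fun b => by simp [φ₁, φ₂, Algebra.ofId_apply, Algebra.algebraMap_eq_smul_one])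
    have hD : ∀ b, Dd b = 0 := by
      intro b
      have := congrArg (fun φ : B →ₐ[k] DualNumber k => (φ b).snd) h12
      simp [φ₁, φ₂, Algebra.ofId_apply, Algebra.algebraMap_eq_smul_one] at this
      exact this.symm
    have hN : (⊤ : Submodule B Ω[B⁄k]) ≤ N := by
      rw [← KaehlerDifferential.span_range_derivation, Submodule.span_le]
      rintro _ ⟨b, rfl⟩
      exact hD b
    exact hℓx (hN trivial)
  constructor
  have hann : Module.annihilator B Ω[B⁄k] = ⊤ := by
    by_contra hne
    obtain ⟨m, hm, hle⟩ := Ideal.exists_le_maximal _ hne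
    obtain ⟨r, hr1, hr0⟩ := Submodule.exists_sub_one_mem_and_smul_eq_zero_of_fg_of_le_smul m
      (⊤ : Submodule B Ω[B⁄k]) Module.Finite.fg_top (key m hm)
    have hrm : r ∈ m := hle (Module.mem_annihilator.mpr fun y => hr0 y trivial)
    have : (1 : B) ∈ m := by
      have := m.sub_mem hrm hr1
      simpa using this
    exact hm.ne_top ((Ideal.eq_top_iff_one m).mpr this)
  refine ⟨fun a b => ?_⟩
  have h1 : (1 : B) ∈ Module.annihilator B Ω[B⁄k] := hann ▸ Submodule.mem_top
  rw [Module.mem_annihilator] at h1
  rw [← one_smul B a, ← one_smul B b, h1, h1]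


/-- Let k be an algebraically closed field and X a scheme locally of finite type over k. Then X → Spec k
is formally unramified if and only if the map Hom_k(Spec k[ε], X) → Hom_k(Spec k, X) given by
restricting along the closed immersion of Spec k into Spec k[ε] (k[ε] the ring of dual numbers, ε ↦
0), is bijective; since that map is always surjective, the condition is stated as injectivity: two
k-morphisms from Spec k[ε] to X which agree on Spec k are equal. -/
theorem result (k : Type u) [Field k] [IsAlgClosed k]
    {X : Scheme.{u}} (p : X ⟶ Spec (CommRingCat.of k)) [LocallyOfFiniteType p] :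
    FormallyUnramified p ↔
      ∀ v₁ v₂ : Spec (CommRingCat.of (DualNumber k)) ⟶ X,
        v₁ ≫ p = Spec.map (CommRingCat.ofHom (algebraMap k (DualNumber k))) →
        v₂ ≫ p = Spec.map (CommRingCat.ofHom (algebraMap k (DualNumber k))) →
        Spec.map (CommRingCat.ofHom (TrivSqZeroExt.fstHom k k k).toRingHom) ≫ v₁ =
          Spec.map (CommRingCat.ofHom (TrivSqZeroExt.fstHom k k k).toRingHom) ≫ v₂ →
        v₁ = v₂ := by
  constructor
  · intro hp v₁ v₂ h₁ h₂ h12
    have hnil : IsNilpotent
        (Spec.map (CommRingCat.ofHom (TrivSqZeroExt.fstHom k k k).toRingHom)).ker := by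
      refine ⟨2, ?_⟩
      rw [Groth.Agent.S3855.ker_SpecMap, ← Groth.Agent.S3855.ofIdealTop_pow,
        ← Groth.Agent.S3855.comap_iso_pow]
      have h0 : RingHom.ker (TrivSqZeroExt.fstHom k k k).toRingHom ^ 2 = ⊥ := by
        rw [eq_bot_iff]
        intro z hz
        rw [pow_two] at hz
        refine Submodule.mul_induction_on hz ?_ ?_
        · intro a ha b hb
          rw [RingHom.mem_ker] at ha hb
          have ha' : a.fst = 0 := ha
          have hb' : b.fst = 0 := hb
          rw [Ideal.mem_bot]
          ext <;> simp [ha', hb']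
        · intro a b ha hb
          rw [Ideal.mem_bot] at ha hb ⊢
          rw [ha, hb, add_zero]
      rw [h0]
      have : Ideal.comap (Scheme.ΓSpecIso (CommRingCat.of (DualNumber k))).hom.hom ⊥ = ⊥ := by
        rw [eq_bot_iff]
        intro z hz
        rw [Ideal.mem_comap, Ideal.mem_bot] at hz
        rw [Ideal.mem_bot]
        have hinj : Function.Injective (Scheme.ΓSpecIso (CommRingCat.of (DualNumber k))).hom.hom :=
          (ConcreteCategory.bijective_of_isIso (Scheme.ΓSpecIso (CommRingCat.of (DualNumber k))).hom).1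
        exact hinj (hz.trans (map_zero _).symm)
      rw [this]
      exact map_zero (Scheme.IdealSheafData.equivOfIsAffine
        (X := Spec (CommRingCat.of (DualNumber k)))).symm
    haveI : IsClosedImmersion
        (Spec.map (CommRingCat.ofHom (TrivSqZeroExt.fstHom k k k).toRingHom)) :=
      IsClosedImmersion.spec_of_surjective _ (fun c => ⟨TrivSqZeroExt.inl c, rfl⟩)
    exact FormallyUnramified.hom_ext
      (Spec.map (CommRingCat.ofHom (TrivSqZeroExt.fstHom k k k).toRingHom)) hnil p h12
      (h₁.trans h₂.symm)
  · intro H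
    let 𝒰 := X.affineOpenCover
    refine (IsZariskiLocalAtSource.iff_of_openCover (P := @FormallyUnramified)
      𝒰.openCover).mpr fun i => ?_
    let g : Spec (𝒰.X i) ⟶ X := 𝒰.f i
    change FormallyUnramified (g ≫ p)
    have hft : LocallyOfFiniteType (g ≫ p) := inferInstance
    let ψ : CommRingCat.of k ⟶ 𝒰.X i := Spec.preimage (g ≫ p)
    have hψ : Spec.map ψ = g ≫ p := Spec.map_preimage _
    rw [← hψ] at hft ⊢
    rw [HasRingHomProperty.Spec_iff (P := @FormallyUnramified)]
    rw [HasRingHomProperty.Spec_iff (P := @LocallyOfFiniteType)] at hft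
    letI : Algebra k (𝒰.X i) := ψ.hom.toAlgebra
    haveI : Algebra.FiniteType k (𝒰.X i) := hft
    have main := alg_aux k (𝒰.X i) ?_
    · exact main
    intro φ₁ φ₂ h12
    have hv : ∀ φ : 𝒰.X i →ₐ[k] DualNumber k,
        (Spec.map (CommRingCat.ofHom φ.toRingHom) ≫ g) ≫ p =
          Spec.map (CommRingCat.ofHom (algebraMap k (DualNumber k))) := by
      intro φ
      rw [Category.assoc, ← hψ, ← Spec.map_comp]
      congr 1
      refine CommRingCat.hom_ext (RingHom.ext fun c => ?_)
      exact φ.commutes c
    have h := H _ _ (hv φ₁) (hv φ₂) ?_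
    · have h' := Spec.map_injective ((cancel_mono g).mp h)
      refine AlgHom.ext fun b => ?_
      exact congr($h' b)
    rw [← Category.assoc, ← Category.assoc, ← Spec.map_comp, ← Spec.map_comp]
    congr 2
    refine CommRingCat.hom_ext (RingHom.ext fun b => ?_)
    exact h12 b

end Groth.Agent.S18905
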