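import Groth.Statements.S18920
-- import your own Groth.Agent.* helpers here

set_option autoImplicit false
universe u
open CAlg

namespace Groth.Agent.S18920

/-- Let M be a commutative monoid, s ≥ 1, and ξ_1, …, ξ_s elements of M with ξ_i ^ (s!/i) = 1 for 1 ≤ i
≤ s (an (s!/i)-th root of unity for each i). Suppose that for every finitely supported function d on
{1, …, s} with Σ_i i · d_i = s! the product ∏_i ξ_i ^ d_i equals 1. Then ξ_1 ^ j = ξ_j for every 1 ≤
j ≤ s. (The source works with roots of unity in the complex numbers.) -/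
theorem result
    {M : Type u} [CommMonoid M] (s : ℕ) (hs : 1 ≤ s) (ξ : ℕ → M)
    (hξ : ∀ i : ℕ, 1 ≤ i → i ≤ s → ξ i ^ (s.factorial / i) = 1)
    (hprod : ∀ d : ℕ →₀ ℕ, (∀ i ∈ d.support, 1 ≤ i ∧ i ≤ s) →
      (d.sum fun i n => i * n) = s.factorial → (d.prod fun i n => ξ i ^ n) = 1)
    (j : ℕ) (hj : 1 ≤ j) (hjs : j ≤ s) :
    ξ 1 ^ j = ξ j := by
  classical
  by_cases hj1 : j = 1
  · subst hj1; rw [pow_one]
  have hdvd : j ∣ s.factorial := Nat.dvd_factorial (by omega) hjs
  obtain ⟨q, hq⟩ := hdvd
  have hqpos : 1 ≤ q := by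
    rcases Nat.eq_zero_or_pos q with h0 | h0
    · rw [h0, mul_zero] at hq
      exact absurd hq (Nat.factorial_pos s).ne'
    · exact h0
  have hdiv : s.factorial / j = q := by
    rw [hq]; exact Nat.mul_div_cancel_left q (by omega)
  let d : ℕ →₀ ℕ := Finsupp.single 1 j + Finsupp.single j (q - 1)
  have hsupp : ∀ i ∈ d.support, 1 ≤ i ∧ i ≤ s := by
    intro i hi
    have := Finsupp.support_add hi
    rcases Finset.mem_union.mp this with h | h
    · have := Finsupp.support_single_subset h
      rw [Finset.mem_singleton] at this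
      subst this; exact ⟨le_refl 1, hs⟩
    · have := Finsupp.support_single_subset h
      rw [Finset.mem_singleton] at this
      subst this; exact ⟨hj, hjs⟩
  have hsum : (d.sum fun i n => i * n) = s.factorial := by
    rw [Finsupp.sum_add_index' (by simp) (fun a b₁ b₂ => Nat.mul_add a b₁ b₂), Finsupp.sum_single_index (by simp),
      Finsupp.sum_single_index (by simp), hq]
    have : j * (q - 1) = j * q - j := by rw [Nat.mul_sub, mul_one]
    have h2 : j ≤ j * q := Nat.le_mul_of_pos_right j hqpos
    omega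
  have hprodd := hprod d hsupp hsum
  rw [Finsupp.prod_add_index' (by simp) (by intros; rw [pow_add]),
    Finsupp.prod_single_index (by simp), Finsupp.prod_single_index (by simp)] at hprodd
  have hξj := hξ j hj hjs
  rw [hdiv] at hξj
  calc ξ 1 ^ j = ξ 1 ^ j * ξ j ^ q := by rw [hξj, mul_one]
    _ = ξ 1 ^ j * (ξ j ^ (q - 1) * ξ j) := by
        rw [← pow_succ, Nat.sub_add_cancel hqpos]
    _ = (ξ 1 ^ j * ξ j ^ (q - 1)) * ξ j := by rw [mul_assoc]
    _ = ξ j := by rw [hprodd, one_mul]

end Groth.Agent.S18920
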