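import Groth.Statements.S18925
import Groth.Agent.Lib.helper10.ResCount3

set_option autoImplicit false
universe u
open ResHyp

namespace Groth.Agent.S18925

/-- Let F be a finite field with q elements and let n ≥ 2. Count the pairs (f, g) where f is a binary
quadratic form and g a binary form of degree n over F, recorded by their coefficient vectors of
lengths 3 and n + 1 (leading coefficients may vanish), whose resultant — the Sylvester determinant
of the two coefficient vectors with size parameters 2 and n — is nonzero, i.e. f and g have no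
common zero on the projective line. The number of such pairs is q ^ (n + 4) - q ^ (n + 3) - q ^ (n +
2) + q ^ (n + 1). (The source's result is the compactly supported ℓ-adic cohomology of this locus:
one-dimensional of Tate weights n + 4, n + 3, n + 2, n + 1 in degrees 2n + 8, 2n + 7, 2n + 5, 2n + 4
and zero elsewhere; this row keeps only the resulting point count.) -/
theorem result (F : Type u) [Field F] [Fintype F] (n : ℕ) (h2 : 2 ≤ n) :
    Nat.card {p : (Fin 3 → F) × (Fin (n + 1) → F) //
      Polynomial.resultant (∑ i : Fin 3, Polynomial.C (p.1 i) * Polynomial.X ^ (i : ℕ))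
        (∑ j : Fin (n + 1), Polynomial.C (p.2 j) * Polynomial.X ^ (j : ℕ)) 2 n ≠ 0} =
      Fintype.card F ^ (n + 4) - Fintype.card F ^ (n + 3) - Fintype.card F ^ (n + 2) + Fintype.card F ^ (n + 1) := by
  have h := Groth.Agent.Lib.helper10.ResCount.Ntot_formula (F := F) n h2
  have hN : Nat.card {p : (Fin 3 → F) × (Fin (n + 1) → F) //
      Polynomial.resultant (∑ i : Fin 3, Polynomial.C (p.1 i) * Polynomial.X ^ (i : ℕ))
        (∑ j : Fin (n + 1), Polynomial.C (p.2 j) * Polynomial.X ^ (j : ℕ)) 2 n ≠ 0} =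
      Groth.Agent.Lib.helper10.ResCount.Ntot (F := F) n := rfl
  rw [hN, h, Nat.card_eq_fintype_card]
  have hq : 2 ≤ Fintype.card F := Fintype.one_lt_card
  obtain ⟨t, ht⟩ : ∃ t, Fintype.card F = t + 1 := ⟨Fintype.card F - 1, by omega⟩
  have ht1 : 1 ≤ t := by omega
  rw [ht]
  have e1 : (t + 1) ^ 2 - 1 = t * (t + 2) := by
    have : (t + 1) ^ 2 = t * (t + 2) + 1 := by ring
    omega
  have e2 : t + 1 - 1 = t := by omega
  rw [e1, e2]
  obtain ⟨Q, hQ⟩ : ∃ Q, Q = (t + 1) ^ (n + 1) := ⟨_, rfl⟩
  have p4 : (t + 1) ^ (n + 4) = Q * (t + 1) ^ 3 := by rw [hQ]; ring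
  have p3 : (t + 1) ^ (n + 3) = Q * (t + 1) ^ 2 := by rw [hQ]; ring
  have p2 : (t + 1) ^ (n + 2) = Q * (t + 1) := by rw [hQ]; ring
  rw [p4, p3, p2, ← hQ]
  have key : t * (t + 2) * (t * Q) + Q * (t + 1) ^ 2 + Q * (t + 1) = Q * (t + 1) ^ 3 + Q := by
    ring
  have hle : Q ≤ t * (t + 2) * (t * Q) := by
    have : 1 ≤ t * (t + 2) * t := by
      have : 1 * (0 + 1) * 1 ≤ t * (t + 2) * t :=
        Nat.mul_le_mul (Nat.mul_le_mul ht1 (by omega)) ht1
      simpa using this
    calc Q = 1 * Q := (one_mul Q).symm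
      _ ≤ (t * (t + 2) * t) * Q := Nat.mul_le_mul_right Q this
      _ = t * (t + 2) * (t * Q) := by ring
  omega

end Groth.Agent.S18925
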