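import Groth.Statements.S18928
-- import your own Groth.Agent.* helpers here

set_option autoImplicit false
universe u
open DPow

namespace Groth.Agent.S18928

/-- Let B be a commutative ring, I an ideal of B with a divided power structure, p a prime, r a natural
number, b an element of B and δ an element of I. Then (b + δ)^(p^r) − b^(p^r) lies in the ideal p^r
I. (The source states this for a divided power thickening over the Witt vectors of length n and 0 ≤
r ≤ n; neither restriction is used.) -/
theorem result {B : Type u} [CommRing B] {I : Ideal B}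
    (hI : DividedPowers I) (p : ℕ) [Fact p.Prime] (r : ℕ) (b δ : B) (hδ : δ ∈ I) :
    (b + δ) ^ (p ^ r) - b ^ (p ^ r) ∈ Ideal.span {((p : B) ^ r)} * I := by
  obtain ⟨n', hn'⟩ : ∃ n', p ^ r = n' + 1 :=
    ⟨p ^ r - 1, (Nat.succ_pred_eq_of_pos (pow_pos (Fact.out : p.Prime).pos r)).symm⟩
  have hcast : ((n' + 1 : ℕ) : B) = (p : B) ^ r := by rw [← hn', Nat.cast_pow]
  rw [hn', add_comm b δ, add_pow, Finset.sum_range_succ']
  simp only [pow_zero, one_mul, Nat.sub_zero, Nat.choose_zero_right, Nat.cast_one, mul_one,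
    add_sub_cancel_right]
  refine Submodule.sum_mem _ fun m _ => ?_
  have h1 : δ ^ (m + 1) * b ^ (n' + 1 - (m + 1)) * ((n' + 1).choose (m + 1) : B) =
      ((n' + 1 : ℕ) : B) * (((n'.descFactorial m : ℕ) : B) * b ^ (n' + 1 - (m + 1)) *
        hI.dpow (m + 1) δ) := by
    rw [← hI.factorial_mul_dpow_eq_pow hδ]
    have h2 : ((m + 1).factorial : B) * ((n' + 1).choose (m + 1) : B) =
        ((n' + 1 : ℕ) : B) * ((n'.descFactorial m : ℕ) : B) := by
      rw [← Nat.cast_mul, ← Nat.cast_mul, ← Nat.descFactorial_eq_factorial_mul_choose,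
        Nat.succ_descFactorial_succ]
    calc ((m + 1).factorial : B) * hI.dpow (m + 1) δ * b ^ (n' + 1 - (m + 1)) *
          ((n' + 1).choose (m + 1) : B)
        = (((m + 1).factorial : B) * ((n' + 1).choose (m + 1) : B)) *
            (b ^ (n' + 1 - (m + 1)) * hI.dpow (m + 1) δ) := by ring
      _ = _ := by rw [h2]; ring
  rw [h1, hcast]
  exact Ideal.mul_mem_mul (Ideal.mem_span_singleton_self _)
    (I.mul_mem_left _ (hI.dpow_mem (Nat.succ_ne_zero m) hδ))

end Groth.Agent.S18928
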