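import Groth.Statements.S18930
import Mathlib.RingTheory.WittVector.Identities
import Mathlib.Algebra.CharP.Quotient
import Mathlib.Tactic.LinearCombination

set_option autoImplicit false
universe u
open DPow

namespace Groth.Agent.S18930

/-- Let p be a prime, n ≥ 1, B a commutative ring with p^n = 0 and A = B/pB. Let θ : W_n(A) → B be the
ring homomorphism which sends the reduction of a Witt vector (x_0, …, x_{n−1}) over B to Σ_{i<n} p^i
x_i^(p^(n−i)), let J_n be its kernel and let I_n be the set of a in W_n(A) whose zeroth component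
satisfies a_0^(p^n) = 0. Then J_n + (p) ⊆ I_n. (In the source B is the ring of global sections of a
scheme over the Witt vectors of length n of a perfect field.) -/
theorem result (p : ℕ) [Fact p.Prime] (n : ℕ) (hn : 0 < n)
    {B : Type u} [CommRing B] (hp : (p : B) ^ n = 0)
    (θ : TruncatedWittVector p n (B ⧸ (Ideal.span {(p : B)})) →+* B)
    (hθ : ∀ x : WittVector p B, θ (WittVector.truncate n (WittVector.map (Ideal.Quotient.mk (Ideal.span {(p : B)})) x)) =
        ∑ i : Fin n, (p : B) ^ (i : ℕ) * (x.coeff i) ^ (p ^ (n - i)))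
    (a : TruncatedWittVector p n (B ⧸ (Ideal.span {(p : B)})))
    (ha : a ∈ RingHom.ker θ ⊔ Ideal.span {(p : TruncatedWittVector p n (B ⧸ (Ideal.span {(p : B)})))}) :
    (TruncatedWittVector.coeff ⟨0, hn⟩ a) ^ (p ^ n) = 0 := by
  classical
  by_cases hu : IsUnit (p : B)
  · have hss : Subsingleton (B ⧸ Ideal.span {(p : B)}) :=
      Ideal.Quotient.subsingleton_iff.2 (Ideal.span_singleton_eq_top.2 hu)
    exact Subsingleton.elim _ _
  · haveI : CharP (B ⧸ Ideal.span {(p : B)}) p := CharP.quotient B p hu
    obtain ⟨j, hj, c', hc', rfl⟩ := Submodule.mem_sup.1 ha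
    obtain ⟨c, rfl⟩ := Ideal.mem_span_singleton'.1 hc'
    obtain ⟨J', rfl⟩ := WittVector.truncate_surjective p n _ j
    obtain ⟨C', rfl⟩ := WittVector.truncate_surjective p n _ c
    obtain ⟨X, rfl⟩ := WittVector.map_surjective _ Ideal.Quotient.mk_surjective J'
    have h1 : WittVector.truncate n
          (WittVector.map (Ideal.Quotient.mk (Ideal.span {(p : B)})) X) +
        WittVector.truncate n C' * (p : TruncatedWittVector p n (B ⧸ (Ideal.span {(p : B)})))
        = WittVector.truncate n
          (WittVector.map (Ideal.Quotient.mk (Ideal.span {(p : B)})) X + C' * (p : WittVector p (B ⧸ (Ideal.span {(p : B)})))) := by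
      rw [map_add, map_mul, map_natCast]
    rw [h1, WittVector.coeff_truncate]
    show (WittVector.coeff _ 0) ^ (p ^ n) = 0
    rw [WittVector.add_coeff_zero, WittVector.mul_charP_coeff_zero, add_zero,
      WittVector.map_coeff, ← map_pow]
    rw [Ideal.Quotient.eq_zero_iff_mem, Ideal.mem_span_singleton]
    have h2 := hθ X
    rw [RingHom.mem_ker.1 hj] at h2
    obtain ⟨n', rfl⟩ := Nat.exists_eq_succ_of_ne_zero hn.ne'
    rw [Fin.sum_univ_succ] at h2
    simp only [Fin.val_zero, pow_zero, one_mul, Nat.sub_zero, Fin.val_succ] at h2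
    refine ⟨- ∑ i : Fin n', (p : B) ^ (i : ℕ) * X.coeff (i + 1) ^ p ^ (n' + 1 - (i + 1)), ?_⟩
    rw [mul_neg, Finset.mul_sum]
    have h3 : ∀ i : Fin n', (p : B) * ((p : B) ^ (i : ℕ) * X.coeff (i + 1) ^ p ^ (n' + 1 - (i + 1)))
        = (p : B) ^ ((i : ℕ) + 1) * X.coeff (i + 1) ^ p ^ (n' + 1 - (i + 1)) := by
      intro i; ring
    simp only [h3]
    linear_combination h2.symm

end Groth.Agent.S18930
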