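import Groth.Statements.S18931
import Groth.Agent.Lib.helper10.WittDP

set_option autoImplicit false
universe u
open DPow

namespace Groth.Agent.S18931

/-- Let p be a prime, n ≥ 1, B a commutative ring with p^n = 0 and A = B/pB, and assume that the p-th
power map of A is surjective. Let θ : W_n(A) → B be the ring homomorphism which sends the reduction
of a Witt vector (x_0, …, x_{n−1}) over B to Σ_{i<n} p^i x_i^(p^(n−i)). Then every a in W_n(A) with
a_0^(p^n) = 0 lies in ker θ + (p); together with the reverse inclusion, ker θ + (p) is exactly the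
set of such a. (In the source B is the ring of global sections of a scheme over the Witt vectors of
length n of a perfect field. The printed argument subtracts a single correction term, which suffices
for n ≤ 2; in general one corrects the components one at a time.) -/
theorem result (p : ℕ) [Fact p.Prime]
    (n : ℕ) (hn : 0 < n) {B : Type u} [CommRing B] (hp : (p : B) ^ n = 0)
    (hF : Function.Surjective (fun y : B ⧸ (Ideal.span {(p : B)}) => y ^ p))
    (θ : TruncatedWittVector p n (B ⧸ (Ideal.span {(p : B)})) →+* B)
    (hθ : ∀ x : WittVector p B, θ (WittVector.truncate n (WittVector.map (Ideal.Quotient.mk (Ideal.span {(p : B)})) x)) =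
        ∑ i : Fin n, (p : B) ^ (i : ℕ) * (x.coeff i) ^ (p ^ (n - i)))
    (a : TruncatedWittVector p n (B ⧸ (Ideal.span {(p : B)}))) (ha : (TruncatedWittVector.coeff ⟨0, hn⟩ a) ^ (p ^ n) = 0) :
    a ∈ RingHom.ker θ ⊔ Ideal.span {(p : TruncatedWittVector p n (B ⧸ (Ideal.span {(p : B)})))} := by
  classical
  have hpp : p.Prime := Fact.out
  -- trivial case
  rcases subsingleton_or_nontrivial (B ⧸ (Ideal.span {(p : B)})) with hsub | hnt
  · have : Subsingleton (TruncatedWittVector p n (B ⧸ (Ideal.span {(p : B)}))) := by
      refine ⟨fun u v => ?_⟩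
      apply TruncatedWittVector.ext
      intro i
      exact Subsingleton.elim _ _
    rw [Subsingleton.elim a 0]
    exact Submodule.zero_mem _
  haveI : CharP (B ⧸ (Ideal.span {(p : B)})) p :=
    (CharP.charP_iff_prime_eq_zero hpp).mpr (by
      rw [← map_natCast (Ideal.Quotient.mk (Ideal.span {(p : B)}))]
      exact Ideal.Quotient.eq_zero_iff_mem.mpr (Ideal.subset_span rfl))
  have hsurj := Groth.Agent.Lib.helper10.WittDP.theta_surjective p n hp hF θ hθ
  -- the Teichmüller part
  obtain ⟨b, hb⟩ := Ideal.Quotient.mk_surjective (TruncatedWittVector.coeff ⟨0, hn⟩ a)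
  set α : TruncatedWittVector p n (B ⧸ (Ideal.span {(p : B)})) :=
    WittVector.truncate n (WittVector.map (Ideal.Quotient.mk (Ideal.span {(p : B)}))
      (WittVector.teichmuller p b)) with hα
  have hθα : θ α = b ^ (p ^ n) := by
    rw [hα, hθ, ← Groth.Agent.Lib.helper10.WittDP.ghost_eq p n hp,
      WittVector.ghostComponent_teichmuller]
  have hbp : b ^ (p ^ n) ∈ Ideal.span {(p : B)} := by
    rw [← Ideal.Quotient.eq_zero_iff_mem, map_pow, hb]
    exact ha
  obtain ⟨c, hc⟩ := Ideal.mem_span_singleton'.mp hbp
  obtain ⟨w, hw⟩ := hsurj c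
  have hα_mem : α ∈ RingHom.ker θ ⊔
      Ideal.span {(p : TruncatedWittVector p n (B ⧸ (Ideal.span {(p : B)})))} := by
    have h1 : α - w * (p : TruncatedWittVector p n (B ⧸ (Ideal.span {(p : B)}))) ∈
        RingHom.ker θ := by
      rw [RingHom.mem_ker, map_sub, map_mul, map_natCast, hw, hθα, hc, sub_self]
    have h2 : w * (p : TruncatedWittVector p n (B ⧸ (Ideal.span {(p : B)}))) ∈
        Ideal.span {(p : TruncatedWittVector p n (B ⧸ (Ideal.span {(p : B)})))} :=
      Ideal.mem_span_singleton'.mpr ⟨w, rfl⟩
    have := Submodule.add_mem_sup h1 h2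
    rwa [sub_add_cancel] at this
  -- the rest is a multiple of `p`
  obtain ⟨ã, hã⟩ := WittVector.truncate_surjective p n _ a
  set z : WittVector p (B ⧸ (Ideal.span {(p : B)})) :=
    ã - WittVector.map (Ideal.Quotient.mk (Ideal.span {(p : B)})) (WittVector.teichmuller p b)
    with hz
  have hz0 : z.coeff 0 = 0 := by
    have h1 := map_sub (WittVector.constantCoeff (p := p) (R := B ⧸ (Ideal.span {(p : B)}))) ã
      (WittVector.map (Ideal.Quotient.mk (Ideal.span {(p : B)})) (WittVector.teichmuller p b))
    simp only [WittVector.constantCoeff_apply, WittVector.map_coeff,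
      WittVector.teichmuller_coeff_zero] at h1
    rw [hz, h1, hb, ← hã, WittVector.coeff_truncate]
    exact sub_self _
  let w' : WittVector p (B ⧸ (Ideal.span {(p : B)})) :=
    WittVector.mk p (fun i => Function.surjInv hF (z.coeff (i + 1)))
  have hw' : w' * (p : WittVector p (B ⧸ (Ideal.span {(p : B)}))) = z := by
    apply WittVector.ext
    intro i
    cases i with
    | zero => rw [WittVector.mul_charP_coeff_zero, hz0]
    | succ i =>
      rw [WittVector.mul_charP_coeff_succ]
      exact Function.surjInv_eq hF (z.coeff (i + 1))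
  have hz_mem : WittVector.truncate n z ∈
      Ideal.span {(p : TruncatedWittVector p n (B ⧸ (Ideal.span {(p : B)})))} := by
    rw [← hw', map_mul, map_natCast]
    exact Ideal.mem_span_singleton'.mpr ⟨_, rfl⟩
  have ha_eq : a = α + WittVector.truncate n z := by
    rw [hz, map_sub, hã, hα]
    ring
  rw [ha_eq]
  exact Submodule.add_mem _ hα_mem (Submodule.mem_sup_right hz_mem)

end Groth.Agent.S18931
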