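import Groth.Statements.S18932
import Groth.Agent.Lib.helper10.WittDP

set_option autoImplicit false
universe u
open DPow

namespace Groth.Agent.S18932

/-- Let p be a prime, k a perfect field of characteristic p, n a natural number and A a commutative
W_n(k)-algebra, W_n(k) the truncated Witt vectors, which is flat over W_n(k) and whose reduction
A/pA has surjective p-th power map. Let θ : W_n(A/pA) → A be the ring homomorphism which sends the
reduction of a Witt vector (x_0, …, x_{n−1}) over A to Σ_{i<n} p^i x_i^(p^(n−i)). Then θ is
surjective, so A is the quotient of W_n(A/pA) by the kernel of θ. (This is the step of the source's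
proposition establishing that Spec of the divided power envelope of that kernel is a thickening of
Spec A; the assertion that it is a final object of the crystalline site is not stated here.) -/
theorem result (p : ℕ) [Fact p.Prime]
    (k : Type u) [Field k] [CharP k p] [PerfectRing k p] (n : ℕ)
    (A : Type u) [CommRing A] [Algebra (TruncatedWittVector p n k) A] [Module.Flat (TruncatedWittVector p n k) A]
    (hF : Function.Surjective (fun y : A ⧸ (Ideal.span {(p : A)}) => y ^ p))
    (θ : TruncatedWittVector p n (A ⧸ (Ideal.span {(p : A)})) →+* A)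
    (hθ : ∀ x : WittVector p A, θ (WittVector.truncate n (WittVector.map (Ideal.Quotient.mk (Ideal.span {(p : A)})) x)) =
        ∑ i : Fin n, (p : A) ^ (i : ℕ) * (x.coeff i) ^ (p ^ (n - i))) :
    Function.Surjective θ := by
  classical
  have hpp : p.Prime := Fact.out
  have hpA : (p : A) ^ n = 0 := by
    have h1 : ((p : TruncatedWittVector p n k)) ^ n = 0 := by
      have h2 : (WittVector.truncate n) ((p : WittVector p k) ^ n) = 0 := by
        apply TruncatedWittVector.ext
        intro i
        rw [WittVector.coeff_truncate, WittVector.coeff_p_pow_eq_zero p k (ne_of_lt i.2),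
          TruncatedWittVector.coeff_zero]
      rwa [map_pow, map_natCast] at h2
    have h3 := congrArg (algebraMap (TruncatedWittVector p n k) A) h1
    rwa [map_pow, map_natCast, map_zero] at h3
  have hθ' : ∀ x : WittVector p A,
      θ (WittVector.truncate n (WittVector.map (Ideal.Quotient.mk (Ideal.span {(p : A)})) x)) =
        WittVector.ghostComponent n x := fun x => by
    rw [hθ, Groth.Agent.Lib.helper10.WittDP.ghost_eq p n hpA x]
  have hFm : ∀ m : ℕ, ∀ c : A, ∃ b : A, c - b ^ (p ^ m) ∈ Ideal.span {(p : A)} := by
    intro m
    induction m with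
    | zero =>
      intro c
      exact ⟨c, by simp⟩
    | succ m ih =>
      intro c
      obtain ⟨y, hy⟩ := hF (Ideal.Quotient.mk (Ideal.span {(p : A)}) c)
      obtain ⟨b₁, rfl⟩ := Ideal.Quotient.mk_surjective y
      obtain ⟨b, hb⟩ := ih b₁
      refine ⟨b, ?_⟩
      rw [← Ideal.Quotient.eq]
      have h1 : Ideal.Quotient.mk (Ideal.span {(p : A)}) b₁ =
          Ideal.Quotient.mk (Ideal.span {(p : A)}) b ^ (p ^ m) := by
        rw [← map_pow]
        exact Ideal.Quotient.eq.mpr hb
      rw [map_pow, pow_succ, pow_mul, ← h1]
      exact hy.symm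
  have key : ∀ j : ℕ, j ≤ n → ∀ a : A, ∃ x : WittVector p A, ∃ c : A,
      a - WittVector.ghostComponent n x = (p : A) ^ j * c := by
    intro j
    induction j with
    | zero =>
      intro _ a
      exact ⟨0, a, by simp⟩
    | succ j ih =>
      intro hj a
      obtain ⟨x, c, hxc⟩ := ih (by omega) a
      obtain ⟨b, hb⟩ := hFm (n - j) c
      obtain ⟨e, he⟩ := Ideal.mem_span_singleton'.mp hb
      let y : WittVector p A := WittVector.mk p (fun i => if i = j then b else 0)
      have hy : WittVector.ghostComponent n y = (p : A) ^ j * b ^ (p ^ (n - j)) := by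
        rw [Groth.Agent.Lib.helper10.WittDP.ghost_eq p n hpA y]
        rw [Finset.sum_eq_single (⟨j, by omega⟩ : Fin n)]
        · simp [y]
        · intro i _ hi
          have hij : (i : ℕ) ≠ j := fun h => hi (Fin.ext h)
          have : y.coeff i = 0 := by simp [y, hij]
          rw [this, zero_pow (pow_ne_zero _ hpp.ne_zero), mul_zero]
        · intro h
          exact absurd (Finset.mem_univ _) h
      refine ⟨x + y, e, ?_⟩
      rw [map_add, hy, ← sub_sub, hxc, ← mul_sub, ← he, pow_succ]
      ring
  intro a
  obtain ⟨x, c, hxc⟩ := key n le_rfl a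
  rw [hpA, zero_mul, sub_eq_zero] at hxc
  exact ⟨_, (hθ' x).trans hxc.symm⟩

end Groth.Agent.S18932
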