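import Groth.Statements.S18934
import Mathlib
import Groth.Agent.Lib.Helper25.FiniteSyntomic
-- import your own Groth.Agent.* helpers here

set_option autoImplicit false
set_option linter.unusedSectionVars false
set_option linter.style.haveILetI false
set_option linter.unusedVariables false
universe u
open Synt

namespace Groth.Agent.S18934

open Polynomial
open Groth.Agent.Lib.Helper25.FiniteSyntomic

section
variable (p : ℕ) (hp : p ≠ 0) (A : Type u) [CommRing A] (a : A)

/-- the relation in one variable -/
noncomputable def vrel : Unit → MvPolynomial Unit A := fun _ => MvPolynomial.X () ^ p - MvPolynomial.C a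

lemma map_span_vrel : Ideal.span ({X ^ p - C a} : Set A[X]) =
    Ideal.map (MvPolynomial.uniqueAlgEquiv A Unit) (Ideal.span (Set.range (vrel p A a))) := by
  have h : Set.range (vrel p A a) = {MvPolynomial.X () ^ p - MvPolynomial.C a} := by
    unfold vrel; exact Set.range_const
  rw [Ideal.map_span, h, Set.image_singleton]
  congr 2
  simp

/-- the quotient presentation is the adjoined root -/
noncomputable def eqv : (MvPolynomial Unit A ⧸ Ideal.span (Set.range (vrel p A a))) ≃ₐ[A]
    AdjoinRoot (X ^ p - C a) :=
  Ideal.quotientEquivAlg _ _ (MvPolynomial.uniqueAlgEquiv A Unit) (map_span_vrel p A a)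

/-- presentation of the adjoined root -/
noncomputable def pres : Algebra.Presentation A (AdjoinRoot (X ^ p - C a)) Unit Unit :=
  (Algebra.Presentation.naive (v := vrel p A a)).ofAlgEquiv (eqv p A a)

end

open Polynomial in
/-- Let p be a prime, A a commutative ring and a an element of A. Then the A-algebra A[T]/(T^p − a) is
syntomic and faithfully flat over A. This is the step of the source's proof showing that adjoining a
p-th root of any element is a covering for the syntomic topology. -/
theorem result (p : ℕ) [Fact p.Prime]
    (A : Type u) [CommRing A] (a : A) :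
    Synt.IsSyntomic A (AdjoinRoot (X ^ p - C a)) ∧ Module.FaithfullyFlat A (AdjoinRoot (X ^ p - C a)) := by
  have hp : p ≠ 0 := (Fact.out : p.Prime).ne_zero
  have hmonic : (X ^ p - C a : A[X]).Monic := monic_X_pow_sub_C a hp
  have hfree : Module.Free A (AdjoinRoot (X ^ p - C a)) :=
    Module.Free.of_basis (AdjoinRoot.powerBasis' hmonic).basis
  have hfin : Module.Finite A (AdjoinRoot (X ^ p - C a)) :=
    Module.Finite.of_basis (AdjoinRoot.powerBasis' hmonic).basis
  refine ⟨isSyntomic_of_finite_flat A _ rfl (pres p A a), ?_⟩
  rcases subsingleton_or_nontrivial A with h | h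
  · refine { submodule_ne_top := fun m hm => ?_ }
    exact absurd (Subsingleton.elim m ⊤) hm.ne_top
  · have hdeg : 0 < (X ^ p - C a : A[X]).natDegree := by
      rw [natDegree_X_pow_sub_C]; exact Nat.pos_of_ne_zero hp
    have : Nontrivial (AdjoinRoot (X ^ p - C a)) :=
      nontrivial_of_ne _ 0 ((AdjoinRoot.powerBasis' hmonic).basis.ne_zero ⟨0, by
        rw [AdjoinRoot.powerBasis'_dim]; exact hdeg⟩)
    infer_instance

end Groth.Agent.S18934
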