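import Groth.Statements.S18936
-- import your own Groth.Agent.* helpers here

set_option autoImplicit false
universe u
open CAlg

namespace Groth.Agent.S18936

/-- Let A be a Noetherian commutative ring, q a prime ideal of A and f an element of A whose image in
the localization A_q is a non-zero-divisor. Then there is an element b of A not in q such that the
image of f in A[1/b] is a non-zero-divisor. -/
theorem result {A : Type u} [CommRing A] [IsNoetherianRing A]
    (q : Ideal A) [q.IsPrime] (f : A)
    (hf : algebraMap A (Localization.AtPrime q) f ∈ nonZeroDivisors (Localization.AtPrime q)) :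
    ∃ b : A, b ∉ q ∧ algebraMap A (Localization.Away b) f ∈ nonZeroDivisors (Localization.Away b) := by
  classical
  have hK : ∀ x : A, x * f = 0 → ∃ s : A, s ∉ q ∧ s * x = 0 := by
    intro x hx
    have h1 : algebraMap A (Localization.AtPrime q) x * algebraMap A (Localization.AtPrime q) f = 0 := by
      rw [← map_mul, hx, map_zero]
    have h2 := (mem_nonZeroDivisors_iff_right.mp hf) _ h1
    rw [IsLocalization.map_eq_zero_iff q.primeCompl] at h2
    obtain ⟨m, hm⟩ := h2
    exact ⟨m, m.2, hm⟩
  obtain ⟨T, hT⟩ := (isNoetherianRing_iff_ideal_fg A).mp inferInstance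
    ((Ideal.span {f}).annihilator)
  have hmemK : ∀ x : A, x ∈ (Ideal.span {f}).annihilator ↔ x * f = 0 := by
    intro x
    rw [Submodule.mem_annihilator_span_singleton, smul_eq_mul]
  have hch : ∀ t : A, ∃ s : A, s ∉ q ∧ (t ∈ T → s * t = 0) := by
    intro t
    by_cases ht : t ∈ T
    · obtain ⟨s, hs, hst⟩ := hK t ((hmemK t).mp (hT ▸ Ideal.subset_span ht))
      exact ⟨s, hs, fun _ => hst⟩
    · exact ⟨1, fun h => (Ideal.IsPrime.ne_top inferInstance) (q.eq_top_of_isUnit_mem h isUnit_one),
        fun h => absurd h ht⟩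
  choose s hs hst using hch
  have hall : ∀ x ∈ (Ideal.span {f}).annihilator, (∏ t ∈ T, s t) * x = 0 := by
    intro x hx
    rw [← hT] at hx
    induction hx using Submodule.span_induction with
    | mem t ht =>
      rw [← Finset.mul_prod_erase T s ht, mul_comm (s t), mul_assoc, hst t ht, mul_zero]
    | zero => simp
    | add a b _ _ ha hb => rw [mul_add, ha, hb, add_zero]
    | smul r a _ ha => rw [smul_eq_mul, mul_left_comm, ha, mul_zero]
  refine ⟨∏ t ∈ T, s t, ?_, ?_⟩
  · intro h
    rw [Ideal.IsPrime.prod_mem_iff] at h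
    obtain ⟨t, _, ht⟩ := h
    exact hs t ht
  · rw [mem_nonZeroDivisors_iff_right]
    intro z hz
    obtain ⟨x, c, rfl⟩ := IsLocalization.exists_mk'_eq (Submonoid.powers (∏ t ∈ T, s t)) z
    rw [← IsLocalization.mk'_one (M := Submonoid.powers (∏ t ∈ T, s t)) (Localization.Away (∏ t ∈ T, s t)) f,
      ← IsLocalization.mk'_mul, IsLocalization.mk'_eq_zero_iff] at hz
    obtain ⟨m, hm⟩ := hz
    rw [IsLocalization.mk'_eq_zero_iff]
    have hmx : (m : A) * x ∈ (Ideal.span {f}).annihilator := by
      rw [hmemK, mul_assoc]; exact hm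
    refine ⟨⟨(∏ t ∈ T, s t), Submonoid.mem_powers _⟩ * m, ?_⟩
    rw [Submonoid.coe_mul, mul_assoc]
    exact hall _ hmx

end Groth.Agent.S18936
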