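import Groth.Statements.S18937
import Groth.Agent.Lib.Helper5.PolyPres

set_option autoImplicit false
universe u
open CategoryTheory AlgebraicGeometry
open RegImm

namespace Groth.Agent.S18937

/-- Let A be a Noetherian commutative ring, n a natural number, I an ideal of the polynomial ring A[X_1,
…, X_n] and B = A[X_1, …, X_n]/I, and assume that the closed immersion Spec B → Spec A[X_1, …, X_n]
is a regular immersion (kind: successive non-zero-divisors). Then Spec B is covered by basic opens
D(g) with B[1/g] isomorphic, as an A-algebra, to a quotient A[X_0, …, X_n]/(P_1, …, P_d) of the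
polynomial ring in one more variable by a regular sequence P_1, …, P_d. -/
theorem result
    (A : Type u) [CommRing A] [IsNoetherianRing A] (n : ℕ) (I : Ideal (MvPolynomial (Fin n) A))
    (h : RegImm.IsRegularImmersion RegImm.Kind.regular
      (Spec.map (CommRingCat.ofHom (Ideal.Quotient.mk I))))
    (q : PrimeSpectrum (MvPolynomial (Fin n) A ⧸ I)) :
    ∃ g : MvPolynomial (Fin n) A ⧸ I, g ∉ q.asIdeal ∧
      ∃ (d : ℕ) (P : Fin d → MvPolynomial (Fin (n + 1)) A),
        RingTheory.Sequence.IsRegular (MvPolynomial (Fin (n + 1)) A) (List.ofFn P) ∧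
        Nonempty (Localization.Away g ≃ₐ[A] (MvPolynomial (Fin (n + 1)) A ⧸ Ideal.ofList (List.ofFn P))) := by
  obtain ⟨R, _, _, hloc, rs, hrs, hI⟩ :=
    Groth.Agent.Lib.Helper5.PolyPres.exists_stalk_regular I h q
  have hIp : I ≤ q.asIdeal.comap (Ideal.Quotient.mk I) := by
    intro a ha
    rw [Ideal.mem_comap, Ideal.Quotient.eq_zero_iff_mem.2 ha]
    exact zero_mem _
  obtain ⟨h', hh', l, hl, ⟨e⟩⟩ := Groth.Agent.Lib.Helper5.PolyPres.exists_away_polynomial I
    (q.asIdeal.comap (Ideal.Quotient.mk I)) hIp R rs hrs hI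
  obtain ⟨l', hl', ⟨e'⟩⟩ := Groth.Agent.Lib.Helper5.PolyPres.quotient_transport
    (MvPolynomial.finSuccEquiv A n).symm l hl (e.restrictScalars A)
  obtain ⟨d, P, hP, hE⟩ := Groth.Agent.Lib.Helper5.PolyPres.exists_ofFn l' hl' e'
  exact ⟨Ideal.Quotient.mk I h', hh', d, P, hP, hE⟩

end Groth.Agent.S18937
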