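import Groth.Statements.S18938
import Groth.Agent.Lib.Helper5.SyntPresD
import Groth.Agent.Lib.Helper5.FibRegD
import Groth.Agent.Lib.Helper5.PolyPres

set_option autoImplicit false
universe u
open Synt

namespace Groth.Agent.S18938

/-- Let A be a Noetherian commutative ring and B a syntomic A-algebra. Then Spec B is covered by basic
opens D(g) with B[1/g] isomorphic, as an A-algebra, to A[T_1, …, T_n]/(P_1, …, P_d) for a regular
sequence P_1, …, P_d (successive non-zero-divisors with nonzero last quotient) in the polynomial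
ring A[T_1, …, T_n]. (The source states this for a syntomic scheme over Spec A, syntomic meaning
flat, locally of finite presentation and locally a Koszul-regular immersion into a smooth scheme;
here syntomic is the ring-map notion with local complete intersection fibres, which agrees with it.) -/
theorem result
    (A : Type u) [CommRing A] [IsNoetherianRing A] (B : Type u) [CommRing B] [Algebra A B]
    (h : Synt.IsSyntomic A B) (q : PrimeSpectrum B) :
    ∃ g : B, g ∉ q.asIdeal ∧
      ∃ (n d : ℕ) (P : Fin d → MvPolynomial (Fin n) A),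
        RingTheory.Sequence.IsRegular (MvPolynomial (Fin n) A) (List.ofFn P) ∧
        Nonempty (Localization.Away g ≃ₐ[A] (MvPolynomial (Fin n) A ⧸ Ideal.ofList (List.ofFn P))) := by
  have hpp : (q.asIdeal.under A).IsPrime := inferInstance
  obtain ⟨g₁, hg₁, N, Ψ, fs, hΨ, hlen, hfs, hgen, hdim⟩ :=
    Groth.Agent.Lib.Helper5.SyntPres.exists_presentation h q (q.asIdeal.under A) rfl
  -- the prime of the localization
  have hdisj : Disjoint (Submonoid.powers g₁ : Set B) (q.asIdeal : Set B) := by
    rw [Set.disjoint_left]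
    rintro _ ⟨k, rfl⟩ hk
    exact hg₁ (q.isPrime.mem_of_pow_mem k hk)
  have hq'prime : (q.asIdeal.map (algebraMap B (Localization.Away g₁))).IsPrime :=
    IsLocalization.isPrime_of_isPrime_disjoint (Submonoid.powers g₁) _ _ q.isPrime hdisj
  have hq'comap : (q.asIdeal.map (algebraMap B (Localization.Away g₁))).comap
      (algebraMap B (Localization.Away g₁)) = q.asIdeal :=
    IsLocalization.comap_map_of_isPrime_disjoint (Submonoid.powers g₁) _ q.isPrime hdisj
  obtain ⟨q', hq'⟩ : ∃ q' : Ideal (Localization.Away g₁),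
      q' = q.asIdeal.map (algebraMap B (Localization.Away g₁)) := ⟨_, rfl⟩
  rw [← hq'] at hq'prime hq'comap
  have hQprime : (q'.comap (Ψ : MvPolynomial (Fin N) A →+* Localization.Away g₁)).IsPrime :=
    Ideal.comap_isPrime _ _
  have hIQ : RingHom.ker Ψ ≤ q'.comap (Ψ : MvPolynomial (Fin N) A →+* Localization.Away g₁) := by
    intro a ha
    rw [Ideal.mem_comap, RingHom.coe_coe, (RingHom.mem_ker).1 ha]
    exact zero_mem _
  have hpQ : (q'.comap (Ψ : MvPolynomial (Fin N) A →+* Localization.Away g₁)).comap
      MvPolynomial.C = q.asIdeal.under A := by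
    ext a
    rw [Ideal.mem_comap, Ideal.mem_comap, RingHom.coe_coe, ← MvPolynomial.algebraMap_eq,
      AlgHom.commutes, Ideal.under_def, Ideal.mem_comap, ← hq'comap, Ideal.mem_comap,
      ← IsScalarTower.algebraMap_apply]
  have hflatB : Module.Flat A (Localization.Away g₁) := by
    have h1 : Module.Flat A B := h.1
    have h2 : Module.Flat B (Localization.Away g₁) := IsLocalization.flat _ (Submonoid.powers g₁)
    exact Module.Flat.trans A B _
  have hflat : Module.Flat A (MvPolynomial (Fin N) A ⧸ RingHom.ker Ψ) :=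
    Module.Flat.of_linearEquiv (Ideal.quotientKerAlgEquivOfSurjective hΨ).toLinearEquiv
  obtain ⟨R, _, _, hlocR, rs, hrs, hI⟩ :=
    Groth.Agent.Lib.Helper5.FibReg.exists_regular_localization (RingHom.ker Ψ)
      (q'.comap (Ψ : MvPolynomial (Fin N) A →+* Localization.Away g₁)) hIQ (q.asIdeal.under A) hpQ
      fs hfs hgen hlen hdim hflat
  obtain ⟨h', hh', l, hl, ⟨e⟩⟩ := Groth.Agent.Lib.Helper5.PolyPres.exists_away_polynomial
    (RingHom.ker Ψ) (q'.comap (Ψ : MvPolynomial (Fin N) A →+* Localization.Away g₁)) hIQ R rs hrs hI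
  obtain ⟨y, hy⟩ : ∃ y : Localization.Away g₁, y = Ψ h' := ⟨_, rfl⟩
  have hyq : y ∉ q' := by rw [hy]; exact hh'
  have hmapP : Submonoid.map (Ideal.quotientKerAlgEquivOfSurjective hΨ)
      (Submonoid.powers (Ideal.Quotient.mk (RingHom.ker Ψ) h')) = Submonoid.powers y := by
    rw [Submonoid.map_powers, hy]
    rfl
  let eA : Localization.Away (Ideal.Quotient.mk (RingHom.ker Ψ) h') ≃ₐ[A] Localization.Away y :=
    IsLocalization.algEquivOfAlgEquiv _ _ (Ideal.quotientKerAlgEquivOfSurjective hΨ) hmapP
  obtain ⟨k, b, hb⟩ := IsLocalization.Away.surj g₁ y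
  have hunit : IsUnit (algebraMap B (Localization.Away g₁) g₁ ^ k) :=
    (IsLocalization.Away.algebraMap_isUnit g₁).pow k
  have hassoc : Associated (algebraMap B (Localization.Away g₁) b) y := by
    obtain ⟨u, hu⟩ := hunit
    exact Associated.symm ⟨u, by rw [hu, hb]⟩
  have hlocT : IsLocalization.Away (g₁ * b) (Localization.Away y) :=
    IsLocalization.Away.mul_of_associated g₁ b y hassoc
  let eB : Localization.Away (g₁ * b) ≃ₐ[B] Localization.Away y :=
    IsLocalization.algEquiv (Submonoid.powers (g₁ * b)) _ _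
  have hbq : b ∉ q.asIdeal := by
    intro hmem
    have h1 : algebraMap B (Localization.Away g₁) b ∈ q' := by
      rw [hq']; exact Ideal.mem_map_of_mem _ hmem
    rw [← hb] at h1
    rcases hq'prime.mem_or_mem h1 with h2 | h2
    · exact hyq h2
    · exact hq'prime.ne_top (Ideal.eq_top_of_isUnit_mem _ h2 hunit)
  have hgq : g₁ * b ∉ q.asIdeal := fun hmem => (q.isPrime.mem_or_mem hmem).elim hg₁ hbq
  obtain ⟨l', hl', ⟨e'⟩⟩ := Groth.Agent.Lib.Helper5.PolyPres.quotient_transport
    (MvPolynomial.finSuccEquiv A N).symm l hl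
    ((eB.restrictScalars A).trans (eA.symm.trans (e.restrictScalars A)))
  obtain ⟨d, P, hP, hE⟩ := Groth.Agent.Lib.Helper5.PolyPres.exists_ofFn l' hl' e'
  exact ⟨g₁ * b, hgq, N + 1, d, P, hP, hE⟩

end Groth.Agent.S18938
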