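import Groth.Statements.S18939
import Groth.Agent.Lib.Helper5.KosLow

set_option autoImplicit false
universe u
open LCI

namespace Groth.Agent.S18939

theorem aux {R : Type u} [CommRing R] (r : ℕ) (g : Fin r → R)
    (hg : LCI.IsKoszulRegularSeq R (List.ofFn g)) (I : Ideal R)
    (hgI : Ideal.span (Set.range g) = I) (hmem : ∀ i, g i ∈ I) :
    ∃ b : Module.Basis (Fin r) (R ⧸ I) I.Cotangent, ∀ i, b i = I.toCotangent ⟨g i, hmem i⟩ := by
  subst hgI
  exact Groth.Agent.Lib.Helper5.KosLow.exists_basis_cotangent r g (hg (-1) (by norm_num))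

/-- Let R be a commutative ring, I a proper ideal of R and f_1, …, f_r a Koszul-regular sequence of
elements of I generating I. Then I/I² is a free R/I-module of rank r, with basis the classes of f_1,
…, f_r. -/
theorem result {R : Type u} [CommRing R] {I : Ideal R} (hI : I ≠ ⊤)
    (r : ℕ) (f : Fin r → I) (hf : LCI.IsKoszulRegularSeq R (List.ofFn (fun i => (f i : R))))
    (hfI : Ideal.span (Set.range (fun i => (f i : R))) = I) :
    ∃ b : Module.Basis (Fin r) (R ⧸ I) I.Cotangent, ∀ i, b i = I.toCotangent (f i) := by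
  exact aux r (fun i => (f i : R)) hf I hfI (fun i => (f i).2)

end Groth.Agent.S18939
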