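import Groth.Statements.S18942
import Groth.Agent.Lib.helper10.WittDP

set_option autoImplicit false
universe u
open DPow

namespace Groth.Agent.S18942

/-- Let p be a prime, k a perfect field of characteristic p, n a natural number and x an element of
W_n(k), written here as the truncation of a Witt vector x over k. For any Witt vectors y_0, …,
y_{n−1} over k lifting the components of x under the map y ↦ (y_0)^(p^n) (that is, (y_i)_0^(p^n) =
x_i), one has x = Σ_{i<n} p^i y_i^(p^(n−i)) in W_n(k). -/
theorem result (p : ℕ) [Fact p.Prime]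
    (k : Type u) [Field k] [CharP k p] [PerfectRing k p] (n : ℕ) (x : WittVector p k)
    (y : Fin n → WittVector p k) (hy : ∀ i : Fin n, ((y i).coeff 0) ^ (p ^ n) = x.coeff i) :
    WittVector.truncate n x =
      WittVector.truncate n (∑ i : Fin n, (p : WittVector p k) ^ (i : ℕ) * (y i) ^ (p ^ (n - i))) := by
  classical
  have hpp : p.Prime := Fact.out
  -- it suffices that `p ^ n` divides the difference
  suffices h : (p : WittVector p k) ^ n ∣
      x - ∑ i : Fin n, (p : WittVector p k) ^ (i : ℕ) * (y i) ^ (p ^ (n - i)) by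
    have h1 : x - ∑ i : Fin n, (p : WittVector p k) ^ (i : ℕ) * (y i) ^ (p ^ (n - i)) ∈
        RingHom.ker (WittVector.truncate (p := p) (R := k) n) := by
      rw [WittVector.mem_ker_truncate]
      exact (WittVector.mem_span_p_pow_iff_le_coeff_eq_zero _ n).mp
        (Ideal.mem_span_singleton.mpr h)
    rw [RingHom.mem_ker, map_sub, sub_eq_zero] at h1
    exact h1
  rcases Nat.eq_zero_or_pos n with hn | hn
  · subst hn
    simp
  obtain ⟨m, rfl⟩ := Nat.exists_eq_succ_of_ne_zero hn.ne'
  have hT := WittVector.dvd_sub_sum_teichmuller_iterateFrobeniusEquiv_coeff x m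
  -- termwise comparison
  have hterm : ∀ i : ℕ, (hi : i < m + 1) → (p : WittVector p k) ^ (m + 1) ∣
      WittVector.teichmuller p (((_root_.frobeniusEquiv k p).symm ^ i) (x.coeff i)) * (p : WittVector p k) ^ i -
        (p : WittVector p k) ^ i * (y ⟨i, hi⟩) ^ (p ^ (m + 1 - i)) := by
    intro i hi
    set c := (y ⟨i, hi⟩).coeff 0 with hc
    have hxi : x.coeff i = c ^ (p ^ (m + 1)) := (hy ⟨i, hi⟩).symm
    have hroot : ∀ j : ℕ, j ≤ m + 1 →
        ((_root_.frobeniusEquiv k p).symm ^ j) (c ^ (p ^ (m + 1))) = c ^ (p ^ (m + 1 - j)) := by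
      intro j
      induction j with
      | zero => intro _; simp
      | succ j ih =>
        intro hj
        rw [pow_succ', RingAut.mul_apply, ih (by omega)]
        have e : m + 1 - j = (m + 1 - (j + 1)) + 1 := by omega
        rw [e, pow_succ, pow_mul]
        exact frobeniusEquiv_symm_apply_frobenius k p _
    rw [hxi, hroot i (le_of_lt hi), map_pow]
    have h0 : (p : WittVector p k) ∣ WittVector.teichmuller p c - y ⟨i, hi⟩ := by
      rw [← Ideal.mem_span_singleton, WittVector.mem_span_p_iff_coeff_zero_eq_zero]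
      have := map_sub (WittVector.constantCoeff (p := p) (R := k)) (WittVector.teichmuller p c) (y ⟨i, hi⟩)
      simp only [WittVector.constantCoeff_apply, WittVector.teichmuller_coeff_zero] at this
      rw [this, hc, sub_self]
    have h1 := dvd_sub_pow_of_dvd_sub h0 (m + 1 - i)
    have h2 : (p : WittVector p k) ^ (m + 1) ∣ (p : WittVector p k) ^ i * (p : WittVector p k) ^ (m + 1 - i + 1) := by
      rw [← pow_add]
      exact pow_dvd_pow _ (by omega)
    have h3 : WittVector.teichmuller p c ^ p ^ (m + 1 - i) * (p : WittVector p k) ^ i -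
        (p : WittVector p k) ^ i * (y ⟨i, hi⟩) ^ (p ^ (m + 1 - i)) =
        (p : WittVector p k) ^ i * (WittVector.teichmuller p c ^ p ^ (m + 1 - i) - (y ⟨i, hi⟩) ^ (p ^ (m + 1 - i))) := by
      ring
    rw [h3]
    exact h2.trans (mul_dvd_mul_left _ h1)
  have hsum : (p : WittVector p k) ^ (m + 1) ∣
      ∑ i ∈ Finset.Iic m, WittVector.teichmuller p (((_root_.frobeniusEquiv k p).symm ^ i) (x.coeff i)) * (p : WittVector p k) ^ i -
        ∑ i : Fin (m + 1), (p : WittVector p k) ^ (i : ℕ) * (y i) ^ (p ^ (m + 1 - i)) := by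
    rw [← Nat.range_succ_eq_Iic, Finset.sum_range (fun i => WittVector.teichmuller p
      (((_root_.frobeniusEquiv k p).symm ^ i) (x.coeff i)) * (p : WittVector p k) ^ i),
      ← Finset.sum_sub_distrib]
    exact Finset.dvd_sum fun i _ => hterm i i.2
  have := dvd_add hT hsum
  rwa [sub_add_sub_cancel] at this

end Groth.Agent.S18942
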