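import Groth.Statements.S18945
import Mathlib
import Groth.Agent.Lib.Helper25.FiniteSyntomic
import Groth.Agent.S18934
-- import your own Groth.Agent.* helpers here

set_option autoImplicit false
set_option linter.unusedSectionVars false
set_option linter.style.haveILetI false
set_option linter.unusedVariables false
universe u
open CategoryTheory AlgebraicGeometry
open Synt

namespace Groth.Agent.S18945

open CategoryTheory AlgebraicGeometry
open Groth.Agent.Lib.Helper25.FiniteSyntomic

section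
variable (p : ℕ) [Fact p.Prime] (Z : Scheme.{u}) (a : Γ(Z, ⊤))

/-- restriction of `a` to `V` -/
noncomputable def aV (V : Z.Opens) : Γ(Z, V) := (Z.presheaf.map (homOfLE le_top).op).hom a

/-- the ring obtained by adjoining a `p`-th root of `a|_V` -/
abbrev BV (V : Z.Opens) : Type u :=
  AdjoinRoot (Polynomial.X ^ p - Polynomial.C (aV Z a V) : Polynomial Γ(Z, V))

/-- the structure map -/
noncomputable def psi (V : Z.Opens) : Γ(Z, V) ⟶ CommRingCat.of (BV p Z a V) :=
  CommRingCat.ofHom (algebraMap Γ(Z, V) (BV p Z a V))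

/-- the covering schemes -/
noncomputable abbrev obj (V : Z.affineOpens) : Scheme.{u} := Spec (CommRingCat.of (BV p Z a V.1))

/-- the covering maps -/
noncomputable def map (V : Z.affineOpens) : obj p Z a V ⟶ Z :=
  Spec.map (psi p Z a V.1) ≫ V.2.fromSpec

lemma le_preimage (V : Z.affineOpens) : (⊤ : (obj p Z a V).Opens) ≤ (map p Z a V) ⁻¹ᵁ V.1 := by
  intro y _
  change (map p Z a V) y ∈ V.1
  rw [map, Scheme.Hom.comp_apply]
  have := V.2.range_fromSpec
  have h : V.2.fromSpec ((Spec.map (psi p Z a V.1)) y) ∈ Set.range V.2.fromSpec := ⟨_, rfl⟩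
  rw [this] at h
  exact h

lemma appLE_map (V : Z.affineOpens) :
    (map p Z a V).appLE V.1 ⊤ (le_preimage p Z a V) =
      psi p Z a V.1 ≫ (Scheme.ΓSpecIso (CommRingCat.of (BV p Z a V.1))).inv := by
  apply Spec.map_injective
  have h := IsAffineOpen.SpecMap_appLE_fromSpec (map p Z a V) V.2 (isAffineOpen_top _) (le_preimage p Z a V)
  haveI : IsOpenImmersion V.2.fromSpec := V.2.isOpenImmersion_fromSpec
  haveI : Mono V.2.fromSpec := inferInstance
  rw [← cancel_mono V.2.fromSpec, h, IsAffineOpen.fromSpec_top, Scheme.isoSpec_Spec_inv, map,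
    Spec.map_comp, Category.assoc]

/-- the ring iso `B ≃ Γ(Spec B, ⊤)` -/
noncomputable def E (V : Z.affineOpens) : BV p Z a V.1 ≃+* Γ(obj p Z a V, ⊤) :=
  (Scheme.ΓSpecIso (CommRingCat.of (BV p Z a V.1))).symm.commRingCatIsoToRingEquiv

lemma E_algebraMap (V : Z.affineOpens) (r : Γ(Z, V.1)) :
    E p Z a V (algebraMap Γ(Z, V.1) (BV p Z a V.1) r) =
      ((map p Z a V).appLE V.1 ⊤ (le_preimage p Z a V)).hom r := by
  rw [appLE_map]
  rfl

lemma isSyntomicMor_map (V : Z.affineOpens) : Synt.IsSyntomicMor (map p Z a V) := by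
  intro y
  refine ⟨⟨⊤, isAffineOpen_top _⟩, V, le_preimage p Z a V, trivial, ?_⟩
  letI : Algebra Γ(Z, V.1) Γ(obj p Z a V, ⊤) :=
    ((map p Z a V).appLE V.1 ⊤ (le_preimage p Z a V)).hom.toAlgebra
  change Synt.IsSyntomic Γ(Z, V.1) Γ(obj p Z a V, ⊤)
  let E' : BV p Z a V.1 ≃ₐ[Γ(Z, V.1)] Γ(obj p Z a V, ⊤) :=
    AlgEquiv.ofRingEquiv (f := E p Z a V) (E_algebraMap p Z a V)
  have hp : p ≠ 0 := (Fact.out : p.Prime).ne_zero
  have hmonic : (Polynomial.X ^ p - Polynomial.C (aV Z a V.1) : Polynomial Γ(Z, V.1)).Monic :=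
    Polynomial.monic_X_pow_sub_C _ hp
  haveI hfree : Module.Free Γ(Z, V.1) (BV p Z a V.1) :=
    Module.Free.of_basis (AdjoinRoot.powerBasis' hmonic).basis
  haveI hfin : Module.Finite Γ(Z, V.1) (BV p Z a V.1) :=
    Module.Finite.of_basis (AdjoinRoot.powerBasis' hmonic).basis
  haveI : Module.Finite Γ(Z, V.1) Γ(obj p Z a V, ⊤) := Module.Finite.equiv E'.toLinearEquiv
  haveI : Module.Flat Γ(Z, V.1) Γ(obj p Z a V, ⊤) := Module.Flat.of_linearEquiv E'.symm.toLinearEquiv
  exact isSyntomic_of_finite_flat _ _ rfl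
    ((Groth.Agent.S18934.pres p Γ(Z, V.1) (aV Z a V.1)).ofAlgEquiv E')

lemma surjective_SpecMap_psi (V : Z.affineOpens) :
    Function.Surjective (Spec.map (psi p Z a V.1)) := by
  have h := (Groth.Agent.S18934.result p Γ(Z, V.1) (aV Z a V.1)).2
  exact PrimeSpectrum.comap_surjective_of_faithfullyFlat (A := Γ(Z, V.1)) (B := BV p Z a V.1)

lemma covers (x : Z) : ∃ (V : Z.affineOpens) (y : obj p Z a V), map p Z a V y = x := by
  obtain ⟨_, ⟨V, hV : IsAffineOpen V, rfl⟩, hxV, -⟩ :=
    Z.isBasis_affineOpens.exists_subset_of_mem_open (Set.mem_univ x) isOpen_univ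
  have hx : x ∈ Set.range hV.fromSpec := by rw [hV.range_fromSpec]; exact hxV
  obtain ⟨y₀, rfl⟩ := hx
  obtain ⟨y, rfl⟩ := surjective_SpecMap_psi p Z a ⟨V, hV⟩ y₀
  exact ⟨⟨V, hV⟩, y, rfl⟩

lemma root_pow (V : Z.affineOpens) :
    (E p Z a V (AdjoinRoot.root _)) ^ p = (map p Z a V).appTop a := by
  rw [← map_pow]
  have h1 : (AdjoinRoot.root (Polynomial.X ^ p - Polynomial.C (aV Z a V.1) :
      Polynomial Γ(Z, V.1))) ^ p = algebraMap Γ(Z, V.1) (BV p Z a V.1) (aV Z a V.1) := by
    have h := AdjoinRoot.mk_self (f := (Polynomial.X ^ p - Polynomial.C (aV Z a V.1) :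
      Polynomial Γ(Z, V.1)))
    rw [map_sub, map_pow, AdjoinRoot.mk_X, AdjoinRoot.mk_C, sub_eq_zero] at h
    exact h
  rw [h1, E_algebraMap, aV, ← CommRingCat.comp_apply, Scheme.Hom.map_appLE]
  rfl

end

/-- Let p be a prime, X a scheme and a a global section of the structure sheaf of X. There is a covering
of X for the syntomic topology, that is a jointly surjective family of syntomic morphisms X_i → X,
such that the restriction of a to each X_i is a p-th power. (The source states the surjectivity of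
the p-th power map of the structure sheaf on the small syntomic site of a syntomic scheme over a
perfect field of characteristic p; the covering it uses elsewhere, adjoining a p-th root T^p = a
over affine pieces, gives the statement for every scheme, which is the form given here.) -/
theorem result (p : ℕ) [Fact p.Prime] (X : Scheme.{u}) (a : Γ(X, ⊤)) :
    ∃ 𝒰 : Scheme.Cover.{u} (Scheme.precoverage @Synt.IsSyntomicMor) X,
      ∀ i : 𝒰.I₀, ∃ b : Γ(𝒰.X i, ⊤), b ^ p = (𝒰.f i).appTop a := by
  refine ⟨Scheme.Cover.mkOfCovers X.affineOpens (obj p X a) (map p X a) (covers p X a)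
    (isSyntomicMor_map p X a), ?_⟩
  intro V
  exact ⟨E p X a V (AdjoinRoot.root _), root_pow p X a V⟩

end Groth.Agent.S18945
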