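import Groth.Statements.S18948
import Mathlib.Tactic.Group

set_option autoImplicit false
universe u v
open CExt

namespace Groth.Agent.S18948

theorem mem_orbit_conj {H : Type*} [Group H] (x y : H) :
    y ∈ MulAction.orbit (ConjAct H) x ↔ ∃ e : H, e * x * e⁻¹ = y := by
  rw [MulAction.mem_orbit_iff]
  constructor
  · rintro ⟨c, hc⟩
    exact ⟨ConjAct.ofConjAct c, by rw [← hc, ConjAct.smul_def]⟩
  · rintro ⟨e, he⟩
    exact ⟨ConjAct.toConjAct e, by rw [ConjAct.toConjAct_smul, he]⟩

/-- Let f : E → G be a surjective homomorphism of groups whose kernel is central in E, and let x ∈ E.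
Then f maps the conjugacy class of x bijectively onto the conjugacy class of f(x) if and only if
every element of G commuting with f(x) is the image of some element of E commuting with x. (In the
source E → G is the central extension, with kernel the roots of unity, attached to a Brauer class of
the classifying stack of a finite tame étale group scheme, and a conjugacy class of E mapping
bijectively onto a given class of G is a marking; the equivalence is stated here for an arbitrary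
central extension of abstract groups.) -/
theorem result {E : Type u} {G : Type v} [Group E] [Group G]
    (f : E →* G) (hf : Function.Surjective f) (hker : f.ker ≤ Subgroup.center E) (x : E) :
    Set.BijOn f (MulAction.orbit (ConjAct E) x) (MulAction.orbit (ConjAct G) (f x)) ↔
      ∀ g : G, g * f x = f x * g → ∃ e : E, f e = g ∧ e * x = x * e := by
  constructor
  · rintro ⟨-, hinj, -⟩ g hg
    obtain ⟨e, rfl⟩ := hf g
    refine ⟨e, rfl, ?_⟩
    have hy : e * x * e⁻¹ ∈ MulAction.orbit (ConjAct E) x := (mem_orbit_conj x _).mpr ⟨e, rfl⟩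
    have hx : x ∈ MulAction.orbit (ConjAct E) x := (mem_orbit_conj x _).mpr ⟨1, by simp⟩
    have hfy : f (e * x * e⁻¹) = f x := by
      rw [map_mul, map_mul, map_inv, hg, mul_inv_cancel_right]
    have h3 := hinj hy hx hfy
    calc e * x = (e * x * e⁻¹) * e := by group
      _ = x * e := by rw [h3]
  · intro H
    refine ⟨?_, ?_, ?_⟩
    · intro y hy
      obtain ⟨e, rfl⟩ := (mem_orbit_conj x y).mp hy
      exact (mem_orbit_conj _ _).mpr ⟨f e, by simp⟩
    · intro y₁ hy₁ y₂ hy₂ h12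
      obtain ⟨e₁, rfl⟩ := (mem_orbit_conj x y₁).mp hy₁
      obtain ⟨e₂, rfl⟩ := (mem_orbit_conj x y₂).mp hy₂
      have hg : f (e₂⁻¹ * e₁) * f x = f x * f (e₂⁻¹ * e₁) := by
        have h1 : f e₁ * f x * (f e₁)⁻¹ = f e₂ * f x * (f e₂)⁻¹ := by simpa using h12
        have h2 : (f e₂)⁻¹ * (f e₁ * f x * (f e₁)⁻¹) * f e₁ = (f e₂)⁻¹ * (f e₂ * f x * (f e₂)⁻¹) * f e₁ := by
          rw [h1]
        simp only [map_mul, map_inv]
        calc (f e₂)⁻¹ * f e₁ * f x = (f e₂)⁻¹ * (f e₁ * f x * (f e₁)⁻¹) * f e₁ := by group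
          _ = (f e₂)⁻¹ * (f e₂ * f x * (f e₂)⁻¹) * f e₁ := h2
          _ = f x * ((f e₂)⁻¹ * f e₁) := by group
      obtain ⟨c, hc, hcx⟩ := H _ hg
      have ha : c⁻¹ * (e₂⁻¹ * e₁) ∈ f.ker := by
        rw [MonoidHom.mem_ker, map_mul, map_inv, hc, inv_mul_cancel]
      have hcen := Subgroup.mem_center_iff.mp (hker ha) x
      have hd : (e₂⁻¹ * e₁) * x = x * (e₂⁻¹ * e₁) := by
        calc (e₂⁻¹ * e₁) * x = c * (c⁻¹ * (e₂⁻¹ * e₁)) * x := by group
          _ = c * (x * (c⁻¹ * (e₂⁻¹ * e₁))) := by rw [mul_assoc, hcen]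
          _ = (c * x) * (c⁻¹ * (e₂⁻¹ * e₁)) := by group
          _ = (x * c) * (c⁻¹ * (e₂⁻¹ * e₁)) := by rw [hcx]
          _ = x * (e₂⁻¹ * e₁) := by group
      calc e₁ * x * e₁⁻¹ = e₂ * ((e₂⁻¹ * e₁) * x) * e₁⁻¹ := by group
        _ = e₂ * (x * (e₂⁻¹ * e₁)) * e₁⁻¹ := by rw [hd]
        _ = e₂ * x * e₂⁻¹ := by group
    · intro z hz
      obtain ⟨g, rfl⟩ := (mem_orbit_conj (f x) z).mp hz
      obtain ⟨e, rfl⟩ := hf g
      exact ⟨e * x * e⁻¹, (mem_orbit_conj x _).mpr ⟨e, rfl⟩, by simp⟩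

end Groth.Agent.S18948
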