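import Groth.Statements.S18949
import Mathlib.Tactic.Group

set_option autoImplicit false
universe u v
open CExt

namespace Groth.Agent.S18949

/-- Automorphisms over the base: let f : E → G be a surjective homomorphism of groups with central
kernel A. For every homomorphism χ : G → A the map e ↦ χ(f(e)) · e is an endomorphism of E over G
which is the identity on A; and every endomorphism α of E with f ∘ α = f and α equal to the identity
on A is of this form for exactly one χ. (In the source this identifies the automorphisms of a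
central extension fixing its kernel with Hom(G, A), for extensions of profinite étale group schemes
over a field; stated here for abstract groups.) -/
theorem result {E : Type u} {G : Type v} [Group E] [Group G]
    (f : E →* G) (hf : Function.Surjective f) (hker : f.ker ≤ Subgroup.center E) :
    (∀ χ : G →* f.ker, ∃ α : E →* E, f.comp α = f ∧ (∀ a ∈ f.ker, α a = a) ∧
        ∀ e : E, α e = (χ (f e) : E) * e) ∧
      ∀ α : E →* E, f.comp α = f → (∀ a ∈ f.ker, α a = a) →
        ∃! χ : G →* f.ker, ∀ e : E, α e = (χ (f e) : E) * e := by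
  have hcen : ∀ (a : E), a ∈ f.ker → ∀ g : E, g * a = a * g := fun a ha =>
    Subgroup.mem_center_iff.mp (hker ha)
  constructor
  · intro χ
    refine ⟨{ toFun := fun e => (χ (f e) : E) * e
              map_one' := by simp
              map_mul' := fun a b => ?_ }, ?_, ?_, fun e => rfl⟩
    · have h := hcen _ (χ (f b)).2 a
      simp only [map_mul, Subgroup.coe_mul]
      calc (χ (f a) : E) * (χ (f b) : E) * (a * b)
          = (χ (f a) : E) * ((χ (f b) : E) * a) * b := by group
        _ = (χ (f a) : E) * (a * (χ (f b) : E)) * b := by rw [h]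
        _ = (χ (f a) : E) * a * ((χ (f b) : E) * b) := by group
    · ext e
      have : f (χ (f e) : E) = 1 := MonoidHom.mem_ker.mp (χ (f e)).2
      simp [this]
    · intro a ha
      have : f a = 1 := MonoidHom.mem_ker.mp ha
      simp [this]
  · intro α hα hαA
    have hfα : ∀ e, f (α e) = f e := fun e => DFunLike.congr_fun hα e
    have hk : ∀ e : E, α e * e⁻¹ ∈ f.ker := by
      intro e
      rw [MonoidHom.mem_ker, map_mul, map_inv, hfα, mul_inv_cancel]
    have hwd : ∀ e e' : E, f e = f e' → α e * e⁻¹ = α e' * e'⁻¹ := by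
      intro e e' h
      have ha : e'⁻¹ * e ∈ f.ker := by
        rw [MonoidHom.mem_ker, map_mul, map_inv, h, inv_mul_cancel]
      have h1 : α e = α e' * (e'⁻¹ * e) := by
        rw [← hαA _ ha, ← map_mul, mul_inv_cancel_left]
      rw [h1]; group
    have hmul : ∀ e₁ e₂ : E, α (e₁ * e₂) * (e₁ * e₂)⁻¹ = (α e₁ * e₁⁻¹) * (α e₂ * e₂⁻¹) := by
      intro e₁ e₂
      have h := hcen _ (hk e₂) e₁⁻¹
      calc α (e₁ * e₂) * (e₁ * e₂)⁻¹ = α e₁ * ((α e₂ * e₂⁻¹) * e₁⁻¹) := by
            rw [map_mul]; group
        _ = α e₁ * (e₁⁻¹ * (α e₂ * e₂⁻¹)) := by rw [h]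
        _ = (α e₁ * e₁⁻¹) * (α e₂ * e₂⁻¹) := by group
    have hs : ∀ g, f (Function.surjInv hf g) = g := Function.surjInv_eq hf
    let χ : G →* f.ker :=
      { toFun := fun g => ⟨α (Function.surjInv hf g) * (Function.surjInv hf g)⁻¹, hk _⟩
        map_one' := by
          apply Subtype.ext
          change α (Function.surjInv hf 1) * (Function.surjInv hf 1)⁻¹ = 1
          rw [hwd _ 1 (by rw [hs, map_one])]; simp
        map_mul' := fun g₁ g₂ => by
          apply Subtype.ext
          change α (Function.surjInv hf (g₁ * g₂)) * (Function.surjInv hf (g₁ * g₂))⁻¹ =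
            (α (Function.surjInv hf g₁) * (Function.surjInv hf g₁)⁻¹) *
              (α (Function.surjInv hf g₂) * (Function.surjInv hf g₂)⁻¹)
          rw [← hmul]
          exact hwd _ _ (by rw [hs, map_mul, hs, hs]) }
    have hχ : ∀ e : E, α e = (χ (f e) : E) * e := by
      intro e
      change α e = α (Function.surjInv hf (f e)) * (Function.surjInv hf (f e))⁻¹ * e
      rw [hwd _ e (hs _)]; group
    refine ⟨χ, hχ, fun χ' hχ' => ?_⟩
    ext g
    obtain ⟨e, rfl⟩ := hf g
    have h1 := hχ e
    have h2 := hχ' e
    rw [h1] at h2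
    exact (mul_right_cancel h2).symm

end Groth.Agent.S18949
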