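import Groth.Statements.S18953
import Mathlib
-- import your own Groth.Agent.* helpers here

set_option autoImplicit false
universe u v
open OrbPic

namespace Groth.Agent.S18953

/-- Let G₁ and G₂ be groups with subsets C₁ ⊆ G₁ and C₂ ⊆ G₂, and let C ⊆ G₁ × G₂ be the union of C₁ ×
{1} and {1} × C₂. Restricting the character and the weight along the two inclusions G₁ → G₁ × G₂ and
G₂ → G₁ × G₂ is a bijection from the geometric partial orbifold line bundles of G₁ × G₂ with respect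
to C onto pairs of geometric partial orbifold line bundles of G₁ with respect to C₁ and of G₂ with
respect to C₂. (As in the source after a choice of roots of unity, each group stands for the
geometric points of a tame finite étale group scheme, characters are homomorphisms to ℚ/ℤ and
weights are class functions; the source states the Galois-equivariant version, which follows by
taking invariants.) -/
theorem result (G₁ : Type u) (G₂ : Type v) [Group G₁] [Group G₂] (C₁ : Set G₁) (C₂ : Set G₂) :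
    Set.BijOn
      (fun p : (Additive (G₁ × G₂) →+ W4c6brauerbgmalle.QmodZ) × (G₁ × G₂ → ℚ) =>
        ((p.1.comp (MonoidHom.toAdditive (MonoidHom.inl G₁ G₂)), fun g => p.2 (g, 1)),
          (p.1.comp (MonoidHom.toAdditive (MonoidHom.inr G₁ G₂)), fun g => p.2 (1, g))))
      (W4c6brauerbgmalle.picOrb (G₁ × G₂) ((fun g => (g, (1 : G₂))) '' C₁ ∪ (fun g => ((1 : G₁), g)) '' C₂))
      ((W4c6brauerbgmalle.picOrb G₁ C₁ : Set _) ×ˢ (W4c6brauerbgmalle.picOrb G₂ C₂ : Set _)) := by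
  classical
  set C : Set (G₁ × G₂) := (fun g => (g, (1 : G₂))) '' C₁ ∪ (fun g => ((1 : G₁), g)) '' C₂ with hCdef
  have hC1 : ∀ g : G₁, g ∈ C₁ → ((g, 1) : G₁ × G₂) ∈ C := fun g hg => Or.inl ⟨g, hg, rfl⟩
  have hC2 : ∀ g : G₂, g ∈ C₂ → ((1, g) : G₁ × G₂) ∈ C := fun g hg => Or.inr ⟨g, hg, rfl⟩
  have hCcases : ∀ g : G₁ × G₂, g ∈ C → (g.1 ∈ C₁ ∧ g.2 = 1) ∨ (g.1 = 1 ∧ g.2 ∈ C₂) := by
    rintro g (⟨a, ha, rfl⟩ | ⟨b, hb, rfl⟩)
    · exact Or.inl ⟨ha, rfl⟩
    · exact Or.inr ⟨rfl, hb⟩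
  refine ⟨?_, ?_, ?_⟩
  · -- MapsTo
    rintro ⟨χ, w⟩ ⟨h1, h2, h3, h4⟩
    refine ⟨⟨h1, ?_, ?_, ?_⟩, ⟨h1, ?_, ?_, ?_⟩⟩
    · intro g hg
      by_cases hmem : ((g, 1) : G₁ × G₂) ∈ C
      · rcases hCcases _ hmem with ⟨h, -⟩ | ⟨h, -⟩
        · exact absurd h hg
        · have : g = 1 := h
          subst this
          exact h1
      · exact h2 _ hmem
    · intro g h
      have := h3 (g, 1) (h, 1)
      simpa using this
    · intro g hg
      exact h4 (g, 1) (hC1 g hg)
    · intro g hg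
      by_cases hmem : ((1, g) : G₁ × G₂) ∈ C
      · rcases hCcases _ hmem with ⟨-, h⟩ | ⟨-, h⟩
        · have : g = 1 := h
          subst this
          exact h1
        · exact absurd h hg
      · exact h2 _ hmem
    · intro g h
      have := h3 (1, g) (1, h)
      simpa using this
    · intro g hg
      exact h4 (1, g) (hC2 g hg)
  · -- InjOn
    rintro ⟨χ, w⟩ ⟨h1, h2, h3, h4⟩ ⟨χ', w'⟩ ⟨h1', h2', h3', h4'⟩ heq
    simp only [Prod.mk.injEq] at heq
    obtain ⟨⟨hχ1, hw1⟩, ⟨hχ2, hw2⟩⟩ := heq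
    have hχ : χ = χ' := by
      refine AddMonoidHom.ext fun g => ?_
      obtain ⟨g, rfl⟩ := Additive.ofMul.surjective g
      obtain ⟨g1, g2⟩ := g
      have hsplit : Additive.ofMul ((g1, g2) : G₁ × G₂) =
          Additive.ofMul ((g1, 1) : G₁ × G₂) + Additive.ofMul ((1, g2) : G₁ × G₂) := by
        rw [← ofMul_mul]; simp
      have e1 : χ (Additive.ofMul ((g1, 1) : G₁ × G₂)) = χ' (Additive.ofMul ((g1, 1) : G₁ × G₂)) :=
        DFunLike.congr_fun hχ1 (Additive.ofMul g1)
      have e2 : χ (Additive.ofMul ((1, g2) : G₁ × G₂)) = χ' (Additive.ofMul ((1, g2) : G₁ × G₂)) :=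
        DFunLike.congr_fun hχ2 (Additive.ofMul g2)
      rw [hsplit, map_add, map_add, e1, e2]
    have hw : w = w' := by
      funext g
      obtain ⟨g1, g2⟩ := g
      by_cases hmem : ((g1, g2) : G₁ × G₂) ∈ C
      · rcases hCcases _ hmem with ⟨-, h⟩ | ⟨h, -⟩
        · have : g2 = 1 := h
          subst this
          exact congrFun hw1 g1
        · have : g1 = 1 := h
          subst this
          exact congrFun hw2 g2
      · have a1 : w (g1, g2) = 0 := h2 _ hmem
        have a2 : w' (g1, g2) = 0 := h2' _ hmem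
        rw [a1, a2]
    rw [hχ, hw]
  · -- SurjOn
    rintro ⟨⟨χ₁, w₁⟩, ⟨χ₂, w₂⟩⟩ ⟨⟨a1, a2, a3, a4⟩, ⟨b1, b2, b3, b4⟩⟩
    change w₁ 1 = 0 at a1
    change ∀ g : G₁, g ∉ C₁ → w₁ g = 0 at a2
    change ∀ g h : G₁, w₁ (h * g * h⁻¹) = w₁ g at a3
    change ∀ g : G₁, g ∈ C₁ → W4c6brauerbgmalle.toQmodZ (w₁ g) = χ₁ (Additive.ofMul g) at a4
    change w₂ 1 = 0 at b1
    change ∀ g : G₂, g ∉ C₂ → w₂ g = 0 at b2
    change ∀ g h : G₂, w₂ (h * g * h⁻¹) = w₂ g at b3
    change ∀ g : G₂, g ∈ C₂ → W4c6brauerbgmalle.toQmodZ (w₂ g) = χ₂ (Additive.ofMul g) at b4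
    let χ : Additive (G₁ × G₂) →+ W4c6brauerbgmalle.QmodZ :=
      χ₁.comp (MonoidHom.toAdditive (MonoidHom.fst G₁ G₂)) +
        χ₂.comp (MonoidHom.toAdditive (MonoidHom.snd G₁ G₂))
    let w : G₁ × G₂ → ℚ := fun g =>
      if g.2 = 1 then w₁ g.1 else if g.1 = 1 then w₂ g.2 else 0
    have hχapp : ∀ (g1 : G₁) (g2 : G₂), χ (Additive.ofMul ((g1, g2) : G₁ × G₂)) =
        χ₁ (Additive.ofMul g1) + χ₂ (Additive.ofMul g2) := fun g1 g2 => rfl
    refine ⟨(χ, w), ⟨?_, ?_, ?_, ?_⟩, ?_⟩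
    · change w (1, 1) = 0
      simp [w, a1]
    · rintro ⟨g1, g2⟩ hg
      change w (g1, g2) = 0
      simp only [w]
      split_ifs with h2 h1
      · subst h2
        exact a2 g1 (fun hmem => hg (hC1 g1 hmem))
      · subst h1
        exact b2 g2 (fun hmem => hg (hC2 g2 hmem))
      · rfl
    · rintro ⟨g1, g2⟩ ⟨h1, h2⟩
      change w (h1 * g1 * h1⁻¹, h2 * g2 * h2⁻¹) = w (g1, g2)
      simp only [w, conj_eq_one_iff, a3, b3]
    · rintro ⟨g1, g2⟩ hg
      change W4c6brauerbgmalle.toQmodZ (w (g1, g2)) = χ (Additive.ofMul ((g1, g2) : G₁ × G₂))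
      rw [hχapp]
      rcases hCcases _ hg with ⟨hm, h⟩ | ⟨h, hm⟩
      · have : g2 = 1 := h
        subst this
        have hw : w (g1, 1) = w₁ g1 := by simp [w]
        rw [hw, a4 g1 hm, ofMul_one, map_zero, add_zero]
      · have : g1 = 1 := h
        subst this
        by_cases h2 : g2 = 1
        · subst h2
          have hw : w ((1 : G₁), (1 : G₂)) = 0 := by simp [w, a1]
          rw [hw, ofMul_one, ofMul_one, map_zero, map_zero, map_zero, add_zero]
        · have hw : w ((1 : G₁), g2) = w₂ g2 := by simp [w, h2]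
          rw [hw, b4 g2 hm, ofMul_one, map_zero, zero_add]
    · refine Prod.ext (Prod.ext ?_ ?_) (Prod.ext ?_ ?_)
      · refine AddMonoidHom.ext fun g => ?_
        obtain ⟨g, rfl⟩ := Additive.ofMul.surjective g
        change χ (Additive.ofMul ((g, 1) : G₁ × G₂)) = χ₁ (Additive.ofMul g)
        rw [hχapp, ofMul_one, map_zero, add_zero]
      · funext g
        change w (g, 1) = w₁ g
        simp [w]
      · refine AddMonoidHom.ext fun g => ?_
        obtain ⟨g, rfl⟩ := Additive.ofMul.surjective g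
        change χ (Additive.ofMul ((1, g) : G₁ × G₂)) = χ₂ (Additive.ofMul g)
        rw [hχapp, ofMul_one, map_zero, zero_add]
      · funext g
        change w (1, g) = w₂ g
        by_cases h2 : g = 1
        · subst h2
          simp [w, a1, b1]
        · simp [w, h2]

end Groth.Agent.S18953
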