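import Groth.Statements.S1896
import Groth.Agent.Lib.Helper17.StalkExact
import Groth.Agent.S1916

set_option autoImplicit false
universe u
open CategoryTheory AlgebraicGeometry
open Cyc

namespace Groth.Agent.S1896

/-- For a short exact sequence 0 → F → G → H → 0 of coherent O_X-modules (X locally Noetherian with
dimension function δ) whose supports have δ-dimension at most k, one has [G]_k = [F]_k + [H]_k
coefficientwise. Here (X, δ) satisfies Cyc.IsSetup (X locally Noetherian with universally catenary
local rings, δ a dimension function). -/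
theorem result (X : Scheme.{u}) (δ : X → ℤ) (hX : Cyc.IsSetup X δ) (k : ℤ) (T : ShortComplex X.Modules) (hT : T.ShortExact) (h₁ : Coh.IsCoh T.X₁) (h₂ : Coh.IsCoh T.X₂) (h₃ : Coh.IsCoh T.X₃) (hdim : ∀ x : X, Nontrivial (T.X₂.presheaf.stalk x) → δ x ≤ k) : Cyc.sheafFun δ k T.X₂ = Cyc.sheafFun δ k T.X₁ + Cyc.sheafFun δ k T.X₃ := by
  obtain ⟨hN, hUC, hdf⟩ := hX
  haveI : IsLocallyNoetherian X := hN
  haveI := hT.mono_f
  haveI := hT.epi_g
  funext x
  simp only [Pi.add_apply]
  unfold Cyc.sheafFun
  by_cases hx : δ x = k
  · simp only [if_pos hx]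
    have hadd := Module.length_eq_add_of_exact
      (Groth.Agent.Lib.Helper17.StalkExact.stalkLinearMap T.f x)
      (Groth.Agent.Lib.Helper17.StalkExact.stalkLinearMap T.g x)
      (Groth.Agent.Lib.Helper17.StalkExact.stalkHom_injective_of_mono T.f x)
      (Groth.Agent.Lib.Helper17.StalkExact.stalkHom_surjective_of_epi T.g x)
      (Groth.Agent.Lib.Helper17.StalkExact.stalkHom_exact_of_exact T hT.exact x)
    have hfin : Module.length (X.presheaf.stalk x) (T.X₂.presheaf.stalk x) < ⊤ := by
      by_cases hnt : Nontrivial (T.X₂.presheaf.stalk x)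
      · refine (Groth.Agent.S1916.result X T.X₂ h₂).2 x hnt (fun x' hx' hsp => ?_)
        by_contra hne
        have h1 := (hdf x' x hsp hne).1
        have h2 := hdim x' hx'
        omega
      · rw [not_nontrivial_iff_subsingleton] at hnt
        rw [Module.length_eq_zero]
        exact ENat.top_pos
    rw [hadd] at hfin ⊢
    have h1 : Module.length (X.presheaf.stalk x) (T.X₁.presheaf.stalk x) ≠ ⊤ := by
      intro h; rw [h, top_add] at hfin; exact lt_irrefl _ hfin
    have h3 : Module.length (X.presheaf.stalk x) (T.X₃.presheaf.stalk x) ≠ ⊤ := by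
      intro h; rw [h, add_top] at hfin; exact lt_irrefl _ hfin
    rw [ENat.toNat_add h1 h3]
    push_cast
    rfl
  · simp only [if_neg hx]
    rfl

end Groth.Agent.S1896
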