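import Groth.Statements.S18974
-- import your own Groth.Agent.* helpers here
import Groth.Agent.Lib.helper10.LNDSlice

set_option autoImplicit false
universe u
open CAlg

namespace Groth.Agent.S18974

/-- Let A be a commutative algebra over the rationals, D a locally nilpotent derivation of A and a an
element with D a = 1; write A' for the quotient of A by the ideal generated by a. Then there is a
ring isomorphism from A onto the polynomial ring A'[Y] which sends every x to the (finite) sum over
n of (1/n!) (class of D^n x) Y^n; its inverse sends Y to a and the constant polynomial on the class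
of x to the sum over n of ((-1)^n/n!) (D^n x) a^n, and under it D corresponds to the derivative
d/dY. (The source says only that A is a ring, in a setting over a field of characteristic zero; the
rational coefficients 1/n! require an algebra over the rationals, which is the hypothesis taken
here. Both sums are written over any range beyond which the iterates of D vanish at x.) -/
theorem result
    (A : Type u) [CommRing A] [Algebra ℚ A] (D : Derivation ℚ A A)
    (hnil : ∀ x : A, ∃ n : ℕ, ((D : A →ₗ[ℚ] A) ^ n) x = 0) (a : A) (ha : D a = 1) :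
    ∃ χ : A ≃+* Polynomial (A ⧸ Ideal.span ({a} : Set A)),
      (∀ (x : A) (N : ℕ), ((D : A →ₗ[ℚ] A) ^ N) x = 0 →
        χ x = ∑ n ∈ Finset.range N,
          ((n.factorial : ℚ)⁻¹ • Polynomial.C (Ideal.Quotient.mk (Ideal.span ({a} : Set A)) (((D : A →ₗ[ℚ] A) ^ n) x))) *
            Polynomial.X ^ n) ∧
      χ.symm Polynomial.X = a ∧
      (∀ (x : A) (N : ℕ), ((D : A →ₗ[ℚ] A) ^ N) x = 0 →
        χ.symm (Polynomial.C (Ideal.Quotient.mk (Ideal.span ({a} : Set A)) x)) =
          ∑ n ∈ Finset.range N, (((-1 : ℚ) ^ n * (n.factorial : ℚ)⁻¹) • ((((D : A →ₗ[ℚ] A) ^ n) x) * a ^ n))) ∧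
      ∀ p : Polynomial (A ⧸ Ideal.span ({a} : Set A)), χ (D (χ.symm p)) = Polynomial.derivative p := by
  have hpow : ∀ (n : ℕ) (x : A), ((D : A →ₗ[ℚ] A) ^ n) x = D^[n] x := by
    intro n x
    rw [Module.End.pow_apply]
    rfl
  have hnil' : ∀ x : A, ∃ n : ℕ, D^[n] x = 0 := fun x => by
    obtain ⟨n, hn⟩ := hnil x
    exact ⟨n, by rw [← hpow]; exact hn⟩
  refine ⟨Groth.Agent.Lib.helper10.LNDSlice.chi D hnil' a ha, ?_,
    Groth.Agent.Lib.helper10.LNDSlice.chi_symm_X D hnil' a ha, ?_,
    Groth.Agent.Lib.helper10.LNDSlice.chi_D D hnil' a ha⟩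
  · intro x N hN
    simp only [hpow] at hN ⊢
    exact Groth.Agent.Lib.helper10.LNDSlice.chi_formula D hnil' a ha x N hN
  · intro x N hN
    simp only [hpow] at hN ⊢
    exact Groth.Agent.Lib.helper10.LNDSlice.chi_symm_C D hnil' a ha x N hN

end Groth.Agent.S18974
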