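import Groth.Statements.S18975
import Groth.Agent.Lib.Helper26.GQ1
import Groth.Agent.Lib.Helper26.TC1
import Groth.Agent.Lib.Helper26.PB1
import Groth.Agent.Lib.Helper4.AffineDescent
import Groth.Agent.Lib.Helper4.MaxOpenGrp
import Groth.Agent.Lib.Helper9.FpqcLoc2
import Groth.Agent.S0079

set_option autoImplicit false
universe u
open CategoryTheory MonoidalCategory CartesianMonoidalCategory MonObj AlgebraicGeometry
open GIT

namespace Groth.Agent.S18975

/-- Over an algebraically closed field k of characteristic zero, let G be an affine group scheme of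
finite type over k acting on a k-scheme X, and let φ : X → Y be a morphism of k-schemes which is a
G-torsor over Y: the square formed by the action G ×_k X → X, the second projection and φ (twice) is
cartesian, and φ acquires sections on the members of some fpqc covering family of Y. Then φ is
affine and (Y, φ) is a geometric quotient: φ is invariant and surjective, G ×_k X → X ×_Y X is
surjective, φ is universally submersive, and over every open of Y the functions on Y are exactly the
invariant functions on its preimage. (The source defines a torsor by the existence of one fpqc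
morphism to Y trivialising it and defines geometric quotients with φ affine and submersive;
universal submersiveness follows because every base change of a torsor is a torsor.) -/
theorem result
    (k : Type u) [Field k] [IsAlgClosed k] [CharZero k]
    (G X Y : Over (Spec (CommRingCat.of k))) [GrpObj G] [IsAffine G.left] [LocallyOfFiniteType G.hom]
    (a : AlgGrp.Action G X) (φ : X ⟶ Y)
    (hcart : IsPullback a.act (snd G X) φ φ)
    (hloc : NonAbH1.IsLocallyTrivialFor Scheme.fpqcPrecoverage (Over.mk φ.left : Over Y.left)) :
    IsAffineHom φ.left ∧ GIT.IsGeomQuot a φ := by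
  have hinv : GIT.IsInvariant a φ := hcart.w
  have hcartL : IsPullback a.act.left (snd G X).left φ.left φ.left := hcart.map (Over.forget _)
  -- PsiY is an isomorphism
  have hΨ : GIT.PsiY a φ hinv = hcartL.isoPullback.hom := by
    apply Limits.pullback.hom_ext
    · rw [Lib.Helper26.PB1.psiY_fst, IsPullback.isoPullback_hom_fst]
    · rw [Lib.Helper26.PB1.psiY_snd, IsPullback.isoPullback_hom_snd]
  have hΨiso : IsIso (GIT.PsiY a φ hinv) := by rw [hΨ]; infer_instance
  -- properties of G over k
  have hG1 : Flat G.hom := inferInstance
  have hG2 : Surjective G.hom := Lib.Helper4.ActShear.surjective_hom (G := G)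
  have hG3 : QuasiCompact G.hom := inferInstance
  have hG4 : IsAffineHom G.hom := inferInstance
  obtain ⟨R, hR, hsec⟩ := hloc
  -- base change of φ to a member of the covering is a base change of G
  have key : ∀ (P : MorphismProperty Scheme.{u}) [P.IsStableUnderBaseChange], P G.hom →
      ∀ ⦃U : Scheme.{u}⦄ (g : U ⟶ Y.left), R g → P (Limits.pullback.snd φ.left g) := by
    intro P _ hPG U g hg
    obtain ⟨s, hs⟩ := hsec g hg
    change s ≫ φ.left = g at hs
    let U' : Over (Spec (CommRingCat.of k)) := Over.mk (g ≫ Y.hom)
    let s' : U' ⟶ X := Over.homMk s (by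
      change s ≫ X.hom = g ≫ Y.hom
      rw [← Over.w φ, ← Category.assoc, hs])
    have sq1 := Lib.Helper4.MaxOpenGrp.isPullback_whiskerLeft G U' X s'
    have sq : IsPullback ((G ◁ s').left ≫ a.act.left) (snd G U').left φ.left g := by
      have := sq1.paste_horiz hcartL
      have hs' : s'.left ≫ φ.left = g := hs
      rw [hs'] at this
      exact this
    have hP1 : P (snd G U').left := by
      change P (Limits.pullback.snd G.hom U'.hom)
      exact MorphismProperty.pullback_snd _ _ hPG
    exact Lib.Helper9.FpqcLoc.prop_snd_of_isPullback (P := P) sq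
      (IsPullback.of_hasPullback φ.left g) hP1
  have := Lib.Helper9.FpqcLoc.descendsAlong_flat_fpqc.{u}
  have := Groth.Agent.S0079.result.{u}
  have hφ1 : Flat φ.left :=
    Lib.Helper9.FpqcLoc.of_mem_fpqcPrecoverage (P := @Flat) φ.left hR (key @Flat hG1)
  have hφ2 : Surjective φ.left :=
    Lib.Helper9.FpqcLoc.of_mem_fpqcPrecoverage (P := @Surjective) φ.left hR (key @Surjective hG2)
  have hφ3 : QuasiCompact φ.left :=
    Lib.Helper9.FpqcLoc.of_mem_fpqcPrecoverage (P := @QuasiCompact) φ.left hR (key @QuasiCompact hG3)
  have hφ4 : IsAffineHom φ.left :=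
    Lib.Helper9.FpqcLoc.of_mem_fpqcPrecoverage (P := @IsAffineHom) φ.left hR (key @IsAffineHom hG4)
  refine ⟨hφ4, Lib.Helper26.GQ1.isGeomQuot_of_torsor a φ hinv (fun T u v huv => ?_) ?_⟩
  · exact Lib.Helper26.TC1.tors_exists hcart u v huv
  · exact (GIT.PsiY a φ hinv).surjective

end Groth.Agent.S18975
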