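import Groth.Statements.S1899
import Groth.Agent.Lib.Helper18.Cyc.PushStalk
import Groth.Agent.Lib.Helper18.Cyc.UnitStalk

open Groth.Agent.Lib.Helper18
set_option linter.style.haveILetI false

set_option autoImplicit false
universe u
open CategoryTheory AlgebraicGeometry
open Cyc

namespace Groth.Agent.S1899

/-- For a closed immersion i : Z → X with Z of δ-dimension ≤ k, [Z]_k = [O_Z]_k, i.e. the multiplicities
computed from lengths of the local rings O_{Z,z} agree with those computed from the stalks of i_*O_Z
as O_X-modules. A pair (X, δ) with Cyc.IsSetup plays the role of a scheme locally of finite type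
over a fixed base with a dimension function (X locally Noetherian with universally catenary local
rings, δ a dimension function), and Cyc.DeltaCompat records that the dimension function upstairs is
the induced one. -/
theorem result (X Z : Scheme.{u}) (δ : X → ℤ) (hX : Cyc.IsSetup X δ) (i : Z ⟶ X) [IsClosedImmersion i] (k : ℤ) (hdim : ∀ z : Z, δ (i z) ≤ k) : Cyc.subschemeFun δ k i = Cyc.sheafFun δ k ((Coh.push i).obj (Coh.structureModule Z)) := by
  funext x
  unfold Cyc.subschemeFun Cyc.sheafFun
  by_cases hx : δ x = k
  · simp only [if_pos hx]
    by_cases hr : x ∈ Set.range i
    · obtain ⟨z, rfl⟩ := hr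
      have hinj : Function.Injective i := i.isClosedEmbedding.injective
      have hfib : {z' : Z | i z' = i z} = {z} := by
        ext z'
        simp only [Set.mem_ofPred_eq, Set.mem_singleton_iff]
        exact ⟨fun h => hinj h, fun h => h ▸ rfl⟩
      rw [hfib, finsum_mem_singleton]
      congr 2
      -- the length comparison
      let A := X.presheaf.stalk (i z)
      let B := Z.presheaf.stalk z
      let φ : A →+* B := (i.stalkMap z).hom
      have hφ : Function.Surjective φ := i.stalkMap_surjective z
      let M := (Coh.structureModule Z).presheaf.stalk z
      let N := ((Coh.push i).obj (Coh.structureModule Z)).presheaf.stalk (i z)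
      letI : Algebra A B := φ.toAlgebra
      letI : Module A M := Module.compHom M φ
      haveI : IsScalarTower A B M := IsScalarTower.of_algebraMap_smul fun r m => rfl
      have h1 : Module.length A M = Module.length B M :=
        Module.length_eq_of_surjective hφ
      have h2 : Module.length B M = Module.length B B :=
        (CycUnitStalk.e Z z).symm.length_eq
      let ψ : N ≃ₗ[A] M :=
        { (AddEquiv.ofBijective (CycPush.pushStalk i (Coh.structureModule Z) z)
            (CycPush.pushStalk_bijective i _ i.isClosedEmbedding.isInducing z)) with
          map_smul' := fun a n => CycPush.pushStalk_smul i _ z a n }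
      have h3 : Module.length A N = Module.length A M := ψ.length_eq
      rw [h3, h1, h2]
    · have hfib : {z : Z | i z = x} = ∅ := by
        ext z
        simp only [Set.mem_ofPred_eq, Set.mem_empty_iff_false, iff_false]
        exact fun h => hr ⟨z, h⟩
      rw [hfib, finsum_mem_empty]
      haveI := CycPush.stalk_subsingleton_of_notMem_range i (Coh.structureModule Z)
        i.isClosedEmbedding.isClosed_range x hr
      rw [Module.length_eq_zero]
      rfl
  · simp only [if_neg hx]

end Groth.Agent.S1899
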