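import Groth.Statements.S19005
import Mathlib.Tactic.Ring
import Mathlib.Tactic.Abel
import Mathlib.Algebra.Group.Int.Even

set_option autoImplicit false
open scoped TensorProduct
open K2Cent

namespace Groth.Agent.S19005

/-- For abelian groups X and M and ε in M with 2ε = 0 (in the source X is the character group of a split
torus and ε is the class of −1 among the units), the map x ↦ (x ⊗ x, −(x ⊗ ε)) into (X ⊗ X) × (X ⊗
M) is quadratic over ℤ, i.e. it underlies an integer quadratic map with exactly these values. -/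
theorem result (X M : Type*) [AddCommGroup X]
    [AddCommGroup M] (ε : M) (hε : 2 • ε = 0) :
    ∃ R : QuadraticMap ℤ X (TensorProduct ℤ X X × TensorProduct ℤ X M),
      ∀ x : X, R x = (x ⊗ₜ[ℤ] x, -(x ⊗ₜ[ℤ] ε)) := by
  have hsm : ∀ (a : ℤ) (x : X), a • (x ⊗ₜ[ℤ] ε) = (a * a) • (x ⊗ₜ[ℤ] ε) := by
    intro a x
    obtain ⟨k, hk⟩ := Int.even_mul_succ_self (a - 1)
    have h1 : a * a = a + (k + k) := by
      have : (a - 1) * (a - 1 + 1) = a * a - a := by ring
      rw [this] at hk
      linarith
    have h2 : (k + k) • ε = 0 := by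
      rw [← two_mul, mul_comm, mul_smul]
      have : (2 : ℤ) • ε = 0 := by
        rw [show (2 : ℤ) = ((2 : ℕ) : ℤ) from rfl, natCast_zsmul]; exact hε
      rw [this, smul_zero]
    rw [h1, add_smul, ← TensorProduct.tmul_smul (k + k), h2, TensorProduct.tmul_zero, add_zero]
  let B : LinearMap.BilinMap ℤ X (TensorProduct ℤ X X × TensorProduct ℤ X M) :=
    LinearMap.mk₂ ℤ (fun x y => (x ⊗ₜ[ℤ] y + y ⊗ₜ[ℤ] x, 0))
      (fun x x' y => by
        ext
        · simp only [TensorProduct.add_tmul, TensorProduct.tmul_add, Prod.fst_add]; abel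
        · simp)
      (fun a x y => by
        ext
        · simp only [TensorProduct.smul_tmul', TensorProduct.tmul_smul, smul_add, Prod.smul_fst]
        · simp)
      (fun x y y' => by
        ext
        · simp only [TensorProduct.add_tmul, TensorProduct.tmul_add, Prod.fst_add]; abel
        · simp)
      (fun a x y => by
        ext
        · simp only [TensorProduct.smul_tmul', TensorProduct.tmul_smul, smul_add, Prod.smul_fst]
        · simp)
  refine ⟨⟨fun x => (x ⊗ₜ[ℤ] x, -(x ⊗ₜ[ℤ] ε)), ?_, ⟨B, ?_⟩⟩, fun x => rfl⟩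
  · intro a x
    ext
    · simp only [TensorProduct.smul_tmul', TensorProduct.tmul_smul, smul_smul, Prod.smul_fst]
    · simp only [Prod.smul_snd, smul_neg, TensorProduct.smul_tmul', neg_inj]
      rw [← TensorProduct.smul_tmul', ← TensorProduct.smul_tmul']
      exact hsm a x
  · intro x y
    ext
    · simp only [B, LinearMap.mk₂_apply, TensorProduct.add_tmul, TensorProduct.tmul_add, Prod.fst_add]
      abel
    · simp only [B, LinearMap.mk₂_apply, TensorProduct.add_tmul, Prod.snd_add, neg_add, add_zero]

end Groth.Agent.S19005
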