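import Groth.Statements.S19007
import Mathlib

set_option autoImplicit false
universe u v w x
open RootD

namespace Groth.Agent.S19007

/-- Let P be a finite reduced crystallographic root pairing over an integral domain of characteristic
zero, b a base of P (a system of simple roots) and Q a quadratic form on the coweight module with
polar form B. Then Q is invariant under all root reflections (equivalently under the Weyl group) on
the span of the coroots if and only if for all pairs of distinct simple roots α_i ≠ α_j one has
B(α_i^∨, α_j^∨) = ⟨α_j, α_i^∨⟩ Q(α_j^∨). (In the source the form is integer-valued on the lattice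
spanned by the coroots and the condition says that the bilinear form lies in the kernel of the last
map of a three-term complex built from the Bruhat cells of codimension at most two; here the form
takes values in the base ring.) -/
theorem result {ι : Type u} {R : Type v} {M : Type w} {N : Type x} [CommRing R] [IsDomain R] [CharZero R]
    [AddCommGroup M] [Module R M] [AddCommGroup N] [Module R N] (P : RootPairing ι R M N)
    [Finite ι] [P.IsCrystallographic] [P.IsReduced] (b : P.Base) (Q : QuadraticMap R N R) :
    (∀ i : ι, ∀ y ∈ Submodule.span R (Set.range P.coroot), Q (P.coreflection i y) = Q y) ↔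
      ∀ i ∈ b.support, ∀ j ∈ b.support, i ≠ j →
        QuadraticMap.polar Q (P.coroot i) (P.coroot j) = P.pairing j i * Q (P.coroot j) := by
  classical
  have key : ∀ (j : ι) (y : N), Q (P.coreflection j y) =
      Q y + P.root' j y * (P.root' j y * Q (P.coroot j) - QuadraticMap.polar Q y (P.coroot j)) := by
    intro j y
    rw [P.coreflection_apply, sub_eq_add_neg, ← neg_smul, QuadraticMap.map_add Q,
      QuadraticMap.map_smul, QuadraticMap.polar_smul_right]
    simp only [smul_eq_mul]; ring
  set C : Submodule R N := Submodule.span R (Set.range P.coroot) with hC
  have hcoroot : ∀ i, P.coroot i ∈ C := fun i => Submodule.subset_span ⟨i, rfl⟩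
  have hstab : ∀ i, ∀ y ∈ C, P.coreflection i y ∈ C := by
    intro i y hy
    have : C.map (P.coreflection i : N →ₗ[R] N) = C := by
      rw [hC, Submodule.map_span]
      congr 1
      exact P.coreflection_image_eq i
    rw [← this]
    exact Submodule.mem_map_of_mem hy
  -- the linear functional f j
  let F : ι → N →ₗ[R] R := fun j =>
    Q (P.coroot j) • P.root' j - (QuadraticMap.polarBilin Q).flip (P.coroot j)
  have hF : ∀ j y, F j y = P.root' j y * Q (P.coroot j) - QuadraticMap.polar Q y (P.coroot j) := by
    intro j y
    simp [F, mul_comm]
  have hFself : ∀ j, F j (P.coroot j) = 0 := by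
    intro j
    rw [hF, QuadraticMap.polar_self]
    have : P.root' j (P.coroot j) = 2 := by simp
    rw [this]; ring
  have key' : ∀ j y, Q (P.coreflection j y) = Q y + P.root' j y * F j y := by
    intro j y; rw [key, hF]
  constructor
  · intro hinv i _ j _ hij
    have hz : ∀ y ∈ C, F j y = 0 := by
      intro y hy
      have h1 : P.root' j y * F j y = 0 := by
        have := hinv j y hy
        rw [key'] at this
        simpa using this
      have h2 : P.root' j (y + P.coroot j) * F j (y + P.coroot j) = 0 := by
        have := hinv j (y + P.coroot j) (add_mem hy (hcoroot j))
        rw [key'] at this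
        simpa using this
      rw [map_add, map_add, hFself, add_zero] at h2
      have : P.root' j (P.coroot j) = 2 := by simp
      rw [this, add_mul, h1, zero_add] at h2
      exact (mul_eq_zero.mp h2).resolve_left two_ne_zero
    have := hz (P.coroot i) (hcoroot i)
    rw [hF] at this
    have hp : P.root' j (P.coroot i) = P.pairing j i := by simp
    rw [hp] at this
    exact (sub_eq_zero.mp this).symm
  · intro hsimple
    have hFz : ∀ j ∈ b.support, ∀ y ∈ C, F j y = 0 := by
      intro j hj y hy
      have hle : C ≤ LinearMap.ker (F j) := by
        rw [hC]
        have := b.span_coroot_support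
        rw [RootPairing.corootSpan] at this
        rw [← this, Submodule.span_le]
        rintro _ ⟨i, hi, rfl⟩
        rw [SetLike.mem_coe, LinearMap.mem_ker]
        by_cases hij : i = j
        · rw [hij]; exact hFself j
        · rw [hF, hsimple i hi j hj hij]
          have hp : P.root' j (P.coroot i) = P.pairing j i := by simp
          rw [hp, sub_self]
      exact hle hy
    have hconj : ∀ i j, (∀ y ∈ C, Q (P.coreflection i y) = Q y) →
        (∀ y ∈ C, Q (P.coreflection j y) = Q y) →
        ∀ y ∈ C, Q (P.coreflection (P.reflectionPerm j i) y) = Q y := by
      intro i j hi hj y hy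
      have h := P.flip.reflection_reflectionPerm (i := i) (j := j)
      have h' : P.coreflection (P.reflectionPerm j i) y =
          P.coreflection j (P.coreflection i (P.coreflection j y)) := by
        have := congrArg (fun e => e y) h
        exact this
      rw [h', hj _ (hstab i _ (hstab j _ hy)), hi _ (hstab j _ hy), hj _ hy]
    intro i
    refine b.induction_reflect i (p := fun i => ∀ y ∈ C, Q (P.coreflection i y) = Q y) ?_ ?_ ?_
    · intro i hi
      exact hconj i i hi hi
    · intro j hj y hy
      rw [key', hFz j hj y hy, mul_zero, add_zero]
    · intro i j hi hj
      refine hconj i j hi ?_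
      intro y hy
      rw [key', hFz j hj y hy, mul_zero, add_zero]

end Groth.Agent.S19007
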