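import Groth.Statements.S19008
import Groth.Agent.Lib.lead.ZFormB
import Groth.Agent.Lib.lead.DynkinLeaf

set_option autoImplicit false
universe u v w x
open RootD

namespace Groth.Agent.S19008

/-- Let P be a finite reduced crystallographic root pairing over an integral domain of characteristic
zero and b a base (simple roots α_i, i in the support of b), with Cartan integers a_ij = ⟨α_i,
α_j^∨⟩. An integer-valued bilinear form C on the lattice with basis the simple coroots is an integer
matrix C_ij = C(α_i^∨, α_j^∨), and the component of the last map of the complex at the pair (i, j),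
i ≠ j, is C ↦ C(α_i^∨, α_j^∨) + C(α_j^∨, s_j(α_i^∨)) = C_ij + C_ji − a_ji C_jj; the pairs (i, j) and
(j, i) index the same component exactly when α_i and α_j are orthogonal. This map is surjective: for
every family of integers d_ij (i ≠ j in the support) with d_ij = d_ji whenever a_ij = 0 there is an
integer matrix C with C_ij + C_ji − a_ji C_jj = d_ij for all i ≠ j in the support. -/
theorem result {ι : Type u} {R : Type v} {M : Type w} {N : Type x} [CommRing R] [IsDomain R] [CharZero R]
    [AddCommGroup M] [Module R M] [AddCommGroup N] [Module R N] (P : RootPairing ι R M N)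
    [Finite ι] [P.IsCrystallographic] [P.IsReduced] (b : P.Base) (d : ι → ι → ℤ)
    (hd : ∀ i ∈ b.support, ∀ j ∈ b.support, i ≠ j → P.pairingIn ℤ i j = 0 → d i j = d j i) :
    ∃ C : ι → ι → ℤ, ∀ i ∈ b.support, ∀ j ∈ b.support, i ≠ j →
      C i j + C j i - P.pairingIn ℤ j i * C j j = d i j := by
  classical
  have := Fintype.ofFinite ι
  have hΔ := Groth.Agent.ZForm.isSimpleSys_of_base P b
  have hpair : ∀ i j, (Groth.Agent.ZForm.zForm P).pairing i j = P.pairingIn ℤ i j := fun _ _ => rfl
  let e : ι → ι → ℤ := fun i j => d i j - d j i
  have hsymm : ∀ i j, (Groth.Agent.ZForm.zForm P).pairing i j = 0 ↔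
      (Groth.Agent.ZForm.zForm P).pairing j i = 0 :=
    fun i j => (Groth.Agent.ZForm.zForm P).pairing_eq_zero_iff'
  obtain ⟨x, hx⟩ := Groth.Agent.RootDL.exists_diag_solution (P := Groth.Agent.ZForm.zForm P)
    b.support hΔ.linInd
    (fun i hi j hj hij => by rw [hpair]; exact b.pairingIn_le_zero_of_ne hij hi hj)
    hsymm e (fun i j => by simp only [e]; ring)
    (fun i hi j hj hij h0 => by
      simp only [e]
      rw [hpair] at h0
      rw [hd i hi j hj hij h0, sub_self])
    b.support.card b.support rfl subset_rfl
  letI : LinearOrder ι := IsWellOrder.linearOrder WellOrderingRel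
  refine ⟨fun i j => if i = j then x i else if i < j then d i j + P.pairingIn ℤ j i * x j else 0,
    fun i hi j hj hij => ?_⟩
  have hxij := hx i hi j hj hij
  simp only [hpair, e] at hxij
  simp only [if_neg hij, if_neg (Ne.symm hij), if_true]
  rcases lt_or_gt_of_ne hij with h | h
  · rw [if_pos h, if_neg (not_lt.mpr h.le)]
    ring
  · rw [if_neg (not_lt.mpr h.le), if_pos h]
    linarith

end Groth.Agent.S19008
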