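import Groth.Statements.S19009
import Groth.Agent.Lib.lead.QuadInv
import Groth.Agent.S19006

set_option autoImplicit false
universe u v w x
open RootD

namespace Groth.Agent.S19009

/-- Let P be a root pairing over an integral domain R of characteristic zero (roots α acting on the
coweight module N through reflections y ↦ y − ⟨α, y⟩ α^∨), D ⊆ N a submodule containing every coroot
and such that every element of D has a positive integer multiple in the span of the coroots (the
derived part), and Y₀ a complement of D in N. Let Q_d be a quadratic form on N whose restriction to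
D is invariant under all root reflections. Then there is a quadratic form on N, invariant under all
root reflections and agreeing with Q_d on D, if and only if there is an R-bilinear form Φ on N with
Φ(y₀, α^∨) = ⟨α, y₀⟩ Q_d(α^∨) for all y₀ in Y₀ and all roots α. (In the source R = ℤ, N = Y₀ ⊕ Y_der
is the cocharacter lattice of a split reductive group, and the condition is phrased as integrality
on Y₀ × Y_der of the pairing y₀, y ↦ B(q(y₀), y) deduced from the polar form B of Q_d; that pairing
is characterised by the displayed values on coroots, only the values of Φ on Y₀ × D matter, and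
forms take values in R here.) -/
theorem result {ι : Type u} {R : Type v} {M : Type w} {N : Type x} [CommRing R] [IsDomain R] [CharZero R]
    [AddCommGroup M] [Module R M] [AddCommGroup N] [Module R N] (P : RootPairing ι R M N)
    (D Y₀ : Submodule R N) (hD : ∀ i : ι, P.coroot i ∈ D)
    (hDsat : ∀ y ∈ D, ∃ n : ℕ, 0 < n ∧ n • y ∈ Submodule.span R (Set.range P.coroot))
    (hc : IsCompl Y₀ D)
    (Qd : QuadraticMap R N R) (hQd : ∀ i : ι, ∀ y ∈ D, Qd (P.coreflection i y) = Qd y) :
    (∃ Q : QuadraticMap R N R, (∀ (i : ι) (y : N), Q (P.coreflection i y) = Q y) ∧ ∀ y ∈ D, Q y = Qd y) ↔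
      ∃ Φ : N →ₗ[R] N →ₗ[R] R, ∀ y₀ ∈ Y₀, ∀ i : ι,
        Φ y₀ (P.coroot i) = P.root' i y₀ * Qd (P.coroot i) := by
  classical
  set e₀ : N →ₗ[R] N := Y₀.projection D hc with he₀
  set eD : N →ₗ[R] N := D.projection Y₀ hc.symm with heD
  have hsum : ∀ x, e₀ x + eD x = x := fun x => Submodule.projection_add_projection_eq_self hc x
  have heDmem : ∀ x, eD x ∈ D := fun x => Submodule.projection_apply_mem hc.symm x
  have he₀mem : ∀ x, e₀ x ∈ Y₀ := fun x => Submodule.projection_apply_mem hc x
  have he₀D : ∀ d ∈ D, e₀ d = 0 := by
    intro d hd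
    exact (Submodule.projection_apply_eq_zero_iff hc).mpr hd
  have heDD : ∀ d ∈ D, eD d = d := fun d hd => Submodule.projection_apply_of_mem_left hc.symm hd
  constructor
  · rintro ⟨Q, hinv, hag⟩
    refine ⟨QuadraticMap.polarBilin Q, ?_⟩
    intro y₀ _ i
    have := (Groth.Agent.S19006.result P Q i).mp (hinv i) y₀
    rw [QuadraticMap.polarBilin_apply_apply, this, hag _ (hD i)]
  · rintro ⟨Φ, hΦ⟩
    have hpolD : ∀ (i : ι) (y : N), y ∈ D →
        QuadraticMap.polar Qd y (P.coroot i) = P.root' i y * Qd (P.coroot i) :=
      fun i y hy => Groth.Agent.QuadInv.polar_eq_of_inv_on P Qd D i (hD i) (hQd i) y hy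
    let Bm : N →ₗ[R] N →ₗ[R] R := Φ.compl₁₂ e₀ eD
    let Q : QuadraticMap R N R := Qd.comp eD + LinearMap.BilinMap.toQuadraticMap Bm
    have hQx : ∀ x, Q x = Qd (eD x) + Φ (e₀ x) (eD x) := by
      intro x
      simp [Q, Bm]
    refine ⟨Q, ?_, ?_⟩
    · intro i x
      have hs : P.coreflection i x = x - P.root' i x • P.coroot i := P.coreflection_apply i x
      have h0 : e₀ (P.coreflection i x) = e₀ x := by
        rw [hs, map_sub, map_smul, he₀D _ (hD i), smul_zero, sub_zero]
      have hDx : eD (P.coreflection i x) = eD x - P.root' i x • P.coroot i := by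
        rw [hs, map_sub, map_smul, heDD _ (hD i)]
      rw [hQx, hQx, h0, hDx, Groth.Agent.QuadInv.map_sub_smul, map_sub, map_smul,
        hpolD i _ (heDmem x), hΦ _ (he₀mem x) i, smul_eq_mul]
      have hc' : P.root' i x = P.root' i (e₀ x) + P.root' i (eD x) := by
        rw [← map_add, hsum]
      rw [hc']
      ring
    · intro d hd
      rw [hQx, heDD d hd, he₀D d hd]
      simp

end Groth.Agent.S19009
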