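import Groth.Statements.S19010
import Groth.Agent.Lib.lead.QuadInv
import Groth.Agent.S19006

set_option autoImplicit false
universe u v w x
open RootD

namespace Groth.Agent.S19010

/-- Let P be a root pairing over an integral domain R of characteristic zero (roots α acting on the
coweight module N through reflections y ↦ y − ⟨α, y⟩ α^∨), D ⊆ N a submodule containing every coroot
and such that every element of D has a positive integer multiple in the span of the coroots (the
derived part), and Y₀ a complement of D in N. Let Q' be a quadratic form on N invariant under all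
root reflections. Then restriction to Y₀ is a bijection from the set of quadratic forms on N that
are invariant under all root reflections and agree with Q' on D onto the set of all quadratic forms
on Y₀. (In the source R = ℤ and N = Y₀ ⊕ Y_der is the cocharacter lattice of a split reductive
group; forms take values in R here.) -/
theorem result {ι : Type u} {R : Type v} {M : Type w} {N : Type x} [CommRing R] [IsDomain R] [CharZero R]
    [AddCommGroup M] [Module R M] [AddCommGroup N] [Module R N] (P : RootPairing ι R M N)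
    (D Y₀ : Submodule R N) (hD : ∀ i : ι, P.coroot i ∈ D)
    (hDsat : ∀ y ∈ D, ∃ n : ℕ, 0 < n ∧ n • y ∈ Submodule.span R (Set.range P.coroot))
    (hc : IsCompl Y₀ D)
    (Q' : QuadraticMap R N R) (hQ' : ∀ (i : ι) (y : N), Q' (P.coreflection i y) = Q' y) :
    Set.BijOn (fun Q : QuadraticMap R N R => Q.comp Y₀.subtype)
      {Q | (∀ (i : ι) (y : N), Q (P.coreflection i y) = Q y) ∧ ∀ y ∈ D, Q y = Q' y} Set.univ := by
  classical
  have hpolQ' : ∀ (i : ι) (y : N),
      QuadraticMap.polar Q' y (P.coroot i) = P.root' i y * Q' (P.coroot i) :=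
    fun i => (Groth.Agent.S19006.result P Q' i).mp (hQ' i)
  set e₀ : N →ₗ[R] N := Y₀.projection D hc with he₀
  set eD : N →ₗ[R] N := D.projection Y₀ hc.symm with heD
  set P₀ : N →ₗ[R] Y₀ := Y₀.projectionOnto D hc with hP₀
  have hsum : ∀ x, e₀ x + eD x = x := fun x => Submodule.projection_add_projection_eq_self hc x
  have heDmem : ∀ x, eD x ∈ D := fun x => Submodule.projection_apply_mem hc.symm x
  have hP₀coe : ∀ x, (P₀ x : N) = e₀ x := fun x => rfl
  have he₀D : ∀ d ∈ D, e₀ d = 0 := by
    intro d hd
    exact (Submodule.projection_apply_eq_zero_iff hc).mpr hd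
  have heDD : ∀ d ∈ D, eD d = d := fun d hd => Submodule.projection_apply_of_mem_left hc.symm hd
  have he₀Y : ∀ y ∈ Y₀, e₀ y = y := fun y hy => Submodule.projection_apply_of_mem_left hc hy
  have heDY : ∀ y ∈ Y₀, eD y = 0 := by
    intro y hy
    exact (Submodule.projection_apply_eq_zero_iff hc.symm).mpr hy
  refine ⟨fun _ _ => Set.mem_univ _, ?_, ?_⟩
  · -- injectivity
    rintro Q₁ ⟨hinv₁, hag₁⟩ Q₂ ⟨hinv₂, hag₂⟩ heq
    have hpol₁ : ∀ (i : ι) (y : N),
        QuadraticMap.polar Q₁ y (P.coroot i) = P.root' i y * Q₁ (P.coroot i) :=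
      fun i => (Groth.Agent.S19006.result P Q₁ i).mp (hinv₁ i)
    have hpol₂ : ∀ (i : ι) (y : N),
        QuadraticMap.polar Q₂ y (P.coroot i) = P.root' i y * Q₂ (P.coroot i) :=
      fun i => (Groth.Agent.S19006.result P Q₂ i).mp (hinv₂ i)
    have hpp : ∀ y d, d ∈ D → QuadraticMap.polar Q₁ y d = QuadraticMap.polar Q₂ y d := by
      intro y d hd
      exact Groth.Agent.QuadInv.polar_eq_of_agree P D hD hDsat Q₁ Q₂ hpol₁ hpol₂
        (fun i => by rw [hag₁ _ (hD i), hag₂ _ (hD i)]) y d hd
    ext x
    have hx := hsum x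
    have e1 : Q₁ x = Q₁ (e₀ x) + Q₁ (eD x) + QuadraticMap.polar Q₁ (e₀ x) (eD x) := by
      rw [← QuadraticMap.map_add Q₁, hx]
    have e2 : Q₂ x = Q₂ (e₀ x) + Q₂ (eD x) + QuadraticMap.polar Q₂ (e₀ x) (eD x) := by
      rw [← QuadraticMap.map_add Q₂, hx]
    have e3 : Q₁ (e₀ x) = Q₂ (e₀ x) := by
      have := congrArg (fun q : QuadraticMap R Y₀ R => q (P₀ x)) heq
      simpa [hP₀coe] using this
    rw [e1, e2, e3, hag₁ _ (heDmem x), hag₂ _ (heDmem x), hpp _ _ (heDmem x)]
  · -- surjectivity
    intro q₀ _
    let Bm : N →ₗ[R] N →ₗ[R] R := (QuadraticMap.polarBilin Q').compl₁₂ e₀ eD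
    let Q : QuadraticMap R N R := q₀.comp P₀ + Q'.comp eD + LinearMap.BilinMap.toQuadraticMap Bm
    have hQx : ∀ x, Q x = q₀ (P₀ x) + Q' (eD x) + QuadraticMap.polar Q' (e₀ x) (eD x) := by
      intro x
      simp [Q, Bm]
    refine ⟨Q, ⟨?_, ?_⟩, ?_⟩
    · intro i x
      have hs : P.coreflection i x = x - P.root' i x • P.coroot i := P.coreflection_apply i x
      have h0 : e₀ (P.coreflection i x) = e₀ x := by
        rw [hs, map_sub, map_smul, he₀D _ (hD i), smul_zero, sub_zero]
      have hDx : eD (P.coreflection i x) = eD x - P.root' i x • P.coroot i := by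
        rw [hs, map_sub, map_smul, heDD _ (hD i)]
      have hP0 : P₀ (P.coreflection i x) = P₀ x := Subtype.ext (by rw [hP₀coe, hP₀coe, h0])
      rw [hQx, hQx, hP0, h0, hDx, Groth.Agent.QuadInv.map_sub_smul, QuadraticMap.polar_sub_right,
        QuadraticMap.polar_smul_right, hpolQ', hpolQ', smul_eq_mul]
      have hc' : P.root' i x = P.root' i (e₀ x) + P.root' i (eD x) := by
        rw [← map_add, hsum]
      rw [hc']
      ring
    · intro d hd
      rw [hQx, heDD d hd, he₀D d hd]
      have : P₀ d = 0 := Subtype.ext (by rw [hP₀coe, he₀D d hd]; rfl)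
      rw [this]
      simp
    · ext y
      have h1 : P₀ (y : N) = y := Subtype.ext (by rw [hP₀coe, he₀Y _ y.2])
      change Q (y : N) = q₀ y
      rw [hQx, h1, heDY _ y.2]
      simp

end Groth.Agent.S19010
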