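import Groth.Statements.S19011
import Groth.Agent.Lib.lead.ZFormC
import Groth.Agent.Lib.lead.CorootPres

set_option autoImplicit false
universe u v w x
open RootD

namespace Groth.Agent.S19011

/-- For a finite reduced crystallographic root pairing over an integral domain of characteristic zero,
the additive group generated by the coroots admits the presentation with one generator [β] for each
root β and the relations [s_α(β)] = [β] − ⟨α, β^∨⟩ [α] for all roots α, β, where ⟨α, β^∨⟩ is the
Cartan integer. Concretely: the kernel of the ℤ-linear map from the free abelian group on the index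
type of the roots to the coweight module sending the generator of index β to the coroot β^∨ is the
subgroup generated by the elements [s_α(β)] − [β] + ⟨α, β^∨⟩ [α]. (The source states this for the
cocharacter lattice of a split semi-simple simply connected group, which is the group generated by
the coroots.) -/
theorem result {ι : Type u} {R : Type v} {M : Type w} {N : Type x} [CommRing R] [IsDomain R] [CharZero R]
    [AddCommGroup M] [Module R M] [AddCommGroup N] [Module R N] (P : RootPairing ι R M N)
    [Finite ι] [P.IsCrystallographic] [P.IsReduced] :
    LinearMap.ker (Finsupp.linearCombination ℤ (fun i : ι => (P.coroot i : N))) =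
      Submodule.span ℤ (Set.range fun p : ι × ι =>
        Finsupp.single (P.reflectionPerm p.1 p.2) (1 : ℤ) - Finsupp.single p.2 1 +
          P.pairingIn ℤ p.1 p.2 • Finsupp.single p.1 1) := by
  classical
  open Groth.Agent.ZForm Groth.Agent.RootDL in
  set Q := (zForm P).flip with hQ
  have hrel : (fun p : ι × ι =>
        Finsupp.single (P.reflectionPerm p.1 p.2) (1 : ℤ) - Finsupp.single p.2 1 +
          P.pairingIn ℤ p.1 p.2 • Finsupp.single p.1 1) = Groth.Agent.RootDL.reflRel Q := by
    funext p
    rfl
  rw [hrel]
  have hQker := Groth.Agent.RootDL.ker_lc_root_eq_span_reflRel (P := Q)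
  apply le_antisymm
  · -- the kernel in `N` lies in the kernel for the `ℤ`-form
    rw [← hQker]
    intro x hx
    rw [LinearMap.mem_ker] at hx ⊢
    ext m
    apply FaithfulSMul.algebraMap_injective ℤ R
    rw [Groth.Agent.ZForm.algebraMap_lc_flip_root, hx]
    simp
  · rw [Submodule.span_le]
    rintro _ ⟨p, rfl⟩
    rw [SetLike.mem_coe, LinearMap.mem_ker]
    have h := P.reflectionPerm_coroot p.1 p.2
    have e : Q.pairing p.2 p.1 = P.pairingIn ℤ p.1 p.2 := rfl
    simp only [Groth.Agent.RootDL.reflRel, map_add, map_sub, map_smul,
      Finsupp.linearCombination_single, one_smul, e]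
    change P.coroot (P.reflectionPerm p.1 p.2) - P.coroot p.2 +
      P.pairingIn ℤ p.1 p.2 • P.coroot p.1 = 0
    have e2 : ((P.pairingIn ℤ p.1 p.2 : ℤ) : R) = P.pairing p.1 p.2 :=
      P.algebraMap_pairingIn ℤ p.1 p.2
    rw [← h, ← Int.cast_smul_eq_zsmul R, e2, P.root_coroot_eq_pairing]
    abel

end Groth.Agent.S19011
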