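import Groth.Statements.S19012
import Groth.Agent.S19006
import Mathlib

set_option autoImplicit false
universe u v w x
open RootD

namespace Groth.Agent.S19012

/-- Let P be a finite reduced crystallographic root pairing over a field of characteristic zero which is
irreducible, and b a base. A quadratic form on the coweight module that is invariant under all root
reflections and vanishes on some simple coroot is zero; in other words an invariant form is
determined by its value on a single simple coroot. (The source proves, component by component of the
Dynkin diagram, that an invariant integer-valued form on the coroot lattice with prescribed value on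
the first simple coroot of each component is unique; here the system is irreducible, the coroots
span the coweight module, and forms take values in the base field.) -/
theorem result {ι : Type u} {K : Type v} {M : Type w} {N : Type x} [Field K] [CharZero K]
    [AddCommGroup M] [Module K M] [AddCommGroup N] [Module K N] (P : RootPairing ι K M N)
    [Finite ι] [P.IsCrystallographic] [P.IsReduced] [P.IsIrreducible] (b : P.Base)
    (Q : QuadraticMap K N K) (hQ : ∀ (i : ι) (y : N), Q (P.coreflection i y) = Q y)
    (i₀ : ι) (hi₀ : i₀ ∈ b.support) (h0 : Q (P.coroot i₀) = 0) : Q = 0 := by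
  classical
  have hpol : ∀ (j : ι) (y : N),
      QuadraticMap.polar Q y (P.coroot j) = P.root' j y * Q (P.coroot j) :=
    fun j => (Groth.Agent.S19006.result P Q j).mp (hQ j)
  let q : Submodule K N := Submodule.span K (P.coroot '' {j | Q (P.coroot j) = 0})
  have hq_inv : ∀ k, q ∈ Module.End.invtSubmodule (P.coreflection k) := by
    intro k
    rw [Module.End.mem_invtSubmodule]
    apply Submodule.span_le.mpr
    rintro _ ⟨j, hj, rfl⟩
    have hj' : Q (P.coroot j) = 0 := hj
    simp only [Submodule.comap_coe, Set.mem_preimage, SetLike.mem_coe]
    rw [LinearEquiv.coe_coe, P.coreflection_apply]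
    refine sub_mem (Submodule.subset_span ⟨j, hj, rfl⟩) ?_
    by_cases hp : P.root' k (P.coroot j) = 0
    · rw [hp, zero_smul]; exact zero_mem _
    · refine Submodule.smul_mem _ _ (Submodule.subset_span ⟨k, ?_, rfl⟩)
      have h1 := hpol j (P.coroot k)
      have h2 := hpol k (P.coroot j)
      rw [hj', mul_zero] at h1
      rw [QuadraticMap.polar_comm, h1] at h2
      exact (mul_eq_zero.mp h2.symm).resolve_left hp
  have hne : q ≠ ⊥ := by
    intro h
    have : P.coroot i₀ ∈ q := Submodule.subset_span ⟨i₀, h0, rfl⟩
    rw [h, Submodule.mem_bot] at this
    exact P.flip.ne_zero i₀ this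
  have htop : q = ⊤ := RootPairing.IsIrreducible.eq_top_of_invtSubmodule_coreflection q hq_inv hne
  have hpz : ∀ x ∈ q, ∀ y, QuadraticMap.polar Q y x = 0 := by
    intro x hx y
    induction hx using Submodule.span_induction with
    | mem x hx =>
      obtain ⟨j, hj, rfl⟩ := hx
      have hj' : Q (P.coroot j) = 0 := hj
      rw [hpol, hj', mul_zero]
    | zero => simp
    | add a b _ _ ha hb => rw [QuadraticMap.polar_add_right, ha, hb, add_zero]
    | smul c a _ ha => rw [QuadraticMap.polar_smul_right, ha, smul_zero]
  ext x
  have hx : x ∈ q := by rw [htop]; trivial
  have := hpz x hx x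
  rw [QuadraticMap.polar_self] at this
  have h2 : (2 : K) ≠ 0 := two_ne_zero
  simpa [h2] using this

end Groth.Agent.S19012
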