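import Groth.Statements.S19015
import Groth.Agent.Lib.Helper15.MilnorK

set_option autoImplicit false
universe u v
open MilnorK

namespace Groth.Agent.S19015

/-- Let B be a discrete valuation ring with fraction field F, residue field κ and uniformizer π, and let
E be a field with a ring homomorphism into B, hence into F and into κ. Let ∂ : K_{n+1}(F) → K_n(κ)
be the residue map (tame symbol) on Milnor K-groups and s^π(ρ) = ∂({−π} · ρ) the specialization map
attached to π. Then s^π(x_F) = x_κ for every x in K_n(E): the product {−π} · x_F in K_{1+n}(F),
regarded in K_{n+1}(F), has residue the image of x in K_n(κ). (The published statement concerns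
discrete valuations of geometric type on fields finitely generated over a base field; it is stated
here for an arbitrary discrete valuation ring, which is all the printed computation uses.) -/
theorem result
    (B : Type u) [CommRing B] [IsDomain B] [IsDiscreteValuationRing B]
    (E F : Type v) [Field E] [Field F] [Algebra B F] [IsFractionRing B F]
    [Algebra E B] [Algebra E F] [IsScalarTower E B F]
    (n : ℕ) (d : MilK.K F (n + 1) →+ MilK.K (IsLocalRing.ResidueField B) n) (hd : MilK.IsTameSymbol B F n d)
    (ϖ : B) (hϖ : Irreducible ϖ) (x : MilK.K E n) :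
    d (MilK.cast F (Nat.add_comm 1 n)
        (MilK.mul F 1 n (MilK.symbol ![-MilK.unitFrac B F ϖ hϖ.ne_zero]) (MilK.map (algebraMap E F) n x))) =
      MilK.map ((IsLocalRing.residue B).comp (algebraMap E B)) n x := by
  set a : Fˣ := -MilK.unitFrac B F ϖ hϖ.ne_zero with ha
  have key : (d.comp ((MilK.cast F (Nat.add_comm 1 n)).toAddMonoidHom.comp
      ((MilK.mul F 1 n (MilK.symbol ![a])).comp (MilK.map (algebraMap E F) n)))) =
      MilK.map ((IsLocalRing.residue B).comp (algebraMap E B)) n := by
    apply H15MilK.hom_ext_symbol
    intro y
    simp only [AddMonoidHom.comp_apply, AddEquiv.coe_toAddMonoidHom, MilK.map_symbol]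
    rw [H15MilK.cast_mul_symbol_one]
    have hϖ' : Irreducible (-ϖ) := H15MilK.irreducible_neg' hϖ
    have e1 : a = MilK.unitFrac B F (-ϖ) hϖ'.ne_zero := by
      rw [ha, H15MilK.unitFrac_neg]
    have e2 : (fun i => Units.map ((algebraMap E F : E →+* F) : E →* F) (y i)) =
        fun i => MilK.unitToFrac B F (Units.map ((algebraMap E B : E →+* B) : E →* B) (y i)) := by
      funext i
      apply Units.ext
      simp [MilK.unitToFrac, IsScalarTower.algebraMap_apply E B F]
    rw [e1, e2, hd (-ϖ) hϖ']
    rfl
  have := DFunLike.congr_fun key x
  simpa using this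

end Groth.Agent.S19015
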