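import Groth.Statements.S19017
import Groth.Agent.Lib.Helper18.Cyc.MVGeneral

set_option autoImplicit false
universe u
open CategoryTheory AlgebraicGeometry
open IntTh

namespace Groth.Agent.S19017

/-- Let k be an arbitrary field and X a scheme separated and of finite type over k, with the dimension
function δ induced from Spec k. Let i_1 : X_1 → X and i_2 : X_2 → X be closed subschemes whose
images cover X, and let Y be their intersection: closed immersions j_1 : Y → X_1, j_2 : Y → X_2 with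
i_1 ∘ j_1 = i_2 ∘ j_2 whose image in X is the intersection of the images of X_1 and X_2. Then the
sequence CH_n(Y) → CH_n(X_1) ⊕ CH_n(X_2) → CH_n(X) → 0, with first map γ ↦ (j_{1*}γ, −j_{2*}γ) and
second map the sum of the push-forwards, is exact for every integer n: every n-cycle on X is a sum
i_{1*}α_1 + i_{2*}α_2 of n-cycles on X_1 and X_2, and whenever such a sum is rationally equivalent
to zero on X there is an n-cycle γ on Y with α_1 rationally equivalent to j_{1*}γ on X_1 and α_2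
rationally equivalent to −j_{2*}γ on X_2. (The published statement does not require the two closed
subschemes to cover X; without that requirement the surjectivity fails already for two empty closed
subschemes of a point, and the printed argument uses the covering, so it is assumed here. The
published statement also calls the sequence one of rings graded by codimension; stated here is the
additive sequence graded by dimension, which is what the printed argument gives.) -/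
theorem result (k : Type u) [Field k]
    (X : Scheme.{u}) [X.Over (Spec (CommRingCat.of k))]
    [IsSeparated (X ↘ Spec (CommRingCat.of k))] [LocallyOfFiniteType (X ↘ Spec (CommRingCat.of k))]
    [QuasiCompact (X ↘ Spec (CommRingCat.of k))]
    (δ : X → ℤ) (hδ : Cyc.DeltaCompat (X ↘ Spec (CommRingCat.of k)) δ (fun _ => 0))
    {X₁ X₂ Y : Scheme.{u}} (i₁ : X₁ ⟶ X) (i₂ : X₂ ⟶ X) [IsClosedImmersion i₁] [IsClosedImmersion i₂]
    (hcov : Set.range i₁ ∪ Set.range i₂ = Set.univ)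
    (j₁ : Y ⟶ X₁) (j₂ : Y ⟶ X₂) [IsClosedImmersion j₁] [IsClosedImmersion j₂]
    (hcomm : j₁ ≫ i₁ = j₂ ≫ i₂) (hY : Set.range (j₁ ≫ i₁) = Set.range i₁ ∩ Set.range i₂) (n : ℤ) :
    (∀ α : AlgebraicCycle X ℤ, α ∈ Cyc.Zk X δ n →
      ∃ (α₁ : AlgebraicCycle X₁ ℤ) (α₂ : AlgebraicCycle X₂ ℤ),
        α₁ ∈ Cyc.Zk X₁ (fun x => δ (i₁ x)) n ∧ α₂ ∈ Cyc.Zk X₂ (fun x => δ (i₂ x)) n ∧
        α = AlgebraicCycle.map i₁ (fun x => δ (i₁ x)) δ α₁ + AlgebraicCycle.map i₂ (fun x => δ (i₂ x)) δ α₂) ∧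
    (∀ (α₁ : AlgebraicCycle X₁ ℤ) (α₂ : AlgebraicCycle X₂ ℤ),
      α₁ ∈ Cyc.Zk X₁ (fun x => δ (i₁ x)) n → α₂ ∈ Cyc.Zk X₂ (fun x => δ (i₂ x)) n →
      Cyc.RatEquivZero δ n
        (AlgebraicCycle.map i₁ (fun x => δ (i₁ x)) δ α₁ + AlgebraicCycle.map i₂ (fun x => δ (i₂ x)) δ α₂) →
      ∃ γ : AlgebraicCycle Y ℤ, γ ∈ Cyc.Zk Y (fun y => δ (i₁ (j₁ y))) n ∧
        Cyc.RatEquiv (fun x => δ (i₁ x)) n α₁
          (AlgebraicCycle.map j₁ (fun y => δ (i₁ (j₁ y))) (fun x => δ (i₁ x)) γ) ∧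
        Cyc.RatEquiv (fun x => δ (i₂ x)) n α₂
          (-AlgebraicCycle.map j₂ (fun y => δ (i₁ (j₁ y))) (fun x => δ (i₂ x)) γ)) := by
  classical
  haveI : IsLocallyNoetherian X :=
    LocallyOfFiniteType.isLocallyNoetherian (X ↘ Spec (CommRingCat.of k))
  have hinj₁ : Function.Injective i₁ := i₁.isClosedEmbedding.injective
  have hinj₂ : Function.Injective i₂ := i₂.isClosedEmbedding.injective
  have hres₁ : ∀ z, Function.Surjective (i₁.residueFieldMap z).hom := fun z =>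
    (Groth.Agent.Lib.Helper18.CycDiv.residueFieldMap_bijective_of_surjective i₁ z
      (i₁.stalkMap_surjective z)).2
  have hres₂ : ∀ z, Function.Surjective (i₂.residueFieldMap z).hom := fun z =>
    (Groth.Agent.Lib.Helper18.CycDiv.residueFieldMap_bijective_of_surjective i₂ z
      (i₂.stalkMap_surjective z)).2
  have hA₁ : ∀ (α₁ : AlgebraicCycle X₁ ℤ) x₁,
      (AlgebraicCycle.map i₁ (fun x => δ (i₁ x)) δ α₁) (i₁ x₁) = α₁ x₁ := fun α₁ =>
    Groth.Agent.Lib.Helper18.CycDiv.map_apply_of_injective i₁ hinj₁ hres₁ _ δ (fun _ => rfl) α₁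
  have hA₂ : ∀ (α₂ : AlgebraicCycle X₂ ℤ) x₂,
      (AlgebraicCycle.map i₂ (fun x => δ (i₂ x)) δ α₂) (i₂ x₂) = α₂ x₂ := fun α₂ =>
    Groth.Agent.Lib.Helper18.CycDiv.map_apply_of_injective i₂ hinj₂ hres₂ _ δ (fun _ => rfl) α₂
  have hA₁0 : ∀ (α₁ : AlgebraicCycle X₁ ℤ) x, x ∉ Set.range i₁ →
      (AlgebraicCycle.map i₁ (fun x => δ (i₁ x)) δ α₁) x = 0 := fun α₁ =>
    Groth.Agent.Lib.Helper18.CycDiv.map_apply_of_notMem_range i₁ _ δ α₁
  have hA₂0 : ∀ (α₂ : AlgebraicCycle X₂ ℤ) x, x ∉ Set.range i₂ →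
      (AlgebraicCycle.map i₂ (fun x => δ (i₂ x)) δ α₂) x = 0 := fun α₂ =>
    Groth.Agent.Lib.Helper18.CycDiv.map_apply_of_notMem_range i₂ _ δ α₂
  refine ⟨?_, ?_⟩
  · intro α hα
    let α₁ : AlgebraicCycle X₁ ℤ := Groth.Agent.Lib.Helper18.CycDiv.comapCycle i₁ hinj₁ α
    let c₂ : AlgebraicCycle X₂ ℤ := Groth.Agent.Lib.Helper18.CycDiv.comapCycle i₂ hinj₂ α
    let α₂ : AlgebraicCycle X₂ ℤ :=
      { toFun := fun x₂ => if i₂ x₂ ∈ Set.range i₁ then 0 else α (i₂ x₂)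
        supportWithinDomain' := Set.subset_univ _
        supportLocallyFiniteWithinDomain' := fun z _ => by
          obtain ⟨t, ht, hfin⟩ := c₂.locallyFiniteSupport z
          refine ⟨t, ht, hfin.subset ?_⟩
          rintro y ⟨hyt, hy⟩
          refine ⟨hyt, ?_⟩
          intro h0
          apply hy
          show (if i₂ y ∈ Set.range i₁ then (0 : ℤ) else α (i₂ y)) = 0
          have h0' : α (i₂ y) = 0 := h0
          rw [h0']
          simp }
    have hα₁ : ∀ x₁, α₁ x₁ = α (i₁ x₁) := fun _ => rfl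
    have hα₂ : ∀ x₂, α₂ x₂ = if i₂ x₂ ∈ Set.range i₁ then 0 else α (i₂ x₂) := fun _ => rfl
    refine ⟨α₁, α₂, ?_, ?_, ?_⟩
    · intro x₁ hx₁
      rw [hα₁]
      exact hα _ hx₁
    · intro x₂ hx₂
      rw [hα₂]
      split_ifs
      · rfl
      · exact hα _ hx₂
    · ext x
      rw [Function.locallyFinsuppWithin.coe_add, Pi.add_apply]
      by_cases hx₁ : x ∈ Set.range i₁
      · obtain ⟨x₁, rfl⟩ := hx₁
        rw [hA₁, hα₁]
        by_cases hx₂ : i₁ x₁ ∈ Set.range i₂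
        · obtain ⟨x₂, hx₂⟩ := hx₂
          rw [← hx₂, hA₂, hα₂, if_pos ⟨x₁, hx₂.symm⟩]
          simp
        · rw [hA₂0 _ _ hx₂]
          simp
      · have hx₂ : x ∈ Set.range i₂ := by
          have hm : x ∈ Set.range i₁ ∪ Set.range i₂ := hcov ▸ Set.mem_univ _
          rcases hm with hm | hm
          · exact absurd hm hx₁
          · exact hm
        obtain ⟨x₂, rfl⟩ := hx₂
        rw [hA₁0 _ _ hx₁, hA₂, hα₂, if_neg hx₁]
        simp
  · intro α₁ α₂ h₁ h₂ h0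
    have hcommpt : ∀ z : Y, i₁ (j₁ z) = i₂ (j₂ z) := fun z => by
      rw [← Scheme.Hom.comp_apply, ← Scheme.Hom.comp_apply, hcomm]
    have hex : ∀ x₁ x₂, i₁ x₁ = i₂ x₂ → ∃ z, j₁ z = x₁ ∧ j₂ z = x₂ := by
      intro x₁ x₂ hx
      have hm : i₁ x₁ ∈ Set.range (j₁ ≫ i₁) := by
        rw [hY]
        exact ⟨⟨x₁, rfl⟩, ⟨x₂, hx.symm⟩⟩
      obtain ⟨z, hz⟩ := hm
      have hz1 : j₁ z = x₁ := hinj₁ hz
      refine ⟨z, hz1, hinj₂ ?_⟩
      rw [← hcommpt, hz1, hx]
    have hneg : AlgebraicCycle.map i₂ (fun x => δ (i₂ x)) δ (-α₂) =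
        - AlgebraicCycle.map i₂ (fun x => δ (i₂ x)) δ α₂ := by
      ext x
      rw [Function.locallyFinsuppWithin.coe_neg, Pi.neg_apply]
      by_cases hx : x ∈ Set.range i₂
      · obtain ⟨x₂, rfl⟩ := hx
        rw [hA₂, hA₂, Function.locallyFinsuppWithin.coe_neg, Pi.neg_apply]
      · rw [hA₂0 _ _ hx, hA₂0 _ _ hx]
        simp
    have hre : Cyc.RatEquiv δ n (AlgebraicCycle.map i₁ (fun x => δ (i₁ x)) δ α₁)
        (AlgebraicCycle.map i₂ (fun x => δ (i₂ x)) δ (-α₂)) := by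
      unfold Cyc.RatEquiv
      rw [hneg, sub_neg_eq_add]
      exact h0
    obtain ⟨γ, hγ, hγ₁, hγ₂⟩ := Groth.Agent.Lib.Helper18.CycDiv.mv_exact δ i₁ i₂ hcov j₁ j₂
      hcommpt hex n α₁ (-α₂) h₁ hre
    refine ⟨γ, hγ, hγ₁, ?_⟩
    unfold Cyc.RatEquiv at hγ₂ ⊢
    have := Groth.Agent.Lib.Helper18.CycDiv.ratEquivZero_neg _ n _ hγ₂
    convert this using 1
    abel

end Groth.Agent.S19017
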