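import Groth.Statements.S19019
import Mathlib

set_option autoImplicit false
open scoped ComplexOrder
open Toeplitz

namespace Groth.Agent.S19019

open Complex MeasureTheory intervalIntegral

section Helpers

/-- the character `y ↦ exp (i n y)` -/
noncomputable def ee (n : ℤ) (y : ℝ) : ℂ := Complex.exp (Complex.I * (n : ℂ) * (y : ℂ))

lemma ee_add (a b : ℤ) (y : ℝ) : ee (a + b) y = ee a y * ee b y := by
  unfold ee
  rw [← Complex.exp_add]
  congr 1
  push_cast
  ring

lemma ee_zero (y : ℝ) : ee 0 y = 1 := by simp [ee]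

lemma ee_conj (n : ℤ) (y : ℝ) : (starRingEnd ℂ) (ee n y) = ee (-n) y := by
  unfold ee
  rw [← Complex.exp_conj]
  congr 1
  simp [Complex.conj_ofReal]

lemma continuous_ee (n : ℤ) : Continuous (ee n) := by
  unfold ee
  fun_prop

lemma integral_ee (n : ℤ) :
    ∫ y in (0:ℝ)..(2 * Real.pi), ee n y = if n = 0 then ((2 * Real.pi : ℝ) : ℂ) else 0 := by
  split_ifs with h
  · subst h
    simp [ee_zero]
  · have hc : Complex.I * (n : ℂ) ≠ 0 := mul_ne_zero Complex.I_ne_zero (by exact_mod_cast h)
    unfold ee
    rw [integral_exp_mul_complex hc]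
    have h1 : Complex.exp (Complex.I * (n : ℂ) * ((2 * Real.pi : ℝ) : ℂ)) = 1 := by
      have := Complex.exp_int_mul_two_pi_mul_I n
      rw [← this]
      congr 1
      push_cast
      ring
    rw [h1]
    simp

/-- the symbol -/
noncomputable def symb (m : ℕ) (t : ℤ → ℂ) (y : ℝ) : ℂ :=
  ∑ k ∈ Finset.Ioo (-(m : ℤ)) (m : ℤ), t k * ee k y

/-- the trigonometric polynomial attached to a vector -/
noncomputable def qq (m : ℕ) (x : Fin m → ℂ) (y : ℝ) : ℂ := ∑ j : Fin m, x j * ee (-(j : ℤ)) y

lemma continuous_symb (m : ℕ) (t : ℤ → ℂ) : Continuous (symb m t) := by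
  unfold symb
  exact continuous_finsetSum _ fun k _ => continuous_const.mul (continuous_ee k)

lemma continuous_qq (m : ℕ) (x : Fin m → ℂ) : Continuous (qq m x) := by
  unfold qq
  exact continuous_finsetSum _ fun k _ => continuous_const.mul (continuous_ee _)

lemma integrand_expand (m : ℕ) (t : ℤ → ℂ) (x : Fin m → ℂ) (y : ℝ) :
    symb m t y * ((starRingEnd ℂ) (qq m x y) * qq m x y) =
      ∑ k ∈ Finset.Ioo (-(m : ℤ)) (m : ℤ), ∑ i : Fin m, ∑ j : Fin m,
        (t k * (starRingEnd ℂ) (x i) * x j) * ee (k + (i : ℤ) - (j : ℤ)) y := by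
  unfold symb qq
  rw [map_sum, Finset.sum_mul_sum, Finset.sum_mul]
  refine Finset.sum_congr rfl fun k _ => ?_
  rw [Finset.mul_sum]
  refine Finset.sum_congr rfl fun i _ => ?_
  rw [Finset.mul_sum]
  refine Finset.sum_congr rfl fun j _ => ?_
  rw [map_mul, ee_conj, neg_neg]
  have : ee (k + (i : ℤ) - (j : ℤ)) y = ee k y * ee i y * ee (-(j : ℤ)) y := by
    rw [sub_eq_add_neg, ee_add, ee_add]
  rw [this]
  ring

lemma main_identity (m : ℕ) (t : ℤ → ℂ) (A : Matrix (Fin m) (Fin m) ℂ)
    (hA : ∀ i j : Fin m, A i j = t ((j : ℤ) - (i : ℤ))) (x : Fin m → ℂ) :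
    ∫ y in (0:ℝ)..(2 * Real.pi), symb m t y * ((starRingEnd ℂ) (qq m x y) * qq m x y) =
      ((2 * Real.pi : ℝ) : ℂ) * (star x ⬝ᵥ A.mulVec x) := by
  simp_rw [integrand_expand]
  rw [intervalIntegral.integral_finsetSum]
  swap
  · intro k _
    apply Continuous.intervalIntegrable
    exact continuous_finsetSum _ fun i _ => continuous_finsetSum _ fun j _ =>
      continuous_const.mul (continuous_ee _)
  have h1 : ∀ k ∈ Finset.Ioo (-(m : ℤ)) (m : ℤ),
      ∫ y in (0:ℝ)..(2 * Real.pi), ∑ i : Fin m, ∑ j : Fin m,
        (t k * (starRingEnd ℂ) (x i) * x j) * ee (k + (i : ℤ) - (j : ℤ)) y =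
      ∑ i : Fin m, ∑ j : Fin m, (t k * (starRingEnd ℂ) (x i) * x j) *
        (if k + (i : ℤ) - (j : ℤ) = 0 then ((2 * Real.pi : ℝ) : ℂ) else 0) := by
    intro k _
    rw [intervalIntegral.integral_finsetSum]
    swap
    · intro i _
      apply Continuous.intervalIntegrable
      exact continuous_finsetSum _ fun j _ => continuous_const.mul (continuous_ee _)
    refine Finset.sum_congr rfl fun i _ => ?_
    rw [intervalIntegral.integral_finsetSum]
    swap
    · intro j _
      apply Continuous.intervalIntegrable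
      exact continuous_const.mul (continuous_ee _)
    refine Finset.sum_congr rfl fun j _ => ?_
    rw [intervalIntegral.integral_const_mul, integral_ee]
  rw [Finset.sum_congr rfl h1]
  rw [Finset.sum_comm]
  simp only [dotProduct, Matrix.mulVec, Pi.star_apply, Finset.mul_sum]
  refine Finset.sum_congr rfl fun i _ => ?_
  rw [Finset.sum_comm]
  refine Finset.sum_congr rfl fun j _ => ?_
  rw [Finset.sum_eq_single ((j : ℤ) - (i : ℤ))]
  · rw [if_pos (by ring), hA]
    simp only [RCLike.star_def]
    ring
  · intro k _ hk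
    rw [if_neg, mul_zero]
    intro h0
    apply hk
    omega
  · intro hnot
    exfalso
    apply hnot
    rw [Finset.mem_Ioo]
    have hi := i.2
    have hj := j.2
    omega

lemma re_identity (m : ℕ) (t : ℤ → ℂ) (A : Matrix (Fin m) (Fin m) ℂ)
    (hA : ∀ i j : Fin m, A i j = t ((j : ℤ) - (i : ℤ))) (x : Fin m → ℂ) :
    ∫ y in (0:ℝ)..(2 * Real.pi), (symb m t y).re * Complex.normSq (qq m x y) =
      (2 * Real.pi) * (star x ⬝ᵥ A.mulVec x).re := by
  have hmain := main_identity m t A hA x
  have hcont : Continuous fun y : ℝ => symb m t y * ((starRingEnd ℂ) (qq m x y) * qq m x y) :=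
    (continuous_symb m t).mul
      ((Complex.continuous_conj.comp (continuous_qq m x)).mul (continuous_qq m x))
  have h1 := (Complex.reCLM).intervalIntegral_comp_comm (a := (0:ℝ)) (b := 2 * Real.pi)
    (μ := volume) (hcont.intervalIntegrable _ _)
  rw [hmain] at h1
  simp only [Complex.reCLM_apply] at h1
  rw [Complex.re_ofReal_mul] at h1
  rw [← h1]
  refine intervalIntegral.integral_congr fun y _ => ?_
  show (symb m t y).re * Complex.normSq (qq m x y) =
    (symb m t y * ((starRingEnd ℂ) (qq m x y) * qq m x y)).re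
  rw [← Complex.normSq_eq_conj_mul_self, Complex.re_mul_ofReal]

lemma parseval (m : ℕ) (hm : 0 < m) (x : Fin m → ℂ) :
    ∫ y in (0:ℝ)..(2 * Real.pi), Complex.normSq (qq m x y) =
      (2 * Real.pi) * ∑ j : Fin m, Complex.normSq (x j) := by
  have h := re_identity m (fun k => if k = 0 then 1 else 0) (1 : Matrix (Fin m) (Fin m) ℂ)
    (fun i j => by
      rw [Matrix.one_apply]
      by_cases hij : i = j
      · subst hij; simp
      · rw [if_neg hij, if_neg]
        intro h0
        apply hij
        apply Fin.ext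
        omega) x
  have hs : ∀ y : ℝ, symb m (fun k => if k = 0 then 1 else 0) y = 1 := by
    intro y
    unfold symb
    rw [Finset.sum_eq_single 0]
    · simp [ee_zero]
    · intro k _ hk
      simp [hk]
    · intro hnot
      exfalso
      apply hnot
      rw [Finset.mem_Ioo]
      omega
  simp only [hs, Complex.one_re, one_mul] at h
  rw [h, Matrix.one_mulVec]
  congr 1
  simp only [dotProduct, Pi.star_apply, RCLike.star_def, Complex.re_sum]
  refine Finset.sum_congr rfl fun j _ => ?_
  rw [← Complex.normSq_eq_conj_mul_self, Complex.ofReal_re]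

end Helpers

/-- Let A be an m × m complex Hermitian Toeplitz matrix, with entries A i j = t (j - i) constant along
diagonals, and let f(y) = Σ_{-m < k < m} t k · exp(i k y) be the trigonometric polynomial attached
to it. If f has positive real part at every real y outside a countable set, then A is positive
definite (hence nondegenerate). (The source also states the mirror case: f negative off a countable
set gives A negative definite, which is this statement for -A.) -/
theorem result
    (m : ℕ) (t : ℤ → ℂ) (A : Matrix (Fin m) (Fin m) ℂ)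
    (hA : ∀ i j : Fin m, A i j = t ((j : ℤ) - (i : ℤ))) (hH : A.IsHermitian)
    (hpos : Set.Countable {y : ℝ | ¬ 0 < (∑ k ∈ Finset.Ioo (-(m : ℤ)) (m : ℤ),
        t k * Complex.exp (Complex.I * (k : ℂ) * (y : ℂ))).re}) :
    A.PosDef := by
  rw [Matrix.posDef_iff_dotProduct_mulVec]
  refine ⟨hH, fun x hx => ?_⟩
  rw [Complex.pos_iff]
  refine ⟨?_, (hH.im_star_dotProduct_mulVec_self x).symm⟩
  have hm : 0 < m := by
    rcases Nat.eq_zero_or_pos m with h0 | h0
    · subst h0
      exfalso
      apply hx
      funext i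
      exact i.elim0
    · exact h0
  have hre := re_identity m t A hA x
  have hpars := parseval m hm x
  have hpi : (0:ℝ) < 2 * Real.pi := by positivity
  rw [intervalIntegral.integral_of_le hpi.le] at hre hpars
  -- a.e. positivity of the symbol
  have hae : ∀ᵐ y ∂(volume.restrict (Set.Ioc (0:ℝ) (2 * Real.pi))), 0 < (symb m t y).re := by
    apply ae_restrict_of_ae
    have h0 := hpos.measure_zero volume
    rw [measure_eq_zero_iff_ae_notMem] at h0
    filter_upwards [h0] with y hy
    simp only [not_not] at hy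
    exact hy
  have hgcont : Continuous fun y : ℝ => (symb m t y).re * Complex.normSq (qq m x y) :=
    (Complex.continuous_re.comp (continuous_symb m t)).mul
      (Complex.continuous_normSq.comp (continuous_qq m x))
  have hgint : Integrable (fun y : ℝ => (symb m t y).re * Complex.normSq (qq m x y))
      (volume.restrict (Set.Ioc (0:ℝ) (2 * Real.pi))) := hgcont.integrableOn_Ioc
  have hgnn : 0 ≤ᵐ[volume.restrict (Set.Ioc (0:ℝ) (2 * Real.pi))]
      fun y : ℝ => (symb m t y).re * Complex.normSq (qq m x y) := by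
    filter_upwards [hae] with y hy
    exact mul_nonneg hy.le (Complex.normSq_nonneg _)
  have h0 : 0 ≤ ∫ y in Set.Ioc (0:ℝ) (2 * Real.pi), (symb m t y).re * Complex.normSq (qq m x y) :=
    integral_nonneg_of_ae hgnn
  have hne : ∫ y in Set.Ioc (0:ℝ) (2 * Real.pi), (symb m t y).re * Complex.normSq (qq m x y) ≠ 0 := by
    intro h
    rw [integral_eq_zero_iff_of_nonneg_ae hgnn hgint] at h
    have hq : (fun y : ℝ => Complex.normSq (qq m x y)) =ᵐ[volume.restrict (Set.Ioc (0:ℝ) (2 * Real.pi))]
        fun _ => (0:ℝ) := by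
      filter_upwards [h, hae] with y hy hy'
      simp only [Pi.zero_apply] at hy
      rcases mul_eq_zero.mp hy with h1 | h1
      · exact absurd h1 hy'.ne'
      · exact h1
    rw [integral_congr_ae hq, MeasureTheory.integral_zero] at hpars
    have hsum : 0 < ∑ j : Fin m, Complex.normSq (x j) := by
      obtain ⟨j, hj⟩ := Function.ne_iff.mp hx
      exact Finset.sum_pos' (fun i _ => Complex.normSq_nonneg _)
        ⟨j, Finset.mem_univ j, Complex.normSq_pos.mpr hj⟩
    have : 0 < (2 * Real.pi) * ∑ j : Fin m, Complex.normSq (x j) := mul_pos hpi hsum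
    linarith
  have hposint := lt_of_le_of_ne h0 (Ne.symm hne)
  rw [hre] at hposint
  exact (mul_pos_iff_of_pos_left hpi).mp hposint

end Groth.Agent.S19019
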