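import Groth.Statements.S19020
import Mathlib
-- import your own Groth.Agent.* helpers here

set_option autoImplicit false
open Toeplitz

namespace Groth.Agent.S19020


open Finset

/-- Vandermonde-type identity. -/
lemma choose_conv (n d : ℕ) :
    ∑ b ∈ range (n + 1), n.choose b * n.choose (b + d) = (2 * n).choose (n + d) := by
  rcases le_or_gt d n with hd | hd
  · have h1 : (2 * n).choose (n + d) = (2 * n).choose (n - d) := by
      apply Nat.choose_symm_of_eq_add; omega
    rw [h1, two_mul, Nat.add_choose_eq, Finset.Nat.sum_antidiagonal_eq_sum_range_succ_mk]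
    have h2 : ∀ b ∈ range (n - d + 1),
        n.choose b * n.choose (n - d - b) = n.choose b * n.choose (b + d) := by
      intro b hb
      rw [mem_range] at hb
      congr 1
      apply Nat.choose_symm_of_eq_add; omega
    rw [sum_congr rfl h2]
    symm
    apply sum_subset
    · intro b hb; rw [mem_range] at hb ⊢; omega
    · intro b hb hb'
      rw [mem_range] at hb hb'
      rw [Nat.choose_eq_zero_of_lt (show n < b + d by omega), mul_zero]
  · rw [Nat.choose_eq_zero_of_lt (show 2 * n < n + d by omega)]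
    apply sum_eq_zero
    intro b _
    rw [Nat.choose_eq_zero_of_lt (show n < b + d by omega), mul_zero]

lemma nat_sum (n m i j : ℕ) (hi : i < m) (hji : j ≤ i) :
    ∑ a ∈ Ico i (m + n), n.choose (a - i) * n.choose (a - j) = (2 * n).choose (n + (i - j)) := by
  rw [sum_Ico_eq_sum_range, ← choose_conv]
  have h : ∀ b ∈ range (m + n - i),
      n.choose (i + b - i) * n.choose (i + b - j) = n.choose b * n.choose (b + (i - j)) := by
    intro b _
    congr 2 <;> omega
  rw [sum_congr rfl h]
  symm
  apply sum_subset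
  · intro b hb; rw [mem_range] at hb ⊢; omega
  · intro b hb hb'
    rw [mem_range] at hb hb'
    rw [Nat.choose_eq_zero_of_lt (show n < b by omega), zero_mul]

/-- the entries, for `j ≤ i`. -/
lemma real_sum_le (n m i j : ℕ) (hi : i < m) (hji : j ≤ i) :
    ∑ a ∈ range (m + n),
      (if i ≤ a then (-1 : ℝ) ^ (a + i) * (n.choose (a - i) : ℝ) else 0) *
      (if j ≤ a then (-1 : ℝ) ^ (a + j) * (n.choose (a - j) : ℝ) else 0) =
    (-1 : ℝ) ^ (i + j) * ((2 * n).choose (n + Nat.dist i j) : ℝ) := by
  rw [Nat.dist_eq_sub_of_le_right hji, ← nat_sum n m i j hi hji]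
  have h : ∀ a ∈ range (m + n),
      (if i ≤ a then (-1 : ℝ) ^ (a + i) * (n.choose (a - i) : ℝ) else 0) *
      (if j ≤ a then (-1 : ℝ) ^ (a + j) * (n.choose (a - j) : ℝ) else 0) =
      if i ≤ a then (-1 : ℝ) ^ (i + j) * ((n.choose (a - i) * n.choose (a - j) : ℕ) : ℝ) else 0 := by
    intro a _
    by_cases hia : i ≤ a
    · have hja : j ≤ a := hji.trans hia
      rw [if_pos hia, if_pos hja, if_pos hia]
      have hs : (-1 : ℝ) ^ (a + i) * (-1 : ℝ) ^ (a + j) = (-1 : ℝ) ^ (i + j) := by
        rw [← pow_add, show a + i + (a + j) = 2 * a + (i + j) by ring, pow_add, pow_mul]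
        simp
      push_cast
      rw [← hs]; ring
    · rw [if_neg hia, if_neg hia, zero_mul]
  rw [sum_congr rfl h, ← sum_filter]
  have hf : (range (m + n)).filter (fun a => i ≤ a) = Ico i (m + n) := by
    ext a; simp [and_comm]
  rw [hf, ← mul_sum]
  push_cast
  rfl

lemma real_sum (n m i j : ℕ) (hi : i < m) (hj : j < m) :
    ∑ a ∈ range (m + n),
      (if i ≤ a then (-1 : ℝ) ^ (a + i) * (n.choose (a - i) : ℝ) else 0) *
      (if j ≤ a then (-1 : ℝ) ^ (a + j) * (n.choose (a - j) : ℝ) else 0) =
    (-1 : ℝ) ^ (i + j) * ((2 * n).choose (n + Nat.dist i j) : ℝ) := by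
  rcases le_total j i with h | h
  · exact real_sum_le n m i j hi h
  · rw [Nat.dist_comm, add_comm i j, ← real_sum_le n m j i hj h]
    exact sum_congr rfl fun a _ => mul_comm _ _

/-- the (m+n) × m matrix of multiplication by `(1 - X)^n`. -/
noncomputable def L (n m : ℕ) : Matrix (Fin (m + n)) (Fin m) ℝ :=
  Matrix.of fun a j => if (j : ℕ) ≤ (a : ℕ) then
    (-1 : ℝ) ^ ((a : ℕ) + (j : ℕ)) * (n.choose ((a : ℕ) - (j : ℕ)) : ℝ) else 0

lemma L_inj (n m : ℕ) : Function.Injective (L n m).mulVec := by
  intro x y hxy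
  have hz : (L n m).mulVec (x - y) = 0 := by rw [Matrix.mulVec_sub, hxy, sub_self]
  suffices h : x - y = 0 from sub_eq_zero.mp h
  generalize x - y = z at hz
  funext j
  induction' hj : (j : ℕ) using Nat.strong_induction_on with k ih generalizing j
  have h0 := congrFun hz (Fin.castAdd n j)
  simp only [Matrix.mulVec, dotProduct, L, Matrix.of_apply, Pi.zero_apply, Fin.val_castAdd] at h0
  rw [Finset.sum_eq_single j] at h0
  · simpa using h0
  · intro i _ hij
    by_cases h : (i : ℕ) ≤ j
    · have hlt : (i : ℕ) < j := lt_of_le_of_ne h (Fin.val_ne_of_ne hij)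
      rw [ih i.val (hj ▸ hlt) i rfl]; simp
    · simp [h]
  · simp


/-- For natural numbers n and m, the m × m real Toeplitz matrix with (i, j) entry (-1)^(i+j) · C(2n, n +
|i - j|), i.e. with t_k = (-1)^k C(2n, n + k) on the k-th diagonal for |k| ≤ n and zero beyond, is
positive definite; in particular it is nondegenerate, which is the printed assertion (positive
definiteness is what the printed proof establishes; m = 0 is the empty matrix). -/
theorem result (n m : ℕ) :
    (Matrix.of fun i j : Fin m =>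
        (-1 : ℝ) ^ ((i : ℕ) + (j : ℕ)) * (Nat.choose (2 * n) (n + Nat.dist i j) : ℝ)).PosDef := by
  have hT : (Matrix.of fun i j : Fin m =>
        (-1 : ℝ) ^ ((i : ℕ) + (j : ℕ)) * (Nat.choose (2 * n) (n + Nat.dist i j) : ℝ)) =
      (L n m).conjTranspose * (L n m) := by
    ext i j
    simp only [Matrix.mul_apply, Matrix.conjTranspose_apply, star_trivial, Matrix.of_apply, L]
    rw [← real_sum n m i j i.2 j.2]
    exact (Fin.sum_univ_eq_sum_range (fun a => 
      (if (i : ℕ) ≤ a then (-1 : ℝ) ^ (a + i) * (n.choose (a - i) : ℝ) else 0) *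
      (if (j : ℕ) ≤ a then (-1 : ℝ) ^ (a + j) * (n.choose (a - j) : ℝ) else 0)) (m + n)).symm
  rw [hT]
  exact Matrix.PosDef.conjTranspose_mul_self _ (L_inj n m)


end Groth.Agent.S19020
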