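import Groth.Statements.S19021
import Groth.Agent.S19020
import Mathlib
-- import your own Groth.Agent.* helpers here

set_option autoImplicit false
open Toeplitz

namespace Groth.Agent.S19021


open Finset

/-- the entries of the odd matrix (without sign) -/
def e (n i j : ℕ) : ℕ :=
  if j ≤ i then Nat.choose (2 * n + 1) (n + 1 + (i - j)) else Nat.choose (2 * n + 1) (n + (j - i))

lemma e_add_lt (n i j : ℕ) (h : j < i) :
    e n i j + e n j i = Nat.choose (2 * (n + 1)) (n + 1 + Nat.dist i j) := by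
  rw [Nat.dist_eq_sub_of_le_right h.le, e, e, if_pos h.le, if_neg (not_le.mpr h)]
  rw [show 2 * (n + 1) = (2 * n + 1) + 1 by ring, show n + 1 + (i - j) = (n + (i - j)) + 1 by ring,
    Nat.choose_succ_succ (2 * n + 1) (n + (i - j)), add_comm]

lemma e_add (n i j : ℕ) :
    e n i j + e n j i = Nat.choose (2 * (n + 1)) (n + 1 + Nat.dist i j) := by
  rcases lt_trichotomy j i with h | h | h
  · exact e_add_lt n i j h
  · subst h
    simp only [e, le_refl, if_true, Nat.sub_self, add_zero, Nat.dist_self]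
    rw [show 2 * (n + 1) = (2 * n + 1) + 1 by ring, Nat.choose_succ_succ (2 * n + 1) n,
      Nat.choose_symm_half n]
  · rw [add_comm, Nat.dist_comm]; exact e_add_lt n j i h


/-- For natural numbers n and m, the m × m integer Toeplitz matrix with (i, j) entry (-1)^(i+j) ·
C(2n+1, n+1+i-j) (the binomial coefficient being 0 outside the range 0 ≤ n+1+i-j ≤ 2n+1;
equivalently s_k = (-1)^k C(2n+1, n+k+1) on the diagonal i - j = k for -n-1 ≤ k ≤ n and zero beyond)
is nondegenerate: its determinant is nonzero (m = 0 is the empty matrix, of determinant 1). -/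
theorem result (n m : ℕ) :
    (Matrix.of fun i j : Fin m =>
        (-1 : ℤ) ^ ((i : ℕ) + (j : ℕ)) *
          (if (j : ℕ) ≤ (i : ℕ) then (Nat.choose (2 * n + 1) (n + 1 + ((i : ℕ) - (j : ℕ))) : ℤ)
            else (Nat.choose (2 * n + 1) (n + ((j : ℕ) - (i : ℕ))) : ℤ))).det ≠ 0 := by
  set S : Matrix (Fin m) (Fin m) ℤ := (Matrix.of fun i j : Fin m =>
        (-1 : ℤ) ^ ((i : ℕ) + (j : ℕ)) *
          (if (j : ℕ) ≤ (i : ℕ) then (Nat.choose (2 * n + 1) (n + 1 + ((i : ℕ) - (j : ℕ))) : ℤ)
            else (Nat.choose (2 * n + 1) (n + ((j : ℕ) - (i : ℕ))) : ℤ))) with hS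
  have hSe : ∀ i j : Fin m, S i j = (-1 : ℤ) ^ ((i : ℕ) + (j : ℕ)) * (e n i j : ℤ) := by
    intro i j
    simp only [hS, Matrix.of_apply, e]
    split_ifs <;> rfl
  set SR : Matrix (Fin m) (Fin m) ℝ := (Int.castRingHom ℝ).mapMatrix S with hSR
  have hT := Groth.Agent.S19020.result (n + 1) m
  have hsum : SR + SR.transpose = (Matrix.of fun i j : Fin m =>
        (-1 : ℝ) ^ ((i : ℕ) + (j : ℕ)) * (Nat.choose (2 * (n + 1)) (n + 1 + Nat.dist i j) : ℝ)) := by
    ext i j
    simp only [Matrix.add_apply, Matrix.transpose_apply, hSR, RingHom.mapMatrix_apply,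
      Matrix.map_apply, hSe, Matrix.of_apply]
    rw [← e_add n i j, add_comm (j : ℕ) (i : ℕ)]
    simp only [eq_intCast]
    push_cast
    ring
  intro hdet
  have hdetR : SR.det = 0 := by
    rw [hSR, ← RingHom.map_det, hdet, map_zero]
  obtain ⟨v, hv0, hv⟩ := Matrix.exists_mulVec_eq_zero_iff.mpr hdetR
  have hpos := hT.dotProduct_mulVec_pos hv0
  rw [← hsum, Matrix.add_mulVec, dotProduct_add, star_trivial, hv, dotProduct_zero, zero_add,
    Matrix.dotProduct_mulVec, Matrix.vecMul_transpose, hv, zero_dotProduct] at hpos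
  exact lt_irrefl _ hpos


end Groth.Agent.S19021
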