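import Groth.Statements.S19035
import Mathlib
-- import your own Groth.Agent.* helpers here

set_option autoImplicit false
universe u v w x
open CAlg

namespace Groth.Agent.S19035

/-- Let p be a prime and k a perfect field of characteristic p. Let (A_i) be a directed system of
finitely generated commutative k-algebras, indexed by a nonempty directed preorder, with compatible
k-algebra transition maps, and let B be a finitely generated k-algebra with compatible k-algebra
maps A_i → B which present B as the direct limit of the system (every element of B is the image of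
an element of some A_i, and two elements of some A_i with the same image in B have the same image in
some A_j). Then the p-typical Witt vectors commute with this direct limit: every Witt vector over B
is the image of a Witt vector over some A_i, and two Witt vectors over some A_i with the same image
over B already have the same image over some A_j. (Both finiteness hypotheses matter: for an
arbitrary filtered direct limit of commutative rings either assertion can fail.) -/
theorem result
    (p : ℕ) [Fact p.Prime] (k : Type u) [Field k] [CharP k p] [PerfectRing k p]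
    {ι : Type v} [Preorder ι] [IsDirected ι (· ≤ ·)] [Nonempty ι]
    (A : ι → Type w) [∀ i, CommRing (A i)] [∀ i, Algebra k (A i)]
    [∀ i, Algebra.FiniteType k (A i)]
    (f : ∀ i j, i ≤ j → (A i →ₐ[k] A j))
    (hf : ∀ i j l (hij : i ≤ j) (hjl : j ≤ l) (x : A i),
      f j l hjl (f i j hij x) = f i l (hij.trans hjl) x)
    (B : Type x) [CommRing B] [Algebra k B] [Algebra.FiniteType k B]
    (g : ∀ i, A i →ₐ[k] B)
    (hfg : ∀ i j (hij : i ≤ j) (x : A i), g j (f i j hij x) = g i x)
    (hsurj : ∀ b : B, ∃ i, ∃ x : A i, g i x = b)
    (hinj : ∀ i (x y : A i), g i x = g i y → ∃ j, ∃ hij : i ≤ j, f i j hij x = f i j hij y) :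
    (∀ w : WittVector p B, ∃ i, ∃ v : WittVector p (A i),
        WittVector.map (g i).toRingHom v = w) ∧
    (∀ i (v v' : WittVector p (A i)),
        WittVector.map (g i).toRingHom v = WittVector.map (g i).toRingHom v' →
        ∃ j, ∃ hij : i ≤ j,
          WittVector.map (f i j hij).toRingHom v = WittVector.map (f i j hij).toRingHom v') := by
  classical
  refine ⟨fun w => ?_, fun i v v' hvv' => ?_⟩
  · -- some `g i₀` is surjective
    obtain ⟨n, π, hπ⟩ := (Algebra.FiniteType.iff_quotient_mvPolynomial'' (R := k) (S := B)).mp
      inferInstance
    choose it aa hat using fun t : Fin n => hsurj (π (MvPolynomial.X t))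
    obtain ⟨i₀, hi₀⟩ := (Finset.univ.image it).exists_le
    have hle : ∀ t, it t ≤ i₀ := fun t => hi₀ _ (Finset.mem_image_of_mem _ (Finset.mem_univ t))
    let a' : Fin n → A i₀ := fun t => f (it t) i₀ (hle t) (aa t)
    let φ : MvPolynomial (Fin n) k →ₐ[k] A i₀ := MvPolynomial.aeval a'
    have hφ : (g i₀).comp φ = π := by
      apply MvPolynomial.algHom_ext
      intro t
      simp only [AlgHom.comp_apply, φ, MvPolynomial.aeval_X, a']
      rw [hfg, hat]
    have hsurj₀ : Function.Surjective (g i₀) := by
      intro b
      obtain ⟨P, rfl⟩ := hπ b
      exact ⟨φ P, by rw [← hφ]; rfl⟩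
    choose c hc using hsurj₀
    refine ⟨i₀, WittVector.mk p (fun m => c (w.coeff m)), ?_⟩
    ext m
    rw [WittVector.map_coeff]
    exact hc _
  · haveI : IsNoetherianRing (A i) := Algebra.FiniteType.isNoetherianRing k (A i)
    obtain ⟨S, hS⟩ := (isNoetherianRing_iff_ideal_fg (A i)).mp inferInstance
      (RingHom.ker (g i).toRingHom)
    have hex : ∀ s : A i, s ∈ S → ∃ j, ∃ hij : i ≤ j, f i j hij s = 0 := by
      intro s hs
      have h0 : g i s = g i 0 := by
        have : s ∈ RingHom.ker (g i).toRingHom := by
          rw [← hS]; exact Ideal.subset_span hs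
        rw [map_zero]
        exact this
      obtain ⟨j, hij, h⟩ := hinj i s 0 h0
      exact ⟨j, hij, by rw [h, map_zero]⟩
    choose! js hjs using hex
    obtain ⟨j, hj⟩ := (insert i (S.image js)).exists_le
    have hij : i ≤ j := hj i (Finset.mem_insert_self _ _)
    have hkill : ∀ s ∈ S, f i j hij s = 0 := by
      intro s hs
      obtain ⟨h1, h2⟩ := hjs s hs
      have hle : js s ≤ j := hj _ (Finset.mem_insert_of_mem (Finset.mem_image_of_mem _ hs))
      rw [← hf i (js s) j h1 hle s, h2, map_zero]
    have hker : RingHom.ker (g i).toRingHom ≤ RingHom.ker (f i j hij).toRingHom := by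
      rw [← hS, Ideal.span_le]
      intro s hs
      exact hkill s hs
    refine ⟨j, hij, ?_⟩
    ext m
    rw [WittVector.map_coeff, WittVector.map_coeff]
    have h1 : (g i).toRingHom (v.coeff m) = (g i).toRingHom (v'.coeff m) := by
      have := congrArg (fun z => z.coeff m) hvv'
      simpa only [WittVector.map_coeff] using this
    have h2 : v.coeff m - v'.coeff m ∈ RingHom.ker (g i).toRingHom := by
      rw [RingHom.mem_ker, map_sub, h1, sub_self]
    have h3 := hker h2
    rw [RingHom.mem_ker, map_sub, sub_eq_zero] at h3
    exact h3

end Groth.Agent.S19035
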