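import Groth.Statements.S19043
import Groth.Agent.Lib.Helper12.GcMod2
import Mathlib

set_option autoImplicit false
universe u
open Dieu

namespace Groth.Agent.S19043

section Aux

open Groth.Agent.Lib.Helper12.GcMod W4c6eohyperellchar2

variable (c : ℕ) (k : Type u) [Field k] [CharP k 2] [PerfectRing k 2]

/-- the span of `F(M) ∪ V(M)` -/
noncomputable def W : Submodule k (GcMod c k) :=
  Submodule.span k (Set.range (F c k) ∪ Set.range (V c k))

/-- coordinate functional along `X_{i+1}` -/
def coord (i : Fin c) : GcMod c k →ₗ[k] k where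
  toFun v := v.1 i
  map_add' _ _ := rfl
  map_smul' _ _ := rfl

lemma W_le_ker (i : Fin c) (hi : c < 2 * (i.val + 1)) : W c k ≤ LinearMap.ker (coord c k i) := by
  unfold W
  rw [Submodule.span_le]
  rintro v (⟨u, rfl⟩ | ⟨u, rfl⟩)
  · show (F c k u).1 i = 0
    unfold F coefX
    simp only
    rw [dif_neg (by omega)]; simp
  · show (V c k u).1 i = 0
    rfl

lemma Y_mem_W (m : ℕ) (h1 : 1 ≤ m) (hmc : m ≤ c) : Y c k m ∈ W c k := by
  apply Submodule.subset_span
  right
  by_cases hodd : m % 2 = 1
  · have hj : c - (m - 1) / 2 ≤ c := by omega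
    have hcj : c < 2 * (c - (m - 1) / 2) := by omega
    refine ⟨X c k (c - (m - 1) / 2), ?_⟩
    rw [V_X_big c k _ hj hcj]
    congr 1
    omega
  · refine ⟨Y c k (m / 2), ?_⟩
    rw [V_Y c k _ (by omega)]
    congr 1
    omega

lemma X_mem_W (j : ℕ) (h2 : 2 * j ≤ c) : X c k j ∈ W c k := by
  apply Submodule.subset_span
  left
  refine ⟨X c k (2 * j), ?_⟩
  rw [F_X_even c k (2 * j) h2 (by omega)]
  congr 1
  omega

theorem main (c : ℕ) (k : Type u) [Field k] [CharP k 2] [PerfectRing k 2] :
    LinearIndependent k (fun j : {j : ℕ // c < 2 * j ∧ j ≤ c} =>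
        Submodule.mkQ (Submodule.span k (Set.range (W4c6eohyperellchar2.F c k) ∪ Set.range (W4c6eohyperellchar2.V c k))) (W4c6eohyperellchar2.X c k j.1)) ∧
      Submodule.span k (Set.range (fun j : {j : ℕ // c < 2 * j ∧ j ≤ c} =>
        Submodule.mkQ (Submodule.span k (Set.range (W4c6eohyperellchar2.F c k) ∪ Set.range (W4c6eohyperellchar2.V c k))) (W4c6eohyperellchar2.X c k j.1))) = ⊤ := by
  classical
  change LinearIndependent k (fun j : {j : ℕ // c < 2 * j ∧ j ≤ c} =>
        Submodule.mkQ (W c k) (X c k j.1)) ∧
      Submodule.span k (Set.range (fun j : {j : ℕ // c < 2 * j ∧ j ≤ c} =>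
        Submodule.mkQ (W c k) (X c k j.1))) = ⊤
  constructor
  · rw [linearIndependent_iff]
    intro l hl
    rw [Finsupp.linearCombination_apply, Finsupp.sum] at hl
    have h1 : (W c k).mkQ (∑ j ∈ l.support, l j • X c k j.1) = 0 := by
      rw [map_sum, ← hl]
      apply Finset.sum_congr rfl
      intro j _
      rw [map_smul]
    rw [Submodule.mkQ_apply, Submodule.Quotient.mk_eq_zero] at h1
    ext j₀
    obtain ⟨j, hj1, hj2⟩ := j₀
    have hpos : 1 ≤ j := by omega
    let i : Fin c := ⟨j - 1, by omega⟩
    have hi : c < 2 * (i.val + 1) := by simp only [i]; omega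
    have h2 := W_le_ker c k i hi h1
    rw [LinearMap.mem_ker, map_sum] at h2
    rw [Finset.sum_eq_single ⟨j, hj1, hj2⟩] at h2
    · rw [map_smul] at h2
      have e : coord c k i (X c k j) = 1 := by
        show (X c k j).1 i = 1
        unfold X
        simp only [i]
        rw [if_pos (by omega)]
      rw [e, smul_eq_mul, mul_one] at h2
      simpa using h2
    · intro b _ hb
      rw [map_smul]
      have e : coord c k i (X c k b.1) = 0 := by
        show (X c k b.1).1 i = 0
        unfold X
        simp only [i]
        rw [if_neg]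
        intro h
        apply hb
        apply Subtype.ext
        show b.1 = j
        omega
      rw [e, smul_zero]
    · intro h
      rw [Finsupp.notMem_support_iff.mp h, zero_smul, map_zero]
  · rw [eq_top_iff]
    rintro q -
    obtain ⟨v, rfl⟩ := Submodule.mkQ_surjective _ q
    rw [eq_sum c k v, map_sum]
    apply Submodule.sum_mem
    intro i _
    have hi := i.2
    rw [map_add, map_smul, map_smul]
    have hY : (W c k).mkQ (Y c k (i.val + 1)) = 0 := by
      rw [Submodule.mkQ_apply, Submodule.Quotient.mk_eq_zero]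
      exact Y_mem_W c k _ (by omega) (by omega)
    rw [hY, smul_zero, add_zero]
    by_cases h2 : 2 * (i.val + 1) ≤ c
    · have hX : (W c k).mkQ (X c k (i.val + 1)) = 0 := by
        rw [Submodule.mkQ_apply, Submodule.Quotient.mk_eq_zero]
        exact X_mem_W c k _ h2
      rw [hX, smul_zero]
      exact Submodule.zero_mem _
    · apply Submodule.smul_mem
      apply Submodule.subset_span
      exact ⟨⟨i.val + 1, by omega, by omega⟩, rfl⟩

end Aux

/-- Let `k` be a perfect field of characteristic `2` and `c` a natural number, and let `M` be the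
explicit `2c`-dimensional `k`-space on `X_1, …, X_c, Y_1, …, Y_c` with its operators `F` and `V` (`F
Y_j = 0`; `F X_j = X_{j/2}` for `j` even and `Y_{c-(j-1)/2}` for `j` odd; `V Y_j = Y_{2j}` when `2j
≤ c`, else `0`; `V X_j = Y_{2c-2j+1}` when `2j > c`, else `0`). The classes of the `X_j` with `c <
2j ≤ 2c` in the quotient of `M` by the `k`-span of `F(M) ∪ V(M)` are linearly independent and span
that quotient. (Stated over any perfect field of characteristic `2`; the source works over an
algebraically closed one.) -/
theorem result (c : ℕ) (k : Type u) [Field k] [CharP k 2] [PerfectRing k 2] :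
    LinearIndependent k (fun j : {j : ℕ // c < 2 * j ∧ j ≤ c} =>
        Submodule.mkQ (Submodule.span k (Set.range (W4c6eohyperellchar2.F c k) ∪ Set.range (W4c6eohyperellchar2.V c k))) (W4c6eohyperellchar2.X c k j.1)) ∧
      Submodule.span k (Set.range (fun j : {j : ℕ // c < 2 * j ∧ j ≤ c} =>
        Submodule.mkQ (Submodule.span k (Set.range (W4c6eohyperellchar2.F c k) ∪ Set.range (W4c6eohyperellchar2.V c k))) (W4c6eohyperellchar2.X c k j.1))) = ⊤ := by
  exact main c k

end Groth.Agent.S19043
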