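import Groth.Statements.S19048
import Groth.Agent.Lib.Helper12.GcMod2
import Mathlib

set_option autoImplicit false
universe u
open Dieu

namespace Groth.Agent.S19048

section Aux

open Groth.Agent.Lib.Helper12.GcMod W4c6eohyperellchar2

variable (c : ℕ) (k : Type u) [Field k] [CharP k 2] [PerfectRing k 2]

/-! ### coordinates -/

lemma coefX_eq (v : GcMod c k) (i : Fin c) : coefX v (i.val + 1) = v.1 i := by
  unfold coefX
  rw [dif_pos ⟨by omega, by have := i.2; omega⟩]
  congr 1

lemma coefY_eq (v : GcMod c k) (i : Fin c) : coefY v (i.val + 1) = v.2 i := by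
  unfold coefY
  rw [dif_pos ⟨by omega, by have := i.2; omega⟩]
  congr 1

lemma coefX_out (v : GcMod c k) (n : ℕ) (h : ¬ (1 ≤ n ∧ n ≤ c)) : coefX v n = 0 := by
  unfold coefX; rw [dif_neg h]

lemma coefY_out (v : GcMod c k) (n : ℕ) (h : ¬ (1 ≤ n ∧ n ≤ c)) : coefY v n = 0 := by
  unfold coefY; rw [dif_neg h]

lemma coefX_add (v w : GcMod c k) (n : ℕ) : coefX (v + w) n = coefX v n + coefX w n := by
  unfold coefX
  by_cases h : 1 ≤ n ∧ n ≤ c
  · simp only [dif_pos h]; rfl
  · simp only [dif_neg h, add_zero]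

lemma coefY_add (v w : GcMod c k) (n : ℕ) : coefY (v + w) n = coefY v n + coefY w n := by
  unfold coefY
  by_cases h : 1 ≤ n ∧ n ≤ c
  · simp only [dif_pos h]; rfl
  · simp only [dif_neg h, add_zero]

lemma coefX_smul (t : k) (v : GcMod c k) (n : ℕ) : coefX (t • v) n = t * coefX v n := by
  unfold coefX
  by_cases h : 1 ≤ n ∧ n ≤ c
  · simp only [dif_pos h]; rfl
  · simp only [dif_neg h, mul_zero]

lemma coefY_smul (t : k) (v : GcMod c k) (n : ℕ) : coefY (t • v) n = t * coefY v n := by
  unfold coefY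
  by_cases h : 1 ≤ n ∧ n ≤ c
  · simp only [dif_pos h]; rfl
  · simp only [dif_neg h, mul_zero]

lemma coefX_zero (n : ℕ) : coefX (0 : GcMod c k) n = 0 := by
  unfold coefX
  by_cases h : 1 ≤ n ∧ n ≤ c
  · simp only [dif_pos h]; rfl
  · simp only [dif_neg h]

lemma coefY_zero (n : ℕ) : coefY (0 : GcMod c k) n = 0 := by
  unfold coefY
  by_cases h : 1 ≤ n ∧ n ≤ c
  · simp only [dif_pos h]; rfl
  · simp only [dif_neg h]

/-- the coordinate description of `Nfil` as a submodule -/
def S (i : ℕ) : Submodule k (GcMod c k) where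
  carrier := {v | (∀ m, i < m → coefY v m = 0) ∧ (∀ j, j + i ≤ 2 * c → coefX v j = 0)}
  add_mem' := by
    rintro v w ⟨hv1, hv2⟩ ⟨hw1, hw2⟩
    exact ⟨fun m hm => by rw [coefY_add, hv1 m hm, hw1 m hm, add_zero],
      fun j hj => by rw [coefX_add, hv2 j hj, hw2 j hj, add_zero]⟩
  zero_mem' := ⟨fun m _ => coefY_zero c k m, fun j _ => coefX_zero c k j⟩
  smul_mem' := by
    rintro t v ⟨hv1, hv2⟩
    exact ⟨fun m hm => by rw [coefY_smul, hv1 m hm, mul_zero],
      fun j hj => by rw [coefX_smul, hv2 j hj, mul_zero]⟩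

lemma mem_S (i : ℕ) (v : GcMod c k) : v ∈ S c k i ↔
    (∀ m, i < m → coefY v m = 0) ∧ (∀ j, j + i ≤ 2 * c → coefX v j = 0) := Iff.rfl

lemma Nfil_eq_S (i : ℕ) : Nfil c k i = S c k i := by
  apply le_antisymm
  · unfold Nfil
    rw [Submodule.span_le]
    rintro v (⟨n, hn, rfl⟩ | ⟨n, hn, rfl⟩)
    · simp only [Set.mem_Icc] at hn
      refine ⟨fun m hm => ?_, fun j _ => coefX_Y c k n j⟩
      rw [coefY_Y, if_neg]
      rintro ⟨_, _, rfl⟩
      have := hn.2
      omega
    · simp only [Set.mem_Ioc] at hn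
      refine ⟨fun m _ => coefY_X c k n m, fun j hj => ?_⟩
      rw [coefX_X, if_neg]
      rintro ⟨_, _, rfl⟩
      omega
  · intro v hv
    rw [mem_S] at hv
    rw [eq_sum c k v]
    apply Submodule.sum_mem
    intro i' _
    have hi' := i'.2
    apply Submodule.add_mem
    · by_cases h0 : v.1 i' = 0
      · rw [h0, zero_smul]; exact Submodule.zero_mem _
      · apply Submodule.smul_mem
        apply Submodule.subset_span
        right
        refine ⟨i'.val + 1, ?_, rfl⟩
        simp only [Set.mem_Ioc]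
        constructor
        · by_contra hcon
          apply h0
          rw [← coefX_eq]
          exact hv.2 _ (by omega)
        · omega
    · by_cases h0 : v.2 i' = 0
      · rw [h0, zero_smul]; exact Submodule.zero_mem _
      · apply Submodule.smul_mem
        apply Submodule.subset_span
        left
        refine ⟨i'.val + 1, ?_, rfl⟩
        simp only [Set.mem_Icc]
        refine ⟨by omega, ?_⟩
        by_contra hcon
        apply h0
        rw [← coefY_eq]
        exact hv.1 _ (by omega)

/-! ### dimension -/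

lemma Nfil_zero : Nfil c k 0 = ⊥ := by
  unfold Nfil
  have h1 : Set.Icc 1 (min 0 c) = (∅ : Set ℕ) := by
    ext n; simp
  have h2 : Set.Ioc (2 * c - 0) c = (∅ : Set ℕ) := by
    ext n; simp only [Set.mem_Ioc, Set.mem_empty_iff_false, iff_false]; omega
  rw [h1, h2]; simp

lemma Nfil_top : Nfil c k (2 * c) = ⊤ := by
  rw [Nfil_eq_S, eq_top_iff]
  intro v _
  refine ⟨fun m hm => coefY_out c k v m (by omega), fun j hj => coefX_out c k v j (by omega)⟩

/-- the generator added at step `i` -/
noncomputable def gen (i : ℕ) : GcMod c k := if i < c then Y c k (i + 1) else X c k (2 * c - i)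

lemma Nfil_succ_le (i : ℕ) : Nfil c k (i + 1) ≤ Nfil c k i ⊔ Submodule.span k {gen c k i} := by
  conv_lhs => unfold Nfil
  rw [Submodule.span_le]
  rintro v (⟨n, hn, rfl⟩ | ⟨n, hn, rfl⟩)
  · simp only [Set.mem_Icc] at hn
    by_cases h : n ≤ min i c
    · apply Submodule.mem_sup_left
      apply Submodule.subset_span
      left
      exact ⟨n, ⟨hn.1, h⟩, rfl⟩
    · apply Submodule.mem_sup_right
      have hn2 := hn.2
      have e : n = i + 1 := by omega
      have hic : i < c := by omega
      rw [e]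
      have : gen c k i = Y c k (i + 1) := by unfold gen; rw [if_pos hic]
      show Y c k (i + 1) ∈ _
      rw [← this]
      exact Submodule.mem_span_singleton_self _
  · simp only [Set.mem_Ioc] at hn
    by_cases h : 2 * c - i < n
    · apply Submodule.mem_sup_left
      apply Submodule.subset_span
      right
      exact ⟨n, ⟨h, hn.2⟩, rfl⟩
    · apply Submodule.mem_sup_right
      have e : n = 2 * c - i := by omega
      have hic : ¬ i < c := by omega
      rw [e]
      have : gen c k i = X c k (2 * c - i) := by unfold gen; rw [if_neg hic]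
      show X c k (2 * c - i) ∈ _
      rw [← this]
      exact Submodule.mem_span_singleton_self _

lemma finrank_succ_le (i : ℕ) :
    Module.finrank k (Nfil c k (i + 1)) ≤ Module.finrank k (Nfil c k i) + 1 := by
  classical
  calc Module.finrank k (Nfil c k (i + 1))
      ≤ Module.finrank k ↥(Nfil c k i ⊔ Submodule.span k {gen c k i}) :=
        Submodule.finrank_mono (Nfil_succ_le c k i)
    _ ≤ Module.finrank k (Nfil c k i) + Module.finrank k (Submodule.span k {gen c k i}) :=
        Submodule.finrank_add_le_finrank_add_finrank _ _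
    _ ≤ Module.finrank k (Nfil c k i) + 1 := by
        gcongr
        have := finrank_span_finset_le_card (R := k) ({gen c k i} : Finset (GcMod c k))
        simp only [Finset.coe_singleton, Finset.card_singleton] at this
        exact this

lemma finrank_Nfil (i : ℕ) (hi : i ≤ 2 * c) : Module.finrank k (Nfil c k i) = i := by
  have hup : ∀ n, Module.finrank k (Nfil c k n) ≤ n := by
    intro n
    induction n with
    | zero => rw [Nfil_zero]; simp
    | succ n ih => exact (finrank_succ_le c k n).trans (by omega)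
  have hdown : ∀ d, Module.finrank k (Nfil c k (i + d)) ≤ Module.finrank k (Nfil c k i) + d := by
    intro d
    induction d with
    | zero => simp
    | succ d ih => exact (finrank_succ_le c k (i + d)).trans (by omega)
  have htop : Module.finrank k (Nfil c k (2 * c)) = 2 * c := by
    rw [Nfil_top, finrank_top, Module.finrank_prod, Module.finrank_fin_fun]; ring
  have h1 := hdown (2 * c - i)
  rw [show i + (2 * c - i) = 2 * c by omega, htop] at h1
  have h2 := hup i
  omega

/-! ### the operator `NF` -/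

lemma coefX_NF (a : ℕ → k) (v : GcMod c k) (m : ℕ) (hm : 1 ≤ m ∧ m ≤ c) :
    coefX (NF c k a v) m = if m % 2 = 0 then coefX v (m / 2) ^ 2 else 0 := by
  have e : m - 1 + 1 = m := by omega
  have h := coefX_eq c k (NF c k a v) ⟨m - 1, by omega⟩
  simp only [e] at h
  rw [h]
  unfold NF
  simp only [e]

lemma coefY_NF (a : ℕ → k) (v : GcMod c k) (m : ℕ) (hm : 1 ≤ m ∧ m ≤ c) :
    coefY (NF c k a v) m = if m % 2 = 1 then
      Finset.univ.sum (fun j : Fin c =>
        if c < 2 * (j.val + 1) ∧ (j.val + 1) + (m - 1) / 2 ≤ c then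
          v.1 j ^ 2 * a ((j.val + 1) + (m - 1) / 2) else 0) else 0 := by
  have e : m - 1 + 1 = m := by omega
  have h := coefY_eq c k (NF c k a v) ⟨m - 1, by omega⟩
  simp only [e] at h
  rw [h]
  unfold NF
  simp only [e]

lemma NF_preimage (a : ℕ → k) (ha : a c ≠ 0) (i : ℕ) (hi : i ≤ 2 * c) :
    NF c k a ⁻¹' (Nfil c k i : Set (GcMod c k)) = (Nfil c k (c + (i + 1) / 2) : Set (GcMod c k)) := by
  ext v
  rw [Set.mem_preimage, SetLike.mem_coe, SetLike.mem_coe, Nfil_eq_S, Nfil_eq_S, mem_S, mem_S]
  constructor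
  · rintro ⟨h1, h2⟩
    refine ⟨fun m hm => coefY_out c k v m (by omega), ?_⟩
    intro j
    induction' j using Nat.strong_induction_on with j ih
    intro hj
    by_cases hr : 1 ≤ j ∧ j ≤ c
    swap
    · exact coefX_out c k v j hr
    by_cases h2j : 2 * j ≤ c
    · have := h2 (2 * j) (by omega)
      rw [coefX_NF c k a v (2 * j) ⟨by omega, h2j⟩, if_pos (by omega)] at this
      have e : 2 * j / 2 = j := by omega
      rw [e] at this
      exact pow_eq_zero_iff (two_ne_zero) |>.mp this
    · have hm : 1 ≤ 2 * (c - j) + 1 ∧ 2 * (c - j) + 1 ≤ c := by omega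
      have := h1 (2 * (c - j) + 1) (by omega)
      rw [coefY_NF c k a v _ hm, if_pos (by omega)] at this
      have e : (2 * (c - j) + 1 - 1) / 2 = c - j := by omega
      rw [e] at this
      rw [Finset.sum_eq_single ⟨j - 1, by omega⟩] at this
      · simp only at this
        rw [if_pos (by omega)] at this
        have e2 : j - 1 + 1 + (c - j) = c := by omega
        rw [e2] at this
        have h3 : v.1 ⟨j - 1, by omega⟩ = 0 := by
          rcases mul_eq_zero.mp this with h | h
          · exact pow_eq_zero_iff (two_ne_zero) |>.mp h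
          · exact absurd h ha
        have := coefX_eq c k v ⟨j - 1, by omega⟩
        simp only at this
        rw [show j - 1 + 1 = j by omega] at this
        rw [this, h3]
      · intro b _ hb
        by_cases hcond : c < 2 * (b.val + 1) ∧ (b.val + 1) + (c - j) ≤ c
        · rw [if_pos hcond]
          have hlt : b.val + 1 < j := by
            have : b.val + 1 ≠ j := by
              intro h
              apply hb
              apply Fin.ext
              simp only
              omega
            omega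
          have := ih (b.val + 1) hlt (by omega)
          rw [coefX_eq] at this
          rw [this]; ring
        · rw [if_neg hcond]
      · intro h; exact absurd (Finset.mem_univ _) h
  · rintro ⟨-, h2⟩
    constructor
    · intro m hm
      by_cases hr : 1 ≤ m ∧ m ≤ c
      swap
      · exact coefY_out c k _ m hr
      rw [coefY_NF c k a v m hr]
      by_cases hodd : m % 2 = 1
      · rw [if_pos hodd]
        apply Finset.sum_eq_zero
        intro j _
        by_cases hcond : c < 2 * (j.val + 1) ∧ (j.val + 1) + (m - 1) / 2 ≤ c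
        · rw [if_pos hcond]
          have := h2 (j.val + 1) (by omega)
          rw [coefX_eq] at this
          rw [this]; ring
        · rw [if_neg hcond]
      · rw [if_neg hodd]
    · intro j hj
      by_cases hr : 1 ≤ j ∧ j ≤ c
      swap
      · exact coefX_out c k _ j hr
      rw [coefX_NF c k a v j hr]
      by_cases hev : j % 2 = 0
      · rw [if_pos hev, h2 (j / 2) (by omega)]; ring
      · rw [if_neg hev]

/-! ### the operator `NV` -/

lemma coefX_NV (a : ℕ → k) (v : GcMod c k) (n : ℕ) : coefX (NV c k a v) n = 0 := by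
  by_cases hr : 1 ≤ n ∧ n ≤ c
  · have e : n - 1 + 1 = n := by omega
    have h := coefX_eq c k (NV c k a v) ⟨n - 1, by omega⟩
    simp only [e] at h
    rw [h]; rfl
  · exact coefX_out c k _ n hr

lemma coefY_NV (a : ℕ → k) (v : GcMod c k) (m : ℕ) (hm : 1 ≤ m ∧ m ≤ c) :
    coefY (NV c k a v) m = (frobeniusEquiv k 2).symm (coefY v (2 * m)) +
      Finset.univ.sum (fun j : Fin c =>
        if (j.val + 1) % 2 = 1 ∧ m + j.val / 2 ≤ c then
          (frobeniusEquiv k 2).symm (v.1 j * a (m + j.val / 2)) else 0) := by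
  have e : m - 1 + 1 = m := by omega
  have h := coefY_eq c k (NV c k a v) ⟨m - 1, by omega⟩
  simp only [e] at h
  rw [h]
  unfold NV
  simp only [e]

lemma NV_add (a : ℕ → k) (v w : GcMod c k) : NV c k a (v + w) = NV c k a v + NV c k a w := by
  ext i
  · show (0 : k) = 0 + 0
    simp
  · show (NV c k a (v + w)).2 i = (NV c k a v).2 i + (NV c k a w).2 i
    have hi := i.2
    rw [← coefY_eq, ← coefY_eq, ← coefY_eq, coefY_NV c k a _ _ ⟨by omega, by omega⟩,
      coefY_NV c k a _ _ ⟨by omega, by omega⟩, coefY_NV c k a _ _ ⟨by omega, by omega⟩]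
    have hs : (Finset.univ.sum fun j : Fin c =>
        if (j.val + 1) % 2 = 1 ∧ i.val + 1 + j.val / 2 ≤ c then
          (frobeniusEquiv k 2).symm ((v + w).1 j * a (i.val + 1 + j.val / 2)) else 0) =
        (Finset.univ.sum fun j : Fin c =>
        if (j.val + 1) % 2 = 1 ∧ i.val + 1 + j.val / 2 ≤ c then
          (frobeniusEquiv k 2).symm (v.1 j * a (i.val + 1 + j.val / 2)) else 0) +
        (Finset.univ.sum fun j : Fin c =>
        if (j.val + 1) % 2 = 1 ∧ i.val + 1 + j.val / 2 ≤ c then
          (frobeniusEquiv k 2).symm (w.1 j * a (i.val + 1 + j.val / 2)) else 0) := by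
      rw [← Finset.sum_add_distrib]
      apply Finset.sum_congr rfl
      intro j _
      by_cases hcond : (j.val + 1) % 2 = 1 ∧ i.val + 1 + j.val / 2 ≤ c
      · simp only [if_pos hcond]
        rw [← map_add]
        congr 1
        show (v.1 j + w.1 j) * _ = _
        ring
      · simp only [if_neg hcond, add_zero]
    rw [hs, coefY_add, map_add]
    ring

lemma NV_zero (a : ℕ → k) : NV c k a 0 = 0 := by
  have := NV_add c k a 0 0
  rw [add_zero] at this
  exact left_eq_add.mp this

lemma NV_sq_smul (a : ℕ → k) (t : k) (v : GcMod c k) :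
    NV c k a ((t ^ 2) • v) = t • NV c k a v := by
  ext i
  · show (0 : k) = t • (0 : k)
    simp
  · show (NV c k a ((t ^ 2) • v)).2 i = t * (NV c k a v).2 i
    have hi := i.2
    rw [← coefY_eq, ← coefY_eq, coefY_NV c k a _ _ ⟨by omega, by omega⟩,
      coefY_NV c k a _ _ ⟨by omega, by omega⟩]
    have hs : (Finset.univ.sum fun j : Fin c =>
        if (j.val + 1) % 2 = 1 ∧ i.val + 1 + j.val / 2 ≤ c then
          (frobeniusEquiv k 2).symm ((t ^ 2 • v).1 j * a (i.val + 1 + j.val / 2)) else 0) =
        t * (Finset.univ.sum fun j : Fin c =>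
        if (j.val + 1) % 2 = 1 ∧ i.val + 1 + j.val / 2 ≤ c then
          (frobeniusEquiv k 2).symm (v.1 j * a (i.val + 1 + j.val / 2)) else 0) := by
      rw [Finset.mul_sum]
      apply Finset.sum_congr rfl
      intro j _
      by_cases hcond : (j.val + 1) % 2 = 1 ∧ i.val + 1 + j.val / 2 ≤ c
      · simp only [if_pos hcond]
        have : (t ^ 2 • v).1 j = t ^ 2 * v.1 j := rfl
        rw [this, mul_assoc, map_mul, frobeniusEquiv_symm_pow]
      · simp only [if_neg hcond, mul_zero]
    rw [hs, coefY_smul, map_mul, frobeniusEquiv_symm_pow]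
    ring

/-- the image of `Nfil i` under `NV`, as a submodule -/
noncomputable def imNV (a : ℕ → k) (i : ℕ) : Submodule k (GcMod c k) where
  carrier := NV c k a '' (Nfil c k i : Set (GcMod c k))
  add_mem' := by
    rintro _ _ ⟨v, hv, rfl⟩ ⟨w, hw, rfl⟩
    exact ⟨v + w, (Nfil c k i).add_mem hv hw, NV_add c k a v w⟩
  zero_mem' := ⟨0, (Nfil c k i).zero_mem, NV_zero c k a⟩
  smul_mem' := by
    rintro t _ ⟨v, hv, rfl⟩
    exact ⟨(t ^ 2) • v, (Nfil c k i).smul_mem _ hv, NV_sq_smul c k a t v⟩

lemma NV_Y (a : ℕ → k) (n : ℕ) (hn : 1 ≤ n) (h2n : 2 * n ≤ c) :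
    NV c k a (Y c k (2 * n)) = Y c k n := by
  have hzero : ∀ j : Fin c, (Y c k (2 * n)).1 j = 0 := fun j => rfl
  ext i
  · rfl
  · have hi := i.2
    rw [← coefY_eq, ← coefY_eq, coefY_NV c k a _ _ ⟨by omega, by omega⟩, coefY_Y, coefY_Y]
    have hs : (Finset.univ.sum fun j : Fin c =>
        if (j.val + 1) % 2 = 1 ∧ i.val + 1 + j.val / 2 ≤ c then
          (frobeniusEquiv k 2).symm ((Y c k (2 * n)).1 j * a (i.val + 1 + j.val / 2)) else 0) = 0 := by
      apply Finset.sum_eq_zero
      intro j _
      rw [hzero j, zero_mul, map_zero]; simp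
    rw [hs, add_zero]
    by_cases h : i.val + 1 = n
    · rw [if_pos ⟨by omega, by omega, by omega⟩, if_pos ⟨by omega, by omega, h⟩, map_one]
    · rw [if_neg (by omega), if_neg (by omega), map_zero]

lemma coefY_NV_X (a : ℕ → k) (j : ℕ) (hj : 1 ≤ j ∧ j ≤ c) (hodd : j % 2 = 1) (m : ℕ)
    (hm : 1 ≤ m ∧ m ≤ c) :
    coefY (NV c k a (X c k j)) m =
      if m + (j - 1) / 2 ≤ c then (frobeniusEquiv k 2).symm (a (m + (j - 1) / 2)) else 0 := by
  rw [coefY_NV c k a _ m hm, coefY_X, map_zero, zero_add]
  rw [Finset.sum_eq_single ⟨j - 1, by omega⟩]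
  · simp only
    have e : j - 1 + 1 = j := by omega
    have hX : (X c k j).1 ⟨j - 1, by omega⟩ = 1 := by
      unfold X; simp only; rw [if_pos e]
    by_cases hc : m + (j - 1) / 2 ≤ c
    · rw [if_pos ⟨by omega, hc⟩, if_pos hc, hX, one_mul]
    · rw [if_neg (fun h => hc h.2), if_neg hc]
  · intro b _ hb
    have hX : (X c k j).1 b = 0 := by
      unfold X; simp only
      rw [if_neg]
      intro h
      apply hb
      apply Fin.ext
      simp only
      omega
    rw [hX, zero_mul, map_zero]; simp
  · intro h; exact absurd (Finset.mem_univ _) h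

/-! ### image of `Nfil i` under `NV` -/

lemma NV_mem_S (a : ℕ → k) (i : ℕ) (v : GcMod c k) (hv : v ∈ S c k i) :
    NV c k a v ∈ S c k (i / 2) := by
  rw [mem_S] at hv ⊢
  obtain ⟨h1, h2⟩ := hv
  refine ⟨fun m hm => ?_, fun j _ => coefX_NV c k a v j⟩
  by_cases hr : 1 ≤ m ∧ m ≤ c
  swap
  · exact coefY_out c k _ m hr
  rw [coefY_NV c k a v m hr, h1 (2 * m) (by omega), map_zero, zero_add]
  apply Finset.sum_eq_zero
  intro j _
  by_cases hcond : (j.val + 1) % 2 = 1 ∧ m + j.val / 2 ≤ c
  · rw [if_pos hcond]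
    have := h2 (j.val + 1) (by omega)
    rw [coefX_eq] at this
    rw [this, zero_mul, map_zero]
  · rw [if_neg hcond]

lemma Y_mem_imNV (a : ℕ → k) (ha : a c ≠ 0) (i : ℕ) (hi : i ≤ 2 * c) :
    ∀ n, 1 ≤ n → n ≤ i / 2 → Y c k n ∈ imNV c k a i := by
  intro n
  induction' n using Nat.strong_induction_on with n ih
  intro h1 hn
  by_cases h2n : 2 * n ≤ c
  · refine ⟨Y c k (2 * n), ?_, NV_Y c k a n h1 h2n⟩
    apply Submodule.subset_span
    left
    refine ⟨2 * n, ?_, rfl⟩
    simp only [Set.mem_Icc]
    refine ⟨by omega, ?_⟩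
    rw [le_min_iff]
    omega
  · -- `j = 2 (c - n) + 1`
    have hj : 1 ≤ 2 * (c - n) + 1 ∧ 2 * (c - n) + 1 ≤ c := by omega
    have hodd : (2 * (c - n) + 1) % 2 = 1 := by omega
    have hXmem : NV c k a (X c k (2 * (c - n) + 1)) ∈ imNV c k a i := by
      refine ⟨X c k (2 * (c - n) + 1), ?_, rfl⟩
      apply Submodule.subset_span
      right
      refine ⟨2 * (c - n) + 1, ?_, rfl⟩
      simp only [Set.mem_Ioc]
      omega
    set φ := (frobeniusEquiv k 2).symm with hφ
    have hφne : φ (a c) ≠ 0 := by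
      intro h
      apply ha
      have : φ (a c) = φ 0 := by rw [h, map_zero]
      exact φ.injective this
    set u : GcMod c k := NV c k a (X c k (2 * (c - n) + 1)) - φ (a c) • Y c k n with hu
    have hcoefY : ∀ m, 1 ≤ m → m ≤ c → coefY u m = if m < n then φ (a (m + (c - n))) else 0 := by
      intro m hm1 hmc
      have hsub : coefY u m = coefY (NV c k a (X c k (2 * (c - n) + 1))) m
          - φ (a c) * coefY (Y c k n) m := by
        have : NV c k a (X c k (2 * (c - n) + 1)) = u + φ (a c) • Y c k n := by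
          rw [hu]; abel
        rw [this, coefY_add, coefY_smul]; ring
      rw [hsub, coefY_NV_X c k a _ hj hodd m ⟨hm1, hmc⟩, coefY_Y]
      have e : (2 * (c - n) + 1 - 1) / 2 = c - n := by omega
      rw [e]
      by_cases hlt : m < n
      · rw [if_pos (by omega), if_neg (by omega), if_pos hlt, mul_zero, sub_zero]
      · rw [if_neg hlt]
        by_cases heq : m = n
        · rw [if_pos (by omega), if_pos ⟨hm1, hmc, heq⟩]
          have : m + (c - n) = c := by omega
          rw [this, mul_one, sub_self]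
        · rw [if_neg (by omega), if_neg (by omega), mul_zero, sub_zero]
    have hcoefX : ∀ m, coefX u m = 0 := by
      intro m
      have : NV c k a (X c k (2 * (c - n) + 1)) = u + φ (a c) • Y c k n := by
        rw [hu]; abel
      have h0 := coefX_NV c k a (X c k (2 * (c - n) + 1)) m
      rw [this, coefX_add, coefX_smul, coefX_Y, mul_zero, add_zero] at h0
      exact h0
    have humem : u ∈ imNV c k a i := by
      rw [eq_sum c k u]
      apply Submodule.sum_mem
      intro i' _
      have hi' := i'.2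
      apply Submodule.add_mem
      · have : u.1 i' = 0 := by rw [← coefX_eq]; exact hcoefX _
        rw [this, zero_smul]; exact Submodule.zero_mem _
      · have hY : u.2 i' = if i'.val + 1 < n then φ (a (i'.val + 1 + (c - n))) else 0 := by
          rw [← coefY_eq]; exact hcoefY _ (by omega) (by omega)
        by_cases hlt : i'.val + 1 < n
        · apply Submodule.smul_mem
          exact ih (i'.val + 1) hlt (by omega) (by omega)
        · rw [hY, if_neg hlt, zero_smul]; exact Submodule.zero_mem _
    have hYn : Y c k n = (φ (a c))⁻¹ • (NV c k a (X c k (2 * (c - n) + 1)) - u) := by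
      have : NV c k a (X c k (2 * (c - n) + 1)) - u = φ (a c) • Y c k n := by
        rw [hu]; abel
      rw [this, smul_smul, inv_mul_cancel₀ hφne, one_smul]
    rw [hYn]
    exact Submodule.smul_mem _ _ (Submodule.sub_mem _ hXmem humem)

lemma NV_image (a : ℕ → k) (ha : a c ≠ 0) (i : ℕ) (hi : i ≤ 2 * c) :
    NV c k a '' (Nfil c k i : Set (GcMod c k)) = (Nfil c k (i / 2) : Set (GcMod c k)) := by
  apply Set.Subset.antisymm
  · rintro _ ⟨v, hv, rfl⟩
    rw [SetLike.mem_coe, Nfil_eq_S] at hv ⊢
    exact NV_mem_S c k a i v hv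
  · have hle : Nfil c k (i / 2) ≤ imNV c k a i := by
      conv_lhs => unfold Nfil
      rw [Submodule.span_le]
      rintro v (⟨n, hn, rfl⟩ | ⟨n, hn, rfl⟩)
      · simp only [Set.mem_Icc] at hn
        have := hn.2
        rw [le_min_iff] at this
        exact Y_mem_imNV c k a ha i hi n hn.1 this.1
      · simp only [Set.mem_Ioc] at hn
        omega
    intro v hv
    exact hle hv

theorem main (a : ℕ → k) (ha : a c ≠ 0) (i : ℕ) (hi : i ≤ 2 * c) :
    Module.finrank k (Nfil c k i) = i ∧
      NV c k a '' (Nfil c k i : Set (GcMod c k)) = (Nfil c k (i / 2) : Set (GcMod c k)) ∧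
      NF c k a ⁻¹' (Nfil c k i : Set (GcMod c k)) = (Nfil c k (c + (i + 1) / 2) : Set (GcMod c k)) :=
  ⟨finrank_Nfil c k i hi, NV_image c k a ha i hi, NF_preimage c k a ha i hi⟩

end Aux

/-- Let `k` be a perfect field of characteristic `2`, `c` a natural number and `a_1, …, a_c ∈ k` with
`a_c ≠ 0`. On the `2c`-dimensional `k`-space with basis `λ_1, …, λ_c, σ_1, …, σ_c` let `F` be
Frobenius-semilinear with `F λ_j = 0`, `F σ_j = σ_{2j}` for `2j ≤ c`, `F σ_j = Σ_{i=j}^{c} a_i
λ_{2i-2j+1}` for `2j > c`, and `V` inverse-Frobenius-semilinear with `V λ_j = λ_{j/2}` (`j` even),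
`0` (`j` odd), `V σ_j = 0` (`j` even), `V σ_j = Σ_{i=(j+1)/2}^{c} a_i^{1/2} λ_{i-(j-1)/2}` (`j` odd)
— the shape of `F` and `V` on the block of the first de Rham cohomology of `y² − y = f(x)` belonging
to a branch point with invariant `d = 2c + 1`, `a_i` the coefficients of the odd polynomial `f_α`.
Put `N_i = ⟨λ_1, …, λ_i⟩` for `i ≤ c` and `N_i = ⟨λ_1, …, λ_c, σ_{2c-i+1}, …, σ_c⟩` for `c ≤ i ≤
2c`. Then for `0 ≤ i ≤ 2c`: `dim N_i = i`, `V(N_i) = N_{⌊i/2⌋}` and `F⁻¹(N_i) = N_{c+⌈i/2⌉}`; so
`(N_i)` is a final filtration with `dim V(N_i) = ⌊i/2⌋`. (The published statement adjoins the `σ_j`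
starting from `σ_1`; then `V(N_{c+1})` contains `V σ_1`, whose `λ_c`-coefficient is a square root of
`a_c ≠ 0`, so it is not `N_{⌊(c+1)/2⌋}` once `c ≥ 2`; adjoining them from `σ_c` downward, as here,
makes both identities hold.) -/
theorem result (c : ℕ) (k : Type u) [Field k] [CharP k 2] [PerfectRing k 2]
    (a : ℕ → k) (ha : a c ≠ 0) (i : ℕ) (hi : i ≤ 2 * c) :
    Module.finrank k (W4c6eohyperellchar2.Nfil c k i) = i ∧
      W4c6eohyperellchar2.NV c k a '' (W4c6eohyperellchar2.Nfil c k i : Set (W4c6eohyperellchar2.GcMod c k)) = (W4c6eohyperellchar2.Nfil c k (i / 2) : Set (W4c6eohyperellchar2.GcMod c k)) ∧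
      W4c6eohyperellchar2.NF c k a ⁻¹' (W4c6eohyperellchar2.Nfil c k i : Set (W4c6eohyperellchar2.GcMod c k)) = (W4c6eohyperellchar2.Nfil c k (c + (i + 1) / 2) : Set (W4c6eohyperellchar2.GcMod c k)) := by
  exact main c k a ha i hi

end Groth.Agent.S19048
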