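import Groth.Statements.S1905
import Mathlib
import Groth.Agent.Lib.Helper18.Cyc.PullDiv
import Groth.Agent.Lib.Helper18.Cyc.PullSquare
import Groth.Agent.Lib.Helper18.Cyc.DivFinite
open Groth.Agent.Lib.Helper18.CycDiv Groth.Agent.Lib.Helper18.CycPull IsLocalRing

set_option autoImplicit false
universe u
open CategoryTheory AlgebraicGeometry
open Cyc

namespace Groth.Agent.S1905

/-- Let f : X → Y be a flat morphism, locally of finite type, of relative dimension r between integral
schemes, and g a nonzero rational function on Y, taken in the residue field at f(η_X) (the generic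
point of Y). Then f^*(div_Y g) = div_X(g ∘ f) coefficientwise, where g ∘ f is the image of g in
κ(η_X). A pair (X, δ) with Cyc.IsSetup plays the role of a scheme locally of finite type over a
fixed base with a dimension function (X locally Noetherian with universally catenary local rings, δ
a dimension function), and Cyc.DeltaCompat records that the dimension function upstairs is the
induced one. -/
theorem result (X Y : Scheme.{u}) [IsIntegral X] [IsIntegral Y] (δX : X → ℤ) (δY : Y → ℤ) (hX : Cyc.IsSetup X δX) (hY : Cyc.IsSetup Y δY) (f : X ⟶ Y) [Flat f] [LocallyOfFiniteType f] (r : ℕ) (hr : Cyc.HasRelDim f r) (hδ : Cyc.DeltaCompat f δX δY) (g : Y.residueField (f (genericPoint X))) (hg : g ≠ 0) : Cyc.pullFun f δX δY r (Cyc.divFun δY (f (genericPoint X)) g) = Cyc.divFun δX (genericPoint X) (f.residueFieldMap (genericPoint X) g) := by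
  obtain ⟨hNX, -, hdimX⟩ := hX
  obtain ⟨hNY, -, hdimY⟩ := hY
  haveI := hNX
  haveI := hNY
  have hfη : f (genericPoint X) = genericPoint Y := map_genericPoint_of_flat f
  have hηmax : ∀ y, f y = f (genericPoint X) → y ⤳ genericPoint X → y = genericPoint X :=
    fun y _ hy => (hy.antisymm (genericPoint_specializes y)).eq
  have hδη : δX (genericPoint X) = δY (f (genericPoint X)) + r := by
    rw [delta_eq_add_tr f δX δY hδ (genericPoint X), tr_eq_of_isMax f r hr (genericPoint X) hηmax]
  funext x
  have hηx : genericPoint X ⤳ x := genericPoint_specializes x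
  have hfηx : f (genericPoint X) ⤳ f x := hηx.map f.continuous
  have htr := tr_le_of_hasRelDim f r hr x
  have hδx := delta_eq_add_tr f δX δY hδ x
  unfold Cyc.pullFun
  by_cases h1 : δX x + 1 = δX (genericPoint X)
  · have hR : Cyc.divFun δX (genericPoint X) (f.residueFieldMap (genericPoint X) g) x =
        Cyc.ordAt x (genericPoint X) hηx (f.residueFieldMap (genericPoint X) g) :=
      dif_pos ⟨hηx, h1⟩
    rw [hR]
    by_cases h2 : δX x = δY (f x) + r
    · rw [if_pos h2]
      have h3 : δY (f x) + 1 = δY (f (genericPoint X)) := by linarith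
      have hL : Cyc.divFun δY (f (genericPoint X)) g (f x) =
          Cyc.ordAt (f x) (f (genericPoint X)) hfηx g := dif_pos ⟨hfηx, h3⟩
      rw [hL]
      exact (ordAt_flat_pullback f hηx hfηx (ker_specMap_eq_bot hfηx hfη)
        (ker_specMap_eq_bot hηx rfl) (krullDimLE_one_locQuot δY hdimY hfηx h3)
        (krullDimLE_one_locQuot δX hdimX hηx h1) g).symm
    · rw [if_neg h2]
      symm
      have hfx : f (genericPoint X) = f x := by
        by_contra hne
        have h4 := (hdimY _ _ hfηx hne).1
        have h5 : (Groth.Agent.Lib.Helper24.FibreDim.tr f x : ℤ) < r := by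
          have h6 : (Groth.Agent.Lib.Helper24.FibreDim.tr f x : ℤ) ≤ r := by exact_mod_cast htr
          rcases lt_or_eq_of_le h6 with h7 | h7
          · exact h7
          · exact absurd (by rw [hδx, h7]) h2
        linarith
      obtain ⟨a, b, hb, hgab⟩ := exists_specMap_div hfηx g
      have ha : Cyc.specMap (f x) (f (genericPoint X)) hfηx a ≠ 0 := by
        intro h0
        apply hg
        rw [hgab, h0, zero_div]
      have hua := isUnit_of_specMap_ne_zero hfηx hfx a ha
      have hub := isUnit_of_specMap_ne_zero hfηx hfx b hb
      refine ordAt_eq_zero_of_isUnit hηx _ (hua.map (f.stalkMap x).hom).unit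
        (hub.map (f.stalkMap x).hom).unit ?_
      rw [IsUnit.unit_spec, IsUnit.unit_spec, specMap_stalkMap f hηx hfηx,
        specMap_stalkMap f hηx hfηx]
      have h8 : g * Cyc.specMap (f x) (f (genericPoint X)) hfηx b =
          Cyc.specMap (f x) (f (genericPoint X)) hfηx a := by
        rw [hgab, div_mul_cancel₀ _ hb]
      rw [← h8, map_mul]
  · have hR : Cyc.divFun δX (genericPoint X) (f.residueFieldMap (genericPoint X) g) x = 0 :=
      dif_neg (fun h => h1 h.2)
    rw [hR]
    by_cases h2 : δX x = δY (f x) + r
    · rw [if_pos h2]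
      have h3 : ¬ (δY (f x) + 1 = δY (f (genericPoint X))) := fun h3 => h1 (by linarith)
      have hL : Cyc.divFun δY (f (genericPoint X)) g (f x) = 0 := dif_neg (fun h => h3 h.2)
      rw [hL, zero_mul]
    · rw [if_neg h2]

end Groth.Agent.S1905
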