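import Groth.Statements.S1907
import Mathlib
import Groth.Agent.Lib.Helper18.Cyc.PullDivSum
import Groth.Agent.Lib.Helper18.Cyc.DivFinite
open Groth.Agent.Lib.Helper18.CycDiv Groth.Agent.Lib.Helper18.CycPull IsLocalRing

set_option autoImplicit false
universe u
open CategoryTheory AlgebraicGeometry
open Cyc

namespace Groth.Agent.S1907

/-- Let Y be integral with δY(η_Y) = k, f : X → Y flat, locally of finite type, of relative dimension r,
and g a nonzero rational function on Y. Then f^*(div_Y g) = Σ_j n_j · div_{X_j}(g|_{X_j}) as (k + r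
− 1)-cycles on X, the sum over the irreducible components X_j of X (generic points ξ_j, which map to
η_Y) with n_j the length of O_{X,ξ_j}, and g|_{X_j} the image of g in κ(ξ_j). A pair (X, δ) with
Cyc.IsSetup plays the role of a scheme locally of finite type over a fixed base with a dimension
function (X locally Noetherian with universally catenary local rings, δ a dimension function), and
Cyc.DeltaCompat records that the dimension function upstairs is the induced one. -/
theorem result (X Y : Scheme.{u}) [IsIntegral Y] (δX : X → ℤ) (δY : Y → ℤ) (hX : Cyc.IsSetup X δX) (hY : Cyc.IsSetup Y δY) (f : X ⟶ Y) [Flat f] [LocallyOfFiniteType f] (r : ℕ) (hr : Cyc.HasRelDim f r) (hδ : Cyc.DeltaCompat f δX δY) (k : ℤ) (hk : δY (genericPoint Y) = k) (g : Y.residueField (genericPoint Y)) (hg : g ≠ 0) (x : X) : Cyc.pullFun f δX δY r (Cyc.divFun δY (genericPoint Y) g) x = ∑ᶠ ξ : {ξ : X // (∀ x' : X, x' ⤳ ξ → x' = ξ) ∧ f ξ = genericPoint Y}, ((Module.length (X.presheaf.stalk ξ.1) (X.presheaf.stalk ξ.1)).toNat : ℤ) * Cyc.divFun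 δX ξ.1 (f.residueFieldMap ξ.1 ((Y.residueFieldCongr ξ.2.2.symm).hom g)) x := by
  obtain ⟨hNX, -, hdimX⟩ := hX
  obtain ⟨hNY, -, hdimY⟩ := hY
  haveI := hNX
  haveI := hNY
  have hy : genericPoint Y ⤳ f x := genericPoint_specializes _
  have htr := tr_le_of_hasRelDim f r hr x
  have hδx := delta_eq_add_tr f δX δY hδ x
  unfold Cyc.pullFun
  by_cases h2 : δX x = δY (f x) + r
  · rw [if_pos h2]
    by_cases h3 : δY (f x) + 1 = δY (genericPoint Y)
    · have hL : Cyc.divFun δY (genericPoint Y) g (f x) =
          Cyc.ordAt (f x) (genericPoint Y) hy g := dif_pos ⟨hy, h3⟩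
      rw [hL]
      exact pull_div_sum_main f δX δY hdimX hdimY r hr hδ g hg x hy h2 h3
    · have hL : Cyc.divFun δY (genericPoint Y) g (f x) = 0 := dif_neg (fun h => h3 h.2)
      rw [hL, zero_mul]
      symm
      apply finsum_eq_zero_of_forall_eq_zero
      intro ξ
      have hξδ := delta_genIdx f δX δY r hr hδ ξ
      have h0 : Cyc.divFun δX ξ.1
          (f.residueFieldMap ξ.1 ((Y.residueFieldCongr ξ.2.2.symm).hom g)) x = 0 :=
        dif_neg (fun h => h3 (by linarith [h.2]))
      rw [h0, mul_zero]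
  · rw [if_neg h2]
    symm
    apply finsum_eq_zero_of_forall_eq_zero
    intro ξ
    have hξδ := delta_genIdx f δX δY r hr hδ ξ
    by_cases hc : ξ.1 ⤳ x ∧ δX x + 1 = δX ξ.1
    · have hdiv : Cyc.divFun δX ξ.1
          (f.residueFieldMap ξ.1 ((Y.residueFieldCongr ξ.2.2.symm).hom g)) x =
          Cyc.ordAt x ξ.1 hc.1 (f.residueFieldMap ξ.1 ((Y.residueFieldCongr ξ.2.2.symm).hom g)) :=
        dif_pos hc
      rw [hdiv]
      have hfx : genericPoint Y = f x := by
        by_contra hne
        have h4 := (hdimY _ _ hy hne).1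
        have h5 : (Groth.Agent.Lib.Helper24.FibreDim.tr f x : ℤ) < r := by
          have h6 : (Groth.Agent.Lib.Helper24.FibreDim.tr f x : ℤ) ≤ r := by exact_mod_cast htr
          rcases lt_or_eq_of_le h6 with h7 | h7
          · exact h7
          · exact absurd (by rw [hδx, h7]) h2
        linarith [hc.2]
      obtain ⟨a, b, hb, hgab⟩ := exists_specMap_div hy g
      have ha : Cyc.specMap (f x) (genericPoint Y) hy a ≠ 0 := by
        intro h0
        apply hg
        rw [hgab, h0, zero_div]
      have hua := isUnit_of_specMap_ne_zero hy hfx a ha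
      have hub := isUnit_of_specMap_ne_zero hy hfx b hb
      have hre := restrict_eq_div f ξ hc.1 hy g a b hgab
      have hnz : Cyc.specMap x ξ.1 hc.1 ((f.stalkMap x).hom b) ≠ 0 :=
        ((hub.map (f.stalkMap x).hom).map (Cyc.specMap x ξ.1 hc.1)).ne_zero
      have h0 : Cyc.ordAt x ξ.1 hc.1
          (f.residueFieldMap ξ.1 ((Y.residueFieldCongr ξ.2.2.symm).hom g)) = 0 := by
        refine ordAt_eq_zero_of_isUnit hc.1 _ (hua.map (f.stalkMap x).hom).unit
          (hub.map (f.stalkMap x).hom).unit ?_
        rw [IsUnit.unit_spec, IsUnit.unit_spec]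
        exact (hre ▸ div_mul_cancel₀ _ hnz)
      rw [h0, mul_zero]
    · have h0 : Cyc.divFun δX ξ.1
          (f.residueFieldMap ξ.1 ((Y.residueFieldCongr ξ.2.2.symm).hom g)) x = 0 := dif_neg hc
      rw [h0, mul_zero]

end Groth.Agent.S1907
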