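import Groth.Statements.S19130
-- import your own Groth.Agent.* helpers here
import Groth.Agent.Lib.Helper23.PointExact3
import Groth.Agent.Lib.Helper23.LCSheaf
import Groth.Agent.S0626
import Groth.Agent.S0627
import Groth.Agent.S0628

set_option autoImplicit false
universe u
open CategoryTheory CategoryTheory.Limits AlgebraicGeometry Opposite
open EtCoh

namespace Groth.Agent.S19130

/-- Let p be a prime and Y an integral scheme which is normal (every local ring is integrally closed in
its fraction field) and whose function field is algebraically closed. Then the étale cohomology of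
the constant sheaf Z/p on Y is Z/p in degree 0 and vanishes in positive degrees: H^0(Y_et, Z/p) has
exactly p elements and H^i(Y_et, Z/p) = 0 for i > 0. Moreover, for every nonempty open subscheme j :
U → Y, the unit morphism from the constant sheaf Z/p on Y_et to j_* of its restriction to U is an
isomorphism. -/
theorem result
    (p : ℕ) [Fact p.Prime] (Y : Scheme.{u}) [IsIntegral Y]
    (hnorm : ∀ y : Y, IsIntegrallyClosed (Y.presheaf.stalk y)) [IsAlgClosed Y.functionField] :
    Nat.card (EtCoh.H Y (EtCoh.const Y (ZMod p)) 0) = p ∧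
      (∀ i : ℕ, 0 < i → Subsingleton (EtCoh.H Y (EtCoh.const Y (ZMod p)) i)) ∧
      ∀ U : Y.Opens, (U : Set Y).Nonempty →
        IsIso ((EtCoh.pullPushAdj U.ι).unit.app (EtCoh.const Y (ZMod p))) := by
  haveI : IsSepClosed Y.functionField := inferInstance
  refine ⟨?_, ?_, ?_⟩
  · open Groth.Agent.Lib.Helper23 in
    let e0 := Sheaf.H.equiv₀ (EtCoh.const Y (ZMod p)) (EtCore.topIsTerminal Y)
    let c := LCSheaf.constIso Y (ZMod p)
    let e1 : (EtCoh.const Y (ZMod p)).obj.obj (op (EtCoh.top Y)) ≃
        (LCSheaf.LC Y (ZMod p)).obj.obj (op (EtCoh.top Y)) :=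
      ((((sheafSections Y.smallEtaleTopology AddCommGrpCat.{u + 1}).obj
        (op (EtCoh.top Y))).mapIso c).addCommGroupIsoToAddEquiv).toEquiv
    let y₀ : Y := genericPoint Y
    let e2 : ULift.{u + 1} (LocallyConstant Y (ZMod p)) ≃ ZMod p :=
      { toFun := fun s => s.down y₀
        invFun := fun m => ⟨LocallyConstant.const _ m⟩
        left_inv := fun s => by
          apply ULift.ext
          exact (LocallyConstant.eq_const s.down y₀).symm
        right_inv := fun m => rfl }
    have e3 : (LCSheaf.LC Y (ZMod p)).obj.obj (op (EtCoh.top Y)) ≃ ZMod p := e2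
    rw [Nat.card_congr (e0.toEquiv.trans (e1.trans e3)), Nat.card_zmod]
  · intro i hi
    obtain ⟨n, rfl⟩ : ∃ n, i = n + 1 := ⟨i - 1, by omega⟩
    haveI := Groth.Agent.S0626.result Y hnorm (ZMod p)
    let g := Y.fromSpecStalk (genericPoint Y)
    let N := (EtCoh.pull g).obj (EtCoh.const Y (ZMod p))
    let iso : EtCoh.const Y (ZMod p) ≅ (EtCoh.push g).obj N :=
      asIso ((EtCoh.pullPushAdj g).unit.app (EtCoh.const Y (ZMod p)))
    have key : ∀ x : Spec (CommRingCat.of Y.functionField),
        IsSepClosed ((Spec (CommRingCat.of Y.functionField)).residueField x) :=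
      Groth.Agent.S0628.isSepClosed_residueField_spec_field Y.functionField
    have hS : Subsingleton (Spec (Y.presheaf.stalk (genericPoint Y))) :=
      (inferInstance : Subsingleton (PrimeSpectrum Y.functionField))
    haveI := Groth.Agent.Lib.Helper23.PointExact.H_push_subsingleton hS key g N n
    have hinj : Function.Injective (Sheaf.H.map iso.hom (n + 1)) := by
      intro a b hab
      have ha := Sheaf.H.map_comp_apply iso.hom iso.inv a
      have hb := Sheaf.H.map_comp_apply iso.hom iso.inv b
      rw [iso.hom_inv_id, Sheaf.H.map_id_apply] at ha hb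
      rw [ha, hb, hab]
    exact hinj.subsingleton
  · intro U hU
    exact Groth.Agent.S0627.result Y hnorm U hU (ZMod p)


end Groth.Agent.S19130
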