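import Groth.Statements.S19131
import Mathlib

set_option autoImplicit false
universe v u v' u'
open CategoryTheory CategoryTheory.Limits CategoryTheory.Pretriangulated CategoryTheory.Triangulated
open PervT

namespace Groth.Agent.S19131

section Key

variable {C : Type u} [Category.{v} C] [Preadditive C] [HasZeroObject C] [HasShift C ℤ]
    [∀ n : ℤ, (shiftFunctor C n).Additive] [Pretriangulated C] [IsTriangulated C]
    (t : TStructure C) (hb : ∀ X : C, t.bounded X)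
    (D : ObjectProperty C) [D.IsTriangulated] [D.IsClosedUnderIsomorphisms]
    (h1 : ∀ X : C, D X → ∀ n : ℤ, D ((t.truncGELE n n).obj X))
    (h2 : ∀ (X Y Z : C) (f : X ⟶ Y) (g : Y ⟶ Z) (h : Z ⟶ X⟦(1 : ℤ)⟧),
      Triangle.mk f g h ∈ distTriang C → t.heart X → t.heart Y → t.heart Z → D Y → D X ∧ D Z)

include hb h1 in
lemma D_truncLT (N : C) (hN : D N) : ∀ n : ℤ, D ((t.truncLT n).obj N) := by
  obtain ⟨⟨a, ha⟩, -⟩ := hb N
  have h0 : ∀ n ≤ a, D ((t.truncLT n).obj N) := fun n hn => by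
    have := t.isGE_of_ge N n a hn
    exact D.prop_of_isZero (t.isZero_truncLT_obj_of_isGE n N)
  have hk : ∀ k : ℕ, D ((t.truncLT (a + k)).obj N) := by
    intro k
    induction k with
    | zero => exact h0 _ (by simp)
    | succ k ih =>
      have hT := t.triangleLTLTGELT_distinguished (a + k) (a + k + 1) (by omega) N
      have h3 : D ((t.truncGELT (a + k) (a + k + 1)).obj N) :=
        D.prop_of_iso ((t.truncGELEIsoTruncGELT (a + k) (a + k) (a + k + 1) rfl).app N)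
          (h1 N hN (a + k))
      have := D.ext_of_isTriangulatedClosed₂ _ hT ih h3
      have e : a + ((k + 1 : ℕ) : ℤ) = a + k + 1 := by push_cast; ring
      rw [e]
      exact this
  intro n
  by_cases hn : n ≤ a
  · exact h0 n hn
  · obtain ⟨k, rfl⟩ : ∃ k : ℕ, n = a + k := ⟨(n - a).toNat, by omega⟩
    exact hk k

include hb h1 h2 in
lemma key {X₂ X'' N : C} (s : X₂ ⟶ X'') (g : X'' ⟶ N) (h : N ⟶ X₂⟦(1 : ℤ)⟧)
    (hT : Triangle.mk s g h ∈ distTriang C) (hX₂ : t.IsGE X₂ 1) (hN : D N) :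
    D ((t.truncLT 1).obj X'') := by
  -- notation
  let U := (t.truncLT 1).obj X''
  let a : U ⟶ X'' := (t.truncLTι 1).app X''
  have hU : Triangle.mk a ((t.truncGEπ 1).app X'') ((t.truncGEδLT 1).app X'') ∈ distTriang C :=
    t.triangleLTGE_distinguished 1 X''
  have hUle : t.IsLE U 0 := t.isLE_truncLT_obj X'' 1 0
  -- Step 1
  have hg : Triangle.mk g h (-s⟦(1 : ℤ)⟧') ∈ distTriang C := rot_of_distTriang _ hT
  obtain ⟨K, k₁, k₂, hK⟩ := distinguished_cocone_triangle (a ≫ g)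
  have o₁ := someOctahedron rfl hU hg hK
  have hKge : t.IsGE K 0 := by
    have h₁ : t.IsGE ((t.truncGE 1).obj X'') 0 := t.isGE_of_ge _ 0 1
    have h₃ : t.IsGE (X₂⟦(1 : ℤ)⟧) 0 := t.isGE_shift X₂ 1 1 0
    exact t.isGE₂ _ o₁.mem 0 h₁ h₃
  -- Step 2
  let V := (t.truncLT 1).obj N
  let b : V ⟶ N := (t.truncLTι 1).app N
  have hV : Triangle.mk b ((t.truncGEπ 1).app N) ((t.truncGEδLT 1).app N) ∈ distTriang C :=
    t.triangleLTGE_distinguished 1 N
  have hVle : t.IsLE V 0 := t.isLE_truncLT_obj N 1 0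
  let u : U ⟶ V := t.liftTruncLT (a ≫ g) 0 1 (by omega)
  have hu : u ≫ b = a ≫ g := t.liftTruncLT_ι (a ≫ g) 0 1 (by omega)
  obtain ⟨Q, c₁, c₂, hQ⟩ := distinguished_cocone_triangle u
  have o₂ := someOctahedron hu hQ hV hK
  have hQge : t.IsGE Q 0 := by
    have h₁ : t.IsGE (((t.truncGE 1).obj N)⟦(-1 : ℤ)⟧) 0 := by
      have : t.IsGE (((t.truncGE 1).obj N)⟦(-1 : ℤ)⟧) 2 := t.isGE_shift _ 1 (-1) 2
      exact t.isGE_of_ge _ 0 2
    exact t.isGE₂ _ (inv_rot_of_distTriang _ o₂.mem) 0 h₁ hKge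
  have hQle : t.IsLE Q 0 := by
    have h₃ : t.IsLE (U⟦(1 : ℤ)⟧) 0 := by
      have : t.IsLE (U⟦(1 : ℤ)⟧) (-1) := t.isLE_shift U 0 1 (-1)
      exact t.isLE_of_le _ (-1) 0
    exact t.isLE₂ _ (rot_of_distTriang _ hQ) 0 hVle h₃
  -- Step 3
  let Hn := (t.truncGE 0).obj V
  let p : V ⟶ Hn := (t.truncGEπ 0).app V
  have hp : Triangle.mk ((t.truncLTι 0).app V) p ((t.truncGEδLT 0).app V) ∈ distTriang C :=
    t.triangleLTGE_distinguished 0 V
  let r : Hn ⟶ Q := t.descTruncGE c₁ 0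
  have hr : p ≫ r = c₁ := t.π_descTruncGE c₁ 0
  obtain ⟨R₁, r₁, r₂, hR⟩ := distinguished_cocone_triangle r
  have o₃ := someOctahedron hr (rot_of_distTriang _ hp) hR (rot_of_distTriang _ hQ)
  have hHnge : t.IsGE Hn 0 := inferInstance
  have hHnle : t.IsLE Hn 0 := inferInstance
  have hR₁le : t.IsLE R₁ (-1) := by
    have h₁ : t.IsLE (U⟦(1 : ℤ)⟧) (-1) := t.isLE_shift U 0 1 (-1)
    have h₃ : t.IsLE ((((t.truncLT 0).obj V)⟦(1 : ℤ)⟧)⟦(1 : ℤ)⟧) (-1) := by
      have i0 : t.IsLE ((t.truncLT 0).obj V) (-1) := t.isLE_truncLT_obj V 0 (-1)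
      have i1 : t.IsLE (((t.truncLT 0).obj V)⟦(1 : ℤ)⟧) (-2) := t.isLE_shift _ (-1) 1 (-2)
      have i2 : t.IsLE ((((t.truncLT 0).obj V)⟦(1 : ℤ)⟧)⟦(1 : ℤ)⟧) (-3) :=
        t.isLE_shift _ (-2) 1 (-3)
      exact t.isLE_of_le _ (-3) (-1)
    exact t.isLE₂ _ (rot_of_distTriang _ o₃.mem) (-1) h₁ h₃
  have hR₁ge : t.IsGE R₁ (-1) := by
    have h₁ : t.IsGE Q (-1) := t.isGE_of_ge _ (-1) 0
    have h₃ : t.IsGE (Hn⟦(1 : ℤ)⟧) (-1) := t.isGE_shift Hn 0 1 (-1)
    exact t.isGE₂ _ (rot_of_distTriang _ hR) (-1) h₁ h₃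
  have hRle : t.IsLE (R₁⟦(-1 : ℤ)⟧) 0 := t.isLE_shift R₁ (-1) (-1) 0
  have hRge : t.IsGE (R₁⟦(-1 : ℤ)⟧) 0 := t.isGE_shift R₁ (-1) (-1) 0
  have hDHn : D Hn :=
    D.prop_of_iso ((t.truncGELEIsoTruncGELT 0 0 1 rfl).app N) (h1 N hN 0)
  have hDQ : D Q :=
    (h2 _ _ _ _ _ _ (inv_rot_of_distTriang _ hR)
      ((t.mem_heart_iff _).2 ⟨hRle, hRge⟩) ((t.mem_heart_iff _).2 ⟨hHnle, hHnge⟩)
      ((t.mem_heart_iff _).2 ⟨hQle, hQge⟩) hDHn).2
  -- Step 4
  have hDV : D V := D_truncLT t hb D h1 N hN 1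
  exact D.ext_of_isTriangulatedClosed₁ (Triangle.mk u c₁ c₂) hQ hDV hDQ

section Loc

variable {E : Type u'} [Category.{v'} E] [Preadditive E] [HasZeroObject E] [HasShift E ℤ]
    [∀ n : ℤ, (shiftFunctor E n).Additive] [Pretriangulated E]
    (q : C ⥤ E) [q.CommShift ℤ] [q.IsTriangulated] [q.IsLocalization D.trW]

include hb h1 h2 in
lemma hom_zero {X₁ X₂ : C} (h₁ : t.IsLE X₁ 0) (h₂ : t.IsGE X₂ 1) (φ : q.obj X₁ ⟶ q.obj X₂) :
    φ = 0 := by
  obtain ⟨z, hz⟩ := Localization.exists_leftFraction q D.trW φ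
  obtain ⟨N, g, h, hT, hN⟩ := z.hs
  have hDU := key t hb D h1 h2 z.s g h hT h₂ hN
  let t₀ := (t.truncGEπ 1).app z.Y'
  have hW : D.trW t₀ :=
    ObjectProperty.trW.mk' (P := D) (t.triangleLTGE_distinguished 1 z.Y') hDU
  have i1 := Localization.inverts q D.trW _ z.hs
  have i2 := Localization.inverts q D.trW _ hW
  have h0 : z.f ≫ t₀ = 0 := t.zero _ 0 1
  have h3 : φ ≫ q.map z.s = q.map z.f := by
    rw [hz, MorphismProperty.LeftFraction.map_comp_map_s]
  have h4 : φ ≫ (q.map z.s ≫ q.map t₀) = 0 := by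
    rw [← Category.assoc, h3, ← q.map_comp, h0, q.map_zero]
  have : IsIso (q.map z.s ≫ q.map t₀) := inferInstance
  exact (cancel_mono (q.map z.s ≫ q.map t₀)).mp (h4.trans zero_comp.symm)

/-- the t-structure on the quotient -/
noncomputable def tq : TStructure E where
  le n := fun Y => ∃ X : C, t.IsLE X n ∧ Nonempty (q.obj X ≅ Y)
  ge n := fun Y => ∃ X : C, t.IsGE X n ∧ Nonempty (q.obj X ≅ Y)
  le_isClosedUnderIsomorphisms n := ⟨fun e ⟨X, hX, ⟨i⟩⟩ => ⟨X, hX, ⟨i ≪≫ e⟩⟩⟩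
  ge_isClosedUnderIsomorphisms n := ⟨fun e ⟨X, hX, ⟨i⟩⟩ => ⟨X, hX, ⟨i ≪≫ e⟩⟩⟩
  le_shift n a n' h Y := by
    rintro ⟨X, hX, ⟨i⟩⟩
    exact ⟨X⟦a⟧, t.isLE_shift X n a n' h,
      ⟨(q.commShiftIso a).app X ≪≫ (shiftFunctor E a).mapIso i⟩⟩
  ge_shift n a n' h Y := by
    rintro ⟨X, hX, ⟨i⟩⟩
    exact ⟨X⟦a⟧, t.isGE_shift X n a n' h,
      ⟨(q.commShiftIso a).app X ≪≫ (shiftFunctor E a).mapIso i⟩⟩
  zero' X Y f hX hY := by
    obtain ⟨X₁, h₁, ⟨i₁⟩⟩ := hX
    obtain ⟨X₂, h₂, ⟨i₂⟩⟩ := hY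
    have := hom_zero t hb D h1 h2 q h₁ h₂ (i₁.hom ≫ f ≫ i₂.inv)
    rw [← cancel_epi i₁.hom, ← cancel_mono i₂.inv, Category.assoc, this, comp_zero, zero_comp]
  le_zero_le := fun Y ⟨X, hX, i⟩ => ⟨X, t.isLE_of_le X 0 1, i⟩
  ge_one_le := fun Y ⟨X, hX, i⟩ => ⟨X, t.isGE_of_ge X 0 1, i⟩
  exists_triangle_zero_one A := by
    have := Localization.essSurj q D.trW
    let X₀ := q.objPreimage A
    let e : q.obj X₀ ≅ A := q.objObjPreimageIso A
    obtain ⟨X, Y, hX, hY, f, g, h, hT⟩ := t.exists_triangle_zero_one X₀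
    have hT' := q.map_distinguished _ hT
    refine ⟨q.obj X, q.obj Y, ⟨X, ⟨hX⟩, ⟨Iso.refl _⟩⟩, ⟨Y, ⟨hY⟩, ⟨Iso.refl _⟩⟩,
      q.map f ≫ e.hom, e.inv ≫ q.map g, q.map h ≫ (q.commShiftIso (1 : ℤ)).hom.app X, ?_⟩
    refine isomorphic_distinguished _ hT' _
      (Triangle.isoMk _ _ (Iso.refl _) e.symm (Iso.refl _) ?_ ?_ ?_)
    · change (q.map f ≫ e.hom) ≫ e.inv = 𝟙 (q.obj X) ≫ q.map f
      rw [Category.assoc, e.hom_inv_id, Category.comp_id, Category.id_comp]
    · change (e.inv ≫ q.map g) ≫ 𝟙 (q.obj Y) = e.inv ≫ q.map g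
      rw [Category.comp_id]
    · change (q.map h ≫ (q.commShiftIso (1 : ℤ)).hom.app X) ≫ (𝟙 (q.obj X))⟦(1 : ℤ)⟧' =
        𝟙 (q.obj Y) ≫ (q.map h ≫ (q.commShiftIso (1 : ℤ)).hom.app X)
      rw [CategoryTheory.Functor.map_id, Category.id_comp]
      exact Category.comp_id _

end Loc

end Key

lemma tstructure_ext {E : Type u'} [Category.{v'} E] [Preadditive E] [HasZeroObject E]
    [HasShift E ℤ] [∀ n : ℤ, (shiftFunctor E n).Additive] [Pretriangulated E]
    (t₁ t₂ : TStructure E) (hle : t₁.le = t₂.le) (hge : t₁.ge = t₂.ge) : t₁ = t₂ := by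
  cases t₁
  cases t₂
  simp only at hle hge
  subst hle hge
  rfl


/-- Let C be a triangulated category (octahedron axiom included) carrying a bounded t-structure t (every
object is ≥ a and ≤ b for some integers a, b), and let D be a strictly full triangulated subcategory
of C (a property of objects containing zero, stable under shifts, extensions and isomorphisms) such
that (1) for X in D and every integer n the n-th cohomology object of X for t, realised as τ^{≥ n}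
τ^{≤ n} X, lies in D, and (2) the objects of D in the heart of t are closed under subobjects and
quotients in the heart: for every distinguished triangle X → Y → Z → X[1] whose three vertices lie
in the heart, if Y is in D then so are X and Z. Let q : C ⥤ E be a triangulated functor to a
pretriangulated category E which exhibits E as the localization of C at the class of morphisms whose
cone lies in D (the Verdier quotient of C by D). Then E carries exactly one t-structure for which q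
is t-exact (q sends objects ≤ n to objects ≤ n and objects ≥ n to objects ≥ n), and for this
t-structure an object of E is ≤ n, respectively ≥ n, if and only if it is isomorphic to q X for some
X ≤ n, respectively X ≥ n, in C. (The source also identifies the heart of this t-structure with the
quotient of the heart of t by its intersection with D; that identification is not asserted here.) -/
theorem result
    {C : Type u} [Category.{v} C] [Preadditive C] [HasZeroObject C] [HasShift C ℤ]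
    [∀ n : ℤ, (shiftFunctor C n).Additive] [Pretriangulated C] [IsTriangulated C]
    (t : TStructure C) (hb : ∀ X : C, t.bounded X)
    (D : ObjectProperty C) [D.IsTriangulated] [D.IsClosedUnderIsomorphisms]
    (h1 : ∀ X : C, D X → ∀ n : ℤ, D ((t.truncGELE n n).obj X))
    (h2 : ∀ (X Y Z : C) (f : X ⟶ Y) (g : Y ⟶ Z) (h : Z ⟶ X⟦(1 : ℤ)⟧),
      Triangle.mk f g h ∈ distTriang C → t.heart X → t.heart Y → t.heart Z → D Y → D X ∧ D Z)
    {E : Type u'} [Category.{v'} E] [Preadditive E] [HasZeroObject E] [HasShift E ℤ]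
    [∀ n : ℤ, (shiftFunctor E n).Additive] [Pretriangulated E]
    (q : C ⥤ E) [q.CommShift ℤ] [q.IsTriangulated] [q.IsLocalization D.trW] :
    ∃ t' : TStructure E,
      (∀ (X : C) (n : ℤ), t.IsLE X n → t'.IsLE (q.obj X) n) ∧
      (∀ (X : C) (n : ℤ), t.IsGE X n → t'.IsGE (q.obj X) n) ∧
      (∀ (Y : E) (n : ℤ), t'.IsLE Y n ↔ ∃ X : C, t.IsLE X n ∧ Nonempty (q.obj X ≅ Y)) ∧
      (∀ (Y : E) (n : ℤ), t'.IsGE Y n ↔ ∃ X : C, t.IsGE X n ∧ Nonempty (q.obj X ≅ Y)) ∧
      ∀ t'' : TStructure E,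
        (∀ (X : C) (n : ℤ), t.IsLE X n → t''.IsLE (q.obj X) n) →
        (∀ (X : C) (n : ℤ), t.IsGE X n → t''.IsGE (q.obj X) n) → t'' = t' := by
  refine ⟨tq t hb D h1 h2 q, ?_, ?_, ?_, ?_, ?_⟩
  · intro X n h
    exact ⟨⟨X, h, ⟨Iso.refl _⟩⟩⟩
  · intro X n h
    exact ⟨⟨X, h, ⟨Iso.refl _⟩⟩⟩
  · intro Y n
    exact ⟨fun h => h.le, fun h => ⟨h⟩⟩
  · intro Y n
    exact ⟨fun h => h.ge, fun h => ⟨h⟩⟩
  · intro t'' hle hge
    apply tstructure_ext
    · funext n
      funext Y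
      apply propext
      constructor
      · intro hY
        have hY' : t''.IsLE Y n := ⟨hY⟩
        have : (tq t hb D h1 h2 q).IsLE Y n := by
          rw [(tq t hb D h1 h2 q).isLE_iff_orthogonal n (n + 1) rfl]
          intro Z f hZ
          obtain ⟨X', hX', ⟨i⟩⟩ := hZ.ge
          have h3 := hge X' (n + 1) hX'
          have h4 : t''.IsGE Z (n + 1) := t''.isGE_of_iso i (n + 1)
          exact t''.zero f n (n + 1)
        exact this.le
      · rintro ⟨X, hX, ⟨i⟩⟩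
        have h3 := hle X n hX
        exact (t''.isLE_of_iso i n).le
    · funext n
      funext Y
      apply propext
      constructor
      · intro hY
        have hY' : t''.IsGE Y n := ⟨hY⟩
        have : (tq t hb D h1 h2 q).IsGE Y n := by
          rw [(tq t hb D h1 h2 q).isGE_iff_orthogonal (n - 1) n (by omega)]
          intro Z f hZ
          obtain ⟨X', hX', ⟨i⟩⟩ := hZ.le
          have h3 := hle X' (n - 1) hX'
          have h4 : t''.IsLE Z (n - 1) := t''.isLE_of_iso i (n - 1)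
          exact t''.zero f (n - 1) n
        exact this.ge
      · rintro ⟨X, hX, ⟨i⟩⟩
        have h3 := hge X n hX
        exact (t''.isGE_of_iso i n).ge

end Groth.Agent.S19131
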