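import Groth.Statements.S19148
import Mathlib.Tactic

set_option autoImplicit false
open scoped TensorProduct
universe u v
open FiltMod

namespace Groth.Agent.S19148

section
variable {R : Type u} [CommRing R] {M : Type v} [AddCommGroup M] [Module R M]

/-- the product functional on the tensor power -/
noncomputable def prodFun {n : ℕ} (φ : Fin n → (M →ₗ[R] R)) :
    (PiTensorProduct R (fun _ : Fin n => M)) →ₗ[R] R :=
  PiTensorProduct.lift ((MultilinearMap.mkPiAlgebra R (Fin n) R).compLinearMap φ)

lemma prodFun_tprod {n : ℕ} (φ : Fin n → (M →ₗ[R] R)) (v : Fin n → M) :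
    prodFun φ (PiTensorProduct.tprod R v) = ∏ i, φ i (v i) := by
  rw [prodFun, PiTensorProduct.lift.tprod, MultilinearMap.compLinearMap_apply,
    MultilinearMap.mkPiAlgebra_apply]

/-- the tensor step -/
lemma stepA (F₁ F₂ : Submodule R M) (n : ℕ)
    (hle : LinearMap.range (PiTensorProduct.map (R := R) (fun _ : Fin (n + 1) => F₂.subtype)) ≤
      LinearMap.range (PiTensorProduct.map (R := R) (fun _ : Fin (n + 1) => F₁.subtype)))
    (χ : M →ₗ[R] R) (hχ : ∀ w ∈ F₁, χ w = 0) (x : M) (hx : x ∈ F₂)
    (φ : Fin n → (M →ₗ[R] R)) (y : Fin n → M) (hy : ∀ i, y i ∈ F₂) :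
    χ x * ∏ i, φ i (y i) = 0 := by
  set v : Fin (n + 1) → M := Fin.cons x y with hv
  have hvmem : ∀ i, v i ∈ F₂ := by
    intro i
    refine Fin.cases ?_ (fun j => ?_) i
    · simpa [hv] using hx
    · simpa [hv] using hy j
  have ht : PiTensorProduct.tprod R v ∈
      LinearMap.range (PiTensorProduct.map (R := R) (fun _ : Fin (n + 1) => F₂.subtype)) := by
    refine ⟨PiTensorProduct.tprod R (fun i => (⟨v i, hvmem i⟩ : F₂)), ?_⟩
    rw [PiTensorProduct.map_tprod]
    rfl
  obtain ⟨z, hz⟩ := hle ht
  set Φ := prodFun (R := R) (M := M) (Fin.cons χ φ : Fin (n + 1) → (M →ₗ[R] R)) with hΦ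
  have hzero : ∀ z, Φ (PiTensorProduct.map (R := R) (fun _ : Fin (n + 1) => F₁.subtype) z) = 0 := by
    intro z
    induction z using PiTensorProduct.induction_on with
    | smul_tprod r w =>
      rw [map_smul, map_smul, PiTensorProduct.map_tprod, hΦ, prodFun_tprod, Fin.prod_univ_succ]
      simp only [Fin.cons_zero, Submodule.subtype_apply]
      rw [hχ _ (w 0).2, zero_mul, smul_zero]
    | add a b ha hb => rw [map_add, map_add, ha, hb, add_zero]
  have h1 := hzero z
  rw [hz, hΦ, prodFun_tprod, Fin.prod_univ_succ] at h1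
  simpa [hv] using h1


lemma core [Module.Finite R M] [Module.Projective R M] (F₁ F₂ : Submodule R M)
    (h₁ : ∃ C : Submodule R M, IsCompl F₁ C) (h₂ : ∃ C : Submodule R M, IsCompl F₂ C) (n : ℕ)
    (hle : LinearMap.range (PiTensorProduct.map (R := R) (fun _ : Fin (n + 1) => F₂.subtype)) ≤
      LinearMap.range (PiTensorProduct.map (R := R) (fun _ : Fin (n + 1) => F₁.subtype))) :
    F₂ ≤ F₁ := by
  obtain ⟨C₁, hC₁⟩ := h₁
  obtain ⟨C₂, hC₂⟩ := h₂
  obtain ⟨n₀, f, g, -, -, hfg⟩ := Module.Finite.exists_comp_eq_id_of_projective R M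
  have hfg' : ∀ x, f (g x) = x := fun x => by
    have := congrArg (fun h => h x) hfg
    simpa using this
  set p₂ : M →ₗ[R] M := F₂.projection C₂ hC₂ with hp₂
  set mvec : Fin n₀ → M := fun i => (p₂ ∘ₗ f) (fun j => if i = j then 1 else 0) with hmvec
  set φ₀ : Fin n₀ → (M →ₗ[R] R) := fun i => (LinearMap.proj i) ∘ₗ g with hφ₀
  have hmvec_mem : ∀ i, mvec i ∈ F₂ := fun i => Submodule.projection_apply_mem hC₂ _
  have hexp : ∀ x ∈ F₂, x = ∑ i, φ₀ i x • mvec i := by
    intro x hx
    have h1 : x = (p₂ ∘ₗ f) (g x) := by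
      rw [LinearMap.comp_apply, hfg', hp₂, Submodule.projection_apply_of_mem_left hC₂ hx]
    conv_lhs => rw [h1, LinearMap.pi_apply_eq_sum_univ (p₂ ∘ₗ f) (g x)]
    rfl
  -- the family of statements S(m)
  have key : ∀ j m : ℕ, m + j = n → ∀ (χ : M →ₗ[R] R), (∀ w ∈ F₁, χ w = 0) → ∀ x ∈ F₂,
      ∀ (φ : Fin m → (M →ₗ[R] R)) (y : Fin m → M), (∀ i, y i ∈ F₂) → χ x * ∏ i, φ i (y i) = 0 := by
    intro j
    induction j with
    | zero =>
      intro m hm
      rw [add_zero] at hm
      subst hm
      intro χ hχ x hx φ y hy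
      exact stepA F₁ F₂ m hle χ hχ x hx φ y hy
    | succ j ih =>
      intro m hm χ hχ x hx φ y hy
      have hS := ih (m + 1) (by omega)
      have hχx : χ x = ∑ i, φ₀ i x * χ (mvec i) := by
        conv_lhs => rw [hexp x hx]
        rw [map_sum]
        apply Finset.sum_congr rfl
        intro i _
        rw [map_smul, smul_eq_mul]
      rw [hχx, Finset.sum_mul]
      apply Finset.sum_eq_zero
      intro i _
      have := hS χ hχ (mvec i) (hmvec_mem i) (Fin.cons (φ₀ i) φ) (Fin.cons x y) (by
        intro l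
        refine Fin.cases ?_ (fun l' => ?_) l
        · simpa using hx
        · simpa using hy l')
      rw [Fin.prod_univ_succ] at this
      simp only [Fin.cons_zero, Fin.cons_succ] at this
      linear_combination this
  have hS0 := key n 0 (by omega)
  intro x hx
  set q : M →ₗ[R] M := C₁.projection F₁ hC₁.symm with hq
  have hqx : q x = 0 := by
    rw [← hfg' (q x)]
    have : g (q x) = 0 := by
      funext i
      have := hS0 ((LinearMap.proj i) ∘ₗ g ∘ₗ q) (by
        intro w hw
        rw [LinearMap.comp_apply, LinearMap.comp_apply, hq,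
          (Submodule.projection_apply_eq_zero_iff hC₁.symm).mpr hw, map_zero, map_zero]) x hx
        Fin.elim0 Fin.elim0 (fun i => i.elim0)
      simpa using this
    rw [this, map_zero]
  exact (Submodule.projection_apply_eq_zero_iff hC₁.symm).mp hqx

end


/-- In affine form, let R be a commutative ring, M a finitely generated projective R-module (a finite
locally free sheaf on Spec R), F₁ and F₂ direct summands of M and k ≥ 1. Then the images of F₁^{⊗k}
and F₂^{⊗k} in the k-th tensor power M^{⊗k} are equal if and only if F₁ = F₂. (The source states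
this for local direct factors of a finite locally free sheaf on a scheme; equality of subsheaves
being local, this is the affine case with global direct summands, to which it reduces.) -/
theorem result {R : Type u} [CommRing R] {M : Type v} [AddCommGroup M] [Module R M]
    [Module.Finite R M] [Module.Projective R M] (F₁ F₂ : Submodule R M)
    (h₁ : ∃ C : Submodule R M, IsCompl F₁ C) (h₂ : ∃ C : Submodule R M, IsCompl F₂ C) (k : ℕ) (hk : 1 ≤ k) :
    LinearMap.range (PiTensorProduct.map (R := R) (fun _ : Fin k => F₁.subtype)) =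
      LinearMap.range (PiTensorProduct.map (R := R) (fun _ : Fin k => F₂.subtype)) ↔ F₁ = F₂ := by
  constructor
  · intro h
    obtain ⟨n, rfl⟩ : ∃ n, k = n + 1 := ⟨k - 1, by omega⟩
    exact le_antisymm (core F₂ F₁ h₂ h₁ n h.le) (core F₁ F₂ h₁ h₂ n h.ge)
  · rintro rfl
    rfl

end Groth.Agent.S19148
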