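import Groth.Statements.S19155
import Mathlib
import Groth.Agent.Lib.lead.RootDJ
import Groth.Agent.S5504

set_option autoImplicit false
open RootPairing
open RootD

namespace Groth.Agent.S19155

open Groth.Agent.RootDL Groth.Agent.Lib.Helper4.RD RootPairing Groth.Agent.S2953

variable {ι M N : Type*} [AddCommGroup M] [AddCommGroup N] {P : RootPairing ι ℤ M N}

/-- elements of the group generated by simple reflections are words -/
lemma exists_word {Δ : Set ι} {g : P.Aut} (hg : g ∈ simpleRefl P Δ) :
    ∃ L : List ι, (∀ a ∈ L, a ∈ Δ) ∧ g = pr P L := by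
  unfold simpleRefl at hg
  induction hg using Subgroup.closure_induction with
  | mem x hx =>
    obtain ⟨j, hj, rfl⟩ := hx
    exact ⟨[j], by simpa using hj, by simp [pr]⟩
  | one => exact ⟨[], by simp, rfl⟩
  | mul x y _ _ hx hy =>
    obtain ⟨L1, h1, rfl⟩ := hx
    obtain ⟨L2, h2, rfl⟩ := hy
    refine ⟨L1 ++ L2, ?_, (pr_append P L1 L2).symm⟩
    intro a ha
    rcases List.mem_append.mp ha with h | h
    · exact h1 a h
    · exact h2 a h
  | inv x _ hx =>
    obtain ⟨L, h, rfl⟩ := hx
    exact ⟨L.reverse, fun a ha => h a (List.mem_reverse.mp ha), pr_inv P L⟩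

section
variable {Γ : Type*} [AddCommGroup Γ] [LinearOrder Γ] [IsOrderedAddMonoid Γ] (f : M →+ Γ)

lemma nonneg_of_mem_natSpan {S : Set ι} (hf : ∀ i ∈ S, 0 ≤ f (P.root i)) {x : M}
    (hx : x ∈ natSpan P S) : 0 ≤ f x := by
  induction hx using AddSubmonoid.closure_induction with
  | mem x hx =>
    obtain ⟨i, hi, rfl⟩ := hx
    exact hf i hi
  | zero => rw [map_zero]
  | add x y _ _ hx hy => rw [map_add]; exact add_nonneg hx hy

/-- the positive system attached to `f` and `S` -/
def T (P : RootPairing ι ℤ M N) (S : Set ι) (f : M →+ Γ) : Set ι :=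
  {i | 0 < f (P.root i) ∨ (f (P.root i) = 0 ∧ i ∈ S)}

lemma T_aux {S : Set ι} {x : M} (hx : x ∈ natSpan P (T P S f)) :
    0 ≤ f x ∧ (f x = 0 → x ∈ natSpan P S) := by
  induction hx using AddSubmonoid.closure_induction with
  | mem x hx =>
    obtain ⟨i, hi, rfl⟩ := hx
    rcases hi with h | h
    · exact ⟨h.le, fun h0 => absurd h0 h.ne'⟩
    · exact ⟨h.1.ge, fun _ => root_mem_natSpan P h.2⟩
  | zero => exact ⟨by rw [map_zero], fun _ => zero_mem _⟩
  | add x y _ _ hx hy =>
    refine ⟨by rw [map_add]; exact add_nonneg hx.1 hy.1, fun h0 => ?_⟩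
    rw [map_add] at h0
    have hx0 : f x = 0 := by
      have := hy.1
      have := hx.1
      exact le_antisymm (by
        by_contra hlt
        push Not at hlt
        have : 0 < f x + f y := add_pos_of_pos_of_nonneg hlt hy.1
        exact this.ne' h0) hx.1
    have hy0 : f y = 0 := by rw [hx0, zero_add] at h0; exact h0
    exact add_mem (hx.2 hx0) (hy.2 hy0)

lemma T_isPosSys {S : Set ι} (hS : IsPosSys P S) : IsPosSys P (T P S f) := by
  constructor
  · intro i hi hneg
    have hr : f (P.root (P.reflectionPerm i i)) = - f (P.root i) := by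
      rw [root_neg, map_neg]
    rcases hi with h | h <;> rcases hneg with h' | h'
    · rw [hr] at h'
      exact absurd (neg_pos.mp h') (not_lt.mpr h.le)
    · rw [hr] at h'
      exact h.ne' (neg_eq_zero.mp h'.1)
    · rw [hr, h.1, neg_zero] at h'
      exact lt_irrefl _ h'
    · exact hS.disjoint h.2 h'.2
  · intro i
    have hr : f (P.root (P.reflectionPerm i i)) = - f (P.root i) := by
      rw [root_neg, map_neg]
    rcases lt_trichotomy (f (P.root i)) 0 with h | h | h
    · right; left; rw [hr]; exact neg_pos.mpr h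
    · rcases hS.cover i with h' | h'
      · left; right; exact ⟨h, h'⟩
      · right; right; exact ⟨by rw [hr, h, neg_zero], h'⟩
    · left; left; exact h
  · intro k n hn hk
    obtain ⟨h1, h2⟩ := T_aux f hk
    rw [map_nsmul] at h1 h2
    by_cases hpos : 0 < f (P.root k)
    · left; exact hpos
    · push Not at hpos
      have h0 : n • f (P.root k) = 0 := le_antisymm (nsmul_nonpos hpos n) h1
      have hk0 : f (P.root k) = 0 := by
        rcases (nsmul_eq_zero_iff_right hn.ne').mp h0 with h
        exact h
      right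
      exact ⟨hk0, hS.sat n hn (h2 h0)⟩


theorem part1 [Finite ι] {S : Set ι} (hS : IsPosSys P S) :
    ∃ g : P.Aut, g ∈ P.weylGroup ∧ ∀ i ∈ S, 0 ≤ f (Equiv.weightHom P g (P.root i)) := by
  obtain ⟨g, hg, himg⟩ := weyl_transitive_posSys hS (T_isPosSys f hS)
  refine ⟨g, hg, fun i hi => ?_⟩
  have : g • i ∈ T P S f := himg ▸ ⟨i, hi, rfl⟩
  change 0 ≤ f (g • P.root i)
  rw [← root_smul]
  rcases this with h | h
  · exact h.le
  · exact h.1.ge

theorem part2_aux [Finite ι] {Δ : Set ι} (hΔ : IsSimpleSys P Δ)
    (hf : ∀ x ∈ natSpan P Δ, 0 ≤ f x) :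
    ∀ n : ℕ, ∀ L : List ι, L.length = n → (∀ a ∈ L, a ∈ Δ) →
      (∀ i ∈ Δ, 0 ≤ f (pr P L • P.root i)) → ∀ m : M, f (pr P L • m) = f m := by
  intro n
  induction n using Nat.strong_induction_on with
  | _ n ih =>
    intro L hlen hL hdom m
    by_cases hmin : ∀ l' : List ι, (∀ a ∈ l', a ∈ Δ) → pr P l' = pr P L → L.length ≤ l'.length
    · rcases List.eq_nil_or_concat L with rfl | ⟨L', r, rfl⟩
      · simp [pr]
      · simp only [List.concat_eq_append] at hlen hL hdom hmin ⊢
        have hne : L' ++ [r] ≠ [] := by simp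
        have hneg := Groth.Agent.S5504.result P Δ hΔ (L' ++ [r]) hL hne hmin
        rw [List.getLast_append_singleton] at hneg
        change -P.root (pr P (L' ++ [r]) • r) ∈ natSpan P Δ at hneg
        have hr : r ∈ Δ := hL r (by simp)
        have h1 : 0 ≤ f (-(P.root (pr P (L' ++ [r]) • r))) := hf _ hneg
        have h2 := hdom r hr
        rw [← root_smul] at h2
        have h0 : f (P.root (pr P (L' ++ [r]) • r)) = 0 := by
          rw [map_neg] at h1
          exact le_antisymm (neg_nonneg.mp h1) h2
        have key : ∀ m' : M, f (pr P L' • m') = f (pr P (L' ++ [r]) • m') := by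
          intro m'
          have e1 : pr P L' • m' = pr P (L' ++ [r]) • (Equiv.reflection P r • m') := by
            rw [pr_append, pr_cons, pr_nil, mul_one, mul_smul, ← mul_smul (Equiv.reflection P r),
              refl_mul_self, one_smul]
          have e2 : Equiv.reflection P r • m' = m' - (P.coroot' r m') • P.root r :=
            P.reflection_apply r m'
          rw [e1, e2, smul_sub, map_sub, smul_comm, ← root_smul, map_zsmul, h0, smul_zero, sub_zero]
        have hlen' : L'.length < n := by
          rw [← hlen]; simp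
        have := ih L'.length hlen' L' rfl (fun a ha => hL a (by simp [ha]))
          (fun i hi => by rw [key]; exact hdom i hi) m
        rw [← key, this]
    · push Not at hmin
      obtain ⟨l', hl', heq, hlt⟩ := hmin
      have := ih l'.length (by omega) l' rfl hl' (by rw [heq]; exact hdom) m
      rw [heq] at this
      exact this

end


/-- Let P be a root datum (root pairing over ℤ with finitely many roots, roots in M), S a system of
positive roots, Γ a non-trivial totally ordered commutative group and f : M → Γ additive. Call f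
dominant when f(α) ≥ 0 for every positive root α. Then the dominant maps form a fundamental domain
for the Weyl group W acting on Hom(M, Γ) through M: there is w ∈ W with f ∘ w dominant, and if f and
f ∘ w are both dominant (w ∈ W) then f ∘ w = f. -/
theorem result {ι M N : Type*} [AddCommGroup M] [AddCommGroup N]
    (P : RootPairing ι ℤ M N) [Finite ι] (S : Set ι) (hS : RootD.IsPosSys P S)
    {Γ : Type*} [AddCommGroup Γ] [LinearOrder Γ] [IsOrderedAddMonoid Γ] [Nontrivial Γ] (f : M →+ Γ) :
    (∃ g : P.Aut, g ∈ P.weylGroup ∧ ∀ i ∈ S, 0 ≤ f (RootPairing.Equiv.weightHom P g (P.root i))) ∧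
    (∀ g : P.Aut, g ∈ P.weylGroup → (∀ i ∈ S, 0 ≤ f (P.root i)) →
      (∀ i ∈ S, 0 ≤ f (RootPairing.Equiv.weightHom P g (P.root i))) →
      ∀ m : M, f (RootPairing.Equiv.weightHom P g m) = f m) := by
  have hΔ := isSimpleSys_simpleOf hS
  refine ⟨part1 f hS, ?_⟩
  intro g hg hf hfg m
  rw [← simpleRefl_eq_weylGroup hΔ] at hg
  obtain ⟨L, hL, rfl⟩ := exists_word hg
  have hfΔ : ∀ x ∈ natSpan P (simpleOf P S), 0 ≤ f x := fun x hx =>
    nonneg_of_mem_natSpan f hf (natSpan_mono P (simpleOf_subset S) hx)
  exact part2_aux f hΔ hfΔ L.length L rfl hL (fun i hi => hfg i (simpleOf_subset S hi)) m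

end Groth.Agent.S19155
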