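import Groth.Statements.S19156
import Mathlib
import Groth.Agent.Lib.lead.RootDJ
import Groth.Agent.S5504
import Groth.Agent.S19155
import Groth.Agent.Lib.Helper17.RootDIrr

set_option autoImplicit false
open RootPairing
open RootD

namespace Groth.Agent.S19156

open Groth.Agent.RootDL Groth.Agent.Lib.Helper4.RD RootPairing Groth.Agent.S2953
open Groth.Agent.Lib.Helper17.RootDIrr Groth.Agent.S19155

variable {ι M N : Type*} [AddCommGroup M] [AddCommGroup N] {P : RootPairing ι ℤ M N}

/-- ⟨2ρ, j^v⟩ > 0 for positive j -/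
lemma sum_pairing_pos [Fintype ι] {S : Set ι} (hS : IsPosSys P S) [DecidablePred (· ∈ S)] {j : ι} (hj : j ∈ S) :
    0 < ∑ k ∈ Finset.univ.filter (· ∈ S), P.pairing k j := by
  classical
  rw [← Finset.sum_filter_add_sum_filter_not _ (fun k => P.reflectionPerm j k ∈ S)]
  have hA : ∑ k ∈ (Finset.univ.filter (· ∈ S)).filter (fun k => P.reflectionPerm j k ∈ S),
      P.pairing k j = 0 := by
    apply Finset.sum_involution (fun k _ => P.reflectionPerm j k)
    · intro k _
      rw [pairing_reflectionPerm_left, P.pairing_same]; ring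
    · intro k _ hk heq
      have : P.pairing (P.reflectionPerm j k) j = - P.pairing k j := by
        rw [pairing_reflectionPerm_left, P.pairing_same]; ring
      rw [heq] at this
      apply hk
      linarith
    · intro k hk
      simp only [Finset.mem_filter, Finset.mem_univ, true_and] at hk ⊢
      refine ⟨hk.2, ?_⟩
      rw [P.reflectionPerm_self]
      exact hk.1
    · intro k _
      exact P.reflectionPerm_self j k
  rw [hA, zero_add]
  have hnn : ∀ k ∈ (Finset.univ.filter (· ∈ S)).filter (fun k => ¬ P.reflectionPerm j k ∈ S),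
      0 ≤ P.pairing k j := by
    intro k hk
    simp only [Finset.mem_filter, Finset.mem_univ, true_and] at hk
    by_contra hneg
    push Not at hneg
    apply hk.2
    apply posSys_closed hS
    rw [P.root_reflectionPerm, P.reflection_apply_root, sub_eq_add_neg, ← neg_smul]
    exact add_mem (root_mem_natSpan P hk.1) (zsmul_root_mem_natSpan hj (by omega))
  have hjB : j ∈ (Finset.univ.filter (· ∈ S)).filter (fun k => ¬ P.reflectionPerm j k ∈ S) := by
    simp only [Finset.mem_filter, Finset.mem_univ, true_and]
    exact ⟨hj, hS.disjoint hj⟩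
  have := Finset.single_le_sum hnn hjB
  rw [P.pairing_same] at this
  linarith


section
variable {Γ : Type*} [AddCommGroup Γ] [LinearOrder Γ] [IsOrderedAddMonoid Γ] (f : M →+ Γ)

theorem partA [Fintype ι] {S : Set ι} (hS : IsPosSys P S) (hf : ∀ i ∈ S, 0 ≤ f (P.root i)) :
    ∀ n : ℕ, ∀ L : List ι, L.length = n → (∀ a ∈ L, a ∈ simpleOf P S) →
      ∃ c : ι → Γ, (∀ i, 0 ≤ c i) ∧ (∀ i, i ∉ S → c i = 0) ∧
        ∀ m : M, f m - f (pr P L • m) = ∑ i, (P.coroot' i m) • c i := by
  classical
  have hΔ := isSimpleSys_simpleOf hS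
  have hSeq : S = posOf P (simpleOf P S) := eq_posOf_of_subset hΔ hS (simpleOf_subset S)
  intro n
  induction n using Nat.strong_induction_on with
  | _ n ih =>
    intro L hlen hL
    by_cases hmin : ∀ l' : List ι, (∀ a ∈ l', a ∈ simpleOf P S) → pr P l' = pr P L →
        L.length ≤ l'.length
    · rcases List.eq_nil_or_concat L with rfl | ⟨L', r, rfl⟩
      · exact ⟨fun _ => 0, fun _ => le_rfl, fun _ _ => rfl, fun m => by simp [pr]⟩
      · simp only [List.concat_eq_append] at hlen hL hmin ⊢
        have hne : L' ++ [r] ≠ [] := by simp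
        have hneg := Groth.Agent.S5504.result P _ hΔ (L' ++ [r]) hL hne hmin
        rw [List.getLast_append_singleton] at hneg
        change -P.root (pr P (L' ++ [r]) • r) ∈ natSpan P _ at hneg
        have hr : r ∈ simpleOf P S := hL r (by simp)
        have e0 : P.root (pr P (L' ++ [r]) • r) = - P.root (pr P L' • r) := by
          rw [pr_append, pr_cons, pr_nil, mul_one, mul_smul, Groth.Agent.RootDL.refl_smul, root_smul,
            root_neg, smul_neg, ← root_smul]
        rw [e0, neg_neg] at hneg
        have hpos : pr P L' • r ∈ S := by rw [hSeq]; exact hneg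
        have hlen' : L'.length < n := by rw [← hlen]; simp
        obtain ⟨c', hc1, hc2, hc3⟩ := ih L'.length hlen' L' rfl (fun a ha => hL a (by simp [ha]))
        refine ⟨c' + Pi.single r (f (P.root (pr P L' • r))), ?_, ?_, ?_⟩
        · intro i
          simp only [Pi.add_apply]
          apply add_nonneg (hc1 i)
          by_cases h : i = r
          · subst h; rw [Pi.single_eq_same]; exact hf _ hpos
          · rw [Pi.single_eq_of_ne h]
        · intro i hi
          simp only [Pi.add_apply]
          rw [hc2 i hi, zero_add, Pi.single_eq_of_ne]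
          rintro rfl
          exact hi (simpleOf_subset S hr)
        · intro m
          have e1 : pr P (L' ++ [r]) • m = pr P L' • (Equiv.reflection P r • m) := by
            rw [pr_append, pr_cons, pr_nil, mul_one, mul_smul]
          have e2 : Equiv.reflection P r • m = m - (P.coroot' r m) • P.root r :=
            P.reflection_apply r m
          rw [e1, e2, smul_sub, map_sub, smul_comm, ← root_smul, map_zsmul]
          simp only [Pi.add_apply, smul_add, Finset.sum_add_distrib]
          rw [← hc3 m]
          have : ∑ i, (P.coroot' i m) • (Pi.single r (f (P.root (pr P L' • r))) : ι → Γ) i =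
              (P.coroot' r m) • f (P.root (pr P L' • r)) := by
            rw [Finset.sum_eq_single r]
            · rw [Pi.single_eq_same]
            · intro b _ hb; rw [Pi.single_eq_of_ne hb, smul_zero]
            · intro h; exact absurd (Finset.mem_univ r) h
          rw [this]
          abel
    · push Not at hmin
      obtain ⟨l', hl', heq, hlt⟩ := hmin
      obtain ⟨c, h1, h2, h3⟩ := ih l'.length (by omega) l' rfl hl'
      exact ⟨c, h1, h2, fun m => by rw [← heq]; exact h3 m⟩

open Classical in
/-- 2ρ -/
noncomputable def twoRho [Fintype ι] (P : RootPairing ι ℤ M N) (S : Set ι) : M :=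
  ∑ k ∈ Finset.univ.filter (· ∈ S), P.root k

open Classical in
lemma coroot'_twoRho [Fintype ι] (S : Set ι) (j : ι) :
    P.coroot' j (twoRho P S) = ∑ k ∈ Finset.univ.filter (· ∈ S), P.pairing k j := by
  simp [twoRho, map_sum]

lemma twoRho_pos [Fintype ι] {S : Set ι} (hS : IsPosSys P S) {j : ι}
    (hj : j ∈ S) : 0 < P.coroot' j (twoRho P S) := by
  classical
  rw [coroot'_twoRho]; exact sum_pairing_pos hS hj

lemma nonneg_of_zsmul_nonneg {n : ℤ} (hn : 0 < n) {x : Γ} (h : 0 ≤ n • x) : 0 ≤ x := by
  rw [← zsmul_le_zsmul_iff_right hn, smul_zero]; exact h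

/-- reduction to simple roots using the reflection identity at `2ρ` -/
lemma dominant_of_refl [Fintype ι] {S : Set ι} (hS : IsPosSys P S)
    (h : ∀ i ∈ simpleOf P S,
      0 ≤ f (twoRho P S) - f (Equiv.reflection P i • twoRho P S)) :
    ∀ i ∈ S, 0 ≤ f (P.root i) := by
  classical
  have hΔ : ∀ i ∈ simpleOf P S, 0 ≤ f (P.root i) := by
    intro i hi
    have h1 := h i hi
    have e2 : Equiv.reflection P i • twoRho P S = twoRho P S - (P.coroot' i (twoRho P S)) • P.root i :=
      P.reflection_apply i _
    rw [e2, map_sub, sub_sub_cancel, map_zsmul] at h1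
    exact nonneg_of_zsmul_nonneg (twoRho_pos hS (simpleOf_subset S hi)) h1
  intro i hi
  exact nonneg_of_mem_natSpan f hΔ (root_mem_natSpan_simpleOf (posSys_pointed hS) hi)

end


/-- Let P be a root datum (root pairing over ℤ with finitely many roots indexed by ι), S a system of
positive roots, Γ a non-trivial totally ordered commutative group and f : M → Γ additive. Then f is
dominant (non-negative on the positive roots) if and only if, for every w in the Weyl group, f − f ∘
w is a combination m ↦ Σ_{α ∈ S} ⟨m, α∨⟩ c_α of the positive coroots with coefficients c_α ≥ 0 in Γ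
(f ∘ w is strongly dominated by f); and f is dominant if and only if f(w m) ≤ f(m) for every w ∈ W
and every dominant weight m (weak dominance). -/
theorem result {ι M N : Type*} [AddCommGroup M] [AddCommGroup N]
    (P : RootPairing ι ℤ M N) [Fintype ι] (S : Set ι) (hS : RootD.IsPosSys P S)
    {Γ : Type*} [AddCommGroup Γ] [LinearOrder Γ] [IsOrderedAddMonoid Γ] [Nontrivial Γ] (f : M →+ Γ) :
    ((∀ i ∈ S, 0 ≤ f (P.root i)) ↔
      ∀ g : P.Aut, g ∈ P.weylGroup → ∃ c : ι → Γ, (∀ i, 0 ≤ c i) ∧ (∀ i, i ∉ S → c i = 0) ∧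
        ∀ m : M, f m - f (RootPairing.Equiv.weightHom P g m) = ∑ i, (P.coroot' i m) • c i) ∧
    ((∀ i ∈ S, 0 ≤ f (P.root i)) ↔
      ∀ g : P.Aut, g ∈ P.weylGroup → ∀ m : M, (∀ i ∈ S, 0 ≤ P.coroot' i m) →
        f (RootPairing.Equiv.weightHom P g m) ≤ f m) := by
  have hΔ := isSimpleSys_simpleOf hS
  have hA : (∀ i ∈ S, 0 ≤ f (P.root i)) → ∀ g : P.Aut, g ∈ P.weylGroup →
      ∃ c : ι → Γ, (∀ i, 0 ≤ c i) ∧ (∀ i, i ∉ S → c i = 0) ∧
        ∀ m : M, f m - f (Equiv.weightHom P g m) = ∑ i, (P.coroot' i m) • c i := by
    intro hf g hg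
    rw [← simpleRefl_eq_weylGroup hΔ] at hg
    obtain ⟨L, hL, rfl⟩ := exists_word hg
    exact partA f hS hf L.length L rfl hL
  refine ⟨⟨hA, fun h => ?_⟩, ⟨fun hf g hg m hm => ?_, fun h => ?_⟩⟩
  · apply dominant_of_refl f hS
    intro i hi
    obtain ⟨c, hc1, hc2, hc3⟩ := h (Equiv.reflection P i) (P.reflection_mem_weylGroup i)
    have := hc3 (twoRho P S)
    change f _ - f (Equiv.reflection P i • twoRho P S) = _ at this
    rw [this]
    apply Finset.sum_nonneg
    intro k _
    by_cases hk : k ∈ S
    · exact zsmul_nonneg (hc1 k) (twoRho_pos hS hk).le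
    · rw [hc2 k hk, smul_zero]
  · obtain ⟨c, hc1, hc2, hc3⟩ := hA hf g hg
    have := hc3 m
    rw [← sub_nonneg, this]
    apply Finset.sum_nonneg
    intro k _
    by_cases hk : k ∈ S
    · exact zsmul_nonneg (hc1 k) (hm k hk)
    · rw [hc2 k hk, smul_zero]
  · apply dominant_of_refl f hS
    intro i hi
    rw [sub_nonneg]
    exact h (Equiv.reflection P i) (P.reflection_mem_weylGroup i) (twoRho P S)
      (fun k hk => (twoRho_pos hS hk).le)

end Groth.Agent.S19156
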