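import Groth.Statements.S19158
import Groth.Agent.Lib.Helper25.FiltSplit
-- import your own Groth.Agent.* helpers here

set_option autoImplicit false
universe u v w
open FiltMod

namespace Groth.Agent.S19158

theorem pi_iSup {R : Type u} [CommRing R] {A : Type v} [Fintype A] (M : A → Type v)
    [∀ a, AddCommGroup (M a)] [∀ a, Module R (M a)] {ι' : Sort*}
    (K : ι' → ∀ a, Submodule R (M a)) :
    (⨆ j, Submodule.pi Set.univ (K j)) = Submodule.pi Set.univ (fun a => ⨆ j, K j a) := by
  classical
  apply le_antisymm
  · apply iSup_le
    intro j x hx a _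
    exact (le_iSup (fun j => K j a) j) (hx a trivial)
  · intro x hx
    rw [← Finset.univ_sum_single x]
    apply sum_mem
    intro a _
    have h1 : x a ∈ ⨆ j, K j a := hx a trivial
    have h2 : Pi.single a (x a) ∈ (⨆ j, K j a).map (LinearMap.single R M a) :=
      Submodule.mem_map_of_mem h1
    rw [Submodule.map_iSup] at h2
    refine (iSup_le fun j => ?_ : _ ≤ ⨆ j, Submodule.pi Set.univ (K j)) h2
    refine le_trans ?_ (le_iSup (fun j => Submodule.pi Set.univ (K j)) j)
    rintro _ ⟨y, hy, rfl⟩ b _
    by_cases hb : b = a
    · subst hb; simpa using hy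
    · simp [hb]

/-- In affine form, let Γ be a non-trivial totally ordered commutative group, R a commutative ring and
(M_a) a finite family of finitely generated projective R-modules, each carrying a non-increasing
Γ-indexed family of submodules F_a; give M = Π_a M_a the family F^γ = Π_a F_a^γ. Then F is split by
a Γ-grading of M (an internal direct sum decomposition M = ⊕_γ G_γ with F^γ = Σ_{η ≥ γ} G_η for all
γ) if and only if each F_a is split by a Γ-grading of M_a. (The published statement is for finite
locally free sheaves on a scheme, where a filtration counts as split when it is split by a grading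
locally on the scheme; this row is the affine case, in which that is the same as being split by one
global grading.) -/
theorem result
    {Γ : Type w} [AddCommGroup Γ] [LinearOrder Γ] [IsOrderedAddMonoid Γ] [Nontrivial Γ]
    {R : Type u} [CommRing R] {A : Type v} [Fintype A] (M : A → Type v) [∀ a, AddCommGroup (M a)] [∀ a, Module R (M a)]
    [∀ a, Module.Finite R (M a)] [∀ a, Module.Projective R (M a)]
    (F : ∀ a, Γ → Submodule R (M a)) (hF : ∀ a, Antitone (F a)) :
    (∃ G : Γ → Submodule R (∀ a, M a), DirectSum.IsInternal G ∧
        ∀ γ, Submodule.pi Set.univ (fun a => F a γ) = ⨆ η ∈ Set.Ici γ, G η) ↔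
    ∀ a, ∃ G : Γ → Submodule R (M a), DirectSum.IsInternal G ∧ ∀ γ, F a γ = ⨆ η ∈ Set.Ici γ, G η := by
  open Groth.Agent.Lib.Helper25.FiltSplit in
  classical
  constructor
  · rintro ⟨G, hG, hG2⟩ a₀
    apply exists_split G hG (LinearMap.single R M a₀) (LinearMap.proj a₀)
      (fun x => by simp) (F a₀)
    · intro γ
      rw [Fil_eq, ← hG2 γ]
      ext x
      constructor
      · rintro ⟨y, hy, rfl⟩
        exact hy a₀ trivial
      · intro hx
        refine ⟨Pi.single a₀ x, ?_, by simp⟩
        intro b _
        by_cases hb : b = a₀
        · subst hb; simpa using hx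
        · simp [hb]
    · intro γ
      rw [Fil_eq, ← hG2 γ]
      rintro _ ⟨x, hx, rfl⟩ b _
      by_cases hb : b = a₀
      · subst hb; simpa using hx
      · simp [hb]
  · intro h
    choose H hH hFH using h
    refine ⟨fun γ => Submodule.pi Set.univ (fun a => H a γ), ?_, ?_⟩
    · apply DirectSum.isInternal_submodule_of_iSupIndep_of_iSup_eq_top
      · rw [iSupIndep_def]
        intro γ
        rw [Submodule.disjoint_def]
        intro x hx hx'
        have h1 : (⨆ (η : Γ) (_ : η ≠ γ), Submodule.pi Set.univ (fun a => H a η)) =
            Submodule.pi Set.univ (fun a => ⨆ (η : Γ) (_ : η ≠ γ), H a η) := by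
          rw [← pi_iSup M (fun η a => ⨆ (_ : η ≠ γ), H a η)]
          congr 1
          funext η
          rw [pi_iSup M (fun (_ : η ≠ γ) a => H a η)]
        rw [h1] at hx'
        funext a
        have h2 := (hH a).submodule_iSupIndep
        rw [iSupIndep_def] at h2
        exact (Submodule.disjoint_def.mp (h2 γ)) _ (hx a trivial) (hx' a trivial)
      · rw [pi_iSup M (fun γ a => H a γ)]
        have : (fun a => ⨆ γ, H a γ) = fun a => (⊤ : Submodule R (M a)) := by
          funext a; exact (hH a).submodule_iSup_eq_top
        rw [this, Submodule.pi_top]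
    · intro γ
      have h1 : (⨆ η ∈ Set.Ici γ, Submodule.pi Set.univ (fun a => H a η)) =
          Submodule.pi Set.univ (fun a => ⨆ η ∈ Set.Ici γ, H a η) := by
        rw [← pi_iSup M (fun η a => ⨆ (_ : η ∈ Set.Ici γ), H a η)]
        congr 1
        funext η
        rw [pi_iSup M (fun (_ : η ∈ Set.Ici γ) a => H a η)]
      rw [h1]
      congr 1
      funext a
      exact hFH a γ

end Groth.Agent.S19158
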