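import Groth.Statements.S19160
import Mathlib.Algebra.TrivSqZeroExt.Basic

set_option autoImplicit false
open scoped TensorProduct
universe u
open PureMod

namespace Groth.Agent.S19160

/-- (2) ⇒ (3): in affine form, let R be a commutative ring and i : A → B an R-linear map such that for
every commutative R-algebra R' the base change R' ⊗ A → R' ⊗ B is injective (the pull-back of i to
every affine scheme over Spec R is a monomorphism). Then F ⊗ A → F ⊗ B is injective for every
R-module F, i.e. i is universally injective (pure). (Modules and algebras are taken in the universe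
of R.) -/
theorem result (R : Type u) [CommRing R]
    (A B : Type u) [AddCommGroup A] [Module R A] [AddCommGroup B] [Module R B] (i : A →ₗ[R] B)
    (h : ∀ (R' : Type u) [CommRing R'] [Algebra R R'], Function.Injective (i.baseChange R'))
    (F : Type u) [AddCommGroup F] [Module R F] :
    Function.Injective (i.lTensor F) := by
  letI : Module Rᵐᵒᵖ F := Module.compHom F ((RingHom.id R).fromOpposite fun a b => mul_comm a b)
  haveI : IsCentralScalar R F := ⟨fun r m => rfl⟩
  have hR' := h (TrivSqZeroExt R F)
  have hinj : Function.Injective (i.lTensor (TrivSqZeroExt R F)) := by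
    have e : (i.baseChange (TrivSqZeroExt R F) : _ → _) = i.lTensor (TrivSqZeroExt R F) := rfl
    rw [← e]
    exact hR'
  have hinr : Function.Injective ((TrivSqZeroExt.inrHom R F).rTensor A) := by
    apply Function.LeftInverse.injective (g := (TrivSqZeroExt.sndHom R F).rTensor A)
    intro x
    rw [← LinearMap.comp_apply, ← LinearMap.rTensor_comp]
    have : (TrivSqZeroExt.sndHom R F) ∘ₗ (TrivSqZeroExt.inrHom R F) = LinearMap.id := by
      ext m
      simp
    rw [this, LinearMap.rTensor_id, LinearMap.id_apply]
  intro x y hxy
  apply hinr
  apply hinj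
  have hc : ∀ z, (i.lTensor (TrivSqZeroExt R F)) (((TrivSqZeroExt.inrHom R F).rTensor A) z) =
      ((TrivSqZeroExt.inrHom R F).rTensor B) ((i.lTensor F) z) := by
    intro z
    rw [← LinearMap.comp_apply, ← LinearMap.comp_apply, LinearMap.lTensor_comp_rTensor,
      LinearMap.rTensor_comp_lTensor]
  rw [hc, hc, hxy]

end Groth.Agent.S19160
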