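import Groth.Statements.S19161
import Mathlib
import Groth.Agent.Lib.lead.RootDJ
import Groth.Agent.Lib.lead.RootDG
import Groth.Agent.S19155
import Groth.Agent.S19156

set_option autoImplicit false
open RootPairing
open RootD

namespace Groth.Agent.S19161

open Groth.Agent.RootDL Groth.Agent.Lib.Helper4.RD RootPairing Groth.Agent.S2953
open Groth.Agent.S19155

variable {ι M N : Type*} [AddCommGroup M] [AddCommGroup N] {P : RootPairing ι ℤ M N}

lemma coroot'_smul (g : P.Aut) (i : ι) (m : M) : P.coroot' (g • i) (g • m) = P.coroot' i m := by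
  have h1 := Hom.weight_coweight_transpose_apply P P (P.coroot (g • i)) g.toHom
  have h2 := Hom.coroot_coweightMap_apply P P (g • i) g.toHom
  have h3 := congrArg (fun φ => φ m) h1
  simp only [LinearMap.dualMap_apply] at h3
  rw [h2] at h3
  have h4 : g.toHom.indexEquiv.symm (g • i) = i := g.toHom.indexEquiv.symm_apply_apply i
  rw [h4] at h3
  exact h3


/-- ℓ(k)⟨m, k^v⟩ = 2 B(m, root k) -/
lemma ell_mul_coroot' [Fintype ι] (k : ι) (m : M) :
    P.RootForm (P.root k) (P.root k) * P.coroot' k m = 2 * P.RootForm m (P.root k) := by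
  have h1 := P.rootForm_self_smul_coroot k
  have h2 := congrArg (fun y => P.toLinearMap m y) h1
  simp only [map_smul, smul_eq_mul, map_nsmul] at h2
  have h3 := congrArg (fun φ => φ (P.root k) m) P.flip_comp_polarization_eq_rootForm
  simp only [LinearMap.coe_comp, Function.comp_apply] at h3
  have h4 : P.RootForm (P.root k) m = P.RootForm m (P.root k) := by
    have := P.rootForm_symmetric.eq (P.root k) m
    simpa using this
  rw [← h4, ← h3]
  have : P.coroot' k m = P.toLinearMap m (P.coroot k) := rfl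
  rw [this, h2]
  simp [two_mul]

lemma exists_dominant_conj [Finite ι] {S : Set ι} (hS : IsPosSys P S) (m : M) :
    ∃ g : P.Aut, g ∈ P.weylGroup ∧ ∀ i ∈ S, 0 ≤ P.coroot' i (g • m) := by
  have := Fintype.ofFinite ι
  let F : M →+ ℤ := (P.RootForm m).toAddMonoidHom
  obtain ⟨g, hg, himg⟩ := weyl_transitive_posSys hS (T_isPosSys F hS)
  refine ⟨g⁻¹, inv_mem hg, fun i hi => ?_⟩
  have hT : g • i ∈ T P S F := himg ▸ ⟨i, hi, rfl⟩
  have h0 : 0 ≤ P.RootForm m (P.root (g • i)) := by
    rcases hT with h | h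
    · exact h.le
    · exact h.1.ge
  have e := coroot'_smul g i (g⁻¹ • m)
  rw [smul_inv_smul] at e
  rw [← e]
  have h1 := ell_mul_coroot' (P := P) (g • i) m
  have hpos : 0 < P.RootForm (P.root (g • i)) (P.root (g • i)) :=
    P.rootForm_pos_of_ne_zero (Submodule.subset_span ⟨_, rfl⟩) (P.ne_zero _)
  by_contra hneg
  push Not at hneg
  have := mul_neg_of_pos_of_neg hpos hneg
  linarith


/-- Let P be a root datum (root pairing over ℤ, finitely many roots), S a system of positive roots, W
the Weyl group, Γ a non-trivial totally ordered commutative group and f₁, f₂ : M → Γ additive maps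
which are dominant (f_i(α) ≥ 0 for α ∈ S). Then f₁ ≤ f₂ in the weak dominance order (f₁(m) ≤ f₂(m)
for every dominant weight m, i.e. every m with ⟨m, α∨⟩ ≥ 0 for all α ∈ S) if and only if, for every
non-empty finite W-stable subset X ⊆ M, the maximum of f₁ on X is at most the maximum of f₂ on X.
(The source phrases the right-hand side through W-invariant elements x of ℕ[M] and the largest
element of the support of f_i(x) in ℤ[Γ]; for ℕ-coefficients that largest element is the maximum of
f_i over the support of x.) -/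
theorem result {ι M N : Type*} [AddCommGroup M] [AddCommGroup N]
    (P : RootPairing ι ℤ M N) [Finite ι] (S : Set ι) (hS : RootD.IsPosSys P S)
    {Γ : Type*} [AddCommGroup Γ] [LinearOrder Γ] [IsOrderedAddMonoid Γ] [Nontrivial Γ] (f₁ f₂ : M →+ Γ)
    (hf₁ : ∀ i ∈ S, 0 ≤ f₁ (P.root i)) (hf₂ : ∀ i ∈ S, 0 ≤ f₂ (P.root i)) :
    (∀ m : M, (∀ i ∈ S, 0 ≤ P.coroot' i m) → f₁ m ≤ f₂ m) ↔
    ∀ (X : Finset M) (hX : X.Nonempty), (∀ g : P.Aut, g ∈ P.weylGroup → ∀ m ∈ X, RootPairing.Equiv.weightHom P g m ∈ X) →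
      X.sup' hX f₁ ≤ X.sup' hX f₂ := by
  classical
  have := Fintype.ofFinite ι
  have hweak : ∀ f : M →+ Γ, (∀ i ∈ S, 0 ≤ f (P.root i)) → ∀ g : P.Aut, g ∈ P.weylGroup →
      ∀ m : M, (∀ i ∈ S, 0 ≤ P.coroot' i m) → f (g • m) ≤ f m := fun f hf =>
    (Groth.Agent.S19156.result P S hS f).2.mp hf
  constructor
  · intro H X hX hstab
    rw [Finset.sup'_le_iff]
    intro x hx
    obtain ⟨g, hg, hdom⟩ := exists_dominant_conj hS x
    have hgx : g • x ∈ X := hstab g hg x hx
    have h1 : f₁ x ≤ f₁ (g • x) := by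
      have := hweak f₁ hf₁ g⁻¹ (inv_mem hg) (g • x) hdom
      rwa [inv_smul_smul] at this
    exact (h1.trans (H _ hdom)).trans (Finset.le_sup' f₂ hgx)
  · intro H m hm
    have hfin : Finite P.weylGroup := Finite.of_injective _ (weylGroupToPerm_injective (P := P))
    have := Fintype.ofFinite P.weylGroup
    let X : Finset M := Finset.image (fun g : P.weylGroup => (g : P.Aut) • m) Finset.univ
    have hmX : m ∈ X := Finset.mem_image.mpr ⟨1, Finset.mem_univ _, one_smul _ _⟩
    have hX : X.Nonempty := ⟨m, hmX⟩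
    have hstab : ∀ g : P.Aut, g ∈ P.weylGroup → ∀ x ∈ X, RootPairing.Equiv.weightHom P g x ∈ X := by
      intro g hg x hx
      obtain ⟨h, _, rfl⟩ := Finset.mem_image.mp hx
      refine Finset.mem_image.mpr ⟨⟨g, hg⟩ * h, Finset.mem_univ _, ?_⟩
      change (g * (h : P.Aut)) • m = g • ((h : P.Aut) • m)
      rw [mul_smul]
    have h1 := H X hX hstab
    have h2 : X.sup' hX f₂ ≤ f₂ m := by
      rw [Finset.sup'_le_iff]
      intro x hx
      obtain ⟨h, _, rfl⟩ := Finset.mem_image.mp hx
      exact hweak f₂ hf₂ h h.2 m hm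
    exact ((Finset.le_sup' f₁ hmX).trans h1).trans h2

end Groth.Agent.S19161
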