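import Groth.Statements.S19169
import Mathlib
-- import your own Groth.Agent.* helpers here

set_option autoImplicit false
universe u
open ProCompl

namespace Groth.Agent.S19169



open Topology Filter

section A
variable {G : Type*} [AddCommGroup G] [TopologicalSpace G] [IsTopologicalAddGroup G]

lemma exists_nhds_add_subset {W : Set G} (hWc : IsCompact W) (hWo : IsOpen W) :
    ∃ T ∈ 𝓝 (0 : G), ∀ w ∈ W, ∀ t ∈ T, w + t ∈ W := by
  refine hWc.induction_on (p := fun S => ∃ T ∈ 𝓝 (0 : G), ∀ w ∈ S, ∀ t ∈ T, w + t ∈ W)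
    ⟨Set.univ, Filter.univ_mem, by simp⟩ ?_ ?_ ?_
  · rintro s t hst ⟨T, hT, h⟩
    exact ⟨T, hT, fun w hw => h w (hst hw)⟩
  · rintro s t ⟨T₁, hT₁, h₁⟩ ⟨T₂, hT₂, h₂⟩
    refine ⟨T₁ ∩ T₂, Filter.inter_mem hT₁ hT₂, ?_⟩
    rintro w (hw | hw) t ⟨ht1, ht2⟩
    · exact h₁ w hw t ht1
    · exact h₂ w hw t ht2
  · intro x hx
    have hcont : Continuous fun p : G × G => p.1 + p.2 := continuous_add
    have hmem : (fun p : G × G => p.1 + p.2) ⁻¹' W ∈ 𝓝 (x, (0 : G)) :=
      (hWo.preimage hcont).mem_nhds (by simpa using hx)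
    rw [nhds_prod_eq, Filter.mem_prod_iff] at hmem
    obtain ⟨A, hA, T, hT, hAT⟩ := hmem
    exact ⟨A, mem_nhdsWithin_of_mem_nhds hA, T, hT,
      fun w hw t ht => hAT (Set.mk_mem_prod hw ht)⟩

/-- van Dantzig, weak form: a compact open nbhd of 0 contains an open subgroup. -/
lemma exists_open_addSubgroup_subset {W : Set G} (hWc : IsCompact W) (hWo : IsOpen W)
    (h0 : (0 : G) ∈ W) : ∃ U : AddSubgroup G, IsOpen (U : Set G) ∧ (U : Set G) ⊆ W := by
  obtain ⟨T, hT, hTW⟩ := exists_nhds_add_subset hWc hWo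
  let U : AddSubgroup G :=
    { carrier := {g | ∀ w, w ∈ W ↔ g + w ∈ W}
      zero_mem' := by intro w; simp
      add_mem' := by
        intro g h hg hh w
        rw [hh w, hg (h + w), add_assoc]
      neg_mem' := by
        intro g hg w
        rw [hg (-g + w)]; simp }
  refine ⟨U, ?_, ?_⟩
  · apply AddSubgroup.isOpen_of_mem_nhds (g := 0)
    have hT' : T ∩ -T ∈ 𝓝 (0 : G) := Filter.inter_mem hT (neg_mem_nhds_zero G hT)
    refine Filter.mem_of_superset hT' ?_
    rintro g ⟨hg1, hg2⟩ w
    constructor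
    · intro hw
      rw [add_comm]; exact hTW w hw g hg1
    · intro hw
      have := hTW (g + w) hw (-g) hg2
      simpa [add_comm] using this
  · intro g hg
    have := (hg 0).mp h0
    simpa using this

end A

section A2
variable {B : Type*} [AddCommGroup B] [TopologicalSpace B] [IsTopologicalAddGroup B]
    [T2Space B] [LocallyCompactSpace B] [TotallyDisconnectedSpace B]

lemma exists_open_addSubgroup_not_mem (b : B) (hb : b ≠ 0) :
    ∃ U : AddSubgroup B, IsOpen (U : Set B) ∧ b ∉ U := by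
  have hopen : IsOpen ({b}ᶜ : Set B) := isOpen_compl_singleton
  have h0 : (0 : B) ∈ ({b}ᶜ : Set B) := by simpa using hb.symm
  obtain ⟨K₀, hK₀c, h0K, hK₀⟩ := exists_compact_subset hopen h0
  have hbasis := loc_compact_Haus_tot_disc_of_zero_dim (H := B)
  obtain ⟨W, hWclopen, h0W, hWK⟩ :=
    hbasis.exists_subset_of_mem_open h0K isOpen_interior
  have hWc : IsCompact W :=
    hK₀c.of_isClosed_subset hWclopen.isClosed (hWK.trans interior_subset)
  obtain ⟨U, hUo, hUW⟩ := exists_open_addSubgroup_subset hWc hWclopen.isOpen h0W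
  refine ⟨U, hUo, fun hbU => ?_⟩
  have := hK₀ (interior_subset (hWK (hUW hbU)))
  simp at this

end A2



open Topology Filter DirectSum

section B
variable {G : Type*} [AddCommGroup G]

lemma exists_finiteIndex_not_mem_of_hom {H : Type*} [AddCommGroup H] [Finite H] (ψ : G →+ H)
    (x : G) (hx : ψ x ≠ 0) : ∃ K : AddSubgroup G, K.FiniteIndex ∧ x ∉ K := by
  refine ⟨ψ.ker, inferInstance, ?_⟩
  simpa [AddMonoidHom.mem_ker] using hx

lemma residually_finite [AddGroup.FG G] (x : G) (hx : x ≠ 0) :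
    ∃ K : AddSubgroup G, K.FiniteIndex ∧ x ∉ K := by
  obtain ⟨n, ι, _, p, hp, e, ⟨f⟩⟩ := AddCommGroup.equiv_free_prod_directSum_zmod G
  have hfx : f x ≠ 0 := (AddEquiv.map_ne_zero_iff f).mpr hx
  by_cases h1 : (f x).1 = 0
  · have h2 : (f x).2 ≠ 0 := fun h2 => hfx (Prod.ext h1 h2)
    obtain ⟨i, hi⟩ : ∃ i, (f x).2 i ≠ 0 := by
      by_contra hcon
      push Not at hcon
      exact h2 (DFinsupp.ext hcon)
    have : NeZero (p i ^ e i) := ⟨pow_ne_zero _ (hp i).ne_zero⟩
    let ψ : G →+ ZMod (p i ^ e i) :=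
      (DFinsupp.evalAddMonoidHom i).comp ((AddMonoidHom.snd _ _).comp f.toAddMonoidHom)
    exact exists_finiteIndex_not_mem_of_hom ψ x hi
  · obtain ⟨i, hi⟩ : ∃ i, (f x).1 i ≠ 0 := by
      by_contra hcon
      push Not at hcon
      exact h1 (Finsupp.ext hcon)
    have : NeZero (((f x).1 i).natAbs + 1) := ⟨Nat.succ_ne_zero _⟩
    let ψ : G →+ ZMod (((f x).1 i).natAbs + 1) :=
      (Int.castAddHom (ZMod (((f x).1 i).natAbs + 1))).comp
        ((Finsupp.applyAddHom i).comp ((AddMonoidHom.fst _ _).comp f.toAddMonoidHom))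
    refine exists_finiteIndex_not_mem_of_hom ψ x ?_
    show (((f x).1 i : ℤ) : ZMod (((f x).1 i).natAbs + 1)) ≠ 0
    rw [Ne, ZMod.intCast_zmod_eq_zero_iff_dvd]
    intro hdvd
    have h3 := Int.natAbs_dvd_natAbs.mpr hdvd
    have hpos : 0 < ((f x).1 i).natAbs := Int.natAbs_pos.mpr hi
    have h4 := Nat.le_of_dvd hpos h3
    have h5 : (((((f x).1 i).natAbs + 1 : ℕ) : ℤ)).natAbs = ((f x).1 i).natAbs + 1 := Int.natAbs_natCast _
    rw [h5] at h4
    omega

end B



/-- Let B be a Hausdorff, locally compact, totally disconnected topological abelian group which is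
compactly generated, i.e. generated as a group by a compact subset. Then the open subgroups of
finite index of B have trivial intersection: every nonzero b lies outside some open subgroup of
finite index. Equivalently, the natural map from B to its completion with respect to open subgroups
of finite index is injective. -/
theorem result
    {B : Type u} [AddCommGroup B] [TopologicalSpace B] [IsTopologicalAddGroup B]
    [T2Space B] [LocallyCompactSpace B] [TotallyDisconnectedSpace B]
    (hcg : ∃ K : Set B, IsCompact K ∧ AddSubgroup.closure K = ⊤) (b : B) (hb : b ≠ 0) :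
    ∃ B' : AddSubgroup B, IsOpen (B' : Set B) ∧ B'.FiniteIndex ∧ b ∉ B' := by
  obtain ⟨K, hKc, hK⟩ := hcg
  obtain ⟨U, hUo, hbU⟩ := exists_open_addSubgroup_not_mem b hb
  obtain ⟨F, hFK, hKF⟩ := hKc.elim_nhds_subcover (fun x => {y | y - x ∈ U}) (fun x _ => by
    have : IsOpen {y : B | y - x ∈ U} := hUo.preimage (continuous_id.sub continuous_const)
    exact this.mem_nhds (by simp))
  have hFG : AddGroup.FG (B ⧸ U) := by
    rw [AddGroup.fg_iff]
    refine ⟨(QuotientAddGroup.mk' U) '' (F : Set B), ?_, (F.finite_toSet).image _⟩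
    rw [eq_top_iff]
    have hsurj : Function.Surjective (QuotientAddGroup.mk' U) := QuotientAddGroup.mk'_surjective U
    rw [← AddMonoidHom.range_eq_top.mpr hsurj, AddMonoidHom.range_eq_map, ← hK,
      AddMonoidHom.map_closure, AddSubgroup.closure_le]
    rintro _ ⟨k, hk, rfl⟩
    obtain ⟨f, hfF, hkf⟩ := Set.mem_iUnion₂.mp (hKF hk)
    have hkf' : k - f ∈ U := hkf
    have heq : QuotientAddGroup.mk' U k = QuotientAddGroup.mk' U f := by
      rw [← sub_eq_zero, ← map_sub]
      exact (QuotientAddGroup.eq_zero_iff _).mpr hkf'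
    rw [heq]
    exact AddSubgroup.subset_closure ⟨f, hfF, rfl⟩
  have hb' : (QuotientAddGroup.mk' U b) ≠ 0 := by
    intro h
    exact hbU ((QuotientAddGroup.eq_zero_iff b).mp h)
  obtain ⟨H, hHfi, hbH⟩ := residually_finite (QuotientAddGroup.mk' U b) hb'
  refine ⟨H.comap (QuotientAddGroup.mk' U), ?_, ?_, hbH⟩
  · refine AddSubgroup.isOpen_mono (H₁ := U) ?_ hUo
    intro u hu
    rw [AddSubgroup.mem_comap]
    have : QuotientAddGroup.mk' U u = 0 := (QuotientAddGroup.eq_zero_iff u).mpr hu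
    rw [this]; exact H.zero_mem
  · rw [AddSubgroup.finiteIndex_iff,
      AddSubgroup.index_comap_of_surjective _ (QuotientAddGroup.mk'_surjective U)]
    exact AddSubgroup.finiteIndex_iff.mp hHfi


end Groth.Agent.S19169
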