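import Groth.Statements.S19172
import Mathlib.CategoryTheory.CofilteredSystem

set_option autoImplicit false
universe u v w
open ProCompl

namespace Groth.Agent.S19172

section helpers
open W4c61motalbduality CategoryTheory Opposite

variable {A : Type u} [AddCommGroup A] [TopologicalSpace A]

/-- order: `U ≤ V` iff `V` is a smaller subgroup. -/
instance instPreorderOpenFI : Preorder (OpenFI A) :=
  Preorder.lift (fun U : OpenFI A => OrderDual.toDual U.toAddSubgroup)

theorem le_iff (U V : OpenFI A) : U ≤ V ↔ V.toAddSubgroup ≤ U.toAddSubgroup := Iff.rfl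

def inter (U V : OpenFI A) : OpenFI A where
  toAddSubgroup := U.toAddSubgroup ⊓ V.toAddSubgroup
  isOpen' := U.isOpen'.inter V.isOpen'
  finiteIndex' := by
    have := U.finiteIndex'
    have := V.finiteIndex'
    infer_instance

instance : IsDirectedOrder (OpenFI A) :=
  ⟨fun U V => ⟨inter U V, (le_iff _ _).2 inf_le_left, (le_iff _ _).2 inf_le_right⟩⟩

instance (U : OpenFI A) : Finite (A ⧸ U.toAddSubgroup) := by
  have := U.finiteIndex'
  exact AddSubgroup.finite_quotient_of_finiteIndex

theorem GL (T : ∀ U : OpenFI A, Set (A ⧸ U.toAddSubgroup)) (hne : ∀ U, (T U).Nonempty)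
    (hcompat : ∀ (U V : OpenFI A) (h : U.toAddSubgroup ≤ V.toAddSubgroup), ∀ x ∈ T U,
      QuotientAddGroup.map U.toAddSubgroup V.toAddSubgroup (AddMonoidHom.id A) h x ∈ T V) :
    ∃ x : FICompl A, ∀ U, x.1 U ∈ T U := by
  let F : (OpenFI A)ᵒᵖ ⥤ Type u :=
    { obj := fun U => T U.unop
      map := fun {U V} f => TypeCat.ofHom (fun x : T U.unop =>
        (⟨QuotientAddGroup.map U.unop.toAddSubgroup V.unop.toAddSubgroup
        (AddMonoidHom.id A) (leOfHom f.unop) x.1, hcompat _ _ _ _ x.2⟩ : T V.unop))
      map_id := by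
        intro U
        ext x
        obtain ⟨a, ha⟩ := QuotientAddGroup.mk_surjective x.1
        simp [← ha]
      map_comp := by
        intro U V W f g
        ext x
        obtain ⟨a, ha⟩ := QuotientAddGroup.mk_surjective x.1
        simp [← ha] }
  have : ∀ j, Finite (F.obj j) := fun j => by
    change Finite (T j.unop)
    infer_instance
  have : ∀ j, Nonempty (F.obj j) := fun j => (hne j.unop).to_subtype
  obtain ⟨s, hs⟩ := nonempty_sections_of_finite_inverse_system F
  refine ⟨⟨fun U => (s (op U)).1, ?_⟩, fun U => (s (op U)).2⟩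
  intro U V h
  have := hs (j := op U) (j' := op V) (homOfLE h).op
  exact congrArg Subtype.val this

variable {B : Type v} [AddCommGroup B] [TopologicalSpace B]
  {C : Type w} [AddCommGroup C] [TopologicalSpace C]

/-- image of an open finite-index subgroup under an open surjective hom -/
def imageFI (p : B →+ C) (hpo : IsOpenMap p) (hps : Function.Surjective p) (V : OpenFI B) :
    OpenFI C where
  toAddSubgroup := V.toAddSubgroup.map p
  isOpen' := by
    have := hpo _ V.isOpen'
    simpa using this
  finiteIndex' := by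
    have := V.finiteIndex'
    exact ⟨ne_zero_of_dvd_ne_zero this.index_ne_zero (AddSubgroup.index_map_dvd _ hps)⟩

theorem surj (p : B →+ C) (hp : Continuous p) (hpo : IsOpenMap p) (hps : Function.Surjective p) :
    Function.Surjective (FICompl.map p hp) := by
  intro z
  obtain ⟨y, hy⟩ := GL (A := B)
    (fun V => {y | QuotientAddGroup.map V.toAddSubgroup (V.toAddSubgroup.map p) p
      (AddSubgroup.le_comap_map p _) y = z.1 (imageFI p hpo hps V)})
    (by
      intro V
      obtain ⟨c, hc⟩ := QuotientAddGroup.mk_surjective (z.1 (imageFI p hpo hps V))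
      obtain ⟨b, rfl⟩ := hps c
      exact ⟨QuotientAddGroup.mk b, hc⟩)
    (by
      intro U V h y hy
      obtain ⟨b, rfl⟩ := QuotientAddGroup.mk_surjective y
      simp only [Set.mem_ofPred_eq, QuotientAddGroup.map_mk] at hy ⊢
      have hz := z.2 (imageFI p hpo hps U) (imageFI p hpo hps V) (AddSubgroup.map_mono h)
      rw [← hz, ← hy]
      rfl)
  refine ⟨y, ?_⟩
  apply Subtype.ext
  funext W
  have h1 := hy (W.comap p hp)
  obtain ⟨b, hb⟩ := QuotientAddGroup.mk_surjective (y.1 (W.comap p hp))
  change QuotientAddGroup.map _ _ p _ (y.1 (W.comap p hp)) = z.1 W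
  rw [← hb] at h1 ⊢
  simp only [Set.mem_ofPred_eq, QuotientAddGroup.map_mk] at h1 ⊢
  have hle : (imageFI p hpo hps (W.comap p hp)).toAddSubgroup ≤ W.toAddSubgroup :=
    AddSubgroup.map_comap_le _ _
  have hz := z.2 _ _ hle
  rw [← hz, ← h1]
  rfl

theorem directed_inter_nonempty {ι : Type*} [Nonempty ι] {α : Type*} [Finite α] (Q : ι → Set α)
    (hne : ∀ j, (Q j).Nonempty) (hdir : ∀ j j', ∃ j'', Q j'' ⊆ Q j ∩ Q j') :
    ∃ x, ∀ j, x ∈ Q j := by
  classical
  let f : ι → ℕ := fun j => (Q j).ncard
  obtain ⟨j₀, hj₀⟩ : ∃ j₀, ∀ j, f j₀ ≤ f j :=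
    ⟨Function.argmin f, fun j => Function.argmin_le f j⟩
  obtain ⟨x, hx⟩ := hne j₀
  refine ⟨x, fun j => ?_⟩
  obtain ⟨j'', hj''⟩ := hdir j₀ j
  have hsub : Q j'' ⊆ Q j₀ := fun t ht => (hj'' ht).1
  have heq : Q j'' = Q j₀ := Set.eq_of_subset_of_ncard_le hsub (hj₀ j'') (Set.toFinite _)
  exact (hj'' (heq ▸ hx)).2

omit [TopologicalSpace A] in
theorem stepA (i : A →+ B) (p : B →+ C) (hp : Continuous p) (hpo : IsOpenMap p)
    (hps : Function.Surjective p) (hex : p.ker = i.range) (y : FICompl B)
    (hy : FICompl.map p hp y = 0) (V : OpenFI B) :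
    ∃ a : A, y.1 V = QuotientAddGroup.mk (i a) := by
  obtain ⟨b, hb⟩ := QuotientAddGroup.mk_surjective (y.1 V)
  obtain ⟨W, hW⟩ : ∃ W, W = imageFI p hpo hps V := ⟨_, rfl⟩
  have hVV' : V.toAddSubgroup ≤ (W.comap p hp).toAddSubgroup := by
    rw [hW]; exact AddSubgroup.le_comap_map p _
  have h1 : y.1 (W.comap p hp) = QuotientAddGroup.mk b := by
    rw [← y.2 V (W.comap p hp) hVV', ← hb]; rfl
  have h2 : (FICompl.map p hp y).1 W = 0 := by rw [hy]; rfl
  change QuotientAddGroup.map _ _ p _ (y.1 (W.comap p hp)) = 0 at h2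
  rw [h1] at h2
  change (QuotientAddGroup.mk (p b) : C ⧸ W.toAddSubgroup) = 0 at h2
  rw [QuotientAddGroup.eq_zero_iff, hW] at h2
  obtain ⟨v, hv, hpv⟩ := h2
  have : b - v ∈ p.ker := by rw [AddMonoidHom.mem_ker, map_sub, hpv, sub_self]
  rw [hex] at this
  obtain ⟨a, ha⟩ := this
  refine ⟨a, ?_⟩
  rw [← hb, ha, QuotientAddGroup.eq]
  have : -b + (b - v) = -v := by abel
  rw [this]
  exact neg_mem hv

theorem exact_sub (i : A →+ B) (hi : Continuous i) (y : FICompl B)
    (hA : ∀ V : OpenFI B, ∃ a : A, y.1 V = QuotientAddGroup.mk (i a)) :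
    ∃ x : FICompl A, FICompl.map i hi x = y := by
  obtain ⟨x, hx⟩ := GL (A := A)
    (fun U => {x | ∀ (V : OpenFI B) (h : U.toAddSubgroup ≤ V.toAddSubgroup.comap i),
      QuotientAddGroup.map U.toAddSubgroup V.toAddSubgroup i h x = y.1 V})
    (by
      intro U
      have hne : Nonempty {V : OpenFI B // U.toAddSubgroup ≤ V.toAddSubgroup.comap i} :=
        ⟨⟨⟨⊤, isOpen_univ, inferInstance⟩, by simp⟩⟩
      obtain ⟨x, hx⟩ := directed_inter_nonempty
        (ι := {V : OpenFI B // U.toAddSubgroup ≤ V.toAddSubgroup.comap i})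
        (fun V => {x : A ⧸ U.toAddSubgroup |
          QuotientAddGroup.map U.toAddSubgroup V.1.toAddSubgroup i V.2 x = y.1 V.1})
        (by
          intro V
          obtain ⟨a, ha⟩ := hA V.1
          exact ⟨QuotientAddGroup.mk a, by simp [ha]⟩)
        (by
          intro V V'
          refine ⟨⟨inter V.1 V'.1, ?_⟩, ?_⟩
          · change _ ≤ (V.1.toAddSubgroup ⊓ V'.1.toAddSubgroup).comap i
            rw [AddSubgroup.comap_inf]
            exact le_inf V.2 V'.2
          · intro x hx
            obtain ⟨a, rfl⟩ := QuotientAddGroup.mk_surjective x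
            simp only [Set.mem_ofPred_eq, QuotientAddGroup.map_mk] at hx
            constructor
            · simp only [Set.mem_ofPred_eq, QuotientAddGroup.map_mk]
              rw [← y.2 (inter V.1 V'.1) V.1 inf_le_left, ← hx]
              rfl
            · simp only [Set.mem_ofPred_eq, QuotientAddGroup.map_mk]
              rw [← y.2 (inter V.1 V'.1) V'.1 inf_le_right, ← hx]
              rfl)
      exact ⟨x, fun V h => hx ⟨V, h⟩⟩)
    (by
      intro U U' h x hx V hV
      obtain ⟨a, rfl⟩ := QuotientAddGroup.mk_surjective x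
      exact hx V (h.trans hV))
  refine ⟨x, ?_⟩
  apply Subtype.ext
  funext V
  exact hx (V.comap i hi) V le_rfl

end helpers

open W4c61motalbduality in
theorem aux
    {A : Type u} {B : Type v} {C : Type w}
    [AddCommGroup A] [TopologicalSpace A] [IsTopologicalAddGroup A]
    [AddCommGroup B] [TopologicalSpace B] [IsTopologicalAddGroup B]
    [AddCommGroup C] [TopologicalSpace C] [IsTopologicalAddGroup C]
    (i : A →+ B) (hi : Continuous i) (p : B →+ C) (hp : Continuous p)
    (hpo : IsOpenMap p) (hps : Function.Surjective p) (hex : p.ker = i.range) :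
    Function.Surjective (FICompl.map p hp) ∧ (FICompl.map p hp).ker = (FICompl.map i hi).range := by
  refine ⟨surj p hp hpo hps, le_antisymm ?_ ?_⟩
  · intro y hy
    rw [AddMonoidHom.mem_ker] at hy
    exact exact_sub i hi y (stepA i p hp hpo hps hex y hy)
  · rintro _ ⟨x, rfl⟩
    rw [AddMonoidHom.mem_ker]
    apply Subtype.ext
    funext W
    change QuotientAddGroup.map _ _ p _ (QuotientAddGroup.map _ _ i _ (x.1 _)) = 0
    obtain ⟨a, ha⟩ := QuotientAddGroup.mk_surjective (x.1 ((W.comap p hp).comap i hi))
    rw [← ha]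
    change (QuotientAddGroup.mk (p (i a)) : C ⧸ W.toAddSubgroup) = 0
    have : p (i a) = 0 := by
      have : i a ∈ p.ker := by rw [hex]; exact ⟨a, rfl⟩
      exact this
    rw [this]
    rfl

open W4c61motalbduality in
/-- Let i : A → B and p : B → C be continuous homomorphisms of topological abelian groups with p
surjective and open and with the kernel of p equal to the image of i. Then the induced sequence of
completions with respect to open subgroups of finite index, A^∧ → B^∧ → C^∧ → 0, is exact: the map
B^∧ → C^∧ is surjective and its kernel is the image of A^∧. The completion is the group of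
compatible families of residues modulo all open subgroups of finite index. (The published statement
takes i injective, as the first map of an exact sequence 0 → A → B → C → 0 of topological abelian
groups; here it is only assumed that the image of i is the kernel of p, which is all the proof
uses.) -/
theorem result
    {A : Type u} {B : Type v} {C : Type w}
    [AddCommGroup A] [TopologicalSpace A] [IsTopologicalAddGroup A]
    [AddCommGroup B] [TopologicalSpace B] [IsTopologicalAddGroup B]
    [AddCommGroup C] [TopologicalSpace C] [IsTopologicalAddGroup C]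
    (i : A →+ B) (hi : Continuous i) (p : B →+ C) (hp : Continuous p)
    (hpo : IsOpenMap p) (hps : Function.Surjective p) (hex : p.ker = i.range) :
    Function.Surjective (FICompl.map p hp) ∧ (FICompl.map p hp).ker = (FICompl.map i hi).range := by
  exact aux i hi p hp hpo hps hex

end Groth.Agent.S19172
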