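import Groth.Statements.S19176
import Mathlib.Tactic
import Mathlib.RingTheory.MvPolynomial.Ideal

set_option autoImplicit false
universe u
open PlaneCurve

namespace Groth.Agent.S19176

open MvPolynomial

section
variable (k : Type u) [Field k]

/-- finrank of a quotient by a monomial ideal with finite complement -/
lemma finrank_monomial_quot (S : Set (Fin 2 →₀ ℕ)) (B : Finset (Fin 2 →₀ ℕ))
    (hB : ∀ m, m ∈ B ↔ ∀ s ∈ S, ¬ s ≤ m) :
    Module.finrank k (MvPolynomial (Fin 2) k ⧸
      Ideal.span ((fun s => monomial s (1 : k)) '' S)) = B.card := by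
  classical
  set J : Ideal (MvPolynomial (Fin 2) k) := Ideal.span ((fun s => monomial s (1 : k)) '' S) with hJ
  set Ψ : MvPolynomial (Fin 2) k →ₗ[k] (B → k) := LinearMap.pi (fun b => lcoeff k b.1) with hΨ
  have hker : LinearMap.ker Ψ = J.restrictScalars k := by
    ext P
    rw [LinearMap.mem_ker, Submodule.restrictScalars_mem, hJ, mem_ideal_span_monomial_image]
    constructor
    · intro h m hm
      by_contra hcon
      push_neg at hcon
      have hmB : m ∈ B := (hB m).mpr hcon
      have : Ψ P ⟨m, hmB⟩ = 0 := by rw [h]; rfl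
      rw [hΨ, LinearMap.pi_apply, lcoeff_apply] at this
      exact (mem_support_iff.mp hm) this
    · intro h
      funext b
      rw [hΨ, LinearMap.pi_apply, lcoeff_apply, Pi.zero_apply]
      by_contra hne
      obtain ⟨s, hs, hle⟩ := h b.1 (mem_support_iff.mpr hne)
      exact (hB b.1).mp b.2 s hs hle
  have hsurj : Function.Surjective Ψ := by
    intro c
    refine ⟨∑ b : B, monomial b.1 (c b), ?_⟩
    funext b'
    rw [hΨ, LinearMap.pi_apply, lcoeff_apply, coeff_sum]
    simp only [coeff_monomial]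
    rw [Finset.sum_eq_single b']
    · simp
    · intro b _ hne
      rw [if_neg]
      intro h
      exact hne (Subtype.ext h)
    · intro h; exact absurd (Finset.mem_univ _) h
  have e : (MvPolynomial (Fin 2) k ⧸ J) ≃ₗ[k] (B → k) :=
    ((Submodule.Quotient.restrictScalarsEquiv k J).symm.trans
      (Submodule.quotEquivOfEq _ _ hker.symm)).trans (Ψ.quotKerEquivOfSurjective hsurj)
  rw [e.finrank_eq, Module.finrank_fintype_fun_eq_card, Fintype.card_coe]

lemma mem_pair_fin2 (m a : Fin 2 →₀ ℕ) : m = a ↔ m 0 = a 0 ∧ m 1 = a 1 := by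
  constructor
  · rintro rfl; exact ⟨rfl, rfl⟩
  · rintro ⟨h0, h1⟩
    ext i
    fin_cases i
    · exact h0
    · exact h1

variable (p : ℕ) [CharP k p]

lemma two_ne (h : p ≠ 2) : (2 : k) ≠ 0 := by
  intro h0
  have hd : p ∣ 2 := (CharP.cast_eq_zero_iff k p 2).mp (by exact_mod_cast h0)
  have h1 := CharP.char_ne_one k p
  rcases (Nat.dvd_prime Nat.prime_two).mp hd with h2 | h2
  · exact h1 h2
  · exact h h2

lemma three_ne (h : p ≠ 3) : (3 : k) ≠ 0 := by
  intro h0
  have hd : p ∣ 3 := (CharP.cast_eq_zero_iff k p 3).mp (by exact_mod_cast h0)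
  have h1 := CharP.char_ne_one k p
  rcases (Nat.dvd_prime Nat.prime_three).mp hd with h2 | h2
  · exact h1 h2
  · exact h h2

lemma two_eq (h : p = 2) : (2 : k) = 0 := by
  subst h
  exact_mod_cast CharP.cast_eq_zero k 2

lemma three_eq (h : p = 3) : (3 : k) = 0 := by
  subst h
  exact_mod_cast CharP.cast_eq_zero k 3

/-- the Jacobian ideal in normal form -/
lemma ideal_eq :
    Ideal.span ({X 1 ^ 2 - X 0 ^ 3, pderiv 0 (X 1 ^ 2 - X 0 ^ 3), pderiv 1 (X 1 ^ 2 - X 0 ^ 3)} :
        Set (MvPolynomial (Fin 2) k))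
      = Ideal.span ({X 1 ^ 2 - X 0 ^ 3, C (3 : k) * X 0 ^ 2, C (2 : k) * X 1} :
        Set (MvPolynomial (Fin 2) k)) := by
  have h0 : pderiv (0 : Fin 2) (X 1 ^ 2 - X 0 ^ 3 : MvPolynomial (Fin 2) k) = -(C (3 : k) * X 0 ^ 2) := by
    have : (C (3 : k) : MvPolynomial (Fin 2) k) = 3 := map_ofNat C 3
    simp [this]
  have h1 : pderiv (1 : Fin 2) (X 1 ^ 2 - X 0 ^ 3 : MvPolynomial (Fin 2) k) = C (2 : k) * X 1 := by
    have : (C (2 : k) : MvPolynomial (Fin 2) k) = 2 := map_ofNat C 2
    simp [this]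
  rw [h0, h1]
  apply le_antisymm
  · rw [Ideal.span_le]
    rintro _ (rfl | rfl | rfl)
    · exact Ideal.subset_span (by simp)
    · exact (Ideal.neg_mem_iff _).mpr (Ideal.subset_span (by simp))
    · exact Ideal.subset_span (by simp)
  · rw [Ideal.span_le]
    rintro _ (rfl | rfl | rfl)
    · exact Ideal.subset_span (by simp)
    · exact (Ideal.neg_mem_iff _).mp (Ideal.subset_span (by simp))
    · exact Ideal.subset_span (by simp)


lemma span_monomials (a b : ℕ) :
    Ideal.span ({X 0 ^ a, X 1 ^ b} : Set (MvPolynomial (Fin 2) k)) =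
      Ideal.span ((fun s => monomial s (1 : k)) '' {Finsupp.single 0 a, Finsupp.single 1 b}) := by
  rw [Set.image_pair, X_pow_eq_monomial, X_pow_eq_monomial]

omit [CharP k p] in
lemma unit_cancel (I : Ideal (MvPolynomial (Fin 2) k)) (c : k) (hc : c ≠ 0)
    (f : MvPolynomial (Fin 2) k) (h : C c * f ∈ I) : f ∈ I := by
  have e : f = C c⁻¹ * (C c * f) := by
    rw [← mul_assoc, ← C_mul, inv_mul_cancel₀ hc, C_1, one_mul]
  rw [e]
  exact Ideal.mul_mem_left _ _ h

omit [CharP k p] in
lemma case_gen (h2 : (2 : k) ≠ 0) (h3 : (3 : k) ≠ 0) :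
    Ideal.span ({X 1 ^ 2 - X 0 ^ 3, C (3 : k) * X 0 ^ 2, C (2 : k) * X 1} :
        Set (MvPolynomial (Fin 2) k)) = Ideal.span ({X 0 ^ 2, X 1 ^ 1} : Set (MvPolynomial (Fin 2) k)) := by
  apply le_antisymm
  · rw [Ideal.span_le]
    rintro _ (rfl | rfl | rfl)
    · rw [SetLike.mem_coe, Ideal.mem_span_pair]
      exact ⟨-X 0, X 1, by ring⟩
    · exact Ideal.mul_mem_left _ _ (Ideal.subset_span (by simp))
    · rw [SetLike.mem_coe, Ideal.mem_span_pair]
      exact ⟨0, C 2, by ring⟩
  · rw [Ideal.span_le]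
    rintro _ (rfl | rfl)
    · exact unit_cancel k _ 3 h3 _ (Ideal.subset_span (by simp))
    · rw [pow_one]
      exact unit_cancel k _ 2 h2 _ (Ideal.subset_span (by simp))

omit [CharP k p] in
lemma case_three (h2 : (2 : k) ≠ 0) (h3 : (3 : k) = 0) :
    Ideal.span ({X 1 ^ 2 - X 0 ^ 3, C (3 : k) * X 0 ^ 2, C (2 : k) * X 1} :
        Set (MvPolynomial (Fin 2) k)) = Ideal.span ({X 0 ^ 3, X 1 ^ 1} : Set (MvPolynomial (Fin 2) k)) := by
  rw [h3, C_0, zero_mul]
  apply le_antisymm
  · rw [Ideal.span_le]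
    rintro _ (rfl | rfl | rfl)
    · rw [SetLike.mem_coe, Ideal.mem_span_pair]
      exact ⟨-1, X 1, by ring⟩
    · exact Ideal.zero_mem _
    · rw [SetLike.mem_coe, Ideal.mem_span_pair]
      exact ⟨0, C 2, by ring⟩
  · rw [Ideal.span_le]
    have hX1 : (X 1 : MvPolynomial (Fin 2) k) ∈ Ideal.span ({X 1 ^ 2 - X 0 ^ 3, 0, C (2 : k) * X 1} :
        Set (MvPolynomial (Fin 2) k)) :=
      unit_cancel k _ 2 h2 _ (Ideal.subset_span (by simp))
    rintro _ (rfl | rfl)
    · have h := Ideal.sub_mem _ (Ideal.mul_mem_left _ (X 1) hX1)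
        (Ideal.subset_span (show (X 1 ^ 2 - X 0 ^ 3 : MvPolynomial (Fin 2) k) ∈
          ({X 1 ^ 2 - X 0 ^ 3, 0, C (2 : k) * X 1} : Set (MvPolynomial (Fin 2) k)) by simp))
      have e : (X 1 * X 1 - (X 1 ^ 2 - X 0 ^ 3) : MvPolynomial (Fin 2) k) = X 0 ^ 3 := by ring
      rw [e] at h
      exact h
    · rw [pow_one]; exact hX1

omit [CharP k p] in
lemma case_two (h2 : (2 : k) = 0) (h3 : (3 : k) ≠ 0) :
    Ideal.span ({X 1 ^ 2 - X 0 ^ 3, C (3 : k) * X 0 ^ 2, C (2 : k) * X 1} :
        Set (MvPolynomial (Fin 2) k)) = Ideal.span ({X 0 ^ 2, X 1 ^ 2} : Set (MvPolynomial (Fin 2) k)) := by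
  rw [h2, C_0, zero_mul]
  apply le_antisymm
  · rw [Ideal.span_le]
    rintro _ (rfl | rfl | rfl)
    · rw [SetLike.mem_coe, Ideal.mem_span_pair]
      exact ⟨-X 0, 1, by ring⟩
    · exact Ideal.mul_mem_left _ _ (Ideal.subset_span (by simp))
    · exact Ideal.zero_mem _
  · rw [Ideal.span_le]
    have hX0 : (X 0 ^ 2 : MvPolynomial (Fin 2) k) ∈ Ideal.span ({X 1 ^ 2 - X 0 ^ 3, C (3 : k) * X 0 ^ 2, 0} :
        Set (MvPolynomial (Fin 2) k)) :=
      unit_cancel k _ 3 h3 _ (Ideal.subset_span (by simp))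
    rintro _ (rfl | rfl)
    · exact hX0
    · have h := Ideal.add_mem _ 
        (Ideal.subset_span (show (X 1 ^ 2 - X 0 ^ 3 : MvPolynomial (Fin 2) k) ∈
          ({X 1 ^ 2 - X 0 ^ 3, C (3 : k) * X 0 ^ 2, 0} : Set (MvPolynomial (Fin 2) k)) by simp))
        (Ideal.mul_mem_left _ (X 0) hX0)
      have e : ((X 1 ^ 2 - X 0 ^ 3) + X 0 * X 0 ^ 2 : MvPolynomial (Fin 2) k) = X 1 ^ 2 := by ring
      rw [e] at h
      exact h

end

lemma hB_aux (a b : ℕ) (B : Finset (Fin 2 →₀ ℕ))
    (h : ∀ m : Fin 2 →₀ ℕ, m ∈ B ↔ (m 0 < a ∧ m 1 < b)) :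
    ∀ m, m ∈ B ↔ ∀ s ∈ ({Finsupp.single 0 a, Finsupp.single 1 b} : Set (Fin 2 →₀ ℕ)), ¬ s ≤ m := by
  intro m
  rw [h m]
  constructor
  · rintro ⟨h0, h1⟩ s (rfl | rfl)
    · rw [Finsupp.single_le_iff]; omega
    · rw [Finsupp.single_le_iff]; omega
  · intro hs
    have h0 := hs _ (Or.inl rfl)
    have h1 := hs _ (Or.inr rfl)
    rw [Finsupp.single_le_iff] at h0 h1
    omega


open MvPolynomial in
/-- Let k be a field of characteristic p (p = 0 allowed) and F = y² − x³ in k[x, y] (x the variable of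
index 0, y of index 1). The singular subscheme of the plane curve F = 0, cut out by F and its two
partial derivatives, is finite over k of degree 4 when p = 2, of degree 3 when p = 3, and of degree
2 otherwise: the k-dimension of k[x, y]/(F, ∂F/∂x, ∂F/∂y) is that number. (The source phrases this
through the complete local ring of a cusp; the row is the computation for the standard cusp y² =
x³.) -/
theorem result (k : Type u) [Field k] (p : ℕ) [CharP k p] :
    Module.finrank k (MvPolynomial (Fin 2) k ⧸ Ideal.span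
      ({X 1 ^ 2 - X 0 ^ 3, pderiv 0 (X 1 ^ 2 - X 0 ^ 3), pderiv 1 (X 1 ^ 2 - X 0 ^ 3)} :
        Set (MvPolynomial (Fin 2) k))) = (if p = 2 then 4 else if p = 3 then 3 else 2) := by
  classical
  rw [ideal_eq]
  split_ifs with hp2 hp3
  · -- p = 2
    have h2 : (2 : k) = 0 := two_eq k p hp2
    have h3 : (3 : k) ≠ 0 := three_ne k p (by omega)
    rw [case_two k h2 h3, span_monomials]
    rw [finrank_monomial_quot k _ ({0, Finsupp.single 0 1, Finsupp.single 1 1,
      Finsupp.single 0 1 + Finsupp.single 1 1} : Finset (Fin 2 →₀ ℕ))]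
    · rw [Finset.card_insert_of_notMem, Finset.card_insert_of_notMem, Finset.card_insert_of_notMem,
        Finset.card_singleton]
      · simp only [Finset.mem_singleton, mem_pair_fin2]; simp
      · simp only [Finset.mem_insert, Finset.mem_singleton, mem_pair_fin2]; simp
      · simp only [Finset.mem_insert, Finset.mem_singleton, mem_pair_fin2]; simp
    · apply hB_aux
      intro m
      simp only [Finset.mem_insert, Finset.mem_singleton, mem_pair_fin2]
      simp
      omega
  · -- p = 3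
    have h3 : (3 : k) = 0 := three_eq k p hp3
    have h2 : (2 : k) ≠ 0 := two_ne k p hp2
    rw [case_three k h2 h3, span_monomials]
    rw [finrank_monomial_quot k _ ({0, Finsupp.single 0 1, Finsupp.single 0 2} :
      Finset (Fin 2 →₀ ℕ))]
    · rw [Finset.card_insert_of_notMem, Finset.card_insert_of_notMem, Finset.card_singleton]
      · simp only [Finset.mem_singleton, mem_pair_fin2]; simp
      · simp only [Finset.mem_insert, Finset.mem_singleton, mem_pair_fin2]; simp
    · apply hB_aux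
      intro m
      simp only [Finset.mem_insert, Finset.mem_singleton, mem_pair_fin2]
      simp
      omega
  · have h3 : (3 : k) ≠ 0 := three_ne k p hp3
    have h2 : (2 : k) ≠ 0 := two_ne k p hp2
    rw [case_gen k h2 h3, span_monomials]
    rw [finrank_monomial_quot k _ ({0, Finsupp.single 0 1} : Finset (Fin 2 →₀ ℕ))]
    · rw [Finset.card_insert_of_notMem, Finset.card_singleton]
      · simp only [Finset.mem_singleton, mem_pair_fin2]; simp
    · apply hB_aux
      intro m
      simp only [Finset.mem_insert, Finset.mem_singleton, mem_pair_fin2]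
      simp
      omega

end Groth.Agent.S19176
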