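import Groth.Statements.S19178
import Mathlib

set_option autoImplicit false
universe u
open Curves

namespace Groth.Agent.S19178

section Aux

open MvPolynomial

variable {k : Type u} [Field k]

noncomputable def c2 (W : WeierstrassCurve k) : MvPolynomial (Fin 2) k := C W.a₂ * X 1
noncomputable def c1 (W : WeierstrassCurve k) : MvPolynomial (Fin 2) k :=
  (C W.a₄ * X 1 - C W.a₁ * X 0) * X 1
noncomputable def r0 (W : WeierstrassCurve k) : MvPolynomial (Fin 2) k :=
  C W.a₆ * X 1 ^ 2 - X 0 ^ 2 - C W.a₃ * X 0 * X 1
noncomputable def c0 (W : WeierstrassCurve k) : MvPolynomial (Fin 2) k := r0 W * X 1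

noncomputable def q (W : WeierstrassCurve k) : Polynomial (MvPolynomial (Fin 2) k) :=
  Polynomial.C 1 * Polynomial.X ^ 3 + Polynomial.C (c2 W) * Polynomial.X ^ 2 +
    Polynomial.C (c1 W) * Polynomial.X + Polynomial.C (c0 W)

lemma finSucc_poly (W : WeierstrassCurve k) :
    finSuccEquiv k 2 (WeierstrassCurve.Projective.polynomial W) = - q W := by
  have e1 : (1 : Fin 3) = Fin.succ 0 := rfl
  have e2 : (2 : Fin 3) = Fin.succ 1 := rfl
  rw [WeierstrassCurve.Projective.polynomial, e1, e2]
  simp only [map_sub, map_add, map_mul, map_pow, finSuccEquiv_X_zero, finSuccEquiv_X_succ]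
  have hC : ∀ a : k, finSuccEquiv k 2 (C a) = Polynomial.C (C a) := by
    intro a
    rw [finSuccEquiv_apply, eval₂Hom_C]; rfl
  simp only [hC, q, c0, c1, c2, r0, map_sub, map_add, map_mul, map_pow, map_one]
  ring

lemma irreducible_q (W : WeierstrassCurve k) : Irreducible (q W) := by
  have hX : Prime (X 1 : MvPolynomial (Fin 2) k) := X_prime
  have hP : (Ideal.span {(X 1 : MvPolynomial (Fin 2) k)}).IsPrime :=
    (Ideal.span_singleton_prime (X_ne_zero 1)).mpr hX
  have hdeg : (q W).degree = 3 := Polynomial.degree_cubic one_ne_zero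
  have hlead : (q W).leadingCoeff = 1 := Polynomial.leadingCoeff_cubic one_ne_zero
  apply Polynomial.irreducible_of_eisenstein_criterion hP
  · rw [hlead]
    exact (Ideal.ne_top_iff_one _).mp hP.ne_top
  · intro n hn
    rw [hdeg] at hn
    have hn' : n < 3 := by exact_mod_cast hn
    interval_cases n
    · have : (q W).coeff 0 = c0 W := by simp [q]
      rw [this]
      exact Ideal.mem_span_singleton.mpr ⟨r0 W, by rw [c0]; ring⟩
    · have : (q W).coeff 1 = c1 W := by simp [q]
      rw [this]
      exact Ideal.mem_span_singleton.mpr ⟨C W.a₄ * X 1 - C W.a₁ * X 0, by rw [c1]; ring⟩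
    · have : (q W).coeff 2 = c2 W := by simp [q]
      rw [this]
      exact Ideal.mem_span_singleton.mpr ⟨C W.a₂, by rw [c2]; ring⟩
  · rw [hdeg]; norm_num
  · have : (q W).coeff 0 = c0 W := by simp [q]
    rw [this, Ideal.span_singleton_pow, Ideal.mem_span_singleton]
    rintro ⟨t, ht⟩
    have h1 : r0 W = X 1 * t := by
      apply mul_right_cancel₀ (X_ne_zero (1 : Fin 2) : (X 1 : MvPolynomial (Fin 2) k) ≠ 0)
      rw [c0] at ht
      rw [ht]; ring
    have := congrArg (eval (![1, 0] : Fin 2 → k)) h1
    simp [r0] at this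
  · apply Polynomial.Monic.isPrimitive
    exact hlead

theorem main (k : Type u) [Field k] (W : WeierstrassCurve k) :
    Irreducible (WeierstrassCurve.Projective.polynomial W) := by
  have h : Irreducible (- q W) := by
    exact ((Associated.refl (q W)).neg_right).irreducible (irreducible_q W)
  rw [← finSucc_poly] at h
  exact (MulEquiv.irreducible_iff (finSuccEquiv k 2)).mp h

end Aux

/-- For every field k and every choice of coefficients a₁, a₂, a₃, a₄, a₆ in k, the homogeneous
Weierstrass cubic Y²Z + a₁XYZ + a₃YZ² − (X³ + a₂X²Z + a₄XZ² + a₆Z³) is an irreducible polynomial in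
k[X, Y, Z]. Applied to all fields, this says every fibre of the Weierstrass family over the affine
space of coefficients is geometrically integral. -/
theorem result (k : Type u) [Field k]
    (W : WeierstrassCurve k) :
    Irreducible (WeierstrassCurve.Projective.polynomial W) := by
  exact main k W

end Groth.Agent.S19178
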