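import Groth.Statements.S1918
import Groth.Agent.Lib.Helper18.Cyc.MVTools

set_option autoImplicit false
universe u
open CategoryTheory AlgebraicGeometry
open CategoryTheory.Limits
open Cyc

namespace Groth.Agent.S1918

/-- Mayer–Vietoris for Chow groups, exactness in the middle: let i₁ : X₁ → X, i₂ : X₂ → X be closed
immersions covering X set-theoretically and X₁₂ = X₁ ×_X X₂ their scheme-theoretic intersection. If
k-cycles α₁ on X₁ and α₂ on X₂ have rationally equivalent pushforwards on X, then there is a k-cycle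
β on X₁₂ with α₁ ∼_rat (pr₁)_*β on X₁ and α₂ ∼_rat (pr₂)_*β on X₂. (The published statement also
asserts that CH_k(X₁) ⊕ CH_k(X₂) → CH_k(X) is surjective; that is not asserted here.) Here a pair
(X, δ) with Cyc.IsSetup plays the role of a scheme locally of finite type over a fixed base with a
dimension function (X locally Noetherian with universally catenary local rings, δ a dimension
function). -/
theorem result (X : Scheme.{u}) (δ : X → ℤ) (hX : Cyc.IsSetup X δ) (X₁ X₂ : Scheme.{u}) (i₁ : X₁ ⟶ X) (i₂ : X₂ ⟶ X) [IsClosedImmersion i₁] [IsClosedImmersion i₂] (hcov : Set.range ⇑i₁ ∪ Set.range ⇑i₂ = Set.univ) (k : ℤ) (α₁ : AlgebraicCycle X₁ ℤ) (α₂ : AlgebraicCycle X₂ ℤ) (h₁ : α₁ ∈ Cyc.Zk X₁ (fun x => δ (i₁ x)) k) (h₂ : α₂ ∈ Cyc.Zk X₂ (fun x => δ (i₂ x)) k) (h : Cyc.RatEquiv δ k (AlgebraicCycle.map i₁ (fun x => δ (i₁ x)) δ α₁) (AlgebraicCycle.map i₂ (fun x => δ (i₂ x)) δ α₂)) : ∃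 β : AlgebraicCycle (pullback i₁ i₂) ℤ, β ∈ Cyc.Zk (pullback i₁ i₂) (fun z => δ (i₁ (pullback.fst i₁ i₂ z))) k ∧ Cyc.RatEquiv (fun x => δ (i₁ x)) k α₁ (AlgebraicCycle.map (pullback.fst i₁ i₂) (fun z => δ (i₁ (pullback.fst i₁ i₂ z))) (fun x => δ (i₁ x)) β) ∧ Cyc.RatEquiv (fun x => δ (i₂ x)) k α₂ (AlgebraicCycle.map (pullback.snd i₁ i₂) (fun z => δ (i₁ (pullback.fst i₁ i₂ z))) (fun x => δ (i₂ x)) β) := by
  classical
  haveI : IsLocallyNoetherian X := hX.1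
  obtain ⟨ι, ξ, f, hξk, hf0, hlf, hsum⟩ := h
  -- closed immersion facts
  have hinj₁ : Function.Injective i₁ := i₁.isClosedEmbedding.injective
  have hinj₂ : Function.Injective i₂ := i₂.isClosedEmbedding.injective
  have hcl₁ : IsClosed (Set.range i₁) := i₁.isClosedEmbedding.isClosed_range
  have hcl₂ : IsClosed (Set.range i₂) := i₂.isClosedEmbedding.isClosed_range
  have hres₁ : ∀ z, Function.Surjective (i₁.residueFieldMap z).hom := fun z =>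
    (Groth.Agent.Lib.Helper18.CycDiv.residueFieldMap_bijective_of_surjective i₁ z
      (i₁.stalkMap_surjective z)).2
  have hres₂ : ∀ z, Function.Surjective (i₂.residueFieldMap z).hom := fun z =>
    (Groth.Agent.Lib.Helper18.CycDiv.residueFieldMap_bijective_of_surjective i₂ z
      (i₂.stalkMap_surjective z)).2
  haveI : IsLocallyNoetherian X₁ := LocallyOfFiniteType.isLocallyNoetherian i₁
  haveI : IsLocallyNoetherian X₂ := LocallyOfFiniteType.isLocallyNoetherian i₂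
  have hdim₁ : Cyc.IsDimFun X₁ (fun x => δ (i₁ x)) :=
    Groth.Agent.Lib.Helper18.CycDiv.isDimFun_comp_of_isClosedImmersion i₁ δ hX.2.2
  have hdim₂ : Cyc.IsDimFun X₂ (fun x => δ (i₂ x)) :=
    Groth.Agent.Lib.Helper18.CycDiv.isDimFun_comp_of_isClosedImmersion i₂ δ hX.2.2
  -- pushforward values
  have hA₁ : ∀ x₁, (AlgebraicCycle.map i₁ (fun x => δ (i₁ x)) δ α₁) (i₁ x₁) = α₁ x₁ :=
    Groth.Agent.Lib.Helper18.CycDiv.map_apply_of_injective i₁ hinj₁ hres₁ _ δ (fun _ => rfl) α₁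
  have hA₂ : ∀ x₂, (AlgebraicCycle.map i₂ (fun x => δ (i₂ x)) δ α₂) (i₂ x₂) = α₂ x₂ :=
    Groth.Agent.Lib.Helper18.CycDiv.map_apply_of_injective i₂ hinj₂ hres₂ _ δ (fun _ => rfl) α₂
  have hA₁0 : ∀ x, x ∉ Set.range i₁ →
      (AlgebraicCycle.map i₁ (fun x => δ (i₁ x)) δ α₁) x = 0 :=
    Groth.Agent.Lib.Helper18.CycDiv.map_apply_of_notMem_range i₁ _ δ α₁
  have hA₂0 : ∀ x, x ∉ Set.range i₂ →
      (AlgebraicCycle.map i₂ (fun x => δ (i₂ x)) δ α₂) x = 0 :=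
    Groth.Agent.Lib.Helper18.CycDiv.map_apply_of_notMem_range i₂ _ δ α₂
  -- the two index sets
  have hξ₂ : ∀ j : {j : ι // ξ j ∉ Set.range i₁}, ξ j.1 ∈ Set.range i₂ := fun j => by
    have hm : ξ j.1 ∈ Set.range i₁ ∪ Set.range i₂ := hcov ▸ Set.mem_univ _
    rcases hm with hm | hm
    · exact absurd hm j.2
    · exact hm
  choose η₁ hη₁ using fun j : {j : ι // ξ j ∈ Set.range i₁} => j.2
  choose η₂ hη₂ using hξ₂
  let g₁ : ∀ j : {j : ι // ξ j ∈ Set.range i₁}, X₁.residueField (η₁ j) := fun j =>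
    (i₁.residueFieldMap (η₁ j)).hom ((hη₁ j).symm ▸ f j.1)
  let g₂ : ∀ j : {j : ι // ξ j ∉ Set.range i₁}, X₂.residueField (η₂ j) := fun j =>
    (i₂.residueFieldMap (η₂ j)).hom ((hη₂ j).symm ▸ f j.1)
  have hg₁0 : ∀ j, g₁ j ≠ 0 := fun j =>
    (map_ne_zero_iff _ (i₁.residueFieldMap (η₁ j)).hom.injective).2
      (Groth.Agent.Lib.Helper18.CycDiv.cast_ne_zero _ _ (hf0 j.1))
  have hg₂0 : ∀ j, g₂ j ≠ 0 := fun j =>
    (map_ne_zero_iff _ (i₂.residueFieldMap (η₂ j)).hom.injective).2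
      (Groth.Agent.Lib.Helper18.CycDiv.cast_ne_zero _ _ (hf0 j.1))
  have hdiv₁ : ∀ (j : {j : ι // ξ j ∈ Set.range i₁}) (x₁ : X₁),
      Cyc.divFun (fun x => δ (i₁ x)) (η₁ j) (g₁ j) x₁ = Cyc.divFun δ (ξ j.1) (f j.1) (i₁ x₁) := by
    intro j x₁
    rw [← Groth.Agent.Lib.Helper18.CycDiv.divFun_preimmersion i₁ δ (η₁ j) _ x₁]
    exact congrFun (Groth.Agent.Lib.Helper18.CycDiv.divFun_cast δ (hη₁ j).symm (f j.1)) (i₁ x₁)
  have hdiv₂ : ∀ (j : {j : ι // ξ j ∉ Set.range i₁}) (x₂ : X₂),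
      Cyc.divFun (fun x => δ (i₂ x)) (η₂ j) (g₂ j) x₂ = Cyc.divFun δ (ξ j.1) (f j.1) (i₂ x₂) := by
    intro j x₂
    rw [← Groth.Agent.Lib.Helper18.CycDiv.divFun_preimmersion i₂ δ (η₂ j) _ x₂]
    exact congrFun (Groth.Agent.Lib.Helper18.CycDiv.divFun_cast δ (hη₂ j).symm (f j.1)) (i₂ x₂)
  have hδη₁ : ∀ j, δ (i₁ (η₁ j)) = k + 1 := fun j => by rw [hη₁ j]; exact hξk j.1
  have hδη₂ : ∀ j, δ (i₂ (η₂ j)) = k + 1 := fun j => by rw [hη₂ j]; exact hξk j.1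
  have hlf₁ : ∀ z : X₁, ∃ V : Set X₁, IsOpen V ∧ z ∈ V ∧
      {j | (closure {η₁ j} ∩ V).Nonempty}.Finite :=
    Groth.Agent.Lib.Helper18.CycDiv.locallyFinite_comap i₁ ξ η₁ Subtype.val
      Subtype.val_injective hη₁ hlf
  have hlf₂ : ∀ z : X₂, ∃ V : Set X₂, IsOpen V ∧ z ∈ V ∧
      {j | (closure {η₂ j} ∩ V).Nonempty}.Finite :=
    Groth.Agent.Lib.Helper18.CycDiv.locallyFinite_comap i₂ ξ η₂ Subtype.val
      Subtype.val_injective hη₂ hlf
  -- the divisor sums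
  let D₁ : X₁ → ℤ := fun x₁ => ∑ᶠ j, Cyc.divFun (fun x => δ (i₁ x)) (η₁ j) (g₁ j) x₁
  let D₂ : X₂ → ℤ := fun x₂ => ∑ᶠ j, Cyc.divFun (fun x => δ (i₂ x)) (η₂ j) (g₂ j) x₂
  have hD₁lf : LocallyFiniteSupport D₁ :=
    Groth.Agent.Lib.Helper18.CycDiv.locallyFiniteSupport_finsum_divFun' _ hdim₁ η₁ g₁ hg₁0 hlf₁
  let D₁c : AlgebraicCycle X₁ ℤ :=
    { toFun := D₁
      supportWithinDomain' := Set.subset_univ _
      supportLocallyFiniteWithinDomain' := fun z _ => hD₁lf z }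
  have hD₁c : ∀ x, D₁c x = D₁ x := fun _ => rfl
  -- sums on `X`
  let E₁ : X → ℤ := fun x => ∑ᶠ j : {j : ι // ξ j ∈ Set.range i₁}, Cyc.divFun δ (ξ j.1) (f j.1) x
  let E₂ : X → ℤ := fun x => ∑ᶠ j : {j : ι // ξ j ∉ Set.range i₁}, Cyc.divFun δ (ξ j.1) (f j.1) x
  have hE : ∀ x, (AlgebraicCycle.map i₁ (fun x => δ (i₁ x)) δ α₁) x -
      (AlgebraicCycle.map i₂ (fun x => δ (i₂ x)) δ α₂) x = E₁ x + E₂ x := by
    intro x
    have h1 := hsum x
    rw [Function.locallyFinsuppWithin.coe_sub, Pi.sub_apply] at h1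
    rw [h1]
    exact Groth.Agent.Lib.Helper18.CycDiv.finsum_eq_add_subtype (fun j => ξ j ∈ Set.range i₁)
      (fun j => Cyc.divFun δ (ξ j) (f j) x)
      (Groth.Agent.Lib.Helper18.CycDiv.finite_support_divFun_family δ ξ f hlf x)
  have hE₁ : ∀ x₁, E₁ (i₁ x₁) = D₁ x₁ := fun x₁ =>
    finsum_congr (fun j => (hdiv₁ j x₁).symm)
  have hE₂ : ∀ x₂, E₂ (i₂ x₂) = D₂ x₂ := fun x₂ =>
    finsum_congr (fun j => (hdiv₂ j x₂).symm)
  have hE₁0 : ∀ x, x ∉ Set.range i₁ → E₁ x = 0 := by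
    intro x hx
    have h0 : ∀ j : {j : ι // ξ j ∈ Set.range i₁}, Cyc.divFun δ (ξ j.1) (f j.1) x = 0 := by
      intro j
      by_contra hne
      exact hx ((Groth.Agent.Lib.Helper18.CycDiv.specializes_of_divFun_ne_zero δ _ _ x
        hne).mem_closed hcl₁ j.2)
    show ∑ᶠ j : {j : ι // ξ j ∈ Set.range i₁}, Cyc.divFun δ (ξ j.1) (f j.1) x = 0
    simp only [h0]
    exact finsum_zero
  have hE₂0 : ∀ x, x ∉ Set.range i₂ → E₂ x = 0 := by
    intro x hx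
    have h0 : ∀ j : {j : ι // ξ j ∉ Set.range i₁}, Cyc.divFun δ (ξ j.1) (f j.1) x = 0 := by
      intro j
      by_contra hne
      exact hx ((Groth.Agent.Lib.Helper18.CycDiv.specializes_of_divFun_ne_zero δ _ _ x
        hne).mem_closed hcl₂ ⟨η₂ j, hη₂ j⟩)
    show ∑ᶠ j : {j : ι // ξ j ∉ Set.range i₁}, Cyc.divFun δ (ξ j.1) (f j.1) x = 0
    simp only [h0]
    exact finsum_zero
  -- the three facts
  have fact1 : ∀ x₁, i₁ x₁ ∉ Set.range i₂ → α₁ x₁ - D₁ x₁ = 0 := by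
    intro x₁ hx
    have := hE (i₁ x₁)
    rw [hA₁, hA₂0 _ hx, hE₁, hE₂0 _ hx] at this
    linarith
  have fact1' : ∀ x₂, i₂ x₂ ∉ Set.range i₁ → α₂ x₂ + D₂ x₂ = 0 := by
    intro x₂ hx
    have := hE (i₂ x₂)
    rw [hA₂, hA₁0 _ hx, hE₂, hE₁0 _ hx] at this
    linarith
  have fact2 : ∀ x₁ x₂, i₁ x₁ = i₂ x₂ → α₁ x₁ - D₁ x₁ = α₂ x₂ + D₂ x₂ := by
    intro x₁ x₂ hx
    have := hE (i₁ x₁)
    rw [hA₁, hE₁] at this
    rw [hx, hA₂, hE₂] at this
    linarith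
  -- the cycle on the intersection
  have hinjp₁ : Function.Injective (pullback.fst i₁ i₂) :=
    (pullback.fst i₁ i₂).isClosedEmbedding.injective
  have hinjp₂ : Function.Injective (pullback.snd i₁ i₂) :=
    (pullback.snd i₁ i₂).isClosedEmbedding.injective
  have hresp₁ : ∀ z, Function.Surjective ((pullback.fst i₁ i₂).residueFieldMap z).hom := fun z =>
    (Groth.Agent.Lib.Helper18.CycDiv.residueFieldMap_bijective_of_surjective _ z
      ((pullback.fst i₁ i₂).stalkMap_surjective z)).2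
  have hresp₂ : ∀ z, Function.Surjective ((pullback.snd i₁ i₂).residueFieldMap z).hom := fun z =>
    (Groth.Agent.Lib.Helper18.CycDiv.residueFieldMap_bijective_of_surjective _ z
      ((pullback.snd i₁ i₂).stalkMap_surjective z)).2
  let β : AlgebraicCycle (pullback i₁ i₂) ℤ :=
    Groth.Agent.Lib.Helper18.CycDiv.comapCycle (pullback.fst i₁ i₂) hinjp₁ (α₁ - D₁c)
  have hβ : ∀ z, β z = α₁ (pullback.fst i₁ i₂ z) - D₁ (pullback.fst i₁ i₂ z) := fun z => by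
    show (α₁ - D₁c) (pullback.fst i₁ i₂ z) = _
    rw [Function.locallyFinsuppWithin.coe_sub, Pi.sub_apply, hD₁c]
  have hcond : ∀ z : ↥(pullback i₁ i₂), i₁ (pullback.fst i₁ i₂ z) = i₂ (pullback.snd i₁ i₂ z) :=
    fun z => by
      rw [← Scheme.Hom.comp_apply, ← Scheme.Hom.comp_apply, pullback.condition]
  have hp₁ : ∀ x₁, (AlgebraicCycle.map (pullback.fst i₁ i₂)
      (fun z => δ (i₁ (pullback.fst i₁ i₂ z))) (fun x => δ (i₁ x)) β) x₁ = α₁ x₁ - D₁ x₁ := by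
    intro x₁
    by_cases hx : x₁ ∈ Set.range (pullback.fst i₁ i₂)
    · obtain ⟨z, rfl⟩ := hx
      rw [Groth.Agent.Lib.Helper18.CycDiv.map_apply_of_injective (pullback.fst i₁ i₂) hinjp₁ hresp₁
        (fun z => δ (i₁ (pullback.fst i₁ i₂ z))) (fun x => δ (i₁ x)) (fun _ => rfl) β z, hβ]
    · rw [Groth.Agent.Lib.Helper18.CycDiv.map_apply_of_notMem_range _ _ _ β x₁ hx]
      refine (fact1 x₁ ?_).symm
      rintro ⟨x₂, hx₂⟩
      obtain ⟨z, hz, -⟩ := Scheme.Pullback.exists_preimage_pullback x₁ x₂ hx₂.symm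
      exact hx ⟨z, hz⟩
  have hp₂ : ∀ x₂, (AlgebraicCycle.map (pullback.snd i₁ i₂)
      (fun z => δ (i₁ (pullback.fst i₁ i₂ z))) (fun x => δ (i₂ x)) β) x₂ = α₂ x₂ + D₂ x₂ := by
    intro x₂
    by_cases hx : x₂ ∈ Set.range (pullback.snd i₁ i₂)
    · obtain ⟨z, rfl⟩ := hx
      rw [Groth.Agent.Lib.Helper18.CycDiv.map_apply_of_injective (pullback.snd i₁ i₂) hinjp₂ hresp₂
        (fun z => δ (i₁ (pullback.fst i₁ i₂ z))) (fun x => δ (i₂ x))
        (fun z => congrArg δ (hcond z)) β z, hβ]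
      exact fact2 _ _ (hcond z)
    · rw [Groth.Agent.Lib.Helper18.CycDiv.map_apply_of_notMem_range _ _ _ β x₂ hx]
      refine (fact1' x₂ ?_).symm
      rintro ⟨x₁, hx₁⟩
      obtain ⟨z, -, hz⟩ := Scheme.Pullback.exists_preimage_pullback x₁ x₂ hx₁
      exact hx ⟨z, hz⟩
  refine ⟨β, ?_, ?_, ?_⟩
  · intro z hz
    rw [hβ]
    have h1' : α₁ (pullback.fst i₁ i₂ z) = 0 := h₁ _ hz
    have h2' : D₁ (pullback.fst i₁ i₂ z) = 0 := by
      have h0 : ∀ j, Cyc.divFun (fun x => δ (i₁ x)) (η₁ j) (g₁ j) (pullback.fst i₁ i₂ z) = 0 :=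
        fun j => Groth.Agent.Lib.Helper18.CycDiv.divFun_eq_zero_of_ne _ _ _ _ (by
          show δ (i₁ (pullback.fst i₁ i₂ z)) + 1 ≠ δ (i₁ (η₁ j))
          rw [hδη₁ j]
          intro h
          apply hz
          show δ (i₁ (pullback.fst i₁ i₂ z)) = k
          omega)
      show ∑ᶠ j, Cyc.divFun (fun x => δ (i₁ x)) (η₁ j) (g₁ j) (pullback.fst i₁ i₂ z) = 0
      simp only [h0]
      exact finsum_zero
    rw [h1', h2']
    simp
  · refine ⟨{j : ι // ξ j ∈ Set.range i₁}, η₁, g₁, hδη₁, hg₁0, hlf₁, ?_⟩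
    intro x₁
    rw [Function.locallyFinsuppWithin.coe_sub, Pi.sub_apply, hp₁]
    show α₁ x₁ - (α₁ x₁ - D₁ x₁) = D₁ x₁
    ring
  · refine ⟨{j : ι // ξ j ∉ Set.range i₁}, η₂, fun j => (g₂ j)⁻¹, hδη₂,
      fun j => inv_ne_zero (hg₂0 j), hlf₂, ?_⟩
    intro x₂
    rw [Function.locallyFinsuppWithin.coe_sub, Pi.sub_apply, hp₂]
    have : ∀ j, Cyc.divFun (fun x => δ (i₂ x)) (η₂ j) (g₂ j)⁻¹ x₂ =
        - Cyc.divFun (fun x => δ (i₂ x)) (η₂ j) (g₂ j) x₂ := fun j =>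
      Groth.Agent.Lib.Helper18.CycDiv.divFun_inv _ _ _ _
    simp only [this]
    rw [finsum_neg_distrib]
    show α₂ x₂ - (α₂ x₂ + D₂ x₂) = - D₂ x₂
    ring

end Groth.Agent.S1918
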