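import Groth.Statements.S19180
import Groth.Agent.Lib.Helper2.Kos13

set_option autoImplicit false
universe u
open Coherent

namespace Groth.Agent.S19180

open CategoryTheory AlgebraicGeometry in
/-- Let R be a local ring and m ≥ 1, and consider the projective line P¹_R with its structure sheaf O
and twisting sheaf O(m). For every O-module F and every short exact sequence 0 → O(m) → F → O → 0 of
O-modules, the surjection F → O admits a section; consequently F is isomorphic to O(m) ⊕ O. -/
theorem result (R : Type u) [CommRing R] [IsLocalRing R]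
    (m : ℕ) (hm : 1 ≤ m) (F : (CohB1.ProjSpace 1 R).Modules)
    (i : Twist.twistProjSpace 1 R (m : ℤ) ⟶ F) (p : F ⟶ Coh.structureModule (CohB1.ProjSpace 1 R))
    (w : i ≫ p = 0) (hex : (ShortComplex.mk i p w).ShortExact) :
    ∃ s : Coh.structureModule (CohB1.ProjSpace 1 R) ⟶ F, s ≫ p = 𝟙 _ := by
  have hS := hex
  have h1 : Subsingleton (Coh.HH (CohB1.ProjSpace 1 R) (Twist.twistProjSpace 1 R (m : ℤ)) (0 + 1)) :=
    Groth.Agent.Lib.Helper2.ProjCoh5.subsingleton_HH 1 R (m : ℤ) 1 (fun h => by omega)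
      (fun h => by omega)
  have hsurj : ∀ x' : Coh.HH (CohB1.ProjSpace 1 R) (Coh.structureModule (CohB1.ProjSpace 1 R)) 0,
      ∃ x : Coh.HH (CohB1.ProjSpace 1 R) F 0,
        Sheaf.H.map ((SheafOfModules.toSheaf (CohB1.ProjSpace 1 R).ringCatSheaf).map p) 0 x = x' := by
    intro x'
    exact Groth.Agent.Lib.Helper2.HLes.exact₃
      (Groth.Agent.Lib.Helper2.HLesLin.shortExact_Sab (ShortComplex.mk i p w) hS) 0 x'
      (@Subsingleton.elim _ h1 _ _)
  obtain ⟨s, hs⟩ := (Groth.Agent.Lib.Helper2.Kos13.exists_lift_iff p).2 hsurj (𝟙 _)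
  exact ⟨s, hs⟩

end Groth.Agent.S19180
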