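import Groth.Statements.S19183
import Mathlib.LinearAlgebra.Dimension.Constructions
import Mathlib.LinearAlgebra.FreeModule.Finite.Basic
import Mathlib.Tactic

set_option autoImplicit false
universe u
open CAlg

namespace Groth.Agent.S19183

/-- The parametrisation `(a, b) ↦ (a + f b, a)`. -/
def param (A : Type u) [CommRing A] (f : A) :
    (A × A) →ₗ[A] (Submodule.comap (LinearMap.fst A A A - LinearMap.snd A A A) (Ideal.span ({f} : Set A))) where
  toFun ab := ⟨(ab.1 + f * ab.2, ab.1), by
    simp only [Submodule.mem_comap, LinearMap.sub_apply, LinearMap.fst_apply, LinearMap.snd_apply]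
    rw [add_sub_cancel_left]
    exact Ideal.mul_mem_right _ _ (Ideal.mem_span_singleton_self f)⟩
  map_add' x y := by
    ext <;> simp <;> ring
  map_smul' r x := by
    ext <;> simp <;> ring

theorem param_bijective (A : Type u) [CommRing A] (f : A) (hf : f ∈ nonZeroDivisors A) :
    Function.Bijective (param A f) := by
  constructor
  · rw [injective_iff_map_eq_zero]
    rintro ⟨a, b⟩ h
    have h1 : a + f * b = 0 := congrArg (fun z => z.1.1) h
    have h2 : a = 0 := congrArg (fun z => z.1.2) h
    subst h2
    rw [zero_add, mul_comm] at h1
    have : b = 0 := (mem_nonZeroDivisors_iff.mp hf).2 b h1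
    rw [this]
    rfl
  · rintro ⟨⟨x, y⟩, h⟩
    simp only [Submodule.mem_comap, LinearMap.sub_apply, LinearMap.fst_apply, LinearMap.snd_apply] at h
    obtain ⟨b, hb⟩ := Ideal.mem_span_singleton'.mp h
    refine ⟨(y, b), ?_⟩
    ext
    · change y + f * b = x
      rw [mul_comm, hb]; ring
    · rfl

/-- Let A be a non-zero commutative ring and f ∈ A a non-zero-divisor. The fibre product A ×_{A/(f)} A
of two copies of A over A/(f) — the A-submodule of A × A of pairs (x, y) with x − y ∈ (f), which is
the coordinate ring of two copies of Spec A glued along the Cartier divisor f = 0 — is a free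
A-module of rank 2. (This is what makes the gluing of two copies of a curve along an effective
Cartier divisor finite locally free of degree 2 over the curve.) -/
theorem result (A : Type u) [CommRing A] [Nontrivial A]
    (f : A) (hf : f ∈ nonZeroDivisors A) :
    Module.Free A (Submodule.comap (LinearMap.fst A A A - LinearMap.snd A A A) (Ideal.span ({f} : Set A))) ∧
      Module.finrank A (Submodule.comap (LinearMap.fst A A A - LinearMap.snd A A A) (Ideal.span ({f} : Set A))) = 2 := by
  let e := LinearEquiv.ofBijective (param A f) (param_bijective A f hf)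
  refine ⟨Module.Free.of_equiv e, ?_⟩
  rw [← e.finrank_eq, Module.finrank_prod, Module.finrank_self]

end Groth.Agent.S19183
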