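import Groth.Statements.S19186
import Mathlib.Tactic.LinearCombination
import Mathlib.Tactic.Module
import Mathlib.RingTheory.Coprime.Lemmas
import Mathlib.RingTheory.Int.Basic

set_option autoImplicit false
universe u
open OneMot

namespace Groth.Agent.S19186

/-- Let p and ℓ be distinct prime numbers, r and n natural numbers, and f : A → B a homomorphism of
abelian groups whose kernel and cokernel are annihilated by p^r (f a = 0 implies p^r • a = 0, and
every p^r • b lies in the image of f). Then f induces a bijection between the ℓ^n-torsion subgroups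
of A and B and a bijection A/ℓ^n A → B/ℓ^n B. Spelled out without quotients: every ℓ^n-torsion
element of B has exactly one ℓ^n-torsion preimage; an element of A whose image is an ℓ^n-multiple is
itself an ℓ^n-multiple; and every element of B is the sum of an image and an ℓ^n-multiple. -/
theorem result {A B : Type u} [AddCommGroup A] [AddCommGroup B] (f : A →+ B) (p ℓ r n : ℕ) (hp : p.Prime) (hl : ℓ.Prime) (hne : ℓ ≠ p) (hker : ∀ a : A, f a = 0 → p ^ r • a = 0) (hcoker : ∀ b : B, ∃ a : A, f a = p ^ r • b) : (∀ b : B, ℓ ^ n • b = 0 → ∃! a : A, ℓ ^ n • a = 0 ∧ f a = b) ∧ (∀ a : A, (∃ b' : B, f a = ℓ ^ n • b') → ∃ a' : A, a = ℓ ^ n • a') ∧ (∀ b : B, ∃ (a : A) (b' : B), b = f a + ℓ ^ n • b') := by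
  have hcop : Nat.Coprime ℓ p := (Nat.coprime_primes hl hp).2 hne
  have hc1 : IsCoprime ((ℓ ^ n : ℕ) : ℤ) ((p ^ r : ℕ) : ℤ) :=
    Nat.isCoprime_iff_coprime.2 (Nat.Coprime.pow n r hcop)
  have hc2 : IsCoprime ((ℓ ^ n : ℕ) : ℤ) ((p ^ r * p ^ r : ℕ) : ℤ) := by
    rw [← pow_add]
    exact Nat.isCoprime_iff_coprime.2 (Nat.Coprime.pow n (r + r) hcop)
  obtain ⟨u, v, huv⟩ := hc1
  obtain ⟨u', v', huv'⟩ := hc2
  refine ⟨?_, ?_, ?_⟩
  · intro b hb
    obtain ⟨a₀, ha₀⟩ := hcoker b
    have hb' : b = (v * ((p ^ r : ℕ) : ℤ)) • b := by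
      linear_combination (norm := module) u • hb - huv • b
    have hfa1 : f (v • a₀) = b := by
      rw [map_zsmul, ha₀]
      linear_combination (norm := module) (-1 : ℤ) • hb'
    have hk : (p ^ r) • ((ℓ ^ n) • (v • a₀)) = 0 := by
      apply hker
      rw [map_nsmul, hfa1, hb]
    refine ⟨(v * ((p ^ r : ℕ) : ℤ)) • (v • a₀), ⟨?_, ?_⟩, ?_⟩
    · linear_combination (norm := module) v • hk
    · rw [map_zsmul, hfa1, ← hb']
    · rintro a' ⟨ha'1, ha'2⟩
      have hd : f (a' - (v * ((p ^ r : ℕ) : ℤ)) • (v • a₀)) = 0 := by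
        rw [map_sub, ha'2, map_zsmul, hfa1, ← hb', sub_self]
      have hd' := hker _ hd
      have hk' : (ℓ ^ n) • ((v * ((p ^ r : ℕ) : ℤ)) • (v • a₀)) = 0 := by
        linear_combination (norm := module) v • hk
      linear_combination (norm := module) u • ha'1 - u • hk' + v • hd' - huv • (a' - (v * ((p ^ r : ℕ) : ℤ)) • (v • a₀))
  · rintro a ⟨b', hb'⟩
    obtain ⟨a₂, ha₂⟩ := hcoker b'
    have h1 : f ((p ^ r) • a - (ℓ ^ n) • a₂) = 0 := by
      rw [map_sub, map_nsmul, map_nsmul, hb', ha₂]; module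
    have h2 := hker _ h1
    refine ⟨u' • a + (v' * ((p ^ r : ℕ) : ℤ)) • a₂, ?_⟩
    push_cast at huv'
    linear_combination (norm := module) v' • h2 - huv' • a
  · intro b
    obtain ⟨a₀, ha₀⟩ := hcoker b
    refine ⟨v • a₀, u • b, ?_⟩
    rw [map_zsmul, ha₀]
    linear_combination (norm := module) - huv • b

end Groth.Agent.S19186
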