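import Groth.Statements.S19187
import Mathlib

set_option autoImplicit false
universe u
open Cpct

namespace Groth.Agent.S19187

open CategoryTheory AlgebraicGeometry in
/-- Let k be a field, X̄ and Ȳ schemes proper over Spec k, j : X → X̄ an open immersion with dense image
and v : Y → Ȳ an open immersion (compactifications of X and Y), f : X → Y a proper morphism and f̄ :
X̄ → Ȳ a morphism over Spec k with f̄ ∘ j = v ∘ f. Then the preimage under f̄ of the open v(Y) is
the open j(X); equivalently, the complement of X in X̄ is the preimage of the complement of Y in Ȳ.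
(The base field k is arbitrary: no perfectness assumption is needed.) -/
theorem result {k : Type u} [Field k] {X Y Xb Yb : Scheme.{u}} (a : Xb ⟶ Spec (CommRingCat.of k)) (b : Yb ⟶ Spec (CommRingCat.of k)) [IsProper a] [IsProper b] (j : X ⟶ Xb) [IsOpenImmersion j] (hj : Dense (Set.range j.base)) (v : Y ⟶ Yb) [IsOpenImmersion v] (f : X ⟶ Y) [IsProper f] (fb : Xb ⟶ Yb) (hfb : fb ≫ b = a) (hsq : j ≫ fb = f ≫ v) : fb ⁻¹ᵁ v.opensRange = j.opensRange := by
  have hle : j.opensRange ≤ fb ⁻¹ᵁ v.opensRange := by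
    rintro _ ⟨x, rfl⟩
    change fb (j x) ∈ v.opensRange
    rw [← Scheme.Hom.comp_apply, hsq]
    exact ⟨f x, rfl⟩
  refine le_antisymm ?_ hle
  have hrj : Set.range j ⊆ Set.range (fb ⁻¹ᵁ v.opensRange).ι := by
    rw [Scheme.Opens.range_ι]
    exact hle
  have hrv : Set.range ((fb ⁻¹ᵁ v.opensRange).ι ≫ fb) ⊆ Set.range v := by
    rintro _ ⟨w, rfl⟩
    exact w.2
  let j' : X ⟶ (fb ⁻¹ᵁ v.opensRange : Xb.Opens) := IsOpenImmersion.lift (fb ⁻¹ᵁ v.opensRange).ι j hrj
  let g : ((fb ⁻¹ᵁ v.opensRange : Xb.Opens) : Scheme.{u}) ⟶ Y :=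
    IsOpenImmersion.lift v ((fb ⁻¹ᵁ v.opensRange).ι ≫ fb) hrv
  have hj' : j' ≫ (fb ⁻¹ᵁ v.opensRange).ι = j := IsOpenImmersion.lift_fac _ _ _
  have hg : g ≫ v = (fb ⁻¹ᵁ v.opensRange).ι ≫ fb := IsOpenImmersion.lift_fac _ _ _
  have hjg : j' ≫ g = f := by
    rw [← cancel_mono v, Category.assoc, hg, reassoc_of% hj', hsq]
  have hfbsep : IsSeparated fb := by
    have : IsSeparated (fb ≫ b) := by rw [hfb]; infer_instance
    exact IsSeparated.of_comp fb b
  have hgsep : IsSeparated g := by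
    have : IsSeparated (g ≫ v) := by rw [hg]; infer_instance
    exact IsSeparated.of_comp g v
  have hj'p : IsProper j' := by
    have : IsProper (j' ≫ g) := by rw [hjg]; infer_instance
    exact MorphismProperty.of_postcomp (W := @IsProper) (W' := @IsSeparated) j' g inferInstance this
  have hcl : IsClosed (Set.range j') := j'.isClosedMap.isClosed_range
  have hrange : Set.range j' = (fb ⁻¹ᵁ v.opensRange).ι ⁻¹' Set.range j := by
    ext w
    constructor
    · rintro ⟨x, rfl⟩
      exact ⟨x, by rw [← hj']; rfl⟩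
    · rintro ⟨x, hx⟩
      refine ⟨x, ?_⟩
      apply (fb ⁻¹ᵁ v.opensRange).ι.injective
      rw [← hx, ← hj']; rfl
  have hdense : Dense (Set.range j') := by
    rw [hrange]
    exact hj.preimage (fb ⁻¹ᵁ v.opensRange).ι.isOpenEmbedding.isOpenMap
  have huniv : Set.range j' = Set.univ := by
    rw [← hcl.closure_eq]; exact hdense.closure_eq
  intro w hw
  obtain ⟨x, hx⟩ : (⟨w, hw⟩ : (fb ⁻¹ᵁ v.opensRange : Xb.Opens)) ∈ Set.range j' := by
    rw [huniv]; trivial
  refine ⟨x, ?_⟩
  have := congr(($hx).1)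
  rw [← hj']
  exact this

end Groth.Agent.S19187
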