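import Groth.Statements.S19189
import Mathlib.Tactic.NoncommRing
import Mathlib.CategoryTheory.Triangulated.TStructure.TruncLTGE
-- import your own Groth.Agent.* helpers here

set_option autoImplicit false
universe v u
open CategoryTheory CategoryTheory.Limits CategoryTheory.Pretriangulated CategoryTheory.Triangulated
open CohDer

namespace Groth.Agent.S19189

/-- ring-level conjugation lemma. -/
lemma ring_conj {R : Type*} [Ring R] (e e0 : R) (he : e * e = e) (he0 : e0 * e0 = e0)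
    (hdd : (e - e0) * (e - e0) = 0) (hded : (e - e0) * e * (e - e0) = 0) :
    ∃ u v : R, u * v = 1 ∧ v * u = 1 ∧ u * e0 = e * u := by
  set d := e - e0 with hd
  set N := d - 2 • (e * d) with hN
  have hNN : N * N = 0 := by
    have : N * N = d * d - 2 • (d * e * d) - 2 • (e * (d * d)) + 4 • (e * (d * e * d)) := by
      rw [hN]; noncomm_ring
    rw [this, hdd, hded]; simp
  refine ⟨1 + N, 1 - N, ?_, ?_, ?_⟩
  · have : (1 + N) * (1 - N) = 1 - N * N := by noncomm_ring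
    rw [this, hNN, sub_zero]
  · have : (1 - N) * (1 + N) = 1 - N * N := by noncomm_ring
    rw [this, hNN, sub_zero]
  · have hu : 1 + N = e * e0 + (1 - e) * (1 - e0) + 2 • (e - e * e) := by
      rw [hN, hd]; noncomm_ring
    rw [he, sub_self, smul_zero, add_zero] at hu
    rw [hu]
    calc (e * e0 + (1 - e) * (1 - e0)) * e0 = e * (e0 * e0) + (1 - e) * (e0 - e0 * e0) := by
          noncomm_ring
      _ = e * e0 := by rw [he0, sub_self, mul_zero, add_zero]
      _ = (e * e) * e0 + (e - e * e) * (1 - e0) := by rw [he, sub_self, zero_mul, add_zero]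
      _ = e * (e * e0 + (1 - e) * (1 - e0)) := by noncomm_ring

variable {C : Type u} [Category.{v} C]

/-- the idempotent `p` splits. -/
def Splits {X : C} (p : X ⟶ X) : Prop :=
  ∃ (Y : C) (i : Y ⟶ X) (e : X ⟶ Y), i ≫ e = 𝟙 Y ∧ e ≫ i = p

variable [Preadditive C]

lemma splits_of_close {X : C} (e e0 : X ⟶ X) (he : e ≫ e = e) (h0 : Splits e0)
    (hdd : (e - e0) ≫ (e - e0) = 0) (hded : (e - e0) ≫ e ≫ (e - e0) = 0) : Splits e := by
  obtain ⟨Y, i, r, hir, hri⟩ := h0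
  have he0 : e0 ≫ e0 = e0 := by
    rw [← hri, Category.assoc, reassoc_of% hir]
  obtain ⟨u, v, huv, hvu, hue⟩ := ring_conj (R := End X) e e0 he he0 hdd
    hded
  -- translate
  have h1 : v ≫ u = 𝟙 X := huv
  have h2 : u ≫ v = 𝟙 X := hvu
  have h3 : e0 ≫ u = u ≫ e := hue
  refine ⟨Y, i ≫ u, v ≫ r, ?_, ?_⟩
  · rw [Category.assoc, reassoc_of% h2, hir]
  · rw [Category.assoc, reassoc_of% hri, h3, reassoc_of% h1]


variable [HasZeroObject C] [HasShift C ℤ] [∀ n : ℤ, (shiftFunctor C n).Additive] [Pretriangulated C]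

/-- gluing: an idempotent endomorphism of a distinguished triangle whose outer components split
has a split middle component, provided `Hom(X'[1], X'') = 0`. -/
lemma glue (T : Triangle C) (hT : T ∈ distTriang C) (hvan : ∀ k : T.obj₁⟦(1 : ℤ)⟧ ⟶ T.obj₃, k = 0)
    (φ : T ⟶ T) (hφ : φ.hom₂ ≫ φ.hom₂ = φ.hom₂) (h1 : Splits φ.hom₁) (h3 : Splits φ.hom₃) :
    Splits φ.hom₂ := by
  obtain ⟨A', i', p', hip', hpi'⟩ := h1
  obtain ⟨A'', i'', p'', hip'', hpi''⟩ := h3
  obtain ⟨A, fA, gA, hTA⟩ := distinguished_cocone_triangle₂ (i'' ≫ T.mor₃ ≫ p'⟦(1 : ℤ)⟧')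
  have c3 : T.mor₃ ≫ φ.hom₁⟦(1 : ℤ)⟧' = φ.hom₃ ≫ T.mor₃ := φ.comm₃
  obtain ⟨i, hi1, hi2⟩ : ∃ i : A ⟶ T.obj₂, fA ≫ i = i' ≫ T.mor₁ ∧ gA ≫ i'' = i ≫ T.mor₂ :=
    complete_distinguished_triangle_morphism₂ _ T hTA hT i' i'' (by
    change (i'' ≫ T.mor₃ ≫ p'⟦(1 : ℤ)⟧') ≫ i'⟦(1 : ℤ)⟧' = i'' ≫ T.mor₃
    rw [Category.assoc, Category.assoc, ← Functor.map_comp, hpi', c3, ← hpi'', Category.assoc,
      reassoc_of% hip''])
  obtain ⟨p, hp1, hp2⟩ : ∃ p : T.obj₂ ⟶ A, T.mor₁ ≫ p = p' ≫ fA ∧ T.mor₂ ≫ p'' = p ≫ gA :=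
    complete_distinguished_triangle_morphism₂ T _ hT hTA p' p'' (by
    change T.mor₃ ≫ p'⟦(1 : ℤ)⟧' = p'' ≫ i'' ≫ T.mor₃ ≫ p'⟦(1 : ℤ)⟧'
    rw [reassoc_of% hpi'', ← reassoc_of% c3, ← Functor.map_comp, ← hpi', Category.assoc, hip',
      Category.comp_id])
  -- ψ = i ≫ p is an isomorphism
  have hψ1 : fA ≫ i ≫ p = fA := by
    rw [reassoc_of% hi1, hp1, reassoc_of% hip']
  have hψ2 : (i ≫ p) ≫ gA = gA := by
    rw [Category.assoc, ← hp2, ← reassoc_of% hi2, hip'', Category.comp_id]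
  let Ψ : Triangle.mk fA gA (i'' ≫ T.mor₃ ≫ p'⟦(1 : ℤ)⟧') ⟶
      Triangle.mk fA gA (i'' ≫ T.mor₃ ≫ p'⟦(1 : ℤ)⟧') :=
    { hom₁ := 𝟙 A'
      hom₂ := i ≫ p
      hom₃ := 𝟙 A''
      comm₁ := hψ1.trans (Category.id_comp fA).symm
      comm₂ := (Category.comp_id gA).trans hψ2.symm
      comm₃ := by
        change (i'' ≫ T.mor₃ ≫ p'⟦(1 : ℤ)⟧') ≫ (𝟙 A')⟦(1 : ℤ)⟧' =
          𝟙 A'' ≫ (i'' ≫ T.mor₃ ≫ p'⟦(1 : ℤ)⟧')
        rw [CategoryTheory.Functor.map_id, Category.comp_id, Category.id_comp] }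
  have hΨ : IsIso (i ≫ p) := isIso₂_of_isIso₁₃ Ψ hTA hTA (IsIso.id A') (IsIso.id A'')
  have hinv1 : fA ≫ inv (i ≫ p) = fA := by
    rw [IsIso.comp_inv_eq, hψ1]
  have hinv2 : inv (i ≫ p) ≫ gA = gA := by
    rw [IsIso.inv_comp_eq, hψ2]
  -- the split idempotent e0
  have hs0 : Splits (p ≫ inv (i ≫ p) ≫ i) :=
    ⟨A, i, p ≫ inv (i ≫ p), by rw [← Category.assoc, IsIso.hom_inv_id], by rw [Category.assoc]⟩
  refine splits_of_close φ.hom₂ (p ≫ inv (i ≫ p) ≫ i) hφ hs0 ?_ ?_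
  all_goals
    have c1 : T.mor₁ ≫ φ.hom₂ = φ.hom₁ ≫ T.mor₁ := φ.comm₁
    have c2 : T.mor₂ ≫ φ.hom₃ = φ.hom₂ ≫ T.mor₂ := φ.comm₂
    have hd1 : T.mor₁ ≫ (φ.hom₂ - p ≫ inv (i ≫ p) ≫ i) = 0 := by
      rw [Preadditive.comp_sub, c1, reassoc_of% hp1, reassoc_of% hinv1, hi1, reassoc_of% hpi',
        sub_self]
    have hd2 : (φ.hom₂ - p ≫ inv (i ≫ p) ≫ i) ≫ T.mor₂ = 0 := by
      rw [Preadditive.sub_comp, ← c2, Category.assoc, Category.assoc, ← hi2, reassoc_of% hinv2,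
        ← reassoc_of% hp2, hpi'', sub_self]
    obtain ⟨d₂, hd₂⟩ := Triangle.yoneda_exact₂ T hT _ hd1
    have hd₂g : d₂ ≫ T.mor₂ = 0 := by
      obtain ⟨k, hk⟩ := Triangle.yoneda_exact₃ T hT (d₂ ≫ T.mor₂)
        (by rw [← Category.assoc, ← hd₂, hd2])
      rw [hk, hvan k, comp_zero]
  · rw [hd₂, Category.assoc, reassoc_of% hd₂g, zero_comp, comp_zero]
  · rw [hd₂, Category.assoc, ← reassoc_of% c2, reassoc_of% hd₂g, zero_comp, comp_zero]


/-- heart case: for `X` in `C^{[a,a]}` and `e` idempotent, `𝟙 - e` splits. -/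
lemma heart_split (t : TStructure C) (a : ℤ) (X : C) [t.IsGE X a] [t.IsLE X a] (e : X ⟶ X)
    (he : e ≫ e = e) : Splits (𝟙 X - e) := by
  obtain ⟨Cn, c, δ, hT⟩ := distinguished_cocone_triangle e
  have hec : e ≫ c = 0 := comp_distTriang_mor_zero₁₂ _ hT
  obtain ⟨r, hr⟩ : ∃ r : Cn ⟶ X, 𝟙 X - e = c ≫ r :=
    Triangle.yoneda_exact₂ _ hT (𝟙 X - e) (by
      change e ≫ (𝟙 X - e) = 0
      rw [Preadditive.comp_sub, Category.comp_id, he, sub_self])
  let π : Cn ⟶ (t.truncGE a).obj Cn := (t.truncGEπ a).app Cn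
  let j : (t.truncGE a).obj Cn ⟶ X := t.descTruncGE r a
  have hj : π ≫ j = r := t.π_descTruncGE r a
  refine ⟨(t.truncGE a).obj Cn, j, c ≫ π, ?_, ?_⟩
  · apply t.from_truncGE_obj_ext (n := a)
    change π ≫ j ≫ c ≫ π = π ≫ 𝟙 _
    rw [Category.comp_id, reassoc_of% hj]
    -- w := r ≫ c ≫ π - π is killed by c, hence factors through δ, hence zero
    have hw : c ≫ (r ≫ c ≫ π - π) = 0 := by
      rw [Preadditive.comp_sub, ← reassoc_of% hr, Preadditive.sub_comp, Category.id_comp,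
        reassoc_of% hec, zero_comp, sub_zero, sub_self]
    obtain ⟨k, hk⟩ : ∃ k : X⟦(1 : ℤ)⟧ ⟶ (t.truncGE a).obj Cn, r ≫ c ≫ π - π = δ ≫ k :=
      Triangle.yoneda_exact₃ _ hT _ hw
    have : t.IsLE (X⟦(1 : ℤ)⟧) (a - 1) := t.isLE_shift X a 1 (a - 1) (by omega)
    have hk0 : k = 0 := t.zero k (a - 1) a (by omega)
    rw [hk0, comp_zero] at hk
    exact sub_eq_zero.1 hk
  · rw [Category.assoc, hj, ← hr]

omit [HasZeroObject C] [HasShift C ℤ] [∀ n : ℤ, (shiftFunctor C n).Additive] [Pretriangulated C] in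
lemma idem_one_sub {X : C} (e : X ⟶ X) (he : e ≫ e = e) : (𝟙 X - e) ≫ (𝟙 X - e) = 𝟙 X - e := by
  simp only [Preadditive.sub_comp, Preadditive.comp_sub, Category.id_comp, Category.comp_id, he,
    sub_self, sub_zero]

omit [HasZeroObject C] [HasShift C ℤ] [∀ n : ℤ, (shiftFunctor C n).Additive] [Pretriangulated C] in
lemma splits_of_isZero {X : C} (hX : IsZero X) (e : X ⟶ X) : Splits e :=
  ⟨X, 𝟙 X, 𝟙 X, Category.comp_id _, hX.eq_of_src _ _⟩

lemma main [IsTriangulated C] (t : TStructure C) : ∀ (n : ℕ) (a : ℤ) (X : C) [t.IsGE X a] [t.IsLE X (a + n)]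
    (e : X ⟶ X), e ≫ e = e → Splits e := by
  intro n
  induction n with
  | zero =>
    intro a X _ h2 e he
    have : t.IsLE X a := by simpa using h2
    have h := heart_split t a X (𝟙 X - e) (idem_one_sub e he)
    rwa [sub_sub_cancel] at h
  | succ n ih =>
    intro a X h1 h2 e he
    let c : ℤ := a + n + 1
    have h2' : t.IsLE X c := by
      have : a + ((n + 1 : ℕ) : ℤ) = c := by simp only [c]; push_cast; omega
      rwa [this] at h2
    let φ := (t.triangleLTGE c).map e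
    have hφ2 : φ.hom₂ = e := rfl
    let e' : (t.truncLT c).obj X ⟶ (t.truncLT c).obj X := (t.truncLT c).map e
    let e'' : (t.truncGE c).obj X ⟶ (t.truncGE c).obj X := (t.truncGE c).map e
    have he' : e' ≫ e' = e' := by simp only [e']; rw [← Functor.map_comp, he]
    have he'' : e'' ≫ e'' = e'' := by simp only [e'']; rw [← Functor.map_comp, he]
    have hφ1 : φ.hom₁ = e' := rfl
    have hφ3 : φ.hom₃ = e'' := rfl
    have hT := t.triangleLTGE_distinguished c X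
    have e1 : t.IsLE ((t.truncLT c).obj X) (a + n) := t.isLE_truncLT_obj X c (a + n) (by omega)
    have e2 : t.IsGE ((t.truncLT c).obj X) a := inferInstance
    have e3 : t.IsGE ((t.truncGE c).obj X) c := inferInstance
    have e4 : t.IsLE ((t.truncGE c).obj X) c := inferInstance
    have s1 : Splits e' := ih a ((t.truncLT c).obj X) e' he'
    have s3 : Splits e'' := by
      have h := heart_split t c ((t.truncGE c).obj X) (𝟙 _ - e'') (idem_one_sub _ he'')
      rwa [sub_sub_cancel] at h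
    have hvan : ∀ k : ((t.truncLT c).obj X)⟦(1 : ℤ)⟧ ⟶ (t.truncGE c).obj X, k = 0 := fun k => by
      have : t.IsLE (((t.truncLT c).obj X)⟦(1 : ℤ)⟧) (a + n - 1) :=
        t.isLE_shift _ (a + n) 1 (a + n - 1) (by omega)
      exact t.zero k (a + n - 1) c (by omega)
    exact glue _ hT hvan φ he s1 s3


/-- Let `C` be a triangulated category (octahedron axiom included) and `t` a t-structure on `C` which is
bounded, i.e. every object of `C` is both `≥ a` and `≤ b` for some integers `a`, `b`. Then `C` is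
idempotent complete (Karoubian): every idempotent endomorphism `p = p ≫ p` of an object splits as `p
= e ≫ i` with `i ≫ e = 𝟙`. -/
theorem result {C : Type u} [Category.{v} C] [Preadditive C]
    [HasZeroObject C] [HasShift C ℤ] [∀ n : ℤ, (shiftFunctor C n).Additive] [Pretriangulated C]
    [IsTriangulated C] (t : TStructure C) (hb : ∀ X : C, t.bounded X) :
    IsIdempotentComplete C := by
  refine ⟨fun X e he => ?_⟩
  obtain ⟨⟨a, ha⟩, ⟨b, hb'⟩⟩ := hb X
  by_cases hab : a ≤ b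
  · have : t.IsLE X (a + ((b - a).toNat : ℤ)) := by
      have : a + ((b - a).toNat : ℤ) = b := by omega
      rwa [this]
    exact main t (b - a).toNat a X e he
  · exact splits_of_isZero (t.isZero X b a (by omega)) e

end Groth.Agent.S19189
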