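import Groth.Statements.S19190
import Mathlib.CategoryTheory.Localization.CalculusOfFractions
-- import your own Groth.Agent.* helpers here

set_option autoImplicit false
universe w v u v' u'
open CategoryTheory CategoryTheory.Limits CategoryTheory.Pretriangulated CategoryTheory.Triangulated
open CohDer

namespace Groth.Agent.S19190

set_option linter.unusedSectionVars false
section
variable {A : Type w} [CommRing A] (S : Submonoid A)
    {T : Type u} [Category.{v} T] [Preadditive T] [Linear A T] [HasZeroObject T] [HasShift T ℤ]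
    [∀ n : ℤ, (shiftFunctor T n).Additive] [∀ n : ℤ, (shiftFunctor T n).Linear A]
    [Pretriangulated T]

/-- objects killed by some element of `S` -/
def Tors : ObjectProperty T := fun Z => ∃ s ∈ S, s • 𝟙 Z = 0

lemma smul_id_comp {X Y : T} (a : A) (f : X ⟶ Y) : (a • 𝟙 X) ≫ f = a • f := by
  rw [Linear.smul_comp, Category.id_comp]

lemma comp_smul_id {X Y : T} (a : A) (f : X ⟶ Y) : f ≫ (a • 𝟙 Y) = a • f := by
  rw [Linear.comp_smul, Category.comp_id]

instance : (Tors S : ObjectProperty T).IsClosedUnderIsomorphisms where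
  of_iso {X Y} e := by
    rintro ⟨s, hs, h⟩
    refine ⟨s, hs, ?_⟩
    have : s • 𝟙 Y = e.inv ≫ (s • 𝟙 X) ≫ e.hom := by
      rw [smul_id_comp, Linear.comp_smul, e.inv_hom_id]
    rw [this, h, zero_comp, comp_zero]

instance : (Tors S : ObjectProperty T).IsStableUnderRetracts where
  of_retract {X Y} r := by
    rintro ⟨s, hs, h⟩
    refine ⟨s, hs, ?_⟩
    have : s • 𝟙 X = r.i ≫ (s • 𝟙 Y) ≫ r.r := by
      rw [smul_id_comp, Linear.comp_smul, r.retract]
    rw [this, h, zero_comp, comp_zero]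

instance : (Tors S : ObjectProperty T).IsTriangulated where
  exists_zero := ⟨_, isZero_zero T, 1, S.one_mem, (isZero_zero T).eq_of_src _ _⟩
  isStableUnderShiftBy n :=
    { le_shift := by
        rintro X ⟨s, hs, h⟩
        refine ⟨s, hs, ?_⟩
        have : s • 𝟙 (X⟦n⟧) = (shiftFunctor T n).map (s • 𝟙 X) := by
          rw [Functor.map_smul, CategoryTheory.Functor.map_id]
        rw [this, h, Functor.map_zero] }
  toIsTriangulatedClosed₂ := ObjectProperty.IsTriangulatedClosed₂.mk' (by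
    rintro Tr hT ⟨f, hf, h1⟩ ⟨g, hg, h3⟩
    refine ⟨f * g, S.mul_mem hf hg, ?_⟩
    have e1 : (g • 𝟙 Tr.obj₂) ≫ Tr.mor₂ = 0 := by
      rw [smul_id_comp, ← comp_smul_id, h3, comp_zero]
    obtain ⟨u, hu⟩ := Triangle.coyoneda_exact₂ Tr hT _ e1
    have : (f * g) • 𝟙 Tr.obj₂ = (f • 𝟙 _) ≫ (g • 𝟙 _) := by
      rw [smul_id_comp, smul_smul]
    rw [this, hu, smul_id_comp, ← Linear.smul_comp, ← comp_smul_id, h1, comp_zero, zero_comp])

/-- the cone of `f • 𝟙 X` is killed by `f ^ 2` -/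
lemma tors_cone (X : T) (f : A) (hf : f ∈ S) (Z : T) (g : X ⟶ Z) (h : Z ⟶ X⟦(1 : ℤ)⟧)
    (hT : Triangle.mk (f • 𝟙 X) g h ∈ distTriang T) : Tors S Z := by
  refine ⟨f * f, S.mul_mem hf hf, ?_⟩
  have e1 : (f • 𝟙 Z) ≫ h = 0 := by
    rw [smul_id_comp, ← comp_smul_id]
    have : f • 𝟙 (X⟦(1 : ℤ)⟧) = (shiftFunctor T (1 : ℤ)).map (f • 𝟙 X) := by
      rw [Functor.map_smul, CategoryTheory.Functor.map_id]
    rw [this]
    exact comp_distTriang_mor_zero₃₁ _ hT
  obtain ⟨u, hu'⟩ : ∃ u : Z ⟶ X, f • 𝟙 Z = u ≫ g := Triangle.coyoneda_exact₃ _ hT _ e1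
  have h12 : (f • 𝟙 X) ≫ g = 0 := comp_distTriang_mor_zero₁₂ _ hT
  calc (f * f) • 𝟙 Z = (f • 𝟙 Z) ≫ (f • 𝟙 Z) := by rw [smul_id_comp, smul_smul]
    _ = u ≫ g ≫ (f • 𝟙 Z) := by rw [hu', Category.assoc, ← hu']
    _ = u ≫ (f • 𝟙 X) ≫ g := by rw [comp_smul_id, smul_id_comp]
    _ = 0 := by rw [h12, comp_zero]


/-- key lemma: if the cone of `w` is killed by `s`, then `s • 𝟙` factors through `w`. -/
lemma exists_factor (U : ObjectProperty T) (hU : U ≤ Tors S) {X' X : T} (w : X' ⟶ X) (hw : U.trW w) :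
    ∃ s ∈ S, ∃ t : X ⟶ X', s • 𝟙 X = t ≫ w := by
  obtain ⟨Z, g, h, hT, hZ⟩ := (U.trW_iff w).1 hw
  obtain ⟨s, hs, hz⟩ := hU Z hZ
  refine ⟨s, hs, ?_⟩
  have e1 : (s • 𝟙 X) ≫ g = 0 := by
    rw [smul_id_comp, ← comp_smul_id, hz, comp_zero]
  obtain ⟨t, ht⟩ : ∃ t : X ⟶ X', s • 𝟙 X = t ≫ w := Triangle.coyoneda_exact₂ _ hT _ e1
  exact ⟨t, ht⟩

end


/-- Let `A` be a commutative ring, `S` a multiplicative subset of `A` and `T` an `A`-linear triangulated
category (octahedron axiom included; the shift functors are `A`-linear). Call an object of `T`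
`S`-torsion when it lies in the smallest thick subcategory `U` of `T` (a property of objects
containing zero, stable under shifts, extensions, isomorphisms and direct factors) containing every
cone of an endomorphism `f • 𝟙 X` with `f ∈ S`. Let `Q : T ⥤ E` exhibit `E` as the localization of
`T` at the morphisms whose cone lies in `U` (the Verdier quotient `T/U`), where `E` is preadditive
and `A`-linear and `Q` is `A`-linear. Then for all objects `X`, `Y` of `T` the `A`-linear map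
`Hom_T(X, Y) → Hom_E(Q X, Q Y)` given by `Q` exhibits its target as the localization of `Hom_T(X,
Y)` at `S`. Since `Q` is essentially surjective, this says that the comparison functor from `T/U` to
the category having the objects of `T` and morphism modules `Hom_T(X, Y) ⊗_A S⁻¹A` is an
equivalence. -/
theorem result
    {A : Type w} [CommRing A] (S : Submonoid A)
    {T : Type u} [Category.{v} T] [Preadditive T] [Linear A T] [HasZeroObject T] [HasShift T ℤ]
    [∀ n : ℤ, (shiftFunctor T n).Additive] [∀ n : ℤ, (shiftFunctor T n).Linear A]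
    [Pretriangulated T] [IsTriangulated T]
    (U : ObjectProperty T) [U.IsTriangulated] [U.IsClosedUnderIsomorphisms] [U.IsStableUnderRetracts]
    (hU : ∀ (X : T) (f : A), f ∈ S → ∀ (Z : T) (g : X ⟶ Z) (h : Z ⟶ X⟦(1 : ℤ)⟧),
      Triangle.mk (f • 𝟙 X) g h ∈ distTriang T → U Z)
    (hmin : ∀ (U' : ObjectProperty T) [U'.IsTriangulated] [U'.IsClosedUnderIsomorphisms]
      [U'.IsStableUnderRetracts],
      (∀ (X : T) (f : A), f ∈ S → ∀ (Z : T) (g : X ⟶ Z) (h : Z ⟶ X⟦(1 : ℤ)⟧),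
        Triangle.mk (f • 𝟙 X) g h ∈ distTriang T → U' Z) → U ≤ U')
    {E : Type u'} [Category.{v'} E] [Preadditive E] [Linear A E]
    (Q : T ⥤ E) [Q.Additive] [Q.Linear A] [Q.IsLocalization U.trW] (X Y : T) :
    IsLocalizedModule S (Q.mapLinearMap A : (X ⟶ Y) →ₗ[A] (Q.obj X ⟶ Q.obj Y)) := by
  have hUT : U ≤ Tors S := hmin (Tors S) (tors_cone S)
  have hsm : ∀ (s : A) (X : T), Q.map (s • 𝟙 X) = s • 𝟙 (Q.obj X) := fun s X => by
    rw [Functor.map_smul, CategoryTheory.Functor.map_id]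
  have hiso : ∀ (s : A), s ∈ S → ∀ X : T, IsIso (s • 𝟙 (Q.obj X)) := by
    intro s hs X
    obtain ⟨Z, g, h, hT⟩ := distinguished_cocone_triangle (s • 𝟙 X)
    have : U.trW (s • 𝟙 X) := (U.trW_iff _).2 ⟨Z, g, h, hT, hU X s hs Z g h hT⟩
    rw [← hsm]
    exact Localization.inverts Q U.trW _ this
  refine ⟨?_, ?_, ?_⟩
  · rintro ⟨s, hs⟩
    have := hiso s hs X
    rw [Module.End.isUnit_iff]
    have hform : ∀ φ : Q.obj X ⟶ Q.obj Y,
        (algebraMap A (Module.End A (Q.obj X ⟶ Q.obj Y)) s) φ = (s • 𝟙 (Q.obj X)) ≫ φ := by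
      intro φ
      rw [Linear.smul_comp, Category.id_comp]
      rfl
    constructor
    · intro φ ψ h
      rw [hform, hform] at h
      exact (cancel_epi _).1 h
    · intro φ
      refine ⟨inv (s • 𝟙 (Q.obj X)) ≫ φ, ?_⟩
      rw [hform, IsIso.hom_inv_id_assoc]
  · intro φ
    obtain ⟨z, hz⟩ := Localization.exists_rightFraction Q U.trW φ
    obtain ⟨s, hs, t, ht⟩ := exists_factor S U hUT z.s z.hs
    refine ⟨(t ≫ z.f, ⟨s, hs⟩), ?_⟩
    change s • φ = Q.map (t ≫ z.f)
    have h1 : s • φ = (s • 𝟙 (Q.obj X)) ≫ φ := by rw [Linear.smul_comp, Category.id_comp]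
    rw [h1, ← hsm, ht, hz, Functor.map_comp, Category.assoc,
      MorphismProperty.RightFraction.map_s_comp_map, ← Functor.map_comp]
  · intro ψ ψ' h
    have h' : Q.map ψ = Q.map ψ' := h
    obtain ⟨X', w, hw, hww⟩ := (MorphismProperty.map_eq_iff_precomp Q U.trW ψ ψ').1 h'
    obtain ⟨s, hs, t, ht⟩ := exists_factor S U hUT w hw
    refine ⟨⟨s, hs⟩, ?_⟩
    change s • ψ = s • ψ'
    rw [← smul_id_comp, ← smul_id_comp (a := s) (f := ψ'), ht, Category.assoc, Category.assoc, hww]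

end Groth.Agent.S19190
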