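import Groth.Statements.S19193
import Mathlib.Algebra.BigOperators.Group.Finset.Sigma
import Mathlib.Algebra.BigOperators.Fin

set_option autoImplicit false
universe u
open CategoryTheory Opposite TopologicalSpace
open CohTop

namespace Groth.Agent.S19193

open W4c6blochformula0cyc

section Helpers

variable {X : Type u} [TopologicalSpace X] {ι : Type u} (F : (Opens X)ᵒᵖ ⥤ AddCommGrpCat.{u})
  (U : ι → Opens X)

lemma res_res {V W W' : Opens X} (h1 : W ≤ V) (h2 : W' ≤ W) (x : F.obj (op V)) :
    res F h2 (res F h1 x) = res F (h2.trans h1) x := by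
  have : (homOfLE (h2.trans h1)).op = (homOfLE h1).op ≫ (homOfLE h2).op := rfl
  simp only [res]
  rw [this, F.map_comp]
  rfl

lemma res_congr {k : ℕ} (f : Cochain F U k) {s s' : Fin k → ι} (h : s = s') {W : Opens X}
    (h1 : W ≤ cechOpen U s) (h2 : W ≤ cechOpen U s') : res F h1 (f s) = res F h2 (f s') := by
  subst h; rfl

lemma cons_comp_zero {n : ℕ} (α : ι) (t : Fin (n + 1) → ι) :
    (Fin.cons α t : Fin (n + 2) → ι) ∘ (0 : Fin (n + 2)).succAbove = t := by
  funext i
  simp [Fin.succAbove_zero]

lemma cons_comp_succ {n : ℕ} (α : ι) (t : Fin (n + 1) → ι) (k : Fin (n + 1)) :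
    (Fin.cons α t : Fin (n + 2) → ι) ∘ k.succ.succAbove = Fin.cons α (t ∘ k.succAbove) := by
  funext i
  refine Fin.cases ?_ (fun i => ?_) i
  · simp
  · simp

lemma cechOpen_eq {n : ℕ} (t : Fin (n + 1) → ι) (k : Fin (n + 1)) :
    cechOpen U t = cechOpen U (t ∘ k.succAbove) ⊓ U (t k) := by
  apply le_antisymm
  · exact le_inf (cechOpen_le_comp U t k) (iInf_le (fun i => U (t i)) k)
  · refine le_iInf fun i => ?_
    rcases Fin.eq_self_or_eq_succAbove k i with h | ⟨j, h⟩
    · rw [h]; exact inf_le_right
    · rw [h]; exact inf_le_left.trans (iInf_le (fun j => U ((t ∘ k.succAbove) j)) j)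

lemma zsmul_sum' {A : Type*} [AddCommGroup A] {J : Type*} (s : Finset J) (m : ℤ) (g : J → A) :
    m • ∑ j ∈ s, g j = ∑ j ∈ s, m • g j :=
  map_sum (zsmulAddGroupHom m) g s

lemma key (E : ∀ (V : Opens X) (α : ι), F.obj (op (V ⊓ U α)) →+ F.obj (op V))
    (V V' : Opens X) (α β : ι) (hV' : V' = V ⊓ U β)
    (h3V : ∀ g : F.obj (op (V ⊓ U α)), res F inf_le_left (E V α g) =
      E (V ⊓ U β) α (res F (inf_le_inf_right (U α) inf_le_left) g))
    (g : F.obj (op (V ⊓ U α))) (h1 : V' ≤ V) (h2 : V' ⊓ U α ≤ V ⊓ U α) :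
    res F h1 (E V α g) = E V' α (res F h2 g) := by
  subst hV'
  exact h3V g

end Helpers


open W4c6blochformula0cyc in
/-- Let `F` be a presheaf of abelian groups on a topological space `X`, `U` a family of opens of `X`
indexed by a finite type, and suppose given, for every open `V` and every index `α`, an additive map
`E V α : F(V ∩ U_α) → F(V)` such that for every nonempty tuple of indices `t`, with `V = U_{t_0} ∩ ⋯
∩ U_{t_m}`: (i) `∑_α E V α (f|_{V ∩ U_α}) = f` for all `f ∈ F(V)`, and (ii) `(E V α g)|_{V ∩ U_β} =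
E (V ∩ U_β) α (g|_{V ∩ U_β ∩ U_α})` for all indices `α, β` and all `g ∈ F(V ∩ U_α)`. Then the
operator `H` on ordered Čech cochains, `(H f)_t = ∑_α E (U_t) α (f_{(α, t)})`, satisfies `H (δ f) +
δ (H f) = f` for every Čech cochain `f` on tuples of length at least `2`, i.e. in every Čech degree
`≥ 1`. (The published statement takes a flasque sheaf on an open cover and extension maps attached
to pairs of finite intersections; this row takes any presheaf, any finite family of opens, and maps
that may depend on the index, none of which the printed argument needs. The published statement also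
asserts the identity in every degree of the Čech complex without augmentation term, and allows an
infinite index set with finitely supported sums; in Čech degree `0`, where that complex has no term
below and the identity reads `H (δ f) = f`, it fails in general — for the one-member cover of a
point and the constant presheaf `ℤ` with `E` the identity, `δ f` vanishes on the pair while `f` need
not — so it is stated here from degree `1` on, i.e. for cochains on tuples of length at least `2`
(the whole-space term on the empty tuple carried by the cochain groups used here plays no role), and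
for a finite index type.) -/
theorem result {X : Type u} [TopologicalSpace X]
    {ι : Type u} [Fintype ι] (F : (Opens X)ᵒᵖ ⥤ AddCommGrpCat.{u}) (U : ι → Opens X)
    (E : ∀ (V : Opens X) (α : ι), F.obj (op (V ⊓ U α)) →+ F.obj (op V))
    (h2 : ∀ (m : ℕ) (t : Fin (m + 1) → ι) (f : F.obj (op (cechOpen U t))),
      ∑ α, E (cechOpen U t) α (res F inf_le_left f) = f)
    (h3 : ∀ (m : ℕ) (t : Fin (m + 1) → ι) (α β : ι) (g : F.obj (op (cechOpen U t ⊓ U α))),
      res F inf_le_left (E (cechOpen U t) α g) =
        E (cechOpen U t ⊓ U β) α (res F (inf_le_inf_right (U α) inf_le_left) g))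
    (n : ℕ) (f : Cochain F U (n + 2)) :
    homotopy F U E (n + 2) (delta F U (n + 2) f) + delta F U (n + 1) (homotopy F U E (n + 1) f) = f := by
  funext t
  -- the common terms
  have hle : ∀ (α : ι) (k : Fin (n + 2)),
      cechOpen U t ⊓ U α ≤ cechOpen U (Fin.cons α (t ∘ k.succAbove) : Fin (n + 2) → ι) :=
    fun α k => (inf_le_inf_right (U α) (cechOpen_le_comp U t k)).trans
      (inf_le_cechOpen_cons U (t ∘ k.succAbove) α)
  let Xt : ι → Fin (n + 2) → F.obj (op (cechOpen U t)) := fun α k =>
    E (cechOpen U t) α (res F (hle α k) (f (Fin.cons α (t ∘ k.succAbove))))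
  have hA : homotopy F U E (n + 2) (delta F U (n + 2) f) t =
      f t + ∑ α, ∑ k : Fin (n + 2), ((-1 : ℤ) ^ ((k : ℕ) + 1)) • Xt α k := by
    change ∑ α, E (cechOpen U t) α (res F (inf_le_cechOpen_cons U t α)
      (∑ j : Fin (n + 3), ((-1 : ℤ) ^ (j : ℕ)) • res F (cechOpen_le_comp U (Fin.cons α t) j)
        (f ((Fin.cons α t : Fin (n + 3) → ι) ∘ j.succAbove)))) = _
    have hα : ∀ α, E (cechOpen U t) α (res F (inf_le_cechOpen_cons U t α)
        (∑ j : Fin (n + 3), ((-1 : ℤ) ^ (j : ℕ)) • res F (cechOpen_le_comp U (Fin.cons α t) j)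
          (f ((Fin.cons α t : Fin (n + 3) → ι) ∘ j.succAbove)))) =
        E (cechOpen U t) α (res F inf_le_left (f t)) +
          ∑ k : Fin (n + 2), ((-1 : ℤ) ^ ((k : ℕ) + 1)) • Xt α k := by
      intro α
      rw [map_sum, map_sum, Fin.sum_univ_succ]
      congr 1
      · rw [Fin.val_zero, pow_zero, one_zsmul, res_res]
        exact congrArg _ (res_congr F U f (cons_comp_zero α t) _ _)
      · refine Finset.sum_congr rfl (fun k _ => ?_)
        rw [map_zsmul, map_zsmul, Fin.val_succ, res_res]
        exact congrArg (fun z => ((-1 : ℤ) ^ ((k : ℕ) + 1)) • E (cechOpen U t) α z)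
          (res_congr F U f (cons_comp_succ α t k) _ _)
    rw [Finset.sum_congr rfl (fun α _ => hα α), Finset.sum_add_distrib, h2 (n + 1) t (f t)]
  have hB : delta F U (n + 1) (homotopy F U E (n + 1) f) t =
      ∑ k : Fin (n + 2), ∑ α, ((-1 : ℤ) ^ (k : ℕ)) • Xt α k := by
    change ∑ k : Fin (n + 2), ((-1 : ℤ) ^ (k : ℕ)) • res F (cechOpen_le_comp U t k)
      (∑ α, E (cechOpen U (t ∘ k.succAbove)) α
        (res F (inf_le_cechOpen_cons U (t ∘ k.succAbove) α) (f (Fin.cons α (t ∘ k.succAbove))))) = _
    refine Finset.sum_congr rfl (fun k _ => ?_)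
    rw [map_sum, zsmul_sum']
    refine Finset.sum_congr rfl (fun α _ => ?_)
    congr 1
    rw [key F U E (cechOpen U (t ∘ k.succAbove)) (cechOpen U t) α (t k) (cechOpen_eq U t k)
      (h3 n (t ∘ k.succAbove) α (t k)) _ (cechOpen_le_comp U t k)
      (inf_le_inf_right (U α) (cechOpen_le_comp U t k)), res_res]
  change homotopy F U E (n + 2) (delta F U (n + 2) f) t +
    delta F U (n + 1) (homotopy F U E (n + 1) f) t = f t
  rw [hA, hB, Finset.sum_comm (s := (Finset.univ : Finset (Fin (n + 2)))), add_assoc,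
    ← Finset.sum_add_distrib]
  have : ∀ α, (∑ k : Fin (n + 2), ((-1 : ℤ) ^ ((k : ℕ) + 1)) • Xt α k) +
      ∑ k : Fin (n + 2), ((-1 : ℤ) ^ (k : ℕ)) • Xt α k = 0 := by
    intro α
    rw [← Finset.sum_add_distrib]
    refine Finset.sum_eq_zero (fun k _ => ?_)
    rw [pow_succ, mul_neg_one]
    have h0 : (-(-1 : ℤ) ^ (k : ℕ) + (-1 : ℤ) ^ (k : ℕ)) • Xt α k = 0 := by
      rw [neg_add_cancel, zero_smul]
    exact (add_zsmul _ _ _).symm.trans h0
  rw [Finset.sum_congr rfl (fun α _ => this α), Finset.sum_const_zero, add_zero]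

end Groth.Agent.S19193
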