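import Groth.Statements.S19196
import Mathlib.RingTheory.Ideal.MinimalPrime.Noetherian
import Mathlib.RingTheory.Ideal.Operations

set_option autoImplicit false
universe u
open RelS1

namespace Groth.Agent.S19196

/-- Let R be a Noetherian commutative ring and N a finitely generated R-module which fails Serre's
condition (S_1), in the sense that some associated prime of N is not a minimal prime of the
annihilator of N. Then there exist an element a of R lying in no minimal prime of the annihilator of
N and a nonzero element b of N with a • b = 0; thus the basic open set D(a) meets the support of N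
densely while restriction to it is not injective on N. -/
theorem result (R N : Type u) [CommRing R] [IsNoetherianRing R]
    [AddCommGroup N] [Module R N] [Module.Finite R N]
    (h : ¬ associatedPrimes R N ⊆ (Module.annihilator R N).minimalPrimes) :
    ∃ (a : R) (b : N), (∀ P ∈ (Module.annihilator R N).minimalPrimes, a ∉ P) ∧ b ≠ 0 ∧ a • b = 0 := by
  rw [Set.not_subset] at h
  obtain ⟨P, hP, hPmin⟩ := h
  have hP' : IsAssociatedPrime P N := hP
  obtain ⟨hPprime, x, hx⟩ := isAssociatedPrime_iff.1 hP'
  have hann : Module.annihilator R N ≤ P := by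
    intro r hr
    rw [hx, Submodule.mem_colon_singleton]
    simp [Module.mem_annihilator.1 hr x]
  have hfin := Ideal.finite_minimalPrimes_of_isNoetherianRing R (Module.annihilator R N)
  have hnot : ¬ ((P : Set R) ⊆ ⋃ Q ∈ (hfin.toFinset : Set (Ideal R)), ((id Q : Ideal R) : Set R)) := by
    rw [Ideal.subset_union_prime (f := id) ⊥ ⊥ (fun Q hQ _ _ =>
      (hfin.mem_toFinset.1 hQ).1.1)]
    rintro ⟨Q, hQ, hPQ⟩
    have hQ' : Q ∈ (Module.annihilator R N).minimalPrimes := hfin.mem_toFinset.1 hQ
    have hQP : Q ≤ P := hQ'.2 ⟨hPprime, hann⟩ hPQ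
    have hPQ' : P = Q := le_antisymm hPQ hQP
    exact hPmin (hPQ' ▸ hQ')
  rw [Set.not_subset] at hnot
  obtain ⟨a, haP, ha⟩ := hnot
  refine ⟨a, x, ?_, ?_, ?_⟩
  · intro Q hQ haQ
    apply ha
    simp only [Set.mem_iUnion, Finset.mem_coe, SetLike.mem_coe, id]
    exact ⟨Q, hfin.mem_toFinset.2 hQ, haQ⟩
  · rintro rfl
    apply hPprime.ne_top
    rw [hx]
    ext r
    simp [Submodule.mem_colon_singleton]
  · have haP' : a ∈ P := haP
    rw [hx, Submodule.mem_colon_singleton] at haP'
    simpa using haP'

end Groth.Agent.S19196
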