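import Groth.Statements.S19208
import Groth.Agent.Lib.Helper2.SamuelPoly

set_option autoImplicit false
universe u
open Filter
open LocAlg

namespace Groth.Agent.S19208

/-- Let O be a Noetherian local ring of Krull dimension r containing a field, with maximal ideal m. The
zeroth flat multiplicity e_0(O), the supremum over m-primary ideals I of e(I)/(r!·length(O/I)) with
e(I) the Samuel multiplicity, is at least 1: for every ε > 0 there is an m-primary ideal I (I ⊆ m,
m^N ⊆ I for some N) whose multiplicity e(I), the limit of r!·length(O/I^n)/n^r, satisfies e(I) ≥ (1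
− ε)·r!·length(O/I). (The same statement for the power-series rings O[[t_1, …, t_k]] is the bound
e_k(O) ≥ 1 for the k-th flat multiplicity.) -/
theorem result (O : Type u) [CommRing O] [IsNoetherianRing O]
    [IsLocalRing O] (K : Type u) [Field K] [Algebra K O] (r : ℕ) (hr : ringKrullDim O = r)
    (ε : ℝ) (hε : 0 < ε) :
    ∃ (I : Ideal O) (e : ℝ), I ≤ IsLocalRing.maximalIdeal O ∧
      (∃ N : ℕ, IsLocalRing.maximalIdeal O ^ N ≤ I) ∧
      Tendsto (fun n : ℕ => (r.factorial : ℝ) * ((Module.length O (O ⧸ I ^ n)).toNat : ℝ) / (n : ℝ) ^ r)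
        atTop (nhds e) ∧
      (1 - ε) * ((r.factorial : ℝ) * ((Module.length O (O ⧸ I)).toNat : ℝ)) ≤ e := by
  classical
  haveI : Finite (MaximalSpectrum O) := inferInstance
  have hjac : Ring.jacobson O = IsLocalRing.maximalIdeal O :=
    Groth.Agent.Lib.Helper2.SamuelI.jacobson_eq_maximalIdeal
  set m := IsLocalRing.maximalIdeal O with hm
  have hdim : Module.supportDim O O = r := by
    rw [Module.supportDim_self_eq_ringKrullDim, hr]
  obtain ⟨e₁, he₁, hlim⟩ := Groth.Agent.Lib.Helper2.SamuelPoly.exists_mult_pos m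
    ⟨1, by rw [pow_one, hjac]⟩ (by rw [hjac]) O r hdim
  have hconv : ∀ t : ℕ, Module.length O (O ⧸ (m ^ t • (⊤ : Submodule O O))) =
      Module.length O (O ⧸ m ^ t) := by
    intro t
    have : m ^ t • (⊤ : Submodule O O) = m ^ t := by
      rw [smul_eq_mul, Ideal.mul_top]
    rw [this]
  simp only [hconv] at hlim
  set g : ℕ → ℝ := fun t => (r.factorial : ℝ) * ((Module.length O (O ⧸ m ^ t)).toNat : ℝ) / (t : ℝ) ^ r
    with hg
  have he₁pos : 0 < e₁ := lt_of_lt_of_le one_pos he₁
  by_cases hε1 : 1 ≤ ε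
  · -- trivial: take I = m
    refine ⟨m, e₁, le_rfl, ⟨1, by rw [pow_one]⟩, hlim, ?_⟩
    have h1 : (1 - ε) * ((r.factorial : ℝ) * ((Module.length O (O ⧸ m)).toNat : ℝ)) ≤ 0 := by
      apply mul_nonpos_of_nonpos_of_nonneg (by linarith) (by positivity)
    linarith
  · push_neg at hε1
    have hδ : e₁ < e₁ / (1 - ε) := by
      rw [lt_div_iff₀ (by linarith)]
      nlinarith
    have hev : ∀ᶠ n in atTop, g n < e₁ / (1 - ε) := hlim.eventually (gt_mem_nhds hδ)
    obtain ⟨n, hn⟩ := (hev.and (eventually_ge_atTop 1)).exists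
    obtain ⟨hgn, hn1⟩ := hn
    have hnpos : (0 : ℝ) < (n : ℝ) := by exact_mod_cast hn1
    refine ⟨m ^ n, e₁ * (n : ℝ) ^ r, ?_, ⟨n, le_rfl⟩, ?_, ?_⟩
    · calc m ^ n ≤ m ^ 1 := Ideal.pow_le_pow_right hn1
        _ = m := pow_one _
    · -- the limit along the subsequence n * t
      have hsub : Tendsto (fun t : ℕ => n * t) atTop atTop :=
        Filter.tendsto_id.const_mul_atTop' (by omega)
      have h2 := (hlim.comp hsub).mul_const ((n : ℝ) ^ r)
      refine h2.congr' ?_
      filter_upwards [eventually_ge_atTop 1] with t ht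
      have htpos : (0 : ℝ) < (t : ℝ) := by exact_mod_cast ht
      simp only [Function.comp, hg]
      rw [← pow_mul]
      push_cast
      field_simp
      ring
    · have h3 : g n * (1 - ε) < e₁ := by
        rw [lt_div_iff₀ (by linarith)] at hgn
        exact hgn
      simp only [hg] at h3
      rw [div_mul_eq_mul_div, div_lt_iff₀ (by positivity)] at h3
      nlinarith

end Groth.Agent.S19208
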