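import Groth.Statements.S19210
import Mathlib.Tactic

set_option autoImplicit false
universe u
open LocAlg

namespace Groth.Agent.S19210

lemma pow_diff_bounds (t : ℝ) (ht : 0 ≤ t) (j : ℕ) :
    ((j : ℝ) + 1) * t ^ j ≤ (t + 1) ^ (j + 1) - t ^ (j + 1) ∧
    (t + 1) ^ (j + 1) - t ^ (j + 1) ≤ ((j : ℝ) + 1) * (t + 1) ^ j := by
  have h := geom_sum₂_mul (t + 1) t (j + 1)
  rw [add_sub_cancel_left, mul_one] at h
  rw [← h]
  simp only [Nat.add_sub_cancel]
  constructor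
  · calc ((j : ℝ) + 1) * t ^ j = ∑ i ∈ Finset.range (j + 1), t ^ j := by
          rw [Finset.sum_const, Finset.card_range, nsmul_eq_mul]; push_cast; ring
      _ ≤ ∑ i ∈ Finset.range (j + 1), (t + 1) ^ i * t ^ (j - i) := by
          apply Finset.sum_le_sum
          intro i hi
          rw [Finset.mem_range] at hi
          have : t ^ j = t ^ i * t ^ (j - i) := by rw [← pow_add]; congr 1; omega
          rw [this]
          apply mul_le_mul_of_nonneg_right _ (pow_nonneg ht _)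
          exact pow_le_pow_left₀ ht (by linarith) i
  · calc ∑ i ∈ Finset.range (j + 1), (t + 1) ^ i * t ^ (j - i)
        ≤ ∑ i ∈ Finset.range (j + 1), (t + 1) ^ j := by
          apply Finset.sum_le_sum
          intro i hi
          rw [Finset.mem_range] at hi
          have : (t + 1) ^ j = (t + 1) ^ i * (t + 1) ^ (j - i) := by rw [← pow_add]; congr 1; omega
          rw [this]
          apply mul_le_mul_of_nonneg_left _ (pow_nonneg (by linarith) _)
          exact pow_le_pow_left₀ ht (by linarith) (j - i)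
      _ = ((j : ℝ) + 1) * (t + 1) ^ j := by
          rw [Finset.sum_const, Finset.card_range, nsmul_eq_mul]; push_cast; ring

lemma base (j n : ℕ) :
    0 ≤ (n : ℝ) ^ (j + 1) / ((j : ℝ) + 1) - ∑ i ∈ Finset.range n, (i : ℝ) ^ j ∧
    (n : ℝ) ^ (j + 1) / ((j : ℝ) + 1) - ∑ i ∈ Finset.range n, (i : ℝ) ^ j ≤ (n : ℝ) ^ j := by
  have hj : (0 : ℝ) < (j : ℝ) + 1 := by positivity
  induction n with
  | zero =>
    simp only [Nat.cast_zero, Finset.range_zero, Finset.sum_empty, sub_zero]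
    rw [zero_pow (by omega), zero_div]
    exact ⟨le_rfl, by positivity⟩
  | succ n ih =>
    obtain ⟨h1, h2⟩ := pow_diff_bounds (n : ℝ) (Nat.cast_nonneg n) j
    rw [Finset.sum_range_succ]
    push_cast
    have e : ((n : ℝ) + 1) ^ (j + 1) / ((j : ℝ) + 1) - (∑ i ∈ Finset.range n, (i : ℝ) ^ j + (n : ℝ) ^ j)
        = ((n : ℝ) ^ (j + 1) / ((j : ℝ) + 1) - ∑ i ∈ Finset.range n, (i : ℝ) ^ j)
          + ((((n : ℝ) + 1) ^ (j + 1) - (n : ℝ) ^ (j + 1)) / ((j : ℝ) + 1) - (n : ℝ) ^ j) := by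
      field_simp
      ring
    rw [e]
    have h3 : (n : ℝ) ^ j ≤ (((n : ℝ) + 1) ^ (j + 1) - (n : ℝ) ^ (j + 1)) / ((j : ℝ) + 1) := by
      rw [le_div_iff₀ hj]; linarith
    have h4 : (((n : ℝ) + 1) ^ (j + 1) - (n : ℝ) ^ (j + 1)) / ((j : ℝ) + 1) ≤ ((n : ℝ) + 1) ^ j := by
      rw [div_le_iff₀ hj]; linarith
    constructor
    · linarith [ih.1]
    · linarith [ih.2]

/-- beta coefficient -/
noncomputable def β (a j : ℕ) : ℝ := (a.factorial : ℝ) * (j.factorial : ℝ) / ((a + j + 1).factorial : ℝ)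

lemma β_succ (a j : ℕ) : β (a + 1) j = β a j - β a (j + 1) := by
  unfold β
  have e1 : a + 1 + j + 1 = (a + j + 1) + 1 := by ring
  have e2 : a + (j + 1) + 1 = (a + j + 1) + 1 := by ring
  rw [e1, e2, Nat.factorial_succ (a + j + 1), Nat.factorial_succ a, Nat.factorial_succ j]
  have h1 : ((a + j + 1).factorial : ℝ) ≠ 0 := by exact_mod_cast (a + j + 1).factorial_ne_zero
  push_cast
  field_simp
  ring

lemma main (a : ℕ) : ∀ j : ℕ, ∃ C : ℝ, 0 ≤ C ∧ ∀ n : ℕ,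
    |(∑ i ∈ Finset.range n, ((n : ℝ) - (i : ℝ)) ^ a * (i : ℝ) ^ j) - β a j * (n : ℝ) ^ (a + j + 1)|
      ≤ C * (n : ℝ) ^ (a + j) := by
  induction a with
  | zero =>
    intro j
    refine ⟨1, zero_le_one, fun n => ?_⟩
    obtain ⟨h1, h2⟩ := base j n
    have hβ : β 0 j * (n : ℝ) ^ (0 + j + 1) = (n : ℝ) ^ (j + 1) / ((j : ℝ) + 1) := by
      unfold β
      rw [zero_add, Nat.factorial_succ, Nat.factorial_zero]
      have : (j.factorial : ℝ) ≠ 0 := by exact_mod_cast j.factorial_ne_zero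
      push_cast
      field_simp
    simp only [pow_zero, one_mul]
    rw [hβ, zero_add, abs_sub_comm, abs_of_nonneg h1]
    linarith
  | succ a ih =>
    intro j
    obtain ⟨C1, hC1, h1⟩ := ih j
    obtain ⟨C2, hC2, h2⟩ := ih (j + 1)
    refine ⟨C1 + C2, by linarith, fun n => ?_⟩
    have hsplit : (∑ i ∈ Finset.range n, ((n : ℝ) - (i : ℝ)) ^ (a + 1) * (i : ℝ) ^ j)
        = (n : ℝ) * (∑ i ∈ Finset.range n, ((n : ℝ) - (i : ℝ)) ^ a * (i : ℝ) ^ j)
          - ∑ i ∈ Finset.range n, ((n : ℝ) - (i : ℝ)) ^ a * (i : ℝ) ^ (j + 1) := by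
      rw [Finset.mul_sum, ← Finset.sum_sub_distrib]
      apply Finset.sum_congr rfl
      intro i _
      ring
    have e : (∑ i ∈ Finset.range n, ((n : ℝ) - (i : ℝ)) ^ (a + 1) * (i : ℝ) ^ j)
          - β (a + 1) j * (n : ℝ) ^ (a + 1 + j + 1)
        = (n : ℝ) * ((∑ i ∈ Finset.range n, ((n : ℝ) - (i : ℝ)) ^ a * (i : ℝ) ^ j)
            - β a j * (n : ℝ) ^ (a + j + 1))
          - ((∑ i ∈ Finset.range n, ((n : ℝ) - (i : ℝ)) ^ a * (i : ℝ) ^ (j + 1))
            - β a (j + 1) * (n : ℝ) ^ (a + (j + 1) + 1)) := by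
      rw [hsplit, β_succ]
      have : a + 1 + j + 1 = (a + j + 1) + 1 := by ring
      rw [this, show a + (j + 1) + 1 = (a + j + 1) + 1 by ring, pow_succ (n : ℝ) (a + j + 1)]
      ring
    rw [e]
    have hn : (0 : ℝ) ≤ n := Nat.cast_nonneg n
    calc |(n : ℝ) * ((∑ i ∈ Finset.range n, ((n : ℝ) - (i : ℝ)) ^ a * (i : ℝ) ^ j)
            - β a j * (n : ℝ) ^ (a + j + 1))
          - ((∑ i ∈ Finset.range n, ((n : ℝ) - (i : ℝ)) ^ a * (i : ℝ) ^ (j + 1))
            - β a (j + 1) * (n : ℝ) ^ (a + (j + 1) + 1))|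
        ≤ |(n : ℝ) * ((∑ i ∈ Finset.range n, ((n : ℝ) - (i : ℝ)) ^ a * (i : ℝ) ^ j)
            - β a j * (n : ℝ) ^ (a + j + 1))|
          + |((∑ i ∈ Finset.range n, ((n : ℝ) - (i : ℝ)) ^ a * (i : ℝ) ^ (j + 1))
            - β a (j + 1) * (n : ℝ) ^ (a + (j + 1) + 1))| := abs_sub _ _
      _ ≤ (n : ℝ) * (C1 * (n : ℝ) ^ (a + j)) + C2 * (n : ℝ) ^ (a + (j + 1)) := by
          rw [abs_mul, abs_of_nonneg hn]
          exact add_le_add (mul_le_mul_of_nonneg_left (h1 n) hn) (h2 n)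
      _ = (C1 + C2) * (n : ℝ) ^ (a + 1 + j) := by
          rw [show a + (j + 1) = (a + j) + 1 by ring, show a + 1 + j = (a + j) + 1 by ring, pow_succ]
          ring


/-- For natural numbers j ≤ r, the sums Σ_{i=0}^{n−1} (n − i)^{r−j} i^j equal n^{r+1}·(r − j)!·j!/(r +
1)! up to O(n^r): there is a real constant C with |Σ_{i<n} (n − i)^{r−j} i^j − ((r − j)!·j!/(r +
1)!)·n^{r+1}| ≤ C·n^r for all n ≥ 1. -/
theorem result (r j : ℕ) (hj : j ≤ r) :
    ∃ C : ℝ, ∀ n : ℕ, 1 ≤ n →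
      |(∑ i ∈ Finset.range n, ((n : ℝ) - (i : ℝ)) ^ (r - j) * (i : ℝ) ^ j) -
          ((r - j).factorial : ℝ) * (j.factorial : ℝ) / ((r + 1).factorial : ℝ) * (n : ℝ) ^ (r + 1)| ≤
        C * (n : ℝ) ^ r := by
  obtain ⟨a, rfl⟩ := Nat.exists_eq_add_of_le hj
  rw [Nat.add_sub_cancel_left]
  obtain ⟨C, _, hC⟩ := main a j
  refine ⟨C, fun n _ => ?_⟩
  have := hC n
  unfold β at this
  rw [show a + j + 1 = j + a + 1 by ring, show a + j = j + a by ring] at this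
  exact this

end Groth.Agent.S19210
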