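import Groth.Statements.S19222
-- import your own Groth.Agent.* helpers here
import Groth.Agent.Lib.Helper23.FinPushExact
import Groth.Agent.Lib.Helper23.ExtAdj
import Groth.Agent.Lib.Helper23.HensProj
import Groth.Agent.S0101
import Groth.Prelude.Def_EtCore

set_option autoImplicit false
universe u
open CategoryTheory AlgebraicGeometry
open EtBase

namespace Groth.Agent.S19222

/-- Let R be a strictly henselian local ring (henselian, with separably closed residue field), let X be
a scheme finite over Spec R and let F be an abelian étale sheaf on X. Then H^j(X_et, F) = 0 for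
every j ≥ 1. (The source states this vanishing for the schemes X ×_R Y ×_R ⋯ ×_R Y with Y a further
finite R-scheme; these are again finite over R, so the present form is the whole content.) -/
theorem result (R : Type u) [CommRing R] [HenselianLocalRing R]
    [IsSepClosed (IsLocalRing.ResidueField R)] (X : Scheme.{u}) (f : X ⟶ Spec (CommRingCat.of R)) [IsFinite f]
    (F : EtCoh.Ab X) (j : ℕ) (hj : 1 ≤ j) : Subsingleton (EtCoh.H X F j) := by
  classical
  obtain ⟨n, rfl⟩ : ∃ n, j = n + 1 := ⟨j - 1, by omega⟩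
  let Y := Spec (CommRingCat.of R)
  haveI : Limits.PreservesFiniteLimits (EtCoh.pull f) := Groth.Agent.S0101.result f
  let ZY : EtCoh.Ab Y := (constantSheaf Y.smallEtaleTopology AddCommGrpCat.{u+1}).obj
    (AddCommGrpCat.of (ULift.{u+1} ℤ))
  let ZX : EtCoh.Ab X := (constantSheaf X.smallEtaleTopology AddCommGrpCat.{u+1}).obj
    (AddCommGrpCat.of (ULift.{u+1} ℤ))
  let i : (EtCoh.pull f).obj ZY ≅ ZX := (EtCore.pullConstIso f).app _
  have hbij := Groth.Agent.Lib.Helper23.ExtAdj.extAdj_bijective (EtCoh.pullPushAdj f) ZY (n + 1) F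
    (fun q hq => by
      obtain ⟨m, rfl⟩ : ∃ m, q = m + 1 := ⟨q - 1, by omega⟩
      exact Groth.Agent.Lib.Helper23.FinPushExact.isZero_rightDerived_of_exact (EtCoh.push f) m F)
  haveI h0 : Subsingleton (EtCoh.H Y ((EtCoh.push f).obj F) (n + 1)) :=
    Groth.Agent.Lib.Helper23.HensProj.H_subsingleton R _ (n + 1) (by omega)
  have h1 : ∀ y : Abelian.Ext ((EtCoh.pull f).obj ZY) F (n + 1), y = 0 := by
    intro y
    obtain ⟨x, rfl⟩ := hbij.2 y
    have : x = 0 := Subsingleton.elim _ _
    rw [this, map_zero]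
  refine subsingleton_of_forall_eq 0 (fun x => ?_)
  have h2 : x = (Abelian.Ext.mk₀ i.inv).comp ((Abelian.Ext.mk₀ i.hom).comp x (zero_add _))
      (zero_add _) := by
    rw [← Abelian.Ext.comp_assoc_of_second_deg_zero, Abelian.Ext.mk₀_comp_mk₀, Iso.inv_hom_id,
      Abelian.Ext.mk₀_id_comp]
  rw [h2, h1 ((Abelian.Ext.mk₀ i.hom).comp x (zero_add _)), Abelian.Ext.comp_zero]

end Groth.Agent.S19222
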