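import Groth.Statements.S1923
import Groth.Agent.Lib.Helper18.Cyc.C1Core
import Groth.Agent.Lib.Helper18.Cyc.OrdTransfer
open Groth.Agent.Lib.Helper18.C1Core Groth.Agent.Lib.Helper18.CycDiv Groth.Agent.Lib.Helper18.InvStalk

set_option autoImplicit false
universe u
open CategoryTheory AlgebraicGeometry
open Cyc

namespace Groth.Agent.S1923

/-- Let X be integral with δ(η) = n, L an invertible O_X-module and s a global section of L whose germ
at η is nonzero. Then div_L(s) = [Z(s)]_{n−1} as (n − 1)-cycles, where s is viewed as a rational
section through its image in L(η). Here L(ξ) = L_ξ/𝔪_ξ L_ξ is the space of rational sections of L on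
the closure of ξ, div_{L|W}(s) and c_1(L) ∩ α are computed as coefficient functions from chosen
nonzero rational sections (Cyc.secDivFun, Cyc.c1CapFun), and results are compared up to rational
equivalence for any cycles with those coefficients. A pair (X, δ) with Cyc.IsSetup plays the role of
a scheme locally of finite type over a fixed base with a dimension function (X locally Noetherian
with universally catenary local rings, δ a dimension function), and Cyc.DeltaCompat records that the
dimension function upstairs is the induced one. -/
theorem result (X : Scheme.{u}) [IsIntegral X] (δ : X → ℤ) (hX : Cyc.IsSetup X δ) (n : ℤ) (hn : δ (genericPoint X) = n) (L : X.Modules) (hL : PicF.IsInvertible L) (s : L.presheaf.obj (Opposite.op ⊤)) (hs : (L.presheaf.germ ⊤ (genericPoint X) trivial) s ≠ 0) : Cyc.secDivFun δ L (genericPoint X) (Submodule.Quotient.mk ((L.presheaf.germ ⊤ (genericPoint X) trivial) s)) = Cyc.zeroSectionFun δ (n - 1) L s := by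
  classical
  haveI : IsLocallyNoetherian X := hX.1
  funext x
  have hηx : genericPoint X ⤳ x := genericPoint_specializes x
  unfold Cyc.secDivFun Cyc.zeroSectionFun
  by_cases hδ : δ x = n - 1
  · have hc : genericPoint X ⤳ x ∧ δ x + 1 = δ (genericPoint X) :=
      ⟨hηx, by rw [hn, hδ]; ring⟩
    rw [dif_pos hc, if_pos hδ]
    have ht := exists_span_eq_top L hL x
    rw [dif_pos ht]
    have hfree := freeGen_of_span_eq_top L hL (Classical.choose_spec ht)
    have hf : ∃ f : X.presheaf.stalk x,
        (L.presheaf.germ ⊤ x trivial) s = f • Classical.choose ht := hfree.exists_smul _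
    rw [dif_pos hf]
    have h1 : (L.presheaf.germ ⊤ (genericPoint X) trivial) s =
        L.presheaf.stalkSpecializes hηx (Classical.choose hf • Classical.choose ht) := by
      rw [← Classical.choose_spec hf]
      exact (TopCat.Presheaf.germ_stalkSpecializes_apply L.presheaf (U := ⊤) (y := x) (x := genericPoint X) trivial hηx s).symm
    rw [h1, secOrdAt_mk_stalkSpecializes_smul L hL hηx ht]
    have hk := ker_specMap_eq_bot hηx rfl
    have hd := krullDimLE_one_locQuot δ hX.2.2 hηx hc.2
    have hf0 : Cyc.specMap x (genericPoint X) hηx (Classical.choose hf) ≠ 0 := by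
      intro h0
      have hker : Classical.choose hf ∈ RingHom.ker (Cyc.specMap x (genericPoint X) hηx) :=
        RingHom.mem_ker.2 h0
      rw [hk, Ideal.mem_bot] at hker
      apply hs
      rw [h1, hker, zero_smul, map_zero]
    rw [ordAt_specMap hηx hd _ hf0]
    congr 2
    exact (ord_eq_of_ringEquiv (stalkEquivLocQuot hηx hk) (Classical.choose hf)).symm
  · rw [if_neg hδ, dif_neg]
    rintro ⟨-, h2⟩
    apply hδ
    rw [hn] at h2
    linarith

end Groth.Agent.S1923
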