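import Groth.Statements.S1924
import Groth.Agent.Lib.Helper18.Cyc.C1Closed
open Groth.Agent.Lib.Helper18.C1Core Groth.Agent.Lib.Helper18.CycDiv Groth.Agent.Lib.Helper18.InvStalk Groth.Agent.Lib.Helper28.PullbackInv

set_option autoImplicit false
universe u
open CategoryTheory AlgebraicGeometry
open Cyc

namespace Groth.Agent.S1924

/-- Let L be invertible on X, ι : Y → X a closed immersion with δ ≤ k + 1 on Y, and s a global section
of L|_Y = ι^*L such that the points of its zero locus have δ ≤ k and, at every such point ξ with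
δ(ξ) = k, multiplication by the germ of s is injective on O_{Y,ξ}. Then c_1(L) ∩ [Y]_{k+1} ∼_rat
ι_*[Z(s)]_k as k-cycles on X (for any nonzero rational sections used to compute the left side and
any cycle on Y with the coefficients of [Z(s)]_k). Here L(ξ) = L_ξ/𝔪_ξ L_ξ is the space of rational
sections of L on the closure of ξ, div_{L|W}(s) and c_1(L) ∩ α are computed as coefficient functions
from chosen nonzero rational sections (Cyc.secDivFun, Cyc.c1CapFun), and results are compared up to
rational equivalence for any cycles with those coefficients. A pair (X, δ) with Cyc.IsSetup plays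
the role of a scheme locally of finite type over a fixed base with a dimension function (X locally
Noetherian with universally catenary local rings, δ a dimension function), and Cyc.DeltaCompat
records that the dimension function upstairs is the induced one. -/
theorem result (X Y : Scheme.{u}) (δ : X → ℤ) (hX : Cyc.IsSetup X δ) (L : X.Modules) (hL : PicF.IsInvertible L) (ι : Y ⟶ X) [IsClosedImmersion ι] (k : ℤ) (hY : ∀ y : Y, δ (ι y) ≤ k + 1) (s : ((Scheme.Modules.pullback ι).obj L).presheaf.obj (Opposite.op ⊤)) (hZ : ∀ y : Y, (((Scheme.Modules.pullback ι).obj L).presheaf.germ ⊤ y trivial) s ∈ IsLocalRing.maximalIdeal (Y.presheaf.stalk y) • (⊤ : Submodule (Y.presheaf.stalk y) (((Scheme.Modules.pullback ι).obj L).presheaf.stalk y)) → δ (ι y) ≤ k) (hreg : ∀ y : Y, δ (ι y) = k → Function.Injective (fun a : Y.presheaf.stalk y => a • (((Scheme.Modules.pullback ι).obj L).presheaf.germ ⊤ y trivial) s)) (v : (ξ : X) → Cyc.secFibre L ξ) (hv : ∀ ξ, v ξ ≠ 0) (γ : AlgebraicCycle X ℤ) (hγ : ⇑γ = Cyc.c1CapFun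 δ L (Cyc.subschemeFun δ (k + 1) ι) v) (ζ : AlgebraicCycle Y ℤ) (hζ : ⇑ζ = Cyc.zeroSectionFun (fun y => δ (ι y)) k ((Scheme.Modules.pullback ι).obj L) s) : Cyc.RatEquiv δ k γ (AlgebraicCycle.map ι (fun y => δ (ι y)) δ ζ) := by
  classical
  haveI : IsLocallyNoetherian X := hX.1
  have hδ := hX.2.2
  haveI : IsLocallyNoetherian Y := LocallyOfFiniteType.isLocallyNoetherian ι
  have hδY : Cyc.IsDimFun Y (fun y => δ (ι y)) := isDimFun_comp_of_isClosedImmersion ι δ hδ
  have hM : PicF.IsInvertible ((Scheme.Modules.pullback ι).obj L) := isInvertible_pullback ι hL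
  have hinj : Function.Injective ι := ι.isClosedEmbedding.injective
  have hres : ∀ z, Function.Surjective (ι.residueFieldMap z).hom := fun z =>
    (residueFieldMap_bijective_of_surjective ι z (ι.stalkMap_surjective z)).2
  -- the sections on `Y`
  let w : (y : Y) → Cyc.secFibre ((Scheme.Modules.pullback ι).obj L) y :=
    fun y => pullSec ι L y (v (ι y))
  have hw : ∀ y, w y ≠ 0 := fun y => pullSec_ne_zero ι hL y _ (hv _)
  let w₀ : (y : Y) → Cyc.secFibre ((Scheme.Modules.pullback ι).obj L) y := fun y =>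
    if (Submodule.Quotient.mk ((((Scheme.Modules.pullback ι).obj L).presheaf.germ ⊤ y trivial) s) :
      Cyc.secFibre ((Scheme.Modules.pullback ι).obj L) y) ≠ 0 then
      Submodule.Quotient.mk ((((Scheme.Modules.pullback ι).obj L).presheaf.germ ⊤ y trivial) s)
    else w y
  have hw₀ : ∀ y, w₀ y ≠ 0 := by
    intro y
    by_cases h : (Submodule.Quotient.mk
        ((((Scheme.Modules.pullback ι).obj L).presheaf.germ ⊤ y trivial) s) :
        Cyc.secFibre ((Scheme.Modules.pullback ι).obj L) y) ≠ 0
    · have e : w₀ y = Submodule.Quotient.mk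
          ((((Scheme.Modules.pullback ι).obj L).presheaf.germ ⊤ y trivial) s) := if_pos h
      rw [e]
      exact h
    · have e : w₀ y = w y := if_neg h
      rw [e]
      exact hw y
  have hβk : ∀ ξ : Y, Cyc.subschemeFun (fun y => δ (ι y)) (k + 1) (𝟙 Y) ξ ≠ 0 →
      δ (ι ξ) = k + 1 := by
    intro ξ hξ
    by_contra hne
    apply hξ
    unfold Cyc.subschemeFun
    rw [if_neg hne]
  -- `ζ` computed with nonvanishing sections
  have hζ' : ∀ y, ζ y = Cyc.c1CapFun (fun y => δ (ι y)) ((Scheme.Modules.pullback ι).obj L)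
      (Cyc.subschemeFun (fun y => δ (ι y)) (k + 1) (𝟙 Y)) w₀ y := by
    intro y
    rw [hζ, zeroSectionFun_eq_c1CapFun Y (fun y => δ (ι y)) hδY _ hM k hY s hreg]
    show ∑ᶠ ξ : Y, _ * _ = ∑ᶠ ξ : Y, _ * _
    apply finsum_congr
    intro ξ
    by_cases hβξ : Cyc.subschemeFun (fun y => δ (ι y)) (k + 1) (𝟙 Y) ξ = 0
    · rw [hβξ, zero_mul, zero_mul]
    · have hξk := hβk ξ hβξ
      have hne : (Submodule.Quotient.mk
          ((((Scheme.Modules.pullback ι).obj L).presheaf.germ ⊤ ξ trivial) s) :
          Cyc.secFibre ((Scheme.Modules.pullback ι).obj L) ξ) ≠ 0 := by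
        intro h0
        have := hZ ξ ((Submodule.Quotient.mk_eq_zero _).1 h0)
        omega
      have hw₀ξ : w₀ ξ = Submodule.Quotient.mk
          ((((Scheme.Modules.pullback ι).obj L).presheaf.germ ⊤ ξ trivial) s) := if_pos hne
      rw [hw₀ξ]
  -- the fundamental cycle of `Y` on `X`
  have hβ : ∀ z, Cyc.subschemeFun δ (k + 1) ι (ι z) =
      Cyc.subschemeFun (fun y => δ (ι y)) (k + 1) (𝟙 Y) z := by
    intro z
    unfold Cyc.subschemeFun
    have hs1 : {z' : Y | ι z' = ι z} = {z} := by
      ext z'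
      simp only [Set.mem_setOf_eq, Set.mem_singleton_iff]
      exact ⟨fun h => hinj h, fun h => by rw [h]⟩
    have hs2 : {z' : Y | (𝟙 Y : Y ⟶ Y) z' = z} = {z} := by
      ext z'
      simp
    rw [hs1, hs2]
  have hβ0 : ∀ x, x ∉ Set.range ι → Cyc.subschemeFun δ (k + 1) ι x = 0 := by
    intro x hx
    unfold Cyc.subschemeFun
    split_ifs
    · apply finsum_mem_eq_zero_of_forall_eq_zero
      intro z hz
      exact absurd ⟨z, hz⟩ hx
    · rfl
  obtain ⟨hc1, hc2⟩ := c1CapFun_closedImmersion ι δ hδ L hL _ _ hβ hβ0 v hv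
  -- the cycle on `Y`
  let Dγ : AlgebraicCycle Y ℤ :=
    { toFun := fun y => γ (ι y)
      supportWithinDomain' := Set.subset_univ _
      supportLocallyFiniteWithinDomain' := fun z _ =>
        locallyFiniteSupport_cycle_comp_of_injective ι hinj γ z }
  have hD : Cyc.RatEquivZero (fun y => δ (ι y)) k (Dγ - ζ) := by
    refine ratEquivZero_c1CapFun_sub _ hM (fun y => δ (ι y)) hδY k
      (Cyc.subschemeFun (fun y => δ (ι y)) (k + 1) (𝟙 Y)) hβk
      (locallyFiniteSupport_subschemeFun_id Y _ hδY k hY) w w₀ hw hw₀ (Dγ - ζ) ?_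
    intro y
    rw [Function.locallyFinsuppWithin.coe_sub, Pi.sub_apply, hζ' y]
    congr 1
    show γ (ι y) = _
    rw [hγ, hc1 y]
  unfold Cyc.RatEquiv
  refine ratEquivZero_push_closedImmersion ι δ k (Dγ - ζ) hD _ ?_ ?_
  · intro z
    rw [Function.locallyFinsuppWithin.coe_sub, Pi.sub_apply,
      Function.locallyFinsuppWithin.coe_sub, Pi.sub_apply,
      map_apply_of_injective ι hinj hres _ δ (fun _ => rfl) ζ z]
    rfl
  · intro x hx
    rw [Function.locallyFinsuppWithin.coe_sub, Pi.sub_apply,
      map_apply_of_notMem_range ι _ δ ζ x hx, hγ, hc2 x hx, sub_zero]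

end Groth.Agent.S1924
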