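import Groth.Statements.S1925
import Groth.Agent.Lib.Helper18.Cyc.C1Fund
open Groth.Agent.Lib.Helper18.C1Core Groth.Agent.Lib.Helper18.CycDiv Groth.Agent.Lib.Helper18.InvStalk

set_option autoImplicit false
universe u
open CategoryTheory AlgebraicGeometry
open Cyc

namespace Groth.Agent.S1925

/-- Let L be an invertible O_Y-module and s a global section of L; assume δ ≤ k + 1 on Y, δ ≤ k on the
zero locus of s, and multiplication by the germ of s injective on O_{Y,ξ} at the points ξ of
δ-dimension k. Writing [Y]_{k+1} = Σ n_i[Y_i] over the irreducible components of δ-dimension k + 1,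
one has [Z(s)]_k = Σ n_i [Z(s|_{Y_i})]_k as k-cycles on Y; here the right side is computed as c_1(L)
∩ [Y]_{k+1} with the rational sections induced by s. Here L(ξ) = L_ξ/𝔪_ξ L_ξ is the space of
rational sections of L on the closure of ξ, div_{L|W}(s) and c_1(L) ∩ α are computed as coefficient
functions from chosen nonzero rational sections (Cyc.secDivFun, Cyc.c1CapFun), and results are
compared up to rational equivalence for any cycles with those coefficients. A pair (X, δ) with
Cyc.IsSetup plays the role of a scheme locally of finite type over a fixed base with a dimension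
function (X locally Noetherian with universally catenary local rings, δ a dimension function), and
Cyc.DeltaCompat records that the dimension function upstairs is the induced one. -/
theorem result (Y : Scheme.{u}) (δ : Y → ℤ) (hY : Cyc.IsSetup Y δ) (L : Y.Modules) (hL : PicF.IsInvertible L) (k : ℤ) (hdim : ∀ y : Y, δ y ≤ k + 1) (s : L.presheaf.obj (Opposite.op ⊤)) (hZ : ∀ y : Y, (L.presheaf.germ ⊤ y trivial) s ∈ IsLocalRing.maximalIdeal (Y.presheaf.stalk y) • (⊤ : Submodule (Y.presheaf.stalk y) (L.presheaf.stalk y)) → δ y ≤ k) (hreg : ∀ y : Y, δ y = k → Function.Injective (fun a : Y.presheaf.stalk y => a • (L.presheaf.germ ⊤ y trivial) s)) : Cyc.zeroSectionFun δ k L s = Cyc.c1CapFun δ L (Cyc.subschemeFun δ (k + 1) (𝟙 Y)) (fun ξ => Submodule.Quotient.mk ((L.presheaf.germ ⊤ ξ trivial) s)) := by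
  classical
  haveI : IsLocallyNoetherian Y := hY.1
  have hδ := hY.2.2
  funext x
  -- points of dimension `k+1` are maximal
  have hmaxpt : ∀ ξ : Y, δ ξ = k + 1 → ∀ z : Y, z ⤳ ξ → z = ξ := by
    intro ξ hξ z hz
    by_contra hne
    have h1 := (hδ z ξ hz hne).1
    have h2 := hdim z
    omega
  show Cyc.zeroSectionFun δ k L s x = ∑ᶠ ξ : Y, Cyc.subschemeFun δ (k + 1) (𝟙 Y) ξ *
    Cyc.secDivFun δ L ξ (Submodule.Quotient.mk ((L.presheaf.germ ⊤ ξ trivial) s)) x
  by_cases hx : δ x = k
  · have ht := exists_span_eq_top L hL x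
    have hfree := freeGen_of_span_eq_top L hL (Classical.choose_spec ht)
    have hf : ∃ f : Y.presheaf.stalk x,
        (L.presheaf.germ ⊤ x trivial) s = f • Classical.choose ht := hfree.exists_smul _
    have hL1 : Cyc.zeroSectionFun δ k L s x =
        ((Ring.ord (Y.presheaf.stalk x) (Classical.choose hf)).toNat : ℤ) := by
      unfold Cyc.zeroSectionFun
      rw [if_pos hx, dif_pos ht, dif_pos hf]
      rfl
    have hnzd : Classical.choose hf ∈ nonZeroDivisors (Y.presheaf.stalk x) := by
      have hinj := hreg x hx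
      have key : ∀ a : Y.presheaf.stalk x, a * Classical.choose hf = 0 → a = 0 := by
        intro a ha
        apply hinj
        show a • (L.presheaf.germ ⊤ x trivial) s = (0 : Y.presheaf.stalk x) • (L.presheaf.germ ⊤ x trivial) s
        rw [zero_smul]
        conv_lhs => rw [Classical.choose_spec hf]
        rw [← mul_smul, ha, zero_smul]
      refine mem_nonZeroDivisors_iff.2 ⟨fun a ha => key a (by rw [mul_comm]; exact ha), key⟩
    have hub : ∀ y : Y, y ⤳ x → δ y ≤ δ x + 1 := fun y _ => by rw [hx]; exact hdim y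
    rw [hL1, ord_eq_finsum_maxIdx δ hδ x hub _ hnzd]
    -- reindex the right-hand side over the maximal points
    have hsupp : ∀ ξ ∈ Function.support (fun ξ : Y => Cyc.subschemeFun δ (k + 1) (𝟙 Y) ξ *
        Cyc.secDivFun δ L ξ (Submodule.Quotient.mk ((L.presheaf.germ ⊤ ξ trivial) s)) x),
        ξ ∈ (Set.univ : Set Y) ↔ ξ ∈ {ξ : Y | ∀ z : Y, z ⤳ ξ → z = ξ} := by
      intro ξ hξ
      refine ⟨fun _ => ?_, fun _ => trivial⟩
      apply hmaxpt
      by_contra hne
      apply hξ
      show Cyc.subschemeFun δ (k + 1) (𝟙 Y) ξ * _ = 0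
      unfold Cyc.subschemeFun
      rw [if_neg hne, zero_mul]
    have hR := finsum_mem_inter_support_eq' _ _ _ hsupp
    rw [finsum_mem_univ] at hR
    rw [hR]
    have hR2 := finsum_subtype_eq_finsum_cond (f := fun ξ : Y =>
      Cyc.subschemeFun δ (k + 1) (𝟙 Y) ξ *
        Cyc.secDivFun δ L ξ (Submodule.Quotient.mk ((L.presheaf.germ ⊤ ξ trivial) s)) x)
      (fun ξ : Y => ∀ z : Y, z ⤳ ξ → z = ξ)
    show _ = ∑ᶠ (ξ : Y) (_ : ∀ z : Y, z ⤳ ξ → z = ξ), _
    rw [← hR2]
    apply finsum_congr
    intro ξ
    show _ = Cyc.subschemeFun δ (k + 1) (𝟙 Y) ξ.1 *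
        Cyc.secDivFun δ L ξ.1 (Submodule.Quotient.mk ((L.presheaf.germ ⊤ ξ.1 trivial) s)) x
    unfold Cyc.secDivFun
    by_cases h : ξ.1 ⤳ x ∧ δ x + 1 = δ ξ.1
    · rw [dif_pos h, dif_pos h]
      have hξk : δ ξ.1 = k + 1 := by rw [← h.2, hx]
      have hsub : Cyc.subschemeFun δ (k + 1) (𝟙 Y) ξ.1 =
          ((Module.length (Y.presheaf.stalk ξ.1) (Y.presheaf.stalk ξ.1)).toNat : ℤ) := by
        unfold Cyc.subschemeFun
        rw [if_pos hξk]
        have hset : {z : Y | (𝟙 Y : Y ⟶ Y) z = ξ.1} = {ξ.1} := by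
          ext z
          simp
        rw [hset, finsum_mem_singleton]
      rw [hsub]
      congr 1
      have h1 : (L.presheaf.germ ⊤ ξ.1 trivial) s =
          L.presheaf.stalkSpecializes h.1 (Classical.choose hf • Classical.choose ht) := by
        rw [← Classical.choose_spec hf]
        exact (TopCat.Presheaf.germ_stalkSpecializes_apply L.presheaf (U := ⊤) (y := x)
          (x := ξ.1) trivial h.1 s).symm
      rw [h1, secOrdAt_mk_stalkSpecializes_smul L hL h.1 ht]
    · rw [dif_neg h, dif_neg h, mul_zero, mul_zero]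
  · have hL0 : Cyc.zeroSectionFun δ k L s x = 0 := by
      unfold Cyc.zeroSectionFun
      rw [if_neg hx]
    rw [hL0]
    symm
    apply finsum_eq_zero_of_forall_eq_zero
    intro ξ
    by_cases hξ : δ ξ = k + 1
    · have : Cyc.secDivFun δ L ξ (Submodule.Quotient.mk ((L.presheaf.germ ⊤ ξ trivial) s)) x = 0 := by
        unfold Cyc.secDivFun
        rw [dif_neg]
        rintro ⟨-, h2⟩
        apply hx
        omega
      rw [this, mul_zero]
    · have : Cyc.subschemeFun δ (k + 1) (𝟙 Y) ξ = 0 := by
        unfold Cyc.subschemeFun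
        rw [if_neg hξ]
      rw [this, zero_mul]

end Groth.Agent.S1925
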