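import Groth.Statements.S19269
import Mathlib.RingTheory.AdicCompletion.Exactness
import Mathlib.RingTheory.AdicCompletion.AsTensorProduct
import Mathlib.RingTheory.Filtration

set_option autoImplicit false
universe u
open CAlg

namespace Groth.Agent.S19269

open IsLocalRing in
/-- Let R be a Noetherian local ring with maximal ideal 𝔪, M a finitely generated R-module and M^ its
𝔪-adic completion, a module over the 𝔪-adic completion R^ of R. Let N' be an R^-submodule of M^ and
N an R-submodule of M whose image in M^ is contained in N' and is dense in N' for the 𝔪-adic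
topology, in the sense that for every y in N' and every k there is x in N with y ≡ x modulo the
kernel of M^ → M/𝔪^k M. Then N' equals the image of the completion of N under the map induced by the
inclusion N → M (so N' is the completion of N), and N is the set of elements of M whose image in M^
lies in N'. -/
theorem result {R : Type u} [CommRing R]
    [IsNoetherianRing R] [IsLocalRing R] {M : Type u} [AddCommGroup M] [Module R M]
    [Module.Finite R M] (N : Submodule R M)
    (N' : Submodule (AdicCompletion (maximalIdeal R) R) (AdicCompletion (maximalIdeal R) M))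
    (hle : ∀ x ∈ N, AdicCompletion.of (maximalIdeal R) M x ∈ N')
    (hdense : ∀ y ∈ N', ∀ k : ℕ, ∃ x ∈ N,
      AdicCompletion.eval (maximalIdeal R) M k y = Submodule.Quotient.mk x) :
    (N'.restrictScalars R =
        (LinearMap.range (AdicCompletion.map (maximalIdeal R) N.subtype)).restrictScalars R) ∧
      (∀ x : M, x ∈ N ↔ AdicCompletion.of (maximalIdeal R) M x ∈ N') := by
  have hex : Function.Exact (AdicCompletion.map (maximalIdeal R) N.subtype)
      (AdicCompletion.map (maximalIdeal R) N.mkQ) :=
    AdicCompletion.map_exact (I := maximalIdeal R) N.injective_subtype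
      (LinearMap.exact_subtype_mkQ N) N.mkQ_surjective
  refine ⟨?_, ?_⟩
  · ext y
    simp only [Submodule.restrictScalars_mem, LinearMap.mem_range]
    constructor
    · intro hy
      have := (hex y).mp ?_
      · exact this
      apply AdicCompletion.ext (fun k => ?_)
      obtain ⟨x, hxN, hx⟩ := hdense y hy k
      rw [AdicCompletion.eval_apply] at hx
      have hx0 : N.mkQ x = 0 := by simpa using hxN
      rw [AdicCompletion.map_val_apply, hx, AdicCompletion.val_zero_apply,
        LinearMap.reduceModIdeal_apply, hx0]
      simp
    · rintro ⟨z, rfl⟩
      obtain ⟨w, rfl⟩ := AdicCompletion.ofTensorProduct_surjective_of_finite (maximalIdeal R) N z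
      induction w using TensorProduct.induction_on with
      | zero => simp
      | tmul r x =>
        rw [AdicCompletion.ofTensorProduct_tmul, map_smul, AdicCompletion.map_of]
        exact N'.smul_mem r (hle x x.2)
      | add a b ha hb =>
        rw [map_add, map_add]
        exact N'.add_mem ha hb
  · intro x
    refine ⟨hle x, fun hx => ?_⟩
    have hbot := Ideal.iInf_pow_smul_eq_bot_of_isLocalRing (M := M ⧸ N) (maximalIdeal R)
      (Ideal.IsMaximal.ne_top inferInstance)
    have hmem : N.mkQ x ∈ (⨅ i : ℕ, maximalIdeal R ^ i • ⊤ : Submodule R (M ⧸ N)) := by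
      rw [Submodule.mem_iInf]
      intro k
      obtain ⟨x', hx'N, hx'⟩ := hdense _ hx k
      rw [AdicCompletion.eval_of] at hx'
      have h1 : x - x' ∈ (maximalIdeal R ^ k • ⊤ : Submodule R M) :=
        (Submodule.Quotient.eq _).mp hx'
      have h2 : N.mkQ x = N.mkQ (x - x') := by
        have hx0 : N.mkQ x' = 0 := by simpa using hx'N
        rw [map_sub, hx0, sub_zero]
      rw [h2]
      have h3 : (maximalIdeal R ^ k • ⊤ : Submodule R M).map N.mkQ ≤
          (maximalIdeal R ^ k • ⊤ : Submodule R (M ⧸ N)) := by
        rw [Submodule.map_smul'']
        exact smul_mono_right _ le_top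
      exact h3 ⟨_, h1, rfl⟩
    rw [hbot, Submodule.mem_bot] at hmem
    simpa using hmem

end Groth.Agent.S19269
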