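import Groth.Statements.S1927
import Groth.Agent.Lib.Helper18.Cyc.C1Pull
import Groth.Agent.Lib.Helper18.Cyc.LimRat
open Groth.Agent.Lib.Helper18.C1Core Groth.Agent.Lib.Helper18.CycDiv Groth.Agent.Lib.Helper18.InvStalk Groth.Agent.Lib.Helper28.PullbackInv Groth.Agent.Lib.Helper18.CycPull

set_option autoImplicit false
universe u
open CategoryTheory AlgebraicGeometry
open Cyc

namespace Groth.Agent.S1927

/-- Let f : X → Y be flat, locally of finite type, of relative dimension r, L an invertible O_Y-module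
and α a k-cycle on Y. Then f^*(c_1(L) ∩ α) ∼_rat c_1(f^*L) ∩ f^*α as (k + r − 1)-cycles on X, with
flat pullbacks taken coefficientwise and the two caps computed with any nonzero rational sections.
Here L(ξ) = L_ξ/𝔪_ξ L_ξ is the space of rational sections of L on the closure of ξ, div_{L|W}(s) and
c_1(L) ∩ α are computed as coefficient functions from chosen nonzero rational sections
(Cyc.secDivFun, Cyc.c1CapFun), and results are compared up to rational equivalence for any cycles
with those coefficients. A pair (X, δ) with Cyc.IsSetup plays the role of a scheme locally of finite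
type over a fixed base with a dimension function (X locally Noetherian with universally catenary
local rings, δ a dimension function), and Cyc.DeltaCompat records that the dimension function
upstairs is the induced one. -/
theorem result (X Y : Scheme.{u}) (δX : X → ℤ) (δY : Y → ℤ) (hX : Cyc.IsSetup X δX) (hY : Cyc.IsSetup Y δY) (f : X ⟶ Y) [Flat f] [LocallyOfFiniteType f] (r : ℕ) (hr : Cyc.HasRelDim f r) (hδ : Cyc.DeltaCompat f δX δY) (L : Y.Modules) (hL : PicF.IsInvertible L) (k : ℤ) (α : AlgebraicCycle Y ℤ) (hα : α ∈ Cyc.Zk Y δY k) (v : (η : Y) → Cyc.secFibre L η) (hv : ∀ η, v η ≠ 0) (u : (ξ : X) → Cyc.secFibre ((Scheme.Modules.pullback f).obj L) ξ) (hu : ∀ ξ, u ξ ≠ 0) (γ₁ γ₂ : AlgebraicCycle X ℤ) (h₁ : ⇑γ₁ = Cyc.pullFun f δX δY r (Cyc.c1CapFun δY L ⇑α v)) (h₂ : ⇑γ₂ = Cyc.c1CapFun δX ((Scheme.Modules.pullback f).obj L) (Cyc.pullFun f δX δY r ⇑α) u) : Cyc.RatEquiv δX (k + r - 1) γ₁ γ₂ := by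
  classical
  haveI : IsLocallyNoetherian X := hX.1
  haveI : IsLocallyNoetherian Y := hY.1
  have hdX := hX.2.2
  have hdY := hY.2.2
  have hM : PicF.IsInvertible ((Scheme.Modules.pullback f).obj L) := isInvertible_pullback f hL
  have hαlf : LocallyFiniteSupport ⇑α :=
    fun z => α.supportLocallyFiniteWithinDomain z (Set.mem_univ z)
  unfold Cyc.RatEquiv
  refine ratEquivZero_c1CapFun_sub _ hM δX hdX (k + r - 1) (Cyc.pullFun f δX δY r ⇑α) ?_
    (locallyFiniteSupport_pullFun f δX δY r α)
    (fun ξ' => pullSec f L ξ' (v (f ξ'))) u (fun ξ' => pullSec_ne_zero f hL ξ' _ (hv _)) hu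
    (γ₁ - γ₂) ?_
  · intro ξ hξ
    unfold Cyc.pullFun at hξ
    have h1 : δX ξ = δY (f ξ) + r := by
      by_contra h
      exact hξ (if_neg h)
    rw [if_pos h1] at hξ
    have h2 : α (f ξ) ≠ 0 := left_ne_zero_of_mul hξ
    have h3 : δY (f ξ) = k := by
      by_contra h
      exact h2 (hα (f ξ) h)
    rw [h1, h3]
    ring
  · intro x
    rw [Function.locallyFinsuppWithin.coe_sub, Pi.sub_apply, h₁, h₂]
    congr 1
    exact pullFun_c1CapFun f δX δY hdX hdY r
      (fun ξ g hg x => pullFun_divFun_gen f δX δY hdX hdY r hr hδ ξ g hg x)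
      (fun ξ ξ' => delta_fibIdx f δX δY r hr hδ ξ')
      (fun x h => isMax_fibre_of_delta f δX δY hdX r hr hδ x h)
      L hL ⇑α hαlf v hv x

end Groth.Agent.S1927
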