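import Groth.Statements.S19273
-- import your own Groth.Agent.* helpers here
import Mathlib.RingTheory.Etale.Kaehler
import Mathlib.RingTheory.Localization.Module
import Mathlib.LinearAlgebra.Basis.SMul

set_option autoImplicit false
universe u
open CAlg

namespace Groth.Agent.S19273

open KaehlerDifferential in
/-- Let A be an integral domain of prime characteristic p, x_1, …, x_N elements of A, r ≤ N, B =
A[1/(x_1⋯x_r)] with u_i the unit of B defined by x_i for i ≤ r, and suppose that the module Ω_A of
absolute Kähler differentials of A is free with a basis b indexed by {1, …, N} ⊔ ι whose i-th vector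
is d(x_i) for i ≤ N. Then the module of logarithmic 1-forms — the A-submodule of Ω_B spanned by the
image of Ω_A and the forms u_i⁻¹ · d(x_i), i ≤ r — is a free A-module: it has a basis indexed by {1,
…, N} ⊔ ι whose vector at i ≤ r is u_i⁻¹ · d(x_i), at r < i ≤ N is d(x_i), and at k ∈ ι is the image
of b_k. (In the published statement A is a regular local F-finite algebra over the prime field with
maximal ideal (x_1, …, x_N), the basis of Ω_A comes from the preceding lemma, and the assertion
covers the logarithmic q-forms for all q together with their identification with the log de Rham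
complex of the log ring; only the degree-one freeness is stated here, from the properties of A
actually used.) -/
theorem result (p : ℕ) [Fact p.Prime]
    {A B : Type u} [CommRing A] [IsDomain A] [CharP A p] [CommRing B] [Algebra A B] {r N : ℕ}
    (hr : r ≤ N) (x : Fin N → A) [IsLocalization.Away (∏ i : Fin r, x (Fin.castLE hr i)) B]
    (u : Fin r → Bˣ) (hu : ∀ i, (u i : B) = algebraMap A B (x (Fin.castLE hr i)))
    {ι : Type u} (b : Module.Basis (Fin N ⊕ ι) A (Ω[A⁄ℤ])) (hb : ∀ i, b (Sum.inl i) = D ℤ A (x i)) :
    ∃ e : Module.Basis (Fin N ⊕ ι) A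
        (W4c6katofilta.logForms1 (fun i : Fin r => x (Fin.castLE hr i)) u),
      (∀ i : Fin r, (e (Sum.inl (Fin.castLE hr i)) : Ω[B⁄ℤ]) =
          ((u i)⁻¹ : Bˣ) • KaehlerDifferential.map ℤ ℤ A B (D ℤ A (x (Fin.castLE hr i)))) ∧
      (∀ i : Fin N, r ≤ (i : ℕ) →
          (e (Sum.inl i) : Ω[B⁄ℤ]) = KaehlerDifferential.map ℤ ℤ A B (D ℤ A (x i))) ∧
      (∀ k : ι, (e (Sum.inr k) : Ω[B⁄ℤ]) = KaehlerDifferential.map ℤ ℤ A B (b (Sum.inr k))) := by
  classical
  -- the x_i are nonzero
  have hx : ∀ i : Fin N, x i ≠ 0 := by
    intro i h0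
    have h1 : b (Sum.inl i) = 0 := by rw [hb, h0, map_zero]
    exact b.ne_zero _ h1
  set π : A := ∏ i : Fin r, x (Fin.castLE hr i) with hπ
  have hπ0 : π ≠ 0 := Finset.prod_ne_zero_iff.mpr fun i _ => hx _
  have hinj : Function.Injective (algebraMap A B) :=
    IsLocalization.injective B (M := Submonoid.powers π)
      (Submonoid.powers_le.mpr (mem_nonZeroDivisors_of_ne_zero hπ0))
  -- the B-basis of Ω_B
  set bB : Module.Basis (Fin N ⊕ ι) B (Ω[B⁄ℤ]) :=
    b.ofIsLocalizedModule B (Submonoid.powers π) (KaehlerDifferential.map ℤ ℤ A B) with hbB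
  have hbB_apply : ∀ j, bB j = KaehlerDifferential.map ℤ ℤ A B (b j) := fun j =>
    b.ofIsLocalizedModule_apply B (Submonoid.powers π) (KaehlerDifferential.map ℤ ℤ A B) j
  -- the unit weights
  set w : Fin N ⊕ ι → Bˣ := fun j =>
    Sum.elim (fun i : Fin N => if h : (i : ℕ) < r then (u ⟨i, h⟩)⁻¹ else 1) (fun _ => 1) j with hw
  set bB' : Module.Basis (Fin N ⊕ ι) B (Ω[B⁄ℤ]) := bB.unitsSMul w with hbB'
  have hbB'_apply : ∀ j, bB' j = w j • bB j := fun j => Module.Basis.unitsSMul_apply j
  have hli : LinearIndependent A (fun j => bB' j) := by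
    refine LinearIndependent.restrict_scalars (K := B) ?_ bB'.linearIndependent
    intro a a' h
    apply hinj
    simpa [Algebra.smul_def] using h
  -- the span
  have hspan : W4c6katofilta.logForms1 (fun i : Fin r => x (Fin.castLE hr i)) u
      = Submodule.span A (Set.range fun j => bB' j) := by
    unfold W4c6katofilta.logForms1
    apply le_antisymm
    · rw [Submodule.span_le]
      rintro y (⟨ω, rfl⟩ | ⟨i, rfl⟩)
      · -- image of Ω_A
        have hω : ω ∈ Submodule.span A (Set.range b) := by rw [b.span_eq]; trivial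
        induction hω using Submodule.span_induction with
        | mem z hz =>
          obtain ⟨j, rfl⟩ := hz
          rcases j with i | k
          · by_cases h : (i : ℕ) < r
            · have h1 : bB' (Sum.inl i) = ((u ⟨i, h⟩)⁻¹ : Bˣ) • bB (Sum.inl i) := by
                rw [hbB'_apply]; simp only [hw, Sum.elim_inl, dif_pos h]
              have h2 : KaehlerDifferential.map ℤ ℤ A B (b (Sum.inl i))
                  = x i • bB' (Sum.inl i) := by
                rw [h1, ← hbB_apply, ← algebraMap_smul B (x i), Units.smul_def, smul_smul]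
                have h3 : algebraMap A B (x i) = (u ⟨i, h⟩ : B) := by
                  rw [hu]; rfl
                rw [h3, Units.mul_inv, one_smul]
              rw [h2]
              exact Submodule.smul_mem _ _ (Submodule.subset_span ⟨_, rfl⟩)
            · have h1 : bB' (Sum.inl i) = bB (Sum.inl i) := by
                rw [hbB'_apply]; simp only [hw, Sum.elim_inl, dif_neg h, one_smul]
              rw [← hbB_apply, ← h1]
              exact Submodule.subset_span ⟨_, rfl⟩
          · have h1 : bB' (Sum.inr k) = bB (Sum.inr k) := by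
              rw [hbB'_apply]; simp only [hw, Sum.elim_inr, one_smul]
            rw [← hbB_apply, ← h1]
            exact Submodule.subset_span ⟨_, rfl⟩
        | zero => rw [map_zero]; exact Submodule.zero_mem _
        | add z z' _ _ hz hz' => rw [map_add]; exact Submodule.add_mem _ hz hz'
        | smul a z _ hz => rw [map_smul]; exact Submodule.smul_mem _ a hz
      · have h : ((Fin.castLE hr i : Fin N) : ℕ) < r := by simp
        have h1 : bB' (Sum.inl (Fin.castLE hr i)) = ((u i)⁻¹ : Bˣ) • bB (Sum.inl (Fin.castLE hr i)) := by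
          rw [hbB'_apply]; simp only [hw, Sum.elim_inl, dif_pos h]
          rfl
        show ((u i)⁻¹ : Bˣ) • KaehlerDifferential.map ℤ ℤ A B (D ℤ A (x (Fin.castLE hr i))) ∈ _
        rw [← hb, ← hbB_apply, ← h1]
        exact Submodule.subset_span ⟨_, rfl⟩
    · rw [Submodule.span_le]
      rintro y ⟨j, rfl⟩
      rcases j with i | k
      · by_cases h : (i : ℕ) < r
        · have h1 : bB' (Sum.inl i) = ((u ⟨i, h⟩)⁻¹ : Bˣ) • bB (Sum.inl i) := by
            rw [hbB'_apply]; simp only [hw, Sum.elim_inl, dif_pos h]
          show bB' (Sum.inl i) ∈ _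
          rw [h1, hbB_apply, hb]
          refine Submodule.subset_span (Or.inr ⟨⟨i, h⟩, ?_⟩)
          rfl
        · have h1 : bB' (Sum.inl i) = bB (Sum.inl i) := by
            rw [hbB'_apply]; simp only [hw, Sum.elim_inl, dif_neg h, one_smul]
          show bB' (Sum.inl i) ∈ _
          rw [h1, hbB_apply]
          exact Submodule.subset_span (Or.inl ⟨_, rfl⟩)
      · have h1 : bB' (Sum.inr k) = bB (Sum.inr k) := by
          rw [hbB'_apply]; simp only [hw, Sum.elim_inr, one_smul]
        show bB' (Sum.inr k) ∈ _
        rw [h1, hbB_apply]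
        exact Submodule.subset_span (Or.inl ⟨_, rfl⟩)
  set e0 : Module.Basis (Fin N ⊕ ι) A (Submodule.span A (Set.range fun j => bB' j)) :=
    Module.Basis.span hli with he0
  have he0_apply : ∀ j, ((e0 j : Submodule.span A (Set.range fun j => bB' j)) : Ω[B⁄ℤ]) = bB' j :=
    fun j => Module.Basis.coe_span_apply hli j
  refine ⟨e0.map (LinearEquiv.ofEq _ _ hspan.symm), ?_, ?_, ?_⟩
  · intro i
    have h : ((Fin.castLE hr i : Fin N) : ℕ) < r := by simp
    rw [Module.Basis.map_apply]
    show ((e0 (Sum.inl (Fin.castLE hr i)) : Submodule.span A (Set.range fun j => bB' j)) : Ω[B⁄ℤ]) = _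
    rw [he0_apply, hbB'_apply, hbB_apply, hb]
    simp only [hw, Sum.elim_inl, dif_pos h]
    rfl
  · intro i hi
    rw [Module.Basis.map_apply]
    show ((e0 (Sum.inl i) : Submodule.span A (Set.range fun j => bB' j)) : Ω[B⁄ℤ]) = _
    rw [he0_apply, hbB'_apply, hbB_apply, hb]
    simp only [hw, Sum.elim_inl, dif_neg (not_lt.mpr hi), one_smul]
  · intro k
    rw [Module.Basis.map_apply]
    show ((e0 (Sum.inr k) : Submodule.span A (Set.range fun j => bB' j)) : Ω[B⁄ℤ]) = _
    rw [he0_apply, hbB'_apply, hbB_apply]
    simp only [hw, Sum.elim_inr, one_smul]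

end Groth.Agent.S19273
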