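import Groth.Statements.S19277
import Groth.Agent.Lib.Helper25.CycLib
-- import your own Groth.Agent.* helpers here

set_option autoImplicit false
universe u v
open GrpAlg

namespace Groth.Agent.S19277

/-- Let `M` be a commutative group, `B ≠ B'` subgroups of finite index with `M ⧸ B` and `M ⧸ B'` cyclic,
and `Λ` a commutative ring in which both indices are invertible. Then the localization of the
`Λ[M]`-module `Λ[M ⧸ B]/(Φ_{|M/B|})` at the multiplicative subset of `Λ[M]` of elements with image
`1` in `Λ[M ⧸ B']/(Φ_{|M/B'|})` is zero. (In terms of group schemes: for two distinct dual cyclic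
subgroups σ, σ' of the diagonalizable group with character group `M`, the ring R̃(σ) with
coefficients in `Λ` vanishes after localization at σ'. The published statement has a split torus,
i.e. `M` free of finite rank, and `Λ = ℤ[1/N]` for `N` the order of the subgroup generated by σ and
σ'; here `M` is any commutative group and `Λ` any commutative ring in which the orders of σ and σ'
are invertible.) -/
theorem result (Λ : Type u) [CommRing Λ] (M : Type v)
    [AddCommGroup M] (B B' : AddSubgroup M) [B.FiniteIndex] [B'.FiniteIndex]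
    [IsAddCyclic (M ⧸ B)] [IsAddCyclic (M ⧸ B')] (hne : B ≠ B')
    (hu : IsUnit ((B.index * B'.index : ℕ) : Λ)) :
    Subsingleton (LocalizedModule (W4c6equivkfinstab.locSubmonoid Λ M B')
      (W4c6equivkfinstab.CycQuot Λ (M ⧸ B))) := by
  open Groth.Agent.Lib.Helper25.CycLib W4c6equivkfinstab in
  rw [LocalizedModule.subsingleton_iff]
  have huB : IsUnit ((B.index : ℕ) : Λ) := by
    push_cast at hu
    exact isUnit_of_mul_isUnit_left hu
  have huB' : IsUnit ((B'.index : ℕ) : Λ) := by
    push_cast at hu
    exact isUnit_of_mul_isUnit_right hu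
  -- it suffices to find r ↦ 1 in CycQuot(M/B') and r ↦ 0 in CycQuot(M/B)
  suffices h : ∃ r : AddMonoidAlgebra Λ M, cycQuotMap Λ M B' r = 1 ∧ cycQuotMap Λ M B r = 0 by
    obtain ⟨r, hr1, hr0⟩ := h
    intro m
    refine ⟨r, hr1, ?_⟩
    obtain ⟨x, rfl⟩ := Ideal.Quotient.mk_surjective m
    have : r • (Ideal.Quotient.mk (cycIdeal Λ (M ⧸ B)) x) = cycQuotMap Λ M B r *
        Ideal.Quotient.mk (cycIdeal Λ (M ⧸ B)) x := rfl
    rw [this, hr0, zero_mul]
  by_cases hle : B ≤ B'
  · have hle' : ¬ B' ≤ B := fun h => hne (le_antisymm hle h)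
    obtain ⟨b, hb', hb⟩ := SetLike.not_le_iff_exists.mp hle'
    obtain ⟨s, hs0, hs1⟩ := exists_sep' Λ M B hb huB
    refine ⟨s, ?_, hs0⟩
    rw [cycQuotMap, RingHom.comp_apply, hs1 B' hb', map_one]
  · obtain ⟨b, hb, hb'⟩ := SetLike.not_le_iff_exists.mp hle
    obtain ⟨t, ht⟩ := exists_sep Λ M B' hb' huB'
    refine ⟨(br Λ b - 1) * t, ht, ?_⟩
    rw [cycQuotMap, RingHom.comp_apply, map_mul, map_sub, map_one, quotMap_br_of_mem Λ M B hb,
      sub_self, zero_mul, map_zero]

end Groth.Agent.S19277
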