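import Groth.Statements.S19279
import Groth.Agent.Lib.Helper25.CycDecomp
-- import your own Groth.Agent.* helpers here

set_option autoImplicit false
universe u v
open GrpAlg

namespace Groth.Agent.S19279

open W4c6equivkfinstab in
theorem finite_index_set (Λ : Type u) [CommRing Λ]
    (M : Type v) [AddCommGroup M] (B₀ : AddSubgroup M) [B₀.FiniteIndex] :
    Finite {B : AddSubgroup M // B₀ ≤ B ∧ IsAddCyclic (M ⧸ B)} := by
  apply Finite.of_injective
    (fun B : {B : AddSubgroup M // B₀ ≤ B ∧ IsAddCyclic (M ⧸ B)} =>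
      B.1.map (QuotientAddGroup.mk' B₀))
  intro B B' h
  have h1 := congrArg (AddSubgroup.comap (QuotientAddGroup.mk' B₀)) h
  simp only [AddSubgroup.comap_map_eq, QuotientAddGroup.ker_mk'] at h1
  rw [sup_eq_left.mpr B.2.1, sup_eq_left.mpr B'.2.1] at h1
  exact Subtype.ext h1

open W4c6equivkfinstab in
theorem smul_def' (Λ : Type u) [CommRing Λ]
    (M : Type v) [AddCommGroup M] (B₀ : AddSubgroup M) (r : AddMonoidAlgebra Λ M)
    (n : AddMonoidAlgebra Λ (M ⧸ B₀)) : r • n = quotMap Λ M B₀ r * n := by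
  rw [Algebra.smul_def, RingHom.algebraMap_toAlgebra]

/-- Let `M` be a commutative group, `B₀` a subgroup of finite index and `Λ` a commutative ring in which
the index of `B₀` is invertible. Then the `Λ[M]`-linear map from `Λ[M ⧸ B₀]` to the product, over
the subgroups `B ⊇ B₀` with `M ⧸ B` cyclic, of the localizations of `Λ[M ⧸ B₀]` at the
multiplicative subsets of `Λ[M]` of elements with image `1` in `Λ[M ⧸ B]/(Φ_{|M/B|})`, with
components the localization maps, is bijective. (In terms of group schemes: for a finite closed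
subgroup T' = D(M/B₀) of the diagonalizable group with character group `M`, the representation ring
of T' with coefficients in `Λ` is the product of its localizations at the dual cyclic subgroups of
T'. The published statement has a split torus and `Λ = ℤ[1/|T'|]`; here `M` is any commutative group
and `Λ` any commutative ring in which the order of T' is invertible.) -/
theorem result (Λ : Type u) [CommRing Λ]
    (M : Type v) [AddCommGroup M] (B₀ : AddSubgroup M) [B₀.FiniteIndex]
    (hu : IsUnit ((B₀.index : ℕ) : Λ)) :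
    Function.Bijective (LinearMap.pi (R := AddMonoidAlgebra Λ M)
      fun B : {B : AddSubgroup M // B₀ ≤ B ∧ IsAddCyclic (M ⧸ B)} =>
        LocalizedModule.mkLinearMap (W4c6equivkfinstab.locSubmonoid Λ M B.1)
          (AddMonoidAlgebra Λ (M ⧸ B₀))) := by
  open Groth.Agent.Lib.Helper25.CycLib Groth.Agent.Lib.Helper25.CycDecomp W4c6equivkfinstab in
  classical
  have hfinι := finite_index_set Λ M B₀
  have hfinB : ∀ B : {B : AddSubgroup M // B₀ ≤ B ∧ IsAddCyclic (M ⧸ B)}, B.1.FiniteIndex :=
    fun B => AddSubgroup.finiteIndex_of_le B.2.1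
  have huB : ∀ B : {B : AddSubgroup M // B₀ ≤ B ∧ IsAddCyclic (M ⧸ B)},
      IsUnit ((B.1.index : ℕ) : Λ) := by
    intro B
    obtain ⟨e, he⟩ := AddSubgroup.index_dvd_of_le B.2.1
    rw [he] at hu
    push_cast at hu
    exact isUnit_of_mul_isUnit_left hu
  constructor
  · rw [injective_iff_map_eq_zero]
    intro n hn
    obtain ⟨y, rfl⟩ := quotMap_surjective Λ M B₀ n
    apply quotMap_eq_zero_of_forall Λ M B₀ hu y
    intro B hB hcyc
    have h1 : quotMap Λ M B₀ y ∈ LinearMap.ker (LocalizedModule.mkLinearMap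
        (locSubmonoid Λ M B) (AddMonoidAlgebra Λ (M ⧸ B₀))) :=
      congrFun hn ⟨B, hB, hcyc⟩
    rw [LocalizedModule.mem_ker_mkLinearMap_iff] at h1
    obtain ⟨r, hr, hr0⟩ := h1
    rw [smul_def', ← map_mul] at hr0
    have h2 := cycQuotMap_eq_zero_of_quotMap Λ M hB hr0
    rw [map_mul, show cycQuotMap Λ M B r = 1 from hr, one_mul] at h2
    exact h2
  · intro z
    have hz : ∀ B : {B : AddSubgroup M // B₀ ≤ B ∧ IsAddCyclic (M ⧸ B)},
        ∃ (yB : AddMonoidAlgebra Λ M) (sB : locSubmonoid Λ M B.1),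
          z B = LocalizedModule.mk (quotMap Λ M B₀ yB) sB := by
      intro B
      induction z B using LocalizedModule.induction_on with
      | h n s =>
        obtain ⟨y, rfl⟩ := quotMap_surjective Λ M B₀ n
        exact ⟨y, s, rfl⟩
    choose yB sB hyB using hz
    have he : ∀ B : {B : AddSubgroup M // B₀ ≤ B ∧ IsAddCyclic (M ⧸ B)},
        ∃ e : AddMonoidAlgebra Λ M, ∀ B' : {B : AddSubgroup M // B₀ ≤ B ∧ IsAddCyclic (M ⧸ B)},
          cycQuotMap Λ M B'.1 e = if B' = B then 1 else 0 := by
      intro B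
      exact exists_crt Λ M (fun B : {B : AddSubgroup M // B₀ ≤ B ∧ IsAddCyclic (M ⧸ B)} => B.1)
        Subtype.val_injective hfinB (fun B => B.2.2) huB (fun B' => if B' = B then 1 else 0)
    choose e he using he
    have := Fintype.ofFinite {B : AddSubgroup M // B₀ ≤ B ∧ IsAddCyclic (M ⧸ B)}
    set y : AddMonoidAlgebra Λ M := ∑ B, e B * yB B with hy
    have hycq : ∀ B : {B : AddSubgroup M // B₀ ≤ B ∧ IsAddCyclic (M ⧸ B)},
        cycQuotMap Λ M B.1 y = cycQuotMap Λ M B.1 (yB B) := by
      intro B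
      rw [hy, map_sum, Finset.sum_eq_single B]
      · rw [map_mul, he, if_pos rfl, one_mul]
      · intro B' _ hB'
        rw [map_mul, he, if_neg (Ne.symm hB'), zero_mul]
      · intro h; exact absurd (Finset.mem_univ B) h
    refine ⟨quotMap Λ M B₀ y, funext fun B => ?_⟩
    rw [LinearMap.pi_apply, LocalizedModule.mkLinearMap_apply, hyB B, LocalizedModule.mk_eq]
    refine ⟨⟨e B, ?_⟩, ?_⟩
    · show cycQuotMap Λ M B.1 (e B) = 1
      rw [he, if_pos rfl]
    · simp only [Submonoid.smul_def, smul_def', Submonoid.coe_one, map_one, one_mul]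
      rw [← map_mul, ← map_mul, ← map_mul, ← sub_eq_zero, ← map_sub]
      apply quotMap_eq_zero_of_forall Λ M B₀ hu
      intro B' hB' hcyc'
      rw [← mul_sub, map_mul]
      by_cases hBB : (⟨B', hB', hcyc'⟩ : {B : AddSubgroup M // B₀ ≤ B ∧ IsAddCyclic (M ⧸ B)}) = B
      · subst hBB
        have h1 := hycq ⟨B', hB', hcyc'⟩
        have h2 : cycQuotMap Λ M B' (sB ⟨B', hB', hcyc'⟩ : AddMonoidAlgebra Λ M) = 1 :=
          (sB ⟨B', hB', hcyc'⟩).2
        simp only at h1
        rw [map_sub, map_mul, h2, one_mul, h1, sub_self, mul_zero]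
      · have := he B ⟨B', hB', hcyc'⟩
        rw [if_neg hBB] at this
        simp only at this
        rw [this, zero_mul]

end Groth.Agent.S19279
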