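import Groth.Statements.S19322
import Groth.Agent.S14283
import Mathlib

set_option autoImplicit false
universe v u
open CategoryTheory CategoryTheory.Limits
open SpSeq

namespace Groth.Agent.S19322

section Aux
open CategoryTheory CategoryTheory.Limits

variable {K : Type u} [Field K]

section SC

theorem hom_dim (S : ShortComplex (ModuleCat.{v} K)) [Module.Finite K S.X₂] :
    Module.Finite K S.homology ∧ Module.finrank K S.homology ≤ Module.finrank K S.X₂ ∧
      (Module.finrank K S.homology = Module.finrank K S.X₂ → S.f = 0 ∧ S.g = 0) := by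
  have hinj : Function.Injective S.iCycles.hom :=
    (ModuleCat.mono_iff_injective S.iCycles).mp inferInstance
  have hsurj : Function.Surjective S.homologyπ.hom :=
    (ModuleCat.epi_iff_surjective S.homologyπ).mp inferInstance
  have hZ : Module.Finite K S.cycles := Module.Finite.of_injective S.iCycles.hom hinj
  have hH : Module.Finite K S.homology := Module.Finite.of_surjective S.homologyπ.hom hsurj
  have h1 : Module.finrank K S.cycles ≤ Module.finrank K S.X₂ :=
    LinearMap.finrank_le_finrank_of_injective hinj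
  have h2 : Module.finrank K S.homology ≤ Module.finrank K S.cycles :=
    LinearMap.finrank_le_finrank_of_surjective hsurj
  refine ⟨hH, h2.trans h1, fun heq => ?_⟩
  have e1 : Module.finrank K S.cycles = Module.finrank K S.X₂ := by omega
  have e2 : Module.finrank K S.homology = Module.finrank K S.cycles := by omega
  constructor
  · -- homologyπ injective
    have hinj2 : Function.Injective S.homologyπ.hom :=
      (LinearMap.injective_iff_surjective_of_finrank_eq_finrank e2.symm).mpr hsurj
    have hmono : Mono S.homologyπ := (ModuleCat.mono_iff_injective _).mpr hinj2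
    have h0 : S.toCycles = 0 := by
      rw [← cancel_mono S.homologyπ, S.toCycles_comp_homologyπ, zero_comp]
    rw [← S.toCycles_i, h0, zero_comp]
  · have hsurj1 : Function.Surjective S.iCycles.hom :=
      (LinearMap.injective_iff_surjective_of_finrank_eq_finrank e1).mp hinj
    have hepi : Epi S.iCycles := (ModuleCat.epi_iff_surjective _).mpr hsurj1
    rw [← cancel_epi S.iCycles, S.iCycles_g, comp_zero]

theorem fr_add (S : ShortComplex (ModuleCat.{v} K)) (hS : S.ShortExact)
    (h1 : Module.Finite K S.X₁) (h3 : Module.Finite K S.X₃) :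
    Module.Finite K S.X₂ ∧ Module.finrank K S.X₂ = Module.finrank K S.X₁ + Module.finrank K S.X₃ := by
  have hinj : Function.Injective S.f.hom := hS.moduleCat_injective_f
  have hsurj : Function.Surjective S.g.hom := hS.moduleCat_surjective_g
  have hex : Function.Exact S.f.hom S.g.hom :=
    (ShortComplex.ShortExact.moduleCat_exact_iff_function_exact S).mp hS.exact
  have hk : LinearMap.ker S.g.hom = LinearMap.range S.f.hom := LinearMap.exact_iff.mp hex
  have hfin : Module.Finite K S.X₂ := by
    have hN : Module.Finite K (LinearMap.range S.f.hom) := inferInstance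
    have hQ : Module.Finite K (S.X₂ ⧸ LinearMap.range S.f.hom) := by
      have e : (S.X₂ ⧸ LinearMap.ker S.g.hom) ≃ₗ[K] S.X₃ :=
        LinearMap.quotKerEquivOfSurjective _ hsurj
      rw [← hk]
      exact Module.Finite.equiv e.symm
    exact Module.Finite.of_submodule_quotient (LinearMap.range S.f.hom)
  refine ⟨hfin, ?_⟩
  have h := LinearMap.finrank_range_add_finrank_ker S.g.hom
  rw [hk, LinearMap.finrank_range_of_inj hinj, LinearMap.range_eq_top.mpr hsurj, finrank_top] at h
  omega

theorem fr_fil {H : ModuleCat.{v} K} (fil : ℤ → Subobject H) (anti : Antitone fil) (a b : ℤ)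
    (hab : a ≤ b) (ha : fil a = ⊤) (hb : fil b = ⊥)
    (hP : ∀ j ∈ Finset.Ico a b, Module.Finite K (SpSeq.grPiece fil anti j : ModuleCat.{v} K)) :
    Module.Finite K H ∧ Module.finrank K H =
      ∑ j ∈ Finset.Ico a b, Module.finrank K (SpSeq.grPiece fil anti j : ModuleCat.{v} K) := by
  refine Groth.Agent.S14283.fil_additive (P := fun M : ModuleCat.{v} K => Module.Finite K M)
    (χ := fun M : ModuleCat.{v} K => Module.finrank K M) ?_ ?_ ?_ fil anti a b hab ha hb hP
  · intro X Y e hX
    exact ⟨Module.Finite.equiv e.toLinearEquiv, LinearEquiv.finrank_eq e.toLinearEquiv⟩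
  · intro X hX
    have hsub : Subsingleton X := ModuleCat.subsingleton_of_isZero hX
    exact ⟨inferInstance, Module.finrank_zero_of_subsingleton⟩
  · intro S hS h1 h3
    exact fr_add S hS h1 h3

end SC

section Main
variable {r₀ : ℤ} (E : CohomologicalSpectralSequence (ModuleCat.{v} K) r₀)

theorem step (r : ℤ) (hr : r₀ ≤ r) (pq : ℤ × ℤ) [Module.Finite K ((E.page r hr).X pq)] :
    Module.Finite K ((E.page (r + 1) (Int.le_add_one hr)).X pq) ∧
    Module.finrank K ((E.page (r + 1) (Int.le_add_one hr)).X pq) ≤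
      Module.finrank K ((E.page r hr).X pq) ∧
    (Module.finrank K ((E.page (r + 1) (Int.le_add_one hr)).X pq) =
        Module.finrank K ((E.page r hr).X pq) →
       (E.page r hr).d (pq - (r, 1 - r)) pq = 0 ∧ (E.page r hr).d pq (pq + (r, 1 - r)) = 0) := by
  have hfin : Module.Finite K ((E.page r hr).sc pq).X₂ := ‹_›
  obtain ⟨h1, h2, h3⟩ := hom_dim ((E.page r hr).sc pq)
  let e : ((E.page r hr).sc pq).homology ≃ₗ[K] (E.page (r + 1) (Int.le_add_one hr)).X pq :=
    (E.iso r (r + 1) pq rfl hr).toLinearEquiv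
  have he := LinearEquiv.finrank_eq e
  refine ⟨Module.Finite.equiv e, ?_, ?_⟩
  · rw [← he]; exact h2
  · intro heq
    rw [← he] at heq
    obtain ⟨hf, hg⟩ := h3 heq
    have hnext : (ComplexShape.up' (r, 1 - r)).next pq = pq + (r, 1 - r) :=
      (ComplexShape.up' (r, 1 - r)).next_eq' rfl
    have hprev : (ComplexShape.up' (r, 1 - r)).prev pq = pq - (r, 1 - r) :=
      (ComplexShape.up' (r, 1 - r)).prev_eq' (sub_add_cancel pq (r, 1 - r))
    have hf' : (E.page r hr).d ((ComplexShape.up' (r, 1 - r)).prev pq) pq = 0 := hf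
    have hg' : (E.page r hr).d pq ((ComplexShape.up' (r, 1 - r)).next pq) = 0 := hg
    rw [hprev] at hf'
    rw [hnext] at hg'
    exact ⟨hf', hg'⟩

noncomputable def grCongr {H : ℤ → ModuleCat.{v} K} (a : SpSeq.Abutment E H) {m n : ℤ}
    (h : m = n) (j : ℤ) :
    SpSeq.grPiece (a.fil m) (a.anti m) j ≅ SpSeq.grPiece (a.fil n) (a.anti n) j :=
  eqToIso (by subst h; rfl)

end Main

theorem main
    {K : Type u} [Field K] {r₀ : ℤ}
    (E : CohomologicalSpectralSequence (ModuleCat.{v} K) r₀) (H : ℤ → ModuleCat.{v} K)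
    (a : SpSeq.Abutment E H) (n : ℤ) (hfin : a.IsFinite n)
    (hquad : ∀ pq : ℤ × ℤ, pq.1 < 0 ∨ pq.2 < 0 → IsZero ((E.page r₀ le_rfl).X pq))
    (hfd : ∀ pq : ℤ × ℤ, Module.Finite K ((E.page r₀ le_rfl).X pq))
    (hH : Module.Finite K (H n))
    (hsum : ∑ s ∈ Finset.Icc (0 : ℤ) n, Module.finrank K ((E.page r₀ le_rfl).X (s, n - s)) =
      Module.finrank K (H n)) :
    ∀ s : ℤ, SpSeq.StationaryAt E (s, n - s) r₀ := by
  -- Step A
  have hA : ∀ (r : ℤ) (hr : r₀ ≤ r), (∀ pq, Module.Finite K ((E.page r hr).X pq)) ∧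
      (∀ pq : ℤ × ℤ, pq.1 < 0 ∨ pq.2 < 0 → IsZero ((E.page r hr).X pq)) := by
    intro r hr
    induction r, hr using Int.leInduction with
    | base => exact ⟨hfd, hquad⟩
    | succ r hr ih =>
      obtain ⟨ih1, ih2⟩ := ih
      refine ⟨fun pq => ?_, fun pq hpq => ?_⟩
      · have := ih1 pq
        exact (step E r hr pq).1
      · exact IsZero.of_iso (ShortComplex.isZero_homology_of_isZero_X₂ _ (ih2 pq hpq))
          (E.iso r (r + 1) pq rfl hr).symm
  -- Step C
  have hC : ∀ (pq : ℤ × ℤ) (r : ℤ) (hr : r₀ ≤ r) (r' : ℤ) (hrr' : r ≤ r'),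
      Module.finrank K ((E.page r' (hr.trans hrr')).X pq) ≤
        Module.finrank K ((E.page r hr).X pq) := by
    intro pq r hr r' hrr'
    induction r', hrr' using Int.leInduction with
    | base => exact le_rfl
    | succ r' hrr' ih =>
      have := (hA r' (hr.trans hrr')).1 pq
      exact ((step E r' (hr.trans hrr') pq).2.1).trans ih
  have hkey : ∀ pq : ℤ × ℤ,
      Module.finrank K ((E.page (a.rk pq) (a.stat pq).1).X pq) =
        Module.finrank K ((E.page r₀ le_rfl).X pq) → SpSeq.StationaryAt E pq r₀ := by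
    intro pq heq
    refine ⟨le_rfl, fun r' h₀ _ => ?_⟩
    by_cases hr' : a.rk pq ≤ r'
    · exact (a.stat pq).2 r' h₀ hr'
    · push Not at hr'
      have := (hA r' h₀).1 pq
      obtain ⟨-, h2, h3⟩ := step E r' h₀ pq
      apply h3
      have c1 := hC pq r₀ le_rfl r' h₀
      have c2 := hC pq (r' + 1) (Int.le_add_one h₀) (a.rk pq) (by omega)
      omega
  have hzero : ∀ pq : ℤ × ℤ, pq.1 < 0 ∨ pq.2 < 0 → SpSeq.StationaryAt E pq r₀ := by
    intro pq hpq
    refine ⟨le_rfl, fun r' h₀ _ => ⟨?_, ?_⟩⟩
    · exact ((hA r' h₀).2 pq hpq).eq_of_tgt _ _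
    · exact ((hA r' h₀).2 pq hpq).eq_of_src _ _
  -- Step E
  obtain ⟨⟨a0, ha0⟩, ⟨b0, hb0⟩⟩ := hfin
  change a.fil n a0 = ⊤ at ha0
  change a.fil n b0 = ⊥ at hb0
  set a' := min (min a0 b0) 0 with ha'
  set b' := max (max a0 b0) (n + 1) with hb'
  have ha'0 : a' ≤ 0 := min_le_right _ _
  have ha'a : a' ≤ a0 := (min_le_left _ _).trans (min_le_left _ _)
  have hb'n : n + 1 ≤ b' := le_max_right _ _
  have hb'b : b0 ≤ b' := (le_max_right _ _).trans (le_max_left _ _)
  have hb'a : a0 ≤ b' := (le_max_left _ _).trans (le_max_left _ _)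
  have hab : a' ≤ b' := ha'a.trans hb'a
  have hta : a.fil n a' = ⊤ := by
    rw [← top_le_iff, ← ha0]
    exact a.anti n ha'a
  have htb : a.fil n b' = ⊥ := by
    rw [← le_bot_iff, ← hb0]
    exact a.anti n hb'b
  let e : ∀ j : ℤ, (E.page (a.rk (j, n - j)) (a.stat _).1).X (j, n - j) ≅
      SpSeq.grPiece (a.fil n) (a.anti n) j := fun j =>
    a.β (j, n - j) ≪≫ grCongr E a (by simp) j
  have hP : ∀ j ∈ Finset.Ico a' b',
      Module.Finite K (SpSeq.grPiece (a.fil n) (a.anti n) j : ModuleCat.{v} K) := by
    intro j _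
    have := (hA (a.rk (j, n - j)) (a.stat _).1).1 (j, n - j)
    exact Module.Finite.equiv (e j).toLinearEquiv
  obtain ⟨-, hfr⟩ := fr_fil (a.fil n) (a.anti n) a' b' hab hta htb hP
  have h1 : ∀ j : ℤ, Module.finrank K (SpSeq.grPiece (a.fil n) (a.anti n) j : ModuleCat.{v} K) =
      Module.finrank K ((E.page (a.rk (j, n - j)) (a.stat _).1).X (j, n - j)) :=
    fun j => (LinearEquiv.finrank_eq (e j).toLinearEquiv).symm
  simp only [h1] at hfr
  have hsub : Finset.Icc (0 : ℤ) n ⊆ Finset.Ico a' b' := by
    intro j hj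
    rw [Finset.mem_Icc] at hj
    rw [Finset.mem_Ico]
    constructor <;> omega
  rw [← Finset.sum_subset hsub] at hfr
  · -- Step F
    rw [hfr] at hsum
    have hle : ∀ s ∈ Finset.Icc (0 : ℤ) n,
        Module.finrank K ((E.page (a.rk (s, n - s)) (a.stat _).1).X (s, n - s)) ≤
          Module.finrank K ((E.page r₀ le_rfl).X (s, n - s)) :=
      fun s _ => hC (s, n - s) r₀ le_rfl _ (a.stat _).1
    have heq := (Finset.sum_eq_sum_iff_of_le hle).mp hsum.symm
    intro s
    by_cases hs : s ∈ Finset.Icc (0 : ℤ) n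
    · exact hkey _ (heq s hs)
    · apply hzero
      rw [Finset.mem_Icc, not_and_or, not_le, not_le] at hs
      rcases hs with hs | hs
      · exact Or.inl hs
      · right
        show n - s < 0
        omega
  · intro j _ hj
    rw [Finset.mem_Icc, not_and_or, not_le, not_le] at hj
    have hz : IsZero ((E.page (a.rk (j, n - j)) (a.stat _).1).X (j, n - j)) := by
      apply (hA _ _).2
      rcases hj with hj | hj
      · exact Or.inl hj
      · right
        show n - j < 0
        omega
    have hsub : Subsingleton ((E.page (a.rk (j, n - j)) (a.stat _).1).X (j, n - j)) :=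
      ModuleCat.subsingleton_of_isZero hz
    exact Module.finrank_zero_of_subsingleton

end Aux

/-- Let K be a field and E a cohomological spectral sequence of K-vector spaces, pages from r₀,
concentrated in the first quadrant on page r₀ and with all terms of page r₀ finite-dimensional, and
let H be abutment data for E whose filtration in degree n is finite, H n finite-dimensional. If the
dimensions of the page-r₀ terms E^{s, n-s}, 0 ≤ s ≤ n, add up to the dimension of H n, then every
position of total degree n is stationary from page r₀ on: all differentials into and out of it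
vanish on every page. (The printed statement takes r₀ a positive integer and n ≥ 0; neither
restriction is needed.) -/
theorem result
    {K : Type u} [Field K] {r₀ : ℤ}
    (E : CohomologicalSpectralSequence (ModuleCat.{v} K) r₀) (H : ℤ → ModuleCat.{v} K)
    (a : SpSeq.Abutment E H) (n : ℤ) (hfin : a.IsFinite n)
    (hquad : ∀ pq : ℤ × ℤ, pq.1 < 0 ∨ pq.2 < 0 → IsZero ((E.page r₀ le_rfl).X pq))
    (hfd : ∀ pq : ℤ × ℤ, Module.Finite K ((E.page r₀ le_rfl).X pq))
    (hH : Module.Finite K (H n))
    (hsum : ∑ s ∈ Finset.Icc (0 : ℤ) n, Module.finrank K ((E.page r₀ le_rfl).X (s, n - s)) =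
      Module.finrank K (H n)) :
    ∀ s : ℤ, SpSeq.StationaryAt E (s, n - s) r₀ := by
  exact main E H a n hfin hquad hfd hH hsum

end Groth.Agent.S19322
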