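import Groth.Statements.S19323

set_option autoImplicit false
universe v u
open CategoryTheory CategoryTheory.Limits
open SpSeq

namespace Groth.Agent.S19323

variable {C : Type u} [Category.{v} C] [Abelian C]

lemma mono_homologyMap {ι : Type*} {c : ComplexShape ι} {K L : HomologicalComplex C c} (f : K ⟶ L)
    (j : ι) (hK1 : K.d (c.prev j) j = 0) (hK2 : K.d j (c.next j) = 0)
    (hL1 : L.d (c.prev j) j = 0) [Mono (f.f j)] :
    Mono (HomologicalComplex.homologyMap f j) := by
  have h1 : IsIso (K.iCycles j) := K.isIso_iCycles j _ rfl hK2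
  have h2 : IsIso (K.homologyπ j) := K.isIso_homologyπ _ j rfl hK1
  have h3 : IsIso (L.homologyπ j) := L.isIso_homologyπ _ j rfl hL1
  have h4 : Mono (HomologicalComplex.cyclesMap f j) := by
    have : Mono (HomologicalComplex.cyclesMap f j ≫ L.iCycles j) := by
      rw [HomologicalComplex.cyclesMap_i]
      infer_instance
    exact mono_of_mono _ (L.iCycles j)
  have h5 : HomologicalComplex.homologyMap f j =
      inv (K.homologyπ j) ≫ HomologicalComplex.cyclesMap f j ≫ L.homologyπ j := by
    rw [IsIso.eq_inv_comp, HomologicalComplex.homologyπ_naturality]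
  rw [h5]
  infer_instance

/-- a differential arriving at `j` is zero as soon as all the "relation" differentials are -/
lemma d_to_eq_zero {r : ℤ} (K : HomologicalComplex C (ComplexShape.up' ((r, 1 - r) : ℤ × ℤ)))
    (j : ℤ × ℤ) (h : ∀ i : ℤ × ℤ, i + (r, 1 - r) = j → K.d i (i + (r, 1 - r)) = 0) (i : ℤ × ℤ) :
    K.d i j = 0 := by
  by_cases hij : i + (r, 1 - r) = j
  · have := h i hij
    rwa [hij] at this
  · exact K.shape _ _ hij


/-- In an abelian category let E and E' be first-quadrant E₂ cohomological spectral sequences and φ : E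
⟶ E' a morphism of spectral sequences such that (i) every differential of E' leaving a position
whose first coordinate is nonzero vanishes, (ii) on every page the map φ at each position followed
by the outgoing differential of E' is zero, and (iii) φ is a monomorphism at every position of page
2. Then E degenerates at page 2. -/
theorem result
    {C : Type u} [Category.{v} C] [Abelian C]
    (E E' : E₂CohomologicalSpectralSequence C) (φ : E ⟶ E')
    (hE : ∀ pq : ℤ × ℤ, pq.1 < 0 ∨ pq.2 < 0 → IsZero ((E.page 2 le_rfl).X pq))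
    (hE' : ∀ pq : ℤ × ℤ, pq.1 < 0 ∨ pq.2 < 0 → IsZero ((E'.page 2 le_rfl).X pq))
    (hd' : ∀ (r : ℤ) (hr : 2 ≤ r) (pq : ℤ × ℤ), pq.1 ≠ 0 →
      (E'.page r hr).d pq (pq + (r, 1 - r)) = 0)
    (hφd : ∀ (r : ℤ) (hr : 2 ≤ r) (pq : ℤ × ℤ),
      (φ.hom r hr).f pq ≫ (E'.page r hr).d pq (pq + (r, 1 - r)) = 0)
    (hmono : ∀ pq : ℤ × ℤ, Mono ((φ.hom 2 le_rfl).f pq)) :
    SpSeq.Degenerates E 2 := by
  -- vanishing in negative columns on all pages
  have hZ : ∀ (s : ℤ) (hs : 2 ≤ s) (pq : ℤ × ℤ), pq.1 < 0 → IsZero ((E.page s hs).X pq) := by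
    intro s hs
    induction s, hs using Int.leInduction with
    | base => exact fun pq h => hE pq (Or.inl h)
    | succ s hs ih =>
      intro pq h
      refine IsZero.of_iso ?_ (E.iso s (s + 1) pq rfl hs).symm
      exact (HomologicalComplex.ExactAt.of_isZero (ih pq h)).isZero_homology
  -- the differentials vanish as soon as `φ` is mono in columns `≥ s`
  have hD : ∀ (s : ℤ) (hs : 2 ≤ s),
      (∀ pq : ℤ × ℤ, s ≤ pq.1 → Mono ((φ.hom s hs).f pq)) →
      ∀ pq pq' : ℤ × ℤ, (E.page s hs).d pq pq' = 0 := by
    intro s hs hm pq pq'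
    by_cases hrel : pq + (s, 1 - s) = pq'
    · subst hrel
      by_cases hneg : pq.1 < 0
      · exact (hZ s hs pq hneg).eq_of_src _ _
      · have : Mono ((φ.hom s hs).f (pq + (s, 1 - s))) := hm _ (by
          show s ≤ pq.1 + s
          omega)
        rw [← cancel_mono ((φ.hom s hs).f (pq + (s, 1 - s))), zero_comp,
          ← (φ.hom s hs).comm, hφd s hs pq]
    · exact (E.page s hs).shape _ _ hrel
  have hM : ∀ (s : ℤ) (hs : 2 ≤ s) (pq : ℤ × ℤ), s ≤ pq.1 → Mono ((φ.hom s hs).f pq) := by
    intro s hs
    induction s, hs using Int.leInduction with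
    | base => exact fun pq _ => hmono pq
    | succ s hs ih =>
      intro pq hpq
      have hd := hD s hs ih
      have : Mono ((φ.hom s hs).f pq) := ih pq (by omega)
      have hL1 : (E'.page s hs).d ((ComplexShape.up' ((s, 1 - s) : ℤ × ℤ)).prev pq) pq = 0 := by
        apply d_to_eq_zero
        intro i hi
        apply hd' s hs i
        have : i.1 + s = pq.1 := congrArg Prod.fst hi
        omega
      have hmono' := mono_homologyMap (φ.hom s hs) pq (hd _ _) (hd _ _) hL1
      have hcomm := φ.comm s (s + 1) pq rfl hs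
      have : (φ.hom (s + 1) (by omega)).f pq =
          (E.iso s (s + 1) pq rfl hs).inv ≫ HomologicalComplex.homologyMap (φ.hom s hs) pq ≫
            (E'.iso s (s + 1) pq rfl hs).hom := by
        rw [hcomm, Iso.inv_hom_id_assoc]
      rw [this]
      infer_instance
  exact ⟨le_rfl, fun r' h₀ _ pq pq' => hD r' h₀ (hM r' h₀) pq pq'⟩

end Groth.Agent.S19323
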