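import Groth.Statements.S19326
-- import your own Groth.Agent.* helpers here
import Groth.Agent.Lib.Helper26.ComodT
import Mathlib.RingTheory.Bialgebra.MonoidAlgebra

set_option autoImplicit false
universe u
open TensorProduct
open GLin

namespace Groth.Agent.S19326

/-- Let k be a field, M a finite abelian group and D = Spec k[M] the finite diagonalizable group scheme
it defines, acting on an affine k-scheme U = Spec R through a multiplicative coaction R → R ⊗ k[M];
write R_a for the weight space of a ∈ M (elements with coaction f ⊗ a). For an ideal J of R the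
induced action of D on the closed subscheme V(J) is trivial, meaning that the coaction followed by
reduction modulo J equals f ↦ (f mod J) ⊗ 1, exactly when J contains the ideal generated by the
weight spaces R_a for a ≠ 0; in other words that ideal defines the largest closed subscheme of U on
which D acts trivially. (The printed setting has U smooth, which plays no role here and is not
assumed; the further assertion that the construction commutes with flat base change on U/D is not
part of this statement.) -/
theorem result
    {k : Type u} [Field k] {M : Type u} [AddCommGroup M] [Finite M]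
    {R : Type u} [CommRing R] [Algebra k R] [HopfRep.Comod k (AddMonoidAlgebra k M) R]
    [GLin.IsCoactAlg k (AddMonoidAlgebra k M) R] (J : Ideal R) :
    (∀ f : R, LinearMap.rTensor (AddMonoidAlgebra k M) (Ideal.Quotient.mkₐ k J).toLinearMap
        (HopfRep.Comod.coact (k := k) (A := AddMonoidAlgebra k M) f) =
        (Ideal.Quotient.mk J f) ⊗ₜ[k] (1 : AddMonoidAlgebra k M)) ↔
      Ideal.span (⋃ (a : M) (_ : a ≠ 0),
        (HopfRep.eigenspace k (AddMonoidAlgebra k M) R (AddMonoidAlgebra.single a 1) : Set R)) ≤ J := by
  classical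
  haveI := Fintype.ofFinite M
  let B := AddMonoidAlgebra.basis M k
  have hB : ∀ a, B a = AddMonoidAlgebra.single a (1 : k) := fun a => AddMonoidAlgebra.basis_apply k a
  let δ : M → AddMonoidAlgebra k M →ₗ[k] k := fun a => B.coord a
  have hδ : ∀ a b, δ a (AddMonoidAlgebra.single b (1 : k)) = if b = a then 1 else 0 := by
    intro a b
    rw [← hB]
    simp only [δ, Module.Basis.coord_apply, Module.Basis.repr_self, Finsupp.single_apply]
  have hε : (Coalgebra.counit (R := k) (A := AddMonoidAlgebra k M)) = ∑ a, δ a := by
    apply B.ext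
    intro b
    rw [hB, LinearMap.sum_apply]
    simp only [hδ]
    simp
  have hconv : ∀ (ψ : AddMonoidAlgebra k M →ₗ[k] k) (a : M),
      Groth.Agent.Lib.Helper26.Comod.conv ψ (δ a) = ψ (AddMonoidAlgebra.single a (1 : k)) • δ a := by
    intro ψ a
    apply B.ext
    intro b
    rw [hB]
    simp only [Groth.Agent.Lib.Helper26.Comod.conv, LinearMap.comp_apply, LinearMap.smul_apply,
      AddMonoidAlgebra.comul_single, CommSemiring.comul_apply, TensorProduct.map_tmul,
      AddMonoidAlgebra.lsingle_apply, LinearMap.mul'_apply, hδ]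
    by_cases h : b = a
    · subst h; simp
    · simp [h]
  have hcomp : ∀ (f : R) (a : M),
      HopfRep.Comod.coact (k := k) (A := AddMonoidAlgebra k M)
        (Groth.Agent.Lib.Helper26.Comod.T (δ a) f) =
      Groth.Agent.Lib.Helper26.Comod.T (δ a) f ⊗ₜ[k] AddMonoidAlgebra.single a (1 : k) := by
    intro f a
    apply Groth.Agent.Lib.Helper26.Comod.eq_of_slice_eq
    intro ψ
    rw [← Groth.Agent.Lib.Helper26.Comod.T_apply, Groth.Agent.Lib.Helper26.Comod.T_T, hconv,
      Groth.Agent.Lib.Helper26.Comod.slice_tmul,
      ← Groth.Agent.Lib.Helper26.Comod.Tlin_apply, map_smul]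
    rfl
  have hsum : ∀ f : R, f = ∑ a, Groth.Agent.Lib.Helper26.Comod.T (δ a) f := by
    intro f
    conv_lhs => rw [← Groth.Agent.Lib.Helper26.Comod.T_counit (k := k) (A := AddMonoidAlgebra k M) f,
      hε, ← Groth.Agent.Lib.Helper26.Comod.Tlin_apply, map_sum]
    rfl
  constructor
  · intro h
    rw [Ideal.span_le]
    intro f hf
    simp only [Set.mem_iUnion] at hf
    obtain ⟨a, ha, hfa⟩ := hf
    have hfa' : HopfRep.Comod.coact (k := k) (A := AddMonoidAlgebra k M) f =
        f ⊗ₜ[k] AddMonoidAlgebra.single a (1 : k) := hfa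
    have h1 := h f
    rw [hfa', LinearMap.rTensor_tmul] at h1
    have h2 := congrArg (Groth.Agent.Lib.Helper26.Comod.slice (δ a)) h1
    rw [Groth.Agent.Lib.Helper26.Comod.slice_tmul, Groth.Agent.Lib.Helper26.Comod.slice_tmul,
      AddMonoidAlgebra.one_def, hδ, hδ, if_pos rfl, if_neg (Ne.symm ha), one_smul, zero_smul] at h2
    exact Ideal.Quotient.eq_zero_iff_mem.mp h2
  · intro h f
    have hJ : ∀ a, a ≠ 0 → Groth.Agent.Lib.Helper26.Comod.T (δ a) f ∈ J := by
      intro a ha
      apply h
      apply Ideal.subset_span
      simp only [Set.mem_iUnion]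
      exact ⟨a, ha, hcomp f a⟩
    have h1 : HopfRep.Comod.coact (k := k) (A := AddMonoidAlgebra k M) f =
        ∑ a, Groth.Agent.Lib.Helper26.Comod.T (δ a) f ⊗ₜ[k] AddMonoidAlgebra.single a (1 : k) := by
      conv_lhs => rw [hsum f, map_sum]
      exact Finset.sum_congr rfl fun a _ => hcomp f a
    have h2 : Ideal.Quotient.mk J f =
        Ideal.Quotient.mk J (Groth.Agent.Lib.Helper26.Comod.T (δ 0) f) := by
      conv_lhs => rw [hsum f, map_sum]
      apply Finset.sum_eq_single 0
      · intro a _ ha
        exact Ideal.Quotient.eq_zero_iff_mem.mpr (hJ a ha)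
      · intro h0; exact absurd (Finset.mem_univ _) h0
    rw [h1, map_sum, h2]
    rw [Finset.sum_eq_single 0]
    · rw [LinearMap.rTensor_tmul, AddMonoidAlgebra.one_def]
      rfl
    · intro a _ ha
      rw [LinearMap.rTensor_tmul]
      have : (Ideal.Quotient.mkₐ k J).toLinearMap (Groth.Agent.Lib.Helper26.Comod.T (δ a) f) = 0 :=
        Ideal.Quotient.eq_zero_iff_mem.mpr (hJ a ha)
      rw [this, TensorProduct.zero_tmul]
    · intro h0; exact absurd (Finset.mem_univ _) h0

end Groth.Agent.S19326
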