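import Groth.Statements.S19328
import Mathlib
import Groth.Agent.Lib.Helper12.AdjoinAllRootsB

set_option autoImplicit false
universe u
open CategoryTheory CategoryTheory.Limits AlgebraicGeometry
open ModPair

namespace Groth.Agent.S19328

/-- Let A be a commutative ring such that Spec A is local for fppf coverings, in the sense that for
every scheme X, every jointly surjective family of morphisms to X each of which is flat and of
finite presentation (locally of finite presentation, quasi-compact and quasi-separated), and every
morphism Spec A ⟶ X, the morphism factors through a member of the family. Then the residue field of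
A at every prime ideal is algebraically closed. -/
theorem result (A : Type u) [CommRing A]
    (hloc : ∀ (X : Scheme.{u}) (R : Presieve X),
      R ∈ Scheme.precoverage (@Flat ⊓ @LocallyOfFinitePresentation ⊓ @QuasiCompact ⊓ @QuasiSeparated) X →
      ∀ g : Spec (CommRingCat.of A) ⟶ X,
        ∃ (Y : Scheme.{u}) (v : Y ⟶ X) (h : Spec (CommRingCat.of A) ⟶ Y), R v ∧ h ≫ v = g)
    (p : Ideal A) [p.IsPrime] : IsAlgClosed p.ResidueField := by
  classical
  haveI : Nontrivial A := ⟨⟨0, 1, fun h => (inferInstance : p.IsPrime).ne_top
    ((Ideal.eq_top_iff_one p).2 (h ▸ p.zero_mem))⟩⟩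
  have hroots : ∀ P : Polynomial A, P.Monic → 0 < P.natDegree →
      ∃ t : A, Polynomial.aeval t P = 0 := by
    intro P hP hdeg
    haveI : Module.Free A (AdjoinRoot P) := hP.free_adjoinRoot
    haveI : Nontrivial (AdjoinRoot P) := by
      apply Ideal.Quotient.nontrivial_iff.2
      intro h
      rw [Ideal.span_singleton_eq_top, hP.isUnit_iff] at h
      rw [h, Polynomial.natDegree_one] at hdeg
      exact lt_irrefl _ hdeg
    haveI : Module.FaithfullyFlat A (AdjoinRoot P) := inferInstance
    let φ : CommRingCat.of A ⟶ CommRingCat.of (AdjoinRoot P) :=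
      CommRingCat.ofHom (algebraMap A (AdjoinRoot P))
    have hφ : φ.hom = algebraMap A (AdjoinRoot P) := rfl
    have hmem : Presieve.singleton (Spec.map φ) ∈ Scheme.precoverage
        (@Flat ⊓ @LocallyOfFinitePresentation ⊓ @QuasiCompact ⊓ @QuasiSeparated)
        (Spec (CommRingCat.of A)) := by
      rw [Scheme.singleton_mem_precoverage_iff]
      refine ⟨?_, ⟨⟨⟨?_, ?_⟩, inferInstance⟩, inferInstance⟩⟩
      · exact PrimeSpectrum.comap_surjective_of_faithfullyFlat (A := A) (B := AdjoinRoot P)
      · rw [Flat.SpecMap_iff, hφ, RingHom.flat_algebraMap_iff]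
        infer_instance
      · rw [HasRingHomProperty.Spec_iff (P := @LocallyOfFinitePresentation), hφ,
          RingHom.finitePresentation_algebraMap]
        infer_instance
    obtain ⟨Y, v, h, hv, hh⟩ := hloc _ _ hmem (𝟙 _)
    obtain ⟨⟩ := hv
    let ψ : CommRingCat.of (AdjoinRoot P) ⟶ CommRingCat.of A := Spec.preimage h
    have hψ : φ ≫ ψ = 𝟙 _ := by
      apply Spec.map_injective
      rw [Spec.map_comp, Spec.map_preimage, hh, Spec.map_id]
    have hψ' : ∀ a : A, ψ.hom (algebraMap A (AdjoinRoot P) a) = a := by
      intro a
      have := congrArg (fun k => k.hom a) hψ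
      exact this
    refine ⟨ψ.hom (AdjoinRoot.root P), ?_⟩
    have h1 : Polynomial.aeval (ψ.hom (AdjoinRoot.root P)) P =
        ψ.hom (Polynomial.aeval (AdjoinRoot.root P) P) := by
      rw [Polynomial.aeval_def, Polynomial.aeval_def, Polynomial.hom_eval₂]
      congr 1
      ext a
      exact (hψ' a).symm
    rw [h1, AdjoinRoot.aeval_eq, AdjoinRoot.mk_self, map_zero]
  exact (Groth.Agent.Lib.Helper12.AdjoinAllRoots.residueField_of_roots (A := A) (B := A)
    hroots p).1

end Groth.Agent.S19328
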