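import Groth.Statements.S19333
import Mathlib
-- import your own Groth.Agent.* helpers here

set_option autoImplicit false
universe u
open ModPair

namespace Groth.Agent.S19333

/-- Let A → B be any homomorphism of commutative rings. An element x of B is integral over A if and only
if for every field K, every valuation subring R of K and every ring homomorphism φ : B → K which
sends the image of A into R, the element φ(x) lies in R. In other words the integral closure of A in
B is the intersection of the subrings R ×_K B taken over all commutative squares A → R ⊆ K ← B with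
R a valuation ring of the field K. -/
theorem result {A B : Type u} [CommRing A]
    [CommRing B] [Algebra A B] (x : B) :
    x ∈ integralClosure A B ↔
      ∀ (K : Type u) [Field K] (R : ValuationSubring K) (φ : B →+* K),
        (∀ a : A, φ (algebraMap A B a) ∈ R) → φ x ∈ R := by
  classical
  constructor
  · -- integral ⇒ in every valuation ring
    intro hx K _ R φ hφ
    obtain ⟨q, hq, hqx⟩ := hx
    let g : A →+* R.toSubring := (φ.comp (algebraMap A B)).codRestrict R.toSubring hφ
    have hint : IsIntegral R (φ x) := by
      refine ⟨q.map g, hq.map g, ?_⟩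
      rw [Polynomial.eval₂_map]
      have hcomp : (algebraMap R K).comp g = φ.comp (algebraMap A B) := by
        ext a; rfl
      rw [hcomp, ← Polynomial.hom_eval₂, hqx, map_zero]
    obtain ⟨y, hy⟩ := (IsIntegrallyClosedIn.isIntegral_iff (R := R) (A := K)).1 hint
    rw [← hy]
    exact y.2
  · intro h
    by_contra hx
    -- the submonoid of values of monic polynomials at x
    let S : Submonoid B :=
      { carrier := {b | ∃ q : Polynomial A, q.Monic ∧ Polynomial.aeval x q = b}
        one_mem' := ⟨1, Polynomial.monic_one, by simp⟩
        mul_mem' := by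
          rintro a b ⟨p, hp, rfl⟩ ⟨q, hq, rfl⟩
          exact ⟨p * q, hp.mul hq, by simp⟩ }
    have hdisj : Disjoint ((⊥ : Ideal B) : Set B) S := by
      rw [Set.disjoint_left]
      rintro b hb ⟨q, hq, hqb⟩
      have hb0 : b = 0 := hb
      apply hx
      exact ⟨q, hq, by rw [← Polynomial.aeval_def, hqb, hb0]⟩
    obtain ⟨P, hP, -, hPS⟩ := Ideal.exists_le_prime_disjoint (⊥ : Ideal B) S hdisj
    let K := FractionRing (B ⧸ P)
    let ψ : B →+* K := (algebraMap (B ⧸ P) K).comp (Ideal.Quotient.mk P)
    let f : A →+* K := ψ.comp (algebraMap A B)
    have hmem : ψ x ∈ (⨅ V : {V : ValuationSubring K // (Set.range f) ⊆ V.toSubring},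
        V.1.toSubring) := by
      rw [Subring.mem_iInf]
      rintro ⟨V, hV⟩
      exact h K V ψ (fun a => hV ⟨a, rfl⟩)
    rw [iInf_valuationSubring_superset] at hmem
    have hint : IsIntegral (Subring.closure (Set.range f)) (ψ x) := hmem
    obtain ⟨p, hp, hpx⟩ := hint
    have hlift : p.map (algebraMap (Subring.closure (Set.range f)) K) ∈ Polynomial.lifts f := by
      rw [Polynomial.lifts_iff_coeff_lifts]
      intro n
      rw [Polynomial.coeff_map]
      have h2 : ∀ z : K, z ∈ Subring.closure (Set.range f) → z ∈ Set.range f := by
        intro z hz
        have h3 : Subring.closure (Set.range f) = f.range := by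
          rw [← RingHom.coe_range, Subring.closure_eq]
        rw [h3] at hz
        exact hz
      exact h2 _ (p.coeff n).2
    obtain ⟨q, hqmap, -, hq⟩ := Polynomial.lifts_and_natDegree_eq_and_monic hlift (hp.map _)
    have hzero : ψ (Polynomial.aeval x q) = 0 := by
      rw [Polynomial.aeval_def, Polynomial.hom_eval₂]
      change Polynomial.eval₂ f (ψ x) q = 0
      rw [← Polynomial.eval_map, hqmap, Polynomial.eval_map]
      exact hpx
    have hinP : Polynomial.aeval x q ∈ P := by
      have hinj : Function.Injective (algebraMap (B ⧸ P) K) := IsFractionRing.injective _ _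
      have : Ideal.Quotient.mk P (Polynomial.aeval x q) = 0 := by
        apply hinj
        rw [map_zero]
        exact hzero
      exact Ideal.Quotient.eq_zero_iff_mem.1 this
    exact Set.disjoint_left.1 hPS hinP ⟨q, hq, rfl⟩

end Groth.Agent.S19333
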