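import Groth.Statements.S19338
import Mathlib
-- import your own Groth.Agent.* helpers here

set_option autoImplicit false
universe w v u
open CategoryTheory
open ModPair

namespace Groth.Agent.S19338

/-- Let C be a category and S a class of morphisms which contains the identities, is closed under
composition, admits a right calculus of fractions, and consists of monomorphisms. Then the sieves
containing a morphism of S are the covering sieves of a Grothendieck topology on C, and for every
such topology J a presheaf of types F on C is a J-sheaf if and only if it is S-local, i.e. F sends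
every morphism of S to a bijection. -/
theorem result {C : Type u} [Category.{v} C]
    (S : MorphismProperty C) [S.HasRightCalculusOfFractions]
    (hmono : ∀ ⦃X Y : C⦄ (s : X ⟶ Y), S s → Mono s) :
    (∃ J : GrothendieckTopology C, ∀ (X : C) (T : Sieve X),
        T ∈ J X ↔ ∃ (Y : C) (s : Y ⟶ X), S s ∧ T s) ∧
      ∀ J : GrothendieckTopology C, (∀ (X : C) (T : Sieve X),
          T ∈ J X ↔ ∃ (Y : C) (s : Y ⟶ X), S s ∧ T s) →
        ∀ F : Cᵒᵖ ⥤ Type w,
          Presheaf.IsSheaf J F ↔ ∀ ⦃X Y : C⦄ (s : X ⟶ Y), S s → IsIso (F.map s.op) := by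
  classical
  have frac : ∀ {X' X Y : C} (f : X' ⟶ X) (s : Y ⟶ X), S s →
      ∃ (Z : C) (s' : Z ⟶ X') (f' : Z ⟶ Y), S s' ∧ s' ≫ f = f' ≫ s := by
    intro X' X Y f s hs
    obtain ⟨ψ, hψ⟩ := MorphismProperty.HasRightCalculusOfFractions.exists_rightFraction
      (W := S) (MorphismProperty.LeftFraction.mk f s hs)
    exact ⟨ψ.X', ψ.s, ψ.f, ψ.hs, hψ⟩
  refine ⟨?_, ?_⟩
  · refine ⟨{ sieves := fun X => {T | ∃ (Y : C) (s : Y ⟶ X), S s ∧ T s}
              top_mem' := fun X => ⟨X, 𝟙 X, S.id_mem X, trivial⟩
              pullback_stable' := ?_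
              transitive' := ?_ }, fun X T => Iff.rfl⟩
    · rintro X X' T f ⟨Y, s, hs, hTs⟩
      obtain ⟨Z, s', f', hs', e⟩ := frac f s hs
      refine ⟨Z, s', hs', ?_⟩
      change T (s' ≫ f)
      rw [e]
      exact T.downward_closed hTs f'
    · rintro X T ⟨Y, s, hs, hTs⟩ R hR
      obtain ⟨Z, s', hs', hRs'⟩ := hR hTs
      exact ⟨Z, s' ≫ s, S.comp_mem _ _ hs' hs, hRs'⟩
  · intro J hJ F
    rw [isSheaf_iff_isSheaf_of_type]
    constructor
    · intro hF X Y s hs
      have : Mono s := hmono s hs
      have hcov : Sieve.generate (Presieve.singleton s) ∈ J Y := by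
        rw [hJ]
        exact ⟨X, s, hs, Sieve.le_generate _ _ _ (Presieve.singleton_self s)⟩
      have h1 := hF _ hcov
      rw [← Presieve.isSheafFor_iff_generate, Presieve.isSheafFor_singleton] at h1
      rw [isIso_iff_bijective]
      constructor
      · intro a b hab
        obtain ⟨y, -, hy⟩ := h1 (F.map s.op a) (by
          intro Z p₁ p₂ e
          rw [(cancel_mono s).1 e])
        rw [hy a rfl, hy b hab.symm]
      · intro a
        obtain ⟨y, hy, -⟩ := h1 a (by
          intro Z p₁ p₂ e
          rw [(cancel_mono s).1 e])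
        exact ⟨y, hy⟩
    · intro hF X T hT
      rw [hJ] at hT
      obtain ⟨Y, s, hs, hTs⟩ := hT
      intro x hx
      have hbij : Function.Bijective (F.map s.op) := (isIso_iff_bijective _).1 (hF s hs)
      obtain ⟨t, ht⟩ := hbij.2 (x s hTs)
      refine ⟨t, ?_, ?_⟩
      · intro Z f hf
        obtain ⟨Z', s', f', hs', e⟩ := frac f s hs
        have hinj : Function.Injective (F.map s'.op) := ((isIso_iff_bijective _).1 (hF s' hs')).1
        apply hinj
        have h2 := hx s' f' hf hTs e
        rw [h2, ← ht, ← Functor.map_comp_apply, ← Functor.map_comp_apply,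
          ← op_comp, ← op_comp, e]
      · intro t' ht'
        apply hbij.1
        rw [ht, ht' s hTs]

end Groth.Agent.S19338
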