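import Groth.Statements.S19340
-- import your own Groth.Agent.* helpers here

set_option autoImplicit false
universe v v' u u'
open CategoryTheory
open ModPair

namespace Groth.Agent.S19340

/-- Let C be a category, S a class of morphisms of C containing the identities, closed under composition
and admitting a right calculus of fractions, and L : C ⥤ D a localization functor for S. Then for
every object X of C the comma category of L under X, whose objects are pairs (Y, L(X) ⟶ L(Y)) and
whose morphisms are morphisms Y ⟶ Y' of C compatible with the structure maps, is cofiltered. The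
published statement calls this category filtered; its proof verifies, and this row states,
cofilteredness. -/
theorem result {C : Type u}
    [Category.{v} C] {D : Type u'} [Category.{v'} D] (S : MorphismProperty C)
    [S.HasRightCalculusOfFractions] (L : C ⥤ D) [L.IsLocalization S] (X : C) :
    IsCofiltered (StructuredArrow (L.obj X) L) := by
  have hL : S.IsInvertedBy L := Localization.inverts L S
  have key : ∀ {Z Y : C} (t : Z ⟶ X) (ht : S t) (a : Z ⟶ Y) (f : L.obj X ⟶ L.obj Y),
      L.map t ≫ f = L.map a → (haveI := hL t ht; inv (L.map t)) ≫ L.map a = f := by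
    intro Z Y t ht a f h
    haveI := hL t ht
    rw [IsIso.inv_comp_eq, h]
  haveI : Nonempty (StructuredArrow (L.obj X) L) := ⟨StructuredArrow.mk (𝟙 (L.obj X))⟩
  haveI : IsCofilteredOrEmpty (StructuredArrow (L.obj X) L) := by
    refine ⟨?_, ?_⟩
    · intro A₁ A₂
      obtain ⟨φ₁, h₁⟩ := Localization.exists_rightFraction L S A₁.hom
      obtain ⟨φ₂, h₂⟩ := Localization.exists_rightFraction L S A₂.hom
      obtain ⟨ψ, hψ⟩ := MorphismProperty.HasRightCalculusOfFractions.exists_rightFraction
        (W := S) (MorphismProperty.LeftFraction.mk (W := S) φ₁.s φ₂.s φ₂.hs)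
      dsimp at hψ
      have ht : S (ψ.s ≫ φ₁.s) := S.comp_mem _ _ ψ.hs φ₁.hs
      haveI := hL _ ht
      refine ⟨StructuredArrow.mk (inv (L.map (ψ.s ≫ φ₁.s))),
        StructuredArrow.homMk (ψ.s ≫ φ₁.f) ?_, StructuredArrow.homMk (ψ.f ≫ φ₂.f) ?_, trivial⟩
      · dsimp
        apply key _ ht
        rw [h₁, L.map_comp, L.map_comp, Category.assoc,
          MorphismProperty.RightFraction.map_s_comp_map]
      · dsimp
        apply key _ ht
        rw [h₂, hψ, L.map_comp, L.map_comp, Category.assoc,
          MorphismProperty.RightFraction.map_s_comp_map]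
    · intro A A' g g'
      obtain ⟨φ, h⟩ := Localization.exists_rightFraction L S A.hom
      have hg : L.map (φ.f ≫ g.right) = L.map (φ.f ≫ g'.right) := by
        have e1 := StructuredArrow.w g
        have e2 := StructuredArrow.w g'
        rw [L.map_comp, L.map_comp, ← MorphismProperty.RightFraction.map_s_comp_map φ L hL,
          ← h, Category.assoc, Category.assoc, e1, e2]
      obtain ⟨Z, t, ht, eq⟩ := (MorphismProperty.map_eq_iff_precomp L S _ _).mp hg
      have hts : S (t ≫ φ.s) := S.comp_mem _ _ ht φ.hs
      haveI := hL _ hts
      refine ⟨StructuredArrow.mk (inv (L.map (t ≫ φ.s))),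
        StructuredArrow.homMk (t ≫ φ.f) ?_, ?_⟩
      · dsimp
        apply key _ hts
        rw [h, L.map_comp, L.map_comp, Category.assoc,
          MorphismProperty.RightFraction.map_s_comp_map]
      · ext
        simpa using eq
  exact ⟨⟩

end Groth.Agent.S19340
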