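import Groth.Statements.S19352
import Groth.Agent.Lib.Helper2.SecPos

set_option autoImplicit false
universe u
open CategoryTheory CategoryTheory.Limits AlgebraicGeometry
open Surf

namespace Groth.Agent.S19352

/-- Let k be an algebraically closed field and X a nonsingular projective surface over k, namely an
integral scheme, smooth over k, of dimension two, given with a closed immersion ι into a projective
space P^n_k over k, and let H = ι^* O(1) be the invertible module of a hyperplane section. If L is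
an invertible O_X-module (the module of a divisor D) with dim_k H^0(X, L) > 1, then (L·H) > 0. Here
(A·B) denotes the intersection number of two invertible modules, the alternating sum χ(O_X) − χ(A) −
χ(B) + χ(A ⊗ B) of Euler characteristics (cohomology in degrees at most two); for two invertible
modules this agrees with the same sum formed from their inverses. -/
theorem result (k : Type u) [Field k] [IsAlgClosed k]
    (X : Scheme.{u}) [X.Over (Spec (CommRingCat.of k))] [AlgebraicGeometry.IsIntegral X]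
    [Smooth (X ↘ Spec (CommRingCat.of k))] (hdim : topologicalKrullDim X = 2)
    (n : ℕ) (ι : X ⟶ CohB1.ProjSpace n k) [IsClosedImmersion ι]
    (hι : ι ≫ CohB1.ProjSpace.toSpec n k = X ↘ Spec (CommRingCat.of k))
    (L : X.Modules) (hL : PicF.IsInvertible L)
    (hsec : 1 < Module.finrank k (Coh.HH X L 0)) :
    0 < FGA.intNum k X 2 ![L, (Scheme.Modules.pullback ι).obj (Twist.twistProjSpace n k 1)] (Coh.structureModule X) := by
  classical
  haveI : IsProper (X ↘ Spec (CommRingCat.of k)) := by
    rw [← hι]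
    haveI := Groth.Agent.Lib.Helper28.ProjSpaceBasic.isProper_toSpec n k
    infer_instance
  haveI : IsNoetherian X := Groth.Agent.Lib.Helper2.IntNum1.isNoetherian k X
  have hdim2 : topologicalKrullDim X = ((1 + 1 : ℕ) : WithBot ℕ∞) := by rw [hdim]; rfl
  have hdim' : topologicalKrullDim X ≤ ((2 : ℕ) : WithBot ℕ∞) := by rw [hdim]; rfl
  have hH : PicF.IsInvertible ((Scheme.Modules.pullback ι).obj (Twist.twistProjSpace n k 1)) :=
    Groth.Agent.Lib.Helper28.PullbackInv.isInvertible_pullback ι
      (Groth.Agent.Lib.Helper2.Bridge5.isInvertible_twist k n 1)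
  have hH' : PicF.IsInvertible ((Scheme.Modules.pullback ι).obj (Twist.twistProjSpace n k (-1))) :=
    Groth.Agent.Lib.Helper28.PullbackInv.isInvertible_pullback ι
      (Groth.Agent.Lib.Helper2.Bridge5.isInvertible_twist k n (-1))
  obtain ⟨eH⟩ := Groth.Agent.Lib.Helper2.IntNum6.nonempty_pullback_twist_tensor_iso k n ι 1 (-1) (by norm_num)
  obtain ⟨eL⟩ := Groth.Agent.Lib.Helper6.InvDual.nonempty_tensor_dual_iso L hL
  set L' := Groth.Agent.Lib.Helper28.HomMod.dual L with hL'def
  have hL' : PicF.IsInvertible L' := Groth.Agent.Lib.Helper6.K0Inv.isInvertible_of_tensor_iso L L' hL eL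
  have hO : Coh.IsCoh (Coh.structureModule X) := Groth.Agent.Lib.Helper6.DevRed.isCoh_structureModule
  have hOi := Groth.Agent.Lib.Helper28.AmpleUnit.isInvertible_structureModule X
  set H := (Scheme.Modules.pullback ι).obj (Twist.twistProjSpace n k 1) with hHdef
  set H' := (Scheme.Modules.pullback ι).obj (Twist.twistProjSpace n k (-1)) with hH'def
  set cO := Groth.Agent.Lib.Helper6.K0Len.cls (Coh.structureModule X) with hcO
  haveI : Nontrivial (Coh.HH X L 0) := Module.nontrivial_of_finrank_pos (R := k) (by omega)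
  obtain ⟨σ, hσ⟩ := Groth.Agent.Lib.Helper2.IntNum7.exists_hom_ne_zero_of_nontrivial_HH L inferInstance
  have hne : (CohB1.support (cokernel σ)).Nonempty := by
    rw [Set.nonempty_iff_ne_empty]
    intro hemp
    haveI : Mono σ := Groth.Agent.Lib.Helper8.CurveInv.mono_of_ne_zero hOi hL σ hσ
    haveI := Groth.Agent.Lib.Helper2.SecPos.isIso_of_support_cokernel_empty σ hemp
    have h1 := Groth.Agent.Lib.Helper2.SecPos.finrank_HH_of_iso k (asIso σ) 0
    rw [Groth.Agent.Lib.Helper2.SecPos.finrank_H0_eq_one_of_isAlgClosed k X] at h1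
    omega
  have hpos := Groth.Agent.Lib.Helper2.SecPos.intNum_pos_of_section k n X ι hι 1 hdim2 L L' hL eL σ hσ hne
  -- conversion between the two forms of the intersection number
  set TL : AddMonoid.End (Groth.Agent.Lib.Helper4.Snapper.K0 X) := Groth.Agent.Lib.Helper6.K0Op.Top L with hTL
  set TL' : AddMonoid.End (Groth.Agent.Lib.Helper4.Snapper.K0 X) := Groth.Agent.Lib.Helper6.K0Op.Top L' with hTL'
  set TH : AddMonoid.End (Groth.Agent.Lib.Helper4.Snapper.K0 X) := Groth.Agent.Lib.Helper6.K0Op.Top H with hTH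
  set TH' : AddMonoid.End (Groth.Agent.Lib.Helper4.Snapper.K0 X) := Groth.Agent.Lib.Helper6.K0Op.Top H' with hTH'
  have hLL : TL * TL' = 1 := Groth.Agent.Lib.Helper2.IntNum2.Top_mul_Top_eq_one L L' hL eL
  have hHH : TH * TH' = 1 := Groth.Agent.Lib.Helper2.IntNum2.Top_mul_Top_eq_one H H' hH eH
  have hcomm : TL' * TH = TH * TL' := Groth.Agent.Lib.Helper4.Snapper.Top_comm L' H hL' hH
  have ha : (1 - TL) = TL * (TL' - 1) := by rw [mul_sub, mul_one, hLL]
  have hb : (1 - TH) = TH * (TH' - 1) := by rw [mul_sub, mul_one, hHH]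
  have hc : (TL' - 1) * TH = TH * (TL' - 1) := by rw [sub_mul, mul_sub, one_mul, mul_one, hcomm]
  have hneg : (TL' - 1) * (TH' - 1) = (1 - TL') * (1 - TH') := by
    simp only [sub_mul, mul_sub, one_mul, mul_one]; abel
  have hab : (1 - TL) * (1 - TH) = TL * (TH * ((1 - TL') * (1 - TH'))) := by
    rw [ha, hb, mul_assoc, ← mul_assoc (TL' - 1) TH, hc, mul_assoc, hneg]
  have hP1 : Groth.Agent.Lib.Helper2.IntNum1.Psi (![L, H] : Fin 2 → X.Modules) = (1 - TL) * (1 - TH) := by
    have h0 : (![L, H] : Fin 2 → X.Modules) = Fin.cons L (fun _ : Fin 1 => H) := by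
      funext j; fin_cases j <;> rfl
    rw [h0, Groth.Agent.Lib.Helper2.IntNum1.Psi_cons, Groth.Agent.Lib.Helper2.IntNum1.Psi_const, pow_one]
  have hP2 : Groth.Agent.Lib.Helper2.IntNum1.Psi
      (Matrix.vecCons L' (fun _ : Fin 1 => H') : Fin (1 + 1) → X.Modules) = (1 - TL') * (1 - TH') := by
    change Groth.Agent.Lib.Helper2.IntNum1.Psi (Fin.cons L' (fun _ : Fin 1 => H') : Fin (1 + 1) → X.Modules) = _
    rw [Groth.Agent.Lib.Helper2.IntNum1.Psi_cons, Groth.Agent.Lib.Helper2.IntNum1.Psi_const, pow_one]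
  have hinv1 : ∀ j, PicF.IsInvertible ((![L, H] : Fin 2 → X.Modules) j) := by
    intro j; fin_cases j
    · exact hL
    · exact hH
  have hinv2 : ∀ j, PicF.IsInvertible ((Matrix.vecCons L' (fun _ : Fin 1 => H') : Fin (1 + 1) → X.Modules) j) := by
    intro j
    refine Fin.cases ?_ (fun j' => ?_) j
    · simpa using hL'
    · simpa using hH'
  rw [Groth.Agent.Lib.Helper2.IntNum1.intNum_eq k X (1 + 1) hdim' _ hinv2 _ hO, hP2] at hpos
  rw [Groth.Agent.Lib.Helper2.IntNum1.intNum_eq k X 2 hdim' _ hinv1 _ hO, hP1, hab]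
  have hmem : ((1 - TL') * (1 - TH')) cO ∈ Groth.Agent.Lib.Helper6.K0Len.Hlt X 1 := by
    rw [← hP2]
    apply Groth.Agent.Lib.Helper2.IntNum1.Psi_mem_Hlt _ hinv2 1
    exact Groth.Agent.Lib.Helper2.IntNum6.cls_mem_Hlt_of_dim k X 2 hdim' _ hO
  have h2 : (TL * (TH * ((1 - TL') * (1 - TH')))) cO = ((1 - TL') * (1 - TH')) cO := by
    change TL (TH (((1 - TL') * (1 - TH')) cO)) = _
    rw [Groth.Agent.Lib.Helper2.IntNum4.Top_apply_of_mem_Hlt_one H hH _ hmem,
      Groth.Agent.Lib.Helper2.IntNum4.Top_apply_of_mem_Hlt_one L hL _ hmem]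
  rw [h2]
  exact hpos


end Groth.Agent.S19352
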