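import Groth.Statements.S19356
import Mathlib

set_option autoImplicit false
universe u
open AbVar

namespace Groth.Agent.S19356
open Module

/-- Key lemma: positive involutions on commutative finite-dimensional `ℚ`-algebras become complex
conjugation under every character. -/
theorem conj_of_pos {S : Type*} [CommRing S] [Algebra ℚ S] [Module.Finite ℚ S]
    (τ : S →ₐ[ℚ] S) (hτ : ∀ x, τ (τ x) = x) (σ : S →ₗ[ℚ] ℚ)
    (hpos : ∀ x : S, x ≠ 0 → 0 < σ (x * τ x))
    (ρ : S →ₐ[ℚ] ℂ) (x : S) : ρ (τ x) = starRingEnd ℂ (ρ x) := by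
  classical
  -- the symmetric bilinear form
  let B : LinearMap.BilinForm ℚ S :=
    LinearMap.mk₂ ℚ (fun u v => (σ (u * τ v) + σ (v * τ u)) / 2)
      (fun u u' v => by simp only [add_mul, map_add, mul_add]; ring)
      (fun c u v => by
        simp only [smul_mul_assoc, mul_smul_comm, map_smul, smul_eq_mul]; ring)
      (fun u v v' => by simp only [add_mul, map_add, mul_add]; ring)
      (fun c u v => by
        simp only [smul_mul_assoc, mul_smul_comm, map_smul, smul_eq_mul]; ring)
  have hB : ∀ u v, B u v = (σ (u * τ v) + σ (v * τ u)) / 2 := fun u v => rfl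
  have hBsymm : ∀ u v, B u v = B v u := fun u v => by rw [hB, hB, add_comm]
  have hBpos : ∀ u, u ≠ 0 → 0 < B u u := fun u hu => by
    rw [hB]; have := hpos u hu; linarith
  have hBadj : ∀ y u v, B (y * u) v = B u (τ y * v) := by
    intro y u v
    rw [hB, hB]
    simp only [map_mul, hτ]
    congr 2
    · congr 1; ring
    · congr 1; ring
  obtain ⟨v, hv⟩ := LinearMap.BilinForm.exists_orthogonal_basis (B := B) ⟨fun u v => hBsymm u v⟩
  rw [LinearMap.isOrthoᵢ_def] at hv
  set w : Fin (finrank ℚ S) → ℚ := fun i => B (v i) (v i) with hw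
  have hwpos : ∀ i, 0 < w i := fun i => hBpos _ (v.ne_zero i)
  have hcoef : ∀ y i, v.repr y i = B y (v i) / w i := by
    intro y i
    have h1 : B y (v i) = v.repr y i * w i := by
      conv_lhs => rw [← v.sum_repr y]
      rw [map_sum, LinearMap.sum_apply, Finset.sum_eq_single i]
      · simp [hw]
      · intro j _ hji
        simp [hv j i hji]
      · intro h; exact absurd (Finset.mem_univ i) h
    rw [h1, mul_div_assoc, div_self (hwpos i).ne', mul_one]
  have hρ : ∀ y, ρ y = ∑ i, ((B y (v i) / w i : ℚ) : ℂ) * ρ (v i) := by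
    intro y
    conv_lhs => rw [← v.sum_repr y]
    rw [map_sum]
    refine Finset.sum_congr rfl fun i _ => ?_
    rw [map_smul, hcoef, Rat.smul_def]
  set r : Fin (finrank ℚ S) → ℂ := fun i => ρ (v i) with hr
  set g : Fin (finrank ℚ S) → Fin (finrank ℚ S) → ℚ := fun i j => B (τ x * v i) (v j) with hg
  have E1 : ∀ j, ρ x * r j = ∑ i, ((g i j / w i : ℚ) : ℂ) * r i := by
    intro j
    rw [hr, ← map_mul, hρ (x * v j)]
    refine Finset.sum_congr rfl fun i _ => ?_
    rw [hBadj, hBsymm]
  have E2 : ∀ i, ρ (τ x) * r i = ∑ j, ((g i j / w j : ℚ) : ℂ) * r j := by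
    intro i
    rw [hr, ← map_mul, hρ (τ x * v i)]
  set N : ℂ := ∑ j, starRingEnd ℂ (r j) * r j / (w j : ℂ) with hN
  have hNreal : N = ((∑ j, Complex.normSq (r j) / (w j : ℝ) : ℝ) : ℂ) := by
    rw [hN, Complex.ofReal_sum]
    refine Finset.sum_congr rfl fun j _ => ?_
    rw [Complex.ofReal_div, Complex.normSq_eq_conj_mul_self]
    simp
  have hN0 : N ≠ 0 := by
    rw [hNreal, Complex.ofReal_ne_zero]
    apply ne_of_gt
    have hex : ∃ j, r j ≠ 0 := by
      by_contra hcon
      push Not at hcon
      have := hρ 1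
      rw [map_one] at this
      simp only [hr] at hcon
      simp [hcon] at this
    obtain ⟨j0, hj0⟩ := hex
    refine Finset.sum_pos' (fun j _ => ?_) ⟨j0, Finset.mem_univ _, ?_⟩
    · exact div_nonneg (Complex.normSq_nonneg _) (by exact_mod_cast (hwpos j).le)
    · exact div_pos (Complex.normSq_pos.mpr hj0) (by exact_mod_cast hwpos j0)
  have hkey : ρ x * N = starRingEnd ℂ (ρ (τ x)) * N := by
    have h1 : ρ x * N = ∑ j, ∑ i, starRingEnd ℂ (r j) / (w j : ℂ) * (((g i j / w i : ℚ) : ℂ) * r i) := by
      rw [hN, Finset.mul_sum]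
      refine Finset.sum_congr rfl fun j _ => ?_
      rw [← Finset.mul_sum, ← E1 j]
      ring
    have h2 : starRingEnd ℂ (ρ (τ x)) * N =
        ∑ i, ∑ j, (((g i j / w j : ℚ) : ℂ) * starRingEnd ℂ (r j)) * r i / (w i : ℂ) := by
      rw [hN, Finset.mul_sum]
      refine Finset.sum_congr rfl fun i _ => ?_
      have : starRingEnd ℂ (ρ (τ x)) * starRingEnd ℂ (r i) =
          ∑ j, ((g i j / w j : ℚ) : ℂ) * starRingEnd ℂ (r j) := by
        rw [← map_mul, E2 i, map_sum]
        refine Finset.sum_congr rfl fun j _ => ?_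
        rw [map_mul, map_ratCast]
      rw [← Finset.sum_div, ← Finset.sum_mul, ← this]
      ring
    rw [h1, h2, Finset.sum_comm]
    refine Finset.sum_congr rfl fun i _ => Finset.sum_congr rfl fun j _ => ?_
    push_cast
    ring
  have h3 := mul_right_cancel₀ hN0 hkey
  rw [h3, Complex.conj_conj]


/-- Let R be a finite-dimensional ℚ-algebra with a ℚ-linear involution x ↦ x† (an anti-automorphism of
order two) and a ℚ-linear functional σ with σ(x x†) > 0 for every x ≠ 0; this is the positivity of
the involution, σ being the trace of R over ℚ in the case of the endomorphism algebra of an abelian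
variety with a Rosati involution, and the trace on a cohomology group in the case of an algebra of
correspondences with the adjoint for a Weil form. Let α ∈ R with α α† = q for a rational number q.
Then α† lies in the subalgebra ℚ[α], and for every ℚ-algebra homomorphism ρ : ℚ[α] → ℂ one has ρ(α†)
= the complex conjugate of ρ(α) and |ρ(α)|² = q. (The published statement is for the endomorphism
algebra of an abelian variety with a Rosati involution, with σ its trace over ℚ and q an integer;
the form given here, for an arbitrary ℚ-linear functional σ positive on every x x† with x ≠ 0 and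
rational q, is what its proof establishes.) -/
theorem result (R : Type u) [Ring R] [Algebra ℚ R]
    [Module.Finite ℚ R] [StarRing R] [StarModule ℚ R]
    (σ : R →ₗ[ℚ] ℚ) (hpos : ∀ x : R, x ≠ 0 → 0 < σ (x * star x))
    (α : R) (q : ℚ) (hα : α * star α = algebraMap ℚ R q) :
    ∃ hmem : star α ∈ Algebra.adjoin ℚ ({α} : Set R),
      ∀ ρ : Algebra.adjoin ℚ ({α} : Set R) →ₐ[ℚ] ℂ,
        ρ ⟨star α, hmem⟩ = starRingEnd ℂ (ρ ⟨α, Algebra.self_mem_adjoin_singleton ℚ α⟩) ∧
          ‖ρ ⟨α, Algebra.self_mem_adjoin_singleton ℚ α⟩‖ ^ 2 = (q : ℝ) := by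
  classical
  set S := Algebra.adjoin ℚ ({α} : Set R) with hS
  have hαS : α ∈ S := Algebra.self_mem_adjoin_singleton ℚ α
  have hcomm : ∀ a b : S, a * b = b * a :=
    (Algebra.adjoinCommRingOfComm ℚ (s := ({α} : Set R)) (fun a ha b hb => by
      rw [Set.mem_singleton_iff] at ha hb; rw [ha, hb])).mul_comm
  have hcomm' : ∀ a ∈ S, ∀ b ∈ S, a * b = b * a := fun a ha b hb =>
    congrArg Subtype.val (hcomm ⟨a, ha⟩ ⟨b, hb⟩)
  haveI : Module.Finite ℚ S := Module.Finite.of_injective S.val.toLinearMap Subtype.val_injective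
  -- membership
  have hmem : star α ∈ S := by
    by_cases hα0 : α = 0
    · rw [hα0, star_zero]; exact S.zero_mem
    · have hq : q ≠ 0 := by
        rintro rfl
        have := hpos α hα0
        rw [hα, map_zero, map_zero] at this
        exact lt_irrefl _ this
      set β : R := q⁻¹ • star α with hβ
      have hαβ : α * β = 1 := by
        rw [hβ, mul_smul_comm, hα, Algebra.algebraMap_eq_smul_one, smul_smul, inv_mul_cancel₀ hq,
          one_smul]
      let m : S →ₗ[ℚ] S := LinearMap.mulLeft ℚ (⟨α, hαS⟩ : S)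
      have hminj : Function.Injective m := by
        rw [injective_iff_map_eq_zero]
        intro y hy
        have h1 : α * (y : R) = 0 := congrArg Subtype.val hy
        have h2 : (y : R) * α = 0 := by rw [hcomm' _ y.2 _ hαS]; exact h1
        apply Subtype.ext
        calc (y : R) = (y : R) * (α * β) := by rw [hαβ, mul_one]
          _ = 0 := by rw [← mul_assoc, h2, zero_mul]
      obtain ⟨y, hy⟩ := (LinearMap.injective_iff_surjective.mp hminj) 1
      have h1 : α * (y : R) = 1 := congrArg Subtype.val hy
      have h2 : (y : R) * α = 1 := by rw [hcomm' _ y.2 _ hαS]; exact h1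
      have h3 : β = y := by
        calc β = ((y : R) * α) * β := by rw [h2, one_mul]
          _ = y := by rw [mul_assoc, hαβ, mul_one]
      have h4 : star α = q • (y : R) := by
        rw [← h3, hβ, smul_smul, mul_inv_cancel₀ hq, one_smul]
      rw [h4]
      exact S.smul_mem y.2 q
  have hstar : ∀ y ∈ S, star y ∈ S := by
    intro y hy
    induction hy using Algebra.adjoin_induction with
    | mem x hx => rw [Set.mem_singleton_iff] at hx; rw [hx]; exact hmem
    | algebraMap c =>
      rw [← algebraMap_star_comm]; exact S.algebraMap_mem _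
    | add a b _ _ ha hb => rw [star_add]; exact S.add_mem ha hb
    | mul a b _ _ ha hb => rw [star_mul]; exact S.mul_mem hb ha
  refine ⟨hmem, fun ρ => ?_⟩
  letI : CommRing S := { (inferInstance : Ring S) with mul_comm := hcomm }
  let τ : S →ₐ[ℚ] S :=
    { toFun := fun y => ⟨star (y : R), hstar _ y.2⟩
      map_one' := Subtype.ext (by simp)
      map_mul' := fun a b => Subtype.ext (by
        show star ((a : R) * (b : R)) = star (a : R) * star (b : R)
        rw [star_mul, hcomm' _ (hstar _ b.2) _ (hstar _ a.2)])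
      map_zero' := Subtype.ext (by simp)
      map_add' := fun a b => Subtype.ext (by simp)
      commutes' := fun c => Subtype.ext (by
        show star (algebraMap ℚ R c) = algebraMap ℚ R c
        rw [← algebraMap_star_comm, star_trivial]) }
  have hτ : ∀ y, τ (τ y) = y := fun y => Subtype.ext (star_star (y : R))
  let σS : S →ₗ[ℚ] ℚ := σ ∘ₗ S.val.toLinearMap
  have hposS : ∀ y : S, y ≠ 0 → 0 < σS (y * τ y) := by
    intro y hy
    have : (y : R) ≠ 0 := fun h => hy (Subtype.ext h)
    exact hpos _ this
  have h1 := conj_of_pos τ hτ σS hposS ρ ⟨α, hαS⟩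
  have h1' : ρ ⟨star α, hmem⟩ = starRingEnd ℂ (ρ ⟨α, hαS⟩) := h1
  refine ⟨h1', ?_⟩
  have h2 : ρ ⟨α, hαS⟩ * ρ ⟨star α, hmem⟩ = (q : ℂ) := by
    rw [← map_mul]
    have : (⟨α, hαS⟩ : S) * ⟨star α, hmem⟩ = algebraMap ℚ S q := Subtype.ext hα
    rw [this, AlgHom.commutes]
    simp
  rw [h1', Complex.mul_conj] at h2
  have h3 : Complex.normSq (ρ ⟨α, hαS⟩) = (q : ℝ) := by
    apply Complex.ofReal_injective
    rw [h2]; simp
  rw [← h3, Complex.normSq_eq_norm_sq]

end Groth.Agent.S19356
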