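import Groth.Statements.S19374
-- import your own Groth.Agent.* helpers here
import Mathlib

set_option autoImplicit false
universe u
open CategoryTheory Opposite Instab
open Instab Instab.Fan

namespace Groth.Agent.S19374

theorem realMap_id {n : ICone} (v : Fin n.dim → ℝ) : ICone.Hom.realMap (𝟙 n) v = v := by
  funext j
  unfold ICone.Hom.realMap
  change ∑ i, (((LinearMap.id : (Fin n.dim → ℤ) →ₗ[ℤ] (Fin n.dim → ℤ)) (Pi.single i 1) j : ℤ) : ℝ) * v i = v j
  simp only [LinearMap.id_apply]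
  rw [Finset.sum_eq_single j]
  · simp
  · intro i _ hij
    rw [Pi.single_eq_of_ne (Ne.symm hij)]
    simp
  · intro h
    exact absurd (Finset.mem_univ j) h

theorem mk_smul {F : Fan.{u}} {n : ICone} (ξ : F.obj (op n)) (v w : Fan.Orth n) (c : ℝ) (hc : 0 < c)
    (h : w.1 = c • v.1) : Fan.P.mk ξ w = Fan.P.mk ξ v := by
  have hrel := Fan.Rel.glue (F := F) (𝟙 n) ξ v w c hc (by rw [realMap_id]; exact h)
  have e : F.map (𝟙 n).op ξ = ξ := by simp
  rw [e] at hrel
  exact (Quot.sound hrel).symm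

theorem comb_mem {n : ICone} (x y : Fin n.dim → ℝ) (hx : (∀ i, 0 ≤ x i) ∧ x ≠ 0)
    (hy : (∀ i, 0 ≤ y i) ∧ y ≠ 0) (a b : ℝ) (ha : 0 < a) (hb : 0 < b) :
    (∀ i, 0 ≤ (a • x + b • y) i) ∧ a • x + b • y ≠ 0 := by
  refine ⟨fun i => ?_, ?_⟩
  · simp only [Pi.add_apply, Pi.smul_apply, smul_eq_mul]
    have := hx.1 i
    have := hy.1 i
    positivity
  · intro h0
    apply hx.2
    funext i
    have hi := congr_fun h0 i
    simp only [Pi.add_apply, Pi.smul_apply, smul_eq_mul, Pi.zero_apply] at hi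
    have h1 := hx.1 i
    have h2 := hy.1 i
    have h3 : 0 ≤ a * x i := by positivity
    have h4 : 0 ≤ b * y i := by positivity
    have h5 : a * x i = 0 := by linarith
    rcases mul_eq_zero.1 h5 with h | h
    · exact absurd h ha.ne'
    · exact h

/-- Let F be a formal fan and U ⊆ P F. Then U is locally convex in the simplex-wise sense — for every
rational simplex, a ray lying strictly between two rays that map into U also maps into U — if and
only if, for every n-cone ξ of F, the set of nonzero nonnegative vectors v of ℝ^n whose point of the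
rational simplex of ξ lies in U is a convex subset of ℝ^n (convexity of the preimage of U in each
punctured cone of the affine realization). -/
theorem result (F : Fan.{u}) (U : Set (Fan.P F)) :
    Fan.IsLocallyConvex U ↔
      ∀ (n : ICone) (ξ : F.obj (op n)),
        Convex ℝ {v : Fin n.dim → ℝ | ∃ h : (∀ i, 0 ≤ v i) ∧ v ≠ 0, Fan.P.mk ξ (⟨v, h⟩ : Fan.Orth n) ∈ U} := by
  constructor
  · intro hU n ξ
    intro x hx y hy a b ha hb hab
    obtain ⟨hx', hxU⟩ := hx
    obtain ⟨hy', hyU⟩ := hy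
    rcases ha.eq_or_lt with ha0 | ha0
    · have hb1 : b = 1 := by linarith
      rw [← ha0, hb1, zero_smul, one_smul, zero_add]
      exact ⟨hy', hyU⟩
    rcases hb.eq_or_lt with hb0 | hb0
    · have ha1 : a = 1 := by linarith
      rw [← hb0, ha1, zero_smul, one_smul, add_zero]
      exact ⟨hx', hxU⟩
    refine ⟨comb_mem x y hx' hy' a b ha0 hb0, ?_⟩
    exact hU n ξ ⟨x, hx'⟩ ⟨a • x + b • y, comb_mem x y hx' hy' a b ha0 hb0⟩ ⟨y, hy'⟩ hxU hyU
      ⟨a, b, ha0, hb0, rfl⟩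
  · intro hC n ξ v₀ v₁ v₂ h₀ h₂ hseg
    obtain ⟨a, b, ha, hb, hv⟩ := hseg
    have hs : 0 < a + b := by linarith
    have hconv := hC n ξ
    have hm0 : v₀.1 ∈ {v : Fin n.dim → ℝ | ∃ h : (∀ i, 0 ≤ v i) ∧ v ≠ 0,
        Fan.P.mk ξ (⟨v, h⟩ : Fan.Orth n) ∈ U} := ⟨v₀.2, h₀⟩
    have hm2 : v₂.1 ∈ {v : Fin n.dim → ℝ | ∃ h : (∀ i, 0 ≤ v i) ∧ v ≠ 0,
        Fan.P.mk ξ (⟨v, h⟩ : Fan.Orth n) ∈ U} := ⟨v₂.2, h₂⟩
    have hmem := hconv hm0 hm2 (div_pos ha hs).le (div_pos hb hs).le (by field_simp)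
    obtain ⟨hw, hwU⟩ := hmem
    have heq : Fan.P.mk ξ (⟨(a / (a + b)) • v₀.1 + (b / (a + b)) • v₂.1, hw⟩ : Fan.Orth n) =
        Fan.P.mk ξ v₁ := by
      refine mk_smul ξ v₁ _ (1 / (a + b)) (by positivity) ?_
      change (a / (a + b)) • v₀.1 + (b / (a + b)) • v₂.1 = (1 / (a + b)) • v₁.1
      rw [hv, smul_add, smul_smul, smul_smul]
      congr 2 <;> field_simp
    rw [← heq]
    exact hwU

end Groth.Agent.S19374
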