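import Groth.Statements.S19380
import Mathlib.LinearAlgebra.Matrix.SchurComplement
import Mathlib.LinearAlgebra.Matrix.Charpoly.Coeff
-- import your own Groth.Agent.* helpers here

set_option autoImplicit false
universe u
open CAlg

namespace Groth.Agent.S19380

open Polynomial in
lemma charpolyRev_mul_comm {R : Type u} [CommRing R] {n : Type} [Fintype n] [DecidableEq n]
    (A B : Matrix n n R) : (A * B).charpolyRev = (B * A).charpolyRev := by
  unfold Matrix.charpolyRev
  rw [Matrix.map_mul, Matrix.map_mul, ← Matrix.smul_mul, Matrix.det_one_sub_mul_comm,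
    Matrix.mul_smul]

open Polynomial in
lemma charpolyRev_map {R S : Type u} [CommRing R] [CommRing S] (f : R →+* S) {n : Type} [Fintype n]
    [DecidableEq n] (M : Matrix n n R) : M.charpolyRev.map f = (M.map f).charpolyRev := by
  unfold Matrix.charpolyRev
  rw [← Polynomial.coe_mapRingHom, RingHom.map_det]
  congr 1
  ext i j
  simp [Matrix.one_apply, apply_ite]

/-- the twisted product -/
def tw {L : Type u} [CommRing L] (σ : L ≃+* L) {r : ℕ} (C : Matrix (Fin r) (Fin r) L) (d : ℕ) :
    Matrix (Fin r) (Fin r) L :=
  ((List.range d).map fun i => C.map ⇑(σ ^ i)).prod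

lemma tw_succ_right {L : Type u} [CommRing L] (σ : L ≃+* L) {r : ℕ} (C : Matrix (Fin r) (Fin r) L)
    (e : ℕ) : tw σ C (e + 1) = tw σ C e * C.map ⇑(σ ^ e) := by
  unfold tw
  rw [List.range_succ, List.map_append, List.prod_append, List.map_singleton, List.prod_singleton]

lemma tw_map {L : Type u} [CommRing L] (σ : L ≃+* L) {r : ℕ} (C : Matrix (Fin r) (Fin r) L)
    (e : ℕ) : (tw σ C e).map ⇑σ = ((List.range e).map fun i => C.map ⇑(σ ^ (i + 1))).prod := by
  unfold tw
  have := map_list_prod (σ : L →+* L).mapMatrix ((List.range e).map fun i => C.map ⇑(σ ^ i))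
  rw [RingHom.mapMatrix_apply] at this
  rw [RingEquiv.coe_toRingHom] at this
  rw [this, List.map_map]
  congr 1
  apply List.map_congr_left
  intro i _
  simp only [Function.comp_apply, RingHom.mapMatrix_apply, RingEquiv.coe_toRingHom, Matrix.map_map]
  congr 1
  ext x
  simp [pow_succ']

lemma tw_succ_left {L : Type u} [CommRing L] (σ : L ≃+* L) {r : ℕ} (C : Matrix (Fin r) (Fin r) L)
    (e : ℕ) : tw σ C (e + 1) = C * (tw σ C e).map ⇑σ := by
  rw [tw_map]
  unfold tw
  rw [List.range_succ_eq_map, List.map_cons, List.prod_cons, List.map_map]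
  congr 1

/-- Let L be a commutative ring, σ a ring automorphism of L of finite order dividing d (σ^d = 1), and C
an r × r matrix over L. The reverse characteristic polynomial det(1 − T·N) of the twisted product N
= C·σ(C)·σ²(C)⋯σ^(d−1)(C), with σ applied to the entries, is fixed by σ acting on coefficients. (In
the source this is phrased for the fibre at a closed point x of degree d of a convergent F-module
with Frobenius matrix C: the d-th iterate of the semilinear Frobenius of the fibre is the linear map
with matrix N, so its characteristic polynomial has coefficients in the subfield fixed by the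
Frobenius of K(x), namely K, and likewise with the valuation ring in place of K for an integral
F-module; only this linear-algebra statement, over any commutative ring, is given here.) -/
theorem result
    (L : Type u) [CommRing L] (σ : L ≃+* L) (d : ℕ) (hσ : σ ^ d = 1)
    (r : ℕ) (C : Matrix (Fin r) (Fin r) L) :
    (Matrix.charpolyRev (((List.range d).map fun i => C.map ⇑(σ ^ i)).prod)).map (σ : L →+* L) =
      Matrix.charpolyRev (((List.range d).map fun i => C.map ⇑(σ ^ i)).prod) := by
  change (tw σ C d).charpolyRev.map (σ : L →+* L) = (tw σ C d).charpolyRev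
  rw [charpolyRev_map]
  rcases d with _ | e
  · simp [tw]
  · have h1 : (tw σ C (e + 1)).map ⇑(σ : L →+* L) = (tw σ C e).map ⇑σ * C := by
      rw [tw_succ_right, RingEquiv.coe_toRingHom, Matrix.map_mul, Matrix.map_map]
      congr 1
      have : (⇑σ ∘ ⇑(σ ^ e)) = ⇑(σ ^ (e + 1)) := by
        ext x
        simp [pow_succ']
      rw [this, hσ]
      ext i j
      simp
    rw [h1, tw_succ_left, charpolyRev_mul_comm]

end Groth.Agent.S19380
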