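import Groth.Statements.S19381
import Groth.Agent.S1386
import Groth.Agent.Lib.Helper24.PtFlat.Basic

set_option autoImplicit false
universe u
open CategoryTheory CategoryTheory.Limits AlgebraicGeometry
open FlatMor

namespace Groth.Agent.S19381

open Groth.Agent.Lib.Helper24.PtFlat


/-- a closed subset of `Spec R` disjoint from `V(J)`, `J` in the Jacobson radical, is empty -/
theorem closed_disjoint_zeroLocus_jacobson {R : CommRingCat.{u}} (J : Ideal R)
    (hJ : J ≤ (⊥ : Ideal R).jacobson) (T : Set (Spec R)) (hT : IsClosed T)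
    (hd : ∀ p ∈ T, ¬ J ≤ p.asIdeal) : T = ∅ := by
  by_contra hne
  obtain ⟨p, hp⟩ := Set.nonempty_iff_ne_empty.2 hne
  obtain ⟨M, hM, hpM⟩ := Ideal.exists_le_maximal p.asIdeal p.2.ne_top
  let q : Spec R := ⟨M, hM.isPrime⟩
  have hq : q ∈ T := by
    have hspec : p ⤳ q := (PrimeSpectrum.le_iff_specializes p q).1 hpM
    exact hspec.mem_closed hT hp
  refine hd q hq (hJ.trans ?_)
  exact sInf_le ⟨bot_le, hM⟩

/-- finite type over a noetherian affine base is of finite presentation -/
theorem lfp_of_lft_noetherian {A : CommRingCat.{u}} [IsNoetherianRing A] {X : Scheme.{u}}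
    (h : X ⟶ Spec A) [LocallyOfFiniteType h] : LocallyOfFinitePresentation h := by
  haveI : IsNoetherianRing Γ(Spec A, ⊤) :=
    isNoetherianRing_of_ringEquiv A (Scheme.ΓSpecIso A).symm.commRingCatIsoToRingEquiv
  rw [HasRingHomProperty.iff_of_source_openCover (P := @LocallyOfFinitePresentation) X.affineCover]
  intro i
  rw [← RingHom.FinitePresentation.of_finiteType]
  exact (HasRingHomProperty.iff_of_source_openCover (P := @LocallyOfFiniteType) X.affineCover).1
    inferInstance i


/-- flatness of any base change through a factorization -/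
theorem flat_of_isPullback_of_factor {X Y Z W P : Scheme.{u}} (h : X ⟶ Y) (i : Z ⟶ Y)
    {p : P ⟶ X} {f' : P ⟶ W} {ι : W ⟶ Y}
    (sq : IsPullback p f' h ι) (t : W ⟶ Z) (ht : t ≫ i = ι) [Flat (pullback.snd h i)] :
    Flat f' := by
  subst ht
  let u : P ⟶ pullback h i := pullback.lift p (f' ≫ t) (by rw [sq.w, Category.assoc])
  have sq' : IsPullback u f' (pullback.snd h i) t := by
    refine IsPullback.of_right (h₁₂ := pullback.fst h i) (h₂₂ := i) (v₁₃ := h) ?_
      (pullback.lift_snd _ _ _) (IsPullback.of_hasPullback h i)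
    rw [pullback.lift_fst]; exact sq
  exact MorphismProperty.of_isPullback (P := @Flat) sq' inferInstance

theorem isPullback_fiberMap {X Y S : Scheme.{u}} (f : X ⟶ Y) (g : Y ⟶ S) (s : S) :
    IsPullback ((f ≫ g).fiberι s) (MoreMor.fiberMap f g s) f (g.fiberι s) := by
  refine IsPullback.of_bot (v₂₁ := pullback.snd g (S.fromSpecResidueField s)) (v₂₂ := g)
    (h₃₁ := S.fromSpecResidueField s) ?_ (pullback.lift_fst _ _ _).symm
    (IsPullback.of_hasPullback g (S.fromSpecResidueField s))
  have : MoreMor.fiberMap f g s ≫ pullback.snd g (S.fromSpecResidueField s) =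
      pullback.snd (f ≫ g) (S.fromSpecResidueField s) := pullback.lift_snd _ _ _
  rw [this]
  exact IsPullback.of_hasPullback (f ≫ g) _

/-- a morphism to `Spec A` killing `I` factors through `Spec (A ⧸ I)` -/
theorem exists_lift_quotient {T : Scheme.{u}} {A : CommRingCat.{u}} (I : Ideal A)
    (ι : T ⟶ Spec A) (hI : ∀ r ∈ I, ((Scheme.ΓSpecIso A).inv ≫ ι.appTop).hom r = 0) :
    ∃ t : T ⟶ Spec (CommRingCat.of (A ⧸ I)),
      t ≫ Spec.map (CommRingCat.ofHom (Ideal.Quotient.mk I)) = ι := by
  let ψ : A →+* Γ(T, ⊤) := ((Scheme.ΓSpecIso A).inv ≫ ι.appTop).hom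
  let θ : A ⧸ I →+* Γ(T, ⊤) := Ideal.Quotient.lift I ψ hI
  refine ⟨T.toSpecΓ ≫ Spec.map (CommRingCat.ofHom θ), ?_⟩
  have h1 : (T.toSpecΓ ≫ Spec.map (CommRingCat.ofHom θ)) ≫
      Spec.map (CommRingCat.ofHom (Ideal.Quotient.mk I)) =
      T.toSpecΓ ≫ Spec.map ((Scheme.ΓSpecIso A).inv ≫ ι.appTop) := by
    rw [Category.assoc, ← Spec.map_comp]
    congr 2
  rw [h1]
  apply ext_to_Spec
  show (Scheme.ΓSpecIso A).inv ≫
    (T.toSpecΓ ≫ Spec.map ((Scheme.ΓSpecIso A).inv ≫ ι.appTop)).appTop =
    (Scheme.ΓSpecIso A).inv ≫ ι.appTop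
  rw [Scheme.Hom.comp_appTop, ← Scheme.ΓSpecIso_inv_naturality_assoc, Scheme.toSpecΓ_appTop,
    Iso.inv_hom_id, Category.comp_id]


theorem fromSpecResidueField_appTop_eq_zero {V : CommRingCat.{u}} (s : Spec V) (m : V)
    (hm : m ∈ s.asIdeal) :
    ((Spec V).fromSpecResidueField s).appTop.hom ((Scheme.ΓSpecIso V).inv.hom m) = 0 := by
  rw [← AlgebraicGeometry.basicOpen_eq_bot_iff, ← Scheme.preimage_basicOpen_top, basicOpen_eq_of_affine]
  ext p
  have h1 : p ∈ (Spec V).fromSpecResidueField s ⁻¹ᵁ PrimeSpectrum.basicOpen m ↔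
      (Spec V).fromSpecResidueField s p ∈ PrimeSpectrum.basicOpen m := Iff.rfl
  rw [SetLike.mem_coe, SetLike.mem_coe, h1, Scheme.fromSpecResidueField_apply]
  constructor
  · intro h; exact absurd hm h
  · intro h; exact absurd h (by simp)

theorem flat_stalkMap_of_closed_fibre {V A : CommRingCat.{u}} (φ : V ⟶ A) (𝔪 : Ideal V)
    {X : Scheme.{u}} (h : X ⟶ Spec A)
    [LocallyOfFinitePresentation (h ≫ Spec.map φ)] [LocallyOfFiniteType (Spec.map φ)]
    [Flat (h ≫ Spec.map φ)]
    [Flat (pullback.snd h (Spec.map (CommRingCat.ofHom (Ideal.Quotient.mk (𝔪.map φ.hom)))))]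
    (x : X) (hx : 𝔪 ≤ ((Spec.map φ) (h x)).asIdeal) :
    (h.stalkMap x).hom.Flat := by
  have hvan : ∀ r ∈ 𝔪.map φ.hom, ((Scheme.ΓSpecIso A).inv ≫
      ((Spec.map φ).fiberι ((Spec.map φ) (h x))).appTop).hom r = 0 := by
    have hle : 𝔪.map φ.hom ≤ RingHom.ker ((Scheme.ΓSpecIso A).inv ≫
        ((Spec.map φ).fiberι ((Spec.map φ) (h x))).appTop).hom := by
      rw [Ideal.map_le_iff_le_comap]
      intro m hm
      rw [Ideal.mem_comap, RingHom.mem_ker]
      have h1 : φ ≫ (Scheme.ΓSpecIso A).inv = (Scheme.ΓSpecIso V).inv ≫ (Spec.map φ).appTop :=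
        Scheme.ΓSpecIso_inv_naturality φ
      have h2 : (φ ≫ (Scheme.ΓSpecIso A).inv) ≫
          ((Spec.map φ).fiberι ((Spec.map φ) (h x))).appTop =
          (Scheme.ΓSpecIso V).inv ≫ ((Spec V).fromSpecResidueField ((Spec.map φ) (h x))).appTop ≫
            ((Spec.map φ).fiberToSpecResidueField ((Spec.map φ) (h x))).appTop := by
        rw [h1, Category.assoc, ← Scheme.Hom.comp_appTop, (Spec.map φ).fiber_fac,
          Scheme.Hom.comp_appTop]
      have h3 := congrArg (fun k => k.hom m) h2
      simp only [CommRingCat.hom_comp, RingHom.comp_apply] at h3 ⊢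
      rw [h3, fromSpecResidueField_appTop_eq_zero _ m (hx hm), map_zero]
    exact fun r hr => hle hr
  obtain ⟨t, ht⟩ := exists_lift_quotient (𝔪.map φ.hom)
    ((Spec.map φ).fiberι ((Spec.map φ) (h x))) hvan
  haveI : Flat (MoreMor.fiberMap h (Spec.map φ) ((Spec.map φ) (h x))) :=
    flat_of_isPullback_of_factor h _ (isPullback_fiberMap h (Spec.map φ) _) t ht
  exact ((Groth.Agent.S1386.pointwise h (Spec.map φ) x).1
    ⟨Flat.stalkMap _ x, Flat.stalkMap _ _⟩).2

theorem flat_of_isField {R S : Type u} [CommRing R] [CommRing S] (f : R →+* S) (hR : IsField R) :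
    f.Flat := by
  letI := hR.toField
  letI : Algebra R S := f.toAlgebra
  show Module.Flat R S
  exact Module.Flat.of_free

theorem isField_stalk_of_asIdeal_eq_bot {V : CommRingCat.{u}} [IsDomain V] (s : Spec V)
    (hs : s.asIdeal = ⊥) : IsField ((Spec V).presheaf.stalk s) := by
  have : s = genericPoint (Spec V) := by
    rw [genericPoint_eq_bot_of_affine]
    exact PrimeSpectrum.ext hs
  subst this
  exact Field.toIsField (Spec V).functionField

theorem flat_comp_of_flat_completion {V A Ah A0 : CommRingCat.{u}} [IsDomain V]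
    [IsDiscreteValuationRing V]
    (φ : V ⟶ A) (γ : A ⟶ Ah) (q : A ⟶ A0) (ε : Ah ⟶ A0) (hε : γ ≫ ε = q)
    (hφ : φ.hom.Flat) (hγ : γ.hom.Flat)
    (hq : ∀ y : Spec A, (IsLocalRing.maximalIdeal V).map φ.hom ≤ y.asIdeal →
      y ∈ Set.range (Spec.map q))
    {X : Scheme.{u}} (h : X ⟶ Spec A) [Flat (pullback.snd h (Spec.map γ))] :
    Flat (h ≫ Spec.map φ) := by
  rw [Flat.iff_flat_stalkMap]
  intro x
  by_cases hs : ((h ≫ Spec.map φ) x).asIdeal = ⊥
  · exact flat_of_isField _ (isField_stalk_of_asIdeal_eq_bot _ hs)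
  · have hmax : ((h ≫ Spec.map φ) x).asIdeal = IsLocalRing.maximalIdeal V :=
      IsLocalRing.eq_maximalIdeal (((h ≫ Spec.map φ) x).2.isMaximal hs)
    have hle : (IsLocalRing.maximalIdeal V).map φ.hom ≤ (h x).asIdeal := by
      rw [Ideal.map_le_iff_le_comap]
      exact hmax.ge
    obtain ⟨z, hz⟩ := hq (h x) hle
    have hy : (Spec.map γ) (Spec.map ε z) = h x := by
      rw [← Scheme.Hom.comp_apply, ← Spec.map_comp, hε]; exact hz
    obtain ⟨x', hx1, hx2⟩ :=
      Scheme.Pullback.exists_preimage_pullback (f := h) (g := Spec.map γ) x (Spec.map ε z) hy.symm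
    haveI : Flat (Spec.map γ) := Flat.SpecMap_iff.2 hγ
    have h1 : ((pullback.fst h (Spec.map γ) ≫ h).stalkMap x').hom.Flat :=
      flat_stalkMap_of_eq pullback.condition x' (Flat.stalkMap _ x')
    have h2 := flat_stalkMap_of_comp (pullback.fst h _) h x' (Flat.stalkMap _ x') h1
    have h3 := flat_stalkMap_of_eq_point h hx1 h2
    haveI : Flat (Spec.map φ) := Flat.SpecMap_iff.2 hφ
    exact flat_stalkMap_comp h (Spec.map φ) x h3 (Flat.stalkMap _ _)

theorem flat_snd_of_closed_fibre {V A Ah : CommRingCat.{u}} (φ : V ⟶ A) (γ : A ⟶ Ah)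
    (𝔪 : Ideal V)
    (hJ : (𝔪.map φ.hom).map γ.hom ≤ (⊥ : Ideal Ah).jacobson)
    {X : Scheme.{u}} (h : X ⟶ Spec A) [IsProper h] [LocallyOfFinitePresentation h]
    [LocallyOfFinitePresentation (Spec.map φ)]
    [Flat (h ≫ Spec.map φ)]
    [Flat (pullback.snd h (Spec.map (CommRingCat.ofHom (Ideal.Quotient.mk (𝔪.map φ.hom)))))] :
    Flat (pullback.snd h (Spec.map γ)) := by
  have hopen := Groth.Agent.Lib.Helper21.FlatDesc.isOpen_flat_locus (pullback.snd h (Spec.map γ))
  have hZ : IsClosed {x : ↥(pullback h (Spec.map γ)) |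
      ((pullback.snd h (Spec.map γ)).stalkMap x).hom.Flat}ᶜ := hopen.isClosed_compl
  have himg := (pullback.snd h (Spec.map γ)).isClosedMap _ hZ
  have hempty := closed_disjoint_zeroLocus_jacobson _ hJ _ himg ?_
  · rw [Flat.iff_flat_stalkMap]
    intro x
    by_contra hx
    have : (pullback.snd h (Spec.map γ)) x ∈ (pullback.snd h (Spec.map γ)) ''
        {x | ((pullback.snd h (Spec.map γ)).stalkMap x).hom.Flat}ᶜ := ⟨x, hx, rfl⟩
    rw [hempty] at this
    exact this
  · rintro _ ⟨x', hx'Z, rfl⟩ hle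
    apply hx'Z
    refine flat_stalkMap_baseChange (IsPullback.of_hasPullback h (Spec.map γ)) x' ?_
    apply flat_stalkMap_of_closed_fibre φ 𝔪 h
    have hpt : h ((pullback.fst h (Spec.map γ)) x') =
        (Spec.map γ) ((pullback.snd h (Spec.map γ)) x') := by
      rw [← Scheme.Hom.comp_apply, ← Scheme.Hom.comp_apply, pullback.condition]
    rw [hpt]
    rw [Ideal.map_le_iff_le_comap, Ideal.map_le_iff_le_comap] at hle
    exact hle


/-- Over a discrete valuation ring, let V be a henselian discrete valuation ring with maximal ideal 𝔪, A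
a smooth V-algebra, Â the 𝔪A-adic completion of A, and h : X → Spec A a proper morphism with
reduction h₀ : X ×_{Spec A} Spec(A/𝔪A) → Spec(A/𝔪A). Then X is flat over V and h₀ is flat if and
only if the base change of h to Spec Â is flat. (The published statement is for an excellent normal
ring V with a henselian pair (V, V/I) and the projective lift h built from lifted equations, and
also lists the base changes to the weak completion and to the henselization of (A, 𝔪A); it rests on
a lemma asserting 'B flat over V iff B̂ flat over V' for V-algebras B of finite type, which fails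
when V has dimension ≥ 2 (V = ℤ_p[[x]], I = (p), B = V[y]/(x, py − 1) ≅ ℚ_p has B̂ = 0), so the
statement is given over a discrete valuation ring and for an arbitrary proper h.) -/
theorem result
    (V : Type u) [CommRing V] [IsDomain V] [IsDiscreteValuationRing V] [HenselianLocalRing V]
    (A : Type u) [CommRing A] [Algebra V A] [Algebra.Smooth V A]
    (X : Scheme.{u}) (h : X ⟶ Spec (.of A)) [IsProper h] :
    (Flat (h ≫ Spec.map (CommRingCat.ofHom (algebraMap V A))) ∧
        Flat (pullback.snd h (Spec.map (CommRingCat.ofHom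
          (Ideal.Quotient.mk ((IsLocalRing.maximalIdeal V).map (algebraMap V A))))))) ↔
      Flat (pullback.snd h (Spec.map (CommRingCat.ofHom
          (algebraMap A (AdicCompletion ((IsLocalRing.maximalIdeal V).map (algebraMap V A)) A))))) := by
  set I := (IsLocalRing.maximalIdeal V).map (algebraMap V A) with hI
  haveI : Algebra.FinitePresentation V A := Algebra.Smooth.finitePresentation
  haveI : IsNoetherianRing A := Algebra.FiniteType.isNoetherianRing V A
  haveI : IsNoetherianRing (CommRingCat.of A) := ‹_›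
  haveI : LocallyOfFinitePresentation h := lfp_of_lft_noetherian h
  haveI : LocallyOfFinitePresentation (Spec.map (CommRingCat.ofHom (algebraMap V A))) := by
    rw [HasRingHomProperty.Spec_iff (P := @LocallyOfFinitePresentation)]
    exact RingHom.finitePresentation_algebraMap.2 ‹_›
  have hfg : I.FG := (isNoetherianRing_iff_ideal_fg A).1 ‹_› I
  constructor
  · rintro ⟨h1, h2⟩
    haveI := h1
    haveI := h2
    refine flat_snd_of_closed_fibre (CommRingCat.ofHom (algebraMap V A))
      (CommRingCat.ofHom (algebraMap A (AdicCompletion I A))) (IsLocalRing.maximalIdeal V) ?_ h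
    haveI : IsAdicComplete I (AdicCompletion I A) := AdicCompletion.isAdicComplete hfg
    haveI : IsAdicComplete (I.map (algebraMap A (AdicCompletion I A))) (AdicCompletion I A) :=
      (IsAdicComplete.map_algebraMap_iff I (AdicCompletion I A)).2 ‹_›
    exact IsAdicComplete.le_jacobson_bot _
  · intro h3
    haveI := h3
    refine ⟨flat_comp_of_flat_completion (CommRingCat.ofHom (algebraMap V A))
      (CommRingCat.ofHom (algebraMap A (AdicCompletion I A)))
      (CommRingCat.ofHom (Ideal.Quotient.mk I))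
      (CommRingCat.ofHom (AdicCompletion.evalOneₐ I).toRingHom) ?_ ?_ ?_ ?_ h, ?_⟩
    · ext r
      exact AdicCompletion.evalOneₐ_of I r
    · exact RingHom.flat_algebraMap_iff.2 inferInstance
    · exact RingHom.flat_algebraMap_iff.2 inferInstance
    · intro y hy
      have : Set.range (Spec.map (CommRingCat.ofHom (Ideal.Quotient.mk I))) =
          PrimeSpectrum.zeroLocus (I : Set A) := by
        have := _root_.range_comap_of_surjective (A ⧸ I) (Ideal.Quotient.mk I)
          Ideal.Quotient.mk_surjective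
        rw [Ideal.mk_ker] at this
        exact this
      rw [this]
      exact hy
    · refine flat_of_isPullback_of_factor h
        (Spec.map (CommRingCat.ofHom (algebraMap A (AdicCompletion I A))))
        (IsPullback.of_hasPullback h _)
        (Spec.map (CommRingCat.ofHom (AdicCompletion.evalOneₐ I).toRingHom)) ?_
      rw [← Spec.map_comp]
      congr 1



end Groth.Agent.S19381
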