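import Groth.Statements.S19382
import Groth.Agent.S19381
import Groth.Agent.Lib.Helper24.FibHom.Props

set_option autoImplicit false
universe u
open CategoryTheory CategoryTheory.Limits AlgebraicGeometry
open FlatMor

namespace Groth.Agent.S19382

open Groth.Agent.Lib.Helper24.PtFlat Groth.Agent.S19381

theorem prop_of_isPullback_of_factor (P : MorphismProperty Scheme.{u}) [P.IsStableUnderBaseChange]
    {X Y Z W Q : Scheme.{u}} (h : X ⟶ Y) (i : Z ⟶ Y)
    {p : Q ⟶ X} {f' : Q ⟶ W} {ι : W ⟶ Y}
    (sq : IsPullback p f' h ι) (t : W ⟶ Z) (ht : t ≫ i = ι) (hP : P (pullback.snd h i)) :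
    P f' := by
  subst ht
  let u : Q ⟶ pullback h i := pullback.lift p (f' ≫ t) (by rw [sq.w, Category.assoc])
  have sq' : IsPullback u f' (pullback.snd h i) t := by
    refine IsPullback.of_right (h₁₂ := pullback.fst h i) (h₂₂ := i) (v₁₃ := h) ?_
      (pullback.lift_snd _ _ _) (IsPullback.of_hasPullback h i)
    rw [pullback.lift_fst]; exact sq
  exact MorphismProperty.of_isPullback (P := P) sq' hP

theorem smooth_snd_of_closed_fibre {A Ah : CommRingCat.{u}} (γ : A ⟶ Ah) (I : Ideal A)
    (hJ : I.map γ.hom ≤ (⊥ : Ideal Ah).jacobson)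
    {X : Scheme.{u}} (h : X ⟶ Spec A) [IsProper h] [LocallyOfFinitePresentation h]
    [Flat (pullback.snd h (Spec.map γ))]
    [Smooth (pullback.snd h (Spec.map (CommRingCat.ofHom (Ideal.Quotient.mk I))))] :
    Smooth (pullback.snd h (Spec.map γ)) := by
  rw [← Scheme.Hom.smoothLocus_eq_top_iff]
  have hZ : IsClosed (((pullback.snd h (Spec.map γ)).smoothLocus :
      Set ↥(pullback h (Spec.map γ)))ᶜ) :=
    (pullback.snd h (Spec.map γ)).smoothLocus.isOpen.isClosed_compl
  have himg := (pullback.snd h (Spec.map γ)).isClosedMap _ hZ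
  have hempty := closed_disjoint_zeroLocus_jacobson _ hJ _ himg ?_
  · rw [eq_top_iff]
    rintro x -
    by_contra hx
    have : (pullback.snd h (Spec.map γ)) x ∈ (pullback.snd h (Spec.map γ)) ''
        ((pullback.snd h (Spec.map γ)).smoothLocus : Set ↥(pullback h (Spec.map γ)))ᶜ :=
      ⟨x, hx, rfl⟩
    rw [hempty] at this
    exact this
  · rintro _ ⟨x', hx'Z, rfl⟩ hle
    apply hx'Z
    have hvan : ∀ r ∈ I, ((Scheme.ΓSpecIso A).inv ≫
        ((Spec Ah).fromSpecResidueField ((pullback.snd h (Spec.map γ)) x') ≫
          Spec.map γ).appTop).hom r = 0 := by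
      intro r hr
      have h1 : γ ≫ (Scheme.ΓSpecIso Ah).inv = (Scheme.ΓSpecIso A).inv ≫ (Spec.map γ).appTop :=
        Scheme.ΓSpecIso_inv_naturality γ
      have h2 : (Scheme.ΓSpecIso A).inv ≫
          ((Spec Ah).fromSpecResidueField ((pullback.snd h (Spec.map γ)) x') ≫
            Spec.map γ).appTop = (γ ≫ (Scheme.ΓSpecIso Ah).inv) ≫
          ((Spec Ah).fromSpecResidueField ((pullback.snd h (Spec.map γ)) x')).appTop := by
        rw [h1, Category.assoc, Scheme.Hom.comp_appTop]
      rw [h2]
      simp only [CommRingCat.hom_comp, RingHom.comp_apply]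
      exact fromSpecResidueField_appTop_eq_zero _ _ (hle (Ideal.mem_map_of_mem _ hr))
    obtain ⟨t, ht⟩ := exists_lift_quotient I _ hvan
    have hsm : Smooth ((pullback.snd h (Spec.map γ)).fiberToSpecResidueField
        ((pullback.snd h (Spec.map γ)) x')) :=
      prop_of_isPullback_of_factor @Smooth h _
        ((IsPullback.of_hasPullback (pullback.snd h (Spec.map γ))
          ((Spec Ah).fromSpecResidueField ((pullback.snd h (Spec.map γ)) x'))).paste_horiz
          (IsPullback.of_hasPullback h (Spec.map γ))) t ht inferInstance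
    obtain ⟨W, hxW, hW⟩ := Groth.Agent.Lib.Helper24.FibHom.fc_smooth
      (pullback.snd h (Spec.map γ)) x' _ rfl hsm
    have hpre := Scheme.Hom.preimage_smoothLocus_eq W.ι (pullback.snd h (Spec.map γ))
    rw [(Scheme.Hom.smoothLocus_eq_top_iff).2 hW] at hpre
    have hmem : (⟨x', hxW⟩ : W) ∈ W.ι ⁻¹ᵁ (pullback.snd h (Spec.map γ)).smoothLocus := by
      rw [hpre]; trivial
    exact hmem


/-- Over a discrete valuation ring, let V be a henselian discrete valuation ring with maximal ideal 𝔪, A
a smooth V-algebra, Â the 𝔪A-adic completion of A, and h : X → Spec A a proper morphism with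
reduction h₀ over Spec(A/𝔪A). Then X is flat over V and h₀ is smooth if and only if the base change
of h to Spec Â is smooth. (As for the flat case, the published statement concerns an excellent
normal base ring with a henselian pair and the projective lift built from lifted equations, together
with the weak completion and the henselization; it is given here over a discrete valuation ring and
for an arbitrary proper h.) -/
theorem result
    (V : Type u) [CommRing V] [IsDomain V] [IsDiscreteValuationRing V] [HenselianLocalRing V]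
    (A : Type u) [CommRing A] [Algebra V A] [Algebra.Smooth V A]
    (X : Scheme.{u}) (h : X ⟶ Spec (.of A)) [IsProper h] :
    (Flat (h ≫ Spec.map (CommRingCat.ofHom (algebraMap V A))) ∧
        Smooth (pullback.snd h (Spec.map (CommRingCat.ofHom
          (Ideal.Quotient.mk ((IsLocalRing.maximalIdeal V).map (algebraMap V A))))))) ↔
      Smooth (pullback.snd h (Spec.map (CommRingCat.ofHom
          (algebraMap A (AdicCompletion ((IsLocalRing.maximalIdeal V).map (algebraMap V A)) A))))) := by
  set I := (IsLocalRing.maximalIdeal V).map (algebraMap V A) with hI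
  haveI : Algebra.FinitePresentation V A := Algebra.Smooth.finitePresentation
  haveI : IsNoetherianRing A := Algebra.FiniteType.isNoetherianRing V A
  haveI : IsNoetherianRing (CommRingCat.of A) := ‹_›
  haveI : LocallyOfFinitePresentation h := lfp_of_lft_noetherian h
  have hfg : I.FG := (isNoetherianRing_iff_ideal_fg A).1 ‹_› I
  constructor
  · rintro ⟨h1, h2⟩
    haveI := h1
    haveI := h2
    haveI : Flat (pullback.snd h (Spec.map (CommRingCat.ofHom
          (algebraMap A (AdicCompletion I A))))) :=
      (Groth.Agent.S19381.result V A X h).1 ⟨h1, inferInstance⟩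
    refine smooth_snd_of_closed_fibre (CommRingCat.ofHom (algebraMap A (AdicCompletion I A))) I ?_ h
    haveI : IsAdicComplete I (AdicCompletion I A) := AdicCompletion.isAdicComplete hfg
    haveI : IsAdicComplete (I.map (algebraMap A (AdicCompletion I A))) (AdicCompletion I A) :=
      (IsAdicComplete.map_algebraMap_iff I (AdicCompletion I A)).2 ‹_›
    exact IsAdicComplete.le_jacobson_bot _
  · intro h3
    haveI := h3
    refine ⟨((Groth.Agent.S19381.result V A X h).2 inferInstance).1, ?_⟩
    refine prop_of_isPullback_of_factor @Smooth h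
        (Spec.map (CommRingCat.ofHom (algebraMap A (AdicCompletion I A))))
        (IsPullback.of_hasPullback h _)
        (Spec.map (CommRingCat.ofHom (AdicCompletion.evalOneₐ I).toRingHom)) ?_ h3
    rw [← Spec.map_comp]
    congr 1



end Groth.Agent.S19382
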