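import Groth.Statements.S19383
import Mathlib
-- import your own Groth.Agent.* helpers here

set_option autoImplicit false
universe u
open CAlg

namespace Groth.Agent.S19383

/-- Over a discrete valuation ring, let V be a henselian discrete valuation ring with maximal ideal 𝔪
and B a Noetherian V-algebra, B̂ its 𝔪B-adic completion. Then B is flat over V if and only if B̂ is
flat over V. (The published lemma takes V an excellent normal ring with an ideal I such that (V,
V/I) is a henselian pair and B of finite type; in that generality it fails: for V = ℤ_p[[x]], I =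
(p) and B = V[y]/(x, py − 1) ≅ ℚ_p one has IB = B, so B̂ = 0 is flat while B is not flat over V.
Over a discrete valuation ring flatness is torsion-freeness and the statement holds for every
Noetherian B.) -/
theorem result
    (V : Type u) [CommRing V] [IsDomain V] [IsDiscreteValuationRing V] [HenselianLocalRing V]
    (B : Type u) [CommRing B] [Algebra V B] [IsNoetherianRing B] :
    Module.Flat V B ↔
      Module.Flat V (AdicCompletion ((IsLocalRing.maximalIdeal V).map (algebraMap V B)) B) := by
  classical
  set J : Ideal B := (IsLocalRing.maximalIdeal V).map (algebraMap V B) with hJ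
  constructor
  · intro h
    exact Module.Flat.trans V B (AdicCompletion J B)
  · intro h
    obtain ⟨ϖ, hϖ⟩ := IsDiscreteValuationRing.exists_irreducible V
    have hJspan : J = Ideal.span {algebraMap V B ϖ} := by
      rw [hJ, hϖ.maximalIdeal_eq, Ideal.map_span, Set.image_singleton]
    have htors : Submodule.torsion V (AdicCompletion J B) = ⊥ := Module.Flat.torsion_eq_bot
    -- key: ϖ-torsion-free
    have key : ∀ b : B, ϖ • b = 0 → b = 0 := by
      intro b hb
      have h1 : ϖ • (AdicCompletion.of J B b) = 0 := by
        rw [← algebraMap_smul B ϖ (AdicCompletion.of J B b), ← map_smul, algebraMap_smul, hb,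
          map_zero]
      have h2 : AdicCompletion.of J B b ∈ Submodule.torsion V (AdicCompletion J B) := by
        refine ⟨⟨ϖ, mem_nonZeroDivisors_of_ne_zero hϖ.ne_zero⟩, h1⟩
      rw [htors, Submodule.mem_bot] at h2
      have h3 : b ∈ (⨅ i : ℕ, J ^ i • ⊤ : Submodule B B) := by
        rw [Submodule.mem_iInf]
        intro i
        have := congrArg (fun x => x.1 i) h2
        simp only [AdicCompletion.of_apply] at this
        exact (Submodule.Quotient.mk_eq_zero _).1 this
      rw [Ideal.mem_iInf_smul_pow_eq_bot_iff] at h3
      obtain ⟨⟨r, hr⟩, hrb⟩ := h3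
      rw [hJspan, Ideal.mem_span_singleton'] at hr
      obtain ⟨r', rfl⟩ := hr
      rw [← hrb]
      change (r' * algebraMap V B ϖ) • b = 0
      rw [mul_smul, algebraMap_smul, hb, smul_zero]
    have hpow : ∀ (n : ℕ) (b : B), ϖ ^ n • b = 0 → b = 0 := by
      intro n
      induction n with
      | zero => intro b hb; simpa using hb
      | succ n ih =>
        intro b hb
        apply ih
        apply key
        rw [smul_smul, ← pow_succ']
        exact hb
    rw [IsDedekindDomain.flat_iff_torsion_eq_bot, eq_bot_iff]
    rintro b ⟨⟨v, hv⟩, hvb⟩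
    rw [Submodule.mem_bot]
    have hv0 : v ≠ 0 := nonZeroDivisors.ne_zero hv
    obtain ⟨n, u, rfl⟩ := IsDiscreteValuationRing.eq_unit_mul_pow_irreducible hv0 hϖ
    change ((u : V) * ϖ ^ n) • b = 0 at hvb
    apply hpow n
    have h5 : ϖ ^ n • b = (↑u⁻¹ : V) • (((u : V) * ϖ ^ n) • b) := by
      rw [smul_smul, ← mul_assoc, Units.inv_mul, one_mul]
    rw [h5, hvb, smul_zero]

end Groth.Agent.S19383
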