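import Groth.Statements.S19384
-- import your own Groth.Agent.* helpers here
import Groth.Agent.Lib.Helper26.VerschFrob
import Groth.Agent.Lib.Helper26.PowConv

set_option autoImplicit false
universe u
open Versch

namespace Groth.Agent.S19384

/-- Over a field and for one finite level, let k be a field of characteristic p > 0 and G = Spec A a
finite commutative k-group scheme (A a finite-dimensional commutative cocommutative Hopf algebra)
killed by p^n, i.e. the p^n-th power map of G is the trivial homomorphism, and suppose the
Verschiebung of G is an isomorphism (the ring map v : A → A ⊗_k k^(p) characterised as the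
Verschiebung is bijective). Then G is infinitesimal, more precisely the n-th iterate of its
Frobenius is trivial: a^(p^n) = 0 for every a in the augmentation ideal. (The source states this for
the p^n-torsion levels of a p-divisible group of multiplicative type over any scheme of
characteristic p and reduces to a field fibre by fibre; it also records that the Cartier dual has
unipotent fibres, which is not stated here.) -/
theorem result
    (p : ℕ) [Fact p.Prime] (k : Type u) [Field k] [CharP k p]
    (A : Type u) [CommRing A] [HopfAlgebra k A] [Coalgebra.IsCocomm k A] [Module.Finite k A]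
    (n : ℕ)
    (hn : SGA3b.powConv k A (p ^ n) = (Algebra.ofId k A).comp (Bialgebra.counitAlgHom k A))
    (v : A →+* FrobAlg.BaseChange p k A) (hv : Versch.IsVerschiebung p k A v)
    (hbij : Function.Bijective v)
    (a : A) (ha : Coalgebra.counit (R := k) a = 0) : a ^ (p ^ n) = 0 := by
  classical
  have hinj : Function.Injective (algebraMap k A) := by
    intro r s h
    have := congrArg (Coalgebra.counit (R := k) (A := A)) h
    simpa using this
  haveI : CharP A p := charP_of_injective_algebraMap hinj p
  have hVF := Groth.Agent.Lib.Helper26.VerschFrob.relFrob_comp_v p k A v hv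
  -- every `p^j`-th power is in the image of `[p^j]`
  have key : ∀ j : ℕ, ∀ b : A, ∃ c : A, b ^ (p ^ j) = SGA3b.powConv k A (p ^ j) c := by
    intro j
    induction j with
    | zero =>
      intro b
      refine ⟨b, ?_⟩
      rw [pow_zero, pow_one, Groth.Agent.Lib.Helper26.PowConv.powConv_one]
      rfl
    | succ j ih =>
      intro b
      obtain ⟨c, hc⟩ := ih b
      obtain ⟨d, hd⟩ := hbij.2 (c ⊗ₜ[k] (1 : FrobAlg.Twist p k))
      have h1 : c ^ p = SGA3b.powConv k A p d := by
        have h2 : (FrobAlg.relFrob p k A) (v d) = SGA3b.powConv k A p d :=
          congrArg (fun φ : A →+* A => φ d) hVF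
        rw [← h2, hd, Groth.Agent.Lib.Helper26.VerschFrob.relFrob_tmul, map_one, map_one, mul_one]
      refine ⟨d, ?_⟩
      rw [pow_succ, pow_mul, hc, ← map_pow, h1,
        Groth.Agent.Lib.Helper26.PowConv.powConv_mul k A p (p ^ j)]
      rfl
  obtain ⟨c, hc⟩ := key n a
  rw [hn] at hc
  have hc' : a ^ (p ^ n) = algebraMap k A (Coalgebra.counit c) := hc
  have h3 := congrArg (Coalgebra.counit (R := k) (A := A)) hc'
  rw [Bialgebra.counit_algebraMap, Bialgebra.counit_pow, ha,
    zero_pow (pow_ne_zero n (Fact.out : p.Prime).ne_zero)] at h3
  rw [hc', ← h3, map_zero]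

end Groth.Agent.S19384
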