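import Groth.Statements.S19392
import Mathlib
-- import your own Groth.Agent.* helpers here

set_option autoImplicit false
universe u
open InvQ

namespace Groth.Agent.S19392

/-- Over a field of characteristic different from 2 and 3, a nonzero binary quartic f has P(f) = Q(f) =
0 for the two basic invariants P, Q if and only if f has a triple zero. Stated for f = ∏_i (μ_i X₀ −
λ_i X₁) given by four root points (λ_i, μ_i) ≠ (0, 0) (over an algebraically closed field every
nonzero quartic form is of this shape), with the integral invariants I = 6P and J = 72Q of the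
coefficients of f; a triple zero means that three of the four root points are pairwise proportional. -/
theorem result (k : Type u) [Field k]
    (h2 : (2 : k) ≠ 0) (h3 : (3 : k) ≠ 0) (la mu : Fin 4 → k) (hne : ∀ i, la i ≠ 0 ∨ mu i ≠ 0) :
    (W4c6intromoduli.invI (W4c6intromoduli.coef la mu) = 0 ∧
        W4c6intromoduli.invJ (W4c6intromoduli.coef la mu) = 0) ↔
      ∃ i j l : Fin 4, i ≠ j ∧ j ≠ l ∧ i ≠ l ∧
        la i * mu j = la j * mu i ∧ la j * mu l = la l * mu j := by
  classical
  let a0 : k := mu 0 * mu 1 * mu 2 * mu 3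
  let a1 : k := -(la 0 * mu 1 * mu 2 * mu 3 + mu 0 * la 1 * mu 2 * mu 3 + mu 0 * mu 1 * la 2 * mu 3 +
    mu 0 * mu 1 * mu 2 * la 3)
  let a2 : k := la 0 * la 1 * mu 2 * mu 3 + la 0 * mu 1 * la 2 * mu 3 + la 0 * mu 1 * mu 2 * la 3 +
    mu 0 * la 1 * la 2 * mu 3 + mu 0 * la 1 * mu 2 * la 3 + mu 0 * mu 1 * la 2 * la 3
  let a3 : k := -(la 0 * la 1 * la 2 * mu 3 + la 0 * la 1 * mu 2 * la 3 + la 0 * mu 1 * la 2 * la 3 +
    mu 0 * la 1 * la 2 * la 3)
  let a4 : k := la 0 * la 1 * la 2 * la 3
  have hpoly : W4c6intromoduli.rootPoly la mu =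
      Polynomial.C a0 + Polynomial.C a1 * Polynomial.X + Polynomial.C a2 * Polynomial.X ^ 2 +
        Polynomial.C a3 * Polynomial.X ^ 3 + Polynomial.C a4 * Polynomial.X ^ 4 := by
    simp only [W4c6intromoduli.rootPoly, Fin.prod_univ_four, a0, a1, a2, a3, a4, map_add, map_mul,
      map_neg]
    ring
  have c0 : W4c6intromoduli.coef la mu 0 = a0 := by
    simp [W4c6intromoduli.coef, hpoly, Polynomial.coeff_X_pow]
  have c1 : W4c6intromoduli.coef la mu 1 = a1 := by
    simp [W4c6intromoduli.coef, hpoly, Polynomial.coeff_X_pow, Polynomial.coeff_X]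
  have c2 : W4c6intromoduli.coef la mu 2 = a2 := by
    simp [W4c6intromoduli.coef, hpoly, Polynomial.coeff_X_pow]
  have c3 : W4c6intromoduli.coef la mu 3 = a3 := by
    simp [W4c6intromoduli.coef, hpoly, Polynomial.coeff_X_pow]
  have c4 : W4c6intromoduli.coef la mu 4 = a4 := by
    simp [W4c6intromoduli.coef, hpoly, Polynomial.coeff_X_pow]
  set A : k := (la 1 * mu 0 - la 0 * mu 1) * (la 3 * mu 2 - la 2 * mu 3) with hA
  set B : k := (la 2 * mu 0 - la 0 * mu 2) * (la 1 * mu 3 - la 3 * mu 1) with hB
  set C : k := (la 3 * mu 0 - la 0 * mu 3) * (la 2 * mu 1 - la 1 * mu 2) with hC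
  have hABC : A + B + C = 0 := by simp only [hA, hB, hC]; ring
  have hI : 2 * W4c6intromoduli.invI (W4c6intromoduli.coef la mu) = A ^ 2 + B ^ 2 + C ^ 2 := by
    simp only [W4c6intromoduli.invI, c0, c1, c2, c3, c4, a0, a1, a2, a3, a4, hA, hB, hC]
    ring
  have hJ : W4c6intromoduli.invJ (W4c6intromoduli.coef la mu) = (A - B) * (B - C) * (C - A) := by
    simp only [W4c6intromoduli.invJ, c0, c1, c2, c3, c4, a0, a1, a2, a3, a4, hA, hB, hC]
    ring
  have h6 : (6 : k) ≠ 0 := by
    have : (6 : k) = 2 * 3 := by norm_num
    rw [this]; exact mul_ne_zero h2 h3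
  have key : (W4c6intromoduli.invI (W4c6intromoduli.coef la mu) = 0 ∧
      W4c6intromoduli.invJ (W4c6intromoduli.coef la mu) = 0) ↔ (A = 0 ∧ B = 0 ∧ C = 0) := by
    constructor
    · rintro ⟨hI0, hJ0⟩
      rw [hI0, mul_zero] at hI
      rw [hJ0] at hJ
      have hJ' := hJ.symm
      rcases mul_eq_zero.1 hJ' with h | h
      · rcases mul_eq_zero.1 h with h | h
        · -- A = B
          have hAB : A = B := sub_eq_zero.1 h
          have hCe : C = -2 * A := by linear_combination hABC + hAB
          have : 6 * A ^ 2 = 0 := by rw [hCe, ← hAB] at hI; linear_combination -hI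
          have hA0 : A = 0 := by
            rcases mul_eq_zero.1 this with h' | h'
            · exact absurd h' h6
            · exact pow_eq_zero_iff (two_ne_zero) |>.1 h'
          refine ⟨hA0, ?_, ?_⟩
          · rw [← hAB]; exact hA0
          · rw [hCe, hA0, mul_zero]
        · -- B = C
          have hBC : B = C := sub_eq_zero.1 h
          have hAe : A = -2 * B := by linear_combination hABC + hBC
          have : 6 * B ^ 2 = 0 := by rw [hAe, ← hBC] at hI; linear_combination -hI
          have hB0 : B = 0 := by
            rcases mul_eq_zero.1 this with h' | h'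
            · exact absurd h' h6
            · exact pow_eq_zero_iff (two_ne_zero) |>.1 h'
          refine ⟨?_, hB0, ?_⟩
          · rw [hAe, hB0, mul_zero]
          · rw [← hBC]; exact hB0
      · -- C = A
        have hCA : C = A := sub_eq_zero.1 h
        have hBe : B = -2 * A := by linear_combination hABC - hCA
        have : 6 * A ^ 2 = 0 := by rw [hBe, hCA] at hI; linear_combination -hI
        have hA0 : A = 0 := by
          rcases mul_eq_zero.1 this with h' | h'
          · exact absurd h' h6
          · exact pow_eq_zero_iff (two_ne_zero) |>.1 h'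
        refine ⟨hA0, ?_, ?_⟩
        · rw [hBe, hA0, mul_zero]
        · rw [hCA]; exact hA0
    · rintro ⟨hA0, hB0, hC0⟩
      constructor
      · have : 2 * W4c6intromoduli.invI (W4c6intromoduli.coef la mu) = 0 := by
          rw [hI, hA0, hB0, hC0]; ring
        rcases mul_eq_zero.1 this with h' | h'
        · exact absurd h' h2
        · exact h'
      · rw [hJ, hA0, hB0, hC0]; ring
  rw [key]
  constructor
  · rintro ⟨hA0, hB0, -⟩
    rcases mul_eq_zero.1 hA0 with h01 | h23 <;> rcases mul_eq_zero.1 hB0 with h02 | h31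
    · exact ⟨1, 0, 2, by decide, by decide, by decide, sub_eq_zero.1 h01, (sub_eq_zero.1 h02).symm⟩
    · exact ⟨0, 1, 3, by decide, by decide, by decide, (sub_eq_zero.1 h01).symm, sub_eq_zero.1 h31⟩
    · exact ⟨3, 2, 0, by decide, by decide, by decide, sub_eq_zero.1 h23, sub_eq_zero.1 h02⟩
    · exact ⟨2, 3, 1, by decide, by decide, by decide, (sub_eq_zero.1 h23).symm, (sub_eq_zero.1 h31).symm⟩
  · rintro ⟨i, j, l, hij, hjl, hil, h1, h2'⟩
    have h3' : la i * mu l = la l * mu i := by
      rcases hne j with hj | hj
      · have : la j * (la i * mu l - la l * mu i) = 0 := by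
          linear_combination (la i) * h2' + (la l) * h1
        rcases mul_eq_zero.1 this with h' | h'
        · exact absurd h' hj
        · exact sub_eq_zero.1 h'
      · have : mu j * (la i * mu l - la l * mu i) = 0 := by
          linear_combination (mu l) * h1 + (mu i) * h2'
        rcases mul_eq_zero.1 this with h' | h'
        · exact absurd h' hj
        · exact sub_eq_zero.1 h'
    simp only [hA, hB, hC, mul_eq_zero, sub_eq_zero]
    fin_cases i <;> fin_cases j <;> fin_cases l <;>
      first
        | exact absurd rfl hij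
        | exact absurd rfl hjl
        | exact absurd rfl hil
        | (refine ⟨?_, ?_, ?_⟩ <;>
            first
              | exact Or.inl h1 | exact Or.inl h1.symm | exact Or.inl h2' | exact Or.inl h2'.symm
              | exact Or.inl h3' | exact Or.inl h3'.symm
              | exact Or.inr h1 | exact Or.inr h1.symm | exact Or.inr h2' | exact Or.inr h2'.symm
              | exact Or.inr h3' | exact Or.inr h3'.symm)

end Groth.Agent.S19392
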