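import Groth.Statements.S19393
import Mathlib

set_option autoImplicit false
universe u
open InvQ

namespace Groth.Agent.S19393

open W4c6intromoduli MvPolynomial

section Helpers

variable {k : Type u} [Field k]

lemma subst_lin (M : Matrix (Fin 2) (Fin 2) k) (l m : k) :
    subst M (C m * X 0 - C l * X 1) =
      C (m * M 0 0 - l * M 1 0) * X 0 - C (l * M 1 1 - m * M 0 1) * X 1 := by
  simp only [subst, map_sub, map_mul, aeval_C, aeval_X, Fin.sum_univ_two, algebraMap_eq]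
  ring

lemma prod4 {R : Type*} [CommRing R] (a b c d A B C D : R) :
    a * A * (b * B) * (c * C) * (d * D) = (a * b * c * d) * (A * B * C * D) := by ring

lemma core (l0 l1 l2 l3 m0 m1 m2 m3 l0' l1' l2' l3' m0' m1' m2' m3' : k)
    (h01 : l0 * m1 - l1 * m0 ≠ 0) (h02 : l0 * m2 - l2 * m0 ≠ 0) (h21 : l2 * m1 - l1 * m2 ≠ 0)
    (h31 : l3 * m1 - l1 * m3 ≠ 0)
    (h01' : l0' * m1' - l1' * m0' ≠ 0) (h02' : l0' * m2' - l2' * m0' ≠ 0)
    (h21' : l2' * m1' - l1' * m2' ≠ 0) (h31' : l3' * m1' - l1' * m3' ≠ 0)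
    (hcr : ((l0 * m1 - l1 * m0) * (l2 * m3 - l3 * m2)) * ((l0' * m2' - l2' * m0') * (l3' * m1' - l1' * m3')) =
      ((l0 * m2 - l2 * m0) * (l3 * m1 - l1 * m3)) * ((l0' * m1' - l1' * m0') * (l2' * m3' - l3' * m2'))) :
    ∃ (M : Matrix (Fin 2) (Fin 2) k) (c : k), IsUnit M.det ∧ c ≠ 0 ∧
      (C m0' * X 0 - C l0' * X 1) * (C m1' * X 0 - C l1' * X 1) * (C m2' * X 0 - C l2' * X 1) *
        (C m3' * X 0 - C l3' * X 1) =
      C c * subst M ((C m0 * X 0 - C l0 * X 1) * (C m1 * X 0 - C l1 * X 1) * (C m2 * X 0 - C l2 * X 1) *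
        (C m3 * X 0 - C l3 * X 1) : MvPolynomial (Fin 2) k) := by
  obtain ⟨s, hs⟩ : ∃ s : k, s = (l2' * m1' - l1' * m2') * (l0 * m2 - l2 * m0) := ⟨_, rfl⟩
  obtain ⟨t, ht⟩ : ∃ t : k, t = (l0' * m2' - l2' * m0') * (l2 * m1 - l1 * m2) := ⟨_, rfl⟩
  have hs0 : s ≠ 0 := by rw [hs]; exact mul_ne_zero h21' h02
  have ht0 : t ≠ 0 := by rw [ht]; exact mul_ne_zero h02' h21
  obtain ⟨N00, hN00⟩ : ∃ N00 : k, N00 = s * l0' * m1 - t * l1' * m0 := ⟨_, rfl⟩
  obtain ⟨N01, hN01⟩ : ∃ N01 : k, N01 = -(s * l0' * l1) + t * l1' * l0 := ⟨_, rfl⟩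
  obtain ⟨N10, hN10⟩ : ∃ N10 : k, N10 = s * m0' * m1 - t * m1' * m0 := ⟨_, rfl⟩
  obtain ⟨N11, hN11⟩ : ∃ N11 : k, N11 = -(s * m0' * l1) + t * m1' * l0 := ⟨_, rfl⟩
  obtain ⟨c0, hc0⟩ : ∃ c0 : k, c0 = s * (l0 * m1 - l1 * m0) := ⟨_, rfl⟩
  obtain ⟨c1, hc1⟩ : ∃ c1 : k, c1 = t * (l0 * m1 - l1 * m0) := ⟨_, rfl⟩
  obtain ⟨c2, hc2⟩ : ∃ c2 : k, c2 = (l2 * m1 - l1 * m2) * (l0 * m2 - l2 * m0) * (l0' * m1' - l1' * m0') := ⟨_, rfl⟩
  obtain ⟨Xx, hXx⟩ : ∃ Xx : k, Xx = (l3 * m1 - l1 * m3) * (l2' * m1' - l1' * m2') * (l0 * m2 - l2 * m0) := ⟨_, rfl⟩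
  obtain ⟨c3, hc3⟩ : ∃ c3 : k, c3 = Xx * (l0' * m1' - l1' * m0') / (l3' * m1' - l1' * m3') := ⟨_, rfl⟩
  have hc00 : c0 ≠ 0 := by rw [hc0]; exact mul_ne_zero hs0 h01
  have hc10 : c1 ≠ 0 := by rw [hc1]; exact mul_ne_zero ht0 h01
  have hc20 : c2 ≠ 0 := by rw [hc2]; exact mul_ne_zero (mul_ne_zero h21 h02) h01'
  have hc30 : c3 ≠ 0 := by rw [hc3, hXx]; exact div_ne_zero (mul_ne_zero (mul_ne_zero (mul_ne_zero h31 h21') h02) h01') h31'
  refine ⟨!![N11, -N01; -N10, N00], (c0 * c1 * c2 * c3)⁻¹, ?_, ?_, ?_⟩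
  · rw [Matrix.det_fin_two_of, isUnit_iff_ne_zero]
    have : N11 * N00 - -N01 * -N10 = s * t * (l0 * m1 - l1 * m0) * (l0' * m1' - l1' * m0') := by
      simp only [hN00, hN01, hN10, hN11]; ring
    rw [this]
    exact mul_ne_zero (mul_ne_zero (mul_ne_zero hs0 ht0) h01) h01'
  · exact inv_ne_zero (mul_ne_zero (mul_ne_zero (mul_ne_zero hc00 hc10) hc20) hc30)
  · have e0 : subst !![N11, -N01; -N10, N00] (C m0 * X 0 - C l0 * X 1) =
        C c0 * (C m0' * X 0 - C l0' * X 1) := by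
      rw [subst_lin]
      simp only [Matrix.of_apply, Matrix.cons_val', Matrix.cons_val_zero, Matrix.cons_val_one,
        Matrix.cons_val_fin_one]
      have a1 : m0 * N11 - l0 * -N10 = c0 * m0' := by
        simp only [hN10, hN11, hc0]; ring
      have a2 : l0 * N00 - m0 * -N01 = c0 * l0' := by
        simp only [hN00, hN01, hc0]; ring
      rw [a1, a2, C_mul, C_mul]; ring
    have e1 : subst !![N11, -N01; -N10, N00] (C m1 * X 0 - C l1 * X 1) =
        C c1 * (C m1' * X 0 - C l1' * X 1) := by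
      rw [subst_lin]
      simp only [Matrix.of_apply, Matrix.cons_val', Matrix.cons_val_zero, Matrix.cons_val_one,
        Matrix.cons_val_fin_one]
      have a1 : m1 * N11 - l1 * -N10 = c1 * m1' := by
        simp only [hN10, hN11, hc1]; ring
      have a2 : l1 * N00 - m1 * -N01 = c1 * l1' := by
        simp only [hN00, hN01, hc1]; ring
      rw [a1, a2, C_mul, C_mul]; ring
    have e2 : subst !![N11, -N01; -N10, N00] (C m2 * X 0 - C l2 * X 1) =
        C c2 * (C m2' * X 0 - C l2' * X 1) := by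
      rw [subst_lin]
      simp only [Matrix.of_apply, Matrix.cons_val', Matrix.cons_val_zero, Matrix.cons_val_one,
        Matrix.cons_val_fin_one]
      have a1 : m2 * N11 - l2 * -N10 = c2 * m2' := by
        simp only [hN10, hN11, hc2, hs, ht]; ring
      have a2 : l2 * N00 - m2 * -N01 = c2 * l2' := by
        simp only [hN00, hN01, hc2, hs, ht]; ring
      rw [a1, a2, C_mul, C_mul]; ring
    have e3 : subst !![N11, -N01; -N10, N00] (C m3 * X 0 - C l3 * X 1) =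
        C c3 * (C m3' * X 0 - C l3' * X 1) := by
      rw [subst_lin]
      simp only [Matrix.of_apply, Matrix.cons_val', Matrix.cons_val_zero, Matrix.cons_val_one,
        Matrix.cons_val_fin_one]
      have a1 : m3 * N11 - l3 * -N10 = c3 * m3' := by
        rw [hc3, div_mul_eq_mul_div, eq_div_iff h31']
        simp only [hN10, hN11, hXx, hs, ht]
        linear_combination (m1') * hcr
      have a2 : l3 * N00 - m3 * -N01 = c3 * l3' := by
        rw [hc3, div_mul_eq_mul_div, eq_div_iff h31']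
        simp only [hN00, hN01, hXx, hs, ht]
        linear_combination (l1') * hcr
      rw [a1, a2, C_mul, C_mul]; ring
    rw [map_mul, map_mul, map_mul, e0, e1, e2, e3]
    have hcc : c0 * c1 * c2 * c3 ≠ 0 := mul_ne_zero (mul_ne_zero (mul_ne_zero hc00 hc10) hc20) hc30
    rw [prod4, ← C_mul, ← C_mul, ← C_mul, ← mul_assoc, ← C_mul, inv_mul_cancel₀ hcc, C_1, one_mul]

lemma inv_ABC (la mu : Fin 4 → k) :
    2 * invI (coef la mu) =
      ((la 1 * mu 0 - la 0 * mu 1) * (la 3 * mu 2 - la 2 * mu 3)) ^ 2 +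
      ((la 2 * mu 0 - la 0 * mu 2) * (la 1 * mu 3 - la 3 * mu 1)) ^ 2 +
      ((la 3 * mu 0 - la 0 * mu 3) * (la 2 * mu 1 - la 1 * mu 2)) ^ 2 ∧
    invJ (coef la mu) =
      (((la 1 * mu 0 - la 0 * mu 1) * (la 3 * mu 2 - la 2 * mu 3)) -
        ((la 2 * mu 0 - la 0 * mu 2) * (la 1 * mu 3 - la 3 * mu 1))) *
      (((la 2 * mu 0 - la 0 * mu 2) * (la 1 * mu 3 - la 3 * mu 1)) -
        ((la 3 * mu 0 - la 0 * mu 3) * (la 2 * mu 1 - la 1 * mu 2))) *
      (((la 3 * mu 0 - la 0 * mu 3) * (la 2 * mu 1 - la 1 * mu 2)) -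
        ((la 1 * mu 0 - la 0 * mu 1) * (la 3 * mu 2 - la 2 * mu 3))) := by
  classical
  let a0 : k := mu 0 * mu 1 * mu 2 * mu 3
  let a1 : k := -(la 0 * mu 1 * mu 2 * mu 3 + mu 0 * la 1 * mu 2 * mu 3 + mu 0 * mu 1 * la 2 * mu 3 +
    mu 0 * mu 1 * mu 2 * la 3)
  let a2 : k := la 0 * la 1 * mu 2 * mu 3 + la 0 * mu 1 * la 2 * mu 3 + la 0 * mu 1 * mu 2 * la 3 +
    mu 0 * la 1 * la 2 * mu 3 + mu 0 * la 1 * mu 2 * la 3 + mu 0 * mu 1 * la 2 * la 3
  let a3 : k := -(la 0 * la 1 * la 2 * mu 3 + la 0 * la 1 * mu 2 * la 3 + la 0 * mu 1 * la 2 * la 3 +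
    mu 0 * la 1 * la 2 * la 3)
  let a4 : k := la 0 * la 1 * la 2 * la 3
  have hpoly : rootPoly la mu =
      Polynomial.C a0 + Polynomial.C a1 * Polynomial.X + Polynomial.C a2 * Polynomial.X ^ 2 +
        Polynomial.C a3 * Polynomial.X ^ 3 + Polynomial.C a4 * Polynomial.X ^ 4 := by
    simp only [rootPoly, Fin.prod_univ_four, a0, a1, a2, a3, a4, map_add, map_mul,
      map_neg]
    ring
  have c0 : coef la mu 0 = a0 := by
    simp [coef, hpoly, Polynomial.coeff_X_pow]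
  have c1 : coef la mu 1 = a1 := by
    simp [coef, hpoly, Polynomial.coeff_X_pow, Polynomial.coeff_X]
  have c2 : coef la mu 2 = a2 := by
    simp [coef, hpoly, Polynomial.coeff_X_pow]
  have c3 : coef la mu 3 = a3 := by
    simp [coef, hpoly, Polynomial.coeff_X_pow]
  have c4 : coef la mu 4 = a4 := by
    simp [coef, hpoly, Polynomial.coeff_X_pow]
  constructor
  · simp only [invI, c0, c1, c2, c3, c4, a0, a1, a2, a3, a4]
    ring
  · simp only [invJ, c0, c1, c2, c3, c4, a0, a1, a2, a3, a4]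
    ring

lemma br_ne (la mu : Fin 4 → k) (hd : disc la mu ≠ 0) (i j : Fin 4) (hij : i ≠ j) :
    la i * mu j - la j * mu i ≠ 0 := by
  intro h0
  apply hd
  unfold disc
  rcases lt_or_gt_of_ne hij with hlt | hgt
  · apply Finset.prod_eq_zero (i := (i, j))
    · simp [hlt]
    · have : la j * mu i - la i * mu j = -(la i * mu j - la j * mu i) := by ring
      simp only [this, h0]; ring
  · apply Finset.prod_eq_zero (i := (j, i))
    · simp [hgt]
    · simp only [h0]; ring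

lemma key_identity (A B A' B' : k) :
    (A ^ 2 + B ^ 2 + (-A - B) ^ 2) ^ 3 * ((A' - B') * (B' - (-A' - B')) * ((-A' - B') - A')) ^ 2 -
      (A' ^ 2 + B' ^ 2 + (-A' - B') ^ 2) ^ 3 * ((A - B) * (B - (-A - B)) * ((-A - B) - A)) ^ 2 =
    -216 * ((A * B' - B * A') * (-B * B' + A * A') * (-A * B' + (-A - B) * A') *
      (-(-A - B) * B' + B * A') * (B * B' - (-A - B) * A') * ((-A - B) * B' - A * A')) := by
  ring

lemma binForm_eq (la mu : Fin 4 → k) : binForm la mu =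
    (C (mu 0) * X 0 - C (la 0) * X 1) * (C (mu 1) * X 0 - C (la 1) * X 1) *
      (C (mu 2) * X 0 - C (la 2) * X 1) * (C (mu 3) * X 0 - C (la 3) * X 1) := by
  simp only [binForm, Fin.prod_univ_four]

end Helpers


/-- Over a field of characteristic different from 2 and 3, two binary quartics without double zeros
lying in the same fibre of the map to the projective line given by the invariants, i.e. with
proportional (P³, Q²), are equivalent under a linear substitution of the variables up to a nonzero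
constant factor. Stated for split quartics f = ∏_i (μ_i X₀ − λ_i X₁) given by root points (λ_i, μ_i)
≠ (0, 0), with the integral invariants I = 6P, J = 72Q and the discriminant ∏_{i<j} (λ_j μ_i − λ_i
μ_j)²; only the assertion that such a fibre is a single orbit is stated (not its closedness). -/
theorem result (k : Type u) [Field k]
    (h2 : (2 : k) ≠ 0) (h3 : (3 : k) ≠ 0) (la mu la' mu' : Fin 4 → k)
    (hne : ∀ i, la i ≠ 0 ∨ mu i ≠ 0) (hne' : ∀ i, la' i ≠ 0 ∨ mu' i ≠ 0)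
    (hd : W4c6intromoduli.disc la mu ≠ 0) (hd' : W4c6intromoduli.disc la' mu' ≠ 0)
    (h : W4c6intromoduli.invI (W4c6intromoduli.coef la mu) ^ 3
          * W4c6intromoduli.invJ (W4c6intromoduli.coef la' mu') ^ 2 =
        W4c6intromoduli.invI (W4c6intromoduli.coef la' mu') ^ 3
          * W4c6intromoduli.invJ (W4c6intromoduli.coef la mu) ^ 2) :
    ∃ (M : Matrix (Fin 2) (Fin 2) k) (c : k), IsUnit M.det ∧ c ≠ 0 ∧
      W4c6intromoduli.binForm la' mu' =
        MvPolynomial.C c * W4c6intromoduli.subst M (W4c6intromoduli.binForm la mu) := by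
  obtain ⟨hI, hJ⟩ := inv_ABC la mu
  obtain ⟨hI', hJ'⟩ := inv_ABC la' mu'
  obtain ⟨A, hA⟩ : ∃ A : k, A = (la 1 * mu 0 - la 0 * mu 1) * (la 3 * mu 2 - la 2 * mu 3) := ⟨_, rfl⟩
  obtain ⟨B, hB⟩ : ∃ B : k, B = (la 2 * mu 0 - la 0 * mu 2) * (la 1 * mu 3 - la 3 * mu 1) := ⟨_, rfl⟩
  obtain ⟨A', hA'⟩ : ∃ A' : k, A' = (la' 1 * mu' 0 - la' 0 * mu' 1) * (la' 3 * mu' 2 - la' 2 * mu' 3) := ⟨_, rfl⟩
  obtain ⟨B', hB'⟩ : ∃ B' : k, B' = (la' 2 * mu' 0 - la' 0 * mu' 2) * (la' 1 * mu' 3 - la' 3 * mu' 1) := ⟨_, rfl⟩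
  have hC : (la 3 * mu 0 - la 0 * mu 3) * (la 2 * mu 1 - la 1 * mu 2) = -A - B := by rw [hA, hB]; ring
  have hC' : (la' 3 * mu' 0 - la' 0 * mu' 3) * (la' 2 * mu' 1 - la' 1 * mu' 2) = -A' - B' := by
    rw [hA', hB']; ring
  rw [hC, ← hA, ← hB] at hI hJ
  rw [hC', ← hA', ← hB'] at hI' hJ'
  have hF := key_identity A B A' B'
  rw [← hI, ← hJ, ← hI', ← hJ'] at hF
  have h216 : (-216 : k) ≠ 0 := by
    have : (-216 : k) = -(2 ^ 3 * 3 ^ 3) := by norm_num
    rw [this]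
    exact neg_ne_zero.mpr (mul_ne_zero (pow_ne_zero _ h2) (pow_ne_zero _ h3))
  have hprod : (A * B' - B * A') * (-B * B' + A * A') * (-A * B' + (-A - B) * A') *
      (-(-A - B) * B' + B * A') * (B * B' - (-A - B) * A') * ((-A - B) * B' - A * A') = 0 := by
    have : (2 * invI (coef la mu)) ^ 3 * invJ (coef la' mu') ^ 2 -
        (2 * invI (coef la' mu')) ^ 3 * invJ (coef la mu) ^ 2 = 0 := by
      linear_combination 8 * h
    rw [this] at hF
    exact (mul_eq_zero.mp hF.symm).resolve_left h216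
  have b := br_ne la mu hd
  have b' := br_ne la' mu' hd'
  have n01' := b' 0 1 (by decide)
  have n02' := b' 0 2 (by decide)
  have n21' := b' 2 1 (by decide)
  have n31' := b' 3 1 (by decide)
  rw [binForm_eq la' mu']
  rcases mul_eq_zero.mp hprod with hp | h6
  rcases mul_eq_zero.mp hp with hp | h5
  rcases mul_eq_zero.mp hp with hp | h4
  rcases mul_eq_zero.mp hp with hp | h3'
  rcases mul_eq_zero.mp hp with h1 | h2'
  · -- identity
    have hb : binForm la mu = (C (mu 0) * X 0 - C (la 0) * X 1) * (C (mu 1) * X 0 - C (la 1) * X 1) *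
      (C (mu 2) * X 0 - C (la 2) * X 1) * (C (mu 3) * X 0 - C (la 3) * X 1) := by
      rw [binForm_eq]
    rw [hb]
    apply core _ _ _ _ _ _ _ _ _ _ _ _ _ _ _ _ (b 0 1 (by decide)) (b 0 2 (by decide))
      (b 2 1 (by decide)) (b 3 1 (by decide)) n01' n02' n21' n31'
    rw [hA, hB, hA', hB'] at h1
    linear_combination h1
  · have hb : binForm la mu = (C (mu 0) * X 0 - C (la 0) * X 1) * (C (mu 2) * X 0 - C (la 2) * X 1) *
      (C (mu 1) * X 0 - C (la 1) * X 1) * (C (mu 3) * X 0 - C (la 3) * X 1) := by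
      rw [binForm_eq]; ring
    rw [hb]
    apply core _ _ _ _ _ _ _ _ _ _ _ _ _ _ _ _ (b 0 2 (by decide)) (b 0 1 (by decide))
      (b 1 2 (by decide)) (b 3 2 (by decide)) n01' n02' n21' n31'
    rw [hA, hB, hA', hB'] at h2'
    first
      | linear_combination h2'
      | linear_combination (-1) * h2'
  · have hb : binForm la mu = (C (mu 0) * X 0 - C (la 0) * X 1) * (C (mu 1) * X 0 - C (la 1) * X 1) *
      (C (mu 3) * X 0 - C (la 3) * X 1) * (C (mu 2) * X 0 - C (la 2) * X 1) := by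
      rw [binForm_eq]; ring
    rw [hb]
    apply core _ _ _ _ _ _ _ _ _ _ _ _ _ _ _ _ (b 0 1 (by decide)) (b 0 3 (by decide))
      (b 3 1 (by decide)) (b 2 1 (by decide)) n01' n02' n21' n31'
    rw [hA, hB, hA', hB'] at h3'
    first
      | linear_combination h3'
      | linear_combination (-1) * h3'
  · have hb : binForm la mu = (C (mu 0) * X 0 - C (la 0) * X 1) * (C (mu 3) * X 0 - C (la 3) * X 1) *
      (C (mu 2) * X 0 - C (la 2) * X 1) * (C (mu 1) * X 0 - C (la 1) * X 1) := by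
      rw [binForm_eq]; ring
    rw [hb]
    apply core _ _ _ _ _ _ _ _ _ _ _ _ _ _ _ _ (b 0 3 (by decide)) (b 0 2 (by decide))
      (b 2 3 (by decide)) (b 1 3 (by decide)) n01' n02' n21' n31'
    rw [hA, hB, hA', hB'] at h4
    first
      | linear_combination h4
      | linear_combination (-1) * h4
  · have hb : binForm la mu = (C (mu 0) * X 0 - C (la 0) * X 1) * (C (mu 2) * X 0 - C (la 2) * X 1) *
      (C (mu 3) * X 0 - C (la 3) * X 1) * (C (mu 1) * X 0 - C (la 1) * X 1) := by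
      rw [binForm_eq]; ring
    rw [hb]
    apply core _ _ _ _ _ _ _ _ _ _ _ _ _ _ _ _ (b 0 2 (by decide)) (b 0 3 (by decide))
      (b 3 2 (by decide)) (b 1 2 (by decide)) n01' n02' n21' n31'
    rw [hA, hB, hA', hB'] at h5
    first
      | linear_combination h5
      | linear_combination (-1) * h5
  · have hb : binForm la mu = (C (mu 0) * X 0 - C (la 0) * X 1) * (C (mu 3) * X 0 - C (la 3) * X 1) *
      (C (mu 1) * X 0 - C (la 1) * X 1) * (C (mu 2) * X 0 - C (la 2) * X 1) := by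
      rw [binForm_eq]; ring
    rw [hb]
    apply core _ _ _ _ _ _ _ _ _ _ _ _ _ _ _ _ (b 0 3 (by decide)) (b 0 1 (by decide))
      (b 1 3 (by decide)) (b 2 3 (by decide)) n01' n02' n21' n31'
    rw [hA, hB, hA', hB'] at h6
    first
      | linear_combination h6
      | linear_combination (-1) * h6

end Groth.Agent.S19393
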