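import Groth.Statements.S19395
import Groth.Agent.S19394
-- import your own Groth.Agent.* helpers here

set_option autoImplicit false
universe u
open InvQ

namespace Groth.Agent.S19395

section H
namespace W1

open Module
open scoped Classical

section Conj

variable {k : Type u} [Field k] [IsAlgClosed k] {V : Type*} [AddCommGroup V] [Module k V]
  [FiniteDimensional k V]

omit [IsAlgClosed k] in
lemma finrank_eigenspace_eq (f : End k V) (hf : f.IsSemisimple) (μ : k) :
    finrank k (f.eigenspace μ) = f.charpoly.rootMultiplicity μ := by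
  rw [← (Module.End.isFinitelySemisimple_iff_isSemisimple.mpr hf).maxGenEigenspace_eq_eigenspace μ]
  exact LinearMap.finrank_maxGenEigenspace_eq f μ

lemma isInternal_eigenspace (f : End k V) (hf : f.IsSemisimple) :
    DirectSum.IsInternal f.eigenspace :=
  DirectSum.isInternal_submodule_of_iSupIndep_of_iSup_eq_top f.eigenspaces_iSupIndep
    hf.iSup_eigenspace_eq_top

/-- eigenbasis -/
noncomputable def eigBasis (f : End k V) (hf : f.IsSemisimple) :
    Basis (Σ μ : k, Fin (f.charpoly.rootMultiplicity μ)) k V :=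
  (isInternal_eigenspace f hf).collectedBasis
    (fun μ => Module.finBasisOfFinrankEq k (f.eigenspace μ) (finrank_eigenspace_eq f hf μ))

lemma eigBasis_apply (f : End k V) (hf : f.IsSemisimple)
    (a : Σ μ : k, Fin (f.charpoly.rootMultiplicity μ)) :
    f (eigBasis f hf a) = a.1 • eigBasis f hf a := by
  have := (isInternal_eigenspace f hf).collectedBasis_mem
    (fun μ => Module.finBasisOfFinrankEq k (f.eigenspace μ) (finrank_eigenspace_eq f hf μ)) a
  exact Module.End.mem_eigenspace_iff.1 this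

theorem exists_conj (f₁ f₂ : End k V) (h₁ : f₁.IsSemisimple) (h₂ : f₂.IsSemisimple)
    (hc : f₁.charpoly = f₂.charpoly) :
    ∃ e : V ≃ₗ[k] V, ∀ v, e (f₁ v) = f₂ (e v) := by
  let σ : (Σ μ : k, Fin (f₁.charpoly.rootMultiplicity μ)) ≃
      (Σ μ : k, Fin (f₂.charpoly.rootMultiplicity μ)) :=
    Equiv.sigmaCongrRight (fun μ => finCongr (by rw [hc]))
  have hσ : ∀ a, (σ a).1 = a.1 := fun a => rfl
  refine ⟨(eigBasis f₁ h₁).equiv (eigBasis f₂ h₂) σ, ?_⟩
  intro v
  have : (((eigBasis f₁ h₁).equiv (eigBasis f₂ h₂) σ : V ≃ₗ[k] V) : V →ₗ[k] V) ∘ₗ f₁ =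
      f₂ ∘ₗ (((eigBasis f₁ h₁).equiv (eigBasis f₂ h₂) σ : V ≃ₗ[k] V) : V →ₗ[k] V) := by
    apply (eigBasis f₁ h₁).ext
    intro a
    simp only [LinearMap.comp_apply, LinearEquiv.coe_coe]
    rw [eigBasis_apply, map_smul, Basis.equiv_apply, eigBasis_apply, hσ]
  exact LinearMap.congr_fun this v

theorem exists_conj_matrix {n : ℕ} (S₁ S₂ : Matrix (Fin n) (Fin n) k)
    (h₁ : Module.End.IsSemisimple (Matrix.toLin' S₁))
    (h₂ : Module.End.IsSemisimple (Matrix.toLin' S₂))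
    (hc : S₁.charpoly = S₂.charpoly) :
    ∃ A : Matrix (Fin n) (Fin n) k, IsUnit A.det ∧ A * S₁ * A⁻¹ = S₂ := by
  obtain ⟨e, he⟩ := exists_conj (Matrix.toLin' S₁) (Matrix.toLin' S₂) h₁ h₂
    (by rw [Matrix.charpoly_toLin', Matrix.charpoly_toLin', hc])
  let A := LinearMap.toMatrix' (e : (Fin n → k) →ₗ[k] (Fin n → k))
  let A' := LinearMap.toMatrix' (e.symm : (Fin n → k) →ₗ[k] (Fin n → k))
  have hAA' : A * A' = 1 := by
    rw [← LinearMap.toMatrix'_comp]
    have : (e : (Fin n → k) →ₗ[k] (Fin n → k)) ∘ₗ (e.symm : (Fin n → k) →ₗ[k] (Fin n → k)) =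
        LinearMap.id := by
      ext v; simp
    rw [this, LinearMap.toMatrix'_id]
  have hdet : IsUnit A.det := by
    have := congrArg Matrix.det hAA'
    rw [Matrix.det_mul, Matrix.det_one] at this
    exact IsUnit.of_mul_eq_one _ this
  have hcomm : A * S₁ = S₂ * A := by
    have h1 : A * S₁ = LinearMap.toMatrix' ((e : (Fin n → k) →ₗ[k] (Fin n → k)) ∘ₗ
        Matrix.toLin' S₁) := by
      rw [LinearMap.toMatrix'_comp, LinearMap.toMatrix'_toLin']
    have h2 : S₂ * A = LinearMap.toMatrix' (Matrix.toLin' S₂ ∘ₗ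
        (e : (Fin n → k) →ₗ[k] (Fin n → k))) := by
      rw [LinearMap.toMatrix'_comp, LinearMap.toMatrix'_toLin']
    rw [h1, h2]
    congr 1
    exact LinearMap.ext he
  refine ⟨A, hdet, ?_⟩
  rw [hcomm, mul_assoc, Matrix.mul_nonsing_inv _ hdet, mul_one]

end Conj

variable {k : Type u} [Field k] {n : ℕ}

/-- Evaluate at a matrix. -/
noncomputable abbrev ev (M : Matrix (Fin n) (Fin n) k) (F : MvPolynomial (Fin n × Fin n) k) : k :=
  MvPolynomial.eval (fun p => M p.1 p.2) F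

/-- `C` lies in the Zariski closure of the orbit of `B`. -/
def InCl (B C : Matrix (Fin n) (Fin n) k) : Prop :=
  ∀ F : MvPolynomial (Fin n × Fin n) k,
    (∀ A : Matrix (Fin n) (Fin n) k, IsUnit A.det → ev (A * B * A⁻¹) F = 0) → ev C F = 0

lemma ev_charpoly_coeff (M : Matrix (Fin n) (Fin n) k) (i : ℕ) :
    ev M ((Matrix.mvPolynomialX (Fin n) (Fin n) k).charpoly.coeff i) = M.charpoly.coeff i := by
  have h := Matrix.mvPolynomialX_mapMatrix_eval (R := k) M
  have h2 := Matrix.charpoly_map (Matrix.mvPolynomialX (Fin n) (Fin n) k)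
    (MvPolynomial.eval fun p : Fin n × Fin n => M p.1 p.2)
  rw [RingHom.mapMatrix_apply] at h
  rw [h] at h2
  rw [h2, Polynomial.coeff_map]

lemma charpoly_conj (A B : Matrix (Fin n) (Fin n) k) (hA : IsUnit A.det) :
    (A * B * A⁻¹).charpoly = B.charpoly := by
  exact Matrix.charpoly_units_conj (Matrix.nonsingInvUnit A hA) B

lemma charpoly_eq_of_inCl {B C : Matrix (Fin n) (Fin n) k} (h : InCl B C) :
    C.charpoly = B.charpoly := by
  ext i
  have := h ((Matrix.mvPolynomialX (Fin n) (Fin n) k).charpoly.coeff i -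
    MvPolynomial.C (B.charpoly.coeff i)) (by
      intro A hA
      show MvPolynomial.eval _ _ = 0
      rw [map_sub, MvPolynomial.eval_C]
      have := ev_charpoly_coeff (A * B * A⁻¹) i
      unfold ev at this
      rw [this, charpoly_conj A B hA, sub_self])
  unfold ev at this
  rw [map_sub, MvPolynomial.eval_C] at this
  have h2 := ev_charpoly_coeff C i
  unfold ev at h2
  rw [h2] at this
  exact sub_eq_zero.1 this

lemma inCl_semisimple [IsAlgClosed k] (B S N : Matrix (Fin n) (Fin n) k)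
    (hS : Module.End.IsSemisimple (Matrix.toLin' S))
    (hN : IsNilpotent N) (hSN : Commute S N) (hB : B = S + N) : InCl B S :=
  fun F hF => Groth.Agent.S19394.result k n B S N hS hN hSN hB F hF

/-- Orbit closure of a conjugate. -/
lemma inCl_conj (A B C : Matrix (Fin n) (Fin n) k) (hA : IsUnit A.det)
    (h : InCl (A * B * A⁻¹) C) : InCl B C := by
  intro F hF
  apply h F
  intro A' hA'
  have := hF (A' * A) (by rw [Matrix.det_mul]; exact hA'.mul hA)
  rw [Matrix.mul_inv_rev] at this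
  have e : A' * A * B * (A⁻¹ * A'⁻¹) = A' * (A * B * A⁻¹) * A'⁻¹ := by
    simp only [mul_assoc]
  rw [e] at this
  exact this

theorem main [IsAlgClosed k]
    (B₁ S₁ N₁ B₂ S₂ N₂ : Matrix (Fin n) (Fin n) k)
    (hS₁ : Module.End.IsSemisimple (Matrix.toLin' S₁)) (hN₁ : IsNilpotent N₁) (hc₁ : Commute S₁ N₁)
    (hB₁ : B₁ = S₁ + N₁)
    (hS₂ : Module.End.IsSemisimple (Matrix.toLin' S₂)) (hN₂ : IsNilpotent N₂) (hc₂ : Commute S₂ N₂)
    (hB₂ : B₂ = S₂ + N₂) :
    (∃ C : Matrix (Fin n) (Fin n) k, InCl B₁ C ∧ InCl B₂ C) ↔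
      ∃ A : Matrix (Fin n) (Fin n) k, IsUnit A.det ∧ A * S₁ * A⁻¹ = S₂ := by
  constructor
  · rintro ⟨C, h1, h2⟩
    apply exists_conj_matrix S₁ S₂ hS₁ hS₂
    rw [charpoly_eq_of_inCl (inCl_semisimple B₁ S₁ N₁ hS₁ hN₁ hc₁ hB₁),
      charpoly_eq_of_inCl (inCl_semisimple B₂ S₂ N₂ hS₂ hN₂ hc₂ hB₂),
      ← charpoly_eq_of_inCl h1, ← charpoly_eq_of_inCl h2]
  · rintro ⟨A, hA, hAS⟩
    refine ⟨S₂, ?_, inCl_semisimple B₂ S₂ N₂ hS₂ hN₂ hc₂ hB₂⟩
    apply inCl_conj A B₁ S₂ hA
    have hAi : A⁻¹ * A = 1 := Matrix.nonsing_inv_mul _ hA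
    apply inCl_semisimple (A * B₁ * A⁻¹) S₂ (A * N₁ * A⁻¹) hS₂
    · obtain ⟨m, hm⟩ := hN₁
      refine ⟨m, ?_⟩
      have := Units.conj_pow (Matrix.nonsingInvUnit A hA) N₁ m
      have e : (A * N₁ * A⁻¹) ^ m = A * N₁ ^ m * A⁻¹ := this
      rw [e, hm, mul_zero, zero_mul]
    · show S₂ * (A * N₁ * A⁻¹) = (A * N₁ * A⁻¹) * S₂
      rw [← hAS]
      calc A * S₁ * A⁻¹ * (A * N₁ * A⁻¹) = A * S₁ * (A⁻¹ * A) * N₁ * A⁻¹ := by
            simp only [mul_assoc]
        _ = A * (S₁ * N₁) * A⁻¹ := by rw [hAi, mul_one]; simp only [mul_assoc]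
        _ = A * (N₁ * S₁) * A⁻¹ := by rw [hc₁.eq]
        _ = A * N₁ * (A⁻¹ * A) * S₁ * A⁻¹ := by rw [hAi, mul_one]; simp only [mul_assoc]
        _ = A * N₁ * A⁻¹ * (A * S₁ * A⁻¹) := by simp only [mul_assoc]
    · rw [hB₁, ← hAS, mul_add, add_mul]

end W1
end H


/-- Over an algebraically closed field, the Zariski closures of the conjugation orbits of two square
matrices B₁, B₂ meet if and only if their semisimple parts lie in one orbit. The semisimple parts
are given as S_i with B_i = S_i + N_i, S_i semisimple, N_i nilpotent, S_i N_i = N_i S_i; a common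
point of the two closures is a matrix C at which every polynomial in the matrix entries vanishing on
the whole orbit of B₁, and every one vanishing on the whole orbit of B₂, vanishes. -/
theorem result (k : Type u) [Field k] [IsAlgClosed k]
    (n : ℕ) (B₁ S₁ N₁ B₂ S₂ N₂ : Matrix (Fin n) (Fin n) k)
    (hS₁ : Module.End.IsSemisimple (Matrix.toLin' S₁)) (hN₁ : IsNilpotent N₁) (hc₁ : Commute S₁ N₁)
    (hB₁ : B₁ = S₁ + N₁)
    (hS₂ : Module.End.IsSemisimple (Matrix.toLin' S₂)) (hN₂ : IsNilpotent N₂) (hc₂ : Commute S₂ N₂)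
    (hB₂ : B₂ = S₂ + N₂) :
    (∃ C : Matrix (Fin n) (Fin n) k,
        (∀ F : MvPolynomial (Fin n × Fin n) k,
          (∀ A : Matrix (Fin n) (Fin n) k, IsUnit A.det →
            MvPolynomial.eval (fun p => (A * B₁ * A⁻¹) p.1 p.2) F = 0) →
          MvPolynomial.eval (fun p => C p.1 p.2) F = 0) ∧
        (∀ F : MvPolynomial (Fin n × Fin n) k,
          (∀ A : Matrix (Fin n) (Fin n) k, IsUnit A.det →
            MvPolynomial.eval (fun p => (A * B₂ * A⁻¹) p.1 p.2) F = 0) →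
          MvPolynomial.eval (fun p => C p.1 p.2) F = 0)) ↔
      ∃ A : Matrix (Fin n) (Fin n) k, IsUnit A.det ∧ A * S₁ * A⁻¹ = S₂ := by
  exact (W1.main B₁ S₁ N₁ B₂ S₂ N₂ hS₁ hN₁ hc₁ hB₁ hS₂ hN₂ hc₂ hB₂)

end Groth.Agent.S19395
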