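import Groth.Statements.S19602
-- import your own Groth.Agent.* helpers here
import Groth.Agent.Lib.Helper26.GLinOrbit

set_option autoImplicit false
universe u
open GIT

namespace Groth.Agent.S19602

/-- Let k be an algebraically closed field, G = Spec A a linearly reductive affine algebraic group over
k, and U = Spec R an affine k-scheme of finite type on which G acts. Two k-points x₁, x₂ of U have
the same image in U//G = Spec R^G if and only if the closures of their orbits have a common k-point.
Stated in coaction form. The published statement allows any affine U and asks only that the two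
orbit closures meet; this row assumes U of finite type over k and asks for a common k-point, which
is then equivalent. -/
theorem result (k : Type u) [Field k] [IsAlgClosed k]
    (A : Type u) [CommRing A] [HopfAlgebra k A] [Algebra.FiniteType k A] (hG : HopfRep.IsLinearlyReductive k A)
    (R : Type u) [CommRing R] [Algebra k R] [Algebra.FiniteType k R] [HopfRep.Comod k A R] [GLin.IsCoactAlg k A R]
    (x₁ x₂ : R →ₐ[k] k) :
    x₁.comp (GLin.invariants k A R).val = x₂.comp (GLin.invariants k A R).val ↔
      ∃ z : R →ₐ[k] k, GLin.InOrbitClosure k A x₁ z ∧ GLin.InOrbitClosure k A x₂ z := by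
  have hA1 : (1 : A) ≠ 0 := by
    intro h
    have := congrArg (Coalgebra.counit (R := k) (A := A)) h
    rw [Bialgebra.counit_one, map_zero] at this
    exact one_ne_zero this
  have : Nontrivial A := ⟨⟨1, 0, hA1⟩⟩
  have hinj : Function.Injective (algebraMap k A) := (algebraMap k A).injective
  -- invariants are constant on orbit closures
  have key : ∀ (x z : R →ₐ[k] k), GLin.InOrbitClosure k A x z →
      ∀ f ∈ GLin.invariants k A R, z f = x f := by
    intro x z hxz f hf
    have h0 : f - algebraMap k R (x f) ∈ RingHom.ker (GLin.orbitHom k A x) := by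
      rw [RingHom.mem_ker, map_sub, Groth.Agent.Lib.Helper26.Comod.orbitHom_of_mem_invariants x f hf,
        AlgHom.commutes, sub_self]
    have h1 := hxz h0
    rw [RingHom.mem_ker, map_sub, AlgHom.commutes, sub_eq_zero] at h1
    exact h1
  constructor
  · intro h
    by_contra hcon
    push Not at hcon
    -- the two kernels are comaximal
    have htop : RingHom.ker (GLin.orbitHom k A x₁) ⊔ RingHom.ker (GLin.orbitHom k A x₂) = ⊤ := by
      by_contra hne
      obtain ⟨z, hz⟩ := Groth.Agent.Lib.Helper26.Comod.exists_point_of_ne_top (k := k) _ hne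
      exact hcon z (le_trans le_sup_left hz) (le_trans le_sup_right hz)
    obtain ⟨a₁, ha₁, a₂, ha₂, h12⟩ := Submodule.mem_sup.mp
      (htop ▸ Submodule.mem_top : (1 : R) ∈ RingHom.ker (GLin.orbitHom k A x₁) ⊔
        RingHom.ker (GLin.orbitHom k A x₂))
    obtain ⟨α, hα, hα1⟩ := Groth.Agent.Lib.Helper26.Comod.exists_comodHom_unit hG R
    let E := TameAct.reynolds k A R R α
    have hE1 : E 1 = 1 := Groth.Agent.Lib.Helper23.reynolds_of_mem_invariants hα1 1
      (GLin.invariants k A R).one_mem
    have hEa₁ : E a₁ ∈ RingHom.ker (GLin.orbitHom k A x₁) :=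
      Groth.Agent.Lib.Helper23.reynolds_mem_of_isSubcomod _
        (Groth.Agent.Lib.Helper26.Comod.isSubcomod_ker_orbitHom x₁) a₁ ha₁
    have hEa₂ : E a₂ ∈ RingHom.ker (GLin.orbitHom k A x₂) :=
      Groth.Agent.Lib.Helper23.reynolds_mem_of_isSubcomod _
        (Groth.Agent.Lib.Helper26.Comod.isSubcomod_ker_orbitHom x₂) a₂ ha₂
    have hinv₁ : E a₁ ∈ GLin.invariants k A R :=
      Groth.Agent.Lib.Helper23.reynolds_mem_invariants hα a₁
    have hinv₂ : E a₂ ∈ GLin.invariants k A R :=
      Groth.Agent.Lib.Helper23.reynolds_mem_invariants hα a₂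
    -- x₁ (E a₁) = 0 and x₂ (E a₂) = 0
    have hx₁ : x₁ (E a₁) = 0 := by
      rw [RingHom.mem_ker, Groth.Agent.Lib.Helper26.Comod.orbitHom_of_mem_invariants x₁ _ hinv₁] at hEa₁
      exact hinj (by rw [hEa₁, map_zero])
    have hx₂ : x₂ (E a₂) = 0 := by
      rw [RingHom.mem_ker, Groth.Agent.Lib.Helper26.Comod.orbitHom_of_mem_invariants x₂ _ hinv₂] at hEa₂
      exact hinj (by rw [hEa₂, map_zero])
    have hx₁₂ : x₁ (E a₂) = x₂ (E a₂) := by
      have := congrArg (fun φ => φ ⟨E a₂, hinv₂⟩) h
      exact this
    have hsum : E a₁ + E a₂ = 1 := by rw [← map_add, h12, hE1]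
    have := congrArg x₁ hsum
    rw [map_add, hx₁, hx₁₂, hx₂, add_zero, map_one] at this
    exact zero_ne_one this
  · rintro ⟨z, hz₁, hz₂⟩
    ext ⟨f, hf⟩
    change x₁ f = x₂ f
    rw [← key x₁ z hz₁ f hf, ← key x₂ z hz₂ f hf]

end Groth.Agent.S19602
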