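import Groth.Statements.S19400
-- import your own Groth.Agent.* helpers here
import Groth.Agent.Lib.Helper26.GLinPoints
import Groth.Agent.S19602

set_option autoImplicit false
universe u
open GIT

namespace Groth.Agent.S19400

/-- For a reductive group G (here: every finite-dimensional representation completely reducible, i.e.
linearly reductive; any characteristic) acting on an affine variety X = Spec R over an algebraically
closed field with all orbits of closed points closed, the morphism X → Y = Spec R^G is a geometric
quotient; in particular it is surjective on closed points and its fibre over every closed point of Y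
is a single orbit. This row states those two point-set assertions in coaction form: G = Spec A with
A a finitely generated commutative Hopf algebra whose finite-dimensional comodules are semisimple, R
of finite type with a multiplicative unital coaction, points as k-algebra maps. The published
statement takes X to be a variety (reduced and irreducible); this row does not assume R reduced or a
domain. -/
theorem result (k : Type u) [Field k] [IsAlgClosed k]
    (A : Type u) [CommRing A] [HopfAlgebra k A] [Algebra.FiniteType k A]
    (hG : HopfRep.IsLinearlyReductive k A)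
    (R : Type u) [CommRing R] [Algebra k R] [Algebra.FiniteType k R]
    [HopfRep.Comod k A R] [GLin.IsCoactAlg k A R]
    (hcl : ∀ x : R →ₐ[k] k, GLin.IsClosedOrbit k A x)
    (y : GLin.invariants k A R →ₐ[k] k) :
    (∃ x : R →ₐ[k] k, x.comp (GLin.invariants k A R).val = y) ∧
      ∀ x x' : R →ₐ[k] k, x.comp (GLin.invariants k A R).val = y →
        x'.comp (GLin.invariants k A R).val = y →
          ∃ g : A →ₐ[k] k, x' = GLin.actPt k g x := by
  obtain ⟨α, hα, hα1⟩ := Groth.Agent.Lib.Helper26.Comod.exists_comodHom_unit hG R
  constructor
  · -- surjectivity on rational points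
    let J : Ideal R := (RingHom.ker y).map (algebraMap (GLin.invariants k A R) R)
    have hJ : J ≠ ⊤ := by
      intro hJ
      have h1 := Groth.Agent.Lib.Helper23.comap_map_invariants hα hα1 (RingHom.ker y.toRingHom)
      have h2 : (1 : GLin.invariants k A R) ∈ RingHom.ker y.toRingHom := by
        rw [← h1, Ideal.mem_comap]
        have : (RingHom.ker y.toRingHom).map (algebraMap (GLin.invariants k A R) R) = ⊤ := hJ
        rw [this]
        exact Submodule.mem_top
      rw [RingHom.mem_ker, map_one] at h2
      exact one_ne_zero h2
    obtain ⟨z, hz⟩ := Groth.Agent.Lib.Helper26.Comod.exists_point_of_ne_top (k := k) J hJ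
    refine ⟨z, ?_⟩
    ext f
    have h1 : f - algebraMap k (GLin.invariants k A R) (y f) ∈ RingHom.ker y := by
      rw [RingHom.mem_ker, map_sub, AlgHom.commutes, Algebra.algebraMap_self, RingHom.id_apply,
        sub_self]
    have h2 : algebraMap (GLin.invariants k A R) R
        (f - algebraMap k (GLin.invariants k A R) (y f)) ∈ J := Ideal.mem_map_of_mem _ h1
    have h3 := hz h2
    rw [RingHom.mem_ker, map_sub, map_sub, sub_eq_zero] at h3
    change z (f : R) = y f
    have h4 : z (algebraMap (GLin.invariants k A R) R (algebraMap k (GLin.invariants k A R) (y f))) =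
        y f := by
      rw [← IsScalarTower.algebraMap_apply, AlgHom.commutes, Algebra.algebraMap_self, RingHom.id_apply]
    rw [← h4]
    exact h3
  · intro x x' hx hx'
    obtain ⟨z, hz, hz'⟩ := (Groth.Agent.S19602.result k A hG R x x').mp (hx.trans hx'.symm)
    obtain ⟨g, hg⟩ := Groth.Agent.Lib.Helper26.Comod.exists_actPt_eq_of_isClosedOrbit x z (hcl x) hz
    obtain ⟨g', hg'⟩ := Groth.Agent.Lib.Helper26.Comod.exists_actPt_eq_of_isClosedOrbit x' z (hcl x') hz'
    refine ⟨Groth.Agent.Lib.Helper26.Comod.convAlg g (g'.comp (HopfAlgebra.antipodeAlgHom k A)), ?_⟩
    rw [← Groth.Agent.Lib.Helper26.Comod.actPt_actPt, ← hg, hg',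
      Groth.Agent.Lib.Helper26.Comod.actPt_actPt, Groth.Agent.Lib.Helper26.Comod.convAlg_antipode,
      Groth.Agent.Lib.Helper26.Comod.actPt_counit]

end Groth.Agent.S19400
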