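import Groth.Statements.S19402
import Groth.Agent.Lib.helper10.CHR

set_option autoImplicit false
universe u v w
open scoped Pointwise
open GLin

namespace Groth.Agent.S19402

/-- Let k be an algebraically closed field of characteristic zero, R a finitely generated commutative
k-algebra which is an integrally closed domain (a normal irreducible affine variety X), and G a
finite group acting faithfully on R by k-algebra automorphisms. Let B be a commutative k-algebra
with an injective algebra map B → R, compatible with the k-structures and G-invariant, whose image
is exactly the subring of G-invariants (so Spec R → Spec B is the quotient morphism X → X/G). Then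
for a maximal ideal m of R (a closed point x of X), R is étale over B at m (the local ring R_m is
formally étale over B) if and only if the stabilizer of m in G is trivial. -/
theorem result (k : Type u) [Field k] [IsAlgClosed k] [CharZero k]
    (R : Type v) [CommRing R] [IsDomain R] [IsIntegrallyClosed R] [Algebra k R] [Algebra.FiniteType k R]
    (G : Type w) [Group G] [Finite G] [MulSemiringAction G R] [FaithfulSMul G R] [SMulCommClass G k R]
    (B : Type v) [CommRing B] [Algebra k B] [Algebra B R] [IsScalarTower k B R] [FaithfulSMul B R]
    [SMulCommClass G B R] [Algebra.IsInvariant B R G]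
    (m : Ideal R) [m.IsMaximal] :
    Algebra.IsEtaleAt B m ↔ MulAction.stabilizer G m = ⊥ := by
  have hinj : Function.Injective (algebraMap B R) := FaithfulSMul.algebraMap_injective B R
  haveI : IsNoetherianRing R := Algebra.FiniteType.isNoetherianRing k R
  haveI : Algebra.IsIntegral B R := Algebra.IsInvariant.isIntegral B R G
  haveI : Algebra.FiniteType B R := Algebra.FiniteType.of_restrictScalars_finiteType k B R
  haveI : Module.Finite B R := Algebra.IsIntegral.finite
  haveI : Algebra.FiniteType k B :=
    ⟨fg_of_fg_of_fg k B R (Algebra.FiniteType.out) (Module.Finite.fg_top) hinj⟩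
  haveI : IsNoetherianRing B := Algebra.FiniteType.isNoetherianRing k B
  haveI : Algebra.FinitePresentation B R := Algebra.FinitePresentation.of_finiteType.mp inferInstance
  have hres : ∀ r : R, ∃ b : B, r - algebraMap B R b ∈ m := by
    intro r
    haveI : Module.Finite k (R ⧸ m) := by
      letI : Field (R ⧸ m) := Ideal.Quotient.field m
      exact finite_of_finite_type_of_isJacobsonRing k (R ⧸ m)
    haveI : Algebra.IsIntegral k (R ⧸ m) := Algebra.IsIntegral.of_finite k (R ⧸ m)
    obtain ⟨c, hc⟩ := (IsAlgClosed.algebraMap_bijective_of_isIntegral (k := k) (K := R ⧸ m)).2
      (Ideal.Quotient.mk m r)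
    refine ⟨algebraMap k B c, ?_⟩
    rw [← Ideal.Quotient.eq, ← IsScalarTower.algebraMap_apply, ← hc]
    rfl
  constructor
  · intro h
    haveI : Algebra.FormallyUnramified B (Localization.AtPrime m) := by
      have : Algebra.FormallyEtale B (Localization.AtPrime m) := h
      infer_instance
    exact Groth.Agent.Lib.helper10.CHR.stabilizer_eq_bot_of_formallyUnramified m hres
  · intro h
    exact Groth.Agent.Lib.helper10.CHR.isEtaleAt_of_stabilizer_eq_bot hinj m h

end Groth.Agent.S19402
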