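import Groth.Statements.S19415
import Groth.Agent.Lib.Helper6.WeilCorr
import Groth.Agent.Lib.Helper6.WeilGraph
import Mathlib.Data.Int.Interval

set_option autoImplicit false
universe u v
open CategoryTheory AlgebraicGeometry
open WeilCoh

namespace Groth.Agent.S19415

open Groth.Agent.Lib.Helper6

section
variable {k : Type u} [Field k] [IsAlgClosed k] {K : Type v} [Field K] [CharZero K]
  (T : WeilCoh.Theory k K)

/-- iterates of an endomorphism -/
noncomputable def Fpow {X : WeilCoh.Var k} (F : X ⟶ X) : ℕ → (X ⟶ X)
  | 0 => 𝟙 X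
  | m + 1 => F ≫ Fpow F m

theorem pull_Fpow {X : WeilCoh.Var k} (F : X ⟶ X) (m : ℕ) (j : ℤ) (b : ↥(T.gr X j)) :
    T.pull (Fpow F m) (b : T.H X) = (((T.pullDeg F j) ^ m) b : T.H X) := by
  induction m with
  | zero =>
    change T.pull (𝟙 X) (b : T.H X) = _
    rw [T.pull_id]
    rfl
  | succ m ih =>
    change T.pull (F ≫ Fpow F m) (b : T.H X) = _
    rw [T.pull_comp, AlgHom.comp_apply, ih, pow_succ']
    rfl

/-- the action of the transposed graph of `G` -/
theorem action_graph (X P : WeilCoh.Var k) [IrreducibleSpace ↥X.obj.left] (p q : P ⟶ X)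
    (hP : WeilCoh.IsProd p q)
    (s : X ⟶ P) (hsq : s ≫ q = 𝟙 X) (G : X ⟶ X) (hsp : s ≫ p = G) (j : ℤ) (b : T.H X)
    (hb : b ∈ T.gr X j)
    (h : T.pull p b * T.cl P (WeilCoh.sm s (genericPoint ↥X.obj.left)) ∈
      T.gr P (j + 2 * (WeilCoh.dim X.obj.left : ℤ))) :
    (T.push q (j + 2 * (WeilCoh.dim X.obj.left : ℤ))
      ⟨T.pull p b * T.cl P (WeilCoh.sm s (genericPoint ↥X.obj.left)), h⟩ : T.H X) =
      T.pull G b := by
  have hdP : (WeilCoh.dim P.obj.left : ℤ) = WeilCoh.dim X.obj.left + WeilCoh.dim X.obj.left := by
    exact_mod_cast Weil.dim_prod T p q hP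
  have hc := WeilGraph.codim_section T s q hsq
  have h1 := WeilGraph.push_cl_section_mul T s q hsq j (T.pull p b) (T.pull_mem p j b hb)
  rw [Weil.pull_pull T s p G hsp] at h1
  rw [← h1]
  apply Weil.push_congr T q _ _ (by omega)
  exact (Weil.mul_comm_of_even T _ _ _ _ (T.cl_mem P _) (T.pull_mem p j b hb)
    (even_two_mul _)).symm

end

/-- Let H be a Weil cohomology theory with coefficients in a field K of characteristic zero on
nonsingular connected projective varieties over an algebraically closed field k, X such a variety of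
dimension n, P = X × X with its projections p, q, and F : X → X an endomorphism such that the
characteristic polynomials of F^* on the cohomology groups H^i(X), i ∈ ℤ, are pairwise coprime in
K[T]. Then for every i the i-th Künneth projector of X is given by an algebraic correspondence with
coefficients in K: there is a class u in H^{2n}(P), lying in the K-linear span of the classes of
closed irreducible subsets of P, whose action β ↦ q_*(p^*(β) · u) is the identity on H^i(X) and zero
on H^j(X) for every j ≠ i (push-forward q_* taken on the homogeneous piece of degree j + 2n). The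
published statement has rational coefficients, X defined over a finite field and F its Frobenius
endomorphism, the coprimality of the characteristic polynomials being deduced there from the Riemann
hypothesis over finite fields and from the independence of these polynomials of the cohomology
theory; here that coprimality is the hypothesis and F is any endomorphism. -/
theorem result (k : Type u) [Field k]
    [IsAlgClosed k] (K : Type v) [Field K] [CharZero K] (T : WeilCoh.Theory k K)
    (X P : WeilCoh.Var k) (p q : P ⟶ X) (hP : WeilCoh.IsProd p q) (F : X ⟶ X)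
    (hF : ∀ i j : ℤ, i ≠ j → IsCoprime (T.pullDeg F i).charpoly (T.pullDeg F j).charpoly)
    (i : ℤ) :
    ∃ u : ↥(T.gr P (2 * (WeilCoh.dim X.obj.left : ℤ))),
      (u : T.H P) ∈ Submodule.span K (Set.range (T.cl P)) ∧
        ∀ (j : ℤ) (b : ↥(T.gr X j)),
          (T.push q (j + 2 * (WeilCoh.dim X.obj.left : ℤ))
              ⟨T.pull p (b : T.H X) * (u : T.H P),
                SetLike.mul_mem_graded (T.pull_mem p j b b.2) u.2⟩ : T.H X) =
            if j = i then (b : T.H X) else 0 := by
  have : IrreducibleSpace ↥X.obj.left := X.property.2.2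
  classical
  have hdP : (WeilCoh.dim P.obj.left : ℤ) = WeilCoh.dim X.obj.left + WeilCoh.dim X.obj.left := by
    exact_mod_cast Weil.dim_prod T p q hP
  have hsec : ∀ m : ℕ, ∃ s : X ⟶ P, s ≫ p = Fpow F m ∧ s ≫ q = 𝟙 X :=
    fun m => Weil.exists_lift p q hP _ _
  choose s hsp hsq using hsec
  have hγ : ∀ m, T.cl P (WeilCoh.sm (s m) (genericPoint ↥X.obj.left)) ∈
      T.gr P (2 * (WeilCoh.dim X.obj.left : ℤ)) := by
    intro m
    have hc := WeilGraph.codim_section T (s m) q (hsq m)
    exact Weil.mem_of_eq T (by omega) (T.cl_mem P _)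
  let A : ∀ j : ℤ, Module.End K ↥(T.gr X j) := fun j => T.pullDeg F j
  let S : Finset ℤ := (Finset.Icc 0 (2 * (WeilCoh.dim X.obj.left : ℤ))).erase i
  have hcop : IsCoprime (A i).charpoly (∏ j ∈ S, (A j).charpoly) :=
    IsCoprime.prod_right (fun j hj => hF i j (Finset.ne_of_mem_erase hj).symm)
  obtain ⟨a, b, hab⟩ := hcop
  let g : Polynomial K := b * ∏ j ∈ S, (A j).charpoly
  have hgi : Polynomial.aeval (A i) g = 1 := by
    have hg : g = 1 - a * (A i).charpoly := by rw [← hab]; ring
    rw [hg, map_sub, map_one, map_mul, LinearMap.aeval_self_charpoly, mul_zero]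
    exact sub_zero (1 : Module.End K ↥(T.gr X i))
  have hgj : ∀ j ∈ S, Polynomial.aeval (A j) g = 0 := by
    intro j hj
    change Polynomial.aeval (A j) (b * ∏ j ∈ S, (A j).charpoly) = 0
    rw [map_mul, ← Finset.mul_prod_erase S _ hj, map_mul, LinearMap.aeval_self_charpoly,
      zero_mul, mul_zero]
  have hu : (∑ m ∈ Finset.range (g.natDegree + 1),
      g.coeff m • T.cl P (WeilCoh.sm (s m) (genericPoint ↥X.obj.left))) ∈
      T.gr P (2 * (WeilCoh.dim X.obj.left : ℤ)) :=
    Submodule.sum_mem _ (fun m _ => Submodule.smul_mem _ _ (hγ m))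
  refine ⟨⟨∑ m ∈ Finset.range (g.natDegree + 1),
      g.coeff m • T.cl P (WeilCoh.sm (s m) (genericPoint ↥X.obj.left)), hu⟩, ?_, ?_⟩
  · change (∑ m ∈ Finset.range (g.natDegree + 1),
      g.coeff m • T.cl P (WeilCoh.sm (s m) (genericPoint ↥X.obj.left))) ∈ _
    exact Submodule.sum_mem (Submodule.span K (Set.range (T.cl P)))
      (fun m _ => Submodule.smul_mem (Submodule.span K (Set.range (T.cl P))) _
        (Submodule.subset_span (Set.mem_range_self _)))
  · intro j c
    have hact : (T.push q (j + 2 * (WeilCoh.dim X.obj.left : ℤ))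
        ⟨T.pull p (c : T.H X) * (∑ m ∈ Finset.range (g.natDegree + 1),
          g.coeff m • T.cl P (WeilCoh.sm (s m) (genericPoint ↥X.obj.left))),
          SetLike.mul_mem_graded (T.pull_mem p j c c.2) hu⟩ : T.H X) =
        ((Polynomial.aeval (A j) g) c : T.H X) := by
      have hsum : (⟨_, hu⟩ : ↥(T.gr P (2 * (WeilCoh.dim X.obj.left : ℤ)))) =
          ∑ m ∈ Finset.range (g.natDegree + 1), g.coeff m •
            (⟨T.cl P (WeilCoh.sm (s m) (genericPoint ↥X.obj.left)), hγ m⟩ :
              ↥(T.gr P (2 * (WeilCoh.dim X.obj.left : ℤ)))) := by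
        apply Subtype.ext
        simp only [Submodule.coe_sum, Submodule.coe_smul]
      have h1 : (T.push q (j + 2 * (WeilCoh.dim X.obj.left : ℤ))
          ⟨T.pull p (c : T.H X) * (∑ m ∈ Finset.range (g.natDegree + 1),
            g.coeff m • T.cl P (WeilCoh.sm (s m) (genericPoint ↥X.obj.left))),
            SetLike.mul_mem_graded (T.pull_mem p j c c.2) hu⟩ : T.H X) =
          (Weil.corrLin T p q (2 * (WeilCoh.dim X.obj.left : ℤ)) j ⟨_, hu⟩ c : T.H X) := rfl
      rw [h1, hsum, map_sum, LinearMap.sum_apply, Submodule.coe_sum, Polynomial.aeval_eq_sum_range,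
        LinearMap.sum_apply, Submodule.coe_sum]
      apply Finset.sum_congr rfl
      intro m _
      rw [map_smul, LinearMap.smul_apply, Submodule.coe_smul, LinearMap.smul_apply,
        Submodule.coe_smul]
      congr 1
      rw [← pull_Fpow T F m j c]
      exact action_graph T X P p q hP (s m) (hsq m) (Fpow F m) (hsp m) j c c.2 _
    rw [hact]
    by_cases hji : j = i
    · subst hji
      rw [if_pos rfl, hgi]
      rfl
    · rw [if_neg hji]
      by_cases hjS : j ∈ S
      · rw [hgj j hjS]
        rfl
      · have hc0 : (c : T.H X) = 0 := by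
          apply Weil.eq_zero_of_mem_of_lt T c.2
          simp only [S, Finset.mem_erase, Finset.mem_Icc, not_and, not_le] at hjS
          by_contra hcon
          push Not at hcon
          have := hjS hji hcon.1
          omega
        have hc0' : c = 0 := Subtype.ext hc0
        rw [hc0', map_zero]
        rfl

end Groth.Agent.S19415
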