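import Groth.Statements.S19422
-- import your own Groth.Agent.* helpers here
import Groth.Agent.Lib.Helper26.GmDiag

set_option autoImplicit false
universe u
open TensorProduct LaurentPolynomial
open GIT

namespace Groth.Agent.S19422

/-- Over an algebraically closed field k, let the multiplicative group, whose coordinate Hopf algebra is
the Laurent polynomial ring, act diagonally on affine ι-space, ι finite: the coaction on the
polynomial ring is multiplicative and sends the coordinate function X_i to X_i ⊗ T^(r_i) for
integers r_i. Then a vector v is semistable (some invariant homogeneous polynomial of positive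
degree does not vanish at v) if and only if there are indices i and j, possibly equal, with v_i ≠ 0,
v_j ≠ 0 and r_i ≤ 0 ≤ r_j, i.e. the origin lies in the convex hull of the weights of v. (Stated for
the ambient projective space on its affine cone; the published statement is for a point of a closed
invariant subvariety, whose semistability is that of the point in the ambient space.) -/
theorem result (k : Type u) [Field k] [IsAlgClosed k]
    (ι : Type u) [Fintype ι] [HopfRep.Comod k k[T;T⁻¹] (MvPolynomial ι k)] [GLin.IsCoactAlg k k[T;T⁻¹] (MvPolynomial ι k)]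
    (r : ι → ℤ)
    (hr : ∀ i : ι, HopfRep.Comod.coact (k := k) (A := k[T;T⁻¹]) (MvPolynomial.X i : MvPolynomial ι k) =
      (MvPolynomial.X i : MvPolynomial ι k) ⊗ₜ[k] (T (r i) : k[T;T⁻¹]))
    (v : ι → k) :
    GLin.IsSemistableVec k k[T;T⁻¹] v ↔ ∃ i j : ι, v i ≠ 0 ∧ v j ≠ 0 ∧ r i ≤ 0 ∧ 0 ≤ r j := by
  classical
  have hr' : ∀ i : ι, HopfRep.Comod.coact (k := k) (A := k[T;T⁻¹]) (MvPolynomial.X i : MvPolynomial ι k) =
      (MvPolynomial.X i : MvPolynomial ι k) ⊗ₜ[k] (T (r i) : k[T;T⁻¹]) := hr
  constructor
  · intro hss
    unfold GLin.IsSemistableVec GLin.IsNullform at hss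
    push_neg at hss
    obtain ⟨F, hF, d, hd, hhom, hFv⟩ := hss
    have hex : ∃ a ∈ F.support, (∏ i ∈ a.support, v i ^ a i) ≠ 0 := by
      by_contra hall
      push_neg at hall
      apply hFv
      rw [MvPolynomial.eval_eq]
      apply Finset.sum_eq_zero
      intro a ha
      rw [hall a ha, mul_zero]
    obtain ⟨a, ha, hav⟩ := hex
    have hw : Groth.Agent.Lib.Helper26.Weight.wgt r a = 0 :=
      Groth.Agent.Lib.Helper26.Weight.wgt_eq_zero_of_mem_support r hr' hF ha
    have hdeg : a.degree = d := by
      have := hhom (MvPolynomial.mem_support_iff.mp ha)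
      rwa [Finsupp.degree_eq_weight_one] at *
    have hne : a.support.Nonempty := by
      rw [Finsupp.support_nonempty_iff]
      rintro rfl
      rw [map_zero] at hdeg
      omega
    have hvi : ∀ i ∈ a.support, v i ≠ 0 := by
      intro i hi hvi0
      apply hav
      apply Finset.prod_eq_zero hi
      rw [hvi0, zero_pow (Finsupp.mem_support_iff.mp hi)]
    have hpos : ∀ i ∈ a.support, (0 : ℤ) < (a i : ℤ) := by
      intro i hi
      have := Finsupp.mem_support_iff.mp hi
      positivity
    have hw' : ∑ i ∈ a.support, (a i : ℤ) * r i = 0 := hw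
    have h1 : ∃ i ∈ a.support, r i ≤ 0 := by
      by_contra h
      push_neg at h
      have : 0 < ∑ i ∈ a.support, (a i : ℤ) * r i :=
        Finset.sum_pos (fun i hi => mul_pos (hpos i hi) (h i hi)) hne
      linarith
    have h2 : ∃ j ∈ a.support, 0 ≤ r j := by
      by_contra h
      push_neg at h
      have : ∑ i ∈ a.support, (a i : ℤ) * r i < 0 :=
        Finset.sum_neg (fun i hi => mul_neg_of_pos_of_neg (hpos i hi) (h i hi)) hne
      linarith
    obtain ⟨i, hi, hri⟩ := h1
    obtain ⟨j, hj, hrj⟩ := h2
    exact ⟨i, j, hvi i hi, hvi j hj, hri, hrj⟩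
  · rintro ⟨i, j, hvi, hvj, hri, hrj⟩ hnull
    have hXmem : ∀ (l : ι), r l = 0 →
        (MvPolynomial.X l : MvPolynomial ι k) ∈ GLin.invariants k k[T;T⁻¹] (MvPolynomial ι k) := by
      intro l hl
      rw [Groth.Agent.Lib.Helper26.Weight.mem_invariants_iff_mem_eigenspace, ← hl]
      exact Groth.Agent.Lib.Helper26.Weight.X_mem r hr' l
    by_cases h0 : r i = 0
    · have := hnull _ (hXmem i h0) 1 one_pos (MvPolynomial.isHomogeneous_X k i)
      rw [MvPolynomial.eval_X] at this
      exact hvi this
    by_cases h0' : r j = 0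
    · have := hnull _ (hXmem j h0') 1 one_pos (MvPolynomial.isHomogeneous_X k j)
      rw [MvPolynomial.eval_X] at this
      exact hvj this
    have hri' : r i < 0 := lt_of_le_of_ne hri h0
    have hrj' : 0 < r j := lt_of_le_of_ne hrj (Ne.symm h0')
    set a := (r j).toNat with ha
    set b := (-r i).toNat with hb
    have hinv : (MvPolynomial.X i ^ a * MvPolynomial.X j ^ b : MvPolynomial ι k) ∈
        GLin.invariants k k[T;T⁻¹] (MvPolynomial ι k) := by
      rw [Groth.Agent.Lib.Helper26.Weight.mem_invariants_iff_mem_eigenspace]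
      have := Groth.Agent.Lib.Helper26.Weight.mul_mem_eigenspace
        (Groth.Agent.Lib.Helper26.Weight.X_pow_mem r hr' i a)
        (Groth.Agent.Lib.Helper26.Weight.X_pow_mem r hr' j b)
      have e : (a : ℤ) * r i + (b : ℤ) * r j = 0 := by
        rw [ha, hb, Int.toNat_of_nonneg hrj'.le, Int.toNat_of_nonneg (by omega)]
        ring
      rwa [e] at this
    have hhom : (MvPolynomial.X i ^ a * MvPolynomial.X j ^ b : MvPolynomial ι k).IsHomogeneous (a + b) := by
      have h1 := (MvPolynomial.isHomogeneous_X k i).pow a
      have h2 := (MvPolynomial.isHomogeneous_X k j).pow b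
      rw [one_mul] at h1 h2
      exact h1.mul h2
    have hab : 0 < a + b := by
      have : 0 < a := by rw [ha]; omega
      omega
    have := hnull _ hinv (a + b) hab hhom
    rw [map_mul, map_pow, map_pow, MvPolynomial.eval_X, MvPolynomial.eval_X] at this
    exact (mul_ne_zero (pow_ne_zero a hvi) (pow_ne_zero b hvj)) this

end Groth.Agent.S19422
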