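import Groth.Statements.S19427
import Groth.Agent.Lib.Helper15.MilnorK

set_option autoImplicit false
universe u
open MilnorK

namespace Groth.Agent.S19427

/-- For a field F and nonzero b, c with b + c ≠ 0, in the Milnor K-group K_2(F) one has {b, c} + {b + c,
-b/c} = 0, that is {b, c} = -{b + c, -b/c} = {b + c, -c/b}. (The identity as displayed in the source
is {b, c} = {b + c, -b/c}, which differs from this by a sign and fails in general: for b = 3, c = 5
over the rationals the tame symbol at 5 takes the values 3 and 1/3 on the two sides; the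
accompanying derivation from the Steinberg relation b/(b+c) + c/(b+c) = 1 gives exactly the identity
stated here.) -/
theorem result (F : Type u) [Field F] (b c : Fˣ)
    (h : (b : F) + (c : F) ≠ 0) :
    (MilK.symbol ![b, c] : MilK.K F 2) + MilK.symbol ![Units.mk0 ((b : F) + (c : F)) h, -(b / c)] = 0 := by
  have hB := H15MilK.k2_isSteinbergPairing (F := F)
  set s : Fˣ := Units.mk0 ((b : F) + (c : F)) h with hs
  have hst : (MilK.symbol ![b * s⁻¹, c * s⁻¹] : MilK.K F 2) = 0 := by
    apply hB.steinberg
    simp only [Units.val_mul, Units.val_inv_eq_inv_val, s, Units.val_mk0]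
    field_simp
  have e1 := hB.mul_left b s⁻¹ (c * s⁻¹)
  have e2 := hB.mul_right b c s⁻¹
  have e3 := hB.mul_right s⁻¹ c s⁻¹
  have e4 := hB.inv_right b s
  have e5 := hB.inv_left s c
  have e6 := hB.inv_left s s⁻¹
  have e7 := hB.inv_right s s
  have e8 := hB.self_eq s
  have e9 := hB.anticomm b s
  have f1 : -(b / c) = (-1 : Fˣ) * b * c⁻¹ := by
    rw [div_eq_mul_inv]; simp
  have e10 := hB.mul_right s ((-1 : Fˣ) * b) c⁻¹
  have e11 := hB.mul_right s (-1 : Fˣ) b
  have e12 := hB.inv_right s c
  rw [f1, e10, e11, e12]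
  rw [e1, e2, e3, e4, e5, e6, e7, e8] at hst
  have : (MilK.symbol ![b, c] : MilK.K F 2) + (MilK.symbol ![s, -1] + MilK.symbol ![s, b] + -MilK.symbol ![s, c]) =
      (MilK.symbol ![b, c] + -MilK.symbol ![b, s] + (-MilK.symbol ![s, c] + - -MilK.symbol ![s, -1])) +
        (MilK.symbol ![b, s] + MilK.symbol ![s, b]) := by abel
  rw [this, hst, e9, add_zero]

end Groth.Agent.S19427
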