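import Groth.Statements.S19436
import Mathlib
-- import your own Groth.Agent.* helpers here

set_option autoImplicit false
universe u
open CAlg

namespace Groth.Agent.S19436

/-- For a Noetherian local commutative algebra R over a field k, with maximal ideal M, and an ideal I of
R whose quotient R/I is finite-dimensional over k of dimension n, the power M^n lies in I. -/
theorem result (k : Type u) [Field k] (R : Type u) [CommRing R]
    [Algebra k R] [IsNoetherianRing R] [IsLocalRing R] (I : Ideal R) [Module.Finite k (R ⧸ I)] (n : ℕ)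
    (hn : Module.finrank k (R ⧸ I) = n) : IsLocalRing.maximalIdeal R ^ n ≤ I := by
  classical
  set M := IsLocalRing.maximalIdeal R with hM
  let U : ℕ → Submodule k (R ⧸ I) := fun j =>
    ((M ^ j).map (Ideal.Quotient.mk I)).restrictScalars k
  have hmemU : ∀ j (y : R ⧸ I), y ∈ U j ↔ ∃ x ∈ M ^ j, Ideal.Quotient.mk I x = y := by
    intro j y
    change y ∈ (M ^ j).map (Ideal.Quotient.mk I) ↔ _
    exact Ideal.mem_map_iff_of_surjective _ Ideal.Quotient.mk_surjective
  have hbot : ∀ j, U j = ⊥ → M ^ j ≤ I := by
    intro j hj x hx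
    have : Ideal.Quotient.mk I x ∈ U j := (hmemU j _).2 ⟨x, hx, rfl⟩
    rw [hj, Submodule.mem_bot] at this
    exact Ideal.Quotient.eq_zero_iff_mem.1 this
  have hmono : ∀ j, U (j + 1) ≤ U j := by
    intro j y hy
    obtain ⟨x, hx, rfl⟩ := (hmemU _ _).1 hy
    exact (hmemU _ _).2 ⟨x, Ideal.pow_le_pow_right (Nat.le_succ j) hx, rfl⟩
  have hjac : M ≤ Ideal.jacobson (⊥ : Ideal R) :=
    (IsLocalRing.jacobson_eq_maximalIdeal _ bot_ne_top).ge
  have hstrict : ∀ j, U (j + 1) = U j → M ^ j ≤ I := by
    intro j hj
    have hle : M ^ j ≤ I ⊔ M • (M ^ j) := by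
      intro x hx
      have h1 : Ideal.Quotient.mk I x ∈ U (j + 1) := by
        rw [hj]; exact (hmemU j _).2 ⟨x, hx, rfl⟩
      obtain ⟨y, hy, hyx⟩ := (hmemU _ _).1 h1
      have h2 : x - y ∈ I := by
        rw [← Ideal.Quotient.eq_zero_iff_mem, map_sub, hyx, sub_self]
      have h3 : y ∈ M • (M ^ j) := by
        rw [smul_eq_mul, ← pow_succ']; exact hy
      have : x = (x - y) + y := by ring
      rw [this]
      exact Submodule.add_mem_sup h2 h3
    exact Submodule.le_of_le_smul_of_le_jacobson_bot (IsNoetherian.noetherian _) hjac hle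
  have key : ∀ j, M ^ j ≤ I ∨ Module.finrank k (U j) + j ≤ n := by
    intro j
    induction j with
    | zero =>
      right
      rw [← hn]
      simpa using Submodule.finrank_le (U 0)
    | succ j ih =>
      by_cases h : M ^ (j + 1) ≤ I
      · exact Or.inl h
      right
      have hj : ¬ M ^ j ≤ I := fun h' => h ((Ideal.pow_le_pow_right (Nat.le_succ j)).trans h')
      have ih' := ih.resolve_left hj
      have hlt : U (j + 1) < U j := lt_of_le_of_ne (hmono j) (fun he => hj (hstrict j he))
      have := Submodule.finrank_lt_finrank_of_lt hlt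
      omega
  rcases key n with h | h
  · exact h
  · apply hbot
    have h0 : Module.finrank k (U n) = 0 := by omega
    exact Submodule.finrank_eq_zero.1 h0

end Groth.Agent.S19436
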