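import Groth.Statements.S19438
import Mathlib
-- import your own Groth.Agent.* helpers here

set_option autoImplicit false
universe u
open CAlg

namespace Groth.Agent.S19438

/-- First assertion: let A be a Noetherian local commutative algebra over a field k with maximal ideal
M, residue field k (the map from k to A/M is onto) and embedding dimension dim M/M^2 at least 2, and
let I be a proper ideal with A/I finite-dimensional over k. If A/I is generated as a k-algebra by
one element, then some element of I does not lie in M^2; that is, the finite closed subscheme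
defined by I lies on a smooth hypersurface germ (it is curvilinear). (The published statement is for
the local ring of a smooth surface at a closed point; only a Noetherian local algebra with residue
field k and embedding dimension at least 2 is assumed here, which is what the published argument
uses.) -/
theorem result (k : Type u) [Field k]
    (A : Type u) [CommRing A] [Algebra k A] [IsNoetherianRing A] [IsLocalRing A]
    (hres : Function.Surjective (algebraMap k (IsLocalRing.ResidueField A)))
    (hemb : 2 ≤ Module.finrank (IsLocalRing.ResidueField A) (IsLocalRing.CotangentSpace A))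
    (I : Ideal A) (hI : I ≠ ⊤) [Module.Finite k (A ⧸ I)]
    (f : A ⧸ I) (hf : Algebra.adjoin k {f} = ⊤) :
    ∃ g ∈ I, g ∉ IsLocalRing.maximalIdeal A ^ 2 := by
  classical
  by_contra hcon
  push_neg at hcon
  set M := IsLocalRing.maximalIdeal A with hM
  have hIM : I ≤ M ^ 2 := fun g hg => hcon g hg
  obtain ⟨F, hF⟩ := Ideal.Quotient.mk_surjective f
  obtain ⟨c, hc⟩ := hres (IsLocalRing.residue A F)
  set t : A := F - algebraMap k A c with ht
  have htM : t ∈ M := by
    rw [hM, ← IsLocalRing.residue_eq_zero_iff, ht, map_sub]
    have : IsLocalRing.residue A (algebraMap k A c) = algebraMap k (IsLocalRing.ResidueField A) c :=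
      rfl
    rw [this, hc, sub_self]
  have ht2 : t * t ∈ M ^ 2 := by
    rw [pow_two]; exact Ideal.mul_mem_mul htM htM
  -- every element of A/I is represented by α + β t mod M^2
  have hP : ∀ y : A ⧸ I, ∃ (α β : k) (a : A), Ideal.Quotient.mk I a = y ∧
      a - algebraMap k A α - algebraMap k A β * t ∈ M ^ 2 := by
    intro y
    have hy : y ∈ Algebra.adjoin k {f} := by rw [hf]; trivial
    induction hy using Algebra.adjoin_induction with
    | mem x hx =>
      rw [Set.mem_singleton_iff] at hx
      subst hx
      refine ⟨c, 1, F, hF, ?_⟩
      have : F - algebraMap k A c - algebraMap k A 1 * t = 0 := by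
        rw [map_one, one_mul, ht]; ring
      rw [this]; exact Submodule.zero_mem _
    | algebraMap r =>
      refine ⟨r, 0, algebraMap k A r, rfl, ?_⟩
      have : algebraMap k A r - algebraMap k A r - algebraMap k A 0 * t = 0 := by
        rw [map_zero]; ring
      rw [this]; exact Submodule.zero_mem _
    | add x y _ _ hx hy =>
      obtain ⟨α, β, a, rfl, ha⟩ := hx
      obtain ⟨α', β', a', rfl, ha'⟩ := hy
      refine ⟨α + α', β + β', a + a', map_add _ _ _, ?_⟩
      have : a + a' - algebraMap k A (α + α') - algebraMap k A (β + β') * t =
          (a - algebraMap k A α - algebraMap k A β * t) +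
          (a' - algebraMap k A α' - algebraMap k A β' * t) := by
        rw [map_add, map_add]; ring
      rw [this]; exact Submodule.add_mem _ ha ha'
    | mul x y _ _ hx hy =>
      obtain ⟨α, β, a, rfl, ha⟩ := hx
      obtain ⟨α', β', a', rfl, ha'⟩ := hy
      refine ⟨α * α', α * β' + α' * β, a * a', map_mul _ _ _, ?_⟩
      have : a * a' - algebraMap k A (α * α') - algebraMap k A (α * β' + α' * β) * t =
          (a - algebraMap k A α - algebraMap k A β * t) * a' +
          (algebraMap k A α + algebraMap k A β * t) *
            (a' - algebraMap k A α' - algebraMap k A β' * t) +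
          (algebraMap k A β * algebraMap k A β') * (t * t) := by
        rw [map_add, map_mul, map_mul, map_mul]; ring
      rw [this]
      exact Submodule.add_mem _ (Submodule.add_mem _ (Ideal.mul_mem_right _ _ ha)
        (Ideal.mul_mem_left _ _ ha')) (Ideal.mul_mem_left _ _ ht2)
  have hM2M : M ^ 2 ≤ M := Ideal.pow_le_self (by norm_num)
  have hA : ∀ a ∈ M, ∃ β : k, a - algebraMap k A β * t ∈ M ^ 2 := by
    intro a ha
    obtain ⟨α, β, a', haa', h⟩ := hP (Ideal.Quotient.mk I a)
    have h1 : a - a' ∈ M ^ 2 := by
      apply hIM
      rw [← Ideal.Quotient.eq_zero_iff_mem, map_sub, haa', sub_self]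
    have h2 : a - algebraMap k A α - algebraMap k A β * t ∈ M ^ 2 := by
      have : a - algebraMap k A α - algebraMap k A β * t =
          (a - a') + (a' - algebraMap k A α - algebraMap k A β * t) := by ring
      rw [this]; exact Submodule.add_mem _ h1 h
    have h3 : algebraMap k A α ∈ M := by
      have : algebraMap k A α = a - algebraMap k A β * t -
          (a - algebraMap k A α - algebraMap k A β * t) := by ring
      rw [this]
      exact Submodule.sub_mem _ (Submodule.sub_mem _ ha (Ideal.mul_mem_left _ _ htM)) (hM2M h2)
    have hα : α = 0 := by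
      by_contra hne
      have hu : IsUnit (algebraMap k A α) := (IsUnit.mk0 α hne).map _
      exact (IsLocalRing.mem_maximalIdeal _).1 h3 hu
    refine ⟨β, ?_⟩
    rw [hα, map_zero, sub_zero] at h2
    exact h2
  have hle : Module.finrank (IsLocalRing.ResidueField A) (IsLocalRing.CotangentSpace A) ≤ 1 := by
    apply finrank_le_one (M.toCotangent ⟨t, htM⟩)
    intro w
    obtain ⟨⟨a, ha⟩, rfl⟩ := M.toCotangent_surjective w
    obtain ⟨β, hβ⟩ := hA a ha
    refine ⟨IsLocalRing.residue A (algebraMap k A β), ?_⟩
    have h1 : IsLocalRing.residue A (algebraMap k A β) • M.toCotangent ⟨t, htM⟩ =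
        (algebraMap k A β) • M.toCotangent ⟨t, htM⟩ :=
      IsScalarTower.algebraMap_smul (IsLocalRing.ResidueField A) (algebraMap k A β)
        (M.toCotangent ⟨t, htM⟩)
    rw [h1, ← map_smul, eq_comm, Ideal.toCotangent_eq]
    exact hβ
  omega

end Groth.Agent.S19438
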