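import Groth.Statements.S19439
import Mathlib
-- import your own Groth.Agent.* helpers here

set_option autoImplicit false
universe u
open CAlg

namespace Groth.Agent.S19439


open MvPolynomial in
theorem stab {k : Type u} [Field k] {N : ℕ} (I : Ideal (MvPolynomial (Fin N) k)) (d : ℕ)
    (h : Submodule.map (Ideal.Quotient.mkₐ k I).toLinearMap (restrictTotalDegree (Fin N) k (d+1)) ≤
      Submodule.map (Ideal.Quotient.mkₐ k I).toLinearMap (restrictTotalDegree (Fin N) k d)) :
    Submodule.map (Ideal.Quotient.mkₐ k I).toLinearMap (restrictTotalDegree (Fin N) k (d+2)) ≤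
      Submodule.map (Ideal.Quotient.mkₐ k I).toLinearMap
        (restrictTotalDegree (Fin N) k (d+1)) := by
  classical
  rintro _ ⟨p, hp, rfl⟩
  rw [SetLike.mem_coe, mem_restrictTotalDegree] at hp
  rw [p.as_sum, map_sum]
  apply Submodule.sum_mem
  intro m hm
  have hdeg : (m.sum fun _ e => e) ≤ d + 2 := le_trans (le_totalDegree hm) hp
  by_cases hle : (m.sum fun _ e => e) ≤ d + 1
  · refine ⟨monomial m (coeff m p), ?_, rfl⟩
    rw [SetLike.mem_coe, mem_restrictTotalDegree]
    exact le_trans (totalDegree_monomial_le _ _) hle
  · have hne : m ≠ 0 := by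
      rintro rfl
      simp at hle
    obtain ⟨i, hi⟩ : ∃ i, m i ≠ 0 := by
      by_contra hcon
      push_neg at hcon
      exact hne (Finsupp.ext hcon)
    have hsle : Finsupp.single i 1 ≤ m := by
      intro j
      by_cases hj : j = i
      · subst hj
        simp only [Finsupp.single_eq_same]
        omega
      · rw [Finsupp.single_eq_of_ne hj]
        exact Nat.zero_le _
    obtain ⟨m', hm'⟩ : ∃ m', m = m' + Finsupp.single i 1 :=
      ⟨m - Finsupp.single i 1, (tsub_add_cancel_of_le hsle).symm⟩
    have hdeg' : (m'.sum fun _ e => e) ≤ d + 1 := by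
      rw [hm', Finsupp.sum_add_index' (fun _ => rfl) (fun _ _ _ => rfl),
        Finsupp.sum_single_index rfl] at hdeg
      omega
    have hmono : monomial m (coeff m p) = monomial m' (coeff m p) * X i := by
      rw [hm', monomial_add_single, pow_one]
    have h1 : (Ideal.Quotient.mkₐ k I).toLinearMap (monomial m' (coeff m p)) ∈
        Submodule.map (Ideal.Quotient.mkₐ k I).toLinearMap
          (restrictTotalDegree (Fin N) k (d+1)) := by
      refine ⟨_, ?_, rfl⟩
      rw [SetLike.mem_coe, mem_restrictTotalDegree]
      exact le_trans (totalDegree_monomial_le _ _) hdeg'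
    obtain ⟨q, hq, hqe⟩ := h h1
    rw [SetLike.mem_coe, mem_restrictTotalDegree] at hq
    refine ⟨q * X i, ?_, ?_⟩
    · rw [SetLike.mem_coe, mem_restrictTotalDegree]
      calc (q * X i).totalDegree ≤ q.totalDegree + (X i : MvPolynomial (Fin N) k).totalDegree :=
            totalDegree_mul _ _
        _ ≤ d + 1 := by rw [totalDegree_X]; omega
    · rw [hmono]
      simp only [AlgHom.toLinearMap_apply, map_mul] at hqe ⊢
      rw [hqe]

/-- Affine form: for all n and N there is an integer d, that depends only on n and N, such that for
every algebraically closed field k and every ideal I of the polynomial ring in N variables over k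
whose quotient has finite dimension n over k, the polynomials of total degree at most d map onto the
quotient. -/
theorem result (n N : ℕ) :
    ∃ d : ℕ, ∀ (k : Type u) [Field k] [IsAlgClosed k] (I : Ideal (MvPolynomial (Fin N) k))
      [Module.Finite k (MvPolynomial (Fin N) k ⧸ I)],
      Module.finrank k (MvPolynomial (Fin N) k ⧸ I) = n →
      Submodule.map (Ideal.Quotient.mkₐ k I).toLinearMap (MvPolynomial.restrictTotalDegree (Fin N) k d) = ⊤ := by
  refine ⟨n, ?_⟩
  intro k _ _ I _ hfin
  classical
  set F : ℕ → Submodule k (MvPolynomial (Fin N) k ⧸ I) := fun d =>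
    Submodule.map (Ideal.Quotient.mkₐ k I).toLinearMap
      (MvPolynomial.restrictTotalDegree (Fin N) k d) with hF
  have hmono : Monotone F := by
    intro a b hab
    apply Submodule.map_mono
    intro p hp
    rw [MvPolynomial.mem_restrictTotalDegree] at hp ⊢
    omega
  have hstab1 : ∀ d, F (d+1) ≤ F d → ∀ e, F (d+e+1) ≤ F (d+e) := by
    intro d h e
    induction e with
    | zero => exact h
    | succ e ih => exact stab I (d+e) ih
  have hstab2 : ∀ d, F (d+1) ≤ F d → ∀ e, F (d+e) ≤ F d := by
    intro d h e
    induction e with
    | zero => exact le_rfl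
    | succ e ih => exact le_trans (hstab1 d h e) ih
  have htop : ∀ d, F (d+1) ≤ F d → F d = ⊤ := by
    intro d h
    rw [eq_top_iff]
    rintro y -
    obtain ⟨p, rfl⟩ := Ideal.Quotient.mk_surjective y
    have hp : Ideal.Quotient.mk I p ∈ F p.totalDegree :=
      ⟨p, (MvPolynomial.mem_restrictTotalDegree (Fin N) _ p).mpr le_rfl, rfl⟩
    rcases le_total p.totalDegree d with h1 | h1
    · exact hmono h1 hp
    · obtain ⟨e, he⟩ := Nat.exists_eq_add_of_le h1
      rw [he] at hp
      exact hstab2 d h e hp
  have hclaim : ∀ d, F d = ⊤ ∨ d ≤ Module.finrank k (F d) := by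
    intro d
    induction d with
    | zero => right; exact Nat.zero_le _
    | succ d ih =>
      rcases ih with h | h
      · left
        exact eq_top_iff.mpr (h ▸ hmono (Nat.le_succ d))
      · by_cases hle : F (d+1) ≤ F d
        · left
          exact eq_top_iff.mpr ((htop d hle) ▸ hmono (Nat.le_succ d))
        · right
          have hlt : F d < F (d+1) :=
            lt_of_le_of_ne (hmono (Nat.le_succ d)) (fun heq => hle (heq ▸ le_rfl))
          have := Submodule.finrank_lt_finrank_of_lt hlt
          omega
  rcases hclaim n with h | h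
  · exact h
  · have h2 : Module.finrank k (F n) = Module.finrank k (MvPolynomial (Fin N) k ⧸ I) := by
      have := Submodule.finrank_le (F n)
      omega
    exact Submodule.eq_top_of_finrank_eq h2

end Groth.Agent.S19439
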