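import Groth.Statements.S1944
import Groth.Agent.Lib.Helper18.Aff.Bundle

set_option autoImplicit false
universe u
open CategoryTheory AlgebraicGeometry
open Cyc

namespace Groth.Agent.S1944

/-- Let f : X → Y be flat, locally of finite type, of relative dimension r, such that every point of Y
has an open neighbourhood U over which f⁻¹(U) → U is isomorphic to affine r-space 𝔸^r_U → U. Then
f^* : CH_k(Y) → CH_{k+r}(X) is surjective: every (k + r)-cycle on X is rationally equivalent to the
flat pullback (taken coefficientwise) of some k-cycle on Y. A pair (X, δ) with Cyc.IsSetup plays the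
role of a scheme locally of finite type over a fixed base with a dimension function (X locally
Noetherian with universally catenary local rings, δ a dimension function), and Cyc.DeltaCompat
records that the dimension function upstairs is the induced one. -/
theorem result (X Y : Scheme.{u}) (δX : X → ℤ) (δY : Y → ℤ) (hX : Cyc.IsSetup X δX) (hY : Cyc.IsSetup Y δY) (f : X ⟶ Y) [Flat f] [LocallyOfFiniteType f] (r : ℕ) (hr : Cyc.HasRelDim f r) (hδ : Cyc.DeltaCompat f δX δY) (hloc : ∀ y : Y, ∃ U : Y.Opens, y ∈ U ∧ ∃ e : (↑(f ⁻¹ᵁ U) : Scheme.{u}) ≅ 𝔸(ULift.{u} (Fin r); (↑U : Scheme.{u})), e.hom ≫ (𝔸(ULift.{u} (Fin r); (↑U : Scheme.{u})) ↘ (↑U : Scheme.{u})) = f ∣_ U) (k : ℤ) (β : AlgebraicCycle X ℤ) (hβ : β ∈ Cyc.Zk X δX (k + r)) : ∃ (α : AlgebraicCycle Y ℤ) (β' : AlgebraicCycle X ℤ), α ∈ Cyc.Zk Y δY k ∧ ⇑β' = Cyc.pullFun f δX δY r ⇑α ∧ Cyc.RatEquiv δX (k + r) β β' := by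
  haveI := hX.1
  haveI := hY.1
  haveI : QuasiCompact f :=
    Groth.Agent.Lib.Helper18.AffBundle.quasiCompact_of_locTriv f r hloc
  have hfib : Groth.Agent.Lib.Helper18.AffDefect.FibHyp f δX δY r := by
    intro y
    obtain ⟨g, sq⟩ := Groth.Agent.Lib.Helper18.AffBundle.exists_fibModel f r hloc y
    refine ⟨_, g, _, sq, inferInstance, fun m hm c hc => ?_⟩
    exact Groth.Agent.Lib.Helper18.AffTower.affH2 (Y.residueField y) r (fun w => δX (g w)) (δY y)
      (Groth.Agent.Lib.Helper18.AffFib.deltaCompat_h sq δX δY hδ) m hm c hc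
  exact Groth.Agent.Lib.Helper18.AffDefect.main f δX δY r hX.2.2 hY.2.2 hδ hr hfib k β hβ

end Groth.Agent.S1944
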