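import Groth.Statements.S19443
-- import your own Groth.Agent.* helpers here

set_option autoImplicit false
universe u
open LinAlg

namespace Groth.Agent.S19443

/-- Algebraic form: let G be a finite group with order invertible in the field k, ρ a linear
representation of G on a k-vector space V, and ω a nondegenerate bilinear form on V invariant under
G. Then ω restricted to the fixed subspace V^G is nondegenerate (for a finite group of symplectic
automorphisms, the fixed subspace is a symplectic subspace). -/
theorem result (k : Type u) [Field k]
    (G : Type u) [Group G] [Finite G] (hG : (Nat.card G : k) ≠ 0)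
    (V : Type u) [AddCommGroup V] [Module k V] (ρ : Representation k G V)
    (ω : LinearMap.BilinForm k V) (hω : ω.Nondegenerate)
    (hinv : ∀ (g : G) (v w : V), ω (ρ g v) (ρ g w) = ω v w) :
    (ω.restrict ρ.invariants).Nondegenerate := by
  classical
  have := Fintype.ofFinite G
  have hG' : IsUnit ((Fintype.card G : ℕ) : k) := by
    rw [Fintype.card_eq_nat_card]; exact IsUnit.mk0 _ hG
  let _ : Invertible ((Fintype.card G : ℕ) : k) := hG'.invertible
  have havg : ρ.averageMap = ⅟((Fintype.card G : ℕ) : k) • ∑ g : G, ρ g := by
    rw [Representation.averageMap, GroupAlgebra.average, map_smul, map_sum]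
    simp only [Representation.asAlgebraHom_of]
  have hcard : ⅟((Fintype.card G : ℕ) : k) * ((Fintype.card G : ℕ) : k) = 1 := invOf_mul_self _
  have key1 : ∀ v ∈ ρ.invariants, ∀ w, ω v (ρ.averageMap w) = ω v w := by
    intro v hv w
    have hterm : ∀ g : G, ω v (ρ g w) = ω v w := by
      intro g
      have := hinv g v w
      rwa [hv g] at this
    rw [havg, LinearMap.smul_apply, LinearMap.sum_apply, map_smul, map_sum]
    simp only [hterm, Finset.sum_const, Finset.card_univ, nsmul_eq_mul, smul_eq_mul]
    rw [← mul_assoc, hcard, one_mul]
  have key2 : ∀ v ∈ ρ.invariants, ∀ w, ω (ρ.averageMap w) v = ω w v := by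
    intro v hv w
    have hterm : ∀ g : G, ω (ρ g w) v = ω w v := by
      intro g
      have := hinv g w v
      rwa [hv g] at this
    rw [havg, LinearMap.smul_apply, LinearMap.sum_apply, map_smul, map_sum,
      LinearMap.smul_apply, LinearMap.sum_apply]
    simp only [hterm, Finset.sum_const, Finset.card_univ, nsmul_eq_mul, smul_eq_mul]
    rw [← mul_assoc, hcard, one_mul]
  constructor
  · intro x hx
    apply Subtype.ext
    apply hω.1 x.1
    intro w
    rw [← key1 x.1 x.2 w]
    exact hx ⟨ρ.averageMap w, ρ.averageMap_invariant w⟩
  · intro y hy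
    apply Subtype.ext
    apply hω.2 y.1
    intro w
    rw [← key2 y.1 y.2 w]
    exact hy ⟨ρ.averageMap w, ρ.averageMap_invariant w⟩

end Groth.Agent.S19443
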