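import Groth.Statements.S19448
import Mathlib.RingTheory.Filtration

set_option autoImplicit false
universe u
open CAlg

namespace Groth.Agent.S19448

open IsLocalRing

section
variable {A : Type*} [CommRing A] [IsLocalRing A]
  {G : Type*} [Group G] [MulSemiringAction G A] (g : G)
  (hg : ∀ a ∈ maximalIdeal A, g • a - a ∈ maximalIdeal A ^ 2)
include hg

/-- `g` acts trivially on `M^j / M^(j+1)` for `j ≥ 1`. -/
theorem L1 (j : ℕ) : ∀ b ∈ maximalIdeal A ^ (j + 1), g • b - b ∈ maximalIdeal A ^ (j + 2) := by
  induction j with
  | zero => simpa using hg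
  | succ j ih =>
    intro b hb
    rw [pow_succ] at hb
    refine Submodule.mul_induction_on hb (fun x hx y hy => ?_) (fun x y hx hy => ?_)
    · have h1 := ih x hx
      have h2 := hg y hy
      have hgx : g • x ∈ maximalIdeal A ^ (j + 1) := by
        have : g • x = x + (g • x - x) := by ring
        rw [this]
        exact Ideal.add_mem _ hx (Ideal.pow_le_pow_right (by omega) h1)
      have : g • (x * y) - x * y = g • x * (g • y - y) + (g • x - x) * y := by
        rw [smul_mul']; ring
      rw [this]
      refine Ideal.add_mem _ ?_ ?_
      · have := Ideal.mul_mem_mul hgx h2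
        rw [← pow_add] at this
        exact Ideal.pow_le_pow_right (by omega) this
      · have := Ideal.mul_mem_mul h1 hy
        rw [← pow_succ] at this
        exact this
    · have : g • (x + y) - (x + y) = (g • x - x) + (g • y - y) := by rw [smul_add]; ring
      rw [this]; exact Ideal.add_mem _ hx hy

theorem L1' (j : ℕ) : ∀ b ∈ maximalIdeal A ^ (j + 1), g • b ∈ maximalIdeal A ^ (j + 1) := by
  intro b hb
  have : g • b = b + (g • b - b) := by ring
  rw [this]
  exact Ideal.add_mem _ hb (Ideal.pow_le_pow_right (by omega) (L1 g hg j b hb))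

/-- averaging step -/
theorem L2 (j : ℕ) (a : A) (ha : g • a - a ∈ maximalIdeal A ^ (j + 1)) (i : ℕ) :
    g ^ i • a - a - (i : A) * (g • a - a) ∈ maximalIdeal A ^ (j + 2) := by
  induction i with
  | zero => simp
  | succ i ih =>
    set δ := g • a - a with hδ
    set r := g ^ i • a - a - (i : A) * δ with hr
    have h1 := L1 g hg j δ ha
    have h2 : g • r ∈ maximalIdeal A ^ (j + 2) := L1' g hg (j + 1) r ih
    have : g ^ (i + 1) • a - a - ((i + 1 : ℕ) : A) * δ = g • r + (i : A) * (g • δ - δ) := by
      have e1 : g ^ (i + 1) • a = g • (g ^ i • a) := by rw [pow_succ', mul_smul]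
      have e2 : g ^ i • a = r + a + (i : A) * δ := by rw [hr]; ring
      have e4 : g • (i : A) = (i : A) := map_natCast (MulSemiringAction.toRingHom G A g) i
      rw [e1, e2, smul_add, smul_add, smul_mul', e4]
      have e3 : g • a = δ + a := by rw [hδ]; ring
      rw [e3]; push_cast; ring
    rw [this]
    exact Ideal.add_mem _ h2 (Ideal.mul_mem_left _ _ h1)

end


/-- Let k be a field, A a Noetherian local k-algebra with maximal ideal M and residue field k, and G a
finite group with |G| ≠ 0 in k acting on A by k-algebra automorphisms. An element of G which acts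
trivially on M/M^2 acts trivially on A; in other words the stabilizer acts faithfully on the
cotangent space whenever it acts faithfully on the local ring. -/
theorem result (k : Type u) [Field k] (A : Type u) [CommRing A]
    [Algebra k A] [IsLocalRing A] [IsNoetherianRing A]
    (hres : Function.Surjective (algebraMap k (IsLocalRing.ResidueField A)))
    (G : Type u) [Group G] [Finite G] [MulSemiringAction G A] [SMulCommClass G k A]
    (hG : (Nat.card G : k) ≠ 0) (g : G)
    (hg : ∀ a ∈ IsLocalRing.maximalIdeal A, g • a - a ∈ IsLocalRing.maximalIdeal A ^ 2) (a : A) :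
    g • a = a := by
  have hP : ∀ j : ℕ, ∀ a : A, g • a - a ∈ maximalIdeal A ^ (j + 2) := by
    intro j
    induction j with
    | zero =>
      intro a
      obtain ⟨c, hc⟩ := hres (residue A a)
      have hm : a - algebraMap k A c ∈ maximalIdeal A := by
        rw [← residue_eq_zero_iff, map_sub, ← hc, sub_eq_zero]
        rfl
      have hfix : g • algebraMap k A c = algebraMap k A c := by
        rw [Algebra.algebraMap_eq_smul_one, smul_comm, smul_one]
      have := hg _ hm
      rw [smul_sub, hfix] at this
      convert this using 1; ring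
    | succ j ih =>
      intro a
      have h := L2 g hg (j+1) a (ih a) (Nat.card G)
      rw [pow_card_eq_one', one_smul, sub_self, zero_sub, neg_mem_iff] at h
      have hunit : (Nat.card G : A) = algebraMap k A (Nat.card G : k) := by simp
      have : g • a - a =
          algebraMap k A ((Nat.card G : k)⁻¹) * ((Nat.card G : A) * (g • a - a)) := by
        rw [hunit, ← mul_assoc, ← map_mul, inv_mul_cancel₀ hG, map_one, one_mul]
      rw [this]; exact Ideal.mul_mem_left _ _ h
  have : g • a - a ∈ (⨅ i : ℕ, maximalIdeal A ^ i) := by
    rw [Ideal.mem_iInf]; intro i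
    exact Ideal.pow_le_pow_right (by omega) (hP i a)
  rw [Ideal.iInf_pow_eq_bot_of_isLocalRing _ (IsLocalRing.maximalIdeal.isMaximal A).ne_top,
    Ideal.mem_bot] at this
  exact sub_eq_zero.1 this

end Groth.Agent.S19448
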