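import Groth.Statements.S19452
import Groth.Agent.Lib.Helper17.LocalFlat
import Mathlib

set_option autoImplicit false
universe u
attribute [local instance] W4c6puncthilbintro.dualAlgebra
open HilbD

namespace Groth.Agent.S19452

open TrivSqZeroExt DualNumber W4c6puncthilbintro TensorProduct Function
open Groth.Agent.Lib.Helper17.LocalFlat

section general

variable (A : Type u) [CommRing A]

/-- `A` as an algebra over the dual numbers via `ε ↦ 0`. -/
noncomputable abbrev fstAlg : Algebra (DualNumber A) A := (fstHom A A A).toRingHom.toAlgebra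

attribute [local instance] fstAlg

theorem algebraMap_fst (d : DualNumber A) : algebraMap (DualNumber A) A d = d.fst := rfl

theorem ker_fst_sq : RingHom.ker (algebraMap (DualNumber A) A) ^ 2 = ⊥ := by
  rw [eq_bot_iff, pow_two, Ideal.mul_le]
  intro x hx y hy
  rw [RingHom.mem_ker, algebraMap_fst] at hx hy
  rw [Ideal.mem_bot]
  apply TrivSqZeroExt.ext
  · rw [fst_mul, hx, zero_mul]; rfl
  · rw [DualNumber.snd_mul, hx, hy, zero_mul, mul_zero, add_zero]; rfl

theorem flat_dual {M : Type*} [AddCommGroup M] [Module (DualNumber A) M]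
    (N : Type*) [AddCommGroup N] [Module A N] [Module.Flat A N] [Module (DualNumber A) N]
    [IsScalarTower (DualNumber A) A N] (g : M →ₗ[DualNumber A] N) (hg : Surjective g)
    (hker : ∀ m, g m = 0 → ∃ m', m = (ε : DualNumber A) • m')
    (htor : ∀ m : M, (ε : DualNumber A) • m = 0 → ∃ m', m = (ε : DualNumber A) • m') :
    Module.Flat (DualNumber A) M := by
  have hsurjA : Surjective (algebraMap (DualNumber A) A) := fun a => ⟨inl a, rfl⟩
  have hform : ∀ z : A ⊗[DualNumber A] M, ∃ m : M, z = (1 : A) ⊗ₜ m := by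
    intro z
    induction z using TensorProduct.induction_on with
    | zero => exact ⟨0, by rw [tmul_zero]⟩
    | add x y hx hy =>
      obtain ⟨b₁, rfl⟩ := hx
      obtain ⟨b₂, rfl⟩ := hy
      exact ⟨b₁ + b₂, by rw [tmul_add]⟩
    | tmul a x =>
      refine ⟨(inl a : DualNumber A) • x, ?_⟩
      rw [← smul_tmul]
      congr 1
      rw [Algebra.smul_def, mul_one]; rfl
  have hε1 : (ε : DualNumber A) • (1 : A) = 0 := by
    rw [Algebra.smul_def, mul_one, algebraMap_fst]; rfl
  let Φ : A ⊗[DualNumber A] M →ₗ[A] N := LinearMap.liftBaseChange A g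
  have hΦ : Bijective Φ := by
    constructor
    · rw [injective_iff_map_eq_zero]
      intro z hz
      obtain ⟨m, rfl⟩ := hform z
      have : g m = 0 := by simpa [Φ] using hz
      obtain ⟨m', rfl⟩ := hker m this
      rw [← smul_tmul, hε1, zero_tmul]
    · intro n
      obtain ⟨m, rfl⟩ := hg n
      exact ⟨1 ⊗ₜ m, by simp [Φ]⟩
  haveI : Module.Flat A (A ⊗[DualNumber A] M) :=
    Module.Flat.of_linearEquiv (LinearEquiv.ofBijective Φ hΦ)
  refine flat_of_nilpotent_surj hsurjA ⟨2, ker_fst_sq A⟩ M ?_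
  have hεk : (ε : DualNumber A) ∈ RingHom.ker (algebraMap (DualNumber A) A) := by
    rw [RingHom.mem_ker, algebraMap_fst]; rfl
  have hform2 : ∀ z : RingHom.ker (algebraMap (DualNumber A) A) ⊗[DualNumber A] M,
      ∃ m : M, z = (⟨ε, hεk⟩ : RingHom.ker (algebraMap (DualNumber A) A)) ⊗ₜ m := by
    intro z
    induction z using TensorProduct.induction_on with
    | zero => exact ⟨0, by rw [tmul_zero]⟩
    | add x y hx hy =>
      obtain ⟨b₁, rfl⟩ := hx
      obtain ⟨b₂, rfl⟩ := hy
      exact ⟨b₁ + b₂, by rw [tmul_add]⟩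
    | tmul k x =>
      refine ⟨(inl (k : DualNumber A).snd : DualNumber A) • x, ?_⟩
      rw [← smul_tmul]
      congr 1
      apply Subtype.ext
      have hk : (k : DualNumber A).fst = 0 := k.2
      show (k : DualNumber A) = inl (k : DualNumber A).snd * ε
      apply TrivSqZeroExt.ext
      · rw [fst_mul, hk]; simp
      · rw [DualNumber.snd_mul]; simp
  rw [injective_iff_map_eq_zero]
  intro z hz
  obtain ⟨m, rfl⟩ := hform2 z
  have hz' : (ε : DualNumber A) ⊗ₜ[DualNumber A] m = (0 : DualNumber A ⊗[DualNumber A] M) := hz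
  have h3 := congrArg (TensorProduct.lid (DualNumber A) M) hz'
  rw [TensorProduct.lid_tmul, map_zero] at h3
  obtain ⟨m', rfl⟩ := htor m h3
  rw [← smul_tmul]
  have : (ε : DualNumber A) • (⟨ε, hεk⟩ : RingHom.ker (algebraMap (DualNumber A) A)) = 0 := by
    apply Subtype.ext
    show (ε : DualNumber A) * ε = 0
    exact eps_mul_eps
  rw [this, zero_tmul]

end general


section main

attribute [local instance] fstAlg

theorem ann_flat {R : Type*} [CommRing R] (r : R) (hann : ∀ x : R, r * x = 0 → ∃ c, x = r * c)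
    {M : Type*} [AddCommGroup M] [Module R M] [Module.Flat R M] (m : M) (hm : r • m = 0) :
    ∃ m' : M, m = r • m' := by
  have hrel : ∑ i : Fin 1, (fun _ => r) i • (fun _ => m) i = 0 := by
    simp only [Finset.univ_unique, Finset.sum_singleton]
    exact hm
  obtain ⟨κ, a, y, h1, h2⟩ := Module.Flat.isTrivialRelation_of_sum_smul_eq_zero hrel
  have h1' : m = ∑ j, a 0 j • y j := h1 0
  simp only [Finset.univ_unique, Finset.sum_singleton] at h2
  choose c hc using fun j => hann (a default j) (h2 j)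
  refine ⟨∑ j, c j • y j, ?_⟩
  rw [h1', Finset.smul_sum]
  refine Finset.sum_congr rfl fun j _ => ?_
  have : a 0 j = a default j := rfl
  rw [this, hc j, mul_smul]

variable (A : Type u) [CommRing A] (R : Type u) [CommRing R] [Algebra A R]

theorem ann_eps (x : DualNumber A) (hx : (ε : DualNumber A) * x = 0) : ∃ c, x = ε * c := by
  refine ⟨inl x.snd, ?_⟩
  have h1 : x.fst = 0 := by
    have := congrArg TrivSqZeroExt.snd hx
    simpa [DualNumber.snd_mul] using this
  apply TrivSqZeroExt.ext
  · rw [fst_mul, h1]; simp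
  · rw [DualNumber.snd_mul]; simp

theorem algebraMap_dual (x : DualNumber A) :
    algebraMap (DualNumber A) (DualNumber R) x = dualMap A R x := rfl

theorem fst_dualMap (x : DualNumber A) : (dualMap A R x).fst = algebraMap A R x.fst := by
  simp [dualMap, DualNumber.lift_apply_apply, TrivSqZeroExt.algebraMap_eq_inl']

theorem eps_smul_mk (J : Ideal (DualNumber R)) (y : DualNumber R) :
    (ε : DualNumber A) • (Ideal.Quotient.mk J y) = Ideal.Quotient.mk J (ε * y) := by
  show Ideal.Quotient.mk J ((ε : DualNumber A) • y) = _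
  rw [Algebra.smul_def, algebraMap_dual, dualMap_eps]

variable {R}

theorem flat_quot_dual (J : Ideal (DualNumber R)) (I : Ideal R) [Module.Flat A (R ⧸ I)]
    (h1 : ∀ y ∈ J, y.fst ∈ I) (h2 : ∀ y : DualNumber R, y.fst ∈ I → ∃ z, y - ε * z ∈ J)
    (h3 : ∀ y : DualNumber R, ε * y ∈ J → y.fst ∈ I) :
    Module.Flat (DualNumber A) (DualNumber R ⧸ J) := by
  letI : Module (DualNumber A) (R ⧸ I) := Module.compHom (R ⧸ I) (algebraMap (DualNumber A) A)
  haveI : IsScalarTower (DualNumber A) A (R ⧸ I) := ⟨fun d a n => by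
    show (d • a) • n = algebraMap (DualNumber A) A d • (a • n)
    rw [smul_smul]; rfl⟩
  let g₀ : DualNumber R ⧸ J →+* R ⧸ I :=
    Ideal.Quotient.lift J ((Ideal.Quotient.mk I).comp (fstHom A R R).toRingHom) (fun y hy => by
      show Ideal.Quotient.mk I y.fst = 0
      exact Ideal.Quotient.eq_zero_iff_mem.mpr (h1 y hy))
  have hg₀ : ∀ y, g₀ (Ideal.Quotient.mk J y) = Ideal.Quotient.mk I y.fst := fun y => rfl
  let g : DualNumber R ⧸ J →ₗ[DualNumber A] R ⧸ I :=
    { toFun := g₀
      map_add' := map_add g₀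
      map_smul' := by
        intro d x
        obtain ⟨y, rfl⟩ := Ideal.Quotient.mk_surjective x
        show g₀ (Ideal.Quotient.mk J (d • y)) = algebraMap (DualNumber A) A d • _
        rw [Algebra.smul_def, hg₀, hg₀, fst_mul, algebraMap_dual, fst_dualMap, map_mul,
          algebraMap_fst, Algebra.smul_def]; rfl }
  have hg : ∀ y, g (Ideal.Quotient.mk J y) = Ideal.Quotient.mk I y.fst := fun y => rfl
  have key : ∀ y : DualNumber R, y.fst ∈ I →
      ∃ m', Ideal.Quotient.mk J y = (ε : DualNumber A) • m' := by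
    intro y hy
    obtain ⟨z, hz⟩ := h2 y hy
    refine ⟨Ideal.Quotient.mk J z, ?_⟩
    rw [eps_smul_mk]
    exact Ideal.Quotient.eq.mpr hz
  refine flat_dual A (R ⧸ I) g ?_ ?_ ?_
  · intro n
    obtain ⟨r, rfl⟩ := Ideal.Quotient.mk_surjective n
    exact ⟨Ideal.Quotient.mk J (inl r), by rw [hg]; rfl⟩
  · intro m hm
    obtain ⟨y, rfl⟩ := Ideal.Quotient.mk_surjective m
    rw [hg, Ideal.Quotient.eq_zero_iff_mem] at hm
    exact key y hm
  · intro m hm
    obtain ⟨y, rfl⟩ := Ideal.Quotient.mk_surjective m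
    rw [eps_smul_mk, Ideal.Quotient.eq_zero_iff_mem] at hm
    exact key y (h3 y hm)

end main


section thm

attribute [local instance] fstAlg

variable (A : Type u) [CommRing A] {R : Type u} [CommRing R] [Algebra A R]

theorem mem_liftIdeal (I : Ideal R) (φ : I →ₗ[R] R ⧸ I) (x : DualNumber R) :
    x ∈ liftIdeal I φ ↔ ∃ h : x.fst ∈ I, Ideal.Quotient.mk I x.snd = φ ⟨x.fst, h⟩ := Iff.rfl

theorem part1 (I : Ideal R) [Module.Flat A (R ⧸ I)] (φ : I →ₗ[R] R ⧸ I) :
    Module.Flat (DualNumber A) (DualNumber R ⧸ liftIdeal I φ) ∧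
      Ideal.map (TrivSqZeroExt.fstHom A R R) (liftIdeal I φ) = I := by
  constructor
  · refine flat_quot_dual A (liftIdeal I φ) I ?_ ?_ ?_
    · rintro y ⟨hy, -⟩
      exact hy
    · intro y hy
      obtain ⟨b₀, hb₀⟩ := Ideal.Quotient.mk_surjective (φ ⟨y.fst, hy⟩)
      refine ⟨inl (y.snd - b₀), ?_⟩
      have hf : (y - ε * inl (y.snd - b₀)).fst = y.fst := by
        rw [fst_sub, fst_mul]; simp
      have hs : (y - ε * inl (y.snd - b₀)).snd = b₀ := by
        rw [snd_sub, DualNumber.snd_mul]; simp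
      rw [mem_liftIdeal]
      refine ⟨by rw [hf]; exact hy, ?_⟩
      rw [hs, hb₀]
      congr 1
      exact Subtype.ext hf.symm
    · rintro y ⟨hy, hy'⟩
      have hf : ((ε : DualNumber R) * y).fst = 0 := by rw [fst_mul]; simp
      have hs : ((ε : DualNumber R) * y).snd = y.fst := by rw [DualNumber.snd_mul]; simp
      have : (⟨((ε : DualNumber R) * y).fst, hy⟩ : I) = 0 := Subtype.ext hf
      rw [this, map_zero, hs, Ideal.Quotient.eq_zero_iff_mem] at hy'
      exact hy'
  · apply le_antisymm
    · rw [Ideal.map_le_iff_le_comap]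
      rintro y ⟨hy, -⟩
      exact hy
    · intro a ha
      obtain ⟨b₀, hb₀⟩ := Ideal.Quotient.mk_surjective (φ ⟨a, ha⟩)
      have : (inl a + inr b₀ : DualNumber R) ∈ liftIdeal I φ := by
        rw [mem_liftIdeal]
        have hf : (inl a + inr b₀ : DualNumber R).fst = a := by simp
        refine ⟨by rw [hf]; exact ha, ?_⟩
        have hs : (inl a + inr b₀ : DualNumber R).snd = b₀ := by simp
        rw [hs, hb₀]
        congr 1
        exact Subtype.ext hf.symm
      have h2 := Ideal.mem_map_of_mem (TrivSqZeroExt.fstHom A R R) this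
      have h3 : TrivSqZeroExt.fstHom A R R (inl a + inr b₀ : DualNumber R) = a := by
        simp
      rwa [h3] at h2

theorem part2 (I : Ideal R) : Function.Injective (liftIdeal I) := by
  intro φ ψ h
  ext ⟨a, ha⟩
  obtain ⟨b₀, hb₀⟩ := Ideal.Quotient.mk_surjective (φ ⟨a, ha⟩)
  have hf : (inl a + inr b₀ : DualNumber R).fst = a := by simp
  have hs : (inl a + inr b₀ : DualNumber R).snd = b₀ := by simp
  have : (inl a + inr b₀ : DualNumber R) ∈ liftIdeal I φ := by
    rw [mem_liftIdeal]
    refine ⟨by rw [hf]; exact ha, ?_⟩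
    rw [hs, hb₀]
    congr 1
    exact Subtype.ext hf.symm
  rw [h, mem_liftIdeal] at this
  obtain ⟨h1, h2⟩ := this
  rw [hs, hb₀] at h2
  rw [h2]
  congr 1
  exact Subtype.ext hf

theorem part3 (I : Ideal R) (J : Ideal (DualNumber R))
    (hfl : Module.Flat (DualNumber A) (DualNumber R ⧸ J))
    (hJ : Ideal.map (TrivSqZeroExt.fstHom A R R) J = I) :
    ∃ φ : I →ₗ[R] R ⧸ I, J = liftIdeal I φ := by
  have hfst_surj : Function.Surjective (TrivSqZeroExt.fstHom A R R) := fun r => ⟨inl r, rfl⟩
  -- (a) fst of J lands in I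
  have ha : ∀ x ∈ J, x.fst ∈ I := by
    intro x hx
    rw [← hJ]
    exact Ideal.mem_map_of_mem (TrivSqZeroExt.fstHom A R R) hx
  -- (b) every element of I lifts
  have hb : ∀ a ∈ I, ∃ x ∈ J, x.fst = a := by
    intro a ha'
    rw [← hJ, Ideal.mem_map_iff_of_surjective _ hfst_surj] at ha'
    obtain ⟨x, hx, rfl⟩ := ha'
    exact ⟨x, hx, rfl⟩
  -- (c) inr c ∈ J → c ∈ I
  have hc : ∀ c : R, (inr c : DualNumber R) ∈ J → c ∈ I := by
    intro c hc
    have h1 : (ε : DualNumber A) • (Ideal.Quotient.mk J (inl c)) = 0 := by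
      rw [eps_smul_mk, Ideal.Quotient.eq_zero_iff_mem]
      have : (ε : DualNumber R) * inl c = inr c := by
        apply TrivSqZeroExt.ext
        · rw [fst_mul]; simp
        · rw [DualNumber.snd_mul]; simp
      rw [this]; exact hc
    obtain ⟨m', hm'⟩ := ann_flat (ε : DualNumber A) (ann_eps A) _ h1
    obtain ⟨z, rfl⟩ := Ideal.Quotient.mk_surjective m'
    rw [eps_smul_mk, Ideal.Quotient.eq] at hm'
    have := ha _ hm'
    rw [fst_sub, fst_mul] at this
    simpa using this
  -- (d) c ∈ I → inr c ∈ J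
  have hd : ∀ c ∈ I, (inr c : DualNumber R) ∈ J := by
    intro c hc'
    obtain ⟨x, hx, rfl⟩ := hb c hc'
    have : (ε : DualNumber R) * x = inr x.fst := by
      apply TrivSqZeroExt.ext
      · rw [fst_mul]; simp
      · rw [DualNumber.snd_mul]; simp
    rw [← this]
    exact J.mul_mem_left _ hx
  -- well-definedness
  have hwd : ∀ x ∈ J, ∀ x' ∈ J, x.fst = x'.fst →
      Ideal.Quotient.mk I x.snd = Ideal.Quotient.mk I x'.snd := by
    intro x hx x' hx' hxx
    rw [Ideal.Quotient.eq]
    apply hc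
    have : (inr (x.snd - x'.snd) : DualNumber R) = x - x' := by
      apply TrivSqZeroExt.ext
      · rw [fst_sub, hxx]; simp
      · rw [snd_sub]; simp
    rw [this]
    exact J.sub_mem hx hx'
  choose f hfJ hff using fun a : I => hb a.1 a.2
  let φ : I →ₗ[R] R ⧸ I :=
    { toFun := fun a => Ideal.Quotient.mk I (f a).snd
      map_add' := by
        intro a b
        rw [← map_add, ← snd_add]
        apply hwd _ (hfJ _) _ (J.add_mem (hfJ a) (hfJ b))
        rw [fst_add, hff, hff, hff]; rfl
      map_smul' := by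
        intro r a
        have h1 : (inl r * f a : DualNumber R) ∈ J := J.mul_mem_left _ (hfJ a)
        have h2 : (inl r * f a : DualNumber R).snd = r * (f a).snd := by
          rw [DualNumber.snd_mul]; simp
        have h3 : (inl r * f a : DualNumber R).fst = r * (f a).fst := by
          rw [fst_mul]; simp
        rw [RingHom.id_apply, Algebra.smul_def, Ideal.Quotient.algebraMap_eq, ← map_mul, ← h2]
        apply hwd _ (hfJ _) _ h1
        rw [h3, hff, hff]; rfl }
  have hφ : ∀ x ∈ J, ∀ h : x.fst ∈ I, φ ⟨x.fst, h⟩ = Ideal.Quotient.mk I x.snd := by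
    intro x hx h
    exact hwd _ (hfJ _) _ hx (hff _)
  refine ⟨φ, ?_⟩
  ext x
  rw [mem_liftIdeal]
  constructor
  · intro hx
    exact ⟨ha x hx, (hφ x hx _).symm⟩
  · rintro ⟨h1, h2⟩
    have h3 : Ideal.Quotient.mk I x.snd = Ideal.Quotient.mk I (f ⟨x.fst, h1⟩).snd := h2
    rw [Ideal.Quotient.eq] at h3
    have h4 := hd _ h3
    have : x = f ⟨x.fst, h1⟩ + inr (x.snd - (f ⟨x.fst, h1⟩).snd) := by
      apply TrivSqZeroExt.ext
      · rw [fst_add, hff]; simp
      · rw [snd_add]; simp
    rw [this]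
    exact J.add_mem (hfJ _) h4

end thm


/-- Let A be a commutative ring, R a commutative A-algebra free as an A-module, I an ideal of R with R/I
flat over A, and view the dual numbers R[ε] as an algebra over A[ε] (ε ↦ ε). For φ : I → R/I linear
over R, let J_φ be the ideal of elements a + bε of R[ε] with a ∈ I and b ≡ φ(a) modulo I. Then each
R[ε]/J_φ is flat over A[ε] and J_φ reduces to I modulo ε; the assignment φ ↦ J_φ is injective; and
every ideal J of R[ε] with R[ε]/J flat over A[ε] which reduces to I modulo ε equals some J_φ. Thus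
the first-order liftings of I correspond one-to-one to Hom_R(I, R/I) (the tangent space of the
Hilbert scheme at I). -/
theorem result (A : Type u) [CommRing A] (R : Type u) [CommRing R]
    [Algebra A R] [Module.Free A R] (I : Ideal R) [Module.Flat A (R ⧸ I)] :
    (∀ φ : I →ₗ[R] R ⧸ I,
        Module.Flat (DualNumber A) (DualNumber R ⧸ W4c6puncthilbintro.liftIdeal I φ) ∧
          Ideal.map (TrivSqZeroExt.fstHom A R R) (W4c6puncthilbintro.liftIdeal I φ) = I) ∧
      Function.Injective (W4c6puncthilbintro.liftIdeal I) ∧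
      ∀ J : Ideal (DualNumber R), Module.Flat (DualNumber A) (DualNumber R ⧸ J) →
        Ideal.map (TrivSqZeroExt.fstHom A R R) J = I →
          ∃ φ : I →ₗ[R] R ⧸ I, J = W4c6puncthilbintro.liftIdeal I φ := by
  exact ⟨part1 A I, part2 I, part3 A I⟩

end Groth.Agent.S19452
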