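import Groth.Statements.S19453
import Mathlib
import Groth.Agent.Lib.Helper12.CurvilinearA

set_option autoImplicit false
universe u
open CAlg

namespace Groth.Agent.S19453

/-- Converse direction: let k be a field, A a regular local k-algebra of Krull dimension 2 with maximal
ideal M and residue field k, and I an ideal with A/I of finite dimension n ≥ 1 over k. If some
element of I does not lie in M^2, then A/I is isomorphic as a k-algebra to k[x]/(x^n): a cluster
lying on a smooth curve germ of a smooth surface is curvilinear, with coordinate ring generated by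
one element. -/
theorem result (k : Type u) [Field k]
    (A : Type u) [CommRing A] [Algebra k A] [IsRegularLocalRing A] (hdim : ringKrullDim A = 2)
    (hres : Function.Surjective (algebraMap k (IsLocalRing.ResidueField A)))
    (I : Ideal A) [Module.Finite k (A ⧸ I)] (n : ℕ) (hn : Module.finrank k (A ⧸ I) = n) (h1 : 1 ≤ n)
    (g : A) (hgI : g ∈ I) (hg : g ∉ IsLocalRing.maximalIdeal A ^ 2) :
    Nonempty ((A ⧸ I) ≃ₐ[k] (Polynomial k ⧸ Ideal.span {(Polynomial.X : Polynomial k) ^ n})) := by
  have hI : I ≠ ⊤ := by
    rintro rfl
    have : Subsingleton (A ⧸ (⊤ : Ideal A)) := Ideal.Quotient.subsingleton_iff.2 rfl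
    rw [Module.finrank_zero_of_subsingleton] at hn
    omega
  have hgm : g ∈ IsLocalRing.maximalIdeal A := IsLocalRing.le_maximalIdeal hI hgI
  obtain ⟨t, htm, hm⟩ := Groth.Agent.Lib.Helper12.CurvilinearA.exists_generators hdim hgm hg
  exact Groth.Agent.Lib.Helper12.CurvilinearA.nonempty_algEquiv hres I hgI htm hm n hn h1

end Groth.Agent.S19453
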