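import Groth.Statements.S9720
import Groth.Agent.S0658
import Groth.Agent.S2758
import Mathlib
set_option backward.isDefEq.respectTransparency.types false

set_option autoImplicit false
universe u
open CategoryTheory CategoryTheory.Limits AlgebraicGeometry
open Mor

namespace Groth.Agent.S9720


/-- Let f : X ⟶ S be locally of finite type such that for every point s of S the fibre X_s is isomorphic
over κ(s) to a coproduct of schemes Spec K_i, each K_i a finite separable extension field of κ(s).
In that case f is formally unramified (so unramified, being locally of finite type). -/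
theorem result {X S : Scheme.{u}} (f : X ⟶ S) [LocallyOfFiniteType f]
    (H : ∀ s : S, ∃ (ι : Type u) (K : ι → Type u) (_ : ∀ i, Field (K i))
      (_ : ∀ i, Algebra (S.residueField s) (K i)),
      (∀ i, FiniteDimensional (S.residueField s) (K i) ∧ Algebra.IsSeparable (S.residueField s) (K i)) ∧
        ∃ e : f.fiber s ≅ ∐ (fun i => Spec (CommRingCat.of (K i))),
          e.hom ≫ Sigma.desc (fun i => Spec.map (CommRingCat.ofHom (algebraMap (S.residueField s) (K i)))) =
            f.fiberToSpecResidueField s) :
    FormallyUnramified f := by
  have key : ∀ x : X, ∃ V : X.Opens, x ∈ V ∧ FormallyUnramified (V.ι ≫ f) := by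
    intro x
    obtain ⟨ι, K, _, _, hK, e, he⟩ := H (f x)
    have h1 : Etale (f.fiberToSpecResidueField (f x)) := by
      rw [← he]
      have : Etale (Sigma.desc (fun i => Spec.map (CommRingCat.ofHom
          (algebraMap (S.residueField (f x)) (K i))))) := by
        rw [IsZariskiLocalAtSource.iff_of_openCover (P := @Etale) (sigmaOpenCover _)]
        intro (i : ι)
        show Etale (Sigma.ι _ i ≫ Sigma.desc _)
        rw [Sigma.ι_desc]
        have := (hK i).1
        have := (hK i).2
        exact Groth.Agent.S0658.etale_of_finite_separable (S.residueField (f x)) (K i)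
      infer_instance
    have h2 : ((pullback.snd f (S.fromSpecResidueField (f x))).stalkMap (f.asFiber x)).hom.FormallyUnramified :=
      FormallyUnramified.stalkMap (f.fiberToSpecResidueField (f x)) (f.asFiber x)
    have h3 := Groth.Agent.Lib.Helper17.UnramPullback.stalkMap_formallyUnramified_of_pullback
      f (S.fromSpecResidueField (f x)) (f.asFiber x) h2
    have h4 : pullback.fst f (S.fromSpecResidueField (f x)) (f.asFiber x) = x := f.fiberι_asFiber x
    rw [h4] at h3
    exact Groth.Agent.S2807.exists_formallyUnramified_nhd f x h3
  choose V hxV hV using key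
  rw [IsZariskiLocalAtSource.iff_of_iSup_eq_top (P := @FormallyUnramified) V]
  · exact hV
  · rw [eq_top_iff]
    intro x _
    exact TopologicalSpace.Opens.mem_iSup.mpr ⟨x, hxV x⟩

end Groth.Agent.S9720
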