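import Groth.Statements.S19465
import Groth.Agent.S9720

set_option autoImplicit false
universe u
open CategoryTheory CategoryTheory.Limits MonoidalCategory CartesianMonoidalCategory MonObj GrpObj AlgebraicGeometry
open AlgGrp

namespace Groth.Agent.S19465

instance : MorphismProperty.HasOfPostcompProperty
    @IsOpenImmersion (@LocallyOfFiniteType ⊓ @FormallyUnramified) := by
  rw [MorphismProperty.hasOfPostcompProperty_iff_le_diagonal]
  intro X Y f ⟨hft, hfu⟩
  exact inferInstanceAs <| IsOpenImmersion (pullback.diagonal f)

/-- A locally finite type morphism with a section all of whose fibres are trivial is an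
isomorphism. -/
theorem isIso_of_section_of_fibres {X S : Scheme.{u}} (f : X ⟶ S) [LocallyOfFiniteType f]
    (e : S ⟶ X) (he : e ≫ f = 𝟙 S) (H : ∀ s : S, IsIso (f.fiberToSpecResidueField s)) :
    IsIso f := by
  -- `f` is unramified
  have hunr : FormallyUnramified f := by
    refine Groth.Agent.S9720.result f fun s => ?_
    haveI := H s
    refine ⟨PUnit.{u + 1}, fun _ => S.residueField s, fun _ => inferInstance,
      fun _ => Algebra.id _, fun _ => ⟨inferInstance, inferInstance⟩, ?_⟩
    refine ⟨asIso (f.fiberToSpecResidueField s) ≪≫
      (coproductUniqueIso (fun _ : PUnit.{u + 1} =>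
        Spec (CommRingCat.of (S.residueField s)))).symm, ?_⟩
    simp only [Iso.trans_hom, asIso_hom, Iso.symm_hom, Category.assoc]
    rw [coproductUniqueIso_inv, Sigma.ι_desc]
    have : CommRingCat.ofHom (algebraMap (S.residueField s) (S.residueField s)) = 𝟙 _ := rfl
    rw [this, Spec.map_id]
    exact Category.comp_id _
  -- the section is an open immersion
  have hopen : IsOpenImmersion e :=
    MorphismProperty.of_postcomp (W := @IsOpenImmersion)
      (W' := @LocallyOfFiniteType ⊓ @FormallyUnramified) e f ⟨inferInstance, hunr⟩
      (by rw [he]; infer_instance)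
  -- the section is surjective
  have hsurj : Function.Surjective e.base := by
    intro x
    refine ⟨f.base x, ?_⟩
    haveI := H (f.base x)
    have h1 : x ∈ Set.range (f.fiberι (f.base x)) := by rw [f.range_fiberι]; rfl
    have h2 : e.base (f.base x) ∈ Set.range (f.fiberι (f.base x)) := by
      rw [f.range_fiberι]
      change (e ≫ f).base (f.base x) = f.base x
      rw [he]; rfl
    obtain ⟨a, ha⟩ := h1
    obtain ⟨b, hb⟩ := h2
    have hinj : Function.Injective (f.fiberToSpecResidueField (f.base x)).base :=
      (ConcreteCategory.bijective_of_isIso (f.fiberToSpecResidueField (f.base x)).base).1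
    have : b = a := hinj (Subsingleton.elim _ _)
    rw [← hb, this, ha]
  haveI : IsIso e := by
    haveI := hopen
    apply isIso_of_isOpenImmersion_of_opensRange_eq_top
    ext x
    simpa using hsurj x
  have : IsIso (e ≫ f) := by rw [he]; infer_instance
  exact IsIso.of_isIso_comp_left e f

/-- Let S be a scheme and G an S-group scheme whose structure morphism G → S is locally of finite type.
Then G → S is an isomorphism (G is the trivial group scheme over S) if and only if every fibre G_s →
Spec κ(s), s ∈ S, is an isomorphism. -/
theorem result (S : Scheme.{u}) (G : Over S)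
    [GrpObj G] [LocallyOfFiniteType G.hom] :
    IsIso G.hom ↔ ∀ s : S, IsIso (G.hom.fiberToSpecResidueField s) := by
  constructor
  · intro h s
    change IsIso (pullback.snd G.hom (S.fromSpecResidueField s))
    infer_instance
  · intro H
    exact isIso_of_section_of_fibres G.hom η[G].left (Over.w η[G]) H

end Groth.Agent.S19465
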