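import Groth.Statements.S19475
import Mathlib.Tactic
import Mathlib.RingTheory.AdicCompletion.Completeness

set_option autoImplicit false
universe u
open CAlg

namespace Groth.Agent.S19475

open IsLocalRing TensorProduct

section
variable (A B : Type u) [CommRing A] [CommRing B]
    [Algebra A B] [IsNoetherianRing A] (q : Ideal B) [q.IsPrime]

local notation "p" => Ideal.under A q
local notation "Ap" => Localization.AtPrime (Ideal.under A q)
local notation "Bq" => Localization.AtPrime q
local notation "Ahat" => AdicCompletion (maximalIdeal (Localization.AtPrime (Ideal.under A q)))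
    (Localization.AtPrime (Ideal.under A q))

/-- the local homomorphism `A_p → B_q` -/
noncomputable def φ : Ap →+* Bq := Localization.localRingHom (Ideal.under A q) q (algebraMap A B) rfl

lemma φ_comp : (φ A B q).comp (algebraMap A Ap) = algebraMap A Bq := by
  ext a
  simp only [φ, RingHom.comp_apply]
  rw [Localization.localRingHom_to_map]
  exact (IsScalarTower.algebraMap_apply A B Bq a).symm


instance : IsLocalHom (φ A B q) := by
  unfold φ; infer_instance

/-- the map `Â_p → κ(q)` -/
noncomputable def g : Ahat →ₐ[A] ResidueField Bq where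
  toRingHom := (ResidueField.map (φ A B q)).comp
    (AdicCompletion.evalOneₐ (maximalIdeal Ap)).toRingHom
  commutes' a := by
    simp only [RingHom.toMonoidHom_eq_coe, OneHom.toFun_eq_coe, MonoidHom.toOneHom_coe,
      MonoidHom.coe_coe, RingHom.comp_apply]
    rw [IsScalarTower.algebraMap_apply A Ap Ahat a]
    change (ResidueField.map (φ A B q)) ((AdicCompletion.evalOneₐ (maximalIdeal Ap))
      (algebraMap Ap Ahat (algebraMap A Ap a))) = _
    rw [AlgHom.commutes]
    change (ResidueField.map (φ A B q)) (residue Ap (algebraMap A Ap a)) = _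
    rw [ResidueField.map_residue]
    have := congrArg (fun f => f a) (φ_comp A B q)
    simp only [RingHom.comp_apply] at this
    rw [this]
    rfl

noncomputable def ψ : Bq ⊗[A] Ahat →ₐ[A] ResidueField Bq :=
  Algebra.TensorProduct.productMap (IsScalarTower.toAlgHom A Bq (ResidueField Bq)) (g A B q)


local notation "incL" => (Algebra.TensorProduct.includeLeftRingHom :
    Localization.AtPrime q →+* Localization.AtPrime q ⊗[A]
      AdicCompletion (maximalIdeal (Localization.AtPrime (Ideal.under A q)))
        (Localization.AtPrime (Ideal.under A q)))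
local notation "J" => Ideal.map incL (maximalIdeal (Localization.AtPrime q))

lemma J_le_ker : J ≤ RingHom.ker (ψ A B q).toRingHom := by
  rw [Ideal.map_le_iff_le_comap]
  intro b hb
  rw [Ideal.mem_comap, RingHom.mem_ker]
  change (ψ A B q) (b ⊗ₜ 1) = 0
  rw [ψ, Algebra.TensorProduct.productMap_apply_tmul, map_one, mul_one]
  exact (residue_eq_zero_iff b).mpr hb

noncomputable local instance algApBq : Algebra Ap Bq := (φ A B q).toAlgebra
local instance towerApBq : IsScalarTower A Ap Bq :=
  IsScalarTower.of_algebraMap_eq' (φ_comp A B q).symm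

lemma move (a' : Ap) (b : Bq) (y : Ahat) :
    (φ A B q a' * b) ⊗ₜ[A] y = b ⊗ₜ[A] (algebraMap Ap Ahat a' * y) := by
  have := TensorProduct.smul_tmul (R := A) a' b y
  rw [Algebra.smul_def, Algebra.smul_def] at this
  exact this

lemma incR_mem (y : Ahat) (hy : y ∈ (maximalIdeal Ap).map (algebraMap Ap Ahat)) (b : Bq) :
    b ⊗ₜ[A] y ∈ J := by
  have key : (maximalIdeal Ap).map (algebraMap Ap Ahat) ≤
      (J).comap (Algebra.TensorProduct.includeRight (R := A) (A := Bq) (B := Ahat)).toRingHom := by
    rw [Ideal.map_le_iff_le_comap]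
    intro a' ha'
    rw [Ideal.mem_comap, Ideal.mem_comap]
    change (1 : Bq) ⊗ₜ[A] (algebraMap Ap Ahat a') ∈ _
    have h1 := move A B q a' 1 1
    rw [mul_one, mul_one] at h1
    rw [← h1]
    apply Ideal.mem_map_of_mem incL
    have hl : IsLocalHom (φ A B q) := inferInstance
    have h02 := ((IsLocalRing.local_hom_TFAE (φ A B q)).out 0 2).mp hl
    exact h02 (Ideal.mem_map_of_mem _ ha')
  have h2 := key hy
  rw [Ideal.mem_comap] at h2
  have : b ⊗ₜ[A] y = (b ⊗ₜ[A] (1 : Ahat)) * ((1 : Bq) ⊗ₜ[A] y) := by
    rw [Algebra.TensorProduct.tmul_mul_tmul, mul_one, one_mul]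
  rw [this]
  exact Ideal.mul_mem_left _ _ h2


lemma repr (t : Bq ⊗[A] Ahat) : ∃ b : Bq, t - b ⊗ₜ[A] (1 : Ahat) ∈ J := by
  induction t using TensorProduct.induction_on with
  | zero => exact ⟨0, by simp⟩
  | tmul b x =>
    obtain ⟨a', ha'⟩ := Ideal.Quotient.mk_surjective
      (AdicCompletion.evalOneₐ (maximalIdeal Ap) x)
    have hy : x - algebraMap Ap Ahat a' ∈ (maximalIdeal Ap).map (algebraMap Ap Ahat) := by
      rw [← AdicCompletion.ker_evalOneₐ_eq_map _ (maximalIdeal Ap).fg_of_isNoetherianRing,
        RingHom.mem_ker]
      change (AdicCompletion.evalOneₐ (maximalIdeal Ap)) (x - algebraMap Ap Ahat a') = 0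
      rw [map_sub, AlgHom.commutes, ← ha']
      exact sub_self _
    refine ⟨φ A B q a' * b, ?_⟩
    have h1 := move A B q a' b 1
    rw [mul_one] at h1
    rw [h1, ← TensorProduct.tmul_sub]
    exact incR_mem A B q _ hy b
  | add t1 t2 h1 h2 =>
    obtain ⟨b1, hb1⟩ := h1
    obtain ⟨b2, hb2⟩ := h2
    refine ⟨b1 + b2, ?_⟩
    have : t1 + t2 - (b1 + b2) ⊗ₜ[A] (1 : Ahat) = (t1 - b1 ⊗ₜ[A] (1 : Ahat)) + (t2 - b2 ⊗ₜ[A] (1 : Ahat)) := by
      rw [TensorProduct.add_tmul]; ring
    rw [this]
    exact Ideal.add_mem _ hb1 hb2

end

open IsLocalRing in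


open IsLocalRing in
/-- Let A be a Noetherian ring, B an A-algebra, q a prime ideal of B and p its preimage in A; let A_p
and B_q be the local rings at p and q and Â_p the completion of A_p at its maximal ideal pA_p. Then
the ideal generated by qB_q in B_q ⊗ Â_p is maximal. (The tensor product is formed over A; since A_p
is a localization of A it agrees with the tensor product over A_p used in the published statement.) -/
theorem result (A B : Type u) [CommRing A] [CommRing B]
    [Algebra A B] [IsNoetherianRing A] (q : Ideal B) [q.IsPrime] :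
    ((maximalIdeal (Localization.AtPrime q)).map
      (Algebra.TensorProduct.includeLeftRingHom :
        Localization.AtPrime q →+* TensorProduct A (Localization.AtPrime q)
          (AdicCompletion (maximalIdeal (Localization.AtPrime (q.under A)))
            (Localization.AtPrime (q.under A))))).IsMaximal := by
  rw [Ideal.isMaximal_iff]
  refine ⟨?_, ?_⟩
  · intro h1
    have := J_le_ker A B q h1
    rw [RingHom.mem_ker] at this
    change (ψ A B q) 1 = 0 at this
    rw [map_one] at this
    exact one_ne_zero this
  · intro J' x hJ' hx hxJ'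
    obtain ⟨b, hb⟩ := repr A B q x
    have hbu : IsUnit b := by
      by_contra hnu
      have hbm : b ∈ maximalIdeal (Localization.AtPrime q) := (mem_maximalIdeal b).mpr hnu
      have : b ⊗ₜ[A] (1 : AdicCompletion (maximalIdeal (Localization.AtPrime (q.under A)))
            (Localization.AtPrime (q.under A))) ∈ Ideal.map (Algebra.TensorProduct.includeLeftRingHom :
        Localization.AtPrime q →+* TensorProduct A (Localization.AtPrime q)
          (AdicCompletion (maximalIdeal (Localization.AtPrime (q.under A)))
            (Localization.AtPrime (q.under A)))) (maximalIdeal (Localization.AtPrime q)) :=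
        Ideal.mem_map_of_mem _ hbm
      apply hx
      have h3 := Ideal.add_mem _ hb this
      rwa [sub_add_cancel] at h3
    have hbJ' : b ⊗ₜ[A] (1 : AdicCompletion (maximalIdeal (Localization.AtPrime (q.under A)))
            (Localization.AtPrime (q.under A))) ∈ J' := by
      have h3 := Ideal.sub_mem _ hxJ' (hJ' hb)
      rwa [sub_sub_cancel] at h3
    have hu : IsUnit (b ⊗ₜ[A] (1 : AdicCompletion (maximalIdeal (Localization.AtPrime (q.under A)))
            (Localization.AtPrime (q.under A)))) :=
      hbu.map (Algebra.TensorProduct.includeLeftRingHom :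
        Localization.AtPrime q →+* TensorProduct A (Localization.AtPrime q)
          (AdicCompletion (maximalIdeal (Localization.AtPrime (q.under A)))
            (Localization.AtPrime (q.under A))))
    exact (Ideal.eq_top_iff_one _).mp (Ideal.eq_top_of_isUnit_mem _ hbJ' hu)

end Groth.Agent.S19475
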