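import Groth.Statements.S19485
import Mathlib
-- import your own Groth.Agent.* helpers here

set_option autoImplicit false
universe u
open Crimp

namespace Groth.Agent.S19485

theorem order_expand_cases {k : Type u} [Field k] (α : PowerSeries k) :
    PowerSeries.order (PowerSeries.expand 3 three_ne_zero α) = ⊤ ∨
      ∃ a : ℕ, PowerSeries.order (PowerSeries.expand 3 three_ne_zero α) = ((3 * a : ℕ) : ℕ∞) := by
  rcases eq_or_ne α 0 with h | h
  · left; rw [h, map_zero, PowerSeries.order_zero]
  · right
    refine ⟨α.order.toNat, ?_⟩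
    rw [PowerSeries.order_expand, ← PowerSeries.coe_toNat_order h]
    simp

theorem key {k : Type u} [Field k] (m n : ℕ) (hm : ¬ 3 ∣ m) (hmn : 2 * m < n)
    (G α β H : PowerSeries k) (hG : PowerSeries.order G = 0)
    (h : (PowerSeries.X ^ m * G) * (PowerSeries.X ^ m * G) =
      PowerSeries.expand 3 three_ne_zero α +
      PowerSeries.expand 3 three_ne_zero β * (PowerSeries.X ^ m * G) + H * PowerSeries.X ^ n) :
    False := by
  have hU : PowerSeries.order (PowerSeries.X ^ m * G) = (m : ℕ∞) := by
    rw [PowerSeries.order_mul, PowerSeries.order_X_pow, hG, add_zero]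
  -- order of the left side minus the tail
  have hQ : PowerSeries.order (PowerSeries.expand 3 three_ne_zero α +
      PowerSeries.expand 3 three_ne_zero β * (PowerSeries.X ^ m * G)) = ((2 * m : ℕ) : ℕ∞) := by
    have e : PowerSeries.expand 3 three_ne_zero α +
      PowerSeries.expand 3 three_ne_zero β * (PowerSeries.X ^ m * G) =
      (PowerSeries.X ^ m * G) * (PowerSeries.X ^ m * G) + -(H * PowerSeries.X ^ n) := by
      rw [h]; ring
    have o1 : PowerSeries.order ((PowerSeries.X ^ m * G) * (PowerSeries.X ^ m * G)) =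
        ((2 * m : ℕ) : ℕ∞) := by
      rw [PowerSeries.order_mul, hU]; push_cast; ring
    have o2 : ((2 * m : ℕ) : ℕ∞) < PowerSeries.order (-(H * PowerSeries.X ^ n)) := by
      rw [PowerSeries.order_neg, PowerSeries.order_mul, PowerSeries.order_X_pow]
      calc ((2 * m : ℕ) : ℕ∞) < (n : ℕ∞) := by exact_mod_cast hmn
        _ ≤ H.order + n := le_add_self
    rw [e, PowerSeries.order_add_of_order_ne _ _ (by rw [o1]; exact o2.ne), o1]
    exact min_eq_left o2.le
  have oB : PowerSeries.order (PowerSeries.expand 3 three_ne_zero β * (PowerSeries.X ^ m * G)) = ⊤ ∨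
      ∃ b : ℕ, PowerSeries.order (PowerSeries.expand 3 three_ne_zero β * (PowerSeries.X ^ m * G))
        = ((3 * b + m : ℕ) : ℕ∞) := by
    rcases order_expand_cases β with hb | ⟨b, hb⟩
    · left; rw [PowerSeries.order_mul, hb, top_add]
    · right; exact ⟨b, by rw [PowerSeries.order_mul, hb, hU]; push_cast; rfl⟩
  rcases order_expand_cases α with ha | ⟨a, ha⟩ <;> rcases oB with hb | ⟨b, hb⟩
  · have := PowerSeries.min_order_le_order_add (PowerSeries.expand 3 three_ne_zero α)
      (PowerSeries.expand 3 three_ne_zero β * (PowerSeries.X ^ m * G))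
    rw [ha, hb, hQ, min_self, top_le_iff] at this
    exact ENat.natCast_ne_top _ this
  · rw [PowerSeries.order_add_of_order_ne _ _ (by rw [ha, hb]; exact (ENat.natCast_ne_top _).symm),
      ha, hb, min_eq_right le_top] at hQ
    have := Nat.cast_injective (R := ℕ∞) hQ
    omega
  · rw [PowerSeries.order_add_of_order_ne _ _ (by rw [ha, hb]; exact (ENat.natCast_ne_top _)),
      ha, hb, min_eq_left le_top] at hQ
    have := Nat.cast_injective (R := ℕ∞) hQ
    omega
  · have hne : ((3 * a : ℕ) : ℕ∞) ≠ ((3 * b + m : ℕ) : ℕ∞) := by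
      intro e
      have := Nat.cast_injective (R := ℕ∞) e
      omega
    rw [PowerSeries.order_add_of_order_ne _ _ (by rw [ha, hb]; exact hne), ha, hb] at hQ
    rcases le_total (3 * a) (3 * b + m) with h1 | h1
    · rw [min_eq_left (by exact_mod_cast h1)] at hQ
      have := Nat.cast_injective (R := ℕ∞) hQ
      omega
    · rw [min_eq_right (by exact_mod_cast h1)] at hQ
      have := Nat.cast_injective (R := ℕ∞) hQ
      omega

/-- The criterion for closedness under multiplication on which the description of the stratum rests.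
Over R = k⟦t⟧ with k an algebraically closed field of characteristic zero, let S̃ = k⟦x⟧ regarded as
an R-algebra through t ↦ x ^ 3, that is S̃ = R[x] / (x ^ 3 - t). Let m, n be natural numbers with m
not divisible by 3, and let g be a power series with nonzero constant term. Then the R-submodule of
S̃ spanned by 1 and x ^ m g together with the ideal x ^ n S̃ is closed under multiplication if and
only if n ≤ 2m. (The published proposition goes on to describe the stratum of crimps with these
invariants as irreducible of dimension ⌊(n - m)/3⌋ with a normal form for g; only the closedness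
criterion is stated here.) -/
theorem result {k : Type u} [Field k] [IsAlgClosed k] [CharZero k]
    (m n : ℕ) (hm : ¬ 3 ∣ m) (x g : W4c1hurwitzcpt.RootDisk 3 k)
    (hx : W4c1hurwitzcpt.RootDisk.val x = PowerSeries.X) (hg : PowerSeries.order (W4c1hurwitzcpt.RootDisk.val g) = 0)
    (M : Submodule (PowerSeries k) (W4c1hurwitzcpt.RootDisk 3 k))
    (hM : M = Submodule.span (PowerSeries k) {1, x ^ m * g} ⊔
      (Ideal.span {x ^ n} : Ideal (W4c1hurwitzcpt.RootDisk 3 k)).restrictScalars (PowerSeries k)) :
    (∀ a ∈ M, ∀ b ∈ M, a * b ∈ M) ↔ n ≤ 2 * m := by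
  subst hM
  constructor
  · intro hclosed
    by_contra hlt
    rw [not_le] at hlt
    have ha : (x ^ m * g : W4c1hurwitzcpt.RootDisk 3 k) ∈
        Submodule.span (PowerSeries k) {1, x ^ m * g} ⊔
        (Ideal.span {x ^ n} : Ideal (W4c1hurwitzcpt.RootDisk 3 k)).restrictScalars
          (PowerSeries k) :=
      Submodule.mem_sup_left (Submodule.subset_span (by simp))
    have hab := hclosed _ ha _ ha
    rw [Submodule.mem_sup] at hab
    obtain ⟨y, hy, z, hz, hyz⟩ := hab
    rw [Submodule.mem_span_pair] at hy
    obtain ⟨α, β, rfl⟩ := hy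
    rw [Submodule.restrictScalars_mem, Ideal.mem_span_singleton'] at hz
    obtain ⟨H, hH⟩ := hz
    rw [← hH, Algebra.smul_def, Algebra.smul_def, mul_one] at hyz
    have e3 := congrArg W4c1hurwitzcpt.RootDisk.val hyz
    simp only [map_add, map_mul, map_pow, hx] at e3
    exact key m n hm hlt _ α β (W4c1hurwitzcpt.RootDisk.val H) hg e3.symm
  · intro hn a ha b hb
    rw [Submodule.mem_sup] at ha hb ⊢
    obtain ⟨y, hy, z, hz, rfl⟩ := ha
    obtain ⟨y', hy', z', hz', rfl⟩ := hb
    rw [Submodule.mem_span_pair] at hy hy'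
    obtain ⟨α, β, rfl⟩ := hy
    obtain ⟨α', β', rfl⟩ := hy'
    rw [Submodule.restrictScalars_mem, Ideal.mem_span_singleton'] at hz hz'
    obtain ⟨s, rfl⟩ := hz
    obtain ⟨s', rfl⟩ := hz'
    have huu : (x ^ m * g) * (x ^ m * g) = (x ^ (2 * m - n) * g ^ 2) * x ^ n := by
      have : x ^ (2 * m) = x ^ (2 * m - n) * x ^ n := by
        rw [← pow_add]; congr 1; omega
      calc (x ^ m * g) * (x ^ m * g) = x ^ (2 * m) * g ^ 2 := by ring
        _ = _ := by rw [this]; ring
    refine ⟨(α * α') • (1 : W4c1hurwitzcpt.RootDisk 3 k) + (α * β' + α' * β) • (x ^ m * g),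
      Submodule.mem_span_pair.mpr ⟨_, _, rfl⟩,
      (algebraMap (PowerSeries k) (W4c1hurwitzcpt.RootDisk 3 k) (β * β') * (x ^ (2 * m - n) * g ^ 2)
        + s * (α' • (1 : W4c1hurwitzcpt.RootDisk 3 k) + β' • (x ^ m * g) + s' * x ^ n)
        + s' * (α • (1 : W4c1hurwitzcpt.RootDisk 3 k) + β • (x ^ m * g))) * x ^ n, ?_, ?_⟩
    · rw [Submodule.restrictScalars_mem, Ideal.mem_span_singleton']
      exact ⟨_, rfl⟩
    · simp only [Algebra.smul_def, map_mul, map_add, mul_one]
      linear_combination -(algebraMap (PowerSeries k) (W4c1hurwitzcpt.RootDisk 3 k) β *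
        algebraMap (PowerSeries k) (W4c1hurwitzcpt.RootDisk 3 k) β') * huu

end Groth.Agent.S19485
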