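import Groth.Statements.S19486
import Mathlib
-- import your own Groth.Agent.* helpers here

set_option autoImplicit false
universe u
open Crimp

namespace Groth.Agent.S19486

theorem key {k : Type u} [Field k] (m n : ℕ) (hm : Odd m) (hmn : 2 * m < n)
    (G β H : PowerSeries k) (hG : PowerSeries.constantCoeff G ≠ 0)
    (h : (PowerSeries.X ^ m * G) * (PowerSeries.X ^ m * G) =
      PowerSeries.expand 2 two_ne_zero β * (PowerSeries.X ^ m * G) + H * PowerSeries.X ^ n) :
    False := by
  obtain ⟨r, rfl⟩ : ∃ r, n = m + r := ⟨n - m, by omega⟩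
  have hr : m < r := by omega
  have h1 : PowerSeries.X ^ m * (PowerSeries.X ^ m * G * G) =
      PowerSeries.X ^ m * (PowerSeries.expand 2 two_ne_zero β * G + H * PowerSeries.X ^ r) := by
    rw [pow_add] at h; linear_combination h
  have h2 := PowerSeries.X_pow_mul_cancel h1
  have hGi := PowerSeries.mul_inv_cancel G hG
  have h3 : PowerSeries.X ^ m * G =
      PowerSeries.expand 2 two_ne_zero β + H * G⁻¹ * PowerSeries.X ^ r := by
    calc PowerSeries.X ^ m * G = PowerSeries.X ^ m * G * G * G⁻¹ := by
          rw [mul_assoc _ G G⁻¹, hGi, mul_one]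
      _ = (PowerSeries.expand 2 two_ne_zero β * G + H * PowerSeries.X ^ r) * G⁻¹ := by rw [h2]
      _ = PowerSeries.expand 2 two_ne_zero β + H * G⁻¹ * PowerSeries.X ^ r := by
          linear_combination (PowerSeries.expand 2 two_ne_zero β) * hGi
  have h4 := congrArg (PowerSeries.coeff m) h3
  rw [map_add, PowerSeries.coeff_expand_of_not_dvd _ _ _ (by
      intro hd; exact (Nat.not_even_iff_odd.mpr hm) (even_iff_two_dvd.mpr hd)),
    PowerSeries.coeff_mul_X_pow', if_neg (by omega), PowerSeries.coeff_X_pow_mul',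
    if_pos le_rfl, Nat.sub_self, PowerSeries.coeff_zero_eq_constantCoeff] at h4
  exact hG (by simpa using h4)

/-- The emptiness of the stratum rests on the following computation. Over R = k⟦t⟧ with k an
algebraically closed field of characteristic zero, let S̃ = S̃₁ × R where S̃₁ = k⟦x⟧ is regarded as
an R-algebra through t ↦ x ^ 2, that is S̃₁ = R[x] / (x ^ 2 - t), with R embedded diagonally in the
product. Let m be odd, n > 2m, and let g be a power series with nonzero constant term. Then the
R-submodule of S̃ spanned by 1 = (1, 1) and (x ^ m g, 0) together with the ideal x ^ n S̃₁ × 0 is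
not closed under multiplication. (The published item concludes that the corresponding stratum of
crimps is empty; only this computation is stated here, with the ideal read as x ^ n S̃₁ × 0.) -/
theorem result {k : Type u} [Field k] [IsAlgClosed k] [CharZero k]
    (m n : ℕ) (hm : Odd m) (hmn : 2 * m < n) (x g : W4c1hurwitzcpt.RootDisk 2 k)
    (hx : W4c1hurwitzcpt.RootDisk.val x = PowerSeries.X) (hg : PowerSeries.order (W4c1hurwitzcpt.RootDisk.val g) = 0)
    (M : Submodule (PowerSeries k) (W4c1hurwitzcpt.RootDisk 2 k × PowerSeries k))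
    (hM : M = Submodule.span (PowerSeries k) {(1 : W4c1hurwitzcpt.RootDisk 2 k × PowerSeries k), (x ^ m * g, 0)} ⊔
      ((Ideal.span {x ^ n} : Ideal (W4c1hurwitzcpt.RootDisk 2 k)).restrictScalars (PowerSeries k)).prod ⊥) :
    ∃ a ∈ M, ∃ b ∈ M, a * b ∉ M := by
  subst hM
  have ha : ((x ^ m * g, 0) : W4c1hurwitzcpt.RootDisk 2 k × PowerSeries k) ∈
      Submodule.span (PowerSeries k)
        {(1 : W4c1hurwitzcpt.RootDisk 2 k × PowerSeries k), (x ^ m * g, 0)} ⊔
      ((Ideal.span {x ^ n} : Ideal (W4c1hurwitzcpt.RootDisk 2 k)).restrictScalars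
        (PowerSeries k)).prod ⊥ :=
    Submodule.mem_sup_left (Submodule.subset_span (by simp))
  refine ⟨_, ha, _, ha, ?_⟩
  intro hab
  rw [Submodule.mem_sup] at hab
  obtain ⟨y, hy, z, hz, hyz⟩ := hab
  rw [Submodule.mem_span_pair] at hy
  obtain ⟨α, β, rfl⟩ := hy
  rw [Submodule.mem_prod] at hz
  obtain ⟨hz1, hz2⟩ := hz
  rw [Submodule.restrictScalars_mem, Ideal.mem_span_singleton'] at hz1
  obtain ⟨H, hH⟩ := hz1
  rw [Submodule.mem_bot] at hz2
  have e1 := congrArg Prod.fst hyz
  have e2 := congrArg Prod.snd hyz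
  simp only [Prod.fst_add, Prod.snd_add, Prod.smul_fst, Prod.smul_snd, Prod.fst_one,
    Prod.snd_one, Prod.fst_mul, Prod.snd_mul, hz2, add_zero, mul_zero,
    smul_eq_mul, mul_one] at e1 e2
  subst e2
  rw [← hH, Algebra.smul_def, Algebra.smul_def, map_zero, zero_mul, zero_add] at e1
  have e3 := congrArg W4c1hurwitzcpt.RootDisk.val e1
  simp only [map_add, map_mul, map_pow, hx] at e3
  have hG : PowerSeries.constantCoeff (W4c1hurwitzcpt.RootDisk.val g) ≠ 0 := by
    intro h0
    exact (PowerSeries.order_ne_zero_iff_constCoeff_eq_zero.mpr h0) hg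
  exact key m n hm hmn _ β (W4c1hurwitzcpt.RootDisk.val H) hG e3.symm

end Groth.Agent.S19486
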