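import Groth.Statements.S19488
import Mathlib
set_option backward.isDefEq.respectTransparency.types false

set_option autoImplicit false
universe u
open CategoryTheory CategoryTheory.Limits AlgebraicGeometry
open W4c1frobunstiva

namespace Groth.Agent.S19488
open AlgebraicGeometry CategoryTheory CategoryTheory.Limits Opposite TopologicalSpace

/-- the direct image along a topological embedding is faithful -/
theorem pushforward_map_injective {S T : Scheme.{u}} (f : S ⟶ T) (hf : Topology.IsInducing f.base)
    {E E' : S.Modules} (α β : E ⟶ E')
    (h : (Scheme.Modules.pushforward f).map α = (Scheme.Modules.pushforward f).map β) : α = β := by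
  apply Scheme.Modules.hom_ext
  intro U
  obtain ⟨V, hV, hVU⟩ := hf.isOpen_iff.mp U.2
  let V' : T.Opens := ⟨V, hV⟩
  have hU : U = f ⁻¹ᵁ V' := by
    ext x
    exact (Set.ext_iff.mp hVU x).symm
  subst hU
  have := congrArg (fun γ => Scheme.Modules.Hom.app γ V') h
  exact this


/-- Fix a closed immersion of schemes f : S → T, an O_T-module G, an O_S-module E and an epimorphism ψ :
G → f_*E. Then the morphism ψ′ : f^*G → E that corresponds to ψ under the adjunction between
pullback and pushforward (it is the pullback f^*ψ followed by the counit f^*f_*E → E, an isomorphism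
for a closed immersion) is an epimorphism, and the canonical map f^*(ker ψ) → ker(f^*ψ) is an
epimorphism. (The published statement takes G and E locally free, which these two assertions do not
use.) -/
theorem result
    {S T : Scheme.{u}} (f : S ⟶ T) [IsClosedImmersion f] (G : T.Modules) (E : S.Modules)
    (ψ : G ⟶ (Scheme.Modules.pushforward f).obj E) [Epi ψ] :
    Epi (((Scheme.Modules.pullbackPushforwardAdjunction f).homEquiv G E).symm ψ) ∧
      Epi (kernelComparison ψ (Scheme.Modules.pullback f)) := by
  constructor
  · set ψ' := ((Scheme.Modules.pullbackPushforwardAdjunction f).homEquiv G E).symm ψ with hψ'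
    have h1 : (Scheme.Modules.pullbackPushforwardAdjunction f).unit.app G ≫
        (Scheme.Modules.pushforward f).map ψ' = ψ := by
      have := (Scheme.Modules.pullbackPushforwardAdjunction f).homEquiv_unit (X := G) (Y := E) (f := ψ')
      rw [← this, hψ', Equiv.apply_symm_apply]
    haveI : Epi ((Scheme.Modules.pushforward f).map ψ') := by
      have : Epi ((Scheme.Modules.pullbackPushforwardAdjunction f).unit.app G ≫
          (Scheme.Modules.pushforward f).map ψ') := by rw [h1]; infer_instance
      exact epi_of_epi ((Scheme.Modules.pullbackPushforwardAdjunction f).unit.app G) _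
    haveI : (Scheme.Modules.pushforward f).Faithful :=
      ⟨fun {_ _ α β} h => pushforward_map_injective f f.isClosedEmbedding.isInducing α β h⟩
    exact (Scheme.Modules.pushforward f).epi_of_epi_map inferInstance
  · let Sc : ShortComplex T.Modules := ShortComplex.mk (kernel.ι ψ) ψ (kernel.condition ψ)
    have hS : Sc.Exact := ShortComplex.exact_of_f_is_kernel _ (kernelIsKernel ψ)
    have hS' : (Sc.map (Scheme.Modules.pullback f)).Exact :=
      hS.map_of_epi_of_preservesCokernel (Scheme.Modules.pullback f) (inferInstanceAs (Epi ψ))
        inferInstance
    exact hS'.epi_kernelLift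

end Groth.Agent.S19488
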