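import Groth.Statements.S19502
import Mathlib
-- import your own Groth.Agent.* helpers here

set_option autoImplicit false
universe u
open W4c3ghconstell

namespace Groth.Agent.S19502

theorem tsum_ite_compl {ι : Type*} [DecidableEq ι] (f : ι → ℝ) (hf : Summable f) (D : Finset ι) :
    HasSum (fun i => if i ∈ D then (0 : ℝ) else f i) ((∑' i, f i) - ∑ i ∈ D, f i) := by
  have hfin_sum : HasSum (fun i => if i ∈ D then f i else 0) (∑ i ∈ D, f i) := by
    have : HasSum (fun i => if i ∈ D then f i else 0)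
        (∑ b ∈ D, (fun i => if i ∈ D then f i else 0) b) :=
      hasSum_sum_of_ne_finset_zero (f := fun i => if i ∈ D then f i else 0) (s := D)
        (fun b hb => if_neg hb)
    have e : (∑ b ∈ D, (fun i => if i ∈ D then f i else 0) b) = ∑ i ∈ D, f i :=
      Finset.sum_congr rfl (fun i hi => if_pos hi)
    rw [e] at this
    exact this
  have := hf.hasSum.sub hfin_sum
  have e2 : (fun b => f b - if b ∈ D then f b else 0) = (fun i => if i ∈ D then (0 : ℝ) else f i) := by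
    funext i
    split_ifs <;> simp
  rw [e2] at this
  exact this

/-- Let ι index the irreducible representations, θ : ι → ℚ a weight which is negative exactly on the
finite set D₋, h h' : ι → ℕ with h' ≤ h pointwise (the isotypic dimensions of an object and of a
sub-object) and Σ_i θ_i h_i summable. For a finite set D of indices put S_D = Σ_{i ∉ D} θ_i h_i, d =
#(D ∖ D₋) and θ̃_D = Σ_{i ∈ D} θ_i h'_i + (S_D / d) · Σ_{i ∈ D ∖ D₋} h'_i / h_i, the modified weight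
attached to the parameters chosen for D (a quotient by zero is read as zero). Then for finite sets
D₋ ⊆ D ⊆ D̃ contained in the locus θ ≠ 0: (first error term) θ̃_{D̃} − θ̃_D = Σ_{τ ∈ D̃ ∖ D} (θ_τ
h_τ + S_{D̃}/d̃) · (h'_τ/h_τ − (1/d) Σ_{σ ∈ D ∖ D₋} h'_σ/h_σ); (second error term) Σ_i θ_i h'_i −
θ̃_D = Σ_{τ ∉ D} θ_τ h_τ · (h'_τ/h_τ − (1/d) Σ_{σ ∈ D ∖ D₋} h'_σ/h_σ). -/
theorem result {ι : Type u} [DecidableEq ι]
    (θ : ι → ℚ) (h h' : ι → ℕ) (hle : ∀ i, h' i ≤ h i) (hfin : {i | θ i < 0}.Finite)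
    (hsum : Summable (fun i => (θ i : ℝ) * (h i : ℝ))) (D D' : Finset ι)
    (hDm : hfin.toFinset ⊆ D) (hDD' : D ⊆ D') (hsupp : ∀ i ∈ D', θ i ≠ 0) :
    (((∑ i ∈ D', (θ i : ℝ) * (h' i : ℝ)) + ((∑' i, if i ∈ D' then (0 : ℝ) else (θ i : ℝ) * (h i : ℝ)) / ((D' \ hfin.toFinset).card : ℝ)) * (∑ σ ∈ D' \ hfin.toFinset, ((h' σ : ℝ) / (h σ : ℝ)))) - ((∑ i ∈ D, (θ i : ℝ) * (h' i : ℝ)) + ((∑' i, if i ∈ D then (0 : ℝ) else (θ i : ℝ) * (h i : ℝ)) / ((D \ hfin.toFinset).card : ℝ)) * (∑ σ ∈ D \ hfin.toFinset, ((h' σ : ℝ) / (h σ : ℝ)))) =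
      ∑ τ ∈ D' \ D, ((θ τ : ℝ) * (h τ : ℝ) + (∑' i, if i ∈ D' then (0 : ℝ) else (θ i : ℝ) * (h i : ℝ)) / ((D' \ hfin.toFinset).card : ℝ)) *
        (((h' τ : ℝ) / (h τ : ℝ)) - (1 / ((D \ hfin.toFinset).card : ℝ)) * (∑ σ ∈ D \ hfin.toFinset, ((h' σ : ℝ) / (h σ : ℝ))))) ∧
    ((∑' i, (θ i : ℝ) * (h' i : ℝ)) - ((∑ i ∈ D, (θ i : ℝ) * (h' i : ℝ)) + ((∑' i, if i ∈ D then (0 : ℝ) else (θ i : ℝ) * (h i : ℝ)) / ((D \ hfin.toFinset).card : ℝ)) * (∑ σ ∈ D \ hfin.toFinset, ((h' σ : ℝ) / (h σ : ℝ)))) =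
      ∑' τ, if τ ∈ D then (0 : ℝ) else (θ τ : ℝ) * (h τ : ℝ) *
        (((h' τ : ℝ) / (h τ : ℝ)) - (1 / ((D \ hfin.toFinset).card : ℝ)) * (∑ σ ∈ D \ hfin.toFinset, ((h' σ : ℝ) / (h σ : ℝ))))) := by
  set f : ι → ℝ := fun i => (θ i : ℝ) * (h i : ℝ) with hf
  set g : ι → ℝ := fun i => (θ i : ℝ) * (h' i : ℝ) with hg
  set r : ι → ℝ := fun i => (h' i : ℝ) / (h i : ℝ) with hr
  have hgfr : ∀ i, g i = f i * r i := by
    intro i
    simp only [hf, hg, hr]
    by_cases h0 : h i = 0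
    · have : h' i = 0 := by have := hle i; omega
      simp [h0, this]
    · have : (h i : ℝ) ≠ 0 := by exact_mod_cast h0
      field_simp
  have hgs : Summable g := by
    refine Summable.of_norm_bounded (g := fun i => ‖f i‖) hsum.norm ?_
    intro i
    simp only [hf, hg, norm_mul]
    apply mul_le_mul_of_nonneg_left _ (norm_nonneg _)
    rw [Real.norm_natCast, Real.norm_natCast]
    exact_mod_cast hle i
  have hSD := (tsum_ite_compl f hsum D).tsum_eq
  have hSD' := (tsum_ite_compl f hsum D').tsum_eq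
  have hGD := tsum_ite_compl g hgs D
  -- finite sum splittings
  have hsplit : ∀ u : ι → ℝ, ∑ i ∈ D', u i = ∑ i ∈ D' \ D, u i + ∑ i ∈ D, u i :=
    fun u => (Finset.sum_sdiff hDD').symm
  have hE : D' \ hfin.toFinset = (D \ hfin.toFinset) ∪ (D' \ D) := by
    ext i
    simp only [Finset.mem_sdiff, Finset.mem_union]
    constructor
    · rintro ⟨h1, h2⟩
      by_cases hi : i ∈ D
      · exact Or.inl ⟨hi, h2⟩
      · exact Or.inr ⟨h1, hi⟩
    · rintro (⟨h1, h2⟩ | ⟨h1, h2⟩)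
      · exact ⟨hDD' h1, h2⟩
      · exact ⟨h1, fun h3 => h2 (hDm h3)⟩
  have hdisj : Disjoint (D \ hfin.toFinset) (D' \ D) := by
    rw [Finset.disjoint_left]
    intro i h1 h2
    exact (Finset.mem_sdiff.mp h2).2 (Finset.mem_sdiff.mp h1).1
  have hR' : ∑ σ ∈ D' \ hfin.toFinset, r σ =
      ∑ σ ∈ D \ hfin.toFinset, r σ + ∑ σ ∈ D' \ D, r σ := by
    rw [hE, Finset.sum_union hdisj]
  have hd' : ((D' \ hfin.toFinset).card : ℝ) =
      ((D \ hfin.toFinset).card : ℝ) + ((D' \ D).card : ℝ) := by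
    rw [hE, Finset.card_union_of_disjoint hdisj]; push_cast; ring
  set F := ∑' i, f i with hF
  set G := ∑' i, g i with hG
  set d : ℝ := ((D \ hfin.toFinset).card : ℝ) with hd
  set m : ℝ := ((D' \ D).card : ℝ) with hm
  set R := ∑ σ ∈ D \ hfin.toFinset, r σ with hR
  set ρ := ∑ σ ∈ D' \ D, r σ with hρ
  have hR0 : d = 0 → R = 0 := by
    intro h0
    have : (D \ hfin.toFinset).card = 0 := by
      rw [hd] at h0; exact_mod_cast h0
    rw [Finset.card_eq_zero] at this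
    rw [hR, this, Finset.sum_empty]
  have hd0 : 0 ≤ d := Nat.cast_nonneg _
  have hm0 : 0 ≤ m := Nat.cast_nonneg _
  refine ⟨?_, ?_⟩
  · rw [hSD, hSD', hR', hd', hsplit g, hsplit f]
    set K := (F - (∑ i ∈ D' \ D, f i + ∑ i ∈ D, f i)) / (d + m) with hK
    have hsum_rhs : ∑ τ ∈ D' \ D, (f τ + K) * (r τ - 1 / d * R) =
        ∑ τ ∈ D' \ D, g τ - (1 / d * R) * ∑ τ ∈ D' \ D, f τ + K * ρ - m * (K * (1 / d * R)) := by
      have : ∀ τ ∈ D' \ D, (f τ + K) * (r τ - 1 / d * R) =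
          g τ - (1 / d * R) * f τ + K * r τ - K * (1 / d * R) := by
        intro τ _
        rw [hgfr τ]; ring
      rw [Finset.sum_congr rfl this, Finset.sum_sub_distrib, Finset.sum_add_distrib,
        Finset.sum_sub_distrib, ← Finset.mul_sum, ← Finset.mul_sum, Finset.sum_const, nsmul_eq_mul]
    rw [hsum_rhs]
    by_cases h0 : d = 0
    · rw [hR0 h0]; simp only [mul_zero, zero_mul, sub_zero, add_zero]; ring
    · have hdm : d + m ≠ 0 := by positivity
      rw [hK]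
      field_simp
      ring
  · rw [hSD]
    have hrhs : (fun τ => if τ ∈ D then (0 : ℝ) else f τ * (r τ - 1 / d * R)) =
        fun τ => (if τ ∈ D then (0 : ℝ) else g τ) - (1 / d * R) * (if τ ∈ D then (0 : ℝ) else f τ) := by
      funext τ
      split_ifs
      · simp
      · rw [hgfr τ]; ring
    have hrhs_sum : HasSum (fun τ => if τ ∈ D then (0 : ℝ) else f τ * (r τ - 1 / d * R))
        ((G - ∑ i ∈ D, g i) - (1 / d * R) * (F - ∑ i ∈ D, f i)) := by
      rw [hrhs]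
      exact hGD.sub ((tsum_ite_compl f hsum D).mul_left _)
    rw [hrhs_sum.tsum_eq]
    by_cases h0 : d = 0
    · rw [hR0 h0]; simp
    · field_simp
      ring

end Groth.Agent.S19502
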