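import Groth.Statements.S19509
import Groth.Agent.Lib.helper11.TorsRed

set_option autoImplicit false
universe u
open CategoryTheory MonoidalCategory CartesianMonoidalCategory MonObj GrpObj AlgebraicGeometry
open Neron

namespace Groth.Agent.S19509

/-- Let R be a complete discrete valuation ring whose fraction field K has characteristic zero and whose
residue field k has characteristic p > 0, and let N be a commutative R-group scheme which is a Néron
model of its generic fibre, an abelian variety over K. Then the torsion of order prime to p of N(R)
= A(K) injects into the special fibre under reduction: a section x with x^n = 1, n ≥ 1 prime to p,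
whose value at the closed point of Spec R is the identity point of the special fibre, is the unit
section. -/
theorem result (R : Type u) [CommRing R] [IsDomain R]
    [IsDiscreteValuationRing R] [IsAdicComplete (IsLocalRing.maximalIdeal R) R] (K : Type u) [Field K] [Algebra R K]
    [IsFractionRing R K] [CharZero K] (p : ℕ) [Fact p.Prime] [CharP (IsLocalRing.ResidueField R) p]
    (N : Over (Spec (CommRingCat.of R))) [GrpObj N] [IsCommMonObj N] (hN : SGA7.IsNeron R K N)
    [IsProper ((SGA7.genFib R K).obj N).hom] [GeometricallyIntegral ((SGA7.genFib R K).obj N).hom]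
    (x : 𝟙_ (Over (Spec (CommRingCat.of R))) ⟶ N) (n : ℕ) (hn : 0 < n) (hx : x ^ n = 1)
    (hred : x.left.base (IsLocalRing.closedPoint R) = (η[N]).left.base (IsLocalRing.closedPoint R))
    (hnp : Nat.Coprime n p) : x = 1 := by
  obtain ⟨hsm, hsep, -, -⟩ := hN
  haveI := hsm
  haveI := hsep
  have hnu : IsUnit (n : R) := by
    rw [← IsLocalRing.notMem_maximalIdeal]
    intro hmem
    have h0 : IsLocalRing.residue R (n : R) = 0 := (IsLocalRing.residue_eq_zero_iff _).2 hmem
    rw [map_natCast] at h0
    have hdvd := (CharP.cast_eq_zero_iff (IsLocalRing.ResidueField R) p n).1 h0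
    have h1 : p = 1 := Nat.Coprime.eq_one_of_dvd hnp.symm hdvd
    exact (Fact.out : p.Prime).one_lt.ne' h1
  exact Groth.Agent.Lib.helper11.TorsRed.eq_one_of_pow_eq_one R N n hnu x hx hred

end Groth.Agent.S19509
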