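import Groth.Statements.S19511
-- import your own Groth.Agent.* helpers here
import Mathlib

set_option autoImplicit false
universe u
open CategoryTheory CategoryTheory.Limits AlgebraicGeometry
open Variety

namespace Groth.Agent.S19511

/-- The core: a closed morphism inducing isomorphisms on all sections is surjective. -/
theorem core {X Y : Scheme.{u}} (f : X ⟶ Y) (hcl : IsClosedMap f)
    (hfib : ∀ V : Y.Opens, IsIso (f.app V)) : Surjective f := by
  constructor
  by_contra hns
  have hrc : IsClosed (Set.range f) := hcl.isClosed_range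
  let V : Y.Opens := ⟨(Set.range f)ᶜ, hrc.isOpen_compl⟩
  have hVne : Nonempty V := by
    rw [Function.Surjective, not_forall] at hns
    obtain ⟨y, hy⟩ := hns
    rw [not_exists] at hy
    exact ⟨⟨y, fun ⟨x, hx⟩ => hy x hx⟩⟩
  have hpre : f ⁻¹ᵁ V = ⊥ := by
    apply le_antisymm _ bot_le
    intro x hx
    exact (hx ⟨x, rfl⟩).elim
  have : Nontrivial Γ(Y, V) := Scheme.component_nontrivial Y V
  have hsub : Subsingleton Γ(X, f ⁻¹ᵁ V) := by
    rw [hpre]
    infer_instance
  have hiso := hfib V
  have e : Γ(Y, V) ≃+* Γ(X, f ⁻¹ᵁ V) := (asIso (f.app V)).commRingCatIsoToRingEquiv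
  have : Subsingleton Γ(Y, V) := e.toEquiv.subsingleton
  exact not_subsingleton Γ(Y, V) this

/-- Let k be a field and f : X → Y a k-morphism between proper k-schemes which is a fibration, i.e. O_Y
→ f_*O_X is an isomorphism (Γ(V, O_Y) → Γ(f⁻¹V, O_X) bijective for every open V ⊆ Y). Then f is
surjective. (The connectedness of the fibres asserted in (i) is quoted from the literature and not
stated.) -/
theorem result (k : Type u) [Field k] (X Y : Scheme.{u})
    [X.Over (Spec (CommRingCat.of k))] [Y.Over (Spec (CommRingCat.of k))] [IsProper (X ↘ Spec (CommRingCat.of k))] [IsProper (Y ↘ Spec (CommRingCat.of k))]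
    (f : X ⟶ Y) (hf : f ≫ (Y ↘ Spec (CommRingCat.of k)) = X ↘ Spec (CommRingCat.of k)) (hfib : ∀ V : Y.Opens, IsIso (f.app V)) :
    Surjective f := by
  have hp : IsProper (f ≫ (Y ↘ Spec (CommRingCat.of k))) := by rw [hf]; infer_instance
  have : IsProper f := IsProper.of_comp f (Y ↘ Spec (CommRingCat.of k))
  exact core f f.isClosedMap hfib

end Groth.Agent.S19511
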