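import Groth.Statements.S19512
-- import your own Groth.Agent.* helpers here
import Mathlib
import Groth.Agent.S19511

set_option autoImplicit false
universe u
open CategoryTheory CategoryTheory.Limits AlgebraicGeometry
open Variety

namespace Groth.Agent.S19512

theorem core {X Y : Scheme.{u}} (f : X ⟶ Y) (hcl : IsClosedMap f)
    (hfib : ∀ V : Y.Opens, IsIso (f.app V)) [AlgebraicGeometry.IsIntegral X] :
    AlgebraicGeometry.IsIntegral Y := by
  have hs : Surjective f := Groth.Agent.S19511.core f hcl hfib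
  refine ⟨?_, ?_⟩
  · obtain ⟨x⟩ := (inferInstance : Nonempty X)
    exact ⟨f x⟩
  · intro V hV
    obtain ⟨⟨y, hy⟩⟩ := hV
    obtain ⟨x, rfl⟩ := hs.surj y
    have : Nonempty (f ⁻¹ᵁ V) := ⟨⟨x, hy⟩⟩
    have hiso := hfib V
    have e : Γ(Y, V) ≃+* Γ(X, f ⁻¹ᵁ V) := (asIso (f.app V)).commRingCatIsoToRingEquiv
    exact MulEquiv.isDomain _ e.toMulEquiv

/-- Let k be a field and f : X → Y a k-morphism between proper k-schemes which is a fibration, i.e. O_Y
→ f_*O_X is an isomorphism (Γ(V, O_Y) → Γ(f⁻¹V, O_X) bijective for every open V ⊆ Y). If X is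
integral, then Y is integral. (The second assertion of (ii), generic flatness of f, is quoted from
the literature and not stated.) -/
theorem result (k : Type u) [Field k] (X Y : Scheme.{u})
    [X.Over (Spec (CommRingCat.of k))] [Y.Over (Spec (CommRingCat.of k))] [IsProper (X ↘ Spec (CommRingCat.of k))] [IsProper (Y ↘ Spec (CommRingCat.of k))]
    (f : X ⟶ Y) (hf : f ≫ (Y ↘ Spec (CommRingCat.of k)) = X ↘ Spec (CommRingCat.of k)) (hfib : ∀ V : Y.Opens, IsIso (f.app V))
    [AlgebraicGeometry.IsIntegral X] : AlgebraicGeometry.IsIntegral Y := by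
  have hp : IsProper (f ≫ (Y ↘ Spec (CommRingCat.of k))) := by rw [hf]; infer_instance
  have : IsProper f := IsProper.of_comp f (Y ↘ Spec (CommRingCat.of k))
  exact core f f.isClosedMap hfib

end Groth.Agent.S19512
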