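import Groth.Statements.S19514
import Mathlib
import Groth.Agent.Lib.Helper22.FibrationBC
import Groth.Agent.S19511
-- import your own Groth.Agent.* helpers here

set_option autoImplicit false
universe u
open CategoryTheory CategoryTheory.Limits AlgebraicGeometry
open Variety

namespace Groth.Agent.S19514

/-- Let k be a field and f : X → Y a k-morphism between proper k-schemes which is a fibration, i.e. O_Y
→ f_*O_X is an isomorphism (Γ(V, O_Y) → Γ(f⁻¹V, O_X) bijective for every open V ⊆ Y). If X is
geometrically integral over k, then so is Y. (The assertion of (iii) for geometric normality is not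
stated here.) -/
theorem result (k : Type u) [Field k] (X Y : Scheme.{u})
    [X.Over (Spec (CommRingCat.of k))] [Y.Over (Spec (CommRingCat.of k))] [IsProper (X ↘ Spec (CommRingCat.of k))] [IsProper (Y ↘ Spec (CommRingCat.of k))]
    (f : X ⟶ Y) (hf : f ≫ (Y ↘ Spec (CommRingCat.of k)) = X ↘ Spec (CommRingCat.of k)) (hfib : ∀ V : Y.Opens, IsIso (f.app V))
    [GeometricallyIntegral (X ↘ Spec (CommRingCat.of k))] : GeometricallyIntegral (Y ↘ Spec (CommRingCat.of k)) := by
  have hN : ∀ (XK : Scheme.{u}) (L : Type u) [Field L] (q : XK ⟶ Spec (CommRingCat.of L))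
      [LocallyOfFiniteType q] [QuasiCompact q], IsNoetherian XK := by
    intro XK L _ q _ _
    have : IsLocallyNoetherian XK := LocallyOfFiniteType.isLocallyNoetherian q
    have : CompactSpace XK := QuasiCompact.compactSpace_of_compactSpace q
    exact {}
  have hNX : IsNoetherian X := hN X k (X ↘ Spec (CommRingCat.of k))
  have hsurj : Surjective f := Groth.Agent.S19511.result k X Y f hf hfib
  constructor
  intro K _ y Z fst snd hZ
  have hflat : Flat y := by
    rw [← Spec.map_preimage y, Flat.SpecMap_iff]
    let _ : Algebra k K := (Spec.preimage y).hom.toAlgebra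
    change (algebraMap k K).Flat
    rw [RingHom.flat_algebraMap_iff]
    infer_instance
  have HX : IsPullback (pullback.fst (X ↘ Spec (CommRingCat.of k)) y) (pullback.snd _ _)
      (X ↘ Spec (CommRingCat.of k)) y := IsPullback.of_hasPullback _ _
  have hint : IsIntegral (pullback (X ↘ Spec (CommRingCat.of k)) y) :=
    (GeometricallyIntegral.geometrically_isIntegral (f := X ↘ Spec (CommRingCat.of k))) y
      (pullback.fst _ _) (pullback.snd _ _) HX
  exact Groth.Agent.Lib.Helper22.FibrationBC.isIntegral_of_fibration_bc y
    (X ↘ Spec (CommRingCat.of k)) (Y ↘ Spec (CommRingCat.of k)) f hf HX hZ hfib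

end Groth.Agent.S19514
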