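import Groth.Statements.S19522
-- import your own Groth.Agent.* helpers here

set_option autoImplicit false
universe u
open TensorProduct
open GLin

namespace Groth.Agent.S19522

noncomputable def cf (k : Type u) [Field k] (A : Type u) [CommRing A] [Algebra k A]
    (R : Type u) [CommRing R] [Algebra k R] (r : ℕ) :
    Polynomial R ⊗[k] A →ₗ[k] R ⊗[k] A :=
  LinearMap.rTensor A ((Polynomial.lcoeff R r).restrictScalars k)

lemma cf_tmul (k : Type u) [Field k] (A : Type u) [CommRing A] [Algebra k A]
    (R : Type u) [CommRing R] [Algebra k R] (r : ℕ) (g : Polynomial R) (a : A) :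
    cf k A R r (g ⊗ₜ[k] a) = g.coeff r ⊗ₜ[k] a := by
  simp [cf]

lemma cf_mul (k : Type u) [Field k] (A : Type u) [CommRing A] [Algebra k A]
    (R : Type u) [CommRing R] [Algebra k R] (r s : ℕ) (y : R ⊗[k] A) (a : A) :
    cf k A R r (Algebra.TensorProduct.map (Polynomial.CAlgHom : R →ₐ[k] Polynomial R) (AlgHom.id k A) y *
      (((Polynomial.X : Polynomial R) ^ s) ⊗ₜ[k] a)) =
    if r = s then y * ((1 : R) ⊗ₜ[k] a) else 0 := by
  induction y using TensorProduct.induction_on with
  | zero => simp
  | tmul b a' =>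
    simp only [Algebra.TensorProduct.map_tmul, Polynomial.CAlgHom_apply, AlgHom.coe_id, id_eq,
      Algebra.TensorProduct.tmul_mul_tmul, cf_tmul, Polynomial.coeff_C_mul_X_pow, mul_one]
    split_ifs <;> simp
  | add y₁ y₂ h₁ h₂ =>
    rw [map_add, add_mul, map_add, h₁, h₂]
    split_ifs <;> simp [add_mul]


/-- Let k be a field, A a commutative k-bialgebra coacting multiplicatively on a commutative k-algebra
R, and χ ∈ A a group-like element with an inverse χ' (χχ' = 1). Suppose the polynomial ring R[t]
carries a multiplicative coaction which restricts to the given one on constants and sends t to t ⊗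
χ'. Then g ∈ R[t] is coinvariant if and only if, for every r, its r-th coefficient has coaction g_r
↦ g_r ⊗ χ^r; that is, the ring of invariants of R[t] is the sum over r ≥ 0 of the weight-χ^r
semi-invariants of R times t^r. (The published statement is phrased for an affine variety with an
action of a linear algebraic group over an algebraically closed field of characteristic zero and
identifies the invariants of X × A¹ with the graded ring of invariant sections of the powers of the
linearised trivial bundle; this is its coordinate-ring content, valid over any field.) -/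
theorem result (k : Type u) [Field k]
    (A : Type u) [CommRing A] [Bialgebra k A]
    (R : Type u) [CommRing R] [Algebra k R] [HopfRep.Comod k A R] [GLin.IsCoactAlg k A R]
    [HopfRep.Comod k A (Polynomial R)] [GLin.IsCoactAlg k A (Polynomial R)]
    (χ χ' : A) (hχ : CoalgebraStruct.comul (R := k) (A := A) χ = χ ⊗ₜ[k] χ)
    (hχε : CoalgebraStruct.counit (R := k) (A := A) χ = 1) (hχχ' : χ * χ' = 1)
    (hC : ∀ r : R, HopfRep.Comod.coact (k := k) (A := A) (Polynomial.C r) =
      Algebra.TensorProduct.map (Polynomial.CAlgHom : R →ₐ[k] Polynomial R) (AlgHom.id k A)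
        (HopfRep.Comod.coact (k := k) (A := A) r))
    (hX : HopfRep.Comod.coact (k := k) (A := A) (Polynomial.X : Polynomial R) = Polynomial.X ⊗ₜ[k] χ')
    (g : Polynomial R) :
    g ∈ GLin.invariants k A (Polynomial R) ↔
      ∀ r : ℕ, g.coeff r ∈ HopfRep.eigenspace k A R (χ ^ r) := by
  classical
  set ρ' := HopfRep.Comod.coact (k := k) (A := A) (V := Polynomial R) with hρ'
  set ρ := HopfRep.Comod.coact (k := k) (A := A) (V := R) with hρ
  have hpow : ∀ s : ℕ, ρ' ((Polynomial.X : Polynomial R) ^ s) = ((Polynomial.X : Polynomial R) ^ s) ⊗ₜ[k] (χ' ^ s) := by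
    intro s
    have h1 : ρ' ((Polynomial.X : Polynomial R) ^ s) = (ρ' Polynomial.X) ^ s := by
      have := map_pow (GLin.coactAlgHom k A (Polynomial R)) (Polynomial.X : Polynomial R) s
      simpa [GLin.coactAlgHom_apply] using this
    rw [h1, hρ', hX, Algebra.TensorProduct.tmul_pow]
  have hexp : ρ' g = ∑ s ∈ Finset.range (g.natDegree + 1),
      Algebra.TensorProduct.map (Polynomial.CAlgHom : R →ₐ[k] Polynomial R) (AlgHom.id k A) (ρ (g.coeff s)) *
        (((Polynomial.X : Polynomial R) ^ s) ⊗ₜ[k] (χ' ^ s)) := by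
    conv_lhs => rw [Polynomial.as_sum_range_C_mul_X_pow g]
    rw [map_sum]
    apply Finset.sum_congr rfl
    intro s _
    rw [hρ', GLin.IsCoactAlg.coact_mul, hC, ← hρ', hpow]
  have hχpow : ∀ r : ℕ, χ ^ r * χ' ^ r = 1 := by
    intro r
    rw [← mul_pow, hχχ', one_pow]
  rw [GLin.mem_invariants_iff]
  constructor
  · intro hg r
    show ρ (g.coeff r) = g.coeff r ⊗ₜ[k] (χ ^ r)
    have h1 := congrArg (cf k A R r) hg
    rw [cf_tmul, ← hρ', hexp, map_sum] at h1
    simp_rw [cf_mul] at h1
    rw [Finset.sum_ite_eq] at h1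
    have h2 : ρ (g.coeff r) * ((1 : R) ⊗ₜ[k] (χ' ^ r)) = g.coeff r ⊗ₜ[k] (1 : A) := by
      split_ifs at h1 with hr
      · exact h1
      · have hr' : g.natDegree < r := by
          simp only [Finset.mem_range, not_lt] at hr
          omega
        rw [Polynomial.coeff_eq_zero_of_natDegree_lt hr']
        simp
    calc ρ (g.coeff r) = ρ (g.coeff r) * ((1 : R) ⊗ₜ[k] (χ' ^ r)) * ((1 : R) ⊗ₜ[k] (χ ^ r)) := by
          rw [mul_assoc, Algebra.TensorProduct.tmul_mul_tmul, mul_one, mul_comm (χ' ^ r), hχpow,
            ← Algebra.TensorProduct.one_def, mul_one]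
      _ = g.coeff r ⊗ₜ[k] (χ ^ r) := by
          rw [h2, Algebra.TensorProduct.tmul_mul_tmul, mul_one, one_mul]
  · intro hg
    rw [← hρ', hexp]
    have : ∀ s ∈ Finset.range (g.natDegree + 1),
        Algebra.TensorProduct.map (Polynomial.CAlgHom : R →ₐ[k] Polynomial R) (AlgHom.id k A) (ρ (g.coeff s)) *
          (((Polynomial.X : Polynomial R) ^ s) ⊗ₜ[k] (χ' ^ s)) =
        (Polynomial.C (g.coeff s) * Polynomial.X ^ s) ⊗ₜ[k] (1 : A) := by
      intro s _
      have := hg s
      change ρ (g.coeff s) = g.coeff s ⊗ₜ[k] (χ ^ s) at this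
      rw [this, Algebra.TensorProduct.map_tmul, Algebra.TensorProduct.tmul_mul_tmul, AlgHom.id_apply,
        hχpow]
      simp
    rw [Finset.sum_congr rfl this, ← TensorProduct.sum_tmul, ← Polynomial.as_sum_range_C_mul_X_pow g]


end Groth.Agent.S19522
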