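import Groth.Statements.S19546
import Groth.Agent.Lib.Helper1.SegreCone

set_option autoImplicit false
universe u v w
open scoped TensorProduct
open VBCurve

namespace Groth.Agent.S19546

open Groth.Agent.Lib.Helper1.SegreCone MvPolynomial in

/-- Let A, B, C be complex vector spaces, A and B finite-dimensional, and ν : A ⊗ B → C a linear map
injective on each factor separately (b ↦ ν(a ⊗ b) is injective for every a ≠ 0 and a ↦ ν(a ⊗ b) is
injective for every b ≠ 0). Then the image of ν has dimension at least dim A + dim B - 1. (For A = 0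
the separate-injectivity hypothesis is empty and the inequality fails as soon as dim B ≥ 2, so A and
B are taken nonzero here, the case the inequality is about.) -/
theorem result
    (A : Type u) (B : Type v) (C : Type w) [AddCommGroup A] [Module ℂ A] [AddCommGroup B] [Module ℂ B]
    [AddCommGroup C] [Module ℂ C] [FiniteDimensional ℂ A] [FiniteDimensional ℂ B]
    [Nontrivial A] [Nontrivial B] (ν : A ⊗[ℂ] B →ₗ[ℂ] C)
    (hA : ∀ a : A, a ≠ 0 → Function.Injective (fun b : B => ν (a ⊗ₜ[ℂ] b)))
    (hB : ∀ b : B, b ≠ 0 → Function.Injective (fun a : A => ν (a ⊗ₜ[ℂ] b))) :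
    Module.finrank ℂ A + Module.finrank ℂ B ≤ Module.finrank ℂ (LinearMap.range ν) + 1 := by
  classical
  by_contra hcon
  push Not at hcon
  set a := Module.finrank ℂ A with ha_def
  set b := Module.finrank ℂ B with hb_def
  set c := Module.finrank ℂ (LinearMap.range ν) with hc_def
  have ha : 0 < a := Module.finrank_pos
  have hb : 0 < b := Module.finrank_pos
  let bA : Module.Basis (Fin a) ℂ A := Module.finBasis ℂ A
  let bB : Module.Basis (Fin b) ℂ B := Module.finBasis ℂ B
  let bC : Module.Basis (Fin c) ℂ (LinearMap.range ν) := Module.finBasis ℂ (LinearMap.range ν)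
  let T : (Fin (a * b) → ℂ) →ₗ[ℂ] A ⊗[ℂ] B :=
    Fintype.linearCombination ℂ
      (fun m => bA (finProdFinEquiv.symm m).1 ⊗ₜ[ℂ] bB (finProdFinEquiv.symm m).2)
  let ℓ : Fin c → (Fin (a * b) → ℂ) →ₗ[ℂ] ℂ := fun i =>
    (bC.coord i) ∘ₗ ν.rangeRestrict ∘ₗ T
  let Lp : Fin c → MvPolynomial (Fin (a * b)) ℂ := fun i =>
    ∑ m, MvPolynomial.C (ℓ i (fun j => if m = j then 1 else 0)) * X m
  have heval : ∀ i v, eval v (Lp i) = ℓ i v := by
    intro i v
    rw [LinearMap.pi_apply_eq_sum_univ (ℓ i) v]
    simp only [Lp, map_sum, map_mul, eval_C, eval_X, smul_eq_mul]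
    exact Finset.sum_congr rfl fun m _ => mul_comm _ _
  obtain ⟨α, β, hα, hβ, hvan⟩ := exists_rankOne_zero (k := ℂ) ha hb (Finset.univ.image Lp)
    (by
      intro f hf
      obtain ⟨i, -, rfl⟩ := Finset.mem_image.mp hf
      rw [heval i, map_zero])
    (by
      have : (Finset.univ.image Lp).card ≤ c := by
        simpa using Finset.card_image_le (s := Finset.univ) (f := Lp)
      omega)
  set v : Fin (a * b) → ℂ := fun m => α (finProdFinEquiv.symm m).1 * β (finProdFinEquiv.symm m).2
    with hv
  set a0 : A := ∑ i, α i • bA i with ha0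
  set b0 : B := ∑ j, β j • bB j with hb0
  have hTv : T v = a0 ⊗ₜ[ℂ] b0 := by
    rw [ha0, hb0, TensorProduct.sum_tmul]
    simp_rw [TensorProduct.tmul_sum, TensorProduct.smul_tmul_smul]
    rw [← Finset.sum_product', Finset.univ_product_univ]
    simp only [T, Fintype.linearCombination_apply, hv]
    exact (Fintype.sum_equiv finProdFinEquiv.symm _ _ (fun m => rfl))
  have hzero : ν.rangeRestrict (T v) = 0 := by
    apply bC.ext_elem
    intro i
    have := hvan (Lp i) (Finset.mem_image_of_mem _ (Finset.mem_univ i))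
    rw [heval] at this
    rw [map_zero, Finsupp.zero_apply]
    exact this
  have hν : ν (a0 ⊗ₜ[ℂ] b0) = 0 := by
    have := congrArg Subtype.val hzero
    rwa [hTv] at this
  have ha0ne : a0 ≠ 0 := by
    intro h
    apply hα
    have : bA.equivFun.symm α = 0 := by rw [Module.Basis.equivFun_symm_apply]; exact h
    have h2 := congrArg bA.equivFun this
    rwa [LinearEquiv.apply_symm_apply, map_zero] at h2
  have hb0ne : b0 ≠ 0 := by
    intro h
    apply hβ
    have : bB.equivFun.symm β = 0 := by rw [Module.Basis.equivFun_symm_apply]; exact h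
    have h2 := congrArg bB.equivFun this
    rwa [LinearEquiv.apply_symm_apply, map_zero] at h2
  apply hb0ne
  apply hA a0 ha0ne
  show ν (a0 ⊗ₜ[ℂ] b0) = ν (a0 ⊗ₜ[ℂ] 0)
  rw [hν, TensorProduct.tmul_zero, map_zero]

end Groth.Agent.S19546
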