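import Groth.Statements.S19548
import Mathlib.Tactic

set_option autoImplicit false
universe u
open CategoryTheory AlgebraicGeometry
open RedSub

namespace Groth.Agent.S19548


section
variable {idx M N : Type} [AddCommGroup M] [AddCommGroup N]
  (P : RootPairing idx ℤ M N)

private lemma reflPerm_conj (j i : idx) :
    P.reflectionPerm (P.reflectionPerm j i)
      = P.reflectionPerm j * P.reflectionPerm i * P.reflectionPerm j := by
  ext a
  apply P.root.injective
  simp only [Equiv.Perm.coe_mul, Function.comp_apply, RootPairing.root_reflectionPerm]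
  rw [RootPairing.reflection_reflectionPerm]
  rfl

private lemma wordPerm_nil : RedSub.wordPerm P [] = 1 := by
  simp [RedSub.wordPerm]

private lemma wordPerm_cons (j : idx) (l : List idx) :
    RedSub.wordPerm P (j :: l) = P.reflectionPerm j * RedSub.wordPerm P l := by
  simp [RedSub.wordPerm]

private lemma wordPerm_append (l l' : List idx) :
    RedSub.wordPerm P (l ++ l') = RedSub.wordPerm P l * RedSub.wordPerm P l' := by
  simp [RedSub.wordPerm]

private lemma reflPerm_word (l : List idx) (a : idx) :
    P.reflectionPerm (RedSub.wordPerm P l a)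
      = RedSub.wordPerm P l * P.reflectionPerm a * (RedSub.wordPerm P l)⁻¹ := by
  induction l with
  | nil => simp [wordPerm_nil]
  | cons j l ih =>
    rw [wordPerm_cons, Equiv.Perm.mul_apply, reflPerm_conj, ih, mul_inv_rev,
      RootPairing.reflectionPerm_inv]
    simp only [mul_assoc]

private lemma closure_sum (b : P.Base) (m : M)
    (hm : m ∈ AddSubmonoid.closure (P.root '' (b.support : Set idx))) :
    ∃ f : idx → ℤ, (∀ j, 0 ≤ f j) ∧ m = ∑ j ∈ b.support, f j • P.root j := by
  classical
  induction hm using AddSubmonoid.closure_induction with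
  | mem x hx =>
    obtain ⟨j, hj, rfl⟩ := hx
    refine ⟨Pi.single j 1, fun k => ?_, ?_⟩
    · by_cases h : k = j
      · subst h; simp
      · simp [Pi.single_apply, h]
    · rw [Finset.sum_eq_single_of_mem j hj (by intro k _ hk; simp [Pi.single_apply, hk])]
      simp
  | zero => exact ⟨0, fun _ => le_rfl, by simp⟩
  | add x y _ _ hx hy =>
    obtain ⟨f, hf, rfl⟩ := hx
    obtain ⟨g, hg, rfl⟩ := hy
    exact ⟨f + g, fun j => add_nonneg (hf j) (hg j), by simp [add_smul, Finset.sum_add_distrib]⟩

private lemma isPos_of_mem_posRoots (b : P.Base) {a : idx} (ha : a ∈ RedSub.posRoots P b) :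
    b.IsPos a := by
  obtain ⟨f, hf, h⟩ := closure_sum P b _ ha
  rw [b.isPos_iff', b.height_eq_sum h]
  exact Finset.sum_nonneg fun j _ => hf j

private lemma not_isPos_of_mem_negRoots (b : P.Base) {a : idx} (ha : a ∈ RedSub.negRoots P b) :
    ¬ b.IsPos a := by
  obtain ⟨f, hf, h⟩ := closure_sum P b _ ha
  have h' : P.root a = ∑ j ∈ b.support, (-f) j • P.root j := by
    rw [← neg_neg (P.root a), h]
    simp [Finset.sum_neg_distrib]
  rw [b.isPos_iff, b.height_eq_sum h']
  simp only [Pi.neg_apply, Finset.sum_neg_distrib]
  have := Finset.sum_nonneg fun j (_ : j ∈ b.support) => hf j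
  omega

end

/-- Let Φ be a finite reduced root system (a reduced root pairing over ℤ on a finite index set) with a
base b, let w = σ_{α_1} ⋯ σ_{α_ℓ} be a reduced decomposition of a Weyl group element into simple
reflections (every α_j in the base, and no shorter word in the simple reflections gives the same
permutation of the roots), and let γ be a positive root with w⁻¹(γ) negative. Then for some i with 1
≤ i ≤ ℓ one has σ_γ σ_{α_1} ⋯ σ_{α_i} = σ_{α_1} ⋯ σ_{α_{i-1}}. (Indices are shifted by one below:
the word is a list and the prefixes are its first i + 1 and first i letters.) -/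
theorem result {idx M N : Type}
    [AddCommGroup M] [AddCommGroup N] [Finite idx]
    (P : RootPairing idx ℤ M N) [P.IsReduced] (b : P.Base) (l : List idx)
    (hl : ∀ a ∈ l, a ∈ b.support)
    (hred : ∀ l' : List idx, (∀ a ∈ l', a ∈ b.support) →
      RedSub.wordPerm P l' = RedSub.wordPerm P l → l.length ≤ l'.length)
    (c : idx) (hc : c ∈ RedSub.posRoots P b) (hneg : (RedSub.wordPerm P l).symm c ∈ RedSub.negRoots P b) :
    ∃ i : ℕ, i < l.length ∧
      P.reflectionPerm c * RedSub.wordPerm P (l.take (i + 1)) = RedSub.wordPerm P (l.take i) := by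
  classical
  have hpos := isPos_of_mem_posRoots P b hc
  have hnp := not_isPos_of_mem_negRoots P b hneg
  -- find the first sign change
  have hex : ∃ k, k ≤ l.length ∧ ¬ b.IsPos ((RedSub.wordPerm P (l.take k)).symm c) :=
    ⟨l.length, le_rfl, by rwa [List.take_length]⟩
  let k := Nat.find hex
  have hk : k ≤ l.length ∧ ¬ b.IsPos ((RedSub.wordPerm P (l.take k)).symm c) := Nat.find_spec hex
  have hk0 : k ≠ 0 := by
    intro h0
    apply hk.2
    rw [h0, List.take_zero, wordPerm_nil]
    exact hpos
  obtain ⟨i, hi⟩ := Nat.exists_eq_succ_of_ne_zero hk0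
  have hil : i < l.length := by omega
  have hipos : b.IsPos ((RedSub.wordPerm P (l.take i)).symm c) := by
    by_contra hcon
    have := Nat.find_min' hex ⟨by omega, hcon⟩
    omega
  refine ⟨i, hil, ?_⟩
  have htake : l.take (i + 1) = l.take i ++ [l[i]] := by
    rw [List.take_succ_eq_append_getElem hil]
  have hW : RedSub.wordPerm P (l.take (i + 1))
      = RedSub.wordPerm P (l.take i) * P.reflectionPerm l[i] := by
    rw [htake, wordPerm_append, wordPerm_cons, wordPerm_nil, mul_one]
  set W := RedSub.wordPerm P (l.take i) with hWdef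
  set a := l[i] with ha
  have hasup : a ∈ b.support := hl a (List.getElem_mem hil)
  have hneg' : ¬ b.IsPos (P.reflectionPerm a (W.symm c)) := by
    have h2 := hk.2
    rw [hi, Nat.succ_eq_add_one, hW] at h2
    have : (W * P.reflectionPerm a).symm c = P.reflectionPerm a (W.symm c) := by
      show (W * P.reflectionPerm a)⁻¹ c = _
      rw [mul_inv_rev, RootPairing.reflectionPerm_inv]
      rfl
    rwa [this] at h2
  have heq : W.symm c = a := by
    by_contra hne
    exact hneg' (hipos.reflectionPerm hasup hne)
  have hc' : c = W a := by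
    rw [← heq]; simp
  rw [hW, hc', reflPerm_word]
  have hsq : P.reflectionPerm a * P.reflectionPerm a = 1 := by
    rw [← sq]; exact P.reflectionPerm_sq a
  calc W * P.reflectionPerm a * W⁻¹ * (W * P.reflectionPerm a)
      = W * (P.reflectionPerm a * (W⁻¹ * W) * P.reflectionPerm a) := by simp only [mul_assoc]
    _ = W := by rw [inv_mul_cancel, mul_one, hsq, mul_one]

end Groth.Agent.S19548
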