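import Groth.Statements.S19550
import Groth.Agent.Lib.helper10.SchFinConn

set_option autoImplicit false
universe u
open SchFin SchFin.RSpace

namespace Groth.Agent.S19550

open SchFin in
/-- Let X be a well-connected schematic finite space and f : A → B a morphism of quasi-coherent algebras
between trivial étale covers A ≅ O_X^F and B ≅ O_X^E, F and E finite sets. Then f is induced by a
map of finite sets φ : E → F. Here the trivial algebras are written out: f is a family of
O_p-algebra maps (F → O_p) → (E → O_p), one for each point p, compatible with the restriction maps,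
and the conclusion says f_p(g) = g ∘ φ for every p and g. (The published statement names a map F →
E; a map of algebras of functions O^F → O^E is composition with a map E → F, which is what this row
states.) -/
theorem result (X : RSpace.{u})
    (hX : X.IsSchematic) (hW : X.IsWellConnected) (F E : Type) [Finite F] [Finite E]
    (f : ∀ p : X.pt, (F → X.ring p) →ₐ[X.ring p] (E → X.ring p))
    (hf : ∀ (p q : X.pt) (h : p ≤ q) (g : F → X.ring p) (e : E),
      X.res h (f p g e) = f q (fun i => X.res h (g i)) e) :
    ∃ φ : E → F, ∀ (p : X.pt) (g : F → X.ring p) (e : E), f p g e = g (φ e) := by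
  classical
  have : Fintype F := Fintype.ofFinite F
  have htc := Groth.Agent.Lib.helper10.SchFinConn.isTopConnected_of_isWellConnected hW
  have hpw : ∀ p, ConnectedSpace (PrimeSpectrum (X.ring p)) := hW.2
  have hnt := Groth.Agent.Lib.helper10.SchFinConn.nontrivial_of_isPwConnected hW.2
  -- the values of `f` on the indicator functions
  let v : ∀ p : X.pt, E → F → X.ring p := fun p e i => f p (Pi.single i 1) e
  have hv01 : ∀ p e i, v p e i = 0 ∨ v p e i = 1 := by
    intro p e i
    have := hpw p
    apply Groth.Agent.Lib.helper10.SchFinConn.idem_eq_zero_or_one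
    show f p (Pi.single i 1) e * f p (Pi.single i 1) e = f p (Pi.single i 1) e
    have h1 : (Pi.single i 1 : F → X.ring p) * Pi.single i 1 = Pi.single i 1 := by
      rw [← Pi.single_mul, one_mul]
    have h2 := congrFun (congrArg (f p) h1) e
    rw [map_mul] at h2
    exact h2
  have hvorth : ∀ p e i j, i ≠ j → v p e i * v p e j = 0 := by
    intro p e i j hij
    have h1 : (Pi.single i 1 : F → X.ring p) * Pi.single j 1 = 0 := by
      funext k
      by_cases hk : k = i
      · subst hk; simp [Pi.single_eq_of_ne hij]
      · simp [Pi.single_eq_of_ne hk]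
    have h2 := congrFun (congrArg (f p) h1) e
    rw [map_mul, map_zero] at h2
    exact h2
  have hexp : ∀ p (g : F → X.ring p) e, f p g e = ∑ i, g i * v p e i := by
    intro p g e
    have hg : g = ∑ i, g i • (Pi.single i 1 : F → X.ring p) := by
      funext k
      simp [Finset.sum_apply, Pi.single_apply]
    conv_lhs => rw [hg]
    rw [map_sum, Finset.sum_apply]
    refine Finset.sum_congr rfl fun i _ => ?_
    rw [map_smul]
    rfl
  have hvsum : ∀ p e, ∑ i, v p e i = 1 := by
    intro p e
    have := hexp p 1 e
    rw [map_one] at this
    simpa using this.symm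
  have hex : ∀ p e, ∃ i, v p e i = 1 := by
    intro p e
    by_contra hcon
    push Not at hcon
    have h0 : ∀ i, v p e i = 0 := fun i => (hv01 p e i).resolve_right (hcon i)
    have hs := hvsum p e
    rw [Finset.sum_eq_zero (fun i _ => h0 i)] at hs
    have := hnt p
    exact zero_ne_one hs
  have huniq : ∀ p e i j, v p e i = 1 → v p e j = 1 → i = j := by
    intro p e i j hi hj
    by_contra hij
    have ho := hvorth p e i j hij
    rw [hi, hj, one_mul] at ho
    have := hnt p
    exact one_ne_zero ho
  let φ : ∀ p : X.pt, E → F := fun p e => (hex p e).choose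
  have hφ : ∀ p e, v p e (φ p e) = 1 := fun p e => (hex p e).choose_spec
  have hle : ∀ {p q : X.pt} (h : p ≤ q) e, φ p e = φ q e := by
    intro p q h e
    apply huniq q e _ _ _ (hφ q e)
    have h1 := hf p q h (Pi.single (φ p e) 1) e
    have h2 : (fun i => X.res h ((Pi.single (φ p e) 1 : F → X.ring p) i)) =
        (Pi.single (φ p e) 1 : F → X.ring q) := by
      funext k
      by_cases hk : k = φ p e
      · subst hk; simp
      · simp [Pi.single_eq_of_ne hk]
    rw [h2] at h1
    show f q (Pi.single (φ p e) 1) e = 1
    rw [← h1]
    have : f p (Pi.single (φ p e) 1) e = 1 := hφ p e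
    rw [this, map_one]
  have hrel : ∀ p q : X.pt, Relation.EqvGen (fun a b : X.pt => a ≤ b) p q → φ p = φ q := by
    intro p q hpq
    induction hpq with
    | rel a b h => exact funext fun e => hle h e
    | refl a => rfl
    | symm a b _ ih => exact ih.symm
    | trans a b c _ _ ih1 ih2 => exact ih1.trans ih2
  obtain ⟨p0⟩ := htc.1
  refine ⟨φ p0, fun p g e => ?_⟩
  rw [hrel p0 p (htc.2 p0 p), hexp p g e]
  rw [Finset.sum_eq_single (φ p e)]
  · rw [hφ p e, mul_one]
  · intro i _ hi
    have : v p e i = 0 := by
      rcases hv01 p e i with h0 | h1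
      · exact h0
      · exact absurd (huniq p e i (φ p e) h1 (hφ p e)) hi
    rw [this, mul_zero]
  · intro h
    exact absurd (Finset.mem_univ _) h

end Groth.Agent.S19550
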