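import Groth.Statements.S19551
import Mathlib.LinearAlgebra.Determinant
import Mathlib.LinearAlgebra.Matrix.ToLinearEquiv
import Mathlib.FieldTheory.IsAlgClosed.Basic
import Mathlib.Algebra.Polynomial.Roots
import Mathlib.LinearAlgebra.FiniteDimensional.Lemmas

set_option autoImplicit false
universe u v w
open KronMod

namespace Groth.Agent.S19551

open Polynomial Matrix

/-- If every member of the pencil `g₀ + t g₁` of endomorphisms is singular, there is a
"polynomial kernel vector": coefficient vectors `c n` (finitely supported in `n`), not all zero,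
with `g₀ (c 0) = 0` and `g₀ (c (n+1)) + g₁ (c n) = 0`. -/
theorem exists_chain {K : Type u} [Field K] [Infinite K] {V : Type v} [AddCommGroup V] [Module K V]
    [FiniteDimensional K V] (g₀ g₁ : V →ₗ[K] V)
    (h : ∀ t : K, LinearMap.det (g₀ + t • g₁) = 0) :
    ∃ u : ℕ → V, (∃ n, u n ≠ 0) ∧ g₀ (u 0) = 0 ∧ ∀ n, g₀ (u (n + 1)) + g₁ (u n) = 0 := by
  classical
  let b := Module.finBasis K V
  let A₀ := LinearMap.toMatrix b b g₀
  let A₁ := LinearMap.toMatrix b b g₁
  let M : Matrix _ _ K[X] := A₀.map C + (X : K[X]) • A₁.map C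
  have hdet : M.det = 0 := by
    apply Polynomial.funext
    intro t
    rw [eval_zero]
    have h1 : eval t M.det = ((evalRingHom t).mapMatrix M).det := by
      rw [← RingHom.map_det]; rfl
    have h2 : (evalRingHom t).mapMatrix M = LinearMap.toMatrix b b (g₀ + t • g₁) := by
      ext i j
      simp [M, A₀, A₁, Matrix.map_apply, LinearMap.toMatrix_apply]
      ring
    rw [h1, h2, LinearMap.det_toMatrix, h t]
  obtain ⟨v, hv0, hv⟩ := Matrix.exists_mulVec_eq_zero_iff.mpr hdet
  let c : ℕ → (Fin _ → K) := fun n j => (v j).coeff n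
  have hrel0 : A₀ *ᵥ c 0 = 0 := by
    funext i
    have := congrArg (fun p => Polynomial.coeff p 0) (congrFun hv i)
    simp only [Matrix.mulVec, dotProduct, M, Matrix.add_apply, Matrix.smul_apply, Matrix.map_apply,
      Pi.zero_apply, coeff_zero, finsetSum_coeff, add_mul, smul_eq_mul, coeff_add, coeff_C_mul,
      mul_assoc, coeff_X_mul_zero, add_zero] at this
    simpa [Matrix.mulVec, dotProduct, c] using this
  have hrel : ∀ n, A₀ *ᵥ c (n + 1) + A₁ *ᵥ c n = 0 := by
    intro n
    funext i
    have := congrArg (fun p => Polynomial.coeff p (n + 1)) (congrFun hv i)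
    simp only [Matrix.mulVec, dotProduct, M, Matrix.add_apply, Matrix.smul_apply, Matrix.map_apply,
      Pi.zero_apply, coeff_zero, finsetSum_coeff, add_mul, smul_eq_mul, coeff_add, coeff_C_mul,
      mul_assoc, coeff_X_mul] at this
    simpa [Matrix.mulVec, dotProduct, c, Finset.sum_add_distrib] using this
  refine ⟨fun n => b.equivFun.symm (c n), ?_, ?_, ?_⟩
  · obtain ⟨j, hj⟩ := Function.ne_iff.mp hv0
    obtain ⟨n, hn⟩ : ∃ n, (v j).coeff n ≠ 0 := by
      by_contra hcon
      push Not at hcon
      exact hj (Polynomial.ext fun n => by simpa using hcon n)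
    refine ⟨n, fun h0 => hn ?_⟩
    have : c n = 0 := by
      have h1 := congrArg b.equivFun h0
      rw [LinearEquiv.apply_symm_apply, map_zero] at h1
      exact h1
    exact congrFun this j
  · apply b.equivFun.injective
    rw [map_zero]
    have := LinearMap.toMatrix_mulVec_repr b b g₀ (b.equivFun.symm (c 0))
    have hr : (b.repr (b.equivFun.symm (c 0)) : Fin _ → K) = c 0 := by
      exact b.equivFun.apply_symm_apply (c 0)
    rw [hr] at this
    change (b.repr (g₀ (b.equivFun.symm (c 0))) : Fin _ → K) = 0
    rw [← this]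
    exact hrel0
  · intro n
    apply b.equivFun.injective
    rw [map_zero, map_add]
    have e0 := LinearMap.toMatrix_mulVec_repr b b g₀ (b.equivFun.symm (c (n + 1)))
    have e1 := LinearMap.toMatrix_mulVec_repr b b g₁ (b.equivFun.symm (c n))
    have hr0 : (b.repr (b.equivFun.symm (c (n + 1))) : Fin _ → K) = c (n + 1) := by
      exact b.equivFun.apply_symm_apply (c (n + 1))
    have hr1 : (b.repr (b.equivFun.symm (c n)) : Fin _ → K) = c n := by
      exact b.equivFun.apply_symm_apply (c n)
    rw [hr0] at e0
    rw [hr1] at e1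
    change (b.repr (g₀ (b.equivFun.symm (c (n + 1)))) : Fin _ → K) +
      (b.repr (g₁ (b.equivFun.symm (c n))) : Fin _ → K) = 0
    rw [← e0, ← e1]
    exact hrel n

/-- Case of two arrows. Over an algebraically closed field K, if a Kronecker module f = (f_0, f_1) with
two arrows between spaces V and W of the same finite dimension k is semistable, then some linear
combination z_0 f_0 + z_1 f_1 of its arrows is a linear isomorphism V → W: for two arrows the
semistable locus of dimension vector (k, k) lies in the open set of modules whose generic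
combination is invertible, for every k. (The published statement, over an algebraically closed field
of characteristic zero, also covers the dimension vectors (1, 1) and (2, 2) for any number of
arrows; this row states the two-arrow case for all k, without the characteristic assumption.) -/
theorem result (K : Type u) [Field K] [IsAlgClosed K]
    (V : Type v) (W : Type w)
    [AddCommGroup V] [Module K V] [FiniteDimensional K V]
    [AddCommGroup W] [Module K W] [FiniteDimensional K W]
    (f : Fin 2 → (V →ₗ[K] W)) (k : ℕ)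
    (hV : Module.finrank K V = k) (hW : Module.finrank K W = k)
    (hf : KronMod.IsSemistable f) :
    ∃ z : Fin 2 → K, Function.Bijective ((∑ j, z j • f j : V →ₗ[K] W) : V → W) := by
  classical
  by_contra hcon
  push Not at hcon
  haveI : Infinite K := IsAlgClosed.instInfinite
  have hk : 0 < k := by
    have := hf.1
    omega
  let e : W ≃ₗ[K] V := LinearEquiv.ofFinrankEq W V (hW.trans hV.symm)
  let g₀ : V →ₗ[K] V := e.toLinearMap ∘ₗ f 0
  let g₁ : V →ₗ[K] V := e.toLinearMap ∘ₗ f 1
  have hdet : ∀ t : K, LinearMap.det (g₀ + t • g₁) = 0 := by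
    intro t
    by_contra hne
    have hu : IsUnit (LinearMap.det (g₀ + t • g₁)) := isUnit_iff_ne_zero.mpr hne
    have hbij : Function.Bijective (g₀ + t • g₁) :=
      (Module.End.isUnit_iff _).mp ((LinearMap.isUnit_iff_isUnit_det _).mpr hu)
    apply hcon ![1, t]
    have hsum : (∑ j, (![1, t] : Fin 2 → K) j • f j : V →ₗ[K] W) = f 0 + t • f 1 := by
      simp [Fin.sum_univ_two]
    rw [hsum]
    have hcomp : ((g₀ + t • g₁ : V →ₗ[K] V) : V → V) = e ∘ ((f 0 + t • f 1 : V →ₗ[K] W) : V → W) := by
      funext x
      simp [g₀, g₁]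
    rw [hcomp] at hbij
    exact (Function.Bijective.of_comp_iff' e.bijective _).mp hbij
  obtain ⟨u, ⟨n₀, hn₀⟩, hu0, hurel⟩ := exists_chain g₀ g₁ hdet
  -- translate to f
  have hf0 : f 0 (u 0) = 0 := by
    apply e.injective
    rw [map_zero]
    exact hu0
  have hfrel : ∀ n, f 1 (u n) = - f 0 (u (n + 1)) := by
    intro n
    apply e.injective
    have := hurel n
    simp only [g₀, g₁, LinearMap.comp_apply, LinearEquiv.coe_coe] at this
    rw [map_neg]
    exact eq_neg_of_add_eq_zero_right this
  -- minimal index
  let a := Nat.find (⟨n₀, hn₀⟩ : ∃ n, u n ≠ 0)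
  have ha : u a ≠ 0 := Nat.find_spec (⟨n₀, hn₀⟩ : ∃ n, u n ≠ 0)
  have hlt : ∀ i, i < a → u i = 0 := fun i hi => by
    by_contra h
    exact Nat.find_min (⟨n₀, hn₀⟩ : ∃ n, u n ≠ 0) hi h
  have hfa : f 0 (u a) = 0 := by
    rcases Nat.eq_zero_or_pos a with h0 | hpos
    · rw [h0]; exact hf0
    · obtain ⟨a', ha'⟩ : ∃ a', a = a' + 1 := ⟨a - 1, by omega⟩
      have h1 := hfrel a'
      rw [hlt a' (by omega), map_zero] at h1
      rw [ha']
      exact neg_eq_zero.mp h1.symm
  let V' : Submodule K V := Submodule.span K (Set.range u)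
  let W' : Submodule K W := V'.map (f 0)
  have hsub : IsSubrep f V' W' := by
    intro j
    fin_cases j
    · exact le_refl _
    · change V'.map (f 1) ≤ W'
      rw [Submodule.map_span, Submodule.span_le]
      rintro _ ⟨_, ⟨n, rfl⟩, rfl⟩
      rw [hfrel n, ← map_neg]
      exact Submodule.mem_map_of_mem (Submodule.neg_mem _ (Submodule.subset_span ⟨n + 1, rfl⟩))
  have huaV' : u a ∈ V' := Submodule.subset_span ⟨a, rfl⟩
  have hdim : Module.finrank K W' < Module.finrank K V' := by
    let φ : V' →ₗ[K] W := (f 0).domRestrict V'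
    have hrange : LinearMap.range φ = W' := LinearMap.range_domRestrict _ _
    have hrn := LinearMap.finrank_range_add_finrank_ker φ
    have hker : 0 < Module.finrank K (LinearMap.ker φ) := by
      rw [Module.finrank_pos_iff_exists_ne_zero]
      refine ⟨⟨⟨u a, huaV'⟩, ?_⟩, ?_⟩
      · rw [LinearMap.mem_ker]
        exact hfa
      · intro h
        apply ha
        have := congrArg (fun x : LinearMap.ker φ => ((x : V') : V)) h
        simpa using this
    rw [hrange] at hrn
    omega
  have h1 : ¬ (V' = ⊥ ∧ W' = ⊥) := by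
    rintro ⟨hV', -⟩
    apply ha
    have : u a ∈ (⊥ : Submodule K V) := hV' ▸ huaV'
    simpa using this
  have h2 : ¬ (V' = ⊤ ∧ W' = ⊤) := by
    rintro ⟨hV', hW'⟩
    rw [hV', hW', finrank_top, finrank_top, hV, hW] at hdim
    exact lt_irrefl _ hdim
  have := hf.2 V' W' hsub h1 h2
  rw [hV, hW] at this
  have := Nat.le_of_mul_le_mul_left this hk
  omega

end Groth.Agent.S19551
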