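import Groth.Statements.S19562
import Mathlib.LinearAlgebra.FiniteDimensional.Lemmas
import Mathlib.RingTheory.Spectrum.Prime.FreeLocus
import Mathlib.LinearAlgebra.Dimension.Constructions
import Mathlib.LinearAlgebra.Dimension.RankNullity

set_option autoImplicit false
universe u
open W4c1limliniiii

namespace Groth.Agent.S19562

open Module in
theorem finrank_map_add {K M : Type*} [Field K] [AddCommGroup M] [Module K M] [FiniteDimensional K M]
    (F : M →ₗ[K] M) (V : Submodule K M) :
    finrank K ↥(V.map F) + finrank K ↥(LinearMap.ker F ⊓ V) = finrank K V := by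
  have := (F.domRestrict V).finrank_range_add_finrank_ker
  rw [LinearMap.range_domRestrict, LinearMap.ker_domRestrict] at this
  rw [← this, ← Submodule.finrank_map_subtype_eq V ((LinearMap.ker F).comap V.subtype),
    Submodule.map_comap_subtype, inf_comm]

open Module in
theorem core {K M : Type*} [Field K] [AddCommGroup M] [Module K M] [FiniteDimensional K M]
    (F G : M →ₗ[K] M) (hFG : F.comp G = 0) (hGF : G.comp F = 0) (V W : Submodule K M) (r : ℕ)
    (hV : finrank K V = r) (hW : finrank K W = r) (hFV : V.map F ≤ W) (hGW : W.map G ≤ V) :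
    (LinearMap.ker G ⊓ W ≤ V.map F ∧ LinearMap.ker F ⊓ V ≤ W.map G) ↔
      finrank K ↥(V.map F) + finrank K ↥(W.map G) = r := by
  have h1 : W.map G ≤ LinearMap.ker F ⊓ V := by
    refine le_inf ?_ hGW
    rintro _ ⟨w, -, rfl⟩
    exact LinearMap.congr_fun hFG w
  have h2 : V.map F ≤ LinearMap.ker G ⊓ W := by
    refine le_inf ?_ hFV
    rintro _ ⟨v, -, rfl⟩
    exact LinearMap.congr_fun hGF v
  have e1 := finrank_map_add F V
  have e2 := finrank_map_add G W
  have m1 := Submodule.finrank_mono h1
  have m2 := Submodule.finrank_mono h2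
  constructor
  · rintro ⟨a, b⟩
    have : W.map G = LinearMap.ker F ⊓ V := le_antisymm h1 b
    rw [this]; omega
  · intro h
    have q1 : W.map G = LinearMap.ker F ⊓ V :=
      Submodule.eq_of_le_of_finrank_eq h1 (by omega)
    have q2 : V.map F = LinearMap.ker G ⊓ W :=
      Submodule.eq_of_le_of_finrank_eq h2 (by omega)
    exact ⟨q2.ge, q1.ge⟩


open TensorProduct in
/-- Let k be a field, 0 < r < d, and f_i, g_i (i < n) linear maps forward and backward between
consecutive ones of n + 1 copies of k^d, forming a linked Grassmannian over Spec k whose scalar s is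
zero: every composite f_i ∘ g_i and g_i ∘ f_i vanishes, rank f_i + rank g_i ≥ d, and for consecutive
indices im f_i ∩ ker f_{i+1} = 0 and im g_{i+1} ∩ ker g_i = 0. Let (V_i) be a k-valued point of the
linked Grassmannian of rank-r sub-bundles (subspaces V_i of k ⊗ k^d with quotient of rank d − r,
with f_i(V_i) ⊆ V_{i+1} and g_i(V_{i+1}) ⊆ V_i). Then (V_i) is exact, meaning ker g_i ∩ V_{i+1} ⊆
f_i(V_i) and ker f_i ∩ V_i ⊆ g_i(V_{i+1}) for all i, if and only if dim f_i(V_i) + dim g_i(V_{i+1})
= r for all i. (The published assertion is for points with values in an arbitrary scheme and also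
says that f_i(V_i) and g_i(V_{i+1}) are then sub-bundles; this row is the case of a field, where the
last clause is empty.) -/
theorem result (k : Type u) [Field k]
    (d r n : ℕ) (hr : 0 < r) (hrd : r < d) (f g : Fin n → ((Fin d → k) →ₗ[k] (Fin d → k)))
    (hI : ∀ i, (f i).comp (g i) = 0 ∧ (g i).comp (f i) = 0)
    (hII : ∀ i, d ≤ Module.finrank k (LinearMap.range (f i)) + Module.finrank k (LinearMap.range (g i)))
    (hIII : ∀ i j : Fin n, i.val + 1 = j.val →
      LinearMap.range (f i) ⊓ LinearMap.ker (f j) = ⊥ ∧
        LinearMap.range (g j) ⊓ LinearMap.ker (g i) = ⊥)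
    (V : Fin (n + 1) → Module.Grassmannian k (k ⊗[k] (Fin d → k)) (d - r))
    (hV : V ∈ W4c1limliniiii.LGPoints k d r n f g k) :
    W4c1limliniiii.IsExact k d r n f g k V ↔
      ∀ i : Fin n,
        Module.finrank k ↥(Submodule.map ((f i).baseChange k) (V i.castSucc).toSubmodule) +
          Module.finrank k ↥(Submodule.map ((g i).baseChange k) (V i.succ).toSubmodule) = r := by
  have hdim : ∀ j, Module.finrank k (V j).toSubmodule = r := by
    intro j
    have h1 := (V j).toSubmodule.finrank_quotient_add_finrank
    have h2 : Module.finrank k ((k ⊗[k] (Fin d → k)) ⧸ (V j).toSubmodule) = d - r := by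
      have := (V j).rankAtStalk_eq ⟨⊥, Ideal.isPrime_bot⟩
      rw [Module.rankAtStalk_eq_finrank_of_free] at this
      exact_mod_cast this
    have h3 : Module.finrank k (k ⊗[k] (Fin d → k)) = d := by
      rw [Module.finrank_baseChange]; simp
    omega
  unfold W4c1limliniiii.IsExact
  refine forall_congr' fun i => ?_
  have hFG : ((f i).baseChange k).comp ((g i).baseChange k) = 0 := by
    rw [← LinearMap.baseChange_comp, (hI i).1, LinearMap.baseChange_zero]
  have hGF : ((g i).baseChange k).comp ((f i).baseChange k) = 0 := by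
    rw [← LinearMap.baseChange_comp, (hI i).2, LinearMap.baseChange_zero]
  exact core _ _ hFG hGF _ _ r (hdim _) (hdim _) (hV i).1 (hV i).2

end Groth.Agent.S19562
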