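import Groth.Statements.S19564
import Mathlib
import Groth.Agent.Lib.Helper25.W2Lift
import Groth.Agent.Lib.Helper25.W2Coeff
import Groth.Agent.Lib.Helper25.QuadricCore
-- import your own Groth.Agent.* helpers here

set_option autoImplicit false
set_option linter.unusedSectionVars false
set_option linter.style.haveILetI false
set_option linter.unusedVariables false
universe u
open scoped BigOperators
open FrobAlg

namespace Groth.Agent.S19564

open Groth.Agent.Lib.Helper26.W2Flat Groth.Agent.Lib.Helper25.W2Lift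
  Groth.Agent.Lib.Helper25.W2Coeff Groth.Agent.Lib.Helper25.QuadricCore Finset

/-- a `p`-th power is a constant modulo the monomial ideal `(x_v^p)` -/
lemma pow_sub_C_mem (p : ℕ) [hp : Fact p.Prime] (k : Type u) [Field k] [CharP k p] (n : ℕ)
    (f : MvPolynomial (Fin n × Fin 2) k) :
    f ^ p - MvPolynomial.C (MvPolynomial.coeff 0 f ^ p) ∈ Jm p k n := by
  induction f using MvPolynomial.induction_on with
  | C a =>
    rw [MvPolynomial.coeff_C, if_pos rfl, map_pow, sub_self]
    exact Ideal.zero_mem _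
  | add f g hf hg =>
    rw [add_pow_char, MvPolynomial.coeff_add, add_pow_char, map_add]
    have : f ^ p + g ^ p - (MvPolynomial.C (MvPolynomial.coeff 0 f ^ p) +
        MvPolynomial.C (MvPolynomial.coeff 0 g ^ p)) =
        (f ^ p - MvPolynomial.C (MvPolynomial.coeff 0 f ^ p)) +
        (g ^ p - MvPolynomial.C (MvPolynomial.coeff 0 g ^ p)) := by ring
    rw [this]
    exact Ideal.add_mem _ hf hg
  | mul_X f v _ =>
    have h0 : MvPolynomial.coeff 0 (f * MvPolynomial.X v) = 0 := by
      rw [MvPolynomial.coeff_mul_X']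
      simp
    rw [h0, zero_pow hp.out.ne_zero, map_zero, sub_zero, mul_pow]
    exact Ideal.mul_mem_left _ _ (X_pow_mem_Jm v)

lemma Jm_le_II (p : ℕ) [hp : Fact p.Prime] (k : Type u) [Field k] [CharP k p] (n : ℕ) :
    Jm p k n ≤ II p k n :=
  Ideal.span_mono (Set.subset_insert _ _)

theorem aux
    (p : ℕ) [Fact p.Prime] (k : Type u) [Field k] [CharP k p] [PerfectRing k p]
    (n : ℕ) (hn : 3 ≤ n) (B' : Type u) [CommRing B'] (ι : FrobAlg.W2 p k →+* B')
    (Iq : Ideal (MvPolynomial (Fin n × Fin 2) k))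
    (hqmem : (∑ j ∈ range n, uu k n j : MvPolynomial (Fin n × Fin 2) k) ∈ Iq)
    (hIq_le : Iq ≤ II p k n)
    (π : B' →+* MvPolynomial (Fin n × Fin 2) k ⧸ Iq)
    (Φ : B' →+* B')
    (hΦ : FrobAlg.IsFrobLift p k (MvPolynomial (Fin n × Fin 2) k ⧸ Iq) B' ι π Φ) : False := by
  have hp2 : 2 ≤ p := (Fact.out : p.Prime).two_le
  have hB := hΦ.toIsLift
  -- lifts of the variables
  choose Xl hXl using fun v : Fin n × Fin 2 =>
    hB.surj (Ideal.Quotient.mk Iq (MvPolynomial.X v))
  set U : ℕ → B' := fun j => if h : j < n then Xl (⟨j, h⟩, 0) * Xl (⟨j, h⟩, 1) else 0 with hU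
  have hπU : ∀ j, π (U j) = Ideal.Quotient.mk Iq (uu k n j) := by
    intro j
    simp only [hU, uu]
    split_ifs with h
    · rw [map_mul, map_mul, hXl, hXl]
    · rw [map_zero, map_zero]
  -- Frobenius on the lifted variables
  have hΦX : ∀ v, ∃ a, tau hB a = Φ (Xl v) - Xl v ^ p := by
    intro v
    apply exists_tau_eq hB
    rw [map_sub, hΦ.red, map_pow, sub_self]
  choose hh hhh using hΦX
  have hΦX' : ∀ v, Φ (Xl v) = Xl v ^ p + tau hB (hh v) := fun v => by rw [hhh]; ring
  -- polynomial lifts of the `hh v`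
  choose ht hht using fun v => Ideal.Quotient.mk_surjective (I := Iq) (hh v)
  -- the sum of the `U j` is `τ g`
  obtain ⟨g, hg⟩ : ∃ g, tau hB g = ∑ j ∈ range n, U j := by
    apply exists_tau_eq hB
    rw [map_sum]
    simp_rw [hπU]
    rw [← map_sum, Ideal.Quotient.eq_zero_iff_mem]
    exact hqmem
  obtain ⟨gt, hgt⟩ := Ideal.Quotient.mk_surjective (I := Iq) g
  have hsum : (∑ j ∈ range n, U j) ^ p = 0 := by
    have h2 : (tau hB g) ^ 2 = 0 := by rw [pow_two, tau_mul_tau]
    rw [← hg]
    exact pow_eq_zero_of_le hp2 h2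
  have key := sum_pow_eq p U n
  rw [hsum, ← tau_pi hB] at key
  -- `Φ (τ g) = τ (g ^ p)`
  have hΦτ : Φ (tau hB g) = tau hB (g ^ p) := by
    obtain ⟨y, rfl⟩ := hB.surj g
    rw [tau_pi, map_mul, map_natCast, ← tau_pi hB, hΦ.red]
  -- `Φ (U j) = U j ^ p + τ (...)`
  set E : ℕ → MvPolynomial (Fin n × Fin 2) k := fun j =>
    if h : j < n then MvPolynomial.X (⟨j, h⟩, 0) ^ p * ht (⟨j, h⟩, 1) +
      MvPolynomial.X (⟨j, h⟩, 1) ^ p * ht (⟨j, h⟩, 0) else 0 with hE
  have hEmem : ∀ j, E j ∈ Jm p k n := by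
    intro j
    simp only [hE]
    split_ifs with h
    · exact Ideal.add_mem _ (Ideal.mul_mem_right _ _ (X_pow_mem_Jm _))
        (Ideal.mul_mem_right _ _ (X_pow_mem_Jm _))
    · exact Ideal.zero_mem _
  have hΦU : ∀ j, Φ (U j) = U j ^ p + tau hB (Ideal.Quotient.mk Iq (E j)) := by
    intro j
    simp only [hU, hE]
    split_ifs with h
    · rw [map_mul, hΦX', hΦX', mul_pow, map_add, map_mul, map_mul, map_pow, map_pow, hht, hht,
        ← hXl, ← hXl, map_add, ← map_pow, ← map_pow, ← mul_tau, ← mul_tau]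
      have := tau_mul_tau hB (hh (⟨j, h⟩, 0)) (hh (⟨j, h⟩, 1))
      linear_combination this
    · rw [map_zero, map_zero, map_zero, zero_pow (by omega), add_zero]
  -- compare
  have hcmp : tau hB (g ^ p) = ∑ j ∈ range n, U j ^ p +
      tau hB (Ideal.Quotient.mk Iq (∑ j ∈ range n, E j)) := by
    rw [← hΦτ, hg, map_sum]
    simp_rw [hΦU]
    rw [Finset.sum_add_distrib, map_sum, map_sum]
  have hfin : tau hB (g ^ p + π (∑ j ∈ range n, QQ p (∑ i ∈ range j, U i) (U j)) -
      Ideal.Quotient.mk Iq (∑ j ∈ range n, E j)) = 0 := by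
    rw [map_sub, map_add, hcmp]
    linear_combination -key
  have hinj := tau_injective hB (hfin.trans (map_zero _).symm)
  have hπH : π (∑ j ∈ range n, QQ p (∑ i ∈ range j, U i) (U j)) =
      Ideal.Quotient.mk Iq (Hn p k n) := by
    rw [Hn, map_sum, map_sum]
    apply Finset.sum_congr rfl
    intro j _
    rw [map_QQ p (Ideal.Quotient.mk Iq), map_QQ p π, map_sum, map_sum]
    simp_rw [hπU]
  rw [hπH, ← hgt, ← map_pow, ← map_add, ← map_sub, Ideal.Quotient.eq_zero_iff_mem] at hinj
  -- now everything in the polynomial ring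
  have h1 : gt ^ p + Hn p k n - ∑ j ∈ range n, E j ∈ II p k n := hIq_le hinj
  have h2 : ∑ j ∈ range n, E j ∈ II p k n :=
    Jm_le_II p k n (Ideal.sum_mem _ fun j _ => hEmem j)
  have h3 : gt ^ p - MvPolynomial.C (MvPolynomial.coeff 0 gt ^ p) ∈ II p k n :=
    Jm_le_II p k n (pow_sub_C_mem p k n gt)
  refine core p k n hn (MvPolynomial.coeff 0 gt ^ p) ?_
  have : Hn p k n + MvPolynomial.C (MvPolynomial.coeff 0 gt ^ p) =
      (gt ^ p + Hn p k n - ∑ j ∈ range n, E j) + ∑ j ∈ range n, E j -
        (gt ^ p - MvPolynomial.C (MvPolynomial.coeff 0 gt ^ p)) := by ring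
  rw [this]
  exact Ideal.sub_mem _ (Ideal.add_mem _ h1 h2) h3

/-- Let k be a perfect field of characteristic p ≥ 3 and n ≥ 3. Then the ordinary double point k[x_1,
y_1, …, x_n, y_n]/(x_1y_1 + ⋯ + x_ny_n), the affine cone over the split quadric in 2n ≥ 6 variables,
admits no flat lifting over W₂(k) compatible with Frobenius (no flat W₂(k)-algebra reducing to it
that carries a ring endomorphism which is σ₂-semilinear and reduces to the p-th power map). (The
published statement is for any number N ≥ 5 of variables and allows arbitrary terms of degree ≥ 3 to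
be added to a non-degenerate quadratic form; this row is the case of the split form in an even
number of variables with nothing added, the case in which the argument is a pure comparison of
homogeneous components.) -/
theorem result
    (p : ℕ) [Fact p.Prime] (hp : 3 ≤ p) (k : Type u) [Field k] [CharP k p] [PerfectRing k p]
    (n : ℕ) (hn : 3 ≤ n) :
    ¬ FrobAlg.IsFLiftable p k
      (MvPolynomial (Fin n × Fin 2) k ⧸ Ideal.span
        {(∑ i : Fin n, MvPolynomial.X (i, (0 : Fin 2)) * MvPolynomial.X (i, (1 : Fin 2)) : MvPolynomial (Fin n × Fin 2) k)}) := by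
  rintro ⟨B', _, ι, π, Φ, hΦ⟩
  refine aux p k n hn B' ι _ ?_ ?_ π Φ hΦ
  · rw [← q_eq]
    exact Ideal.subset_span rfl
  · rw [Ideal.span_le, Set.singleton_subset_iff]
    exact Ideal.subset_span (Set.mem_insert _ _)

end Groth.Agent.S19564
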