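import Groth.Statements.S19567
import Groth.Agent.Lib.Helper12.PairColim
import Groth.Agent.Lib.Helper12.UnramifiedPoint

set_option autoImplicit false
universe u
open Hensel

namespace Groth.Agent.S19567

/-- Let A be a ring and I an ideal of A, and consider étale A-algebras A' for which the induced map A/I
→ A'/IA' is bijective. (1) For any two such algebras A₁ and A₂ there is a third such algebra A₃
admitting A-algebra maps from both. (2) For any two A-algebra maps f, g : A₁ → A₂ between such
algebras there are such an algebra A₃ and an A-algebra map h : A₂ → A₃ with h ∘ f = h ∘ g. (All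
algebras are taken in the universe of A. Since A itself is such an algebra, (1) and (2) say that the
category of these algebras and A-algebra maps is filtered.) -/
theorem result (A : Type u) [CommRing A] (I : Ideal A) :
    (∀ (A₁ A₂ : Type u) [CommRing A₁] [Algebra A A₁] [Algebra.Etale A A₁] [CommRing A₂] [Algebra A A₂]
        [Algebra.Etale A A₂],
        Function.Bijective (Ideal.quotientMap (I.map (algebraMap A A₁)) (algebraMap A A₁) Ideal.le_comap_map) →
        Function.Bijective (Ideal.quotientMap (I.map (algebraMap A A₂)) (algebraMap A A₂) Ideal.le_comap_map) →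
          ∃ (A₃ : Type u) (_ : CommRing A₃) (_ : Algebra A A₃) (_ : Algebra.Etale A A₃),
            Function.Bijective (Ideal.quotientMap (I.map (algebraMap A A₃)) (algebraMap A A₃) Ideal.le_comap_map) ∧
              Nonempty (A₁ →ₐ[A] A₃) ∧ Nonempty (A₂ →ₐ[A] A₃)) ∧
    (∀ (A₁ A₂ : Type u) [CommRing A₁] [Algebra A A₁] [Algebra.Etale A A₁] [CommRing A₂] [Algebra A A₂]
        [Algebra.Etale A A₂],
        Function.Bijective (Ideal.quotientMap (I.map (algebraMap A A₁)) (algebraMap A A₁) Ideal.le_comap_map) →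
        Function.Bijective (Ideal.quotientMap (I.map (algebraMap A A₂)) (algebraMap A A₂) Ideal.le_comap_map) →
          ∀ (f g : A₁ →ₐ[A] A₂),
            ∃ (A₃ : Type u) (_ : CommRing A₃) (_ : Algebra A A₃) (_ : Algebra.Etale A A₃),
              Function.Bijective (Ideal.quotientMap (I.map (algebraMap A A₃)) (algebraMap A A₃) Ideal.le_comap_map) ∧
                ∃ h : A₂ →ₐ[A] A₃, h.comp f = h.comp g) := by
  classical
  constructor
  · intro A₁ A₂ _ _ _ _ _ _ h₁ h₂
    obtain ⟨σ₁, -⟩ := Groth.Agent.Lib.Helper12.PairNbhd.exists_point_of_bijective h₁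
    obtain ⟨σ₂, -⟩ := Groth.Agent.Lib.Helper12.PairNbhd.exists_point_of_bijective h₂
    haveI : Algebra.Etale A (TensorProduct A A₁ A₂) := Algebra.Etale.comp A A₁ (TensorProduct A A₁ A₂)
    let σ : TensorProduct A A₁ A₂ →ₐ[A] A ⧸ I := Algebra.TensorProduct.productMap σ₁ σ₂
    obtain ⟨c₀, hc₀1, hc₀⟩ := Groth.Agent.Lib.Helper12.PairNbhd.exists_ker_mul_mem
      (TensorProduct A A₁ A₂) σ
    have hu : IsUnit (σ c₀) := by rw [hc₀1]; exact isUnit_one
    refine ⟨Localization.Away c₀, inferInstance, inferInstance, inferInstance, ?_, ?_, ?_⟩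
    · apply Groth.Agent.Lib.Helper12.PairNbhd.away_quotient_bijective σ c₀ hu
      intro x hx
      exact ⟨1, by rw [pow_one]; exact hc₀ x hx⟩
    · exact ⟨(IsScalarTower.toAlgHom A (TensorProduct A A₁ A₂) (Localization.Away c₀)).comp
        Algebra.TensorProduct.includeLeft⟩
    · exact ⟨(IsScalarTower.toAlgHom A (TensorProduct A A₁ A₂) (Localization.Away c₀)).comp
        Algebra.TensorProduct.includeRight⟩
  · intro A₁ A₂ _ _ _ _ _ _ h₁ h₂ f g
    obtain ⟨σ₂, hσ₂⟩ := Groth.Agent.Lib.Helper12.PairNbhd.exists_point_of_bijective h₂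
    obtain ⟨e, he, hsp⟩ := Groth.Agent.Lib.Helper12.exists_idempotent_kaehlerIdeal A A₁
    let μ : TensorProduct A A₁ A₁ →ₐ[A] A₂ :=
      Algebra.TensorProduct.lift f g (fun _ _ => Commute.all _ _)
    have hμt : ∀ x y : A₁, μ (x ⊗ₜ[A] y) = f x * g y := fun x y =>
      Algebra.TensorProduct.lift_tmul _ _ _ _ _
    -- `μ` maps the diagonal ideal into `I A₂`
    have hμ : ∀ z ∈ KaehlerDifferential.ideal A A₁, μ z ∈ I.map (algebraMap A A₂) := by
      rw [← KaehlerDifferential.span_range_eq_ideal]
      intro z hz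
      have hle : Ideal.span (Set.range fun s : A₁ => (1 : A₁) ⊗ₜ[A] s - s ⊗ₜ[A] (1 : A₁)) ≤
          (I.map (algebraMap A A₂)).comap (μ : TensorProduct A A₁ A₁ →+* A₂) := by
        rw [Ideal.span_le]
        rintro _ ⟨s, rfl⟩
        show μ ((1 : A₁) ⊗ₜ[A] s - s ⊗ₜ[A] (1 : A₁)) ∈ I.map (algebraMap A A₂)
        rw [map_sub, hμt, hμt, map_one, map_one, one_mul, mul_one]
        exact Groth.Agent.Lib.Helper12.PairNbhd.sub_mem_of_bijective h₁ g f s
      exact hle hz
    have hεI : μ e ∈ I.map (algebraMap A A₂) := hμ e (hsp ▸ Ideal.mem_span_singleton_self e)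
    have hεidem : IsIdempotentElem (μ e) := he.map μ
    have hσε : σ₂ (μ e) = 0 := (hσ₂ _).mpr hεI
    have hu : IsUnit (σ₂ (1 - μ e)) := by
      rw [map_sub, map_one, hσε, sub_zero]
      exact isUnit_one
    refine ⟨Localization.Away (1 - μ e), inferInstance, inferInstance, inferInstance, ?_,
      IsScalarTower.toAlgHom A A₂ (Localization.Away (1 - μ e)), ?_⟩
    · apply Groth.Agent.Lib.Helper12.PairNbhd.away_quotient_bijective σ₂ (1 - μ e) hu
      intro x hx
      exact ⟨0, by rw [pow_zero, mul_one]; exact (hσ₂ x).mp hx⟩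
    · -- `μ e` dies in the localization
      have hε0 : algebraMap A₂ (Localization.Away (1 - μ e)) (μ e) = 0 := by
        rw [IsLocalization.map_eq_zero_iff (Submonoid.powers (1 - μ e))]
        refine ⟨⟨1 - μ e, Submonoid.mem_powers _⟩, ?_⟩
        show (1 - μ e) * μ e = 0
        rw [sub_mul, one_mul, hεidem.eq, sub_self]
      ext x
      show algebraMap A₂ (Localization.Away (1 - μ e)) (f x) =
        algebraMap A₂ (Localization.Away (1 - μ e)) (g x)
      have hx : (1 : A₁) ⊗ₜ[A] x - x ⊗ₜ[A] (1 : A₁) ∈ KaehlerDifferential.ideal A A₁ :=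
        KaehlerDifferential.one_smul_sub_smul_one_mem_ideal A x
      rw [hsp, Ideal.mem_span_singleton'] at hx
      obtain ⟨c, hc⟩ := hx
      have := congrArg (fun z => algebraMap A₂ (Localization.Away (1 - μ e)) (μ z)) hc
      simp only [map_mul, hε0, mul_zero, map_sub, hμt, map_one, one_mul, mul_one] at this
      exact (sub_eq_zero.mp this.symm).symm

end Groth.Agent.S19567
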