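import Groth.Statements.S1957
import Groth.Agent.Lib.Helper17.EtaleFactor
import Mathlib

set_option autoImplicit false
universe u
open Polynomial
open EtAlg

namespace Groth.Agent.S1957

/-- Let A be a ring, I an ideal and f a monic polynomial over A. Suppose the image of f in (A/I)[x]
factors as g h where the leading coefficient of g is a unit and g, h generate the unit ideal. Then
there is an etale A-algebra A' such that A/I -> A'/IA' is bijective, together with a factorization f
= g' h' in A'[x] whose reduction modulo IA' is the image of the given one. -/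
theorem result (A : Type u) [CommRing A] (I : Ideal A) (f : A[X]) (hf : f.Monic)
    (g h : (A ⧸ I)[X]) (hgh : f.map (Ideal.Quotient.mk I) = g * h) (hlead : IsUnit g.leadingCoeff)
    (hcop : IsCoprime g h) :
    ∃ (A' : Type u) (_ : CommRing A') (_ : Algebra A A') (_ : Algebra.Etale A A'),
      Function.Bijective (Ideal.quotientMap (I.map (algebraMap A A')) (algebraMap A A') Ideal.le_comap_map) ∧
      ∃ g' h' : A'[X], f.map (algebraMap A A') = g' * h' ∧
        g'.map (Ideal.Quotient.mk (I.map (algebraMap A A'))) =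
          g.map (Ideal.quotientMap (I.map (algebraMap A A')) (algebraMap A A') Ideal.le_comap_map) ∧
        h'.map (Ideal.Quotient.mk (I.map (algebraMap A A'))) =
          h.map (Ideal.quotientMap (I.map (algebraMap A A')) (algebraMap A A') Ideal.le_comap_map) := by
  obtain ⟨c, hc⟩ := hlead.exists_right_inv
  set u := g.leadingCoeff with hu
  obtain ⟨u₀, hu₀⟩ := Ideal.Quotient.mk_surjective u
  have hcu : c * u = 1 := by rw [mul_comm]; exact hc
  have hg₀ : (C c * g).Monic := monic_C_mul_of_mul_leadingCoeff_eq_one hcu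
  have hprod : f.map (Ideal.Quotient.mk I) = (C c * g) * (C u * h) := by
    rw [hgh]
    have : C c * g * (C u * h) = C (c * u) * (g * h) := by rw [C_mul]; ring
    rw [this, hcu, C_1, one_mul]
  have hh₀ : (C u * h).Monic := by
    have := hf.map (Ideal.Quotient.mk I)
    rw [hprod] at this
    exact hg₀.of_mul_monic_left this
  have hcop₀ : IsCoprime (C c * g) (C u * h) := by
    obtain ⟨a, b, hab⟩ := hcop
    refine ⟨a * C u, b * C c, ?_⟩
    have e1 : a * C u * (C c * g) = C (c * u) * (a * g) := by rw [C_mul]; ring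
    have e2 : b * C c * (C u * h) = C (c * u) * (b * h) := by rw [C_mul]; ring
    rw [e1, e2, hcu, C_1, one_mul, one_mul, hab]
  obtain ⟨A', i1, i2, het, hbij, hunit, g₀', h₀', -, -, -, hfac, hr1, hr2⟩ :=
    Groth.Agent.Lib.Helper17.EtaleFactor.exists_etale_lift_factor' I f hf _ _ hg₀ hh₀ hcop₀ hprod
      u₀ (by rw [hu₀]; exact hlead)
  have hι : (algebraMap (A ⧸ I) (A' ⧸ I.map (algebraMap A A'))) =
      Ideal.quotientMap (I.map (algebraMap A A')) (algebraMap A A') Ideal.le_comap_map := rfl
  rw [hι] at hbij hr1 hr2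
  obtain ⟨w', hw'⟩ := hunit.exists_right_inv
  set w := algebraMap A A' u₀ with hw
  set ι := Ideal.quotientMap (I.map (algebraMap A A')) (algebraMap A A') Ideal.le_comap_map with hιdef
  have hmkw : Ideal.Quotient.mk (I.map (algebraMap A A')) w = ι u := by
    rw [← hu₀, hιdef, Ideal.quotientMap_mk]
  have hmkw' : Ideal.Quotient.mk (I.map (algebraMap A A')) w' * ι u = 1 := by
    rw [← hmkw, ← map_mul, mul_comm, hw', map_one]
  refine ⟨A', i1, i2, het, hbij, C w * g₀', C w' * h₀', ?_, ?_, ?_⟩
  · rw [hfac]
    have : C w * g₀' * (C w' * h₀') = C (w * w') * (g₀' * h₀') := by rw [C_mul]; ring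
    rw [this, hw', C_1, one_mul]
  · rw [Polynomial.map_mul, map_C, hr1, Polynomial.map_mul, map_C, hmkw, ← mul_assoc, ← C_mul,
      ← map_mul, hc, map_one, C_1, one_mul]
  · rw [Polynomial.map_mul, map_C, hr2, Polynomial.map_mul, map_C, ← mul_assoc, ← C_mul,
      hmkw', C_1, one_mul]

end Groth.Agent.S1957
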