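import Groth.Statements.S19576
import Groth.Agent.Lib.Helper9.EtaPt2
import Groth.Agent.S13829
import Mathlib.RingTheory.Ideal.Operations

set_option autoImplicit false
universe u
open EtaPt

namespace Groth.Agent.S19576

open Groth.Agent.Lib.Helper9.EtaPt

/-- Let η be the field-endofunctor datum of the pointwise construction, A a commutative ring with
finitely many minimal prime ideals and φ : A → B a ring map inducing a surjection on prime spectra.
If finitely many elements f_1, …, f_n of A generate the unit ideal and, for each i, the canonical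
map A_{f_i} → (B_{f_i}/A_{f_i})_η attached to the localized map A_{f_i} → B_{φ(f_i)} is bijective,
then the canonical map A → (B/A)_η is bijective. -/
theorem result (η : EtaPt.FieldEndo.{u}) {A B : Type u} [CommRing A] [CommRing B]
    (hA : (minimalPrimes A).Finite) (φ : A →+* B) (hs : Function.Surjective (PrimeSpectrum.comap φ))
    (s : Finset A) (hspan : Ideal.span (s : Set A) = ⊤)
    (h : ∀ f ∈ s, Function.Bijective (η.qRel (Localization.awayMap φ f))) :
    Function.Bijective (η.qRel φ) := by
  rw [qRel_bijective_iff]
  constructor
  · rw [injective_iff_map_eq_zero]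
    intro a ha
    have : a ∈ (⊥ : Submodule A A) := by
      apply Submodule.mem_of_span_eq_top_of_smul_pow_mem _ (s : Set A) hspan
      rintro ⟨f, hf⟩
      have hf' := ((qRel_bijective_iff η _).mp (h f hf)).1
      rw [Localization.awayMap_injective_iff] at hf'
      obtain ⟨n, hn⟩ := hf' a ha
      exact ⟨n, by rw [Submodule.mem_bot, smul_eq_mul]; exact hn⟩
    exact this
  · intro b hb
    letI : Algebra A B := φ.toAlgebra
    have : b ∈ LinearMap.range (Algebra.linearMap A B) := by
      apply Submodule.mem_of_span_eq_top_of_smul_pow_mem _ (s : Set A) hspan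
      rintro ⟨f, hf⟩
      have hsq : (Localization.awayMap φ f).comp (algebraMap A (Localization.Away f)) =
          (algebraMap B (Localization.Away (φ f))).comp φ := IsLocalization.map_comp _
      have hsq' : ∀ a, Localization.awayMap φ f (algebraMap A (Localization.Away f) a) =
          algebraMap B (Localization.Away (φ f)) (φ a) :=
        fun a => congrArg (fun ψ => ψ a) (congrArg DFunLike.coe hsq)
      have hf' := ((qRel_bijective_iff η _).mp (h f hf)).2
      have hb' : algebraMap B (Localization.Away (φ f)) b ∈ η.rel (Localization.awayMap φ f) :=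
        (Groth.Agent.S13829.result η hA φ hs f).1 ⟨b, hb, rfl⟩
      obtain ⟨w, hw⟩ := hf' _ hb'
      obtain ⟨⟨a, ⟨_, n, rfl⟩⟩, hwa⟩ := IsLocalization.surj (Submonoid.powers f) w
      have hwa' : w * algebraMap A (Localization.Away f) (f ^ n) =
          algebraMap A (Localization.Away f) a := hwa
      have h1 : algebraMap B (Localization.Away (φ f)) (b * φ f ^ n) =
          algebraMap B (Localization.Away (φ f)) (φ a) := by
        rw [map_mul, ← hw, ← hsq' a, ← hwa', map_mul, hsq', map_pow, map_pow, map_pow]
      obtain ⟨⟨_, k, rfl⟩, hk⟩ := (IsLocalization.eq_iff_exists (Submonoid.powers (φ f)) _).mp h1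
      have hk' : φ f ^ k * (b * φ f ^ n) = φ f ^ k * φ a := hk
      refine ⟨k + n, f ^ k * a, ?_⟩
      rw [Algebra.smul_def]
      change φ (f ^ k * a) = φ (f ^ (k + n)) * b
      rw [map_mul, map_pow, map_pow, ← hk', pow_add]
      ring
    obtain ⟨a, ha⟩ := this
    exact ⟨a, ha⟩

end Groth.Agent.S19576
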