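import Groth.Statements.S19577
import Groth.Agent.Lib.Helper9.EtaPt4
import Groth.Agent.S13802
import Groth.Agent.S13803

set_option autoImplicit false
universe u
open EtaPt

namespace Groth.Agent.S19577

open Groth.Agent.Lib.Helper9.EtaPt in
theorem comp_eq (η : EtaPt.FieldEndo.{u}) {A B : Type u} [CommRing A] [CommRing B] (f : A →+* B)
    (g : η.M A →+* η.M B) (hg : ∀ x : η.M A, ((g x : η.M B) : η.N B) = η.Nmap f (x : η.N A)) :
    g.comp (η.q A) = (η.q B).comp f := by
  refine RingHom.ext fun a => Subtype.ext ?_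
  change ((g (η.q A a) : η.M B) : η.N B) = η.t B (f a)
  rw [hg]
  exact η.Nmap_t_apply f a

/-- Let f : A → B be a homomorphism of commutative rings, each with only finitely many minimal primes.
Then M_η(f) : M_η(A) → M_η(B) is integral exactly when f is integral, and Spec M_η(f) is surjective
exactly when Spec f is. Here η is the field-endofunctor datum of the pointwise construction, M_η(A)
⊆ ∏_p F(k(p)) the subring attached to A with q_A : A → M_η(A), and M_η(f) : M_η(A) → M_η(B) the ring
map induced by N_η(f), pinned here as the ring map g compatible with N_η(f) under the two subring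
inclusions. -/
theorem result (η : EtaPt.FieldEndo.{u}) {A B : Type u} [CommRing A] [CommRing B]
    (hA : (minimalPrimes A).Finite) (hB : (minimalPrimes B).Finite) (f : A →+* B)
    (g : η.M A →+* η.M B) (hg : ∀ x : η.M A, ((g x : η.M B) : η.N B) = η.Nmap f (x : η.N A)) :
    (f.IsIntegral ↔ g.IsIntegral) ∧
      (Function.Surjective (PrimeSpectrum.comap f) ↔ Function.Surjective (PrimeSpectrum.comap g)) := by

  have hcomp := comp_eq η f g hg
  have hqA := Groth.Agent.S13802.result η A hA
  have hqB := Groth.Agent.S13802.result η B hB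
  have hcA := (Groth.Agent.S13803.result η A hA).1
  have hcB := (Groth.Agent.S13803.result η B hB).1
  have hcomap : ∀ Q : PrimeSpectrum (η.M B),
      PrimeSpectrum.comap (η.q A) (PrimeSpectrum.comap g Q) =
        PrimeSpectrum.comap f (PrimeSpectrum.comap (η.q B) Q) := by
    intro Q
    apply PrimeSpectrum.ext
    change Ideal.comap (η.q A) (Ideal.comap g Q.asIdeal) = Ideal.comap f (Ideal.comap (η.q B) Q.asIdeal)
    rw [Ideal.comap_comap, Ideal.comap_comap, hcomp]
  refine ⟨⟨?_, ?_⟩, ⟨?_, ?_⟩⟩
  · intro hf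
    have h1 : ((η.q B).comp f).IsIntegral := hf.trans _ _ hqB
    rw [← hcomp] at h1
    exact RingHom.IsIntegral.tower_top (η.q A) g h1
  · intro hgi
    have h1 : (g.comp (η.q A)).IsIntegral := hqA.trans _ _ hgi
    rw [hcomp] at h1
    intro b
    obtain ⟨P, hP, hP0⟩ := h1 (η.q B b)
    have h2 : η.q B (Polynomial.eval₂ f b P) = 0 := by
      rw [Polynomial.hom_eval₂]
      exact hP0
    have h3 : η.t B (Polynomial.eval₂ f b P) = 0 := congrArg Subtype.val h2
    obtain ⟨N, hN⟩ := Groth.Agent.Lib.Helper9.EtaPt.isNilpotent_of_t_eq_zero η _ h3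
    by_cases hN0 : N = 0
    · subst hN0
      rw [pow_zero] at hN
      haveI : Subsingleton B := subsingleton_of_zero_eq_one hN.symm
      exact ⟨1, Polynomial.monic_one, Subsingleton.elim _ _⟩
    · refine ⟨P ^ N, hP.pow N, ?_⟩
      rw [Polynomial.eval₂_pow, hN]
  · intro hf Q
    obtain ⟨Q'', hQ''⟩ := hf (PrimeSpectrum.comap (η.q A) Q)
    obtain ⟨Q₃, rfl⟩ := hcB.2 Q''
    refine ⟨Q₃, hcA.1 ?_⟩
    rw [hcomap, hQ'']
  · intro hgs P
    obtain ⟨P', rfl⟩ := hcA.2 P
    obtain ⟨Q, rfl⟩ := hgs P'
    exact ⟨PrimeSpectrum.comap (η.q B) Q, (hcomap Q).symm⟩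

end Groth.Agent.S19577
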