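import Groth.Statements.S19578
import Groth.Agent.Lib.Helper9.EtaPt4
import Groth.Agent.S13803

set_option autoImplicit false
universe u
open EtaPt

namespace Groth.Agent.S19578

open Groth.Agent.Lib.Helper9.EtaPt in
theorem comp_eq (η : EtaPt.FieldEndo.{u}) {A B : Type u} [CommRing A] [CommRing B] (f : A →+* B)
    (g : η.M A →+* η.M B) (hg : ∀ x : η.M A, ((g x : η.M B) : η.N B) = η.Nmap f (x : η.N A)) :
    g.comp (η.q A) = (η.q B).comp f := by
  refine RingHom.ext fun a => Subtype.ext ?_
  change ((g (η.q A a) : η.M B) : η.N B) = η.t B (f a)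
  rw [hg]
  exact η.Nmap_t_apply f a

theorem aux (η : EtaPt.FieldEndo.{u}) {A MA MB B : Type u} [CommRing A] [CommRing MA] [CommRing MB]
    [CommRing B] (qA : A →+* MA) (g : MA →+* MB) (qB : B →+* MB) (f : A →+* B)
    (hcomp : g.comp qA = qB.comp f) (hg : Function.Bijective g)
    (Q' : Ideal MB) [Q'.IsPrime] (𝔮 : Ideal MA) [𝔮.IsPrime] (Qb : Ideal B) [Qb.IsPrime]
    (P : Ideal A) [P.IsPrime]
    (h𝔮 : 𝔮 = Q'.comap g) (hQb : Qb = Q'.comap qB) (hP₁ : P = 𝔮.comap qA) (hP₂ : P = Qb.comap f)
    (φA : 𝔮.ResidueField →+* η.obj P.ResidueField)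
    (hφA : φA.comp (Ideal.ResidueField.map P 𝔮 qA hP₁) = η.eta P.ResidueField) :
    ∃ φ : Qb.ResidueField →+* η.obj P.ResidueField,
      φ.comp (Ideal.ResidueField.map P Qb f hP₂) = η.eta P.ResidueField := by
  have hgb : Function.Bijective (Ideal.ResidueField.map 𝔮 Q' g h𝔮) :=
    RingHom.SurjectiveOnStalks.residueFieldMap_bijective
      (RingHom.surjectiveOnStalks_of_surjective hg.2) _ _ h𝔮
  let ι := RingEquiv.ofBijective _ hgb
  refine ⟨(φA.comp ι.symm.toRingHom).comp (Ideal.ResidueField.map Qb Q' qB hQb), ?_⟩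
  apply Ideal.ResidueField.ringHom_ext
  refine RingHom.ext fun a => ?_
  simp only [RingHom.comp_apply]
  rw [Ideal.ResidueField.map_algebraMap, Ideal.ResidueField.map_algebraMap]
  have h1 : qB (f a) = g (qA a) := (congrArg (fun ψ : A →+* MB => ψ a) hcomp).symm
  have h2 : algebraMap MB Q'.ResidueField (qB (f a)) = ι (algebraMap MA 𝔮.ResidueField (qA a)) := by
    rw [h1]
    exact (Ideal.ResidueField.map_algebraMap 𝔮 Q' g h𝔮 (qA a)).symm
  rw [h2]
  have h3 : ι.symm.toRingHom (ι (algebraMap MA 𝔮.ResidueField (qA a))) =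
      algebraMap MA 𝔮.ResidueField (qA a) := ι.symm_apply_apply _
  rw [h3, ← Ideal.ResidueField.map_algebraMap P 𝔮 qA hP₁ a]
  exact congrArg (fun ψ : P.ResidueField →+* η.obj P.ResidueField => ψ (algebraMap A _ a)) hφA

/-- Let f : A → B be a homomorphism of commutative rings, each with only finitely many minimal primes,
and suppose the induced map M_η(f) : M_η(A) → M_η(B) is an isomorphism. Then Spec f is a bijection
between the prime ideals of B and of A, and for every prime q of B, with p = f⁻¹(q), there is a ring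
map φ : k(q) → F(k(p)) whose composite with the residue field map k(p) → k(q) equals η_{k(p)}. Here
η is the field-endofunctor datum of the pointwise construction, M_η(A) ⊆ ∏_p F(k(p)) the subring
attached to A with q_A : A → M_η(A), and M_η(f) : M_η(A) → M_η(B) the ring map induced by N_η(f),
pinned here as the ring map g compatible with N_η(f) under the two subring inclusions. -/
theorem result (η : EtaPt.FieldEndo.{u}) {A B : Type u} [CommRing A] [CommRing B]
    (hA : (minimalPrimes A).Finite) (hB : (minimalPrimes B).Finite) (f : A →+* B)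
    (g : η.M A →+* η.M B) (hg : ∀ x : η.M A, ((g x : η.M B) : η.N B) = η.Nmap f (x : η.N A))
    (hbij : Function.Bijective g) :
    Function.Bijective (PrimeSpectrum.comap f) ∧
      ∀ Q : PrimeSpectrum B,
        ∃ φ : Q.asIdeal.ResidueField →+* η.obj (PrimeSpectrum.comap f Q).asIdeal.ResidueField,
          φ.comp (Ideal.ResidueField.map (PrimeSpectrum.comap f Q).asIdeal Q.asIdeal f rfl) =
            η.eta (PrimeSpectrum.comap f Q).asIdeal.ResidueField := by

  have hcomp := comp_eq η f g hg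
  have hcA := Groth.Agent.S13803.result η A hA
  have hcB := Groth.Agent.S13803.result η B hB
  have hcomap : ∀ Q : PrimeSpectrum (η.M B),
      PrimeSpectrum.comap (η.q A) (PrimeSpectrum.comap g Q) =
        PrimeSpectrum.comap f (PrimeSpectrum.comap (η.q B) Q) := by
    intro Q
    apply PrimeSpectrum.ext
    change Ideal.comap (η.q A) (Ideal.comap g Q.asIdeal) = Ideal.comap f (Ideal.comap (η.q B) Q.asIdeal)
    rw [Ideal.comap_comap, Ideal.comap_comap, hcomp]
  let e : η.M A ≃+* η.M B := RingEquiv.ofBijective g hbij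
  have hgc : Function.Bijective (PrimeSpectrum.comap g) := by
    constructor
    · intro Q₁ Q₂ h
      apply PrimeSpectrum.ext
      have h' : Ideal.comap g Q₁.asIdeal = Ideal.comap g Q₂.asIdeal :=
        congrArg PrimeSpectrum.asIdeal h
      rw [← Ideal.map_comap_of_surjective g hbij.2 Q₁.asIdeal,
        ← Ideal.map_comap_of_surjective g hbij.2 Q₂.asIdeal, h']
    · intro P
      refine ⟨PrimeSpectrum.comap (e.symm : η.M B →+* η.M A) P, ?_⟩
      apply PrimeSpectrum.ext
      change Ideal.comap g (Ideal.comap (e.symm : η.M B →+* η.M A) P.asIdeal) = P.asIdeal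
      rw [Ideal.comap_comap]
      have : (e.symm : η.M B →+* η.M A).comp g = RingHom.id _ := by
        refine RingHom.ext fun x => ?_
        exact e.symm_apply_apply x
      rw [this, Ideal.comap_id]
  refine ⟨⟨?_, ?_⟩, ?_⟩
  · intro Q₁ Q₂ h
    obtain ⟨Q₁', rfl⟩ := hcB.1.2 Q₁
    obtain ⟨Q₂', rfl⟩ := hcB.1.2 Q₂
    rw [← hcomap, ← hcomap] at h
    rw [hgc.1 (hcA.1.1 h)]
  · intro P
    obtain ⟨P', rfl⟩ := hcA.1.2 P
    obtain ⟨Q, rfl⟩ := hgc.2 P'
    exact ⟨PrimeSpectrum.comap (η.q B) Q, (hcomap Q).symm⟩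
  · intro Q
    obtain ⟨Q', rfl⟩ := hcB.1.2 Q
    have key : ∀ (P : Ideal A) [P.IsPrime]
        (hP₁ : P = Ideal.comap (η.q A) (PrimeSpectrum.comap g Q').asIdeal)
        (hP₂ : P = Ideal.comap f (PrimeSpectrum.comap (η.q B) Q').asIdeal),
        ∃ φ : (PrimeSpectrum.comap (η.q B) Q').asIdeal.ResidueField →+* η.obj P.ResidueField,
          φ.comp (Ideal.ResidueField.map P (PrimeSpectrum.comap (η.q B) Q').asIdeal f hP₂) =
            η.eta P.ResidueField := by
      intro P _ hP₁ hP₂
      subst hP₁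
      obtain ⟨φA, hφA⟩ := hcA.2 (PrimeSpectrum.comap g Q')
      exact aux η (η.q A) g (η.q B) f hcomp hbij Q'.asIdeal (PrimeSpectrum.comap g Q').asIdeal
        (PrimeSpectrum.comap (η.q B) Q').asIdeal _ rfl rfl rfl hP₂ φA hφA
    exact key _ (congrArg PrimeSpectrum.asIdeal (hcomap Q').symm) rfl

end Groth.Agent.S19578
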