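import Groth.Statements.S1958
import Groth.Agent.Lib.Helper12.PairUniv
import Groth.Agent.Lib.Helper12.PairUnique

set_option autoImplicit false
universe u
open EtAlg

namespace Groth.Agent.S1958

/-- Let (A, I) be a pair and B a henselization of it (universal henselian pair under (A, I)). Then B is
flat over A and for every n the map A/I^n -> B/I^n B is bijective. -/
theorem result (A : Type u) [CommRing A] (I : Ideal A) (B : Type u) [CommRing B]
    [Algebra A B] (hB : Hens2.IsPairHenselization A I B) :
    Module.Flat A B ∧ ∀ n : ℕ, Function.Bijective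
      (Ideal.quotientMap ((I ^ n).map (algebraMap A B)) (algebraMap A B) Ideal.le_comap_map) := by
  refine ⟨?_, fun n => Groth.Agent.Lib.Helper12.PairUnique.quotientMap_pow_bijective hB n⟩
  obtain ⟨e⟩ := Groth.Agent.Lib.Helper12.PairUnique.nonempty_algEquiv
    (Groth.Agent.Lib.Helper12.PairNbhd.Lim.isPairHenselization A I) hB
  exact Module.Flat.of_linearEquiv e.toLinearEquiv.symm

end Groth.Agent.S1958
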