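import Groth.Statements.S19586
import Groth.Agent.Lib.Helper5.JacB
import Groth.Agent.Lib.Helper5.JacC

set_option autoImplicit false
universe u
open KaehlerDifferential
open LocInt

namespace Groth.Agent.S19586

/-- Let A → B be a smooth ring map with Ω_{B/A} of rank n at every prime of B, g ∈ B a nonzerodivisor
and R = B/gB, so that Spec R is a hypersurface of virtual relative dimension n − 1 over Spec A. Let
J ⊆ R be the annihilator of the n-th exterior power of Ω_{R/A} and Z = V(J) ⊆ Spec R. Then the
underlying set of Z is exactly the set of primes at which R is not smooth over A: for a prime p of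
R, J ⊆ p if and only if the localization R_p is not formally smooth over A. -/
theorem result (A B R : Type u) [CommRing A] [CommRing B] [CommRing R]
    [Algebra A B] [Algebra B R] [Algebra A R] [IsScalarTower A B R] [Algebra.Smooth A B] (n : ℕ)
    (hn : ∀ p : PrimeSpectrum B, Module.rankAtStalk (Ω[B⁄A]) p = n)
    (g : B) (hg : IsSMulRegular B g) (hsurj : Function.Surjective (algebraMap B R))
    (hker : RingHom.ker (algebraMap B R) = Ideal.span {g}) (p : PrimeSpectrum R) :
    (⋀[R]^n (Ω[R⁄A])).annihilator ≤ p.asIdeal ↔ p ∉ Algebra.smoothLocus A R := by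
  have hFT : Algebra.FiniteType A R :=
    Algebra.FiniteType.of_surjective (IsScalarTower.toAlgHom A B R) hsurj
  rw [Groth.Agent.Lib.Helper5.Jac.annihilator_exteriorPower_le_iff]
  have hreg0 : CAlgX.IsH1Regular (![g] : Fin 1 → B) := by
    intro a ha
    have h0 : a 0 = 0 := by
      have h1 : g • a 0 = g • (0 : B) := by
        simpa [mul_comm] using ha
      exact hg h1
    have : a = 0 := by
      funext i
      fin_cases i
      exact h0
    rw [this]
    exact zero_mem _
  have hreg : CAlgX.IsH1Regular (fun i : Fin 1 =>
      algebraMap B (Localization.AtPrime (p.asIdeal.comap (algebraMap B R))) ((![g] : Fin 1 → B) i)) :=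
    Groth.Agent.Lib.Helper29.H1Alg.isH1Regular_map_of_flat _ hreg0
  have hker' : RingHom.ker (algebraMap B R) = Ideal.span (Set.range (![g] : Fin 1 → B)) := by
    rw [hker]
    congr 1
    ext x
    simp
  have key := Groth.Agent.Lib.Helper5.Jac.isSmoothAt_iff_finrank (A := A) (P := B) (B := R) hsurj
    (![g] : Fin 1 → B) hker' p.asIdeal (p.asIdeal.comap (algebraMap B R)) rfl hreg
  rw [hn] at key
  change _ ↔ ¬ Algebra.IsSmoothAt A p.asIdeal
  rw [key]
  omega

end Groth.Agent.S19586
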