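import Groth.Statements.S19589
import Mathlib.LinearAlgebra.Contraction
import Mathlib.LinearAlgebra.Dual.Lemmas
import Mathlib.RingTheory.Finiteness.Projective
import Mathlib.RingTheory.TensorProduct.Finite

set_option autoImplicit false
universe u v
open Brauer

namespace Groth.Agent.S19589

open TensorProduct MulOpposite

section
variable {R : Type u} [CommRing R] {P : Type v} [AddCommGroup P] [Module R P]
  {n : ℕ} (p : Fin n → P) (φ : Fin n → (P →ₗ[R] R))

/-- elementary endomorphisms attached to a dual basis -/
def E (i j : Fin n) : Module.End R P := (φ j).smulRight (p i)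

lemma E_apply (i j : Fin n) (y : P) : E p φ i j y = φ j y • p i := rfl

variable (hexp : ∀ x : P, x = ∑ i, φ i x • p i)
include hexp

lemma sum_E_diag : ∑ i, E p φ i i = (1 : Module.End R P) := by
  ext y
  rw [LinearMap.sum_apply]
  simp only [E_apply]
  exact (hexp y).symm

lemma expand (x : Module.End R P) : x = ∑ i, ∑ j, φ i (x (p j)) • E p φ i j := by
  ext y
  simp only [LinearMap.sum_apply, LinearMap.smul_apply, E_apply]
  conv_lhs => rw [hexp y, map_sum]
  simp only [map_smul]
  conv_lhs =>
    enter [2, j]
    rw [hexp (x (p j)), Finset.smul_sum]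
  rw [Finset.sum_comm]
  refine Finset.sum_congr rfl fun i _ => Finset.sum_congr rfl fun j _ => ?_
  rw [smul_smul, smul_smul, mul_comm]

omit hexp in
lemma E_mul_mul_E (i j k l : Fin n) (b : Module.End R P) :
    E p φ i j * b * E p φ k l = φ j (b (p k)) • E p φ i l := by
  ext y
  simp only [Module.End.mul_apply, E_apply, LinearMap.smul_apply, map_smul]
  rw [smul_smul, smul_smul, mul_comm]

end

section
variable {R : Type u} [CommRing R] {P : Type v} [AddCommGroup P] [Module R P]
  {n : ℕ} (p : Fin n → P) (φ : Fin n → (P →ₗ[R] R))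

/-- candidate inverse of `mulLeftRight` -/
noncomputable def Ψ (T : Module.End R (Module.End R P)) : Module.End R P ⊗[R] (Module.End R P)ᵐᵒᵖ :=
  ∑ i, ∑ j, ∑ k, (T (E p φ i j) * E p φ k i) ⊗ₜ[R] op (E p φ j k)

lemma Ψ_add (T₁ T₂ : Module.End R (Module.End R P)) :
    Ψ p φ (T₁ + T₂) = Ψ p φ T₁ + Ψ p φ T₂ := by
  simp only [Ψ, LinearMap.add_apply, add_mul, TensorProduct.add_tmul, Finset.sum_add_distrib]

lemma Ψ_zero : Ψ p φ (0 : Module.End R (Module.End R P)) = 0 := by
  simp [Ψ]

variable (hexp : ∀ x : P, x = ∑ i, φ i x • p i)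
include hexp

lemma Φ_Ψ (T : Module.End R (Module.End R P)) :
    AlgHom.mulLeftRight R (Module.End R P) (Ψ p φ T) = T := by
  ext x : 1
  simp only [Ψ, map_sum, LinearMap.sum_apply, AlgHom.mulLeftRight_apply, unop_op]
  have h1 : ∀ i j, ∑ k, T (E p φ i j) * E p φ k i * x * E p φ j k
      = φ i (x (p j)) • T (E p φ i j) := by
    intro i j
    have : ∀ k, T (E p φ i j) * E p φ k i * x * E p φ j k
        = T (E p φ i j) * (φ i (x (p j)) • E p φ k k) := by
      intro k
      rw [mul_assoc, mul_assoc, ← mul_assoc (E p φ k i), E_mul_mul_E]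
    simp only [this]
    rw [← Finset.mul_sum, ← Finset.smul_sum, sum_E_diag p φ hexp, mul_smul_comm, mul_one]
  simp only [h1]
  conv_rhs => rw [expand p φ hexp x]
  simp only [map_sum, map_smul]

lemma Ψ_Φ_tmul (a : Module.End R P) (b : (Module.End R P)ᵐᵒᵖ) :
    Ψ p φ (AlgHom.mulLeftRight R (Module.End R P) (a ⊗ₜ[R] b)) = a ⊗ₜ[R] b := by
  simp only [Ψ, AlgHom.mulLeftRight_apply]
  have h1 : ∀ j k, ∑ i, (a * E p φ i j * b.unop * E p φ k i) ⊗ₜ[R] op (E p φ j k)
      = a ⊗ₜ[R] (φ j (b.unop (p k)) • op (E p φ j k)) := by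
    intro j k
    have : ∀ i, a * E p φ i j * b.unop * E p φ k i = a * (φ j (b.unop (p k)) • E p φ i i) := by
      intro i
      rw [mul_assoc, mul_assoc, ← mul_assoc (E p φ i j), E_mul_mul_E]
    simp only [this]
    rw [← TensorProduct.sum_tmul, ← Finset.mul_sum, ← Finset.smul_sum, sum_E_diag p φ hexp,
      mul_smul_comm, mul_one, TensorProduct.smul_tmul]
  rw [Finset.sum_comm]
  simp only [Finset.sum_comm (s := (Finset.univ : Finset (Fin n))) (t := (Finset.univ : Finset (Fin n)))
    (f := fun i k => (a * E p φ i _ * b.unop * E p φ k i) ⊗ₜ[R] op (E p φ _ k)), h1]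
  simp only [← TensorProduct.tmul_sum]
  congr 1
  apply MulOpposite.unop_injective
  have h2 : ∀ s : Finset (Fin n), ∀ F : Fin n → (Module.End R P)ᵐᵒᵖ,
      unop (∑ i ∈ s, F i) = ∑ i ∈ s, unop (F i) := fun s F =>
    map_sum (MulOpposite.opAddEquiv (α := Module.End R P)).symm F s
  simp only [h2, unop_smul, unop_op]
  exact (expand p φ hexp b.unop).symm

lemma Ψ_Φ (z : Module.End R P ⊗[R] (Module.End R P)ᵐᵒᵖ) :
    Ψ p φ (AlgHom.mulLeftRight R (Module.End R P) z) = z := by
  induction z using TensorProduct.induction_on with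
  | zero => rw [map_zero, Ψ_zero]
  | tmul a b => exact Ψ_Φ_tmul p φ hexp a b
  | add x y hx hy => rw [map_add, Ψ_add, hx, hy]

end


/-- Let R be a commutative ring and P a finitely generated projective R-module which is faithful. Then
End_R(P) is an Azumaya R-algebra. (The published statement is for a finite locally free sheaf E on a
scheme X and the sheaf of algebras End(E); this row is the case of affine X. Azumaya is taken in the
sense that includes faithfulness over R, which is why P is assumed faithful; the published notion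
also admits rank zero.) -/
theorem result (R : Type u) [CommRing R]
    (P : Type v) [AddCommGroup P] [Module R P] [Module.Finite R P] [Module.Projective R P]
    [FaithfulSMul R P] : IsAzumaya R (Module.End R P) := by
  let e : Module.Dual R P ⊗[R] P ≃ₗ[R] (P →ₗ[R] P) :=
    LinearEquiv.ofBijective (dualTensorHom R P P) dualTensorHom_bijective
  have hproj : Module.Projective R (Module.End R P) := Module.Projective.of_equiv e
  have hfin : Module.Finite R (Module.End R P) := Module.Finite.equiv e
  have hfaith : FaithfulSMul R (Module.End R P) := by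
    refine ⟨fun {r₁ r₂} h => ?_⟩
    apply eq_of_smul_eq_smul (α := P)
    intro x
    have := congrArg (fun f : Module.End R P => f x) (h 1)
    simpa using this
  obtain ⟨n, f, g, -, -, hfg⟩ := Module.Finite.exists_comp_eq_id_of_projective R P
  let p : Fin n → P := fun i => f (Pi.single i 1)
  let φ : Fin n → (P →ₗ[R] R) := fun i => (LinearMap.proj i).comp g
  have hexp : ∀ x : P, x = ∑ i, φ i x • p i := by
    intro x
    have h1 : x = f (g x) := by
      have := congrArg (fun h : P →ₗ[R] P => h x) hfg
      simpa using this.symm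
    conv_lhs => rw [h1]
    have h2 : g x = ∑ i, (g x i) • (Pi.single i 1 : Fin n → R) := by
      ext j
      simp [Finset.sum_apply, Pi.single_apply]
    conv_lhs => rw [h2, map_sum]
    simp only [map_smul]
    rfl
  exact { hproj, hfaith, hfin with
    bij := ⟨Function.LeftInverse.injective (Ψ_Φ p φ hexp),
      Function.RightInverse.surjective (Φ_Ψ p φ hexp)⟩ }

end Groth.Agent.S19589
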