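import Groth.Statements.S19590
import Mathlib.LinearAlgebra.Matrix.GeneralLinearGroup.Defs
import Mathlib.GroupTheory.OrderOfElement
import Mathlib.Data.ZMod.Basic
import Mathlib.Tactic.NoncommRing
import Mathlib.Tactic.Ring
import Mathlib.Tactic.LinearCombination

set_option autoImplicit false
open BddFin

namespace Groth.Agent.S19590

section

variable {n : ℕ}

local notation "Mat" => Matrix (Fin n) (Fin n) ℤ

/-- in any ring, `(1+X)^m = 1 + m•X + X²·Y` for some `Y`. -/
lemma one_add_pow_expand {A : Type*} [Ring A] (X : A) (m : ℕ) :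
    ∃ Y : A, (1 + X) ^ m = 1 + (m : A) * X + X ^ 2 * Y := by
  induction m with
  | zero => exact ⟨0, by simp⟩
  | succ m ih =>
    obtain ⟨Y, hY⟩ := ih
    refine ⟨(m : A) + Y + Y * X, ?_⟩
    have hc : (m : A) * (X * X) = X * (X * (m : A)) := by
      rw [(Nat.cast_commute m (X * X)).eq, mul_assoc]
    rw [pow_succ, hY]
    push_cast
    noncomm_ring
    rw [hc]
    abel

/-- if all entries of `M` are divisible by `3`, then `M = 3 • M'`. -/
lemma exists_smul_of_dvd (M : Mat) (h : ∀ i j, (3 : ℤ) ∣ M i j) : ∃ M' : Mat, M = (3 : ℤ) • M' := by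
  refine ⟨M.map (· / 3), ?_⟩
  ext i j
  simp only [Matrix.smul_apply, Matrix.map_apply, smul_eq_mul]
  exact (Int.mul_ediv_cancel' (h i j)).symm

end


section

variable {n : ℕ}

local notation "Mat" => Matrix (Fin n) (Fin n) ℤ

lemma step_ne_three (g h : Mat) (k : ℕ) (p : ℕ) (hp : p.Prime) (hp3 : p ≠ 3)
    (hg : g = 1 + ((3 : ℤ) ^ (k + 1)) • h) (hgp : g ^ p = 1) : ∃ h' : Mat, h = (3 : ℤ) • h' := by
  obtain ⟨Y, hY⟩ := one_add_pow_expand (((3 : ℤ) ^ (k + 1)) • h) p
  rw [← hg, hgp] at hY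
  have h1 : ((3 : ℤ) ^ (k + 1)) • ((p : ℤ) • h + ((3 : ℤ) ^ (k + 1)) • (h * h * Y)) = 0 := by
    have h2 : (0 : Mat) = (p : Mat) * (((3 : ℤ) ^ (k + 1)) • h) + (((3 : ℤ) ^ (k + 1)) • h) ^ 2 * Y := by
      have := hY
      rw [add_assoc] at this
      exact add_left_cancel (a := (1 : Mat)) (by rw [add_zero]; exact this)
    have hpm : ∀ Z : Mat, (p : Mat) * Z = (p : ℤ) • Z := fun Z => by
      rw [zsmul_eq_mul, Int.cast_natCast]
    rw [h2, hpm, pow_two]
    simp only [smul_add, smul_mul_smul_comm, smul_mul_assoc, smul_smul, mul_smul_comm]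
    rw [mul_comm ((3 : ℤ) ^ (k + 1)) (p : ℤ)]
  have h3 : (p : ℤ) • h + ((3 : ℤ) ^ (k + 1)) • (h * h * Y) = 0 := by
    rcases smul_eq_zero.mp h1 with h4 | h4
    · exact absurd h4 (pow_ne_zero _ (by norm_num))
    · exact h4
  apply exists_smul_of_dvd
  intro i j
  have h5 := congrFun (congrFun h3 i) j
  simp only [Matrix.add_apply, Matrix.smul_apply, smul_eq_mul, Matrix.zero_apply] at h5
  have h6 : (3 : ℤ) ∣ (p : ℤ) * h i j := by
    refine ⟨-(3 ^ k * (h * h * Y) i j), ?_⟩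
    rw [pow_succ] at h5
    linear_combination h5
  have hcop : IsCoprime (3 : ℤ) (p : ℤ) := by
    have : Nat.Coprime 3 p := (Nat.coprime_primes Nat.prime_three hp).mpr (Ne.symm hp3)
    exact_mod_cast Nat.isCoprime_iff_coprime.mpr this
  exact hcop.dvd_of_dvd_mul_left h6

lemma step_three (g h : Mat) (k : ℕ)
    (hg : g = 1 + ((3 : ℤ) ^ (k + 1)) • h) (hgp : g ^ 3 = 1) : ∃ h' : Mat, h = (3 : ℤ) • h' := by
  have hexp : g ^ 3 = 1 + ((3 : ℤ) ^ (k + 2)) •
      (h + ((3 : ℤ) ^ (k + 1)) • (h * h) + ((3 : ℤ) ^ (2 * k + 1)) • (h * h * h)) := by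
    rw [hg]
    have e : ∀ X : Mat, (1 + X) ^ 3 = 1 + (3 : ℤ) • X + (3 : ℤ) • (X * X) + X * X * X := by
      intro X
      noncomm_ring
    rw [e]
    simp only [smul_add, smul_smul, smul_mul_assoc, mul_smul_comm]
    have e1 : (3 : ℤ) * 3 ^ (k + 1) = 3 ^ (k + 2) := by ring
    have e2 : (3 : ℤ) * (3 ^ (k + 1) * 3 ^ (k + 1)) = 3 ^ (k + 2) * 3 ^ (k + 1) := by ring
    have e3 : (3 : ℤ) ^ (k + 1) * (3 ^ (k + 1) * 3 ^ (k + 1)) = 3 ^ (k + 2) * 3 ^ (2 * k + 1) := by ring
    rw [e1, e2, e3]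
    abel
  rw [hgp] at hexp
  have h1 : ((3 : ℤ) ^ (k + 2)) •
      (h + ((3 : ℤ) ^ (k + 1)) • (h * h) + ((3 : ℤ) ^ (2 * k + 1)) • (h * h * h)) = 0 := by
    have := hexp
    exact (add_left_cancel (a := (1 : Mat)) (by rw [add_zero]; exact this)).symm
  have h3 : h + ((3 : ℤ) ^ (k + 1)) • (h * h) + ((3 : ℤ) ^ (2 * k + 1)) • (h * h * h) = 0 := by
    rcases smul_eq_zero.mp h1 with h4 | h4
    · exact absurd h4 (pow_ne_zero _ (by norm_num))
    · exact h4
  apply exists_smul_of_dvd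
  intro i j
  have h5 := congrFun (congrFun h3 i) j
  simp only [Matrix.add_apply, Matrix.smul_apply, smul_eq_mul, Matrix.zero_apply] at h5
  refine ⟨-(3 ^ k * (h * h) i j + 3 ^ (2 * k) * (h * h * h) i j), ?_⟩
  rw [pow_succ, pow_succ (3 : ℤ) (2 * k)] at h5
  linear_combination h5

lemma step (g h : Mat) (k : ℕ) (p : ℕ) (hp : p.Prime)
    (hg : g = 1 + ((3 : ℤ) ^ (k + 1)) • h) (hgp : g ^ p = 1) : ∃ h' : Mat, h = (3 : ℤ) • h' := by
  by_cases hp3 : p = 3
  · subst hp3
    exact step_three g h k hg hgp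
  · exact step_ne_three g h k p hp hp3 hg hgp

end


section

variable {n : ℕ}

local notation "Mat" => Matrix (Fin n) (Fin n) ℤ

lemma int_eq_zero_of_forall_dvd (z : ℤ) (h : ∀ k : ℕ, (3 : ℤ) ^ (k + 1) ∣ z) : z = 0 := by
  apply Int.eq_zero_of_abs_lt_dvd (h z.natAbs)
  have h1 : z.natAbs < 3 ^ z.natAbs := Nat.lt_pow_self (by norm_num)
  have h2 : (3 : ℕ) ^ z.natAbs ≤ 3 ^ (z.natAbs + 1) := Nat.pow_le_pow_right (by norm_num) (by omega)
  have h3 : (z.natAbs : ℤ) < ((3 ^ (z.natAbs + 1) : ℕ) : ℤ) := by exact_mod_cast lt_of_lt_of_le h1 h2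
  rw [Int.abs_eq_natAbs]
  rw [Nat.cast_pow] at h3
  exact h3

lemma prime_case (g : Mat) (p : ℕ) (hp : p.Prime) (hgp : g ^ p = 1)
    (h1 : ∃ h : Mat, g = 1 + (3 : ℤ) • h) : g = 1 := by
  have hall : ∀ k : ℕ, ∃ h : Mat, g = 1 + ((3 : ℤ) ^ (k + 1)) • h := by
    intro k
    induction k with
    | zero => simpa using h1
    | succ k ih =>
      obtain ⟨h, hh⟩ := ih
      obtain ⟨h', rfl⟩ := step g h k p hp hh hgp
      refine ⟨h', ?_⟩
      rw [hh, smul_smul, ← pow_succ]
  ext i j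
  have : g i j - (1 : Mat) i j = 0 := by
    apply int_eq_zero_of_forall_dvd
    intro k
    obtain ⟨h, hh⟩ := hall k
    refine ⟨h i j, ?_⟩
    rw [hh, Matrix.add_apply, Matrix.smul_apply, smul_eq_mul]
    ring
  linarith

lemma pow_congr_one (g : Mat) (h1 : ∃ h : Mat, g = 1 + (3 : ℤ) • h) (m : ℕ) :
    ∃ h' : Mat, g ^ m = 1 + (3 : ℤ) • h' := by
  obtain ⟨h, rfl⟩ := h1
  induction m with
  | zero => exact ⟨0, by simp⟩
  | succ m ih =>
    obtain ⟨h', hh'⟩ := ih
    refine ⟨h' + h + (3 : ℤ) • (h' * h), ?_⟩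
    rw [pow_succ, hh']
    simp only [add_mul, mul_add, one_mul, mul_one, smul_mul_assoc, mul_smul_comm, smul_add, smul_smul]
    abel

lemma finorder_case (d : ℕ) : ∀ (g : Mat), 0 < d → g ^ d = 1 →
    (∃ h : Mat, g = 1 + (3 : ℤ) • h) → g = 1 := by
  induction d using Nat.strong_induction_on with
  | _ d ih =>
    intro g hd hgd h1
    by_cases hd1 : d = 1
    · subst hd1
      simpa using hgd
    · have hp : (d.minFac).Prime := Nat.minFac_prime hd1
      obtain ⟨d', hd'⟩ := Nat.minFac_dvd d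
      have hd'pos : 0 < d' := by
        rcases Nat.eq_zero_or_pos d' with h0 | h0
        · rw [h0, mul_zero] at hd'; omega
        · exact h0
      have hlt : d' < d := by
        have : 2 ≤ d.minFac := hp.two_le
        nlinarith
      have hg' : (g ^ d') ^ d.minFac = 1 := by
        rw [← pow_mul, mul_comm, ← hd', hgd]
      have := prime_case (g ^ d') d.minFac hp hg' (pow_congr_one g h1 d')
      exact ih d' hlt g hd'pos this h1

end


/-- For every n, the orders of the finite subgroups of GL_n(ℤ) are bounded: there is B such that every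
finite subgroup of GL_n(ℤ) has at most B elements. -/
theorem result (n : ℕ) :
    ∃ B : ℕ, ∀ H : Subgroup (Matrix.GeneralLinearGroup (Fin n) ℤ), Finite H → Nat.card H ≤ B := by
  refine ⟨Nat.card (Matrix.GeneralLinearGroup (Fin n) (ZMod 3)), ?_⟩
  intro H hH
  let φ : Matrix.GeneralLinearGroup (Fin n) ℤ →* Matrix.GeneralLinearGroup (Fin n) (ZMod 3) :=
    Matrix.GeneralLinearGroup.map (Int.castRingHom (ZMod 3))
  have hinj : Function.Injective (φ.comp H.subtype) := by
    rw [injective_iff_map_eq_one]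
    intro x hx
    have hord : 0 < orderOf x := orderOf_pos x
    have hpow : ((x : Matrix.GeneralLinearGroup (Fin n) ℤ) : Matrix (Fin n) (Fin n) ℤ) ^ orderOf x = 1 := by
      have h1 : x ^ orderOf x = 1 := pow_orderOf_eq_one x
      have h2 : ((x : Matrix.GeneralLinearGroup (Fin n) ℤ)) ^ orderOf x = 1 := by
        have := congrArg Subtype.val h1
        rwa [Subgroup.coe_pow] at this
      have h3 := congrArg Units.val h2
      rwa [Units.val_pow_eq_pow_val, Units.val_one] at h3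
    have hmod : ∃ h : Matrix (Fin n) (Fin n) ℤ,
        ((x : Matrix.GeneralLinearGroup (Fin n) ℤ) : Matrix (Fin n) (Fin n) ℤ) = 1 + (3 : ℤ) • h := by
      have hdvd : ∀ i j, (3 : ℤ) ∣ (((x : Matrix.GeneralLinearGroup (Fin n) ℤ) :
          Matrix (Fin n) (Fin n) ℤ) - 1) i j := by
        intro i j
        have h3 := congrArg (fun y : Matrix.GeneralLinearGroup (Fin n) (ZMod 3) =>
          (y : Matrix (Fin n) (Fin n) (ZMod 3)) i j) hx
        simp only [MonoidHom.comp_apply, Subgroup.coe_subtype, φ,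
          Matrix.GeneralLinearGroup.map_apply, Units.val_one] at h3
        rw [Matrix.sub_apply]
        have h4 : ((1 : Matrix (Fin n) (Fin n) (ZMod 3)) i j) =
            (((1 : Matrix (Fin n) (Fin n) ℤ) i j : ℤ) : ZMod 3) := by
          rw [Matrix.one_apply, Matrix.one_apply]
          split_ifs <;> simp
        rw [h4] at h3
        have := (ZMod.intCast_eq_intCast_iff_dvd_sub _ _ 3).mp h3.symm
        exact_mod_cast this
      obtain ⟨h, hh⟩ := exists_smul_of_dvd _ hdvd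
      exact ⟨h, by rw [← hh]; abel⟩
    have := finorder_case (orderOf x) _ hord hpow hmod
    apply Subtype.ext
    apply Units.ext
    simpa using this
  haveI : Finite (Matrix.GeneralLinearGroup (Fin n) (ZMod 3)) := inferInstance
  exact Nat.card_le_card_of_injective _ hinj

end Groth.Agent.S19590
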