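import Groth.Statements.S19593
import Groth.Agent.Lib.Helper28.RLPsiV10

set_option autoImplicit false
universe u
open CategoryTheory AlgebraicGeometry
open PicF

namespace Groth.Agent.S19593

/-- Let k be an infinite field, Y a scheme proper over k with a relatively very ample O_Y-module A (the
pullback of O(1) along an immersion of Y into the Proj of a symmetric algebra over k), and y_1, …,
y_m finitely many points of Y. Then some global section of A generates A at every y_i. (The
published statement takes Y projective over k and A a very ample line bundle; here Y is proper over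
k and A very ample relative to Y → Spec k, which makes Y projective.) -/
theorem result
    (k : Type u) [Field k] [Infinite k] (Y : Scheme.{u}) (f : Y ⟶ Spec (CommRingCat.of k)) [IsProper f]
    (A : Y.Modules) (hA : RelProj.IsRelVeryAmple f A)
    (ι : Type) [Finite ι] (y : ι → ↥Y) :
    ∃ s : Coh.structureModule Y ⟶ A, ∀ i : ι, y i ∈ CohB1.genLocus A s := by
  classical
  obtain ⟨E', hE', 𝒮', j', hS', P', p', chart', hP', O1, lam, hO, i, hi, hq, ⟨e⟩⟩ := hA
  haveI : E'.IsQuasicoherent := hE'
  have hO' : RelProj.IsRelTwist 𝒮' p' chart' ((1 : ℕ) : ℤ) O1 lam := hO
  exact Groth.Agent.Lib.Helper28.RLPsiV.exists_section_genLocus k i hS' hO' e ι y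

end Groth.Agent.S19593
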