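import Groth.Statements.S19595
import Groth.Agent.Lib.helper11.PSFix2

set_option autoImplicit false
universe u
open ArLef

open Groth.Agent.Lib.helper11
namespace Groth.Agent.S19595

/-- In the case of a smooth point lying on the divisorial part of the fixed locus with multiplicity i
strictly between 0 and j, let B be a discrete valuation ring with uniformizer π and residue field k,
B[[t]] the complete local ring of a semi-stable arithmetic surface over B at a point x where the
closed fibre is smooth, and σ a ring automorphism of B[[t]] with σ(π) = π + γ π^j (γ a unit of B, j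
≥ 1) and σ(b) - b ∈ π^j B[[t]] for all b ∈ B (σ lies over an automorphism τ of B with v(τ(π) - π) =
j). Suppose σ(t) - t = π^i f with 0 < i < j and π not dividing f, so that the fixed-point ideal I of
σ is (π^j, π^i f) and its divisorial part near x is the closed fibre with multiplicity i. Then the
residual fixed-point scheme, with ideal (I : π^i), has length (j - i) m at x, where m is the length
of k[[t]]/(f mod π) (the order at x of the derivation induced by σ on the closed fibre). -/
theorem result (B : Type u) [CommRing B] [IsDomain B] [IsDiscreteValuationRing B] (π : B) (hπ : Irreducible π)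
    (j i : ℕ) (hi : 0 < i) (hij : i < j) (γ : B) (hγ : IsUnit γ)
    (σ : PowerSeries B ≃+* PowerSeries B)
    (hσB : ∀ b : B, σ (algebraMap B (PowerSeries B) b) - algebraMap B (PowerSeries B) b ∈
      Ideal.span ({algebraMap B (PowerSeries B) (π ^ j)} : Set (PowerSeries B)))
    (hσπ : σ (algebraMap B (PowerSeries B) π) = algebraMap B (PowerSeries B) (π + γ * π ^ j))
    (f : PowerSeries B) (hf : σ PowerSeries.X - PowerSeries.X = algebraMap B (PowerSeries B) (π ^ i) * f)
    (hfπ : ¬ (algebraMap B (PowerSeries B) π ∣ f)) :
    Module.length (PowerSeries B) (PowerSeries B ⧸ (ArLef.fixIdeal σ).colon ({algebraMap B (PowerSeries B) (π ^ i)} : Set (PowerSeries B))) =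
      ((j - i : ℕ) : ℕ∞) * Module.length (PowerSeries (IsLocalRing.ResidueField B)) (PowerSeries (IsLocalRing.ResidueField B) ⧸
        Ideal.span ({PowerSeries.map (IsLocalRing.residue B) f} : Set (PowerSeries (IsLocalRing.ResidueField B)))) := by
  classical
  have hπp : Prime π := hπ.prime
  have hmax : IsLocalRing.maximalIdeal B = Ideal.span {π} := hπ.maximalIdeal_eq
  have hC : ∀ b : B, algebraMap B (PowerSeries B) b = PowerSeries.C b := fun b => rfl
  obtain ⟨d, rfl⟩ : ∃ d, j = i + d := ⟨j - i, by omega⟩
  have hDreg : ∀ w : PowerSeries B, (PowerSeries.C π) ^ i * w = 0 → w = 0 := by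
    intro w hw
    rcases mul_eq_zero.mp hw with h1 | h1
    · exfalso
      have h2 := pow_eq_zero_iff (n := i) (by omega) |>.mp h1
      have := congrArg (PowerSeries.coeff 0) h2
      simp at this
      exact hπp.ne_zero this
    · exact h1
  have hF : ArLef.fixIdeal σ = Ideal.span {(PowerSeries.C π) ^ i * f,
      (PowerSeries.C π) ^ i * (PowerSeries.C π) ^ d} := by
    rw [PSFix.fixIdeal_eq_ps (i + d) γ hγ σ hσB hσπ, hf, hC, hC, map_pow, map_pow, pow_add]
  rw [hF, hC, map_pow, NodeLen.colon_span_pair hDreg, Set.pair_comm,
    NodeAlgFix2.length_pow (PowerSeries.C π) f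
      ((PSFix.primeLike_C hπp).reg_mod (by rw [← hC]; exact hfπ)) d,
    PSFix.length_quot_span_C_eq hmax, Nat.add_sub_cancel_left]

end Groth.Agent.S19595
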