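import Groth.Statements.S19596
import Groth.Agent.Lib.helper11.NodeLen2

set_option autoImplicit false
universe u
open ArLef ArLef.NodeAlg

open Groth.Agent.Lib.helper11
namespace Groth.Agent.S19596

/-- In the cases where σ fixes the two branches through the point, these lie on different components,
and the second branch lies in the divisorial part of the fixed locus with multiplicity i₂ strictly
between 0 and j while the first has multiplicity i₁ ≤ i₂, let B be a discrete valuation ring with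
uniformizer π, N = B[[t, e]]/(te - π) the complete local ring of a semi-stable arithmetic surface
over B at a singular point x of the closed fibre, and σ a ring automorphism of N with σ(π) = π + γ
π^j (γ a unit of B, j ≥ 1) and σ(c) - c ∈ π^j N for all c ∈ B. Suppose σ(t) = α t and σ(e) = β e
with units α, β, and α - 1 = t^{i₁} e^{i₂} a, β - 1 = t^{i₁} e^{i₂} b with i₁ ≤ i₂, 0 < i₂ < j, e
not dividing a and t not dividing b. Then, I being the fixed-point ideal of σ, whose divisorial part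
near x is t^{i₁} e^{i₂}, the residual fixed-point scheme with ideal (I : t^{i₁} e^{i₂}) has length 1
+ (j - i₁)·Leng N/(t, b) + (j - i₂)·Leng N/(e, a) at x; here Leng N/(t, b) + i₂ + 1 and Leng N/(e,
a) + i₁ + 1 are the orders at x of the derivations σ induces on the two components (the fixed-point
multiplicities when the component is outside the divisorial part). -/
theorem result (B : Type u) [CommRing B] [IsDomain B] [IsDiscreteValuationRing B] (π : B) (hπ : Irreducible π)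
    (j i₁ i₂ : ℕ) (h12 : i₁ ≤ i₂) (h2 : 0 < i₂) (h2j : i₂ < j) (γ : B) (hγ : IsUnit γ)
    (σ : ArLef.NodeAlg B π ≃+* ArLef.NodeAlg B π)
    (hσB : ∀ c : B, σ (algebraMap B (ArLef.NodeAlg B π) c) - algebraMap B (ArLef.NodeAlg B π) c ∈
      Ideal.span ({algebraMap B (ArLef.NodeAlg B π) (π ^ j)} : Set (ArLef.NodeAlg B π)))
    (hσπ : σ (algebraMap B (ArLef.NodeAlg B π) π) = algebraMap B (ArLef.NodeAlg B π) (π + γ * π ^ j))
    (α β : (ArLef.NodeAlg B π)ˣ) (ht : σ (ArLef.NodeAlg.t π) = (α : ArLef.NodeAlg B π) * ArLef.NodeAlg.t π) (he : σ (ArLef.NodeAlg.e π) = (β : ArLef.NodeAlg B π) * ArLef.NodeAlg.e π)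
    (a b : ArLef.NodeAlg B π) (ha : (α : ArLef.NodeAlg B π) - 1 = ArLef.NodeAlg.t π ^ i₁ * ArLef.NodeAlg.e π ^ i₂ * a) (hb : (β : ArLef.NodeAlg B π) - 1 = ArLef.NodeAlg.t π ^ i₁ * ArLef.NodeAlg.e π ^ i₂ * b)
    (hea : ¬ (ArLef.NodeAlg.e π ∣ a)) (htb : ¬ (ArLef.NodeAlg.t π ∣ b)) :
    Module.length (ArLef.NodeAlg B π) (ArLef.NodeAlg B π ⧸ (ArLef.fixIdeal σ).colon ({ArLef.NodeAlg.t π ^ i₁ * ArLef.NodeAlg.e π ^ i₂} : Set (ArLef.NodeAlg B π))) =
      1 + ((j - i₁ : ℕ) : ℕ∞) * Module.length (ArLef.NodeAlg B π) (ArLef.NodeAlg B π ⧸ Ideal.span ({ArLef.NodeAlg.t π, b} : Set (ArLef.NodeAlg B π))) +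
        ((j - i₂ : ℕ) : ℕ∞) * Module.length (ArLef.NodeAlg B π) (ArLef.NodeAlg B π ⧸ Ideal.span ({ArLef.NodeAlg.e π, a} : Set (ArLef.NodeAlg B π))) := by
  classical
  have hπp : Prime π := hπ.prime
  have hmax : IsLocalRing.maximalIdeal B = Ideal.span {π} := hπ.maximalIdeal_eq
  obtain ⟨n, rfl⟩ : ∃ n, j = i₂ + n + 1 := ⟨j - i₂ - 1, by omega⟩
  obtain ⟨d, rfl⟩ : ∃ d, i₂ = i₁ + d := ⟨i₂ - i₁, by omega⟩
  obtain ⟨hF, hrel⟩ := NodeLen2.fixIdeal_stab hπp (i₁ + d + n) γ hγ σ hσB hσπ _ _ ht he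
  set T := ArLef.NodeAlg.t π with hT
  set E := ArLef.NodeAlg.e π with hE
  set D := T ^ i₁ * E ^ (i₁ + d) with hD
  have hDreg : ∀ w : ArLef.NodeAlg B π, D * w = 0 → w = 0 :=
    fun w hw => NodeLen2.primeLike_pow_mul_pow hπp i₁ (i₁ + d) w hw
  -- the relation `a + α b = Γ T^(d+n) E^n`
  have hrel' : a + (α : ArLef.NodeAlg B π) * b =
      algebraMap B (ArLef.NodeAlg B π) γ * (T ^ (d + n) * E ^ n) := by
    have h1 : D * (a + (α : ArLef.NodeAlg B π) * b -
        algebraMap B (ArLef.NodeAlg B π) γ * (T ^ (d + n) * E ^ n)) = 0 := by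
      rw [ha, hb] at hrel
      have e1 : T ^ (i₁ + d + n) = T ^ i₁ * T ^ (d + n) := by rw [← pow_add]; congr 1; omega
      have e2 : E ^ (i₁ + d + n) = E ^ (i₁ + d) * E ^ n := by rw [← pow_add]
      rw [e1, e2] at hrel
      rw [hD]
      linear_combination hrel
    have := hDreg _ h1
    linear_combination this
  have hcolon : (ArLef.fixIdeal σ).colon {D} =
      Ideal.span ({a * T, b * E, T ^ (d + n + 1) * E ^ (n + 1)} : Set (ArLef.NodeAlg B π)) := by
    have g1 : ((α : ArLef.NodeAlg B π) - 1) * T = D * (a * T) := by rw [ha]; ring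
    have g2 : ((β : ArLef.NodeAlg B π) - 1) * E = D * (b * E) := by rw [hb]; ring
    have g3 : T ^ (i₁ + d + n + 1) * E ^ (i₁ + d + n + 1) =
        D * (T ^ (d + n + 1) * E ^ (n + 1)) := by
      have e1 : T ^ (i₁ + d + n + 1) = T ^ i₁ * T ^ (d + n + 1) := by
        rw [← pow_add]; congr 1; omega
      have e2 : E ^ (i₁ + d + n + 1) = E ^ (i₁ + d) * E ^ (n + 1) := by rw [← pow_add]; congr 1
      rw [e1, e2, hD]; ring
    rw [hF, g1, g2, g3, NodeLen.colon_span_triple hDreg]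
  rw [hcolon, NodeLen.length_main (NodeLen2.primeLike_t hπp) (NodeLen2.primeLike_e hπp)
    (NodeAlgFix.not_t_dvd_e hπp.not_unit) (NodeAlgFix2.length_quot_span_t_e hπp hmax)
    a b (α : ArLef.NodeAlg B π) (algebraMap B (ArLef.NodeAlg B π) γ) α.isUnit
    (hγ.map (algebraMap B (ArLef.NodeAlg B π))) (d + n) n hrel' hea htb]
  have c1 : i₁ + d + n + 1 - i₁ = d + n + 1 := by omega
  have c2 : i₁ + d + n + 1 - (i₁ + d) = n + 1 := by omega
  rw [c1, c2]

end Groth.Agent.S19596
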