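import Groth.Statements.S19597
import Groth.Agent.Lib.helper11.NodeLen2
import Groth.Agent.Lib.helper11.NodeLen3

set_option autoImplicit false
universe u
open ArLef ArLef.NodeAlg

open Groth.Agent.Lib.helper11
namespace Groth.Agent.S19597

/-- In the cases where σ fixes the two branches through the point, these lie on different components,
the second lies in the divisorial part of the fixed locus with the maximal multiplicity j and the
first with multiplicity i₁ < j, let B be a discrete valuation ring with uniformizer π, N = B[[t,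
e]]/(te - π) the complete local ring of a semi-stable arithmetic surface over B at a singular point
x of the closed fibre, and σ a ring automorphism of N with σ(π) = π + γ π^j (γ a unit of B, j ≥ 1)
and σ(c) - c ∈ π^j N for all c ∈ B. Suppose σ(t) = α t and σ(e) = β e with units α, β, that α - 1 =
t^{i₁} e^j a and β - 1 = t^{i₁} e^{j-1} b with i₁ < j and t not dividing b. Then, I being the
fixed-point ideal of σ, whose divisorial part near x is t^{i₁} e^j, the length l of the residual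
fixed-point scheme with ideal (I : t^{i₁} e^j) satisfies l + (j - 1 - i₁) = (j - i₁)·Leng N/(t, b);
for i₁ = 0, Leng N/(t, b) + j is the fixed-point multiplicity s₁ of σ at x on the first component
and l = j (s₁ - j - 1) + 1. -/
theorem result (B : Type u) [CommRing B] [IsDomain B] [IsDiscreteValuationRing B] (π : B) (hπ : Irreducible π)
    (j i₁ : ℕ) (h1 : i₁ < j) (γ : B) (hγ : IsUnit γ)
    (σ : ArLef.NodeAlg B π ≃+* ArLef.NodeAlg B π)
    (hσB : ∀ c : B, σ (algebraMap B (ArLef.NodeAlg B π) c) - algebraMap B (ArLef.NodeAlg B π) c ∈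
      Ideal.span ({algebraMap B (ArLef.NodeAlg B π) (π ^ j)} : Set (ArLef.NodeAlg B π)))
    (hσπ : σ (algebraMap B (ArLef.NodeAlg B π) π) = algebraMap B (ArLef.NodeAlg B π) (π + γ * π ^ j))
    (α β : (ArLef.NodeAlg B π)ˣ) (ht : σ (ArLef.NodeAlg.t π) = (α : ArLef.NodeAlg B π) * ArLef.NodeAlg.t π) (he : σ (ArLef.NodeAlg.e π) = (β : ArLef.NodeAlg B π) * ArLef.NodeAlg.e π)
    (a b : ArLef.NodeAlg B π) (ha : (α : ArLef.NodeAlg B π) - 1 = ArLef.NodeAlg.t π ^ i₁ * ArLef.NodeAlg.e π ^ j * a) (hb : (β : ArLef.NodeAlg B π) - 1 = ArLef.NodeAlg.t π ^ i₁ * ArLef.NodeAlg.e π ^ (j - 1) * b)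
    (htb : ¬ (ArLef.NodeAlg.t π ∣ b)) :
    Module.length (ArLef.NodeAlg B π) (ArLef.NodeAlg B π ⧸ (ArLef.fixIdeal σ).colon ({ArLef.NodeAlg.t π ^ i₁ * ArLef.NodeAlg.e π ^ j} : Set (ArLef.NodeAlg B π))) + ((j - 1 - i₁ : ℕ) : ℕ∞) =
      ((j - i₁ : ℕ) : ℕ∞) * Module.length (ArLef.NodeAlg B π) (ArLef.NodeAlg B π ⧸ Ideal.span ({ArLef.NodeAlg.t π, b} : Set (ArLef.NodeAlg B π))) := by
  classical
  have hπp : Prime π := hπ.prime
  have hmax : IsLocalRing.maximalIdeal B = Ideal.span {π} := hπ.maximalIdeal_eq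
  obtain ⟨m, rfl⟩ : ∃ m, j = i₁ + m + 1 := ⟨j - i₁ - 1, by omega⟩
  obtain ⟨hF, hrel⟩ := NodeLen2.fixIdeal_stab hπp (i₁ + m) γ hγ σ hσB hσπ _ _ ht he
  rw [show i₁ + m + 1 - 1 = i₁ + m by omega] at hb
  set T := ArLef.NodeAlg.t π with hT
  set E := ArLef.NodeAlg.e π with hE
  set D := T ^ i₁ * E ^ (i₁ + m + 1) with hD
  have hDreg : ∀ w : ArLef.NodeAlg B π, D * w = 0 → w = 0 :=
    fun w hw => NodeLen2.primeLike_pow_mul_pow hπp i₁ (i₁ + m + 1) w hw
  have hD'reg : ∀ w : ArLef.NodeAlg B π, T ^ i₁ * E ^ (i₁ + m) * w = 0 → w = 0 :=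
    fun w hw => NodeLen2.primeLike_pow_mul_pow hπp i₁ (i₁ + m) w hw
  have hrel' : E * a + (α : ArLef.NodeAlg B π) * b =
      algebraMap B (ArLef.NodeAlg B π) γ * T ^ m := by
    have h1 : T ^ i₁ * E ^ (i₁ + m) * (E * a + (α : ArLef.NodeAlg B π) * b -
        algebraMap B (ArLef.NodeAlg B π) γ * T ^ m) = 0 := by
      rw [ha, hb] at hrel
      have e1 : T ^ (i₁ + m) = T ^ i₁ * T ^ m := by rw [← pow_add]
      rw [e1, hD, pow_succ] at hrel
      linear_combination hrel
    have := hD'reg _ h1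
    linear_combination this
  have hcolon : (ArLef.fixIdeal σ).colon {D} =
      Ideal.span ({T * a, b, T ^ (m + 1)} : Set (ArLef.NodeAlg B π)) := by
    have g1 : ((α : ArLef.NodeAlg B π) - 1) * T = D * (T * a) := by rw [ha]; ring
    have g2 : ((β : ArLef.NodeAlg B π) - 1) * E = D * b := by rw [hb, hD, pow_succ]; ring
    have g3 : T ^ (i₁ + m + 1) * E ^ (i₁ + m + 1) = D * T ^ (m + 1) := by
      have e1 : T ^ (i₁ + m + 1) = T ^ i₁ * T ^ (m + 1) := by rw [← pow_add]; congr 1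
      rw [e1, hD]; ring
    rw [hF, g1, g2, g3, NodeLen.colon_span_triple hDreg]
  rw [hcolon]
  have c1 : i₁ + m + 1 - 1 - i₁ = m := by omega
  have c2 : i₁ + m + 1 - i₁ = m + 1 := by omega
  rw [c1, c2]
  exact NodeLen.length_main' (NodeLen2.primeLike_t hπp)
    (NodeAlgFix.not_t_dvd_e hπp.not_unit) (NodeAlgFix2.length_quot_span_t_e hπp hmax)
    a b (α : ArLef.NodeAlg B π) (algebraMap B (ArLef.NodeAlg B π) γ) α.isUnit m hrel' htb

end Groth.Agent.S19597
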