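import Groth.Statements.S19599
import Mathlib
import Groth.Agent.Lib.Helper13.MTChart
import Groth.Prelude.Def_SGA3x

set_option autoImplicit false
open CategoryTheory MonoidalCategory CartesianMonoidalCategory MonObj GrpObj AlgebraicGeometry
universe u
open SGA3x

namespace Groth.Agent.S19599

section helpers

open CategoryTheory MonoidalCategory CartesianMonoidalCategory MonObj GrpObj AlgebraicGeometry Limits


open Groth.Agent.Lib.Helper13.WeilOver Groth.Agent.Lib.Helper13.MTChart

theorem main {S : Scheme.{u}} (G H : Over S) [GrpObj G] [GrpObj H]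
    (hGa : IsAffineHom G.hom)
    (i : H ⟶ G) (hH : SGA3x.IsMultTypeFT H) :
    ∃ (C : Over S) (c : C ⟶ G), IsClosedImmersion c.left ∧
      (LocallyOfFiniteType G.hom → LocallyOfFinitePresentation c.left) ∧
      ∀ (X : Over S) (g : X ⟶ G), (∃ z : X ⟶ C, z ≫ c = g) ↔
        ∀ (X' : Over S) (x : X' ⟶ X) (a : X' ⟶ H), (x ≫ g) * (a ≫ i) = (a ≫ i) * (x ≫ g) := by
  haveI := hGa
  obtain ⟨C, c, hc, hfp, hC⟩ := closed_eq G H G
    (weilGood_of_essProj G H (essProj_of_isMultTypeFT H hH))
    (fst G H * (snd G H ≫ i)) ((snd G H ≫ i) * fst G H)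
  refine ⟨C, c, hc, hfp, fun X g => ?_⟩
  rw [hC]
  have e1 : (g ▷ H) ≫ (fst G H * (snd G H ≫ i)) = (fst X H ≫ g) * (snd X H ≫ i) := by
    rw [MonObj.comp_mul, whiskerRight_fst, whiskerRight_snd_assoc]
  have e2 : (g ▷ H) ≫ ((snd G H ≫ i) * fst G H) = (snd X H ≫ i) * (fst X H ≫ g) := by
    rw [MonObj.comp_mul, whiskerRight_fst, whiskerRight_snd_assoc]
  rw [e1, e2]
  constructor
  · intro h X' x a
    have := congrArg (fun m => lift x a ≫ m) h
    simp only [MonObj.comp_mul, lift_fst_assoc, lift_snd_assoc] at this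
    exact this
  · intro h
    exact h (X ⊗ H) (fst X H) (snd X H)


end helpers

/-- Let G be an affine group scheme of finite presentation over a scheme S and H ⊆ G a closed subgroup
scheme of finite presentation over S which is of multiplicative type (of finite type). Then the
centralizer of H in G (points of G commuting with every point of H after any base change) is
representable by a closed subscheme of G. Here G is not assumed smooth, and smoothness of the
centralizer is not asserted. -/
theorem result {S : Scheme.{u}} (G H : Over S) [GrpObj G] [GrpObj H]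
    (hGa : IsAffineHom G.hom) (hGfp : LocallyOfFinitePresentation G.hom)
    (i : H ⟶ G) [IsMonHom i] (hi : IsClosedImmersion i.left) (hHfp : LocallyOfFinitePresentation H.hom)
    (hH : SGA3x.IsMultTypeFT H) :
    ∃ (C : Over S) (c : C ⟶ G), IsClosedImmersion c.left ∧
      ∀ (X : Over S) (g : X ⟶ G), (∃ z : X ⟶ C, z ≫ c = g) ↔
        ∀ (X' : Over S) (x : X' ⟶ X) (a : X' ⟶ H), (x ≫ g) * (a ≫ i) = (a ≫ i) * (x ≫ g) := by
  obtain ⟨C, c, hc, -, hC⟩ := main G H hGa i hH
  exact ⟨C, c, hc, hC⟩

end Groth.Agent.S19599
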