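import Groth.Statements.S19603
-- import your own Groth.Agent.* helpers here
import Groth.Agent.Lib.Helper26.LinGrade

set_option autoImplicit false
universe u
open GIT

namespace Groth.Agent.S19603

/-- For the whole projective space U = P(V), let k be an algebraically closed field of arbitrary
characteristic and G = Spec A a linearly reductive affine algebraic group acting linearly on affine
ι-space, and let v be a vector. Then some invariant homogeneous polynomial of positive degree is
non-zero at v (the point of v is semistable) if and only if the origin is not in the closure of the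
orbit of v. -/
theorem result (k : Type u) [Field k] [IsAlgClosed k]
    (A : Type u) [CommRing A] [HopfAlgebra k A] [Algebra.FiniteType k A] (hG : HopfRep.IsLinearlyReductive k A)
    (ι : Type u) [Fintype ι] [HopfRep.Comod k A (MvPolynomial ι k)] [GLin.IsCoactAlg k A (MvPolynomial ι k)]
    (hlin : GLin.IsLinear k A ι) (v : ι → k) :
    GLin.IsSemistableVec k A v ↔
      ¬ GLin.InOrbitClosure k A (GLin.vecPt k ι v) (GLin.vecPt k ι (fun _ => (0 : k))) := by
  classical
  obtain ⟨I, hI, hI1⟩ := Groth.Agent.Lib.Helper26.Comod.exists_isIntegral hG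
  -- the origin is a fixed point
  have hfix : GLin.orbitHom k A (GLin.vecPt k ι (fun _ => (0 : k))) =
      (Algebra.ofId k A).comp (GLin.vecPt k ι (fun _ => (0 : k))) := by
    apply MvPolynomial.algHom_ext
    intro i
    obtain ⟨m, hm⟩ := hlin i
    rw [Groth.Agent.Lib.Helper26.Comod.orbitHom_apply, hm]
    simp
  have hzero : ∀ F : MvPolynomial ι k, GLin.vecPt k ι (fun _ => (0 : k)) F =
      MvPolynomial.coeff 0 F := by
    intro F
    change MvPolynomial.aeval (fun _ => (0 : k)) F = _
    rw [MvPolynomial.aeval_zero']
    rfl
  constructor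
  · intro hss hcl
    apply hss
    intro F hF d hd hhom
    have h1 := hcl (Groth.Agent.Lib.Helper26.Comod.sub_algebraMap_mem_ker_orbitHom
      (GLin.vecPt k ι v) F hF)
    rw [RingHom.mem_ker, map_sub, AlgHom.commutes, hzero, sub_eq_zero] at h1
    have h2 : MvPolynomial.coeff 0 F = 0 := hhom.coeff_eq_zero (by
      rw [map_zero]; omega)
    rw [h2] at h1
    have h3 : (GLin.vecPt k ι v) F = MvPolynomial.eval v F := by
      change MvPolynomial.aeval v F = _
      rw [MvPolynomial.aeval_def, MvPolynomial.eval]
      rfl
    rw [← h3]
    have h4 : algebraMap k k ((GLin.vecPt k ι v) F) = 0 := h1.symm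
    simpa using h4
  · intro hno hnull
    unfold GLin.InOrbitClosure at hno
    rw [SetLike.not_le_iff_exists] at hno
    obtain ⟨f, hf, hof⟩ := hno
    rw [RingHom.mem_ker] at hf hof
    set g := Groth.Agent.Lib.Helper26.Comod.reyn (MvPolynomial ι k) I f with hgdef
    have hg : g ∈ GLin.invariants k A (MvPolynomial ι k) :=
      Groth.Agent.Lib.Helper26.Comod.reyn_mem_fixedPts hI f
    have hxg : GLin.vecPt k ι v g = 0 := by
      rw [hgdef, Groth.Agent.Lib.Helper26.LinGrade.point_reyn, hf, map_zero, map_zero]
    have hog : GLin.vecPt k ι (fun _ => (0 : k)) g = GLin.vecPt k ι (fun _ => (0 : k)) f := by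
      rw [hgdef, Groth.Agent.Lib.Helper26.LinGrade.point_reyn, hfix, AlgHom.comp_apply]
      change I (HopfAlgebraStruct.antipode (R := k) (algebraMap k A _)) = _
      rw [Algebra.algebraMap_eq_smul_one, map_smul, HopfAlgebra.antipode_one, map_smul, hI1,
        smul_eq_mul, mul_one]
    -- decompose g
    have hsum := MvPolynomial.sum_homogeneousComponent g
    have hx := congrArg (GLin.vecPt k ι v) hsum
    rw [map_sum, hxg] at hx
    have hterm : ∀ d ∈ Finset.range (g.totalDegree + 1),
        GLin.vecPt k ι v (MvPolynomial.homogeneousComponent d g) =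
          if d = 0 then MvPolynomial.coeff 0 g else 0 := by
      intro d _
      split_ifs with hd
      · subst hd
        rw [MvPolynomial.homogeneousComponent_zero]
        change MvPolynomial.aeval v (MvPolynomial.C (MvPolynomial.coeff 0 g)) = _
        rw [MvPolynomial.aeval_C]
        rfl
      · have h3 := hnull _ (Groth.Agent.Lib.Helper26.LinGrade.homogeneousComponent_mem_invariants
          hlin d hg) d (Nat.pos_of_ne_zero hd) (MvPolynomial.homogeneousComponent_isHomogeneous d g)
        change MvPolynomial.aeval v _ = 0
        rw [MvPolynomial.aeval_def, ← h3, MvPolynomial.eval]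
        rfl
    rw [Finset.sum_congr rfl hterm, Finset.sum_ite_eq' ] at hx
    rw [if_pos (Finset.mem_range.mpr (Nat.succ_pos _))] at hx
    apply hof
    rw [← hog, hzero, hx]

end Groth.Agent.S19603
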