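import Groth.Statements.S19606
import Groth.Agent.Lib.Helper17.Serre2
import Groth.Agent.Lib.Helper28.TensorIso

set_option autoImplicit false
universe u
open CategoryTheory CategoryTheory.Limits AlgebraicGeometry
open ClSub

namespace Groth.Agent.S19606

/-- Let X be a scheme and I₁, I₂ quasi-coherent ideal sheaves with I₁ ⊓ I₂ = 0, cutting out closed
subschemes X₁, X₂ and X₁ ∩ X₂ (ideal I₁ + I₂). Then 0 → O_X → O_X/I₁ ⊕ O_X/I₂ → O_X/(I₁ + I₂) → 0 is
an exact sequence of O_X-modules, the maps being the two restrictions and the difference of the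
restrictions q₁, q₂ (the module maps compatible with the quotient maps from O_X). The published
statement is for a locally free sheaf E on a reduced scheme with two irreducible components X₁, X₂
(whose ideals meet in zero); this row is the case E = O_X for any two ideals with zero intersection,
which is what the local argument uses. -/
theorem result (X : Scheme.{u}) (I₁ I₂ : X.IdealSheafData)
    (h : I₁ ⊓ I₂ = ⊥)
    (q₁ : ClSub.quotMod I₁ ⟶ ClSub.quotMod (I₁ ⊔ I₂)) (q₂ : ClSub.quotMod I₂ ⟶ ClSub.quotMod (I₁ ⊔ I₂))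
    (hq₁ : ClSub.toSubscheme I₁ ≫ q₁ = ClSub.toSubscheme (I₁ ⊔ I₂))
    (hq₂ : ClSub.toSubscheme I₂ ≫ q₂ = ClSub.toSubscheme (I₁ ⊔ I₂)) :
    Epi (biprod.desc q₁ (-q₂)) ∧
      ∃ w : biprod.lift (ClSub.toSubscheme I₁) (ClSub.toSubscheme I₂) ≫ biprod.desc q₁ (-q₂) = 0,
        Nonempty (IsLimit (KernelFork.ofι (biprod.lift (ClSub.toSubscheme I₁) (ClSub.toSubscheme I₂)) w)) := by
  classical
  have hw : biprod.lift (ClSub.toSubscheme I₁) (ClSub.toSubscheme I₂) ≫ biprod.desc q₁ (-q₂) = 0 := by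
    rw [biprod.lift_desc, Preadditive.comp_neg, hq₁, hq₂, add_neg_cancel]
  refine ⟨?_, hw, ?_⟩
  · haveI : Epi (ClSub.toSubscheme I₁ ≫ q₁) := by rw [hq₁]; infer_instance
    haveI : Epi q₁ := epi_of_epi (ClSub.toSubscheme I₁) q₁
    haveI : Epi (biprod.inl ≫ biprod.desc q₁ (-q₂)) := by rw [biprod.inl_desc]; infer_instance
    exact epi_of_epi biprod.inl (biprod.desc q₁ (-q₂))
  · -- membership in the ideals through the sections of `toSubscheme`
    have hmem : ∀ (I : X.IdealSheafData) (W : X.Opens) (hW : IsAffineOpen W) (r : Γ(X, W)),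
        (ClSub.toSubscheme I).app W r = 0 ↔ r ∈ I.ideal ⟨W, hW⟩ := by
      intro I W hW r
      have h1 : I.subschemeι.ker.ideal ⟨W, hW⟩ = I.ideal ⟨W, hW⟩ := by rw [I.ker_subschemeι]
      rw [← h1, Scheme.Hom.ker_apply, RingHom.mem_ker]
      rfl
    have hsurj : ∀ (I : X.IdealSheafData) (W : X.Opens) (hW : IsAffineOpen W)
        (y : Γ(ClSub.quotMod I, W)), ∃ r : Γ(X, W), (ClSub.toSubscheme I).app W r = y := by
      intro I W hW y
      obtain ⟨r, hr⟩ := I.subschemeι_app_surjective ⟨W, hW⟩ (show Γ(I.subscheme, I.subschemeι ⁻¹ᵁ W) from y)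
      exact ⟨r, hr⟩
    let κ := kernel.lift (biprod.desc q₁ (-q₂))
      (biprod.lift (ClSub.toSubscheme I₁) (ClSub.toSubscheme I₂)) hw
    have hκ : κ ≫ kernel.ι (biprod.desc q₁ (-q₂)) =
        biprod.lift (ClSub.toSubscheme I₁) (ClSub.toSubscheme I₂) := kernel.lift_ι _ _ _
    have hκ1 : ∀ (W : X.Opens) (r : Γ(X, W)),
        (biprod.fst : ClSub.quotMod I₁ ⊞ ClSub.quotMod I₂ ⟶ _).app W
          ((kernel.ι (biprod.desc q₁ (-q₂))).app W (κ.app W r)) = (ClSub.toSubscheme I₁).app W r := by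
      intro W r
      have e : κ ≫ kernel.ι (biprod.desc q₁ (-q₂)) ≫ biprod.fst = ClSub.toSubscheme I₁ := by
        rw [← Category.assoc, hκ, biprod.lift_fst]
      exact congrArg (fun φ : Coh.structureModule X ⟶ ClSub.quotMod I₁ => φ.app W r) e
    have hκ2 : ∀ (W : X.Opens) (r : Γ(X, W)),
        (biprod.snd : ClSub.quotMod I₁ ⊞ ClSub.quotMod I₂ ⟶ _).app W
          ((kernel.ι (biprod.desc q₁ (-q₂))).app W (κ.app W r)) = (ClSub.toSubscheme I₂).app W r := by
      intro W r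
      have e : κ ≫ kernel.ι (biprod.desc q₁ (-q₂)) ≫ biprod.snd = ClSub.toSubscheme I₂ := by
        rw [← Category.assoc, hκ, biprod.lift_snd]
      exact congrArg (fun φ : Coh.structureModule X ⟶ ClSub.quotMod I₂ => φ.app W r) e
    haveI : IsIso κ := by
      refine Groth.Agent.Lib.Helper28.TensorIso.isIso_of_bijective_on_basis κ (fun W => IsAffineOpen W) ?_
        (fun W hW => ⟨?_, ?_⟩)
      · intro U x hx
        obtain ⟨_, ⟨V, hV, rfl⟩, hxV, hVU⟩ := X.isBasis_affineOpens.exists_subset_of_mem_open hx U.2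
        exact ⟨V, hV, hxV, hVU⟩
      · -- injectivity
        rw [injective_iff_map_eq_zero]
        intro r hr
        have hr1 : r ∈ I₁.ideal ⟨W, hW⟩ := by
          refine (hmem I₁ W hW r).1 ?_
          rw [← hκ1 W r, hr, map_zero, map_zero]
        have hr2 : r ∈ I₂.ideal ⟨W, hW⟩ := by
          refine (hmem I₂ W hW r).1 ?_
          rw [← hκ2 W r, hr, map_zero, map_zero]
        have hr12 : r ∈ (I₁ ⊓ I₂).ideal ⟨W, hW⟩ := ⟨hr1, hr2⟩
        rw [h] at hr12
        exact hr12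
      · -- surjectivity
        intro z
        obtain ⟨r₁, hr₁⟩ := hsurj I₁ W hW ((biprod.fst : ClSub.quotMod I₁ ⊞ ClSub.quotMod I₂ ⟶ _).app W
          ((kernel.ι (biprod.desc q₁ (-q₂))).app W z))
        obtain ⟨r₂, hr₂⟩ := hsurj I₂ W hW ((biprod.snd : ClSub.quotMod I₁ ⊞ ClSub.quotMod I₂ ⟶ _).app W
          ((kernel.ι (biprod.desc q₁ (-q₂))).app W z))
        -- the two components agree in the quotient by the sum
        have hz : (biprod.desc q₁ (-q₂)).app W ((kernel.ι (biprod.desc q₁ (-q₂))).app W z) = 0 :=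
          congrArg (fun φ : kernel (biprod.desc q₁ (-q₂)) ⟶ ClSub.quotMod (I₁ ⊔ I₂) => φ.app W z)
            (kernel.condition (biprod.desc q₁ (-q₂)))
        rw [Groth.Agent.Lib.Helper17.Serre.biprod_desc_app, ← hr₁, ← hr₂] at hz
        have e1 : q₁.app W ((ClSub.toSubscheme I₁).app W r₁) = (ClSub.toSubscheme (I₁ ⊔ I₂)).app W r₁ :=
          congrArg (fun φ : Coh.structureModule X ⟶ ClSub.quotMod (I₁ ⊔ I₂) => φ.app W r₁) hq₁
        have e2 : (-q₂).app W ((ClSub.toSubscheme I₂).app W r₂) = -(ClSub.toSubscheme (I₁ ⊔ I₂)).app W r₂ := by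
          have := congrArg (fun φ : Coh.structureModule X ⟶ ClSub.quotMod (I₁ ⊔ I₂) => φ.app W r₂) hq₂
          change -(q₂.app W ((ClSub.toSubscheme I₂).app W r₂)) = _
          rw [← this]
          rfl
        rw [e1, e2, ← sub_eq_add_neg, ← map_sub, hmem (I₁ ⊔ I₂) W hW] at hz
        change r₁ - r₂ ∈ I₁.ideal ⟨W, hW⟩ ⊔ I₂.ideal ⟨W, hW⟩ at hz
        obtain ⟨a₁, ha₁, a₂, ha₂, ha⟩ := Submodule.mem_sup.1 hz
        refine ⟨r₁ - a₁, ?_⟩
        apply Groth.Agent.Lib.Helper17.CohKer.kernel_ι_app_injective (biprod.desc q₁ (-q₂)) W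
        rw [Groth.Agent.Lib.Helper17.Serre.biprod_total_app _ _ W ((kernel.ι (biprod.desc q₁ (-q₂))).app W z),
          Groth.Agent.Lib.Helper17.Serre.biprod_total_app _ _ W
            ((kernel.ι (biprod.desc q₁ (-q₂))).app W (κ.app W (r₁ - a₁))), hκ1, hκ2, ← hr₁, ← hr₂]
        have h1 : (ClSub.toSubscheme I₁).app W (r₁ - a₁) = (ClSub.toSubscheme I₁).app W r₁ := by
          have h0 : (I₁.subschemeι.app W).hom a₁ = 0 := (hmem I₁ W hW a₁).2 ha₁
          change (I₁.subschemeι.app W).hom (r₁ - a₁) = (I₁.subschemeι.app W).hom r₁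
          rw [map_sub, h0, sub_zero]
        have h2 : (ClSub.toSubscheme I₂).app W (r₁ - a₁) = (ClSub.toSubscheme I₂).app W r₂ := by
          have h0 : (I₂.subschemeι.app W).hom a₂ = 0 := (hmem I₂ W hW a₂).2 ha₂
          have e : r₁ - a₁ = r₂ + a₂ :=
            calc r₁ - a₁ = (r₁ - r₂) - a₁ + r₂ := by abel
              _ = (a₁ + a₂) - a₁ + r₂ := by rw [ha]
              _ = r₂ + a₂ := by abel
          change (I₂.subschemeι.app W).hom (r₁ - a₁) = (I₂.subschemeι.app W).hom r₂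
          rw [e, map_add, h0, add_zero]
        rw [h1, h2]
    refine ⟨IsLimit.ofIsoLimit (kernelIsKernel (biprod.desc q₁ (-q₂))) (Fork.ext (asIso κ).symm ?_)⟩
    change inv κ ≫ biprod.lift (ClSub.toSubscheme I₁) (ClSub.toSubscheme I₂) = kernel.ι _
    rw [← hκ, IsIso.inv_hom_id_assoc]

end Groth.Agent.S19606
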