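import Groth.Statements.S19609
-- import your own Groth.Agent.* helpers here

set_option autoImplicit false
universe u
open CartMod

namespace Groth.Agent.S19609


theorem mem_pow_iff {A : Type u} [CommRing A] (p : A) (n : ℕ) (x : A) :
    x ∈ ((Ideal.span {p}) ^ n • (⊤ : Submodule A A)) ↔ ∃ c, x = p ^ n * c := by
  rw [Ideal.span_singleton_pow, smul_eq_mul, Ideal.mul_top, Ideal.mem_span_singleton']
  constructor
  · rintro ⟨c, rfl⟩; exact ⟨c, mul_comm _ _⟩
  · rintro ⟨c, rfl⟩; exact ⟨c, mul_comm _ _⟩

/-- Let p be a prime and u : A → B a ring homomorphism between commutative rings which are complete and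
separated for the p-adic topology and have no p-torsion (flat over the p-adic base). If u induces a
bijection A/pA → B/pB (injectivity: u a ∈ pB forces a ∈ pA; surjectivity: every b ∈ B is congruent
to some u a modulo pB), then u is bijective. (The published statement is for a morphism of flat
p-adic formal schemes over the Witt vectors of a perfect field: if its special fibre is an
isomorphism, so is the morphism; this row is its affine, ring-level case.) -/
theorem result (p : ℕ) [Fact p.Prime]
    {A B : Type u} [CommRing A] [CommRing B]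
    [IsAdicComplete (Ideal.span {(p : A)}) A] [IsAdicComplete (Ideal.span {(p : B)}) B]
    (hA : IsSMulRegular A (p : A)) (hB : IsSMulRegular B (p : B)) (u : A →+* B)
    (hinj : ∀ a : A, u a ∈ Ideal.span {(p : B)} → a ∈ Ideal.span {(p : A)})
    (hsurj : ∀ b : B, ∃ a : A, b - u a ∈ Ideal.span {(p : B)}) :
    Function.Bijective u := by
  have hHA : IsHausdorff (Ideal.span {(p : A)}) A := inferInstance
  have hHB : IsHausdorff (Ideal.span {(p : B)}) B := inferInstance
  have hPA : IsPrecomplete (Ideal.span {(p : A)}) A := inferInstance
  constructor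
  · rw [injective_iff_map_eq_zero]
    intro a ha
    apply hHA.haus
    intro n
    rw [SModEq.zero, mem_pow_iff]
    induction n with
    | zero => exact ⟨a, by simp⟩
    | succ n ih =>
      obtain ⟨c, hc⟩ := ih
      have h1 : (p : B) ^ n * u c = 0 := by
        rw [← ha, hc, map_mul, map_pow, map_natCast]
      have h2 : u c = 0 := by
        have hreg : IsSMulRegular B ((p : B) ^ n) := hB.pow n
        apply hreg
        simpa using h1
      have h3 : c ∈ Ideal.span {(p : A)} := hinj c (by rw [h2]; exact Submodule.zero_mem _)
      obtain ⟨c', hc'⟩ := Ideal.mem_span_singleton'.mp h3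
      exact ⟨c', by rw [hc, ← hc', pow_succ]; ring⟩
  · intro b
    have hstep : ∀ b : B, ∃ a : A, ∃ b' : B, b - u a = (p : B) * b' := by
      intro b
      obtain ⟨a, ha⟩ := hsurj b
      obtain ⟨b', hb'⟩ := Ideal.mem_span_singleton'.mp ha
      exact ⟨a, b', by rw [← hb', mul_comm]⟩
    choose α β hαβ using hstep
    let bn : ℕ → B := fun n => β^[n] b
    let an : ℕ → A := fun n => α (bn n)
    let s : ℕ → A := fun n => ∑ i ∈ Finset.range n, (p : A) ^ i * an i
    have hs : ∀ n, b = u (s n) + (p : B) ^ n * bn n := by
      intro n
      induction n with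
      | zero => simp [s, bn]
      | succ n ih =>
        have h1 : s (n + 1) = s n + (p : A) ^ n * an n := Finset.sum_range_succ _ _
        have h2 : bn (n + 1) = β (bn n) := Function.iterate_succ_apply' β n b
        have h3 := hαβ (bn n)
        have h3' : (p : B) * β (bn n) = bn n - u (an n) := h3.symm
        calc b = u (s n) + (p : B) ^ n * bn n := ih
          _ = (u (s n) + (p : B) ^ n * u (an n)) + (p : B) ^ n * (bn n - u (an n)) := by ring
          _ = u (s (n + 1)) + (p : B) ^ (n + 1) * bn (n + 1) := by
            rw [h1, h2, map_add, map_mul, map_pow, map_natCast, pow_succ, mul_assoc, h3']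
    have hcauchy : ∀ {m n}, m ≤ n →
        s m ≡ s n [SMOD ((Ideal.span {(p : A)}) ^ m • (⊤ : Submodule A A))] := by
      intro m n hmn
      rw [SModEq.sub_mem, mem_pow_iff]
      induction n, hmn using Nat.le_induction with
      | base => exact ⟨0, by simp⟩
      | succ n hmn ih =>
        obtain ⟨c, hc⟩ := ih
        have h1 : s (n + 1) = s n + (p : A) ^ n * an n := Finset.sum_range_succ _ _
        refine ⟨c - (p : A) ^ (n - m) * an n, ?_⟩
        have h2 : (p : A) ^ n = (p : A) ^ m * (p : A) ^ (n - m) := by
          rw [← pow_add]; congr 1; omega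
        rw [h1, mul_sub, ← hc, ← mul_assoc, ← h2]
        ring
    obtain ⟨L, hL⟩ := hPA.prec hcauchy
    refine ⟨L, ?_⟩
    symm
    rw [← sub_eq_zero]
    apply hHB.haus
    intro n
    rw [SModEq.zero, mem_pow_iff]
    have := hL n
    rw [SModEq.sub_mem, mem_pow_iff] at this
    obtain ⟨c, hc⟩ := this
    refine ⟨bn n + u c, ?_⟩
    have h1 : u L = u (s n) - (p : B) ^ n * u c := by
      have : L = s n - (p : A) ^ n * c := by rw [← hc]; ring
      rw [this, map_sub, map_mul, map_pow, map_natCast]
    rw [h1]
    conv_lhs => rw [hs n]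
    ring

end Groth.Agent.S19609
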