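import Groth.Statements.S1961
import Mathlib
import Groth.Agent.Lib.Helper22.SqZeroPullback

set_option autoImplicit false
universe u
open EtAlg

namespace Groth.Agent.S1961

open Groth.Agent.Lib.Helper22.SqZeroPullback

/-- A henselization S of a local ring R (characterized by its universal property) is formally étale over
R. -/
theorem result (R S : Type u) [CommRing R] [IsLocalRing R] [CommRing S] [IsLocalRing S]
    [Algebra R S] [IsLocalHom (algebraMap R S)] [Hensel.IsHenselization R S] : Algebra.FormallyEtale R S := by
  haveI hS : HenselianLocalRing S := Hensel.IsHenselization.henselian R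
  rw [Algebra.FormallyEtale.iff_comp_bijective]
  intro B _ _ I hI
  -- key: for each `g` there is a unique lift
  have key : ∀ g : S →ₐ[R] B ⧸ I, ∃! g' : S →ₐ[R] B, (Ideal.Quotient.mkₐ R I).comp g' = g := by
    intro g
    haveI : HenselianLocalRing (Pb I g) := henselian I g hI
    haveI hloc : IsLocalHom (algebraMap R (Pb I g)) := isLocalHom_algebraMap I g hI
    obtain ⟨h, hh, hu⟩ := Hensel.IsHenselization.universal (R := R) (S := S) (Pb I g)
      (algebraMap R (Pb I g)) hloc
    -- p₂ ∘ h = id
    obtain ⟨i, -, hiu⟩ := Hensel.IsHenselization.universal (R := R) (S := S) S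
      (algebraMap R S) inferInstance
    have e1 : (pbSnd I g).toRingHom.comp h = i := by
      apply hiu
      rw [RingHom.comp_assoc, hh]
      ext r
      exact (pbSnd I g).commutes r
    have e2 : RingHom.id S = i := hiu _ (by ext r; rfl)
    have hsec : ∀ s, pbSnd I g (h s) = s := by
      intro s
      have := congrArg (fun k : S →+* S => k s) (e1.trans e2.symm)
      exact this
    -- the algebra hom
    let hA : S →ₐ[R] Pb I g :=
      { h with commutes' := fun r => congrArg (fun k : R →+* Pb I g => k r) hh }
    refine ⟨(pbFst I g).comp hA, ?_, ?_⟩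
    · ext s
      show Ideal.Quotient.mk I (pbFst I g (h s)) = g s
      rw [mk_pbFst, hsec]
    · intro g' hg'
      have e3 : (pbLift I g g' hg').toRingHom = h := by
        apply hu
        exact RingHom.ext fun r => (pbLift I g g' hg').commutes r
      ext s
      have := congrArg (fun k : S →+* Pb I g => pbFst I g (k s)) e3
      exact this
  constructor
  · intro g₁ g₂ h12
    obtain ⟨g', -, hu⟩ := key ((Ideal.Quotient.mkₐ R I).comp g₁)
    rw [hu g₁ rfl, hu g₂ h12.symm]
  · intro g
    obtain ⟨g', hg', -⟩ := key g
    exact ⟨g', hg'⟩

end Groth.Agent.S1961
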