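import Groth.Statements.S19611
-- import your own Groth.Agent.* helpers here
import Groth.Agent.Lib.Helper27.SchemeEpi

set_option autoImplicit false
universe u
open CategoryTheory AlgebraicGeometry
open CartMod

namespace Groth.Agent.S19611

/-- For a prime p and a scheme Y of characteristic p, write Y♭ for the scheme-theoretic image of the
absolute Frobenius F_Y : Y → Y, i.e. the closed subscheme of Y defined by the sections of O_Y whose
p-th power vanishes, and Y → Y♭ for the canonical morphism through which F_Y factors. Then Y → Y♭ is
an epimorphism of schemes: two morphisms g₁, g₂ from Y♭ to a scheme Z with equal composites Y → Y♭ →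
Z are equal. (The published statement is for k-morphisms g₁, g₂ from Y♭ to a k-scheme Z over a
perfect field k of characteristic p, compared after Frobenius twist through Y → (Y♭)'; this row asks
right-cancellation against morphisms to every scheme Z, which is equivalent to it for k-morphisms.) -/
theorem result (p : ℕ) [Fact p.Prime] (Y : Scheme.{u}) [FrobSch.IsCharP Y p] :
    Epi (FrobSch.frob Y p).toImage := by
  have hqc : QuasiCompact (FrobSch.frob Y p) := ⟨fun U _ hc => hc⟩
  apply Groth.Agent.Lib.Helper27.SchemeEpi.epi_of_surjective_of_app_injective
  · intro z
    refine ⟨(FrobSch.frob Y p).imageι z, ?_⟩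
    apply (FrobSch.frob Y p).imageι.isEmbedding.injective
    have h1 : ((FrobSch.frob Y p).toImage ≫ (FrobSch.frob Y p).imageι) ((FrobSch.frob Y p).imageι z) =
        (FrobSch.frob Y p) ((FrobSch.frob Y p).imageι z) := by
      rw [Scheme.Hom.toImage_imageι]
    exact h1
  · intro V
    exact TopCat.Presheaf.app_injective_of_stalkFunctor_map_injective
      (F := (FrobSch.frob Y p).image.sheaf) (FrobSch.frob Y p).toImage.c V
      (fun x _ => (FrobSch.frob Y p).stalkFunctor_toImage_injective x)

end Groth.Agent.S19611
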