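import Groth.Statements.S19612
import Mathlib
-- import your own Groth.Agent.* helpers here

set_option autoImplicit false
universe u
open scoped TensorProduct
open CartMod

namespace Groth.Agent.S19612

open TensorProduct in
theorem exists_one_tmul {W : Type u} [CommRing W] (J : Ideal W) (A : Type u) [AddCommGroup A]
    [Module W A] (z : (W ⧸ J) ⊗[W] A) : ∃ x' : A, z = (1 : W ⧸ J) ⊗ₜ[W] x' := by
  induction z using TensorProduct.induction_on with
  | zero => exact ⟨0, by simp⟩
  | tmul w a =>
    obtain ⟨w, rfl⟩ := Ideal.Quotient.mk_surjective w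
    refine ⟨w • a, ?_⟩
    rw [← TensorProduct.smul_tmul, ← Ideal.Quotient.algebraMap_eq, Algebra.algebraMap_eq_smul_one]
  | add x y hx hy =>
    obtain ⟨a, rfl⟩ := hx
    obtain ⟨b, rfl⟩ := hy
    exact ⟨a + b, by rw [TensorProduct.tmul_add]⟩

/-- Let k be a perfect field of characteristic p, W = W(k) the ring of Witt vectors of k, and A a
commutative W-algebra which is complete and separated for the p-adic topology (an adic W-algebra).
Then flatness of A over W is equivalent to flatness of A/p^nA = (W/p^nW) ⊗_W A over W/p^nW for every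
n ≥ 1. -/
theorem result (p : ℕ) [Fact p.Prime] (k : Type u) [Field k]
    [CharP k p] [PerfectRing k p] (A : Type u) [CommRing A] [Algebra (WittVector p k) A]
    [IsAdicComplete (Ideal.span {(p : WittVector p k)}) A] :
    Module.Flat (WittVector p k) A ↔
      ∀ n : ℕ, 1 ≤ n →
        Module.Flat (WittVector p k ⧸ (Ideal.span {(p : WittVector p k)} ^ n))
          ((WittVector p k ⧸ (Ideal.span {(p : WittVector p k)} ^ n)) ⊗[WittVector p k] A) := by
  constructor
  · intro hflat n _
    infer_instance
  · intro h
    have hpne : (p : WittVector p k) ≠ 0 := WittVector.p_nonzero p k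
    -- key: p is a nonzerodivisor on A
    have key : ∀ x : A, (p : WittVector p k) • x = 0 → x = 0 := by
      intro x hx
      refine IsHausdorff.haus' (I := Ideal.span {(p : WittVector p k)}) x ?_
      intro n
      rw [SModEq.zero]
      haveI := h (n + 1) (by omega)
      have hrel : ∑ _i : Fin 1, (Ideal.Quotient.mk (Ideal.span {(p : WittVector p k)} ^ (n + 1))
          (p : WittVector p k)) • ((1 : WittVector p k ⧸ Ideal.span {(p : WittVector p k)} ^ (n + 1))
            ⊗ₜ[WittVector p k] x) = 0 := by
        rw [Fin.sum_univ_one, TensorProduct.smul_tmul', smul_eq_mul, mul_one,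
          ← Ideal.Quotient.algebraMap_eq, Algebra.algebraMap_eq_smul_one, TensorProduct.smul_tmul,
          hx, TensorProduct.tmul_zero]
      obtain ⟨k', a, y, hxy, hfa⟩ := Module.Flat.isTrivialRelation_of_sum_smul_eq_zero hrel
      have hxy0 : (1 : WittVector p k ⧸ Ideal.span {(p : WittVector p k)} ^ (n + 1))
          ⊗ₜ[WittVector p k] x = ∑ j, a 0 j • y j := hxy 0
      -- each a 0 j is a multiple of p^n
      have haj : ∀ j, ∃ c : WittVector p k ⧸ Ideal.span {(p : WittVector p k)} ^ (n + 1),
          a 0 j = Ideal.Quotient.mk _ ((p : WittVector p k) ^ n) * c := by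
        intro j
        obtain ⟨b, hb⟩ := Ideal.Quotient.mk_surjective (a 0 j)
        have h1 := hfa j
        rw [Fin.sum_univ_one, ← hb, ← map_mul, Ideal.Quotient.eq_zero_iff_mem,
          Ideal.span_singleton_pow, Ideal.mem_span_singleton'] at h1
        obtain ⟨c, hc⟩ := h1
        have h2 : b = (p : WittVector p k) ^ n * c := by
          apply mul_left_cancel₀ hpne
          rw [← hc]; ring
        exact ⟨Ideal.Quotient.mk _ c, by rw [← hb, h2, map_mul]⟩
      choose c hc using haj
      obtain ⟨x', hx'⟩ := exists_one_tmul (Ideal.span {(p : WittVector p k)} ^ (n + 1)) A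
        (∑ j, c j • y j)
      have h3 : (1 : WittVector p k ⧸ Ideal.span {(p : WittVector p k)} ^ (n + 1))
          ⊗ₜ[WittVector p k] x = (1 : WittVector p k ⧸ Ideal.span {(p : WittVector p k)} ^ (n + 1))
          ⊗ₜ[WittVector p k] ((p : WittVector p k) ^ n • x') := by
        rw [hxy0]
        calc ∑ j, a 0 j • y j = Ideal.Quotient.mk (Ideal.span {(p : WittVector p k)} ^ (n + 1))
              ((p : WittVector p k) ^ n) • ∑ j, c j • y j := by
              rw [Finset.smul_sum]
              refine Finset.sum_congr rfl fun j _ => ?_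
              rw [hc j, mul_smul]
          _ = _ := by
              rw [hx', TensorProduct.smul_tmul', smul_eq_mul, mul_one,
                ← Ideal.Quotient.algebraMap_eq, Algebra.algebraMap_eq_smul_one,
                TensorProduct.smul_tmul]
      have h4 := congrArg (TensorProduct.quotTensorEquivQuotSMul A
        (Ideal.span {(p : WittVector p k)} ^ (n + 1))) h3
      rw [TensorProduct.quotTensorEquivQuotSMul_mk_one_tmul,
        TensorProduct.quotTensorEquivQuotSMul_mk_one_tmul, Submodule.Quotient.eq] at h4
      have h5 : (Ideal.span {(p : WittVector p k)} ^ (n + 1) • ⊤ : Submodule (WittVector p k) A) ≤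
          Ideal.span {(p : WittVector p k)} ^ n • ⊤ :=
        Submodule.smul_mono_left (Ideal.pow_le_pow_right (by omega))
      have h6 : (p : WittVector p k) ^ n • x' ∈
          (Ideal.span {(p : WittVector p k)} ^ n • ⊤ : Submodule (WittVector p k) A) :=
        Submodule.smul_mem_smul (Ideal.pow_mem_pow (Ideal.mem_span_singleton_self _) n)
          Submodule.mem_top
      have : x = (x - (p : WittVector p k) ^ n • x') + (p : WittVector p k) ^ n • x' := by abel
      rw [this]
      exact Submodule.add_mem _ (h5 h4) h6
    rw [Module.Flat.flat_iff_torsion_eq_bot_of_isBezout, eq_bot_iff]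
    intro a ha
    rw [Submodule.mem_torsion_iff] at ha
    obtain ⟨⟨r, hr⟩, hra⟩ := ha
    have hr0 : r ≠ 0 := nonZeroDivisors.ne_zero hr
    obtain ⟨m, b, hb⟩ := WittVector.exists_eq_pow_p_mul' r hr0
    change r • a = 0 at hra
    have hpm : (p : WittVector p k) ^ m • a = 0 := by
      have h1 : ((b⁻¹ : (WittVector p k)ˣ) : WittVector p k) • (r • a) = 0 := by
        rw [hra, smul_zero]
      rw [smul_smul, hb, mul_comm, mul_assoc, Units.mul_inv, mul_one] at h1
      exact h1
    rw [Submodule.mem_bot]
    clear hra hb
    induction m with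
    | zero => simpa using hpm
    | succ m ih =>
      apply ih
      apply key
      rw [smul_smul, ← pow_succ']
      exact hpm

end Groth.Agent.S19612
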