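import Groth.Statements.S1962
import Mathlib
import Groth.Agent.Lib.Helper22.SqZeroPullback

set_option autoImplicit false
universe u
open EtAlg

namespace Groth.Agent.S1962

open Groth.Agent.Lib.Helper22.SqZeroPullback IsLocalRing

/-- A strict henselization S of a local ring R (characterized by its universal property, with R → S a
local homomorphism) is formally étale over R. -/
theorem result (R S : Type u) [CommRing R] [IsLocalRing R] [CommRing S]
    [IsLocalRing S] [Algebra R S] [IsLocalHom (algebraMap R S)] [Hensel.IsStrictHenselization R S] :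
    Algebra.FormallyEtale R S := by
  have hS : HenselianLocalRing S := Hensel.IsStrictHenselization.henselian R
  rw [Algebra.FormallyEtale.iff_comp_bijective]
  intro B _ _ I hI
  -- key: for each `g` there is a unique lift
  have key : ∀ g : S →ₐ[R] B ⧸ I, ∃! g' : S →ₐ[R] B, (Ideal.Quotient.mkₐ R I).comp g' = g := by
    intro g
    haveI hC : HenselianLocalRing (Pb I g) := henselian I g hI
    haveI hloc : IsLocalHom (algebraMap R (Pb I g)) := isLocalHom_algebraMap I g hI
    haveI hp : IsLocalHom (pbSnd I g).toRingHom := isLocalHom_pbSnd I g hI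
    -- the residue field map of `p₂` is bijective
    set P : ResidueField (Pb I g) →+* ResidueField S := ResidueField.map (pbSnd I g).toRingHom
      with hP
    have hPres : ∀ c : Pb I g, P (residue _ c) = residue S (pbSnd I g c) := fun c => rfl
    have hPinj : Function.Injective P := P.injective
    have hPsurj : Function.Surjective P := by
      intro y
      obtain ⟨s, rfl⟩ := residue_surjective y
      obtain ⟨c, rfl⟩ := pbSnd_surjective I g s
      exact ⟨residue _ c, rfl⟩
    let E : ResidueField (Pb I g) ≃+* ResidueField S := RingEquiv.ofBijective P ⟨hPinj, hPsurj⟩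
    have hE : ∀ x, P (E.symm x) = x := fun x => E.apply_symm_apply x
    let τ : ResidueField S →+* ResidueField (Pb I g) := E.symm.toRingHom
    have hτP : ∀ x, P (τ x) = x := hE
    have hτ : τ.comp (ResidueField.map (algebraMap R S)) =
        ResidueField.map (algebraMap R (Pb I g)) := by
      ext x
      obtain ⟨r, rfl⟩ := residue_surjective x
      apply hPinj
      rw [RingHom.comp_apply, hτP, ResidueField.map_residue, ResidueField.map_residue, hPres,
        AlgHom.commutes]
    obtain ⟨h, ⟨hh1, hh2⟩, hu⟩ := Hensel.IsStrictHenselization.universal (R := R) (S := S) (Pb I g)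
      (algebraMap R (Pb I g)) τ hτ
    -- p₂ ∘ h = id
    obtain ⟨i, -, hiu⟩ := Hensel.IsStrictHenselization.universal (R := R) (S := S) S
      (algebraMap R S) (RingHom.id _) (by rw [RingHom.id_comp])
    have e1 : (pbSnd I g).toRingHom.comp h = i := by
      apply hiu
      refine ⟨?_, ?_⟩
      · rw [RingHom.comp_assoc, hh1]
        exact RingHom.ext fun r => (pbSnd I g).commutes r
      · intro x
        show residue S (pbSnd I g (h x)) = residue S x
        rw [← hPres, hh2, hτP]
    have e2 : RingHom.id S = i := hiu _ ⟨RingHom.ext fun r => rfl, fun x => rfl⟩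
    have hsec : ∀ s, pbSnd I g (h s) = s := by
      intro s
      have := congrArg (fun k : S →+* S => k s) (e1.trans e2.symm)
      exact this
    -- the algebra hom
    let hA : S →ₐ[R] Pb I g :=
      { h with commutes' := fun r => congrArg (fun k : R →+* Pb I g => k r) hh1 }
    refine ⟨(pbFst I g).comp hA, ?_, ?_⟩
    · ext s
      show Ideal.Quotient.mk I (pbFst I g (h s)) = g s
      rw [mk_pbFst, hsec]
    · intro g' hg'
      have e3 : (pbLift I g g' hg').toRingHom = h := by
        apply hu
        refine ⟨RingHom.ext fun r => (pbLift I g g' hg').commutes r, ?_⟩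
        intro x
        apply hPinj
        rw [hτP]
        show residue S (pbSnd I g (pbLift I g g' hg' x)) = residue S x
        rw [pbSnd_pbLift]
      ext s
      have := congrArg (fun k : S →+* Pb I g => pbFst I g (k s)) e3
      exact this
  constructor
  · intro g₁ g₂ h12
    obtain ⟨g', -, hu⟩ := key ((Ideal.Quotient.mkₐ R I).comp g₁)
    rw [hu g₁ rfl, hu g₂ h12.symm]
  · intro g
    obtain ⟨g', hg', -⟩ := key g
    exact ⟨g', hg'⟩

end Groth.Agent.S1962
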