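import Groth.Statements.S19624
import Mathlib
import Groth.Agent.Lib.Helper25.CokerDetGlobal
-- import your own Groth.Agent.* helpers here

set_option autoImplicit false
set_option linter.unusedSectionVars false
set_option linter.style.haveILetI false
universe u v
open IntTh

namespace Groth.Agent.S19624

open Groth.Agent.Lib.Helper25.CokerDetGlobal Function

section one
variable {B : Type u} [CommRing B] (ω : B ≃+* B) {r : ℕ} {M N : Type v} [AddCommGroup M]
  [Module B M] [AddCommGroup N] [Module B N]
  (bM : Module.Basis (Fin r) B M) (bN : Module.Basis (Fin r) B N) (χ : M →+ N)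
  (hχ : ∀ (b : B) (x : M), χ (b • x) = ω b • χ x)

/-- the matrix of `χ` -/
noncomputable def mat : Matrix (Fin r) (Fin r) B := Matrix.of fun a c => bN.repr (χ (bM c)) a

/-- linearization of `χ` -/
noncomputable def lin : (Fin r → B) →ₗ[B] N := Fintype.linearCombination B (fun c => χ (bM c))

include hχ in
lemma range_chi_eq : (Set.range χ : Set N) = LinearMap.range (lin bM χ) := by
  ext y
  constructor
  · rintro ⟨x, rfl⟩
    refine ⟨fun c => ω (bM.repr x c), ?_⟩
    conv_rhs => rw [← bM.sum_repr x]
    rw [map_sum]
    simp [lin, Fintype.linearCombination_apply, hχ]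
  · rintro ⟨y, rfl⟩
    refine ⟨∑ c, ω.symm (y c) • bM c, ?_⟩
    rw [map_sum]
    simp [lin, Fintype.linearCombination_apply, hχ]

include hχ in
lemma span_range_chi : Submodule.span B (Set.range χ) = LinearMap.range (lin bM χ) := by
  rw [range_chi_eq ω bM χ hχ, Submodule.span_eq]

lemma equivFun_comp_lin :
    bN.equivFun.toLinearMap.comp (lin bM χ) = Matrix.toLin' (mat bM bN χ) := by
  apply LinearMap.ext
  intro y
  funext a
  simp [lin, mat, Fintype.linearCombination_apply, Matrix.toLin'_apply, Matrix.mulVec,
    dotProduct, mul_comm]

include hχ in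
lemma length_quot : Module.length B (N ⧸ Submodule.span B (Set.range χ)) =
    Module.length B ((Fin r → B) ⧸ LinearMap.range (Matrix.toLin' (mat bM bN χ))) := by
  refine (Submodule.Quotient.equiv _ _ bN.equivFun ?_).length_eq
  rw [span_range_chi ω bM χ hχ, ← equivFun_comp_lin, LinearMap.range_comp]

end one

lemma length_coker_eq_addVal {B : Type u} [CommRing B] [IsDomain B] [IsDiscreteValuationRing B]
    {r : ℕ} (P : Matrix (Fin r) (Fin r) B) :
    Module.length B ((Fin r → B) ⧸ LinearMap.range (Matrix.toLin' P)) =
      IsDiscreteValuationRing.addVal B P.det := by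
  by_cases h : P.det = 0
  · rw [h, AddValuation.map_zero]
    have := length_le_length_coker_of_det_eq_zero B P h
    rw [length_self_eq_top_of_not_isField B (IsDiscreteValuationRing.not_isField B)] at this
    exact top_le_iff.1 this
  · rw [length_coker_eq_ord_det P (mem_nonZeroDivisors_of_ne_zero h), Ring.ord_eq_addVal]

lemma addVal_prod {B : Type u} [CommRing B] [IsDomain B] [IsDiscreteValuationRing B]
    {ι : Type*} (s : Finset ι) (f : ι → B) :
    IsDiscreteValuationRing.addVal B (∏ i ∈ s, f i) =
      ∑ i ∈ s, IsDiscreteValuationRing.addVal B (f i) := by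
  classical
  induction s using Finset.induction_on with
  | empty => simp
  | insert a s ha ih =>
    rw [Finset.prod_insert ha, Finset.sum_insert ha, AddValuation.map_mul, ih]

/-- Let B be a discrete valuation ring with its normalised additive valuation v (so v(0) = ∞) and ω a
ring automorphism of B. For each i in a finite index set let M_i and N_i be free B-modules with
chosen bases indexed by one and the same finite type, and χ_i : M_i → N_i an additive map which is
ω-semilinear, χ_i(b·x) = ω(b)·χ_i(x); write A_i for the matrix of χ_i in the chosen bases. Then the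
length over B of the cokernel of the direct sum χ = ⊕_i χ_i : ⊕_i M_i → ⊕_i N_i (the quotient of ⊕_i
N_i by the submodule generated by the image of χ) equals v(∏_i det A_i); in particular both sides
are infinite exactly when some det A_i is zero. -/
theorem result {B : Type u} [CommRing B] [IsDomain B]
    [IsDiscreteValuationRing B] (ω : B ≃+* B) {n : ℕ} (r : Fin n → ℕ)
    (M N : Fin n → Type v) [∀ i, AddCommGroup (M i)] [∀ i, Module B (M i)]
    [∀ i, AddCommGroup (N i)] [∀ i, Module B (N i)]
    (bM : ∀ i, Module.Basis (Fin (r i)) B (M i)) (bN : ∀ i, Module.Basis (Fin (r i)) B (N i))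
    (χ : ∀ i, M i →+ N i) (hχ : ∀ i (b : B) (x : M i), χ i (b • x) = ω b • χ i x) :
    Module.length B ((∀ i, N i) ⧸ Submodule.span B (Set.range (fun (x : ∀ i, M i) (i : Fin n) => χ i (x i)))) =
      IsDiscreteValuationRing.addVal B (∏ i, Matrix.det
        (Matrix.of fun (a c : Fin (r i)) => (bN i).repr (χ i (bM i c)) a)) := by
  classical
  have hS : Submodule.span B (Set.range (fun (x : ∀ i, M i) (i : Fin n) => χ i (x i))) =
      Submodule.pi Set.univ (fun i => Submodule.span B (Set.range (χ i))) := by
    apply le_antisymm
    · rw [Submodule.span_le]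
      rintro _ ⟨x, rfl⟩
      exact Submodule.mem_pi.2 fun i _ => Submodule.subset_span ⟨x i, rfl⟩
    · intro y hy
      rw [← Finset.univ_sum_single y]
      refine Submodule.sum_mem _ fun i _ => ?_
      have hmap : Submodule.map (LinearMap.single B N i) (Submodule.span B (Set.range (χ i))) ≤
          Submodule.span B (Set.range (fun (x : ∀ i, M i) (i : Fin n) => χ i (x i))) := by
        rw [Submodule.map_span, Submodule.span_le]
        rintro _ ⟨_, ⟨m, rfl⟩, rfl⟩
        apply Submodule.subset_span
        refine ⟨Pi.single i m, ?_⟩
        funext j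
        by_cases h : j = i
        · subst h; simp
        · simp [h]
      exact hmap (Submodule.mem_map_of_mem (Submodule.mem_pi.1 hy i trivial))
  rw [(Submodule.quotEquivOfEq _ _ hS).length_eq, (Submodule.quotientPi _).length_eq,
    Module.length_pi_of_fintype, addVal_prod]
  refine Finset.sum_congr rfl fun i _ => ?_
  rw [length_quot ω (bM i) (bN i) (χ i) (hχ i), length_coker_eq_addVal]
  rfl

end Groth.Agent.S19624
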