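import Groth.Statements.S19630
import Groth.Agent.Lib.Helper24.DeRhamLemmas
import Mathlib.RingTheory.Unramified.Field
import Mathlib.FieldTheory.Perfect
-- import your own Groth.Agent.* helpers here

set_option autoImplicit false
universe u
open DeRham

namespace Groth.Agent.S19630

open exteriorPower in
/-- In the affine case, at ring level, let k ⊆ K be a finite extension of fields of characteristic zero
and B a smooth K-algebra, so that Y = Spec B is a smooth affine variety over K which may also be
regarded over k. Let ψ be the map of de Rham complexes from Ω•_{B/k} to Ω•_{B/K} induced by the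
identity of B. Then ψ is bijective in every degree: the de Rham complex of Y over k and over K
coincide, and hence the natural map H^i_dR(Y/k) → H^i_dR(Y/K) is an isomorphism. (The source states
the isomorphism on de Rham cohomology for any smooth variety Y over K, through the equality of the
two de Rham complexes; this row is that equality for affine Y.) -/
theorem result
    (k K : Type u) [Field k] [Field K] [CharZero k] [Algebra k K] [Module.Finite k K]
    (B : Type u) [CommRing B] [Algebra K B] [Algebra k B] [IsScalarTower k K B] [Algebra.Smooth K B]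
    (ψ : ∀ p : ℕ, ↥(⋀[B]^p (Ω[B⁄k])) →+ ↥(⋀[B]^p (Ω[B⁄K])))
    (hψ : DeRham.IsCxMap (KaehlerDifferential.D k B) (KaehlerDifferential.D K B) (RingHom.id B) ψ)
    (p : ℕ) :
    Function.Bijective (ψ p) := by
  classical
  have : Algebra.IsSeparable k K := inferInstance
  have : Algebra.FormallyUnramified k K := Algebra.FormallyUnramified.of_isSeparable k K
  let e₁ : Ω[B⁄k] →ₗ[B] Ω[B⁄K] := KaehlerDifferential.map k K B B
  have hsurj : Function.Surjective e₁ := KaehlerDifferential.map_surjective k K B
  have hinj : Function.Injective e₁ := by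
    rw [← LinearMap.ker_eq_bot, eq_bot_iff]
    intro x hx
    have hex := KaehlerDifferential.exact_mapBaseChange_map k K B
    obtain ⟨y, rfl⟩ := (hex x).mp hx
    have : Subsingleton (TensorProduct K B (Ω[K⁄k])) := by
      refine ⟨fun a b => ?_⟩
      have h0 : ∀ z : TensorProduct K B (Ω[K⁄k]), z = 0 := by
        intro z
        induction z using TensorProduct.induction_on with
        | zero => rfl
        | tmul b w => rw [Subsingleton.elim w 0, TensorProduct.tmul_zero]
        | add z w hz hw => rw [hz, hw, add_zero]
      rw [h0 a, h0 b]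
    rw [Subsingleton.elim y 0, map_zero]
    exact Submodule.zero_mem _
  let e : Ω[B⁄k] ≃ₗ[B] Ω[B⁄K] := LinearEquiv.ofBijective e₁ ⟨hinj, hsurj⟩
  have hψ' : ∀ x, ψ p x = exteriorPower.map p e₁ x := by
    intro x
    induction x using Groth.Agent.Lib.Helper24.DeRhamL.kaehler_induction with
    | hgen b₀ b =>
      rw [hψ p b₀ b]
      unfold DeRham.gen
      rw [map_smul, exteriorPower.map_apply_ιMulti]
      simp only [RingHom.id_apply]
      congr 2
      funext i
      simp only [Function.comp_apply, e₁]
      rw [KaehlerDifferential.map_D]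
      rfl
    | h0 => simp
    | hadd x y hx hy => rw [map_add, map_add, hx, hy]
  have hbij : Function.Bijective (exteriorPower.map p e₁) := by
    have h1 : (exteriorPower.map p (e.symm : Ω[B⁄K] →ₗ[B] Ω[B⁄k])) ∘ₗ (exteriorPower.map p e₁) =
        LinearMap.id := by
      rw [← exteriorPower.map_comp]
      have : (e.symm : Ω[B⁄K] →ₗ[B] Ω[B⁄k]) ∘ₗ e₁ = LinearMap.id :=
        LinearMap.ext fun x => e.symm_apply_apply x
      rw [this, exteriorPower.map_id]
    have h2 : (exteriorPower.map p e₁) ∘ₗ (exteriorPower.map p (e.symm : Ω[B⁄K] →ₗ[B] Ω[B⁄k])) =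
        LinearMap.id := by
      rw [← exteriorPower.map_comp]
      have : e₁ ∘ₗ (e.symm : Ω[B⁄K] →ₗ[B] Ω[B⁄k]) = LinearMap.id :=
        LinearMap.ext fun x => e.apply_symm_apply x
      rw [this, exteriorPower.map_id]
    refine ⟨Function.LeftInverse.injective (g := exteriorPower.map p (e.symm : Ω[B⁄K] →ₗ[B] Ω[B⁄k]))
      (fun x => congrArg (fun f => f x) h1 |>.trans rfl),
      Function.RightInverse.surjective (g := exteriorPower.map p (e.symm : Ω[B⁄K] →ₗ[B] Ω[B⁄k]))
      (fun x => congrArg (fun f => f x) h2 |>.trans rfl)⟩
  have : (ψ p : _ → _) = exteriorPower.map p e₁ := funext hψ'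
  rw [this]
  exact hbij

end Groth.Agent.S19630
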