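import Groth.Statements.S1964
import Groth.Agent.Lib.Helper12.HenselIntegralDomain

set_option autoImplicit false
universe u
open EtAlg

namespace Groth.Agent.S1964

/-- A domain B integral over a henselian local ring A is itself henselian local, and the structure map A
-> B is local; if the residue field of A is separably closed, so is that of B, and the residue field
extension is purely inseparable. -/
theorem result (A B : Type u) [CommRing A] [HenselianLocalRing A] [CommRing B]
    [IsDomain B] [Algebra A B] [Algebra.IsIntegral A B] :
    ∃ _ : HenselianLocalRing B, IsLocalHom (algebraMap A B) ∧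
      (IsSepClosed (IsLocalRing.ResidueField A) →
        IsSepClosed (IsLocalRing.ResidueField B) ∧
        ∀ _ : IsLocalHom (algebraMap A B),
          letI := (IsLocalRing.ResidueField.map (algebraMap A B)).toAlgebra
          IsPurelyInseparable (IsLocalRing.ResidueField A) (IsLocalRing.ResidueField B)) := by
  open Groth.Agent.Lib.Helper12 IsLocalRing in
  haveI hloc : IsLocalRing B := isLocalRing_of_isIntegral_of_isDomain A B
  have hB : HenselianLocalRing B := henselianLocalRing_of_isIntegral A B
  have hAB : IsLocalHom (algebraMap A B) := by
    refine ⟨fun a ha => ?_⟩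
    by_contra hna
    have h1 : a ∈ maximalIdeal A := hna
    have hmax : ((maximalIdeal B).comap (algebraMap A B)).IsMaximal :=
      Ideal.isMaximal_comap_of_isIntegral_of_isMaximal (maximalIdeal B)
    rw [← IsLocalRing.eq_maximalIdeal hmax, Ideal.mem_comap] at h1
    exact h1 ha
  refine ⟨hB, hAB, fun hsep => ?_⟩
  letI := (ResidueField.map (algebraMap A B)).toAlgebra
  haveI : Algebra.IsAlgebraic (ResidueField A) (ResidueField B) := by
    refine ⟨fun x => ?_⟩
    obtain ⟨b, rfl⟩ := residue_surjective x
    obtain ⟨p, hp, hpb⟩ := Algebra.IsIntegral.isIntegral (R := A) b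
    refine IsIntegral.isAlgebraic ⟨p.map (residue A), hp.map _, ?_⟩
    have h1 : Polynomial.eval₂ (algebraMap (ResidueField A) (ResidueField B)) (residue B b)
        (p.map (residue A)) = residue B (Polynomial.eval₂ (algebraMap A B) b p) := by
      rw [Polynomial.eval₂_map, Polynomial.hom_eval₂]
      congr 1
    rw [h1, hpb, map_zero]
  haveI hsc : IsSepClosed (ResidueField B) :=
    Algebra.IsAlgebraic.isSepClosed (F := ResidueField A) (E := ResidueField B)
  exact ⟨hsc, fun _ => inferInstance⟩

end Groth.Agent.S1964
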