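import Groth.Statements.S1965
import Mathlib
import Groth.Agent.Lib.Helper12.KrasnerA

set_option autoImplicit false
universe u
open Polynomial
open EtAlg

namespace Groth.Agent.S1965

/-- Let A be a complete Noetherian local domain of Krull dimension 1 with maximal ideal m, P a
polynomial over A and α a root of P which is not a root of the derivative P'. Then for every c there
is an n such that for every polynomial Q all of whose coefficients lie in m^n, the polynomial P + Q
has a root β with β - α in m^c. -/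
theorem result (A : Type u) [CommRing A] [IsDomain A] [IsLocalRing A] [IsNoetherianRing A]
    [IsAdicComplete (IsLocalRing.maximalIdeal A) A] (hdim : ringKrullDim A = 1) (P : A[X]) (α : A)
    (hα : P.eval α = 0) (hα' : (derivative P).eval α ≠ 0) (c : ℕ) :
    ∃ n : ℕ, ∀ Q : A[X], (∀ i, Q.coeff i ∈ IsLocalRing.maximalIdeal A ^ n) →
      ∃ β : A, (P + Q).eval β = 0 ∧ β - α ∈ IsLocalRing.maximalIdeal A ^ c := by
  classical
  set m := IsLocalRing.maximalIdeal A with hm
  set d₀ := (derivative P).eval α with hd₀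
  have hz : d₀ ^ 2 ≠ 0 := pow_ne_zero 2 hα'
  obtain ⟨r, hr⟩ := Groth.Agent.Lib.Helper12.Krasner.exists_pow_le_span_singleton hdim (d₀ ^ 2) hz
  refine ⟨r + (c + 1), fun Q hQ => ?_⟩
  have hle : m ^ (r + (c + 1)) ≤ Ideal.span {d₀ ^ 2} * m ^ (c + 1) := by
    rw [pow_add]
    exact Ideal.mul_mono_left hr
  have hmem : ∀ T : A[X], (∀ i, T.coeff i ∈ m ^ (r + (c + 1))) → ∀ b : A,
      T.eval b ∈ m ^ (r + (c + 1)) := by
    intro T hT b
    rw [Polynomial.eval_eq_sum]
    exact Ideal.sum_mem _ fun i _ => Ideal.mul_mem_right _ _ (hT i)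
  have hQ' : ∀ i, (derivative Q).coeff i ∈ m ^ (r + (c + 1)) := by
    intro i
    rw [Polynomial.coeff_derivative]
    exact Ideal.mul_mem_right _ _ (hQ _)
  obtain ⟨e₀, he₀, hq0⟩ := Ideal.mem_span_singleton_mul.mp (hle (hmem Q hQ α))
  obtain ⟨e₁, he₁, hq1⟩ := Ideal.mem_span_singleton_mul.mp (hle (hmem _ hQ' α))
  have hcm : m ^ (c + 1) ≤ m := Ideal.pow_le_self (Nat.succ_ne_zero c)
  set F := P + Q with hF
  have hF0 : F.eval α = d₀ ^ 2 * e₀ := by
    rw [hF, eval_add, hα, zero_add, hq0]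
  have hu : IsUnit (1 + d₀ * e₁) := by
    have h1 : d₀ * e₁ ∈ m := Ideal.mul_mem_left _ _ (hcm he₁)
    have h2 : ¬ IsUnit (d₀ * e₁) := (IsLocalRing.mem_maximalIdeal _).mp h1
    have := IsLocalRing.isUnit_or_isUnit_of_isUnit_add (a := 1 + d₀ * e₁) (b := -(d₀ * e₁))
      (by rw [add_neg_cancel_right]; exact isUnit_one)
    rcases this with h | h
    · exact h
    · exact absurd (by simpa using h) h2
  obtain ⟨u, hu_eq⟩ := hu
  have hF1 : (derivative F).eval α = d₀ * u := by
    rw [hF, derivative_add, eval_add, ← hd₀, ← hq1, hu_eq]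
    ring
  set e := (↑(u⁻¹) : A) ^ 2 * e₀ with he
  have heI : e ∈ m ^ (c + 1) := Ideal.mul_mem_left _ _ he₀
  have hfe : F.eval α = ((derivative F).eval α) ^ 2 * e := by
    rw [hF0, hF1, he]
    have : (u : A) * ↑(u⁻¹) = 1 := Units.mul_inv u
    linear_combination (-(d₀ ^ 2 * e₀) * (1 + (u : A) * ↑(u⁻¹))) * this
  obtain ⟨y, v, hv, hyv, hroot⟩ :=
    Groth.Agent.Lib.Helper12.Krasner.exists_root_strong m F α e (hcm heI) hfe
  refine ⟨α + (derivative F).eval α * y, hroot, ?_⟩
  rw [add_sub_cancel_left]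
  apply Ideal.mul_mem_left
  obtain ⟨v, rfl⟩ := hv
  have hy : y = -e * ↑(v⁻¹) := by
    rw [← hyv, mul_assoc, Units.mul_inv, mul_one]
  rw [hy]
  exact Ideal.pow_le_pow_right (Nat.le_succ c) (Ideal.mul_mem_right _ _ (neg_mem heI))

end Groth.Agent.S1965
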