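import Groth.Statements.S19651
import Mathlib
-- import your own Groth.Agent.* helpers here

set_option autoImplicit false
universe u v
open AbVar

namespace Groth.Agent.S19651

open Polynomial in
/-- Stated for an arbitrary invariant bilinear form, as the argument there allows. Let k be a field, V a
k-vector space with a bilinear form B and M a linear automorphism of V with B(Mx, My) = B(x, y) for
all x, y. If Q₁ and Q₂ are polynomials such that the reciprocal polynomial of Q₁ (its coefficient
list reversed) is coprime to Q₂, then every vector killed by a power of Q₁(M) is B-orthogonal to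
every vector killed by a power of Q₂(M). With Q₁ = Q₂ = Q this says that the generalized kernel of
Q(M) is totally isotropic whenever Q is coprime to its reciprocal polynomial, which for an
irreducible Q means that Q is not self-reciprocal. (The published statement takes M symplectic and
Q₁, Q₂ irreducible factors of the characteristic polynomial, with Q not self-reciprocal in the first
clause; its second clause asks Q₁ and Q₂ to be distinct and not reciprocal, which holds as proved
when this is read as saying that Q₂ is not the reciprocal of Q₁, but fails if it only means that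
neither is self-reciprocal, as the diagonal matrix with entries 2 and 1/2 preserving the standard
alternating form on k² shows; the coprimality of the reciprocal of Q₁ with Q₂, which is what the
published proof uses, is imposed here and covers both clauses.) -/
theorem result
    {k : Type u} [Field k] {V : Type v} [AddCommGroup V] [Module k V]
    (B : LinearMap.BilinForm k V) (M : V ≃ₗ[k] V)
    (hM : ∀ x y : V, B (M x) (M y) = B x y)
    (Q₁ Q₂ : k[X]) (h : IsCoprime Q₁.reverse Q₂)
    (x y : V)
    (hx : ∃ n : ℕ, (Polynomial.aeval (M : V →ₗ[k] V) Q₁ ^ n) x = 0)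
    (hy : ∃ n : ℕ, (Polynomial.aeval (M : V →ₗ[k] V) Q₂ ^ n) y = 0) :
    B x y = 0 := by
  classical
  set Me : Module.End k V := (M : V →ₗ[k] V) with hMe
  have hM' : ∀ u v : V, B (Me u) (Me v) = B u v := fun u v => hM u v
  have H1 : ∀ (i : ℕ) (u v : V), B ((Me ^ i) u) ((Me ^ i) v) = B u v := by
    intro i
    induction i with
    | zero => intro u v; simp
    | succ i ih =>
      intro u v
      rw [pow_succ, Module.End.mul_apply, Module.End.mul_apply, ih, hM']
  set N := Q₁.natDegree with hN
  have H2 : ∀ (i : ℕ), i ≤ N → ∀ u v : V, B ((Me ^ i) u) ((Me ^ N) v) = B u ((Me ^ (N - i)) v) := by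
    intro i hi u v
    have : Me ^ N = Me ^ i * Me ^ (N - i) := by rw [← pow_add, Nat.add_sub_cancel' hi]
    rw [this, Module.End.mul_apply, H1]
  set T : Module.End k V := Polynomial.aeval Me Q₁ with hT
  set S : Module.End k V := Polynomial.aeval Me Q₁.reverse with hS
  have H3 : ∀ u v : V, B (T u) ((Me ^ N) v) = B u (S v) := by
    intro u v
    rw [hT, hS, Polynomial.aeval_eq_sum_range,
      Polynomial.aeval_eq_sum_range' (lt_of_le_of_lt (Polynomial.reverse_natDegree_le Q₁)
        (Nat.lt_succ_self N))]
    simp only [LinearMap.sum_apply, map_sum, LinearMap.smul_apply, map_smul, smul_eq_mul]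
    rw [← Finset.sum_range_reflect (fun j => Q₁.reverse.coeff j * (B u) ((Me ^ j) v)) (N + 1)]
    apply Finset.sum_congr rfl
    intro i hi
    have hiN : i ≤ N := Nat.lt_succ_iff.mp (Finset.mem_range.mp hi)
    have e1 : N + 1 - 1 - i = N - i := by omega
    rw [e1, Polynomial.coeff_reverse, Polynomial.revAt_le (Nat.sub_le N i), Nat.sub_sub_self hiN,
      H2 i hiN]
  have H4 : ∀ (P : k[X]) (j : ℕ) (v : V),
      Polynomial.aeval Me P ((Me ^ j) v) = (Me ^ j) (Polynomial.aeval Me P v) := by
    intro P j v
    rw [← Module.End.mul_apply, ← Module.End.mul_apply, ← Polynomial.aeval_X_pow (R := k) Me,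
      ← map_mul, ← map_mul, mul_comm]
  have H5 : ∀ (n : ℕ) (u v : V), B ((T ^ n) u) ((Me ^ (N * n)) v) = B u ((S ^ n) v) := by
    intro n
    induction n with
    | zero => intro u v; simp
    | succ n ih =>
      intro u v
      have e1 : Me ^ (N * (n + 1)) = Me ^ N * Me ^ (N * n) := by rw [← pow_add]; ring_nf
      rw [pow_succ', pow_succ, e1, Module.End.mul_apply, Module.End.mul_apply,
        Module.End.mul_apply, H3]
      rw [show S ((Me ^ (N * n)) v) = (Me ^ (N * n)) (S v) from H4 _ _ _, ih]
  obtain ⟨n, hn⟩ := hx
  obtain ⟨m, hm⟩ := hy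
  have hcop : IsCoprime (Q₁.reverse ^ n) (Q₂ ^ m) := h.pow
  obtain ⟨U, W, hUW⟩ := hcop
  have hy1 : y = (S ^ n) (Polynomial.aeval Me U y) := by
    have h1 := congrArg (fun P => Polynomial.aeval Me P y) hUW
    simp only [map_add, map_mul, map_pow, map_one, LinearMap.add_apply, Module.End.mul_apply,
      Module.End.one_apply] at h1
    rw [hm, map_zero, add_zero] at h1
    have hcomm : ∀ v, Polynomial.aeval Me U ((S ^ n) v) = (S ^ n) (Polynomial.aeval Me U v) := by
      intro v
      rw [hS, ← map_pow, ← Module.End.mul_apply, ← Module.End.mul_apply, ← map_mul, ← map_mul,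
        mul_comm]
    rw [← hcomm]
    exact h1.symm
  rw [hy1, ← H5, hT, hn]
  simp

end Groth.Agent.S19651
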