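import Groth.Statements.S19652
import Mathlib
-- import your own Groth.Agent.* helpers here

set_option autoImplicit false
universe u v
open AbVar

namespace Groth.Agent.S19652

open Polynomial in
theorem adj_pow {k : Type u} [Field k] {V : Type v} [AddCommGroup V] [Module k V]
    (B : LinearMap.BilinForm k V) (Me : Module.End k V)
    (hM' : ∀ u v : V, B (Me u) (Me v) = B u v) (Q : k[X]) (n : ℕ) (u v : V) :
    B ((Polynomial.aeval Me Q ^ n) u) ((Me ^ (Q.natDegree * n)) v) =
      B u ((Polynomial.aeval Me Q.reverse ^ n) v) := by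
  have H1 : ∀ (i : ℕ) (u v : V), B ((Me ^ i) u) ((Me ^ i) v) = B u v := by
    intro i
    induction i with
    | zero => intro u v; simp
    | succ i ih =>
      intro u v
      rw [pow_succ, Module.End.mul_apply, Module.End.mul_apply, ih, hM']
  set N := Q.natDegree with hN
  have H2 : ∀ (i : ℕ), i ≤ N → ∀ u v : V,
      B ((Me ^ i) u) ((Me ^ N) v) = B u ((Me ^ (N - i)) v) := by
    intro i hi u v
    have : Me ^ N = Me ^ i * Me ^ (N - i) := by rw [← pow_add, Nat.add_sub_cancel' hi]
    rw [this, Module.End.mul_apply, H1]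
  set T : Module.End k V := Polynomial.aeval Me Q with hT
  set S : Module.End k V := Polynomial.aeval Me Q.reverse with hS
  have H3 : ∀ u v : V, B (T u) ((Me ^ N) v) = B u (S v) := by
    intro u v
    rw [hT, hS, Polynomial.aeval_eq_sum_range,
      Polynomial.aeval_eq_sum_range' (lt_of_le_of_lt (Polynomial.reverse_natDegree_le Q)
        (Nat.lt_succ_self N))]
    simp only [LinearMap.sum_apply, map_sum, LinearMap.smul_apply, map_smul, smul_eq_mul]
    rw [← Finset.sum_range_reflect (fun j => Q.reverse.coeff j * (B u) ((Me ^ j) v)) (N + 1)]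
    apply Finset.sum_congr rfl
    intro i hi
    have hiN : i ≤ N := Nat.lt_succ_iff.mp (Finset.mem_range.mp hi)
    have e1 : N + 1 - 1 - i = N - i := by omega
    rw [e1, Polynomial.coeff_reverse, Polynomial.revAt_le (Nat.sub_le N i), Nat.sub_sub_self hiN,
      H2 i hiN]
  have H4 : ∀ (P : k[X]) (j : ℕ) (v : V),
      Polynomial.aeval Me P ((Me ^ j) v) = (Me ^ j) (Polynomial.aeval Me P v) := by
    intro P j v
    rw [← Module.End.mul_apply, ← Module.End.mul_apply, ← Polynomial.aeval_X_pow (R := k) Me,
      ← map_mul, ← map_mul, mul_comm]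
  induction n generalizing u v with
  | zero => simp
  | succ n ih =>
    have e1 : Me ^ (N * (n + 1)) = Me ^ N * Me ^ (N * n) := by rw [← pow_add]; ring_nf
    rw [pow_succ', pow_succ, e1, Module.End.mul_apply, Module.End.mul_apply,
      Module.End.mul_apply, H3]
    rw [show S ((Me ^ (N * n)) v) = (Me ^ (N * n)) (S v) from H4 _ _ _, ih]

open Polynomial in
theorem sepLeft {k : Type u} [Field k] {V : Type v} [AddCommGroup V] [Module k V]
    [FiniteDimensional k V]
    (B : LinearMap.BilinForm k V) (hB : ∀ x, (∀ y, B x y = 0) → x = 0) (Me : Module.End k V)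
    (hM' : ∀ u v : V, B (Me u) (Me v) = B u v)
    (Q : k[X]) (hQ : Associated Q Q.reverse) (w : V)
    (hw : w ∈ ⨆ n : ℕ, LinearMap.ker (Polynomial.aeval Me Q ^ n))
    (h0 : ∀ w₂ ∈ ⨆ n : ℕ, LinearMap.ker (Polynomial.aeval Me Q ^ n), B w w₂ = 0) : w = 0 := by
  set T : Module.End k V := Polynomial.aeval Me Q with hT
  obtain ⟨u, hu⟩ := hQ
  obtain ⟨c, hc, hcu⟩ := Polynomial.isUnit_iff.mp u.isUnit
  have hc0 : c ≠ 0 := hc.ne_zero
  have hS : Polynomial.aeval Me Q.reverse = c • T := by
    rw [← hu, ← hcu, map_mul, Polynomial.aeval_C, Algebra.algebraMap_eq_smul_one,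
      mul_smul_comm, mul_one]
  have hcompl := LinearMap.isCompl_iSup_ker_pow_iInf_range_pow T
  -- `w` is killed by some power
  have hmono : Monotone fun n : ℕ => LinearMap.ker (T ^ n) := by
    intro a b hab x hx
    rw [LinearMap.mem_ker] at hx ⊢
    rw [← Nat.sub_add_cancel hab, pow_add, Module.End.mul_apply, hx, map_zero]
  obtain ⟨n, hn⟩ := (Submodule.mem_iSup_of_directed _ hmono.directed_le).mp hw
  rw [LinearMap.mem_ker] at hn
  apply hB
  intro y
  have hy : y ∈ (⨆ n : ℕ, LinearMap.ker (T ^ n)) ⊔ (⨅ n : ℕ, LinearMap.range (T ^ n)) := by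
    rw [hcompl.sup_eq_top]; trivial
  obtain ⟨y₁, hy₁, y₂, hy₂, rfl⟩ := Submodule.mem_sup.mp hy
  rw [map_add, h0 y₁ hy₁, zero_add]
  have hy₂' : y₂ ∈ LinearMap.range (T ^ n) := (Submodule.mem_iInf _).mp hy₂ n
  obtain ⟨z, rfl⟩ := hy₂'
  have h1 := adj_pow B Me hM' Q n w z
  rw [← hT, hn, map_zero, LinearMap.zero_apply, hS, _root_.smul_pow, LinearMap.smul_apply, map_smul,
    smul_eq_mul] at h1
  exact (mul_eq_zero.mp h1.symm).resolve_left (pow_ne_zero n hc0)

open Polynomial in
/-- Stated for an arbitrary invariant nondegenerate bilinear form, as the argument there allows. Let k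
be a field, V a finite-dimensional k-vector space with a nondegenerate bilinear form B and M a
linear automorphism of V with B(Mx, My) = B(x, y) for all x, y. If Q is a polynomial associated to
its own reciprocal polynomial (its coefficient list reversed), then B restricted to the generalized
kernel of Q(M), the union of the kernels of the powers Q(M)^n, is nondegenerate. (The published
statement takes M symplectic and Q a self-reciprocal divisor of the characteristic polynomial;
divisibility plays no role and is not assumed.) -/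
theorem result
    {k : Type u} [Field k] {V : Type v} [AddCommGroup V] [Module k V] [FiniteDimensional k V]
    (B : LinearMap.BilinForm k V) (hB : B.Nondegenerate) (M : V ≃ₗ[k] V)
    (hM : ∀ x y : V, B (M x) (M y) = B x y)
    (Q : k[X]) (hQ : Associated Q Q.reverse) :
    (B.restrict (⨆ n : ℕ, LinearMap.ker (Polynomial.aeval (M : V →ₗ[k] V) Q ^ n))).Nondegenerate := by
  classical
  set Me : Module.End k V := (M : V →ₗ[k] V) with hMe
  have hM' : ∀ u v : V, B (Me u) (Me v) = B u v := fun u v => hM u v
  refine ⟨?_, ?_⟩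
  · intro x hx
    have := sepLeft B (fun x hx => hB.1 x hx) Me hM' Q hQ x.1 x.2
      (fun w₂ hw₂ => hx ⟨w₂, hw₂⟩)
    exact Subtype.ext this
  · intro y hy
    have := sepLeft B.flip (fun x hx => hB.2 x (fun z => by simpa using hx z)) Me
      (fun u v => by simpa using hM' v u) Q hQ y.1 y.2
      (fun w₂ hw₂ => by simpa using hy ⟨w₂, hw₂⟩)
    exact Subtype.ext this

end Groth.Agent.S19652
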