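import Groth.Statements.S19653
import Mathlib
import Groth.Statements.S19653
import Groth.Agent.Lib.Helper13.GeomConnAll

set_option autoImplicit false
universe u
open AlgebraicGeometry CategoryTheory CategoryTheory.Limits
open EGA43

namespace Groth.Agent.S19653

section helpers
set_option linter.unusedSectionVars false
set_option linter.unusedVariables false
set_option linter.style.haveILetI false
open CategoryTheory CategoryTheory.Limits AlgebraicGeometry TopologicalSpace PrimeSpectrum IsLocalRing


open Groth.Agent.Lib.Helper13.GeomConnAll

theorem main (R : Type u) [CommRing R] [IsDomain R] [IsDiscreteValuationRing R]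
    (X : Scheme.{u}) (f : X ⟶ Spec (CommRingCat.of R))
    [Flat f] [IsSeparated f] [LocallyOfFiniteType f] [QuasiCompact f]
    [hcp : IsProper (f.fiberToSpecResidueField (IsLocalRing.closedPoint R))]
    [hcn : Nonempty ↥(f.fiber (IsLocalRing.closedPoint R))]
    [hgc : GeometricallyConnected
      (f.fiberToSpecResidueField (genericPoint ↥(Spec (CommRingCat.of R))))] :
    IsProper f ∧ GeometricallyConnected (f.fiberToSpecResidueField (IsLocalRing.closedPoint R)) := by
  have hgen : ∀ η : ↥(Spec (CommRingCat.of R)),
      (∀ η' : ↥(Spec (CommRingCat.of R)), η' ⤳ η → η' = η) → Nonempty ↥(f.fiber η) →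
      GeometricallyConnected (f.fiberToSpecResidueField η) := by
    intro η hmax _
    have h1 : genericPoint ↥(Spec (CommRingCat.of R)) = η :=
      hmax _ (genericPoint_specializes η)
    subst h1
    exact hgc
  obtain ⟨U, hU, hUp⟩ := exists_nhd_isProper f hgen (IsLocalRing.closedPoint R) hcp
  have hall : ∀ x : ↥(Spec (CommRingCat.of R)), x ∈ U := by
    intro x
    have hx : x ⤳ (IsLocalRing.closedPoint R : PrimeSpectrum R) :=
      IsLocalRing.specializes_closedPoint x
    exact hx.mem_open U.2 hU
  have hproper : IsProper f :=
    IsZariskiLocalAtTarget.of_forall_exists_morphismRestrict (P := @IsProper)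
      (fun x => ⟨U, hall x, hUp⟩)
  haveI := hproper
  exact ⟨hproper, geometricallyConnected_fibre f hgen (IsLocalRing.closedPoint R)⟩


end helpers

/-- Let R be a discrete valuation ring and f : X → Spec R a flat, separated morphism of finite type
whose closed fibre is nonempty and proper over the residue field and whose generic fibre is
geometrically connected. Then f is proper, and its closed fibre is geometrically connected too. (The
published statement does not require the closed fibre to be nonempty; the affine line over the
fraction field, viewed over R, has empty closed fibre and satisfies the other hypotheses without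
being proper, and the published proof uses a point of the closed fibre, so nonemptiness is assumed
here.) -/
theorem result
    (R : Type u) [CommRing R] [IsDomain R] [IsDiscreteValuationRing R]
    (X : Scheme.{u}) (f : X ⟶ Spec (CommRingCat.of R))
    [Flat f] [IsSeparated f] [LocallyOfFiniteType f] [QuasiCompact f]
    [IsProper (f.fiberToSpecResidueField (IsLocalRing.closedPoint R))]
    [Nonempty ↥(f.fiber (IsLocalRing.closedPoint R))]
    [GeometricallyConnected (f.fiberToSpecResidueField (genericPoint ↥(Spec (CommRingCat.of R))))] :
    IsProper f ∧ GeometricallyConnected (f.fiberToSpecResidueField (IsLocalRing.closedPoint R)) := by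
  exact main R X f

end Groth.Agent.S19653
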