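import Groth.Statements.S19656
import Mathlib
import Groth.Statements.S19656
import Groth.Agent.Lib.Helper13.ProperNhd

set_option autoImplicit false
universe u
open AlgebraicGeometry CategoryTheory CategoryTheory.Limits Topology
open EGA43

namespace Groth.Agent.S19656

section helpers
set_option linter.unusedSectionVars false
set_option linter.unusedVariables false
set_option linter.style.haveILetI false
open CategoryTheory CategoryTheory.Limits AlgebraicGeometry TopologicalSpace PrimeSpectrum IsLocalRing


open Groth.Agent.Lib.Helper13.ProperNhd Groth.Agent.Lib.Helper13.BCPaste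

set_option backward.isDefEq.respectTransparency false in
theorem connectedSpace_of_isPullback {X Y Z : Scheme.{u}} (f : X ⟶ Y) {K : Type u} [Field K]
    (g : Spec (.of K) ⟶ Y) (fst : Z ⟶ X) (snd : Z ⟶ Spec (.of K)) (h : IsPullback fst snd f g)
    (H : ∀ y ∈ Set.range g, GeometricallyConnected (f.fiberToSpecResidueField y)) :
    ConnectedSpace Z := by
  obtain ⟨⟨y, φ⟩, rfl⟩ := (Scheme.SpecToEquivOfField _ _).symm.surjective g
  have hy : GeometricallyConnected (f.fiberToSpecResidueField y) :=
    H y ⟨closedPoint K, by simp [Scheme.SpecToEquivOfField]⟩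
  let p : Z ⟶ f.fiber y :=
    pullback.lift fst (snd ≫ Spec.map φ) (by simp [h.w, Scheme.SpecToEquivOfField])
  apply hy.geometrically_connectedSpace (Spec.map φ) p snd
  simp only [Scheme.SpecToEquivOfField, Equiv.coe_fn_symm_mk] at h
  refine .flip (.of_bot (.flip ?_) ?_ (IsPullback.of_hasPullback f (Y.fromSpecResidueField y)).flip)
  · convert! h
    simp [p]
  · simp [p, Scheme.Hom.fiberToSpecResidueField]

theorem main {X S : Scheme.{u}} [IsLocallyNoetherian S] (f : X ⟶ S)
    [Flat f] [IsSeparated f] [LocallyOfFiniteType f] [QuasiCompact f]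
    (hgen : ∀ η : S, (∀ η' : S, η' ⤳ η → η' = η) → Nonempty ↥(f.fiber η) →
      GeometricallyConnected (f.fiberToSpecResidueField η))
    (s : S) [Nonempty ↥(f.fiber s)] (hs : IsProper (f.fiberToSpecResidueField s)) :
    ∃ U : S.Opens, s ∈ U ∧ IsProper (f ∣_ U) := by
  obtain ⟨U, hUcl, hUp, hUsub⟩ := exists_clopen_of_closedFibre f s hs
  refine exists_nhd_of_clopen_eq_top f s U hUp ?_
  let k := S.fromSpecStalk s
  let c := cmap S s
  let f₁ := pullback.snd f k
  let f₂ := fhat f s
  haveI : Flat f₂ := inferInstanceAs (Flat (pullback.snd f₁ c))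
  have hgm : GeneralizingMap f₂ := Flat.generalizingMap f₂
  -- a point of the closed fibre
  obtain ⟨x₀, hx₀⟩ : ∃ x₀ : ↥(pullback f₁ c), f₂ x₀ = closedPoint (Rhat S s) := by
    obtain ⟨z⟩ := ‹Nonempty ↥(f.fiber s)›
    have hz : f (f.fiberι s z) = s := by
      have : f.fiberι s z ∈ Set.range (f.fiberι s) := ⟨z, rfl⟩
      rw [f.range_fiberι] at this
      exact this
    have hk0 : k (closedPoint (S.presheaf.stalk s)) = s := Scheme.fromSpecStalk_closedPoint
    obtain ⟨z₁, hz₁a, hz₁b⟩ := Scheme.Pullback.exists_preimage_pullback (f := f) (g := k)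
      (f.fiberι s z) (closedPoint (S.presheaf.stalk s)) (by rw [hz, hk0])
    have hc0 : c (closedPoint (Rhat S s)) = closedPoint (S.presheaf.stalk s) :=
      IsLocalRing.comap_closedPoint (algebraMap (S.presheaf.stalk s) (Rhat S s))
    obtain ⟨z₂, hz₂a, hz₂b⟩ := Scheme.Pullback.exists_preimage_pullback (f := f₁) (g := c)
      z₁ (closedPoint (Rhat S s)) (by rw [hc0]; exact hz₁b)
    exact ⟨z₂, hz₂b⟩
  by_contra hne
  obtain ⟨x, hx⟩ : ∃ x : ↥(pullback f₁ c), x ∉ U := by
    by_contra hall
    apply hne
    ext x
    constructor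
    · intro _; trivial
    · intro _
      by_contra hxU
      exact hall ⟨x, hxU⟩
  -- a minimal prime below `f₂ x`
  haveI : (f₂ x).asIdeal.IsPrime := (f₂ x).isPrime
  obtain ⟨q, hq, hqle⟩ := Ideal.exists_minimalPrimes_le (J := (f₂ x).asIdeal) bot_le
  let η' : ↥(Spec (CommRingCat.of (Rhat S s))) := ⟨q, hq.1.1⟩
  have h1 : η' ⤳ f₂ x := (PrimeSpectrum.le_iff_specializes η' (f₂ x)).mp hqle
  obtain ⟨x', hx'x, hx'⟩ := hgm h1
  have hx'U : x' ∉ U := fun h => hx (hx'x.mem_closed hUcl h)
  have h2 : η' ⤳ f₂ x₀ := by rw [hx₀]; exact specializes_closedPoint η'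
  obtain ⟨x₀', hx₀'x, hx₀'⟩ := hgm h2
  have hx₀U : x₀ ∈ U := by
    apply hUsub
    show f₂ x₀ ∈ zeroLocus _
    rw [hx₀]
    intro a ha
    exact ha
  have hx₀'U : x₀' ∈ U := hx₀'x.mem_open U.2 hx₀U
  -- the fibre over `η'` is connected
  let g : Spec ((Spec (CommRingCat.of (Rhat S s))).residueField η') ⟶ S :=
    (Spec (CommRingCat.of (Rhat S s))).fromSpecResidueField η' ≫ c ≫ k
  have hpb : IsPullback (f₂.fiberι η' ≫ (pullback.fst f₁ c ≫ pullback.fst f k))
      (f₂.fiberToSpecResidueField η') f g :=
    (IsPullback.of_hasPullback f₂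
      ((Spec (CommRingCat.of (Rhat S s))).fromSpecResidueField η')).paste_horiz
      (isPullback_snd_snd f k c).flip
  let η : S := k (c η')
  have hrange : ∀ y ∈ Set.range g, y = η := by
    rintro _ ⟨z, rfl⟩
    simp [g, η]
  have hηmax : ∀ η'' : S, η'' ⤳ η → η'' = η := by
    intro η'' hspec
    have hks : η ⤳ s := by
      have : η ∈ Set.range k := ⟨_, rfl⟩
      rw [Scheme.range_fromSpecStalk] at this
      exact this
    have hη''s : η'' ⤳ s := hspec.trans hks
    obtain ⟨p'', hp''⟩ : η'' ∈ Set.range k := by
      rw [Scheme.range_fromSpecStalk]; exact hη''s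
    have hpp : p'' ⤳ c η' := by
      have hind : Topology.IsInducing k := k.isEmbedding.isInducing
      rw [← hind.specializes_iff, hp'']
      exact hspec
    obtain ⟨q', hq'η', hq'⟩ := (Flat.generalizingMap c) hpp
    have hqq : q' = η' := by
      apply PrimeSpectrum.ext
      have hle : q'.asIdeal ≤ η'.asIdeal := (PrimeSpectrum.le_iff_specializes q' η').mpr hq'η'
      exact le_antisymm hle (hq.2 ⟨q'.isPrime, bot_le⟩ hle)
    rw [← hp'', ← hq', hqq]
  have hηne : Nonempty ↥(f.fiber η) := by
    have hfx : f ((pullback.fst f₁ c ≫ pullback.fst f k) x') = η := by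
      have e : (pullback.fst f₁ c ≫ pullback.fst f k) ≫ f = f₂ ≫ (c ≫ k) :=
        (isPullback_snd_snd f k c).w.symm
      have h3 := congrArg (fun φ : pullback f₁ c ⟶ S => φ x') e
      simp only [Scheme.Hom.comp_apply] at h3
      rw [Scheme.Hom.comp_apply, h3, hx']
    have : (pullback.fst f₁ c ≫ pullback.fst f k) x' ∈ Set.range (f.fiberι η) := by
      rw [f.range_fiberι]; exact hfx
    obtain ⟨z, _⟩ := this
    exact ⟨z⟩
  have hgc := hgen η hηmax hηne
  haveI : ConnectedSpace ↥(f₂.fiber η') :=
    connectedSpace_of_isPullback f g _ _ hpb (fun y hy => by rw [hrange y hy]; exact hgc)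
  have hfibconn : _root_.IsPreconnected (f₂ ⁻¹' {η'}) := by
    rw [← f₂.range_fiberι]
    exact isPreconnected_range (f₂.fiberι η').continuous
  have hsub := hfibconn.subset_isClopen ⟨hUcl, U.2⟩ ⟨x₀', hx₀', hx₀'U⟩
  exact hx'U (hsub hx')


end helpers

/-- Let S be a locally Noetherian scheme and f : X → S a flat, separated morphism of finite type whose
fibres over the maximal points of S (points without proper generization), when nonempty, are
geometrically connected. If the fibre of f over a point s is nonempty and proper over the residue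
field, then f is proper over an open neighbourhood of s. (The text allows an arbitrary base with f
of finite presentation, reducing to the Noetherian case by a limit argument it does not carry out;
the base is taken locally Noetherian here. As in the discrete-valuation-ring case, the fibre over s
must be nonempty: the affine line over the fraction field of a discrete valuation ring has empty,
hence proper, closed fibre and is not proper near the closed point.) -/
theorem result
    {X S : Scheme.{u}} [IsLocallyNoetherian S] (f : X ⟶ S)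
    [Flat f] [IsSeparated f] [LocallyOfFiniteType f] [QuasiCompact f]
    (hgen : ∀ η : S, (∀ η' : S, η' ⤳ η → η' = η) → Nonempty ↥(f.fiber η) →
      GeometricallyConnected (f.fiberToSpecResidueField η))
    (s : S) [Nonempty ↥(f.fiber s)] (hs : IsProper (f.fiberToSpecResidueField s)) :
    ∃ U : S.Opens, s ∈ U ∧ IsProper (f ∣_ U) := by
  exact main f hgen s hs

end Groth.Agent.S19656
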