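import Groth.Statements.S1966
import Mathlib.Dynamics.Newton

set_option autoImplicit false
universe u
open EtAlg

namespace Groth.Agent.S1966

open Polynomial


/-- Towers indexed by the natural numbers: let (A_k) be rings with surjective transition maps A_{k+1} ->
A_k whose kernels consist of nilpotent elements, and let A be a ring with compatible projections p_k
: A -> A_k identifying A with the set of compatible sequences (p is jointly injective and every
compatible sequence comes from an element of A). Then for every k the pair (A, ker p_k) is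
henselian. -/
theorem result (A : Type u) [CommRing A] (As : ℕ → Type u) [∀ k, CommRing (As k)]
    (t : ∀ k, As (k + 1) →+* As k) (ht : ∀ k, Function.Surjective (t k))
    (hnil : ∀ k (x : As (k + 1)), t k x = 0 → IsNilpotent x)
    (p : ∀ k, A →+* As k) (hp : ∀ k, (t k).comp (p (k + 1)) = p k)
    (hinj : ∀ a b : A, (∀ k, p k a = p k b) → a = b)
    (hsurj : ∀ x : ∀ k, As k, (∀ k, t k (x (k + 1)) = x k) → ∃ a : A, ∀ k, p k a = x k) (k : ℕ) :
    HenselianRing A (RingHom.ker (p k)) := by
  have hp' : ∀ j a, t j (p (j + 1) a) = p j a := fun j a => by rw [← hp j]; rfl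
  -- descending
  have hdown : ∀ (x : A) (j i : ℕ), p (i + j) x = 0 → p i x = 0 := by
    intro x j
    induction j with
    | zero => intro i h; simpa using h
    | succ j ih =>
      intro i h
      apply ih
      have h' : p (i + j + 1) x = 0 := h
      rw [← hp' (i + j), h', map_zero]
  have hnilp : ∀ x : A, p k x = 0 → ∀ j, IsNilpotent (p j x) := by
    intro x hx j
    rcases le_total j k with hjk | hkj
    · have : p j x = 0 := by
        apply hdown x (k - j) j
        rw [Nat.add_sub_cancel' hjk, hx]
      rw [this]; exact IsNilpotent.zero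
    · induction j, hkj using Nat.le_induction with
      | base => rw [hx]; exact IsNilpotent.zero
      | succ j hj ih =>
        obtain ⟨n, hn⟩ := ih
        have h0 : t j ((p (j + 1) x) ^ n) = 0 := by rw [map_pow, hp', hn]
        exact IsNilpotent.of_pow (hnil j _ h0)
  -- units glue
  have hunit : ∀ z : A, (∀ j, IsUnit (p j z)) → IsUnit z := by
    intro z hz
    choose w hw using fun j => (hz j).exists_right_inv
    have hcompat : ∀ j, t j (w (j + 1)) = w j := by
      intro j
      have h1 : p j z * t j (w (j + 1)) = 1 := by
        rw [← hp' j z, ← map_mul, hw, map_one]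
      calc t j (w (j + 1)) = (w j * p j z) * t j (w (j + 1)) := by
              rw [mul_comm (w j), hw, one_mul]
        _ = w j := by rw [mul_assoc, h1, mul_one]
    obtain ⟨a, ha⟩ := hsurj w hcompat
    refine isUnit_iff_exists_inv.2 ⟨a, hinj _ _ fun j => ?_⟩
    rw [map_mul, ha, hw, map_one]
  have hone : ∀ x : A, p k x = 0 → ∀ j, IsUnit (p j x + 1) := fun x hx j =>
    (hnilp x hx j).isUnit_add_one
  constructor
  · intro x hx
    rw [RingHom.mem_ker] at hx
    rw [Ideal.mem_jacobson_bot]
    intro y
    apply hunit
    intro j
    have : p k (x * y) = 0 := by rw [map_mul, hx, zero_mul]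
    have := hone (x * y) this j
    rwa [map_add, map_one]
  · intro f _ a₀ ha₀ hder
    rw [RingHom.mem_ker] at ha₀
    obtain ⟨b', hb'⟩ := hder.exists_right_inv
    obtain ⟨b, rfl⟩ := Ideal.Quotient.mk_surjective b'
    have hb : p k (f.derivative.eval a₀ * b - 1) = 0 := by
      rw [← RingHom.mem_ker, ← Ideal.Quotient.eq, map_mul, hb', map_one]
    have hderj : ∀ j, IsUnit (p j (f.derivative.eval a₀)) := by
      intro j
      have := hone _ hb j
      rw [← map_one (p j), ← map_add, sub_add_cancel, map_mul] at this
      exact isUnit_of_mul_isUnit_left this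
    have hevalmap : ∀ j (a : A) (g : A[X]), eval (p j a) (g.map (p j)) = p j (eval a g) := by
      intro j a g
      rw [eval_map, eval₂_hom]
    have hN : ∀ j, IsNilpotent (aeval (p j a₀) (f.map (p j))) := by
      intro j
      rw [coe_aeval_eq_eval, hevalmap]
      exact hnilp _ ha₀ j
    have hU : ∀ j, IsUnit (aeval (p j a₀) (derivative (f.map (p j)))) := by
      intro j
      rw [coe_aeval_eq_eval, derivative_map, hevalmap]
      exact hderj j
    have hEU := fun j => existsUnique_nilpotent_sub_and_aeval_eq_zero (hN j) (hU j)
    choose r hr hruniq using hEU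
    have hmapmap : ∀ j, (f.map (p (j + 1))).map (t j) = f.map (p j) := by
      intro j; rw [Polynomial.map_map, hp]
    have hcompat : ∀ j, t j (r (j + 1)) = r j := by
      intro j
      apply hruniq j
      refine ⟨?_, ?_⟩
      · rw [← hp' j a₀, ← map_sub]
        exact (hr (j + 1)).1.map (t j)
      · have h2 := (hr (j + 1)).2
        rw [coe_aeval_eq_eval] at h2 ⊢
        rw [← hmapmap j, eval_map, eval₂_hom, h2, map_zero]
    obtain ⟨a, ha⟩ := hsurj r hcompat
    refine ⟨a, ?_, ?_⟩
    · apply hinj
      intro j
      rw [map_zero, ← hevalmap, ha]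
      have := (hr j).2
      rwa [coe_aeval_eq_eval] at this
    · rw [RingHom.mem_ker, map_sub, ha, sub_eq_zero]
      symm
      apply hruniq k
      refine ⟨by rw [sub_self]; exact IsNilpotent.zero, ?_⟩
      rw [coe_aeval_eq_eval, hevalmap, ha₀]

end Groth.Agent.S1966
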