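import Groth.Statements.S19660
import Mathlib
-- import your own Groth.Agent.* helpers here

set_option autoImplicit false
universe u v
open AbVar

namespace Groth.Agent.S19660

section aux

variable {k : Type u} [Field k] {V : Type v} [AddCommGroup V] [Module k V]
  (B : LinearMap.BilinForm k V) (q : k) (Me : Module.End k V)
  (hM : ∀ x y : V, B (Me x) (Me y) = q * B x y)

include hM in
theorem I1 (n : ℕ) (u v : V) :
    B (((Me - (1 : k) • (1 : Module.End k V)) ^ n) u) ((Me ^ n) v) =
      (-1) ^ n * B u (((Me - q • (1 : Module.End k V)) ^ n) v) := by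
  set A : Module.End k V := Me - (1 : k) • (1 : Module.End k V) with hA
  set C : Module.End k V := Me - q • (1 : Module.End k V) with hC
  have J1 : ∀ u v : V, B (A u) (Me v) = - B u (C v) := by
    intro u v
    simp only [hA, hC, LinearMap.sub_apply, LinearMap.smul_apply, Module.End.one_apply, map_sub,
      map_smul, one_smul, hM, smul_eq_mul]
    ring
  have hcomm : ∀ (n : ℕ) (v : V), (C ^ n) (Me v) = Me ((C ^ n) v) := by
    intro n v
    have h1 : Commute Me C := by
      rw [hC]
      exact (Commute.refl Me).sub_right ((Commute.one_right Me).smul_right q)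
    have h2 := (h1.pow_right n).eq
    rw [← Module.End.mul_apply, ← Module.End.mul_apply, h2]
  induction n generalizing u v with
  | zero => simp
  | succ n ih =>
    rw [pow_succ A, pow_succ Me, Module.End.mul_apply, Module.End.mul_apply, ih, hcomm, J1,
      pow_succ' C, Module.End.mul_apply, pow_succ]
    ring

include hM in
theorem I2 (n : ℕ) (u v : V) :
    B ((Me ^ n) u) (((Me - q • (1 : Module.End k V)) ^ n) v) =
      (-q) ^ n * B (((Me - (1 : k) • (1 : Module.End k V)) ^ n) u) v := by
  set A : Module.End k V := Me - (1 : k) • (1 : Module.End k V) with hA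
  set C : Module.End k V := Me - q • (1 : Module.End k V) with hC
  have J2 : ∀ u v : V, B (Me u) (C v) = -q * B (A u) v := by
    intro u v
    simp only [hA, hC, LinearMap.sub_apply, LinearMap.smul_apply, Module.End.one_apply, map_sub,
      map_smul, one_smul, hM, smul_eq_mul]
    ring
  have hcomm : ∀ (n : ℕ) (v : V), (A ^ n) (Me v) = Me ((A ^ n) v) := by
    intro n v
    have h1 : Commute Me A := by
      rw [hA]
      exact (Commute.refl Me).sub_right ((Commute.one_right Me).smul_right (1 : k))
    have h2 := (h1.pow_right n).eq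
    rw [← Module.End.mul_apply, ← Module.End.mul_apply, h2]
  induction n generalizing u v with
  | zero => simp
  | succ n ih =>
    rw [pow_succ Me, pow_succ C, Module.End.mul_apply, Module.End.mul_apply, ih, hcomm, J2,
      pow_succ' A, Module.End.mul_apply, pow_succ]
    ring

open Polynomial in
theorem range_of_coprime (a b : k) (hab : a ≠ b) (m n : ℕ) (x : V)
    (hx : ((Me - a • (1 : Module.End k V)) ^ m) x = 0) :
    ∃ w, x = ((Me - b • (1 : Module.End k V)) ^ n) w := by
  have hcop : IsCoprime ((X - C a : k[X]) ^ m) ((X - C b) ^ n) :=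
    (Polynomial.isCoprime_X_sub_C_of_isUnit_sub (sub_ne_zero_of_ne hab).isUnit).pow
  obtain ⟨f, g, hfg⟩ := hcop
  have ha : Polynomial.aeval Me (X - C a : k[X]) = Me - a • (1 : Module.End k V) := by
    simp [Algebra.algebraMap_eq_smul_one]
  have hb : Polynomial.aeval Me (X - C b : k[X]) = Me - b • (1 : Module.End k V) := by
    simp [Algebra.algebraMap_eq_smul_one]
  have h1 := congrArg (fun P => Polynomial.aeval Me P x) hfg
  simp only [map_add, map_mul, map_pow, map_one, ha, hb, LinearMap.add_apply,
    Module.End.mul_apply, Module.End.one_apply, hx, map_zero, zero_add] at h1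
  refine ⟨Polynomial.aeval Me g x, ?_⟩
  have hcomm : (Polynomial.aeval Me g) (((Me - b • (1 : Module.End k V)) ^ n) x) =
      ((Me - b • (1 : Module.End k V)) ^ n) (Polynomial.aeval Me g x) := by
    rw [← hb, ← map_pow, ← Module.End.mul_apply, ← Module.End.mul_apply, ← map_mul,
      ← map_mul, mul_comm]
  rw [← hcomm]
  exact h1.symm

end aux

/-- The text applies this to the Frobenius acting on the points of prime order of a principally
polarised abelian variety over a finite field with q elements and to their Weil pairing. Let k be a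
field, V a finite-dimensional k-vector space with a nondegenerate bilinear form B, q a nonzero
element of k and M a linear automorphism of V with B(Mx, My) = q·B(x, y) for all x, y. Write V₁ and
V_q for the generalized eigenspaces of M at 1 and at q. Then every vector of V₁ that is B-orthogonal
to all of V_q is zero, every vector of V_q that is B-orthogonal (on the right) to all of V₁ is zero,
and when q ≠ 1 the form B vanishes identically on V₁ × V₁ and on V_q × V_q. (The text asserts this
as the evident adaptation, to a form scaled by q, of the orthogonality and nondegeneracy facts for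
generalized kernels of an automorphism preserving a form; the abstract statement is recorded here,
the application to the Weil pairing needing that pairing's formalism.) -/
theorem result
    {k : Type u} [Field k] {V : Type v} [AddCommGroup V] [Module k V] [FiniteDimensional k V]
    (B : LinearMap.BilinForm k V) (hB : B.Nondegenerate) (q : k) (hq : q ≠ 0)
    (M : V ≃ₗ[k] V) (hM : ∀ x y : V, B (M x) (M y) = q * B x y) :
    (∀ x ∈ Module.End.maxGenEigenspace (M : Module.End k V) 1,
        (∀ y ∈ Module.End.maxGenEigenspace (M : Module.End k V) q, B x y = 0) → x = 0) ∧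
      (∀ y ∈ Module.End.maxGenEigenspace (M : Module.End k V) q,
        (∀ x ∈ Module.End.maxGenEigenspace (M : Module.End k V) 1, B x y = 0) → y = 0) ∧
      (q ≠ 1 → ∀ x ∈ Module.End.maxGenEigenspace (M : Module.End k V) 1,
        ∀ x' ∈ Module.End.maxGenEigenspace (M : Module.End k V) 1, B x x' = 0) ∧
      (q ≠ 1 → ∀ y ∈ Module.End.maxGenEigenspace (M : Module.End k V) q,
        ∀ y' ∈ Module.End.maxGenEigenspace (M : Module.End k V) q, B y y' = 0) := by
  classical
  set Me : Module.End k V := (M : V →ₗ[k] V) with hMe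
  have hM' : ∀ u v : V, B (Me u) (Me v) = q * B u v := fun u v => hM u v
  set A : Module.End k V := Me - (1 : k) • (1 : Module.End k V) with hA
  set C : Module.End k V := Me - q • (1 : Module.End k V) with hC
  have hmonoA : Monotone fun n : ℕ => LinearMap.ker (A ^ n) := by
    intro a b hab x hx
    rw [LinearMap.mem_ker] at hx ⊢
    rw [← Nat.sub_add_cancel hab, pow_add, Module.End.mul_apply, hx, map_zero]
  have hmonoC : Monotone fun n : ℕ => LinearMap.ker (C ^ n) := by
    intro a b hab x hx
    rw [LinearMap.mem_ker] at hx ⊢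
    rw [← Nat.sub_add_cancel hab, pow_add, Module.End.mul_apply, hx, map_zero]
  refine ⟨?_, ?_, ?_, ?_⟩
  · intro x hx h0
    obtain ⟨n, hn⟩ := (Module.End.mem_maxGenEigenspace _ _ _).mp hx
    apply hB.1
    intro y
    have hcompl := LinearMap.isCompl_iSup_ker_pow_iInf_range_pow C
    have hy : y ∈ (⨆ n : ℕ, LinearMap.ker (C ^ n)) ⊔ (⨅ n : ℕ, LinearMap.range (C ^ n)) := by
      rw [hcompl.sup_eq_top]; trivial
    obtain ⟨y₁, hy₁, y₂, hy₂, rfl⟩ := Submodule.mem_sup.mp hy
    obtain ⟨m, hm⟩ := (Submodule.mem_iSup_of_directed _ hmonoC.directed_le).mp hy₁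
    have hy₁' : y₁ ∈ Module.End.maxGenEigenspace Me q :=
      (Module.End.mem_maxGenEigenspace _ _ _).mpr ⟨m, LinearMap.mem_ker.mp hm⟩
    rw [map_add, h0 y₁ hy₁', zero_add]
    obtain ⟨z, rfl⟩ := (Submodule.mem_iInf _).mp hy₂ n
    have h1 := I1 B q Me hM' n x z
    rw [hn, map_zero, LinearMap.zero_apply] at h1
    exact (mul_eq_zero.mp h1.symm).resolve_left (pow_ne_zero n (neg_ne_zero.mpr one_ne_zero))
  · intro y hy h0
    obtain ⟨n, hn⟩ := (Module.End.mem_maxGenEigenspace _ _ _).mp hy
    apply hB.2
    intro x
    have hcompl := LinearMap.isCompl_iSup_ker_pow_iInf_range_pow A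
    have hx : x ∈ (⨆ n : ℕ, LinearMap.ker (A ^ n)) ⊔ (⨅ n : ℕ, LinearMap.range (A ^ n)) := by
      rw [hcompl.sup_eq_top]; trivial
    obtain ⟨x₁, hx₁, x₂, hx₂, rfl⟩ := Submodule.mem_sup.mp hx
    obtain ⟨m, hm⟩ := (Submodule.mem_iSup_of_directed _ hmonoA.directed_le).mp hx₁
    have hx₁' : x₁ ∈ Module.End.maxGenEigenspace Me 1 :=
      (Module.End.mem_maxGenEigenspace _ _ _).mpr ⟨m, LinearMap.mem_ker.mp hm⟩
    rw [map_add, LinearMap.add_apply, h0 x₁ hx₁', zero_add]
    obtain ⟨z, rfl⟩ := (Submodule.mem_iInf _).mp hx₂ n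
    have h1 := I2 B q Me hM' n z y
    rw [hn, map_zero] at h1
    exact (mul_eq_zero.mp h1.symm).resolve_left (pow_ne_zero n (neg_ne_zero.mpr hq))
  · intro hq1 x hx x' hx'
    obtain ⟨n, hn⟩ := (Module.End.mem_maxGenEigenspace _ _ _).mp hx
    obtain ⟨m, hm⟩ := (Module.End.mem_maxGenEigenspace _ _ _).mp hx'
    obtain ⟨w, rfl⟩ := range_of_coprime Me 1 q (Ne.symm hq1) m n x' hm
    have h1 := I1 B q Me hM' n x w
    rw [hn, map_zero, LinearMap.zero_apply] at h1
    exact (mul_eq_zero.mp h1.symm).resolve_left (pow_ne_zero n (neg_ne_zero.mpr one_ne_zero))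
  · intro hq1 y hy y' hy'
    obtain ⟨n, hn⟩ := (Module.End.mem_maxGenEigenspace _ _ _).mp hy'
    obtain ⟨m, hm⟩ := (Module.End.mem_maxGenEigenspace _ _ _).mp hy
    obtain ⟨w, rfl⟩ := range_of_coprime Me q 1 hq1 m n y hm
    have h1 := I2 B q Me hM' n w y'
    rw [hn, map_zero] at h1
    exact (mul_eq_zero.mp h1.symm).resolve_left (pow_ne_zero n (neg_ne_zero.mpr hq))

end Groth.Agent.S19660
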