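import Groth.Statements.S19668
import Groth.Agent.Lib.Helper4.CurveVB6

set_option autoImplicit false
universe u
open CategoryTheory CategoryTheory.Limits AlgebraicGeometry
open Curves

namespace Groth.Agent.S19668

/-- Stable bundles are simple. Let X be a nonsingular projective curve over an algebraically closed
field k (smooth, proper, integral, of dimension one) and E a locally free sheaf of rank r on X which
is stable: every locally free subsheaf G of rank s with 0 < s < r has deg G · r < deg E · s (degrees
computed as χ − rank·χ(O_X)). Then every endomorphism φ of E is a scalar multiple of the identity, φ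
= a · 𝟙_E for some a ∈ k, where k acts on Hom_{O_X}(E, E) through the structure morphism X → Spec k
(a acts as composition with multiplication by a on E). -/
theorem result (k : Type u) [Field k] [IsAlgClosed k] (X : Scheme.{u})
    [X.Over (Spec (CommRingCat.of k))] (hX : Curve.IsSmoothProperCurve k X (X ↘ Spec (CommRingCat.of k))) (r : ℕ)
    (E : X.Modules) (hE : FlatMod.IsFinLocFreeOfRank r E)
    (hst : ∀ (G : X.Modules) (s : ℕ) (ι : G ⟶ E), Mono ι → FlatMod.IsFinLocFreeOfRank s G → 0 < s → s < r →
      Curv2.deg k X G s * (r : ℤ) < Curv2.deg k X E r * (s : ℤ))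
    (φ : E ⟶ E) : ∃ a : k, φ = a • 𝟙 E := by
  obtain ⟨h1, h2, h3, h4⟩ := hX
  haveI := h1
  haveI := h2
  haveI := h3
  by_cases hr : 0 < r
  · have hEst : ModFun.IsSlopeStable k X E r := fun G s ι hι hs hsr hG => hst G s ι hι hG hs hsr
    have hEc := Groth.Agent.Lib.Helper8.CurveTensor.isCoh_of_isFinLocFreeOfRank E hE
    have h0 : ¬ IsZero E := Groth.Agent.Lib.Helper4.CurveVB.not_isZero_of_rank_pos hr hE
    obtain ⟨c, hc⟩ := Groth.Agent.Lib.Helper4.EndScalar.endomorphism_eq_smulHom_of_forall_isIso k E hEc h0
      (fun ψ hψ => Groth.Agent.Lib.Helper4.CurveVB.isIso_of_endo_ne_zero k X h4 r E hE hEst ψ hψ) φ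
    refine ⟨c, ?_⟩
    rw [hc, KLin.smul_id]
    refine Scheme.Modules.hom_ext _ _ fun U => ?_
    ext m
    rw [Groth.Agent.Lib.Helper2.HomExt.smulHom_app]
    rfl
  · have hr0 : r = 0 := by omega
    subst hr0
    have hz := Groth.Agent.Lib.Helper4.CurveVB.isZero_of_rank_zero hE
    exact ⟨0, hz.eq_of_src _ _⟩

end Groth.Agent.S19668
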