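import Groth.Statements.S19694
import Groth.Agent.Lib.Helper28.TraceB

set_option autoImplicit false
universe u
open CategoryTheory CategoryTheory.Limits AlgebraicGeometry Opposite
open FinCov

namespace Groth.Agent.S19694

/-- Let X be a scheme and A a quasi-coherent O_X-algebra which is finite locally free as an O_X-module
(the rank may vary). Then exactly one O_X-linear map τ : A → O_X has the following property: over
each affine open U of X with A(U) finite free over O_X(U), the component τ_U is the trace map of the
algebra A(U) over O_X(U) (the trace of multiplication, computed in any basis). -/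
theorem result {X : Scheme.{u}} (A : RelSpec.QCAlg X)
    (hA : FlatMod.IsFinLocFree A.toModule) :
    ∃! τ : A.toModule ⟶ Coh.structureModule X, FinCov.IsTrace A τ := by
  classical
  exact ⟨Groth.Agent.Lib.Helper28.TraceAlg.traceHom A hA, Groth.Agent.Lib.Helper28.TraceAlg.isTrace_traceHom A hA,
    fun τ hτ => Groth.Agent.Lib.Helper28.TraceAlg.eq_traceHom A hA τ hτ⟩

end Groth.Agent.S19694
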