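import Groth.Statements.S19708
import Mathlib

set_option autoImplicit false
universe u v w
open W4c5adicflatcompl
open CAlg

namespace Groth.Agent.S19708

theorem main {A : Type u} [CommRing A] (I : Ideal A) (Z : Type v)
    (M : Type w) [AddCommGroup M] [Module A M] [IsAdicComplete I M] (f : Z → M) :
    f ∈ W4c5adicflatcompl.decaying I Z M ↔ ∃ m : M, ∀ n : ℕ, ∃ S : Finset Z,
      (∀ z, z ∉ S → f z ∈ (I ^ n • ⊤ : Submodule A M)) ∧
        m - (∑ z ∈ S, f z) ∈ (I ^ n • ⊤ : Submodule A M) := by
  classical
  rw [W4c5adicflatcompl.mem_decaying_iff]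
  constructor
  · intro h
    let S : ℕ → Finset Z := fun n => (h n).toFinset
    have hS : ∀ n z, z ∈ S n ↔ f z ∉ (I ^ n • ⊤ : Submodule A M) := fun n z => by simp [S]
    have hmono : ∀ {m n}, m ≤ n → S m ⊆ S n := by
      intro m n hmn z hz
      rw [hS] at hz ⊢
      intro hz'
      exact hz (Submodule.smul_mono_left (Ideal.pow_le_pow_right hmn) hz')
    let s : ℕ → M := fun n => ∑ z ∈ S n, f z
    have hs : ∀ {m n}, m ≤ n → s m ≡ s n [SMOD (I ^ m • ⊤ : Submodule A M)] := by
      intro m n hmn
      rw [SModEq.sub_mem]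
      have : s n = s m + ∑ z ∈ S n \ S m, f z := by
        simp only [s]; rw [add_comm, Finset.sum_sdiff (hmono hmn)]
      rw [this, sub_add_cancel_left]
      apply Submodule.neg_mem
      apply Submodule.sum_mem
      intro z hz
      rw [Finset.mem_sdiff, hS, hS, not_not] at hz
      exact hz.2
    obtain ⟨m, hm⟩ := IsPrecomplete.prec (IsAdicComplete.toIsPrecomplete) hs
    refine ⟨m, fun n => ⟨S n, fun z hz => ?_, ?_⟩⟩
    · rw [hS, not_not] at hz; exact hz
    · have := (hm n).symm
      rwa [SModEq.sub_mem] at this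
  · rintro ⟨m, hm⟩ n
    obtain ⟨S, hS, _⟩ := hm n
    refine S.finite_toSet.subset ?_
    intro z hz
    by_contra hzS
    exact hz (hS z hzS)


/-- Let A be a commutative ring, I an ideal of A, M an I-adically complete A-module, Z a set and f : Z →
M a function. Then f is I-adically decaying (for every n, all but finitely many values f(z) lie in
I^n M) if and only if the family (f(z))_{z ∈ Z} has an I-adic sum in M, i.e. there is an element m
of M such that for every n some finite subset S of Z has f(z) ∈ I^n M for all z outside S and m −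
Σ_{z ∈ S} f(z) ∈ I^n M. -/
theorem result {A : Type u} [CommRing A] (I : Ideal A) (Z : Type v)
    (M : Type w) [AddCommGroup M] [Module A M] [IsAdicComplete I M] (f : Z → M) :
    f ∈ decaying I Z M ↔ ∃ m : M, ∀ n : ℕ, ∃ S : Finset Z,
      (∀ z, z ∉ S → f z ∈ (I ^ n • ⊤ : Submodule A M)) ∧ m - (∑ z ∈ S, f z) ∈ (I ^ n • ⊤ : Submodule A M) := by
  exact main I Z M f

end Groth.Agent.S19708
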