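import Groth.Statements.S1971
import Mathlib

set_option autoImplicit false
universe u
open EtAlg

namespace Groth.Agent.S1971

open Polynomial

section helpers
variable {C : Type*} [CommRing C]

lemma isUnit_of_isUnit_mk {K : Ideal C} (hK : K ≤ Ideal.jacobson ⊥) {x : C}
    (h : IsUnit (Ideal.Quotient.mk K x)) : IsUnit x := by
  have := isLocalHom_of_le_jacobson_bot K hK
  exact isUnit_of_map_unit (Ideal.Quotient.mk K) x h

lemma isUnit_of_sub_mem {K : Ideal C} (hK : K ≤ Ideal.jacobson ⊥) {x y : C}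
    (hx : IsUnit x) (hxy : y - x ∈ K) : IsUnit y := by
  apply isUnit_of_isUnit_mk hK
  have : Ideal.Quotient.mk K y = Ideal.Quotient.mk K x := Ideal.Quotient.eq.2 hxy
  rw [this]
  exact hx.map _

/-- Newton iteration. -/
lemma newton {K : Ideal C} (hK : K ≤ Ideal.jacobson ⊥) (f : C[X]) (a₀ : C)
    (he : f.eval a₀ ∈ K) (hu : IsUnit (f.derivative.eval a₀)) (n : ℕ) :
    ∃ a : C, a - a₀ ∈ Ideal.span {f.eval a₀} ∧ f.eval a ∈ Ideal.span {(f.eval a₀) ^ (n + 1)} := by
  induction n with
  | zero => exact ⟨a₀, by simp, by simp⟩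
  | succ n ih =>
    obtain ⟨a, ha, hfa⟩ := ih
    set e := f.eval a₀ with he_def
    have hspanK : Ideal.span {e} ≤ K := (Ideal.span_singleton_le_iff_mem _).2 he
    -- derivative at a is a unit
    have hu' : IsUnit (f.derivative.eval a) := by
      apply isUnit_of_sub_mem hK hu
      obtain ⟨z, hz⟩ := f.derivative.evalSubFactor a a₀
      rw [hz]
      exact K.mul_mem_left _ (hspanK ha)
    obtain ⟨u, hu_eq⟩ := hu'
    obtain ⟨c, hc⟩ := Ideal.mem_span_singleton'.1 hfa
    obtain ⟨k, hk⟩ := f.binomExpansion a (-(f.eval a * ↑u⁻¹))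
    refine ⟨a + -(f.eval a * ↑u⁻¹), ?_, ?_⟩
    · have h1 : f.eval a ∈ Ideal.span {e} := by
        rw [← hc]
        exact Ideal.mem_span_singleton'.2 ⟨c * e ^ n, by ring⟩
      have : a + -(f.eval a * ↑u⁻¹) - a₀ = (a - a₀) - ↑u⁻¹ * f.eval a := by ring
      rw [this]
      exact sub_mem ha (Ideal.mul_mem_left _ _ h1)
    · rw [hk, ← hu_eq]
      have : f.eval a + ↑u * -(f.eval a * ↑u⁻¹) + k * (-(f.eval a * ↑u⁻¹)) ^ 2
          = k * ↑u⁻¹ ^ 2 * (f.eval a) ^ 2 + f.eval a * (1 - ↑u * ↑u⁻¹) := by ring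
      rw [this, Units.mul_inv, sub_self, mul_zero, add_zero, ← hc]
      exact Ideal.mem_span_singleton'.2 ⟨k * ↑u⁻¹ ^ 2 * c ^ 2 * e ^ n, by ring⟩

lemma hens_up {J₁ J₂ : Ideal C} (h12 : J₁ ≤ J₂) (h21 : J₂ ≤ J₁.radical)
    (H : HenselianRing C J₁) : HenselianRing C J₂ := by
  have hjac : J₂ ≤ Ideal.jacobson ⊥ := by
    refine h21.trans ?_
    have h1 : J₁.radical ≤ (Ideal.jacobson (⊥ : Ideal C)).radical := Ideal.radical_mono H.jac
    exact h1.trans (Ideal.isRadical_jacobson (⊥ : Ideal C)).radical.le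
  refine ⟨hjac, ?_⟩
  intro f hf a₀ he hu
  have hu0 : IsUnit (f.derivative.eval a₀) := isUnit_of_isUnit_mk hjac hu
  obtain ⟨N, hN⟩ := h21 he
  obtain ⟨a, ha, hfa⟩ := newton hjac f a₀ he hu0 N
  have hspanK : Ideal.span {f.eval a₀} ≤ J₂ := (Ideal.span_singleton_le_iff_mem _).2 he
  have hfa1 : f.eval a ∈ J₁ := by
    obtain ⟨c, hc⟩ := Ideal.mem_span_singleton'.1 hfa
    rw [← hc, pow_succ]
    exact J₁.mul_mem_left _ (J₁.mul_mem_right _ hN)
  have hu' : IsUnit (f.derivative.eval a) := by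
    apply isUnit_of_sub_mem hjac hu0
    obtain ⟨z, hz⟩ := f.derivative.evalSubFactor a a₀
    rw [hz]
    exact J₂.mul_mem_left _ (hspanK ha)
  obtain ⟨b, hb, hba⟩ := H.is_henselian f hf a hfa1 (hu'.map _)
  refine ⟨b, hb, ?_⟩
  have : b - a₀ = (b - a) + (a - a₀) := by ring
  rw [this]
  exact add_mem (h12 hba) (hspanK ha)

lemma hens_down {J₁ J₂ : Ideal C} (h12 : J₁ ≤ J₂)
    (H : HenselianRing C J₂) : HenselianRing C J₁ := by
  have hjac : J₁ ≤ Ideal.jacobson ⊥ := h12.trans H.jac
  refine ⟨hjac, ?_⟩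
  intro f hf a₀ he hu
  have hu0 : IsUnit (f.derivative.eval a₀) := isUnit_of_isUnit_mk hjac hu
  obtain ⟨a, ha, haa⟩ := H.is_henselian f hf a₀ (h12 he) (hu0.map _)
  refine ⟨a, ha, ?_⟩
  obtain ⟨k, hk⟩ := f.binomExpansion a₀ (a - a₀)
  rw [add_sub_cancel, ha.eq_zero] at hk
  have hunit : IsUnit (f.derivative.eval a₀ + k * (a - a₀)) := by
    apply isUnit_of_sub_mem H.jac hu0
    rw [add_sub_cancel_left]
    exact J₂.mul_mem_left _ haa
  obtain ⟨v, hv⟩ := hunit
  have key : (a - a₀) * ↑v = -(f.eval a₀) := by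
    rw [hv]
    linear_combination -hk
  have : a - a₀ = -(f.eval a₀) * ↑v⁻¹ := by
    rw [← key, mul_assoc, Units.mul_inv, mul_one]
  rw [this]
  exact J₁.mul_mem_right _ (neg_mem he)

lemma hens_iff_radical (K : Ideal C) : HenselianRing C K ↔ HenselianRing C K.radical :=
  ⟨hens_up Ideal.le_radical le_rfl, hens_down Ideal.le_radical⟩

lemma hens_of_radical_eq {K₁ K₂ : Ideal C} (h : K₁.radical = K₂.radical)
    (H : HenselianRing C K₁) : HenselianRing C K₂ := by
  rw [hens_iff_radical] at H ⊢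
  rwa [← h]

end helpers

lemma radical_map_eq {A B : Type*} [CommRing A] [CommRing B] (φ : A →+* B) {I J : Ideal A}
    (h : I.radical = J.radical) : (I.map φ).radical = (J.map φ).radical := by
  have aux : ∀ {I J : Ideal A}, I.radical = J.radical → (I.map φ).radical ≤ (J.map φ).radical := by
    intro I J h
    rw [Ideal.radical_le_radical_iff]
    have h1 : I ≤ J.radical := h ▸ Ideal.le_radical
    exact (Ideal.map_mono h1).trans (Ideal.map_radical_le φ)
  exact le_antisymm (aux h) (aux h.symm)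

lemma one_dir (A : Type u) [CommRing A] (I J : Ideal A) (h : I.radical = J.radical)
    (B : Type u) [CommRing B] [Algebra A B]
    (H : Hens2.IsPairHenselization A I B) : Hens2.IsPairHenselization A J B := by
  obtain ⟨H1, H2⟩ := H
  refine ⟨hens_of_radical_eq (radical_map_eq _ h) H1, ?_⟩
  intro C _ J' f hC hJ'
  have hC' : HenselianRing C J'.radical := (hens_iff_radical J').1 hC
  apply H2 C J'.radical f hC'
  have h1 : I.map f ≤ (I.map f).radical := Ideal.le_radical
  rw [radical_map_eq f h] at h1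
  exact h1.trans (Ideal.radical_mono hJ')


/-- Let A be a ring with ideals I and J having the same zero locus in Spec A. Then an A-algebra is a
henselization of the pair (A, I) if and only if it is a henselization of the pair (A, J). -/
theorem result (A : Type u) [CommRing A] (I J : Ideal A)
    (h : PrimeSpectrum.zeroLocus (I : Set A) = PrimeSpectrum.zeroLocus (J : Set A)) (B : Type u) [CommRing B] [Algebra A B] :
    Hens2.IsPairHenselization A I B ↔ Hens2.IsPairHenselization A J B := by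
  have hr : I.radical = J.radical := by
    have := congrArg PrimeSpectrum.vanishingIdeal h
    rwa [PrimeSpectrum.vanishingIdeal_zeroLocus_eq_radical,
      PrimeSpectrum.vanishingIdeal_zeroLocus_eq_radical] at this
  exact ⟨one_dir A I J hr B, one_dir A J I hr.symm B⟩

end Groth.Agent.S1971
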