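import Groth.Statements.S1972
import Groth.Agent.Lib.Helper12.HensStruct
import Groth.Agent.Lib.Helper12.StrictStruct
import Groth.Agent.Lib.Helper12.EssEtaleNil

set_option autoImplicit false
universe u
open EtAlg

namespace Groth.Agent.S1972

/-- Let R be a local ring and S a henselization or a strict henselization of R. Then the nilradical of S
is the extension of the nilradical of R. -/
theorem result (R S : Type u) [CommRing R] [IsLocalRing R] [CommRing S] [IsLocalRing S]
    [Algebra R S] [IsLocalHom (algebraMap R S)]
    (h : Hensel.IsHenselization R S ∨ Hensel.IsStrictHenselization R S) :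
    (nilradical R).map (algebraMap R S) = nilradical S := by
  open Groth.Agent.Lib.Helper12 in
  apply le_antisymm
  · rw [Ideal.map_le_iff_le_comap]
    intro r hr
    rw [Ideal.mem_comap, mem_nilradical]
    exact (mem_nilradical.mp hr).map _
  · -- every nilpotent of `S` comes from a nilpotent of an essentially étale local algebra
    have key : ∀ x : S, (∃ (B : Type u) (_ : CommRing B) (_ : Algebra R B)
        (_ : EGA4loc.IsEssentiallyEtale R B) (ψ : B →ₐ[R] S), Function.Injective ψ ∧ x ∈ ψ.range) →
        x ∈ nilradical S → x ∈ (nilradical R).map (algebraMap R S) := by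
      rintro x ⟨B, _, _, hB, ψ, hinj, ⟨b, rfl⟩⟩ hx
      have hb : b ∈ nilradical B := by
        rw [mem_nilradical] at hx ⊢
        obtain ⟨n, hn⟩ := hx
        refine ⟨n, hinj ?_⟩
        rw [map_pow, map_zero]; exact hn
      have h1 := nilradical_le_map_of_isEssentiallyEtale hB hb
      have h2 : ψ b ∈ ((nilradical R).map (algebraMap R B)).map ψ.toRingHom :=
        Ideal.mem_map_of_mem _ h1
      rw [Ideal.map_map] at h2
      have h3 : ψ.toRingHom.comp (algebraMap R B) = algebraMap R S := by
        ext r; exact ψ.commutes r
      rwa [h3] at h2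
    intro x hx
    rcases h with h | h
    · obtain ⟨i, ψ, hinj, -, hr⟩ := HensStruct.exists_nbhd_range R S {x}
      exact key x ⟨i.G, inferInstance, inferInstance, i.isStrictlyEssentiallyEtale.1, ψ, hinj,
        hr x (Finset.mem_singleton_self x)⟩ hx
    · obtain ⟨i, ψ, hinj, -, hr⟩ := StrictStruct.exists_nbhd_range R S {x}
      exact key x ⟨i.G, inferInstance, inferInstance, i.isEssentiallyEtale, ψ, hinj,
        hr x (Finset.mem_singleton_self x)⟩ hx

end Groth.Agent.S1972
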