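import Groth.Statements.S1973
import Groth.Agent.Lib.Helper17.SmoothNormal
import Groth.Agent.S9407
import Mathlib

set_option autoImplicit false
universe u
open EtAlg

namespace Groth.Agent.S1973

open Groth.Agent.Lib.Helper17.SmoothNormal

/-- A noetherian integrally closed domain quasi-finite over a Dedekind domain is Dedekind. -/
theorem isDedekindDomain_of_quasiFinite (A D : Type u) [CommRing A] [IsDedekindDomain A]
    [CommRing D] [IsDomain D] [Algebra A D] [IsNoetherianRing D] [IsIntegrallyClosed D]
    [Algebra.QuasiFinite A D] : IsDedekindDomain D := by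
  haveI : Ring.DimensionLEOne D := by
    refine ⟨fun {Q} hQ0 hQ => ?_⟩
    have hP0 : Q.under A ≠ ⊥ := by
      intro h
      haveI : (⊥ : Ideal D).IsPrime := Ideal.isPrime_bot
      have h1 : (⊥ : Ideal D).under A = Q.under A := by
        apply le_antisymm
        · exact Ideal.comap_mono bot_le
        · rw [h]; exact bot_le
      exact hQ0 (Algebra.QuasiFinite.eq_of_le_of_under_eq (R := A) ⊥ Q bot_le h1).symm
    haveI hPp : (Q.under A).IsPrime := Ideal.comap_isPrime _ Q
    have hPmax : (Q.under A).IsMaximal := Ideal.IsPrime.isMaximal hPp hP0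
    obtain ⟨M, hM, hQM⟩ := Ideal.exists_le_maximal Q hQ.ne_top
    haveI : M.IsPrime := hM.isPrime
    have h2 : Q.under A = M.under A :=
      hPmax.eq_of_le (Ideal.comap_isPrime _ M).ne_top (Ideal.comap_mono hQM)
    have := Algebra.QuasiFinite.eq_of_le_of_under_eq (R := A) Q M hQM h2
    rw [this]; exact hM
  exact { }


section decomp

theorem isNoetherianRing_B (A B : Type u) [CommRing A] [IsDedekindDomain A] [CommRing B]
    [Algebra A B] [Algebra.Etale A B] : IsNoetherianRing B :=
  Algebra.FiniteType.isNoetherianRing A B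

theorem coprime_minimalPrimes (A : Type u) {B : Type u} [CommRing A] [IsDedekindDomain A]
    [CommRing B] [Algebra A B] [Algebra.Etale A B] {p p' : Ideal B} (hp : p ∈ minimalPrimes B)
    (hp' : p' ∈ minimalPrimes B) (hne : p ≠ p') : IsCoprime p p' := by
  rw [Ideal.isCoprime_iff_sup_eq]
  by_contra hsup
  obtain ⟨m, hm, hle⟩ := Ideal.exists_le_maximal _ hsup
  haveI : m.IsPrime := hm.isPrime
  obtain ⟨hdom, -⟩ := isDomain_and_isIntegrallyClosed_atPrime_of_etale A m
  haveI := hdom
  have hker : ∀ q : Ideal B, q ∈ minimalPrimes B → q ≤ m →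
      q = RingHom.ker (algebraMap B (Localization.AtPrime m)) := by
    intro q hq hqm
    haveI : q.IsPrime := hq.1.1
    have h1 : RingHom.ker (algebraMap B (Localization.AtPrime m)) ≤ q := by
      intro x hx
      rw [RingHom.mem_ker, IsLocalization.map_eq_zero_iff m.primeCompl] at hx
      obtain ⟨s, hs⟩ := hx
      have h2 : (s : B) * x ∈ q := by rw [hs]; exact q.zero_mem
      rcases Ideal.IsPrime.mem_or_mem ‹q.IsPrime› h2 with h3 | h3
      · exact absurd (hqm h3) s.2
      · exact h3
    exact le_antisymm (hq.2 ⟨RingHom.ker_isPrime _, bot_le⟩ h1) h1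
  exact hne ((hker p hp (le_sup_left.trans hle)).trans
    (hker p' hp' (le_sup_right.trans hle)).symm)

end decomp


/-- Each factor `B ⧸ p`, `p` a minimal prime, of an étale algebra over a Dedekind domain is
étale, and the canonical map to the product is an isomorphism. -/
theorem exists_crt (A B : Type u) [CommRing A] [IsDedekindDomain A] [CommRing B] [Algebra A B]
    [Algebra.Etale A B] :
    Finite {p : Ideal B // p ∈ minimalPrimes B} ∧
    (∀ i : {p : Ideal B // p ∈ minimalPrimes B}, Algebra.Etale A (B ⧸ i.1)) ∧
    Nonempty (B ≃+* ∀ i : {p : Ideal B // p ∈ minimalPrimes B}, B ⧸ i.1) := by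
  classical
  haveI := isNoetherianRing_B A B
  haveI : IsReduced B := Groth.Agent.S9407.result A B
  have hfin : (minimalPrimes B).Finite := minimalPrimes.finite_of_isNoetherianRing B
  haveI hFin : Finite {p : Ideal B // p ∈ minimalPrimes B} := hfin.to_subtype
  have hcop : Pairwise (Function.onFun IsCoprime
      (fun i : {p : Ideal B // p ∈ minimalPrimes B} => i.1)) :=
    fun i j hij => coprime_minimalPrimes A i.2 j.2 (fun h => hij (Subtype.ext h))
  have hinf : (⨅ i : {p : Ideal B // p ∈ minimalPrimes B}, i.1) = ⊥ := by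
    rw [← sInf_eq_iInf', minimalPrimes, Ideal.sInf_minimalPrimes]
    exact nilradical_eq_zero B
  let E : B ≃+* ∀ i : {p : Ideal B // p ∈ minimalPrimes B}, B ⧸ i.1 :=
    ((RingEquiv.quotientBot B).symm.trans (Ideal.quotEquivOfEq hinf.symm)).trans
      (Ideal.quotientInfRingEquivPiQuotient _ hcop)
  have hE : ∀ b i, E b i = Ideal.Quotient.mk i.1 b := fun b i => rfl
  let Ealg : B ≃ₐ[A] ∀ i : {p : Ideal B // p ∈ minimalPrimes B}, B ⧸ i.1 :=
    AlgEquiv.ofRingEquiv (f := E) (fun a => by
      ext i
      rw [hE]
      rfl)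
  haveI : Algebra.FormallyEtale A (∀ i : {p : Ideal B // p ∈ minimalPrimes B}, B ⧸ i.1) :=
    Algebra.FormallyEtale.of_equiv Ealg
  have hfe := (Algebra.FormallyEtale.pi_iff (R := A)
    (fun i : {p : Ideal B // p ∈ minimalPrimes B} => B ⧸ i.1)).mp this
  refine ⟨hFin, fun i => ?_, ⟨E⟩⟩
  haveI := hfe i
  haveI : Algebra.FinitePresentation A (B ⧸ i.1) :=
    Algebra.FinitePresentation.quotient (IsNoetherian.noetherian i.1)
  exact { }


theorem isDedekindDomain_of_etale_domain (A D : Type u) [CommRing A] [IsDedekindDomain A]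
    [CommRing D] [IsDomain D] [Algebra A D] [Algebra.Etale A D] : IsDedekindDomain D := by
  haveI : IsNoetherianRing D := Algebra.FiniteType.isNoetherianRing A D
  haveI : IsIntegrallyClosed D := IsIntegrallyClosed.of_localization_maximal fun p _ _ =>
    (isDomain_and_isIntegrallyClosed_atPrime_of_etale A p).2
  exact isDedekindDomain_of_quasiFinite A D


/-- Let A be a Dedekind domain and B an etale A-algebra. Then B is isomorphic as a ring to a finite
product of Dedekind domains, and for every maximal ideal q of B whose localization is not a field,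
the localization B_q is a discrete valuation ring. (The source states the last claim for all maximal
ideals; it fails for field factors, e.g. A a DVR with uniformizer π and B = A[1/π], so the guard is
needed.) -/
theorem result (A B : Type u) [CommRing A] [IsDedekindDomain A] [CommRing B] [Algebra A B]
    [Algebra.Etale A B] :
    (∃ (n : ℕ) (D : Fin n → Type u) (_ : ∀ i, CommRing (D i)) (_ : ∀ i, IsDedekindDomain (D i)),
      Nonempty (B ≃+* ∀ i, D i)) ∧
    ∀ (q : Ideal B) [q.IsMaximal], ¬ IsField (Localization.AtPrime q) →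
      ∃ _ : IsDomain (Localization.AtPrime q), IsDiscreteValuationRing (Localization.AtPrime q) := by
  constructor
  · obtain ⟨hFin, het, ⟨E⟩⟩ := exists_crt A B
    let e := Finite.equivFin {p : Ideal B // p ∈ minimalPrimes B}
    refine ⟨Nat.card {p : Ideal B // p ∈ minimalPrimes B}, fun j => B ⧸ (e.symm j).1,
      fun j => inferInstance, fun j => ?_, ⟨E.trans (RingEquiv.piCongrLeft' _ e)⟩⟩
    haveI : (e.symm j).1.IsPrime := (e.symm j).2.1.1
    haveI := het (e.symm j)
    exact isDedekindDomain_of_etale_domain A _
  · intro q hq hnf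
    haveI : q.IsPrime := hq.isPrime
    obtain ⟨h1, h2⟩ := isDomain_and_isIntegrallyClosed_atPrime_of_etale A q
    haveI := isNoetherianRing_B A B
    haveI : IsNoetherianRing (Localization.AtPrime q) :=
      IsLocalization.isNoetherianRing q.primeCompl _ inferInstance
    have hded : IsDedekindDomain (Localization.AtPrime q) :=
      isDedekindDomain_of_quasiFinite A (Localization.AtPrime q)
    have h3 := (IsDiscreteValuationRing.TFAE (Localization.AtPrime q) hnf).out 0 2
    exact ⟨h1, h3.mpr hded⟩

end Groth.Agent.S1973
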