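import Groth.Statements.S19751
import Groth.Agent.Lib.Helper14.GrDualLib

set_option autoImplicit false
universe u
open GrDual

namespace Groth.Agent.S19751

open Groth.Agent.Lib.Helper14.GrDualLib DirectSum


/-- Let R be a graded ring defined over a field k with m = R_+, let F and M be finitely generated graded
R-modules and f : F → M a surjective homomorphism of graded R-modules, with dual f^* : M^* → F^* on
graded k-duals. Then f is minimal, that is Ker f ⊆ m F, if and only if f^* is essential: an
injective homomorphism of graded modules such that every nonzero graded submodule of F^* meets its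
image. Here a graded ring defined over k is a commutative k-algebra of finite type, graded in
nonnegative degrees by k-subspaces with degree-zero part k·1, and R_+ is the ideal spanned by the
R_n with n > 0; the graded k-dual M^* = ⊕_n Hom_k(M_{−n}, k) of a graded R-module M (with r ∈ R
acting by (r f)(x) = f(r x)) is presented abstractly as a graded R-module D with a k-bilinear
pairing β : D × M → k compatible with the R-actions, under which D_n pairs to zero with M_m for m ≠
−n and is identified with the full dual space of M_{−n}; f^* is presented as the R-linear map g :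
M^* → F^* with β_F(g d, x) = β_M(d, f x). -/
theorem result (k : Type u) [Field k] (R : Type u) [CommRing R] [Algebra k R] (𝒜 : ℤ → Submodule k R) [GradedAlgebra 𝒜] (hposR : ∀ n : ℤ, n < 0 → 𝒜 n = ⊥) (h0R : 𝒜 0 = Submodule.span k {(1 : R)}) [Algebra.FiniteType k R] (mR : HomogeneousIdeal 𝒜) (hmR : mR.toIdeal = Ideal.span (⋃ n ∈ Set.Ioi (0 : ℤ), (𝒜 n : Set R))) (F : Type u) [AddCommGroup F] [Module R F] [Module k F] [IsScalarTower k R F] (ℱ : ℤ → AddSubgroup F) [DirectSum.Decomposition ℱ] [SetLike.GradedSMul 𝒜 ℱ] [Module.Finite R F] (M : Type u) [AddCommGroup M] [Module R M] [Module k M] [IsScalarTower k R M] (ℳ : ℤ → AddSubgroup M) [DirectSum.Decomposition ℳ] [SetLike.GradedSMul 𝒜 ℳ] [Module.Finite R M] (f : F →ₗ[R] M) (hf : Function.Surjective f) (hfgr : GrLC.IsGrHom ℱ ℳ f) (DM : Type u) [AddCommGroup DM] [Module R DM] [Module k DM] [IsScalarTower k R DM] (𝒟M : ℤ → AddSubgroup DM) [DirectSum.Decomposition 𝒟M] [SetLike.GradedSMul 𝒜 𝒟M] (βM : DM →ₗ[k] M →ₗ[k] k) (hDM : GrSeg.IsGDual R ℳ 𝒟M βM) (DF :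 Type u) [AddCommGroup DF] [Module R DF] [Module k DF] [IsScalarTower k R DF] (𝒟F : ℤ → AddSubgroup DF) [DirectSum.Decomposition 𝒟F] [SetLike.GradedSMul 𝒜 𝒟F] (βF : DF →ₗ[k] F →ₗ[k] k) (hDF : GrSeg.IsGDual R ℱ 𝒟F βF) (g : DM →ₗ[R] DF) (hg : GrSeg.IsGDualMap βM βF f g) : LinearMap.ker f ≤ mR.toIdeal • (⊤ : Submodule R F) ↔ GrLC.IsStarEss 𝒟M 𝒟F g := by
  classical
  -- (C1) g is graded
  have hggr : GrLC.IsGrHom 𝒟M 𝒟F g := by
    intro n d hd
    rw [← DirectSum.sum_support_decompose 𝒟F (g d)]
    apply AddSubgroup.sum_mem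
    intro j _
    by_cases hj : j = n
    · subst hj; exact SetLike.coe_mem _
    · have : ((decompose 𝒟F (g d)) j : DF) = 0 := by
        apply hDF.eq_zero j _ (SetLike.coe_mem _)
        intro x hx
        have h1 := pair_decompose_left ℱ 𝒟F βF hDF (g d) hx
        rw [neg_neg] at h1
        rw [← h1, hg d x]
        exact hDM.vanish n d hd (-j) (by intro h; apply hj; omega) (f x) (hfgr _ _ hx)
      rw [this]; exact zero_mem _
  -- (C2) g injective
  have hginj : Function.Injective g := by
    rw [injective_iff_map_eq_zero]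
    intro d hd
    apply sep_left ℳ 𝒟M βM hDM
    intro y
    obtain ⟨x, rfl⟩ := hf y
    rw [← hg d x, hd, map_zero, LinearMap.zero_apply]
  -- (C3) homogeneous elements vanishing on ker f are in the range
  have hrange : ∀ (n : ℤ) (e' : DF), e' ∈ 𝒟F n → (∀ x ∈ LinearMap.ker f, βF e' x = 0) →
      e' ∈ LinearMap.range g := by
    intro n e' he' hker
    obtain ⟨σ, hσ⟩ := LinearMap.exists_rightInverse_of_surjective (f.restrictScalars k)
      (LinearMap.range_eq_top.mpr hf)
    have hσ' : ∀ y, f (σ y) = y := fun y => by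
      have := congrArg (fun φ => φ y) hσ
      simpa using this
    obtain ⟨d, hd, hdφ⟩ := hDM.exists_eq n ((βF e') ∘ₗ σ)
    refine ⟨d, ?_⟩
    rw [← sub_eq_zero]
    apply hDF.eq_zero n _ (sub_mem (hggr n d hd) he')
    intro x hx
    rw [map_sub, LinearMap.sub_apply, hg d x, hdφ (f x) (hfgr _ _ hx), LinearMap.comp_apply,
      sub_eq_zero]
    have : σ (f x) - x ∈ LinearMap.ker f := by
      rw [LinearMap.mem_ker, map_sub, hσ', sub_self]
    have h2 := hker _ this
    rw [map_sub, sub_eq_zero] at h2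
    exact h2
  -- generators of mR
  have hmem_m : ∀ (j : ℤ), 0 < j → ∀ r ∈ 𝒜 j, r ∈ mR.toIdeal := by
    intro j hj r hr
    rw [hmR]
    apply Ideal.subset_span
    simp only [Set.mem_iUnion, Set.mem_Ioi, SetLike.mem_coe, exists_prop]
    exact ⟨j, hj, hr⟩
  constructor
  · intro hker
    refine ⟨hginj, hggr, ?_⟩
    intro P hP hPne
    obtain ⟨N, hN⟩ := exists_bound_below 𝒜 ℱ hposR
    obtain ⟨p, hpP, hp0⟩ := (Submodule.ne_bot_iff P).mp hPne
    obtain ⟨n₀, hn₀⟩ : ∃ n, ((decompose 𝒟F p) n : DF) ≠ 0 := by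
      by_contra hcon
      push Not at hcon
      apply hp0
      rw [← DirectSum.sum_support_decompose 𝒟F p]
      exact Finset.sum_eq_zero fun i _ => hcon i
    let S : ℤ → Prop := fun n => ∃ d ∈ P, d ∈ 𝒟F n ∧ d ≠ 0
    have hS0 : S n₀ := ⟨_, hP n₀ hpP, SetLike.coe_mem _, hn₀⟩
    have hSbdd : ∀ z, S z → z ≤ -N := by
      rintro z ⟨d, -, hdz, hd0⟩
      by_contra hlt
      push Not at hlt
      apply hd0
      apply hDF.eq_zero z d hdz
      intro x hx
      rw [hN (-z) (by omega) x hx, map_zero]
    obtain ⟨n₁, ⟨d₁, hd₁P, hd₁n, hd₁0⟩, hmax⟩ :=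
      Int.exists_greatest_of_bdd ⟨-N, hSbdd⟩ ⟨n₀, hS0⟩
    have hkill : ∀ r ∈ mR.toIdeal, r • d₁ = 0 := by
      intro r hr
      rw [hmR] at hr
      induction hr using Submodule.span_induction with
      | mem y hy =>
        simp only [Set.mem_iUnion, Set.mem_Ioi, SetLike.mem_coe, exists_prop] at hy
        obtain ⟨j, hj, hyj⟩ := hy
        by_contra hne
        have h1 : S (j + n₁) :=
          ⟨y • d₁, P.smul_mem y hd₁P, smul_mem_piece 𝒜 𝒟F hyj hd₁n, hne⟩
        have := hmax _ h1
        omega
      | zero => simp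
      | add a b _ _ ha hb => rw [add_smul, ha, hb, add_zero]
      | smul a y _ ih => rw [smul_eq_mul, mul_smul, ih, smul_zero]
    have hvan : ∀ x ∈ mR.toIdeal • (⊤ : Submodule R F), βF d₁ x = 0 := by
      intro x hx
      refine Submodule.smul_induction_on hx ?_ ?_
      · intro r hr x' _
        rw [← hDF.map_smul, hkill r hr, map_zero, LinearMap.zero_apply]
      · intro a b ha hb
        rw [map_add, ha, hb, add_zero]
    have hd₁r : d₁ ∈ LinearMap.range g := hrange n₁ d₁ hd₁n (fun x hx => hvan x (hker hx))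
    intro hbot
    have : d₁ ∈ P ⊓ LinearMap.range g := ⟨hd₁P, hd₁r⟩
    rw [hbot, Submodule.mem_bot] at this
    exact hd₁0 this
  · intro hess
    intro x hx
    rw [LinearMap.mem_ker] at hx
    rw [← DirectSum.sum_support_decompose ℱ x]
    apply Submodule.sum_mem
    intro n _
    set xn : F := ((decompose ℱ x) n : F) with hxn
    have hxn_mem : xn ∈ ℱ n := SetLike.coe_mem _
    have hxn_ker : f xn = 0 := by
      rw [hxn, ← decompose_map_of_grHom ℱ ℳ hfgr, hx, decompose_zero]; rfl
    by_contra hnot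
    obtain ⟨φ, hφx, hφN⟩ := Submodule.exists_dual_map_eq_bot_of_notMem
      (p := (mR.toIdeal • (⊤ : Submodule R F)).restrictScalars k) (x := xn) hnot inferInstance
    have hφvan : ∀ y ∈ mR.toIdeal • (⊤ : Submodule R F), φ y = 0 := by
      intro y hy
      have : φ y ∈ Submodule.map φ ((mR.toIdeal • (⊤ : Submodule R F)).restrictScalars k) :=
        Submodule.mem_map_of_mem hy
      rw [hφN] at this
      exact (Submodule.mem_bot k).mp this
    obtain ⟨e', he', he'φ⟩ := hDF.exists_eq (-n) φ
    have he'x : βF e' xn = φ xn := he'φ xn (by rw [neg_neg]; exact hxn_mem)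
    have hkill_hom : ∀ (j : ℤ), 0 < j → ∀ r ∈ 𝒜 j, r • e' = 0 := by
      intro j hj r hr
      apply hDF.eq_zero (j + -n) _ (smul_mem_piece 𝒜 𝒟F hr he')
      intro y hy
      rw [hDF.map_smul]
      have hry : r • y ∈ ℱ n := by
        have := smul_mem_piece 𝒜 ℱ hr hy
        have e : j + -(j + -n) = n := by ring
        rwa [e] at this
      rw [he'φ _ (by rw [neg_neg]; exact hry)]
      exact hφvan _ (Submodule.smul_mem_smul (hmem_m j hj r hr) trivial)
    have hterm : ∀ (s : R) (j : ℤ), j ≠ 0 → ((decompose 𝒜 s) j : R) • e' = 0 := by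
      intro s j hj
      rcases lt_or_gt_of_ne hj with hlt | hgt
      · have : ((decompose 𝒜 s) j : R) ∈ (⊥ : Submodule k R) :=
          hposR j hlt ▸ SetLike.coe_mem ((decompose 𝒜 s) j)
        rw [(Submodule.mem_bot k).mp this, zero_smul]
      · exact hkill_hom j hgt _ (SetLike.coe_mem _)
    have hs0 : ∀ s : R, s • e' = ((decompose 𝒜 s) 0 : R) • e' := by
      intro s
      conv_lhs => rw [← DirectSum.sum_support_decompose 𝒜 s, Finset.sum_smul]
      by_cases h0 : (0 : ℤ) ∈ (decompose 𝒜 s).support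
      · rw [Finset.sum_eq_single_of_mem 0 h0]
        intro j _ hj
        exact hterm s j hj
      · have h0' := DFinsupp.notMem_support_iff.mp h0
        rw [h0']
        simp only [ZeroMemClass.coe_zero, zero_smul]
        apply Finset.sum_eq_zero
        intro j hj
        exact hterm s j (by rintro rfl; exact h0 hj)
    let P : Submodule R DF := Submodule.span R {e'}
    have hPhom : P.IsHomogeneous 𝒟F := by
      intro i m hm
      obtain ⟨s, rfl⟩ := Submodule.mem_span_singleton.mp hm
      rw [decompose_smul_of_mem 𝒜 𝒟F he' i]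
      exact Submodule.smul_mem _ _ (Submodule.mem_span_singleton_self _)
    have he'0 : e' ≠ 0 := by
      intro h; rw [h, map_zero, LinearMap.zero_apply] at he'x; exact hφx he'x.symm
    have hPne : P ≠ ⊥ := by
      intro h
      have : e' ∈ P := Submodule.mem_span_singleton_self _
      rw [h, Submodule.mem_bot] at this
      exact he'0 this
    have hne := hess.essential P hPhom hPne
    obtain ⟨z, ⟨hzP, hzr⟩, hz0⟩ := (Submodule.ne_bot_iff _).mp hne
    obtain ⟨s, rfl⟩ := Submodule.mem_span_singleton.mp hzP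
    obtain ⟨d, hd⟩ := hzr
    have h1 : βF (s • e') xn = 0 := by rw [← hd, hg d xn, hxn_ker, map_zero]
    rw [hs0 s] at h1 hz0
    have hs0mem : ((decompose 𝒜 s) 0 : R) ∈ Submodule.span k {(1 : R)} :=
      h0R ▸ SetLike.coe_mem ((decompose 𝒜 s) 0)
    rw [Submodule.mem_span_singleton] at hs0mem
    obtain ⟨c, hc⟩ := hs0mem
    rw [← hc] at h1 hz0
    have hce : (c • (1 : R)) • e' = c • e' := by rw [smul_assoc, one_smul]
    rw [hce] at h1 hz0
    rw [LinearMap.map_smul, LinearMap.smul_apply, he'x, smul_eq_mul] at h1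
    rcases mul_eq_zero.mp h1 with hc0 | hφ0
    · apply hz0; rw [hc0, zero_smul]
    · exact hφx hφ0

end Groth.Agent.S19751
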