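import Groth.Statements.S19791
import Groth.Agent.Lib.Helper26.HMConj

set_option autoImplicit false
universe u
open CategoryTheory MonoidalCategory CartesianMonoidalCategory MonObj AlgebraicGeometry Opposite
open GIT

namespace Groth.Agent.S19791

/-- Let k be an algebraically closed field, G a connected reductive algebraic group over k acting by σ
on a scheme X proper over k, L an ample G-linearised line bundle on X in total-space form, and ‖·‖ a
real-valued function on the one-parameter subgroups of G invariant under conjugation by k-points of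
G (‖γ·λ·γ⁻¹‖ = ‖λ‖; nothing else is assumed of ‖·‖). For a k-point x of X consider the set of real
numbers μ^L(x, λ)/‖λ‖, where λ runs over the non-trivial one-parameter subgroups of G and μ^L(x, λ)
= m means that the limit of λ(u)·x as u → 0 exists and 𝔾_m acts on the fibre of L over it with
exponent m; its infimum is the number M^L(x). Then for every k-point g of G the sets attached to g·x
and to x coincide, so that M^L(g·x) = M^L(x). (The published statement is for any reductive G, not
necessarily connected, acting on a projective variety; this row takes G connected and X any scheme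
proper over k.) -/
theorem result (k : Type u) [Field k] [IsAlgClosed k]
    (G X : Over (Spec (CommRingCat.of k))) [GrpObj G] (hG : Red.IsReductive G) [IsProper X.hom]
    (a : AlgGrp.Action G X) (B : GLinSh.LinBun G a) (hB : HMNum.AmpleCover B)
    (nrm : (Red.Gm (Spec (CommRingCat.of k)) ⟶ G) → ℝ)
    (hnrm : ∀ (l : Red.Gm (Spec (CommRingCat.of k)) ⟶ G) [IsMonHom l] (g : 𝟙_ (Over (Spec (CommRingCat.of k))) ⟶ G),
      nrm ((toUnit _ ≫ g) * l * (toUnit _ ≫ g)⁻¹) = nrm l)
    (x : 𝟙_ (Over (Spec (CommRingCat.of k))) ⟶ X) (g : 𝟙_ (Over (Spec (CommRingCat.of k))) ⟶ G) (q : ℝ) :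
    (∃ (l : Red.Gm (Spec (CommRingCat.of k)) ⟶ G) (_ : IsMonHom l) (m : ℤ),
        l ≠ 1 ∧ HMNum.IsMu B l (lift g x ≫ a.act) m ∧ q = (m : ℝ) / nrm l) ↔
      ∃ (l : Red.Gm (Spec (CommRingCat.of k)) ⟶ G) (_ : IsMonHom l) (m : ℤ),
        l ≠ 1 ∧ HMNum.IsMu B l x m ∧ q = (m : ℝ) / nrm l := by
  have hsub : Subsingleton (𝟙_ (Over (Spec (CommRingCat.of k)))).left :=
    inferInstanceAs (Subsingleton (PrimeSpectrum k))
  have hne0 : Nonempty (𝟙_ (Over (Spec (CommRingCat.of k)))).left :=
    inferInstanceAs (Nonempty (PrimeSpectrum k))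
  obtain ⟨p₀⟩ := hne0
  have e : toUnit (𝟙_ (Over (Spec (CommRingCat.of k)))) ≫ g = g := by
    rw [toUnit_unique (toUnit _) (𝟙 _), Category.id_comp]
  have key : ∀ (l l' : Red.Gm (Spec (CommRingCat.of k)) ⟶ G) [IsMonHom l] [IsMonHom l']
      (_ : l' = (toUnit _ ≫ g)⁻¹ * l * (toUnit _ ≫ g)) (m : ℤ),
      HMNum.IsMu B l (lift g x ≫ a.act) m ↔ HMNum.IsMu B l' x m := by
    intro l l' _ _ hl' m
    have h := Groth.Agent.Lib.Helper26.HMConj.main a B.π B.atlas.chart B.lift B.lift_π l l' g hl'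
      B.lift_linear B.atlas.cover (T := 𝟙_ _) p₀ (fun q => Subsingleton.elim q p₀) x m
    rw [e] at h
    exact h
  constructor
  · rintro ⟨l, hl, m, hne, hmu, hq⟩
    haveI := hl
    haveI hc : IsMonHom ((toUnit _ ≫ g)⁻¹ * l * (toUnit _ ≫ g)) :=
      Groth.Agent.Lib.Helper26.HMConj.isMonHom_conj l g
    refine ⟨(toUnit _ ≫ g)⁻¹ * l * (toUnit _ ≫ g), hc, m, ?_, (key l _ rfl m).1 hmu, ?_⟩
    · intro h1
      apply hne
      have h2 : l = (toUnit _ ≫ g) * ((toUnit _ ≫ g)⁻¹ * l * (toUnit _ ≫ g)) * (toUnit _ ≫ g)⁻¹ := by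
        group
      rw [h2, h1]
      group
    · rw [hq]
      congr 1
      have h2 := hnrm l g⁻¹
      rw [GrpObj.comp_inv, inv_inv] at h2
      exact h2.symm
  · rintro ⟨l', hl', m, hne, hmu, hq⟩
    haveI := hl'
    haveI hc : IsMonHom ((toUnit _ ≫ g) * l' * (toUnit _ ≫ g)⁻¹) := by
      have h3 := Groth.Agent.Lib.Helper26.HMConj.isMonHom_conj l' g⁻¹
      rwa [GrpObj.comp_inv, inv_inv] at h3
    refine ⟨(toUnit _ ≫ g) * l' * (toUnit _ ≫ g)⁻¹, hc, m, ?_, (key _ l' (by group) m).2 hmu, ?_⟩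
    · intro h1
      apply hne
      have h2 : l' = (toUnit _ ≫ g)⁻¹ * ((toUnit _ ≫ g) * l' * (toUnit _ ≫ g)⁻¹) * (toUnit _ ≫ g) := by
        group
      rw [h2, h1]
      group
    · rw [hq, hnrm l' g]

end Groth.Agent.S19791
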