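import Groth.Statements.S19799
import Mathlib
-- import your own Groth.Agent.* helpers here

set_option autoImplicit false
universe u v w
open scoped TensorProduct
open CAlg

namespace Groth.Agent.S19799


open TensorProduct in
theorem isReduced_tensor (k : Type u) [Field k] [IsAlgClosed k]
    (A : Type v) [CommRing A] [Algebra k A] [Module.Finite k A] [IsReduced A]
    (B : Type w) [CommRing B] [Algebra k B] [IsReduced B] : IsReduced (A ⊗[k] B) := by
  classical
  haveI : IsArtinianRing A := IsArtinianRing.of_finite k A
  letI _ (m : MaximalSpectrum A) : Field (A ⧸ m.asIdeal) := Ideal.Quotient.field m.asIdeal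
  haveI : Fintype (MaximalSpectrum A) := Fintype.ofFinite _
  have hbij : ∀ m : MaximalSpectrum A, Function.Bijective (algebraMap k (A ⧸ m.asIdeal)) := by
    intro m
    haveI : Module.Finite k (A ⧸ m.asIdeal) :=
      Module.Finite.of_surjective (Ideal.Quotient.mkₐ k m.asIdeal).toLinearMap
        (Ideal.Quotient.mkₐ_surjective k _)
    exact IsAlgClosed.algebraMap_bijective_of_isIntegral
  let e₁ : A ≃ₐ[k] (MaximalSpectrum A → k) :=
    ((IsArtinianRing.equivPi A).restrictScalars k).trans
      (AlgEquiv.piCongrRight fun m => (AlgEquiv.ofBijective (Algebra.ofId k _) (hbij m)).symm)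
  let e₂ : A ⊗[k] B ≃ₐ[k] (MaximalSpectrum A → B) :=
    ((Algebra.TensorProduct.congr e₁ (AlgEquiv.refl : B ≃ₐ[k] B)).trans
      (Algebra.TensorProduct.comm k _ _)).trans
      (Algebra.TensorProduct.piScalarRight k k B (MaximalSpectrum A))
  exact isReduced_of_injective e₂ e₂.injective

/-- Let k be an algebraically closed field and A, B commutative k-algebras, each finite-dimensional as a
k-vector space. Then reduction commutes with tensor products: the kernel of the canonical surjection
A ⊗_k B ⟶ (A/nilradical A) ⊗_k (B/nilradical B) equals the nilradical of A ⊗_k B, so that this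
surjection induces an isomorphism (A ⊗_k B)_red ≅ A_red ⊗_k B_red and in particular A_red ⊗_k B_red
is reduced. -/
theorem result (k : Type u) [Field k]
    [IsAlgClosed k] (A : Type v) [CommRing A] [Algebra k A] [Module.Finite k A]
    (B : Type w) [CommRing B] [Algebra k B] [Module.Finite k B] :
    RingHom.ker (Algebra.TensorProduct.map (Ideal.Quotient.mkₐ k (nilradical A))
      (Ideal.Quotient.mkₐ k (nilradical B))).toRingHom = nilradical (A ⊗[k] B) := by
  haveI hA : IsReduced (A ⧸ nilradical A) :=
    (Ideal.isRadical_iff_quotient_reduced _).mp (Ideal.radical_isRadical _)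
  haveI hB : IsReduced (B ⧸ nilradical B) :=
    (Ideal.isRadical_iff_quotient_reduced _).mp (Ideal.radical_isRadical _)
  haveI : Module.Finite k (A ⧸ nilradical A) :=
    Module.Finite.of_surjective (Ideal.Quotient.mkₐ k (nilradical A)).toLinearMap
      (Ideal.Quotient.mkₐ_surjective k _)
  haveI := isReduced_tensor k (A ⧸ nilradical A) (B ⧸ nilradical B)
  apply le_antisymm
  · have hker := Algebra.TensorProduct.map_ker
      (f := Ideal.Quotient.mkₐ k (nilradical A)) (g := Ideal.Quotient.mkₐ k (nilradical B))
      (Ideal.Quotient.mkₐ_surjective k _) (Ideal.Quotient.mkₐ_surjective k _)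
    intro z hz
    have hz' : z ∈ RingHom.ker (Algebra.TensorProduct.map (Ideal.Quotient.mkₐ k (nilradical A))
      (Ideal.Quotient.mkₐ k (nilradical B))) := hz
    rw [hker] at hz'
    refine (sup_le ?_ ?_ : _ ≤ nilradical (A ⊗[k] B)) hz'
    · rw [Ideal.map_le_iff_le_comap]
      intro a ha
      have ha' : a ∈ nilradical A := Ideal.Quotient.eq_zero_iff_mem.mp ha
      exact (mem_nilradical.mp ha').map _
    · rw [Ideal.map_le_iff_le_comap]
      intro b hb
      have hb' : b ∈ nilradical B := Ideal.Quotient.eq_zero_iff_mem.mp hb
      exact (mem_nilradical.mp hb').map _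
  · intro z hz
    have hnil : IsNilpotent z := mem_nilradical.mp hz
    have := hnil.map (Algebra.TensorProduct.map (Ideal.Quotient.mkₐ k (nilradical A))
      (Ideal.Quotient.mkₐ k (nilradical B)))
    exact this.eq_zero

end Groth.Agent.S19799
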