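import Groth.Statements.S19801
import Groth.Agent.Lib.Helper2.KodDev

set_option autoImplicit false
universe u
open CategoryTheory CategoryTheory.Limits AlgebraicGeometry Asymptotics
open Variety

namespace Groth.Agent.S19801

/-- Let X be a projective variety of dimension d over a field k, i.e. a geometrically integral scheme
proper over k admitting an ample invertible module, with dim X = d; let L be an invertible
O_X-module and F a coherent O_X-module. Then dim_k H^0(X, F ⊗ L^m) = O(m^d) as m → ∞. -/
theorem result (k : Type u) [Field k] (X : Scheme.{u})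
    [X.Over (Spec (CommRingCat.of k))] [IsIntegral X] [GeometricallyIntegral (X ↘ Spec (CommRingCat.of k))]
    [IsProper (X ↘ Spec (CommRingCat.of k))] (hproj : ∃ A : X.Modules, CohB1.IsAmple A)
    (d : ℕ) (hd : topologicalKrullDim X = d) (L : X.Modules) (hL : PicF.IsInvertible L)
    (F : X.Modules) (hF : Coh.IsCoh F) :
    (fun m : ℕ => (Module.finrank k (Coh.HH X (CohB1.tensorMod F (CohB1.tensorPow L m)) 0) : ℝ)) =O[Filter.atTop]
      (fun m : ℕ => (m : ℝ) ^ d) := by
  obtain ⟨A, hA⟩ := hproj
  have hr : topologicalKrullDim (CohB1.support F) ≤ (d : WithBot ℕ∞) := by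
    rw [← hd]; exact topologicalKrullDim_subspace_le X _
  obtain ⟨C, hC⟩ := Groth.Agent.Lib.Helper2.KodDev.ub_general k hA hL F hF d hr
  apply Asymptotics.IsBigO.of_bound (C : ℝ)
  rw [Filter.eventually_atTop]
  refine ⟨1, fun m hm => ?_⟩
  have h1 := hC m hm
  unfold Groth.Agent.Lib.Helper2.KodUB.h0 at h1
  rw [Real.norm_of_nonneg (by positivity), Real.norm_of_nonneg (by positivity)]
  exact_mod_cast h1


end Groth.Agent.S19801
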