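import Groth.Statements.S19804
import Mathlib
set_option backward.isDefEq.respectTransparency.types false

set_option autoImplicit false
open scoped TensorProduct
universe u v w
open Brauer

namespace Groth.Agent.S19804

theorem eq_zero_of_tmul_eq_zero {R : Type u} [CommRing R]
    [ConnectedSpace (PrimeSpectrum R)] {A : Type v} [Ring A] [Algebra R A]
    [Module.Projective R A] [Module.Finite R A]
    (e : A) (he : IsIdempotentElem e) (R' : Type w) [CommRing R'] [Nontrivial R'] [Algebra R R']
    (h : (1 : R') ⊗ₜ[R] e = (0 : R' ⊗[R] A)) : e = 0 := by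
  classical
  let f : A →ₗ[R] A := LinearMap.mulLeft R e
  let N : Submodule R A := LinearMap.range f
  let g : A →ₗ[R] N := f.rangeRestrict
  have hgι : g ∘ₗ N.subtype = LinearMap.id := by
    ext ⟨n, a, rfl⟩
    simp [g, f, ← mul_assoc, he.eq]
  have hproj : Module.Projective R N :=
    Module.Projective.of_split N.subtype g hgι
  have hfin : Module.Finite R N := Module.Finite.range f
  have hfp : Module.FinitePresentation R N := Module.finitePresentation_of_projective R N
  have hlc := Module.isLocallyConstant_rankAtStalk (R := R) (M := N)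
  -- R' ⊗ N = 0
  have hsub : Subsingleton (R' ⊗[R] N) := by
    have hid : (LinearMap.lTensor R' g) ∘ₗ (LinearMap.lTensor R' N.subtype) = LinearMap.id := by
      rw [← LinearMap.lTensor_comp, hgι, LinearMap.lTensor_id]
    have hz : LinearMap.lTensor R' N.subtype = 0 := by
      ext r' ⟨n, a, rfl⟩
      have : r' ⊗ₜ[R] (e * a) = ((1 : R') ⊗ₜ[R] e) * (r' ⊗ₜ[R] a) := by
        simp [Algebra.TensorProduct.tmul_mul_tmul]
      simp [f, this, h]
    rw [hz, LinearMap.comp_zero] at hid
    refine ⟨fun x y => ?_⟩
    have hx : x = 0 := by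
      have := LinearMap.congr_fun hid x
      simpa using this.symm
    have hy : y = 0 := by
      have := LinearMap.congr_fun hid y
      simpa using this.symm
    rw [hx, hy]
  obtain ⟨q⟩ : Nonempty (PrimeSpectrum R') := inferInstance
  have h0 : Module.rankAtStalk (R := R) N (q.comap (algebraMap R R')) = 0 := by
    rw [← Module.rankAtStalk_baseChange (M := N) q]
    have := Module.rankAtStalk_eq_zero_of_subsingleton (R := R') (M := R' ⊗[R] N)
    rw [this]; rfl
  have hall : Module.rankAtStalk (R := R) N = 0 := by
    ext p
    rw [hlc.apply_eq_of_preconnectedSpace p (q.comap (algebraMap R R')), h0]; rfl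
  have hN : Subsingleton N := Module.rankAtStalk_eq_zero_iff_subsingleton.mp hall
  have he' : e ∈ N := ⟨1, by simp [f]⟩
  have := Subsingleton.elim (⟨e, he'⟩ : N) 0
  simpa using congrArg Subtype.val this


/-- Let R be a commutative ring with Spec R connected, A an Azumaya R-algebra and e an idempotent
element of A. If for some nonzero commutative R-algebra R' the element 1 ⊗ e of R' ⊗_R A is 0, then
e = 0; and if 1 ⊗ e = 1 in R' ⊗_R A, then e = 1. (The published statement is for an Azumaya algebra
over a connected scheme S and base change to an arbitrary nonempty S-scheme T; this row takes S and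
T affine.) -/
theorem result {R : Type u} [CommRing R]
    [ConnectedSpace (PrimeSpectrum R)] {A : Type v} [Ring A] [Algebra R A] [IsAzumaya R A]
    (e : A) (he : IsIdempotentElem e) (R' : Type w) [CommRing R'] [Nontrivial R'] [Algebra R R'] :
    ((1 : R') ⊗ₜ[R] e = (0 : R' ⊗[R] A) → e = 0) ∧ ((1 : R') ⊗ₜ[R] e = (1 : R' ⊗[R] A) → e = 1) := by
  refine ⟨fun h => eq_zero_of_tmul_eq_zero e he R' h, fun h => ?_⟩
  have h1 : (1 : R') ⊗ₜ[R] (1 - e) = (0 : R' ⊗[R] A) := by
    rw [TensorProduct.tmul_sub, h, ← Algebra.TensorProduct.one_def, sub_self]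
  have := eq_zero_of_tmul_eq_zero (1 - e) he.one_sub R' h1
  exact (sub_eq_zero.mp this).symm

end Groth.Agent.S19804
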