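import Groth.Statements.S19806
import Groth.Agent.Lib.Helper2.Kodaira4

set_option autoImplicit false
universe u
open CategoryTheory CategoryTheory.Limits AlgebraicGeometry
open scoped ENNReal
open Variety

namespace Groth.Agent.S19806

/-- Let X be a projective variety of dimension d over a field k (a geometrically integral scheme, proper
over k, admitting an ample invertible module, with dim X = d) and L an invertible O_X-module; write
vol(L) for the upper limit of dim_k H^0(X, L^m) / m^d as m → ∞, taken in the extended non-negative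
reals (the volume of L up to the factor d!). Call L big when the lower limit of dim_k H^0(X, L^m) /
m^d is positive. Then L is big if and only if vol(L) is positive. -/
theorem result (k : Type u) [Field k] (X : Scheme.{u})
    [X.Over (Spec (CommRingCat.of k))] [IsIntegral X] [GeometricallyIntegral (X ↘ Spec (CommRingCat.of k))]
    [IsProper (X ↘ Spec (CommRingCat.of k))]
    (hproj : ∃ A : X.Modules, CohB1.IsAmple A) (d : ℕ) (hd : topologicalKrullDim X = d)
    (L : X.Modules) (hL : PicF.IsInvertible L) :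
    0 < Filter.liminf (fun m : ℕ => (Module.finrank k (Coh.HH X (CohB1.tensorPow L m) 0) : ℝ≥0∞) /
        (m : ℝ≥0∞) ^ d) Filter.atTop ↔
      0 < Filter.limsup (fun m : ℕ => (Module.finrank k (Coh.HH X (CohB1.tensorPow L m) 0) : ℝ≥0∞) /
        (m : ℝ≥0∞) ^ d) Filter.atTop := by
  obtain ⟨H, hH⟩ := hproj
  have hform : ∀ m : ℕ, 1 ≤ m →
      (Module.finrank k (Coh.HH X (CohB1.tensorPow L m) 0) : ℝ≥0∞) / (m : ℝ≥0∞) ^ d =
        ENNReal.ofReal ((Module.finrank k (Coh.HH X (CohB1.tensorPow L m) 0) : ℝ) / (m : ℝ) ^ d) := by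
    intro m hm
    have hm0 : (0 : ℝ) < (m : ℝ) := by exact_mod_cast hm
    rw [ENNReal.ofReal_div_of_pos (by positivity), ENNReal.ofReal_natCast,
      ENNReal.ofReal_pow hm0.le, ENNReal.ofReal_natCast]
  constructor
  · intro h
    exact lt_of_lt_of_le h (Filter.liminf_le_limsup)
  · intro h
    obtain ⟨c, hc0, hc⟩ := exists_between h
    have hctop : c ≠ ⊤ := ne_top_of_lt hc
    have hfr := Filter.frequently_lt_of_lt_limsup (by isBoundedDefault) hc
    rw [Filter.frequently_atTop] at hfr
    have hC : 0 < c.toReal := ENNReal.toReal_pos hc0.ne' hctop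
    obtain ⟨a, ha⟩ := Groth.Agent.Lib.Helper2.Kodaira.freq_of_real_lb
      (fun m => Groth.Agent.Lib.Helper2.KodUB.h0 k (CohB1.tensorPow L m)) d c.toReal hC
      (fun M₀ => by
        obtain ⟨m, hm, hlt⟩ := hfr (max M₀ 1)
        have hm1 : 1 ≤ m := (le_max_right _ _).trans hm
        refine ⟨m, (le_max_left _ _).trans hm, ?_⟩
        rw [hform m hm1, ENNReal.lt_ofReal_iff_toReal_lt hctop] at hlt
        have hm0 : (0 : ℝ) < (m : ℝ) := by exact_mod_cast hm1
        have hmd : (0 : ℝ) < (m : ℝ) ^ d := by positivity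
        rw [lt_div_iff₀ hmd] at hlt
        exact hlt.le)
    have hbig' := Groth.Agent.Lib.Helper2.Kodaira.sub_of_growth k d hd hH hL a ha
    obtain ⟨N, m₁, hN, hg⟩ := Groth.Agent.Lib.Helper2.Kodaira.growth_of_big k d hd hH hL hbig'
    have hN' : (0 : ℝ) < (N : ℝ) := by exact_mod_cast hN
    have hpos : (0 : ℝ≥0∞) < ENNReal.ofReal (1 / (N : ℝ)) := ENNReal.ofReal_pos.2 (by positivity)
    refine lt_of_lt_of_le hpos (Filter.le_liminf_of_le (by isBoundedDefault) ?_)
    rw [Filter.eventually_atTop]
    refine ⟨max m₁ 1, fun m hm => ?_⟩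
    have hm1 : 1 ≤ m := (le_max_right _ _).trans hm
    rw [hform m hm1]
    apply ENNReal.ofReal_le_ofReal
    have h1 := hg m ((le_max_left _ _).trans hm)
    unfold Groth.Agent.Lib.Helper2.KodUB.h0 at h1
    have h2 : ((m ^ d : ℕ) : ℝ) ≤ ((N * Module.finrank k (Coh.HH X (CohB1.tensorPow L m) 0) : ℕ) : ℝ) := by
      exact_mod_cast h1
    push_cast at h2
    have hm0 : (0 : ℝ) < (m : ℝ) := by exact_mod_cast hm1
    have hmd : (0 : ℝ) < (m : ℝ) ^ d := by positivity
    rw [le_div_iff₀ hmd, div_mul_eq_mul_div, one_mul, div_le_iff₀ hN']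
    linarith


end Groth.Agent.S19806
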