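import Groth.Statements.S19807
import Groth.Agent.Lib.Helper2.Kodaira4

set_option autoImplicit false
universe u
open CategoryTheory CategoryTheory.Limits AlgebraicGeometry
open scoped ENNReal
open Variety

namespace Groth.Agent.S19807

/-- Let X be a projective variety of dimension d over a field k (a geometrically integral scheme, proper
over k, admitting an ample invertible module, with dim X = d) and L an invertible O_X-module; write
vol(L) for the upper limit of dim_k H^0(X, L^m) / m^d as m → ∞, taken in the extended non-negative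
reals (the volume of L up to the factor d!). If E is an invertible O_X-module admitting a nonzero
global section (an effective Cartier divisor), then vol(L) ≤ vol(L ⊗ E): the volume increases in
effective directions. -/
theorem result (k : Type u) [Field k] (X : Scheme.{u})
    [X.Over (Spec (CommRingCat.of k))] [IsIntegral X] [GeometricallyIntegral (X ↘ Spec (CommRingCat.of k))]
    [IsProper (X ↘ Spec (CommRingCat.of k))]
    (hproj : ∃ A : X.Modules, CohB1.IsAmple A) (d : ℕ) (hd : topologicalKrullDim X = d)
    (L : X.Modules) (hL : PicF.IsInvertible L)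
    (E : X.Modules) (hE : PicF.IsInvertible E) (s : Coh.structureModule X ⟶ E) (hs : s ≠ 0) :
    Filter.limsup (fun m : ℕ => (Module.finrank k (Coh.HH X (CohB1.tensorPow L m) 0) : ℝ≥0∞) /
        (m : ℝ≥0∞) ^ d) Filter.atTop ≤
      Filter.limsup (fun m : ℕ => (Module.finrank k (Coh.HH X (CohB1.tensorPow (CohB1.tensorMod L E) m) 0) : ℝ≥0∞) /
        (m : ℝ≥0∞) ^ d) Filter.atTop := by
  have hOi := Groth.Agent.Lib.Helper28.AmpleUnit.isInvertible_structureModule X
  have hsm : Mono s := Groth.Agent.Lib.Helper8.CurveInv.mono_of_ne_zero hOi hE s hs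
  obtain ⟨u⟩ := Groth.Agent.Lib.Helper28.AmpleUnit.nonempty_tensor_unit_iso L
  have hsub : Groth.Agent.Lib.Helper2.KodSub.Sub L (CohB1.tensorMod L E) :=
    (Groth.Agent.Lib.Helper2.KodSub.Sub.of_iso u.symm).trans
      (Groth.Agent.Lib.Helper2.KodSub.Sub.tensor_left L
        (Groth.Agent.Lib.Helper6.K0Op.isFlat_of_isInvertible _ hL) ⟨s, hsm⟩)
  have hLE : PicF.IsInvertible (CohB1.tensorMod L E) :=
    Groth.Agent.Lib.Helper28.GenLocus.isInvertible_tensorMod hL hE
  refine Filter.limsup_le_limsup (Filter.Eventually.of_forall (fun m => ?_)) (by isBoundedDefault)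
    (by isBoundedDefault)
  · apply ENNReal.div_le_div_right
    have h1 := Groth.Agent.Lib.Helper2.KodSub.Sub.hh_le k
      (Groth.Agent.Lib.Helper6.K0Op.isCoh_of_isInvertible _
        (Groth.Agent.Lib.Helper28.GenLocus.isInvertible_tensorPow hLE m)) (hsub.pow hL hLE m)
    exact_mod_cast h1


end Groth.Agent.S19807
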