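import Groth.Statements.S1982
import Groth.Agent.Lib.Helper18.Unram.Assemble
import Groth.Agent.Lib.Helper18.Unram.VNR
import Groth.Agent.Lib.Helper18.Unram.DVRFin
import Groth.Agent.Lib.Helper18.Unram.ResRoot
import Groth.Agent.Lib.Helper18.Unram.GeomRoot
import Groth.Agent.Lib.Helper18.Unram.RamIdx
import Groth.Agent.Lib.Helper18.Eis.Tower
import Groth.Agent.Lib.Helper24.Tame.Tower

set_option autoImplicit false
universe u
open EtAlg

namespace Groth.Agent.S1982

/-- Suppose A -> B makes the discrete valuation ring B an extension of the discrete valuation ring A,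
write K ⊂ L for their fraction fields and e for the ramification index; assume the residue
characteristic of A is zero, or it is p with p not dividing e and the residue field extension of A
-> B separable (in the general sense, i.e. geometrically reduced; it need not be algebraic). Let
K₁/K be a finite extension. Then for every compositum M of L and K₁ and every valuation subring W of
M dominating B such that e divides the ramification index of A -> W ∩ K₁, the extension W ∩ K₁ -> W
is weakly unramified with separable (geometrically reduced) residue field extension. -/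
theorem result (A B K L : Type u) [CommRing A] [IsDomain A] [IsDiscreteValuationRing A]
    [CommRing B] [IsDomain B] [IsDiscreteValuationRing B] [Algebra A B] [IsLocalHom (algebraMap A B)]
    (hinj : Function.Injective (algebraMap A B))
    [Field K] [Field L] [Algebra A K] [IsFractionRing A K] [Algebra B L] [IsFractionRing B L]
    [Algebra K L] [Algebra A L] [IsScalarTower A K L] [IsScalarTower A B L]
    (htame : CharZero (IsLocalRing.ResidueField A) ∨
      ∃ p : ℕ, p.Prime ∧ CharP (IsLocalRing.ResidueField A) p ∧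
        ¬ p ∣ Ideal.ramificationIdx' (IsLocalRing.maximalIdeal A) (IsLocalRing.maximalIdeal B) ∧
        Algebra.IsGeometricallyReduced (IsLocalRing.ResidueField A) (IsLocalRing.ResidueField B))
    (K₁ : Type u) [Field K₁] [Algebra K K₁] [FiniteDimensional K K₁] :
    EtRam.ForallLocalExt B K L K₁ (fun M _ W f =>
      ∀ hA : ∀ a : A, (algebraMap K K₁) (algebraMap A K a) ∈ W.comap f,
        letI : Algebra A (W.comap f) := (RingHom.codRestrict ((algebraMap K K₁).comp (algebraMap A K)) (W.comap f) hA).toAlgebra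
        letI : Algebra (W.comap f) W := (EtRam.inclOfComap W f).toAlgebra
        Ideal.ramificationIdx' (IsLocalRing.maximalIdeal A) (IsLocalRing.maximalIdeal B) ∣
          Ideal.ramificationIdx' (IsLocalRing.maximalIdeal A) (IsLocalRing.maximalIdeal (W.comap f)) →
        EtRam.IsWeaklyUnramified (W.comap f) W ∧
          @Algebra.IsGeometricallyReduced (IsLocalRing.ResidueField (W.comap f)) (IsLocalRing.ResidueField W) _ _
            (IsLocalRing.ResidueField.map (EtRam.inclOfComap W f)).toAlgebra) := by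
  intro M _ _ _ _ _ _ hadj W hW
  set f : K₁ →+* M := algebraMap K₁ M with hf
  set gB : B →+* M := (algebraMap L M).comp (algebraMap B L) with hgB
  let gA : A →+* K₁ := (algebraMap K K₁).comp (algebraMap A K)
  intro hA
  letI algAV : Algebra A (W.comap f) := (RingHom.codRestrict gA (W.comap f) hA).toAlgebra
  intro hdvd
  have hcompatA : ∀ a : A, f (gA a) = gB (algebraMap A B a) := by
    intro a
    show algebraMap K₁ M (algebraMap K K₁ (algebraMap A K a)) =
      algebraMap L M (algebraMap B L (algebraMap A B a))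
    rw [← IsScalarTower.algebraMap_apply K K₁ M, IsScalarTower.algebraMap_apply K L M,
      ← IsScalarTower.algebraMap_apply A K L, ← IsScalarTower.algebraMap_apply A B L]
  have hgBinj : Function.Injective gB :=
    (algebraMap L M).injective.comp (IsFractionRing.injective B L)
  have hlocAB : ∀ a ∈ IsLocalRing.maximalIdeal A, algebraMap A B a ∈ IsLocalRing.maximalIdeal B := by
    intro a ha
    have : ¬ IsUnit a := (IsLocalRing.mem_maximalIdeal _).mp ha
    exact (IsLocalRing.mem_maximalIdeal _).mpr
      (fun hu => this (isUnit_of_map_unit (algebraMap A B) a hu))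
  -- the valuation ring of `K₁`
  let V : ValuationSubring K₁ := W.comap f
  have hV : EtRam.Dominates A gA V := by
    refine ⟨hA, fun a ha => ?_⟩
    rw [Groth.Agent.Lib.Helper18.Unram.valuation_comap_lt_one_iff, hcompatA]
    exact hW.2 _ (hlocAB a ha)
  haveI hlocAV : IsLocalHom (algebraMap A V) :=
    Groth.Agent.Lib.Helper24.TameTower.isLocalHom_of_dominates hV
  letI algBW : Algebra B W := (RingHom.codRestrict gB W hW.1).toAlgebra
  haveI hlocBW : IsLocalHom (algebraMap B W) :=
    Groth.Agent.Lib.Helper24.TameTower.isLocalHom_of_dominates hW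
  obtain ⟨π, hπ⟩ := IsDiscreteValuationRing.exists_irreducible A
  have hπ0 : π ≠ 0 := hπ.ne_zero
  -- uniformisers and ramification indices
  obtain ⟨ϖB, hϖB⟩ := IsDiscreteValuationRing.exists_irreducible B
  have hπB0 : algebraMap A B π ≠ 0 := fun h => hπ0 (hinj (h.trans (map_zero _).symm))
  obtain ⟨eB, uB, huB⟩ := IsDiscreteValuationRing.eq_unit_mul_pow_irreducible hπB0 hϖB
  have heB : Ideal.ramificationIdx' (IsLocalRing.maximalIdeal A) (IsLocalRing.maximalIdeal B) = eB :=
    Groth.Agent.Lib.Helper18.Unram.ramificationIdx'_eq_of_factor hπ hϖB.maximalIdeal_eq hϖB.ne_zero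
      huB
  obtain ⟨ϖ, hmV, hϖ0, hfac⟩ := Groth.Agent.Lib.Helper18.Unram.exists_generator' V hV
  have hϖV0 : ϖ ≠ 0 := fun h => hϖ0 (by rw [h]; rfl)
  have hπV0 : algebraMap A V π ≠ 0 := by
    intro h
    have h1 : gA π = 0 := by
      have := congrArg Subtype.val h
      exact this
    exact hπ0 (((algebraMap K K₁).injective.comp (IsFractionRing.injective A K))
      (h1.trans (map_zero gA).symm))
  obtain ⟨eV, uV, huV⟩ := hfac (algebraMap A V π) hπV0
  have heV : Ideal.ramificationIdx' (IsLocalRing.maximalIdeal A) (IsLocalRing.maximalIdeal V) = eV :=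
    Groth.Agent.Lib.Helper18.Unram.ramificationIdx'_eq_of_factor hπ hmV hϖV0 huV
  rw [heB, heV] at hdvd
  obtain ⟨d, hd⟩ := hdvd
  have heBpos : 0 < eB := by
    rcases Nat.eq_zero_or_pos eB with h0 | h0
    · exfalso
      rw [h0, pow_zero, mul_one] at huB
      have : algebraMap A B π ∈ IsLocalRing.maximalIdeal B :=
        hlocAB π ((IsLocalRing.mem_maximalIdeal _).mpr hπ.not_isUnit)
      exact (IsLocalRing.mem_maximalIdeal _).mp this (huB ▸ uB.isUnit)
    · exact h0
  have heVpos : 0 < eV := by
    rcases Nat.eq_zero_or_pos eV with h0 | h0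
    · exfalso
      rw [h0, pow_zero, mul_one] at huV
      have : algebraMap A V π ∈ IsLocalRing.maximalIdeal V := by
        rw [V.valuation_lt_one_iff]
        exact hV.2 π ((IsLocalRing.mem_maximalIdeal _).mpr hπ.not_isUnit)
      exact (IsLocalRing.mem_maximalIdeal _).mp this (huV ▸ uV.isUnit)
    · exact h0
  have hdpos : 0 < d := by
    rcases Nat.eq_zero_or_pos d with h0 | h0
    · rw [h0, mul_zero] at hd; omega
    · exact h0
  -- consequences of tameness
  have htame' : Algebra.IsGeometricallyReduced (IsLocalRing.ResidueField A)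
      (IsLocalRing.ResidueField B) ∧ ((eB : ℕ) : IsLocalRing.ResidueField A) ≠ 0 := by
    rcases htame with h0 | ⟨p, hp, hcp, hndvd, hgr⟩
    · haveI := h0
      refine ⟨?_, Nat.cast_ne_zero.mpr heBpos.ne'⟩
      rw [Algebra.isGeometricallyReduced_field_iff]
      haveI : IsReduced (TensorProduct (IsLocalRing.ResidueField A) (IsLocalRing.ResidueField B)
          (AlgebraicClosure (IsLocalRing.ResidueField A))) :=
        Groth.Agent.Lib.Helper18.Unram.isReduced_field_tensor_of_isSeparable
      exact isReduced_of_injective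
        (Algebra.TensorProduct.comm (IsLocalRing.ResidueField A)
          (AlgebraicClosure (IsLocalRing.ResidueField A)) (IsLocalRing.ResidueField B))
        (AlgEquiv.injective _)
    · haveI := hcp
      refine ⟨hgr, ?_⟩
      rw [heB] at hndvd
      rw [Ne, CharP.cast_eq_zero_iff (IsLocalRing.ResidueField A) p]
      exact hndvd
  obtain ⟨hgr, he0⟩ := htame'
  haveI := hgr
  let φ₂ : V →+* M := f.comp V.subtype
  have h₂ : EtRam.Dominates V φ₂ W := by
    refine ⟨fun v => v.2, fun v hv => ?_⟩
    rw [V.valuation_lt_one_iff, Groth.Agent.Lib.Helper18.Unram.valuation_comap_lt_one_iff] at hv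
    exact hv
  have hφ₂A : ∀ a : A, φ₂ (algebraMap A V a) = gB (algebraMap A B a) := fun a => hcompatA a
  have hφϖ0 : φ₂ ϖ ≠ 0 := (map_ne_zero f).mpr hϖ0
  have hP0 : gB (algebraMap A B π) ≠ 0 := fun h0 => hπB0 (hgBinj (h0.trans (map_zero gB).symm))
  -- the root of a unit
  set θ : M := gB ϖB / (φ₂ ϖ) ^ d with hθdef
  have e1 : gB ϖB ^ eB = gB ((uB⁻¹ : Bˣ) : B) * gB (algebraMap A B π) := by
    rw [huB, map_mul, ← mul_assoc, ← map_mul, Units.inv_mul, map_one, one_mul, map_pow]
  have e2 : φ₂ ϖ ^ eV * φ₂ uV = gB (algebraMap A B π) := by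
    rw [← hφ₂A, huV, map_mul, map_pow, mul_comm]
  have hθ : θ ^ eB = φ₂ uV * gB ((uB⁻¹ : Bˣ) : B) := by
    rw [hθdef, div_pow, ← pow_mul, mul_comm d eB, ← hd, e1, ← e2]
    field_simp
  have hu₁ : IsUnit (((uB⁻¹ : Bˣ) : B)) := (uB⁻¹).isUnit
  have hu₂ : IsUnit ((uV : V)) := uV.isUnit
  set D := Groth.Agent.Lib.Helper18.Unram.genRingRoot gB φ₂ θ with hD
  have hgBϖB : gB ϖB = φ₂ ϖ * (θ * (φ₂ ϖ) ^ (d - 1)) := by
    rw [hθdef]
    have : (φ₂ ϖ) ^ d = φ₂ ϖ * (φ₂ ϖ) ^ (d - 1) := by
      rw [← pow_succ', Nat.sub_add_cancel hdpos]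
    rw [this]
    field_simp
  have hm₁ : ∀ b ∈ IsLocalRing.maximalIdeal B, ∃ d' ∈ D, gB b = φ₂ ϖ * d' := by
    intro b hb
    rw [hϖB.maximalIdeal_eq] at hb
    obtain ⟨b', rfl⟩ := Ideal.mem_span_singleton'.mp hb
    refine ⟨gB b' * (θ * (φ₂ ϖ) ^ (d - 1)), D.mul_mem
      (Groth.Agent.Lib.Helper18.Unram.mem_genRingRoot_left _ _ θ b')
      (D.mul_mem (Groth.Agent.Lib.Helper18.Unram.mem_genRingRoot_root _ _ θ)
        (D.pow_mem (Groth.Agent.Lib.Helper18.Unram.mem_genRingRoot_right _ _ θ ϖ) _)), ?_⟩
    rw [map_mul, hgBϖB]; ring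
  have hk : ∀ c : IsLocalRing.ResidueField A, ∃ (v₁ : B) (v₂ : V),
      algebraMap (IsLocalRing.ResidueField A) (IsLocalRing.ResidueField B) c =
        IsLocalRing.residue B v₁ ∧
      algebraMap (IsLocalRing.ResidueField A) (IsLocalRing.ResidueField V) c =
        IsLocalRing.residue V v₂ ∧ gB v₁ = φ₂ v₂ := by
    intro c
    obtain ⟨a, rfl⟩ := IsLocalRing.residue_surjective c
    exact ⟨algebraMap A B a, algebraMap A V a, IsLocalRing.ResidueField.algebraMap_residue _,
      IsLocalRing.ResidueField.algebraMap_residue _, (hφ₂A a).symm⟩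
  -- the residue field of `V` is algebraic over that of `A`
  haveI halgres : Algebra.IsAlgebraic (IsLocalRing.ResidueField A) (IsLocalRing.ResidueField V) := by
    apply Groth.Agent.Lib.Helper18.Unram.isAlgebraic_residueField
    · intro a b hab
      have h1 : gA a = gA b := by
        have := congrArg Subtype.val hab
        exact this
      exact ((algebraMap K K₁).injective.comp (IsFractionRing.injective A K)) h1
    · intro x
      letI : Algebra A K₁ := gA.toAlgebra
      haveI : IsScalarTower A K K₁ := IsScalarTower.of_algebraMap_eq (fun _ => rfl)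
      have h1 : IsAlgebraic K (x : K₁) := (Algebra.IsIntegral.isIntegral (x : K₁)).isAlgebraic
      have h2 : IsAlgebraic A (x : K₁) := (IsFractionRing.isAlgebraic_iff A K K₁).mpr h1
      obtain ⟨p, hp0, hp⟩ := h2
      refine ⟨p, hp0, ?_⟩
      apply Subtype.val_injective
      have := Polynomial.hom_eval₂ p (algebraMap A V) V.subtype x
      rw [ZeroMemClass.coe_zero]
      refine Eq.trans this ?_
      rw [← hp, Polynomial.aeval_def]
      rfl
  have hmaxT : ∀ 𝔭 : Ideal (TensorProduct (IsLocalRing.ResidueField A) (IsLocalRing.ResidueField V)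
      (IsLocalRing.ResidueField B)), 𝔭.IsPrime → 𝔭.IsMaximal := by
    intro 𝔭 h𝔭
    haveI := h𝔭
    exact Groth.Agent.Lib.Helper18.Unram.isMaximal_of_isPrime_of_left_algebraic 𝔭
  have heu : IsUnit ((eB : ℕ) : TensorProduct (IsLocalRing.ResidueField A)
      (IsLocalRing.ResidueField V) (IsLocalRing.ResidueField B)) := by
    have h1 : IsUnit ((eB : ℕ) : IsLocalRing.ResidueField A) := isUnit_iff_ne_zero.mpr he0
    have := h1.map (algebraMap (IsLocalRing.ResidueField A)
      (TensorProduct (IsLocalRing.ResidueField A) (IsLocalRing.ResidueField V)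
        (IsLocalRing.ResidueField B)))
    rwa [map_natCast] at this
  have hf3 := Groth.Agent.Lib.Helper18.Unram.f3_of_residue_root (W := W) (φ₁ := gB) (φ₂ := φ₂)
    hW h₂ ϖ (IsLocalRing.ResidueField A) θ eB heBpos _ _ hu₁ hu₂ hθ hm₁ hmV hk hmaxT heu
  have hθv := Groth.Agent.Lib.Helper18.Unram.val_root_eq_one hW h₂ θ eB heBpos _ _ hu₁ hu₂ hθ
  have hθW : θ ∈ W := (W.valuation_le_one_iff θ).mp hθv.le
  have hDW := Groth.Agent.Lib.Helper18.Unram.genRingRoot_le hW h₂ θ hθW
  -- `M` is algebraic over `B`
  have halg : ∀ y : M, y ≠ 0 → ∃ p : Polynomial B, p ≠ 0 ∧ p.eval₂ gB y = 0 := by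
    letI algBM : Algebra B M := gB.toAlgebra
    haveI : IsScalarTower B L M := IsScalarTower.of_algebraMap_eq (fun _ => rfl)
    have hint : ∀ y : K₁, IsIntegral L (algebraMap K₁ M y) := by
      intro y
      have h1 : IsIntegral K y := Algebra.IsIntegral.isIntegral y
      have h2 : IsIntegral K (algebraMap K₁ M y) := h1.map (IsScalarTower.toAlgHom K K₁ M)
      exact h2.tower_top
    have hle : Algebra.adjoin L (Set.range (algebraMap K₁ M)) ≤ integralClosure L M :=
      Algebra.adjoin_le (by rintro _ ⟨y, rfl⟩; exact hint y)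
    rw [hadj] at hle
    intro y _
    have h1 : IsAlgebraic L y := (hle (Algebra.mem_top : y ∈ ⊤)).isAlgebraic
    have h2 : IsAlgebraic B y := (IsFractionRing.isAlgebraic_iff B L M).mpr h1
    obtain ⟨p, hp0, hp⟩ := h2
    exact ⟨p, hp0, by rw [← hp, Polynomial.aeval_def]; rfl⟩
  have hϖmem : ϖ ∈ IsLocalRing.maximalIdeal V := by rw [hmV]; exact Ideal.subset_span rfl
  have hϖlt : W.valuation (φ₂ ϖ) < 1 := h₂.2 ϖ hϖmem
  have hϖpos : 0 < W.valuation (φ₂ ϖ) := by
    rw [pos_iff_ne_zero]; exact (Valuation.ne_zero_iff _).mpr hφϖ0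
  have hvalW : W.valuation (φ₂ ϖ) ^ eV = W.valuation (gB ϖB) ^ eB := by
    have h1 := congrArg W.valuation e1
    have h2 := congrArg W.valuation e2
    rw [map_mul, map_pow, Groth.Agent.Lib.Helper18.Unram.val_of_isUnit' hW hu₁, one_mul] at h1
    rw [map_mul, map_pow, Groth.Agent.Lib.Helper18.Unram.val_of_isUnit' h₂ hu₂, mul_one] at h2
    rw [h1, h2]
  have hsepW : ∀ y ∈ D, y ≠ 0 → ∃ n : ℕ, ¬ (W.valuation y ≤ W.valuation (φ₂ ϖ) ^ n) := by
    intro y _ hy0
    obtain ⟨p, hp0, hp⟩ := halg y hy0
    obtain ⟨n, hn⟩ := Groth.Agent.Lib.Helper18.Unram.sep_of_algebraic hW hgBinj hϖB y hy0 p hp0 hp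
    refine ⟨eV * n, fun hle => hn (hle.trans ?_)⟩
    have hπBlt : W.valuation (gB ϖB) < 1 :=
      Groth.Agent.Lib.Helper18.Unram.val_uniformizer_lt hW hϖB
    have hπBpos : 0 < W.valuation (gB ϖB) := by
      rw [pos_iff_ne_zero]
      exact (Valuation.ne_zero_iff _).mpr
        (fun h0 => hϖB.ne_zero (hgBinj (h0.trans (map_zero gB).symm)))
    rw [pow_mul, hvalW, ← pow_mul]
    exact pow_le_pow_of_le_one hπBpos.le hπBlt.le (Nat.le_mul_of_pos_left n heBpos)
  -- generation
  have hgen : ∀ x : M, ∃ d₁ ∈ D, ∃ d₂ ∈ D, d₂ ≠ 0 ∧ x = d₁ / d₂ := by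
    intro x
    have hx : x ∈ Algebra.adjoin L (Set.range (algebraMap K₁ M)) := by rw [hadj]; trivial
    induction hx using Algebra.adjoin_induction with
    | mem x hx =>
      obtain ⟨k₁, rfl⟩ := hx
      obtain ⟨v₁, v₂, hv₂, rfl⟩ := IsFractionRing.div_surjective (A := V) k₁
      have hv₂0 : φ₂ v₂ ≠ 0 := by
        have : (v₂ : K₁) ≠ 0 := fun h0 => (nonZeroDivisors.ne_zero hv₂) (Subtype.ext h0)
        exact (map_ne_zero f).mpr this
      refine ⟨φ₂ v₁, Groth.Agent.Lib.Helper18.Unram.mem_genRingRoot_right _ _ θ v₁, φ₂ v₂,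
        Groth.Agent.Lib.Helper18.Unram.mem_genRingRoot_right _ _ θ v₂, hv₂0, ?_⟩
      rw [map_div₀]; rfl
    | algebraMap l =>
      obtain ⟨b₁, b₂, hb₂, rfl⟩ := IsFractionRing.div_surjective (A := B) l
      have hb₂0 : gB b₂ ≠ 0 := fun h0 =>
        (nonZeroDivisors.ne_zero hb₂) (hgBinj (h0.trans (map_zero gB).symm))
      refine ⟨gB b₁, Groth.Agent.Lib.Helper18.Unram.mem_genRingRoot_left _ _ θ b₁, gB b₂,
        Groth.Agent.Lib.Helper18.Unram.mem_genRingRoot_left _ _ θ b₂, hb₂0, ?_⟩
      rw [map_div₀]; rfl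
    | add x y _ _ hx hy =>
      obtain ⟨d₁, hd₁, d₂, hd₂, hd₂0, rfl⟩ := hx
      obtain ⟨e₁, he₁, e₂, he₂, he₂0, rfl⟩ := hy
      exact ⟨d₁ * e₂ + d₂ * e₁, D.add_mem (D.mul_mem hd₁ he₂) (D.mul_mem hd₂ he₁), d₂ * e₂,
        D.mul_mem hd₂ he₂, mul_ne_zero hd₂0 he₂0, div_add_div _ _ hd₂0 he₂0⟩
    | mul x y _ _ hx hy =>
      obtain ⟨d₁, hd₁, d₂, hd₂, hd₂0, rfl⟩ := hx
      obtain ⟨e₁, he₁, e₂, he₂, he₂0, rfl⟩ := hy
      exact ⟨d₁ * e₁, D.mul_mem hd₁ he₁, d₂ * e₂, D.mul_mem hd₂ he₂, mul_ne_zero hd₂0 he₂0,
        div_mul_div_comm _ _ _ _⟩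
  have hU : Groth.Agent.Lib.Helper18.Unram.UData W D (φ₂ ϖ) :=
    { hDW := hDW
      hϖD := Groth.Agent.Lib.Helper18.Unram.mem_genRingRoot_right _ _ θ ϖ
      hϖ := hϖlt
      hϖ0 := hφϖ0
      sep := hsepW
      f3 := hf3
      gen := hgen }
  refine ⟨?_, ?_⟩
  · -- weakly unramified
    show Ideal.map (EtRam.inclOfComap W f) (IsLocalRing.maximalIdeal V) =
      IsLocalRing.maximalIdeal W
    apply le_antisymm
    · rw [Ideal.map_le_iff_le_comap]
      intro v hv
      rw [Ideal.mem_comap, W.valuation_lt_one_iff]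
      exact h₂.2 v hv
    · intro x hx
      rw [W.valuation_lt_one_iff] at hx
      obtain ⟨w, hw, e⟩ := hU.exists_eq_mul (x : M) hx
      have : x = EtRam.inclOfComap W f ϖ * ⟨w, hw⟩ := Subtype.ext (by rw [e]; rfl)
      rw [this]
      exact Ideal.mul_mem_right _ _ (Ideal.mem_map_of_mem _ hϖmem)
  · -- geometrically reduced residue field extension
    letI aVW : Algebra (IsLocalRing.ResidueField V) (IsLocalRing.ResidueField W) :=
      (IsLocalRing.ResidueField.map (EtRam.inclOfComap W f)).toAlgebra
    letI aAW : Algebra (IsLocalRing.ResidueField A) (IsLocalRing.ResidueField W) :=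
      ((algebraMap (IsLocalRing.ResidueField V) (IsLocalRing.ResidueField W)).comp
        (algebraMap (IsLocalRing.ResidueField A) (IsLocalRing.ResidueField V))).toAlgebra
    haveI : IsScalarTower (IsLocalRing.ResidueField A) (IsLocalRing.ResidueField V)
        (IsLocalRing.ResidueField W) := IsScalarTower.of_algebraMap_eq (fun _ => rfl)
    have hrV : ∀ v : V, algebraMap (IsLocalRing.ResidueField V) (IsLocalRing.ResidueField W)
        (IsLocalRing.residue V v) = IsLocalRing.residue W (EtRam.inclOfComap W f v) := fun v =>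
      IsLocalRing.ResidueField.map_residue _ _
    let rB : IsLocalRing.ResidueField B →+* IsLocalRing.ResidueField W :=
      IsLocalRing.ResidueField.map (algebraMap B W)
    have hrB : ∀ b : B, rB (IsLocalRing.residue B b) =
        IsLocalRing.residue W (algebraMap B W b) := fun b =>
      IsLocalRing.ResidueField.map_residue _ _
    let g : IsLocalRing.ResidueField B →ₐ[IsLocalRing.ResidueField A] IsLocalRing.ResidueField W :=
      { rB with
        commutes' := fun c => by
          obtain ⟨a, rfl⟩ := IsLocalRing.residue_surjective c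
          show rB (algebraMap (IsLocalRing.ResidueField A) (IsLocalRing.ResidueField B)
              (IsLocalRing.residue A a)) =
            algebraMap (IsLocalRing.ResidueField V) (IsLocalRing.ResidueField W)
              (algebraMap (IsLocalRing.ResidueField A) (IsLocalRing.ResidueField V)
                (IsLocalRing.residue A a))
          rw [IsLocalRing.ResidueField.algebraMap_residue,
            IsLocalRing.ResidueField.algebraMap_residue, hrV, hrB]
          congr 1
          exact Subtype.ext (hcompatA a).symm }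
    have hgB : ∀ y, g y = algebraMap (IsLocalRing.ResidueField B) (IsLocalRing.ResidueField W) y :=
      fun y => rfl
    haveI : IsScalarTower (IsLocalRing.ResidueField A) (IsLocalRing.ResidueField B)
        (IsLocalRing.ResidueField W) :=
      IsScalarTower.of_algebraMap_eq (fun c => (g.commutes c).symm)
    set θbar : IsLocalRing.ResidueField W := IsLocalRing.residue W ⟨θ, hθW⟩ with hθbar
    have hθbar_pow : θbar ^ eB =
        algebraMap (IsLocalRing.ResidueField V) (IsLocalRing.ResidueField W)
          (IsLocalRing.residue V uV) * g (IsLocalRing.residue B ((uB⁻¹ : Bˣ) : B)) := by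
      rw [hθbar, ← map_pow, hrV]
      show _ = _ * rB _
      rw [hrB, ← map_mul]
      congr 1
      exact Subtype.ext hθ
    have ha0 : IsLocalRing.residue V (uV : V) ≠ 0 := by
      rw [Ne, IsLocalRing.residue_eq_zero_iff]
      exact fun h => (IsLocalRing.mem_maximalIdeal _).mp h hu₂
    have hb0 : IsLocalRing.residue B ((uB⁻¹ : Bˣ) : B) ≠ 0 := by
      rw [Ne, IsLocalRing.residue_eq_zero_iff]
      exact fun h => (IsLocalRing.mem_maximalIdeal _).mp h hu₁
    apply Groth.Agent.Lib.Helper18.Unram.geomReduced_of_surjective_root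
      (k := IsLocalRing.ResidueField A) (k₁ := IsLocalRing.ResidueField V)
      (E := IsLocalRing.ResidueField B) (Q := IsLocalRing.ResidueField W) g θbar eB heBpos he0
      _ _ ha0 hb0 hθbar_pow
    -- generation of the residue field
    set Rbar : Subring (IsLocalRing.ResidueField W) :=
      Subring.closure (Set.range (algebraMap (IsLocalRing.ResidueField V)
        (IsLocalRing.ResidueField W)) ∪ Set.range g ∪ {θbar}) with hRbar
    have hDR : ∀ (d : M) (hd : d ∈ D), IsLocalRing.residue W ⟨d, hU.hDW d hd⟩ ∈ Rbar := by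
      intro d hd
      induction hd using Subring.closure_induction with
      | mem d hd =>
        rcases hd with (⟨b, rfl⟩ | ⟨v, rfl⟩) | rfl
        · refine Subring.subset_closure (Or.inl (Or.inr ⟨IsLocalRing.residue B b, ?_⟩))
          show rB _ = _
          rw [hrB]; rfl
        · refine Subring.subset_closure (Or.inl (Or.inl ⟨IsLocalRing.residue V v, ?_⟩))
          rw [hrV]; rfl
        · exact Subring.subset_closure (Or.inr rfl)
      | zero =>
        have : (⟨0, hU.hDW 0 D.zero_mem⟩ : W) = 0 := rfl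
        rw [this, map_zero]; exact Rbar.zero_mem
      | one =>
        have : (⟨1, hU.hDW 1 D.one_mem⟩ : W) = 1 := rfl
        rw [this, map_one]; exact Rbar.one_mem
      | add x y hx hy ihx ihy =>
        have : (⟨x + y, hU.hDW _ (D.add_mem hx hy)⟩ : W) =
            ⟨x, hU.hDW x hx⟩ + ⟨y, hU.hDW y hy⟩ := rfl
        rw [this, map_add]; exact Rbar.add_mem ihx ihy
      | neg x hx ihx =>
        have : (⟨-x, hU.hDW _ (D.neg_mem hx)⟩ : W) = -⟨x, hU.hDW x hx⟩ := rfl
        rw [this, map_neg]; exact Rbar.neg_mem ihx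
      | mul x y hx hy ihx ihy =>
        have : (⟨x * y, hU.hDW _ (D.mul_mem hx hy)⟩ : W) =
            ⟨x, hU.hDW x hx⟩ * ⟨y, hU.hDW y hy⟩ := rfl
        rw [this, map_mul]; exact Rbar.mul_mem ihx ihy
    -- `Rbar` is integral over the residue field of `B`, hence closed under inverses
    have hRint : ∀ x ∈ Rbar, IsIntegral (IsLocalRing.ResidueField B) x := by
      have hle : Rbar ≤ (integralClosure (IsLocalRing.ResidueField B)
          (IsLocalRing.ResidueField W)).toSubring := by
        apply Subring.closure_le.mpr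
        rintro _ ((⟨v, rfl⟩ | ⟨y, rfl⟩) | rfl)
        · have h1 : IsIntegral (IsLocalRing.ResidueField A) v := Algebra.IsIntegral.isIntegral v
          have h2 : IsIntegral (IsLocalRing.ResidueField A)
              (algebraMap (IsLocalRing.ResidueField V) (IsLocalRing.ResidueField W) v) :=
            h1.map (IsScalarTower.toAlgHom (IsLocalRing.ResidueField A) (IsLocalRing.ResidueField V)
              (IsLocalRing.ResidueField W))
          exact h2.tower_top
        · rw [hgB]; exact isIntegral_algebraMap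
        · show IsIntegral (IsLocalRing.ResidueField B) θbar
          apply IsIntegral.of_pow heBpos
          rw [hθbar_pow]
          refine IsIntegral.mul ?_ ?_
          · have h1 : IsIntegral (IsLocalRing.ResidueField A) (IsLocalRing.residue V (uV : V)) :=
              Algebra.IsIntegral.isIntegral _
            have h2 : IsIntegral (IsLocalRing.ResidueField A)
                (algebraMap (IsLocalRing.ResidueField V) (IsLocalRing.ResidueField W)
                  (IsLocalRing.residue V (uV : V))) :=
              h1.map (IsScalarTower.toAlgHom (IsLocalRing.ResidueField A)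
                (IsLocalRing.ResidueField V) (IsLocalRing.ResidueField W))
            exact h2.tower_top
          · rw [hgB]; exact isIntegral_algebraMap
      exact fun x hx => hle hx
    have hRinv : ∀ x ∈ Rbar, x⁻¹ ∈ Rbar := by
      intro x hx
      let S : Subalgebra (IsLocalRing.ResidueField B) (IsLocalRing.ResidueField W) :=
        { Rbar.toSubsemiring with
          algebraMap_mem' := fun r =>
            Subring.subset_closure (Or.inl (Or.inr ⟨r, rfl⟩)) }
      have hxS : x ∈ S := hx
      exact S.inv_mem_of_algebraic (x := ⟨x, hxS⟩) (hRint x hx).isAlgebraic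
    intro xbar
    obtain ⟨x, rfl⟩ := IsLocalRing.residue_surjective xbar
    show IsLocalRing.residue W x ∈ Rbar
    by_cases hxm : x ∈ IsLocalRing.maximalIdeal W
    · rw [(IsLocalRing.residue_eq_zero_iff x).mpr hxm]; exact Rbar.zero_mem
    · have hxv : W.valuation (x : M) = 1 := by
        rw [W.valuation_lt_one_iff] at hxm
        exact le_antisymm ((W.valuation_le_one_iff _).mpr x.2) (not_lt.mp hxm)
      obtain ⟨t, ht, s, hs, htv, hsv, e⟩ := hU.exists_eq_div (x : M) hxv
      have hs0 : s ≠ 0 := by
        intro h0; rw [h0, map_zero] at hsv; exact zero_ne_one hsv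
      have hsbar : IsLocalRing.residue W ⟨s, hU.hDW s hs⟩ ≠ 0 := by
        rw [Ne, IsLocalRing.residue_eq_zero_iff, W.valuation_lt_one_iff, hsv]
        exact lt_irrefl _
      have hmul : IsLocalRing.residue W x * IsLocalRing.residue W ⟨s, hU.hDW s hs⟩ =
          IsLocalRing.residue W ⟨t, hU.hDW t ht⟩ := by
        rw [← map_mul]
        congr 1
        apply Subtype.ext
        show (x : M) * s = t
        rw [e, div_mul_cancel₀ _ hs0]
      have : IsLocalRing.residue W x = IsLocalRing.residue W ⟨t, hU.hDW t ht⟩ *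
          (IsLocalRing.residue W ⟨s, hU.hDW s hs⟩)⁻¹ := by
        rw [← hmul, mul_assoc, mul_inv_cancel₀ hsbar, mul_one]
      rw [this]
      exact Rbar.mul_mem (hDR t ht) (hRinv _ (hDR s hs))

end Groth.Agent.S1982
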