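import Groth.Statements.S1983
import Groth.Agent.Lib.Helper18.Unram.Assemble
import Groth.Agent.Lib.Helper18.Unram.VNR
import Groth.Agent.Lib.Helper18.Unram.DVRFin
import Groth.Agent.Lib.Helper18.Eis.Tower
import Groth.Agent.Lib.Helper24.Tame.Tower

set_option autoImplicit false
universe u
open EtAlg

namespace Groth.Agent.S1983

/-- Suppose A -> B makes the discrete valuation ring B an extension of the discrete valuation ring A,
with fraction fields K ⊂ L, and that this extension is weakly unramified with separable, i.e.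
geometrically reduced and possibly transcendental, residue field extension (formally smooth for the
adic topology). Then every finite extension K₁/K is a solution for A -> B. -/
theorem result (A B K L : Type u) [CommRing A] [IsDomain A] [IsDiscreteValuationRing A]
    [CommRing B] [IsDomain B] [IsDiscreteValuationRing B] [Algebra A B] [IsLocalHom (algebraMap A B)]
    (hinj : Function.Injective (algebraMap A B))
    [Field K] [Field L] [Algebra A K] [IsFractionRing A K] [Algebra B L] [IsFractionRing B L]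
    [Algebra K L] [Algebra A L] [IsScalarTower A K L] [IsScalarTower A B L]
    (hw : EtRam.IsWeaklyUnramified A B) [Algebra.IsGeometricallyReduced (IsLocalRing.ResidueField A) (IsLocalRing.ResidueField B)]
    (K₁ : Type u) [Field K₁] [Algebra K K₁] [FiniteDimensional K K₁] : EtRam.IsSolution B K L K₁ := by
  intro M _ _ _ _ _ _ hadj W hW
  set f : K₁ →+* M := algebraMap K₁ M with hf
  set gB : B →+* M := (algebraMap L M).comp (algebraMap B L) with hgB
  let gA : A →+* K₁ := (algebraMap K K₁).comp (algebraMap A K)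
  have hcompatA : ∀ a : A, f (gA a) = gB (algebraMap A B a) := by
    intro a
    show algebraMap K₁ M (algebraMap K K₁ (algebraMap A K a)) =
      algebraMap L M (algebraMap B L (algebraMap A B a))
    rw [← IsScalarTower.algebraMap_apply K K₁ M, IsScalarTower.algebraMap_apply K L M,
      ← IsScalarTower.algebraMap_apply A K L, ← IsScalarTower.algebraMap_apply A B L]
  have hgBinj : Function.Injective gB :=
    (algebraMap L M).injective.comp (IsFractionRing.injective B L)
  have hlocAB : ∀ a ∈ IsLocalRing.maximalIdeal A, algebraMap A B a ∈ IsLocalRing.maximalIdeal B := by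
    intro a ha
    have : ¬ IsUnit a := (IsLocalRing.mem_maximalIdeal _).mp ha
    exact (IsLocalRing.mem_maximalIdeal _).mpr
      (fun hu => this (isUnit_of_map_unit (algebraMap A B) a hu))
  -- the valuation ring of `K₁`
  let V : ValuationSubring K₁ := W.comap f
  have hV : EtRam.Dominates A gA V := by
    refine ⟨fun a => ?_, fun a ha => ?_⟩
    · show f (gA a) ∈ W
      rw [hcompatA]; exact hW.1 _
    · rw [Groth.Agent.Lib.Helper18.Unram.valuation_comap_lt_one_iff, hcompatA]
      exact hW.2 _ (hlocAB a ha)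
  letI algAV : Algebra A V := (RingHom.codRestrict gA V hV.1).toAlgebra
  haveI hlocAV : IsLocalHom (algebraMap A V) :=
    Groth.Agent.Lib.Helper24.TameTower.isLocalHom_of_dominates hV
  letI algBW : Algebra B W := (RingHom.codRestrict gB W hW.1).toAlgebra
  haveI hlocBW : IsLocalHom (algebraMap B W) :=
    Groth.Agent.Lib.Helper24.TameTower.isLocalHom_of_dominates hW
  obtain ⟨π, hπ⟩ := IsDiscreteValuationRing.exists_irreducible A
  have hmB : IsLocalRing.maximalIdeal B = Ideal.span {algebraMap A B π} := by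
    have hw' : Ideal.map (algebraMap A B) (IsLocalRing.maximalIdeal A) =
      IsLocalRing.maximalIdeal B := hw
    rw [← hw', hπ.maximalIdeal_eq, Ideal.map_span, Set.image_singleton]
  have hπB : Irreducible (algebraMap A B π) :=
    (IsDiscreteValuationRing.irreducible_iff_uniformizer _).mpr hmB
  obtain ⟨ϖ, hmV, hϖ0, N, c, hN, hc, hval⟩ :=
    Groth.Agent.Lib.Helper18.Unram.exists_generator V hV hπ
  let φ₂ : V →+* M := f.comp V.subtype
  have h₂ : EtRam.Dominates V φ₂ W := by
    refine ⟨fun v => v.2, fun v hv => ?_⟩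
    rw [V.valuation_lt_one_iff, Groth.Agent.Lib.Helper18.Unram.valuation_comap_lt_one_iff] at hv
    exact hv
  have hφ₂A : ∀ a : A, φ₂ (algebraMap A V a) = gB (algebraMap A B a) := fun a => hcompatA a
  set D := Groth.Agent.Lib.Helper18.Unram.genRing gB φ₂ with hD
  have hm₁ : ∀ b ∈ IsLocalRing.maximalIdeal B, ∃ d ∈ D, gB b = φ₂ ϖ * d := by
    intro b hb
    rw [hmB] at hb
    obtain ⟨s, rfl⟩ := Ideal.mem_span_singleton'.mp hb
    have hπV : algebraMap A V π ∈ IsLocalRing.maximalIdeal V := by
      rw [V.valuation_lt_one_iff]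
      exact hV.2 π ((IsLocalRing.mem_maximalIdeal _).mpr hπ.not_isUnit)
    rw [hmV] at hπV
    obtain ⟨v', hv'⟩ := Ideal.mem_span_singleton'.mp hπV
    refine ⟨gB s * φ₂ v', D.mul_mem (Groth.Agent.Lib.Helper18.Unram.mem_genRing_left _ _ s)
      (Groth.Agent.Lib.Helper18.Unram.mem_genRing_right _ _ v'), ?_⟩
    rw [map_mul, ← hφ₂A, ← hv', map_mul]; ring
  have hk : ∀ c : IsLocalRing.ResidueField A, ∃ (v₁ : B) (v₂ : V),
      algebraMap (IsLocalRing.ResidueField A) (IsLocalRing.ResidueField B) c =
        IsLocalRing.residue B v₁ ∧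
      algebraMap (IsLocalRing.ResidueField A) (IsLocalRing.ResidueField V) c =
        IsLocalRing.residue V v₂ ∧ gB v₁ = φ₂ v₂ := by
    intro c
    obtain ⟨a, rfl⟩ := IsLocalRing.residue_surjective c
    exact ⟨algebraMap A B a, algebraMap A V a, IsLocalRing.ResidueField.algebraMap_residue _,
      IsLocalRing.ResidueField.algebraMap_residue _, (hφ₂A a).symm⟩
  -- the residue field of `V` is algebraic over that of `A`
  haveI halgres : Algebra.IsAlgebraic (IsLocalRing.ResidueField A) (IsLocalRing.ResidueField V) := by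
    apply Groth.Agent.Lib.Helper18.Unram.isAlgebraic_residueField
    · intro a b hab
      have h1 : gA a = gA b := congrArg Subtype.val hab
      exact ((algebraMap K K₁).injective.comp (IsFractionRing.injective A K)) h1
    · intro x
      letI : Algebra A K₁ := gA.toAlgebra
      haveI : IsScalarTower A K K₁ := IsScalarTower.of_algebraMap_eq (fun _ => rfl)
      have h1 : IsAlgebraic K (x : K₁) := (Algebra.IsIntegral.isIntegral (x : K₁)).isAlgebraic
      have h2 : IsAlgebraic A (x : K₁) := (IsFractionRing.isAlgebraic_iff A K K₁).mpr h1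
      obtain ⟨p, hp0, hp⟩ := h2
      refine ⟨p, hp0, ?_⟩
      apply Subtype.val_injective
      have := Polynomial.hom_eval₂ p (algebraMap A V) V.subtype x
      rw [ZeroMemClass.coe_zero]
      refine Eq.trans this ?_
      rw [← hp, Polynomial.aeval_def]
      rfl
  have hPT := Groth.Agent.Lib.Helper18.Unram.hP_of_left_algebraic
    (k := IsLocalRing.ResidueField A) (K := IsLocalRing.ResidueField V)
    (E := IsLocalRing.ResidueField B)
  have hf3 := Groth.Agent.Lib.Helper18.Unram.f3_of_residue (W := W) (φ₁ := gB) (φ₂ := φ₂) hW h₂ ϖ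
    (IsLocalRing.ResidueField A) hm₁ hmV hk hPT
  -- `M` is algebraic over `B`
  have halg : ∀ y : M, y ≠ 0 → ∃ p : Polynomial B, p ≠ 0 ∧ p.eval₂ gB y = 0 := by
    letI algBM : Algebra B M := gB.toAlgebra
    haveI : IsScalarTower B L M := IsScalarTower.of_algebraMap_eq (fun _ => rfl)
    have hint : ∀ y : K₁, IsIntegral L (algebraMap K₁ M y) := by
      intro y
      have h1 : IsIntegral K y := Algebra.IsIntegral.isIntegral y
      have h2 : IsIntegral K (algebraMap K₁ M y) := h1.map (IsScalarTower.toAlgHom K K₁ M)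
      exact h2.tower_top
    have hle : Algebra.adjoin L (Set.range (algebraMap K₁ M)) ≤ integralClosure L M :=
      Algebra.adjoin_le (by rintro _ ⟨y, rfl⟩; exact hint y)
    rw [hadj] at hle
    intro y _
    have h1 : IsAlgebraic L y := (hle (Algebra.mem_top : y ∈ ⊤)).isAlgebraic
    have h2 : IsAlgebraic B y := (IsFractionRing.isAlgebraic_iff B L M).mpr h1
    obtain ⟨p, hp0, hp⟩ := h2
    exact ⟨p, hp0, by rw [← hp, Polynomial.aeval_def]; rfl⟩
  have hϖmem : ϖ ∈ IsLocalRing.maximalIdeal V := by rw [hmV]; exact Ideal.subset_span rfl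
  have hϖlt : W.valuation (φ₂ ϖ) < 1 := h₂.2 ϖ hϖmem
  have hφϖ0 : φ₂ ϖ ≠ 0 := (map_ne_zero f).mpr hϖ0
  have hϖpos : 0 < W.valuation (φ₂ ϖ) := by
    rw [pos_iff_ne_zero]; exact (Valuation.ne_zero_iff _).mpr hφϖ0
  have hvalW : W.valuation (φ₂ ϖ) ^ N = W.valuation (gB (algebraMap A B π)) ^ c := by
    have h1 : V.valuation ((ϖ : K₁) ^ N) = V.valuation ((gA π) ^ c) := by
      rw [map_pow, map_pow]; exact hval
    have h2 := (Groth.Agent.Lib.Helper18.Unram.val_comap_eq_iff W f _ _).mp h1
    rw [map_pow, map_pow, map_pow, map_pow, hcompatA] at h2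
    exact h2
  have hsepW : ∀ y ∈ D, y ≠ 0 → ∃ n : ℕ, ¬ (W.valuation y ≤ W.valuation (φ₂ ϖ) ^ n) := by
    intro y _ hy0
    obtain ⟨p, hp0, hp⟩ := halg y hy0
    obtain ⟨n, hn⟩ := Groth.Agent.Lib.Helper18.Unram.sep_of_algebraic hW hgBinj hπB y hy0 p hp0 hp
    refine ⟨N * n, fun hle => hn (hle.trans ?_)⟩
    have hπBlt : W.valuation (gB (algebraMap A B π)) < 1 :=
      Groth.Agent.Lib.Helper18.Unram.val_uniformizer_lt hW hπB
    have hπBpos : 0 < W.valuation (gB (algebraMap A B π)) := by
      rw [pos_iff_ne_zero]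
      exact (Valuation.ne_zero_iff _).mpr
        (fun h0 => hπB.ne_zero (hgBinj (h0.trans (map_zero gB).symm)))
    rw [pow_mul, hvalW, ← pow_mul]
    exact pow_le_pow_of_le_one hπBpos.le hπBlt.le (Nat.le_mul_of_pos_left n hc)
  -- generation
  have hgen : ∀ x : M, ∃ d₁ ∈ D, ∃ d₂ ∈ D, d₂ ≠ 0 ∧ x = d₁ / d₂ := by
    intro x
    have hx : x ∈ Algebra.adjoin L (Set.range (algebraMap K₁ M)) := by rw [hadj]; trivial
    induction hx using Algebra.adjoin_induction with
    | mem x hx =>
      obtain ⟨k₁, rfl⟩ := hx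
      obtain ⟨v₁, v₂, hv₂, rfl⟩ := IsFractionRing.div_surjective (A := V) k₁
      have hv₂0 : φ₂ v₂ ≠ 0 := by
        have : (v₂ : K₁) ≠ 0 := fun h0 => (nonZeroDivisors.ne_zero hv₂) (Subtype.ext h0)
        exact (map_ne_zero f).mpr this
      refine ⟨φ₂ v₁, Groth.Agent.Lib.Helper18.Unram.mem_genRing_right _ _ v₁, φ₂ v₂,
        Groth.Agent.Lib.Helper18.Unram.mem_genRing_right _ _ v₂, hv₂0, ?_⟩
      rw [map_div₀]; rfl
    | algebraMap l =>
      obtain ⟨b₁, b₂, hb₂, rfl⟩ := IsFractionRing.div_surjective (A := B) l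
      have hb₂0 : gB b₂ ≠ 0 := fun h0 =>
        (nonZeroDivisors.ne_zero hb₂) (hgBinj (h0.trans (map_zero gB).symm))
      refine ⟨gB b₁, Groth.Agent.Lib.Helper18.Unram.mem_genRing_left _ _ b₁, gB b₂,
        Groth.Agent.Lib.Helper18.Unram.mem_genRing_left _ _ b₂, hb₂0, ?_⟩
      rw [map_div₀]; rfl
    | add x y _ _ hx hy =>
      obtain ⟨d₁, hd₁, d₂, hd₂, hd₂0, rfl⟩ := hx
      obtain ⟨e₁, he₁, e₂, he₂, he₂0, rfl⟩ := hy
      exact ⟨d₁ * e₂ + d₂ * e₁, D.add_mem (D.mul_mem hd₁ he₂) (D.mul_mem hd₂ he₁), d₂ * e₂,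
        D.mul_mem hd₂ he₂, mul_ne_zero hd₂0 he₂0, div_add_div _ _ hd₂0 he₂0⟩
    | mul x y _ _ hx hy =>
      obtain ⟨d₁, hd₁, d₂, hd₂, hd₂0, rfl⟩ := hx
      obtain ⟨e₁, he₁, e₂, he₂, he₂0, rfl⟩ := hy
      exact ⟨d₁ * e₁, D.mul_mem hd₁ he₁, d₂ * e₂, D.mul_mem hd₂ he₂, mul_ne_zero hd₂0 he₂0,
        div_mul_div_comm _ _ _ _⟩
  have hU : Groth.Agent.Lib.Helper18.Unram.UData W D (φ₂ ϖ) :=
    { hDW := Groth.Agent.Lib.Helper18.Unram.genRing_le hW h₂
      hϖD := Groth.Agent.Lib.Helper18.Unram.mem_genRing_right _ _ ϖ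
      hϖ := hϖlt
      hϖ0 := hφϖ0
      sep := hsepW
      f3 := hf3
      gen := hgen }
  refine ⟨?_, ?_⟩
  · -- weakly unramified
    show Ideal.map (EtRam.inclOfComap W f) (IsLocalRing.maximalIdeal V) =
      IsLocalRing.maximalIdeal W
    apply le_antisymm
    · rw [Ideal.map_le_iff_le_comap]
      intro v hv
      rw [Ideal.mem_comap, W.valuation_lt_one_iff]
      exact h₂.2 v hv
    · intro x hx
      rw [W.valuation_lt_one_iff] at hx
      obtain ⟨w, hw, e⟩ := hU.exists_eq_mul (x : M) hx
      have : x = EtRam.inclOfComap W f ϖ * ⟨w, hw⟩ := Subtype.ext (by rw [e]; rfl)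
      rw [this]
      exact Ideal.mul_mem_right _ _ (Ideal.mem_map_of_mem _ hϖmem)
  · -- geometrically reduced residue field extension
    letI aVW : Algebra (IsLocalRing.ResidueField V) (IsLocalRing.ResidueField W) :=
      (IsLocalRing.ResidueField.map (EtRam.inclOfComap W f)).toAlgebra
    letI aAW : Algebra (IsLocalRing.ResidueField A) (IsLocalRing.ResidueField W) :=
      ((algebraMap (IsLocalRing.ResidueField V) (IsLocalRing.ResidueField W)).comp
        (algebraMap (IsLocalRing.ResidueField A) (IsLocalRing.ResidueField V))).toAlgebra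
    haveI : IsScalarTower (IsLocalRing.ResidueField A) (IsLocalRing.ResidueField V)
        (IsLocalRing.ResidueField W) := IsScalarTower.of_algebraMap_eq (fun _ => rfl)
    have hrV : ∀ v : V, algebraMap (IsLocalRing.ResidueField V) (IsLocalRing.ResidueField W)
        (IsLocalRing.residue V v) = IsLocalRing.residue W (EtRam.inclOfComap W f v) := fun v =>
      IsLocalRing.ResidueField.map_residue _ _
    let rB : IsLocalRing.ResidueField B →+* IsLocalRing.ResidueField W :=
      IsLocalRing.ResidueField.map (algebraMap B W)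
    have hrB : ∀ b : B, rB (IsLocalRing.residue B b) =
        IsLocalRing.residue W (algebraMap B W b) := fun b =>
      IsLocalRing.ResidueField.map_residue _ _
    let g : IsLocalRing.ResidueField B →ₐ[IsLocalRing.ResidueField A] IsLocalRing.ResidueField W :=
      { rB with
        commutes' := fun c => by
          obtain ⟨a, rfl⟩ := IsLocalRing.residue_surjective c
          show rB (algebraMap (IsLocalRing.ResidueField A) (IsLocalRing.ResidueField B)
              (IsLocalRing.residue A a)) =
            algebraMap (IsLocalRing.ResidueField V) (IsLocalRing.ResidueField W)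
              (algebraMap (IsLocalRing.ResidueField A) (IsLocalRing.ResidueField V)
                (IsLocalRing.residue A a))
          rw [IsLocalRing.ResidueField.algebraMap_residue,
            IsLocalRing.ResidueField.algebraMap_residue, hrV, hrB]
          congr 1
          exact Subtype.ext (hcompatA a).symm }
    apply Groth.Agent.Lib.Helper18.Unram.geomReduced_of_surjective
      (k := IsLocalRing.ResidueField A) (k₁ := IsLocalRing.ResidueField V)
      (E := IsLocalRing.ResidueField B) (C := IsLocalRing.ResidueField W) g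
    set Ψ : TensorProduct (IsLocalRing.ResidueField A) (IsLocalRing.ResidueField V)
        (IsLocalRing.ResidueField B) →ₐ[IsLocalRing.ResidueField V] IsLocalRing.ResidueField W :=
      Algebra.TensorProduct.productLeftAlgHom
        (Algebra.ofId (IsLocalRing.ResidueField V) (IsLocalRing.ResidueField W)) g with hΨ
    have hΨtmul : ∀ (x : IsLocalRing.ResidueField V) (y : IsLocalRing.ResidueField B),
        Ψ (x ⊗ₜ[IsLocalRing.ResidueField A] y) =
          algebraMap (IsLocalRing.ResidueField V) (IsLocalRing.ResidueField W) x * rB y :=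
      fun x y => by
        rw [hΨ, Algebra.TensorProduct.lift_tmul]
        rfl
    have hDR : ∀ (d : M) (hd : d ∈ D), IsLocalRing.residue W ⟨d, hU.hDW d hd⟩ ∈ Ψ.range := by
      intro d hd
      induction hd using Subring.closure_induction with
      | mem d hd =>
        rcases hd with ⟨b, rfl⟩ | ⟨v, rfl⟩
        · refine ⟨(1 : IsLocalRing.ResidueField V) ⊗ₜ[IsLocalRing.ResidueField A]
            (IsLocalRing.residue B b), ?_⟩
          show Ψ _ = _
          rw [hΨtmul, map_one, one_mul, hrB]
          rfl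
        · refine ⟨(IsLocalRing.residue V v) ⊗ₜ[IsLocalRing.ResidueField A]
            (1 : IsLocalRing.ResidueField B), ?_⟩
          show Ψ _ = _
          rw [hΨtmul, map_one, mul_one, hrV]
          rfl
      | zero =>
        have : (⟨0, hU.hDW 0 D.zero_mem⟩ : W) = 0 := rfl
        rw [this, map_zero]; exact Ψ.range.zero_mem
      | one =>
        have : (⟨1, hU.hDW 1 D.one_mem⟩ : W) = 1 := rfl
        rw [this, map_one]; exact Ψ.range.one_mem
      | add x y hx hy ihx ihy =>
        have : (⟨x + y, hU.hDW _ (D.add_mem hx hy)⟩ : W) =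
            ⟨x, hU.hDW x hx⟩ + ⟨y, hU.hDW y hy⟩ := rfl
        rw [this, map_add]; exact Ψ.range.add_mem ihx ihy
      | neg x hx ihx =>
        have : (⟨-x, hU.hDW _ (D.neg_mem hx)⟩ : W) = -⟨x, hU.hDW x hx⟩ := rfl
        rw [this, map_neg]; exact Ψ.range.neg_mem ihx
      | mul x y hx hy ihx ihy =>
        have : (⟨x * y, hU.hDW _ (D.mul_mem hx hy)⟩ : W) =
            ⟨x, hU.hDW x hx⟩ * ⟨y, hU.hDW y hy⟩ := rfl
        rw [this, map_mul]; exact Ψ.range.mul_mem ihx ihy
    haveI hkerp : (RingHom.ker Ψ.toRingHom).IsPrime := RingHom.ker_isPrime _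
    have hker : (RingHom.ker Ψ.toRingHom).IsMaximal :=
      Groth.Agent.Lib.Helper18.Unram.isMaximal_of_isPrime_of_left_algebraic _
    have hinv : ∀ z ∈ Ψ.range, z ≠ 0 → z⁻¹ ∈ Ψ.range := by
      rintro _ ⟨σ, rfl⟩ hz
      have hσ : σ ∉ RingHom.ker Ψ.toRingHom := hz
      obtain ⟨τ, i, hi, e⟩ := hker.exists_inv hσ
      refine ⟨τ, ?_⟩
      have hi0 : Ψ i = 0 := hi
      have h1 : Ψ τ * Ψ σ = 1 := by
        rw [← map_mul, ← map_one Ψ, ← e, map_add, hi0, add_zero]
      exact eq_inv_of_mul_eq_one_left h1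
    intro xbar
    obtain ⟨x, rfl⟩ := IsLocalRing.residue_surjective xbar
    show IsLocalRing.residue W x ∈ Ψ.range
    by_cases hxm : x ∈ IsLocalRing.maximalIdeal W
    · rw [(IsLocalRing.residue_eq_zero_iff x).mpr hxm]; exact Ψ.range.zero_mem
    · have hxv : W.valuation (x : M) = 1 := by
        rw [W.valuation_lt_one_iff] at hxm
        exact le_antisymm ((W.valuation_le_one_iff _).mpr x.2) (not_lt.mp hxm)
      obtain ⟨t, ht, s, hs, htv, hsv, e⟩ := hU.exists_eq_div (x : M) hxv
      have hs0 : s ≠ 0 := by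
        intro h0; rw [h0, map_zero] at hsv; exact zero_ne_one hsv
      have hsbar : IsLocalRing.residue W ⟨s, hU.hDW s hs⟩ ≠ 0 := by
        rw [Ne, IsLocalRing.residue_eq_zero_iff, W.valuation_lt_one_iff, hsv]
        exact lt_irrefl _
      have hmul : IsLocalRing.residue W x * IsLocalRing.residue W ⟨s, hU.hDW s hs⟩ =
          IsLocalRing.residue W ⟨t, hU.hDW t ht⟩ := by
        rw [← map_mul]
        congr 1
        apply Subtype.ext
        show (x : M) * s = t
        rw [e, div_mul_cancel₀ _ hs0]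
      have : IsLocalRing.residue W x = IsLocalRing.residue W ⟨t, hU.hDW t ht⟩ *
          (IsLocalRing.residue W ⟨s, hU.hDW s hs⟩)⁻¹ := by
        rw [← hmul, mul_assoc, mul_inv_cancel₀ hsbar, mul_one]
      rw [this]
      exact Ψ.range.mul_mem (hDR t ht) (hinv _ (hDR s hs) hsbar)

end Groth.Agent.S1983
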