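import Groth.Statements.S19849
import Groth.Agent.Lib.Helper29.HyperFinite
import Groth.Agent.Lib.Helper4.ProperFinal
import Groth.Agent.Lib.Helper29.DeRhamVanish3
import Groth.Agent.Lib.Helper29.DeRhamVanish1
import Groth.Agent.Lib.Helper29.OmegaLoc2
import Groth.Agent.Lib.helper19.RestrUniv

set_option autoImplicit false
universe u
open DeRhamSh

namespace Groth.Agent.S19849



section Helpers

open CategoryTheory AlgebraicGeometry TopologicalSpace Opposite CategoryTheory.Limits

/-- the terms of the de Rham complex of a morphism locally of finite type to an affine scheme are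
quasi-coherent of finite type. -/
theorem isCoh_term {A : Type u} [CommRing A] {X : Scheme.{u}} (f : X ⟶ Spec (CommRingCat.of A))
    [QuasiSeparated f] [LocallyOfFiniteType f] (D : DeRhamSh.OmegaCx f) (p : ℕ) :
    Coh.IsCoh (D.term p) := by
  haveI : (Omega.sheaf f).IsQuasicoherent :=
    Groth.Agent.Lib.Helper19.RestrUniv.isQuasicoherent f (OmegaSh.dOmega f)
      (Groth.Agent.Lib.Helper29.OmegaUniv.isUniversal_dOmega f)
  haveI hq : (D.term p).IsQuasicoherent :=
    Groth.Agent.Lib.Helper29.DeRhamVanish.isQuasicoherent_term D p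
  refine ⟨hq, ?_⟩
  refine Groth.Agent.Lib.Helper17.FinTypeConv.isFiniteType_of_forall_finite_sections (D.term p) ?_
  intro U
  haveI : Module.Finite Γ(X, U.1) Γ(Omega.sheaf f, U.1) :=
    Groth.Agent.Lib.Helper29.OmegaLoc.finite_sections f U.2 (isAffineOpen_top _) (by
      intro x _; trivial)
  exact Module.Finite.equiv (D.loc p U).symm

end Helpers

open CategoryTheory AlgebraicGeometry TopologicalSpace in
/-- Let A be a Noetherian ring and f : X → Spec A a proper morphism; let D be a de Rham complex of the
sheaf of differentials of f whose differentials are A-linear for the action of A through f. Then for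
every integer i the algebraic de Rham cohomology H^i_dR(X/A) = H^i(X, D), as an A-module, is
finitely generated. (The A-linearity of the differentials holds for the de Rham complex and is
carried as a hypothesis because the complex is given by its characterising data.) -/
theorem result (A : Type u) [CommRing A] [IsNoetherianRing A] (X : Scheme.{u})
    (f : X ⟶ Spec (CommRingCat.of A)) [IsProper f]
    (D : DeRhamSh.OmegaCx f)
    (h : KLinDR.TermwiseLinear (Coh.toGlobal f) D.K D.term D.iso)
    [HasDerivedCategory.{u} (Sheaf (Opens.grothendieckTopology X) AddCommGrpCat.{u})] (i : ℤ) :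
    Module.Finite A (KLinDR.HdR (Coh.toGlobal f) D h i) := by
  letI : X.Over (Spec (CommRingCat.of A)) := ⟨f⟩
  haveI : IsProper (X ↘ Spec (CommRingCat.of A)) := ‹IsProper f›
  suffices hN : IsNoetherian A (KLinDR.HdR (Coh.toGlobal f) D h i) from inferInstance
  refine Groth.Agent.Lib.Helper29.HyperFinite.isNoetherian_HTρ
    (CohCx.freeSheaf (Opens.grothendieckTopology X) ⊤) D.KZ 0 ?_ (KLinDR.scalar h) i ?_
  · intro p hp
    refine D.K.isZero_extend_X ComplexShape.embeddingUpNat p ?_
    intro m hm
    have : (m : ℤ) = p := hm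
    omega
  · intro p hp0 hpi
    obtain ⟨n, rfl⟩ : ∃ n : ℕ, (n : ℤ) = p := ⟨p.toNat, by omega⟩
    obtain ⟨q, hq⟩ : ∃ q : ℕ, (q : ℤ) + n = i := ⟨(i - n).toNat, by omega⟩
    let ε : D.KZ.X n ≅ Coh.toAb (D.term n) :=
      D.K.extendXIso ComplexShape.embeddingUpNat (ComplexShape.embeddingUpNat_f n) ≪≫ D.iso n
    haveI : Module.Finite A (Coh.HH X (D.term n) q) :=
      Groth.Agent.Lib.Helper4.ProperFinal.finite_HH A X (D.term n) (isCoh_term f D n) q
    haveI : IsNoetherian A (Coh.HH X (D.term n) q) := isNoetherian_of_isNoetherianRing_of_finite A _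
    let ψ : Coh.HH X (D.term n) q →+
        Abelian.Ext.{u} (CohCx.freeSheaf (Opens.grothendieckTopology X) ⊤) (Coh.toAb (D.term n)) q :=
      (Groth.Agent.Lib.Helper17.HCompare.HEquivH' (Opens.grothendieckTopology X)
        (CategoryTheory.Limits.isTerminalTop (α := X.Opens)) (Coh.toAb (D.term n)) q).toAddMonoidHom
    exact Groth.Agent.Lib.Helper29.HyperFinite.isNoetherian_single
      (CohCx.freeSheaf (Opens.grothendieckTopology X) ⊤) ε
      ((Groth.Agent.Lib.Helper29.HyperFinite.evalEnd D.KZ n).comp (KLinDR.scalar h))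
      (fun r => Coh.smulAb (D.term n) (Coh.toGlobal f r)) (by
        intro r
        change ((KLinDR.scalar h r : D.KZ ⟶ D.KZ)).f (n : ℤ) = _
        rw [KLinDR.scalar_f]
        simp only [ε, KLinDR.scalarEnd, Iso.trans_hom, Iso.trans_inv, Category.assoc])
      (n : ℤ) i q hq ψ
      (Groth.Agent.Lib.Helper17.HCompare.HEquivH' (Opens.grothendieckTopology X)
        (CategoryTheory.Limits.isTerminalTop (α := X.Opens)) (Coh.toAb (D.term n)) q).surjective
      (by
        intro r x
        change (Abelian.Ext.mk₀ _).comp (Sheaf.H.map (Coh.smulAb (D.term n) (Coh.toGlobal f r)) q x)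
          (zero_add q) = ((Abelian.Ext.mk₀ _).comp x (zero_add q)).comp _ (add_zero q)
        rw [Sheaf.H.map_apply, Abelian.Ext.comp_assoc_of_third_deg_zero])



end Groth.Agent.S19849
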