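import Groth.Statements.S1985
import Mathlib
import Groth.Agent.Lib.Helper12.AnUnramC
import Groth.Agent.Lib.Helper12.TateD
import Groth.Agent.Lib.Helper22.GeomRed
import Groth.Agent.Lib.Helper26.DedekindNagata

set_option autoImplicit false
universe u
open EtAlg

namespace Groth.Agent.S1985

/-- Let A -> B be an extension of discrete valuation rings whose extension of fraction fields L/K is
separable. If B is a Nagata ring then so is A. -/
theorem result (A B K L : Type u) [CommRing A] [IsDomain A] [IsDiscreteValuationRing A]
    [CommRing B] [IsDomain B] [IsDiscreteValuationRing B] [Algebra A B] [IsLocalHom (algebraMap A B)]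
    (hinj : Function.Injective (algebraMap A B))
    [Field K] [Field L] [Algebra A K] [IsFractionRing A K] [Algebra B L] [IsFractionRing B L]
    [Algebra K L] [Algebra A L] [IsScalarTower A K L] [IsScalarTower A B L] [Algebra.IsSeparable K L] (hB : CAlg.IsNagata B) :
    CAlg.IsNagata A := by
  classical
  haveI : FaithfulSMul A B := (faithfulSMul_iff_algebraMap_injective A B).mpr hinj
  haveI : Module.Flat A B := inferInstance
  haveI : Module.FaithfullyFlat A B := Module.FaithfullyFlat.of_flat_of_isLocalHom
  have hN2 : CAlg.IsN2 A := by
    refine Groth.Agent.Lib.Helper12.AnUnram.isN2_of_reduced_tensor A B hB ?_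
    intro K' _ _ _ _ hfin
    -- `K'` as a `K`-algebra
    letI : Algebra K K' := ((algebraMap (FractionRing A) K').comp
      (FractionRing.algEquiv A K).symm.toRingEquiv.toRingHom).toAlgebra
    haveI : IsScalarTower A K K' := .of_algebraMap_eq fun a => by
      change algebraMap A K' a =
        algebraMap (FractionRing A) K' ((FractionRing.algEquiv A K).symm (algebraMap A K a))
      rw [(FractionRing.algEquiv A K).symm.commutes, ← IsScalarTower.algebraMap_apply]
    haveI : IsReduced (TensorProduct K K' L) :=
      Groth.Agent.Lib.Helper22.GeomRed.isReduced_field_tensor_of_isSeparable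
    let e1 : TensorProduct K K' L ≃ₐ[K] TensorProduct A K' L :=
      IsLocalization.algebraTensorEquiv (nonZeroDivisors A) K K' L
    haveI : IsReduced (TensorProduct A K' L) := isReduced_of_injective e1.symm e1.symm.injective
    haveI : Module.Flat A K' := by
      haveI : FaithfulSMul A K' := by
        rw [faithfulSMul_iff_algebraMap_injective, IsScalarTower.algebraMap_eq A K K']
        exact (algebraMap K K').injective.comp (IsFractionRing.injective A K)
      infer_instance
    let g : TensorProduct A K' B →ₐ[A] TensorProduct A K' L :=
      Algebra.TensorProduct.map (AlgHom.id A K') (IsScalarTower.toAlgHom A B L)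
    have hg : Function.Injective g := by
      have : Function.Injective
          (LinearMap.lTensor K' (IsScalarTower.toAlgHom A B L).toLinearMap) :=
        Module.Flat.lTensor_preserves_injective_linearMap _ (IsFractionRing.injective B L)
      exact this
    haveI : IsReduced (TensorProduct A K' B) := isReduced_of_injective g hg
    exact isReduced_of_injective (Algebra.TensorProduct.comm A B K')
      (Algebra.TensorProduct.comm A B K').injective
  refine ⟨inferInstance, fun p hp => ?_⟩
  by_cases hbot : p = ⊥
  · subst hbot
    haveI : IsDomain (A ⧸ (⊥ : Ideal A)) := Ideal.Quotient.isDomain _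
    exact Groth.Agent.Lib.Helper12.Tate.isN2_of_ringEquiv (RingEquiv.quotientBot A).symm hN2
  · haveI : p.IsMaximal := Ideal.IsPrime.isMaximal hp hbot
    haveI : IsDomain (A ⧸ p) := Ideal.Quotient.isDomain _
    exact Groth.Agent.Lib.Helper26.DedekindNagata.n2_of_isField (A ⧸ p)
      ((Ideal.Quotient.maximal_ideal_iff_isField_quotient p).mp inferInstance)

end Groth.Agent.S1985
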