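import Groth.Statements.S19863
import Mathlib
import Groth.Agent.Lib.Helper22.CplOnePlus
import Groth.Agent.Lib.Helper22.CplTransfer
import Groth.Agent.Lib.Helper5.RegHomBasic
import Groth.Agent.Lib.Helper5.SerreFFlat
import Groth.Agent.Lib.helper19.CompletionNoetherian
-- import your own Groth.Agent.* helpers here

set_option autoImplicit false
universe u
open EGA4

namespace Groth.Agent.S19863

/-- Let A be a Noetherian ring, J a proper ideal of A, Â the J-adic completion and A_T the localization
of A at T = 1 + J. If the canonical map A → Â is a regular homomorphism (flat, with Noetherian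
geometrically regular fibres), then A_T is a regular ring if and only if Â is a regular ring
(Noetherian, with regular local rings at all primes). (The cases of the henselization of the pair
and of the weak completion are not stated here.) -/
theorem result
    (A : Type u) [CommRing A] [IsNoetherianRing A] (J : Ideal A) (hJ : J ≠ ⊤)
    (hf : CAlg.IsRegularHom A (AdicCompletion J A))
    (T : Submonoid A) (hT : T = MonoidHom.mker (Ideal.Quotient.mk J)) :
    IsRegularRing (Localization T) ↔ IsRegularRing (AdicCompletion J A) := by
  classical
  letI := Groth.Agent.Lib.Helper22.CplOnePlus.algebraLoc A J T hT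
  haveI := Groth.Agent.Lib.Helper22.CplOnePlus.isScalarTower_loc A J T hT
  haveI := Groth.Agent.Lib.Helper22.CplOnePlus.faithfullyFlat_loc A J T hT
  haveI : IsNoetherianRing (Localization T) := IsLocalization.isNoetherianRing T _ inferInstance
  haveI : IsNoetherianRing (AdicCompletion J A) :=
    Groth.Agent.Lib.helper19.isNoetherianRing_adicCompletion A J
  have hR : CAlg.IsRegularHom (Localization T) (AdicCompletion J A) :=
    Groth.Agent.Lib.Helper22.CplTransfer.isRegularHom_of_isLocalization_source A _ (Localization T) T hf
  constructor
  · intro h
    haveI := h
    exact Groth.Agent.Lib.Helper5.RegHom.isRegularRing_of_isRegularHom (Localization T) (AdicCompletion J A) hR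
  · intro h
    haveI := h
    exact Groth.Agent.Lib.Helper5.SerreLoc.isRegularRing_of_faithfullyFlat (Localization T) (AdicCompletion J A)

end Groth.Agent.S19863
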