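import Groth.Statements.S19868
import Groth.Agent.Lib.Helper13.PMapCriterion

set_option autoImplicit false
universe u v
open PLie

namespace Groth.Agent.S19868

section Helpers
open DualNumber Groth.Agent.Lib.Helper13.PMapCriterion

variable {K : Type u} [Field K] {L : Type v} [LieRing L] [LieAlgebra (DualNumber K) L]
  (bs : Module.Basis (Fin 3) (DualNumber K) L) (a b c d e f g h i : K)

/-- matrix of `ad x` -/
def MX : Matrix (Fin 3) (Fin 3) (DualNumber K) :=
  !![0, a • ε, d • ε; 0, b • ε, e • ε; 0, c • ε, f • ε]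

/-- matrix of `ad y` -/
def MY : Matrix (Fin 3) (Fin 3) (DualNumber K) :=
  !![-(a • ε), 0, 1 + g • ε; -(b • ε), 0, h • ε; -(c • ε), 0, i • ε]

/-- matrix of `ad z` -/
def MZ : Matrix (Fin 3) (Fin 3) (DualNumber K) :=
  !![-(d • ε), -(1 + g • ε), 0; -(e • ε), -(h • ε), 0; -(f • ε), -(i • ε), 0]

variable {bs a b c d e f g h i}

theorem adMat_x
    (hxy : ⁅bs 0, bs 1⁆ = (a • ε : DualNumber K) • bs 0 + (b • ε : DualNumber K) • bs 1 + (c • ε : DualNumber K) • bs 2)
    (hxz : ⁅bs 0, bs 2⁆ = (d • ε : DualNumber K) • bs 0 + (e • ε : DualNumber K) • bs 1 + (f • ε : DualNumber K) • bs 2) :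
    adMat bs 0 = MX a b c d e f := by
  refine Matrix.ext fun r s => ?_
  rw [adMat_apply]
  fin_cases r <;> fin_cases s <;> simp [MX, hxy, hxz, Finsupp.single_apply]

theorem adMat_y
    (hxy : ⁅bs 0, bs 1⁆ = (a • ε : DualNumber K) • bs 0 + (b • ε : DualNumber K) • bs 1 + (c • ε : DualNumber K) • bs 2)
    (hyz : ⁅bs 1, bs 2⁆ = (1 + g • ε : DualNumber K) • bs 0 + (h • ε : DualNumber K) • bs 1 + (i • ε : DualNumber K) • bs 2) :
    adMat bs 1 = MY a b c g h i := by
  have hyx : ⁅bs 1, bs 0⁆ = -((a • ε : DualNumber K) • bs 0 + (b • ε : DualNumber K) • bs 1 + (c • ε : DualNumber K) • bs 2) := by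
    rw [← lie_skew, hxy]
  refine Matrix.ext fun r s => ?_
  rw [adMat_apply]
  fin_cases r <;> fin_cases s <;> simp [MY, hyx, hyz, Finsupp.single_apply]

theorem adMat_z
    (hxz : ⁅bs 0, bs 2⁆ = (d • ε : DualNumber K) • bs 0 + (e • ε : DualNumber K) • bs 1 + (f • ε : DualNumber K) • bs 2)
    (hyz : ⁅bs 1, bs 2⁆ = (1 + g • ε : DualNumber K) • bs 0 + (h • ε : DualNumber K) • bs 1 + (i • ε : DualNumber K) • bs 2) :
    adMat bs 2 = MZ d e f g h i := by
  have hzx : ⁅bs 2, bs 0⁆ = -((d • ε : DualNumber K) • bs 0 + (e • ε : DualNumber K) • bs 1 + (f • ε : DualNumber K) • bs 2) := by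
    rw [← lie_skew, hxz]
  have hzy : ⁅bs 2, bs 1⁆ = -((1 + g • ε : DualNumber K) • bs 0 + (h • ε : DualNumber K) • bs 1 + (i • ε : DualNumber K) • bs 2) := by
    rw [← lie_skew, hyz]
  refine Matrix.ext fun r s => ?_
  rw [adMat_apply]
  fin_cases r <;> fin_cases s <;> simp [MZ, hzx, hzy, Finsupp.single_apply]

theorem jacobi_bf
    (hxy : ⁅bs 0, bs 1⁆ = (a • ε : DualNumber K) • bs 0 + (b • ε : DualNumber K) • bs 1 + (c • ε : DualNumber K) • bs 2)
    (hxz : ⁅bs 0, bs 2⁆ = (d • ε : DualNumber K) • bs 0 + (e • ε : DualNumber K) • bs 1 + (f • ε : DualNumber K) • bs 2)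
    (hyz : ⁅bs 1, bs 2⁆ = (1 + g • ε : DualNumber K) • bs 0 + (h • ε : DualNumber K) • bs 1 + (i • ε : DualNumber K) • bs 2) :
    b + f = 0 := by
  have hyx : ⁅bs 1, bs 0⁆ = -((a • ε : DualNumber K) • bs 0 + (b • ε : DualNumber K) • bs 1 + (c • ε : DualNumber K) • bs 2) := by
    rw [← lie_skew, hxy]
  have J := leibniz_lie (bs 0) (bs 1) (bs 2)
  rw [hyz, hxy, hxz] at J
  simp only [lie_add, add_lie, lie_smul, smul_lie, hxy, hxz, hyz, hyx, lie_self, smul_zero,
    add_zero, zero_add] at J
  have h0 := congrArg (fun u => TrivSqZeroExt.snd (bs.repr u 0)) J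
  simp at h0
  linear_combination -h0

/-- entrywise verification of a matrix identity over the dual numbers -/
macro "dmat" : tactic =>
  `(tactic| (refine Matrix.ext fun r s => ?_
             fin_cases r <;> fin_cases s <;> (ext <;> simp <;> ring)))

theorem MX_sq : MX a b c d e f ^ 2 = 0 := by
  unfold MX
  rw [pow_two, Matrix.mul_fin_three]
  dmat

theorem MY_sq : MY a b c g h i ^ 2 =
    !![-(c • ε), 0, (i - a) • ε; 0, 0, -(b • ε); 0, 0, -(c • ε)] := by
  unfold MY
  rw [pow_two, Matrix.mul_fin_three]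
  dmat

theorem MY_cube : MY a b c g h i ^ 3 = !![0, 0, -(c • ε); 0, 0, 0; 0, 0, 0] := by
  rw [pow_succ, MY_sq]
  unfold MY
  rw [Matrix.mul_fin_three]
  dmat

theorem MY_four : MY a b c g h i ^ 4 = 0 := by
  rw [pow_succ, MY_cube]
  unfold MY
  rw [Matrix.mul_fin_three]
  dmat

theorem MZ_sq : MZ d e f g h i ^ 2 =
    !![e • ε, (h + d) • ε, 0; 0, e • ε, 0; 0, f • ε, 0] := by
  unfold MZ
  rw [pow_two, Matrix.mul_fin_three]
  dmat

theorem MZ_cube : MZ d e f g h i ^ 3 = !![0, -(e • ε), 0; 0, 0, 0; 0, 0, 0] := by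
  rw [pow_succ, MZ_sq]
  unfold MZ
  rw [Matrix.mul_fin_three]
  dmat

theorem MZ_four : MZ d e f g h i ^ 4 = 0 := by
  rw [pow_succ, MZ_cube]
  unfold MZ
  rw [Matrix.mul_fin_three]
  dmat

theorem comb (x y z : DualNumber K) :
    x • MX a b c d e f + y • MY a b c g h i + z • MZ d e f g h i =
      !![x * 0 + y * -(a • ε) + z * -(d • ε), x * (a • ε) + y * 0 + z * -(1 + g • ε), x * (d • ε) + y * (1 + g • ε) + z * 0;
         x * 0 + y * -(b • ε) + z * -(e • ε), x * (b • ε) + y * 0 + z * -(h • ε), x * (e • ε) + y * (h • ε) + z * 0;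
         x * 0 + y * -(c • ε) + z * -(f • ε), x * (c • ε) + y * 0 + z * -(i • ε), x * (f • ε) + y * (i • ε) + z * 0] := by
  unfold MX MY MZ
  refine Matrix.ext fun r s => ?_
  fin_cases r <;> fin_cases s <;> simp [Matrix.add_apply, Matrix.smul_apply]

theorem comb_Y2 (hb : b = 0) (hc : c = 0) :
    (0 : DualNumber K) • MX a b c d e f + ((i - a) • ε : DualNumber K) • MY a b c g h i
        + (0 : DualNumber K) • MZ d e f g h i
      = !![-(c • ε), 0, (i - a) • ε; 0, 0, -(b • ε); 0, 0, -(c • ε)] := by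
  rw [comb, hb, hc]
  refine Matrix.ext fun r s => ?_
  fin_cases r <;> fin_cases s <;> (ext <;> simp)

theorem comb_Y3 :
    (0 : DualNumber K) • MX a b c d e f + (-(c • ε) : DualNumber K) • MY a b c g h i
        + (0 : DualNumber K) • MZ d e f g h i
      = !![0, 0, -(c • ε); 0, 0, 0; 0, 0, 0] := by
  rw [comb]
  refine Matrix.ext fun r s => ?_
  fin_cases r <;> fin_cases s <;> (ext <;> simp)

theorem comb_Z2 (he : e = 0) (hf : f = 0) :
    (0 : DualNumber K) • MX a b c d e f + (0 : DualNumber K) • MY a b c g h i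
        + (-((h + d) • ε) : DualNumber K) • MZ d e f g h i
      = !![e • ε, (h + d) • ε, 0; 0, e • ε, 0; 0, f • ε, 0] := by
  rw [comb, he, hf]
  refine Matrix.ext fun r s => ?_
  fin_cases r <;> fin_cases s <;> (ext <;> simp)

theorem comb_Z3 :
    (0 : DualNumber K) • MX a b c d e f + (0 : DualNumber K) • MY a b c g h i
        + (e • ε : DualNumber K) • MZ d e f g h i
      = !![0, -(e • ε), 0; 0, 0, 0; 0, 0, 0] := by
  rw [comb]
  refine Matrix.ext fun r s => ?_
  fin_cases r <;> fin_cases s <;> (ext <;> simp)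

theorem pow_eq_zero_of_le {M : Matrix (Fin 3) (Fin 3) (DualNumber K)} {m n : ℕ} (h : M ^ m = 0)
    (hmn : m ≤ n) : M ^ n = 0 := by
  obtain ⟨k, rfl⟩ := Nat.exists_eq_add_of_le hmn
  rw [pow_add, h, zero_mul]

end Helpers


open DualNumber in
/-- Let K be a field of prime characteristic p, K[ε] the ring of dual numbers (taken with its
characteristic-p structure) and a, …, i ∈ K. Let L be a Lie algebra over K[ε], free as a module with
basis x = bs 0, y = bs 1, z = bs 2 and brackets [x,y] = aε x + bε y + cε z, [x,z] = dε x + eε y + fε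
z, [y,z] = (1 + gε) x + hε y + iε z, a first-order deformation of the Heisenberg algebra (the Jacobi
identity forces b + f = 0). Then L carries a p-mapping over K[ε] if and only if b = c = e = 0 when p
= 2; for odd p there is no condition. (The published statement is about the singularity of the point
h_3 in the restrictable locus of the rank-one-centre stratum of the moduli scheme of based
three-dimensional Lie algebras over the prime field; this row states the restrictability criterion
for the first-order deformations of h_3 asserted in its proof, over any field of characteristic p in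
place of the prime field.) -/
theorem result (K : Type u) [Field K] (p : ℕ) [Fact p.Prime] [CharP K p]
    [CharP (DualNumber K) p] (a b c d e f g h i : K)
    (L : Type v) [LieRing L] [LieAlgebra (DualNumber K) L] (bs : Module.Basis (Fin 3) (DualNumber K) L)
    (hxy : ⁅bs 0, bs 1⁆ = (a • ε : DualNumber K) • bs 0 + (b • ε : DualNumber K) • bs 1 + (c • ε : DualNumber K) • bs 2)
    (hxz : ⁅bs 0, bs 2⁆ = (d • ε : DualNumber K) • bs 0 + (e • ε : DualNumber K) • bs 1 + (f • ε : DualNumber K) • bs 2)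
    (hyz : ⁅bs 1, bs 2⁆ = (1 + g • ε : DualNumber K) • bs 0 + (h • ε : DualNumber K) • bs 1 + (i • ε : DualNumber K) • bs 2) :
    Nonempty (PLie.PMap (DualNumber K) p L) ↔ (p = 2 → b = 0 ∧ c = 0 ∧ e = 0) := by
  have hprime : p.Prime := Fact.out
  have hX := adMat_x (bs := bs) hxy hxz
  have hY := adMat_y (bs := bs) hxy hyz
  have hZ := adMat_z (bs := bs) hxz hyz
  have hbf : b + f = 0 := jacobi_bf hxy hxz hyz
  rw [Groth.Agent.Lib.Helper13.PMapCriterion.nonempty_pmap_iff_matrix p bs]
  constructor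
  · intro H hp2
    obtain ⟨α, hα⟩ := H 1
    obtain ⟨α', hα'⟩ := H 2
    rw [Fin.sum_univ_three, hX, hY, hZ, hp2, MY_sq] at hα
    rw [Fin.sum_univ_three, hX, hY, hZ, hp2, MZ_sq] at hα'
    -- entries of the first equation
    have e02 := congrArg TrivSqZeroExt.fst (congrFun (congrFun hα 0) 2)
    have e01 := congrArg TrivSqZeroExt.fst (congrFun (congrFun hα 0) 1)
    have e00 := congrArg TrivSqZeroExt.snd (congrFun (congrFun hα 0) 0)
    have e11 := congrArg TrivSqZeroExt.snd (congrFun (congrFun hα 1) 1)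
    have e12 := congrArg TrivSqZeroExt.snd (congrFun (congrFun hα 1) 2)
    simp [MX, MY, MZ] at e02 e01 e00 e11 e12
    have f01 := congrArg TrivSqZeroExt.fst (congrFun (congrFun hα' 0) 1)
    have f02 := congrArg TrivSqZeroExt.fst (congrFun (congrFun hα' 0) 2)
    have f00 := congrArg TrivSqZeroExt.snd (congrFun (congrFun hα' 0) 0)
    simp [MX, MY, MZ] at f01 f02 f00
    rw [e02, e01] at e00
    rw [e01] at e11
    rw [e02] at e12
    rw [f01, f02] at f00
    have hc : c = 0 := by simpa using e00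
    have he : e = 0 := by simpa using f00.symm
    have hb : b = 0 := by
      have h1 : b * b = 0 := by
        have h2 : b = -(e * TrivSqZeroExt.fst (α 0)) := by
          simp only [mul_zero, add_zero] at e12
          rw [e12, neg_neg]
        simp only [mul_zero, neg_zero, add_zero] at e11
        calc b * b = -(e * TrivSqZeroExt.fst (α 0)) * b := by rw [← h2]
          _ = -(e * (b * TrivSqZeroExt.fst (α 0))) := by ring
          _ = 0 := by rw [e11]; simp
      exact mul_self_eq_zero.1 h1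
    exact ⟨hb, hc, he⟩
  · intro H i0
    have h2p : 2 ≤ p := hprime.two_le
    have hcases : p = 2 ∨ p = 3 ∨ 4 ≤ p := by omega
    fin_cases i0
    · refine ⟨fun _ => 0, ?_⟩
      simp only [Fin.zero_eta, zero_smul, Finset.sum_const_zero]
      rw [hX, pow_eq_zero_of_le MX_sq h2p]
    · simp only [Fin.mk_one]
      rcases hcases with hp2 | hp3 | hp4
      · obtain ⟨hb, hc, he⟩ := H hp2
        refine ⟨![0, (i - a) • ε, 0], ?_⟩
        rw [Fin.sum_univ_three, hX, hY, hZ, hp2, MY_sq]
        exact comb_Y2 hb hc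
      · refine ⟨![0, -(c • ε), 0], ?_⟩
        rw [Fin.sum_univ_three, hX, hY, hZ, hp3, MY_cube]
        exact comb_Y3
      · refine ⟨fun _ => 0, ?_⟩
        simp only [zero_smul, Finset.sum_const_zero]
        rw [hY, pow_eq_zero_of_le MY_four hp4]
    · simp only [Fin.reduceFinMk]
      rcases hcases with hp2 | hp3 | hp4
      · obtain ⟨hb, hc, he⟩ := H hp2
        have hf : f = 0 := by rw [hb, zero_add] at hbf; exact hbf
        refine ⟨![0, 0, -((h + d) • ε)], ?_⟩
        rw [Fin.sum_univ_three, hX, hY, hZ, hp2, MZ_sq]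
        exact comb_Z2 he hf
      · refine ⟨![0, 0, e • ε], ?_⟩
        rw [Fin.sum_univ_three, hX, hY, hZ, hp3, MZ_cube]
        exact comb_Z3
      · refine ⟨fun _ => 0, ?_⟩
        simp only [zero_smul, Finset.sum_const_zero]
        rw [hZ, pow_eq_zero_of_le MZ_four hp4]

end Groth.Agent.S19868
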