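import Groth.Statements.S1987
import Mathlib

set_option autoImplicit false
universe u
open Polynomial
open EtAlg

namespace Groth.Agent.S1987

variable (A : Type u) [CommRing A] [IsDomain A] [IsDiscreteValuationRing A] (π : A)

theorem monic_f (n : ℕ) (hn : 2 ≤ n) : (X ^ n - C π : A[X]).Monic :=
  monic_X_pow_sub_C π (by omega)

theorem natDegree_f (n : ℕ) (hn : 2 ≤ n) : (X ^ n - C π : A[X]).natDegree = n :=
  natDegree_X_pow_sub_C

theorem irr_f (hπ : Irreducible π) (n : ℕ) (hn : 2 ≤ n) : Irreducible (X ^ n - C π : A[X]) := by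
  have hP : (Ideal.span {π}).IsPrime := by
    rw [Ideal.span_singleton_prime hπ.ne_zero]
    exact hπ.prime
  have hE : (X ^ n - C π : A[X]).IsEisensteinAt (Ideal.span {π}) := by
    refine ⟨?_, ?_, ?_⟩
    · rw [(monic_f A π n hn).leadingCoeff]
      exact fun h => hP.ne_top ((Ideal.eq_top_iff_one _).2 h)
    · intro k hk
      rw [natDegree_f A π n hn] at hk
      rw [coeff_sub, coeff_X_pow, coeff_C]
      rw [if_neg (by omega)]
      by_cases h0 : k = 0
      · simp [h0, Ideal.mem_span_singleton_self]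
      · simp [h0]
    · rw [coeff_sub, coeff_X_pow, coeff_C_zero, if_neg (by omega), zero_sub, neg_mem_iff,
        Ideal.span_singleton_pow, Ideal.mem_span_singleton]
      intro h
      obtain ⟨c, hc⟩ := h
      have : π * 1 = π * (π * c) := by rw [mul_one]; nth_rewrite 1 [hc]; ring
      have h1 := mul_left_cancel₀ hπ.ne_zero this
      exact hπ.not_isUnit (IsUnit.of_mul_eq_one _ h1.symm)
  exact hE.irreducible hP (monic_f A π n hn).isPrimitive (by rw [natDegree_f A π n hn]; omega)



theorem root_pow (n : ℕ) : (AdjoinRoot.root (X ^ n - C π : A[X])) ^ n = AdjoinRoot.of _ π := by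
  have h := AdjoinRoot.mk_self (f := (X ^ n - C π : A[X]))
  rw [map_sub, map_pow, AdjoinRoot.mk_X, AdjoinRoot.mk_C, sub_eq_zero] at h
  exact h

theorem decomp (n : ℕ) (b : AdjoinRoot (X ^ n - C π : A[X])) :
    ∃ (a : A) (c : AdjoinRoot (X ^ n - C π : A[X])), b = AdjoinRoot.of _ a + AdjoinRoot.root _ * c := by
  obtain ⟨p, rfl⟩ := AdjoinRoot.mk_surjective b
  refine ⟨p.coeff 0, AdjoinRoot.mk _ p.divX, ?_⟩
  conv_lhs => rw [← Polynomial.divX_mul_X_add p]
  rw [map_add, map_mul, AdjoinRoot.mk_X, AdjoinRoot.mk_C]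
  ring

theorem max_eq (hπ : Irreducible π) (n : ℕ) (hn : 2 ≤ n) (M : Ideal (AdjoinRoot (X ^ n - C π : A[X])))
    (hM : M.IsMaximal) : M = Ideal.span {AdjoinRoot.root (X ^ n - C π : A[X])} := by
  haveI : Module.Finite A (AdjoinRoot (X ^ n - C π : A[X])) := (monic_f A π n hn).finite_adjoinRoot
  haveI : Algebra.IsIntegral A (AdjoinRoot (X ^ n - C π : A[X])) := Algebra.IsIntegral.of_finite _ _
  have hc : (M.comap (algebraMap A (AdjoinRoot (X ^ n - C π : A[X])))).IsMaximal :=
    Ideal.isMaximal_comap_of_isIntegral_of_isMaximal M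
  have hc' := IsLocalRing.eq_maximalIdeal hc
  have hπM : AdjoinRoot.of (X ^ n - C π : A[X]) π ∈ M := by
    have : π ∈ M.comap (algebraMap A (AdjoinRoot (X ^ n - C π : A[X]))) := by
      rw [hc']; exact hπ.not_isUnit
    exact this
  have hx : AdjoinRoot.root (X ^ n - C π : A[X]) ∈ M := by
    rw [← root_pow] at hπM
    exact hM.isPrime.mem_of_pow_mem _ hπM
  apply le_antisymm
  · intro b hb
    obtain ⟨a, c, rfl⟩ := decomp A π n b
    have ha : AdjoinRoot.of (X ^ n - C π : A[X]) a ∈ M := by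
      have := M.sub_mem hb (M.mul_mem_right c hx)
      simpa using this
    have ha' : a ∈ IsLocalRing.maximalIdeal A := by rw [← hc']; exact ha
    rw [hπ.maximalIdeal_eq, Ideal.mem_span_singleton] at ha'
    obtain ⟨d, rfl⟩ := ha'
    rw [map_mul, ← root_pow]
    apply Ideal.add_mem
    · have : (AdjoinRoot.root (X ^ n - C π : A[X])) ^ n =
          AdjoinRoot.root (X ^ n - C π : A[X]) * (AdjoinRoot.root (X ^ n - C π : A[X])) ^ (n - 1) := by
        rw [← pow_succ']; congr 1; omega
      rw [this, mul_assoc]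
      exact Ideal.mul_mem_right _ _ (Ideal.mem_span_singleton_self _)
    · exact Ideal.mul_mem_right _ _ (Ideal.mem_span_singleton_self _)
  · rw [Ideal.span_le]; simpa using hx


theorem local_B (hπ : Irreducible π) (n : ℕ) (hn : 2 ≤ n)
    [Nontrivial (AdjoinRoot (X ^ n - C π : A[X]))] :
    IsLocalRing (AdjoinRoot (X ^ n - C π : A[X])) := by
  obtain ⟨M, hM⟩ := Ideal.exists_maximal (AdjoinRoot (X ^ n - C π : A[X]))
  refine IsLocalRing.of_unique_max_ideal ⟨M, hM, fun M' hM' => ?_⟩
  rw [max_eq A π hπ n hn M hM, max_eq A π hπ n hn M' hM']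

theorem root_ne_zero (hπ : Irreducible π) (n : ℕ) (hn : 2 ≤ n) :
    AdjoinRoot.root (X ^ n - C π : A[X]) ≠ 0 := by
  intro h
  have h1 := root_pow A π n
  rw [h, zero_pow (by omega)] at h1
  have hinj : Function.Injective (AdjoinRoot.of (X ^ n - C π : A[X])) :=
    AdjoinRoot.of.injective_of_degree_ne_zero (by
      rw [degree_eq_natDegree (monic_f A π n hn).ne_zero, natDegree_f A π n hn]
      exact_mod_cast (by omega : n ≠ 0))
  exact hπ.ne_zero (hinj (by rw [← h1, map_zero]))

theorem dvr_B (hπ : Irreducible π) (n : ℕ) (hn : 2 ≤ n)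
    [IsDomain (AdjoinRoot (X ^ n - C π : A[X]))] :
    IsDiscreteValuationRing (AdjoinRoot (X ^ n - C π : A[X])) := by
  haveI := local_B A π hπ n hn
  haveI : Module.Finite A (AdjoinRoot (X ^ n - C π : A[X])) := (monic_f A π n hn).finite_adjoinRoot
  haveI : IsNoetherianRing (AdjoinRoot (X ^ n - C π : A[X])) := IsNoetherianRing.of_finite A _
  have hmax : IsLocalRing.maximalIdeal (AdjoinRoot (X ^ n - C π : A[X])) =
      Ideal.span {AdjoinRoot.root (X ^ n - C π : A[X])} :=
    max_eq A π hπ n hn _ (IsLocalRing.maximalIdeal.isMaximal _)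
  have hnf : ¬ IsField (AdjoinRoot (X ^ n - C π : A[X])) := by
    rw [IsLocalRing.isField_iff_maximalIdeal_eq, hmax]
    intro h
    rw [Ideal.span_singleton_eq_bot] at h
    exact root_ne_zero A π hπ n hn h
  refine ((IsDiscreteValuationRing.TFAE _ hnf).out 0 4).2 ?_
  rw [hmax]
  exact ⟨⟨_, rfl⟩⟩


section Ram

variable {A}
variable {B : Type u} [CommRing B] [IsDomain B] [IsDiscreteValuationRing B] [Algebra A B]
  (K₁ : Type u) [Field K₁] [Algebra B K₁] [IsFractionRing B K₁]

/-- the valuation subring of `K₁` given by `B`. -/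
noncomputable def V0 : ValuationSubring K₁ := (ValuationRing.valuation B K₁).valuationSubring

theorem mem_V0 (y : K₁) : y ∈ V0 (B := B) K₁ ↔ ∃ b : B, algebraMap B K₁ b = y :=
  ValuationRing.mem_integer_iff B K₁ y

variable (x : B) (hx : IsLocalRing.maximalIdeal B = Ideal.span {x}) (n : ℕ) (hn : 0 < n)
  (hxn : x ^ n = algebraMap A B π)
  (hpol : ∀ b : B, ∃ p : A[X], b = Polynomial.eval₂ (algebraMap A B) x p)

include hn hxn in
theorem val_x_lt (V : ValuationSubring K₁)
    (hV : EtRam.Dominates A ((algebraMap B K₁).comp (algebraMap A B)) V)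
    (hπ : π ∈ IsLocalRing.maximalIdeal A) :
    V.valuation (algebraMap B K₁ x) < 1 := by
  have h1 := hV.2 π hπ
  rw [RingHom.comp_apply, ← hxn, map_pow, map_pow] at h1
  by_contra h
  rw [not_lt] at h
  exact absurd h1 (not_lt.2 (one_le_pow₀ h))

include hn hxn hpol in
theorem B_le (V : ValuationSubring K₁)
    (hV : EtRam.Dominates A ((algebraMap B K₁).comp (algebraMap A B)) V)
    (hπ : π ∈ IsLocalRing.maximalIdeal A) (b : B) : algebraMap B K₁ b ∈ V := by
  have hxV : algebraMap B K₁ x ∈ V :=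
    (V.valuation_le_one_iff _).1 (val_x_lt π K₁ x n hn hxn V hV hπ).le
  obtain ⟨p, rfl⟩ := hpol b
  rw [Polynomial.hom_eval₂]
  induction p using Polynomial.induction_on' with
  | add p q hp hq => rw [eval₂_add]; exact V.add_mem _ _ hp hq
  | monomial k a =>
    rw [eval₂_monomial]
    exact V.mul_mem _ _ (hV.1 a) (pow_mem hxV k)

include hn hxn hpol hx in
theorem V_eq (V : ValuationSubring K₁)
    (hV : EtRam.Dominates A ((algebraMap B K₁).comp (algebraMap A B)) V)
    (hπ : π ∈ IsLocalRing.maximalIdeal A) : V = V0 (B := B) K₁ := by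
  apply ValuationSubring.ext
  intro y
  rw [mem_V0]
  constructor
  · intro hy
    by_cases hy0 : y = 0
    · exact ⟨0, by rw [hy0, map_zero]⟩
    rcases ValuationRing.isInteger_or_isInteger B y with ⟨b, hb⟩ | ⟨b, hb⟩
    · exact ⟨b, hb⟩
    · by_cases hbu : IsUnit b
      · obtain ⟨u, rfl⟩ := hbu
        refine ⟨((u⁻¹ : Bˣ) : B), ?_⟩
        have h1 : algebraMap B K₁ (u : B) * algebraMap B K₁ ((u⁻¹ : Bˣ) : B) = 1 := by
          rw [← map_mul, Units.mul_inv, map_one]
        rw [hb] at h1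
        field_simp at h1
        exact h1
      · exfalso
        have hbm : b ∈ IsLocalRing.maximalIdeal B := hbu
        rw [hx, Ideal.mem_span_singleton] at hbm
        obtain ⟨c, rfl⟩ := hbm
        have h1 : V.valuation (y⁻¹) < 1 := by
          rw [← hb, map_mul, map_mul]
          have h2 := val_x_lt π K₁ x n hn hxn V hV hπ
          have h3 : V.valuation (algebraMap B K₁ c) ≤ 1 :=
            (V.valuation_le_one_iff _).2 (B_le π K₁ x n hn hxn hpol V hV hπ c)
          calc _ ≤ V.valuation (algebraMap B K₁ x) * 1 := mul_le_mul_right h3 _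
            _ < 1 := by rwa [mul_one]
        have h4 : V.valuation y ≤ 1 := (V.valuation_le_one_iff _).2 hy
        have h5 : V.valuation y * V.valuation y⁻¹ = 1 := by
          rw [← map_mul, mul_inv_cancel₀ hy0, map_one]
        have : V.valuation y * V.valuation y⁻¹ < 1 := by
          calc _ ≤ 1 * V.valuation y⁻¹ := mul_le_mul_left h4 _
            _ < 1 := by rwa [one_mul]
        rw [h5] at this
        exact lt_irrefl _ this
  · rintro ⟨b, rfl⟩
    exact B_le π K₁ x n hn hxn hpol V hV hπ b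

include hx hn hxn in
theorem V0_dom (hA : IsLocalRing.maximalIdeal A = Ideal.span {π}) :
    EtRam.Dominates A ((algebraMap B K₁).comp (algebraMap A B)) (V0 (B := B) K₁) := by
  have hx1 : (V0 (B := B) K₁).valuation (algebraMap B K₁ x) < 1 := by
    have hxm : algebraMap B K₁ x ∈ V0 (B := B) K₁ := (mem_V0 K₁ _).2 ⟨x, rfl⟩
    have := (V0 (B := B) K₁).valuation_lt_one_iff ⟨_, hxm⟩
    refine this.1 ?_
    show _ ∈ nonunits _
    intro hu
    obtain ⟨u, hu⟩ := hu
    obtain ⟨c, hc⟩ := (mem_V0 K₁ _).1 (((u⁻¹ : (V0 (B := B) K₁)ˣ) : V0 (B := B) K₁)).2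
    have h1 : algebraMap B K₁ x * algebraMap B K₁ c = 1 := by
      rw [hc]
      have := congrArg Subtype.val u.mul_inv
      rw [hu] at this
      exact this
    rw [← map_mul, ← map_one (algebraMap B K₁)] at h1
    have h2 := IsFractionRing.injective B K₁ h1
    have hxmem : x ∈ IsLocalRing.maximalIdeal B := by rw [hx]; exact Ideal.mem_span_singleton_self x
    exact hxmem (IsUnit.of_mul_eq_one _ h2)
  refine ⟨fun a => (mem_V0 K₁ _).2 ⟨algebraMap A B a, rfl⟩, fun a ha => ?_⟩
  rw [hA, Ideal.mem_span_singleton] at ha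
  obtain ⟨d, rfl⟩ := ha
  rw [RingHom.comp_apply, map_mul, ← hxn, map_mul, map_pow, map_mul, map_pow]
  have h3 : (V0 (B := B) K₁).valuation (algebraMap B K₁ (algebraMap A B d)) ≤ 1 :=
    ((V0 (B := B) K₁).valuation_le_one_iff _).2 ((mem_V0 K₁ _).2 ⟨_, rfl⟩)
  have h4 : (V0 (B := B) K₁).valuation (algebraMap B K₁ x) ^ n < 1 := pow_lt_one₀ zero_le hx1 hn.ne'
  calc _ ≤ (V0 (B := B) K₁).valuation (algebraMap B K₁ x) ^ n * 1 := mul_le_mul_right h3 _
    _ < 1 := by rwa [mul_one]

include hx hn hxn hpol in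
theorem totRam (hA : IsLocalRing.maximalIdeal A = Ideal.span {π})
    (hdec : ∀ b : B, ∃ (a : A) (c : B), b = algebraMap A B a + x * c) :
    EtRam.IsTotallyRamified A ((algebraMap B K₁).comp (algebraMap A B)) := by
  have hπ : π ∈ IsLocalRing.maximalIdeal A := by rw [hA]; exact Ideal.mem_span_singleton_self π
  refine ⟨⟨_, V0_dom π K₁ x hx n hn hxn hA⟩, fun V V' hV hV' => ?_, fun V hV => ?_⟩
  · rw [V_eq π K₁ x hx n hn hxn hpol V hV hπ, V_eq π K₁ x hx n hn hxn hpol V' hV' hπ]
  · intro r
    obtain ⟨⟨y, hy⟩, rfl⟩ := IsLocalRing.residue_surjective r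
    have hy' := hy
    rw [V_eq π K₁ x hx n hn hxn hpol V hV hπ, mem_V0] at hy'
    obtain ⟨b, rfl⟩ := hy'
    obtain ⟨a, c, rfl⟩ := hdec b
    refine ⟨a, ?_⟩
    show IsLocalRing.residue V _ = IsLocalRing.residue V _
    symm
    rw [← sub_eq_zero, ← map_sub, IsLocalRing.residue_eq_zero_iff, ValuationSubring.valuation_lt_one_iff]
    have h2 := val_x_lt π K₁ x n hn hxn V hV hπ
    have h3 : V.valuation (algebraMap B K₁ c) ≤ 1 :=
      (V.valuation_le_one_iff _).2 (B_le π K₁ x n hn hxn hpol V hV hπ c)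
    have : V.valuation (algebraMap B K₁ x * algebraMap B K₁ c) < 1 := by
      rw [map_mul]
      calc _ ≤ V.valuation (algebraMap B K₁ x) * 1 := mul_le_mul_right h3 _
        _ < 1 := by rwa [mul_one]
    convert this using 2
    show algebraMap B K₁ (algebraMap A B a + x * c) - algebraMap B K₁ (algebraMap A B a) = _
    rw [map_add, map_mul]; ring

end Ram



/-- Let A be a discrete valuation ring with uniformizer π and n ≥ 2, and let A' = A[x]/(x^n - π). Then
x^n - π is irreducible over A, A' is an integrally closed discrete valuation ring (so it is the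
integral closure of A in its fraction field K₁ = K(π^{1/n}), of degree n over K), the maximal ideal
of A generates the n-th power of the maximal ideal of A' (ramification index n), and K₁ is totally
ramified with respect to A. -/
theorem result (A : Type u) [CommRing A] [IsDomain A] [IsDiscreteValuationRing A] (π : A)
    (hπ : Irreducible π) (n : ℕ) (hn : 2 ≤ n) :
    Irreducible (X ^ n - C π : A[X]) ∧
    ∃ (_ : IsDomain (AdjoinRoot (X ^ n - C π : A[X]))) (_ : IsDiscreteValuationRing (AdjoinRoot (X ^ n - C π : A[X]))),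
      IsIntegrallyClosed (AdjoinRoot (X ^ n - C π : A[X])) ∧
      (IsLocalRing.maximalIdeal A).map (algebraMap A (AdjoinRoot (X ^ n - C π : A[X]))) = IsLocalRing.maximalIdeal (AdjoinRoot (X ^ n - C π : A[X])) ^ n ∧
      ∀ (K₁ : Type u) [Field K₁] [Algebra (AdjoinRoot (X ^ n - C π : A[X])) K₁] [IsFractionRing (AdjoinRoot (X ^ n - C π : A[X])) K₁],
        EtRam.IsTotallyRamified A ((algebraMap (AdjoinRoot (X ^ n - C π : A[X])) K₁).comp (algebraMap A (AdjoinRoot (X ^ n - C π : A[X])))) := by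
  have hirr := irr_f A π hπ n hn
  refine ⟨hirr, ?_⟩
  have hprime : Prime (X ^ n - C π : A[X]) := hirr.prime
  haveI hdom : IsDomain (AdjoinRoot (X ^ n - C π : A[X])) := AdjoinRoot.isDomain_of_prime hprime
  haveI hdvr := dvr_B A π hπ n hn
  have hmax : IsLocalRing.maximalIdeal (AdjoinRoot (X ^ n - C π : A[X])) =
      Ideal.span {AdjoinRoot.root (X ^ n - C π : A[X])} :=
    max_eq A π hπ n hn _ (IsLocalRing.maximalIdeal.isMaximal _)
  refine ⟨hdom, hdvr, inferInstance, ?_, ?_⟩
  · rw [hmax, hπ.maximalIdeal_eq, Ideal.map_span, Set.image_singleton, Ideal.span_singleton_pow,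
      root_pow]
    rfl
  · intro K₁ _ _ _
    refine totRam π K₁ (AdjoinRoot.root _) hmax n (by omega) (root_pow A π n) ?_ hπ.maximalIdeal_eq
      (decomp A π n)
    intro b
    obtain ⟨p, rfl⟩ := AdjoinRoot.mk_surjective b
    refine ⟨p, ?_⟩
    rw [← AdjoinRoot.aeval_eq, Polynomial.aeval_def]

end Groth.Agent.S1987
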