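import Groth.Statements.S19879
import Groth.Agent.S18397
import Mathlib

set_option autoImplicit false
universe u
open LVCorr

namespace Groth.Agent.S19879

section Helpers

open CategoryTheory CategoryTheory.Limits AlgebraicGeometry TopologicalSpace Opposite

theorem isOpen_zeroLocus_of_pow_le {R : Type u} [CommRing R] [IsNoetherianRing R] (a : Ideal R)
    (k : ℕ) (h : a ^ k ≤ a ^ (k + 1)) : IsOpen (PrimeSpectrum.zeroLocus (a : Set R)) := by
  have hK : a ^ (k + 1) ≤ a ^ (k + 1 + 1) := by
    rw [pow_succ a k, pow_succ a (k + 1)]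
    exact Ideal.mul_mono_left h
  have hchain : ∀ m : ℕ, a ^ (k + 1) ≤ a ^ (k + 1 + m) := by
    intro m
    induction m with
    | zero => exact le_rfl
    | succ m ih =>
      refine hK.trans ?_
      rw [pow_succ a (k + 1), ← add_assoc, pow_succ a (k + 1 + m)]
      exact Ideal.mul_mono_left ih
  have hidem : IsIdempotentElem (a ^ (k + 1)) := by
    change a ^ (k + 1) * a ^ (k + 1) = a ^ (k + 1)
    rw [← pow_add]
    exact le_antisymm (Ideal.pow_le_pow_right (Nat.le_add_right _ _)) (hchain (k + 1))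
  obtain ⟨e, he, hspan⟩ :=
    (Ideal.isIdempotentElem_iff_of_fg _ (IsNoetherian.noetherian (a ^ (k + 1)))).mp hidem
  have h1 : PrimeSpectrum.zeroLocus (a : Set R) = PrimeSpectrum.zeroLocus {e} := by
    rw [← PrimeSpectrum.zeroLocus_pow a (Nat.succ_ne_zero k), hspan, PrimeSpectrum.zeroLocus_span]
  rw [h1, ← PrimeSpectrum.basicOpen_eq_zeroLocus_of_mul_add (1 - e) e (by
    rw [sub_mul, one_mul, he.eq, sub_self]) (by ring)]
  exact (PrimeSpectrum.basicOpen (1 - e)).2

/-- inverse images of ideal sheaves commute with powers. -/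
theorem comap_pow {X Y : Scheme.{u}} (f : X ⟶ Y) (A : Y.IdealSheafData) (k : ℕ) :
    (A ^ k).comap f = (A.comap f) ^ k := by
  have hloc : ∀ t : X, ∃ U' : X.affineOpens, t ∈ U'.1 ∧
      ((A ^ k).comap f).ideal U' = ((A.comap f) ^ k).ideal U' := by
    intro t
    obtain ⟨V, hV, htV, -⟩ := exists_isAffineOpen_mem_and_subset (x := f t) (U := ⊤) trivial
    obtain ⟨U', hU', htU', hle⟩ :=
      exists_isAffineOpen_mem_and_subset (x := t) (U := f ⁻¹ᵁ V) htV
    refine ⟨⟨U', hU'⟩, htU', ?_⟩
    rw [Groth.Agent.Lib.Helper29.EffCart.ideal_comap_eq_map (A ^ k) f ⟨V, hV⟩ ⟨U', hU'⟩ hle,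
      Scheme.IdealSheafData.ideal_pow, Pi.pow_apply, Scheme.IdealSheafData.ideal_pow, Pi.pow_apply,
      Groth.Agent.Lib.Helper29.EffCart.ideal_comap_eq_map A f ⟨V, hV⟩ ⟨U', hU'⟩ hle, Ideal.map_pow]
  choose U hU h using hloc
  refine Scheme.IdealSheafData.ext_of_iSup_eq_top U ?_ h
  rw [eq_top_iff]
  intro z _
  exact TopologicalSpace.Opens.mem_iSup.mpr ⟨z, hU z⟩

/-- a point having an open neighbourhood with discrete subspace topology is an open point. -/
theorem isOpen_singleton_of_discrete_nhd {α : Type*} [TopologicalSpace α] (O : Set α)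
    (hO : IsOpen O) (hd : DiscreteTopology O) (w : α) (hw : w ∈ O) : IsOpen ({w} : Set α) := by
  have h1 : IsOpen ({⟨w, hw⟩} : Set O) := isOpen_discrete _
  have h2 := hO.isOpenMap_subtype_val _ h1
  simpa using h2

end Helpers

open AlgebraicGeometry CategoryTheory CategoryTheory.Limits in
/-- Let k₀ be a finite field with p^e elements, K an algebraic closure of k₀, C₀ a scheme of finite type
over k₀, C = C₀ ×_{k₀} Spec K with its projections, and Fr : C → C the n-th power of the geometric
Frobenius (over K, compatible with the (e·n)-th power of the absolute p-Frobenius of C₀). Let X be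
locally of finite type over K and c₁, c₂ : C → X morphisms over K with c₂ locally quasi-finite, and
let d < p^(e n) be such that for every closed point x of X, with J_x the inverse image under c₂ of
the ideal sheaf of the reduced point x, one has (√J_x)^d ⊂ J_x (so p^(e n) exceeds the ramification
degree of c₂). Then the scheme of fixed points of the twisted correspondence (c₁ ∘ Fr, c₂), namely
the pullback of (c₁ ∘ Fr, c₂) : C → X ×_K X along the diagonal of X, has finite and discrete
underlying topological space. (In the source X, c₁ and c₂ are also defined over k₀ and all schemes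
are separated; neither is needed here.) -/
theorem result {C C₀ X Fx : Scheme.{u}}
    (p : ℕ) [Fact p.Prime] (k₀ : Type u) [Field k₀] [Fintype k₀] [CharP k₀ p] (e : ℕ)
    (hq : Fintype.card k₀ = p ^ e) (K : Type u) [Field K] [Algebra k₀ K] [IsAlgClosure k₀ K]
    (f₀ : C₀ ⟶ Spec (CommRingCat.of k₀)) [LocallyOfFiniteType f₀] [QuasiCompact f₀] [FrobSch.IsCharP C₀ p]
    (πC₀ : C ⟶ C₀) (πK : C ⟶ Spec (CommRingCat.of K))
    (hC : IsPullback πC₀ πK f₀ (Spec.map (CommRingCat.ofHom (algebraMap k₀ K))))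
    (n : ℕ) (Fr : C ⟶ C)
    (hFr₀ : Fr ≫ πC₀ = πC₀ ≫ End.asHom (End.of (FrobSch.frob C₀ p) ^ (e * n)))
    (hFrK : Fr ≫ πK = πK)
    (pX : X ⟶ Spec (CommRingCat.of K)) [LocallyOfFiniteType pX]
    (c₁ c₂ : C ⟶ X) (hc₁ : c₁ ≫ pX = πK) (hc₂ : c₂ ≫ pX = πK)
    [LocallyQuasiFinite c₂] [LocallyOfFiniteType c₂]
    (hcomm : (Fr ≫ c₁) ≫ pX = c₂ ≫ pX) (d : ℕ) (hn : d < p ^ (e * n))
    (hd : ∀ (x : X) (hx : IsClosed ({x} : Set X)),
      ((Scheme.IdealSheafData.vanishingIdeal ⟨{x}, hx⟩).comap c₂).radical ^ d ≤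
        (Scheme.IdealSheafData.vanishingIdeal ⟨{x}, hx⟩).comap c₂)
    (i : Fx ⟶ C) (δ : Fx ⟶ X) (hF : IsPullback i δ (pullback.lift (Fr ≫ c₁) c₂ hcomm) (pullback.diagonal pX)) :
    Finite Fx ∧ DiscreteTopology Fx := by
  haveI : IsAlgClosed K := IsAlgClosure.isAlgClosed k₀
  -- the two composites agree on `Fx`
  have hδ1 : i ≫ Fr ≫ c₁ = δ := by
    have h := congrArg (· ≫ pullback.fst pX pX) hF.w
    simp only [Category.assoc, pullback.lift_fst, pullback.diagonal_fst, Category.comp_id] at h
    exact h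
  have hδ2 : i ≫ c₂ = δ := by
    have h := congrArg (· ≫ pullback.snd pX pX) hF.w
    simp only [Category.assoc, pullback.lift_snd, pullback.diagonal_snd, Category.comp_id] at h
    exact h
  -- finiteness properties
  haveI : LocallyOfFiniteType (pullback.diagonal pX) :=
    locallyOfFiniteType_of_comp (pullback.diagonal pX) (pullback.fst pX pX)
  haveI : IsImmersion i := MorphismProperty.of_isPullback (P := @IsImmersion) hF.flip inferInstance
  haveI : LocallyOfFiniteType i :=
    MorphismProperty.of_isPullback (P := @LocallyOfFiniteType) hF.flip inferInstance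
  haveI : LocallyOfFiniteType πK :=
    MorphismProperty.of_isPullback (P := @LocallyOfFiniteType) hC inferInstance
  haveI : QuasiCompact πK :=
    MorphismProperty.of_isPullback (P := @QuasiCompact) hC inferInstance
  haveI : JacobsonSpace X := LocallyOfFiniteType.jacobsonSpace pX
  haveI : JacobsonSpace Fx := LocallyOfFiniteType.jacobsonSpace (i ≫ πK)
  haveI : IsLocallyNoetherian C := LocallyOfFiniteType.isLocallyNoetherian πK
  haveI : IsLocallyNoetherian Fx := LocallyOfFiniteType.isLocallyNoetherian i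
  haveI : CompactSpace C := QuasiCompact.compactSpace_of_compactSpace πK
  haveI : IsNoetherian C := {}
  haveI : TopologicalSpace.NoetherianSpace Fx := i.isEmbedding.isInducing.noetherianSpace
  haveI : LocallyOfFiniteType δ := by rw [← hδ2]; infer_instance
  -- closed points are open
  have hopen : ∀ w : Fx, IsClosed ({w} : Set Fx) → IsOpen ({w} : Set Fx) := by
    intro w hwcl
    have hx : IsClosed ({δ w} : Set X) :=
      (mem_closedPoints_iff).mp (δ.closePoints_subset_preimage_closedPoints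
        ((mem_closedPoints_iff).mpr hwcl))
    obtain ⟨W, hFixW, -, k, hLJk⟩ := Groth.Agent.S18397.result p k₀ e hq K f₀ πC₀ πK hC n Fr hFr₀
      hFrK pX c₁ c₂ hc₁ hc₂ hcomm d hn hd (δ w) hx
    have hwW : i w ∈ W := by
      apply hFixW
      refine ⟨δ w, ?_⟩
      have := congr($(hF.w) w)
      simp only [Scheme.Hom.comp_apply] at this
      exact this.symm
    -- restrict to `T = i⁻¹ W`
    set T : Fx.Opens := i ⁻¹ᵁ W with hT
    set Ix := Scheme.IdealSheafData.vanishingIdeal ⟨{δ w}, hx⟩ with hIx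
    have e_L : (Ix.comap (W.ι ≫ Fr ≫ c₁)).comap (i ∣_ W) = Ix.comap (T.ι ≫ δ) := by
      rw [← Scheme.IdealSheafData.comap_comp]
      congr 1
      rw [← Category.assoc, morphismRestrict_ι, Category.assoc, hδ1]
    have e_J : (Ix.comap (W.ι ≫ c₂)).comap (i ∣_ W) = Ix.comap (T.ι ≫ δ) := by
      rw [← Scheme.IdealSheafData.comap_comp]
      congr 1
      rw [← Category.assoc, morphismRestrict_ι, Category.assoc, hδ2]
    have hpow : (Ix.comap (T.ι ≫ δ)) ^ k ≤ (Ix.comap (T.ι ≫ δ)) ^ (k + 1) := by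
      calc (Ix.comap (T.ι ≫ δ)) ^ k = ((Ix.comap (W.ι ≫ Fr ≫ c₁)).comap (i ∣_ W)) ^ k := by
            rw [e_L]
        _ = ((Ix.comap (W.ι ≫ Fr ≫ c₁)) ^ k).comap (i ∣_ W) := (comap_pow _ _ _).symm
        _ ≤ ((Ix.comap (W.ι ≫ c₂)) ^ (k + 1)).comap (i ∣_ W) :=
            Scheme.IdealSheafData.comap_mono _ hLJk
        _ = ((Ix.comap (W.ι ≫ c₂)).comap (i ∣_ W)) ^ (k + 1) := comap_pow _ _ _
        _ = (Ix.comap (T.ι ≫ δ)) ^ (k + 1) := by rw [e_J]
    -- an affine neighbourhood of `w` in `T`
    obtain ⟨U', hU', hwU', -⟩ :=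
      exists_isAffineOpen_mem_and_subset (X := (T : Scheme.{u})) (x := (⟨w, hwW⟩ : T)) (U := ⊤) trivial
    haveI : IsNoetherianRing Γ((T : Scheme.{u}), U') :=
      IsLocallyNoetherian.component_noetherian ⟨U', hU'⟩
    have hak := hpow ⟨U', hU'⟩
    rw [Scheme.IdealSheafData.ideal_pow, Scheme.IdealSheafData.ideal_pow, Pi.pow_apply,
      Pi.pow_apply] at hak
    have hopenZ := isOpen_zeroLocus_of_pow_le _ k hak
    have hO : IsOpen (((Ix.comap (T.ι ≫ δ)).support : Set T) ∩ U') := by
      rw [Scheme.IdealSheafData.coe_support_inter _ ⟨U', hU'⟩, ← hU'.fromSpec_image_zeroLocus]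
      exact hU'.fromSpec.isOpenEmbedding.isOpenMap _ hopenZ
    have hsupp : ((Ix.comap (T.ι ≫ δ)).support : Set T) = (T.ι ≫ δ) ⁻¹' {δ w} := by
      rw [Scheme.IdealSheafData.support_comap]
      change (T.ι ≫ δ) ⁻¹' (Ix.support : Set X) = _
      rw [hIx, Scheme.IdealSheafData.coe_support_vanishingIdeal]
      rfl
    have hwO : (⟨w, hwW⟩ : T) ∈ ((Ix.comap (T.ι ≫ δ)).support : Set T) ∩ U' := by
      refine ⟨?_, hwU'⟩
      rw [hsupp]
      rfl
    -- discreteness of the neighbourhood
    have hdisc : DiscreteTopology (((Ix.comap (T.ι ≫ δ)).support : Set T) ∩ U' : Set T) := by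
      haveI : DiscreteTopology (c₂ ⁻¹' {δ w}) :=
        isDiscrete_iff_discreteTopology.mp (c₂.isDiscrete_preimage_singleton (δ w))
      let g : (((Ix.comap (T.ι ≫ δ)).support : Set T) ∩ U' : Set T) → (c₂ ⁻¹' {δ w}) :=
        fun t => ⟨(T.ι ≫ i) t.1, by
          have h1 : t.1 ∈ (T.ι ≫ δ) ⁻¹' {δ w} := hsupp ▸ t.2.1
          have h2 : (T.ι ≫ δ) t.1 = c₂ ((T.ι ≫ i) t.1) := by
            have := congr($(hδ2) (T.ι t.1))
            simp only [Scheme.Hom.comp_apply] at this ⊢
            exact this.symm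
          rw [Set.mem_preimage, Set.mem_singleton_iff] at h1 ⊢
          rw [← h2]; exact h1⟩
      have hgc : Continuous g :=
        ((T.ι ≫ i).continuous.comp continuous_subtype_val).subtype_mk _
      have hgi : Function.Injective g := by
        intro t t' htt
        have h1 : (T.ι ≫ i) t.1 = (T.ι ≫ i) t'.1 := congrArg Subtype.val htt
        have h2 : Function.Injective (T.ι ≫ i) := by
          rw [Scheme.Hom.comp_base, TopCat.coe_comp]
          exact i.isEmbedding.injective.comp T.ι.isEmbedding.injective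
        exact Subtype.ext (h2 h1)
      exact DiscreteTopology.of_continuous_injective hgc hgi
    have h1 := isOpen_singleton_of_discrete_nhd _ hO hdisc ⟨w, hwW⟩ hwO
    have h2 := T.ι.isOpenEmbedding.isOpenMap _ h1
    simpa using h2
  -- all points are open
  have hall : ∀ w : Fx, IsOpen ({w} : Set Fx) := by
    intro w
    obtain ⟨w₀, hw₀mem, hw₀closed⟩ :=
      (isClosed_closure (s := ({w} : Set Fx))).exists_closed_singleton ⟨w, subset_closure rfl⟩
    have ho := hopen w₀ hw₀closed
    have hw : w = w₀ := by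
      obtain ⟨y, hy1, hy2⟩ := mem_closure_iff.mp hw₀mem {w₀} ho rfl
      rw [Set.mem_singleton_iff] at hy1 hy2
      rw [← hy2, hy1]
    rw [hw]
    exact ho
  haveI : DiscreteTopology Fx := discreteTopology_iff_isOpen_singleton.mpr hall
  exact ⟨finite_of_compact_of_discrete, inferInstance⟩

end Groth.Agent.S19879
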