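import Groth.Statements.S19878
import Groth.Agent.S19879

set_option autoImplicit false
universe u
open LVCorr

namespace Groth.Agent.S19878

open AlgebraicGeometry CategoryTheory CategoryTheory.Limits in
/-- Let k be a field, C a k-scheme of finite type, X a k-scheme and c = (c₁, c₂) : C → X ×_k X a
correspondence; let Fix(c) = C ×_{X ×_k X} X be its scheme of fixed points (pullback along the
diagonal), with projections i : Fix(c) → C and δ : Fix(c) → X. Let Z ⊂ X be the closed subscheme of
a quasi-coherent ideal I and suppose c is contracting near Z in a neighbourhood of the fixed points: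
there is an open W ⊆ C containing the image of Fix(c) such that on W the inverse image ideal of I
under c₁ is contained in the inverse image ideal of I under c₂ (c stabilizes Z on W) and some power
(I·O_W via c₁)^k₀ is contained in (I·O_W via c₂)^(k₀+1). Then every connected open subset β of
Fix(c) whose image under δ meets Z is contained, as a set, in δ⁻¹(Z). (The source works with
separated schemes of finite type over an algebraically closed field; this row assumes only that C is
of finite type over a field k.) -/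
theorem result {C X Fx : Scheme.{u}} (k : Type u) [Field k]
    (pC : C ⟶ Spec (CommRingCat.of k)) [LocallyOfFiniteType pC] [QuasiCompact pC]
    (pX : X ⟶ Spec (CommRingCat.of k)) (c₁ c₂ : C ⟶ X) (hc : c₁ ≫ pX = c₂ ≫ pX)
    (i : Fx ⟶ C) (δ : Fx ⟶ X) (hF : IsPullback i δ (pullback.lift c₁ c₂ hc) (pullback.diagonal pX))
    (I : X.IdealSheafData) (W : C.Opens) (hW : Set.range i.base ⊆ (W : Set C))
    (hle : I.comap (W.ι ≫ c₁) ≤ I.comap (W.ι ≫ c₂))
    (k₀ : ℕ) (hpow : I.comap (W.ι ≫ c₁) ^ k₀ ≤ I.comap (W.ι ≫ c₂) ^ (k₀ + 1))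
    (β : Fx.Opens) (hβ : _root_.IsConnected (β : Set Fx))
    (hβZ : (δ.base '' (β : Set Fx) ∩ (I.support : Set X)).Nonempty) :
    (β : Set Fx) ⊆ δ.base ⁻¹' (I.support : Set X) := by
  have hδ1 : i ≫ c₁ = δ := by
    have h := congrArg (· ≫ pullback.fst pX pX) hF.w
    simp only [Category.assoc, pullback.lift_fst, pullback.diagonal_fst, Category.comp_id] at h
    exact h
  have hδ2 : i ≫ c₂ = δ := by
    have h := congrArg (· ≫ pullback.snd pX pX) hF.w
    simp only [Category.assoc, pullback.lift_snd, pullback.diagonal_snd, Category.comp_id] at h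
    exact h
  haveI : LocallyOfFiniteType (pullback.diagonal pX ≫ pullback.fst pX pX) := by
    rw [pullback.diagonal_fst]; infer_instance
  haveI : LocallyOfFiniteType (pullback.diagonal pX) :=
    locallyOfFiniteType_of_comp (pullback.diagonal pX) (pullback.fst pX pX)
  haveI : LocallyOfFiniteType i :=
    MorphismProperty.of_isPullback (P := @LocallyOfFiniteType) hF.flip inferInstance
  haveI : IsLocallyNoetherian C := LocallyOfFiniteType.isLocallyNoetherian pC
  haveI : IsLocallyNoetherian Fx := LocallyOfFiniteType.isLocallyNoetherian i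
  -- factor `i` through `W`
  have hrange : Set.range i.base ⊆ Set.range W.ι.base := by
    rw [Scheme.Opens.range_ι]; exact hW
  set j : Fx ⟶ W := IsOpenImmersion.lift W.ι i hrange with hj
  have hjfac : j ≫ W.ι = i := IsOpenImmersion.lift_fac _ _ _
  have e_L : (I.comap (W.ι ≫ c₁)).comap j = I.comap δ := by
    rw [← Scheme.IdealSheafData.comap_comp]
    congr 1
    rw [← Category.assoc, hjfac, hδ1]
  have e_J : (I.comap (W.ι ≫ c₂)).comap j = I.comap δ := by
    rw [← Scheme.IdealSheafData.comap_comp]
    congr 1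
    rw [← Category.assoc, hjfac, hδ2]
  have hpowJ : (I.comap δ) ^ k₀ ≤ (I.comap δ) ^ (k₀ + 1) := by
    calc (I.comap δ) ^ k₀ = ((I.comap (W.ι ≫ c₁)).comap j) ^ k₀ := by rw [e_L]
      _ = ((I.comap (W.ι ≫ c₁)) ^ k₀).comap j := (Groth.Agent.S19879.comap_pow _ _ _).symm
      _ ≤ ((I.comap (W.ι ≫ c₂)) ^ (k₀ + 1)).comap j :=
          Scheme.IdealSheafData.comap_mono _ hpow
      _ = ((I.comap (W.ι ≫ c₂)).comap j) ^ (k₀ + 1) := Groth.Agent.S19879.comap_pow _ _ _
      _ = (I.comap δ) ^ (k₀ + 1) := by rw [e_J]
  -- the support of `I.comap δ` is open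
  have hopen : IsOpen ((I.comap δ).support : Set Fx) := by
    rw [isOpen_iff_forall_mem_open]
    intro t ht
    obtain ⟨U', hU', htU', -⟩ :=
      exists_isAffineOpen_mem_and_subset (X := Fx) (x := t) (U := ⊤) trivial
    haveI : IsNoetherianRing Γ(Fx, U') :=
      IsLocallyNoetherian.component_noetherian ⟨U', hU'⟩
    have hak := hpowJ ⟨U', hU'⟩
    rw [Scheme.IdealSheafData.ideal_pow, Scheme.IdealSheafData.ideal_pow, Pi.pow_apply,
      Pi.pow_apply] at hak
    have hopenZ := Groth.Agent.S19879.isOpen_zeroLocus_of_pow_le _ k₀ hak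
    have hO : IsOpen (((I.comap δ).support : Set Fx) ∩ U') := by
      rw [Scheme.IdealSheafData.coe_support_inter _ ⟨U', hU'⟩, ← hU'.fromSpec_image_zeroLocus]
      exact hU'.fromSpec.isOpenEmbedding.isOpenMap _ hopenZ
    exact ⟨_, Set.inter_subset_left, hO, ht, htU'⟩
  have hsupp : ((I.comap δ).support : Set Fx) = δ.base ⁻¹' (I.support : Set X) := by
    rw [Scheme.IdealSheafData.support_comap]
    rfl
  have hclopen : IsClopen (δ.base ⁻¹' (I.support : Set X)) := by
    refine ⟨?_, hsupp ▸ hopen⟩
    exact (I.support.isClosed).preimage δ.continuous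
  refine hβ.isPreconnected.subset_isClopen hclopen ?_
  obtain ⟨x, ⟨t, htβ, rfl⟩, hx⟩ := hβZ
  exact ⟨t, htβ, hx⟩

end Groth.Agent.S19878
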