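import Groth.Statements.S1988
import Groth.Agent.Lib.Helper18.Eis.Tower

set_option autoImplicit false
universe u
open EtAlg

namespace Groth.Agent.S1988

/-- Let A -> B -> C be extensions of discrete valuation rings (local injective maps) with fraction
fields K ⊂ L ⊂ M₀ and K₁/K a finite extension. (The solution predicates mention only B, C and the
fields: in them the bottom ring is recovered as B ∩ K, which the hypotheses on A force to be A.) If
K₁ is a weak solution (resp. a solution) for A -> C then it is a weak solution (resp. a solution)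
for A -> B. -/
theorem result (A B C K L M₀ K₁ : Type u) [CommRing A] [IsDomain A] [IsDiscreteValuationRing A]
    [CommRing B] [IsDomain B] [IsDiscreteValuationRing B] [Algebra A B] [IsLocalHom (algebraMap A B)]
    (hinjA : Function.Injective (algebraMap A B))
    [CommRing C] [IsDomain C] [IsDiscreteValuationRing C] [Algebra B C] [IsLocalHom (algebraMap B C)]
    (hinj : Function.Injective (algebraMap B C))
    [Field K] [Field L] [Field M₀] [Field K₁] [Algebra K L] [Algebra K M₀] [Algebra L M₀] [IsScalarTower K L M₀]
    [Algebra K K₁] [FiniteDimensional K K₁] [Algebra A K] [IsFractionRing A K]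
    [Algebra B L] [IsFractionRing B L] [Algebra A L] [IsScalarTower A K L] [IsScalarTower A B L]
    [Algebra C M₀] [IsFractionRing C M₀] [Algebra B M₀]
    [IsScalarTower B C M₀] [IsScalarTower B L M₀] :
    (EtRam.IsWeakSolution C K M₀ K₁ → EtRam.IsWeakSolution B K L K₁) ∧
    (EtRam.IsSolution C K M₀ K₁ → EtRam.IsSolution B K L K₁) := by
  -- the common part: from the data for `B` build the data for `C`
  have key : ∀ (M' : Type u) [Field M'] [Algebra K M'] [Algebra L M'] [Algebra K₁ M']
      [IsScalarTower K L M'] [IsScalarTower K K₁ M'],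
      Algebra.adjoin L (Set.range (algebraMap K₁ M')) = ⊤ →
      ∀ (W' : ValuationSubring M'),
        EtRam.Dominates B ((algebraMap L M').comp (algebraMap B L)) W' →
      ∃ (M : Type u) (_ : Field M) (_ : Algebra K M) (_ : Algebra M₀ M) (_ : Algebra K₁ M)
        (_ : IsScalarTower K M₀ M) (_ : IsScalarTower K K₁ M) (j : M' →+* M)
        (W : ValuationSubring M),
        Algebra.adjoin M₀ (Set.range (algebraMap K₁ M)) = ⊤ ∧
        EtRam.Dominates C ((algebraMap M₀ M).comp (algebraMap C M₀)) W ∧
        W.comap j = W' ∧ algebraMap K₁ M = j.comp (algebraMap K₁ M') := by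
    intro M' _ _ _ _ _ _ hadj W' hW'
    -- `M'` is algebraic over `L`
    have hint : ∀ y : K₁, IsIntegral L (algebraMap K₁ M' y) := by
      intro y
      have h1 : IsIntegral K y := Algebra.IsIntegral.isIntegral y
      have h2 : IsIntegral K (algebraMap K₁ M' y) := h1.map (IsScalarTower.toAlgHom K K₁ M')
      exact h2.tower_top
    haveI : Algebra.IsAlgebraic L M' := by
      have hle : Algebra.adjoin L (Set.range (algebraMap K₁ M')) ≤ integralClosure L M' :=
        Algebra.adjoin_le (by rintro _ ⟨y, rfl⟩; exact hint y)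
      rw [hadj] at hle
      exact ⟨fun x => (hle (Algebra.mem_top : x ∈ ⊤)).isAlgebraic⟩
    obtain ⟨M, hM, j, j₀, W, hcomm, hdom, hcomap, hgen⟩ :=
      Groth.Agent.Lib.Helper18.Eis.exists_common_extension (B := B) (C := C) (L := L)
        (M₀ := M₀) (M' := M') hinj W' hW'
    letI : Field M := hM
    letI aM₀ : Algebra M₀ M := j₀.toAlgebra
    letI aK₁ : Algebra K₁ M := (j.comp (algebraMap K₁ M')).toAlgebra
    letI aK : Algebra K M := (j₀.comp (algebraMap K M₀)).toAlgebra
    haveI t1 : IsScalarTower K M₀ M := IsScalarTower.of_algebraMap_eq (fun x => rfl)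
    haveI t2 : IsScalarTower K K₁ M := IsScalarTower.of_algebraMap_eq (fun x => by
      show j₀ (algebraMap K M₀ x) = j (algebraMap K₁ M' (algebraMap K K₁ x))
      rw [← IsScalarTower.algebraMap_apply K K₁ M', IsScalarTower.algebraMap_apply K L M',
        IsScalarTower.algebraMap_apply K L M₀]
      exact (RingHom.congr_fun hcomm (algebraMap K L x)).symm)
    refine ⟨M, hM, aK, aM₀, aK₁, t1, t2, j, W, ?_, hdom, hcomap, rfl⟩
    -- generation
    set Ad : Subalgebra M₀ M := Algebra.adjoin M₀ (Set.range (algebraMap K₁ M)) with hAd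
    have hAdint : ∀ x ∈ Ad, IsIntegral M₀ x := by
      have hle : Ad ≤ integralClosure M₀ M :=
        Algebra.adjoin_le (by
          rintro _ ⟨y, rfl⟩
          have h1 : IsIntegral K y := Algebra.IsIntegral.isIntegral y
          have h2 : IsIntegral K (algebraMap K₁ M y) := h1.map (IsScalarTower.toAlgHom K K₁ M)
          exact h2.tower_top)
      exact fun x hx => hle hx
    have hjmem : ∀ x : M', j x ∈ Ad := by
      intro x
      have hx : x ∈ Algebra.adjoin L (Set.range (algebraMap K₁ M')) := by rw [hadj]; trivial
      induction hx using Algebra.adjoin_induction with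
      | mem x hx =>
        obtain ⟨y, rfl⟩ := hx
        exact Algebra.subset_adjoin ⟨y, rfl⟩
      | algebraMap l =>
        have : j (algebraMap L M' l) = algebraMap M₀ M (algebraMap L M₀ l) :=
          RingHom.congr_fun hcomm l
        rw [this]; exact Ad.algebraMap_mem _
      | add x y _ _ hx hy => rw [map_add]; exact Ad.add_mem hx hy
      | mul x y _ _ hx hy => rw [map_mul]; exact Ad.mul_mem hx hy
    have htop := hgen Ad.toSubring hjmem (fun y => Ad.algebraMap_mem y) (fun s hs => by
      have hs' : s ∈ Ad := hs
      exact Ad.inv_mem_of_algebraic (x := ⟨s, hs'⟩) (hAdint s hs').isAlgebraic)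
    exact Subalgebra.toSubring_injective (by rw [htop]; rfl)
  constructor
  · intro hC M' _ _ _ _ _ _ hadj W' hW'
    obtain ⟨M, hM, aK, aM₀, aK₁, t1, t2, j, W, hadjM, hdom, hcomap, hf⟩ :=
      key M' hadj W' hW'
    have h := @hC M hM aK aM₀ aK₁ t1 t2 hadjM W hdom
    subst hcomap
    have h' : Ideal.map (EtRam.inclOfComap W (j.comp (algebraMap K₁ M')))
        (IsLocalRing.maximalIdeal (W.comap (j.comp (algebraMap K₁ M')))) =
          IsLocalRing.maximalIdeal W := by
      rw [← hf]; exact h
    exact Groth.Agent.Lib.Helper18.Eis.weaklyUnramified_descend W j (algebraMap K₁ M') h'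
  · intro hC M' _ _ _ _ _ _ hadj W' hW'
    obtain ⟨M, hM, aK, aM₀, aK₁, t1, t2, j, W, hadjM, hdom, hcomap, hf⟩ :=
      key M' hadj W' hW'
    have h := @hC M hM aK aM₀ aK₁ t1 t2 hadjM W hdom
    subst hcomap
    have h' : Ideal.map (EtRam.inclOfComap W (j.comp (algebraMap K₁ M')))
        (IsLocalRing.maximalIdeal (W.comap (j.comp (algebraMap K₁ M')))) =
          IsLocalRing.maximalIdeal W ∧
        @Algebra.IsGeometricallyReduced
          (IsLocalRing.ResidueField (W.comap (j.comp (algebraMap K₁ M'))))
          (IsLocalRing.ResidueField W) _ _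
          (IsLocalRing.ResidueField.map
            (EtRam.inclOfComap W (j.comp (algebraMap K₁ M')))).toAlgebra := by
      rw [← hf]; exact h
    exact ⟨Groth.Agent.Lib.Helper18.Eis.weaklyUnramified_descend W j (algebraMap K₁ M') h'.1,
      Groth.Agent.Lib.Helper18.Eis.geomRed_descend W j (algebraMap K₁ M') h'.2⟩

end Groth.Agent.S1988
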