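import Groth.Statements.S19890
import Groth.Agent.Lib.helper10.UfdDescent

set_option autoImplicit false
universe u
open CAlg

namespace Groth.Agent.S19890

/-- Let R → R' be a faithfully flat ring map between Noetherian integrally closed local domains. Then
unique factorization descends along this map: when R' is a UFD, so is R. (The first assertion of the
lemma, descent of principality for an ideal whose extension to R' is principal, is a separate
statement.) -/
theorem result
    (R R' : Type u) [CommRing R] [CommRing R'] [IsDomain R] [IsDomain R']
    [IsNoetherianRing R] [IsNoetherianRing R'] [IsLocalRing R] [IsLocalRing R']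
    [IsIntegrallyClosed R] [IsIntegrallyClosed R']
    [Algebra R R'] [Module.FaithfullyFlat R R'] [UniqueFactorizationMonoid R'] :
    UniqueFactorizationMonoid R := by
  haveI : IsLocalHom (algebraMap R R') := by
    constructor
    intro a ha
    have h1 : (Ideal.span {a}).map (algebraMap R R') = ⊤ := by
      rw [Ideal.map_span, Set.image_singleton, Ideal.span_singleton_eq_top]
      exact ha
    have h2 := Ideal.comap_map_eq_self_of_faithfullyFlat (B := R') (Ideal.span {a})
    rw [h1, Ideal.comap_top] at h2
    exact Ideal.span_singleton_eq_top.mp h2.symm
  exact (H10S2833.main (A := R) (B := R') inferInstance).2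

end Groth.Agent.S19890
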