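import Groth.Statements.S19891
-- import your own Groth.Agent.* helpers here
import Groth.Agent.Lib.Helper13.Dominant

set_option autoImplicit false
universe u
open CategoryTheory AlgebraicGeometry
open ValCrit

namespace Groth.Agent.S19891

section
open IsLocalRing CategoryTheory.Limits

theorem specializingMap_diagonal {X Y Z : Scheme.{u}} (h : Z ⟶ Y) (f : Y ⟶ X) [QuasiCompact h]
    (hd : DenseRange h.base)
    (H : ∀ (z : ↥Z) (R : ValuationSubring ↑(Z.residueField z)) (φ : Spec (CommRingCat.of ↥R) ⟶ X),
        Spec.map (CommRingCat.ofHom R.subtype) ≫ φ = Z.fromSpecResidueField z ≫ h ≫ f →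
        ∀ φ₁ φ₂ : Spec (CommRingCat.of ↥R) ⟶ Y,
          Spec.map (CommRingCat.ofHom R.subtype) ≫ φ₁ = Z.fromSpecResidueField z ≫ h → φ₁ ≫ f = φ →
          Spec.map (CommRingCat.ofHom R.subtype) ≫ φ₂ = Z.fromSpecResidueField z ≫ h → φ₂ ≫ f = φ →
          φ₁ = φ₂) :
    SpecializingMap (pullback.diagonal f).base := by
  intro y w hsp
  obtain ⟨z, hz⟩ := Groth.Agent.Lib.Helper13.Dominant.exists_specializes_of_denseRange h hd y
  have hsp' : (h ≫ pullback.diagonal f).base z ⤳ w := by
    rw [Scheme.Hom.comp_apply]
    exact (hz.map (pullback.diagonal f).continuous).trans hsp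
  obtain ⟨R, k, hcl, hcomp⟩ :=
    Groth.Agent.Lib.Helper13.Dominant.exists_valuationSubring_of_specializes
      (h ≫ pullback.diagonal f) z w hsp'
  have e1 : Spec.map (CommRingCat.ofHom R.subtype) ≫ k ≫ pullback.fst f f =
      Z.fromSpecResidueField z ≫ h := by
    rw [← Category.assoc, hcomp, Category.assoc, Category.assoc, pullback.diagonal_fst,
      Category.comp_id]
  have e2 : Spec.map (CommRingCat.ofHom R.subtype) ≫ k ≫ pullback.snd f f =
      Z.fromSpecResidueField z ≫ h := by
    rw [← Category.assoc, hcomp, Category.assoc, Category.assoc, pullback.diagonal_snd,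
      Category.comp_id]
  have h12 : k ≫ pullback.fst f f = k ≫ pullback.snd f f := by
    apply H z R ((k ≫ pullback.fst f f) ≫ f)
    · rw [← Category.assoc, e1, Category.assoc]
    · exact e1
    · rfl
    · exact e2
    · rw [Category.assoc, Category.assoc, pullback.condition]
  have hfac : k = (k ≫ pullback.fst f f) ≫ pullback.diagonal f := by
    apply pullback.hom_ext
    · simp
    · simp [h12]
  have hw : (pullback.diagonal f).base ((k ≫ pullback.fst f f).base (closedPoint R)) = w := by
    rw [← Scheme.Hom.comp_apply, ← hfac, hcl]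
  refine ⟨(k ≫ pullback.fst f f).base (closedPoint R), ?_, hw⟩
  have hind : Topology.IsInducing (pullback.diagonal f).base :=
    (pullback.diagonal f).isEmbedding.isInducing
  change y ⤳ _
  rw [← hind.specializes_iff, hw]
  exact hsp

end

/-- Let h : Z → Y and f : Y → X be morphisms of quasi-compact quasi-separated schemes, with h dominant.
Then f is separated if and only if the following refined uniqueness criterion holds: for every point
z of Z, every valuation ring R of the residue field κ(z) and every morphism φ : Spec R → X whose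
restriction to Spec κ(z) is the canonical morphism Spec κ(z) → Z → Y → X, any two morphisms Spec R →
Y lying over φ and restricting to Spec κ(z) → Z → Y on the generic point coincide. (The published
statement does not require h to be dominant; its proof uses that every point of Y generalises to a
point of h(Z), and for Z empty the criterion holds whatever f is, so dominance of h is assumed
here.) -/
theorem result {X Y Z : Scheme.{u}} (h : Z ⟶ Y) (f : Y ⟶ X)
    [CompactSpace ↥Z] [QuasiSeparatedSpace ↥Z] [CompactSpace ↥Y] [QuasiSeparatedSpace ↥Y]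
    [CompactSpace ↥X] [QuasiSeparatedSpace ↥X] (hd : DenseRange h.base) :
    IsSeparated f ↔
      ∀ (z : ↥Z) (R : ValuationSubring ↑(Z.residueField z)) (φ : Spec (CommRingCat.of ↥R) ⟶ X),
        Spec.map (CommRingCat.ofHom R.subtype) ≫ φ = Z.fromSpecResidueField z ≫ h ≫ f →
        ∀ φ₁ φ₂ : Spec (CommRingCat.of ↥R) ⟶ Y,
          Spec.map (CommRingCat.ofHom R.subtype) ≫ φ₁ = Z.fromSpecResidueField z ≫ h → φ₁ ≫ f = φ →
          Spec.map (CommRingCat.ofHom R.subtype) ≫ φ₂ = Z.fromSpecResidueField z ≫ h → φ₂ ≫ f = φ →
          φ₁ = φ₂ := by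
  constructor
  · intro hsep z R φ hφ φ₁ φ₂ h1 h1' h2 h2'
    have huniq := IsSeparated.valuativeCriterion f
    let Sq : ValuativeCommSq f :=
      { R := R, K := Z.residueField z,
        i₁ := Z.fromSpecResidueField z ≫ h,
        i₂ := φ, commSq := ⟨by rw [Category.assoc, ← hφ]; rfl⟩ }
    have := huniq Sq
    let m₁ : Sq.commSq.LiftStruct := ⟨φ₁, h1, h1'⟩
    let m₂ : Sq.commSq.LiftStruct := ⟨φ₂, h2, h2'⟩
    exact congrArg CommSq.LiftStruct.l (Subsingleton.elim m₁ m₂)
  · intro H
    have hspec := specializingMap_diagonal h f hd H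
    have hqs : QuasiSeparated f := inferInstance
    have hqc : QuasiCompact (Limits.pullback.diagonal f) := hqs.1
    have hclosed : IsClosedMap (Limits.pullback.diagonal f).base :=
      (isClosedMap_iff_specializingMap (Limits.pullback.diagonal f)).mpr hspec
    exact ⟨IsClosedImmersion.of_isPreimmersion _ hclosed.isClosed_range⟩

end Groth.Agent.S19891
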