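import Groth.Statements.S19892
-- import your own Groth.Agent.* helpers here
import Groth.Agent.S19891
import Groth.Agent.Lib.Helper13.Dominant

set_option autoImplicit false
universe u
open CategoryTheory AlgebraicGeometry
open ValCrit

namespace Groth.Agent.S19892

/-- Let h : Z → Y and f : Y → X be morphisms of quasi-compact quasi-separated schemes, with h dominant
and f locally of finite type. Then f is proper if and only if the following refined valuative
criterion holds: for every point z of Z, every valuation ring R of the residue field κ(z) and every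
morphism φ : Spec R → X whose restriction to Spec κ(z) is the canonical morphism Spec κ(z) → Z → Y →
X, there is exactly one morphism Spec R → Y lying over φ and restricting to Spec κ(z) → Z → Y on the
generic point. (The published statement does not require h to be dominant; its proof uses that every
point of Y generalises to a point of h(Z), and for Z empty the criterion holds whatever f is, so
dominance of h is assumed here.) -/
theorem result {X Y Z : Scheme.{u}} (h : Z ⟶ Y) (f : Y ⟶ X)
    [CompactSpace ↥Z] [QuasiSeparatedSpace ↥Z] [CompactSpace ↥Y] [QuasiSeparatedSpace ↥Y]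
    [CompactSpace ↥X] [QuasiSeparatedSpace ↥X] (hd : DenseRange h.base)
    [LocallyOfFiniteType f] :
    IsProper f ↔
      ∀ (z : ↥Z) (R : ValuationSubring ↑(Z.residueField z)) (φ : Spec (CommRingCat.of ↥R) ⟶ X),
        Spec.map (CommRingCat.ofHom R.subtype) ≫ φ = Z.fromSpecResidueField z ≫ h ≫ f →
        ∃! φ' : Spec (CommRingCat.of ↥R) ⟶ Y,
          Spec.map (CommRingCat.ofHom R.subtype) ≫ φ' = Z.fromSpecResidueField z ≫ h ∧ φ' ≫ f = φ := by
  constructor
  · intro hproper z R φ hφ
    have hex : ValuativeCriterion f := by
      have h1 := hproper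
      rw [IsProper.eq_valuativeCriterion] at h1
      exact h1.1.1.1
    let Sq : ValuativeCommSq f :=
      { R := R, K := Z.residueField z, i₁ := Z.fromSpecResidueField z ≫ h, i₂ := φ,
        commSq := ⟨by rw [Category.assoc, ← hφ]; rfl⟩ }
    obtain ⟨⟨l⟩⟩ := hex.existence Sq
    refine ⟨l.l, ⟨l.fac_left, l.fac_right⟩, ?_⟩
    rintro l' ⟨h1, h2⟩
    have := hex.uniqueness Sq
    let l₂ : Sq.commSq.LiftStruct := ⟨l', h1, h2⟩
    exact congrArg CommSq.LiftStruct.l (Subsingleton.elim l₂ l)
  · intro H
    have hqch : QuasiCompact h := inferInstance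
    have hqcf : QuasiCompact f := inferInstance
    have hsep : IsSeparated f := by
      rw [Groth.Agent.S19891.result h f hd]
      intro z R φ hφ φ₁ φ₂ h1 h1' h2 h2'
      obtain ⟨l, -, hl⟩ := H z R φ hφ
      rw [hl φ₁ ⟨h1, h1'⟩, hl φ₂ ⟨h2, h2'⟩]
    have himg : ∀ z : Z, Groth.Agent.Lib.Helper13.ValCrit.ResExistenceAt f (h.base z) := by
      intro z A yA hyA
      obtain ⟨R, ι, hι, hRA⟩ :=
        Groth.Agent.Lib.Helper13.Dominant.exists_valuationSubring_extension h z A
      have hιR : CommRingCat.ofHom ι ≫ CommRingCat.ofHom R.subtype =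
          CommRingCat.ofHom A.subtype ≫ h.residueFieldMap z := by
        ext a
        exact hι a
      obtain ⟨φ', ⟨hφ'1, hφ'2⟩, -⟩ := H z R (Spec.map (CommRingCat.ofHom ι) ≫ yA) (by
        rw [← Category.assoc, ← Spec.map_comp, hιR, Spec.map_comp, Category.assoc, ← hyA,
          ← Category.assoc, Scheme.Hom.SpecMap_residueFieldMap_fromSpecResidueField,
          Category.assoc])
      obtain ⟨l, hl1, hl2, -⟩ :=
        Groth.Agent.Lib.Helper13.Dominant.exists_lift_of_extension h f z A yA R ι hι hRA φ'
          hφ'1 hφ'2
      exact ⟨l, hl1, hl2⟩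
    have hall : ∀ y : Y, Groth.Agent.Lib.Helper13.ValCrit.ResExistenceAt f y := by
      intro y
      obtain ⟨z, hz⟩ :=
        Groth.Agent.Lib.Helper13.Dominant.exists_specializes_of_denseRange h hd y
      exact Groth.Agent.Lib.Helper13.ValCrit.resExistenceAt_of_specializes f hz (himg z)
    have huc : UniversallyClosed f :=
      UniversallyClosed.of_valuativeCriterion f fun Sq =>
        Groth.Agent.Lib.Helper13.ValCrit.hasLift_of_resExistenceAt f Sq (hall _)
    exact { }

end Groth.Agent.S19892
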