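import Groth.Statements.S19895
import Mathlib.LinearAlgebra.Vandermonde
import Mathlib.RingTheory.RootsOfUnity.Complex
import Mathlib.Order.WellFounded
import Mathlib.Tactic.Linarith
import Mathlib.Data.Int.ModEq
import Mathlib.Data.Fin.Tuple.Sort
import Mathlib.GroupTheory.Perm.Basic
import Mathlib.Data.Fintype.Perm
import Mathlib.Algebra.Ring.GeomSum
import Mathlib.RingTheory.RootsOfUnity.PrimitiveRoots
import Mathlib.GroupTheory.Perm.Fin
import Mathlib.Logic.Equiv.Fin.Rotate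
import Mathlib.Order.Interval.Finset.Fin
-- import your own Groth.Agent.* helpers here

set_option autoImplicit false
open Complex
open VerlindeComb

namespace Groth.Agent.S19895

noncomputable def D {r : ℕ} (ζ : ℂ) (l n : Fin r → ℕ) : ℂ :=
  (Matrix.of fun i j : Fin r => ζ ^ (l i * n j)).det

lemma D_perm {r : ℕ} (ζ : ℂ) (l n : Fin r → ℕ) (σ : Equiv.Perm (Fin r)) :
    D ζ l (n ∘ σ) = (Equiv.Perm.sign σ : ℤ) * D ζ l n := by
  unfold D
  rw [← Matrix.det_permute' σ]
  rfl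

lemma D_shift {r : ℕ} (ζ : ℂ) (l n : Fin r → ℕ) (s : ℕ) :
    D ζ l (fun j => n j + s) = ζ ^ (s * ∑ i, l i) * D ζ l n := by
  unfold D
  have : (Matrix.of fun i j : Fin r => ζ ^ (l i * (n j + s))) =
      Matrix.of fun i j => ζ ^ (l i * s) * (Matrix.of fun i j : Fin r => ζ ^ (l i * n j)) i j := by
    ext i j
    simp only [Matrix.of_apply]
    rw [mul_add, pow_add, mul_comm]
  rw [this, Matrix.det_mul_column, Finset.prod_pow_eq_pow_sum, ← Finset.sum_mul, mul_comm s]

lemma D_congr {r : ℕ} (ζ : ℂ) (l n n' : Fin r → ℕ) (h : ∀ j, ζ ^ n j = ζ ^ n' j) :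
    D ζ l n = D ζ l n' := by
  unfold D
  congr 1
  ext i j
  simp only [Matrix.of_apply]
  rw [mul_comm, pow_mul, h, ← pow_mul, mul_comm]

lemma D_eq_zero {r : ℕ} (ζ : ℂ) (l n : Fin r → ℕ) {i j : Fin r} (hij : i ≠ j)
    (h : ζ ^ n i = ζ ^ n j) : D ζ l n = 0 := by
  unfold D
  apply Matrix.det_zero_of_column_eq hij
  intro k
  simp only [Matrix.of_apply]
  rw [mul_comm, pow_mul, h, ← pow_mul, mul_comm]

lemma D_expand {r : ℕ} (ζ : ℂ) (l n : Fin r → ℕ) :
    D ζ l n = ∑ w : Equiv.Perm (Fin r), ((Equiv.Perm.sign w : ℤ) : ℂ) * ∏ j, ζ ^ (l (w j) * n j) := by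
  unfold D
  rw [Matrix.det_apply']
  rfl

lemma perm_eq_rev {r : ℕ} (σ : Equiv.Perm (Fin r)) (h : StrictAnti σ) : ∀ i, σ i = Fin.rev i := by
  have h1 : StrictMono (σ ∘ Fin.rev) := by
    intro a b hab
    exact h (Fin.rev_lt_rev.2 hab)
  have h2 : (σ ∘ Fin.rev) = id := by
    rw [← StrictMono.range_inj h1 strictMono_id]
    rw [Set.range_id, Set.range_eq_univ.2]
    exact σ.surjective.comp Fin.rev_surjective
  intro i
  have := congrFun h2 (Fin.rev i)
  simp only [Function.comp_apply, Fin.rev_rev, id] at this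
  exact this

lemma comb {r N : ℕ} (l l' : Fin r → ℕ) (hl : StrictAnti l) (hl' : StrictAnti l')
    (hlN : ∀ i, l i < N) (hl'N : ∀ i, l' i < N) (c : ℕ)
    (hsum : ∑ i, l i + ∑ i, l' i = r * c)
    (σ : Equiv.Perm (Fin r)) (hσ : ∀ i, ((l i + l' (σ i) : ℕ) : ℤ) ≡ (c : ℤ) [ZMOD (N : ℤ)]) :
    ∀ i, l i + l' (Fin.rev i) = c := by
  have hq : ∀ i, ∃ q : ℤ, ((l i + l' (σ i) : ℕ) : ℤ) = c + N * q := by
    intro i
    have := (Int.modEq_iff_dvd.1 (hσ i).symm)
    obtain ⟨q, hq⟩ := this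
    exact ⟨q, by linarith⟩
  choose q hq using hq
  have hsumq : ∑ i, q i = 0 := by
    have h1 : ∑ i, ((l i + l' (σ i) : ℕ) : ℤ) = r * c := by
      have : ∑ i, l' (σ i) = ∑ i, l' i := Equiv.sum_comp σ l'
      rw [← Nat.cast_sum, Finset.sum_add_distrib, this, hsum]
      push_cast; ring
    have h2 : ∑ i, ((l i + l' (σ i) : ℕ) : ℤ) = r * c + N * ∑ i, q i := by
      rw [Finset.sum_congr rfl (fun i _ => hq i), Finset.sum_add_distrib, ← Finset.mul_sum]
      simp
    have h3 : (N : ℤ) * ∑ i, q i = 0 := by linarith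
    rcases mul_eq_zero.1 h3 with h | h
    · rcases isEmpty_or_nonempty (Fin r) with he | ⟨⟨i⟩⟩
      · simp
      · have := hlN i
        have : (N : ℤ) ≠ 0 := by exact_mod_cast (by omega : N ≠ 0)
        contradiction
    · exact h
  have hdiff : ∀ i j, q i - q j ≤ 1 := by
    intro i j
    by_contra hcon
    push_neg at hcon
    have h1 := hq i
    have h2 := hq j
    have h3 := hlN i
    have h4 := hl'N (σ i)
    have h5 : (N : ℤ) * (q i - q j) ≥ N * 2 := by
      apply mul_le_mul_of_nonneg_left (by omega) (by positivity)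
    have h6 : ((l i + l' (σ i) : ℕ) : ℤ) < 2 * N := by
      have : l i + l' (σ i) < 2 * N := by omega
      exact_mod_cast this
    have h7 : (0 : ℤ) ≤ ((l j + l' (σ j) : ℕ) : ℤ) := by positivity
    nlinarith
  have hq0 : ∀ i, q i = 0 := by
    intro i
    rcases lt_trichotomy (q i) 0 with h | h | h
    · exfalso
      have : ∑ j, q j < 0 := by
        apply Finset.sum_neg' (fun j _ => ?_) ⟨i, Finset.mem_univ _, h⟩
        have := hdiff j i
        omega
      omega
    · exact h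
    · exfalso
      have : 0 < ∑ j, q j := by
        apply Finset.sum_pos' (fun j _ => ?_) ⟨i, Finset.mem_univ _, h⟩
        have := hdiff i j
        omega
      omega
  have heq : ∀ i, l i + l' (σ i) = c := by
    intro i
    have := hq i
    rw [hq0 i] at this
    simp at this
    exact_mod_cast this
  have hanti : StrictAnti σ := by
    intro i j hij
    have h1 := hl hij
    have h2 := heq i
    have h3 := heq j
    have h4 : l' (σ i) < l' (σ j) := by omega
    exact (StrictAnti.lt_iff_gt hl').1 h4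
  intro i
  rw [← perm_eq_rev σ hanti i]
  exact heq i

lemma sum_sym {m N : ℕ} (f : (Fin m → ℕ) → ℂ)
    (hsym : ∀ u (σ : Equiv.Perm (Fin m)), f (u ∘ σ) = f u)
    (hvan : ∀ u, ¬ Function.Injective u → f u = 0) :
    ∑ u ∈ Fintype.piFinset (fun _ : Fin m => Finset.range N), f u =
      (m.factorial : ℂ) *
        ∑ v ∈ (Fintype.piFinset (fun _ : Fin m => Finset.range N)).filter StrictMono, f v := by
  classical
  set B := Fintype.piFinset (fun _ : Fin m => Finset.range N) with hB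
  have h1 : ∑ u ∈ B, f u = ∑ u ∈ B.filter Function.Injective, f u := by
    rw [Finset.sum_filter]
    apply Finset.sum_congr rfl
    intro u _
    split_ifs with h
    · rfl
    · exact hvan u h
  rw [h1]
  have h2 : ∑ p ∈ (Finset.univ : Finset (Equiv.Perm (Fin m))) ×ˢ B.filter StrictMono,
      f (p.2 ∘ p.1) = ∑ u ∈ B.filter Function.Injective, f u := by
    apply Finset.sum_nbij (fun p => p.2 ∘ p.1)
    · intro p hp
      simp only [Finset.mem_product, Finset.mem_univ, true_and, Finset.mem_filter, hB,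
        Fintype.mem_piFinset, Finset.mem_range] at hp ⊢
      exact ⟨fun j => hp.1 _, hp.2.injective.comp p.1.injective⟩
    · intro p hp p' hp' heq
      simp only [Finset.coe_product, Finset.coe_univ, Set.mem_prod, Set.mem_univ, true_and,
        Finset.coe_filter, Set.mem_setOf_eq] at hp hp'
      simp only at heq
      have h2 : p.2 = p'.2 := by
        rw [← StrictMono.range_inj hp.2 hp'.2]
        have := congrArg Set.range heq
        rwa [Set.range_comp, Set.range_comp, p.1.surjective.range_eq, p'.1.surjective.range_eq,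
          Set.image_univ, Set.image_univ] at this
      have h1 : p.1 = p'.1 := by
        ext j
        have := congrFun heq j
        simp only [Function.comp_apply] at this
        rw [h2] at this
        exact congrArg _ (hp'.2.injective this)
      exact Prod.ext h1 h2
    · intro u hu
      simp only [Finset.coe_filter, Set.mem_setOf_eq, hB, Fintype.mem_piFinset,
        Finset.mem_range] at hu
      refine ⟨((Tuple.sort u)⁻¹, u ∘ Tuple.sort u), ?_, ?_⟩
      · simp only [Finset.coe_product, Finset.coe_univ, Set.mem_prod, Set.mem_univ, true_and,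
          Finset.coe_filter, Set.mem_setOf_eq, hB, Fintype.mem_piFinset, Finset.mem_range]
        refine ⟨fun j => hu.1 _, ?_⟩
        exact (Tuple.monotone_sort u).strictMono_of_injective
          (hu.2.comp (Tuple.sort u).injective)
      · ext j
        simp
    · intro p _
      rfl
  rw [← h2, Finset.sum_product]
  simp_rw [hsym]
  rw [Finset.sum_const, Finset.card_univ, Fintype.card_perm, Fintype.card_fin, nsmul_eq_mul]

lemma geom_zero {N M : ℕ} {ζ : ℂ} (hζ : IsPrimitiveRoot ζ N) (hM : ¬ N ∣ M) :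
    ∑ t ∈ Finset.range N, (ζ ^ M) ^ t = 0 := by
  have h1 : (ζ ^ M) ^ N = 1 := by
    rw [← pow_mul, mul_comm, pow_mul, hζ.pow_eq_one, one_pow]
  have h2 : ζ ^ M - 1 ≠ 0 := by
    intro h
    apply hM
    exact (hζ.pow_eq_one_iff_dvd M).1 (sub_eq_zero.1 h)
  have h3 := geom_sum_mul (ζ ^ M) N
  rw [h1, sub_self] at h3
  rcases mul_eq_zero.1 h3 with h | h
  · exact h
  · exact absurd h h2

lemma fourier {r' N c : ℕ} {ζ : ℂ} (hζ : IsPrimitiveRoot ζ N) (l l' : Fin (r' + 1) → ℕ)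
    (H : ∀ w w' : Equiv.Perm (Fin (r' + 1)), ∃ j : Fin r',
      ¬ N ∣ ((N - 1) * c + l (w j.succ) + l' (w' j.succ))) :
    ∑ u ∈ Fintype.piFinset (fun _ : Fin r' => Finset.range N),
      (ζ ^ ((N - 1) * c * ∑ j, (Fin.cons 0 u : Fin (r' + 1) → ℕ) j) *
        D ζ l (Fin.cons 0 u) * D ζ l' (Fin.cons 0 u)) = 0 := by
  classical
  have key : ∀ u : Fin r' → ℕ,
      (ζ ^ ((N - 1) * c * ∑ j, (Fin.cons 0 u : Fin (r' + 1) → ℕ) j) *
        D ζ l (Fin.cons 0 u) * D ζ l' (Fin.cons 0 u)) =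
      ∑ w : Equiv.Perm (Fin (r' + 1)), ∑ w' : Equiv.Perm (Fin (r' + 1)),
        (((Equiv.Perm.sign w : ℤ) : ℂ) * ((Equiv.Perm.sign w' : ℤ) : ℂ)) *
          ∏ j : Fin r', (ζ ^ ((N - 1) * c + l (w j.succ) + l' (w' j.succ))) ^ (u j) := by
    intro u
    rw [D_expand, D_expand, Fin.sum_univ_succ]
    simp only [Fin.cons_zero, Fin.cons_succ, zero_add, Fin.prod_univ_succ, mul_zero, pow_zero,
      one_mul]
    rw [mul_assoc, Finset.sum_mul_sum, Finset.mul_sum]
    apply Finset.sum_congr rfl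
    intro w _
    rw [Finset.mul_sum]
    apply Finset.sum_congr rfl
    intro w' _
    have : ζ ^ ((N - 1) * c * ∑ j, u j) = ∏ j : Fin r', ζ ^ ((N - 1) * c * u j) := by
      rw [Finset.prod_pow_eq_pow_sum, Finset.mul_sum]
    rw [this]
    have : ∀ j : Fin r', (ζ ^ ((N - 1) * c + l (w j.succ) + l' (w' j.succ))) ^ (u j) =
        ζ ^ ((N - 1) * c * u j) * ζ ^ (l (w j.succ) * u j) * ζ ^ (l' (w' j.succ) * u j) := by
      intro j
      rw [← pow_mul, ← pow_add, ← pow_add]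
      congr 1
      ring
    simp_rw [this, Finset.prod_mul_distrib]
    ring
  simp_rw [key]
  rw [Finset.sum_comm]
  apply Finset.sum_eq_zero
  intro w _
  rw [Finset.sum_comm]
  apply Finset.sum_eq_zero
  intro w' _
  rw [← Finset.mul_sum]
  obtain ⟨j, hj⟩ := H w w'
  have := Finset.prod_univ_sum (fun _ : Fin r' => Finset.range N)
    (fun (j : Fin r') (t : ℕ) => (ζ ^ ((N - 1) * c + l (w j.succ) + l' (w' j.succ))) ^ t)
  rw [← this]
  rw [Finset.prod_eq_zero (Finset.mem_univ j) (geom_zero hζ hj), mul_zero]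

open Classical in
noncomputable def Amono (r' N : ℕ) : Finset (Fin (r' + 1) → ℕ) :=
  (Fintype.piFinset fun _ => Finset.range N).filter (fun n => StrictMono n ∧ n 0 = 0)

lemma mem_Amono {r' N : ℕ} (n : Fin (r' + 1) → ℕ) :
    n ∈ Amono r' N ↔ (∀ j, n j < N) ∧ StrictMono n ∧ n 0 = 0 := by
  classical
  simp [Amono, Fintype.mem_piFinset]

lemma cons_comp_perm {r' : ℕ} (u : Fin r' → ℕ) (σ : Equiv.Perm (Fin r')) :
    (Fin.cons 0 u : Fin (r' + 1) → ℕ) ∘ (Equiv.Perm.decomposeFin.symm (0, σ)) =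
      Fin.cons 0 (u ∘ σ) := by
  funext j
  refine Fin.cases ?_ (fun j => ?_) j
  · simp
  · simp

lemma strictMono_cons {r' : ℕ} (u : Fin r' → ℕ) (hu : StrictMono u) (hpos : ∀ j, 0 < u j) :
    StrictMono (Fin.cons 0 u : Fin (r' + 1) → ℕ) := by
  intro a b hab
  induction a using Fin.cases with
  | zero =>
    induction b using Fin.cases with
    | zero => exact absurd hab (lt_irrefl _)
    | succ b => simpa using hpos b
  | succ a =>
    induction b using Fin.cases with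
    | zero => exact absurd hab (Fin.not_lt_zero _)
    | succ b =>
      simp only [Fin.cons_succ]
      exact hu (Fin.succ_lt_succ_iff.1 hab)

lemma caseC_sum {r' N : ℕ} (hN : 0 < N) (F : (Fin (r' + 1) → ℕ) → ℂ)
    (hsym : ∀ n (σ : Equiv.Perm (Fin (r' + 1))), F (n ∘ σ) = F n)
    (hvan : ∀ n, ¬ Function.Injective n → F n = 0)
    (hF0 : ∑ u ∈ Fintype.piFinset (fun _ : Fin r' => Finset.range N), F (Fin.cons 0 u) = 0) :
    ∑ n ∈ Amono r' N, F n = 0 := by
  classical
  have h1 := sum_sym (N := N) (fun u : Fin r' → ℕ => F (Fin.cons 0 u))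
    (fun u σ => by
      show F (Fin.cons 0 (u ∘ σ)) = F (Fin.cons 0 u)
      rw [← cons_comp_perm, hsym])
    (fun u hu => by
      apply hvan
      intro hinj
      apply hu
      have : u = (Fin.cons 0 u : Fin (r' + 1) → ℕ) ∘ Fin.succ := by
        funext j; simp
      rw [this]
      exact hinj.comp (Fin.succ_injective _))
  rw [hF0] at h1
  have h2 : ∑ v ∈ (Fintype.piFinset (fun _ : Fin r' => Finset.range N)).filter StrictMono,
      F (Fin.cons 0 v) = 0 := by
    rcases mul_eq_zero.1 h1.symm with h | h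
    · exact absurd h (by exact_mod_cast Nat.factorial_ne_zero r')
    · exact h
  rw [← h2]
  symm
  apply Finset.sum_bij_ne_zero (fun v _ _ => (Fin.cons 0 v : Fin (r' + 1) → ℕ))
  · intro v hv hne
    simp only [Finset.mem_filter, Fintype.mem_piFinset, Finset.mem_range] at hv
    rw [mem_Amono]
    have hinj : Function.Injective (Fin.cons 0 v : Fin (r' + 1) → ℕ) := by
      by_contra h
      exact hne (hvan _ h)
    have hpos : ∀ j, 0 < v j := by
      intro j
      rcases Nat.eq_zero_or_pos (v j) with h | h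
      · exfalso
        have : (Fin.cons 0 v : Fin (r' + 1) → ℕ) 0 = (Fin.cons 0 v : Fin (r' + 1) → ℕ) j.succ := by
          simp [h]
        exact (Fin.succ_ne_zero j) (hinj this).symm
      · exact h
    refine ⟨?_, strictMono_cons v hv.2 hpos, by simp⟩
    intro j
    refine Fin.cases ?_ (fun j => ?_) j
    · simpa using hN
    · simpa using hv.1 j
  · intro v _ _ v' _ _ h
    have := congrArg Fin.tail h
    simpa using this
  · intro n hn _
    rw [mem_Amono] at hn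
    refine ⟨Fin.tail n, ?_, ?_, ?_⟩
    · simp only [Finset.mem_filter, Fintype.mem_piFinset, Finset.mem_range]
      refine ⟨fun j => hn.1 _, ?_⟩
      intro a b hab
      exact hn.2.1 (Fin.succ_lt_succ_iff.2 hab)
    · have : (Fin.cons 0 (Fin.tail n) : Fin (r' + 1) → ℕ) = n := by
        rw [← hn.2.2]
        exact Fin.cons_self_tail n
      rwa [this]
    · rw [← hn.2.2]
      exact Fin.cons_self_tail n
  · intro v _ _
    rfl

noncomputable def tau {r'' : ℕ} (N : ℕ) (n : Fin (r'' + 2) → ℕ) : Fin (r'' + 2) → ℕ :=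
  Fin.snoc (fun j : Fin (r'' + 1) => n j.succ - n 1) (N - n 1)

lemma tau_castSucc {r'' : ℕ} (N : ℕ) (n : Fin (r'' + 2) → ℕ) (j : Fin (r'' + 1)) :
    tau N n j.castSucc = n j.succ - n 1 := by
  simp [tau]

lemma tau_last {r'' : ℕ} (N : ℕ) (n : Fin (r'' + 2) → ℕ) :
    tau N n (Fin.last (r'' + 1)) = N - n 1 := by
  simp [tau]

lemma one_le_of_mem {r'' N : ℕ} {n : Fin (r'' + 2) → ℕ} (hn : n ∈ Amono (r'' + 1) N)
    (j : Fin (r'' + 1)) : n 1 ≤ n j.succ := by
  rw [mem_Amono] at hn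
  apply hn.2.1.monotone
  rw [← Fin.succ_zero_eq_one]
  exact Fin.succ_le_succ_iff.2 (Fin.zero_le _)

lemma tau_mem {r'' N : ℕ} {n : Fin (r'' + 2) → ℕ} (hn : n ∈ Amono (r'' + 1) N) :
    tau N n ∈ Amono (r'' + 1) N := by
  have h1 := one_le_of_mem hn
  rw [mem_Amono] at hn ⊢
  obtain ⟨hlt, hmono, h0⟩ := hn
  have hpos : 0 < n 1 := by
    have := hmono (show (0 : Fin (r'' + 2)) < 1 from by simp [Fin.lt_def])
    omega
  refine ⟨?_, ?_, ?_⟩
  · intro j
    induction j using Fin.lastCases with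
    | last => rw [tau_last]; have := hlt 1; omega
    | cast j => rw [tau_castSucc]; have := hlt j.succ; omega
  · intro a b hab
    induction b using Fin.lastCases with
    | last =>
      induction a using Fin.lastCases with
      | last => exact absurd hab (lt_irrefl _)
      | cast a =>
        rw [tau_last, tau_castSucc]
        have := hlt a.succ
        have := h1 a
        omega
    | cast b =>
      induction a using Fin.lastCases with
      | last =>
        exfalso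
        have := Fin.le_last b.castSucc
        exact absurd (lt_of_lt_of_le hab this) (lt_irrefl _)
      | cast a =>
        rw [tau_castSucc, tau_castSucc]
        have hab' : a < b := Fin.castSucc_lt_castSucc_iff.1 hab
        have := hmono (Fin.succ_lt_succ_iff.2 hab')
        have := h1 a
        omega
  · have : (0 : Fin (r'' + 2)) = (0 : Fin (r'' + 1)).castSucc := rfl
    rw [this, tau_castSucc, Fin.succ_zero_eq_one]
    omega

lemma tau_injOn {r'' N : ℕ} :
    Set.InjOn (tau (r'' := r'') N) (Amono (r'' + 1) N : Set (Fin (r'' + 2) → ℕ)) := by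
  intro n hn n' hn' heq
  have hn1 := one_le_of_mem hn
  have hn1' := one_le_of_mem hn'
  rw [Finset.mem_coe, mem_Amono] at hn hn'
  have hlast := congrFun heq (Fin.last _)
  rw [tau_last, tau_last] at hlast
  have e1 : n 1 = n' 1 := by
    have := hn.1 1
    have := hn'.1 1
    omega
  funext j
  induction j using Fin.cases with
  | zero => rw [hn.2.2, hn'.2.2]
  | succ j =>
    have := congrFun heq j.castSucc
    rw [tau_castSucc, tau_castSucc] at this
    have := hn1 j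
    have := hn1' j
    omega

lemma snoc_tail_eq {r'' : ℕ} (n : Fin (r'' + 2) → ℕ) (h0 : n 0 = 0) :
    (Fin.snoc (Fin.tail n) 0 : Fin (r'' + 2) → ℕ) = n ∘ (finRotate (r'' + 2)) := by
  funext j
  induction j using Fin.lastCases with
  | last =>
    simp only [Fin.snoc_last, Function.comp_apply]
    rw [finRotate_succ_apply, Fin.last_add_one, h0]
  | cast j =>
    simp only [Fin.snoc_castSucc, Function.comp_apply, Fin.tail]
    rw [finRotate_succ_apply, Fin.coeSucc_eq_succ]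

lemma caseB_sum {r'' N : ℕ} (F : (Fin (r'' + 2) → ℕ) → ℂ) (χ : ℂ)
    (hsym : ∀ n (σ : Equiv.Perm (Fin (r'' + 2))), F (n ∘ σ) = F n)
    (hshift : ∀ n s, F (fun j => n j + s) = F n)
    (hwrap : ∀ m : Fin (r'' + 1) → ℕ, F (Fin.snoc m N) = χ * F (Fin.snoc m 0)) :
    ∑ n ∈ Amono (r'' + 1) N, F n = χ * ∑ n ∈ Amono (r'' + 1) N, F n := by
  classical
  have hF : ∀ n ∈ Amono (r'' + 1) N, F (tau N n) = χ * F n := by
    intro n hn
    have h1 := one_le_of_mem hn
    rw [mem_Amono] at hn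
    rw [← hshift (tau N n) (n 1)]
    have : (fun j => tau N n j + n 1) = (Fin.snoc (Fin.tail n) N : Fin (r'' + 2) → ℕ) := by
      funext j
      induction j using Fin.lastCases with
      | last =>
        simp only [Fin.snoc_last]
        rw [tau_last]
        have := hn.1 1
        omega
      | cast j =>
        simp only [Fin.snoc_castSucc, Fin.tail]
        rw [tau_castSucc]
        have := h1 j
        omega
    rw [this, hwrap, snoc_tail_eq n hn.2.2, hsym]
  have himg : (Amono (r'' + 1) N).image (tau N) = Amono (r'' + 1) N := by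
    apply Finset.eq_of_subset_of_card_le
    · intro x hx
      rw [Finset.mem_image] at hx
      obtain ⟨n, hn, rfl⟩ := hx
      exact tau_mem hn
    · rw [Finset.card_image_of_injOn tau_injOn]
  calc ∑ n ∈ Amono (r'' + 1) N, F n = ∑ n ∈ (Amono (r'' + 1) N).image (tau N), F n := by rw [himg]
    _ = ∑ n ∈ Amono (r'' + 1) N, F (tau N n) := Finset.sum_image tau_injOn
    _ = ∑ n ∈ Amono (r'' + 1) N, χ * F n := Finset.sum_congr rfl hF
    _ = χ * ∑ n ∈ Amono (r'' + 1) N, F n := by rw [Finset.mul_sum]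

noncomputable def Fv {r : ℕ} (ζ η : ℂ) (a' : ℕ) (l l' n : Fin r → ℕ) : ℂ :=
  η ^ (a' * ∑ j, n j) * D ζ l n * D ζ l' n

lemma Fv_sym {r : ℕ} (ζ η : ℂ) (a' : ℕ) (l l' n : Fin r → ℕ) (σ : Equiv.Perm (Fin r)) :
    Fv ζ η a' l l' (n ∘ σ) = Fv ζ η a' l l' n := by
  unfold Fv
  rw [D_perm, D_perm]
  have h1 : ∑ j, (n ∘ σ) j = ∑ j, n j := Equiv.sum_comp σ n
  have h2 : (((Equiv.Perm.sign σ : ℤ)) : ℂ) * ((Equiv.Perm.sign σ : ℤ) : ℂ) = 1 := by
    rw [← Int.cast_mul, Int.units_coe_mul_self, Int.cast_one]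
  rw [h1]
  calc η ^ (a' * ∑ j, n j) * (((Equiv.Perm.sign σ : ℤ) : ℂ) * D ζ l n) *
        (((Equiv.Perm.sign σ : ℤ) : ℂ) * D ζ l' n)
      = (((Equiv.Perm.sign σ : ℤ) : ℂ) * ((Equiv.Perm.sign σ : ℤ) : ℂ)) *
        (η ^ (a' * ∑ j, n j) * D ζ l n * D ζ l' n) := by ring
    _ = _ := by rw [h2, one_mul]

lemma Fv_van {r : ℕ} (ζ η : ℂ) (a' : ℕ) (l l' n : Fin r → ℕ) (h : ¬ Function.Injective n) :
    Fv ζ η a' l l' n = 0 := by
  unfold Fv
  simp only [Function.Injective, not_forall] at h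
  obtain ⟨i, j, hij, hne⟩ := h
  rw [D_eq_zero ζ l n hne (by rw [hij])]
  ring

lemma Fv_shift {r : ℕ} (ζ η : ℂ) (hηζ : η ^ r * ζ = 1) (l l' n : Fin r → ℕ) (s : ℕ) :
    Fv ζ η (∑ i, l i + ∑ i, l' i) l l' (fun j => n j + s) =
      Fv ζ η (∑ i, l i + ∑ i, l' i) l l' n := by
  unfold Fv
  rw [D_shift, D_shift]
  have h1 : ∑ j, (n j + s) = ∑ j, n j + r * s := by
    rw [Finset.sum_add_distrib, Finset.sum_const, Finset.card_univ, Fintype.card_fin, smul_eq_mul]
  rw [h1]
  set a' := ∑ i, l i + ∑ i, l' i with ha'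
  have h2 : η ^ (a' * (∑ j, n j + r * s)) * ζ ^ (s * ∑ i, l i) * ζ ^ (s * ∑ i, l' i) =
      η ^ (a' * ∑ j, n j) := by
    have : η ^ (a' * (∑ j, n j + r * s)) * ζ ^ (s * ∑ i, l i) * ζ ^ (s * ∑ i, l' i) =
        η ^ (a' * ∑ j, n j) * (η ^ r * ζ) ^ (a' * s) := by
      have e1 : a' * (∑ j, n j + r * s) = a' * ∑ j, n j + r * (a' * s) := by ring
      have e2 : ζ ^ (s * ∑ i, l i) * ζ ^ (s * ∑ i, l' i) = ζ ^ (a' * s) := by
        rw [← pow_add]; congr 1; rw [ha']; ring
      rw [mul_pow, ← pow_mul, e1, pow_add, mul_assoc, e2, mul_assoc]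
    rw [this, hηζ, one_pow, mul_one]
  calc η ^ (a' * (∑ j, n j + r * s)) * (ζ ^ (s * ∑ i, l i) * D ζ l n) *
        (ζ ^ (s * ∑ i, l' i) * D ζ l' n)
      = (η ^ (a' * (∑ j, n j + r * s)) * ζ ^ (s * ∑ i, l i) * ζ ^ (s * ∑ i, l' i)) *
        D ζ l n * D ζ l' n := by ring
    _ = _ := by rw [h2]

lemma Fv_wrap {r' N : ℕ} (ζ η : ℂ) (hζN : ζ ^ N = 1) (a' : ℕ) (l l' : Fin (r' + 1) → ℕ)
    (m : Fin r' → ℕ) :
    Fv ζ η a' l l' (Fin.snoc m N : Fin (r' + 1) → ℕ) =
      η ^ (a' * N) * Fv ζ η a' l l' (Fin.snoc m 0 : Fin (r' + 1) → ℕ) := by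
  unfold Fv
  have hc : ∀ j, ζ ^ (Fin.snoc m N : Fin (r' + 1) → ℕ) j = ζ ^ (Fin.snoc m 0 : Fin (r' + 1) → ℕ) j := by
    intro j
    induction j using Fin.lastCases with
    | last => simp [hζN]
    | cast j => simp
  rw [D_congr ζ l _ _ hc, D_congr ζ l' _ _ hc]
  have h1 : ∑ j, (Fin.snoc m N : Fin (r' + 1) → ℕ) j =
      ∑ j, (Fin.snoc m 0 : Fin (r' + 1) → ℕ) j + N := by
    rw [Fin.sum_univ_castSucc, Fin.sum_univ_castSucc]
    simp
  rw [h1, mul_add, pow_add]
  ring

theorem main_abstract {r'' N : ℕ} (ζ η : ℂ) (hζ : IsPrimitiveRoot ζ N) (hN : 0 < N)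
    (hηζ : η ^ (r'' + 2) * ζ = 1)
    (l l' : Fin (r'' + 2) → ℕ) (hl : StrictAnti l) (hl' : StrictAnti l')
    (hlN : ∀ i, l i < N) (hl'N : ∀ i, l' i < N)
    (hχ : η ^ ((∑ i, l i + ∑ i, l' i) * N) = 1 → (r'' + 2) ∣ (∑ i, l i + ∑ i, l' i))
    (hne : ¬ ∃ c : ℕ, ∀ i, l i + l' (Fin.rev i) = c) :
    ∑ n ∈ Amono (r'' + 1) N, Fv ζ η (∑ i, l i + ∑ i, l' i) l l' n = 0 := by
  classical
  set a' := ∑ i, l i + ∑ i, l' i with ha'
  have hζ0 : ζ ≠ 0 := hζ.ne_zero hN.ne'
  by_cases hdiv : (r'' + 2) ∣ a'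
  · obtain ⟨c, hc⟩ := hdiv
    apply caseC_sum hN _ (Fv_sym ζ η a' l l') (Fv_van ζ η a' l l')
    have hη : η ^ (r'' + 2) = ζ ^ (N - 1) := by
      have h1 : ζ ^ (N - 1) * ζ = 1 := by
        rw [← pow_succ, Nat.sub_add_cancel hN, hζ.pow_eq_one]
      exact mul_right_cancel₀ hζ0 (hηζ.trans h1.symm)
    have hrew : ∀ u : Fin (r'' + 1) → ℕ, Fv ζ η a' l l' (Fin.cons 0 u) =
        ζ ^ ((N - 1) * c * ∑ j, (Fin.cons 0 u : Fin (r'' + 1 + 1) → ℕ) j) *
          D ζ l (Fin.cons 0 u) * D ζ l' (Fin.cons 0 u) := by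
      intro u
      unfold Fv
      rw [hc, mul_assoc (r'' + 2), pow_mul, hη, ← pow_mul, mul_assoc (N - 1)]
    simp_rw [hrew]
    apply fourier hζ l l'
    intro w w'
    by_contra hcon
    push_neg at hcon
    have hall : ∀ j : Fin (r'' + 2), N ∣ (N - 1) * c + l (w j) + l' (w' j) := by
      have htot : ∑ j : Fin (r'' + 2), ((N - 1) * c + l (w j) + l' (w' j)) = N * ((r'' + 2) * c) := by
        rw [Finset.sum_add_distrib, Finset.sum_add_distrib, Equiv.sum_comp w l,
          Equiv.sum_comp w' l', Finset.sum_const, Finset.card_univ, Fintype.card_fin, smul_eq_mul,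
          add_assoc, ← ha', hc]
        obtain ⟨N', rfl⟩ : ∃ N', N = N' + 1 := ⟨N - 1, by omega⟩
        simp only [Nat.add_sub_cancel]
        ring
      have h0 : N ∣ (N - 1) * c + l (w 0) + l' (w' 0) := by
        rw [Fin.sum_univ_succ] at htot
        have h2 : N ∣ ∑ j : Fin (r'' + 1), ((N - 1) * c + l (w j.succ) + l' (w' j.succ)) :=
          Finset.dvd_sum (fun j _ => hcon j)
        have h3 : N ∣ (N - 1) * c + l (w 0) + l' (w' 0) +
            ∑ j : Fin (r'' + 1), ((N - 1) * c + l (w j.succ) + l' (w' j.succ)) := by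
          rw [htot]; exact dvd_mul_right _ _
        exact (Nat.dvd_add_left h2).1 h3
      intro j
      refine Fin.cases h0 (fun j => hcon j) j
    apply hne
    refine ⟨c, comb l l' hl hl' hlN hl'N c hc (w.symm.trans w') ?_⟩
    intro i
    have h := hall (w.symm i)
    simp only [Equiv.apply_symm_apply] at h
    rw [Int.modEq_iff_dvd]
    have h' : (N : ℤ) ∣ (((N - 1) * c + l i + l' (w' (w.symm i)) : ℕ) : ℤ) :=
      Int.natCast_dvd_natCast.2 h
    have e : (c : ℤ) - ((l i + l' ((w.symm.trans w') i) : ℕ) : ℤ) =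
        (N : ℤ) * c - (((N - 1) * c + l i + l' (w' (w.symm i)) : ℕ) : ℤ) := by
      simp only [Equiv.trans_apply]
      push_cast [Nat.cast_sub hN]
      ring
    rw [e]
    exact dvd_sub (dvd_mul_right _ _) h'
  · have h := caseB_sum (N := N) (Fv ζ η a' l l') (η ^ (a' * N)) (Fv_sym ζ η a' l l')
      (Fv_shift ζ η hηζ l l') (Fv_wrap ζ η hζ.pow_eq_one a' l l')
    have hχ1 : η ^ (a' * N) ≠ 1 := fun h => hdiv (hχ h)
    have h2 : (1 - η ^ (a' * N)) * ∑ n ∈ Amono (r'' + 1) N, Fv ζ η a' l l' n = 0 := by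
      rw [sub_mul, one_mul, ← h, sub_self]
    rcases mul_eq_zero.1 h2 with h3 | h3
    · exact absurd (sub_eq_zero.1 h3).symm hχ1
    · exact h3

lemma pair_id (N : ℕ) (hN : 0 < N) (a b : ℕ) :
    ((((2 : ℝ) * Real.sin (Real.pi * ((a : ℝ) - (b : ℝ)) / (N : ℝ))) ^ 2 : ℝ) : ℂ) *
      (exp (2 * Real.pi * I / (N : ℂ)) ^ a * exp (2 * Real.pi * I / (N : ℂ)) ^ b) =
    -(exp (2 * Real.pi * I / (N : ℂ)) ^ a - exp (2 * Real.pi * I / (N : ℂ)) ^ b) ^ 2 := by
  have hN' : (N : ℂ) ≠ 0 := by exact_mod_cast hN.ne'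
  set θ : ℝ := Real.pi * ((a : ℝ) - (b : ℝ)) / (N : ℝ) with hθ
  set e : ℂ := exp ((θ : ℂ) * I) with he
  have he0 : e ≠ 0 := exp_ne_zero _
  have h1 : exp (2 * Real.pi * I / (N : ℂ)) ^ a = exp (2 * Real.pi * I / (N : ℂ)) ^ b * e ^ 2 := by
    rw [← exp_nat_mul, ← exp_nat_mul, he, ← exp_nat_mul, ← exp_add]
    congr 1
    rw [hθ]
    push_cast
    field_simp
    ring
  have h2 : Complex.sin (θ : ℂ) = (e⁻¹ - e) * I / 2 := by
    rw [Complex.sin, he, ← exp_neg]
    congr 3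
    ring
  rw [h1]
  push_cast
  rw [h2]
  field_simp
  ring_nf
  rw [I_sq]
  ring

lemma sum_pairs {r : ℕ} (n : Fin r → ℕ) :
    ∑ p ∈ (Finset.univ : Finset (Fin r × Fin r)).filter (fun p => p.1 < p.2), (n p.1 + n p.2) =
      (r - 1) * ∑ j, n j := by
  rw [Finset.sum_add_distrib]
  have h1 : ∑ p ∈ (Finset.univ : Finset (Fin r × Fin r)).filter (fun p => p.1 < p.2), n p.1 =
      ∑ i : Fin r, (r - 1 - (i : ℕ)) * n i := by
    rw [Finset.sum_finset_product' _ Finset.univ (fun i => Finset.Ioi i) (f := fun i _ => n i)]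
    · apply Finset.sum_congr rfl
      intro i _
      rw [Finset.sum_const, Fin.card_Ioi, smul_eq_mul]
    · intro p
      simp
  have h2 : ∑ p ∈ (Finset.univ : Finset (Fin r × Fin r)).filter (fun p => p.1 < p.2), n p.2 =
      ∑ i : Fin r, (i : ℕ) * n i := by
    rw [Finset.sum_finset_product_right _ Finset.univ (fun i => Finset.Iio i)
      (f := fun p => n p.2)]
    · apply Finset.sum_congr rfl
      intro i _
      simp only
      rw [Finset.sum_const, Fin.card_Iio, smul_eq_mul]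
    · intro p
      simp
  rw [h1, h2, ← Finset.sum_add_distrib, Finset.mul_sum]
  apply Finset.sum_congr rfl
  intro i _
  rw [← add_mul]
  congr 1
  have := i.is_lt
  omega

lemma Zprod {r : ℕ} (ζ : ℂ) (n : Fin r → ℕ) :
    ∏ p ∈ (Finset.univ : Finset (Fin r × Fin r)).filter (fun p => p.1 < p.2),
      (ζ ^ (n p.1) * ζ ^ (n p.2)) = ζ ^ ((r - 1) * ∑ j, n j) := by
  simp_rw [← pow_add]
  rw [Finset.prod_pow_eq_pow_sum, sum_pairs]

lemma Vand_sq {r : ℕ} (x : Fin r → ℂ) :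
    ((Matrix.of fun i j : Fin r => x j ^ (r - 1 - (i : ℕ))).det) ^ 2 =
      ∏ p ∈ (Finset.univ : Finset (Fin r × Fin r)).filter (fun p => p.1 < p.2),
        (x p.1 - x p.2) ^ 2 := by
  have h1 : (Matrix.of fun i j : Fin r => x j ^ (r - 1 - (i : ℕ))) =
      ((Matrix.vandermonde x).transpose).submatrix Fin.revPerm id := by
    ext i j
    simp only [Matrix.of_apply, Matrix.submatrix_apply, Matrix.transpose_apply,
      Matrix.vandermonde_apply, id, Fin.revPerm_apply, Fin.val_rev]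
    congr 1
    omega
  rw [h1, Matrix.det_permute, Matrix.det_transpose, Matrix.det_vandermonde, mul_pow]
  have hs : (((Equiv.Perm.sign (Fin.revPerm : Equiv.Perm (Fin r)) : ℤ)) : ℂ) ^ 2 = 1 := by
    rw [sq, ← Int.cast_mul, Int.units_coe_mul_self, Int.cast_one]
  rw [hs, one_mul, ← Finset.prod_pow]
  rw [Finset.prod_finset_product' _ Finset.univ (fun i => Finset.Ioi i)
    (f := fun i j => (x i - x j) ^ 2)]
  · apply Finset.prod_congr rfl
    intro i _
    rw [← Finset.prod_pow]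
    apply Finset.prod_congr rfl
    intro j _
    ring
  · intro p
    simp

lemma P_id {r N : ℕ} (hN : 0 < N) (n : Fin r → ℕ) :
    ((∏ p ∈ (Finset.univ : Finset (Fin r × Fin r)).filter (fun p => p.1 < p.2),
        ((2 : ℝ) * Real.sin (Real.pi * ((n p.1 : ℝ) - (n p.2 : ℝ)) / (N : ℝ))) ^ 2 : ℝ) : ℂ) *
      exp (2 * Real.pi * I / (N : ℂ)) ^ ((r - 1) * ∑ j, n j) =
    (-1) ^ ((Finset.univ : Finset (Fin r × Fin r)).filter (fun p => p.1 < p.2)).card *
      ((Matrix.of fun i j : Fin r =>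
        (exp (2 * Real.pi * I / (N : ℂ)) ^ n j) ^ (r - 1 - (i : ℕ))).det) ^ 2 := by
  rw [Vand_sq (fun j => exp (2 * Real.pi * I / (N : ℂ)) ^ n j), ← Zprod, ofReal_prod,
    ← Finset.prod_mul_distrib, ← Finset.prod_neg]
  apply Finset.prod_congr rfl
  intro p _
  exact pair_id N hN (n p.1) (n p.2)

lemma sum_rho (r : ℕ) : ∑ i : Fin r, (r - 1 - (i : ℕ)) + ∑ i : Fin r, (r - 1 - (i : ℕ)) = r * (r - 1) := by
  have h : ∑ i : Fin r, (r - 1 - (i : ℕ)) = ∑ i : Fin r, (i : ℕ) := by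
    rw [← Equiv.sum_comp (Fin.revPerm : Equiv.Perm (Fin r)) (fun i : Fin r => r - 1 - (i : ℕ))]
    apply Finset.sum_congr rfl
    intro i _
    rw [Fin.revPerm_apply, Fin.val_rev]
    have := i.is_lt
    omega
  nth_rewrite 2 [h]
  rw [← Finset.sum_add_distrib]
  have : ∀ i : Fin r, (r - 1 - (i : ℕ)) + (i : ℕ) = r - 1 := by
    intro i
    have := i.is_lt
    omega
  simp_rw [this]
  rw [Finset.sum_const, Finset.card_univ, Fintype.card_fin, smul_eq_mul]

lemma term_core {r N : ℕ} (hN : 0 < N) (η : ℂ)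
    (hηζ : η ^ r * exp (2 * Real.pi * I / (N : ℂ)) = 1) (lam lam' n : Fin r → ℕ)
    (hinj : Function.Injective (fun j => exp (2 * Real.pi * I / (N : ℂ)) ^ n j)) :
    η ^ ((∑ i, lam i + ∑ i, lam' i) * ∑ j, n j) *
      ((Matrix.of fun i j : Fin r =>
          (exp (2 * Real.pi * I / (N : ℂ)) ^ n j) ^ (lam i + (r - 1 - (i : ℕ)))).det /
        (Matrix.of fun i j : Fin r =>
          (exp (2 * Real.pi * I / (N : ℂ)) ^ n j) ^ (r - 1 - (i : ℕ))).det) *
      ((Matrix.of fun i j : Fin r =>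
          (exp (2 * Real.pi * I / (N : ℂ)) ^ n j) ^ (lam' i + (r - 1 - (i : ℕ)))).det /
        (Matrix.of fun i j : Fin r =>
          (exp (2 * Real.pi * I / (N : ℂ)) ^ n j) ^ (r - 1 - (i : ℕ))).det) *
      ((∏ p ∈ (Finset.univ : Finset (Fin r × Fin r)).filter (fun p => p.1 < p.2),
        ((2 : ℝ) * Real.sin (Real.pi * ((n p.1 : ℝ) - (n p.2 : ℝ)) / (N : ℝ))) ^ 2 : ℝ) : ℂ) =
    (-1) ^ ((Finset.univ : Finset (Fin r × Fin r)).filter (fun p => p.1 < p.2)).card *
      Fv (exp (2 * Real.pi * I / (N : ℂ))) η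
        (∑ i : Fin r, (lam i + (r - 1 - (i : ℕ))) + ∑ i : Fin r, (lam' i + (r - 1 - (i : ℕ))))
        (fun i => lam i + (r - 1 - (i : ℕ))) (fun i => lam' i + (r - 1 - (i : ℕ))) n := by
  set ζ := exp (2 * Real.pi * I / (N : ℂ)) with hζ
  have hζ0 : ζ ≠ 0 := exp_ne_zero _
  set Δ := (Matrix.of fun i j : Fin r => (ζ ^ n j) ^ (r - 1 - (i : ℕ))).det with hΔ
  have hΔ0 : Δ ≠ 0 := by
    have h1 : (Matrix.of fun i j : Fin r => (ζ ^ n j) ^ (r - 1 - (i : ℕ))) =
        ((Matrix.vandermonde (fun j => ζ ^ n j)).transpose).submatrix Fin.revPerm id := by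
      ext i j
      simp only [Matrix.of_apply, Matrix.submatrix_apply, Matrix.transpose_apply,
        Matrix.vandermonde_apply, id, Fin.revPerm_apply, Fin.val_rev]
      congr 1
      omega
    rw [hΔ, h1, Matrix.det_permute, Matrix.det_transpose]
    apply mul_ne_zero
    · exact Int.cast_ne_zero.2 (Units.ne_zero _)
    · exact Matrix.det_vandermonde_ne_zero_iff.2 hinj
  have hA : ∀ μ : Fin r → ℕ, (Matrix.of fun i j : Fin r => (ζ ^ n j) ^ (μ i + (r - 1 - (i : ℕ)))).det =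
      D ζ (fun i => μ i + (r - 1 - (i : ℕ))) n := by
    intro μ
    unfold D
    congr 1
    ext i j
    simp only [Matrix.of_apply]
    rw [← pow_mul, mul_comm]
  rw [hA lam, hA lam']
  have hP := P_id (r := r) hN n
  rw [← hζ, ← hΔ] at hP
  set ε : ℂ := (-1) ^ ((Finset.univ : Finset (Fin r × Fin r)).filter (fun p => p.1 < p.2)).card
  set Pc : ℂ := ((∏ p ∈ (Finset.univ : Finset (Fin r × Fin r)).filter (fun p => p.1 < p.2),
        ((2 : ℝ) * Real.sin (Real.pi * ((n p.1 : ℝ) - (n p.2 : ℝ)) / (N : ℝ))) ^ 2 : ℝ) : ℂ)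
  set Z := ζ ^ ((r - 1) * ∑ j, n j) with hZ
  have hZ0 : Z ≠ 0 := pow_ne_zero _ hζ0
  unfold Fv
  set A := D ζ (fun i => lam i + (r - 1 - (i : ℕ))) n
  set A' := D ζ (fun i => lam' i + (r - 1 - (i : ℕ))) n
  have hexp : (∑ i : Fin r, (lam i + (r - 1 - (i : ℕ))) + ∑ i : Fin r, (lam' i + (r - 1 - (i : ℕ)))) *
      ∑ j, n j = (∑ i, lam i + ∑ i, lam' i) * ∑ j, n j + r * ((r - 1) * ∑ j, n j) := by
    rw [Finset.sum_add_distrib, Finset.sum_add_distrib]
    have := sum_rho r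
    calc (∑ i, lam i + ∑ i : Fin r, (r - 1 - (i : ℕ)) + (∑ i, lam' i + ∑ i : Fin r, (r - 1 - (i : ℕ)))) *
          ∑ j, n j
        = (∑ i, lam i + ∑ i, lam' i +
            (∑ i : Fin r, (r - 1 - (i : ℕ)) + ∑ i : Fin r, (r - 1 - (i : ℕ)))) * ∑ j, n j := by ring
      _ = _ := by rw [this]; ring
  rw [hexp, pow_add, pow_mul η r]
  have hηZ : (η ^ r) ^ ((r - 1) * ∑ j, n j) * Z = 1 := by
    rw [hZ, ← mul_pow, hηζ, one_pow]
  apply mul_right_cancel₀ hZ0
  set tw := η ^ ((∑ i, lam i + ∑ i, lam' i) * ∑ j, n j)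
  calc tw * (A / Δ) * (A' / Δ) * Pc * Z = tw * A * A' * (Pc * Z) / Δ ^ 2 := by
        field_simp
    _ = tw * A * A' * ε := by
        rw [hP]; field_simp
    _ = ε * (tw * ((η ^ r) ^ ((r - 1) * ∑ j, n j) * Z) * A * A') := by
        rw [hηZ]; ring
    _ = _ := by ring


/-- Fix integers r ≥ 2 and k ≥ 1, and two partitions λ, λ' with k ≥ λ_1 ≥ ⋯ ≥ λ_{r-1} ≥ λ_r = 0 and k ≥
λ'_1 ≥ ⋯ ≥ λ'_{r-1} ≥ λ'_r = 0 such that λ is not equivalent to the dual partition λ'* = (k − λ'_r,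
…, k − λ'_1), two integer vectors being equivalent when their difference is a constant vector (a, …,
a). For an integer vector v with r + k > v_1 > ⋯ > v_{r-1} > v_r = 0 put z(v)_j = exp(2πi v_j / (r +
k)), let S_μ(v) = det(z(v)_j^{μ_i + r − i}) / det(z(v)_j^{r − i}) be the Schur value and P(v) =
∏_{i<j} (2 sin(π (v_i − v_j)/(r + k)))². Then the sum over all such v of exp(−2πi (|λ| + |λ'|) (v_1
+ ⋯ + v_r) / (r (r + k))) · S_λ(v) · S_{λ'}(v) · P(v) vanishes; that is, the genus-zero Verlinde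
number of rank r, degree 0 and level k with two parabolic points of types λ, λ' is zero. (Only the
vanishing case is stated; the complementary case, where the number equals 1, is not part of this
statement. The source allows r = 1, where the non-equivalence hypothesis cannot hold.) Indices are
0-based below: lam i stands for λ_{i+1}. -/
theorem result (r k : ℕ) (hr : 2 ≤ r)
    (hk : 1 ≤ k) (lam lam' : Fin r → ℕ) (hlam : Antitone lam) (hlamk : ∀ i, lam i ≤ k)
    (hlam0 : ∀ i : Fin r, (i : ℕ) = r - 1 → lam i = 0)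
    (hlam' : Antitone lam') (hlam'k : ∀ i, lam' i ≤ k) (hlam'0 : ∀ i : Fin r, (i : ℕ) = r - 1 → lam' i = 0)
    (hne : ¬ ∃ a : ℤ, ∀ i, (lam i : ℤ) - ((k - lam' (Fin.rev i) : ℕ) : ℤ) = a)
    (z : (Fin r → ℕ) → Fin r → ℂ)
    (hz : ∀ v j, z v j = Complex.exp (2 * Real.pi * Complex.I * (v j : ℂ) / ((r : ℂ) + k)))
    (S : (Fin r → ℕ) → (Fin r → ℕ) → ℂ)
    (hS : ∀ μ v, S μ v = (Matrix.of fun i j : Fin r => z v j ^ (μ i + (r - 1 - (i : ℕ)))).det /
        (Matrix.of fun i j : Fin r => z v j ^ (r - 1 - (i : ℕ))).det)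
    (P : (Fin r → ℕ) → ℝ)
    (hP : ∀ v, P v = ∏ p ∈ (Finset.univ : Finset (Fin r × Fin r)).filter (fun p => p.1 < p.2),
        ((2 : ℝ) * Real.sin (Real.pi * ((v p.1 : ℝ) - (v p.2 : ℝ)) / ((r : ℝ) + k))) ^ 2) :
    (∑ v ∈ (Finset.univ : Finset (Fin r → Fin (r + k))).filter
        (fun v : Fin r → Fin (r + k) => StrictAnti v ∧ ∀ i : Fin r, (i : ℕ) = r - 1 → (v i : ℕ) = 0),
      Complex.exp (-(2 * Real.pi * Complex.I * (((∑ i, lam i) + (∑ i, lam' i) : ℕ) : ℂ) *
          ((∑ j, (v j : ℕ) : ℕ) : ℂ) / ((r : ℂ) * ((r : ℂ) + k)))) *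
        S lam (fun j => (v j : ℕ)) * S lam' (fun j => (v j : ℕ)) * (P (fun j => (v j : ℕ)) : ℂ)) = 0 := by
  
  classical
  obtain ⟨r'', rfl⟩ : ∃ r'', r = r'' + 2 := ⟨r - 2, by omega⟩
  have hN : 0 < r'' + 2 + k := by omega
  have hNC : ((r'' + 2 + k : ℕ) : ℂ) ≠ 0 := by exact_mod_cast hN.ne'
  have hrC : ((r'' + 2 : ℕ) : ℂ) ≠ 0 := by exact_mod_cast (by omega : r'' + 2 ≠ 0)
  have hcastC : ((r'' + 2 : ℕ) : ℂ) + (k : ℂ) = ((r'' + 2 + k : ℕ) : ℂ) := by push_cast; ring
  have hcastR : ((r'' + 2 : ℕ) : ℝ) + (k : ℝ) = ((r'' + 2 + k : ℕ) : ℝ) := by push_cast; ring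
  set ζ : ℂ := exp (2 * Real.pi * I / ((r'' + 2 + k : ℕ) : ℂ)) with hζdef
  set η : ℂ := exp (-(2 * Real.pi * I / (((r'' + 2 : ℕ) : ℂ) * ((r'' + 2 + k : ℕ) : ℂ)))) with hηdef
  have hζprim : IsPrimitiveRoot ζ (r'' + 2 + k) := Complex.isPrimitiveRoot_exp _ hN.ne'
  have hηζ : η ^ (r'' + 2) * ζ = 1 := by
    rw [hηdef, hζdef, ← exp_nat_mul, ← exp_add]
    have : ((r'' + 2 : ℕ) : ℂ) * -(2 * Real.pi * I / (((r'' + 2 : ℕ) : ℂ) * ((r'' + 2 + k : ℕ) : ℂ))) +
        2 * Real.pi * I / ((r'' + 2 + k : ℕ) : ℂ) = 0 := by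
      field_simp
      ring
    rw [this, exp_zero]
  have hηprim : IsPrimitiveRoot η ((r'' + 2) * (r'' + 2 + k)) := by
    have h := (Complex.isPrimitiveRoot_exp ((r'' + 2) * (r'' + 2 + k)) (by positivity)).inv
    have e : η = (exp (2 * Real.pi * I / (((r'' + 2) * (r'' + 2 + k) : ℕ) : ℂ)))⁻¹ := by
      rw [hηdef, ← exp_neg]
      congr 2
      push_cast
      ring
    rw [e]
    exact h
  set l : Fin (r'' + 2) → ℕ := fun i => lam i + (r'' + 2 - 1 - (i : ℕ)) with hldef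
  set l' : Fin (r'' + 2) → ℕ := fun i => lam' i + (r'' + 2 - 1 - (i : ℕ)) with hl'def
  have hl : StrictAnti l := by
    intro i j hij
    have h1 := hlam hij.le
    have h2 : (i : ℕ) < j := hij
    have h3 := j.is_lt
    simp only [hldef]
    omega
  have hl' : StrictAnti l' := by
    intro i j hij
    have h1 := hlam' hij.le
    have h2 : (i : ℕ) < j := hij
    have h3 := j.is_lt
    simp only [hl'def]
    omega
  have hlN : ∀ i, l i < r'' + 2 + k := by
    intro i
    have := hlamk i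
    simp only [hldef]
    omega
  have hl'N : ∀ i, l' i < r'' + 2 + k := by
    intro i
    have := hlam'k i
    simp only [hl'def]
    omega
  have hχ : η ^ ((∑ i, l i + ∑ i, l' i) * (r'' + 2 + k)) = 1 →
      (r'' + 2) ∣ (∑ i, l i + ∑ i, l' i) := by
    intro h
    have := (hηprim.pow_eq_one_iff_dvd _).1 h
    exact Nat.dvd_of_mul_dvd_mul_right hN this
  have hne' : ¬ ∃ c : ℕ, ∀ i, l i + l' (Fin.rev i) = c := by
    rintro ⟨c, hc⟩
    apply hne
    refine ⟨(c : ℤ) - (r'' + 1) - k, fun i => ?_⟩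
    have h1 := hc i
    have h2 : ((Fin.rev i : Fin (r'' + 2)) : ℕ) = r'' + 2 - ((i : ℕ) + 1) := Fin.val_rev i
    have h3 := hlam'k (Fin.rev i)
    have h4 := i.is_lt
    simp only [hldef, hl'def, h2] at h1
    rw [Nat.cast_sub h3]
    omega
  have hmain := main_abstract ζ η hζprim hN hηζ l l' hl hl' hlN hl'N hχ hne'
  have hz' : ∀ (n : Fin (r'' + 2) → ℕ) j, z n j = ζ ^ n j := by
    intro n j
    rw [hz, hζdef, ← exp_nat_mul, hcastC]
    congr 1
    ring
  have hterm : ∀ v ∈ (Finset.univ : Finset (Fin (r'' + 2) → Fin (r'' + 2 + k))).filter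
        (fun v : Fin (r'' + 2) → Fin (r'' + 2 + k) =>
          StrictAnti v ∧ ∀ i : Fin (r'' + 2), (i : ℕ) = r'' + 2 - 1 → (v i : ℕ) = 0),
      Complex.exp (-(2 * Real.pi * Complex.I * (((∑ i, lam i) + (∑ i, lam' i) : ℕ) : ℂ) *
          ((∑ j, (v j : ℕ) : ℕ) : ℂ) / (((r'' + 2 : ℕ) : ℂ) * (((r'' + 2 : ℕ) : ℂ) + k)))) *
        S lam (fun j => (v j : ℕ)) * S lam' (fun j => (v j : ℕ)) * (P (fun j => (v j : ℕ)) : ℂ) =
      (-1) ^ ((Finset.univ : Finset (Fin (r'' + 2) × Fin (r'' + 2))).filter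
          (fun p => p.1 < p.2)).card *
        Fv ζ η (∑ i, l i + ∑ i, l' i) l l' (fun j => (v (Fin.rev j) : ℕ)) := by
    intro v hv
    rw [Finset.mem_filter] at hv
    have hinj : Function.Injective (fun j => ζ ^ (v j : ℕ)) := by
      intro i j hij
      have := hζprim.pow_inj (v i).is_lt (v j).is_lt hij
      exact hv.2.1.injective (Fin.ext this)
    have h1 := term_core hN η hηζ lam lam' (fun j => (v j : ℕ)) hinj
    have h2 : Fv ζ η (∑ i, l i + ∑ i, l' i) l l' (fun j => (v (Fin.rev j) : ℕ)) =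
        Fv ζ η (∑ i, l i + ∑ i, l' i) l l' (fun j => (v j : ℕ)) :=
      Fv_sym ζ η _ l l' (fun j => (v j : ℕ)) Fin.revPerm
    rw [h2, ← h1, hS, hS, hP]
    simp_rw [hz']
    rw [hcastR, hcastC]
    congr 4
    rw [hηdef, ← exp_nat_mul]
    congr 1
    push_cast
    ring
  rw [Finset.sum_congr rfl hterm, ← Finset.mul_sum]
  have hbij : ∑ v ∈ (Finset.univ : Finset (Fin (r'' + 2) → Fin (r'' + 2 + k))).filter
        (fun v : Fin (r'' + 2) → Fin (r'' + 2 + k) =>
          StrictAnti v ∧ ∀ i : Fin (r'' + 2), (i : ℕ) = r'' + 2 - 1 → (v i : ℕ) = 0),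
      Fv ζ η (∑ i, l i + ∑ i, l' i) l l' (fun j => (v (Fin.rev j) : ℕ)) =
      ∑ n ∈ Amono (r'' + 1) (r'' + 2 + k), Fv ζ η (∑ i, l i + ∑ i, l' i) l l' n := by
    apply Finset.sum_nbij (fun v j => (v (Fin.rev j) : ℕ))
    · intro v hv
      rw [Finset.mem_filter] at hv
      rw [mem_Amono]
      refine ⟨fun j => (v (Fin.rev j)).is_lt, ?_, ?_⟩
      · intro a b hab
        exact hv.2.1 (Fin.rev_lt_rev.2 hab)
      · apply hv.2.2
        simp [Fin.val_rev]
    · intro v _ v' _ h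
      funext j
      have := congrFun h (Fin.rev j)
      simp only [Fin.rev_rev] at this
      exact Fin.ext this
    · intro n hn
      rw [Finset.mem_coe, mem_Amono] at hn
      refine ⟨fun j => ⟨n (Fin.rev j), hn.1 _⟩, ?_, ?_⟩
      · rw [Finset.mem_coe, Finset.mem_filter]
        refine ⟨Finset.mem_univ _, ?_, ?_⟩
        · intro a b hab
          exact hn.2.1 (Fin.rev_lt_rev.2 hab)
        · intro i hi
          have : Fin.rev i = 0 := by
            apply Fin.ext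
            rw [Fin.val_rev]
            simp
            omega
          simp only [this]
          exact hn.2.2
      · funext j
        simp
    · intro v _
      rfl
  rw [hbij, hmain, mul_zero]


end Groth.Agent.S19895
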