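import Groth.Statements.S19903
-- import your own Groth.Agent.* helpers here
import Groth.Agent.Lib.Helper27.InertiaSep
import Groth.Agent.Lib.Helper27.SepDiag


set_option autoImplicit false
universe u
open CategoryTheory AlgebraicGeometry
open AlgSt

namespace Groth.Agent.S19903

/-- For a morphism f : 𝒳 → 𝒴 of algebraic stacks, if the relative inertia 𝓘_{𝒳/𝒴} → 𝒳 is locally
separated then the neutral section e : 𝒳 → 𝓘_{𝒳/𝒴} (the second diagonal of f) is an immersion, and
likewise if the diagonal of f is locally separated. The inertia and the diagonal are representable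
by algebraic spaces and local separatedness is the property of such morphisms. (The published
statement asserts the equivalence of the three conditions: inertia locally separated, diagonal
locally separated, neutral section an immersion; only the two implications towards the last
condition are stated here.) -/
theorem result
    (S : Scheme.{u}) (𝒳 : AlgSt.Cat S) (𝒴 : AlgSt.Cat S)
    (h𝒳 : AlgSt.IsAlgStack Scheme.fppfPrecoverage 𝒳)
    (h𝒴 : AlgSt.IsAlgStack Scheme.fppfPrecoverage 𝒴)
    (f : 𝒳 ⥤ᵇ 𝒴) :
    (AlgSt.RepByAlgSpWith AlgSp.IsLocallySeparatedMor (FibCat.inertiaToBase f) →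
        AlgSt.IsImm (FibCat.inertiaNeutral f)) ∧
      (AlgSt.RepByAlgSpWith AlgSp.IsLocallySeparatedMor (FibCat.diag f) →
        AlgSt.IsImm (FibCat.inertiaNeutral f)) := by
  constructor
  · intro h
    have h1 : AlgSt.RepByAlgSpWith (AlgSp.RepWith @IsImmersion) (FibCat.diag (FibCat.inertiaToBase f)) :=
      Groth.Agent.Lib.Helper27.DiagRep.repByAlgSpWith_diag (FibCat.inertiaToBase f) _ _ h
        (fun F U π τ₁ τ₂ hπ _ h2 => by
          have h3 : AlgSp.RepWith @IsImmersion τ₂ :=
            Groth.Agent.S9902.repWith_section _ π τ₂ h2 hπ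
          exact MorphismProperty.of_isPullback (IsPullback.of_hasPullback τ₂ τ₁) h3)
    exact Groth.Agent.Lib.Helper27.InertiaSep.neutral_of_diag_toBase f _ h1
  · intro h
    have h1 : AlgSt.RepByAlgSpWith (AlgSp.RepWith @IsImmersion) (FibCat.diag (FibCat.diag f)) :=
      Groth.Agent.Lib.Helper27.DiagRep.repByAlgSpWith_diag (FibCat.diag f) _ _ h
        (fun F U π τ₁ τ₂ hπ _ h2 => by
          have h3 : AlgSp.RepWith @IsImmersion τ₂ :=
            Groth.Agent.S9902.repWith_section _ π τ₂ h2 hπ
          exact MorphismProperty.of_isPullback (IsPullback.of_hasPullback τ₂ τ₁) h3)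
    exact Groth.Agent.Lib.Helper27.InertiaSep.neutral_of_diag_diag f _ h1

end Groth.Agent.S19903
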