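import Groth.Statements.S19904
import Mathlib.CategoryTheory.Limits.Types.Pullbacks
import Mathlib.CategoryTheory.Limits.FunctorCategory.Basic
import Mathlib.CategoryTheory.Limits.Shapes.Pullback.IsPullback.Basic
-- import your own Groth.Agent.* helpers here

set_option autoImplicit false
universe u v
open CategoryTheory
open ArtFun

namespace Groth.Agent.S19904

open CategoryTheory in
theorem smooth_snd {Λ : Type u} {k : Type u} [CommRing Λ] [Field k] [Algebra Λ k]
    {F G G' : ArtFun.Art Λ k ⥤ Type v} (φ : F ⟶ G) (ψ : G' ⟶ G) (hφ : ArtFun.IsSmooth φ) :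
    ArtFun.IsSmooth (Limits.pullback.snd φ ψ) := by
  have hpb : ∀ A : ArtFun.Art Λ k, IsPullback ((Limits.pullback.fst φ ψ).app A)
      ((Limits.pullback.snd φ ψ).app A) (φ.app A) (ψ.app A) := fun A =>
    Functor.map_isPullback ((evaluation _ _).obj A) (IsPullback.of_hasPullback φ ψ)
  intro B A μ hμ y
  obtain ⟨⟨x, gB⟩, hxy⟩ := y
  have hxy' : (Limits.pullback.snd φ ψ).app A x = G'.map μ gB := hxy
  -- the F(A)-component
  set fA := (Limits.pullback.fst φ ψ).app A x with hfA
  have h1 : φ.app A fA = G.map μ (ψ.app B gB) := by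
    have := ConcreteCategory.congr_hom ((hpb A).w) x
    simp only [types_comp_apply] at this
    rw [hfA, this, hxy']
    exact NatTrans.naturality_apply ψ μ gB
  obtain ⟨fB, hfB⟩ := hφ μ hμ ⟨(fA, ψ.app B gB), h1⟩
  have hfB1 : F.map μ fB = fA := congrArg (fun t => t.1.1) hfB
  have hfB2 : φ.app B fB = ψ.app B gB := congrArg (fun t => t.1.2) hfB
  obtain ⟨z, hz1, hz2⟩ := Limits.Types.exists_of_isPullback (hpb B) fB gB hfB2
  refine ⟨z, Subtype.ext (Prod.ext ?_ hz2)⟩
  show (Limits.pullback φ ψ).map μ z = x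
  apply Limits.Types.ext_of_isPullback (hpb A)
  · rw [← hfA, ← hfB1, ← hz1]
    exact NatTrans.naturality_apply (Limits.pullback.fst φ ψ) μ z
  · rw [hxy', ← hz2]
    exact NatTrans.naturality_apply (Limits.pullback.snd φ ψ) μ z

/-- For functors F, G, G' on Artinian local Λ-algebras with residue field k and morphisms φ : F → G, ψ :
G' → G: if φ is smooth then the base change F ×_G G' → G' (second projection of the fibre product of
functors) is smooth. -/
theorem result {Λ : Type u} {k : Type u} [CommRing Λ] [Field k] [Algebra Λ k]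
    [IsNoetherianRing Λ] [Module.Finite Λ k]
    {F G G' : ArtFun.Art Λ k ⥤ Type v} (φ : F ⟶ G) (ψ : G' ⟶ G) (hφ : ArtFun.IsSmooth φ) :
    ArtFun.IsSmooth (Limits.pullback.snd φ ψ) :=
  smooth_snd φ ψ hφ


end Groth.Agent.S19904
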