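import Groth.Statements.S9306
import Groth.Agent.Lib.Helper18.Unram.Assemble
import Groth.Agent.Lib.Helper18.Eis.Tower
import Groth.Agent.Lib.Helper24.Tame.Tower

set_option autoImplicit false
universe u
open EtRam

namespace Groth.Agent.S9306

open TensorProduct in
/-- Let A → B be an injective local homomorphism of discrete valuation rings with fraction fields K ⊆ L,
and let K' be a finite separable extension of K that is unramified relative to A. Then every field F
onto which K' ⊗_K L surjects is, as an extension of L, unramified relative to B. (The published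
statement also records that K' ⊗_K L is a finite product of fields, whose factors are these F; this
row does not state that part.) -/
theorem result (A B K L K' : Type u) [CommRing A] [IsDomain A]
    [IsDiscreteValuationRing A] [CommRing B] [IsDomain B] [IsDiscreteValuationRing B] [Algebra A B]
    [IsLocalHom (algebraMap A B)] (hinj : Function.Injective (algebraMap A B))
    [Field K] [Field L] [Field K'] [Algebra A K] [IsFractionRing A K] [Algebra B L] [IsFractionRing B L]
    [Algebra K L] [Algebra A L] [IsScalarTower A K L] [IsScalarTower A B L]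
    [Algebra K K'] [FiniteDimensional K K'] [Algebra.IsSeparable K K']
    (h : EtRam.IsUnramifiedExt A ((algebraMap K K').comp (algebraMap A K)))
    (F : Type u) [Field F] [Algebra (K' ⊗[K] L) F] (hF : Function.Surjective (algebraMap (K' ⊗[K] L) F)) :
    EtRam.IsUnramifiedExt B ((algebraMap (K' ⊗[K] L) F).comp
      ((Algebra.TensorProduct.includeRight : L →ₐ[K] K' ⊗[K] L).toRingHom.comp (algebraMap B L))) := by
  intro W hW
  letI algBW : Algebra B W := (RingHom.codRestrict _ W hW.1).toAlgebra
  intro hlocBW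
  -- the maps
  let fK' : K' →+* F := (algebraMap (K' ⊗[K] L) F).comp Algebra.TensorProduct.includeLeftRingHom
  let fL : L →+* F := (algebraMap (K' ⊗[K] L) F).comp
    (Algebra.TensorProduct.includeRight : L →ₐ[K] K' ⊗[K] L).toRingHom
  set gB : B →+* F := (algebraMap (K' ⊗[K] L) F).comp
      ((Algebra.TensorProduct.includeRight : L →ₐ[K] K' ⊗[K] L).toRingHom.comp (algebraMap B L))
    with hgB
  have hgBL : ∀ b, gB b = fL (algebraMap B L b) := fun b => rfl
  have hcompat : ∀ c : K, fK' (algebraMap K K' c) = fL (algebraMap K L c) := by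
    intro c
    show algebraMap (K' ⊗[K] L) F ((algebraMap K K' c) ⊗ₜ[K] (1 : L)) =
      algebraMap (K' ⊗[K] L) F ((1 : K') ⊗ₜ[K] (algebraMap K L c))
    congr 1
    rw [Algebra.algebraMap_eq_smul_one, Algebra.algebraMap_eq_smul_one (A := L),
      TensorProduct.smul_tmul]
  let gA : A →+* K' := (algebraMap K K').comp (algebraMap A K)
  have hcompatA : ∀ a : A, fK' (gA a) = gB (algebraMap A B a) := by
    intro a
    show fK' (algebraMap K K' (algebraMap A K a)) = _
    rw [hcompat, hgBL, ← IsScalarTower.algebraMap_apply A K L,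
      ← IsScalarTower.algebraMap_apply A B L]
  -- the valuation ring of `K'`
  let V : ValuationSubring K' := W.comap fK'
  have hV : EtRam.Dominates A gA V := by
    refine ⟨fun a => ?_, fun a ha => ?_⟩
    · show fK' (gA a) ∈ W
      rw [hcompatA]; exact hW.1 _
    · rw [Groth.Agent.Lib.Helper18.Unram.valuation_comap_lt_one_iff, hcompatA]
      refine hW.2 _ ?_
      have : ¬ IsUnit a := (IsLocalRing.mem_maximalIdeal _).mp ha
      exact (IsLocalRing.mem_maximalIdeal _).mpr (fun hu => this (isUnit_of_map_unit (algebraMap A B) a hu))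
  letI algAV : Algebra A V := (RingHom.codRestrict gA V hV.1).toAlgebra
  haveI hlocAV : IsLocalHom (algebraMap A V) :=
    Groth.Agent.Lib.Helper24.TameTower.isLocalHom_of_dominates hV
  obtain ⟨hwu, hsep⟩ := h V hV
  obtain ⟨ϖ, hϖ⟩ := IsDiscreteValuationRing.exists_irreducible B
  have hm₂ : IsLocalRing.maximalIdeal B = Ideal.span {ϖ} := hϖ.maximalIdeal_eq
  let φ₁ : V →+* F := fK'.comp V.subtype
  have h₁ : EtRam.Dominates V φ₁ W := by
    refine ⟨fun v => v.2, fun v hv => ?_⟩
    rw [V.valuation_lt_one_iff, Groth.Agent.Lib.Helper18.Unram.valuation_comap_lt_one_iff] at hv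
    exact hv
  have hφ₁A : ∀ a : A, φ₁ (algebraMap A V a) = gB (algebraMap A B a) := fun a => hcompatA a
  set D := Groth.Agent.Lib.Helper18.Unram.genRing φ₁ gB with hD
  have hfLinj : Function.Injective fL := fL.injective
  have hgBinj : Function.Injective gB := by
    intro x y hxy
    rw [hgBL, hgBL] at hxy
    exact IsFractionRing.injective B L (hfLinj hxy)
  have hm₁ : ∀ v ∈ IsLocalRing.maximalIdeal V, ∃ d ∈ D, φ₁ v = gB ϖ * d := by
    intro v hv
    have hwu' : Ideal.map (algebraMap A V) (IsLocalRing.maximalIdeal A) =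
      IsLocalRing.maximalIdeal V := hwu
    rw [← hwu'] at hv
    obtain ⟨a, ha, s, rfl⟩ := Groth.Agent.Lib.Helper18.Eis.exists_mul_of_mem_map _ _ hv
    have haB : algebraMap A B a ∈ IsLocalRing.maximalIdeal B := by
      have : ¬ IsUnit a := (IsLocalRing.mem_maximalIdeal _).mp ha
      exact (IsLocalRing.mem_maximalIdeal _).mpr
        (fun hu => this (isUnit_of_map_unit (algebraMap A B) a hu))
    rw [hm₂] at haB
    obtain ⟨b, hb⟩ := Ideal.mem_span_singleton'.mp haB
    refine ⟨φ₁ s * gB b, D.mul_mem (Groth.Agent.Lib.Helper18.Unram.mem_genRing_left _ _ s)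
      (Groth.Agent.Lib.Helper18.Unram.mem_genRing_right _ _ b), ?_⟩
    rw [map_mul, hφ₁A, ← hb, map_mul]; ring
  have hk : ∀ c : IsLocalRing.ResidueField A, ∃ (v₁ : V) (v₂ : B),
      algebraMap (IsLocalRing.ResidueField A) (IsLocalRing.ResidueField V) c =
        IsLocalRing.residue V v₁ ∧
      algebraMap (IsLocalRing.ResidueField A) (IsLocalRing.ResidueField B) c =
        IsLocalRing.residue B v₂ ∧ φ₁ v₁ = gB v₂ := by
    intro c
    obtain ⟨a, rfl⟩ := IsLocalRing.residue_surjective c
    exact ⟨algebraMap A V a, algebraMap A B a, IsLocalRing.ResidueField.algebraMap_residue _,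
      IsLocalRing.ResidueField.algebraMap_residue _, hφ₁A a⟩
  have hf3 := Groth.Agent.Lib.Helper18.Unram.f3_of_residue (W := W) (φ₁ := φ₁) (φ₂ := gB) h₁ hW ϖ
    (IsLocalRing.ResidueField A) hm₁ hm₂ hk
    Groth.Agent.Lib.Helper18.Unram.hP_of_isSeparable
  have hetmul : ∀ (k' : K') (l : L),
      algebraMap (K' ⊗[K] L) F (k' ⊗ₜ[K] l) = fK' k' * fL l := by
    intro k' l
    show _ = algebraMap (K' ⊗[K] L) F (k' ⊗ₜ[K] (1 : L)) *
      algebraMap (K' ⊗[K] L) F ((1 : K') ⊗ₜ[K] l)
    rw [← map_mul, Algebra.TensorProduct.tmul_mul_tmul, mul_one, one_mul]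
  -- algebraicity of `F` over `B`
  have halg : ∀ y : F, y ≠ 0 → ∃ p : Polynomial B, p ≠ 0 ∧ p.eval₂ gB y = 0 := by
    letI algLF : Algebra L F := fL.toAlgebra
    letI algKF : Algebra K F := (fL.comp (algebraMap K L)).toAlgebra
    haveI : IsScalarTower K L F := IsScalarTower.of_algebraMap_eq (fun _ => rfl)
    letI algBF : Algebra B F := gB.toAlgebra
    haveI : IsScalarTower B L F := IsScalarTower.of_algebraMap_eq (fun _ => rfl)
    let fK'a : K' →ₐ[K] F := { fK' with commutes' := fun c => hcompat c }
    have hint : ∀ y : F, IsIntegral L y := by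
      intro y
      obtain ⟨t, rfl⟩ := hF y
      induction t using TensorProduct.induction_on with
      | zero => rw [map_zero]; exact isIntegral_zero
      | tmul k' l =>
        rw [hetmul]
        have h1 : IsIntegral K k' := Algebra.IsIntegral.isIntegral k'
        have h2 : IsIntegral K (fK' k') := h1.map fK'a
        exact (h2.tower_top).mul (isIntegral_algebraMap (R := L) (A := F) (x := l))
      | add a b ha hb => rw [map_add]; exact ha.add hb
    intro y _
    have h1 : IsAlgebraic L y := (hint y).isAlgebraic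
    have h2 : IsAlgebraic B y := (IsFractionRing.isAlgebraic_iff B L F).mpr h1
    obtain ⟨p, hp0, hp⟩ := h2
    exact ⟨p, hp0, by rw [← hp, Polynomial.aeval_def]; rfl⟩
  have hsepW : ∀ y ∈ D, y ≠ 0 → ∃ n : ℕ, ¬ (W.valuation y ≤ W.valuation (gB ϖ) ^ n) := by
    intro y _ hy0
    obtain ⟨p, hp0, hp⟩ := halg y hy0
    exact Groth.Agent.Lib.Helper18.Unram.sep_of_algebraic hW hgBinj hϖ y hy0 p hp0 hp
  -- generation
  have hgen : ∀ x : F, ∃ d₁ ∈ D, ∃ d₂ ∈ D, d₂ ≠ 0 ∧ x = d₁ / d₂ := by
    intro x
    obtain ⟨t, rfl⟩ := hF x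
    induction t using TensorProduct.induction_on with
    | zero => exact ⟨0, D.zero_mem, 1, D.one_mem, one_ne_zero, by simp⟩
    | tmul k' l =>
      obtain ⟨v₁, v₂, hv₂, rfl⟩ := IsFractionRing.div_surjective (A := V) k'
      obtain ⟨b₁, b₂, hb₂, rfl⟩ := IsFractionRing.div_surjective (A := B) l
      have hv₂0 : φ₁ v₂ ≠ 0 := by
        have : (v₂ : K') ≠ 0 := fun h0 => (nonZeroDivisors.ne_zero hv₂) (Subtype.ext h0)
        exact (map_ne_zero fK').mpr this
      have hb₂0 : gB b₂ ≠ 0 := fun h0 =>
        (nonZeroDivisors.ne_zero hb₂) (hgBinj (h0.trans (map_zero gB).symm))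
      refine ⟨φ₁ v₁ * gB b₁, D.mul_mem (Groth.Agent.Lib.Helper18.Unram.mem_genRing_left _ _ v₁)
        (Groth.Agent.Lib.Helper18.Unram.mem_genRing_right _ _ b₁), φ₁ v₂ * gB b₂,
        D.mul_mem (Groth.Agent.Lib.Helper18.Unram.mem_genRing_left _ _ v₂)
        (Groth.Agent.Lib.Helper18.Unram.mem_genRing_right _ _ b₂), mul_ne_zero hv₂0 hb₂0, ?_⟩
      rw [hetmul, map_div₀, map_div₀]
      show φ₁ v₁ / φ₁ v₂ * (gB b₁ / gB b₂) = _
      rw [div_mul_div_comm]
    | add a b ha hb =>
      obtain ⟨d₁, hd₁, d₂, hd₂, hd₂0, ea⟩ := ha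
      obtain ⟨e₁, he₁, e₂, he₂, he₂0, eb⟩ := hb
      refine ⟨d₁ * e₂ + d₂ * e₁, D.add_mem (D.mul_mem hd₁ he₂) (D.mul_mem hd₂ he₁), d₂ * e₂,
        D.mul_mem hd₂ he₂, mul_ne_zero hd₂0 he₂0, ?_⟩
      rw [map_add, ea, eb, div_add_div _ _ hd₂0 he₂0]
  have hU : Groth.Agent.Lib.Helper18.Unram.UData W D (gB ϖ) :=
    { hDW := Groth.Agent.Lib.Helper18.Unram.genRing_le h₁ hW
      hϖD := Groth.Agent.Lib.Helper18.Unram.mem_genRing_right _ _ ϖ
      hϖ := Groth.Agent.Lib.Helper18.Unram.val_uniformizer_lt hW hϖ
      hϖ0 := fun h0 => hϖ.ne_zero (hgBinj (h0.trans (map_zero gB).symm))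
      sep := hsepW
      f3 := hf3
      gen := hgen }
  have halgBW : ∀ b : B, ((algebraMap B W b : W) : F) = gB b := fun b => rfl
  refine ⟨?_, ?_⟩
  · -- weakly unramified
    show Ideal.map (algebraMap B W) (IsLocalRing.maximalIdeal B) = IsLocalRing.maximalIdeal W
    apply le_antisymm
    · rw [Ideal.map_le_iff_le_comap]
      intro b hb
      rw [Ideal.mem_comap, W.valuation_lt_one_iff, halgBW]
      exact hW.2 b hb
    · intro x hx
      rw [W.valuation_lt_one_iff] at hx
      obtain ⟨w, hw, e⟩ := hU.exists_eq_mul (x : F) hx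
      have : x = algebraMap B W ϖ * ⟨w, hw⟩ := Subtype.ext (by rw [e]; rfl)
      rw [this]
      refine Ideal.mul_mem_right _ _ (Ideal.mem_map_of_mem _ ?_)
      rw [hm₂]; exact Ideal.subset_span rfl
  · -- separable residue field extension
    let rV : IsLocalRing.ResidueField V →+* IsLocalRing.ResidueField W :=
      IsLocalRing.ResidueField.map (EtRam.inclOfComap W fK')
    have hrV : ∀ v : V, rV (IsLocalRing.residue V v) =
        IsLocalRing.residue W (EtRam.inclOfComap W fK' v) := fun v =>
      IsLocalRing.ResidueField.map_residue _ _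
    have hcompRes : (algebraMap (IsLocalRing.ResidueField B) (IsLocalRing.ResidueField W)).comp
        (algebraMap (IsLocalRing.ResidueField A) (IsLocalRing.ResidueField B)) =
        rV.comp (algebraMap (IsLocalRing.ResidueField A) (IsLocalRing.ResidueField V)) := by
      apply RingHom.ext
      intro c
      obtain ⟨a, rfl⟩ := IsLocalRing.residue_surjective c
      show algebraMap (IsLocalRing.ResidueField B) (IsLocalRing.ResidueField W)
          (algebraMap (IsLocalRing.ResidueField A) (IsLocalRing.ResidueField B)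
            (IsLocalRing.residue A a)) =
        rV (algebraMap (IsLocalRing.ResidueField A) (IsLocalRing.ResidueField V)
            (IsLocalRing.residue A a))
      rw [IsLocalRing.ResidueField.algebraMap_residue, IsLocalRing.ResidueField.algebraMap_residue,
        IsLocalRing.ResidueField.algebraMap_residue, hrV]
      congr 1
      exact Subtype.ext (hcompatA a).symm
    let E := separableClosure (IsLocalRing.ResidueField B) (IsLocalRing.ResidueField W)
    have hDE : ∀ (d : F) (hd : d ∈ D), IsLocalRing.residue W ⟨d, hU.hDW d hd⟩ ∈ E := by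
      intro d hd
      induction hd using Subring.closure_induction with
      | mem d hd =>
        rcases hd with ⟨v, rfl⟩ | ⟨b, rfl⟩
        · -- residue of an element of `V`
          have e1 : IsLocalRing.residue W ⟨φ₁ v, hU.hDW _ (Subring.subset_closure (Or.inl ⟨v, rfl⟩))⟩ =
              rV (IsLocalRing.residue V v) := by rw [hrV]; rfl
          rw [e1]
          have hs : IsSeparable (IsLocalRing.ResidueField A) (IsLocalRing.residue V v) :=
            Algebra.IsSeparable.isSeparable _ _
          set p := minpoly (IsLocalRing.ResidueField A) (IsLocalRing.residue V v) with hp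
          have hq : (p.map (algebraMap (IsLocalRing.ResidueField A)
              (IsLocalRing.ResidueField B))).Separable := Polynomial.Separable.map hs
          have hroot : Polynomial.aeval (rV (IsLocalRing.residue V v))
              (p.map (algebraMap (IsLocalRing.ResidueField A) (IsLocalRing.ResidueField B))) = 0 := by
            rw [Polynomial.aeval_def, Polynomial.eval₂_map, hcompRes, ← Polynomial.hom_eval₂,
              ← Polynomial.aeval_def, hp, minpoly.aeval, map_zero]
          exact hq.of_dvd (minpoly.dvd _ _ hroot)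
        · have e1 : IsLocalRing.residue W ⟨gB b, hU.hDW _ (Subring.subset_closure (Or.inr ⟨b, rfl⟩))⟩ =
              algebraMap (IsLocalRing.ResidueField B) (IsLocalRing.ResidueField W)
                (IsLocalRing.residue B b) := by
            rw [IsLocalRing.ResidueField.algebraMap_residue]; rfl
          rw [e1]
          exact E.algebraMap_mem _
      | zero =>
        have : (⟨0, hU.hDW 0 D.zero_mem⟩ : W) = 0 := rfl
        rw [this, map_zero]; exact E.zero_mem
      | one =>
        have : (⟨1, hU.hDW 1 D.one_mem⟩ : W) = 1 := rfl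
        rw [this, map_one]; exact E.one_mem
      | add x y hx hy ihx ihy =>
        have : (⟨x + y, hU.hDW _ (D.add_mem hx hy)⟩ : W) =
            ⟨x, hU.hDW x hx⟩ + ⟨y, hU.hDW y hy⟩ := rfl
        rw [this, map_add]; exact E.add_mem ihx ihy
      | neg x hx ihx =>
        have : (⟨-x, hU.hDW _ (D.neg_mem hx)⟩ : W) = -⟨x, hU.hDW x hx⟩ := rfl
        rw [this, map_neg]; exact E.neg_mem ihx
      | mul x y hx hy ihx ihy =>
        have : (⟨x * y, hU.hDW _ (D.mul_mem hx hy)⟩ : W) =
            ⟨x, hU.hDW x hx⟩ * ⟨y, hU.hDW y hy⟩ := rfl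
        rw [this, map_mul]; exact E.mul_mem ihx ihy
    constructor
    intro xbar
    obtain ⟨x, rfl⟩ := IsLocalRing.residue_surjective xbar
    show IsLocalRing.residue W x ∈ E
    by_cases hxm : x ∈ IsLocalRing.maximalIdeal W
    · rw [(IsLocalRing.residue_eq_zero_iff x).mpr hxm]; exact E.zero_mem
    · have hxv : W.valuation (x : F) = 1 := by
        rw [W.valuation_lt_one_iff] at hxm
        exact le_antisymm ((W.valuation_le_one_iff _).mpr x.2) (not_lt.mp hxm)
      obtain ⟨t, ht, s, hs, htv, hsv, e⟩ := hU.exists_eq_div (x : F) hxv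
      have hs0 : s ≠ 0 := by
        intro h0; rw [h0, map_zero] at hsv; exact zero_ne_one hsv
      have hsbar : IsLocalRing.residue W ⟨s, hU.hDW s hs⟩ ≠ 0 := by
        rw [Ne, IsLocalRing.residue_eq_zero_iff, W.valuation_lt_one_iff, hsv]
        exact lt_irrefl _
      have hmul : IsLocalRing.residue W x * IsLocalRing.residue W ⟨s, hU.hDW s hs⟩ =
          IsLocalRing.residue W ⟨t, hU.hDW t ht⟩ := by
        rw [← map_mul]
        congr 1
        apply Subtype.ext
        show (x : F) * s = t
        rw [e, div_mul_cancel₀ _ hs0]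
      have : IsLocalRing.residue W x = IsLocalRing.residue W ⟨t, hU.hDW t ht⟩ *
          (IsLocalRing.residue W ⟨s, hU.hDW s hs⟩)⁻¹ := by
        rw [← hmul, mul_assoc, mul_inv_cancel₀ hsbar, mul_one]
      rw [this]
      exact E.mul_mem (hDE t ht) (E.inv_mem (hDE s hs))

end Groth.Agent.S9306
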