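import Groth.Statements.S9307
import Groth.Agent.Lib.Helper18.Unram.Assemble
import Groth.Agent.Lib.Helper18.Unram.VNR
import Groth.Agent.Lib.Helper18.Unram.DVRFin
import Groth.Agent.Lib.Helper18.Unram.ResRoot2
import Groth.Agent.Lib.Helper18.Unram.RamIdx
import Groth.Agent.Lib.Helper18.Unram.AbhSep
import Groth.Agent.Lib.Helper18.Eis.Tower
import Groth.Agent.Lib.Helper24.Tame.Tower

set_option autoImplicit false
universe u
open EtRam

namespace Groth.Agent.S9307

open TensorProduct in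
/-- Let A → B be an injective local homomorphism of discrete valuation rings with fraction fields K ⊆ L,
and let K' be a finite separable extension of K that is tamely ramified relative to A. Then every
field F onto which K' ⊗_K L surjects is, as an extension of L, tamely ramified relative to B. (The
published statement also records that K' ⊗_K L is a finite product of fields, whose factors are
these F; this row does not state that part.) -/
theorem result (A B K L K' : Type u) [CommRing A] [IsDomain A]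
    [IsDiscreteValuationRing A] [CommRing B] [IsDomain B] [IsDiscreteValuationRing B] [Algebra A B]
    [IsLocalHom (algebraMap A B)] (hinj : Function.Injective (algebraMap A B))
    [Field K] [Field L] [Field K'] [Algebra A K] [IsFractionRing A K] [Algebra B L] [IsFractionRing B L]
    [Algebra K L] [Algebra A L] [IsScalarTower A K L] [IsScalarTower A B L]
    [Algebra K K'] [FiniteDimensional K K'] [Algebra.IsSeparable K K']
    (h : EtRam.IsTamelyRamified A ((algebraMap K K').comp (algebraMap A K)))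
    (F : Type u) [Field F] [Algebra (K' ⊗[K] L) F] (hF : Function.Surjective (algebraMap (K' ⊗[K] L) F)) :
    EtRam.IsTamelyRamified B ((algebraMap (K' ⊗[K] L) F).comp
      ((Algebra.TensorProduct.includeRight : L →ₐ[K] K' ⊗[K] L).toRingHom.comp (algebraMap B L))) := by
  intro W hW
  letI algBW : Algebra B W := (RingHom.codRestrict _ W hW.1).toAlgebra
  intro hlocBW
  -- the maps
  let fK' : K' →+* F := (algebraMap (K' ⊗[K] L) F).comp Algebra.TensorProduct.includeLeftRingHom
  let fL : L →+* F := (algebraMap (K' ⊗[K] L) F).comp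
    (Algebra.TensorProduct.includeRight : L →ₐ[K] K' ⊗[K] L).toRingHom
  set gB : B →+* F := (algebraMap (K' ⊗[K] L) F).comp
      ((Algebra.TensorProduct.includeRight : L →ₐ[K] K' ⊗[K] L).toRingHom.comp (algebraMap B L))
    with hgB
  have hgBL : ∀ b, gB b = fL (algebraMap B L b) := fun b => rfl
  have hcompat : ∀ c : K, fK' (algebraMap K K' c) = fL (algebraMap K L c) := by
    intro c
    show algebraMap (K' ⊗[K] L) F ((algebraMap K K' c) ⊗ₜ[K] (1 : L)) =
      algebraMap (K' ⊗[K] L) F ((1 : K') ⊗ₜ[K] (algebraMap K L c))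
    congr 1
    rw [Algebra.algebraMap_eq_smul_one, Algebra.algebraMap_eq_smul_one (A := L),
      TensorProduct.smul_tmul]
  let gA : A →+* K' := (algebraMap K K').comp (algebraMap A K)
  have hcompatA : ∀ a : A, fK' (gA a) = gB (algebraMap A B a) := by
    intro a
    show fK' (algebraMap K K' (algebraMap A K a)) = _
    rw [hcompat, hgBL, ← IsScalarTower.algebraMap_apply A K L,
      ← IsScalarTower.algebraMap_apply A B L]
  have hgAinj : Function.Injective gA :=
    (algebraMap K K').injective.comp (IsFractionRing.injective A K)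
  have hlocAB : ∀ a ∈ IsLocalRing.maximalIdeal A, algebraMap A B a ∈ IsLocalRing.maximalIdeal B := by
    intro a ha
    have : ¬ IsUnit a := (IsLocalRing.mem_maximalIdeal _).mp ha
    exact (IsLocalRing.mem_maximalIdeal _).mpr
      (fun hu => this (isUnit_of_map_unit (algebraMap A B) a hu))
  -- the valuation ring of `K'`
  let V : ValuationSubring K' := W.comap fK'
  have hV : EtRam.Dominates A gA V := by
    refine ⟨fun a => ?_, fun a ha => ?_⟩
    · show fK' (gA a) ∈ W
      rw [hcompatA]; exact hW.1 _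
    · rw [Groth.Agent.Lib.Helper18.Unram.valuation_comap_lt_one_iff, hcompatA]
      exact hW.2 _ (hlocAB a ha)
  letI algAV : Algebra A V := (RingHom.codRestrict gA V hV.1).toAlgebra
  haveI hlocAV : IsLocalHom (algebraMap A V) :=
    Groth.Agent.Lib.Helper24.TameTower.isLocalHom_of_dominates hV
  obtain ⟨hsepV, hram⟩ := h V hV
  haveI := hsepV
  obtain ⟨π, hπ⟩ := IsDiscreteValuationRing.exists_irreducible A
  have hπ0 : π ≠ 0 := hπ.ne_zero
  obtain ⟨ϖB, hϖB⟩ := IsDiscreteValuationRing.exists_irreducible B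
  have hπB0 : algebraMap A B π ≠ 0 := fun h => hπ0 (hinj (h.trans (map_zero _).symm))
  obtain ⟨eB, uB, huB⟩ := IsDiscreteValuationRing.eq_unit_mul_pow_irreducible hπB0 hϖB
  obtain ⟨ϖ, hmV, hϖ0, hfac⟩ := Groth.Agent.Lib.Helper18.Unram.exists_generator' V hV
  have hϖV0 : ϖ ≠ 0 := fun h => hϖ0 (by rw [h]; rfl)
  have hπV0 : algebraMap A V π ≠ 0 := by
    intro h
    have h1 : gA π = 0 := congrArg Subtype.val h
    exact hπ0 (hgAinj (h1.trans (map_zero gA).symm))
  obtain ⟨eV, uV, huV⟩ := hfac (algebraMap A V π) hπV0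
  have heV : Ideal.ramificationIdx' (IsLocalRing.maximalIdeal A) (IsLocalRing.maximalIdeal V) = eV :=
    Groth.Agent.Lib.Helper18.Unram.ramificationIdx'_eq_of_factor hπ hmV hϖV0 huV
  have hϖmem : ϖ ∈ IsLocalRing.maximalIdeal V := by rw [hmV]; exact Ideal.subset_span rfl
  have heBpos : 0 < eB := by
    rcases Nat.eq_zero_or_pos eB with h0 | h0
    · exfalso
      rw [h0, pow_zero, mul_one] at huB
      have : algebraMap A B π ∈ IsLocalRing.maximalIdeal B :=
        hlocAB π ((IsLocalRing.mem_maximalIdeal _).mpr hπ.not_isUnit)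
      exact (IsLocalRing.mem_maximalIdeal _).mp this (huB ▸ uB.isUnit)
    · exact h0
  have heVpos : 0 < eV := by
    rcases Nat.eq_zero_or_pos eV with h0 | h0
    · exfalso
      rw [h0, pow_zero, mul_one] at huV
      have : algebraMap A V π ∈ IsLocalRing.maximalIdeal V := by
        rw [V.valuation_lt_one_iff]
        exact hV.2 π ((IsLocalRing.mem_maximalIdeal _).mpr hπ.not_isUnit)
      exact (IsLocalRing.mem_maximalIdeal _).mp this (huV ▸ uV.isUnit)
    · exact h0
  have he0 : ((eV : ℕ) : IsLocalRing.ResidueField A) ≠ 0 := by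
    obtain ⟨p, hp⟩ := CharP.exists (IsLocalRing.ResidueField A)
    haveI := hp
    rcases CharP.char_is_prime_or_zero (IsLocalRing.ResidueField A) p with hpp | hp0
    · rw [Ne, CharP.cast_eq_zero_iff (IsLocalRing.ResidueField A) p, ← heV]
      exact hram p hpp hp
    · subst hp0
      haveI : CharZero (IsLocalRing.ResidueField A) := CharP.charP_to_charZero _
      exact Nat.cast_ne_zero.mpr heVpos.ne'
  -- the arithmetic of the two ramification indices
  obtain ⟨g, a, b, hgpos, hapos, hbpos, heVg, heBg, s, t, hst⟩ :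
      ∃ g a b : ℕ, 0 < g ∧ 0 < a ∧ 0 < b ∧ eV = g * a ∧ eB = g * b ∧
        ∃ s t : ℕ, s * b = t * a + 1 := by
    have hg : 0 < Nat.gcd eV eB := Nat.gcd_pos_of_pos_left _ heVpos
    have h1 : eV = Nat.gcd eV eB * (eV / Nat.gcd eV eB) :=
      (Nat.mul_div_cancel' (Nat.gcd_dvd_left eV eB)).symm
    have h2 : eB = Nat.gcd eV eB * (eB / Nat.gcd eV eB) :=
      (Nat.mul_div_cancel' (Nat.gcd_dvd_right eV eB)).symm
    have hcop : Nat.Coprime (eV / Nat.gcd eV eB) (eB / Nat.gcd eV eB) :=
      Nat.coprime_div_gcd_div_gcd hg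
    have ha : 0 < eV / Nat.gcd eV eB := Nat.div_pos (Nat.le_of_dvd heVpos (Nat.gcd_dvd_left _ _)) hg
    have hb : 0 < eB / Nat.gcd eV eB := Nat.div_pos (Nat.le_of_dvd heBpos (Nat.gcd_dvd_right _ _)) hg
    refine ⟨Nat.gcd eV eB, eV / Nat.gcd eV eB, eB / Nat.gcd eV eB, hg, ha, hb, h1, h2, ?_⟩
    set a := eV / Nat.gcd eV eB
    set b := eB / Nat.gcd eV eB
    rcases Nat.lt_or_ge 1 a with h1a | h1a
    · obtain ⟨m, -, hm⟩ := Nat.exists_mul_mod_eq_one_of_coprime hcop.symm h1a
      refine ⟨m, b * m / a, ?_⟩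
      have := Nat.div_add_mod (b * m) a
      rw [hm] at this
      rw [mul_comm m b, mul_comm (b * m / a) a]
      exact this.symm
    · have ha1 : a = 1 := by omega
      refine ⟨1, b - 1, ?_⟩
      rw [ha1]; omega
  have hg0 : ((g : ℕ) : IsLocalRing.ResidueField A) ≠ 0 := by
    intro h0
    apply he0
    rw [heVg, Nat.cast_mul, h0, zero_mul]
  -- the two maps
  let φV : V →+* F := fK'.comp V.subtype
  have hVW : EtRam.Dominates V φV W := by
    refine ⟨fun v => v.2, fun v hv => ?_⟩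
    rw [V.valuation_lt_one_iff, Groth.Agent.Lib.Helper18.Unram.valuation_comap_lt_one_iff] at hv
    exact hv
  have hφVA : ∀ a : A, φV (algebraMap A V a) = gB (algebraMap A B a) := fun a => hcompatA a
  have hfLinj : Function.Injective fL := fL.injective
  have hgBinj : Function.Injective gB := by
    intro x y hxy
    rw [hgBL, hgBL] at hxy
    exact IsFractionRing.injective B L (hfLinj hxy)
  set x₁ : F := φV ϖ with hx₁
  set x₂ : F := gB ϖB with hx₂
  have hx₁0 : x₁ ≠ 0 := (map_ne_zero fK').mpr hϖ0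
  have hx₂0 : x₂ ≠ 0 := fun h0 => hϖB.ne_zero (hgBinj (h0.trans (map_zero gB).symm))
  have hP0 : gB (algebraMap A B π) ≠ 0 := fun h0 => hπB0 (hgBinj (h0.trans (map_zero gB).symm))
  have e1 : gB uB * x₂ ^ eB = gB (algebraMap A B π) := by
    rw [huB, map_mul, map_pow]
  have e2 : φV uV * x₁ ^ eV = gB (algebraMap A B π) := by
    rw [← hφVA, huV, map_mul, map_pow]
  have huB0 : gB uB ≠ 0 := by
    intro h0; rw [h0, zero_mul] at e1; exact hP0 e1.symm
  have huV0 : φV uV ≠ 0 := by
    intro h0; rw [h0, zero_mul] at e2; exact hP0 e2.symm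
  set θ : F := x₁ ^ a / x₂ ^ b with hθdef
  set ϖ' : F := x₁ ^ s / x₂ ^ t with hϖ'def
  have hθ : θ ^ g = φV ((uV⁻¹ : Vˣ) : V) * gB uB := by
    have h1 : φV ((uV⁻¹ : Vˣ) : V) * φV uV = 1 := by
      rw [← map_mul, Units.inv_mul, map_one]
    have h2 : φV ((uV⁻¹ : Vˣ) : V) = (φV uV)⁻¹ := eq_inv_of_mul_eq_one_left h1
    rw [hθdef, div_pow, ← pow_mul, ← pow_mul, mul_comm a g, mul_comm b g, ← heVg, ← heBg, h2]
    have h3 : x₁ ^ eV = gB (algebraMap A B π) / φV uV := by
      rw [← e2]; field_simp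
    have h4 : x₂ ^ eB = gB (algebraMap A B π) / gB uB := by
      rw [← e1]; field_simp
    rw [h3, h4]
    field_simp
  have hϖ'a : ϖ' ^ a = θ ^ s * x₂ := by
    rw [hϖ'def, hθdef, div_pow, div_pow, ← pow_mul, ← pow_mul, ← pow_mul, ← pow_mul,
      div_mul_eq_mul_div, div_eq_div_iff (pow_ne_zero _ hx₂0) (pow_ne_zero _ hx₂0)]
    have : x₂ ^ (b * s) = x₂ ^ (t * a) * x₂ := by
      rw [mul_comm b s, hst, pow_succ]
    rw [this, mul_comm s a]
    ring
  have hϖ'b : ϖ' ^ b = x₁ * θ ^ t := by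
    rw [hϖ'def, hθdef, div_pow, div_pow, ← pow_mul, ← pow_mul, ← pow_mul, ← pow_mul,
      mul_div_assoc', div_eq_div_iff (pow_ne_zero _ hx₂0) (pow_ne_zero _ hx₂0)]
    have : x₁ ^ (s * b) = x₁ ^ (a * t) * x₁ := by
      rw [hst, pow_succ, mul_comm t a]
    rw [this, mul_comm t b]
    ring
  have hu₁ : IsUnit ((uB : B)) := uB.isUnit
  have hu₂ : IsUnit (((uV⁻¹ : Vˣ) : V)) := (uV⁻¹).isUnit
  have hθv : W.valuation θ = 1 :=
    Groth.Agent.Lib.Helper18.Unram.val_root_eq_one hW hVW θ g hgpos _ _ hu₁ hu₂ hθ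
  have hθW : θ ∈ W := (W.valuation_le_one_iff θ).mp hθv.le
  have hθ0 : θ ≠ 0 := by
    intro h0; rw [h0, map_zero] at hθv; exact zero_ne_one hθv
  have hx₂lt : W.valuation x₂ < 1 := Groth.Agent.Lib.Helper18.Unram.val_uniformizer_lt hW hϖB
  have hϖ'va : W.valuation ϖ' ^ a = W.valuation x₂ := by
    rw [← map_pow, hϖ'a, map_mul, map_pow, hθv, one_pow, one_mul]
  have hϖ'lt : W.valuation ϖ' < 1 := by
    by_contra hge
    rw [not_lt] at hge
    have : 1 ≤ W.valuation ϖ' ^ a := one_le_pow₀ hge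
    rw [hϖ'va] at this
    exact absurd hx₂lt (not_lt.mpr this)
  have hϖ'0 : ϖ' ≠ 0 := by
    rw [hϖ'def]
    exact div_ne_zero (pow_ne_zero _ hx₁0) (pow_ne_zero _ hx₂0)
  have hϖ'W : ϖ' ∈ W := (W.valuation_le_one_iff ϖ').mp hϖ'lt.le
  set D := Groth.Agent.Lib.Helper18.Unram.genRingRoot2 gB φV θ ϖ' with hD
  have hDW := Groth.Agent.Lib.Helper18.Unram.genRingRoot2_le hW hVW θ ϖ' hθW hϖ'W
  have hθD : θ ∈ D := Groth.Agent.Lib.Helper18.Unram.mem_genRingRoot2_root _ _ θ ϖ'
  have hϖ'D : ϖ' ∈ D := Groth.Agent.Lib.Helper18.Unram.mem_genRingRoot2_unif _ _ θ ϖ'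
  -- the inverse of `θ`
  set θinv : F := θ ^ (g - 1) * (gB ((uB⁻¹ : Bˣ) : B) * φV uV) with hθinv
  have hθinvD : θinv ∈ D :=
    D.mul_mem (D.pow_mem hθD _) (D.mul_mem
      (Groth.Agent.Lib.Helper18.Unram.mem_genRingRoot2_left _ _ θ ϖ' _)
      (Groth.Agent.Lib.Helper18.Unram.mem_genRingRoot2_right _ _ θ ϖ' _))
  have hθθinv : θ * θinv = 1 := by
    have h1 : θ * θ ^ (g - 1) = θ ^ g := by
      rw [← pow_succ', Nat.sub_add_cancel hgpos]
    have h2 : φV ((uV⁻¹ : Vˣ) : V) * φV uV = 1 := by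
      rw [← map_mul, Units.inv_mul, map_one]
    have h3 : gB uB * gB ((uB⁻¹ : Bˣ) : B) = 1 := by
      rw [← map_mul, Units.mul_inv, map_one]
    rw [hθinv, ← mul_assoc, h1, hθ]
    calc φV ((uV⁻¹ : Vˣ) : V) * gB uB * (gB ((uB⁻¹ : Bˣ) : B) * φV uV)
        = (gB uB * gB ((uB⁻¹ : Bˣ) : B)) * (φV ((uV⁻¹ : Vˣ) : V) * φV uV) := by ring
      _ = 1 := by rw [h2, h3, one_mul]
  have hx₂eq : x₂ = ϖ' * (θinv ^ s * ϖ' ^ (a - 1)) := by
    have h1 : ϖ' * ϖ' ^ (a - 1) = ϖ' ^ a := by
      rw [← pow_succ', Nat.sub_add_cancel hapos]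
    calc x₂ = (θ * θinv) ^ s * x₂ := by rw [hθθinv, one_pow, one_mul]
      _ = θinv ^ s * (θ ^ s * x₂) := by rw [mul_pow]; ring
      _ = θinv ^ s * ϖ' ^ a := by rw [hϖ'a]
      _ = ϖ' * (θinv ^ s * ϖ' ^ (a - 1)) := by rw [← h1]; ring
  have hx₁eq : x₁ = ϖ' * (θinv ^ t * ϖ' ^ (b - 1)) := by
    have h1 : ϖ' * ϖ' ^ (b - 1) = ϖ' ^ b := by
      rw [← pow_succ', Nat.sub_add_cancel hbpos]
    calc x₁ = (θ * θinv) ^ t * x₁ := by rw [hθθinv, one_pow, one_mul]
      _ = θinv ^ t * (x₁ * θ ^ t) := by rw [mul_pow]; ring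
      _ = θinv ^ t * ϖ' ^ b := by rw [hϖ'b]
      _ = ϖ' * (θinv ^ t * ϖ' ^ (b - 1)) := by rw [← h1]; ring
  have hm₁ : ∀ b' ∈ IsLocalRing.maximalIdeal B, ∃ d' ∈ D, gB b' = ϖ' * d' := by
    intro b' hb'
    rw [hϖB.maximalIdeal_eq] at hb'
    obtain ⟨b'', rfl⟩ := Ideal.mem_span_singleton'.mp hb'
    refine ⟨gB b'' * (θinv ^ s * ϖ' ^ (a - 1)), D.mul_mem
      (Groth.Agent.Lib.Helper18.Unram.mem_genRingRoot2_left _ _ θ ϖ' b'')
      (D.mul_mem (D.pow_mem hθinvD _) (D.pow_mem hϖ'D _)), ?_⟩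
    rw [map_mul]
    show gB b'' * x₂ = _
    conv_lhs => rw [hx₂eq]
    ring
  have hm₂ : ∀ v ∈ IsLocalRing.maximalIdeal V, ∃ d' ∈ D, φV v = ϖ' * d' := by
    intro v hv
    rw [hmV] at hv
    obtain ⟨v', rfl⟩ := Ideal.mem_span_singleton'.mp hv
    refine ⟨φV v' * (θinv ^ t * ϖ' ^ (b - 1)), D.mul_mem
      (Groth.Agent.Lib.Helper18.Unram.mem_genRingRoot2_right _ _ θ ϖ' v')
      (D.mul_mem (D.pow_mem hθinvD _) (D.pow_mem hϖ'D _)), ?_⟩
    rw [map_mul]
    show φV v' * x₁ = _
    conv_lhs => rw [hx₁eq]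
    ring
  have hk : ∀ c : IsLocalRing.ResidueField A, ∃ (v₁ : B) (v₂ : V),
      algebraMap (IsLocalRing.ResidueField A) (IsLocalRing.ResidueField B) c =
        IsLocalRing.residue B v₁ ∧
      algebraMap (IsLocalRing.ResidueField A) (IsLocalRing.ResidueField V) c =
        IsLocalRing.residue V v₂ ∧ gB v₁ = φV v₂ := by
    intro c
    obtain ⟨a', rfl⟩ := IsLocalRing.residue_surjective c
    exact ⟨algebraMap A B a', algebraMap A V a', IsLocalRing.ResidueField.algebraMap_residue _,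
      IsLocalRing.ResidueField.algebraMap_residue _, (hφVA a').symm⟩
  haveI hredT : IsReduced (TensorProduct (IsLocalRing.ResidueField A)
      (IsLocalRing.ResidueField V) (IsLocalRing.ResidueField B)) := by
    haveI : IsReduced (TensorProduct (IsLocalRing.ResidueField A)
        (IsLocalRing.ResidueField B) (IsLocalRing.ResidueField V)) :=
      Groth.Agent.Lib.Helper18.Unram.isReduced_field_tensor_of_isSeparable
    exact isReduced_of_injective
      (Algebra.TensorProduct.comm (IsLocalRing.ResidueField A)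
        (IsLocalRing.ResidueField V) (IsLocalRing.ResidueField B))
      (AlgEquiv.injective _)
  have hmaxT : ∀ 𝔭 : Ideal (TensorProduct (IsLocalRing.ResidueField A)
      (IsLocalRing.ResidueField V) (IsLocalRing.ResidueField B)), 𝔭.IsPrime → 𝔭.IsMaximal := by
    intro 𝔭 h𝔭
    haveI := h𝔭
    exact Groth.Agent.Lib.Helper18.Unram.isMaximal_of_isPrime_of_left_algebraic 𝔭
  have heu : IsUnit ((g : ℕ) : TensorProduct (IsLocalRing.ResidueField A)
      (IsLocalRing.ResidueField V) (IsLocalRing.ResidueField B)) := by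
    have h1 : IsUnit ((g : ℕ) : IsLocalRing.ResidueField A) := isUnit_iff_ne_zero.mpr hg0
    have := h1.map (algebraMap (IsLocalRing.ResidueField A)
      (TensorProduct (IsLocalRing.ResidueField A) (IsLocalRing.ResidueField V)
        (IsLocalRing.ResidueField B)))
    rwa [map_natCast] at this
  have hf3 := Groth.Agent.Lib.Helper18.Unram.f3_of_residue_root2 (W := W) (φ₁ := gB) (φ₂ := φV)
    hW hVW ϖ' hϖ'lt (IsLocalRing.ResidueField A) θ g hgpos _ _ hu₁ hu₂ hθ hm₁ hm₂ hk hmaxT heu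
  have hetmul : ∀ (k' : K') (l : L),
      algebraMap (K' ⊗[K] L) F (k' ⊗ₜ[K] l) = fK' k' * fL l := by
    intro k' l
    show _ = algebraMap (K' ⊗[K] L) F (k' ⊗ₜ[K] (1 : L)) *
      algebraMap (K' ⊗[K] L) F ((1 : K') ⊗ₜ[K] l)
    rw [← map_mul, Algebra.TensorProduct.tmul_mul_tmul, mul_one, one_mul]
  -- algebraicity of `F` over `B`
  have halg : ∀ y : F, y ≠ 0 → ∃ p : Polynomial B, p ≠ 0 ∧ p.eval₂ gB y = 0 := by
    letI algLF : Algebra L F := fL.toAlgebra
    letI algKF : Algebra K F := (fL.comp (algebraMap K L)).toAlgebra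
    haveI : IsScalarTower K L F := IsScalarTower.of_algebraMap_eq (fun _ => rfl)
    letI algBF : Algebra B F := gB.toAlgebra
    haveI : IsScalarTower B L F := IsScalarTower.of_algebraMap_eq (fun _ => rfl)
    let fK'a : K' →ₐ[K] F := { fK' with commutes' := fun c => hcompat c }
    have hint : ∀ y : F, IsIntegral L y := by
      intro y
      obtain ⟨t, rfl⟩ := hF y
      induction t using TensorProduct.induction_on with
      | zero => rw [map_zero]; exact isIntegral_zero
      | tmul k' l =>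
        rw [hetmul]
        have h1 : IsIntegral K k' := Algebra.IsIntegral.isIntegral k'
        have h2 : IsIntegral K (fK' k') := h1.map fK'a
        exact (h2.tower_top).mul (isIntegral_algebraMap (R := L) (A := F) (x := l))
      | add a b ha hb => rw [map_add]; exact ha.add hb
    intro y _
    have h1 : IsAlgebraic L y := (hint y).isAlgebraic
    have h2 : IsAlgebraic B y := (IsFractionRing.isAlgebraic_iff B L F).mpr h1
    obtain ⟨p, hp0, hp⟩ := h2
    exact ⟨p, hp0, by rw [← hp, Polynomial.aeval_def]; rfl⟩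
  have hsepW : ∀ y ∈ D, y ≠ 0 → ∃ n : ℕ, ¬ (W.valuation y ≤ W.valuation ϖ' ^ n) := by
    intro y _ hy0
    obtain ⟨p, hp0, hp⟩ := halg y hy0
    obtain ⟨n, hn⟩ := Groth.Agent.Lib.Helper18.Unram.sep_of_algebraic hW hgBinj hϖB y hy0 p hp0 hp
    refine ⟨a * n, fun hle => hn ?_⟩
    show W.valuation y ≤ W.valuation x₂ ^ n
    rw [← hϖ'va, ← pow_mul]
    exact hle
  -- generation
  have hgen : ∀ x : F, ∃ d₁ ∈ D, ∃ d₂ ∈ D, d₂ ≠ 0 ∧ x = d₁ / d₂ := by
    intro x
    obtain ⟨t, rfl⟩ := hF x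
    induction t using TensorProduct.induction_on with
    | zero => exact ⟨0, D.zero_mem, 1, D.one_mem, one_ne_zero, by simp⟩
    | tmul k' l =>
      obtain ⟨v₁, v₂, hv₂, rfl⟩ := IsFractionRing.div_surjective (A := V) k'
      obtain ⟨b₁, b₂, hb₂, rfl⟩ := IsFractionRing.div_surjective (A := B) l
      have hv₂0 : φV v₂ ≠ 0 := by
        have : (v₂ : K') ≠ 0 := fun h0 => (nonZeroDivisors.ne_zero hv₂) (Subtype.ext h0)
        exact (map_ne_zero fK').mpr this
      have hb₂0 : gB b₂ ≠ 0 := fun h0 =>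
        (nonZeroDivisors.ne_zero hb₂) (hgBinj (h0.trans (map_zero gB).symm))
      refine ⟨φV v₁ * gB b₁, D.mul_mem
        (Groth.Agent.Lib.Helper18.Unram.mem_genRingRoot2_right _ _ θ ϖ' v₁)
        (Groth.Agent.Lib.Helper18.Unram.mem_genRingRoot2_left _ _ θ ϖ' b₁), φV v₂ * gB b₂,
        D.mul_mem (Groth.Agent.Lib.Helper18.Unram.mem_genRingRoot2_right _ _ θ ϖ' v₂)
        (Groth.Agent.Lib.Helper18.Unram.mem_genRingRoot2_left _ _ θ ϖ' b₂),
        mul_ne_zero hv₂0 hb₂0, ?_⟩
      rw [hetmul, map_div₀, map_div₀]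
      show φV v₁ / φV v₂ * (gB b₁ / gB b₂) = _
      rw [div_mul_div_comm]
    | add a b ha hb =>
      obtain ⟨d₁, hd₁, d₂, hd₂, hd₂0, ea⟩ := ha
      obtain ⟨e₁, he₁, e₂, he₂, he₂0, eb⟩ := hb
      refine ⟨d₁ * e₂ + d₂ * e₁, D.add_mem (D.mul_mem hd₁ he₂) (D.mul_mem hd₂ he₁), d₂ * e₂,
        D.mul_mem hd₂ he₂, mul_ne_zero hd₂0 he₂0, ?_⟩
      rw [map_add, ea, eb, div_add_div _ _ hd₂0 he₂0]
  have hU : Groth.Agent.Lib.Helper18.Unram.UData W D ϖ' :=
    { hDW := hDW
      hϖD := hϖ'D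
      hϖ := hϖ'lt
      hϖ0 := hϖ'0
      sep := hsepW
      f3 := hf3
      gen := hgen }
  refine ⟨?_, ?_⟩
  · -- separable residue field extension
    let rV : IsLocalRing.ResidueField V →+* IsLocalRing.ResidueField W :=
      IsLocalRing.ResidueField.map (EtRam.inclOfComap W fK')
    have hrV : ∀ v : V, rV (IsLocalRing.residue V v) =
        IsLocalRing.residue W (EtRam.inclOfComap W fK' v) := fun v =>
      IsLocalRing.ResidueField.map_residue _ _
    have hrB : ∀ b' : B, algebraMap (IsLocalRing.ResidueField B) (IsLocalRing.ResidueField W)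
        (IsLocalRing.residue B b') = IsLocalRing.residue W (algebraMap B W b') := fun b' =>
      IsLocalRing.ResidueField.algebraMap_residue _
    have hcompatres : ∀ c : IsLocalRing.ResidueField A,
        rV (algebraMap (IsLocalRing.ResidueField A) (IsLocalRing.ResidueField V) c) =
        algebraMap (IsLocalRing.ResidueField B) (IsLocalRing.ResidueField W)
          (algebraMap (IsLocalRing.ResidueField A) (IsLocalRing.ResidueField B) c) := by
      intro c
      obtain ⟨a', rfl⟩ := IsLocalRing.residue_surjective c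
      rw [IsLocalRing.ResidueField.algebraMap_residue, IsLocalRing.ResidueField.algebraMap_residue,
        hrV, hrB]
      congr 1
      exact Subtype.ext (hcompatA a')
    set θbar : IsLocalRing.ResidueField W := IsLocalRing.residue W ⟨θ, hθW⟩ with hθbar
    have hgW : ((g : ℕ) : IsLocalRing.ResidueField W) ≠ 0 := by
      have := (map_ne_zero (rV.comp (algebraMap (IsLocalRing.ResidueField A)
        (IsLocalRing.ResidueField V)))).mpr hg0
      rwa [map_natCast] at this
    have hθbar_pow : θbar ^ g =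
        algebraMap (IsLocalRing.ResidueField B) (IsLocalRing.ResidueField W)
          (IsLocalRing.residue B uB) * rV (IsLocalRing.residue V ((uV⁻¹ : Vˣ) : V)) := by
      rw [hθbar, ← map_pow, hrV, hrB, ← map_mul]
      congr 1
      apply Subtype.ext
      show θ ^ g = gB uB * φV ((uV⁻¹ : Vˣ) : V)
      rw [hθ, mul_comm]
    have ha0 : IsLocalRing.residue B (uB : B) ≠ 0 := by
      rw [Ne, IsLocalRing.residue_eq_zero_iff]
      exact fun h => (IsLocalRing.mem_maximalIdeal _).mp h hu₁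
    have hb0 : IsLocalRing.residue V ((uV⁻¹ : Vˣ) : V) ≠ 0 := by
      rw [Ne, IsLocalRing.residue_eq_zero_iff]
      exact fun h => (IsLocalRing.mem_maximalIdeal _).mp h hu₂
    refine Groth.Agent.Lib.Helper18.Unram.isSeparable_of_root_generators
      (k := IsLocalRing.ResidueField A) rV hcompatres θbar g hgW _ _ ha0 hb0 hθbar_pow ?_
    intro S hS₂ hS₁ hSθ
    refine hU.residue_mem_subfield S ?_
    refine Groth.Agent.Lib.Helper18.Unram.residue_genRingRoot2_mem gB φV θ ϖ' hDW S.toSubring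
      (fun v => ?_) (fun v => ?_) hSθ ?_
    · have := hS₂ (IsLocalRing.residue B v)
      rw [hrB] at this
      exact this
    · have := hS₁ (IsLocalRing.residue V v)
      rw [hrV] at this
      exact this
    · have : IsLocalRing.residue W ⟨ϖ', hϖ'W⟩ = 0 := by
        rw [IsLocalRing.residue_eq_zero_iff, W.valuation_lt_one_iff]
        exact hϖ'lt
      rw [this]
      exact S.zero_mem
  · -- the ramification index
    intro p hp hchar hdvd
    let ϖW : W := ⟨ϖ', hϖ'W⟩
    have hmW : IsLocalRing.maximalIdeal W = Ideal.span {ϖW} := by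
      apply le_antisymm
      · intro x hx
        rw [W.valuation_lt_one_iff] at hx
        obtain ⟨w, hw, e'⟩ := hU.exists_eq_mul (x : F) hx
        have : x = ⟨w, hw⟩ * ϖW := Subtype.ext (by rw [e']; exact mul_comm _ _)
        rw [this]
        exact Ideal.mem_span_singleton'.mpr ⟨_, rfl⟩
      · rw [Ideal.span_le]
        intro x hx
        rw [Set.mem_singleton_iff] at hx
        rw [hx]
        show ϖW ∈ IsLocalRing.maximalIdeal W
        rw [W.valuation_lt_one_iff]
        exact hϖ'lt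
    have hϖW0 : ϖW ≠ 0 := fun h0 => hϖ'0 (congrArg Subtype.val h0)
    have hθinvW : θinv ∈ W := hDW _ hθinvD
    let uW : Wˣ :=
      ⟨⟨θinv ^ s, W.pow_mem hθinvW s⟩, ⟨θ ^ s, W.pow_mem hθW s⟩,
        Subtype.ext (by
          show θinv ^ s * θ ^ s = 1
          rw [← mul_pow, mul_comm, hθθinv, one_pow]),
        Subtype.ext (by
          show θ ^ s * θinv ^ s = 1
          rw [← mul_pow, hθθinv, one_pow])⟩
    have hfacW : algebraMap B W ϖB = (uW : W) * ϖW ^ a := by
      apply Subtype.ext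
      show x₂ = θinv ^ s * ϖ' ^ a
      have h1 : ϖ' * ϖ' ^ (a - 1) = ϖ' ^ a := by
        rw [← pow_succ', Nat.sub_add_cancel hapos]
      conv_lhs => rw [hx₂eq]
      rw [← h1]; ring
    have hidx : Ideal.ramificationIdx' (IsLocalRing.maximalIdeal B) (IsLocalRing.maximalIdeal W) = a :=
      Groth.Agent.Lib.Helper18.Unram.ramificationIdx'_eq_of_factor hϖB hmW hϖW0 hfacW
    rw [hidx] at hdvd
    haveI := hchar
    have hcharA : CharP (IsLocalRing.ResidueField A) p :=
      (RingHom.charP_iff (algebraMap (IsLocalRing.ResidueField A) (IsLocalRing.ResidueField B))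
        (algebraMap (IsLocalRing.ResidueField A) (IsLocalRing.ResidueField B)).injective p).mpr hchar
    apply hram p hp hcharA
    rw [heV, heVg]
    exact dvd_mul_of_dvd_right hdvd g

end Groth.Agent.S9307
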