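import Groth.Statements.S1991
import Groth.Agent.S9306
import Groth.Agent.S9307
import Groth.Agent.Lib.Helper18.Unram.GalClosure
import Groth.Agent.Lib.Helper24.Tame.Tower

set_option autoImplicit false
universe u
open EtAlg

namespace Groth.Agent.S1991

section Helpers

open TensorProduct Groth.Agent.Lib.Helper18.Unram

variable (A K : Type u) [CommRing A] [IsDomain A] [IsDiscreteValuationRing A] [Field K]
  [Algebra A K] [IsFractionRing A K]

theorem subStable_unram : SubStable (K := K)
    (fun L _ _ => EtRam.IsUnramifiedExt A ((algebraMap K L).comp (algebraMap A K))) := by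
  intro L M _ _ _ _ _ _ ι h
  letI algLM : Algebra L M := ι.toRingHom.toAlgebra
  haveI : IsScalarTower K L M := IsScalarTower.of_algebraMap_eq (fun x => (ι.commutes x).symm)
  exact Groth.Agent.Lib.Helper24.TameTower.unram_sub (A := A) (K := K) (L := L) (M := M) h

theorem subStable_tame : SubStable (K := K)
    (fun L _ _ => EtRam.IsTamelyRamified A ((algebraMap K L).comp (algebraMap A K))) := by
  intro L M _ _ _ _ _ _ ι h
  letI algLM : Algebra L M := ι.toRingHom.toAlgebra
  haveI : IsScalarTower K L M := IsScalarTower.of_algebraMap_eq (fun x => (ι.commutes x).symm)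
  exact Groth.Agent.Lib.Helper24.TameTower.tame_sub (A := A) (K := K) (L := L) (M := M) h

theorem compStable_unram : CompStable (K := K)
    (fun L _ _ => EtRam.IsUnramifiedExt A ((algebraMap K L).comp (algebraMap A K))) := by
  intro L₁ L₂ F _ _ _ _ _ _ _ _ _ _ _ _ φ hφ h₁ h₂
  letI algTF : Algebra (L₁ ⊗[K] L₂) F := φ.toRingHom.toAlgebra
  letI algL₂F : Algebra L₂ F := (φ.toRingHom.comp
    (Algebra.TensorProduct.includeRight : L₂ →ₐ[K] L₁ ⊗[K] L₂).toRingHom).toAlgebra
  haveI : IsScalarTower K L₂ F := IsScalarTower.of_algebraMap_eq (fun c => by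
    show algebraMap K F c = φ ((Algebra.TensorProduct.includeRight : L₂ →ₐ[K] L₁ ⊗[K] L₂)
      (algebraMap K L₂ c))
    rw [AlgHom.commutes, AlgHom.commutes])
  refine Groth.Agent.Lib.Helper24.TameTower.unram_comp (A := A) (K := K) (L := L₂) (M := F) h₂ ?_
  intro V hV
  letI algAV : Algebra A V := (RingHom.codRestrict _ V hV.1).toAlgebra
  haveI : IsLocalHom (algebraMap A V) :=
    Groth.Agent.Lib.Helper24.TameTower.isLocalHom_of_dominates hV
  haveI : IsDiscreteValuationRing V :=
    Groth.Agent.Lib.Helper24.TameDVR.isDVR_of_dominates A K L₂ V hV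
  letI algAL₂ : Algebra A L₂ := ((algebraMap K L₂).comp (algebraMap A K)).toAlgebra
  haveI : IsScalarTower A K L₂ := IsScalarTower.of_algebraMap_eq (fun _ => rfl)
  haveI : IsScalarTower A V L₂ := IsScalarTower.of_algebraMap_eq (fun _ => rfl)
  have hinj : Function.Injective (algebraMap A V) := by
    intro a b hab
    have h1 : ((algebraMap K L₂).comp (algebraMap A K)) a =
        ((algebraMap K L₂).comp (algebraMap A K)) b := congrArg Subtype.val hab
    exact ((algebraMap K L₂).injective.comp (IsFractionRing.injective A K)) h1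
  exact Groth.Agent.S9306.result A V K L₂ L₁ hinj h₁ F hφ

theorem compStable_tame : CompStable (K := K)
    (fun L _ _ => EtRam.IsTamelyRamified A ((algebraMap K L).comp (algebraMap A K))) := by
  intro L₁ L₂ F _ _ _ _ _ _ _ _ _ _ _ _ φ hφ h₁ h₂
  letI algTF : Algebra (L₁ ⊗[K] L₂) F := φ.toRingHom.toAlgebra
  letI algL₂F : Algebra L₂ F := (φ.toRingHom.comp
    (Algebra.TensorProduct.includeRight : L₂ →ₐ[K] L₁ ⊗[K] L₂).toRingHom).toAlgebra
  haveI : IsScalarTower K L₂ F := IsScalarTower.of_algebraMap_eq (fun c => by
    show algebraMap K F c = φ ((Algebra.TensorProduct.includeRight : L₂ →ₐ[K] L₁ ⊗[K] L₂)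
      (algebraMap K L₂ c))
    rw [AlgHom.commutes, AlgHom.commutes])
  refine Groth.Agent.Lib.Helper24.TameTower.tame_comp (A := A) (K := K) (L := L₂) (M := F) h₂ ?_
  intro V hV
  letI algAV : Algebra A V := (RingHom.codRestrict _ V hV.1).toAlgebra
  haveI : IsLocalHom (algebraMap A V) :=
    Groth.Agent.Lib.Helper24.TameTower.isLocalHom_of_dominates hV
  haveI : IsDiscreteValuationRing V :=
    Groth.Agent.Lib.Helper24.TameDVR.isDVR_of_dominates A K L₂ V hV
  letI algAL₂ : Algebra A L₂ := ((algebraMap K L₂).comp (algebraMap A K)).toAlgebra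
  haveI : IsScalarTower A K L₂ := IsScalarTower.of_algebraMap_eq (fun _ => rfl)
  haveI : IsScalarTower A V L₂ := IsScalarTower.of_algebraMap_eq (fun _ => rfl)
  have hinj : Function.Injective (algebraMap A V) := by
    intro a b hab
    have h1 : ((algebraMap K L₂).comp (algebraMap A K)) a =
        ((algebraMap K L₂).comp (algebraMap A K)) b := congrArg Subtype.val hab
    exact ((algebraMap K L₂).injective.comp (IsFractionRing.injective A K)) h1
  exact Groth.Agent.S9307.result A V K L₂ L₁ hinj h₁ F hφ

end Helpers


/-- Let A be a discrete valuation ring with fraction field K. A finite separable extension L/K that is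
unramified (resp. tamely ramified) with respect to A embeds over K into a finite Galois extension of
K that is unramified (resp. tamely ramified) with respect to A; and two finite separable extensions
of K that are unramified (resp. tamely ramified) with respect to A embed over K into a common finite
separable extension with the same property. -/
theorem result (A K : Type u) [CommRing A] [IsDomain A] [IsDiscreteValuationRing A] [Field K] [Algebra A K] [IsFractionRing A K] :
    (∀ (L : Type u) [Field L] [Algebra K L] [FiniteDimensional K L] [Algebra.IsSeparable K L],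
      (EtRam.IsUnramifiedExt A ((algebraMap K L).comp (algebraMap A K)) →
        ∃ (M : Type u) (_ : Field M) (_ : Algebra K M) (_ : FiniteDimensional K M) (_ : IsGalois K M) (_ : L →ₐ[K] M),
          EtRam.IsUnramifiedExt A ((algebraMap K M).comp (algebraMap A K))) ∧
      (EtRam.IsTamelyRamified A ((algebraMap K L).comp (algebraMap A K)) →
        ∃ (M : Type u) (_ : Field M) (_ : Algebra K M) (_ : FiniteDimensional K M) (_ : IsGalois K M) (_ : L →ₐ[K] M),
          EtRam.IsTamelyRamified A ((algebraMap K M).comp (algebraMap A K)))) ∧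
    (∀ (L₁ L₂ : Type u) [Field L₁] [Field L₂] [Algebra K L₁] [Algebra K L₂] [FiniteDimensional K L₁] [FiniteDimensional K L₂]
      [Algebra.IsSeparable K L₁] [Algebra.IsSeparable K L₂],
      (EtRam.IsUnramifiedExt A ((algebraMap K L₁).comp (algebraMap A K)) →
        EtRam.IsUnramifiedExt A ((algebraMap K L₂).comp (algebraMap A K)) →
        ∃ (M : Type u) (_ : Field M) (_ : Algebra K M) (_ : FiniteDimensional K M) (_ : Algebra.IsSeparable K M)
          (_ : L₁ →ₐ[K] M) (_ : L₂ →ₐ[K] M), EtRam.IsUnramifiedExt A ((algebraMap K M).comp (algebraMap A K))) ∧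
      (EtRam.IsTamelyRamified A ((algebraMap K L₁).comp (algebraMap A K)) →
        EtRam.IsTamelyRamified A ((algebraMap K L₂).comp (algebraMap A K)) →
        ∃ (M : Type u) (_ : Field M) (_ : Algebra K M) (_ : FiniteDimensional K M) (_ : Algebra.IsSeparable K M)
          (_ : L₁ →ₐ[K] M) (_ : L₂ →ₐ[K] M), EtRam.IsTamelyRamified A ((algebraMap K M).comp (algebraMap A K)))) := by
  refine ⟨fun L _ _ _ _ => ⟨fun h => ?_, fun h => ?_⟩, fun L₁ L₂ _ _ _ _ _ _ _ _ => ⟨fun h₁ h₂ => ?_, fun h₁ h₂ => ?_⟩⟩
  · exact Groth.Agent.Lib.Helper18.Unram.exists_galois (subStable_unram A K) (compStable_unram A K) L h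
  · exact Groth.Agent.Lib.Helper18.Unram.exists_galois (subStable_tame A K) (compStable_tame A K) L h
  · exact Groth.Agent.Lib.Helper18.Unram.exists_compositum (subStable_unram A K)
      (compStable_unram A K) L₁ L₂ h₁ h₂
  · exact Groth.Agent.Lib.Helper18.Unram.exists_compositum (subStable_tame A K)
      (compStable_tame A K) L₁ L₂ h₁ h₂

end Groth.Agent.S1991
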