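import Groth.Statements.S1992
-- import your own Groth.Agent.* helpers here
import Mathlib

set_option autoImplicit false
universe u
open Polynomial
open EtAlg

namespace Groth.Agent.S1992

section helpers

variable {A : Type u} [CommRing A]
  (hA : ∀ f : A[X], f.Monic → ∃ s : Multiset A, f = (s.map fun a => X - C a).prod)
  (p : Ideal A) [p.IsPrime]

include hA in
lemma fact (f : (Localization.AtPrime p)[X]) (hf : f.Monic) :
    ∃ (s : Localization.AtPrime p) (_ : IsUnit s) (t : Multiset (Localization.AtPrime p)),
      f.scaleRoots s = (t.map fun a => X - C a).prod := by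
  obtain ⟨b, hb⟩ := IsLocalization.exist_integer_multiples (M := p.primeCompl)
    (S := Localization.AtPrime p) (Finset.range (f.natDegree + 1)) (fun i => f.coeff i)
  set sA : Localization.AtPrime p := algebraMap A (Localization.AtPrime p) (b : A) with hsA
  have hsu : IsUnit sA := IsLocalization.map_units (Localization.AtPrime p) b
  have hlifts : f.scaleRoots sA ∈ lifts (algebraMap A (Localization.AtPrime p)) := by
    rw [lifts_iff_coeff_lifts]
    intro i
    rw [coeff_scaleRoots]
    rcases lt_trichotomy i f.natDegree with hi | hi | hi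
    · obtain ⟨a, ha⟩ := hb i (Finset.mem_range.mpr (by omega))
      obtain ⟨k, hk⟩ : ∃ k, f.natDegree - i = k + 1 := ⟨f.natDegree - i - 1, by omega⟩
      refine ⟨a * (b : A) ^ k, ?_⟩
      rw [hk, map_mul, map_pow, ha, Algebra.smul_def, ← hsA, pow_succ]
      ring
    · subst hi
      refine ⟨1, ?_⟩
      rw [map_one, Nat.sub_self, pow_zero, mul_one]
      exact hf.coeff_natDegree.symm
    · refine ⟨0, ?_⟩
      rw [map_zero, coeff_eq_zero_of_natDegree_lt hi, zero_mul]
  obtain ⟨h, hh1, -, hh3⟩ := lifts_and_natDegree_eq_and_monic hlifts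
    ((monic_scaleRoots_iff sA).mpr hf)
  obtain ⟨t, ht⟩ := hA h hh3
  refine ⟨sA, hsu, t.map (algebraMap A (Localization.AtPrime p)), ?_⟩
  rw [← hh1, ht, Polynomial.map_multiset_prod, Multiset.map_map, Multiset.map_map]
  congr 1
  apply Multiset.map_congr rfl
  intro a _
  simp

include hA in
lemma exists_root_near (f : (Localization.AtPrime p)[X]) (hf : f.Monic)
    (a₀ : Localization.AtPrime p)
    (h0 : f.eval a₀ ∈ IsLocalRing.maximalIdeal (Localization.AtPrime p)) :
    ∃ a : Localization.AtPrime p, f.IsRoot a ∧
      a - a₀ ∈ IsLocalRing.maximalIdeal (Localization.AtPrime p) := by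
  obtain ⟨s, hs, t, ht⟩ := fact hA p f hf
  obtain ⟨u, rfl⟩ := hs
  have h1 : eval ((u : Localization.AtPrime p) * a₀) (f.scaleRoots u) ∈
      IsLocalRing.maximalIdeal (Localization.AtPrime p) := by
    rw [scaleRoots_eval_mul]
    exact Ideal.mul_mem_left _ _ h0
  rw [ht, eval_multiset_prod, Multiset.map_map] at h1
  have hprime : (IsLocalRing.maximalIdeal (Localization.AtPrime p)).IsPrime :=
    (IsLocalRing.maximalIdeal.isMaximal _).isPrime
  obtain ⟨y, hy, hym⟩ := (hprime.multiset_prod_mem_iff_exists_mem _).mp h1
  obtain ⟨c, hc, rfl⟩ := Multiset.mem_map.mp hy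
  simp only [Function.comp_apply, eval_sub, eval_X, eval_C] at hym
  -- the root
  have hcroot : eval c (f.scaleRoots u) = 0 := by
    rw [ht, eval_multiset_prod, Multiset.map_map]
    apply Multiset.prod_eq_zero
    rw [Multiset.mem_map]
    exact ⟨c, hc, by simp⟩
  refine ⟨(↑u⁻¹ : Localization.AtPrime p) * c, ?_, ?_⟩
  · have h2 := scaleRoots_eval_mul f ((↑u⁻¹ : Localization.AtPrime p) * c)
      (u : Localization.AtPrime p)
    rw [← mul_assoc, Units.mul_inv, one_mul, hcroot] at h2
    have h3 : IsUnit ((u : Localization.AtPrime p) ^ f.natDegree) := (u.isUnit).pow _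
    exact (h3.mul_right_eq_zero).mp h2.symm
  · have : (↑u⁻¹ : Localization.AtPrime p) * c - a₀ =
        - ((↑u⁻¹ : Localization.AtPrime p) * ((u : Localization.AtPrime p) * a₀ - c)) := by
      rw [mul_sub, ← mul_assoc, Units.inv_mul, one_mul]
      ring
    rw [this]
    exact Ideal.neg_mem_iff _ |>.mpr (Ideal.mul_mem_left _ _ hym)

include hA in
lemma exists_root (f : (Localization.AtPrime p)[X]) (hf : f.Monic) (hdeg : f.natDegree ≠ 0) :
    ∃ a : Localization.AtPrime p, f.IsRoot a := by
  obtain ⟨s, hs, t, ht⟩ := fact hA p f hf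
  obtain ⟨u, rfl⟩ := hs
  have hcard : Multiset.card t = f.natDegree := by
    rw [← natDegree_scaleRoots f (u : Localization.AtPrime p), ht,
      natDegree_multiset_prod_X_sub_C_eq_card]
  have ht0 : t ≠ 0 := by
    intro h0
    rw [h0, Multiset.card_zero] at hcard
    exact hdeg hcard.symm
  obtain ⟨c, hc⟩ := Multiset.exists_mem_of_ne_zero ht0
  have hcroot : eval c (f.scaleRoots u) = 0 := by
    rw [ht, eval_multiset_prod, Multiset.map_map]
    apply Multiset.prod_eq_zero
    rw [Multiset.mem_map]
    exact ⟨c, hc, by simp⟩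
  refine ⟨(↑u⁻¹ : Localization.AtPrime p) * c, ?_⟩
  have h2 := scaleRoots_eval_mul f ((↑u⁻¹ : Localization.AtPrime p) * c)
    (u : Localization.AtPrime p)
  rw [← mul_assoc, Units.mul_inv, one_mul, hcroot] at h2
  have h3 : IsUnit ((u : Localization.AtPrime p) ^ f.natDegree) := (u.isUnit).pow _
  exact (h3.mul_right_eq_zero).mp h2.symm

end helpers


/-- Let A be an absolutely integrally closed ring, i.e. every monic polynomial over A is a product of
linear factors X - a. Then for every prime p of A the localization A_p is a strictly henselian local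
ring (henselian with separably closed residue field). -/
theorem result (A : Type u) [CommRing A]
    (hA : ∀ f : A[X], f.Monic → ∃ s : Multiset A, f = (s.map fun a => X - C a).prod)
    (p : Ideal A) [p.IsPrime] :
    EtCoh.IsStrictlyHenselianLocalRing (Localization.AtPrime p) := by
  have hH : HenselianLocalRing (Localization.AtPrime p) :=
    { is_henselian := fun f hf a₀ h0 _ => exists_root_near hA p f hf a₀ h0 }
  refine ⟨hH, ?_⟩
  have : IsAlgClosed (IsLocalRing.ResidueField (Localization.AtPrime p)) := by
    apply IsAlgClosed.of_exists_root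
    intro q hq hirr
    have hql : q ∈ lifts (IsLocalRing.residue (Localization.AtPrime p)) := by
      rw [mem_lifts]
      exact Polynomial.map_surjective _ IsLocalRing.residue_surjective q
    obtain ⟨f, hf1, hf2, hf3⟩ := lifts_and_natDegree_eq_and_monic hql hq
    have hdeg : f.natDegree ≠ 0 := by
      rw [hf2]
      exact (Polynomial.natDegree_pos_iff_degree_pos.mpr
        (Polynomial.degree_pos_of_irreducible hirr)).ne'
    obtain ⟨a, ha⟩ := exists_root hA p f hf3 hdeg
    refine ⟨IsLocalRing.residue _ a, ?_⟩
    rw [← hf1]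
    exact ha.map
  infer_instance

end Groth.Agent.S1992
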