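import Groth.Statements.S19926
import Groth.Agent.Lib.Helper1.ProjDimInter

set_option autoImplicit false
universe u
open ProjDeg

namespace Groth.Agent.S19926

open Groth.Agent.Lib.Helper1.ProjDimPt Groth.Agent.Lib.Helper1.ProjDimTop
  Groth.Agent.Lib.Helper1.ProjDimLoc in

/-- Let k be a field, n ≥ 0, S = k[X_0, …, X_n] graded by degree, and p a homogeneous prime ideal of S
which does not contain the irrelevant ideal S_+, so that X = V_+(p) is a nonempty integral closed
subscheme of P^n_k (every such subscheme arises this way); its affine cone C(X) ⊆ A^{n+1}_k, the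
closure of the preimage of X under the projection from A^{n+1} minus the origin, is the closed
subset V(p), with coordinate ring S/p. Then dim C(X) = dim X + 1: the Krull dimension of S/p is the
topological Krull dimension of the closed subset V_+(p) of Proj S plus one. -/
theorem result (k : Type u) [Field k] (n : ℕ)
    (p : Ideal (MvPolynomial (Fin (n + 1)) k)) [p.IsPrime] (hph : p.IsHomogeneous (CohB1.polyGrading n k))
    (hrel : ¬ (HomogeneousIdeal.irrelevant (CohB1.polyGrading n k)).toIdeal ≤ p) :
    ringKrullDim (MvPolynomial (Fin (n + 1)) k ⧸ p) =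
      topologicalKrullDim ↥(ProjectiveSpectrum.zeroLocus (CohB1.polyGrading n k) (p : Set (MvPolynomial (Fin (n + 1)) k))) + 1 := by
  have hne : p ≠ (HomogeneousIdeal.irrelevant (CohB1.polyGrading n k)).toIdeal :=
    fun h => hrel h.ge
  set x : PS n k := mkPt p inferInstance hph hne with hx
  have hzl : ProjectiveSpectrum.zeroLocus (CohB1.polyGrading n k)
      (p : Set (MvPolynomial (Fin (n + 1)) k)) = Set.Ici x := by
    ext w
    rw [Groth.Agent.Lib.Helper1.ProjDimLoc.mem_zeroLocus_iff, Set.mem_Ici, ← idl_le_iff]
    rfl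
  rw [hzl, topologicalKrullDim_Ici, coheight_eq]
  have h1 := Groth.Agent.Lib.Helper7.AffDim.mvPolynomial_height_add k (n + 1) p
  have h2 : p.height = (ht x : ℕ∞) := (coe_ht x).symm
  have h3 := ht_le x
  rw [h2] at h1
  have key : ∀ (D : WithBot ℕ∞) (a b c : ℕ),
      ((a : ℕ∞) : WithBot ℕ∞) + D = ((c : ℕ) : WithBot ℕ∞) → a + b = c →
      D = ((b : ℕ∞) : WithBot ℕ∞) := by
    intro D a b c h hab
    induction D using WithBot.recBotCoe with
    | bot => simp at h
    | coe D =>
      have h' : (a : ℕ∞) + D = c := by exact_mod_cast h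
      have h'' : D + (a : ℕ∞) = (b : ℕ∞) + a := by
        rw [add_comm, h']; exact_mod_cast (by omega : c = b + a)
      rw [ENat.add_left_injective_of_ne_top (ENat.natCast_ne_top a) h'']
  have h7 := key _ (ht x) (n - ht x + 1) (n + 1) (by exact_mod_cast h1) (by omega)
  rw [h7]
  push_cast
  rfl

end Groth.Agent.S19926
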