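import Groth.Statements.S1993
import Groth.Agent.Lib.Helper12.PairLocal

set_option autoImplicit false
universe u
open EtAlg

namespace Groth.Agent.S1993

/-- Let A be a local ring with maximal ideal m and B a local A-algebra with local structure map. Then B
is a henselization of the pair (A, m) if and only if B is a henselization of the local ring A (both
in the sense of the universal properties). -/
theorem result (A B : Type u) [CommRing A] [IsLocalRing A] [CommRing B]
    [IsLocalRing B] [Algebra A B] [IsLocalHom (algebraMap A B)] :
    Hens2.IsPairHenselization A (IsLocalRing.maximalIdeal A) B ↔ Hensel.IsHenselization A B := by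
  constructor
  · intro hB
    exact Groth.Agent.Lib.Helper12.PairUnique.isHenselization_of_isPairHenselization hB
  · intro hB
    have hI : IsLocalRing.maximalIdeal A ≠ ⊤ := (IsLocalRing.maximalIdeal.isMaximal A).ne_top
    have hP := Groth.Agent.Lib.Helper12.PairNbhd.Lim.isPairHenselization A (IsLocalRing.maximalIdeal A)
    haveI : IsLocalRing (Groth.Agent.Lib.Helper12.PairNbhd.Lim A (IsLocalRing.maximalIdeal A)) :=
      Groth.Agent.Lib.Helper12.PairNbhd.Lim.isLocalRing hI
    haveI : IsLocalHom (algebraMap A
        (Groth.Agent.Lib.Helper12.PairNbhd.Lim A (IsLocalRing.maximalIdeal A))) :=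
      Groth.Agent.Lib.Helper12.PairNbhd.Lim.isLocalHom_algebraMap hI
    haveI : Hensel.IsHenselization A
        (Groth.Agent.Lib.Helper12.PairNbhd.Lim A (IsLocalRing.maximalIdeal A)) :=
      Groth.Agent.Lib.Helper12.PairUnique.isHenselization_of_isPairHenselization hP
    obtain ⟨e₁⟩ := Groth.Agent.Lib.Helper12.Henselization.nonempty_algEquiv (A := A) B
    obtain ⟨e₂⟩ := Groth.Agent.Lib.Helper12.Henselization.nonempty_algEquiv (A := A)
      (Groth.Agent.Lib.Helper12.PairNbhd.Lim A (IsLocalRing.maximalIdeal A))
    exact Groth.Agent.Lib.Helper12.PairUnique.isPairHenselization_of_algEquiv hP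
      (e₂.trans e₁.symm)

end Groth.Agent.S1993
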