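import Groth.Statements.S1996
import Mathlib.RingTheory.RingHom.FaithfullyFlat

set_option autoImplicit false
universe u
open EtAlg

namespace Groth.Agent.S1996

open TensorProduct in
theorem flat_of_comp {R S T : Type u} [CommRing R] [CommRing S] [CommRing T]
    [Algebra R S] [Algebra S T] [Algebra R T] [IsScalarTower R S T] [Module.Flat R T]
    [Module.FaithfullyFlat S T] : Module.Flat R S := by
  rw [Module.Flat.iff_lTensor_preserves_injective_linearMap]
  intro N P _ _ _ _ f hf
  have h1 : Function.Injective (f.baseChange S) := by
    rw [← Module.FaithfullyFlat.lTensor_injective_iff_injective S T]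
    have : LinearMap.lTensor T (f.baseChange S) =
        ((AlgebraTensorModule.cancelBaseChange R S T T P).symm.toLinearMap.restrictScalars S) ∘ₗ
        ((f.baseChange T).restrictScalars S) ∘ₗ
        ((AlgebraTensorModule.cancelBaseChange R S T T N).toLinearMap.restrictScalars S) := by
      ext; simp
    rw [this]
    simp only [LinearMap.coe_comp, LinearMap.coe_restrictScalars, LinearEquiv.coe_coe,
      EmbeddingLike.comp_injective, EquivLike.injective_comp]
    exact Module.Flat.lTensor_preserves_injective_linearMap f hf
  exact h1

theorem ringHom_flat_of_comp {R S T : Type u} [CommRing R] [CommRing S] [CommRing T]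
    {f : R →+* S} {g : S →+* T} (hg : g.FaithfullyFlat) (h : (g.comp f).Flat) : f.Flat := by
  algebraize [f, g, g.comp f]
  exact flat_of_comp (R := R) (S := S) (T := T)

/-- Let A -> B -> C be ring maps with B -> C faithfully flat. Weak etaleness of A -> C then implies weak
etaleness of A -> B. -/
theorem result (A B C : Type u) [CommRing A] [CommRing B] [CommRing C] [Algebra A B]
    [Algebra B C] [Algebra A C] [IsScalarTower A B C] [Module.FaithfullyFlat B C] [Algebra.WeaklyEtale A C] :
    Algebra.WeaklyEtale A B := by
  have hAB : Module.Flat A B := flat_of_comp (R := A) (S := B) (T := C)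
  refine ⟨hAB, ?_⟩
  have hBC : (algebraMap B C).FaithfullyFlat := RingHom.faithfullyFlat_algebraMap_iff.mpr inferInstance
  refine ringHom_flat_of_comp (g := algebraMap B C) hBC ?_
  let φ : B →ₐ[A] C := IsScalarTower.toAlgHom A B C
  have hφ : (φ : B →+* C).Flat := by
    have : (φ : B →+* C) = algebraMap B C := rfl
    rw [this]
    exact hBC.flat
  have h1 : (Algebra.TensorProduct.map φ φ).Flat := RingHom.Flat.tensorProductMap hφ hφ
  have h2 := RingHom.Flat.comp h1 (Algebra.WeaklyEtale.flat_lmul' A C)
  convert h2 using 1
  ext x <;> simp [φ]

end Groth.Agent.S1996
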