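import Groth.Statements.S19969
import Mathlib
import Groth.Agent.Lib.Helper13.WeilClosedOver
import Groth.Agent.Lib.Helper13.EqualizerStable
import Groth.Prelude.Def_AlgGrp

set_option autoImplicit false
universe u
open CategoryTheory MonoidalCategory CartesianMonoidalCategory AlgebraicGeometry
open AlgGrp

namespace Groth.Agent.S19969

section helpers

open CategoryTheory MonoidalCategory CartesianMonoidalCategory AlgebraicGeometry Limits


theorem main (k : Type u) [Field k]
    (X Y : Over (Spec (CommRingCat.of k))) (a : Y ⊗ X ⟶ X)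
    (hstab : ∀ U : X.left.Opens, (CartesianMonoidalCategory.snd Y X).left ⁻¹ᵁ U ≤ a.left ⁻¹ᵁ U) :
    ∃ (Z : Over (Spec (CommRingCat.of k))) (j : Z ⟶ X), IsClosedImmersion j.left ∧
      (Y ◁ j) ≫ a = CartesianMonoidalCategory.snd Y Z ≫ j ∧
      ∀ (T : Over (Spec (CommRingCat.of k))) (x : T ⟶ X),
        (Y ◁ x) ≫ a = CartesianMonoidalCategory.snd Y T ≫ x → ∃ z : T ⟶ Z, z ≫ j = x := by
  let f : X ⊗ Y ⟶ X := (β_ X Y).hom ≫ a
  let g : X ⊗ Y ⟶ X := fst X Y
  haveI : IsClosedImmersion (equalizer.ι f.left g.left) := by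
    apply Groth.Agent.Lib.Helper13.EqualizerStable.isClosedImmersion_equalizer_of_stable
    intro U
    have hg : g.left = (β_ X Y).hom.left ≫ (snd Y X).left := by
      rw [← Over.comp_left, braiding_hom_snd]
    have hf : f.left = (β_ X Y).hom.left ≫ a.left := rfl
    rw [hg, hf, Scheme.Hom.comp_preimage, Scheme.Hom.comp_preimage]
    exact Scheme.Hom.preimage_mono _ (hstab U)
  obtain ⟨Z, j, hj, hZ⟩ := Groth.Agent.Lib.Helper13.WeilClosedOver.exists_closed_scheme k X Y
    (equalizer.ι f.left g.left)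
  have hfg : ∀ (T : Over (Spec (CommRingCat.of k))) (x : T ⟶ X),
      (x ▷ Y) ≫ f = (x ▷ Y) ≫ g ↔ (Y ◁ x) ≫ a = snd Y T ≫ x := by
    intro T x
    have h1 : (x ▷ Y) ≫ f = (β_ T Y).hom ≫ (Y ◁ x) ≫ a := by
      simp only [f]
      rw [← Category.assoc, BraidedCategory.braiding_naturality_left, Category.assoc]
    have h2 : (x ▷ Y) ≫ g = (β_ T Y).hom ≫ snd Y T ≫ x := by
      simp only [g]
      rw [whiskerRight_fst, ← Category.assoc, braiding_hom_snd]
    rw [h1, h2, cancel_epi]
  have key : ∀ (T : Over (Spec (CommRingCat.of k))) (x : T ⟶ X),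
      (∃ z : T ⟶ Z, z ≫ j = x) ↔ (Y ◁ x) ≫ a = snd Y T ≫ x := by
    intro T x
    rw [hZ T x, ← hfg]
    constructor
    · rintro ⟨w, hw⟩
      apply Over.OverMorphism.ext
      have hc := equalizer.condition f.left g.left
      calc ((x ▷ Y) ≫ f).left = (x ▷ Y).left ≫ f.left := rfl
        _ = (w ≫ equalizer.ι f.left g.left) ≫ f.left := by rw [hw]
        _ = (w ≫ equalizer.ι f.left g.left) ≫ g.left := by
            rw [Category.assoc, hc, Category.assoc]
        _ = (x ▷ Y).left ≫ g.left := by rw [hw]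
        _ = ((x ▷ Y) ≫ g).left := rfl
    · intro h
      have h' : (x ▷ Y).left ≫ f.left = (x ▷ Y).left ≫ g.left := by
        rw [← Over.comp_left, ← Over.comp_left, h]
      exact ⟨equalizer.lift (x ▷ Y).left h', equalizer.lift_ι _ _⟩
  refine ⟨Z, j, hj, ?_, ?_⟩
  · exact (key _ _).mp ⟨𝟙 _, Category.id_comp _⟩
  · intro T x hx
    exact (key T x).mpr hx


end helpers

/-- Let k be a field, X and Y arbitrary k-schemes and a : Y ×_k X → X a k-morphism such that every open
subscheme U of X is stable under a, in the sense that the preimage of U under the projection Y ×_k X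
→ X is contained in the preimage of U under a. Consider the subfunctor X^a of X whose T-valued
points, for a k-scheme T, are the k-morphisms x : T → X with a ∘ (id_Y × x) = x ∘ pr_T as morphisms
Y ×_k T → X. Then X^a is represented by a closed subscheme of X: there is a closed immersion j : Z →
X over k lying in X^a(Z) through which every element of X^a(T) factors. Neither separatedness of X
nor any finiteness condition on X or Y is assumed. -/
theorem result (k : Type u) [Field k]
    (X Y : Over (Spec (CommRingCat.of k))) (a : Y ⊗ X ⟶ X)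
    (hstab : ∀ U : X.left.Opens, (CartesianMonoidalCategory.snd Y X).left ⁻¹ᵁ U ≤ a.left ⁻¹ᵁ U) :
    ∃ (Z : Over (Spec (CommRingCat.of k))) (j : Z ⟶ X), IsClosedImmersion j.left ∧
      (Y ◁ j) ≫ a = CartesianMonoidalCategory.snd Y Z ≫ j ∧
      ∀ (T : Over (Spec (CommRingCat.of k))) (x : T ⟶ X),
        (Y ◁ x) ≫ a = CartesianMonoidalCategory.snd Y T ≫ x → ∃ z : T ⟶ Z, z ≫ j = x := by
  exact main k X Y a hstab

end Groth.Agent.S19969
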