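import Groth.Statements.S19974
import Mathlib.Algebra.TrivSqZeroExt.Basic
-- import your own Groth.Agent.* helpers here

set_option autoImplicit false
universe u v w x y
open scoped BigOperators
open DefMod

namespace Groth.Agent.S19974

section Ore

variable {K : Type u} [Field K] {O : Type v} [CommRing O] [Algebra K O] (δ : Derivation K O O)
  {D : Type w} [Ring D] [Algebra K D] (ι : O →ₐ[K] D) (d : D)

/-- The map `(f_i) ↦ ∑ ι f_i * d ^ i` as a linear map. -/
noncomputable def basisMap : (ℕ →₀ O) →ₗ[K] D :=
  Finsupp.lsum K (fun i => (LinearMap.mulRight K (d ^ i)).comp ι.toLinearMap)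

lemma basisMap_apply (c : ℕ →₀ O) : basisMap ι d c = c.sum (fun i f => ι f * d ^ i) := by
  simp only [basisMap, Finsupp.lsum_apply]
  rfl

lemma basisMap_single (i : ℕ) (f : O) : basisMap ι d (Finsupp.single i f) = ι f * d ^ i := by
  simp [basisMap_apply]

variable (hbasis : Function.Bijective (fun c : ℕ →₀ O => c.sum (fun i f => ι f * d ^ i)))

include hbasis in
lemma basisMap_bijective : Function.Bijective (basisMap ι d) := by
  have : (basisMap ι d : (ℕ →₀ O) → D) = fun c : ℕ →₀ O => c.sum (fun i f => ι f * d ^ i) := by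
    funext c; exact basisMap_apply ι d c
  rw [this]; exact hbasis

include hbasis in
lemma induction_D {P : D → Prop} (h0 : P 0) (hadd : ∀ a b, P a → P b → P (a + b))
    (hmon : ∀ f i, P (ι f * d ^ i)) (x : D) : P x := by
  obtain ⟨c, rfl⟩ := (basisMap_bijective ι d hbasis).2 x
  rw [basisMap_apply]
  exact Finset.sum_induction _ P hadd h0 (fun i _ => hmon _ _)

variable {T : Type y} [Ring T] [Algebra K T] (φ : O →ₐ[K] T) (t : T)

/-- The linear map underlying the lift. -/
noncomputable def liftLin : D →ₗ[K] T :=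
  (basisMap φ t).comp (LinearEquiv.ofBijective (basisMap ι d) (basisMap_bijective ι d hbasis)).symm.toLinearMap

lemma liftLin_monomial (f : O) (i : ℕ) : liftLin ι d hbasis φ t (ι f * d ^ i) = φ f * t ^ i := by
  have : (LinearEquiv.ofBijective (basisMap ι d) (basisMap_bijective ι d hbasis)).symm (ι f * d ^ i)
      = Finsupp.single i f := by
    rw [LinearEquiv.symm_apply_eq]
    simp [basisMap_single]
  simp [liftLin, this, basisMap_single]

lemma liftLin_ι (f : O) : liftLin ι d hbasis φ t (ι f) = φ f := by
  simpa using liftLin_monomial ι d hbasis φ t f 0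

lemma liftLin_d : liftLin ι d hbasis φ t d = t := by
  simpa using liftLin_monomial ι d hbasis φ t 1 1

variable (hd : ∀ f : O, d * ι f = ι f * d + ι (δ f))
  (ht : ∀ f : O, t * φ f = φ f * t + φ (δ f))

include hd ht in
lemma liftLin_mul (P Q : D) :
    liftLin ι d hbasis φ t (P * Q) = liftLin ι d hbasis φ t P * liftLin ι d hbasis φ t Q := by
  set Ψ := liftLin ι d hbasis φ t with hΨ
  -- the set of good left factors
  have hι : ∀ f Q, Ψ (ι f * Q) = Ψ (ι f) * Ψ Q := by
    intro f Q
    induction Q using induction_D ι d hbasis with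
    | h0 => simp
    | hadd a b ha hb => rw [mul_add, map_add, ha, hb, map_add, mul_add]
    | hmon g j =>
      rw [← mul_assoc, ← map_mul, liftLin_monomial, liftLin_monomial, liftLin_ι, map_mul, mul_assoc]
  have hdd : ∀ Q, Ψ (d * Q) = Ψ d * Ψ Q := by
    intro Q
    induction Q using induction_D ι d hbasis with
    | h0 => simp
    | hadd a b ha hb => rw [mul_add, map_add, ha, hb, map_add, mul_add]
    | hmon g j =>
      rw [← mul_assoc, hd, add_mul, mul_assoc, ← pow_succ', map_add, liftLin_monomial,
        liftLin_monomial, liftLin_monomial, liftLin_d, ← mul_assoc, ht, add_mul, mul_assoc,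
        ← pow_succ']
  have hmulclosed : ∀ P P', (∀ Q, Ψ (P * Q) = Ψ P * Ψ Q) → (∀ Q, Ψ (P' * Q) = Ψ P' * Ψ Q) →
      ∀ Q, Ψ (P * P' * Q) = Ψ (P * P') * Ψ Q := by
    intro P P' hP hP' Q
    rw [mul_assoc, hP, hP', hP, mul_assoc]
  have hpow : ∀ i Q, Ψ (d ^ i * Q) = Ψ (d ^ i) * Ψ Q := by
    intro i
    induction i with
    | zero =>
      intro Q
      have h1 : Ψ 1 = 1 := by simpa using liftLin_monomial ι d hbasis φ t 1 0
      simp [h1]
    | succ i ih =>
      intro Q
      rw [pow_succ]
      exact hmulclosed _ _ ih hdd Q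
  revert Q
  induction P using induction_D ι d hbasis with
  | h0 => simp
  | hadd a b ha hb => intro Q; rw [add_mul, map_add, ha, hb, map_add, add_mul]
  | hmon f i => exact hmulclosed _ _ (hι f) (hpow i)

include hbasis hd ht in
/-- The universal property of the Ore extension `D = O[∂]`. -/
theorem exists_lift : ∃ Ψ : D →ₐ[K] T, (∀ f, Ψ (ι f) = φ f) ∧ Ψ d = t := by
  refine ⟨AlgHom.ofLinearMap (liftLin ι d hbasis φ t) ?_ (liftLin_mul δ ι d hbasis φ t hd ht), ?_, ?_⟩
  · simpa using liftLin_monomial ι d hbasis φ t 1 0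
  · intro f; exact liftLin_ι ι d hbasis φ t f
  · exact liftLin_d ι d hbasis φ t

end Ore

section Deriv

variable {K : Type u} [Field K] {O : Type v} [CommRing O] [Algebra K O] (δ : Derivation K O O)
  {D : Type w} [Ring D] [Algebra K D] (ι : O →ₐ[K] D) (d : D)
  (hd : ∀ f : O, d * ι f = ι f * d + ι (δ f))
  (hbasis : Function.Bijective (fun c : ℕ →₀ O => c.sum (fun i f => ι f * d ^ i)))
  {E : Type x} [AddCommGroup E] [Module K E] (ρ : D →ₐ[K] Module.End K E)

include hbasis in
lemma algHom_ext' {A : Type y} [Ring A] [Algebra K A] (Φ Φ' : D →ₐ[K] A)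
    (h1 : ∀ f, Φ (ι f) = Φ' (ι f)) (h2 : Φ d = Φ' d) : Φ = Φ' := by
  ext x
  induction x using induction_D ι d hbasis with
  | h0 => simp
  | hadd a b ha hb => rw [map_add, map_add, ha, hb]
  | hmon f i => rw [map_mul, map_mul, map_pow, map_pow, h1, h2]

lemma leibniz_one (s : D →ₗ[K] Module.End K E)
    (hs : ∀ P Q : D, s (P * Q) = s P * ρ Q + ρ P * s Q) : s 1 = 0 := by
  have := hs 1 1
  simp only [mul_one, map_one, one_mul] at this
  exact left_eq_add.mp this

include hbasis in
lemma deriv_ext (s s' : D →ₗ[K] Module.End K E)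
    (hs : ∀ P Q : D, s (P * Q) = s P * ρ Q + ρ P * s Q)
    (hs' : ∀ P Q : D, s' (P * Q) = s' P * ρ Q + ρ P * s' Q)
    (h1 : ∀ f, s (ι f) = s' (ι f)) (h2 : s d = s' d) : s = s' := by
  have hpow : ∀ i : ℕ, s (d ^ i) = s' (d ^ i) := by
    intro i
    induction i with
    | zero => rw [pow_zero, leibniz_one ρ s hs, leibniz_one ρ s' hs']
    | succ i ih => rw [pow_succ, hs, hs', ih, h2]
  ext1 x
  induction x using induction_D ι d hbasis with
  | h0 => simp
  | hadd a b ha hb => rw [map_add, map_add, ha, hb]
  | hmon f i => rw [hs, hs', h1, hpow]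

/-- Target of the classifying algebra map. -/
abbrev TT (K : Type u) [Field K] (E : Type x) [AddCommGroup E] [Module K E] :=
  TrivSqZeroExt (Module.End K E) (Module.End K E)

/-- The algebra map `O → End E [ε]` attached to a derivation `r`. -/
noncomputable def phiOf (r : O →ₗ[K] Module.End K E)
    (hr : ∀ f g : O, r (f * g) = r f * ρ (ι g) + ρ (ι f) * r g) : O →ₐ[K] TT K E :=
  AlgHom.ofLinearMap
    { toFun := fun f => TrivSqZeroExt.inl (ρ (ι f)) + TrivSqZeroExt.inr (r f)
      map_add' := fun f g => by
        apply TrivSqZeroExt.ext <;> simp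
      map_smul' := fun c f => by
        apply TrivSqZeroExt.ext <;> simp }
    (by
      have h1 : r 1 = 0 := by
        have := hr 1 1
        simp only [mul_one, map_one, one_mul] at this
        exact left_eq_add.mp this
      apply TrivSqZeroExt.ext <;> simp [h1])
    (fun f g => by
      apply TrivSqZeroExt.ext
      · simp
      · simp [hr, add_comm])

end Deriv


/-- Let K be a field of characteristic 0, O a commutative K-algebra with a K-linear derivation δ, and D
the ring of differential operators O[∂], presented abstractly as a K-algebra D with an algebra map ι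
: O → D and an element ∂ of D such that ∂ ι(f) = ι(f) ∂ + ι(δ f) for every f in O and such that
every element of D is in a unique way a finite sum of terms ι(f_i) ∂^i. Let E be a left D-module,
given as a K-vector space with a K-algebra map ρ : D → End_K(E), which is finite free as an
O-module. A K-derivation of D with values in the D-bimodule End_K(E) is a K-linear map s with s(PQ)
= s(P) ρ(Q) + ρ(P) s(Q); a K-derivation of O with values in End_K(E) is a K-linear map r with r(fg)
= r(f) ρ(ι g) + ρ(ι f) r(g). Then: (a) for every K-derivation s of D into End_K(E), the pair (r, v)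
= (s ∘ ι, s(∂)) satisfies the identity [r(f), ρ(∂)] + [ρ(ι f), v] + r(δ f) = 0 for all f in O; (b)
conversely, for every K-derivation r of O into End_K(E) and every v in End_K(E) satisfying that
identity for all f, there is exactly one K-derivation s of D into End_K(E) with s ∘ ι = r and s(∂) =
v. In other words s ↦ (s ∘ ι, s(∂)) maps the K-derivations of D injectively onto the pairs
satisfying the identity. -/
theorem result
    (K : Type u) [Field K] [CharZero K]
    (O : Type v) [CommRing O] [Algebra K O] (δ : Derivation K O O)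
    (D : Type w) [Ring D] [Algebra K D] (ι : O →ₐ[K] D) (d : D)
    (hd : ∀ f : O, d * ι f = ι f * d + ι (δ f))
    (hbasis : Function.Bijective (fun c : ℕ →₀ O => c.sum (fun i f => ι f * d ^ i)))
    (E : Type x) [AddCommGroup E] [Module K E] (ρ : D →ₐ[K] Module.End K E)
    (hE : ∃ (n : ℕ) (b : Fin n → E), Function.Bijective (fun c : Fin n → O => ∑ i, ρ (ι (c i)) (b i))) :
    (∀ s : D →ₗ[K] Module.End K E, (∀ P Q : D, s (P * Q) = s P * ρ Q + ρ P * s Q) →
      ∀ f : O, (s (ι f) * ρ d - ρ d * s (ι f)) + (ρ (ι f) * s d - s d * ρ (ι f)) + s (ι (δ f)) = 0) ∧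
    ∀ (r : O →ₗ[K] Module.End K E) (v : Module.End K E),
      (∀ f g : O, r (f * g) = r f * ρ (ι g) + ρ (ι f) * r g) →
      (∀ f : O, (r f * ρ d - ρ d * r f) + (ρ (ι f) * v - v * ρ (ι f)) + r (δ f) = 0) →
      ∃! s : D →ₗ[K] Module.End K E,
        (∀ P Q : D, s (P * Q) = s P * ρ Q + ρ P * s Q) ∧ s ∘ₗ ι.toLinearMap = r ∧ s d = v := by
  constructor
  · intro s hs f
    have h := congrArg s (hd f)
    rw [map_add, hs, hs] at h
    have h' := h.symm
    rw [← sub_eq_zero] at h'
    rw [← h']
    abel
  · intro r v hr hrv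
    -- the classifying algebra map
    let φ : O →ₐ[K] TT K E := phiOf ι ρ r hr
    let t : TT K E := TrivSqZeroExt.inl (ρ d) + TrivSqZeroExt.inr v
    have hφ : ∀ f, φ f = TrivSqZeroExt.inl (ρ (ι f)) + TrivSqZeroExt.inr (r f) := fun f => rfl
    have ht : ∀ f : O, t * φ f = φ f * t + φ (δ f) := by
      intro f
      apply TrivSqZeroExt.ext
      · simp only [hφ, t, TrivSqZeroExt.fst_mul, TrivSqZeroExt.fst_add, TrivSqZeroExt.fst_inl,
          TrivSqZeroExt.fst_inr, add_zero]
        rw [← map_mul, hd, map_add, map_mul]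
      · simp only [hφ, t, TrivSqZeroExt.snd_mul, TrivSqZeroExt.snd_add, TrivSqZeroExt.snd_inl,
          TrivSqZeroExt.snd_inr, TrivSqZeroExt.fst_add, TrivSqZeroExt.fst_inl,
          TrivSqZeroExt.fst_inr, add_zero, zero_add, smul_eq_mul, MulOpposite.smul_eq_mul_unop,
          MulOpposite.unop_op]
        have := hrv f
        rw [eq_comm, ← sub_eq_zero]
        rw [← this]
        abel
    obtain ⟨Ψ, hΨι, hΨd⟩ := exists_lift δ ι d hbasis φ t hd ht
    have hfst : ∀ P, (Ψ P).fst = ρ P := by
      intro P
      have : (TrivSqZeroExt.fstHom K (Module.End K E) (Module.End K E)).comp Ψ = ρ := by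
        apply algHom_ext' ι d hbasis
        · intro f; simp [hΨι, hφ]
        · simp [hΨd, t]
      exact DFunLike.congr_fun this P
    let sndLin : TT K E →ₗ[K] Module.End K E :=
      { toFun := fun x => x.snd
        map_add' := fun _ _ => rfl
        map_smul' := fun _ _ => rfl }
    let s : D →ₗ[K] Module.End K E := sndLin.comp Ψ.toLinearMap
    have hs_apply : ∀ P, s P = (Ψ P).snd := fun P => rfl
    have hs : ∀ P Q : D, s (P * Q) = s P * ρ Q + ρ P * s Q := by
      intro P Q
      rw [hs_apply, map_mul, TrivSqZeroExt.snd_mul, hfst, hfst, hs_apply, hs_apply]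
      simp only [smul_eq_mul, MulOpposite.smul_eq_mul_unop, MulOpposite.unop_op]
      rw [add_comm]
    refine ⟨s, ⟨hs, ?_, ?_⟩, ?_⟩
    · ext1 f
      change s (ι f) = r f
      rw [hs_apply, hΨι, hφ]; simp
    · rw [hs_apply, hΨd]; simp [t]
    · rintro s' ⟨hs', hs'ι, hs'd⟩
      apply deriv_ext ι d hbasis ρ s' s hs' hs
      · intro f
        have h1 : s' (ι f) = r f := LinearMap.congr_fun hs'ι f
        rw [h1, hs_apply, hΨι, hφ]; simp
      · rw [hs'd, hs_apply, hΨd]; simp [t]

end Groth.Agent.S19974
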