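import Groth.Statements.S1999
-- import your own Groth.Agent.* helpers here
import Groth.Agent.Lib.helper10.TameAKLB
import Groth.Agent.Lib.helper10.TameFinish

set_option autoImplicit false
universe u
open scoped Pointwise
open EtAlg

namespace Groth.Agent.S1999


open Groth.Agent.Lib.helper10


/-- Parts (2)–(5) in the case of part (6): let A be a discrete valuation ring with fraction field K, L/K
a finite Galois extension with group G, B the integral closure of A in L, m a maximal ideal of B
whose residue field is separable over that of A, and e the ramification index of m over A. Let D be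
the decomposition group (stabilizer of m), I the inertia group (elements acting trivially on B/m)
and P the wild inertia group, here the elements of D acting trivially on B/m² (the description valid
in the separable residue field case). Then P ≤ I, P is normal in D, P is a p-group if the residue
characteristic is p > 0 and trivial if it is 0, and I/P is cyclic of order the prime-to-p part of e
and isomorphic to a subgroup of the e-th roots of unity of B/m — more precisely to the full group of
e-th roots of unity of B/m. -/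
theorem result (A K L B : Type u) [CommRing A] [IsDomain A] [IsDiscreteValuationRing A]
    [CommRing B] [IsDomain B] [Field K] [Field L] [Algebra A K] [Algebra B L] [IsFractionRing A K] [IsFractionRing B L]
    [Algebra A B] [Algebra K L] [Algebra A L] [IsScalarTower A K L] [IsScalarTower A B L] [IsIntegralClosure B A L]
    [FiniteDimensional K L] [IsGalois K L] (m : Ideal B) [m.IsMaximal]
    [Algebra.IsSeparable (A ⧸ m.comap (algebraMap A B)) (B ⧸ m)] :
    letI := IsIntegralClosure.MulSemiringAction A K L B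
    let D : Subgroup (L ≃ₐ[K] L) := MulAction.stabilizer (L ≃ₐ[K] L) m
    let I : Subgroup (L ≃ₐ[K] L) := m.inertia (L ≃ₐ[K] L)
    let P : Subgroup (L ≃ₐ[K] L) := D ⊓ (m ^ 2).inertia (L ≃ₐ[K] L)
    let e : ℕ := Ideal.ramificationIdx' (IsLocalRing.maximalIdeal A) m
    P ≤ I ∧ I ≤ D ∧ (P.subgroupOf D).Normal ∧
    (∀ p : ℕ, p.Prime → CharP (A ⧸ m.comap (algebraMap A B)) p → IsPGroup p P) ∧
    (CharZero (A ⧸ m.comap (algebraMap A B)) → P = ⊥) ∧
    (∀ [(P.subgroupOf I).Normal],
      IsCyclic (I ⧸ P.subgroupOf I) ∧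
      (∀ p : ℕ, p.Prime → CharP (A ⧸ m.comap (algebraMap A B)) p → Nat.card (I ⧸ P.subgroupOf I) = e / p ^ e.factorization p) ∧
      (CharZero (A ⧸ m.comap (algebraMap A B)) → Nat.card (I ⧸ P.subgroupOf I) = e) ∧
      Nonempty (I ⧸ P.subgroupOf I ≃* ↥(rootsOfUnity e (B ⧸ m)))) := by
  letI := IsIntegralClosure.MulSemiringAction A K L B
  intro D I P e
  obtain ⟨π, hπ, hπ2, H1, hinf, hfaith, H3⟩ := TameAKLB.aklb_facts A K L B m
  have hcardI : Nat.card I = e := RamCard.card_inertia_aklb A K L B m
  have hPI : P ≤ I := fun σ hσ => Tame.inertia_sq_le hσ.2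
  have hID : I ≤ D := Ideal.inertia_le_stabilizer m
  have hPD : P ≤ D := inf_le_left
  have hDm : ∀ k ∈ D, ∀ x ∈ m, k • x ∈ m := by
    intro k hk x hx
    have h1 : k • m = m := hk
    rw [← h1]
    exact Ideal.smul_mem_pointwise_smul k x m hx
  have hnormal : (P.subgroupOf D).Normal := by
    refine (Subgroup.normal_subgroupOf_iff hPD).mpr fun h k hh hk => ⟨?_, ?_⟩
    · exact D.mul_mem (D.mul_mem hk (hPD hh)) (D.inv_mem hk)
    · intro x
      have e1 : (k * h * k⁻¹) • x - x = k • (h • (k⁻¹ • x) - k⁻¹ • x) := by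
        rw [smul_sub, mul_smul, mul_smul, smul_inv_smul]
      rw [e1]
      exact Tame.smul_mem_pow m (hDm k hk) 2 _ (hh.2 _)
  -- primes dividing |P| vanish in the residue field
  have hX : ∀ d : ℕ, d.Prime → d ∣ Nat.card P → (d : B) ∈ m := by
    intro d hd hdvd
    by_contra hdm
    have : Fact d.Prime := ⟨hd⟩
    obtain ⟨g, hg⟩ := exists_prime_orderOf_dvd_card' d hdvd
    have h1 : g ^ d = 1 := by rw [← hg]; exact pow_orderOf_eq_one g
    have h2 : (g : L ≃ₐ[K] L) ^ d = 1 := by
      rw [← Subgroup.coe_pow, h1, Subgroup.coe_one]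
    have h3 : (g : L ≃ₐ[K] L) = 1 :=
      Tame.eq_one_of_pow_eq_one (σ := (g : L ≃ₐ[K] L)) g.2.2 hπ H1 hinf h2 hdm
    have h4 : g = 1 := Subtype.ext h3
    rw [h4, orderOf_one] at hg
    exact hd.one_lt.ne hg
  have hXk : ∀ d : ℕ, (d : B) ∈ m → ((d : A ⧸ m.comap (algebraMap A B))) = 0 := by
    intro d hd
    rw [← map_natCast (Ideal.Quotient.mk (m.comap (algebraMap A B))), Ideal.Quotient.eq_zero_iff_mem,
      Ideal.mem_comap, map_natCast]
    exact hd
  have hpgroup : ∀ p : ℕ, p.Prime → CharP (A ⧸ m.comap (algebraMap A B)) p → IsPGroup p P := by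
    intro p hp hchar
    refine IsPGroup.of_card (n := (Nat.card P).primeFactorsList.length) ?_
    refine Nat.eq_prime_pow_of_unique_prime_dvd Nat.card_pos.ne' ?_
    intro d hd hdvd
    have h1 := hXk d (hX d hd hdvd)
    rw [CharP.cast_eq_zero_iff _ p] at h1
    exact ((Nat.prime_dvd_prime_iff_eq hp hd).mp h1).symm
  have hzero : CharZero (A ⧸ m.comap (algebraMap A B)) → P = ⊥ := by
    intro hchar
    rw [← Subgroup.card_eq_one]
    by_contra hne
    obtain ⟨d, hd, hdvd⟩ := Nat.exists_prime_and_dvd hne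
    have h1 := hXk d (hX d hd hdvd)
    rw [Nat.cast_eq_zero] at h1
    exact hd.ne_zero h1
  refine ⟨hPI, hID, hnormal, hpgroup, hzero, ?_⟩
  intro hN
  -- the tame character
  let θ₀ := Tame.thetaHom (G := L ≃ₐ[K] L) hπ hπ2 H1
  let θ : I →* (B ⧸ m)ˣ := θ₀.toHomUnits
  have hker : ∀ σ : I, θ σ = 1 ↔ (σ : L ≃ₐ[K] L) ∈ P := by
    intro σ
    have e1 : θ σ = 1 ↔ θ₀ σ = 1 := by
      rw [Units.ext_iff]
      rfl
    rw [e1, Tame.thetaHom_eq_one_iff]
    constructor
    · intro h
      exact ⟨hID σ.2, Tame.mem_inertia_sq_of hπ H1 σ.2 h (H3 σ)⟩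
    · intro h
      exact h.2 π
  let φ : I ⧸ P.subgroupOf I →* (B ⧸ m)ˣ :=
    QuotientGroup.lift (P.subgroupOf I) θ (fun σ hσ => (hker σ).mpr (Subgroup.mem_subgroupOf.mp hσ))
  have hφ : Function.Injective φ := by
    rw [injective_iff_map_eq_one]
    intro q
    induction q using QuotientGroup.induction_on with
    | H σ =>
      intro h
      rw [QuotientGroup.eq_one_iff, Subgroup.mem_subgroupOf]
      exact (hker σ).mp h
  have hdom : IsDomain (B ⧸ m) := Ideal.Quotient.isDomain m
  have hcyc : IsCyclic (I ⧸ P.subgroupOf I) := TameFinish.isCyclic_of_inj φ hφ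
  have hcardeq : e = Nat.card (I ⧸ P.subgroupOf I) * Nat.card P := by
    rw [← hcardI, Subgroup.card_eq_card_quotient_mul_card_subgroup (P.subgroupOf I),
      Nat.card_congr (Subgroup.subgroupOfEquivOfLe hPI).toEquiv]
  have hcase1 : ∀ p : ℕ, p.Prime → CharP (A ⧸ m.comap (algebraMap A B)) p →
      Nat.card (I ⧸ P.subgroupOf I) = e / p ^ e.factorization p ∧
      Nonempty (I ⧸ P.subgroupOf I ≃* ↥(rootsOfUnity e (B ⧸ m))) := by
    intro p hp hchar
    have : Fact p.Prime := ⟨hp⟩
    have : CharP (B ⧸ m) p :=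
      charP_of_injective_ringHom (Ideal.algebraMap_quotient_injective (I := m) (R := A)) p
    have hnd : ¬ p ∣ Nat.card (I ⧸ P.subgroupOf I) := TameFinish.not_dvd_card φ hφ p
    obtain ⟨n, hn⟩ := IsPGroup.iff_card.mp (hpgroup p hp hchar)
    have hc0 : Nat.card (I ⧸ P.subgroupOf I) ≠ 0 := Nat.card_pos.ne'
    have hfac : e.factorization p = n := by
      rw [hcardeq, hn, Nat.factorization_mul hc0 (pow_ne_zero _ hp.ne_zero), Finsupp.add_apply,
        Nat.factorization_eq_zero_of_not_dvd hnd, hp.factorization_pow, Finsupp.single_eq_same,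
        zero_add]
    refine ⟨?_, ?_⟩
    · rw [hfac]
      conv_rhs => rw [hcardeq, hn]
      exact (Nat.mul_div_cancel _ (pow_pos hp.pos n)).symm
    · have : NeZero (Nat.card (I ⧸ P.subgroupOf I)) := ⟨hc0⟩
      have he0 : e ≠ 0 := by rw [← hcardI]; exact Nat.card_pos.ne'
      have : NeZero e := ⟨he0⟩
      refine TameFinish.nonempty_equiv φ hφ e ⟨Nat.card P, hcardeq⟩ ?_
      have e2 : e = p ^ n * Nat.card (I ⧸ P.subgroupOf I) := by rw [hcardeq, hn, mul_comm]
      have := TameFinish.card_rootsOfUnity_le_of_charP (κ := B ⧸ m) p n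
        (Nat.card (I ⧸ P.subgroupOf I))
      rw [← e2] at this
      exact this
  have hcase0 : CharZero (A ⧸ m.comap (algebraMap A B)) →
      Nat.card (I ⧸ P.subgroupOf I) = e ∧
      Nonempty (I ⧸ P.subgroupOf I ≃* ↥(rootsOfUnity e (B ⧸ m))) := by
    intro hchar
    have hP1 : Nat.card P = 1 := Subgroup.card_eq_one.mpr (hzero hchar)
    have hce : Nat.card (I ⧸ P.subgroupOf I) = e := by rw [hcardeq, hP1, mul_one]
    refine ⟨hce, ?_⟩
    have he0 : e ≠ 0 := by rw [← hcardI]; exact Nat.card_pos.ne'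
    have : NeZero e := ⟨he0⟩
    refine TameFinish.nonempty_equiv φ hφ e ⟨1, by rw [hce, mul_one]⟩ ?_
    rw [hce]
    exact card_rootsOfUnity (B ⧸ m) e
  refine ⟨hcyc, fun p hp hchar => (hcase1 p hp hchar).1, fun hchar => (hcase0 hchar).1, ?_⟩
  have hfin : Module.Finite A B := IsIntegralClosure.finite A K L B
  have : (m.comap (algebraMap A B)).IsMaximal := Ideal.isMaximal_comap_of_isIntegral_of_isMaximal m
  have : IsDomain (A ⧸ m.comap (algebraMap A B)) := Ideal.Quotient.isDomain _
  obtain ⟨q, hq⟩ := CharP.exists (A ⧸ m.comap (algebraMap A B))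
  rcases CharP.char_is_prime_or_zero (A ⧸ m.comap (algebraMap A B)) q with hq' | hq'
  · exact (hcase1 q hq' hq).2
  · subst hq'
    exact (hcase0 (CharP.charP_to_charZero _)).2


end Groth.Agent.S1999
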