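import Groth.Statements.S19994
import Groth.Agent.Lib.Helper7.GaloisRegular

set_option autoImplicit false
universe u v w
open WildQuot

namespace Groth.Agent.S19994

/-- Let `A` be a complete regular local ring of Krull dimension at least `2` and prime characteristic
`p`, with maximal ideal `m`; let `k` be a field with a ring map `k → A` whose composite with `A →
A/m` is onto; let `G` be a group of order `p` acting on `A` by ring automorphisms fixing the image
of `k` and ramified precisely at the origin (for every prime `P ≠ m`, the inertia subgroup of `P`,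
i.e. the elements of `G` fixing every element modulo `P`, is trivial). Then the singular locus of
`Spec A^G` is contained in the closed point: for every non-maximal prime ideal `P` of the invariant
ring `A^G`, the localization `(A^G)_P` is a regular local ring. (The published statement also
asserts that the punctured spectrum of `A` is a `G`-torsor over the punctured spectrum of `A^G`;
this row omits that clause. Together with the non-regularity of `A^G` itself, the singular locus is
exactly the closed point.) -/
theorem result
    (p : ℕ) [Fact p.Prime] (A : Type u) [CommRing A] [IsRegularLocalRing A] [CharP A p]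
    [IsAdicComplete (IsLocalRing.maximalIdeal A) A] (hdim : 2 ≤ ringKrullDim A)
    (k : Type v) [Field k] [Algebra k A]
    (hk : Function.Surjective (IsLocalRing.residue A ∘ algebraMap k A))
    (G : Type w) [Group G] [Finite G] [MulSemiringAction G A] (hcard : Nat.card G = p)
    (hGk : ∀ (σ : G) (c : k), σ • algebraMap k A c = algebraMap k A c)
    (hram : ∀ P : Ideal A, P.IsPrime → P ≠ IsLocalRing.maximalIdeal A → P.inertia G = ⊥)
    (P : Ideal (FixedPoints.subring A G)) [P.IsPrime] (hP : ¬ P.IsMaximal) :
    IsRegularLocalRing (Localization.AtPrime P) := by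
  classical
  haveI := Fintype.ofFinite G
  haveI : SMulCommClass G (FixedPoints.subring A G) A :=
    ⟨fun γ a b => by
      change γ • ((a : A) * b) = (a : A) * γ • b
      rw [smul_mul', a.2 γ]⟩
  haveI : Algebra.IsInvariant (FixedPoints.subring A G) A G :=
    ⟨fun b hb => ⟨⟨b, hb⟩, rfl⟩⟩
  haveI : Algebra.IsIntegral (FixedPoints.subring A G) A :=
    Algebra.IsInvariant.isIntegral (FixedPoints.subring A G) A G
  set 𝔞 : Ideal A := (Finset.univ : Finset {g : G // g ≠ 1}).inf
    (fun g => Groth.Agent.Lib.Helper7.GaloisTrace.moveIdeal A g.1) with h𝔞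
  have hnot : ¬ (𝔞.comap (algebraMap (FixedPoints.subring A G) A) ≤ P) := by
    intro hle
    obtain ⟨Q', hQ'ge, hQ'prime, hQ'comap⟩ :=
      Ideal.exists_ideal_over_prime_of_isIntegral P 𝔞 hle
    obtain ⟨g, -, hg⟩ := (Ideal.IsPrime.inf_le' hQ'prime).1 hQ'ge
    have hgin : g.1 ∈ Q'.inertia G :=
      (Groth.Agent.Lib.Helper7.GaloisTrace.moveIdeal_le_iff g.1 Q').1 hg
    by_cases hQm : Q' = IsLocalRing.maximalIdeal A
    · apply hP
      rw [← hQ'comap, hQm]
      exact Ideal.isMaximal_comap_of_isIntegral_of_isMaximal _
    · rw [hram Q' hQ'prime hQm, Subgroup.mem_bot] at hgin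
      exact g.2 hgin
  obtain ⟨s, hs𝔞, hsP⟩ := SetLike.not_le_iff_exists.1 hnot
  have hs : ∀ g : G, g ≠ 1 → (s : A) ∈ Groth.Agent.Lib.Helper7.GaloisTrace.moveIdeal A g := by
    intro g hg
    have h1 := Finset.inf_le (f := fun g : {g : G // g ≠ 1} =>
        Groth.Agent.Lib.Helper7.GaloisTrace.moveIdeal A g.1)
        (Finset.mem_univ (⟨g, hg⟩ : {g : G // g ≠ 1}))
    exact h1 hs𝔞
  obtain ⟨Q, -, hQprime, hQcomap⟩ :=
    Ideal.exists_ideal_over_prime_of_isIntegral P (⊥ : Ideal A) (by
      intro x hx
      rw [Ideal.mem_comap, Ideal.mem_bot] at hx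
      have : x = 0 := Subtype.ext hx
      rw [this]
      exact P.zero_mem)
  haveI := hQprime
  exact Groth.Agent.Lib.Helper7.GaloisRegular.isRegularLocalRing_localization s hs P hsP Q
    hQcomap.symm (Groth.Agent.Lib.Helper5.SerreLoc.localization_regular A Q)

end Groth.Agent.S19994
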