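import Groth.Statements.S19996
import Mathlib
import Groth.Agent.S15813
-- import your own Groth.Agent.* helpers here

set_option autoImplicit false
set_option linter.unusedSectionVars false
universe u
open WildQuot

namespace Groth.Agent.S19996

open PowerSeries Groth.Agent.S15813

section PS
variable {k : Type u} [Field k]

theorem setup (p : ℕ) [Fact p.Prime] [CharP k p]
    (σ : PowerSeries k ≃ₐ[k] PowerSeries k) (hσp : σ ^ p = 1)
    (m : ℕ) (hm : (σ PowerSeries.X - PowerSeries.X).order = ((m + 1 : ℕ) : ℕ∞)) :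
    ∃ g d G : PowerSeries k, σ X = X * g ∧ constantCoeff g = 1 ∧ g - 1 = X ^ m * d ∧
      constantCoeff d ≠ 0 ∧ constantCoeff G = 1 ∧
      (∏ i ∈ Finset.range p, (σ ^ i) (X : PowerSeries k)) = X ^ p * G ∧
      (∀ b : PowerSeries k, (X : PowerSeries k) ^ (m + 1) ∣ σ b - b) := by
  have hp : p.Prime := Fact.out
  obtain ⟨g, hgu, hg⟩ := aut_X_eq σ
  set g₀ := constantCoeff g with hg₀
  have hG : ∀ i : ℕ, ∃ G : PowerSeries k, constantCoeff G = g₀ ^ i ∧ (σ ^ i) X = X * G := by
    intro i
    induction i with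
    | zero => exact ⟨1, by simp, by simp⟩
    | succ i ih =>
      obtain ⟨G, hGc, hGe⟩ := ih
      refine ⟨g * σ G, ?_, ?_⟩
      · rw [map_mul, cc_aut, hGc, pow_succ, mul_comm]
      · rw [pow_succ', AlgEquiv.mul_apply, hGe, map_mul, hg, mul_assoc]
  choose Gi hGic hGie using hG
  have hg₀p : g₀ ^ p = 1 := by
    have h1 := hGie p
    rw [hσp, AlgEquiv.one_apply] at h1
    have h2 : (X : PowerSeries k) * 1 = X * Gi p := by rw [mul_one]; exact h1
    have h3 := mul_left_cancel₀ X_ne_zero h2
    rw [← hGic p, ← h3]; simp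
  have hg₀1 : g₀ = 1 := by
    have : (g₀ - 1) ^ p = 0 := by rw [sub_pow_char, hg₀p, one_pow, sub_self]
    exact sub_eq_zero.1 (pow_eq_zero_iff hp.ne_zero |>.1 this)
  set G := ∏ i ∈ Finset.range p, Gi i with hGdef
  have hxG : (∏ i ∈ Finset.range p, (σ ^ i) (X : PowerSeries k)) = X ^ p * G := by
    rw [hGdef]
    simp only [hGie, Finset.prod_mul_distrib, Finset.prod_const, Finset.card_range]
  have hGc : constantCoeff G = 1 := by
    rw [hGdef, map_prod]
    simp only [hGic, hg₀1, one_pow, Finset.prod_const_one]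
  have hgo : (g - 1).order = (m : ℕ∞) := by
    have e : σ X - X = X * (g - 1) := by rw [hg]; ring
    rw [e, order_mul, order_X] at hm
    generalize (g - 1).order = o at hm
    induction o using ENat.recTopCoe with
    | top =>
      exfalso
      rw [add_top] at hm
      exact ENat.top_ne_coe (m + 1) hm
    | coe t =>
      have : (1 : ℕ) + t = m + 1 := by exact_mod_cast hm
      have : t = m := by omega
      rw [this]
  have hg1ne : g - 1 ≠ 0 := by
    intro h; rw [h, order_zero] at hgo; exact ENat.top_ne_coe _ hgo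
  set d := divXPowOrder (g - 1) with hd
  have hdc : constantCoeff d ≠ 0 := fun h => hg1ne (constantCoeff_divXPowOrder_eq_zero_iff.1 h)
  have hgd : g - 1 = X ^ m * d := by
    have := X_pow_order_mul_divXPowOrder (f := g - 1)
    rw [hgo] at this
    simpa using this.symm
  refine ⟨g, d, G, hg, hg₀1, hgd, hdc, hGc, hxG, ?_⟩
  apply X_pow_dvd_aut_sub
  refine ⟨d, ?_⟩
  rw [hg, pow_succ', mul_assoc, ← hgd]; ring

theorem order_D (p : ℕ) [Fact p.Prime] [CharP k p]
    (σ : PowerSeries k ≃ₐ[k] PowerSeries k) (m : ℕ) (g d : PowerSeries k)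
    (hg : σ X = X * g) (hgc : constantCoeff g = 1) (hgd : g - 1 = X ^ m * d)
    (hdc : constantCoeff d ≠ 0)
    (hL2 : ∀ b : PowerSeries k, (X : PowerSeries k) ^ (m + 1) ∣ σ b - b)
    (w : PowerSeries k) (i : ℕ) (hw : w.order = (i : ℕ∞)) (hi : ¬ p ∣ i) :
    (σ w - w).order = ((i + m : ℕ) : ℕ∞) := by
  have hwne : w ≠ 0 := by
    intro h; rw [h, order_zero] at hw; exact ENat.top_ne_coe _ hw
  set ε := divXPowOrder w with hε
  have hεc : constantCoeff ε ≠ 0 := fun h => hwne (constantCoeff_divXPowOrder_eq_zero_iff.1 h)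
  have hwε : w = X ^ i * ε := by
    have := X_pow_order_mul_divXPowOrder (f := w)
    rw [hw] at this
    simpa using this.symm
  obtain ⟨c, hc⟩ := hL2 ε
  set S := ∑ l ∈ Finset.range i, g ^ l with hS
  have hSc : constantCoeff S = (i : k) := by
    rw [hS, map_sum]
    simp [hgc]
  have hik : (i : k) ≠ 0 := fun h => hi ((CharP.cast_eq_zero_iff k p i).1 h)
  have hgS : g ^ i - 1 = X ^ m * d * S := by
    rw [← hgd, hS, mul_geom_sum]
  have key : σ w - w = X ^ (i + m) * (X * (g ^ i * c) + ε * d * S) := by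
    have h4 : σ ε = ε + X ^ (m + 1) * c := by rw [← hc]; ring
    have h5 : g ^ i = 1 + X ^ m * d * S := by rw [← hgS]; ring
    conv_lhs => rw [hwε, map_mul, map_pow, hg, mul_pow, h4]
    rw [pow_add, pow_succ]
    linear_combination (X ^ i * ε) * h5
  rw [key, order_mul, order_X_pow, order_unit, add_zero]
  simp only [map_add, map_mul, map_pow, hgc, hSc, constantCoeff_X, zero_mul, one_pow, zero_add,
    ne_eq]
  exact mul_ne_zero (mul_ne_zero hεc hdc) hik


theorem norm_fixed (p : ℕ) (σ : PowerSeries k ≃ₐ[k] PowerSeries k) (hσp : σ ^ p = 1) :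
    σ (∏ i ∈ Finset.range p, (σ ^ i) (X : PowerSeries k))
      = ∏ i ∈ Finset.range p, (σ ^ i) (X : PowerSeries k) := by
  have h1 : σ (∏ i ∈ Finset.range p, (σ ^ i) (X : PowerSeries k))
      = ∏ i ∈ Finset.range p, (σ ^ (i + 1)) (X : PowerSeries k) := by
    rw [map_prod]
    apply Finset.prod_congr rfl
    intro i _
    rw [pow_succ', AlgEquiv.mul_apply]
  have h2 : (∏ i ∈ Finset.range p, (σ ^ (i + 1)) (X : PowerSeries k)) * (σ ^ 0) X
      = (∏ i ∈ Finset.range p, (σ ^ i) (X : PowerSeries k)) * (σ ^ p) X := by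
    rw [← Finset.prod_range_succ' (fun i => (σ ^ i) (X : PowerSeries k)) p,
      Finset.prod_range_succ]
  rw [hσp, pow_zero] at h2
  rw [h1]
  exact mul_right_cancel₀ (by simpa using (X_ne_zero : (X : PowerSeries k) ≠ 0)) h2

theorem D_pow_p (p : ℕ) [Fact p.Prime] [CharP k p]
    (σ : PowerSeries k ≃ₐ[k] PowerSeries k) (hσp : σ ^ p = 1) :
    (σ.toLinearMap - 1 : Module.End k (PowerSeries k)) ^ p = 0 := by
  have hpoly : (Polynomial.X - 1 : Polynomial k) ^ p = Polynomial.X ^ p - 1 := by
    rw [sub_pow_char, one_pow]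
  have h1 := congrArg (Polynomial.aeval (σ.toLinearMap : Module.End k (PowerSeries k))) hpoly
  simp only [map_pow, map_sub, Polynomial.aeval_X, map_one] at h1
  rw [h1]
  have h2 : (σ.toLinearMap : Module.End k (PowerSeries k)) ^ p = 1 := by
    apply LinearMap.ext
    intro w
    rw [Module.End.pow_apply]
    show (⇑σ)^[p] w = w
    rw [← AlgEquiv.coe_pow, hσp]
    rfl
  rw [h2, sub_self]

end PS

/-- Let `k` be a field of characteristic `p > 0`, `A = k[[u]]`, and `σ` a `k`-algebra automorphism of
`A` of order exactly `p` with ramification break `m`, i.e. `σ u - u` has order `m + 1`. Then `p`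
divides `m + 1` if and only if there are a uniformizer `s` of `A` (a power series of order `1`) and
a `σ`-invariant power series `a` with `σ s = s + a`. (The published statement has a third equivalent
condition, that `Spec A` is a torsor under the effective model of the action; this row omits it.) -/
theorem result
    (p : ℕ) [Fact p.Prime] (k : Type u) [Field k] [CharP k p]
    (σ : PowerSeries k ≃ₐ[k] PowerSeries k) (hσp : σ ^ p = 1) (hσ1 : σ ≠ 1)
    (m : ℕ) (hm : (σ PowerSeries.X - PowerSeries.X).order = ((m + 1 : ℕ) : ℕ∞)) :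
    p ∣ m + 1 ↔
      ∃ s a : PowerSeries k, s.order = 1 ∧ σ a = a ∧ σ s = s + a := by
  have hp : p.Prime := Fact.out
  obtain ⟨g, d, G, hg, hgc, hgd, hdc, hGc, hxG, hL2⟩ := setup p σ hσp m hm
  have hV := order_D p σ m g d hg hgc hgd hdc hL2
  constructor
  · -- construct s
    rintro ⟨q, hq⟩
    obtain ⟨P, rfl⟩ : ∃ P, p = P + 2 := ⟨p - 2, by have := hp.two_le; omega⟩
    set Dl : Module.End k (PowerSeries k) := σ.toLinearMap - 1 with hDl
    have hDlw : ∀ w, Dl w = σ w - w := fun w => rfl
    have hDlp : Dl ^ (P + 2) = 0 := D_pow_p (P + 2) σ hσp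
    have hord : ∀ j : ℕ, j ≤ P →
        ((Dl ^ j) ((X : PowerSeries k) ^ (P + 1))).order = (((P + 1) + j * m : ℕ) : ℕ∞) := by
      intro j
      induction j with
      | zero => intro _; simp
      | succ j ih =>
        intro hj
        have h1 := ih (by omega)
        rw [pow_succ', Module.End.mul_apply, hDlw, hV _ _ h1]
        · congr 1; ring
        · intro hdvd
          have e : (P + 1) + j * m + (1 + j) = (P + 2) * (1 + j * q) := by
            have : j * m + j = j * (m + 1) := by ring
            rw [hq] at this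
            nlinarith
          have h2 : (P + 2) ∣ (1 + j) := by
            have h3 : (P + 2) ∣ (P + 1) + j * m + (1 + j) := ⟨_, e⟩
            exact (Nat.dvd_add_right hdvd).1 h3
          have := Nat.le_of_dvd (by omega) h2
          omega
    set s' := (Dl ^ P) ((X : PowerSeries k) ^ (P + 1)) with hs'
    set R := q * P with hR
    have hs'o : s'.order = (((P + 2) * R + 1 : ℕ) : ℕ∞) := by
      rw [hs', hord P le_rfl]
      congr 1
      have : P * m + P = P * (m + 1) := by ring
      rw [hq] at this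
      rw [hR]; nlinarith
    have hs'ne : s' ≠ 0 := by
      intro h; rw [h, order_zero] at hs'o; exact ENat.top_ne_coe _ hs'o
    set ε := divXPowOrder s' with hε
    have hεc : constantCoeff ε ≠ 0 := fun h => hs'ne (constantCoeff_divXPowOrder_eq_zero_iff.1 h)
    have hs'ε : s' = X ^ ((P + 2) * R + 1) * ε := by
      have := X_pow_order_mul_divXPowOrder (f := s')
      rw [hs'o, ENat.toNat_coe] at this
      exact this.symm
    set x := ∏ i ∈ Finset.range (P + 2), (σ ^ i) (X : PowerSeries k) with hx
    have hσx : σ x = x := norm_fixed (P + 2) σ hσp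
    have hxne : x ≠ 0 := by
      rw [hxG]
      refine mul_ne_zero (pow_ne_zero _ X_ne_zero) ?_
      intro h; rw [h] at hGc; simp at hGc
    have hGRc : constantCoeff (G ^ R) ≠ 0 := by rw [map_pow, hGc, one_pow]; exact one_ne_zero
    have hGinv : G ^ R * (G ^ R)⁻¹ = 1 := PowerSeries.mul_inv_cancel _ hGRc
    set s := X * ε * (G ^ R)⁻¹ with hs
    have hxs : x ^ R * s = s' := by
      rw [hs'ε, hxG, hs, mul_pow, ← pow_mul, pow_succ]
      linear_combination (X ^ ((P + 2) * R) * X * ε) * hGinv
    have hinvc : constantCoeff ((G ^ R)⁻¹) ≠ 0 := by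
      intro h
      have := congrArg constantCoeff hGinv
      rw [map_mul, h, mul_zero, map_one] at this
      exact zero_ne_one this
    have hso : s.order = 1 := by
      rw [hs, order_mul, order_mul, order_X, order_unit _ hεc, order_unit _ hinvc]
      simp
    set a := σ s - s with ha
    have hxa : x ^ R * a = Dl s' := by
      rw [hDlw, ← hxs, map_mul, map_pow, hσx, ha]; ring
    have hxDa : x ^ R * (σ a - a) = 0 := by
      have h1 : σ (x ^ R * a) - x ^ R * a = x ^ R * (σ a - a) := by
        rw [map_mul, map_pow, hσx]; ring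
      rw [← h1, hxa, ← hDlw, ← Module.End.mul_apply, ← pow_two, hs', ← Module.End.mul_apply,
        ← pow_add, add_comm 2 P, hDlp]
      simp
    have hσa : σ a = a := by
      rcases mul_eq_zero.1 hxDa with h | h
      · exact absurd h (pow_ne_zero _ hxne)
      · exact sub_eq_zero.1 h
    exact ⟨s, a, hso, hσa, by rw [ha]; ring⟩
  · rintro ⟨s, a, hso, hσa, hσs⟩
    by_contra hndvd
    have h1 : ¬ p ∣ 1 := fun h => by
      have := Nat.le_of_dvd one_pos h
      have := hp.one_lt
      omega
    have hao : a.order = ((1 + m : ℕ) : ℕ∞) := by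
      have := hV s 1 (by rw [hso]; rfl) h1
      rw [hσs, add_sub_cancel_left] at this
      exact this
    have h2 := hV a (1 + m) hao (by rwa [add_comm])
    rw [hσa, sub_self, order_zero] at h2
    exact ENat.top_ne_coe _ h2

end Groth.Agent.S19996
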