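import Groth.Statements.S2000
-- import your own Groth.Agent.* helpers here
import Mathlib
import Groth.Agent.Lib.Helper23.BLGlue2

set_option autoImplicit false
universe u
open TensorProduct
open EtAlg

namespace Groth.Agent.S2000

/-- Beauville–Laszlo, essential surjectivity with glueability: take a glueing pair (R -> R', f). Fix an
R'-module M', an R-module M₁ on which multiplication by f is bijective (i.e. an R_f-module), and α
an R'-linear isomorphism from the localization of M' at f to R' ⊗_R M₁ (an isomorphism of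
R'_f-modules). Then there is an R-module M, glueable for (R -> R', f), with an R'-isomorphism R' ⊗_R
M ≅ M' and an R-isomorphism M_f ≅ M₁ under which α becomes the canonical identification (R' ⊗_R M)_f
= R' ⊗_R M_f. -/
theorem result (R R' : Type u) [CommRing R] [CommRing R'] [Algebra R R'] (f : R)
    (hRR : EtGlue.IsGlueingPair R R' f) (M' : Type u) [AddCommGroup M'] [Module R' M'] (M₁ : Type u) [AddCommGroup M₁]
    [Module R M₁] (hf : Function.Bijective fun x : M₁ => f • x)
    (α : LocalizedModule (Submonoid.powers (algebraMap R R' f)) M' ≃ₗ[R'] R' ⊗[R] M₁) :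
    ∃ (M : Type u) (_ : AddCommGroup M) (_ : Module R M) (_ : EtGlue.IsGlueable R R' f M)
      (e' : R' ⊗[R] M ≃ₗ[R'] M') (e₁ : LocalizedModule (Submonoid.powers f) M ≃ₗ[R] M₁),
      ∀ m : M, α (LocalizedModule.mkLinearMap (Submonoid.powers (algebraMap R R' f)) M' (e' ((1 : R') ⊗ₜ[R] m))) =
        (1 : R') ⊗ₜ[R] e₁ (LocalizedModule.mkLinearMap (Submonoid.powers f) M m) := by
  classical
  have hq := hRR.1
  letI : Module R M' := Module.compHom M' (algebraMap R R')
  haveI : IsScalarTower R R' M' := IsScalarTower.of_algebraMap_smul fun r x => rfl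
  let S' := Submonoid.powers (algebraMap R R' f)
  let lam : M' →ₗ[R'] LocalizedModule S' M' := LocalizedModule.mkLinearMap S' M'
  let φ' : M' →ₗ[R'] R' ⊗[R] M₁ := α.toLinearMap ∘ₗ lam
  let φ : M' →ₗ[R] R' ⊗[R] M₁ := φ'.restrictScalars R
  let ψ : M₁ →ₗ[R] R' ⊗[R] M₁ := TensorProduct.mk R R' M₁ 1
  let Msub : Submodule R (M' × M₁) :=
    LinearMap.ker (φ ∘ₗ LinearMap.fst R M' M₁ - ψ ∘ₗ LinearMap.snd R M' M₁)
  have hmem : ∀ p : M' × M₁, p ∈ Msub ↔ φ' p.1 = ψ p.2 := by
    intro p
    simp only [Msub, LinearMap.mem_ker, LinearMap.sub_apply, LinearMap.comp_apply, sub_eq_zero]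
    rfl
  let pr₁ : Msub →ₗ[R] M' := LinearMap.fst R M' M₁ ∘ₗ Msub.subtype
  let pr₂ : Msub →ₗ[R] M₁ := LinearMap.snd R M' M₁ ∘ₗ Msub.subtype
  have hpr : ∀ m : Msub, φ' (pr₁ m) = ψ (pr₂ m) := fun m => (hmem m.1).mp m.2
  have hfk : ∀ k : ℕ, Function.Bijective fun x : M₁ => f ^ k • x := by
    intro k
    induction k with
    | zero =>
      simp only [pow_zero, one_smul]
      exact Function.bijective_id
    | succ k ih =>
      have : (fun x : M₁ => f ^ (k + 1) • x) = (fun x => f ^ k • x) ∘ (fun x => f • x) := by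
        funext x
        simp [pow_succ, mul_smul]
      rw [this]
      exact ih.comp hf
  have htf : ∀ (y : M₁) (k : ℕ), f ^ k • y = 0 → y = 0 := fun y k h =>
    (hfk k).1 (by simpa using h)
  have hsm : ∀ (k : ℕ) (z : R' ⊗[R] M₁), (algebraMap R R' f ^ k) • z = f ^ k • z := by
    intro k z
    rw [← map_pow, algebraMap_smul]
  have hA : ∀ y : M₁, ∃ (k : ℕ) (u : M'), φ' u = ψ (f ^ k • y) := by
    intro y
    obtain ⟨⟨u, ⟨_, k, rfl⟩⟩, hu⟩ := IsLocalizedModule.mk'_surjective S' lam (α.symm (ψ y))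
    refine ⟨k, u, ?_⟩
    simp only [Function.uncurry_apply_pair] at hu
    rw [IsLocalizedModule.mk'_eq_iff] at hu
    change α (lam u) = _
    rw [hu, Submonoid.smul_def, map_smul, LinearEquiv.apply_symm_apply]
    change (algebraMap R R' f ^ k) • ψ y = _
    rw [hsm, ← map_smul]
  haveI hloc : IsLocalizedModule (Submonoid.powers f) pr₂ := by
    refine ⟨?_, ?_, ?_⟩
    · rintro ⟨_, k, rfl⟩
      rw [Module.End.isUnit_iff]
      exact hfk k
    · intro y
      obtain ⟨k, u, hu⟩ := hA y
      exact ⟨(⟨(u, f ^ k • y), (hmem _).mpr hu⟩, ⟨f ^ k, k, rfl⟩), rfl⟩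
    · intro m₁ m₂ h
      have h0 : lam (pr₁ m₁ - pr₁ m₂) = 0 := by
        apply α.injective
        rw [map_zero, map_sub, map_sub, sub_eq_zero]
        exact (hpr m₁).trans (by rw [h]; exact (hpr m₂).symm)
      rw [IsLocalizedModule.eq_zero_iff S'] at h0
      obtain ⟨⟨_, k, rfl⟩, hk⟩ := h0
      refine ⟨⟨f ^ k, k, rfl⟩, ?_⟩
      apply Subtype.ext
      apply Prod.ext
      · change f ^ k • pr₁ m₁ = f ^ k • pr₁ m₂
        rw [← sub_eq_zero, ← smul_sub, ← algebraMap_smul R' (f ^ k), map_pow]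
        exact hk
      · change f ^ k • pr₂ m₁ = f ^ k • pr₂ m₂
        rw [h]
  let π : R' ⊗[R] Msub →ₗ[R'] M' := LinearMap.liftBaseChange R' pr₁
  have hπ : ∀ (r' : R') (m : Msub), π (r' ⊗ₜ[R] m) = r' • pr₁ m := fun r' m => rfl
  have hφπ : ∀ t : R' ⊗[R] Msub, φ' (π t) = pr₂.lTensor R' t := by
    intro t
    induction t using TensorProduct.induction_on with
    | zero => simp
    | tmul r' m =>
      rw [hπ, map_smul, LinearMap.lTensor_tmul, hpr m]
      simp [ψ, TensorProduct.smul_tmul']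
    | add a b ha hb => simp only [map_add, ha, hb]
  have hglue : EtGlue.IsGlueable R R' f Msub := by
    apply Helper23.BL.glueable_of_glueingPair hRR
    rintro m ⟨n, hn⟩ h0
    have h1 : pr₁ m = 0 := by
      have := congrArg π h0
      rw [hπ, one_smul, map_zero] at this
      exact this
    have h2 : pr₂ m = 0 := htf _ n (by rw [← map_smul, hn, map_zero])
    exact Subtype.ext (Prod.ext h1 h2)
  have hQ : ∀ z : R' ⊗[R] M₁, ∃ (y₀ : M₁) (t : R' ⊗[R] Msub), z = ψ y₀ + φ' (π t) := by
    intro z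
    induction z using TensorProduct.induction_on with
    | zero => exact ⟨0, 0, by simp⟩
    | tmul r' y =>
      obtain ⟨k, u, hu⟩ := hA y
      obtain ⟨r, s', hr⟩ := Helper23.BL.exists_approx hq k r'
      let m : Msub := ⟨(u, f ^ k • y), (hmem _).mpr hu⟩
      refine ⟨r • y, s' ⊗ₜ[R] m, ?_⟩
      rw [hφπ, LinearMap.lTensor_tmul]
      change r' ⊗ₜ[R] y = (1 : R') ⊗ₜ[R] (r • y) + s' ⊗ₜ[R] (f ^ k • y)
      rw [hr, TensorProduct.add_tmul, TensorProduct.tmul_smul, TensorProduct.tmul_smul,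
        TensorProduct.smul_tmul', TensorProduct.smul_tmul', Algebra.smul_def, Algebra.smul_def, mul_one]
    | add a b ha hb =>
      obtain ⟨y₁, t₁, h₁⟩ := ha
      obtain ⟨y₂, t₂, h₂⟩ := hb
      exact ⟨y₁ + y₂, t₁ + t₂, by rw [h₁, h₂]; simp only [map_add]; abel⟩
  have hπsurj : Function.Surjective π := by
    intro x
    obtain ⟨y₀, t, h⟩ := hQ (φ' x)
    have hm : (x - π t, y₀) ∈ Msub := (hmem _).mpr (by
      change φ' (x - π t) = ψ y₀
      rw [map_sub, h]; abel)
    refine ⟨(1 : R') ⊗ₜ[R] (⟨_, hm⟩ : Msub) + t, ?_⟩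
    rw [map_add, hπ, one_smul]
    change x - π t + π t = x
    abel
  have hcomm : ∀ t : R' ⊗[R] Msub,
      TensorProduct.AlgebraTensorModule.rTensor R R' pr₂ (TensorProduct.comm R R' Msub t) =
        TensorProduct.comm R R' M₁ (pr₂.lTensor R' t) := by
    intro t
    induction t using TensorProduct.induction_on with
    | zero => simp
    | tmul r' m => simp
    | add a b ha hb => simp only [map_add, ha, hb]
  have hπinj : Function.Injective π := by
    rw [injective_iff_map_eq_zero]
    intro t ht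
    have h1 : pr₂.lTensor R' t = 0 := by rw [← hφπ, ht, map_zero]
    have h2 : ∃ n : ℕ, f ^ n • t = 0 := by
      have h3 : TensorProduct.AlgebraTensorModule.rTensor R R' pr₂ (TensorProduct.comm R R' Msub t) = 0 := by
        rw [hcomm, h1, map_zero]
      rw [IsLocalizedModule.eq_zero_iff (Submonoid.powers f)] at h3
      obtain ⟨⟨_, n, rfl⟩, hn⟩ := h3
      refine ⟨n, ?_⟩
      apply (TensorProduct.comm R R' Msub).injective
      rw [map_smul, map_zero]
      exact hn
    obtain ⟨m, ⟨n, hn⟩, hm⟩ := (Helper23.BL.torsion_bij_of_glueable hglue).2 t h2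
    have h4 : pr₁ m = 0 := by
      rw [← hm, hπ, one_smul] at ht
      exact ht
    have h5 : pr₂ m = 0 := htf _ n (by rw [← map_smul, hn, map_zero])
    have h6 : m = 0 := Subtype.ext (Prod.ext h4 h5)
    rw [← hm, h6, TensorProduct.tmul_zero]
  refine ⟨Msub, inferInstance, inferInstance, hglue, LinearEquiv.ofBijective π ⟨hπinj, hπsurj⟩,
    IsLocalizedModule.iso (Submonoid.powers f) pr₂, ?_⟩
  intro m
  rw [LinearEquiv.ofBijective_apply, hπ, one_smul]
  have h7 : (IsLocalizedModule.iso (Submonoid.powers f) pr₂).symm (pr₂ m) =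
      LocalizedModule.mkLinearMap (Submonoid.powers f) Msub m :=
    LinearMap.congr_fun (IsLocalizedModule.iso_symm_comp (Submonoid.powers f) pr₂) m
  rw [← h7, LinearEquiv.apply_symm_apply]
  exact hpr m

end Groth.Agent.S2000
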