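import Groth.Statements.S2001
-- import your own Groth.Agent.* helpers here
import Mathlib

set_option autoImplicit false
universe u
open TensorProduct
open EtAlg

namespace Groth.Agent.S2001

/-- Let (R -> R', f) be a glueing pair and M, N R-modules glueable for it. Given an R'-linear map φ' :
R' ⊗_R M -> R' ⊗_R N and an R-linear map φ₁ : M_f -> N_f which induce the same map into (R' ⊗_R N)_f
on elements of M, there is a unique R-linear map ψ : M -> N whose base change to R' is φ' and whose
localization is φ₁. -/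
theorem result (R R' : Type u) [CommRing R] [CommRing R'] [Algebra R R'] (f : R)
    (hRR : EtGlue.IsGlueingPair R R' f) (M N : Type u) [AddCommGroup M] [Module R M] [AddCommGroup N] [Module R N]
    (hM : EtGlue.IsGlueable R R' f M) (hN : EtGlue.IsGlueable R R' f N)
    (φ' : R' ⊗[R] M →ₗ[R'] R' ⊗[R] N)
    (φ₁ : LocalizedModule (Submonoid.powers f) M →ₗ[R] LocalizedModule (Submonoid.powers f) N)
    (hc : ∀ m : M, EtGlue.locOfTensor R R' f N (φ' ((1 : R') ⊗ₜ[R] m)) =
      EtGlue.tensorOfLoc R R' f N (φ₁ (LocalizedModule.mkLinearMap (Submonoid.powers f) M m))) :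
    ∃! ψ : M →ₗ[R] N, ψ.baseChange R' = φ' ∧
      IsLocalizedModule.map (Submonoid.powers f) (LocalizedModule.mkLinearMap (Submonoid.powers f) M)
        (LocalizedModule.mkLinearMap (Submonoid.powers f) N) ψ = φ₁ := by
  obtain ⟨hNinj, hNex⟩ := hN
  -- the map `N → (R' ⊗ N) × N_f`
  let j : N →ₗ[R] (R' ⊗[R] N) × LocalizedModule (Submonoid.powers f) N :=
    (TensorProduct.mk R R' N 1).prod (LocalizedModule.mkLinearMap (Submonoid.powers f) N)
  have hj : Function.Injective j := hNinj
  let g : M →ₗ[R] (R' ⊗[R] N) × LocalizedModule (Submonoid.powers f) N :=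
    ((φ'.restrictScalars R).comp (TensorProduct.mk R R' M 1)).prod
      (φ₁.comp (LocalizedModule.mkLinearMap (Submonoid.powers f) M))
  have hg : ∀ m, g m ∈ LinearMap.range j := by
    intro m
    obtain ⟨n, hn1, hn2⟩ := hNex _ _ (hc m)
    refine ⟨n, ?_⟩
    apply Prod.ext
    · exact hn1
    · exact hn2
  let e := LinearEquiv.ofInjective j hj
  let ψ : M →ₗ[R] N := e.symm.toLinearMap ∘ₗ g.codRestrict (LinearMap.range j) hg
  have hjψ : ∀ m, j (ψ m) = g m := by
    intro m
    have h1 : e (ψ m) = g.codRestrict (LinearMap.range j) hg m := e.apply_symm_apply _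
    exact congrArg Subtype.val h1
  have hψ1 : ∀ m, (1 : R') ⊗ₜ[R] ψ m = φ' ((1 : R') ⊗ₜ[R] m) := fun m =>
    congrArg Prod.fst (hjψ m)
  have hψ2 : ∀ m, LocalizedModule.mkLinearMap (Submonoid.powers f) N (ψ m) =
      φ₁ (LocalizedModule.mkLinearMap (Submonoid.powers f) M m) := fun m =>
    congrArg Prod.snd (hjψ m)
  refine ⟨ψ, ⟨?_, ?_⟩, ?_⟩
  · apply TensorProduct.AlgebraTensorModule.curry_injective
    apply LinearMap.ext_ring
    apply LinearMap.ext
    intro m
    simpa using hψ1 m
  · apply IsLocalizedModule.linearMap_ext (Submonoid.powers f)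
      (LocalizedModule.mkLinearMap (Submonoid.powers f) M)
      (LocalizedModule.mkLinearMap (Submonoid.powers f) N)
    apply LinearMap.ext
    intro m
    simp only [LinearMap.comp_apply, IsLocalizedModule.map_apply]
    exact hψ2 m
  · rintro ψ' ⟨h1, h2⟩
    apply LinearMap.ext
    intro m
    apply hj
    rw [hjψ]
    apply Prod.ext
    · change (1 : R') ⊗ₜ[R] ψ' m = φ' ((1 : R') ⊗ₜ[R] m)
      rw [← h1]
      simp
    · change LocalizedModule.mkLinearMap (Submonoid.powers f) N (ψ' m) =
        φ₁ (LocalizedModule.mkLinearMap (Submonoid.powers f) M m)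
      rw [← h2]
      simp only [IsLocalizedModule.map_apply]

end Groth.Agent.S2001
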