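import Groth.Statements.S20018
import Mathlib
-- import your own Groth.Agent.* helpers here

set_option autoImplicit false
open CAlg

namespace Groth.Agent.S20018


open PowerSeries

/-- the finite product attached to a sequence -/
noncomputable def Q {R : Type*} [CommRing R] (γ : ℕ → R) (M : ℕ) : PowerSeries R :=
  ∏ i ∈ Finset.range M, (1 - PowerSeries.C (γ i) * PowerSeries.X ^ (i + 1) : PowerSeries R)

theorem Q_succ {R : Type*} [CommRing R] (γ : ℕ → R) (M : ℕ) :
    Q γ (M + 1) = Q γ M * (1 - PowerSeries.C (γ M) * PowerSeries.X ^ (M + 1)) := by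
  unfold Q; rw [Finset.prod_range_succ]

theorem coeff_mul_factor {R : Type*} [CommRing R] (P : PowerSeries R) (a : R) (m n : ℕ) :
    PowerSeries.coeff n (P * (1 - PowerSeries.C a * PowerSeries.X ^ m)) =
      PowerSeries.coeff n P - (if m ≤ n then a * PowerSeries.coeff (n - m) P else 0) := by
  rw [mul_sub, mul_one, map_sub, ← mul_assoc, PowerSeries.coeff_mul_X_pow']
  split_ifs with h
  · rw [PowerSeries.coeff_mul_C, mul_comm]
  · rfl

theorem Q_const {R : Type*} [CommRing R] (γ : ℕ → R) (M : ℕ) :
    PowerSeries.coeff 0 (Q γ M) = 1 := by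
  induction M with
  | zero => simp [Q]
  | succ M ih =>
    rw [Q_succ, coeff_mul_factor, if_neg (by omega), sub_zero, ih]

theorem Q_coeff_le {R : Type*} [CommRing R] (γ : ℕ → R) (M m : ℕ) (hm : m ≤ M) :
    PowerSeries.coeff m (Q γ (M + 1)) = PowerSeries.coeff m (Q γ M) := by
  rw [Q_succ, coeff_mul_factor, if_neg (by omega), sub_zero]

theorem Q_coeff_succ {R : Type*} [CommRing R] (γ : ℕ → R) (M : ℕ) :
    PowerSeries.coeff (M + 1) (Q γ (M + 1)) = PowerSeries.coeff (M + 1) (Q γ M) - γ M := by
  rw [Q_succ, coeff_mul_factor, if_pos le_rfl, Nat.sub_self, Q_const, mul_one]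

theorem Q_congr {R : Type*} [CommRing R] (γ γ' : ℕ → R) (M : ℕ) (h : ∀ i < M, γ i = γ' i) :
    Q γ M = Q γ' M := by
  unfold Q
  apply Finset.prod_congr rfl
  intro i hi
  rw [h i (Finset.mem_range.mp hi)]

theorem trunc_eq_iff {R : Type*} [CommRing R] (n : ℕ) (f g : PowerSeries R) :
    PowerSeries.trunc n f = PowerSeries.trunc n g ↔
      ∀ m < n, PowerSeries.coeff m f = PowerSeries.coeff m g := by
  constructor
  · intro h m hm
    have := congrArg (fun p => p.coeff m) h
    simpa [PowerSeries.coeff_trunc, hm] using this
  · intro h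
    ext m
    rw [PowerSeries.coeff_trunc, PowerSeries.coeff_trunc]
    split_ifs with hm
    · exact h m hm
    · rfl

/-- recursively defined partial products -/
noncomputable def Pseq {R : Type*} [CommRing R] (x : PowerSeries R) : ℕ → PowerSeries R
  | 0 => 1
  | (N + 1) => Pseq x N * (1 - PowerSeries.C (PowerSeries.coeff (N + 1) (Pseq x N) -
      PowerSeries.coeff (N + 1) x) * PowerSeries.X ^ (N + 1))

open PowerSeries in
/-- Product expansion of big Witt vectors: let R be a commutative ring and x ∈ 1 + tR[[t]] a formal
power series with constant term 1. Then x can be written uniquely as an infinite product ∏_{i ≥ 1}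
(1 - α_i t^i) with α_i ∈ R. The infinite product is expressed through its truncations: there is a
unique sequence α : ℕ → R (α i standing for the coefficient attached to t^{i+1}) such that for every
N the series x and the finite product ∏_{i=0}^{N} (1 - α_i t^{i+1}) agree modulo t^{N+2}. -/
theorem result
    (R : Type*) [CommRing R] (x : PowerSeries R) (hx : PowerSeries.constantCoeff x = 1) :
    ∃! α : ℕ → R, ∀ N : ℕ,
      PowerSeries.trunc (N + 2) x =
        PowerSeries.trunc (N + 2) (∏ i ∈ Finset.range (N + 1),
          (1 - PowerSeries.C (α i) * PowerSeries.X ^ (i + 1) : PowerSeries R)) := by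
  let α : ℕ → R := fun N => PowerSeries.coeff (N + 1) (Pseq x N) - PowerSeries.coeff (N + 1) x
  have hPQ : ∀ N, Pseq x N = Q α N := by
    intro N
    induction N with
    | zero => simp [Pseq, Q]
    | succ N ih =>
      rw [Q_succ, ← ih]
      rfl
  have hα : ∀ N, α N = PowerSeries.coeff (N + 1) (Q α N) - PowerSeries.coeff (N + 1) x := by
    intro N; rw [← hPQ]
  have hx0 : PowerSeries.coeff 0 x = 1 := by
    rw [PowerSeries.coeff_zero_eq_constantCoeff_apply]; exact hx
  have hclaim : ∀ N, ∀ m ≤ N, PowerSeries.coeff m (Q α N) = PowerSeries.coeff m x := by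
    intro N
    induction N with
    | zero =>
      intro m hm
      have : m = 0 := by omega
      subst this
      rw [Q_const, hx0]
    | succ N ih =>
      intro m hm
      rcases Nat.lt_or_ge m (N + 1) with h | h
      · rw [Q_coeff_le α N m (by omega)]
        exact ih m (by omega)
      · have : m = N + 1 := by omega
        subst this
        rw [Q_coeff_succ, hα N]
        ring
  refine ⟨α, ?_, ?_⟩
  · intro N
    show PowerSeries.trunc (N + 2) x = PowerSeries.trunc (N + 2) (Q α (N + 1))
    rw [trunc_eq_iff]
    intro m hm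
    exact (hclaim (N + 1) m (by omega)).symm
  · intro β hβ
    have hβ' : ∀ N, ∀ m < N + 2, PowerSeries.coeff m x = PowerSeries.coeff m (Q β (N + 1)) := by
      intro N
      exact (trunc_eq_iff _ _ _).mp (hβ N)
    funext N
    induction N using Nat.strong_induction_on with
    | _ N ih =>
      have hQ : Q β N = Q α N := Q_congr β α N ih
      have h1 := hβ' N (N + 1) (by omega)
      rw [Q_coeff_succ, hQ] at h1
      rw [hα N, h1]
      ring

end Groth.Agent.S20018
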