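import Groth.Statements.S2004
-- import your own Groth.Agent.* helpers here
import Mathlib
import Groth.Agent.Lib.Helper23.BLTorsion

set_option autoImplicit false
universe u
open TensorProduct
open EtAlg

namespace Groth.Agent.S2004

theorem away_map_eq_zero_iff {A : Type u} [CommRing A] (g : A) (a : A) :
    algebraMap A (Localization.Away g) a = 0 ↔ ∃ n : ℕ, g ^ n * a = 0 := by
  rw [IsLocalization.map_eq_zero_iff (Submonoid.powers g)]
  constructor
  · rintro ⟨⟨_, n, rfl⟩, h⟩
    exact ⟨n, h⟩
  · rintro ⟨n, h⟩
    exact ⟨⟨g ^ n, n, rfl⟩, h⟩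


/-- Let R -> R' induce bijections R/f^n R -> R'/f^n R' for all n > 0. Then (R -> R', f) is a glueing
pair if and only if R -> R' maps the f-power torsion of R bijectively onto the f-power torsion of R'
(stated as: injective on f-power torsion elements, and every f-power torsion element of R' is the
image of one of R). -/
theorem result (R R' : Type u) [CommRing R] [CommRing R'] [Algebra R R'] (f : R)
    (hq : EtGlue.QuotPowBijective R R' f) :
    EtGlue.IsGlueingPair R R' f ↔
      ((∀ x : R, (∃ n : ℕ, f ^ n * x = 0) → algebraMap R R' x = 0 → x = 0) ∧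
       (∀ x' : R', (∃ n : ℕ, algebraMap R R' f ^ n * x' = 0) →
          ∃ x : R, (∃ n : ℕ, f ^ n * x = 0) ∧ algebraMap R R' x = x')) := by
  have hcomm : ∀ r : R, Localization.awayMap (algebraMap R R') f (algebraMap R (Localization.Away f) r) =
      algebraMap R' (Localization.Away (algebraMap R R' f)) (algebraMap R R' r) := by
    intro r
    exact IsLocalization.map_eq _ _
  constructor
  · rintro ⟨_, hinj, hmid, _⟩
    constructor
    · intro x hx h0
      apply hinj
      simp only [h0, map_zero, Prod.mk.injEq, true_and]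
      exact (away_map_eq_zero_iff f x).mpr hx
    · intro x' hx'
      obtain ⟨r, hr1, hr2⟩ := hmid x' 0 (by
        rw [map_zero]
        exact (away_map_eq_zero_iff _ x').mpr hx')
      exact ⟨r, (away_map_eq_zero_iff f r).mp hr2, hr1⟩
  · rintro ⟨hinj, hsurj⟩
    refine ⟨hq, ?_, ?_, ?_⟩
    · intro a b hab
      simp only [Prod.mk.injEq] at hab
      obtain ⟨h1, h2⟩ := hab
      rw [← sub_eq_zero] at h1 h2 ⊢
      rw [← map_sub] at h1 h2
      exact hinj _ ((away_map_eq_zero_iff f _).mp h2) h1
    · intro x y hxy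
      obtain ⟨r, ⟨_, k, rfl⟩, rfl⟩ := IsLocalization.exists_mk'_eq (Submonoid.powers f) y
      have hmap : Localization.awayMap (algebraMap R R') f
          (IsLocalization.mk' (Localization.Away f) r (⟨f ^ k, k, rfl⟩ : Submonoid.powers f)) =
          IsLocalization.mk' (Localization.Away (algebraMap R R' f)) (algebraMap R R' r)
            (⟨algebraMap R R' (f ^ k), k, by rw [map_pow]⟩ : Submonoid.powers (algebraMap R R' f)) :=
        IsLocalization.map_mk' _ _ _
      rw [hmap, IsLocalization.eq_mk'_iff_mul_eq, ← map_mul,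
        IsLocalization.eq_iff_exists (Submonoid.powers (algebraMap R R' f))] at hxy
      obtain ⟨⟨_, j, rfl⟩, hj⟩ := hxy
      simp only at hj
      obtain ⟨t, ht, ht'⟩ := hsurj (x * algebraMap R R' (f ^ k) - algebraMap R R' r) ⟨j, by
        rw [mul_sub, hj, sub_self]⟩
      obtain ⟨r₀, hr₀⟩ := Helper23.BL.dvd_of_map_dvd hq k (r + t) x (by
        rw [map_add, ht']; ring)
      obtain ⟨t₂, ht₂, ht₂'⟩ := hsurj (x - algebraMap R R' r₀) ⟨k, by
        have : algebraMap R R' (r + t) = algebraMap R R' (f ^ k) * algebraMap R R' r₀ := by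
          rw [hr₀, map_mul]
        rw [map_add, ht'] at this
        rw [← map_pow]
        linear_combination this⟩
      refine ⟨r₀ + t₂, by rw [map_add, ht₂']; ring, ?_⟩
      rw [IsLocalization.eq_mk'_iff_mul_eq, ← map_mul,
        IsLocalization.eq_iff_exists (Submonoid.powers f)]
      obtain ⟨n₁, hn₁⟩ := ht
      obtain ⟨n₂, hn₂⟩ := ht₂
      refine ⟨⟨f ^ (n₁ + n₂), _, rfl⟩, ?_⟩
      simp only
      have e : (r₀ + t₂) * f ^ k = r + t + f ^ k * t₂ := by rw [hr₀]; ring
      rw [e, pow_add]
      linear_combination f ^ n₂ * hn₁ + f ^ n₁ * f ^ k * hn₂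
    · intro z
      obtain ⟨x', ⟨_, k, rfl⟩, rfl⟩ := IsLocalization.exists_mk'_eq
        (Submonoid.powers (algebraMap R R' f)) z
      obtain ⟨r, y', h⟩ := Helper23.BL.exists_approx hq k x'
      refine ⟨y', -IsLocalization.mk' (Localization.Away f) r (⟨f ^ k, k, rfl⟩ : Submonoid.powers f), ?_⟩
      have hmap : Localization.awayMap (algebraMap R R') f
          (IsLocalization.mk' (Localization.Away f) r (⟨f ^ k, k, rfl⟩ : Submonoid.powers f)) =
          IsLocalization.mk' (Localization.Away (algebraMap R R' f)) (algebraMap R R' r)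
            (⟨algebraMap R R' f ^ k, k, rfl⟩ : Submonoid.powers (algebraMap R R' f)) :=
        (IsLocalization.map_mk' _ _ _).trans (by congr 1; exact Subtype.ext (map_pow _ _ _))
      rw [map_neg, sub_neg_eq_add, hmap, IsLocalization.eq_mk'_iff_mul_eq, add_mul,
        IsLocalization.mk'_spec, ← map_mul, ← map_add]
      congr 1
      simp only
      rw [h, map_pow]
      ring

end Groth.Agent.S2004
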