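import Groth.Statements.S2007
-- import your own Groth.Agent.* helpers here
import Mathlib
import Groth.Agent.Lib.Helper23.FormalGlue2

set_option autoImplicit false
universe u
open TensorProduct
open EtAlg

namespace Groth.Agent.S2007

theorem aux (R S : Type u) [CommRing R] [CommRing S] [Algebra R S] [Module.Flat R S] (I : Ideal R)
    (hq : Function.Bijective (Ideal.quotientMap (I.map (algebraMap R S)) (algebraMap R S) Ideal.le_comap_map))
    (N : Type u) [AddCommGroup N] [Module R N] (M' : Type u) [AddCommGroup M'] [Module S M']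
    [Module R M'] [IsScalarTower R S M'] (φ : M' →ₗ[S] S ⊗[R] N)
    (hker : ∀ x : M', φ x = 0 → ∃ n : ℕ, ∀ a ∈ I ^ n, algebraMap R S a • x = 0)
    (hcoker : ∀ y : S ⊗[R] N, ∃ n : ℕ, ∀ a ∈ I ^ n, algebraMap R S a • y ∈ LinearMap.range φ) :
    ∃ (M : Type u) (_ : AddCommGroup M) (_ : Module R M) (ψ : M →ₗ[R] N) (e : S ⊗[R] M ≃ₗ[S] M'),
      φ ∘ₗ e.toLinearMap = ψ.baseChange S := by
  classical
  let φR : M' →ₗ[R] S ⊗[R] N := φ.restrictScalars R
  let ι : N →ₗ[R] S ⊗[R] N := TensorProduct.mk R S N 1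
  let Msub : Submodule R (M' × N) :=
    LinearMap.ker (φR ∘ₗ LinearMap.fst R M' N - ι ∘ₗ LinearMap.snd R M' N)
  have hmem : ∀ p : M' × N, p ∈ Msub ↔ φ p.1 = ι p.2 := by
    intro p
    simp only [Msub, LinearMap.mem_ker, LinearMap.sub_apply, LinearMap.comp_apply, sub_eq_zero]
    rfl
  let pr₁ : Msub →ₗ[R] M' := LinearMap.fst R M' N ∘ₗ Msub.subtype
  let ψ : Msub →ₗ[R] N := LinearMap.snd R M' N ∘ₗ Msub.subtype
  have hpr : ∀ m : Msub, φ (pr₁ m) = ι (ψ m) := fun m => (hmem m.1).mp m.2
  let e₀ : S ⊗[R] Msub →ₗ[S] M' := LinearMap.liftBaseChange S pr₁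
  have he₀ : ∀ (s : S) (m : Msub), e₀ (s ⊗ₜ[R] m) = s • pr₁ m := fun _ _ => rfl
  have hφe : ∀ t, φ (e₀ t) = ψ.baseChange S t := by
    intro t
    induction t using TensorProduct.induction_on with
    | zero => simp
    | tmul s m =>
      rw [he₀, map_smul, hpr m, LinearMap.baseChange_tmul]
      simp [ι, TensorProduct.smul_tmul']
    | add a b ha hb => simp only [map_add, ha, hb]
  let V : Submodule S (S ⊗[R] N) := LinearMap.range φ
  have hQtors : ∀ q : (S ⊗[R] N) ⧸ V, ∃ n : ℕ, ∀ a ∈ I ^ n, a • q = 0 := by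
    intro q
    obtain ⟨y, rfl⟩ := V.mkQ_surjective q
    obtain ⟨n, hn⟩ := hcoker y
    refine ⟨n, fun a ha => ?_⟩
    rw [← algebraMap_smul S a (V.mkQ y), ← map_smul, Submodule.mkQ_apply,
      Submodule.Quotient.mk_eq_zero]
    exact hn a ha
  have hA : ∀ y : S ⊗[R] N, ∃ n : N, y - ι n ∈ V := by
    intro y
    induction y using TensorProduct.induction_on with
    | zero => exact ⟨0, by simp⟩
    | tmul s n' =>
      obtain ⟨k, hk⟩ := hcoker ((1 : S) ⊗ₜ[R] n')
      obtain ⟨r, hr⟩ := Helper23.FG.exists_approx (Helper23.FG.quotientMap_pow_bijective hq k).2 s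
      refine ⟨r • n', ?_⟩
      have h1 : s ⊗ₜ[R] n' - ι (r • n') = (s - algebraMap R S r) ⊗ₜ[R] n' := by
        rw [TensorProduct.sub_tmul]
        congr 1
        change (1 : S) ⊗ₜ[R] (r • n') = _
        rw [TensorProduct.tmul_smul, TensorProduct.smul_tmul', Algebra.smul_def, mul_one]
      rw [h1]
      revert hr
      generalize s - algebraMap R S r = z
      intro hz
      unfold Ideal.map at hz
      induction hz using Submodule.span_induction with
      | mem x hx =>
        obtain ⟨a, ha, rfl⟩ := hx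
        have := hk a ha
        rwa [TensorProduct.smul_tmul', smul_eq_mul, mul_one] at this
      | zero =>
        rw [TensorProduct.zero_tmul]
        exact zero_mem _
      | add x y _ _ hx hy =>
        rw [TensorProduct.add_tmul]
        exact add_mem hx hy
      | smul c x _ hx =>
        rw [smul_eq_mul, ← smul_eq_mul, ← TensorProduct.smul_tmul']
        exact V.smul_mem c hx
    | add a b ha hb =>
      obtain ⟨n₁, h₁⟩ := ha
      obtain ⟨n₂, h₂⟩ := hb
      refine ⟨n₁ + n₂, ?_⟩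
      have := add_mem h₁ h₂
      rw [map_add]
      convert this using 1
      abel
  let κ : N →ₗ[R] (S ⊗[R] N) ⧸ V := (V.mkQ.restrictScalars R) ∘ₗ ι
  have hκ : ∀ n, κ n = V.mkQ (ι n) := fun _ => rfl
  have hκsurj : Function.Surjective κ := by
    intro q
    obtain ⟨y, rfl⟩ := V.mkQ_surjective q
    obtain ⟨n, hn⟩ := hA y
    refine ⟨n, ?_⟩
    symm
    rw [← sub_eq_zero, hκ, ← map_sub, Submodule.mkQ_apply, Submodule.Quotient.mk_eq_zero]
    exact hn
  let N₁ : Submodule R N := LinearMap.ker κ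
  have hN₁ : ∀ n, n ∈ N₁ ↔ ι n ∈ V := by
    intro n
    rw [LinearMap.mem_ker, hκ, Submodule.mkQ_apply, Submodule.Quotient.mk_eq_zero]
  have hex1 : Function.Exact (N₁.subtype.lTensor S) (κ.lTensor S) :=
    lTensor_exact S (LinearMap.exact_subtype_ker_map κ) hκsurj
  have hmult := Helper23.FG.mult_bijective hq hQtors
  have hcomp : ∀ y : S ⊗[R] N,
      LinearMap.liftBaseChange S (LinearMap.id : ((S ⊗[R] N) ⧸ V) →ₗ[R] ((S ⊗[R] N) ⧸ V))
        (κ.lTensor S y) = V.mkQ y := by
    intro y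
    induction y using TensorProduct.induction_on with
    | zero => simp
    | tmul s n =>
      rw [LinearMap.lTensor_tmul, LinearMap.liftBaseChange_tmul, LinearMap.id_apply, hκ, ← map_smul]
      congr 1
      change s • ((1 : S) ⊗ₜ[R] n) = _
      rw [TensorProduct.smul_tmul', smul_eq_mul, mul_one]
    | add a b ha hb => simp only [map_add, ha, hb]
  have hV : ∀ v ∈ V, ∃ w : S ⊗[R] N₁, N₁.subtype.lTensor S w = v := by
    intro v hv
    have : κ.lTensor S v = 0 := by
      apply hmult.1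
      rw [map_zero, hcomp, Submodule.mkQ_apply, Submodule.Quotient.mk_eq_zero]
      exact hv
    exact (hex1 v).mp this
  let ψ₁ : Msub →ₗ[R] N₁ := ψ.codRestrict N₁ (fun m => (hN₁ _).mpr ⟨pr₁ m, hpr m⟩)
  have hψ₁surj : Function.Surjective ψ₁ := by
    rintro ⟨n, hn⟩
    obtain ⟨x, hx⟩ := (hN₁ n).mp hn
    exact ⟨⟨(x, n), (hmem _).mpr hx⟩, Subtype.ext rfl⟩
  have hψfac : ∀ t : S ⊗[R] Msub, ψ.baseChange S t = N₁.subtype.lTensor S (ψ₁.lTensor S t) := by
    intro t
    induction t using TensorProduct.induction_on with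
    | zero => simp
    | tmul s m => rfl
    | add a b ha hb => simp only [map_add, ha, hb]
  have hsurj : Function.Surjective e₀ := by
    intro x
    obtain ⟨w, hw⟩ := hV (φ x) ⟨x, rfl⟩
    obtain ⟨t, rfl⟩ := LinearMap.lTensor_surjective S hψ₁surj w
    have h0 : φ (x - e₀ t) = 0 := by rw [map_sub, hφe, hψfac, hw, sub_self]
    have hm : (x - e₀ t, (0 : N)) ∈ Msub := (hmem _).mpr (by
      change φ (x - e₀ t) = ι 0
      rw [h0, map_zero])
    refine ⟨(1 : S) ⊗ₜ[R] (⟨_, hm⟩ : Msub) + t, ?_⟩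
    rw [map_add, he₀, one_smul]
    change x - e₀ t + e₀ t = x
    abel
  let Kφ : Submodule R M' := LinearMap.ker φR
  have hKφ : ∀ k : Kφ, φ k.1 = 0 := fun k => k.2
  let j : Kφ →ₗ[R] Msub := LinearMap.codRestrict Msub ((LinearMap.inl R M' N) ∘ₗ Kφ.subtype)
    (fun k => (hmem _).mpr (by
      change φ k.1 = ι 0
      rw [map_zero]
      exact hKφ k))
  have hj : ∀ k : Kφ, pr₁ (j k) = k.1 := fun _ => rfl
  have hexj : Function.Exact j ψ₁ := by
    intro m
    constructor
    · intro h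
      have h1 : ψ m = 0 := congrArg Subtype.val h
      have h2 : φ (pr₁ m) = 0 := by rw [hpr, h1, map_zero]
      exact ⟨⟨pr₁ m, h2⟩, Subtype.ext (Prod.ext rfl h1.symm)⟩
    · rintro ⟨k, rfl⟩
      exact Subtype.ext rfl
  have hex2 : Function.Exact (j.lTensor S) (ψ₁.lTensor S) := lTensor_exact S hexj hψ₁surj
  have hKtors : ∀ k : Kφ, ∃ n : ℕ, ∀ a ∈ I ^ n, a • k = 0 := by
    intro k
    obtain ⟨n, hn⟩ := hker k.1 (hKφ k)
    refine ⟨n, fun a ha => Subtype.ext ?_⟩
    change a • k.1 = 0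
    rw [← algebraMap_smul S]
    exact hn a ha
  have hinj : Function.Injective e₀ := by
    rw [injective_iff_map_eq_zero]
    intro t ht
    have h1 : ψ₁.lTensor S t = 0 := by
      apply Module.Flat.lTensor_preserves_injective_linearMap (M := S) _ N₁.injective_subtype
      rw [map_zero, ← hψfac, ← hφe, ht, map_zero]
    obtain ⟨t₀, rfl⟩ := (hex2 t).mp h1
    obtain ⟨k₀, rfl⟩ := (Helper23.FG.mk_bijective_of_torsion hq hKtors).2 t₀
    have h2 : k₀.1 = 0 := by
      rw [TensorProduct.mk_apply, LinearMap.lTensor_tmul, he₀, one_smul, hj] at ht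
      exact ht
    have h4 : k₀ = 0 := Subtype.ext h2
    rw [h4]
    simp
  refine ⟨Msub, inferInstance, inferInstance, ψ, LinearEquiv.ofBijective e₀ ⟨hinj, hsurj⟩, ?_⟩
  apply LinearMap.ext
  intro t
  exact hφe t


/-- Let R -> S be a flat ring map and I a finitely generated ideal of R such that R/I -> S/IS is
bijective. Let N be an R-module, M' an S-module and φ : M' -> S ⊗_R N an S-linear map whose kernel
and cokernel are I-power torsion (every element of the kernel, resp. of the target modulo the image,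
is killed by some power of I). Then there are an R-module M, an R-linear map ψ : M -> N and an
S-isomorphism S ⊗_R M ≅ M' identifying φ with the base change of ψ. -/
theorem result (R S : Type u) [CommRing R] [CommRing S] [Algebra R S] [Module.Flat R S] (I : Ideal R)
    (hI : I.FG) (hq : Function.Bijective (Ideal.quotientMap (I.map (algebraMap R S)) (algebraMap R S) Ideal.le_comap_map))
    (N : Type u) [AddCommGroup N] [Module R N] (M' : Type u) [AddCommGroup M'] [Module S M'] (φ : M' →ₗ[S] S ⊗[R] N)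
    (hker : ∀ x : M', φ x = 0 → ∃ n : ℕ, ∀ a ∈ I ^ n, algebraMap R S a • x = 0)
    (hcoker : ∀ y : S ⊗[R] N, ∃ n : ℕ, ∀ a ∈ I ^ n, algebraMap R S a • y ∈ LinearMap.range φ) :
    ∃ (M : Type u) (_ : AddCommGroup M) (_ : Module R M) (ψ : M →ₗ[R] N) (e : S ⊗[R] M ≃ₗ[S] M'),
      φ ∘ₗ e.toLinearMap = ψ.baseChange S := by
  letI : Module R M' := Module.compHom M' (algebraMap R S)
  haveI : IsScalarTower R S M' := IsScalarTower.of_algebraMap_smul fun r x => rfl
  exact aux R S I hq N M' φ hker hcoker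

end Groth.Agent.S2007
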