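import Groth.Statements.S2008
-- import your own Groth.Agent.* helpers here
import Mathlib
import Groth.Agent.Lib.Helper23.Milnor

set_option autoImplicit false
universe u
open TensorProduct
open EtAlg

namespace Groth.Agent.S2008

section helpers

variable (R S : Type u) [CommRing R] [CommRing S] [Algebra R S] (I : Ideal R)

theorem isBaseChange_quot :
    IsBaseChange (R ⧸ I) ((Ideal.Quotient.mkₐ R (I.map (algebraMap R S))).toLinearMap) := by
  have hs : Function.Surjective (algebraMap R (R ⧸ I)) := Ideal.Quotient.mk_surjective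
  have hker : RingHom.ker (algebraMap R (R ⧸ I)) = I := Ideal.mk_ker
  let F : (R ⧸ I) ⊗[R] S →ₗ[R ⧸ I] S ⧸ I.map (algebraMap R S) :=
    LinearMap.liftBaseChange (R ⧸ I) ((Ideal.Quotient.mkₐ R (I.map (algebraMap R S))).toLinearMap)
  have hF : ∀ s : S, F ((1 : R ⧸ I) ⊗ₜ[R] s) = Ideal.Quotient.mk _ s := by
    intro s
    simp [F]
  have hbij : Function.Bijective F := by
    constructor
    · rw [injective_iff_map_eq_zero]
      intro t ht
      obtain ⟨s, rfl⟩ := Helper23.Mil.exists_one_tmul hs t
      rw [hF, Ideal.Quotient.eq_zero_iff_mem] at ht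
      rw [Helper23.Mil.one_tmul_eq_zero_iff hs, hker, Ideal.smul_top_eq_map]
      exact ht
    · intro y
      obtain ⟨s, rfl⟩ := Ideal.Quotient.mk_surjective y
      exact ⟨_, hF s⟩
  exact IsBaseChange.of_equiv (LinearEquiv.ofBijective F hbij) (fun x => hF x)

/-- The identification `B̄ ⊗[Ā] M ≃ S ⊗[R] M`. -/
noncomputable def tensorEquiv (M : Type u) [AddCommGroup M] [Module R M] [Module (R ⧸ I) M]
    [IsScalarTower R (R ⧸ I) M] :
    (S ⧸ I.map (algebraMap R S)) ⊗[R ⧸ I] M ≃ S ⊗[R] M :=
  ((TensorProduct.comm (R ⧸ I) _ M).toEquiv.trans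
    ((TensorProduct.congr (LinearEquiv.refl (R ⧸ I) M) (isBaseChange_quot R S I).equiv.symm).toEquiv.trans
      ((TensorProduct.AlgebraTensorModule.cancelBaseChange R (R ⧸ I) (R ⧸ I) M S).toEquiv.trans
        (TensorProduct.comm R M S).toEquiv)))

theorem exists_killed_ne_zero {M : Type u} [AddCommGroup M] [Module R M] :
    ∀ (n : ℕ) (m : M), m ≠ 0 → (∀ a ∈ I ^ n, a • m = 0) →
      ∃ m' : M, m' ≠ 0 ∧ ∀ a ∈ I, a • m' = 0 := by
  intro n
  induction n with
  | zero =>
    intro m hm h
    exact absurd (by simpa using h 1 (by simp)) hm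
  | succ n ih =>
    intro m hm h
    by_cases hk : ∀ a ∈ I, a • m = 0
    · exact ⟨m, hm, hk⟩
    · push Not at hk
      obtain ⟨a, ha, ham⟩ := hk
      refine ih (a • m) ham ?_
      intro b hb
      rw [← mul_smul]
      exact h _ (by rw [pow_succ]; exact Ideal.mul_mem_mul hb ha)

end helpers


/-- For a ring map R -> S and an ideal I of R the following are equivalent: (1) S is flat over R and
S/IS is faithfully flat over R/I; (2) S is flat over R and Spec(S/IS) -> Spec(R/I) is surjective;
(3) S is flat over R and S ⊗_R M is nonzero for every nonzero R-module M killed by I; (4) S is flat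
over R and S ⊗_R M is nonzero for every nonzero I-power torsion R-module M. (Faithfulness of base
change on these subcategories is stated as detection of nonzero objects, which is equivalent for an
exact functor.) -/
theorem result (R S : Type u) [CommRing R] [CommRing S] [Algebra R S] (I : Ideal R) :
    List.TFAE [
      Module.Flat R S ∧ Module.FaithfullyFlat (R ⧸ I) (S ⧸ I.map (algebraMap R S)),
      Module.Flat R S ∧ Function.Surjective (PrimeSpectrum.comap (Ideal.quotientMap (I.map (algebraMap R S)) (algebraMap R S) Ideal.le_comap_map)),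
      Module.Flat R S ∧ ∀ (M : Type u) [AddCommGroup M] [Module R M], (∀ (a : R) (m : M), a ∈ I → a • m = 0) →
        Nontrivial M → Nontrivial (S ⊗[R] M),
      Module.Flat R S ∧ ∀ (M : Type u) [AddCommGroup M] [Module R M], (∀ m : M, ∃ n : ℕ, ∀ a ∈ I ^ n, a • m = 0) →
        Nontrivial M → Nontrivial (S ⊗[R] M)] := by
  have hflatq : Module.Flat R S → Module.Flat (R ⧸ I) (S ⧸ I.map (algebraMap R S)) := by
    intro h
    exact Module.Flat.isBaseChange R (R ⧸ I) S _ (isBaseChange_quot R S I)
  tfae_have 1 ↔ 2 := by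
    constructor
    · rintro ⟨h1, h2⟩
      exact ⟨h1, PrimeSpectrum.comap_surjective_of_faithfullyFlat
        (A := R ⧸ I) (B := S ⧸ I.map (algebraMap R S))⟩
    · rintro ⟨h1, h2⟩
      haveI := hflatq h1
      exact ⟨h1, Module.FaithfullyFlat.of_comap_surjective h2⟩
  tfae_have 1 → 3 := by
    rintro ⟨h1, h2⟩
    refine ⟨h1, ?_⟩
    intro M _ _ hM hnt
    have htors : Module.IsTorsionBySet R M (I : Set R) := fun x a => hM a.1 x a.2
    letI : Module (R ⧸ I) M := htors.module
    haveI : IsScalarTower R (R ⧸ I) M := htors.isScalarTower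
    haveI : Nontrivial ((S ⧸ I.map (algebraMap R S)) ⊗[R ⧸ I] M) :=
      Module.FaithfullyFlat.lTensor_nontrivial (R ⧸ I) (S ⧸ I.map (algebraMap R S)) M
    exact (tensorEquiv R S I M).symm.nontrivial
  tfae_have 3 → 4 := by
    rintro ⟨h1, h3⟩
    refine ⟨h1, ?_⟩
    intro M _ _ hM hnt
    obtain ⟨m, hm⟩ := exists_ne (0 : M)
    obtain ⟨n, hn⟩ := hM m
    obtain ⟨m', hm', hk⟩ := exists_killed_ne_zero R I n m hm hn
    let T : Submodule R M := Submodule.torsionBySet R M (I : Set R)
    have hmT : m' ∈ T := (Submodule.mem_torsionBySet_iff _ _).mpr fun a => hk a.1 a.2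
    haveI : Nontrivial T := ⟨⟨⟨m', hmT⟩, 0, fun h => hm' (congrArg Subtype.val h)⟩⟩
    have hT : ∀ (a : R) (x : T), a ∈ I → a • x = 0 := by
      intro a x ha
      apply Subtype.ext
      rw [Submodule.coe_smul, Submodule.coe_zero]
      exact (Submodule.mem_torsionBySet_iff _ _).mp x.2 ⟨a, ha⟩
    haveI := h3 T hT inferInstance
    exact (Module.Flat.lTensor_preserves_injective_linearMap (M := S) T.subtype
      T.injective_subtype).nontrivial
  tfae_have 4 → 3 := by
    rintro ⟨h1, h4⟩
    refine ⟨h1, ?_⟩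
    intro M _ _ hM hnt
    exact h4 M (fun m => ⟨1, fun a ha => hM a m (by rwa [pow_one] at ha)⟩) hnt
  tfae_have 3 → 1 := by
    rintro ⟨h1, h3⟩
    refine ⟨h1, ?_⟩
    haveI := hflatq h1
    rw [Module.FaithfullyFlat.iff_flat_and_lTensor_faithful]
    refine ⟨inferInstance, ?_⟩
    intro N _ _ hnt
    letI : Module R N := Module.compHom N (algebraMap R (R ⧸ I))
    haveI : IsScalarTower R (R ⧸ I) N := IsScalarTower.of_algebraMap_smul fun r x => rfl
    have hN : ∀ (a : R) (m : N), a ∈ I → a • m = 0 := by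
      intro a m ha
      rw [← algebraMap_smul (R ⧸ I) a m, Ideal.Quotient.algebraMap_eq,
        Ideal.Quotient.eq_zero_iff_mem.mpr ha, zero_smul]
    haveI := h3 N hN hnt
    exact (tensorEquiv R S I N).nontrivial
  tfae_finish

end Groth.Agent.S2008
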