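import Groth.Statements.S2009
-- import your own Groth.Agent.* helpers here
import Mathlib
import Groth.Agent.Lib.Helper23.FormalGlue

set_option autoImplicit false
universe u
open TensorProduct
open EtAlg

namespace Groth.Agent.S2009

/-- Let R -> S be flat with S/IS faithfully flat over R/I. Then the natural map M -> S ⊗_R M is
bijective for every I-power torsion R-module M if and only if R/I -> S/IS is bijective. -/
theorem result (R S : Type u) [CommRing R] [CommRing S] [Algebra R S] (I : Ideal R)
    [Module.Flat R S] [Module.FaithfullyFlat (R ⧸ I) (S ⧸ I.map (algebraMap R S))] :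
    (∀ (M : Type u) [AddCommGroup M] [Module R M], (∀ m : M, ∃ n : ℕ, ∀ a ∈ I ^ n, a • m = 0) →
      Function.Bijective (TensorProduct.mk R S M 1)) ↔
    Function.Bijective (Ideal.quotientMap (I.map (algebraMap R S)) (algebraMap R S) Ideal.le_comap_map) := by
  constructor
  · intro h
    have hb := h (R ⧸ I) (fun m => ⟨1, fun a ha => by
      rw [pow_one] at ha
      rw [Algebra.smul_def, Ideal.Quotient.algebraMap_eq, Ideal.Quotient.eq_zero_iff_mem.mpr ha,
        zero_mul]⟩)
    have hkill : ∀ a ∈ I, a • (1 : R ⧸ I) = 0 := by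
      intro a ha
      rw [Algebra.smul_def, Ideal.Quotient.algebraMap_eq, Ideal.Quotient.eq_zero_iff_mem.mpr ha,
        zero_mul]
    have hone : ∀ r : R, Ideal.Quotient.mk I r = r • (1 : R ⧸ I) := by
      intro r
      rw [Algebra.smul_def, Ideal.Quotient.algebraMap_eq, mul_one]
    constructor
    · rw [injective_iff_map_eq_zero]
      intro x hx
      obtain ⟨r, rfl⟩ := Ideal.Quotient.mk_surjective x
      rw [Ideal.quotientMap_mk, Ideal.Quotient.eq_zero_iff_mem] at hx
      apply hb.1
      rw [map_zero, TensorProduct.mk_apply, hone, TensorProduct.tmul_smul, TensorProduct.smul_tmul',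
        Algebra.smul_def, mul_one]
      exact Helper23.FG.tmul_eq_zero_of_mem_map hx hkill
    · intro y
      obtain ⟨s, rfl⟩ := Ideal.Quotient.mk_surjective y
      obtain ⟨x, hx⟩ := hb.2 (s ⊗ₜ[R] (1 : R ⧸ I))
      obtain ⟨r, rfl⟩ := Ideal.Quotient.mk_surjective x
      refine ⟨Ideal.Quotient.mk I r, ?_⟩
      rw [Ideal.quotientMap_mk, Ideal.Quotient.eq]
      have h1 := congrArg (TensorProduct.tensorQuotEquivQuotSMul S I) hx
      rw [TensorProduct.mk_apply, ← map_one (Ideal.Quotient.mk I),
        TensorProduct.tensorQuotEquivQuotSMul_tmul_mk,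
        TensorProduct.tensorQuotEquivQuotSMul_tmul_mk, Submodule.Quotient.eq,
        Ideal.smul_top_eq_map, Submodule.restrictScalars_mem, one_smul, Algebra.smul_def,
        mul_one] at h1
      exact h1
  · intro hq M _ _ hM
    exact Helper23.FG.mk_bijective_of_torsion hq hM

end Groth.Agent.S2009
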