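import Groth.Statements.S9832
import Groth.Agent.Lib.Helper7.JacobsonPunctured
import Mathlib.RingTheory.Jacobson.Ideal

set_option autoImplicit false
universe u
open Props

namespace Groth.Agent.S9832

open Groth.Agent.Lib.Helper7


/-- For a Noetherian ring R and an ideal I inside the Jacobson radical of R, the complement of V(I) in
Spec R is a Jacobson topological space. -/
theorem result (R : Type u) [CommRing R] [IsNoetherianRing R]
    (I : Ideal R) (hI : I ≤ (⊥ : Ideal R).jacobson) :
    JacobsonSpace ↥((PrimeSpectrum.zeroLocus (I : Set R))ᶜ) := by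
  have hUo : IsOpen ((PrimeSpectrum.zeroLocus (I : Set R))ᶜ : Set (PrimeSpectrum R)) :=
    isOpen_compl_iff.2 (PrimeSpectrum.isClosed_zeroLocus _)
  apply JacPunct.jacobsonSpace_of_locally_noetherian
  · intro x
    refine ⟨Set.univ, isOpen_univ, Set.mem_univ _, ?_⟩
    exact (Topology.IsInducing.subtypeVal.comp Topology.IsInducing.subtypeVal).noetherianSpace
      (α := PrimeSpectrum R)
  · intro p hp
    have hlc : IsLocallyClosed ({p.1} : Set (PrimeSpectrum R)) := by
      have := hp.image Topology.IsInducing.subtypeVal
        (by rw [Subtype.range_val]; exact hUo.isLocallyClosed)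
      rwa [Set.image_singleton] at this
    rw [← closure_subset_iff_isClosed]
    intro x hx
    rw [← specializes_iff_mem_closure, subtype_specializes_iff,
      ← PrimeSpectrum.le_iff_specializes] at hx
    by_contra hne
    have hne' : p.1 ≠ x.1 := fun h => hne (Subtype.ext h.symm)
    obtain ⟨m, hm, hxm⟩ := Ideal.exists_le_maximal x.1.asIdeal x.1.2.ne_top
    have hIm : I ≤ m := by
      refine hI.trans ?_
      intro a ha
      rw [Ideal.jacobson, Ideal.mem_sInf] at ha
      exact ha ⟨bot_le, hm⟩
    have hxne : x.1 ≠ ⟨m, hm.isPrime⟩ := by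
      intro h
      apply x.2
      rw [h]
      exact hIm
    exact JacPunct.no_chain_of_isLocallyClosed_singleton p.1 x.1 ⟨m, hm.isPrime⟩ hlc
      (lt_of_le_of_ne hx hne') (lt_of_le_of_ne hxm hxne)

end Groth.Agent.S9832
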