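import Groth.Statements.S2012
import Mathlib.RingTheory.Nakayama
import Mathlib.RingTheory.Flat.EquationalCriterion
import Mathlib.RingTheory.Finiteness.ModuleFinitePresentation
import Mathlib.RingTheory.IntegralClosure.IsIntegralClosure.Basic
-- import your own Groth.Agent.* helpers here

set_option autoImplicit false
universe u
open EtAlg

namespace Groth.Agent.S2012

/-- Let A be a ring and I an ideal contained in its Jacobson radical. Let B be an A-algebra which is
flat, integral and of finite presentation over A and such that A/I -> B/IB is bijective. Then A -> B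
is bijective. -/
theorem result (A B : Type u) [CommRing A] [CommRing B] [Algebra A B]
    (I : Ideal A) (hI : I ≤ (⊥ : Ideal A).jacobson) [Module.Flat A B] [Algebra.IsIntegral A B] [Algebra.FinitePresentation A B]
    (hq : Function.Bijective (Ideal.quotientMap (I.map (algebraMap A B)) (algebraMap A B) Ideal.le_comap_map)) :
    Function.Bijective (algebraMap A B) := by
  have hfin : Module.Finite A B := Algebra.IsIntegral.finite
  have hfp : Module.FinitePresentation A B := Module.FinitePresentation.of_finite_of_finitePresentation A B
  have hproj : Module.Projective A B := Module.Flat.projective_of_finitePresentation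
  let φ : A →ₗ[A] B := Algebra.linearMap A B
  have hsurj : Function.Surjective φ := by
    have h1 : (⊤ : Submodule A B) ≤ LinearMap.range φ := by
      refine Submodule.le_of_le_smul_of_le_jacobson_bot hfin.fg_top hI ?_
      intro b _
      obtain ⟨a, ha⟩ := hq.2 (Ideal.Quotient.mk _ b)
      obtain ⟨a, rfl⟩ := Ideal.Quotient.mk_surjective a
      rw [Ideal.quotientMap_mk, Ideal.Quotient.eq] at ha
      rw [Ideal.smul_top_eq_map]
      have : b = φ a + (-(algebraMap A B a - b)) := by simp [φ]
      rw [this]
      exact Submodule.add_mem_sup ⟨a, rfl⟩ (neg_mem ha)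
    intro b
    exact h1 trivial
  refine ⟨?_, hsurj⟩
  obtain ⟨s, hs⟩ := Module.projective_lifting_property φ LinearMap.id hsurj
  set e : A := 1 - s (φ 1) with he
  have heJ : φ e = 0 := by
    have := LinearMap.congr_fun hs (φ 1)
    simp only [LinearMap.comp_apply, LinearMap.id_apply] at this
    rw [he, map_sub, this, sub_self]
  have hker : ∀ x : A, φ x = 0 → x ∈ I := by
    intro x hx
    have : Ideal.quotientMap (I.map (algebraMap A B)) (algebraMap A B) Ideal.le_comap_map
        (Ideal.Quotient.mk I x) = 0 := by
      rw [Ideal.quotientMap_mk]
      show Ideal.Quotient.mk _ (φ x) = 0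
      rw [hx, map_zero]
    have := hq.1 (this.trans (map_zero _).symm)
    rwa [Ideal.Quotient.eq_zero_iff_mem] at this
  have hxe : ∀ x : A, φ x = 0 → x = x * e := by
    intro x hx
    have h1 : s (φ x) = x * s (φ 1) := by
      rw [← smul_eq_mul, ← map_smul, ← map_smul, smul_eq_mul, mul_one]
    rw [he, mul_sub, mul_one, ← h1, hx, map_zero, sub_zero]
  have he0 : e = 0 := by
    have h1 : e ∈ (⊥ : Ideal A).jacobson := hI (hker e heJ)
    have h2 := Ideal.mem_jacobson_bot.1 h1 (-1)
    have h3 : e * (e * -1 + 1) = 0 := by
      have := hxe e heJ
      linear_combination this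
    exact (h2.mul_left_eq_zero).1 h3
  rw [injective_iff_map_eq_zero]
  intro x hx
  have := hxe x hx
  rw [he0, mul_zero] at this
  exact this

end Groth.Agent.S2012
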