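import Groth.Statements.S2013
import Mathlib
import Groth.Agent.Lib.Helper12.SqFreeG

set_option autoImplicit false
universe u
open EtAlg

namespace Groth.Agent.S2013

/-- Let R be a catenary Noetherian local normal domain and J a nonzero radical ideal of R. Then J
contains a nonzero element f such that R/fR is reduced. (The source does not say 'nonzero ideal' but
its conclusion requires it.) -/
theorem result (R : Type u) [CommRing R] [IsDomain R] [IsNoetherianRing R]
    [IsLocalRing R] [IsIntegrallyClosed R] (hc : CAlg.IsCatenary R) (J : Ideal R) (hJ : J.IsRadical) (hJ0 : J ≠ ⊥) :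
    ∃ f ∈ J, f ≠ 0 ∧ IsReduced (R ⧸ Ideal.span {f}) := by
  by_cases hJtop : J = ⊤
  · refine ⟨1, hJtop ▸ Submodule.mem_top, one_ne_zero, ?_⟩
    rw [← Ideal.isRadical_iff_quotient_reduced, Ideal.span_singleton_one]
    exact le_top
  have hJm : J ≤ IsLocalRing.maximalIdeal R := IsLocalRing.le_maximalIdeal hJtop
  obtain ⟨f₀, hf₀J, hf₀⟩ := Submodule.exists_mem_ne_zero_of_ne_bot hJ0
  by_cases hm : (IsLocalRing.maximalIdeal R).height = 1
  · -- the one-dimensional case
    obtain ⟨ϖ, hϖm, -, hgen⟩ :=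
      Groth.Agent.Lib.Helper12.WUnr.exists_unif R (IsLocalRing.maximalIdeal R) hm.le
    have hϖ0 : ϖ ≠ 0 := by
      rintro rfl
      obtain ⟨s, a', hs, hsa⟩ := hgen f₀ (hJm hf₀J)
      rw [zero_mul] at hsa
      rcases mul_eq_zero.1 hsa with h | h
      · exact hs (h ▸ Ideal.zero_mem _)
      · exact hf₀ h
    have heqm : ∀ p : Ideal R, p.IsPrime → p ≠ ⊥ → p = IsLocalRing.maximalIdeal R := by
      intro p hp hp0
      haveI := hp
      have hle : p ≤ IsLocalRing.maximalIdeal R := IsLocalRing.le_maximalIdeal hp.ne_top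
      have h1 : p.height = 1 := by
        apply le_antisymm
        · exact hm ▸ Ideal.height_mono hle
        · rw [Order.one_le_iff_pos, pos_iff_ne_zero, Ne, Ideal.height_eq_zero_iff_eq_bot]
          exact hp0
      exact Groth.Agent.Lib.Helper12.SqFree.eq_of_le_of_height_one R hle h1 hm.le
    have hmJ : IsLocalRing.maximalIdeal R ≤ J := by
      rw [← hJ.radical, Ideal.radical_eq_sInf]
      refine le_sInf ?_
      rintro p ⟨hJp, hp⟩
      have hp0 : p ≠ ⊥ := by
        rintro rfl
        exact hf₀ ((Submodule.mem_bot R).1 (hJp hf₀J))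
      rw [heqm p hp hp0]
    refine ⟨ϖ, hmJ hϖm, hϖ0, ?_⟩
    apply Groth.Agent.Lib.Helper12.SqFree.isReduced_quotient_of_ordOne R ϖ hϖ0
    intro r hr hrht hϖr
    have hr0 : r ≠ ⊥ := by
      rintro rfl
      exact hϖ0 ((Submodule.mem_bot R).1 hϖr)
    rw [heqm r hr hr0]
    refine ⟨hϖm, fun a ha => ?_⟩
    obtain ⟨s, a', hs, hsa⟩ := hgen a ha
    exact ⟨s, hs, a', hsa⟩
  · obtain ⟨f, hfrad, hf0, hred⟩ :=
      Groth.Agent.Lib.Helper12.SqFree.exists_reduced_in_radical_of_catenary R hc hm f₀ hf₀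
        (hJm hf₀J)
    refine ⟨f, ?_, hf0, hred⟩
    have h1 : (Ideal.span {f₀}).radical ≤ J := by
      rw [← hJ.radical]
      exact Ideal.radical_mono ((Ideal.span_singleton_le_iff_mem _).2 hf₀J)
    exact h1 hfrad

end Groth.Agent.S2013
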