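import Groth.Statements.S2017
import Mathlib.RingTheory.Adjoin.Tower
import Mathlib.RingTheory.FiniteType
-- import your own Groth.Agent.* helpers here

set_option autoImplicit false
universe u
open EtAlg

namespace Groth.Agent.S2017

/-- Let R be a Noetherian ring, A, B, C R-algebras of finite type, f : A -> B a surjective R-algebra map
and g : C -> B an R-algebra map making B a finite C-module. Then the fibre product A ×_B C (the
equalizer of f ∘ pr₁ and g ∘ pr₂ in A × C) is an R-algebra of finite type. -/
theorem result (R A B C : Type u) [CommRing R] [IsNoetherianRing R] [CommRing A] [CommRing B]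
    [CommRing C] [Algebra R A] [Algebra R B] [Algebra R C] [Algebra.FiniteType R A] [Algebra.FiniteType R B]
    [Algebra.FiniteType R C] (f : A →ₐ[R] B) (hf : Function.Surjective f) (g : C →ₐ[R] B)
    (hg : (g.toRingHom).Finite) :
    Algebra.FiniteType R ↥(AlgHom.equalizer (f.comp (AlgHom.fst R A C)) (g.comp (AlgHom.snd R A C))) := by
  classical
  set E := AlgHom.equalizer (f.comp (AlgHom.fst R A C)) (g.comp (AlgHom.snd R A C)) with hE
  have hmem : ∀ x : A × C, x ∈ E ↔ f x.1 = g x.2 := by
    intro x
    simp [hE, AlgHom.mem_equalizer]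
  refine ⟨fg_of_fg_of_fg (A := R) (B := E) (C := A × C) (Algebra.FiniteType.out) ?_
    Subtype.val_injective⟩
  -- B is finite over C
  letI := g.toRingHom.toAlgebra
  have hfin : Module.Finite C B := hg
  obtain ⟨t, ht⟩ := hfin.fg_top
  -- lift generators to A
  choose lift hlift using hf
  refine ⟨insert ((1 : A), (0 : C)) (insert ((0 : A), (1 : C)) (t.image fun b => (lift b, (0 : C)))), ?_⟩
  rw [eq_top_iff]
  rintro ⟨a, c⟩ -
  set S := Submodule.span E (↑(insert ((1 : A), (0 : C)) (insert ((0 : A), (1 : C))
    (t.image fun b => (lift b, (0 : C))))) : Set (A × C)) with hS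
  have h10 : ((1 : A), (0 : C)) ∈ S := Submodule.subset_span (by simp)
  have h01 : ((0 : A), (1 : C)) ∈ S := Submodule.subset_span (by simp)
  have hgen : ∀ b ∈ t, (lift b, (0 : C)) ∈ S := fun b hb =>
    Submodule.subset_span (by
      simp only [Finset.coe_insert, Finset.coe_image, Set.mem_insert_iff, Set.mem_image,
        Finset.mem_coe]
      exact Or.inr (Or.inr ⟨b, hb, rfl⟩))
  -- (0, c) ∈ S
  have hc : ((0 : A), c) ∈ S := by
    have hmemE : (lift (g c), c) ∈ E := by rw [hmem]; exact hlift _
    have := S.smul_mem (⟨_, hmemE⟩ : E) h01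
    simpa [Subalgebra.smul_def] using this
  -- (i, 0) ∈ S for i in ker f
  have hker : ∀ i : A, f i = 0 → (i, (0 : C)) ∈ S := by
    intro i hi
    have hmemE : (i, (0 : C)) ∈ E := by rw [hmem]; simp [hi]
    have := S.smul_mem (⟨_, hmemE⟩ : E) h10
    simpa [Subalgebra.smul_def] using this
  -- (a, 0) ∈ S
  have ha : ∀ a : A, (a, (0 : C)) ∈ S := by
    intro a
    have hfa : f a ∈ Submodule.span C (t : Set B) := by rw [ht]; trivial
    -- induct on span
    have key : ∀ b ∈ Submodule.span C (t : Set B), ∀ a : A, f a = b → (a, (0 : C)) ∈ S := by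
      intro b hb
      induction hb using Submodule.span_induction with
      | mem b hb =>
        intro a hab
        have : (a, (0 : C)) = (lift b, (0 : C)) + (a - lift b, (0 : C)) := by simp
        rw [this]
        exact S.add_mem (hgen b hb) (hker _ (by rw [map_sub, hab, hlift, sub_self]))
      | zero => intro a ha; exact hker a ha
      | add x y _ _ hx hy =>
        intro a hab
        have : (a, (0 : C)) = (lift x, (0 : C)) + ((lift y, (0 : C)) + (a - lift x - lift y, (0 : C))) := by
          simp
        rw [this]
        exact S.add_mem (hx _ (hlift x)) (S.add_mem (hy _ (hlift y))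
          (hker _ (by rw [map_sub, map_sub, hab, hlift, hlift]; abel)))
      | smul c x _ hx =>
        intro a hab
        have hmemE : (lift (g c), c) ∈ E := by rw [hmem]; exact hlift _
        have h1 := S.smul_mem (⟨_, hmemE⟩ : E) (hx _ (hlift x))
        have h2 : (a, (0 : C)) = (⟨_, hmemE⟩ : E) • (lift x, (0 : C)) + (a - lift (g c) * lift x, (0 : C)) := by
          simp [Subalgebra.smul_def]
        rw [h2]
        refine S.add_mem h1 (hker _ ?_)
        rw [map_sub, map_mul, hab, hlift, hlift]
        show c • x - g c * x = 0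
        rw [Algebra.smul_def]
        exact sub_self _
    exact key _ hfa a rfl
  have : (a, c) = (a, (0 : C)) + ((0 : A), c) := by simp
  rw [this]
  exact S.add_mem (ha a) hc

end Groth.Agent.S2017
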