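import Groth.Statements.S2018
import Mathlib.Algebra.Polynomial.Lifts
import Mathlib.RingTheory.IntegralClosure.IsIntegral.Basic
-- import your own Groth.Agent.* helpers here

set_option autoImplicit false
universe u
open EtAlg

namespace Groth.Agent.S2018

/-- Let g : A' -> A be a surjective ring map and f : B -> A an integral ring map. Then the projection
from the fibre product B ×_A A' (the equalizer of f ∘ pr₁ and g ∘ pr₂ in B × A') to A' is integral. -/
theorem result (A A' B : Type u) [CommRing A] [CommRing A'] [CommRing B] (g : A' →+* A)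
    (hg : Function.Surjective g) (f : B →+* A) (hf : f.IsIntegral) :
    ((RingHom.snd B A').comp ((f.comp (RingHom.fst B A')).eqLocus (g.comp (RingHom.snd B A'))).subtype).IsIntegral := by
  classical
  set E := (f.comp (RingHom.fst B A')).eqLocus (g.comp (RingHom.snd B A')) with hE
  set φ : E →+* A' := (RingHom.snd B A').comp E.subtype with hφ
  set ψ : E →+* B := (RingHom.fst B A').comp E.subtype with hψ
  have hcomm : g.comp φ = f.comp ψ := by
    ext ⟨x, hx⟩
    exact hx.symm
  have hψsurj : Function.Surjective ψ := by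
    intro b
    obtain ⟨a', ha'⟩ := hg (f b)
    exact ⟨⟨(b, a'), by simp [hE, RingHom.mem_eqLocus, ha']⟩, rfl⟩
  have hker : ∀ c : A', g c = 0 → c ∈ φ.range := by
    intro c hc
    exact ⟨⟨(0, c), by simp [hE, RingHom.mem_eqLocus, hc]⟩, rfl⟩
  intro a'
  rcases subsingleton_or_nontrivial B with h | h
  · have h1 : (1 : A) = 0 := by rw [← f.map_one, Subsingleton.elim (1 : B) 0, f.map_zero]
    have h2 : g a' = 0 := by rw [← mul_one (g a'), h1, mul_zero]
    obtain ⟨e, he⟩ := hker _ h2
    rw [← he]
    exact φ.isIntegralElem_map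
  obtain ⟨P, hPm, hP⟩ := hf (g a')
  have hP'm : (P * Polynomial.X).Monic := hPm.mul Polynomial.monic_X
  obtain ⟨Q, hQP, hQd, hQm⟩ := Polynomial.lifts_and_natDegree_eq_and_monic
    (Polynomial.mem_lifts_of_surjective hψsurj (P * Polynomial.X)) hP'm
  have hQdeg : Q.natDegree ≠ 0 := by
    rw [hQd, Polynomial.natDegree_mul_X hPm.ne_zero]; omega
  let _ := φ.toAlgebra
  have hc : g (Polynomial.eval₂ φ a' Q) = 0 := by
    rw [Polynomial.hom_eval₂, hcomm, ← Polynomial.eval₂_map, hQP, Polynomial.eval₂_mul, hP, zero_mul]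
  have : IsIntegral E a' := by
    refine IsIntegral.of_aeval_monic hQm hQdeg ?_
    obtain ⟨e, he⟩ := hker _ hc
    rw [Polynomial.aeval_def]
    show IsIntegral E (Polynomial.eval₂ φ a' Q)
    rw [← he]
    exact isIntegral_algebraMap
  exact this

end Groth.Agent.S2018
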