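import Groth.Statements.S2037
import Groth.Agent.Lib.Helper5.GeomRegInjK
import Groth.Agent.Lib.Helper5.KahlerInjE
import Groth.Agent.Lib.Helper5.AdicRegG

set_option autoImplicit false
universe u
open CAlg

namespace Groth.Agent.S2037

open TensorProduct in
/-- Let `k` be a field of characteristic `p > 0` and `A` a Noetherian local `k`-algebra. Then `A` is
geometrically regular over `k` if and only if `k' ⊗ A` is a regular ring for every finite extension
`k'` of `k` in which every element has its `p`-th power in `k`. -/
theorem result {k A : Type u} [Field k] (p : ℕ)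
    [Fact p.Prime] [CharP k p] [CommRing A] [IsLocalRing A] [IsNoetherianRing A] [Algebra k A] :
    CAlg.IsGeometricallyRegular k A ↔
      ∀ (k' : Type u) [Field k'] [Algebra k k'], Module.Finite k k' →
        (∀ x : k', x ^ p ∈ Set.range (algebraMap k k')) → IsRegularRing (k' ⊗[k] A) := by
  constructor
  · intro hA k' _ _ hfin _
    exact hA k' hfin
  · intro hA
    have h1 : IsRegularRing (k ⊗[k] A) := hA k (Module.Finite.self k)
      (fun x => ⟨x ^ p, rfl⟩)
    have h2 : IsRegularRing A :=
      IsRegularRing.of_ringEquiv (Algebra.TensorProduct.lid k A).toRingEquiv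
    have h3 : IsRegularLocalRing A := IsRegularLocalRing.of_isRegularRing_of_isLocalRing A
    have h4 : CAlgX.IsAdicFormallySmooth k A (IsLocalRing.maximalIdeal A) :=
      Groth.Agent.Lib.Helper5.KahlerInj.adicSmooth_of_regular_of_injective
        (Groth.Agent.Lib.Helper5.GeomRegInj.injective_of_regular_exponent_one k A p hA)
    exact Groth.Agent.Lib.Helper5.AdicReg.geomRegular_of_adicSmooth h4

end Groth.Agent.S2037
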