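import Groth.Statements.S2041
import Groth.Agent.Lib.Helper17.EtaleFactor
import Mathlib

set_option autoImplicit false
universe u
open CAlg

namespace Groth.Agent.S2041

open Polynomial

theorem idem_of_factor {A' B' : Type*} [CommRing A'] [CommRing B'] [Algebra A' B'] (I' : Ideal A')
    (J : Ideal B') (hIJ : I'.map (algebraMap A' B') ≤ J) (β : B') (hβ : β ^ 2 - β ∈ J)
    (g' h' u v : A'[X]) (huv : u * g' + v * h' = 1) (hF : aeval β (g' * h') = 0) (n : ℕ)
    (hn : 1 ≤ n) (hg' : g'.map (Ideal.Quotient.mk I') = X ^ n)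
    (hh' : h'.map (Ideal.Quotient.mk I') = (X - 1) ^ n) :
    IsIdempotentElem (aeval β (u * g')) ∧ aeval β (u * g') - β ∈ J := by
  set e' := aeval β (u * g') with he'
  have h1 : e' + aeval β (v * h') = 1 := by
    rw [he', ← map_add, huv, map_one]
  have h1' : aeval β (v * h') = 1 - e' := by rw [← h1]; ring
  have h2 : e' * (1 - e') = 0 := by
    rw [← h1', he', ← map_mul]
    have : u * g' * (v * h') = (u * v) * (g' * h') := by ring
    rw [this, map_mul, hF, mul_zero]
  have hidem : IsIdempotentElem e' := by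
    show e' * e' = e'
    have : e' * (1 - e') = e' - e' * e' := by ring
    rw [this, sub_eq_zero] at h2
    exact h2.symm
  refine ⟨hidem, ?_⟩
  let π := Ideal.Quotient.mk J
  have hker : ∀ a ∈ I', (π.comp (algebraMap A' B')) a = 0 := by
    intro a ha
    rw [RingHom.comp_apply, Ideal.Quotient.eq_zero_iff_mem]
    exact hIJ (Ideal.mem_map_of_mem _ ha)
  let θ : A' ⧸ I' →+* B' ⧸ J := Ideal.Quotient.lift I' (π.comp (algebraMap A' B')) hker
  have key : ∀ P : A'[X], π (aeval β P) = eval₂ θ (π β) (P.map (Ideal.Quotient.mk I')) := by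
    intro P
    rw [aeval_def, hom_eval₂, eval₂_map]
    congr 1
  set βb := π β with hβb
  have hβi : βb * βb = βb := by
    have : π (β ^ 2 - β) = 0 := Ideal.Quotient.eq_zero_iff_mem.2 hβ
    rw [map_sub, map_pow, sub_eq_zero, pow_two] at this
    exact this
  have hβn : βb ^ n = βb := by
    obtain ⟨k, rfl⟩ : ∃ k, n = k + 1 := ⟨n - 1, by omega⟩
    exact IsIdempotentElem.pow_succ_eq k hβi
  have hβ1 : (βb - 1) ^ n * βb = 0 := by
    obtain ⟨k, rfl⟩ : ∃ k, n = k + 1 := ⟨n - 1, by omega⟩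
    rw [pow_succ, mul_assoc]
    have : (βb - 1) * βb = 0 := by rw [sub_mul, one_mul, hβi, sub_self]
    rw [this, mul_zero]
  have e1 : π e' = π (aeval β u) * βb := by
    rw [he', map_mul, map_mul, key g', hg', eval₂_X_pow, hβn]
  have e2 : (1 - π e') * βb = 0 := by
    have : 1 - π e' = π (aeval β v) * (βb - 1) ^ n := by
      have h0 : (1 : B' ⧸ J) - π e' = π (1 - e') := by rw [map_sub, map_one]
      rw [h0, ← h1', map_mul, map_mul, key h', hh', eval₂_pow, eval₂_sub,
        eval₂_X, eval₂_one]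
    rw [this, mul_assoc, hβ1, mul_zero]
  have e3 : π e' * βb = π e' := by
    rw [e1, mul_assoc, hβi]
  have e4 : π e' = βb := by
    have : (1 - π e') * βb = βb - π e' * βb := by ring
    rw [this, e3, sub_eq_zero] at e2
    exact e2.symm
  rw [← Ideal.Quotient.eq_zero_iff_mem, map_sub, sub_eq_zero]
  exact e4


open TensorProduct in
/-- Let `I ⊆ A` be an ideal, `A → B` integral and `ē` an idempotent of `B/IB`. Then there is an étale
`A`-algebra `A'` with `A/I → A'/IA'` bijective and an idempotent of `A' ⊗ B` whose class modulo `I`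
agrees with that of any lift of `ē`. -/
theorem result {A B : Type u} [CommRing A] [CommRing B] [Algebra A B]
    [Algebra.IsIntegral A B] (I : Ideal A) (e : B ⧸ I.map (algebraMap A B)) (he : IsIdempotentElem e) :
    ∃ (A' : Type u) (_ : CommRing A') (_ : Algebra A A'), Algebra.Etale A A' ∧
      Function.Bijective (algebraMap (A ⧸ I) (A' ⧸ I.map (algebraMap A A'))) ∧
      ∃ e' : A' ⊗[A] B, IsIdempotentElem e' ∧
        ∀ b : B, Ideal.Quotient.mk (I.map (algebraMap A B)) b = e →
          e' - 1 ⊗ₜ b ∈ I.map (algebraMap A (A' ⊗[A] B)) := by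
  classical
  rcases subsingleton_or_nontrivial A with hsub | hnt
  · haveI : Subsingleton (A ⊗[A] B) := by
      refine ⟨fun x y => ?_⟩
      have h0 : (1 : A) = 0 := Subsingleton.elim _ _
      rw [← one_smul A x, ← one_smul A y, h0, zero_smul, zero_smul]
    haveI : Subsingleton (A ⧸ I.map (algebraMap A A)) := (Ideal.Quotient.mk_surjective).subsingleton
    exact ⟨A, inferInstance, inferInstance, inferInstance,
      ⟨fun x y _ => Subsingleton.elim x y, fun y => ⟨0, Subsingleton.elim _ _⟩⟩,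
      0, IsIdempotentElem.zero, fun b _ => by rw [Subsingleton.elim (0 - _) 0]; exact Ideal.zero_mem _⟩
  obtain ⟨b, rfl⟩ := Ideal.Quotient.mk_surjective e
  have hy : b ^ 2 - b ∈ I.map (algebraMap A B) := by
    rw [← Ideal.Quotient.eq_zero_iff_mem, map_sub, map_pow, pow_two, he.eq, sub_self]
  obtain ⟨p₀, hp₀, hp₀y, hp₀c⟩ := Polynomial.exists_monic_aeval_eq_zero_forall_mem_of_mem_map hy
  set n := p₀.natDegree + 1 with hn
  set p := p₀ * X with hp
  have hpm : p.Monic := hp₀.mul monic_X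
  have hpy : aeval (b ^ 2 - b) p = 0 := by rw [hp, map_mul, hp₀y, zero_mul]
  have hpmap : p.map (Ideal.Quotient.mk I) = X ^ n := by
    have h0 : p₀.map (Ideal.Quotient.mk I) = X ^ p₀.natDegree := by
      ext i
      rw [coeff_map, coeff_X_pow]
      split_ifs with hi
      · rw [hi, coeff_natDegree, hp₀.leadingCoeff, map_one]
      · exact Ideal.Quotient.eq_zero_iff_mem.2 (hp₀c i hi)
    rw [hp, Polynomial.map_mul, h0, map_X, hn, pow_succ]
  set q : A[X] := X ^ 2 - X with hq
  have hqm : q.Monic := monic_X_pow_sub (lt_of_le_of_lt degree_X_le (by norm_num))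
  have hqdeg : q.natDegree ≠ 0 := by
    have : q.natDegree = 2 := by
      rw [hq, natDegree_sub_eq_left_of_natDegree_lt]
      · exact natDegree_X_pow 2
      · rw [natDegree_X_pow, natDegree_X]; norm_num
    omega
  set F := p.comp q with hF
  have hFm : F.Monic := hpm.comp hqm hqdeg
  have hFb : aeval b F = 0 := by
    rw [hF, aeval_comp, hq, map_sub, map_pow, aeval_X]
    exact hpy
  have hFmap : F.map (Ideal.Quotient.mk I) = X ^ n * (X - 1) ^ n := by
    rw [hF, Polynomial.map_comp, hpmap, X_pow_comp, hq, Polynomial.map_sub, Polynomial.map_pow, map_X,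
      ← mul_pow]
    congr 1; ring
  have hgm : (X ^ n : (A ⧸ I)[X]).Monic := monic_X_pow n
  have hhm : ((X - 1) ^ n : (A ⧸ I)[X]).Monic := by
    have : (X - 1 : (A ⧸ I)[X]) = X - C 1 := by rw [C_1]
    rw [this]; exact (monic_X_sub_C 1).pow n
  have hcop : IsCoprime (X ^ n : (A ⧸ I)[X]) ((X - 1) ^ n) := by
    apply IsCoprime.pow
    exact ⟨1, -1, by ring⟩
  obtain ⟨A', i1, i2, het, hbij, g', h', -, -, hcop', hfac, hr1, hr2⟩ :=
    Groth.Agent.Lib.Helper17.EtaleFactor.exists_etale_lift_factor I F hFm _ _ hgm hhm hcop hFmap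
  refine ⟨A', i1, i2, het, hbij, ?_⟩
  rw [Polynomial.map_pow, map_X] at hr1
  rw [Polynomial.map_pow, Polynomial.map_sub, map_X, Polynomial.map_one] at hr2
  obtain ⟨u, v, huv⟩ := hcop'
  set β : A' ⊗[A] B := 1 ⊗ₜ b with hβ
  have hJ : ∀ x ∈ I.map (algebraMap A B), (1 : A') ⊗ₜ[A] x ∈ I.map (algebraMap A (A' ⊗[A] B)) := by
    intro x hx
    have h1 := Ideal.mem_map_of_mem
      ((Algebra.TensorProduct.includeRight : B →ₐ[A] A' ⊗[A] B) : B →+* A' ⊗[A] B) hx
    rw [Ideal.map_map] at h1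
    have h2 : ((Algebra.TensorProduct.includeRight : B →ₐ[A] A' ⊗[A] B) : B →+* A' ⊗[A] B).comp
        (algebraMap A B) = algebraMap A (A' ⊗[A] B) :=
      (Algebra.TensorProduct.includeRight : B →ₐ[A] A' ⊗[A] B).comp_algebraMap
    rw [← h2]
    exact h1
  have hβJ : β ^ 2 - β ∈ I.map (algebraMap A (A' ⊗[A] B)) := by
    have : β ^ 2 - β = (1 : A') ⊗ₜ[A] (b ^ 2 - b) := by
      rw [hβ, TensorProduct.tmul_sub, pow_two, pow_two, Algebra.TensorProduct.tmul_mul_tmul,
        mul_one]
    rw [this]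
    exact hJ _ hy
  have hIJ : (I.map (algebraMap A A')).map (algebraMap A' (A' ⊗[A] B)) ≤
      I.map (algebraMap A (A' ⊗[A] B)) := by
    rw [Ideal.map_map, ← IsScalarTower.algebraMap_eq]
  have hF' : aeval β (g' * h') = 0 := by
    rw [← hfac, aeval_map_algebraMap]
    have : β = (Algebra.TensorProduct.includeRight : B →ₐ[A] A' ⊗[A] B) b := rfl
    rw [this, aeval_algHom_apply, hFb, map_zero]
  obtain ⟨hidem, hmem⟩ := idem_of_factor (I.map (algebraMap A A')) (I.map (algebraMap A (A' ⊗[A] B)))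
    hIJ β hβJ g' h' u v huv hF' n (by omega) hr1 hr2
  refine ⟨aeval β (u * g'), hidem, fun b₁ hb₁ => ?_⟩
  have h1 : b₁ - b ∈ I.map (algebraMap A B) := Ideal.Quotient.eq.1 hb₁
  have h2 := hJ _ h1
  rw [TensorProduct.tmul_sub] at h2
  have : aeval β (u * g') - (1 : A') ⊗ₜ[A] b₁ =
      (aeval β (u * g') - β) - ((1 : A') ⊗ₜ[A] b₁ - (1 : A') ⊗ₜ[A] b) := by rw [hβ]; ring
  rw [this]
  exact Ideal.sub_mem _ hmem h2

end Groth.Agent.S2041
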