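import Groth.Statements.S2044
import Groth.Agent.Lib.Helper17.EtaleFactor
import Groth.Agent.Lib.Helper17.NilLift
import Mathlib

set_option autoImplicit false
universe u
open CAlg

namespace Groth.Agent.S2044

open Polynomial TensorProduct

/-- noncommutative version of the idempotent construction from a coprime factorization. -/
theorem idem_of_factor' {A' S : Type*} [CommRing A'] [CommRing S] [Algebra A' S]
    {B' Q : Type*} [Ring B'] [Ring Q] [Algebra A' B'] [Algebra A' Q] [Algebra S Q]
    [IsScalarTower A' S Q] (π : B' →ₐ[A'] Q) (β : B') (hβ : π β * π β = π β)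
    (g' h' u v : A'[X]) (huv : u * g' + v * h' = 1) (hF : aeval β (g' * h') = 0) (n : ℕ)
    (hn : 1 ≤ n) (hg' : g'.map (algebraMap A' S) = X ^ n)
    (hh' : h'.map (algebraMap A' S) = (X - 1) ^ n) :
    IsIdempotentElem (aeval β (u * g')) ∧ π (aeval β (u * g')) = π β := by
  set e' := aeval β (u * g') with he'
  have h1 : e' + aeval β (v * h') = 1 := by
    rw [he', ← map_add, huv, map_one]
  have h1' : aeval β (v * h') = 1 - e' := by rw [← h1]; abel
  have h2 : e' * (1 - e') = 0 := by
    rw [← h1', he', ← map_mul]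
    have : u * g' * (v * h') = (u * v) * (g' * h') := by ring
    rw [this, map_mul, hF, mul_zero]
  have hidem : IsIdempotentElem e' := by
    show e' * e' = e'
    rw [mul_sub, mul_one, sub_eq_zero] at h2
    exact h2.symm
  refine ⟨hidem, ?_⟩
  have key : ∀ P : A'[X], π (aeval β P) = aeval (π β) (P.map (algebraMap A' S)) := by
    intro P
    rw [aeval_map_algebraMap, aeval_algHom_apply]
  set βb := π β with hβb
  have hβn : βb ^ n = βb := by
    obtain ⟨k, rfl⟩ : ∃ k, n = k + 1 := ⟨n - 1, by omega⟩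
    exact IsIdempotentElem.pow_succ_eq k hβ
  have hβ1 : (βb - 1) ^ n * βb = 0 := by
    obtain ⟨k, rfl⟩ : ∃ k, n = k + 1 := ⟨n - 1, by omega⟩
    rw [pow_succ, mul_assoc]
    have : (βb - 1) * βb = 0 := by rw [sub_mul, one_mul, hβ, sub_self]
    rw [this, mul_zero]
  have e1 : π e' = π (aeval β u) * βb := by
    rw [he', map_mul, map_mul, key g', hg', map_pow, aeval_X, hβn]
  have e2 : (1 - π e') * βb = 0 := by
    have : 1 - π e' = π (aeval β v) * (βb - 1) ^ n := by
      have h0 : (1 : Q) - π e' = π (1 - e') := by rw [map_sub, map_one]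
      rw [h0, ← h1', map_mul, map_mul, key h', hh', map_pow, map_sub, aeval_X, map_one]
    rw [this, mul_assoc, hβ1, mul_zero]
  have e3 : π e' * βb = π e' := by
    rw [e1, mul_assoc, hβ]
  rw [sub_mul, one_mul, e3, sub_eq_zero] at e2
  exact e2.symm

open Groth.Agent.Lib.Helper17.NilLift in
/-- base change of the range of an idempotent matrix is the range of the image matrix. -/
theorem baseChange_range {R S : Type u} [CommRing R] [CommRing S] [Algebra R S] {n : ℕ}
    (e : Matrix (Fin n) (Fin n) R) (he : IsIdempotentElem e) (E : Matrix (Fin n) (Fin n) S)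
    (hE : (algebraMap R S).mapMatrix e = E) :
    Nonempty (S ⊗[R] (LinearMap.range (Matrix.toLin' e)) ≃ₗ[S] LinearMap.range (Matrix.toLin' E)) := by
  have hEi : IsIdempotentElem E := by
    rw [← hE]; exact he.map _
  have hTT : ∀ v, Matrix.toLin' E (Matrix.toLin' E v) = Matrix.toLin' E v := by
    intro v
    rw [← LinearMap.comp_apply, ← Matrix.toLin'_mul, hEi.eq]
  refine baseChange_range_idem e he (LinearMap.range (Matrix.toLin' E))
    (Matrix.toLin' E).rangeRestrict (LinearMap.range (Matrix.toLin' E)).subtype ?_ ?_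
  · rintro ⟨_, v, rfl⟩
    exact Subtype.ext (hTT v)
  · rw [hE]
    have : (LinearMap.range (Matrix.toLin' E)).subtype ∘ₗ (Matrix.toLin' E).rangeRestrict =
        Matrix.toLin' E := by
      ext v : 1; rfl
    rw [this, LinearMap.toMatrix'_toLin']

/-- a projective module presented by `p, s` is the range of the idempotent matrix of `s ∘ p`. -/
theorem equiv_range {R : Type*} [CommRing R] {P : Type*} [AddCommGroup P] [Module R P] {n : ℕ}
    (p : (Fin n → R) →ₗ[R] P) (s : P →ₗ[R] (Fin n → R)) (hps : ∀ q, p (s q) = q) :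
    Nonempty (P ≃ₗ[R] LinearMap.range (Matrix.toLin' (LinearMap.toMatrix' (s ∘ₗ p)))) := by
  rw [Matrix.toLin'_toMatrix']
  have hmem : ∀ q, s q ∈ LinearMap.range (s ∘ₗ p) := fun q => ⟨s q, by simp [hps]⟩
  refine ⟨LinearEquiv.ofBijective (s.codRestrict _ hmem) ⟨?_, ?_⟩⟩
  · intro q₁ q₂ h
    have := congrArg Subtype.val h
    simp only [LinearMap.codRestrict_apply] at this
    rw [← hps q₁, ← hps q₂, this]
  · rintro ⟨_, v, rfl⟩
    exact ⟨p v, Subtype.ext rfl⟩


open TensorProduct in
/-- Let `I ⊆ A` be an ideal and `P` a finite projective `A/I`-module. Then there is an étale `A`-algebra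
`A'` with `A/I → A'/IA'` bijective and a finite projective `A'`-module whose reduction modulo `IA'`
is the base change of `P`. -/
theorem result {A : Type u} [CommRing A] (I : Ideal A) (P : Type u)
    [AddCommGroup P] [Module (A ⧸ I) P] [Module.Finite (A ⧸ I) P] [Module.Projective (A ⧸ I) P] :
    ∃ (A' : Type u) (_ : CommRing A') (_ : Algebra A A'), Algebra.Etale A A' ∧
      Function.Bijective (algebraMap (A ⧸ I) (A' ⧸ I.map (algebraMap A A'))) ∧
      ∃ (P' : Type u) (_ : AddCommGroup P') (_ : Module A' P'), Module.Finite A' P' ∧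
        Module.Projective A' P' ∧
        Nonempty (((A' ⧸ I.map (algebraMap A A')) ⊗[A'] P') ≃ₗ[A' ⧸ I.map (algebraMap A A')]
          ((A' ⧸ I.map (algebraMap A A')) ⊗[A ⧸ I] P)) := by
  classical
  rcases subsingleton_or_nontrivial A with hsub | hnt
  · haveI : Subsingleton (A ⧸ I.map (algebraMap A A)) := (Ideal.Quotient.mk_surjective).subsingleton
    haveI : Subsingleton ((A ⧸ I.map (algebraMap A A)) ⊗[A] PUnit.{u+1}) :=
      Module.subsingleton (A ⧸ I.map (algebraMap A A)) _
    haveI : Subsingleton ((A ⧸ I.map (algebraMap A A)) ⊗[A ⧸ I] P) :=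
      Module.subsingleton (A ⧸ I.map (algebraMap A A)) _
    exact ⟨A, inferInstance, inferInstance, inferInstance,
      ⟨fun x y _ => Subsingleton.elim x y, fun y => ⟨0, Subsingleton.elim _ _⟩⟩,
      PUnit.{u+1}, inferInstance, inferInstance, inferInstance, inferInstance,
      ⟨LinearEquiv.ofSubsingleton _ _⟩⟩
  obtain ⟨n, p₀, s₀, -, -, hps⟩ := Module.Finite.exists_comp_eq_id_of_projective (A ⧸ I) P
  have hps' : ∀ q, p₀ (s₀ q) = q := fun q => LinearMap.congr_fun hps q
  set ebar : Matrix (Fin n) (Fin n) (A ⧸ I) := LinearMap.toMatrix' (s₀ ∘ₗ p₀) with hebar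
  have hebari : IsIdempotentElem ebar := by
    show ebar * ebar = ebar
    rw [hebar, ← LinearMap.toMatrix'_comp]
    congr 1
    refine LinearMap.ext fun v => ?_
    simp [hps']
  let e₀ : Matrix (Fin n) (Fin n) A :=
    Matrix.of fun i j => Classical.choose (Ideal.Quotient.mk_surjective (ebar i j))
  have he₀ : (Ideal.Quotient.mk I).mapMatrix e₀ = ebar := by
    ext i j
    simp [e₀, Classical.choose_spec (Ideal.Quotient.mk_surjective (ebar i j))]
  set Y := e₀ * e₀ - e₀ with hYdef
  have hY : ∀ i j, Y i j ∈ I := by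
    intro i j
    have h0 : (Ideal.Quotient.mk I).mapMatrix Y = 0 := by
      rw [hYdef, map_sub, map_mul, he₀, hebari.eq, sub_self]
    have := Matrix.ext_iff.mpr h0 i j
    simpa [Ideal.Quotient.eq_zero_iff_mem] using this
  set χ := Y.charpoly with hχ
  have hχm : χ.Monic := Matrix.charpoly_monic Y
  have hχdeg : χ.natDegree = n := by rw [hχ, Matrix.charpoly_natDegree_eq_dim, Fintype.card_fin]
  have hχY : aeval Y χ = 0 := Matrix.aeval_self_charpoly Y
  have hχmap : χ.map (Ideal.Quotient.mk I) = X ^ n := by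
    ext k
    rw [coeff_map, coeff_X_pow]
    split_ifs with hk
    · rw [hk, ← hχdeg, coeff_natDegree, hχm.leadingCoeff, map_one]
    · rw [Ideal.Quotient.eq_zero_iff_mem]
      rcases lt_or_gt_of_ne hk with hlt | hgt
      · have := Matrix.coeff_charpoly_mem_ideal_pow hY k
        rw [Fintype.card_fin] at this
        exact Ideal.pow_le_self (by omega) this
      · rw [coeff_eq_zero_of_natDegree_lt (by omega)]; exact I.zero_mem
  set N := n + 1 with hN
  set p := χ * X with hp
  have hpm : p.Monic := hχm.mul monic_X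
  have hpY : aeval Y p = 0 := by rw [hp, map_mul, hχY, zero_mul]
  have hpmap : p.map (Ideal.Quotient.mk I) = X ^ N := by
    rw [hp, Polynomial.map_mul, hχmap, map_X, hN, pow_succ]
  set q : A[X] := X ^ 2 - X with hq
  have hqm : q.Monic := monic_X_pow_sub (lt_of_le_of_lt degree_X_le (by norm_num))
  have hqdeg : q.natDegree ≠ 0 := by
    have : q.natDegree = 2 := by
      rw [hq, natDegree_sub_eq_left_of_natDegree_lt]
      · exact natDegree_X_pow 2
      · rw [natDegree_X_pow, natDegree_X]; norm_num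
    omega
  set F := p.comp q with hF
  have hFm : F.Monic := hpm.comp hqm hqdeg
  have hFe : aeval e₀ F = 0 := by
    rw [hF, aeval_comp, hq, map_sub, map_pow, aeval_X, pow_two]
    exact hpY
  have hFmap : F.map (Ideal.Quotient.mk I) = X ^ N * (X - 1) ^ N := by
    rw [hF, Polynomial.map_comp, hpmap, X_pow_comp, hq, Polynomial.map_sub, Polynomial.map_pow,
      map_X, ← mul_pow]
    congr 1; ring
  have hgm : (X ^ N : (A ⧸ I)[X]).Monic := monic_X_pow N
  have hhm : ((X - 1) ^ N : (A ⧸ I)[X]).Monic := by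
    have : (X - 1 : (A ⧸ I)[X]) = X - C 1 := by rw [C_1]
    rw [this]; exact (monic_X_sub_C 1).pow N
  have hcop : IsCoprime (X ^ N : (A ⧸ I)[X]) ((X - 1) ^ N) := by
    apply IsCoprime.pow
    exact ⟨1, -1, by ring⟩
  obtain ⟨A', i1, i2, het, hbij, g', h', -, -, hcop', hfac, hr1, hr2⟩ :=
    Groth.Agent.Lib.Helper17.EtaleFactor.exists_etale_lift_factor I F hFm _ _ hgm hhm hcop hFmap
  refine ⟨A', i1, i2, het, hbij, ?_⟩
  rw [Polynomial.map_pow, map_X] at hr1
  rw [Polynomial.map_pow, Polynomial.map_sub, map_X, Polynomial.map_one] at hr2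
  obtain ⟨u, v, huv⟩ := hcop'
  set β : Matrix (Fin n) (Fin n) A' := (algebraMap A A').mapMatrix e₀ with hβ
  let π : Matrix (Fin n) (Fin n) A' →ₐ[A'] Matrix (Fin n) (Fin n) (A' ⧸ I.map (algebraMap A A')) :=
    (Ideal.Quotient.mkₐ A' (I.map (algebraMap A A'))).mapMatrix
  have hπβ : π β = (algebraMap (A ⧸ I) (A' ⧸ I.map (algebraMap A A'))).mapMatrix ebar := by
    rw [← he₀]
    ext i j
    simp only [π, hβ, AlgHom.mapMatrix_apply, RingHom.mapMatrix_apply, Matrix.map_apply,
      Ideal.Quotient.mkₐ_eq_mk, Ideal.Quotient.algebraMap_quotient_map_quotient]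
  have hβi : π β * π β = π β := by
    rw [hπβ, ← map_mul, hebari.eq]
  have hF' : aeval β (g' * h') = 0 := by
    rw [← hfac, aeval_map_algebraMap]
    have : β = (Algebra.ofId A A').mapMatrix e₀ := rfl
    rw [this, aeval_algHom_apply, hFe, map_zero]
  obtain ⟨he'i, hπe'⟩ := idem_of_factor' π β hβi g' h' u v huv hF' N (by omega) hr1 hr2
  set e' := aeval β (u * g') with he'
  refine ⟨LinearMap.range (Matrix.toLin' e'), inferInstance, inferInstance, inferInstance,
    Groth.Agent.Lib.Helper17.NilLift.range_idem_projective e' he'i, ?_⟩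
  obtain ⟨ea⟩ := baseChange_range e' he'i (π e') rfl
  obtain ⟨eb1⟩ := equiv_range p₀ s₀ hps'
  obtain ⟨eb2⟩ := baseChange_range ebar hebari (π e') (by rw [hπe', hπβ])
  exact ⟨ea ≪≫ₗ eb2.symm ≪≫ₗ
    (TensorProduct.AlgebraTensorModule.congr (LinearEquiv.refl _ _) eb1.symm)⟩

end Groth.Agent.S2044
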