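import Groth.Statements.S2052
import Groth.Agent.Lib.Helper12.Unibranch
import Groth.Agent.Lib.Helper12.HensFibre
import Groth.Agent.Lib.Helper12.HensQuotient
import Groth.Agent.Lib.Helper12.UniqueMinPrime
import Groth.Agent.S0509
import Groth.Agent.S0514
import Groth.Agent.S2801

set_option autoImplicit false
universe u
open CAlg

namespace Groth.Agent.S2052

/-- A local ring `A` is unibranch (its reduction is a domain with local integral closure) if and only if
the henselization of `A` has a unique minimal prime ideal. -/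
theorem result {A Ah : Type u} [CommRing A] [IsLocalRing A]
    [CommRing Ah] [IsLocalRing Ah] [Algebra A Ah] [IsLocalHom (algebraMap A Ah)]
    [Hensel.IsHenselization A Ah] :
    CAlg2.IsUnibranch A ↔ CAlgX.HasUniqueMinimalPrime Ah := by
  haveI : Module.FaithfullyFlat A Ah := Groth.Agent.S0509.result A Ah
  have hJ : (nilradical A).map (algebraMap A Ah) ≤ nilradical Ah :=
    Groth.Agent.Lib.Helper12.UniqueMinPrime.map_nilradical_le
  constructor
  · rintro ⟨hdom, hloc⟩
    haveI := hdom
    haveI := hloc
    have hI : nilradical A ≠ ⊤ := Ideal.Quotient.nontrivial_iff.mp inferInstance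
    obtain ⟨hR, hT, hloc', hH⟩ :=
      Groth.Agent.Lib.Helper12.HensQuotient.isHenselization_quotient A Ah (nilradical A) hI
    haveI : Module.FaithfullyFlat (A ⧸ nilradical A) (Ah ⧸ (nilradical A).map (algebraMap A Ah)) :=
      Groth.Agent.S0509.result _ _
    haveI : FaithfulSMul (A ⧸ nilradical A) (CAlg2.normRed A) := by
      rw [faithfulSMul_iff_algebraMap_injective]
      intro a b hab
      apply IsFractionRing.injective (A ⧸ nilradical A) (FractionRing (A ⧸ nilradical A))
      exact congrArg Subtype.val hab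
    obtain ⟨h1, -, -⟩ := Groth.Agent.S2801.result (A ⧸ nilradical A) (CAlg2.normRed A)
      (Ah ⧸ (nilradical A).map (algebraMap A Ah))
    have h2 : IsLocalRing (TensorProduct (A ⧸ nilradical A)
        (Ah ⧸ (nilradical A).map (algebraMap A Ah)) (CAlg2.normRed A)) :=
      RingEquiv.isLocalRing (Algebra.TensorProduct.comm (A ⧸ nilradical A)
        (CAlg2.normRed A) (Ah ⧸ (nilradical A).map (algebraMap A Ah))).toRingEquiv
    haveI : IsDomain (Ah ⧸ (nilradical A).map (algebraMap A Ah)) := by
      refine Groth.Agent.Lib.Helper12.Unibranch.isDomain_of_isLocalRing_tensor (A ⧸ nilradical A)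
        (FractionRing (A ⧸ nilradical A)) _ (fun s => ?_) h2
      obtain ⟨i, ψ, hinj, -, hr⟩ := Groth.Agent.Lib.Helper12.HensStruct.exists_nbhd_range
        (A ⧸ nilradical A) (Ah ⧸ (nilradical A).map (algebraMap A Ah)) s
      exact ⟨i.G, inferInstance, inferInstance, ψ, i.isStrictlyEssentiallyEtale.1, hinj, hr⟩
    exact Groth.Agent.Lib.Helper12.UniqueMinPrime.hasUniqueMinimalPrime_of_isDomain_quotient _ hJ
  · intro hP
    haveI hprime : (nilradical A).IsPrime :=
      Groth.Agent.Lib.Helper12.UniqueMinPrime.nilradical_isPrime_of_hasUniqueMinimalPrime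
        (FaithfulSMul.algebraMap_injective A Ah) hP
    have hdom : IsDomain (A ⧸ nilradical A) := Ideal.Quotient.isDomain _
    haveI := hdom
    have hI : nilradical A ≠ ⊤ := hprime.ne_top
    obtain ⟨hR, hT, hloc', hH⟩ :=
      Groth.Agent.Lib.Helper12.HensQuotient.isHenselization_quotient A Ah (nilradical A) hI
    haveI : Module.FaithfullyFlat (A ⧸ nilradical A) (Ah ⧸ (nilradical A).map (algebraMap A Ah)) :=
      Groth.Agent.S0509.result _ _
    haveI : IsReduced (Ah ⧸ (nilradical A).map (algebraMap A Ah)) :=
      (Groth.Agent.S0514.result (A ⧸ nilradical A) _).mp inferInstance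
    haveI : IsDomain (Ah ⧸ (nilradical A).map (algebraMap A Ah)) :=
      Groth.Agent.Lib.Helper12.UniqueMinPrime.isDomain_quotient_of_hasUniqueMinimalPrime _ hJ hP
    haveI : HenselianLocalRing (Ah ⧸ (nilradical A).map (algebraMap A Ah)) :=
      Hensel.IsHenselization.henselian (R := A ⧸ nilradical A)
    exact ⟨hdom, Groth.Agent.Lib.Helper12.Unibranch.isLocalRing_integralClosure_of_isDomain
      (FractionRing (A ⧸ nilradical A)) (Ah ⧸ (nilradical A).map (algebraMap A Ah))⟩

end Groth.Agent.S2052
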