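import Groth.Statements.S2053
import Groth.Agent.Lib.Helper5.FlatCohenB
-- import your own Groth.Agent.* helpers here

set_option autoImplicit false
universe u
open CAlg

namespace Groth.Agent.S2053

/-- Consider a local homomorphism `A → B` between complete Noetherian local rings. Then there are power
series rings `R`, `S` in finitely many variables over coefficient rings which are both fields (when
the residue characteristic of `A` is zero) or both Cohen rings (when it is positive), surjections `R
→ A`, `S → B` and a ring map `R → S` making the square commute, such that `R → S` is flat and `S/𝔪_R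
S` is a regular ring. (The published statement also arranges that a regular system of parameters
maps into one; that is not asserted here.) -/
theorem result {A B : Type u} [CommRing A] [CommRing B]
    [IsLocalRing A] [IsLocalRing B] [IsNoetherianRing A] [IsNoetherianRing B]
    [IsAdicComplete (IsLocalRing.maximalIdeal A) A] [IsAdicComplete (IsLocalRing.maximalIdeal B) B]
    [Algebra A B] [IsLocalHom (algebraMap A B)] :
    ∃ (Λ Λ' : Type u) (_ : CommRing Λ) (_ : CommRing Λ') (_ : IsLocalRing Λ) (n m : ℕ)
      (ρ : MvPowerSeries (Fin n) Λ →+* A) (σ : MvPowerSeries (Fin m) Λ' →+* B)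
      (τ : MvPowerSeries (Fin n) Λ →+* MvPowerSeries (Fin m) Λ'),
      ((CharZero (IsLocalRing.ResidueField A) ∧ IsField Λ ∧ IsField Λ') ∨
        (¬ CharZero (IsLocalRing.ResidueField A) ∧ CAlg.IsCohenRing Λ ∧ CAlg.IsCohenRing Λ')) ∧
        Function.Surjective ρ ∧ Function.Surjective σ ∧ σ.comp τ = (algebraMap A B).comp ρ ∧
        τ.Flat ∧ IsRegularRing (MvPowerSeries (Fin m) Λ' ⧸
          (IsLocalRing.maximalIdeal (MvPowerSeries (Fin n) Λ)).map τ) := by
  open IsLocalRing Groth.Agent.Lib.Helper12 Groth.Agent.Lib.Helper5 in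
  classical
  obtain ⟨p, hp⟩ := CharP.exists (ResidueField A)
  have hinj : Function.Injective (ResidueField.map (algebraMap A B)) :=
    (ResidueField.map (algebraMap A B)).injective
  rcases CharP.char_is_prime_or_zero (ResidueField A) p with hpp | rfl
  · have _ : Fact p.Prime := ⟨hpp⟩
    have _ : CharP (ResidueField B) p := charP_of_injective_ringHom hinj p
    obtain ⟨Λ, i1, hdom, hdvr, vA, hcomp, hm, e, he⟩ :=
      CohenStruct.exists_coefficientRing_of_charP A p
    obtain ⟨Λ', i1', hdom', hdvr', vB, hcomp', hm', e', he'⟩ :=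
      CohenStruct.exists_coefficientRing_of_charP B p
    have hΛ : CAlg.IsCohenRing Λ := ⟨hdom, hdvr, hcomp, p, hpp, hm⟩
    have hΛ' : CAlg.IsCohenRing Λ' := ⟨hdom', hdvr', hcomp', p, hpp, hm'⟩
    have hrange : ∀ (T : Type u) [CommRing T], Set.range (fun _ : Fin 1 => (p : T)) = {(p : T)} :=
      fun T _ => Set.range_const
    have hvA : Function.Surjective ((residue A).comp vA) := by
      intro x
      obtain ⟨y, rfl⟩ := e.surjective x
      obtain ⟨z, rfl⟩ := residue_surjective y
      exact ⟨z, he z⟩
    have hvB : Function.Surjective ((residue B).comp vB) := by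
      intro x
      obtain ⟨y, rfl⟩ := e'.surjective x
      obtain ⟨z, rfl⟩ := residue_surjective y
      exact ⟨z, he' z⟩
    have hvAl : IsLocalHom vA := by
      refine ⟨fun x hx => ?_⟩
      by_contra hnu
      have h1 : residue Λ x = 0 := (residue_eq_zero_iff x).2 hnu
      have h2 : residue A (vA x) = 0 := by rw [he, h1, map_zero]
      exact ((residue_eq_zero_iff _).1 h2) hx
    have hd1 : ∀ (T : Type u) [CommRing T] [IsDomain T] [IsDiscreteValuationRing T],
        ((1 : ℕ) : WithBot ℕ∞) ≤ ringKrullDim T := by
      intro T _ _ _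
      rw [IsDiscreteValuationRing.ringKrullDim_eq_one T]
      rfl
    obtain ⟨n, m, ρ, σ, τ, h1, h2, h3, h4, h5⟩ :=
      FlatCohen.exists_presentation (A := A) (B := B) (Λ := Λ) (Λ' := Λ') (Or.inr hΛ)
        (fun _ : Fin 1 => (p : Λ)) (fun _ : Fin 1 => (p : Λ'))
        (by rw [hrange]; exact hm) (hd1 Λ) (by rw [hrange]; exact hm') (hd1 Λ')
        (fun m w j => by rw [map_natCast, map_natCast]) vA hvA hvAl vB hvB
    refine ⟨Λ, Λ', i1, i1', inferInstance, n, m, ρ, σ, τ, Or.inr ⟨?_, hΛ, hΛ'⟩, h1, h2, h3, h4, h5⟩
    intro hz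
    have h0 : ((p : ℕ) : ResidueField A) = 0 := CharP.cast_eq_zero _ p
    exact hpp.ne_zero (Nat.cast_eq_zero.1 h0)
  · have hz : CharZero (ResidueField A) := CharP.charP_to_charZero _
    have hz' : CharZero (ResidueField B) := charZero_of_injective_ringHom hinj
    have hsec : ∀ (R : Type u) [CommRing R] [IsLocalRing R] [IsAdicComplete (maximalIdeal R) R]
        [CharZero (ResidueField R)], ∃ v : ResidueField R →+* R,
          (Ideal.Quotient.mk (maximalIdeal R)).comp v = RingHom.id _ := by
      intro R _ _ _ _
      have hfs := CohenRingSmoothU.isFSA_int_of_field (ResidueField R)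
        (Field.toIsField (ResidueField R))
      have hA : (⊥ : Ideal ℤ).map (algebraMap ℤ R) ≤ maximalIdeal R := by
        rw [Ideal.map_bot]
        exact bot_le
      have hB : ∀ x ∈ (⊥ : Ideal (ResidueField R)), (RingHom.id (R ⧸ maximalIdeal R)) x = 0 := by
        intro x hx
        rw [Ideal.mem_bot] at hx
        exact hx
      exact CohenStruct.exists_lift_to_complete (R := R) ⊥ ⊥ hfs (RingHom.id _) hA hB
    obtain ⟨vA, hvA0⟩ := hsec A
    obtain ⟨vB, hvB0⟩ := hsec B
    have hvA : Function.Surjective ((residue A).comp vA) := by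
      intro x
      exact ⟨x, congrArg (fun f : ResidueField A →+* ResidueField A => f x) hvA0⟩
    have hvB : Function.Surjective ((residue B).comp vB) := by
      intro x
      exact ⟨x, congrArg (fun f : ResidueField B →+* ResidueField B => f x) hvB0⟩
    have hvAl : IsLocalHom vA := by
      refine ⟨fun x hx => ?_⟩
      rw [isUnit_iff_ne_zero]
      rintro rfl
      rw [map_zero] at hx
      exact not_isUnit_zero hx
    have hbot : ∀ (K : Type u) [Field K],
        maximalIdeal K = Ideal.span (Set.range (fun i : Fin 0 => (i.elim0 : K))) := by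
      intro K _
      rw [IsLocalRing.maximalIdeal_eq_bot, Set.range_eq_empty, Ideal.span_empty]
    have hd0 : ∀ (K : Type u) [Field K], ((0 : ℕ) : WithBot ℕ∞) ≤ ringKrullDim K :=
      fun K _ => ringKrullDim_nonneg_of_nontrivial
    obtain ⟨n, m, ρ, σ, τ, h1, h2, h3, h4, h5⟩ :=
      FlatCohen.exists_presentation (A := A) (B := B) (Λ := ResidueField A) (Λ' := ResidueField B)
        (Or.inl ⟨Field.toIsField _, hz⟩)
        (fun i : Fin 0 => i.elim0) (fun i : Fin 0 => i.elim0)
        (hbot _) (hd0 _) (hbot _) (hd0 _)
        (fun m w j => j.elim0) vA hvA hvAl vB hvB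
    exact ⟨ResidueField A, ResidueField B, inferInstance, inferInstance, inferInstance, n, m, ρ, σ, τ,
      Or.inl ⟨hz, Field.toIsField _, Field.toIsField _⟩, h1, h2, h3, h4, h5⟩

end Groth.Agent.S2053
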