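import Groth.Statements.S2054
import Mathlib
import Groth.Agent.Lib.Helper21.RetractUpTo2
import Groth.Agent.Lib.Helper12.SerreNormalC
import Groth.Agent.S18704
import Groth.Agent.S18702

set_option autoImplicit false
universe u
open CAlg

namespace Groth.Agent.S2054

/-- Let `R` be a Noetherian normal domain and `M` a finite `R`-module. Then `M` is reflexive (the map to
its double dual is bijective) if and only if `M` is torsion free and satisfies Serre's condition
`(S_2)`. -/
theorem result {R M : Type u} [CommRing R] [IsDomain R] [IsNoetherianRing R]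
    [IsIntegrallyClosed R] [AddCommGroup M] [Module R M] [Module.Finite R M] :
    Module.IsReflexive R M ↔ NoZeroSMulDivisors R M ∧ LocCoh.HasSk 2 R M := by
  classical
  open Groth.Agent.Lib.Helper21.RetractUpTo in
  -- `R` has `(S_2)`
  have hS2 : LocCoh.HasSk 2 R R := by
    refine (Groth.Agent.Lib.Helper12.SerreNormal.forward (R := R) ?_).2
    intro p _
    exact ⟨IsLocalization.isDomain_localization (Ideal.primeCompl_le_nonZeroDivisors p),
      isIntegrallyClosed_of_isLocalization (Localization.AtPrime p) p.primeCompl
        (Ideal.primeCompl_le_nonZeroDivisors p)⟩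
  constructor
  · intro hrefl
    haveI := hrefl
    refine ⟨⟨?_⟩, (Groth.Agent.S18702.result R ⊤ M).2.2.2 hS2⟩
    intro c x hcx
    by_cases hc : c = 0
    · exact Or.inl hc
    · right
      apply (Module.bijective_dual_eval R M).1
      rw [map_zero]
      ext f
      have h1 : c • f x = 0 := by rw [← map_smul, hcx, map_zero]
      rw [Module.Dual.eval_apply, LinearMap.zero_apply]
      exact (smul_eq_zero.1 h1).resolve_left hc
  · rintro ⟨htf, hSk⟩
    haveI := htf
    haveI : Module.IsTorsionFree R M :=
      Module.IsTorsionFree.of_smul_eq_zero (R := R) (M := M)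
        fun (r : R) (m : M) (h : r • m = 0) => htf.eq_zero_or_eq_zero_of_smul_eq_zero h
    by_cases hM : Subsingleton M
    · exact Groth.Agent.S18703.isReflexive_of_subsingleton R M
    rw [not_subsingleton_iff_nontrivial] at hM
    set I : Ideal R := retractIdeal (B := R) M with hI
    -- primes containing `I` have height at least two
    have hht : ∀ P : Ideal R, P.IsPrime → I ≤ P → 2 ≤ P.height := by
      intro P hP hIP
      by_contra hlt
      rw [not_le] at hlt
      have h1 : P.height ≤ 1 := Order.le_of_lt_add_one (by rw [one_add_one_eq_two]; exact hlt)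
      have hdim : ringKrullDim (Localization.AtPrime P) ≤ 1 := by
        rw [IsLocalization.AtPrime.ringKrullDim_eq_height P]
        exact_mod_cast h1
      haveI : IsDomain (Localization.AtPrime P) :=
        IsLocalization.isDomain_localization (Ideal.primeCompl_le_nonZeroDivisors P)
      haveI : IsIntegrallyClosed (Localization.AtPrime P) :=
        isIntegrallyClosed_of_isLocalization (Localization.AtPrime P) P.primeCompl
          (Ideal.primeCompl_le_nonZeroDivisors P)
      haveI : Ring.KrullDimLE 1 (Localization.AtPrime P) :=
        Ring.krullDimLE_iff.2 (by exact_mod_cast hdim)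
      have htfae : (IsIntegrallyClosed (Localization.AtPrime P) ∧
          ∀ Q : Ideal (Localization.AtPrime P), Q ≠ ⊥ → Q.IsPrime →
            Q = IsLocalRing.maximalIdeal (Localization.AtPrime P)) ↔
          IsPrincipalIdealRing (Localization.AtPrime P) :=
        (tfae_of_isNoetherianRing_of_isLocalRing_of_isDomain (Localization.AtPrime P)).out 3 0
      haveI : IsPrincipalIdealRing (Localization.AtPrime P) := htfae.1 ⟨inferInstance,
        fun Q hQ hQ' => IsLocalRing.eq_maximalIdeal (hQ'.isMaximal_of_ne_bot hQ)⟩
      haveI : Module.Free (Localization.AtPrime P) (LocalizedModule P.primeCompl M) :=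
        Module.free_of_finite_type_torsion_free'
      exact retractIdeal_not_le (B := R) M P hIP
    have hIht : 2 ≤ I.height := by
      rw [Ideal.height_eq_inf_minimalPrimes]
      refine le_iInf₂ fun P hP => hht P hP.1.1 hP.1.2
    have hU : ∀ p : PrimeSpectrum R, ¬ I ≤ p.asIdeal →
        Module.IsReflexive (Localization.AtPrime p.asIdeal)
          (LocalizedModule p.asIdeal.primeCompl M) := by
      intro p hp
      obtain ⟨s, hsI, hsp⟩ := SetLike.not_le_iff_exists.1 hp
      haveI := free_localizedModule_of_isRetractUpTo (B := R) M p.asIdeal hsI hsp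
      infer_instance
    have key := Groth.Agent.S18704.result R hS2 I hIht M hU
    apply key.2.1
    apply key.1.1
    refine ⟨hSk, fun p hIp _ => ?_⟩
    -- the support of the localization is everything
    haveI : IsDomain (Localization.AtPrime p.asIdeal) :=
      IsLocalization.isDomain_localization (Ideal.primeCompl_le_nonZeroDivisors p.asIdeal)
    have hann : Module.annihilator (Localization.AtPrime p.asIdeal)
        (LocalizedModule p.asIdeal.primeCompl M) = ⊥ := by
      rw [eq_bot_iff]
      intro a ha
      rw [Module.mem_annihilator] at ha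
      obtain ⟨m, hm⟩ := exists_ne (0 : M)
      have hm' : LocalizedModule.mkLinearMap p.asIdeal.primeCompl M m ≠ 0 := by
        intro h0
        obtain ⟨r, hr, hrm⟩ := (LocalizedModule.mem_ker_mkLinearMap_iff
          (S := p.asIdeal.primeCompl)).1 (LinearMap.mem_ker.2 h0)
        rcases eq_zero_or_eq_zero_of_smul_eq_zero hrm with h | h
        · exact hr (h ▸ p.asIdeal.zero_mem)
        · exact hm h
      have := ha (LocalizedModule.mkLinearMap p.asIdeal.primeCompl M m)
      exact (Submodule.mem_bot _).2 ((smul_eq_zero.1 this).resolve_right hm')
    rw [Module.supportDim_eq_ringKrullDim_quotient_annihilator, hann]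
    rw [ringKrullDim_eq_of_ringEquiv (RingEquiv.quotientBot _),
      IsLocalization.AtPrime.ringKrullDim_eq_height p.asIdeal]
    have h2 := hht p.asIdeal p.isPrime hIp
    exact (WithBot.coe_le_coe (a := (2 : ℕ∞))).2 h2

end Groth.Agent.S2054
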