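import Groth.Statements.S2055
import Groth.Agent.Lib.Helper23.ExtLift

set_option autoImplicit false
universe u
open CAlg

namespace Groth.Agent.S2055

open TensorProduct Helper23.FG Helper23.EL


open TensorProduct in
/-- Let `R → S` be flat and `I ⊆ R` a finitely generated ideal with `R/I → S/IS` bijective. If one of
the `R`-modules `M`, `N` has every element killed by a power of `I`, then base change of linear maps
`Hom_R(M, N) → Hom_S(S ⊗ M, S ⊗ N)` is bijective. -/
theorem result {R S M N : Type u} [CommRing R] [CommRing S]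
    [Algebra R S] [Module.Flat R S] (I : Ideal R) (hI : I.FG)
    (hq : Function.Bijective (algebraMap (R ⧸ I) (S ⧸ I.map (algebraMap R S))))
    [AddCommGroup M] [Module R M] [AddCommGroup N] [Module R N]
    (hMN : (∀ x : M, ∃ n : ℕ, ∀ a ∈ I ^ n, a • x = 0) ∨ (∀ y : N, ∃ n : ℕ, ∀ a ∈ I ^ n, a • y = 0)) :
    Function.Bijective (fun f : M →ₗ[R] N => LinearMap.baseChange S f) := by
  classical
  obtain ⟨t, f, hf⟩ : ∃ (t : ℕ) (f : Fin t → R), Ideal.span (Set.range f) = I := by
    obtain ⟨s, hs⟩ := hI
    refine ⟨s.card, fun i => (s.equivFin.symm i : R), ?_⟩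
    rw [← hs]
    congr 1
    ext x
    constructor
    · rintro ⟨i, rfl⟩
      exact (s.equivFin.symm i).2
    · intro hx
      exact ⟨s.equivFin ⟨x, hx⟩, by simp⟩
  have hq' : Function.Bijective
      (Ideal.quotientMap (I.map (algebraMap R S)) (algebraMap R S) Ideal.le_comap_map) := hq
  have hfmem : ∀ i (k : ℕ), f i ^ k ∈ I ^ k := by
    intro i k
    apply Ideal.pow_mem_pow
    rw [← hf]
    exact Ideal.subset_span ⟨i, rfl⟩
  have hT : ∀ (g : M →ₗ[R] N) (m : M), g m ∈ torsI I N := by
    intro g m
    rcases hMN with hM | hN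
    · obtain ⟨n, hn⟩ := hM m
      exact ⟨n, fun a ha => by rw [← map_smul, hn a ha, map_zero]⟩
    · exact hN (g m)
  have hinjT : ∀ τ₁ ∈ torsI I N, ∀ τ₂ ∈ torsI I N, (1 : S) ⊗ₜ[R] τ₁ = (1 : S) ⊗ₜ[R] τ₂ → τ₁ = τ₂ := by
    intro τ₁ h₁ τ₂ h₂ h
    have := eq_zero_of_mem_torsI_of_tmul_eq_zero hq' (τ₁ - τ₂) (Submodule.sub_mem _ h₁ h₂)
      (by rw [TensorProduct.tmul_sub, h, sub_self])
    exact sub_eq_zero.mp this
  constructor
  · intro g₁ g₂ h
    ext m
    apply hinjT _ (hT g₁ m) _ (hT g₂ m)
    have := LinearMap.congr_fun h ((1 : S) ⊗ₜ[R] m)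
    simpa using this
  · intro G
    have hz : ∀ m i, ∃ k : ℕ, f i ^ k • G ((1 : S) ⊗ₜ[R] m) = 0 := by
      rcases hMN with hM | hN
      · intro m i
        obtain ⟨n, hn⟩ := hM m
        refine ⟨n, ?_⟩
        rw [← algebraMap_smul S (f i ^ n), ← map_smul, algebraMap_smul, TensorProduct.smul_tmul',
          TensorProduct.smul_tmul, hn _ (hfmem i n), TensorProduct.tmul_zero, map_zero]
      · intro m i
        have key : ∀ z : S ⊗[R] N, ∃ k : ℕ, f i ^ k • z = 0 := by
          intro z
          induction z using TensorProduct.induction_on with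
          | zero => exact ⟨0, smul_zero _⟩
          | tmul s n =>
            obtain ⟨k, hk⟩ := hN n
            refine ⟨k, ?_⟩
            rw [TensorProduct.smul_tmul', TensorProduct.smul_tmul, hk _ (hfmem i k), TensorProduct.tmul_zero]
          | add x y hx hy =>
            obtain ⟨k1, h1⟩ := hx
            obtain ⟨k2, h2⟩ := hy
            refine ⟨k1 + k2, ?_⟩
            rw [smul_add, pow_add, mul_smul, mul_smul, h2, smul_zero, smul_comm, h1, smul_zero, add_zero]
        exact key _
    choose τ hτ hτG using fun m => exists_torsion_of_pow_smul f hf hq' (G ((1 : S) ⊗ₜ[R] m)) (hz m)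
    let g : M →ₗ[R] N :=
      { toFun := τ
        map_add' := by
          intro x y
          apply hinjT _ (hτ _) _ (Submodule.add_mem _ (hτ x) (hτ y))
          rw [TensorProduct.tmul_add, hτG x, hτG y, hτG (x + y), TensorProduct.tmul_add, map_add]
        map_smul' := by
          intro r x
          apply hinjT _ (hτ _) _ (Submodule.smul_mem _ r (hτ x))
          rw [TensorProduct.tmul_smul, hτG x, hτG (r • x), TensorProduct.tmul_smul,
            ← algebraMap_smul S r, map_smul, algebraMap_smul] }
    refine ⟨g, ?_⟩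
    apply LinearMap.ext
    intro z
    induction z using TensorProduct.induction_on with
    | zero => simp
    | tmul s m =>
      have h1 : (s ⊗ₜ[R] m : S ⊗[R] M) = s • ((1 : S) ⊗ₜ[R] m) := by
        rw [TensorProduct.smul_tmul', smul_eq_mul, mul_one]
      rw [h1, map_smul, map_smul]
      congr 1
      simp only [LinearMap.baseChange_tmul]
      exact hτG m
    | add x y hx hy => rw [map_add, map_add, hx, hy]

end Groth.Agent.S2055
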