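import Groth.Statements.S2057
-- import your own Groth.Agent.* helpers here
import Groth.Agent.Lib.Helper26.PureEq
import Groth.Agent.S2056
import Mathlib.Algebra.Module.FinitePresentation

set_option autoImplicit false
universe u
open CAlg

namespace Groth.Agent.S2057

open Groth.Agent.Lib.Helper26

/-- An injective linear map `f : M₁ → M₂` is universally injective if and only if: whenever elements
`x_i` of `M₁` satisfy `f(x_i) = Σ_j a_{ij} y_j` for some `y_j ∈ M₂` and scalars `a_{ij}`, there are
`z_j ∈ M₁` with `x_i = Σ_j a_{ij} z_j`. -/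
theorem result {R M₁ M₂ : Type u} [CommRing R] [AddCommGroup M₁]
    [Module R M₁] [AddCommGroup M₂] [Module R M₂] (f : M₁ →ₗ[R] M₂) (hf : Function.Injective f) :
    CAlgX.UniversallyInjective R f ↔
      ∀ (n m : ℕ) (x : Fin n → M₁) (y : Fin m → M₂) (a : Fin n → Fin m → R),
        (∀ i, f (x i) = ∑ j, a i j • y j) → ∃ z : Fin m → M₁, ∀ i, x i = ∑ j, a i j • z j := by
  classical
  constructor
  · intro h n m x y a hxy
    set g : (Fin m → R) →ₗ[R] (Fin n → R) := Matrix.mulVecLin (Matrix.of a) with hg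
    have hga : ∀ i j, g (Pi.single j 1) i = a i j := by
      intro i j
      rw [hg, Matrix.mulVecLin_apply, Matrix.mulVec_single_one]
      rfl
    set π : (Fin n → R) →ₗ[R] ((Fin n → R) ⧸ LinearMap.range g) := (LinearMap.range g).mkQ with hπ
    have hex : Function.Exact g π := by
      rw [LinearMap.exact_iff, hπ, Submodule.ker_mkQ]
    have hsurj : Function.Surjective π := Submodule.mkQ_surjective _
    set ξ' : TensorProduct R M₁ (Fin n → R) := (PureEq.co M₁ n).symm x with hξ'
    have h1 : (f.rTensor (Fin n → R)) ξ' = (g.lTensor M₂) ((PureEq.co M₂ m).symm y) := by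
      apply (PureEq.co M₂ n).injective
      funext i
      rw [PureEq.co_rTensor, PureEq.co_lTensor, hξ', LinearEquiv.apply_symm_apply, hxy]
      exact Finset.sum_congr rfl fun j _ => by rw [hga]
    have h2 : (f.rTensor _) ((π.lTensor M₁) ξ') = 0 := by
      have e1 : (f.rTensor _) ((π.lTensor M₁) ξ') = (π.lTensor M₂) ((f.rTensor _) ξ') := by
        rw [← LinearMap.comp_apply, ← LinearMap.comp_apply, LinearMap.rTensor_comp_lTensor,
          LinearMap.lTensor_comp_rTensor]
      rw [e1, h1, ← LinearMap.comp_apply, ← LinearMap.lTensor_comp]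
      have : π ∘ₗ g = 0 := hex.linearMap_comp_eq_zero
      rw [this, LinearMap.lTensor_zero, LinearMap.zero_apply]
    have h3 : (π.lTensor M₁) ξ' = 0 := by
      apply h ((Fin n → R) ⧸ LinearMap.range g)
      rw [h2, map_zero]
    obtain ⟨η, hη⟩ := (lTensor_exact M₁ hex hsurj ξ').mp h3
    refine ⟨PureEq.co M₁ m η, fun i => ?_⟩
    have h4 := PureEq.co_lTensor M₁ g (PureEq.co M₁ m η) i
    rw [LinearEquiv.symm_apply_apply, hη, hξ', LinearEquiv.apply_symm_apply] at h4
    rw [h4]
    exact Finset.sum_congr rfl fun j _ => by rw [hga]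
  · intro h
    rw [Groth.Agent.S2056.result]
    intro Q _ _ hQ
    obtain ⟨n, m, π, g, hsurj, hex⟩ := Module.FinitePresentation.exists_fin' R Q
    rw [injective_iff_map_eq_zero]
    intro ξ hξ
    obtain ⟨ξ', rfl⟩ := LinearMap.lTensor_surjective M₁ hsurj ξ
    have e1 : (f.rTensor _) ((π.lTensor M₁) ξ') = (π.lTensor M₂) ((f.rTensor _) ξ') := by
      rw [← LinearMap.comp_apply, ← LinearMap.comp_apply, LinearMap.rTensor_comp_lTensor,
        LinearMap.lTensor_comp_rTensor]
    rw [e1] at hξ
    obtain ⟨η₂, hη₂⟩ := (lTensor_exact M₂ hex hsurj _).mp hξ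
    have hxy : ∀ i, f (PureEq.co M₁ n ξ' i)
        = ∑ j, g (Pi.single j 1) i • (PureEq.co M₂ m η₂) j := by
      intro i
      rw [← PureEq.co_rTensor, ← hη₂, ← PureEq.co_lTensor, LinearEquiv.symm_apply_apply]
    obtain ⟨z, hz⟩ := h n m (PureEq.co M₁ n ξ') (PureEq.co M₂ m η₂)
      (fun i j => g (Pi.single j 1) i) hxy
    have h5 : ξ' = (g.lTensor M₁) ((PureEq.co M₁ m).symm z) := by
      apply (PureEq.co M₁ n).injective
      funext i
      rw [PureEq.co_lTensor, hz]
    rw [h5, ← LinearMap.comp_apply, ← LinearMap.lTensor_comp]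
    have : π ∘ₗ g = 0 := hex.linearMap_comp_eq_zero
    rw [this, LinearMap.lTensor_zero, LinearMap.zero_apply]

end Groth.Agent.S2057
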