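import Groth.Statements.S2058
import Mathlib
import Groth.Agent.S6876
import Groth.Agent.Lib.Helper21.DepthKit1

set_option autoImplicit false
universe u
open CAlg

namespace Groth.Agent.S2058

open IsLocalRing RingTheory.Sequence

section Aux
variable {R : Type u} [CommRing R] [IsLocalRing R] [IsNoetherianRing R]

/-- if the maximal ideal is not associated to `N`, it contains an `N`-regular element. -/
theorem exists_mem_isSMulRegular (N : Type u) [AddCommGroup N] [Module R N] [Module.Finite R N]
    (h : maximalIdeal R ∉ associatedPrimes R N) :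
    ∃ t ∈ maximalIdeal R, IsSMulRegular N t := by
  by_contra hcon
  push Not at hcon
  have hsub : (maximalIdeal R : Set R) ⊆ ⋃ p ∈ associatedPrimes R N, ((fun q => q) p : Ideal R) := by
    have := biUnion_associatedPrimes_eq_compl_regular R N
    simp only
    rw [this]
    intro t ht
    exact hcon t ht
  rw [Ideal.subset_union_prime_finite (associatedPrimes.finite R N) ⊤ ⊤
    (fun p hp _ _ => hp.isPrime)] at hsub
  obtain ⟨p, hp, hmp⟩ := hsub
  have hpm : maximalIdeal R = p :=
    (IsLocalRing.maximalIdeal.isMaximal R).eq_of_le hp.isPrime.ne_top hmp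
  exact h (hpm ▸ hp)

/-- the depth zero case. -/
theorem case_zero (h1 : ¬ IsArtinianRing R) (hA : maximalIdeal R ∈ associatedPrimes R R) :
    ∃ (R' : Type u) (_ : CommRing R') (_ : Algebra R R'), Nontrivial R' ∧ Module.Finite R R' ∧
      ¬ Function.Bijective (algebraMap R R') ∧
      (∃ n : ℕ, (∀ x : R, algebraMap R R' x = 0 → ∀ a ∈ IsLocalRing.maximalIdeal R ^ n, a * x = 0) ∧
        (∀ y : R', ∀ a ∈ IsLocalRing.maximalIdeal R ^ n, a • y ∈ Set.range (algebraMap R R'))) ∧
      IsLocalRing.maximalIdeal R ∉ associatedPrimes R R' := by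
  classical
  set m := maximalIdeal R with hm
  obtain ⟨_, a, ha⟩ := isAssociatedPrime_iff.1 hA
  have ha0 : a ≠ 0 := by
    rintro rfl
    have : (1 : R) ∈ m := by
      rw [ha, Submodule.mem_colon_singleton]; simp
    exact (Ideal.ne_top_iff_one m).1 (IsLocalRing.maximalIdeal.isMaximal R).ne_top this
  have hma : ∀ t ∈ m, t * a = 0 := by
    intro t ht
    rw [ha, Submodule.mem_colon_singleton] at ht
    simpa using ht
  -- the power-torsion ideal
  let I : Ideal R :=
    { carrier := {r | ∃ n : ℕ, ∀ b ∈ m ^ n, b * r = 0}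
      add_mem' := by
        rintro r s ⟨n1, h1⟩ ⟨n2, h2⟩
        refine ⟨max n1 n2, fun b hb => ?_⟩
        rw [mul_add, h1 b (Ideal.pow_le_pow_right (le_max_left _ _) hb),
          h2 b (Ideal.pow_le_pow_right (le_max_right _ _) hb), add_zero]
      zero_mem' := ⟨0, fun b _ => mul_zero b⟩
      smul_mem' := by
        rintro c r ⟨n, hn⟩
        refine ⟨n, fun b hb => ?_⟩
        rw [smul_eq_mul, mul_left_comm, hn b hb, mul_zero] }
  have hImem : ∀ r, r ∈ I ↔ ∃ n : ℕ, ∀ b ∈ m ^ n, b * r = 0 := fun r => Iff.rfl
  -- uniform bound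
  obtain ⟨N, hN⟩ : ∃ N : ℕ, ∀ r ∈ I, ∀ b ∈ m ^ N, b * r = 0 := by
    obtain ⟨s, hs⟩ := (IsNoetherian.noetherian I : I.FG)
    have hsI : ∀ g ∈ s, g ∈ I := fun g hg => hs ▸ Submodule.subset_span hg
    choose! n hn using fun g (hg : g ∈ s) => (hImem g).1 (hsI g hg)
    refine ⟨s.sup n, fun r hr b hb => ?_⟩
    rw [← hs] at hr
    induction hr using Submodule.span_induction with
    | mem g hg => exact hn g hg b (Ideal.pow_le_pow_right (Finset.le_sup hg) hb)
    | zero => exact mul_zero b
    | add u v _ _ hu hv => rw [mul_add, hu, hv, add_zero]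
    | smul c u _ hu => rw [smul_eq_mul, mul_left_comm, hu, mul_zero]
  have haI : a ∈ I := ⟨1, fun b hb => hma b (by simpa using hb)⟩
  refine ⟨R ⧸ I, inferInstance, inferInstance, ?_, inferInstance, ?_, ⟨N, ?_, ?_⟩, ?_⟩
  · -- nontrivial
    rw [Ideal.Quotient.nontrivial_iff]
    intro htop
    have h1I : (1 : R) ∈ I := htop ▸ Submodule.mem_top
    apply h1
    rw [isArtinianRing_iff_isNilpotent_maximalIdeal]
    refine ⟨N, ?_⟩
    rw [Ideal.zero_eq_bot, eq_bot_iff]
    intro b hb
    have := hN 1 h1I b hb
    rw [mul_one] at this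
    exact this ▸ Submodule.zero_mem _
  · -- not injective
    intro hbij
    apply ha0
    apply hbij.1
    rw [map_zero]
    exact Ideal.Quotient.eq_zero_iff_mem.2 haI
  · intro x hx b hb
    exact hN x (Ideal.Quotient.eq_zero_iff_mem.1 hx) b hb
  · intro y b _
    obtain ⟨r, rfl⟩ := Ideal.Quotient.mk_surjective y
    exact ⟨b * r, by simp [Algebra.smul_def]⟩
  · intro hass
    obtain ⟨_, y, hy⟩ := isAssociatedPrime_iff.1 hass
    obtain ⟨r, rfl⟩ := Ideal.Quotient.mk_surjective y
    have hr : ∀ t ∈ m, t * r ∈ I := by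
      intro t ht
      rw [hy, Submodule.mem_colon_singleton] at ht
      have h0 : Ideal.Quotient.mk I (t * r) = 0 := by
        simpa [Algebra.smul_def] using ht
      exact Ideal.Quotient.eq_zero_iff_mem.1 h0
    have hrI : r ∈ I := by
      refine ⟨N + 1, fun b hb => ?_⟩
      rw [pow_succ] at hb
      refine Submodule.mul_induction_on hb (fun u hu v hv => ?_) (fun u v hu hv => ?_)
      · rw [mul_assoc]
        exact hN _ (hr v hv) u hu
      · rw [add_mul, hu, hv, add_zero]
    have h1m : (1 : R) ∈ m := by
      rw [hy, Submodule.mem_colon_singleton, one_smul]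
      exact (Submodule.mem_bot _).2 (Ideal.Quotient.eq_zero_iff_mem.2 hrI)
    exact (Ideal.ne_top_iff_one m).1 (IsLocalRing.maximalIdeal.isMaximal R).ne_top h1m

/-- the depth one case. -/
theorem case_one (h1 : ¬ IsArtinianRing R)
    (h2 : ¬ (IsRegularLocalRing R ∧ ringKrullDim R = 1)) (h3 : LocCoh.depth R R ≤ 1)
    (hA : maximalIdeal R ∉ associatedPrimes R R) :
    ∃ (R' : Type u) (_ : CommRing R') (_ : Algebra R R'), Nontrivial R' ∧ Module.Finite R R' ∧
      ¬ Function.Bijective (algebraMap R R') ∧
      (∃ n : ℕ, (∀ x : R, algebraMap R R' x = 0 → ∀ a ∈ IsLocalRing.maximalIdeal R ^ n, a * x = 0) ∧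
        (∀ y : R', ∀ a ∈ IsLocalRing.maximalIdeal R ^ n, a • y ∈ Set.range (algebraMap R R'))) ∧
      IsLocalRing.maximalIdeal R ∉ associatedPrimes R R' := by
  classical
  set m := maximalIdeal R with hm
  have hmtop : (1 : R) ∉ m :=
    (Ideal.ne_top_iff_one m).1 (IsLocalRing.maximalIdeal.isMaximal R).ne_top
  obtain ⟨x, hxm, hxreg⟩ := exists_mem_isSMulRegular R hA
  have hxcancel : ∀ r s : R, x * r = x * s → r = s := fun r s h => hxreg h
  -- `m` is associated to `R/xR`
  have hass : m ∈ associatedPrimes R (QuotSMulTop x R) := by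
    by_contra hcon
    obtain ⟨t, htm, htreg⟩ := exists_mem_isSMulRegular (QuotSMulTop x R) hcon
    have hreg : IsWeaklyRegular R [x, t] :=
      IsWeaklyRegular.cons hxreg ((isWeaklyRegular_singleton_iff _ t).2 htreg)
    have h4 := Groth.Agent.Lib.Helper21.DepthKit.length_le_idealDepth m [x, t] hreg
      (by
        intro r hr
        simp only [List.mem_cons, List.not_mem_nil, or_false] at hr
        rcases hr with rfl | rfl
        · exact hxm
        · exact htm)
    have h5 : ((2 : ℕ) : ℕ∞) ≤ 1 := h4.trans h3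
    exact absurd h5 (by norm_num)
  obtain ⟨_, nn, hnn⟩ := isAssociatedPrime_iff.1 hass
  obtain ⟨y, rfl⟩ := Submodule.Quotient.mk_surjective _ nn
  have hy1 : ∀ t ∈ m, ∃ c, t * y = x * c := by
    intro t ht
    rw [hnn, Submodule.mem_colon_singleton] at ht
    have h0 : (Submodule.Quotient.mk (t • y) : QuotSMulTop x R) = 0 := by
      rw [Submodule.Quotient.mk_smul]
      exact (Submodule.mem_bot _).1 ht
    rw [Submodule.Quotient.mk_eq_zero] at h0
    obtain ⟨c, -, hc⟩ := (Submodule.mem_smul_pointwise_iff_exists _ _ _).1 h0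
    exact ⟨c, by simpa [smul_eq_mul] using hc.symm⟩
  have hy2 : ∀ c, y ≠ x * c := by
    intro c hc
    have h0 : (Submodule.Quotient.mk y : QuotSMulTop x R) = 0 := by
      rw [Submodule.Quotient.mk_eq_zero, hc]
      exact Submodule.smul_mem_pointwise_smul c x ⊤ Submodule.mem_top
    apply hmtop
    rw [hnn, Submodule.mem_colon_singleton, h0]
    simp
  by_cases hB : ∀ t ∈ m, ∀ c, t * y = x * c → c ∈ m
  · -- construct the finite extension inside `R_x`
    let Ax := Localization.Away x
    let ι : R →+* Ax := algebraMap R Ax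
    have hιinj : Function.Injective ι := by
      rw [injective_iff_map_eq_zero]
      intro r hr
      obtain ⟨⟨_, k, rfl⟩, hk⟩ := (IsLocalization.map_eq_zero_iff (Submonoid.powers x) Ax r).1 hr
      exact (hxreg.pow k) (by simpa [smul_eq_mul] using hk)
    have hxu : IsUnit (ι x) :=
      IsLocalization.map_units Ax (⟨x, Submonoid.mem_powers x⟩ : Submonoid.powers x)
    let z : Ax := IsLocalization.mk' Ax y (⟨x, Submonoid.mem_powers x⟩ : Submonoid.powers x)
    have hz : ι x * z = ι y :=
      IsLocalization.mk'_spec' Ax y (⟨x, Submonoid.mem_powers x⟩ : Submonoid.powers x)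
    have hkey : ∀ t ∈ m, ∃ c ∈ m, ι t * z = ι c := by
      intro t ht
      obtain ⟨c, hc⟩ := hy1 t ht
      refine ⟨c, hB t ht c hc, ?_⟩
      apply hxu.mul_left_cancel
      calc ι x * (ι t * z) = ι t * (ι x * z) := by ring
        _ = ι t * ι y := by rw [hz]
        _ = ι (t * y) := by rw [map_mul]
        _ = ι (x * c) := by rw [hc]
        _ = ι x * ι c := by rw [map_mul]
    let N : Submodule R Ax := Submodule.map (Algebra.linearMap R Ax) m
    have hNmem : ∀ n, n ∈ N ↔ ∃ t ∈ m, ι t = n := by
      intro n
      simp only [N, Submodule.mem_map, Algebra.linearMap_apply]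
      rfl
    let A' : Subalgebra R Ax :=
      { carrier := {b | ∀ n ∈ N, b * n ∈ N}
        mul_mem' := fun {a b} ha hb n hn => by rw [mul_assoc]; exact ha _ (hb _ hn)
        one_mem' := fun n hn => by rwa [one_mul]
        add_mem' := fun {a b} ha hb n hn => by rw [add_mul]; exact N.add_mem (ha _ hn) (hb _ hn)
        zero_mem' := fun n _ => by rw [zero_mul]; exact N.zero_mem
        algebraMap_mem' := fun r n hn => by rw [← Algebra.smul_def]; exact N.smul_mem r hn }
    have hA'mem : ∀ b, b ∈ A' ↔ ∀ n ∈ N, b * n ∈ N := fun b => Iff.rfl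
    have hzA : z ∈ A' := by
      intro n hn
      obtain ⟨t, ht, rfl⟩ := (hNmem n).1 hn
      obtain ⟨c, hc, hcz⟩ := hkey t ht
      rw [mul_comm, hcz]
      exact (hNmem _).2 ⟨c, hc, rfl⟩
    have hxN : ι x ∈ N := (hNmem _).2 ⟨x, hxm, rfl⟩
    -- finiteness
    haveI : Module.Finite R N := Module.Finite.map m (Algebra.linearMap R Ax)
    haveI : Module.Finite R (N →ₗ[R] N) := Groth.Agent.S6876.finite_hom
    let φ : A' →ₗ[R] (N →ₗ[R] N) :=
      { toFun := fun b =>
          { toFun := fun n => ⟨b.1 * n.1, b.2 n.1 n.2⟩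
            map_add' := fun n n' => Subtype.ext (mul_add _ _ _)
            map_smul' := fun r n => Subtype.ext (mul_smul_comm r b.1 n.1) }
        map_add' := fun b b' => LinearMap.ext fun n => Subtype.ext (add_mul _ _ _)
        map_smul' := fun r b => LinearMap.ext fun n => Subtype.ext (smul_mul_assoc r b.1 n.1) }
    have hφinj : Function.Injective φ := by
      intro b b' hbb
      have h6 : b.1 * ι x = b'.1 * ι x :=
        congrArg (fun f : N →ₗ[R] N => (f ⟨ι x, hxN⟩).1) hbb
      exact Subtype.ext (hxu.mul_right_cancel h6)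
    haveI : Module.Finite R A' := Module.Finite.of_injective φ hφinj
    refine ⟨A', inferInstance, inferInstance, ?_, inferInstance, ?_, ⟨1, ?_, ?_⟩, ?_⟩
    · -- nontrivial
      refine ⟨⟨0, 1, fun h => ?_⟩⟩
      have h7 : ι 0 = ι 1 := by
        rw [map_zero, map_one]
        exact congrArg Subtype.val h
      exact zero_ne_one (hιinj h7)
    · -- not surjective
      intro hbij
      obtain ⟨r, hr⟩ := hbij.2 ⟨z, hzA⟩
      have h8 : ι r = z := congrArg Subtype.val hr
      apply hy2 r
      apply hιinj
      rw [map_mul, h8, hz]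
    · intro r hr b _
      have h9 : ι r = 0 := congrArg Subtype.val hr
      rw [hιinj (h9.trans (map_zero ι).symm), mul_zero]
    · intro b a ha
      rw [pow_one] at ha
      have h10 : b.1 * ι a ∈ N := b.2 _ ((hNmem _).2 ⟨a, ha, rfl⟩)
      obtain ⟨r, -, hr⟩ := (hNmem _).1 h10
      refine ⟨r, Subtype.ext ?_⟩
      change ι r = a • b.1
      rw [hr, Algebra.smul_def, mul_comm]
    · intro hassB
      obtain ⟨_, b, hb⟩ := isAssociatedPrime_iff.1 hassB
      have hxb : x • b = 0 := by
        have h15 : x ∈ (⊥ : Submodule R A').colon {b} := hb ▸ (hxm : x ∈ m)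
        rw [Submodule.mem_colon_singleton] at h15
        exact (Submodule.mem_bot _).1 h15
      have h11 : ι x * b.1 = 0 := by
        have := congrArg Subtype.val hxb
        simpa [Algebra.smul_def] using this
      have hb0 : b = 0 := Subtype.ext ((hxu.mul_right_eq_zero).1 h11)
      apply hmtop
      rw [hb, Submodule.mem_colon_singleton, hb0]
      simp
  · -- `m` is principal, generated by a nonzerodivisor
    push Not at hB
    obtain ⟨t, htm, c, htc, hcm⟩ := hB
    have hcu : IsUnit c := IsLocalRing.notMem_maximalIdeal.1 hcm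
    exfalso
    apply h2
    have hyreg : ∀ w, y * w = 0 → w = 0 := by
      intro w hw
      have h12 : x * (c * w) = x * 0 := by
        rw [← mul_assoc, ← htc, mul_assoc, hw, mul_zero, mul_zero]
      exact (hcu.mul_right_eq_zero).1 (hxcancel _ _ h12)
    have hspan : m = Ideal.span {t} := by
      apply le_antisymm
      · intro a ham
        obtain ⟨ca, hca⟩ := hy1 a ham
        obtain ⟨c', hc'⟩ := hcu.exists_left_inv
        have h13 : y * (a * c - ca * t) = 0 := by
          have e1 : a * y * c = x * ca * c := by rw [hca]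
          have e2 : ca * (t * y) = ca * (x * c) := by rw [htc]
          linear_combination e1 - e2
        have h14 : a * c = ca * t := sub_eq_zero.1 (hyreg _ h13)
        rw [Ideal.mem_span_singleton']
        refine ⟨c' * ca, ?_⟩
        calc c' * ca * t = c' * (ca * t) := by ring
          _ = c' * (a * c) := by rw [h14]
          _ = a * (c' * c) := by ring
          _ = a := by rw [hc', mul_one]
      · rw [Ideal.span_singleton_le_iff_mem]
        exact htm
    have hfr : m.spanFinrank ≤ 1 := by
      rw [hspan]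
      exact (Submodule.spanFinrank_span_le_ncard_of_finite (Set.finite_singleton t)).trans
        (by simp)
    have hdim1 : (1 : WithBot ℕ∞) ≤ ringKrullDim R := by
      by_contra hlt
      apply h1
      rw [isArtinianRing_iff_krullDimLE_zero, Ring.krullDimLE_iff]
      rw [not_le] at hlt
      obtain ⟨n, hn⟩ : ∃ n : ℕ∞, ringKrullDim R = n :=
        ⟨(ringKrullDim R).unbot ringKrullDim_ne_bot, (WithBot.coe_unbot _ _).symm⟩
      rw [hn] at hlt ⊢
      have h16 : n < 1 := by exact_mod_cast hlt
      rw [ENat.lt_one_iff_eq_zero] at h16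
      rw [h16]
      rfl
    have hfr' : (m.spanFinrank : WithBot ℕ∞) ≤ 1 := by exact_mod_cast hfr
    have hreg := IsRegularLocalRing.of_spanFinrank_maximalIdeal_le R (hfr'.trans hdim1)
    exact ⟨hreg, le_antisymm ((ringKrullDim_le_spanFinrank_maximalIdeal R).trans hfr') hdim1⟩

end Aux

/-- Let R be a Noetherian local ring which is not Artinian, is not a regular local ring of dimension
one, and has depth at most one. Then there is a finite ring map R → R' with R' ≠ 0, not bijective,
whose kernel and cokernel are killed by a power of the maximal ideal of R, such that the maximal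
ideal of R is not an associated prime of the R-module R'. (This says that the four cases for a
Noetherian local ring — Artinian, regular of dimension one, depth at least two, or admitting such a
map — cover everything; that they are mutually exclusive is not asserted.) -/
theorem result {R : Type u} [CommRing R] [IsLocalRing R] [IsNoetherianRing R]
    (h1 : ¬ IsArtinianRing R) (h2 : ¬ (IsRegularLocalRing R ∧ ringKrullDim R = 1))
    (h3 : LocCoh.depth R R ≤ 1) :
    ∃ (R' : Type u) (_ : CommRing R') (_ : Algebra R R'), Nontrivial R' ∧ Module.Finite R R' ∧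
      ¬ Function.Bijective (algebraMap R R') ∧
      (∃ n : ℕ, (∀ x : R, algebraMap R R' x = 0 → ∀ a ∈ IsLocalRing.maximalIdeal R ^ n, a * x = 0) ∧
        (∀ y : R', ∀ a ∈ IsLocalRing.maximalIdeal R ^ n, a • y ∈ Set.range (algebraMap R R'))) ∧
      IsLocalRing.maximalIdeal R ∉ associatedPrimes R R' := by
  classical
  by_cases hA : maximalIdeal R ∈ associatedPrimes R R
  · exact case_zero h1 hA
  · exact case_one h1 h2 h3 hA

end Groth.Agent.S2058
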