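import Groth.Statements.S2061
import Groth.Agent.Lib.helper11.GorensteinLocal
import Groth.Agent.S0342
import Groth.Agent.S0562

set_option autoImplicit false
universe u
open CategoryTheory
open CAlg

namespace Groth.Agent.S2061

/-- For a Noetherian local ring `R` write `𝔪` for its maximal ideal and `κ` for its residue field. The
projective dimension of `κ` as an `R`-module is at least the `κ`-dimension of `𝔪/𝔪²`: if `κ` has
projective dimension less than `d` then `dim_κ 𝔪/𝔪² < d`. -/
theorem result {R : Type u} [CommRing R] [IsLocalRing R]
    [IsNoetherianRing R] (d : ℕ)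
    (hd : HasProjectiveDimensionLT (ModuleCat.of R (IsLocalRing.ResidueField R)) d) :
    Module.finrank (IsLocalRing.ResidueField R) (IsLocalRing.CotangentSpace R) < d := by
  classical
  haveI : IsRegularLocalRing R := Groth.Agent.S0562.result R d hd
  have hD : ringKrullDim R = ((IsLocalRing.maximalIdeal R).spanFinrank : ℕ) :=
    (IsRegularLocalRing.spanFinrank_maximalIdeal (R := R)).symm
  have hG := (Groth.Agent.S0342.result R).exists_hasInjectiveDimensionLT
  have hnt := (Groth.Agent.Lib.helper11.GorensteinLocal.gorenstein_main hG _ hD).2.1
  rw [← IsLocalRing.spanFinrank_maximalIdeal_eq_finrank_cotangentSpace]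
  by_contra hcon
  push Not at hcon
  have hd' : HasProjectiveDimensionLT
      (ModuleCat.of R (R ⧸ IsLocalRing.maximalIdeal R)) d := hd
  have : Subsingleton (Abelian.Ext (ModuleCat.of R (R ⧸ IsLocalRing.maximalIdeal R))
      (ModuleCat.of R R) (IsLocalRing.maximalIdeal R).spanFinrank) :=
    HasProjectiveDimensionLT.subsingleton _ d _ hcon _
  exact not_subsingleton _ this

end Groth.Agent.S2061
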