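import Groth.Statements.S2064
import Mathlib
import Groth.Agent.S18726
import Groth.Agent.Lib.helper11.LCKit3
import Groth.Agent.Lib.Helper2.HZDepth1
import Groth.Agent.Lib.Helper21.DepthKit1

set_option autoImplicit false
universe u
open CategoryTheory
open CAlg

namespace Groth.Agent.S2064

open Groth.Agent.Lib.helper11.LCKit Function

section Aux
variable {R : Type u} [CommRing R] (J : Ideal R)

/-- `H^0` is left exact: a submodule of a module with vanishing `H^0` has vanishing `H^0`. -/
theorem subsingleton_H_zero_of_injective {X₁ X₂ : Type u} [AddCommGroup X₁] [Module R X₁]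
    [AddCommGroup X₂] [Module R X₂] (i : X₁ →ₗ[R] X₂) (hi : Injective i)
    (h2 : Subsingleton (LocCoh.H J 0 X₂)) : Subsingleton (LocCoh.H J 0 X₁) := by
  let p := (LinearMap.range i).mkQ
  have hip : Exact i p := LinearMap.exact_map_mkQ_range i
  let S := ModuleCat.shortComplexOfCompEqZero i p hip.linearMap_comp_eq_zero
  have hS : S.ShortExact :=
    ModuleCat.shortComplex_shortExact S hip hi (Submodule.mkQ_surjective _)
  have hinj := map_f_injective_zero J hS
  exact ⟨fun x y => hinj (h2.elim _ _)⟩

/-- the basic step: from `0 → ker f → X → range f → 0`. -/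
theorem subsingleton_H_range {X Y : Type u} [AddCommGroup X] [Module R X]
    [AddCommGroup Y] [Module R Y] (f : X →ₗ[R] Y) (k : ℕ)
    (hX : Subsingleton (LocCoh.H J k X))
    (hK : Subsingleton (LocCoh.H J (k + 1) (LinearMap.ker f))) :
    Subsingleton (LocCoh.H J k (LinearMap.range f)) := by
  refine Groth.Agent.S18726.subsingleton_H_of_ses J (LinearMap.ker f).subtype f.rangeRestrict
    (Submodule.injective_subtype _) f.surjective_rangeRestrict ?_ k hX hK
  intro x
  constructor
  · intro hx
    refine ⟨⟨x, ?_⟩, rfl⟩
    have := congrArg Subtype.val hx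
    simpa using this
  · rintro ⟨y, rfl⟩
    apply Subtype.ext
    simpa using y.2

theorem subsingleton_H_of_subsingleton [IsNoetherianRing R] (X : Type u) [AddCommGroup X]
    [Module R X] [Subsingleton X] (k : ℕ) : Subsingleton (LocCoh.H J k X) :=
  Groth.Agent.Lib.Helper2.HZDepth1.subsingleton_H_of_smul_top_eq_top J X
    (Subsingleton.elim _ _) k

end Aux

/-- Let `R` be a Noetherian local ring and `0 → M_e → M_{e-1} → … → M_0` a complex of finite `R`-modules
with `depth(M_j) ≥ j`. If `i > 0` is the largest index at which the complex is not exact, then the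
homology at `M_i` has depth at least one. -/
theorem result {R : Type u} [CommRing R] [IsLocalRing R] [IsNoetherianRing R]
    (C : ChainComplex (ModuleCat.{u} R) ℕ) (e : ℕ) (hzero : ∀ j, e < j → Limits.IsZero (C.X j))
    (hfin : ∀ j, Module.Finite R (C.X j)) (hdepth : ∀ j, j ≤ e → (j : ℕ∞) ≤ LocCoh.depth R (C.X j))
    (i : ℕ) (hi : 0 < i) (hnot : ¬ C.ExactAt i) (habove : ∀ j, i < j → C.ExactAt j) :
    1 ≤ LocCoh.depth R (C.homology i) := by
  classical
  set m := IsLocalRing.maximalIdeal R with hm
  haveI := hfin
  -- the differentials as linear maps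
  let d : ∀ j : ℕ, C.X (j + 1) →ₗ[R] C.X j := fun j => (C.d (j + 1) j).hom
  have hdd : ∀ j x, d j (d (j + 1) x) = 0 := by
    intro j x
    have h2 : (C.d (j + 2) (j + 1) ≫ C.d (j + 1) j).hom x = 0 := by
      rw [C.d_comp_d]; rfl
    exact h2
  -- exactness above `i`
  have hex : ∀ j, i < j + 1 → LinearMap.range (d (j + 1)) = LinearMap.ker (d j) := by
    intro j hj
    have h := habove (j + 1) hj
    rw [HomologicalComplex.exactAt_iff' C (j + 2) (j + 1) j (by simp) (by simp),
      ShortComplex.moduleCat_exact_iff_range_eq_ker] at h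
    exact h
  -- vanishing of local cohomology of the terms
  have hXvan : ∀ j k, k < j → Subsingleton (LocCoh.H m k (C.X j)) := by
    intro j k hkj
    by_cases hje : j ≤ e
    · exact (Groth.Agent.Lib.Helper2.HZDepth1.le_idealDepth_iff m (C.X j) j).1 (hdepth j hje) k hkj
    · haveI : Subsingleton (C.X j) := ModuleCat.subsingleton_of_isZero (hzero j (not_le.1 hje))
      exact subsingleton_H_of_subsingleton m (C.X j) k
  -- the depth of the boundaries
  have hB : ∀ t j, i ≤ j → e ≤ j + t → ∀ k, k ≤ j →
      Subsingleton (LocCoh.H m k (LinearMap.range (d j))) := by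
    intro t
    induction t with
    | zero =>
      intro j _ hej k _
      haveI : Subsingleton (C.X (j + 1)) :=
        ModuleCat.subsingleton_of_isZero (hzero (j + 1) (by omega))
      haveI : Subsingleton (LinearMap.range (d j)) := by
        refine ⟨fun a b => ?_⟩
        obtain ⟨a, x, rfl⟩ := a
        obtain ⟨b, y, rfl⟩ := b
        rw [Subsingleton.elim x y]
      exact subsingleton_H_of_subsingleton m _ k
    | succ t ih =>
      intro j hij hej k hkj
      have h1 := ih (j + 1) (by omega) (by omega) (k + 1) (by omega)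
      rw [hex j (by omega)] at h1
      exact subsingleton_H_range m (d j) k (hXvan (j + 1) k (by omega)) h1
  obtain ⟨i0, rfl⟩ : ∃ i0, i = i0 + 1 := ⟨i - 1, by omega⟩
  have hie : i0 + 1 ≤ e := by
    by_contra hlt
    apply hnot
    rw [HomologicalComplex.exactAt_iff' C (i0 + 2) (i0 + 1) i0 (by simp) (by simp)]
    exact ShortComplex.exact_of_isZero_X₂ _ (hzero (i0 + 1) (by omega))
  -- the homology as an explicit quotient
  let S := C.sc' (i0 + 2) (i0 + 1) i0
  let eH : (C.homology (i0 + 1) : Type u) ≃ₗ[R]
      (LinearMap.ker S.g.hom ⧸ LinearMap.range S.moduleCatToCycles) :=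
    ((C.homologyIsoSc' (i0 + 2) (i0 + 1) i0 (by simp) (by simp)) ≪≫
      S.moduleCatHomologyIso).toLinearEquiv
  change (1 : ℕ∞) ≤ LocCoh.idealDepth m (C.homology (i0 + 1))
  rw [Groth.Agent.Lib.Helper21.DepthKit.idealDepth_congr m eH]
  haveI : Module.Finite R S.X₂ := hfin (i0 + 1)
  have h1 : ((1 : ℕ) : ℕ∞) ≤ LocCoh.idealDepth m
      (LinearMap.ker S.g.hom ⧸ LinearMap.range S.moduleCatToCycles) := by
    rw [Groth.Agent.Lib.Helper2.HZDepth1.le_idealDepth_iff]
    intro k hk
    obtain rfl : k = 0 := by omega
    -- `H^0` of the cycles vanishes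
    have hZ : Subsingleton (LocCoh.H m 0 (LinearMap.ker S.g.hom)) :=
      subsingleton_H_zero_of_injective m (LinearMap.ker S.g.hom).subtype
        (Submodule.injective_subtype _) (hXvan (i0 + 1) 0 (by omega))
    -- `H^1` of the boundaries vanishes
    have hB' : Subsingleton (LocCoh.H m 1 (LinearMap.range S.moduleCatToCycles)) := by
      apply subsingleton_H_range m S.moduleCatToCycles 1 (hXvan (i0 + 2) 1 (by omega))
      have hker : LinearMap.ker S.moduleCatToCycles = LinearMap.ker (d (i0 + 1)) := by
        ext x
        simp only [LinearMap.mem_ker]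
        constructor
        · intro hx
          exact congrArg Subtype.val hx
        · intro hx
          exact Subtype.ext hx
      rw [hker, ← hex (i0 + 1) (by omega)]
      exact hB (e + 1) (i0 + 2) (by omega) (by omega) 2 (by omega)
    exact Groth.Agent.S18726.subsingleton_H_of_ses m
      (LinearMap.range S.moduleCatToCycles).subtype (LinearMap.range S.moduleCatToCycles).mkQ
      (Submodule.injective_subtype _) (Submodule.mkQ_surjective _)
      (LinearMap.exact_subtype_mkQ _) 0 hZ hB'
  exact_mod_cast h1

end Groth.Agent.S2064
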