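import Groth.Statements.S2077
import Mathlib
import Groth.Agent.Lib.Helper9.LimClosed1
import Groth.Agent.Lib.Helper13.NaArrow

set_option autoImplicit false
universe u
open CategoryTheory AlgebraicGeometry
open Lim

namespace Groth.Agent.S2077

section helpers

open CategoryTheory CategoryTheory.Limits AlgebraicGeometry TopologicalSpace


/-- the "box" `fst⁻¹ U ⊓ snd⁻¹ V` in a fibre product over an affine base is affine -/
lemma isAffineOpen_pullback_inf {X Y Z : Scheme.{u}} [IsAffine Z] (f : X ⟶ Z) (g : Y ⟶ Z)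
    {U : X.Opens} (hU : IsAffineOpen U) {V : Y.Opens} (hV : IsAffineOpen V) :
    IsAffineOpen (pullback.fst f g ⁻¹ᵁ U ⊓ pullback.snd f g ⁻¹ᵁ V) := by
  have : IsAffine U.toScheme := hU
  have : IsAffine V.toScheme := hV
  let p : pullback (U.ι ≫ f) (V.ι ≫ g) ⟶ pullback f g :=
    pullback.map _ _ _ _ U.ι V.ι (𝟙 Z) (by simp) (by simp)
  convert! isAffineOpen_opensRange p
  apply Opens.ext
  simp [p, Scheme.Pullback.range_map]

/-- a morphism which is a closed immersion over each member of a family of opens of the target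
whose preimages cover the source is an immersion -/
lemma isImmersion_of_cover {X Y : Scheme.{u}} (f : X ⟶ Y) {ι : Type*} (O : ι → Y.Opens)
    (hcov : ⨆ κ, f ⁻¹ᵁ O κ = ⊤) (h : ∀ κ, IsClosedImmersion (f ∣_ O κ)) : IsImmersion f := by
  let T : Y.Opens := ⨆ κ, O κ
  have hT : f ⁻¹ᵁ T = ⊤ := by
    rw [Scheme.Hom.preimage_iSup]; exact hcov
  have h1 : IsClosedImmersion (f ∣_ T) := by
    rw [IsZariskiLocalAtTarget.iff_of_iSup_eq_top (P := @IsClosedImmersion)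
      (U := fun κ => T.ι ⁻¹ᵁ O κ)]
    · intro κ
      have e : T.ι ''ᵁ (T.ι ⁻¹ᵁ O κ) = O κ := by
        rw [Scheme.Hom.image_preimage_eq_opensRange_inf, Scheme.Opens.opensRange_ι]
        exact inf_eq_right.2 (le_iSup O κ)
      rw [MorphismProperty.arrow_mk_iso_iff @IsClosedImmersion (morphismRestrictRestrict f T _),
        MorphismProperty.arrow_mk_iso_iff @IsClosedImmersion (morphismRestrictEq f e)]
      exact h κ
    · rw [← Scheme.Hom.preimage_iSup]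
      exact Scheme.Opens.ι_preimage_self T
  have h2 : IsIso (f ⁻¹ᵁ T).ι := by
    rw [hT]; exact (Scheme.topIso X).isIso_hom
  have h3 : IsImmersion ((f ⁻¹ᵁ T).ι ≫ f) := by
    rw [← morphismRestrict_ι]; infer_instance
  have h4 : f = inv (f ⁻¹ᵁ T).ι ≫ ((f ⁻¹ᵁ T).ι ≫ f) := by simp
  rw [h4]; infer_instance


open Groth.Agent.Lib.Helper9.LimClosed

variable {I : Type u} [SmallCategory I] [IsCofiltered I] (D : I ⥤ Scheme.{u})
  (c : Cone D) (hc : IsLimit c) [∀ {i j : I} (f : i ⟶ j), IsAffineHom (D.map f)]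

include hc in
lemma exists_surj {S : Scheme.{u}} (f : c.pt ⟶ S) [LocallyOfFiniteType f] (i₀ : I)
    (V : (D.obj i₀).Opens) (hV : IsAffineOpen V) (W : S.Opens) (hW : IsAffineOpen W)
    (hVW : c.π.app i₀ ⁻¹ᵁ V ≤ f ⁻¹ᵁ W) :
    ∃ (j : I) (u : j ⟶ i₀), ∀ (k : I) (v : k ⟶ j) {Y : Scheme.{u}} (g : c.pt ⟶ Y) (O : Y.Opens)
      (a : Y ⟶ S) (b : Y ⟶ D.obj k), g ≫ a = f → g ≫ b = c.π.app k →
      O ≤ a ⁻¹ᵁ W → O ≤ b ⁻¹ᵁ (D.map (v ≫ u) ⁻¹ᵁ V) → g ⁻¹ᵁ O = c.π.app i₀ ⁻¹ᵁ V →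
      Function.Surjective (g.app O) := by
  classical
  have hπ : IsAffineHom (c.π.app i₀) := isAffineHom_π_app D c hc i₀
  set U : c.pt.Opens := c.π.app i₀ ⁻¹ᵁ V with hU
  have hUa : IsAffineOpen U := hV.preimage (c.π.app i₀)
  have hft := HasRingHomProperty.appLE (P := @LocallyOfFiniteType) f inferInstance
    ⟨W, hW⟩ ⟨U, hUa⟩ hVW
  set φ := f.appLE W U hVW with hφ
  letI : Algebra Γ(S, W) Γ(c.pt, U) := φ.hom.toAlgebra
  have hft' : Algebra.FiniteType Γ(S, W) Γ(c.pt, U) := hft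
  obtain ⟨G, hG⟩ := (Algebra.FiniteType.out : (⊤ : Subalgebra Γ(S, W) Γ(c.pt, U)).FG)
  have hlift : ∀ y : Γ(c.pt, U), ∃ (j : I) (u : j ⟶ i₀) (x : Γ(D.obj j, D.map u ⁻¹ᵁ V)),
      (c.π.app j).appLE (D.map u ⁻¹ᵁ V) U
        (by rw [hU, ← Scheme.Hom.comp_preimage, c.w]) x = y := by
    intro y
    exact exists_appLE_π_eq D c hc i₀ V hV y
  choose jy uy xy hxy using hlift
  obtain ⟨j, u, w, hw⟩ := IsCofiltered.wideCospan (I := ↥G) (fun y => uy y.1)
  refine ⟨j, u, fun k v Y g O a b hga hgb hOa hOb hgO => ?_⟩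
  rw [Scheme.Hom.app_eq_appLE]
  refine (Scheme.Hom.appLE_congr g (U := O) (V := U) hgO.ge rfl hgO.symm
    (fun φ => Function.Surjective φ)).1 ?_
  set ρ := g.appLE O U hgO.ge with hρ
  have hφρ : φ = a.appLE W O hOa ≫ ρ := by
    rw [hρ, Scheme.Hom.appLE_comp_appLE, hφ]
    exact appLE_congr_hom hga.symm _ _ _
  have hUk : U ≤ c.π.app k ⁻¹ᵁ (D.map (v ≫ u) ⁻¹ᵁ V) := by
    rw [hU, ← Scheme.Hom.comp_preimage, c.w]
  have hπρ : (c.π.app k).appLE (D.map (v ≫ u) ⁻¹ᵁ V) U hUk =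
      b.appLE (D.map (v ≫ u) ⁻¹ᵁ V) O hOb ≫ ρ := by
    rw [hρ, Scheme.Hom.appLE_comp_appLE]
    exact appLE_congr_hom hgb.symm _ _ _
  let T : Subalgebra Γ(S, W) Γ(c.pt, U) :=
    { ρ.hom.rangeS with
      algebraMap_mem' := fun r => ⟨(a.appLE W O hOa).hom r, by
        change ρ.hom _ = φ.hom r
        rw [hφρ]; rfl⟩ }
  have hGT : (G : Set Γ(c.pt, U)) ⊆ T := by
    intro y hy
    have hy' : y ∈ G := hy
    have hjk : D.map (v ≫ u) ⁻¹ᵁ V ≤ D.map (v ≫ w ⟨y, hy'⟩) ⁻¹ᵁ (D.map (uy y) ⁻¹ᵁ V) := by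
      rw [← Scheme.Hom.comp_preimage, ← D.map_comp, Category.assoc, hw ⟨y, hy'⟩]
    refine ⟨(b.appLE (D.map (v ≫ u) ⁻¹ᵁ V) O hOb).hom
      (((D.map (v ≫ w ⟨y, hy'⟩)).appLE (D.map (uy y) ⁻¹ᵁ V) (D.map (v ≫ u) ⁻¹ᵁ V) hjk).hom
      (xy y)), ?_⟩
    change ρ.hom _ = y
    rw [← CommRingCat.comp_apply, ← CommRingCat.comp_apply, ← hπρ, Scheme.Hom.appLE_comp_appLE]
    refine Eq.trans ?_ (hxy y)
    have h5 := appLE_congr_hom (c.w (v ≫ w ⟨y, hy'⟩)) (D.map (uy y) ⁻¹ᵁ V) U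
      (le_of_eq (hU.trans (by rw [← Scheme.Hom.comp_preimage, Category.assoc,
        ← D.map_comp, Category.assoc, hw ⟨y, hy'⟩, c.w])))
    rw [h5]
  have hT : T = ⊤ := by
    rw [eq_top_iff, ← hG]
    exact Algebra.adjoin_le hGT
  intro y
  have hy : y ∈ T := by rw [hT]; trivial
  obtain ⟨x, hx⟩ := hy
  exact ⟨x, hx⟩


open Groth.Agent.Lib.lead.NaMain Groth.Agent.Lib.Helper13.NaArrow

theorem main {X S : Scheme.{u}} (f : X ⟶ S) [LocallyOfFiniteType f]
    [CompactSpace X] [QuasiSeparatedSpace X] :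
    ∃ (X' : Scheme.{u}) (f' : X' ⟶ S) (j : X ⟶ X'), LocallyOfFinitePresentation f' ∧ QuasiCompact f' ∧
      QuasiSeparated f' ∧ IsImmersion j ∧ j ≫ f' = f := by
  classical
  obtain ⟨I, _, _, _, D, π, ⟨hπ⟩, haff, hft⟩ := exists_approx' X
  let c : Cone D := Cone.mk X π
  have haff' : ∀ {i j : Iᵒᵖ} (a : i ⟶ j), IsAffineHom (D.map a) := fun a => haff _ _ a
  have hcomp : ∀ i, CompactSpace (D.obj i) := fun i => (hft i).1
  have hqs : ∀ i, QuasiSeparatedSpace (D.obj i) := fun i => by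
    have := isNoetherian_of_ftz (hft i); infer_instance
  have hcov : ∀ x : X, ∃ (U : X.Opens) (W : S.Opens), IsAffineOpen U ∧ IsAffineOpen W ∧ x ∈ U ∧
      U ≤ f ⁻¹ᵁ W := by
    intro x
    obtain ⟨_, ⟨W, hW, rfl⟩, hxW, -⟩ := S.isBasis_affineOpens.exists_subset_of_mem_open
      (Set.mem_univ (f.base x)) isOpen_univ
    obtain ⟨_, ⟨U, hU, rfl⟩, hxU, hUW⟩ := X.isBasis_affineOpens.exists_subset_of_mem_open
      (show x ∈ ((f ⁻¹ᵁ W : X.Opens) : Set X) from hxW) (f ⁻¹ᵁ W).isOpen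
    exact ⟨U, W, hU, hW, hxU, hUW⟩
  choose U W hU hW hxU hUW using hcov
  have hUcov : IsOpenCover U := by
    rw [IsOpenCover, eq_top_iff]
    intro x _
    exact Opens.mem_iSup.2 ⟨x, hxU x⟩
  obtain ⟨i₀, s, V, hVcov, hV⟩ := Scheme.exists_isOpenCover_and_isAffine D c hπ U hUcov hU
  have hB := fun κ : s => exists_surj D c hπ f i₀ (V κ) (hV κ).1 (W κ) (hW κ)
    (by rw [← (hV κ).2]; exact hUW κ)
  choose jκ uκ hκ using hB
  obtain ⟨i', u, w, hw⟩ := IsCofiltered.wideCospan (I := ↥s) uκ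
  let tX : D.obj i' ⟶ Spec (CommRingCat.of (ULift.{u} ℤ)) :=
    Limits.IsTerminal.from specULiftZIsTerminal (D.obj i')
  let tS : S ⟶ Spec (CommRingCat.of (ULift.{u} ℤ)) := Limits.IsTerminal.from specULiftZIsTerminal S
  have h1 : LocallyOfFinitePresentation tX := lfp_of_ftz (hft i')
  have h2 : QuasiCompact tX := by
    have := hcomp i'; infer_instance
  have h3 : QuasiSeparated tX := by
    have := hqs i'; infer_instance
  let jj : X ⟶ pullback tX tS := pullback.lift (c.π.app i') f (specULiftZIsTerminal.hom_ext _ _)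
  refine ⟨pullback tX tS, pullback.snd tX tS, jj, inferInstance, inferInstance, inferInstance, ?_,
    pullback.lift_snd _ _ _⟩
  let O : s → (pullback tX tS).Opens := fun κ =>
    pullback.fst tX tS ⁻¹ᵁ (D.map u ⁻¹ᵁ V κ) ⊓ pullback.snd tX tS ⁻¹ᵁ W κ
  have hjO : ∀ κ, jj ⁻¹ᵁ O κ = c.π.app i₀ ⁻¹ᵁ V κ := by
    intro κ
    simp only [O, Scheme.Hom.preimage_inf, ← Scheme.Hom.comp_preimage, jj, pullback.lift_snd]
    rw [pullback.lift_fst_assoc, c.w]
    apply inf_eq_left.2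
    rw [← (hV κ).2]; exact hUW κ
  apply isImmersion_of_cover jj O
  · simp_rw [hjO, ← Scheme.Hom.preimage_iSup]
    rw [hVcov.iSup_eq_top]; rfl
  · intro κ
    have hVa : IsAffineOpen (D.map u ⁻¹ᵁ V κ) := (hV κ).1.preimage (D.map u)
    refine isClosedImmersion_morphismRestrict_of_surjective jj (O κ)
      (isAffineOpen_pullback_inf tX tS hVa (hW κ)) ?_ ?_
    · rw [hjO]
      have : IsAffineHom (c.π.app i₀) := isAffineHom_π_app D c hπ i₀
      exact (hV κ).1.preimage (c.π.app i₀)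
    · refine hκ κ i' (w κ) jj (O κ) (pullback.snd tX tS) (pullback.fst tX tS)
        (pullback.lift_snd _ _ _) (pullback.lift_fst _ _ _) inf_le_right ?_ (hjO κ)
      rw [hw κ]; exact inf_le_left


end helpers

/-- Let `f : X → S` be locally of finite type with `X` quasi-compact and quasi-separated. Then there are
a morphism `f' : X' → S` of finite presentation (locally of finite presentation, quasi-compact,
quasi-separated) and an immersion `X → X'` over `S`. -/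
theorem result {X S : Scheme.{u}} (f : X ⟶ S) [LocallyOfFiniteType f]
    [CompactSpace X] [QuasiSeparatedSpace X] :
    ∃ (X' : Scheme.{u}) (f' : X' ⟶ S) (j : X ⟶ X'), LocallyOfFinitePresentation f' ∧ QuasiCompact f' ∧
      QuasiSeparated f' ∧ IsImmersion j ∧ j ≫ f' = f := by
  exact main f

end Groth.Agent.S2077
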