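import Groth.Statements.S2083
import Mathlib
import Groth.Agent.Lib.Helper21.DepthKit4

set_option autoImplicit false
universe u
open CAlg

namespace Groth.Agent.S2083
open Groth.Agent.Lib.Helper21.DepthKit


/-- Let `R` be a Noetherian local ring, `M` a finite Cohen–Macaulay `R`-module and `g` a member of the
maximal ideal for which the support of `M/gM` has dimension exactly one less than that of `M`. Then
`g` is a nonzerodivisor on `M`, and the quotient `M/gM` is again Cohen–Macaulay, with depth one
smaller than that of `M`. -/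
theorem result {R M : Type u} [CommRing R] [IsLocalRing R] [IsNoetherianRing R]
    [AddCommGroup M] [Module R M] [Module.Finite R M] (hM : LocCoh.IsCohenMacaulayModule R M) (g : R)
    (hg : g ∈ IsLocalRing.maximalIdeal R)
    (hdim : Module.supportDim R (M ⧸ Ideal.span {g} • (⊤ : Submodule R M)) + 1 = Module.supportDim R M) :
    IsSMulRegular M g ∧ LocCoh.IsCohenMacaulayModule R (M ⧸ Ideal.span {g} • (⊤ : Submodule R M)) ∧
      LocCoh.depth R (M ⧸ Ideal.span {g} • (⊤ : Submodule R M)) + 1 = LocCoh.depth R M := by
  have hnt := nontrivial_of_isCM hM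
  have hsub : (Ideal.ofList [g] • ⊤ : Submodule R M) = Ideal.span {g} • (⊤ : Submodule R M) := by
    rw [Ideal.ofList_singleton]
  have hm : ∀ r ∈ [g], r ∈ IsLocalRing.maximalIdeal R := by
    intro r hr
    rw [List.mem_singleton.1 hr]; exact hg
  have e : (M ⧸ (Ideal.ofList [g] • ⊤ : Submodule R M)) ≃ₗ[R]
      (M ⧸ Ideal.span {g} • (⊤ : Submodule R M)) := Submodule.quotEquivOfEq _ _ hsub
  have hdim' : Module.supportDim R (M ⧸ (Ideal.ofList [g] • ⊤ : Submodule R M)) + ([g].length : ℕ)
      = Module.supportDim R M := by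
    rw [Module.supportDim_eq_of_equiv e]
    exact_mod_cast hdim
  have hreg := isWeaklyRegular_of_supportDim_drop [g] M hM hm hdim'
  have hreg1 : IsSMulRegular M g := ((RingTheory.Sequence.isWeaklyRegular_cons_iff M g []).1 hreg).1
  refine ⟨hreg1, isCM_congr e (isCM_quot_ofList [g] M hM hm hreg), ?_⟩
  have h1 := depth_quot_ofList [g] M hm hreg
  rw [depth_congr e] at h1
  exact_mod_cast h1

end Groth.Agent.S2083
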