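import Groth.Statements.S2086
import Mathlib
import Groth.Agent.Lib.Helper21.FlatLocal8

set_option autoImplicit false
universe u
open CAlg

namespace Groth.Agent.S2086

open Groth.Agent.Lib.Helper21 TensorProduct


/-- Let `R → S` be a flat map of Noetherian rings such that `R` and all fibre rings `S ⊗ κ(𝔭)` satisfy
Serre's condition `(S_k)`. Then `S` satisfies `(S_k)`. -/
theorem result {R S : Type u} [CommRing R] [CommRing S] [IsNoetherianRing R] [IsNoetherianRing S]
    [Algebra R S] [Module.Flat R S] (k : ℕ) (hR : LocCoh.HasSk k R R)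
    (hfib : ∀ (p : Ideal R) [p.IsPrime], LocCoh.HasSk k (p.Fiber S) (p.Fiber S)) :
    LocCoh.HasSk k S S := by
  intro q hq
  -- the prime of the fibre ring over `q`
  let P : PrimeSpectrum R := ⟨q.under R, inferInstance⟩
  let x : (PrimeSpectrum.comap (algebraMap R S)) ⁻¹' {P} := ⟨⟨q, hq⟩, rfl⟩
  let Q := PrimeSpectrum.preimageEquivFiber R S P x
  have hQ : q = Q.asIdeal.comap
      (Algebra.TensorProduct.includeRight : S →ₐ[R] (q.under R).Fiber S) := by
    have h1 := (PrimeSpectrum.preimageEquivFiber R S P).left_inv x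
    have h2 := congrArg (fun y => y.1.asIdeal) h1
    exact h2.symm
  have hX := FlatLocal.sk_ineq_fibLocMod_of_fiber (q.under R) Q.asIdeal k (hfib (q.under R)) q hQ
  have hE := hR (q.under R)
  have h1 := FlatLocal.sk_ineq_of_fibre_ineq q S R k hX hE
  have e : LocalizedModule q.primeCompl (S ⊗[R] R) ≃ₗ[Localization.AtPrime q]
      LocalizedModule q.primeCompl S :=
    IsLocalizedModule.mapEquiv q.primeCompl (LocalizedModule.mkLinearMap q.primeCompl (S ⊗[R] R))
      (LocalizedModule.mkLinearMap q.primeCompl S) (Localization.AtPrime q)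
      (TensorProduct.AlgebraTensorModule.rid R S S)
  have h2 : LocCoh.depth (Localization.AtPrime q) (LocalizedModule q.primeCompl (S ⊗[R] R)) =
      LocCoh.depth (Localization.AtPrime q) (LocalizedModule q.primeCompl S) :=
    DepthKit.idealDepth_congr _ e
  rw [Module.supportDim_eq_of_equiv e, h2] at h1
  exact h1

end Groth.Agent.S2086
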