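import Groth.Statements.S2090
import Mathlib
import Groth.Agent.Lib.Helper21.DepthKit11

set_option autoImplicit false
universe u
open CAlg

namespace Groth.Agent.S2090

open RingTheory.Sequence IsLocalRing Module Pointwise
open Groth.Agent.Lib.Helper21.DepthKit

/-- local lemma: a socle element from a non-surjective injective map out of a depth `≥ 2` module. -/
theorem exists_socle {A : Type u} [CommRing A] [IsLocalRing A] [IsNoetherianRing A]
    {M' N' : Type u} [AddCommGroup M'] [Module A M'] [Module.Finite A M'] [AddCommGroup N']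
    [Module A N'] (ψ : M' →ₗ[A] N') (hψ : Function.Injective ψ)
    (hd : 2 ≤ LocCoh.depth A M') (n : N') (hn : ∀ z ∈ maximalIdeal A, z • n ∈ LinearMap.range ψ)
    (hn' : n ∉ LinearMap.range ψ) :
    ∃ n'' : N', n'' ≠ 0 ∧ ∀ z ∈ maximalIdeal A, z • n'' = 0 := by
  rcases subsingleton_or_nontrivial M' with hs | hnt
  · refine ⟨n, fun h0 => hn' (h0 ▸ (LinearMap.range ψ).zero_mem), fun z hz => ?_⟩
    obtain ⟨m, hm⟩ := hn z hz
    rw [← hm, Subsingleton.elim m 0, map_zero]
  · have h2 : ((2 : ℕ) : ℕ∞) ≤ LocCoh.depth A M' := by simpa using hd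
    obtain ⟨rs, hlen, hmem, hreg⟩ := (natCast_le_depth_iff 2).1 h2
    match rs, hlen with
    | [x, y], _ =>
      rw [isWeaklyRegular_cons_iff, isWeaklyRegular_singleton_iff] at hreg
      obtain ⟨hx, hy⟩ := hreg
      have hxm : x ∈ maximalIdeal A := hmem x (by simp)
      have hym : y ∈ maximalIdeal A := hmem y (by simp)
      obtain ⟨m1, hm1⟩ := hn x hxm
      obtain ⟨m2, hm2⟩ := hn y hym
      have h3 : y • m1 = x • m2 := by
        apply hψ
        rw [map_smul, map_smul, hm1, hm2, smul_smul, smul_smul, mul_comm]
      have h4 : (Submodule.mkQ (x • (⊤ : Submodule A M')) m1 : QuotSMulTop x M') = 0 := by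
        apply hy
        show y • (Submodule.mkQ (x • (⊤ : Submodule A M')) m1 : QuotSMulTop x M') =
          y • (0 : QuotSMulTop x M')
        rw [smul_zero, ← map_smul, h3, Submodule.mkQ_apply, Submodule.Quotient.mk_eq_zero]
        exact Submodule.smul_mem_pointwise_smul _ _ _ Submodule.mem_top
      rw [Submodule.mkQ_apply, Submodule.Quotient.mk_eq_zero] at h4
      obtain ⟨m', -, hm'⟩ := (Submodule.mem_smul_pointwise_iff_exists _ _ _).1 h4
      have hxn : x • (n - ψ m') = 0 := by
        rw [smul_sub, ← map_smul, hm', hm1, sub_self]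
      refine ⟨n - ψ m', fun h0 => hn' ⟨m', (sub_eq_zero.1 h0).symm⟩, fun z hz => ?_⟩
      obtain ⟨mz, hmz⟩ := hn z hz
      have h5 : z • (n - ψ m') = ψ (mz - z • m') := by
        rw [smul_sub, map_sub, map_smul, hmz]
      have h6 : x • (mz - z • m') = 0 := by
        apply hψ
        rw [map_smul, ← h5, map_zero, smul_comm, hxn, smul_zero]
      have h7 : mz - z • m' = 0 := hx (by
        show x • (mz - z • m') = x • (0 : M')
        rw [h6, smul_zero])
      rw [h5, h7, map_zero]


/-- Let `R` be Noetherian and `φ : M → N` a map of `R`-modules with `M` finite. Suppose that for every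
prime `𝔭` either `φ_𝔭` is bijective, or `M_𝔭` has depth at least two and `𝔭` is not an associated
prime of `N`. Then `φ` is bijective. -/
theorem result {R M N : Type u} [CommRing R] [IsNoetherianRing R] [AddCommGroup M]
    [Module R M] [Module.Finite R M] [AddCommGroup N] [Module R N] (φ : M →ₗ[R] N)
    (h : ∀ (p : Ideal R) [p.IsPrime],
      Function.Bijective (LocalizedModule.map p.primeCompl φ) ∨
        (2 ≤ LocCoh.depth (Localization.AtPrime p) (LocalizedModule p.primeCompl M) ∧
          p ∉ associatedPrimes R N)) :
    Function.Bijective φ := by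
  have hinj : Function.Injective φ := by
    rw [← LinearMap.ker_eq_bot]
    by_contra hK
    haveI : Nontrivial (LinearMap.ker φ) := Submodule.nontrivial_iff_ne_bot.2 hK
    obtain ⟨p, hp⟩ := associatedPrimes.nonempty R (LinearMap.ker φ)
    have hpprime : p.IsPrime := hp.isPrime
    have hpM : p ∈ associatedPrimes R M :=
      associatedPrimes.subset_of_injective (f := (LinearMap.ker φ).subtype)
        (Submodule.injective_subtype _) hp
    rcases h p with hb | ⟨hd, -⟩
    · have hKp : Nontrivial (LocalizedModule p.primeCompl (LinearMap.ker φ)) :=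
        Module.mem_support_iff.1 (mem_support_of_mem_associatedPrimes hp)
      have hsub : Subsingleton (LinearMap.ker (LocalizedModule.map p.primeCompl φ)) := by
        rw [LinearMap.ker_eq_bot.2 hb.1]; infer_instance
      exact not_subsingleton _ ((localizedKerEquiv φ p).toEquiv.subsingleton)
    · rw [(depth_localization_eq_zero_iff p).2 hpM] at hd
      exact absurd hd (by norm_num)
  refine ⟨hinj, ?_⟩
  rw [← LinearMap.range_eq_top]
  by_contra hC
  haveI : Nontrivial (N ⧸ LinearMap.range φ) :=
    Submodule.Quotient.nontrivial_iff.2 hC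
  obtain ⟨p, hp⟩ := associatedPrimes.nonempty R (N ⧸ LinearMap.range φ)
  have hpprime : p.IsPrime := hp.isPrime
  obtain ⟨-, c, hc⟩ := isAssociatedPrime_iff.1 hp
  obtain ⟨n, rfl⟩ := Submodule.mkQ_surjective _ c
  have hmem : ∀ r : R, r ∈ p ↔ r • n ∈ LinearMap.range φ := by
    intro r
    rw [hc, Submodule.mem_colon_singleton, ← map_smul, Submodule.mem_bot, Submodule.mkQ_apply,
      Submodule.Quotient.mk_eq_zero]
  have hn' : LocalizedModule.mk n (1 : p.primeCompl) ∉
      LinearMap.range (LocalizedModule.map p.primeCompl φ) := by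
    rintro ⟨x, hx⟩
    obtain ⟨⟨m, s⟩, rfl⟩ := Quotient.exists_rep x
    change LocalizedModule.map p.primeCompl φ (LocalizedModule.mk m s) = _ at hx
    rw [LocalizedModule.map_mk, LocalizedModule.mk_eq] at hx
    obtain ⟨u, hu⟩ := hx
    have h1 : ((u : R) * s) • n ∈ LinearMap.range φ := by
      refine ⟨(u : R) • m, ?_⟩
      rw [map_smul, mul_smul]
      simpa [Submonoid.smul_def] using hu
    have h2 := (hmem _).2 h1
    exact (hpprime.mem_or_mem h2).elim u.2 s.2
  rcases h p with hb | ⟨hd, hpN⟩
  · exact hn' (LinearMap.range_eq_top.2 hb.2 ▸ Submodule.mem_top)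
  · apply hpN
    have hz : ∀ z ∈ maximalIdeal (Localization.AtPrime p),
        z • LocalizedModule.mk n (1 : p.primeCompl) ∈
          LinearMap.range (LocalizedModule.map p.primeCompl φ) := by
      intro z hz
      obtain ⟨a, s, rfl⟩ := IsLocalization.exists_mk'_eq p.primeCompl z
      have ha : a ∈ p := (IsLocalization.AtPrime.mk'_mem_maximal_iff (Localization.AtPrime p) p a s).1 hz
      obtain ⟨m, hm⟩ := (hmem a).1 ha
      refine ⟨LocalizedModule.mk m s, ?_⟩
      rw [LocalizedModule.map_mk, hm, ← Localization.mk_eq_mk', LocalizedModule.mk_smul_mk, mul_one]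
    obtain ⟨n'', hn0, hsoc⟩ := exists_socle (LocalizedModule.map p.primeCompl φ)
      (LocalizedModule.map_injective _ φ hinj) hd _ hz hn'
    have hass : maximalIdeal (Localization.AtPrime p) ∈
        associatedPrimes (Localization.AtPrime p) (LocalizedModule p.primeCompl N) := by
      rw [AssociatedPrimes.mem_iff, isAssociatedPrime_iff]
      refine ⟨inferInstance, n'', ?_⟩
      apply le_antisymm
      · intro z hz
        rw [Submodule.mem_colon_singleton, Submodule.mem_bot]
        exact hsoc z hz
      · apply IsLocalRing.le_maximalIdeal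
        intro htop
        have h1 : (1 : Localization.AtPrime p) ∈
            (⊥ : Submodule (Localization.AtPrime p) (LocalizedModule p.primeCompl N)).colon {n''} :=
          htop ▸ Submodule.mem_top
        rw [Submodule.mem_colon_singleton, one_smul, Submodule.mem_bot] at h1
        exact hn0 h1
    have h1 := Module.associatedPrimes.comap_mem_associatedPrimes_of_mem_associatedPrimes_of_isLocalizedModule_of_fg
      p.primeCompl (LocalizedModule.mkLinearMap p.primeCompl N) _ hass
      ((isNoetherianRing_iff_ideal_fg R).mp inferInstance _)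
    rwa [show Ideal.comap (algebraMap R (Localization.AtPrime p))
      (IsLocalRing.maximalIdeal (Localization.AtPrime p)) = p from
      Localization.AtPrime.under_maximalIdeal] at h1

end Groth.Agent.S2090
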