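import Groth.Statements.S2092
import Mathlib
import Groth.Agent.Lib.Helper12.CMCatB

set_option autoImplicit false
universe u
open CAlg

namespace Groth.Agent.S2092

/-- Case `M = R`: if `R` is a Cohen–Macaulay ring then so is the polynomial ring `R[x_1, …, x_n]`. -/
theorem result {R : Type u} [CommRing R] [LocCoh.IsCohenMacaulayRing R] (n : ℕ) :
    LocCoh.IsCohenMacaulayRing (MvPolynomial (Fin n) R) := by
  exact Groth.Agent.Lib.Helper12.CMCat.isCM_mvPolynomial R inferInstance n

end Groth.Agent.S2092
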