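import Groth.Statements.S2094
-- import your own Groth.Agent.* helpers here
import Groth.Agent.Lib.helper10.SmoothSym

set_option autoImplicit false
universe u
open CAlg

namespace Groth.Agent.S2094

/-- The symmetric algebra of an `A`-module is a smooth `A`-algebra exactly when the module is finite
projective. -/
theorem result {A M : Type u} [CommRing A] [AddCommGroup M] [Module A M] :
    Algebra.Smooth A (SymmetricAlgebra A M) ↔ Module.Finite A M ∧ Module.Projective A M := by
  exact H10S2094.main

end Groth.Agent.S2094
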