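import Groth.Statements.S2096
import Groth.Agent.Lib.Helper12.IndEtField
import Groth.Agent.Lib.Helper9.IndEt1
import Mathlib.RingTheory.LocalRing.ResidueField.Fiber
import Mathlib.RingTheory.Artinian.Ring
import Mathlib.RingTheory.HopkinsLevitzki
import Mathlib.FieldTheory.SeparableClosure

set_option autoImplicit false
universe u
open CAlg

namespace Groth.Agent.S2096

/-- Let `B` be a Noetherian ind-étale `A`-algebra (a filtered colimit of étale algebras) and `𝔭` a prime
of `A`. Then only finitely many primes of `B` lie over `𝔭`, the fibre ring `B ⊗ κ(𝔭)` is reduced of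
dimension zero, and each residue field extension `κ(𝔮)/κ(𝔭)` is separable algebraic. -/
theorem result {A B : Type u} [CommRing A] [CommRing B] [Algebra A B] (hB : EtPBC.IsIndEtale A B)
    [IsNoetherianRing B] (p : Ideal A) [p.IsPrime] :
    {q : PrimeSpectrum B | q.asIdeal.LiesOver p}.Finite ∧ IsReduced (p.Fiber B) ∧ ringKrullDim (p.Fiber B) ≤ 0 ∧
      ∀ (q : Ideal B) [q.IsPrime] [q.LiesOver p],
        @Algebra.IsSeparable p.ResidueField q.ResidueField _ _
          (Ideal.ResidueField.mapₐ p q (Algebra.ofId A B) (q.over_def p)).toRingHom.toAlgebra := by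
  classical
  have hF : EtPBC.IsIndEtale p.ResidueField (p.Fiber B) :=
    Groth.Agent.Lib.Helper9.IndEt.isIndEtale_baseChange A p.ResidueField B hB
  haveI hred : IsReduced (p.Fiber B) := Groth.Agent.Lib.Helper12.IndEtField.isReduced _ _ hF
  haveI hint : Algebra.IsIntegral p.ResidueField (p.Fiber B) :=
    Groth.Agent.Lib.Helper12.IndEtField.isIntegral _ _ hF
  haveI hdim : Ring.KrullDimLE 0 (p.Fiber B) := by
    refine Ring.KrullDimLE.mk₀ fun P hP => ?_
    haveI := hP
    haveI : (P.comap (algebraMap p.ResidueField (p.Fiber B))).IsMaximal := by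
      have h1 : (P.comap (algebraMap p.ResidueField (p.Fiber B))).IsPrime := Ideal.comap_isPrime _ _
      rw [Ideal.eq_bot_of_prime (P.comap (algebraMap p.ResidueField (p.Fiber B)))]
      exact Ideal.bot_isMaximal
    exact Ideal.isMaximal_of_isIntegral_of_isMaximal_comap (R := p.ResidueField) P ‹_›
  haveI : IsNoetherianRing (p.Fiber B) := by
    haveI : Algebra.EssFiniteType B (TensorProduct A B p.ResidueField) := inferInstance
    haveI : IsNoetherianRing (TensorProduct A B p.ResidueField) :=
      Algebra.EssFiniteType.isNoetherianRing B _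
    exact isNoetherianRing_of_ringEquiv _
      (Algebra.TensorProduct.comm A B p.ResidueField).toRingEquiv
  haveI : IsArtinianRing (p.Fiber B) := IsNoetherianRing.isArtinianRing_of_krullDimLE_zero
  refine ⟨?_, hred, Ring.krullDimLE_iff.1 hdim, ?_⟩
  · haveI : Finite (p.primesOver B) :=
      Finite.of_equiv _ (PrimeSpectrum.primesOverOrderIsoFiber A B p).symm.toEquiv
    have hfin : (p.primesOver B).Finite := Set.toFinite _
    have hpre := hfin.preimage (f := fun q : PrimeSpectrum B => q.asIdeal)
      (fun q _ q' _ h => PrimeSpectrum.ext h)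
    refine hpre.subset ?_
    intro q hq
    exact ⟨q.2, hq⟩
  · intro q _ _
    letI alg : Algebra p.ResidueField q.ResidueField :=
      (Ideal.ResidueField.mapₐ p q (Algebra.ofId A B) (q.over_def p)).toRingHom.toAlgebra
    haveI : IsScalarTower A p.ResidueField q.ResidueField := by
      refine IsScalarTower.of_algebraMap_eq fun a => ?_
      show algebraMap A q.ResidueField a =
        Ideal.ResidueField.mapₐ p q (Algebra.ofId A B) (q.over_def p) (algebraMap A p.ResidueField a)
      rw [AlgHom.commutes]
    let θ : p.Fiber B →ₐ[p.ResidueField] q.ResidueField :=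
      Algebra.TensorProduct.lift (Algebra.ofId _ _) (IsScalarTower.toAlgHom A B q.ResidueField)
        (fun _ _ => Commute.all _ _)
    have hθ : ∀ b : B, θ (1 ⊗ₜ[A] b) = algebraMap B q.ResidueField b := fun b => by
      simp [θ]
    have hB' : ∀ b : B, IsSeparable p.ResidueField (algebraMap B q.ResidueField b) := by
      intro b
      rw [← hθ]
      exact Groth.Agent.Lib.Helper12.IndEtField.isSeparable_map _ _ hF θ _
    refine ⟨fun y => ?_⟩
    obtain ⟨z, rfl⟩ := IsLocalRing.residue_surjective y
    obtain ⟨b, s, rfl⟩ := IsLocalization.exists_mk'_eq q.primeCompl z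
    have h1 : IsLocalRing.residue (Localization.AtPrime q) (IsLocalization.mk' _ b s) *
        algebraMap B q.ResidueField s = algebraMap B q.ResidueField b := by
      show IsLocalRing.residue _ _ * IsLocalRing.residue _ (algebraMap B _ (s : B)) =
        IsLocalRing.residue _ (algebraMap B _ b)
      rw [← map_mul, IsLocalization.mk'_spec]
    have hs0 : algebraMap B q.ResidueField s ≠ 0 := by
      rw [Ne, Ideal.algebraMap_residueField_eq_zero]
      exact s.2
    have h2 : IsLocalRing.residue (Localization.AtPrime q) (IsLocalization.mk' _ b s) =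
        algebraMap B q.ResidueField b / algebraMap B q.ResidueField s := by
      rw [eq_div_iff hs0, h1]
    rw [h2]
    have hb := hB' b
    have hs := hB' s
    rw [← mem_separableClosure_iff] at hb hs ⊢
    exact div_mem hb hs

end Groth.Agent.S2096
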