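import Groth.Statements.S2097
import Mathlib.RingTheory.Noetherian.Nilpotent
import Mathlib.RingTheory.FinitePresentation

set_option autoImplicit false
universe u
open CAlg

namespace Groth.Agent.S2097

/-- Let `R → S` be smooth, `A` an `R`-algebra and `I ⊆ A` an ideal all of whose elements are nilpotent.
Every `R`-algebra map `S → A/I` lifts to an `R`-algebra map `S → A`. -/
theorem result {R S A : Type u} [CommRing R] [CommRing S] [Algebra R S] [Algebra.Smooth R S]
    [CommRing A] [Algebra R A] (I : Ideal A) (hI : ∀ x ∈ I, IsNilpotent x) (g : S →ₐ[R] A ⧸ I) :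
    ∃ f : S →ₐ[R] A, (Ideal.Quotient.mkₐ R I).comp f = g := by
  obtain ⟨n, π, hπ, hK⟩ := Algebra.FinitePresentation.out (R := R) (A := S)
  -- lift the images of the variables
  choose a ha using fun i => Ideal.Quotient.mk_surjective (I := I) (g (π (MvPolynomial.X i)))
  let h : MvPolynomial (Fin n) R →ₐ[R] A := MvPolynomial.aeval a
  have hh : (Ideal.Quotient.mkₐ R I).comp h = g.comp π := by
    apply MvPolynomial.algHom_ext
    intro i
    simp [h, ha]
  let K : Ideal (MvPolynomial (Fin n) R) := RingHom.ker π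
  have hK' : K.FG := hK
  let I' : Ideal A := K.map h.toRingHom
  have hI'fg : I'.FG := hK'.map _
  have hI'le : I' ≤ I := by
    rw [Ideal.map_le_iff_le_comap]
    intro k hk
    rw [Ideal.mem_comap, ← Ideal.Quotient.eq_zero_iff_mem]
    have := AlgHom.congr_fun hh k
    simp only [AlgHom.comp_apply, Ideal.Quotient.mkₐ_eq_mk] at this
    change Ideal.Quotient.mk I (h k) = 0
    rw [this]
    have hk' : π k = 0 := hk
    rw [hk', map_zero]
  have hI'nil : IsNilpotent I' := by
    rw [hI'fg.isNilpotent_iff_le_nilradical]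
    intro x hx
    exact hI x (hI'le hx)
  -- the map S → A ⧸ I'
  let e := Ideal.quotientKerAlgEquivOfSurjective hπ
  have hker : ∀ p : MvPolynomial (Fin n) R, p ∈ RingHom.ker π →
      ((Ideal.Quotient.mkₐ R I').comp h) p = 0 := by
    intro p hp
    simp only [AlgHom.comp_apply, Ideal.Quotient.mkₐ_eq_mk]
    rw [Ideal.Quotient.eq_zero_iff_mem]
    exact Ideal.mem_map_of_mem _ hp
  let g' : S →ₐ[R] A ⧸ I' :=
    (Ideal.Quotient.liftₐ (RingHom.ker π) ((Ideal.Quotient.mkₐ R I').comp h) hker).comp
      e.symm.toAlgHom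
  obtain ⟨f, hf⟩ := Algebra.FormallySmooth.exists_lift I' hI'nil g'
  refine ⟨f, ?_⟩
  ext s
  obtain ⟨p, rfl⟩ := hπ s
  have h1 : Ideal.Quotient.mk I' (f (π p)) = Ideal.Quotient.mk I' (h p) := by
    have := AlgHom.congr_fun hf (π p)
    simp only [AlgHom.comp_apply, Ideal.Quotient.mkₐ_eq_mk] at this
    rw [this]
    simp only [g', AlgHom.comp_apply]
    have he : e.symm.toAlgHom (π p) = Ideal.Quotient.mk _ p := by
      change e.symm (π p) = _
      rw [AlgEquiv.symm_apply_eq]
      rfl
    rw [he]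
    rfl
  rw [Ideal.Quotient.eq] at h1
  have h2 : Ideal.Quotient.mk I (f (π p)) = Ideal.Quotient.mk I (h p) := by
    rw [Ideal.Quotient.eq]
    exact hI'le h1
  simp only [AlgHom.comp_apply, Ideal.Quotient.mkₐ_eq_mk]
  rw [h2]
  have := AlgHom.congr_fun hh p
  simpa using this

end Groth.Agent.S2097
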