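import Groth.Statements.S2101
import Mathlib
-- import your own Groth.Agent.* helpers here

set_option autoImplicit false
set_option linter.unusedSectionVars false
set_option linter.style.haveILetI false
set_option linter.unusedVariables false
set_option linter.deprecated false
universe u
open CAlg

namespace Groth.Agent.S2101

section SecA


open RingTheory.Sequence

variable {A : Type*} [CommRing A]

/-- `a` is a nonzerodivisor modulo `I`. -/
def Nzd (a : A) (I : Ideal A) : Prop := ∀ c, a * c ∈ I → c ∈ I

lemma isSMulRegular_quot_iff (a : A) (I : Ideal A) :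
    IsSMulRegular (A ⧸ (I • ⊤ : Submodule A A)) a ↔ Nzd a I := by
  rw [isSMulRegular_quotient_iff_mem_of_smul_mem]
  have : (I • ⊤ : Submodule A A) = I := by
    rw [Ideal.smul_eq_mul, Ideal.mul_top]
  rw [this]
  rfl

lemma mem_take_ofFn {r : ℕ} (g : Fin r → A) (i : ℕ) (x : A) :
    x ∈ (List.ofFn g).take i ↔ ∃ j : Fin r, j.val < i ∧ g j = x := by
  rw [List.mem_take_iff_getElem]
  constructor
  · rintro ⟨j, hj, rfl⟩
    rw [List.length_ofFn] at hj
    refine ⟨⟨j, (lt_min_iff.mp hj).2⟩, (lt_min_iff.mp hj).1, ?_⟩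
    rw [List.getElem_ofFn]
  · rintro ⟨j, hj, rfl⟩
    refine ⟨j.val, ?_, ?_⟩
    · rw [List.length_ofFn]
      exact lt_min hj j.isLt
    · rw [List.getElem_ofFn]

lemma ofList_take_ofFn {r : ℕ} (g : Fin r → A) (k : Fin r) :
    Ideal.ofList ((List.ofFn g).take k) = Ideal.span (g '' {j | j < k}) := by
  unfold Ideal.ofList
  congr 1
  ext x
  simp only [Set.mem_setOf_eq, mem_take_ofFn, Set.mem_image]
  constructor
  · rintro ⟨j, hj, rfl⟩
    exact ⟨j, hj, rfl⟩
  · rintro ⟨j, hj, rfl⟩
    exact ⟨j, hj, rfl⟩

lemma ofList_ofFn {r : ℕ} (g : Fin r → A) :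
    Ideal.ofList (List.ofFn g) = Ideal.span (Set.range g) := by
  unfold Ideal.ofList
  congr 1
  ext x
  simp [List.mem_ofFn]

theorem isRegular_ofFn_iff {r : ℕ} (g : Fin r → A) :
    IsRegular A (List.ofFn g) ↔
      (∀ k : Fin r, Nzd (g k) (Ideal.span (g '' {j | j < k}))) ∧
      Ideal.span (Set.range g) ≠ ⊤ := by
  rw [isRegular_iff, isWeaklyRegular_iff]
  have h2 : (Ideal.ofList (List.ofFn g) • ⊤ : Submodule A A) = Ideal.span (Set.range g) := by
    rw [Ideal.smul_eq_mul, Ideal.mul_top, ofList_ofFn]
  rw [h2]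
  constructor
  · rintro ⟨h, hne⟩
    refine ⟨fun k => ?_, fun h' => hne h'.symm⟩
    have := h k.val (by rw [List.length_ofFn]; exact k.isLt)
    rw [isSMulRegular_quot_iff, ofList_take_ofFn g k, List.getElem_ofFn] at this
    exact this
  · rintro ⟨h, hne⟩
    refine ⟨fun i hi => ?_, fun h' => hne h'.symm⟩
    rw [List.length_ofFn] at hi
    have := h ⟨i, hi⟩
    rw [isSMulRegular_quot_iff, List.getElem_ofFn]
    have e := ofList_take_ofFn g ⟨i, hi⟩
    simp only at e
    rw [e]
    exact this


end SecA

section SecB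


variable {A : Type*} [CommRing A]


/-- transposition lemma -/
lemma nzd_swap (a b : A) (I : Ideal A) (ha : Nzd a I) (hb : Nzd b (I ⊔ Ideal.span {a})) :
    Nzd a (I ⊔ Ideal.span {b}) := by
  intro c hc
  obtain ⟨i, hi, y, hy, hiy⟩ := Submodule.mem_sup.mp hc
  obtain ⟨d, rfl⟩ := Ideal.mem_span_singleton'.mp hy
  -- a * c = i + d * b
  have h1 : b * d ∈ I ⊔ Ideal.span {a} := by
    have : b * d = a * c - i := by rw [← hiy]; ring
    rw [this]
    refine Submodule.sub_mem _ ?_ (Submodule.mem_sup_left hi)
    exact Submodule.mem_sup_right (Ideal.mem_span_singleton'.mpr ⟨c, by ring⟩)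
  have h2 := hb d h1
  obtain ⟨i', hi', y', hy', hiy'⟩ := Submodule.mem_sup.mp h2
  obtain ⟨e, rfl⟩ := Ideal.mem_span_singleton'.mp hy'
  -- d = i' + e * a
  have h3 : a * (c - b * e) ∈ I := by
    have : a * (c - b * e) = i + b * i' := by
      rw [← hiy'] at hiy
      linear_combination hiy.symm
    rw [this]
    exact Submodule.add_mem _ hi (Ideal.mul_mem_left _ _ hi')
  have h4 := ha _ h3
  have : c = (c - b * e) + e * b := by ring
  rw [this]
  exact Submodule.add_mem _ (Submodule.mem_sup_left h4)
    (Submodule.mem_sup_right (Ideal.mem_span_singleton'.mpr ⟨e, rfl⟩))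

variable {r : ℕ} (f : Fin r → A)

/-- `f i` is a nonzerodivisor modulo `(f j : j ∈ S)`. -/
def Q (i : Fin r) (S : Finset (Fin r)) : Prop := Nzd (f i) (Ideal.span (f '' (S : Set (Fin r))))

lemma span_image_insert (S : Finset (Fin r)) (k : Fin r) :
    Ideal.span (f '' ((insert k S : Finset (Fin r)) : Set (Fin r))) =
      Ideal.span (f '' (S : Set (Fin r))) ⊔ Ideal.span {f k} := by
  rw [Finset.coe_insert, Set.image_insert_eq, ← Set.union_singleton, Ideal.span_union]

theorem Q_all (h : ∀ i S, (∀ j ∈ S, j < i) → Q f i S) :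
    ∀ i S, i ∉ S → Q f i S := by
  intro i S
  induction hn : (S.filter (fun j => i < j)).card using Nat.strong_induction_on generalizing S with
  | _ n ih =>
    intro hiS
    by_cases h0 : (S.filter (fun j => i < j)) = ∅
    · apply h
      intro j hj
      have : j ∉ S.filter (fun j => i < j) := by rw [h0]; exact Finset.notMem_empty _
      rw [Finset.mem_filter, not_and] at this
      have h1 := this hj
      rcases lt_trichotomy j i with h2 | h2 | h2
      · exact h2
      · exact absurd (h2 ▸ hj) hiS
      · exact absurd h2 h1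
    · have hne : (S.filter (fun j => i < j)).Nonempty := Finset.nonempty_iff_ne_empty.mpr h0
      have hSne : S.Nonempty := hne.mono (Finset.filter_subset _ _)
      set k := S.max' hSne with hk
      have hkS : k ∈ S := Finset.max'_mem _ _
      have hik : i < k := by
        obtain ⟨j, hj⟩ := hne
        rw [Finset.mem_filter] at hj
        exact lt_of_lt_of_le hj.2 (Finset.le_max' _ _ hj.1)
      set S' := S.erase k with hS'
      have hS : S = insert k S' := (Finset.insert_erase hkS).symm
      have hlt : ∀ j ∈ S', j < k := by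
        intro j hj
        rw [Finset.mem_erase] at hj
        exact lt_of_le_of_ne (Finset.le_max' _ _ hj.2) hj.1
      have hcard : (S'.filter (fun j => i < j)).card < n := by
        rw [← hn]
        apply Finset.card_lt_card
        rw [Finset.ssubset_iff_of_subset (Finset.filter_subset_filter _ (Finset.erase_subset _ _))]
        refine ⟨k, Finset.mem_filter.mpr ⟨hkS, hik⟩, ?_⟩
        rw [Finset.mem_filter, not_and]
        intro hk'
        exact absurd hk' (Finset.notMem_erase _ _)
      have hiS' : i ∉ S' := fun hh => hiS (Finset.mem_of_mem_erase hh)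
      have q1 : Q f i S' := ih _ hcard S' rfl hiS'
      have q2 : Q f k (insert i S') := by
        apply h
        intro j hj
        rw [Finset.mem_insert] at hj
        rcases hj with rfl | hj
        · exact hik
        · exact hlt j hj
      unfold Q at q1 q2 ⊢
      rw [span_image_insert] at q2
      rw [hS, span_image_insert]
      exact nzd_swap _ _ _ q1 q2


end SecB

section SecC


open RingTheory.Sequence

variable {r : ℕ}

/-- a permutation listing `S` first and then `i`. -/
lemma exists_perm (S : Finset (Fin r)) (i : Fin r) (hi : i ∉ S) :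
    ∃ (σ : Equiv.Perm (Fin r)) (k : Fin r), σ k = i ∧
      (Finset.univ.filter (fun j => j < k)).image σ = S := by
  classical
  have hs : S.card < r := by
    have h1 : (insert i S).card ≤ (Finset.univ : Finset (Fin r)).card := Finset.card_le_univ _
    rw [Finset.card_insert_of_notMem hi, Finset.card_univ, Fintype.card_fin] at h1
    omega
  let k : Fin r := ⟨S.card, hs⟩
  have hc1 : Fintype.card {j : Fin r // j < k} = Fintype.card {x : Fin r // x ∈ S} := by
    rw [Fintype.card_subtype, Fintype.card_coe]
    have : (Finset.univ.filter (fun j : Fin r => j < k)) = Finset.Iio k := by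
      ext j; simp
    rw [this, Fin.card_Iio]
  have hc2 : Fintype.card {j : Fin r // ¬ j < k} = Fintype.card {x : Fin r // ¬ x ∈ S} := by
    rw [Fintype.card_subtype_compl, Fintype.card_subtype_compl, hc1]
  let e1 : {j : Fin r // j < k} ≃ {x : Fin r // x ∈ S} := Fintype.equivOfCardEq hc1
  let e2 : {j : Fin r // ¬ j < k} ≃ {x : Fin r // ¬ x ∈ S} := Fintype.equivOfCardEq hc2
  let σ₀ : Equiv.Perm (Fin r) := Equiv.subtypeCongr e1 e2
  have hσ₀ : ∀ j, σ₀ j ∈ S ↔ j < k := by
    intro j
    by_cases hj : j < k
    · have : σ₀ j = e1 ⟨j, hj⟩ := by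
        simp [σ₀, Equiv.subtypeCongr, Equiv.sumCompl_symm_apply_of_pos, hj]
      rw [this]
      exact ⟨fun _ => hj, fun _ => (e1 ⟨j, hj⟩).2⟩
    · have : σ₀ j = e2 ⟨j, hj⟩ := by
        simp [σ₀, Equiv.subtypeCongr, Equiv.sumCompl_symm_apply_of_neg, hj]
      rw [this]
      exact ⟨fun h => absurd h (e2 ⟨j, hj⟩).2, fun h => absurd h hj⟩
  have hk : σ₀ k ∉ S := by
    rw [hσ₀]
    exact lt_irrefl _
  let σ : Equiv.Perm (Fin r) := σ₀.trans (Equiv.swap (σ₀ k) i)
  refine ⟨σ, k, ?_, ?_⟩
  · change Equiv.swap (σ₀ k) i (σ₀ k) = i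
    exact Equiv.swap_apply_left _ _
  · have hσ : ∀ j, j < k → σ j = σ₀ j := by
      intro j hj
      change Equiv.swap (σ₀ k) i (σ₀ j) = σ₀ j
      have hj' : σ₀ j ∈ S := (hσ₀ j).mpr hj
      apply Equiv.swap_apply_of_ne_of_ne
      · intro h; exact hk (h ▸ hj')
      · intro h; exact hi (h ▸ hj')
    apply Finset.eq_of_subset_of_card_le
    · intro x hx
      rw [Finset.mem_image] at hx
      obtain ⟨j, hj, rfl⟩ := hx
      rw [Finset.mem_filter] at hj
      rw [hσ j hj.2]
      exact (hσ₀ j).mpr hj.2
    · rw [Finset.card_image_of_injective _ σ.injective]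
      have : (Finset.univ.filter (fun j : Fin r => j < k)) = Finset.Iio k := by
        ext j; simp
      rw [this, Fin.card_Iio]


end SecC

section SecD


open MvPolynomial

variable {R : Type*} [CommRing R] {r : ℕ} (f : Fin r → R)


/-- the coefficient ideal -/
def Icoef (T : Set (Fin r)) (m : Fin r →₀ ℕ) : Ideal R := Ideal.span (f '' {j | j ∈ T ∧ m j ≠ 0})

lemma Icoef_mono (T : Set (Fin r)) {b m : Fin r →₀ ℕ} (h : b ≤ m) : Icoef f T b ≤ Icoef f T m := by
  apply Ideal.span_mono
  apply Set.image_mono
  rintro j ⟨hj, hb⟩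
  refine ⟨hj, fun h0 => hb ?_⟩
  have := h j
  omega

/-- the generators -/
noncomputable def gen (i : Fin r) : MvPolynomial (Fin r) R := C (f i) * X i

/-- polynomials with coefficients in the coefficient ideals -/
def K (T : Set (Fin r)) : Ideal (MvPolynomial (Fin r) R) where
  carrier := {p | ∀ m, coeff m p ∈ Icoef f T m}
  add_mem' := by
    intro p q hp hq m
    rw [coeff_add]
    exact Ideal.add_mem _ (hp m) (hq m)
  zero_mem' := by
    intro m
    rw [coeff_zero]
    exact Ideal.zero_mem _
  smul_mem' := by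
    intro q p hp m
    rw [smul_eq_mul, coeff_mul]
    apply Ideal.sum_mem
    rintro ⟨a, b⟩ hab
    apply Ideal.mul_mem_left
    have hab : a + b = m := Finset.HasAntidiagonal.mem_antidiagonal.mp hab
    refine Icoef_mono f T ?_ (hp b)
    rw [← hab]
    exact le_add_self

lemma mem_K (T : Set (Fin r)) (p : MvPolynomial (Fin r) R) :
    p ∈ K f T ↔ ∀ m, coeff m p ∈ Icoef f T m := Iff.rfl

lemma monomial_mem (T : Set (Fin r)) (m : Fin r →₀ ℕ) (c : R) (hc : c ∈ Icoef f T m) :
    monomial m c ∈ Ideal.span (gen f '' T) := by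
  unfold Icoef at hc
  induction hc using Submodule.span_induction with
  | mem x hx =>
    obtain ⟨j, ⟨hjT, hj⟩, rfl⟩ := hx
    have h1 : monomial m (f j) = monomial (m - Finsupp.single j 1) 1 * gen f j := by
      unfold gen
      rw [C_mul_X_eq_monomial, monomial_mul, one_mul]
      have hle : Finsupp.single j 1 ≤ m := by
        rw [Finsupp.single_le_iff]
        omega
      rw [tsub_add_cancel_of_le hle]
    rw [h1]
    exact Ideal.mul_mem_left _ _ (Ideal.subset_span ⟨j, hjT, rfl⟩)
  | zero => rw [monomial_zero]; exact Ideal.zero_mem _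
  | add x y _ _ hx hy => rw [(monomial m).map_add]; exact Ideal.add_mem _ hx hy
  | smul a x _ hx =>
    rw [smul_eq_mul, ← C_mul_monomial]
    exact Ideal.mul_mem_left _ _ hx

theorem span_gen_eq (T : Set (Fin r)) : Ideal.span (gen f '' T) = K f T := by
  apply le_antisymm
  · rw [Ideal.span_le]
    rintro _ ⟨j, hj, rfl⟩ m
    unfold gen
    rw [coeff_C_mul, coeff_X']
    split_ifs with h
    · rw [mul_one]
      apply Ideal.subset_span
      refine ⟨j, ⟨hj, ?_⟩, rfl⟩
      rw [← h, Finsupp.single_eq_same]
      exact one_ne_zero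
    · rw [mul_zero]
      exact Ideal.zero_mem _
  · intro p hp
    rw [← support_sum_monomial_coeff p]
    apply Ideal.sum_mem
    intro m _
    exact monomial_mem f T m _ (hp m)

/-- the indicator monomial of a finset -/
noncomputable def ind (S : Finset (Fin r)) : Fin r →₀ ℕ :=
  Finsupp.equivFunOnFinite.symm (fun j => if j ∈ S then 1 else 0)

lemma ind_apply (S : Finset (Fin r)) (j : Fin r) : ind S j = if j ∈ S then 1 else 0 := rfl

lemma Icoef_add_single (T : Set (Fin r)) (k : Fin r) (hk : k ∉ T) (m : Fin r →₀ ℕ) :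
    Icoef f T (m + Finsupp.single k 1) = Icoef f T m := by
  unfold Icoef
  congr 2
  ext j
  simp only [Set.mem_setOf_eq, Finsupp.coe_add, Pi.add_apply]
  constructor
  · rintro ⟨hj, h⟩
    refine ⟨hj, ?_⟩
    have : j ≠ k := fun e => hk (e ▸ hj)
    rwa [Finsupp.single_eq_of_ne this, add_zero] at h
  · rintro ⟨hj, h⟩
    exact ⟨hj, by omega⟩

lemma coeff_gen_mul (k : Fin r) (p : MvPolynomial (Fin r) R) (m : Fin r →₀ ℕ) :
    coeff (m + Finsupp.single k 1) (gen f k * p) = f k * coeff m p := by
  unfold gen
  rw [mul_assoc, coeff_C_mul, mul_comm (X k) p, coeff_mul_X]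

lemma coeff_gen_mul_of_zero (k : Fin r) (p : MvPolynomial (Fin r) R) (m : Fin r →₀ ℕ)
    (hm : m k = 0) : coeff m (gen f k * p) = 0 := by
  unfold gen
  rw [mul_assoc, coeff_C_mul, mul_comm (X k) p, coeff_mul_X']
  rw [if_neg, mul_zero]
  rw [Finsupp.mem_support_iff, not_not]
  exact hm

theorem nzd_gen_iff (T : Set (Fin r)) (k : Fin r) (hk : k ∉ T) :
    Nzd (gen f k) (Ideal.span (gen f '' T)) ↔
      ∀ S : Finset (Fin r), (∀ j ∈ S, j ∈ T) → Nzd (f k) (Ideal.span (f '' (S : Set (Fin r)))) := by
  classical
  rw [span_gen_eq]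
  constructor
  · intro h S hS c hc
    let m := ind S
    have hI : Icoef f T m = Ideal.span (f '' (S : Set (Fin r))) := by
      unfold Icoef
      congr 2
      ext j
      simp only [Set.mem_setOf_eq, Finset.mem_coe, m, ind_apply]
      constructor
      · rintro ⟨_, h2⟩
        by_contra h3
        rw [if_neg h3] at h2
        exact h2 rfl
      · intro h2
        exact ⟨hS j h2, by rw [if_pos h2]; exact one_ne_zero⟩
    have h1 : gen f k * monomial m c ∈ K f T := by
      intro m'
      have e : gen f k * monomial m c = monomial (m + Finsupp.single k 1) (f k * c) := by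
        unfold gen
        rw [C_mul_X_eq_monomial, monomial_mul, add_comm]
      rw [e, coeff_monomial]
      split_ifs with h2
      · rw [← h2, Icoef_add_single f T k hk, hI]
        exact hc
      · exact Ideal.zero_mem _
    have h2 := h _ h1 m
    rw [coeff_monomial, if_pos rfl, hI] at h2
    exact h2
  · intro h p hp m
    have h1 := hp (m + Finsupp.single k 1)
    rw [coeff_gen_mul, Icoef_add_single f T k hk] at h1
    let S : Finset (Fin r) := Finset.univ.filter (fun j => j ∈ T ∧ m j ≠ 0)
    have hI : Icoef f T m = Ideal.span (f '' (S : Set (Fin r))) := by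
      unfold Icoef
      congr 2
      ext j
      simp [S]
    rw [hI] at h1 ⊢
    refine h S ?_ _ h1
    intro j hj
    simp only [S, Finset.mem_filter] at hj
    exact hj.2.1

theorem span_gen_ne_top [Nontrivial R] (T : Set (Fin r)) : Ideal.span (gen f '' T) ≠ ⊤ := by
  rw [span_gen_eq]
  intro h
  have h1 : (1 : MvPolynomial (Fin r) R) ∈ K f T := by rw [h]; exact Submodule.mem_top
  have h2 := h1 0
  have h3 : Icoef f T 0 = ⊥ := by
    unfold Icoef
    have : {j | j ∈ T ∧ (0 : Fin r →₀ ℕ) j ≠ 0} = ∅ := by
      ext j; simp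
    rw [this, Set.image_empty, Ideal.span_empty]
  rw [h3, coeff_one, if_pos rfl, Ideal.mem_bot] at h2
  exact one_ne_zero h2


end SecD

open RingTheory.Sequence

/-- For elements `f_1, …, f_r` generating a proper ideal, all reorderings are regular sequences in `R`
if and only if the products `f_i x_i` form a regular sequence in `R[x_1, …, x_r]`. -/
theorem result {R : Type u} [CommRing R] {r : ℕ} (f : Fin r → R)
    (hf : Ideal.span (Set.range f) ≠ ⊤) :
    (∀ σ : Equiv.Perm (Fin r), RingTheory.Sequence.IsRegular R (List.ofFn (f ∘ σ))) ↔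
      RingTheory.Sequence.IsRegular (MvPolynomial (Fin r) R)
        (List.ofFn fun i => MvPolynomial.C (f i) * MvPolynomial.X i) := by
  classical
  have hnt : Nontrivial R := by
    by_contra h
    rw [not_nontrivial_iff_subsingleton] at h
    exact hf (Subsingleton.elim _ _)
  -- left side
  have hL : (∀ σ : Equiv.Perm (Fin r), RingTheory.Sequence.IsRegular R (List.ofFn (f ∘ σ))) ↔
      ∀ i S, i ∉ S → Q f i S := by
    constructor
    · intro h i S hi
      obtain ⟨σ, k, hk, hS⟩ := exists_perm S i hi
      have h1 := ((isRegular_ofFn_iff (f ∘ σ)).mp (h σ)).1 k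
      have e : (f ∘ σ) '' {j | j < k} = f '' (S : Set (Fin r)) := by
        rw [Set.image_comp, ← hS, Finset.coe_image]
        congr 1
        ext j
        simp
      rw [e] at h1
      simp only [Function.comp_apply, hk] at h1
      exact h1
    · intro h σ
      rw [isRegular_ofFn_iff]
      refine ⟨fun k => ?_, ?_⟩
      · have e : (f ∘ σ) '' {j | j < k} =
            f '' (((Finset.univ.filter (fun j => j < k)).image σ : Finset (Fin r)) : Set (Fin r)) := by
          rw [Set.image_comp, Finset.coe_image]
          congr 2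
          ext j
          simp
        rw [e]
        apply h
        intro hk
        rw [Finset.mem_image] at hk
        obtain ⟨j, hj, hjk⟩ := hk
        rw [Finset.mem_filter] at hj
        exact absurd (σ.injective hjk) (ne_of_lt hj.2)
      · rw [σ.surjective.range_comp f]
        exact hf
  -- right side
  have hR : RingTheory.Sequence.IsRegular (MvPolynomial (Fin r) R)
        (List.ofFn fun i => MvPolynomial.C (f i) * MvPolynomial.X i) ↔
      ∀ i S, (∀ j ∈ S, j < i) → Q f i S := by
    change RingTheory.Sequence.IsRegular (MvPolynomial (Fin r) R) (List.ofFn (gen f)) ↔ _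
    rw [isRegular_ofFn_iff]
    constructor
    · rintro ⟨h, -⟩ i S hS
      have := (nzd_gen_iff f {j | j < i} i (lt_irrefl i)).mp (h i) S hS
      exact this
    · intro h
      refine ⟨fun k => ?_, ?_⟩
      · exact (nzd_gen_iff f {j | j < k} k (lt_irrefl k)).mpr (fun S hS => h k S hS)
      · rw [← Set.image_univ]
        exact span_gen_ne_top f Set.univ
  rw [hL, hR]
  constructor
  · intro h i S hS
    exact h i S (fun hi => lt_irrefl i (hS i hi))
  · intro h
    exact Q_all f h

end Groth.Agent.S2101
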