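import Groth.Statements.S2102
import Mathlib
import Groth.Agent.Lib.Helper22.GlueFunctionField
-- import your own Groth.Agent.* helpers here

set_option autoImplicit false
universe u
open CategoryTheory AlgebraicGeometry
open Mor

namespace Groth.Agent.S2102

/-- The ring of global sections of an integral normal scheme is an integrally closed domain. -/
theorem result (X : Scheme.{u}) [IsIntegral X] (hX : Pi1.IsNormalScheme X) :
    IsIntegrallyClosed (Γ(X, ⊤) : Type u) := by
  classical
  let Γ := (Γ(X, ⊤) : Type u)
  let K := X.functionField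
  let F := FractionRing Γ
  have hinj : Function.Injective (algebraMap Γ K) := X.germToFunctionField_injective ⊤
  let ψ : F →+* K := IsFractionRing.lift hinj
  have hψ : ∀ a : Γ, ψ (algebraMap Γ F a) = algebraMap Γ K a := fun a =>
    IsFractionRing.lift_algebraMap hinj a
  rw [isIntegrallyClosed_iff F]
  intro x hx
  obtain ⟨P, hP, hPx⟩ := hx
  have hstalk : ∀ p : X, ∃ g : X.presheaf.stalk p,
      algebraMap (X.presheaf.stalk p) K g = ψ x := by
    intro p
    have hic : IsIntegrallyClosed (X.presheaf.stalk p) := (hX p).2
    have hint : IsIntegral (X.presheaf.stalk p) (ψ x) := by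
      refine ⟨P.map (X.presheaf.germ ⊤ p trivial).hom, hP.map _, ?_⟩
      rw [Polynomial.eval₂_map]
      have h1 := congrArg ψ hPx
      rw [Polynomial.hom_eval₂, map_zero] at h1
      have h2 : ψ.comp (algebraMap Γ F) =
          (algebraMap (X.presheaf.stalk p) K).comp (X.presheaf.germ ⊤ p trivial).hom := by
        ext a
        rw [RingHom.comp_apply, hψ, RingHom.comp_apply]
        exact (Scheme.algebraMap_germ_eq_germToFunctionField X (U := ⊤) (x := p) trivial a).symm
      rw [h2] at h1
      exact h1
    exact (isIntegrallyClosed_iff K).1 hic hint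
  obtain ⟨s, hs⟩ := Helper22.exists_section_of_forall_mem_stalk X (ψ x) hstalk
  refine ⟨s, ?_⟩
  apply ψ.injective
  rw [hψ]
  exact hs

end Groth.Agent.S2102
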