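import Groth.Statements.S2105
import Mathlib

set_option autoImplicit false
universe u
open CAlg

namespace Groth.Agent.S2105

theorem h1_append {A : Type u} [CommRing A] {n m : ℕ} (f : Fin n → A)
    (g : Fin m → A) (hf : CAlgX.IsH1Regular f)
    (hg : CAlgX.IsH1Regular (fun j => Ideal.Quotient.mk (Ideal.span (Set.range f)) (g j))) :
    CAlgX.IsH1Regular (Fin.append f g) := by
  classical
  intro c hc
  set h := Fin.append f g with hh
  set J := Ideal.span (Set.range f) with hJ
  set T := Submodule.span A {v : Fin (n + m) → A | ∃ i j, v = Pi.single i (h j) - Pi.single j (h i)}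
    with hT
  -- elements of T are relations
  have hrel : ∀ v ∈ T, ∑ k, v k * h k = 0 := by
    intro v hv
    induction hv using Submodule.span_induction with
    | mem v hv =>
      obtain ⟨i, j, rfl⟩ := hv
      simp only [Pi.sub_apply, Pi.single_apply, sub_mul, Finset.sum_sub_distrib, ite_mul, zero_mul,
        Finset.sum_ite_eq', Finset.mem_univ, if_true]
      ring
    | zero => simp
    | add x y _ _ hx hy => simp only [Pi.add_apply, add_mul, Finset.sum_add_distrib, hx, hy, add_zero]
    | smul r x _ hx =>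
      simp only [Pi.smul_apply, smul_eq_mul, mul_assoc, ← Finset.mul_sum, hx, mul_zero]
  -- embeddings
  let ιL : (Fin n → A) →ₗ[A] (Fin (n + m) → A) :=
    LinearMap.pi (fun k => Fin.addCases (fun i => LinearMap.proj i) (fun _ => 0) k)
  let ιR : (Fin m → A) →ₗ[A] (Fin (n + m) → A) :=
    LinearMap.pi (fun k => Fin.addCases (fun _ => 0) (fun j => LinearMap.proj j) k)
  have hιL_l : ∀ (a : Fin n → A) (i : Fin n), ιL a (Fin.castAdd m i) = a i := by
    intro a i; simp [ιL]
  have hιL_r : ∀ (a : Fin n → A) (j : Fin m), ιL a (Fin.natAdd n j) = 0 := by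
    intro a j; simp [ιL]
  have hιR_l : ∀ (b : Fin m → A) (i : Fin n), ιR b (Fin.castAdd m i) = 0 := by
    intro b i; simp [ιR]
  have hιR_r : ∀ (b : Fin m → A) (j : Fin m), ιR b (Fin.natAdd n j) = b j := by
    intro b j; simp [ιR]
  have hne : ∀ (i : Fin n) (j : Fin m), Fin.castAdd m i ≠ Fin.natAdd n j := by
    intro i j h'
    have := congrArg Fin.val h'
    simp at this
    omega
  have hιL_single : ∀ (i : Fin n) (x : A), ιL (Pi.single i x) = Pi.single (Fin.castAdd m i) x := by
    intro i x
    ext k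
    refine Fin.addCases (fun i' => ?_) (fun j' => ?_) k
    · rw [hιL_l]; simp [Pi.single_apply]
    · rw [hιL_r]; simp [Pi.single_apply]
      intro h'; exact absurd h'.symm (hne _ _)
  have hιR_single : ∀ (j : Fin m) (x : A), ιR (Pi.single j x) = Pi.single (Fin.natAdd n j) x := by
    intro j x
    ext k
    refine Fin.addCases (fun i' => ?_) (fun j' => ?_) k
    · rw [hιR_l]; simp [Pi.single_apply]
      intro h'; exact absurd h' (hne _ _)
    · rw [hιR_r]; simp [Pi.single_apply]
  have hmapL : ∀ v ∈ Submodule.span A {v : Fin n → A | ∃ i j, v = Pi.single i (f j) - Pi.single j (f i)},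
      ιL v ∈ T := by
    intro v hv
    have : Submodule.span A {v : Fin n → A | ∃ i j, v = Pi.single i (f j) - Pi.single j (f i)} ≤
        T.comap ιL := by
      refine Submodule.span_le.mpr ?_
      rintro _ ⟨i, j, rfl⟩
      rw [SetLike.mem_coe, Submodule.mem_comap, map_sub, hιL_single, hιL_single]
      exact Submodule.subset_span ⟨Fin.castAdd m i, Fin.castAdd m j, by simp [h]⟩
    exact this hv
  have hmapR : ∀ v ∈ Submodule.span A {v : Fin m → A | ∃ i j, v = Pi.single i (g j) - Pi.single j (g i)},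
      ιR v ∈ T := by
    intro v hv
    have : Submodule.span A {v : Fin m → A | ∃ i j, v = Pi.single i (g j) - Pi.single j (g i)} ≤
        T.comap ιR := by
      refine Submodule.span_le.mpr ?_
      rintro _ ⟨i, j, rfl⟩
      rw [SetLike.mem_coe, Submodule.mem_comap, map_sub, hιR_single, hιR_single]
      exact Submodule.subset_span ⟨Fin.natAdd n i, Fin.natAdd n j, by simp [h]⟩
    exact this hv
  -- the relation splits
  have hsplit : ∑ i, c (Fin.castAdd m i) * f i + ∑ j, c (Fin.natAdd n j) * g j = 0 := by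
    rw [← hc, Fin.sum_univ_add]
    simp [h]
  -- reduce the g-part modulo J
  have hbbar : ∑ j, (Ideal.Quotient.mk J (c (Fin.natAdd n j))) * (Ideal.Quotient.mk J (g j)) = 0 := by
    have h1 : ∑ j, c (Fin.natAdd n j) * g j = -∑ i, c (Fin.castAdd m i) * f i := by
      linear_combination hsplit
    have h2 : ∑ i, c (Fin.castAdd m i) * f i ∈ J :=
      Ideal.sum_mem _ fun i _ => Ideal.mul_mem_left _ _ (Ideal.subset_span (Set.mem_range_self i))
    simp only [← map_mul, ← map_sum, h1, map_neg]
    rw [Ideal.Quotient.eq_zero_iff_mem.mpr h2, neg_zero]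
  have hspan := hg (fun j => Ideal.Quotient.mk J (c (Fin.natAdd n j))) hbbar
  -- lift
  have hlift : ∀ v ∈ Submodule.span (A ⧸ J) {v : Fin m → A ⧸ J | ∃ i j, v =
        Pi.single i (Ideal.Quotient.mk J (g j)) - Pi.single j (Ideal.Quotient.mk J (g i))},
      ∃ t ∈ Submodule.span A {v : Fin m → A | ∃ i j, v = Pi.single i (g j) - Pi.single j (g i)},
        ∀ j, Ideal.Quotient.mk J (t j) = v j := by
    intro v hv
    induction hv using Submodule.span_induction with
    | mem v hv =>
      obtain ⟨i, j, rfl⟩ := hv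
      refine ⟨Pi.single i (g j) - Pi.single j (g i), Submodule.subset_span ⟨i, j, rfl⟩, fun k => ?_⟩
      simp only [Pi.sub_apply, Pi.single_apply, map_sub]
      split_ifs <;> simp
    | zero => exact ⟨0, Submodule.zero_mem _, fun j => by simp⟩
    | add x y _ _ hx hy =>
      obtain ⟨t₁, ht₁, h₁⟩ := hx
      obtain ⟨t₂, ht₂, h₂⟩ := hy
      exact ⟨t₁ + t₂, Submodule.add_mem _ ht₁ ht₂, fun j => by simp [h₁, h₂]⟩
    | smul r x _ hx =>
      obtain ⟨t₁, ht₁, h₁⟩ := hx
      obtain ⟨r, rfl⟩ := Ideal.Quotient.mk_surjective r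
      exact ⟨r • t₁, Submodule.smul_mem _ _ ht₁, fun j => by simp [h₁]⟩
  obtain ⟨t, ht, htb⟩ := hlift _ hspan
  have hb' : ∀ j, c (Fin.natAdd n j) - t j ∈ J := by
    intro j
    rw [← Ideal.Quotient.eq_zero_iff_mem, map_sub, htb j, sub_self]
  have hd : ∀ j, ∃ d : Fin n → A, ∑ i, d i * f i = c (Fin.natAdd n j) - t j := fun j =>
    Ideal.mem_span_range_iff_exists_fun.mp (hb' j)
  choose d hd using hd
  set c₂ : Fin (n + m) → A := ∑ j, ∑ i, d j i •
    (Pi.single (Fin.natAdd n j) (f i) - Pi.single (Fin.castAdd m i) (g j)) with hc₂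
  have hc₂T : c₂ ∈ T := by
    refine Submodule.sum_mem _ fun j _ => Submodule.sum_mem _ fun i _ => Submodule.smul_mem _ _ ?_
    exact Submodule.subset_span ⟨Fin.natAdd n j, Fin.castAdd m i, by simp [h]⟩
  have hc₁T : ιR t ∈ T := hmapR t ht
  set c₃ := c - ιR t - c₂ with hc₃
  have hc₂r : ∀ j, c₂ (Fin.natAdd n j) = ∑ i, d j i * f i := by
    intro j
    simp only [hc₂, Finset.sum_apply, Pi.smul_apply, Pi.sub_apply, Pi.single_apply, smul_eq_mul]
    have : ∀ (i : Fin n), (Fin.natAdd n j = Fin.castAdd m i) = False := by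
      intro i; exact eq_false (fun h' => hne i j h'.symm)
    simp only [this, if_false, sub_zero, Fin.natAdd_inj, mul_ite, mul_zero]
    rw [Finset.sum_comm]
    simp
  have hc₃r : ∀ j, c₃ (Fin.natAdd n j) = 0 := by
    intro j
    simp only [hc₃, Pi.sub_apply, hιR_r, hc₂r, hd]
    ring
  have hc₃rel : ∑ k, c₃ k * h k = 0 := by
    have h1 := hrel _ hc₁T
    have h2 := hrel _ hc₂T
    simp only [hc₃, Pi.sub_apply, sub_mul, Finset.sum_sub_distrib, hc, h1, h2, sub_zero]
  have ha'' : ∑ i, c₃ (Fin.castAdd m i) * f i = 0 := by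
    rw [Fin.sum_univ_add] at hc₃rel
    simp only [hc₃r, zero_mul, Finset.sum_const_zero, add_zero] at hc₃rel
    simpa [h] using hc₃rel
  have hc₃T : c₃ ∈ T := by
    have := hmapL _ (hf (fun i => c₃ (Fin.castAdd m i)) ha'')
    convert this using 1
    ext k
    refine Fin.addCases (fun i' => ?_) (fun j' => ?_) k
    · rw [hιL_l]
    · rw [hιL_r, hc₃r]
  have : c = c₃ + ιR t + c₂ := by rw [hc₃]; abel
  rw [this]
  exact Submodule.add_mem _ (Submodule.add_mem _ hc₃T hc₁T) hc₂T

/-- Appending to an `H_1`-regular sequence `f` a sequence `g` whose image modulo the ideal `(f)` is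
`H_1`-regular yields an `H_1`-regular sequence. -/
theorem result {A : Type u} [CommRing A] {n m : ℕ} (f : Fin n → A)
    (g : Fin m → A) (hf : CAlgX.IsH1Regular f)
    (hg : CAlgX.IsH1Regular (fun j => Ideal.Quotient.mk (Ideal.span (Set.range f)) (g j))) :
    CAlgX.IsH1Regular (Fin.append f g) := by
  exact h1_append f g hf hg

end Groth.Agent.S2105
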