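import Groth.Statements.S2111
import Mathlib.RingTheory.Ideal.KrullsHeightTheorem
import Mathlib.Order.Minimal

set_option autoImplicit false
universe u
open CAlg

namespace Groth.Agent.S2111

section
variable {R : Type u} [CommRing R] [IsDomain R]

/-- The ideal of denominators of `z`. -/
def col (z : FractionRing R) : Ideal R where
  carrier := {r | algebraMap R (FractionRing R) r * z ∈ Set.range (algebraMap R (FractionRing R))}
  add_mem' := by
    rintro a b ⟨u, hu⟩ ⟨v, hv⟩
    exact ⟨u + v, by rw [map_add, map_add, add_mul, hu, hv]⟩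
  zero_mem' := ⟨0, by simp⟩
  smul_mem' := by
    rintro c a ⟨u, hu⟩
    exact ⟨c * u, by rw [smul_eq_mul, map_mul, map_mul, mul_assoc, hu]⟩

theorem mem_col {z : FractionRing R} {r : R} :
    r ∈ col z ↔ algebraMap R (FractionRing R) r * z ∈ Set.range (algebraMap R (FractionRing R)) :=
  Iff.rfl

end

/-- Let `R` be a Noetherian normal domain with fraction field `K`. An element of `K` which lies in `R_𝔭`
for every prime `𝔭` of height one lies in `R`. -/
theorem result {R : Type u} [CommRing R] [IsDomain R] [IsNoetherianRing R]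
    [IsIntegrallyClosed R] (x : FractionRing R)
    (hx : ∀ (p : Ideal R) [p.IsPrime], p.height = 1 →
      x ∈ Set.range (algebraMap (Localization.AtPrime p) (FractionRing R))) :
    x ∈ Set.range (algebraMap R (FractionRing R)) := by
  classical
  by_contra hxR
  let K := FractionRing R
  let ι := algebraMap R K
  have hιinj : Function.Injective ι := IsFractionRing.injective R K
  -- choose a maximal denominator ideal
  obtain ⟨p, hp⟩ := exists_maximal_of_wellFoundedGT
    (fun I : Ideal R => ∃ y : R, ι y * x ∉ Set.range ι ∧ I = col (ι y * x))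
    ⟨col (ι 1 * x), 1, by simpa using hxR, rfl⟩
  obtain ⟨y, hy, hpy⟩ := hp.prop
  set x' := ι y * x with hx'
  have hpmem : ∀ r, r ∈ p ↔ ι r * x' ∈ Set.range ι := fun r => by rw [hpy]; exact mem_col
  have hpprime : p.IsPrime := by
    constructor
    · intro htop
      have : (1 : R) ∈ p := htop ▸ Submodule.mem_top
      rw [hpmem] at this
      apply hy
      simpa using this
    · intro r s hrs
      by_contra hcon
      push Not at hcon
      obtain ⟨hr, hs⟩ := hcon
      have hs' : ι (s * y) * x ∉ Set.range ι := by
        rw [hpmem] at hs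
        rw [map_mul, mul_assoc]
        exact hs
      have hle : p ≤ col (ι (s * y) * x) := by
        intro t ht
        rw [hpmem] at ht
        obtain ⟨u, hu⟩ := ht
        rw [mem_col]
        refine ⟨s * u, ?_⟩
        rw [map_mul, hu, map_mul, hx']
        ring
      have hle' := hp.le_of_ge ⟨s * y, hs', rfl⟩ hle
      apply hr
      apply hle'
      rw [mem_col]
      rw [hpmem] at hrs
      obtain ⟨u, hu⟩ := hrs
      refine ⟨u, ?_⟩
      rw [hu, map_mul, map_mul, hx']
      ring
  -- write `x` as a fraction
  obtain ⟨a, b, hb, hab⟩ := IsFractionRing.div_surjective (A := R) x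
  have hb0 : (b : R) ≠ 0 := nonZeroDivisors.ne_zero hb
  have hbx : ι b * x = ι a := by
    rw [← hab]
    have : ι b ≠ 0 := fun h => hb0 (hιinj (h.trans (map_zero ι).symm))
    change ι b * (ι a / ι b) = ι a
    rw [mul_comm, div_mul_cancel₀ _ this]
  have hbp : b ∈ p := by
    rw [hpmem]
    refine ⟨y * a, ?_⟩
    rw [hx', map_mul, ← hbx]
    ring
  have hp0 : p ≠ ⊥ := fun h => hb0 (by simpa [h] using hbp)
  by_cases hcase : ∀ r ∈ p, ∀ u, ι r * x' = ι u → u ∈ p
  · -- `x'` is integral
    have hint : IsIntegral R x' := by
      refine isIntegral_of_smul_mem_submodule (M := K) (Submodule.map (Algebra.linearMap R K) p)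
        ?_ ?_ x' ?_
      · intro h
        apply hb0
        have : Algebra.linearMap R K b ∈ Submodule.map (Algebra.linearMap R K) p :=
          Submodule.mem_map_of_mem hbp
        rw [h, Submodule.mem_bot] at this
        exact hιinj (this.trans (map_zero ι).symm)
      · exact (IsNoetherian.noetherian p).map _
      · rintro _ ⟨r, hr, rfl⟩
        obtain ⟨u, hu⟩ := (hpmem r).mp hr
        refine ⟨u, hcase r hr u hu.symm, ?_⟩
        change ι u = x' * ι r
        rw [hu, mul_comm]
    obtain ⟨w, hw⟩ := IsIntegrallyClosed.isIntegral_iff.mp hint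
    exact hy ⟨w, hw⟩
  · push Not at hcase
    obtain ⟨r, hrp, s, hrs, hsp⟩ := hcase
    have hmin : p ∈ (Ideal.span {r}).minimalPrimes := by
      refine ⟨⟨hpprime, (Ideal.span_singleton_le_iff_mem _).mpr hrp⟩, ?_⟩
      rintro q ⟨hq, hrq⟩ hqp t ht
      obtain ⟨u, hu⟩ := (hpmem t).mp ht
      have hrq' : r ∈ q := (Ideal.span_singleton_le_iff_mem _).mp hrq
      have hts : t * s = r * u := by
        apply hιinj
        rw [map_mul, map_mul, ← hrs, hu]
        ring
      have : t * s ∈ q := hts ▸ q.mul_mem_right u hrq'
      rcases hq.mem_or_mem this with h | h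
      · exact h
      · exact absurd (hqp h) hsp
    have hht1 : p.height ≤ 1 := Ideal.height_le_one_of_isPrincipal_of_mem_minimalPrimes _ p hmin
    have hht0 : p.height ≠ 0 := fun h => hp0 (Ideal.height_eq_zero_iff_eq_bot.mp h)
    have hht : p.height = 1 :=
      le_antisymm hht1 (Order.one_le_iff_pos.mpr (pos_iff_ne_zero.mpr hht0))
    obtain ⟨w, hw⟩ := hx p hht
    obtain ⟨c, t, rfl⟩ := IsLocalization.exists_mk'_eq p.primeCompl w
    have h1 : x * ι t = ι c := by
      rw [← hw]
      have := IsLocalization.mk'_spec (Localization.AtPrime p) c t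
      have := congrArg (algebraMap (Localization.AtPrime p) K) this
      rw [map_mul, ← IsScalarTower.algebraMap_apply, ← IsScalarTower.algebraMap_apply] at this
      exact this
    have : (t : R) ∈ p := by
      rw [hpmem]
      refine ⟨y * c, ?_⟩
      rw [hx', map_mul, ← h1]
      ring
    exact t.2 this

end Groth.Agent.S2111
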