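import Groth.Statements.S2112
import Mathlib
import Groth.Agent.Lib.Helper22.GeomIrr
import Groth.Agent.Lib.Helper22.GeomIrr2
-- import your own Groth.Agent.* helpers here

set_option autoImplicit false
universe u
open CAlg

namespace Groth.Agent.S2112

open TensorProduct in
/-- Let `k` be a separably closed field and `R`, `S` two `k`-algebras each having exactly one minimal
prime ideal. Then `R ⊗_k S` has exactly one minimal prime ideal. -/
theorem result {k R S : Type u} [Field k] [IsSepClosed k] [CommRing R] [CommRing S]
    [Algebra k R] [Algebra k S] (hR : CAlgX.HasUniqueMinimalPrime R) (hS : CAlgX.HasUniqueMinimalPrime S) :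
    CAlgX.HasUniqueMinimalPrime (R ⊗[k] S) := by
  open Groth.Agent.Lib.Helper22.GeomIrr Groth.Agent.Lib.Helper22.GeomIrr2 Groth.Agent.S9627 in
  unfold CAlgX.HasUniqueMinimalPrime at *
  rw [existsUnique_minimalPrime_iff] at *
  have hN : (nilradical R).IsPrime := PrimeSpectrum.irreducibleSpace_iff_isPrime_nilradical.mp hR
  have h1 : IrreducibleSpace (PrimeSpectrum (S ⊗[k] R)) :=
    step hN (fun k' _ _ => geomIrr_of_isSepClosed k')
  exact irr_of_equiv (Algebra.TensorProduct.comm k R S).toRingEquiv

end Groth.Agent.S2112
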