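import Groth.Statements.S2113
import Mathlib.RingTheory.Ideal.KrullsHeightTheorem
import Mathlib.RingTheory.Ideal.MinimalPrime.Noetherian
import Mathlib.RingTheory.Spectrum.Prime.RingHom

set_option autoImplicit false
universe u
open CAlg

namespace Groth.Agent.S2113

theorem finite_primes_of_forall_mem {D : Type u} [CommRing D] [IsDomain D] [IsNoetherianRing D]
    (f : D) (hf : f ≠ 0) (h : ∀ Q : Ideal D, Q.IsPrime → Q ≠ ⊥ → f ∈ Q) :
    (Set.univ : Set (PrimeSpectrum D)).Finite := by
  classical
  set M := (Ideal.span {f}).minimalPrimes with hM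
  have hMfin : M.Finite := Ideal.finite_minimalPrimes_of_isNoetherianRing D _
  have hMprime : ∀ m ∈ M, m.IsPrime := fun m hm => hm.1.1
  have hMf : ∀ m ∈ M, f ∈ m := fun m hm => hm.1.2 (Ideal.subset_span rfl)
  have key : ∀ Q : Ideal D, Q.IsPrime → Q = ⊥ ∨ Q ∈ M := by
    intro Q hQ
    by_contra hcon
    push Not at hcon
    obtain ⟨hQ0, hQM⟩ := hcon
    have hfQ : f ∈ Q := h Q hQ hQ0
    have hIQ : Ideal.span {f} ≤ Q := (Ideal.span_singleton_le_iff_mem _).mpr hfQ
    obtain ⟨m₀, hm₀M, hm₀Q⟩ := Ideal.exists_minimalPrimes_le hIQ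
    have hnot : ¬ ((Q : Set D) ⊆ ⋃ m ∈ (hMfin.toFinset : Set (Ideal D)), ((id m : Ideal D) : Set D)) := by
      intro hsub
      rw [Ideal.subset_union_prime (f := id) ⊥ ⊥
        (fun i hi _ _ => hMprime i (hMfin.mem_toFinset.mp hi))] at hsub
      obtain ⟨m, hm, hQm⟩ := hsub
      have hmM : m ∈ M := hMfin.mem_toFinset.mp hm
      have : m ≤ Q := hmM.2 ⟨hQ, hIQ⟩ hQm
      exact hQM ((le_antisymm hQm this) ▸ hmM)
    rw [Set.not_subset] at hnot
    obtain ⟨x, hxQ, hx⟩ := hnot
    have hxM : ∀ m ∈ M, x ∉ m := by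
      intro m hm hxm
      apply hx
      simp only [Set.mem_iUnion]
      exact ⟨m, hMfin.mem_toFinset.mpr hm, hxm⟩
    have hx0 : x ≠ 0 := by
      rintro rfl
      exact hxM m₀ hm₀M m₀.zero_mem
    have hxQ' : Ideal.span {x} ≤ Q := (Ideal.span_singleton_le_iff_mem _).mpr hxQ
    obtain ⟨Q', hQ'min, hQ'Q⟩ := Ideal.exists_minimalPrimes_le hxQ'
    have hQ'prime : Q'.IsPrime := hQ'min.1.1
    have hxQ'' : x ∈ Q' := hQ'min.1.2 (Ideal.subset_span rfl)
    have hht : Q'.height ≤ 1 := Ideal.height_le_one_of_isPrincipal_of_mem_minimalPrimes _ Q' hQ'min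
    have hQ'0 : Q' ≠ ⊥ := by
      rintro rfl
      exact hx0 (by simpa using hxQ'')
    have hfQ' : f ∈ Q' := h Q' hQ'prime hQ'0
    obtain ⟨m, hmM, hmQ'⟩ := Ideal.exists_minimalPrimes_le
      ((Ideal.span_singleton_le_iff_mem _).mpr hfQ' : Ideal.span {f} ≤ Q')
    have hmprime : m.IsPrime := hMprime m hmM
    have hm0 : m ≠ ⊥ := by
      rintro rfl
      exact hf (by simpa using hMf ⊥ hmM)
    rcases hmQ'.lt_or_eq with hlt | heq
    · have h1 : m.height < Q'.height := Ideal.height_strict_mono_of_isPrime_of_isPrime hlt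
      have h2 : m.height = 0 := by
        have : m.height < 1 := lt_of_lt_of_le h1 hht
        exact Order.lt_one_iff.mp this
      exact hm0 (Ideal.height_eq_zero_iff_eq_bot.mp h2)
    · exact hxM m hmM (heq ▸ hxQ'')
  have hsub : (Set.univ : Set (PrimeSpectrum D)) ⊆
      PrimeSpectrum.asIdeal ⁻¹' (insert ⊥ M) := by
    intro Q _
    rcases key Q.asIdeal Q.2 with h0 | hM'
    · exact Or.inl h0
    · exact Or.inr hM'
  refine Set.Finite.subset ?_ hsub
  apply Set.Finite.preimage
  · intro a _ b _ hab
    exact PrimeSpectrum.ext hab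
  · exact hMfin.insert ⊥

/-- A Noetherian ring in which each prime is maximal or else lies below infinitely many primes is a
Jacobson ring. -/
theorem result {R : Type u} [CommRing R] [IsNoetherianRing R]
    (h : ∀ (p : Ideal R) [p.IsPrime], p.IsMaximal ∨ {q : PrimeSpectrum R | p ≤ q.asIdeal}.Infinite) :
    IsJacobsonRing R := by
  rw [isJacobsonRing_iff_prime_eq]
  intro P
  induction P using WellFoundedGT.induction with
  | ind p ih =>
    intro hp
    rcases h p with hmax | hinf
    · exact Ideal.jacobson_eq_self_of_isMaximal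
    · by_contra hne
      have hlt : ¬ p.jacobson ≤ p := fun hle => hne (le_antisymm hle Ideal.le_jacobson)
      rw [SetLike.not_le_iff_exists] at hlt
      obtain ⟨f, hfj, hfp⟩ := hlt
      apply hinf
      -- primes above `p` correspond to primes of the quotient
      have hfin := finite_primes_of_forall_mem (D := R ⧸ p) (Ideal.Quotient.mk p f)
        (by rwa [Ne, Ideal.Quotient.eq_zero_iff_mem]) ?_
      · have hsurj : Function.Surjective (Ideal.Quotient.mk p) := Ideal.Quotient.mk_surjective
        have : {q : PrimeSpectrum R | p ≤ q.asIdeal} =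
            PrimeSpectrum.comap (Ideal.Quotient.mk p) '' Set.univ := by
          rw [Set.image_univ, range_comap_of_surjective _ _ hsurj, Ideal.mk_ker]
          ext q
          simp [PrimeSpectrum.mem_zeroLocus]
        rw [this]
        exact hfin.image _
      · intro Q hQ hQ0
        have hsurj : Function.Surjective (Ideal.Quotient.mk p) := Ideal.Quotient.mk_surjective
        set q := Q.comap (Ideal.Quotient.mk p) with hq
        have hqprime : q.IsPrime := Ideal.comap_isPrime _ _
        have hpq : p ≤ q := by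
          intro x hx
          rw [hq, Ideal.mem_comap, Ideal.Quotient.eq_zero_iff_mem.mpr hx]
          exact Q.zero_mem
        have hpq' : p < q := by
          refine lt_of_le_of_ne hpq ?_
          intro heq
          apply hQ0
          rw [← Ideal.map_comap_of_surjective _ hsurj Q, ← hq, ← heq]
          exact Ideal.map_quotient_self p
        have hjq : q.jacobson = q := ih q hpq' hqprime
        have : f ∈ q := by
          rw [← hjq]
          exact Ideal.jacobson_mono hpq hfj
        exact this

end Groth.Agent.S2113
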