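import Groth.Statements.S9818
import Groth.Agent.S17647
import Groth.Agent.Lib.Helper17.Serre2
import Groth.Prelude.Def_CxOX

set_option autoImplicit false
universe u
open CategoryTheory CategoryTheory.Limits AlgebraicGeometry TopologicalSpace Opposite
open Props

namespace Groth.Agent.S9818

/-- For an open subscheme U of a scheme X with quasi-compact inclusion, a quasi-coherent module G on U
with a map to the restriction of a quasi-coherent module F on X extends to a quasi-coherent module H
on X with a map to F restricting to the given one. Taking F = 0, every quasi-coherent module on U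
extends to a quasi-coherent module on X. -/
theorem result {X : Scheme.{u}} (U : X.Opens) [QuasiCompact U.ι]
    (F : X.Modules) [Coh.IsQCoh F] (G : (U : Scheme.{u}).Modules) [Coh.IsQCoh G] (φ : G ⟶ F.restrict U.ι) :
    ∃ (H : X.Modules) (ψ : H ⟶ F) (e : H.restrict U.ι ≅ G), Coh.IsQCoh H ∧
      e.hom ≫ φ = (Scheme.Modules.restrictFunctor U.ι).map ψ := by
  classical
  haveI : F.IsQuasicoherent := ‹Coh.IsQCoh F›
  haveI : G.IsQuasicoherent := ‹Coh.IsQCoh G›
  let R := Scheme.Modules.restrictFunctor U.ι
  let P := Scheme.Modules.pushforward U.ι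
  let adj := Scheme.Modules.restrictAdjunction U.ι
  let φ' : G ⟶ R.obj F := φ
  let η : F ⟶ P.obj (R.obj F) := adj.unit.app F
  haveI : (R.obj F).IsQuasicoherent := inferInstance
  haveI : (P.obj (R.obj F)).IsQuasicoherent :=
    Groth.Agent.Lib.Helper28.QCohLoc.isQuasicoherent_pushforward U.ι _
  haveI : (P.obj G).IsQuasicoherent :=
    Groth.Agent.Lib.Helper28.QCohLoc.isQuasicoherent_pushforward U.ι _
  -- the restriction of the unit to `U` is an isomorphism
  haveI hη : IsIso (R.map η) := by
    have h1 := adj.left_triangle_components F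
    haveI : IsIso (adj.counit.app (R.obj F)) := inferInstance
    exact IsIso.of_isIso_fac_right h1
  -- the pullback is quasi-coherent
  have hq : (pullback η (P.map φ')).IsQuasicoherent := by
    haveI : (F ⊞ P.obj G).IsQuasicoherent := inferInstance
    have e : pullback η (P.map φ') ≅ kernel (biprod.desc η (-(P.map φ'))) :=
      (Abelian.PullbackToBiproductIsKernel.isLimitPullbackToBiproduct η (P.map φ')).conePointUniqueUpToIso
        (limit.isLimit _)
    exact (SheafOfModules.isQuasicoherent X.ringCatSheaf).prop_of_iso e.symm
      (Groth.Agent.Lib.Helper17.CohKer.isQuasicoherent_kernel _)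
  have hpb : IsPullback (R.map (pullback.fst η (P.map φ'))) (R.map (pullback.snd η (P.map φ')))
      (R.map η) (R.map (P.map φ')) := (IsPullback.of_hasPullback η (P.map φ')).map R
  haveI : IsIso (R.map (pullback.snd η (P.map φ'))) := hpb.isIso_snd_of_isIso
  haveI : IsIso (adj.counit.app G) := inferInstance
  refine ⟨pullback η (P.map φ'), pullback.fst η (P.map φ'),
    asIso (R.map (pullback.snd η (P.map φ'))) ≪≫ asIso (adj.counit.app G), hq, ?_⟩
  change (R.map (pullback.snd η (P.map φ')) ≫ adj.counit.app G) ≫ φ' = R.map (pullback.fst η (P.map φ'))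
  have hnat : adj.counit.app G ≫ φ' = R.map (P.map φ') ≫ adj.counit.app (R.obj F) :=
    (adj.counit.naturality φ').symm
  rw [Category.assoc, hnat, ← Category.assoc, hpb.w.symm, Category.assoc]
  have h1 := adj.left_triangle_components F
  change R.map η ≫ adj.counit.app (R.obj F) = 𝟙 _ at h1
  rw [h1, Category.comp_id]

end Groth.Agent.S9818
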