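import Groth.Statements.S2115
import Groth.Agent.Lib.Helper21.FPQuot4
import Groth.Agent.S9818
import Groth.Agent.Lib.Helper17.FTExt2

set_option autoImplicit false
universe u
open CategoryTheory AlgebraicGeometry
open Mor

namespace Groth.Agent.S2115

/-- Let `X` be quasi-compact and quasi-separated, `F` a quasi-coherent `O_X`-module, `U ⊆ X` a
quasi-compact open and `G` a finitely presented `O_U`-module with a map `φ : G → F|_U`. Then there
are a finitely presented `O_X`-module `G'` with a map `φ' : G' → F` and an isomorphism `G'|_U ≅ G`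
identifying `φ'|_U` with `φ`. -/
theorem result (X : Scheme.{u}) [CompactSpace X] [QuasiSeparatedSpace X]
    (F : X.Modules) (hF : Coh.IsQCoh F) (U : X.Opens) (hU : IsCompact (U : Set X)) (G : (U : Scheme.{u}).Modules)
    (hG : CohB1.IsFP G) (φ : G ⟶ F.restrict U.ι) :
    ∃ (G' : X.Modules) (φ' : G' ⟶ F) (e : G'.restrict U.ι ≅ G), CohB1.IsFP G' ∧
      e.hom ≫ φ = (Scheme.Modules.restrictFunctor U.ι).map φ' := by
  haveI : F.IsQuasicoherent := hF
  haveI : Coh.IsQCoh F := hF
  haveI hGfp : SheafOfModules.IsFinitePresentation.{u} (R := (U : Scheme.{u}).ringCatSheaf) G := hG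
  haveI hGq : G.IsQuasicoherent :=
    Groth.Agent.Lib.Helper29.FPDict.isQuasicoherent_of_isFinitePresentation G
  haveI : Coh.IsQCoh G := hGq
  haveI hGft : SheafOfModules.IsFiniteType.{u} (R := (U : Scheme.{u}).ringCatSheaf) G :=
    Groth.Agent.Lib.Helper29.FPDict.isFiniteType_of_isFinitePresentation G
  haveI : QuasiCompact U.ι := Groth.Agent.Lib.Helper17.FTExt.quasiCompact_ι_of_isCompact U hU
  -- a quasi-coherent extension with a map to `F`
  obtain ⟨H, ψ, e, hH, he⟩ := Groth.Agent.S9818.result U F G φ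
  haveI : H.IsQuasicoherent := hH
  -- a quasi-coherent submodule of finite type of it, still restricting to `G`
  obtain ⟨H₁, i, e₁, -, hq, hft, he₁⟩ :=
    Groth.Agent.Lib.Helper17.FTExt.exists_extension_qcqs U hU H G e.inv
  haveI := hq
  haveI := hft
  haveI : SheafOfModules.IsFinitePresentation.{u} (R := (U : Scheme.{u}).ringCatSheaf)
      (H₁.restrict U.ι) :=
    (SheafOfModules.isFinitePresentation (U : Scheme.{u}).ringCatSheaf).prop_of_iso e₁.symm hGfp
  -- a finitely presented module surjecting onto it, isomorphically over `U`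
  obtain ⟨G', p, hG', -, hiso⟩ :=
    Groth.Agent.Lib.Helper21.FPQuot.exists_fp_epi_iso_on_open H₁ U hU
  haveI := hiso
  refine ⟨G', p ≫ i ≫ ψ, asIso ((Scheme.Modules.restrictFunctor U.ι).map p) ≪≫ e₁, hG', ?_⟩
  rw [Functor.map_comp, Functor.map_comp, ← he, ← he₁]
  simp only [Iso.trans_hom, asIso_hom, Category.assoc, Iso.inv_hom_id_assoc]

end Groth.Agent.S2115
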