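import Groth.Statements.S2120
import Mathlib.AlgebraicGeometry.Morphisms.Proper
import Mathlib.AlgebraicGeometry.Morphisms.Immersion

set_option autoImplicit false
universe u
open CategoryTheory AlgebraicGeometry
open Mor

namespace Groth.Agent.S2120

/-- Let `f : X → Y` be surjective and universally closed. If `X` is quasi-separated then so is `Y`; if
`X` is separated then so is `Y`. -/
theorem result {X Y : Scheme.{u}} (f : X ⟶ Y) [Surjective f] [UniversallyClosed f] :
    (QuasiSeparatedSpace X → QuasiSeparatedSpace Y) ∧ (X.IsSeparated → Y.IsSeparated) := by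
  constructor
  · intro hX
    refine ⟨fun U V hUo hUc hVo hVc => ?_⟩
    have h1 : IsCompact (f ⁻¹' U) := QuasiCompact.isCompact_preimage (f := f) U hUo hUc
    have h2 : IsCompact (f ⁻¹' V) := QuasiCompact.isCompact_preimage (f := f) V hVo hVc
    have h3 : IsCompact (f ⁻¹' U ∩ f ⁻¹' V) :=
      hX.inter_isCompact _ _ (hUo.preimage f.continuous) h1 (hVo.preimage f.continuous) h2
    have h4 : f '' (f ⁻¹' U ∩ f ⁻¹' V) = U ∩ V := by
      rw [← Set.preimage_inter, Set.image_preimage_eq _ f.surjective]
    rw [← h4]
    exact h3.image f.continuous
  · intro hX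
    let tX := Limits.terminal.from X
    let tY := Limits.terminal.from Y
    have e : tX = f ≫ tY := (Limits.terminal.comp_from f).symm
    let F : Limits.pullback tX tX ⟶ Limits.pullback tY tY :=
      Limits.pullback.map tX tX tY tY f f (𝟙 _) ((Category.comp_id _).trans e)
        ((Category.comp_id _).trans e)
    have hF : UniversallyClosed F :=
      MorphismProperty.pullbackMap (P := @UniversallyClosed) ‹_› ‹_› e e
    have hcomm : Limits.pullback.diagonal tX ≫ F = f ≫ Limits.pullback.diagonal tY := by
      apply Limits.pullback.hom_ext
      · simp only [F, Category.assoc, Limits.pullback.lift_fst, Limits.pullback.diagonal_fst_assoc,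
          Limits.pullback.diagonal_fst, Category.comp_id]
      · simp only [F, Category.assoc, Limits.pullback.lift_snd, Limits.pullback.diagonal_snd_assoc,
          Limits.pullback.diagonal_snd, Category.comp_id]
    have hcl : IsClosed (Set.range (Limits.pullback.diagonal tY)) := by
      have h1 : Set.range (Limits.pullback.diagonal tY) =
          Set.range (f ≫ Limits.pullback.diagonal tY) := by
        rw [Scheme.Hom.comp_base, TopCat.coe_comp, Set.range_comp, Set.range_eq_univ.mpr f.surjective,
          Set.image_univ]
      rw [h1, ← hcomm, Scheme.Hom.comp_base, TopCat.coe_comp, Set.range_comp]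
      apply F.isClosedMap
      exact (Limits.pullback.diagonal tX).isClosedEmbedding.isClosed_range
    have : IsClosedImmersion (Limits.pullback.diagonal tY) :=
      IsClosedImmersion.of_isPreimmersion _ hcl
    exact ⟨⟨this⟩⟩

end Groth.Agent.S2120
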