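import Groth.Statements.S2121
import Mathlib.AlgebraicGeometry.ValuativeCriterion
import Mathlib.RingTheory.Ideal.MinimalPrime.Localization
import Mathlib.RingTheory.Valuation.LocalSubring

set_option autoImplicit false
universe u
open CategoryTheory AlgebraicGeometry
open Mor

namespace Groth.Agent.S2121

theorem exists_specializes_of_mem_closure {X Y : Scheme.{u}} (f : X ⟶ Y) [QuasiCompact f] (z : Y)
    (hz : z ∈ closure (Set.range f.base)) : ∃ x : X, f.base x ⤳ z := by
  obtain ⟨_, ⟨U, hU, rfl⟩, hzU, -⟩ :=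
    Y.isBasis_affineOpens.exists_subset_of_mem_open (Set.mem_univ z) isOpen_univ
  have hcomp : IsCompact ((f ⁻¹ᵁ U : X.Opens) : Set X) :=
    QuasiCompact.isCompact_preimage (f := f) _ U.2 hU.isCompact
  obtain ⟨s, hs, e⟩ :=
    isCompact_and_isOpen_iff_finite_and_eq_biUnion_affineOpens.mp ⟨hcomp, (f ⁻¹ᵁ U).2⟩
  have hz1 : z ∈ closure (f.base '' (f.base ⁻¹' U)) := by
    rw [mem_closure_iff] at hz ⊢
    intro V hV hzV
    obtain ⟨y, ⟨hyV, hyU⟩, x, rfl⟩ := hz (V ∩ U) (hV.inter U.2) ⟨hzV, hzU⟩
    exact ⟨_, hyV, x, hyU, rfl⟩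
  have e' : f.base ⁻¹' U = ⋃ i ∈ s, ((i : X.Opens) : Set X) := e
  rw [e', Set.image_iUnion₂, hs.closure_biUnion, Set.mem_iUnion₂] at hz1
  obtain ⟨W, hWs, hzW⟩ := hz1
  have hWU : (W : X.Opens) ≤ f ⁻¹ᵁ U := by
    intro x hx
    have : x ∈ f.base ⁻¹' U := by rw [e']; exact Set.mem_iUnion₂.mpr ⟨W, hWs, hx⟩
    exact this
  let φ := f.appLE U W hWU
  have hcomm : Spec.map φ ≫ hU.fromSpec = W.2.fromSpec ≫ f :=
    IsAffineOpen.SpecMap_appLE_fromSpec f hU W.2 hWU
  obtain ⟨p, hp⟩ : z ∈ Set.range hU.fromSpec.base := by rw [hU.range_fromSpec]; exact hzU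
  have himg : f.base '' ((W : X.Opens) : Set X) =
      hU.fromSpec.base '' Set.range (Spec.map φ).base := by
    rw [← W.2.range_fromSpec, ← Set.range_comp, ← Set.range_comp]
    have := congrArg (fun g => Set.range g.base) hcomm
    simp only [Scheme.Hom.comp_base, TopCat.coe_comp] at this
    exact this.symm
  rw [himg, ← hp] at hzW
  have hpcl : p ∈ closure (Set.range (Spec.map φ).base) := by
    have := hU.fromSpec.isOpenEmbedding.isEmbedding.closure_eq_preimage_closure_image
      (Set.range (Spec.map φ).base)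
    rw [this]; exact hzW
  change p ∈ closure (Set.range (PrimeSpectrum.comap φ.hom)) at hpcl
  rw [PrimeSpectrum.closure_range_comap] at hpcl
  let p' : PrimeSpectrum Γ(Y, U) := p
  have hpcl' : RingHom.ker φ.hom ≤ p'.asIdeal := (PrimeSpectrum.mem_zeroLocus p' _).mp hpcl
  obtain ⟨q', hq'min, hq'p⟩ := Ideal.exists_minimalPrimes_le hpcl'
  have hq'min' : q' ∈ ((⊥ : Ideal _).comap φ.hom).minimalPrimes := hq'min
  obtain ⟨q, hqprime, -, hq⟩ := Ideal.exists_comap_eq_of_mem_minimalPrimes φ.hom q' hq'min'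
  refine ⟨W.2.fromSpec.base ⟨q, hqprime⟩, ?_⟩
  have h1 : f.base (W.2.fromSpec.base ⟨q, hqprime⟩) =
      hU.fromSpec.base ((Spec.map φ).base ⟨q, hqprime⟩) := by
    have := congrArg (fun g => g.base ⟨q, hqprime⟩) hcomm
    simpa using this.symm
  rw [h1, ← hp]
  apply Specializes.map _ hU.fromSpec.continuous
  change (PrimeSpectrum.comap φ.hom ⟨q, hqprime⟩) ⤳ p'
  rw [← PrimeSpectrum.le_iff_specializes]
  change Ideal.comap φ.hom q ≤ p'.asIdeal
  rw [hq]; exact hq'p

/-- Let `f : X → Y` be quasi-compact and `z` a point in the closure of `f(X)` (the underlying set of the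
scheme theoretic image). Then there are a valuation ring `A` with fraction field `K` and morphisms
`Spec K → X`, `Spec A → Y` forming a commutative square with `f` and `Spec K → Spec A`, such that
the closed point of `Spec A` maps to `z`. -/
theorem result {X Y : Scheme.{u}} (f : X ⟶ Y) [QuasiCompact f] (z : Y)
    (hz : z ∈ closure (Set.range f.base)) :
    ∃ (A : Type u) (_ : CommRing A) (_ : IsDomain A) (_ : ValuationRing A)
      (x : Spec (CommRingCat.of (FractionRing A)) ⟶ X) (y : Spec (CommRingCat.of A) ⟶ Y),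
      x ≫ f = Spec.map (CommRingCat.ofHom (algebraMap A (FractionRing A))) ≫ y ∧
      y.base (IsLocalRing.closedPoint A) = z := by
  obtain ⟨x', h⟩ := exists_specializes_of_mem_closure f z hz
  let toRes : Y.presheaf.stalk z ⟶ X.residueField x' :=
    Y.presheaf.stalkSpecializes h ≫ f.stalkMap x' ≫ X.residue x'
  obtain ⟨A, hA, hA_local⟩ := IsLocalRing.exists_factor_valuationRing toRes.hom
  let toA : Y.presheaf.stalk z ⟶ .of A :=
    CommRingCat.ofHom (toRes.hom.codRestrict _ hA)
  have w : X.fromSpecResidueField x' ≫ f =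
      Spec.map (CommRingCat.ofHom (algebraMap A (X.residueField x'))) ≫
        Spec.map toA ≫ Y.fromSpecStalk z := by
    rw [Scheme.fromSpecResidueField, Category.assoc, ← Scheme.SpecMap_stalkMap_fromSpecStalk,
      ← Scheme.SpecMap_stalkSpecializes_fromSpecStalk h]
    simp_rw [← Spec.map_comp_assoc]
    rfl
  let e : X.residueField x' ≃ₐ[A] FractionRing A := (FractionRing.algEquiv A (X.residueField x')).symm
  let x : Spec (CommRingCat.of (FractionRing A)) ⟶ X :=
    Spec.map (CommRingCat.ofHom (e : X.residueField x' →+* FractionRing A)) ≫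
      X.fromSpecResidueField x'
  let y : Spec (CommRingCat.of A) ⟶ Y := Spec.map toA ≫ Y.fromSpecStalk z
  refine ⟨A, inferInstance, inferInstance, inferInstance, x, y, ?_, ?_⟩
  · simp only [x, y, Category.assoc]
    rw [w, ← Spec.map_comp_assoc]
    congr 2
    ext a
    exact e.commutes a
  · simp only [y, Scheme.Hom.comp_base, TopCat.coe_comp, Function.comp_apply]
    have : (Spec.map toA).base (IsLocalRing.closedPoint A) =
        IsLocalRing.closedPoint (Y.presheaf.stalk z) :=
      IsLocalRing.comap_closedPoint (S := A) (toRes.hom.codRestrict A.toSubring hA)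
    rw [this]
    exact Y.fromSpecStalk_closedPoint

end Groth.Agent.S2121
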