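import Groth.Statements.S2122
import Groth.Agent.Lib.Helper28.TwistIso
import Groth.Agent.Lib.Helper28.RelTwistVal
import Groth.Agent.Lib.Helper28.GenLocus
import Mathlib
set_option backward.isDefEq.respectTransparency.types false

set_option autoImplicit false
universe u
open CategoryTheory AlgebraicGeometry
open Mor

namespace Groth.Agent.S2122

open TopologicalSpace Opposite TensorProduct
open Groth.Agent.Lib.Helper28 Groth.Agent.Lib.Helper28.QCohLoc Groth.Agent.Lib.Helper28.GenLocus
open Groth.Agent.Lib.Helper28.TensorGen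

variable {X : Scheme.{u}} (L N : X.Modules)

/-- the image of an element of the presheaf tensor product is a finite sum of pure tensors -/
theorem ηT_eq_sum {W : X.Opens} (z : Γ(L, W) ⊗[Γ(X, W)] Γ(N, W)) :
    ∃ l : List (Γ(L, W) × Γ(N, W)),
      (ηT L N).app (op W) (show ((show X.PresheafOfModules from CohB1.tensorPre L N).obj (op W) : Type u) from z) =
        (l.map (fun p => tmulSec L N p.1 p.2)).sum := by
  induction z using TensorProduct.induction_on with
  | zero => exact ⟨[], map_zero ((ηT L N).app (op W)).hom⟩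
  | tmul m n => exact ⟨[(m, n)], by simp [tmulSec, ptmul]⟩
  | add z w hz hw =>
    obtain ⟨l₁, h₁⟩ := hz
    obtain ⟨l₂, h₂⟩ := hw
    refine ⟨l₁ ++ l₂, ?_⟩
    rw [List.map_append, List.sum_append, ← h₁, ← h₂]
    exact map_add ((ηT L N).app (op W)).hom z w

theorem exists_mem_basicOpen_of_sum {V : X.Opens} (x : X) (l : List Γ(X, V)) (h : x ∈ X.basicOpen l.sum) :
    ∃ c ∈ l, x ∈ X.basicOpen c := by
  induction l with
  | nil =>
    rw [List.sum_nil, Scheme.basicOpen_zero] at h
    exact absurd h (by simp)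
  | cons a l ih =>
    rw [List.sum_cons] at h
    rcases X.basicOpen_add_le a l.sum h with h1 | h1
    · exact ⟨a, List.mem_cons_self, h1⟩
    · obtain ⟨c, hc, hxc⟩ := ih h1
      exact ⟨c, List.mem_cons_of_mem _ hc, hxc⟩

variable (e : CohB1.tensorMod L N ≅ Coh.structureModule X)

/-- the functional `m ↦ e(l ⊗ m)` -/
noncomputable def phi {W : X.Opens} (l : Γ(L, W)) : Γ(N, W) →ₗ[Γ(X, W)] Γ(X, W) where
  toFun m := e.hom.app W (tmulSec L N l m)
  map_add' m m' := by
    rw [tmulSec_add_right]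
    exact map_add _ _ _
  map_smul' a m := by
    rw [tmulSec_smul_right, Scheme.Modules.Hom.app_smul]
    rfl

/-- the retraction `y ⊗ m ↦ e(l ⊗ m) • y` of the presheaf tensor product -/
noncomputable def retr {W : X.Opens} (l : Γ(L, W)) : Γ(L, W) ⊗[Γ(X, W)] Γ(N, W) →ₗ[Γ(X, W)] Γ(L, W) :=
  TensorProduct.lift
    (LinearMap.mk₂ Γ(X, W) (fun (y : Γ(L, W)) (m : Γ(N, W)) => (phi L N e l m • y : Γ(L, W)))
      (fun y y' m => smul_add _ _ _)
      (fun a y m => smul_comm _ _ _)
      (fun y m m' => by rw [map_add, add_smul])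
      (fun a y m => by rw [map_smul, smul_eq_mul, mul_smul]))

theorem retr_tmul {W : X.Opens} (l : Γ(L, W)) (y : Γ(L, W)) (m : Γ(N, W)) :
    retr L N e l (y ⊗ₜ[Γ(X, W)] m) = ((show Γ(X, W) from e.hom.app W (tmulSec L N l m)) • y : Γ(L, W)) := by
  unfold retr
  rw [TensorProduct.lift.tmul]
  rfl

/-- if `e(l ⊗ n) = 1` then `y ⊗ n = 0` implies `y = 0` -/
theorem eq_zero_of_tmulSec_eq_zero {W : X.Opens} (l : Γ(L, W)) (n : Γ(N, W))
    (hln : e.hom.app W (tmulSec L N l n) = (1 : Γ(X, W))) (y : Γ(L, W)) (hy : tmulSec L N y n = 0) : y = 0 := by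
  have hli : Presheaf.IsLocallyInjective (Opens.grothendieckTopology X)
      (CategoryTheory.toSheafify (Opens.grothendieckTopology X)
        (show X.PresheafOfModules from CohB1.tensorPre L N).presheaf) := inferInstance
  have h0 : (ηT L N).app (op W) (ptmul L N y n) = (ηT L N).app (op W) 0 := by
    rw [show (ηT L N).app (op W) (ptmul L N y n) = tmulSec L N y n from rfl, hy]
    exact (map_zero ((ηT L N).app (op W)).hom).symm
  have h1 := hli.equalizerSieve_mem (X := op W) _ _ h0
  rw [Opens.mem_grothendieckTopology] at h1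
  choose V i hV hptV using h1
  refine eq_of_locally_eq L (fun pt : W => V pt.1 pt.2) W (fun pt => (i pt.1 pt.2).le) ?_ y 0 ?_
  · intro q hq
    exact Opens.mem_iSup.mpr ⟨⟨q, hq⟩, hptV q hq⟩
  · intro pt
    have h2 := hV pt.1 pt.2
    have hle : V pt.1 pt.2 ≤ W := (i pt.1 pt.2).le
    have h3 : (show X.PresheafOfModules from CohB1.tensorPre L N).map (homOfLE hle).op (ptmul L N y n) =
        (show X.PresheafOfModules from CohB1.tensorPre L N).map (homOfLE hle).op 0 := h2
    rw [map_ptmul, map_zero] at h3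
    have h4 : (res L hle y ⊗ₜ[Γ(X, V pt.1 pt.2)] res N hle n : Γ(L, V pt.1 pt.2) ⊗[Γ(X, V pt.1 pt.2)] Γ(N, V pt.1 pt.2)) = 0 := h3
    have h5 := congrArg (retr L N e (res L hle l)) h4
    rw [retr_tmul, map_zero, ← tmulSec_res, app_res, hln] at h5
    rw [res_zero, ← h5]
    have h6 : res (Coh.structureModule X) hle (show Γ(Coh.structureModule X, W) from (1 : Γ(X, W))) =
        (show Γ(Coh.structureModule X, V pt.1 pt.2) from (1 : Γ(X, V pt.1 pt.2))) :=
      map_one (X.presheaf.map (homOfLE hle).op).hom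
    rw [h6]
    exact (one_smul _ _).symm

/-- a local generator: `e(l ⊗ n) = 1` makes `l` a generator -/
theorem isGen_of_pairing {W : X.Opens} (l : Γ(L, W)) (n : Γ(N, W))
    (hln : e.hom.app W (tmulSec L N l n) = (1 : Γ(X, W))) : IsGen L W l := by
  intro W' hW'
  have hln' : e.hom.app W' (tmulSec L N (res L hW' l) (res N hW' n)) = (1 : Γ(X, W')) := by
    rw [← tmulSec_res, app_res, hln]
    exact map_one (X.presheaf.map (homOfLE hW').op).hom
  have hφ : ∀ a : Γ(X, W'), e.hom.app W' (tmulSec L N (a • res L hW' l : Γ(L, W')) (res N hW' n)) = a := by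
    intro a
    rw [tmulSec_smul_left, Scheme.Modules.Hom.app_smul, hln']
    exact mul_one a
  constructor
  · intro a b hab
    have hab' : (a • res L hW' l : Γ(L, W')) = (b • res L hW' l : Γ(L, W')) := hab
    rw [← hφ a, ← hφ b, hab']
  · intro y
    let a : Γ(X, W') := e.hom.app W' (tmulSec L N y (res N hW' n))
    refine ⟨a, ?_⟩
    show (a • res L hW' l : Γ(L, W')) = y
    have h0 : tmulSec L N (y - (a • res L hW' l : Γ(L, W'))) (res N hW' n) = 0 := by
      apply (app_bijective_of_isIso e.hom W').1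
      rw [map_zero, tmulSec_sub_left, map_sub, hφ a]
      exact sub_self a
    have h1 := eq_zero_of_tmulSec_eq_zero L N e (res L hW' l) (res N hW' n) hln' _ h0
    exact (sub_eq_zero.mp h1).symm


/-- On a scheme X, if an O_X-module L admits an O_X-module N with L ⊗ N ≅ O_X, then L is invertible:
locally on X it is isomorphic to O_X (locally free of rank one). -/
theorem result {X : Scheme.{u}} (L N : X.Modules)
    (e : CohB1.tensorMod L N ≅ Coh.structureModule X) : PicF.IsInvertible L := by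
  intro x
  let u : Γ(CohB1.tensorMod L N, ⊤) := e.inv.app ⊤ (show Γ(Coh.structureModule X, ⊤) from (1 : Γ(X, ⊤)))
  obtain ⟨V, hV, hxV, z, hz⟩ := exists_ηT_eq L N u x trivial
  obtain ⟨l, hl⟩ := ηT_eq_sum L N z
  have h1 : e.hom.app V (res (CohB1.tensorMod L N) hV u) = (1 : Γ(X, V)) := by
    rw [app_res]
    have h2 : e.hom.app ⊤ u = (show Γ(Coh.structureModule X, ⊤) from (1 : Γ(X, ⊤))) := by
      show (e.inv.app ⊤ ≫ e.hom.app ⊤) _ = _
      rw [← Scheme.Modules.Hom.comp_app, e.inv_hom_id, Scheme.Modules.Hom.id_app]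
      rfl
    rw [h2]
    exact map_one (X.presheaf.map (homOfLE hV).op).hom
  let cl : List Γ(Coh.structureModule X, V) := (l.map (fun p => tmulSec L N p.1 p.2)).map (e.hom.app V)
  have hsum : cl.sum = (show Γ(Coh.structureModule X, V) from (1 : Γ(X, V))) := by
    rw [← h1, ← hz, hl]
    exact (map_list_sum (e.hom.app V).hom _).symm
  have hx1 : x ∈ X.basicOpen (List.sum (show List Γ(X, V) from cl)) := by
    have h3 : List.sum (show List Γ(X, V) from cl) = (1 : Γ(X, V)) := hsum
    rw [h3, Scheme.basicOpen_one]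
    exact hxV
  obtain ⟨c, hc, hxc⟩ := exists_mem_basicOpen_of_sum x (show List Γ(X, V) from cl) hx1
  obtain ⟨t, ht, htc⟩ := List.mem_map.mp hc
  obtain ⟨p, hp, hpt⟩ := List.mem_map.mp ht
  -- the open and the generator
  have hWV : X.basicOpen c ≤ V := X.basicOpen_le c
  have hcu : IsUnit (resO hWV c) := isUnit_resO_of_le_basicOpen c le_rfl
  obtain ⟨d, hd⟩ := hcu.exists_left_inv
  refine ⟨X.basicOpen c, hxc, ?_⟩
  refine RelTwistVal.nonempty_restrict_iso_of_isGen L (X.basicOpen c) (d • res L hWV p.1 : Γ(L, X.basicOpen c)) ?_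
  refine isGen_of_pairing L N e _ (res N hWV p.2) ?_
  rw [tmulSec_smul_left, Scheme.Modules.Hom.app_smul, ← tmulSec_res, app_res, hpt, htc]
  exact hd

end Groth.Agent.S2122
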