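import Groth.Statements.S2123
-- import your own Groth.Agent.* helpers here

set_option autoImplicit false
universe u
open CategoryTheory AlgebraicGeometry
open Mor

namespace Groth.Agent.S2123

/-- Let `X` be an integral separated scheme and `x, y` points such that the closure of `x` is not
contained in the closure of `y`. Then, inside the function field of `X`, the local ring at `x` is
not contained in the local ring at `y`. -/
theorem result (X : Scheme.{u}) [IsIntegral X] [X.IsSeparated] (x y : X)
    (h : ¬ closure ({x} : Set X) ⊆ closure {y}) :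
    ¬ Set.range (X.presheaf.stalkSpecializes (genericPoint_specializes x)) ⊆
        Set.range (X.presheaf.stalkSpecializes (genericPoint_specializes y)) := by
  intro hsub
  rw [← specializes_iff_closure_subset] at h
  apply h
  let spx := (X.presheaf.stalkSpecializes (genericPoint_specializes x)).hom
  let spy := (X.presheaf.stalkSpecializes (genericPoint_specializes y)).hom
  have hinj : Function.Injective spy :=
    IsFractionRing.injective (X.presheaf.stalk y) X.functionField
  let e : X.presheaf.stalk y ≃+* spy.range :=
    RingEquiv.ofBijective spy.rangeRestrict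
      ⟨fun a b hab => hinj (congrArg Subtype.val hab), spy.rangeRestrict_surjective⟩
  let ψ : X.presheaf.stalk x →+* spy.range := spx.codRestrict spy.range (fun a => hsub ⟨a, rfl⟩)
  let φ : X.presheaf.stalk x →+* X.presheaf.stalk y := e.symm.toRingHom.comp ψ
  have hφ : spy.comp φ = spx := by
    ext a
    have h1 : e (φ a) = ψ a := e.apply_symm_apply (ψ a)
    have h2 : spy (φ a) = (e (φ a) : X.functionField) := rfl
    change spy (φ a) = spx a
    rw [h2, h1]
    rfl
  let ι : Spec (X.presheaf.stalk (genericPoint X)) ⟶ Spec (X.presheaf.stalk y) :=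
    Spec.map (X.presheaf.stalkSpecializes (genericPoint_specializes y))
  have hdom : IsDominant ι := by
    constructor
    change DenseRange (PrimeSpectrum.comap spy)
    rw [PrimeSpectrum.denseRange_comap_iff_ker_le_nilRadical,
      (RingHom.injective_iff_ker_eq_bot spy).mp hinj]
    exact bot_le
  let g1 : Spec (X.presheaf.stalk y) ⟶ X := X.fromSpecStalk y
  let φc : X.presheaf.stalk x ⟶ X.presheaf.stalk y := CommRingCat.ofHom φ
  have hφc : φc ≫ X.presheaf.stalkSpecializes (genericPoint_specializes y) =
      X.presheaf.stalkSpecializes (genericPoint_specializes x) := by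
    ext a
    exact RingHom.congr_fun hφ a
  let g2 : Spec (X.presheaf.stalk y) ⟶ X := Spec.map φc ≫ X.fromSpecStalk x
  have h1 : ι ≫ g1 = X.fromSpecStalk (genericPoint X) :=
    Scheme.SpecMap_stalkSpecializes_fromSpecStalk _
  have h2 : ι ≫ g2 = X.fromSpecStalk (genericPoint X) := by
    change Spec.map (X.presheaf.stalkSpecializes (genericPoint_specializes y)) ≫
      Spec.map φc ≫ X.fromSpecStalk x = _
    rw [← Category.assoc, ← Spec.map_comp, hφc]
    exact Scheme.SpecMap_stalkSpecializes_fromSpecStalk _
  have heq : g1 = g2 := ext_of_isDominant ι (h1.trans h2.symm)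
  have h3 : g1 (IsLocalRing.closedPoint (X.presheaf.stalk y)) = y :=
    Scheme.fromSpecStalk_closedPoint
  have h4 : g2 (IsLocalRing.closedPoint (X.presheaf.stalk y)) ∈ Set.range (X.fromSpecStalk x) :=
    ⟨_, rfl⟩
  rw [← heq, h3, Scheme.range_fromSpecStalk] at h4
  exact h4

end Groth.Agent.S2123
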