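import Groth.Statements.S2127
import Groth.Agent.Lib.Helper17.SemiLocalTriv
import Groth.Agent.Lib.Helper28.AmpleFinite
import Groth.Agent.Lib.Helper28.SecExtend2
import Groth.Agent.Lib.Helper28.AmpleGG
import Groth.Agent.Lib.Helper28.AmpleSep
import Mathlib
set_option backward.isDefEq.respectTransparency.types false

set_option autoImplicit false
universe u
open CategoryTheory AlgebraicGeometry
open Mor

namespace Groth.Agent.S2127
open Groth.Agent.Lib.Helper28 Groth.Agent.Lib.Helper28.QCohLoc Groth.Agent.Lib.Helper28.GenLocus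
  Groth.Agent.Lib.Helper28.TensorGen Groth.Agent.Lib.Helper28.InvTensor Groth.Agent.Lib.Helper28.AmpleUnit
  Groth.Agent.Lib.Helper17


/-- Let `X` be a quasi-affine scheme, `L` an invertible `O_X`-module, `W ⊆ X` open and `E ⊆ W` finite.
Then there is a global section `s` of `L` with `X_s` affine and `E ⊆ X_s ⊆ W`. -/
theorem result {X : Scheme.{u}} [X.IsQuasiAffine] (L : X.Modules) (hL : PicF.IsInvertible L)
    (W : X.Opens) (E : Set X) (hE : E.Finite) (hEW : E ⊆ W) :
    ∃ s : Coh.structureModule X ⟶ L, IsAffineOpen (CohB1.genLocus L s) ∧ E ⊆ CohB1.genLocus L s ∧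
      CohB1.genLocus L s ≤ W := by
  classical
  have hO : CohB1.IsAmple (Coh.structureModule X) := (isQuasiAffine_iff_isAmple_unit X).1 inferInstance
  have hOinv := isInvertible_structureModule X
  -- step 1: an affine open containing `E`
  obtain ⟨n0, s0, hE0, -, hA0⟩ := exists_affine_genLocus_of_finite hO E hE ⊤ (fun _ _ => trivial)
  -- step 2: a generator of `L` near `E`
  obtain ⟨U₁, e, hEU₁, -, he⟩ := SemiLocalTriv.exists_isGen_of_finite X L hL hA0 E hE hE0
  -- step 3: an affine `X_s` with `E ⊆ X_s ⊆ U₁ ⊓ W`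
  obtain ⟨n, s1, hEs, hsU, hAs⟩ := exists_affine_genLocus_of_finite hO E hE (U₁ ⊓ W)
    (fun x hx => ⟨hEU₁ hx, hEW hx⟩)
  obtain ⟨ε⟩ := nonempty_tensorPow_unit_iso X (n + 1)
  let s : Coh.structureModule X ⟶ Coh.structureModule X := s1 ≫ ε.hom
  have hs : CohB1.genLocus _ s = CohB1.genLocus _ s1 := genLocus_comp_iso s1 ε
  set G : X.Opens := CohB1.genLocus _ s with hG
  have hGU : G ≤ U₁ := fun x hx => (hsU (hs ▸ hx)).1
  have hGW : G ≤ W := fun x hx => (hsU (hs ▸ hx)).2
  have hEG : E ⊆ G := fun x hx => hs ▸ hEs hx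
  have hAG : IsAffineOpen G := hs ▸ hAs
  -- step 4: extend `e ⊗ s^K`
  obtain ⟨k₀, hk⟩ := exists_extension_tmul hL hOinv s (res L hGU e)
  obtain ⟨T, hT⟩ := hk k₀ le_rfl
  have hGT : G ≤ CohB1.genLocus _ T := by
    refine le_genLocus_of_isGen_res T G ?_
    rw [hT]
    exact isGen_tmulSec _ _ (he.res hGU) (isGen_gpow (isGen_genLocus s) k₀)
  -- step 5: multiply by `s`
  have hTinv : PicF.IsInvertible (CohB1.tensorMod L (CohB1.tensorPow (Coh.structureModule X) k₀)) :=
    isInvertible_tensorMod hL (isInvertible_tensorPow hOinv k₀)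
  have h5 : CohB1.genLocus _ (smulSec T s) = G := by
    rw [genLocus_smulSec hTinv hOinv T s]
    exact inf_eq_right.2 hGT
  -- step 6: transport
  obtain ⟨φ₁⟩ := nonempty_tensor_unit_iso (CohB1.tensorMod L (CohB1.tensorPow (Coh.structureModule X) k₀))
  obtain ⟨εK⟩ := nonempty_tensorPow_unit_iso X k₀
  obtain ⟨φ₃⟩ := nonempty_tensor_unit_iso L
  let φ : CohB1.tensorMod (CohB1.tensorMod L (CohB1.tensorPow (Coh.structureModule X) k₀))
      (Coh.structureModule X) ≅ L := φ₁ ≪≫ PicGrp.tensorModIso (Iso.refl L) εK ≪≫ φ₃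
  refine ⟨smulSec T s ≫ φ.hom, ?_, ?_, ?_⟩
  · rw [genLocus_comp_iso, h5]; exact hAG
  · rw [genLocus_comp_iso, h5]; exact hEG
  · rw [genLocus_comp_iso, h5]; exact hGW

end Groth.Agent.S2127
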