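import Groth.Statements.S2129
import Mathlib
import Groth.Agent.Lib.Helper12.BrSmC
import Groth.Agent.S9460
import Groth.Agent.S0537

set_option autoImplicit false
universe u
open CAlg

namespace Groth.Agent.S2129

/-- Let `R → S` be a smooth ring map, `𝔮` a prime of `S` over `𝔭`, and `A = R_𝔭 → B = S_𝔮` the induced
local homomorphism. Then strict henselizations of `A` and `B` have the same number of minimal prime
ideals (the same number of geometric branches, counted in ℕ∞, infinite counting as ∞). -/
theorem result {R S Ash Bsh : Type u} [CommRing R] [CommRing S] [Algebra R S]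
    [Algebra.Smooth R S] (q : Ideal S) [q.IsPrime] (p : Ideal R) [p.IsPrime] [q.LiesOver p]
    [CommRing Ash] [IsLocalRing Ash] [Algebra (Localization.AtPrime p) Ash]
    [IsLocalHom (algebraMap (Localization.AtPrime p) Ash)] [Hensel.IsStrictHenselization (Localization.AtPrime p) Ash]
    [CommRing Bsh] [IsLocalRing Bsh] [Algebra (Localization.AtPrime q) Bsh]
    [IsLocalHom (algebraMap (Localization.AtPrime q) Bsh)] [Hensel.IsStrictHenselization (Localization.AtPrime q) Bsh] :
    (minimalPrimes Ash).encard = (minimalPrimes Bsh).encard := by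
  classical
  -- the local homomorphism `R_p → S_q`
  letI algAB : Algebra (Localization.AtPrime p) (Localization.AtPrime q) :=
    (Localization.localRingHom p q (algebraMap R S) (q.over_def p)).toAlgebra
  haveI : IsLocalHom (algebraMap (Localization.AtPrime p) (Localization.AtPrime q)) :=
    Localization.isLocalHom_localRingHom p q (algebraMap R S) (q.over_def p)
  obtain ⟨φ, hφ, hφloc⟩ := Groth.Agent.Lib.Helper12.BrSm.exists_strict_map
    (A := Localization.AtPrime p) (B := Localization.AtPrime q) (S := Ash) (S' := Bsh)
  -- algebra structures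
  letI algRA : Algebra R Ash :=
    ((algebraMap (Localization.AtPrime p) Ash).comp (algebraMap R (Localization.AtPrime p))).toAlgebra
  haveI : IsScalarTower R (Localization.AtPrime p) Ash := IsScalarTower.of_algebraMap_eq (fun _ => rfl)
  letI algSB : Algebra S Bsh :=
    ((algebraMap (Localization.AtPrime q) Bsh).comp (algebraMap S (Localization.AtPrime q))).toAlgebra
  haveI : IsScalarTower S (Localization.AtPrime q) Bsh := IsScalarTower.of_algebraMap_eq (fun _ => rfl)
  letI algRB : Algebra R Bsh := ((algebraMap S Bsh).comp (algebraMap R S)).toAlgebra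
  haveI : IsScalarTower R S Bsh := IsScalarTower.of_algebraMap_eq (fun _ => rfl)
  letI algAshBsh : Algebra Ash Bsh := φ.toAlgebra
  haveI : IsLocalHom (algebraMap Ash Bsh) := hφloc
  haveI : IsScalarTower R Ash Bsh := by
    refine IsScalarTower.of_algebraMap_eq (fun r => ?_)
    show algebraMap (Localization.AtPrime q) Bsh (algebraMap S (Localization.AtPrime q)
      (algebraMap R S r)) = φ (algebraMap (Localization.AtPrime p) Ash
        (algebraMap R (Localization.AtPrime p) r))
    have h1 := RingHom.congr_fun hφ (algebraMap R (Localization.AtPrime p) r)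
    rw [RingHom.comp_apply] at h1
    rw [h1, RingHom.comp_apply]
    congr 1
    exact (Localization.localRingHom_to_map p q (algebraMap R S) (q.over_def p) r).symm
  haveI : HenselianLocalRing Ash :=
    Hensel.IsStrictHenselization.henselian (R := Localization.AtPrime p)
  haveI : IsSepClosed (IsLocalRing.ResidueField Ash) :=
    (Hensel.IsStrictHenselization.isSepClosure (R := Localization.AtPrime p) (S := Ash)).sep_closed
  -- the tensor product and its prime
  set ψ := (Algebra.TensorProduct.lift (IsScalarTower.toAlgHom R Ash Bsh)
    (IsScalarTower.toAlgHom R S Bsh) (fun _ _ => Commute.all _ _)) with hψ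
  set Q : Ideal (TensorProduct R Ash S) := Ideal.comap ψ (IsLocalRing.maximalIdeal Bsh) with hQdef
  haveI : Q.IsPrime := Ideal.comap_isPrime _ _
  obtain ⟨E, i1, i2, i3, i4, i5⟩ := Groth.Agent.S0537.result (Localization.AtPrime Q)
  obtain ⟨e, -⟩ := Groth.Agent.S9460.result R S p q Ash Bsh E
  rw [← Groth.Agent.Lib.Helper12.BrSm.encard_minimalPrimes_of_ringEquiv e]
  have hQ : Q.comap (algebraMap Ash (TensorProduct R Ash S)) = IsLocalRing.maximalIdeal Ash := by
    ext x
    rw [Ideal.mem_comap, hQdef, Ideal.mem_comap]
    have h1 : ψ (algebraMap Ash (TensorProduct R Ash S) x) = algebraMap Ash Bsh x := by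
      simp [hψ, Algebra.TensorProduct.algebraMap_apply]
    rw [h1, ← Ideal.mem_comap, IsLocalRing.maximalIdeal_comap]
  exact (Groth.Agent.Lib.Helper12.BrSm.encard_minimalPrimes_strict_of_smooth Ash
    (TensorProduct R Ash S) Q hQ E).symm

end Groth.Agent.S2129
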