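import Groth.Statements.S2130
import Mathlib
import Groth.Agent.Lib.Helper12.BrSmG
import Groth.Agent.S9459
import Groth.Agent.S0506
import Groth.Agent.S0508

set_option autoImplicit false
universe u
open CAlg

namespace Groth.Agent.S2130

/-- Let `R → S` be smooth, `𝔮` a prime of `S` over `𝔭` with `κ(𝔮)/κ(𝔭)` purely inseparable, and `A = R_𝔭
→ B = S_𝔮`. Then henselizations of `A` and `B` have the same number of minimal prime ideals (the
same number of branches). -/
theorem result {R S Ah Bh : Type u} [CommRing R] [CommRing S]
    [Algebra R S] [Algebra.Smooth R S] (q : Ideal S) [q.IsPrime] (p : Ideal R) [p.IsPrime] [q.LiesOver p]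
    (hpi : @IsPurelyInseparable p.ResidueField q.ResidueField _ _
      (Ideal.ResidueField.mapₐ p q (Algebra.ofId R S) (q.over_def p)).toRingHom.toAlgebra)
    [CommRing Ah] [IsLocalRing Ah] [Algebra (Localization.AtPrime p) Ah]
    [IsLocalHom (algebraMap (Localization.AtPrime p) Ah)] [Hensel.IsHenselization (Localization.AtPrime p) Ah]
    [CommRing Bh] [IsLocalRing Bh] [Algebra (Localization.AtPrime q) Bh]
    [IsLocalHom (algebraMap (Localization.AtPrime q) Bh)] [Hensel.IsHenselization (Localization.AtPrime q) Bh] :
    (minimalPrimes Ah).encard = (minimalPrimes Bh).encard := by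
  classical
  -- the local homomorphism `R_p → S_q`
  letI algAB : Algebra (Localization.AtPrime p) (Localization.AtPrime q) :=
    (Localization.localRingHom p q (algebraMap R S) (q.over_def p)).toAlgebra
  haveI : IsLocalHom (algebraMap (Localization.AtPrime p) (Localization.AtPrime q)) :=
    Localization.isLocalHom_localRingHom p q (algebraMap R S) (q.over_def p)
  obtain ⟨φ, hφ, hφloc⟩ := Groth.Agent.Lib.Helper12.BrSm.exists_hens_map
    (A := Localization.AtPrime p) (B := Localization.AtPrime q) (S := Ah) (S' := Bh)
  -- algebra structures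
  letI algRA : Algebra R Ah :=
    ((algebraMap (Localization.AtPrime p) Ah).comp (algebraMap R (Localization.AtPrime p))).toAlgebra
  haveI : IsScalarTower R (Localization.AtPrime p) Ah := IsScalarTower.of_algebraMap_eq (fun _ => rfl)
  letI algSB : Algebra S Bh :=
    ((algebraMap (Localization.AtPrime q) Bh).comp (algebraMap S (Localization.AtPrime q))).toAlgebra
  haveI : IsScalarTower S (Localization.AtPrime q) Bh := IsScalarTower.of_algebraMap_eq (fun _ => rfl)
  letI algRB : Algebra R Bh := ((algebraMap S Bh).comp (algebraMap R S)).toAlgebra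
  haveI : IsScalarTower R S Bh := IsScalarTower.of_algebraMap_eq (fun _ => rfl)
  letI algAhBh : Algebra Ah Bh := φ.toAlgebra
  haveI : IsLocalHom (algebraMap Ah Bh) := hφloc
  haveI : IsScalarTower R Ah Bh := by
    refine IsScalarTower.of_algebraMap_eq (fun r => ?_)
    show algebraMap (Localization.AtPrime q) Bh (algebraMap S (Localization.AtPrime q)
      (algebraMap R S r)) = φ (algebraMap (Localization.AtPrime p) Ah
        (algebraMap R (Localization.AtPrime p) r))
    have h1 := RingHom.congr_fun hφ (algebraMap R (Localization.AtPrime p) r)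
    rw [RingHom.comp_apply] at h1
    rw [h1, RingHom.comp_apply]
    congr 1
    exact (Localization.localRingHom_to_map p q (algebraMap R S) (q.over_def p) r).symm
  haveI : HenselianLocalRing Ah :=
    Hensel.IsHenselization.henselian (R := Localization.AtPrime p)
  -- the tensor product and its prime
  set ψ := (Algebra.TensorProduct.lift (IsScalarTower.toAlgHom R Ah Bh)
    (IsScalarTower.toAlgHom R S Bh) (fun _ _ => Commute.all _ _)) with hψ
  set Q : Ideal (TensorProduct R Ah S) := Ideal.comap ψ (IsLocalRing.maximalIdeal Bh) with hQdef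
  haveI : Q.IsPrime := Ideal.comap_isPrime _ _
  obtain ⟨E, i1, i2, i3, i4, i5⟩ := Groth.Agent.S0506.result (Localization.AtPrime Q)
  obtain ⟨ε, hε⟩ := Groth.Agent.S9459.result R S p q Ah Bh E
  rw [← Groth.Agent.Lib.Helper12.BrSm.encard_minimalPrimes_of_ringEquiv ε]
  have hQ : Q.comap (algebraMap Ah (TensorProduct R Ah S)) = IsLocalRing.maximalIdeal Ah := by
    ext x
    rw [Ideal.mem_comap, hQdef, Ideal.mem_comap]
    have h1 : ψ (algebraMap Ah (TensorProduct R Ah S) x) = algebraMap Ah Bh x := by
      simp [hψ, Algebra.TensorProduct.algebraMap_apply]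
    rw [h1, ← Ideal.mem_comap, IsLocalRing.maximalIdeal_comap]
  -- the local homomorphism `θ : (Ah ⊗ S)_Q → Bh`
  let θ : Localization.AtPrime Q →+* Bh :=
    (ε : E →+* Bh).comp (algebraMap (Localization.AtPrime Q) E)
  haveI : IsLocalHom (ε : E →+* Bh) := ⟨fun x hx => by
    have := hx.map (ε.symm : Bh →+* E)
    simpa using this⟩
  haveI hθloc : IsLocalHom θ := RingHom.isLocalHom_comp _ _
  have hθm : ∀ c : Localization.AtPrime Q,
      IsLocalRing.residue Bh (θ c) = 0 → c ∈ IsLocalRing.maximalIdeal (Localization.AtPrime Q) := by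
    intro c hc
    have h1 : θ c ∈ IsLocalRing.maximalIdeal Bh := (IsLocalRing.residue_eq_zero_iff _).mp hc
    rw [← IsLocalRing.maximalIdeal_comap θ]
    exact h1
  have hθA : ∀ a : Localization.AtPrime p,
      θ (algebraMap Ah (Localization.AtPrime Q) (algebraMap (Localization.AtPrime p) Ah a)) =
        algebraMap (Localization.AtPrime q) Bh
          (algebraMap (Localization.AtPrime p) (Localization.AtPrime q) a) := by
    intro a
    have h1 : algebraMap Ah (Localization.AtPrime Q) (algebraMap (Localization.AtPrime p) Ah a) =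
        algebraMap (TensorProduct R Ah S) (Localization.AtPrime Q)
          (algebraMap Ah (TensorProduct R Ah S) (algebraMap (Localization.AtPrime p) Ah a)) :=
      IsScalarTower.algebraMap_apply Ah (TensorProduct R Ah S) (Localization.AtPrime Q) _
    show ε (algebraMap (Localization.AtPrime Q) E _) = _
    rw [h1, hε]
    have h2 : ψ (algebraMap Ah (TensorProduct R Ah S) (algebraMap (Localization.AtPrime p) Ah a)) =
        algebraMap Ah Bh (algebraMap (Localization.AtPrime p) Ah a) := by
      simp [hψ, Algebra.TensorProduct.algebraMap_apply]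
    rw [h2]
    exact RingHom.congr_fun hφ a
  -- the characteristic exponent
  set e₀ := ringExpChar p.ResidueField with he₀
  have hbij := Groth.Agent.S0508.result (Localization.AtPrime q) Bh
  letI algκ : Algebra p.ResidueField q.ResidueField :=
    (Ideal.ResidueField.mapₐ p q (Algebra.ofId R S) (q.over_def p)).toRingHom.toAlgebra
  haveI : IsPurelyInseparable p.ResidueField q.ResidueField := hpi
  have hκ : ∀ a : Localization.AtPrime p,
      algebraMap p.ResidueField q.ResidueField (IsLocalRing.residue _ a) =
        IsLocalRing.residue _ (algebraMap (Localization.AtPrime p) (Localization.AtPrime q) a) := by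
    intro a
    rfl
  refine (Groth.Agent.Lib.Helper12.BrSm.encard_minimalPrimes_hens_of_smooth Ah
    (TensorProduct R Ah S) Q hQ e₀ ?_ ?_ E).symm
  · rcases expChar_is_prime_or_one p.ResidueField e₀ with hp | h1
    · refine Or.inr ⟨hp, ?_⟩
      apply hθm
      rw [map_natCast, map_natCast]
      haveI : ExpChar p.ResidueField e₀ := ringExpChar.expChar _
      have h0 : ((e₀ : ℕ) : p.ResidueField) = 0 :=
        Groth.Agent.Lib.Helper17.Unibranch.natCast_eq_zero_of_expChar_prime _ _ hp
      have h1 := congrArg ((IsLocalRing.ResidueField.map (algebraMap (Localization.AtPrime q) Bh)).comp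
        (algebraMap p.ResidueField q.ResidueField)) h0
      rwa [map_natCast, map_zero] at h1
    · exact Or.inl h1
  · intro c
    obtain ⟨y, hy⟩ := hbij.2 (IsLocalRing.residue Bh (θ c))
    obtain ⟨n, x, hx⟩ := IsPurelyInseparable.pow_mem p.ResidueField e₀ y
    obtain ⟨a, rfl⟩ := IsLocalRing.residue_surjective x
    refine ⟨n, algebraMap (Localization.AtPrime p) Ah a, ?_⟩
    apply hθm
    rw [map_sub, map_sub, map_pow, map_pow, hθA, ← hy, ← map_pow, ← hx, hκ,
      IsLocalRing.ResidueField.map_residue, sub_self]

end Groth.Agent.S2130
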