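import Groth.Statements.S2131
-- import your own Groth.Agent.* helpers here

set_option autoImplicit false
universe u
open CAlg

namespace Groth.Agent.S2131

theorem bijective_of_le {R M N : Type u} [CommRing R] [AddCommGroup M] [Module R M]
    [AddCommGroup N] [Module R N] (φ : M →ₗ[R] N) (S T : Submonoid R) (hST : S ≤ T)
    (h : Function.Bijective (LocalizedModule.map S φ)) :
    Function.Bijective (LocalizedModule.map T φ) := by
  have key : ∀ (P : Type u) [AddCommGroup P] [Module R P] (U : Submonoid R) (p : P) (s : U),
      LocalizedModule.mk p s = 0 ↔ ∃ r ∈ U, r • p = 0 := by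
    intro P _ _ U p s
    rw [← LocalizedModule.zero_mk s, LocalizedModule.mk_eq]
    constructor
    · rintro ⟨u, hu⟩
      refine ⟨u * s, (u * s).2, ?_⟩
      simpa [mul_smul, Submonoid.smul_def] using hu
    · rintro ⟨r, hr, h0⟩
      refine ⟨⟨r, hr⟩, ?_⟩
      simp only [smul_zero]
      rw [smul_comm]
      simp only [Submonoid.smul_def]
      rw [h0, smul_zero]
  constructor
  · rw [injective_iff_map_eq_zero]
    intro x hx
    induction x using LocalizedModule.induction_on with
    | h m t =>
      rw [LocalizedModule.map_mk, key] at hx
      obtain ⟨r, hr, h0⟩ := hx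
      have h1 : LocalizedModule.map S φ (LocalizedModule.mk (r • m) 1) = 0 := by
        rw [LocalizedModule.map_mk, key]
        exact ⟨1, S.one_mem, by rw [one_smul, map_smul, h0]⟩
      have h2 := h.1 (h1.trans (map_zero _).symm)
      rw [key] at h2
      obtain ⟨s, hs, h3⟩ := h2
      rw [key]
      exact ⟨s * r, T.mul_mem (hST hs) hr, by rw [mul_smul, h3]⟩
  · intro y
    induction y using LocalizedModule.induction_on with
    | h n t =>
      obtain ⟨x, hx⟩ := h.2 (LocalizedModule.mk n 1)
      induction x using LocalizedModule.induction_on with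
      | h m s =>
        rw [LocalizedModule.map_mk, LocalizedModule.mk_eq] at hx
        obtain ⟨u, hu⟩ := hx
        simp only [one_smul, Submonoid.smul_def] at hu
        refine ⟨LocalizedModule.mk ((u : R) • m) (⟨u * s, hST (u * s).2⟩ * t), ?_⟩
        rw [LocalizedModule.map_mk, LocalizedModule.mk_eq]
        refine ⟨1, ?_⟩
        simp only [one_smul, Submonoid.smul_def, map_smul, Submonoid.coe_mul, mul_smul]
        rw [hu]
        rw [smul_comm (t : R) (u : R), smul_comm (t : R) (s : R)]

/-- For an `R`-linear map from a finite module to a finitely presented module, the primes at which its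
localization is bijective form an open subset of `Spec R`. -/
theorem result {R M N : Type u} [CommRing R] [AddCommGroup M] [Module R M] [Module.Finite R M]
    [AddCommGroup N] [Module R N] [Module.FinitePresentation R N] (φ : M →ₗ[R] N) :
    IsOpen {p : PrimeSpectrum R | Function.Bijective (LocalizedModule.map p.asIdeal.primeCompl φ)} := by
  rw [isOpen_iff_forall_mem_open]
  intro p hp
  obtain ⟨g, hg, hbij⟩ := Module.FinitePresentation.exists_notMem_bijective φ p.asIdeal
    (LocalizedModule.mkLinearMap p.asIdeal.primeCompl M)
    (LocalizedModule.mkLinearMap p.asIdeal.primeCompl N) hp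
  refine ⟨PrimeSpectrum.basicOpen g, ?_, (PrimeSpectrum.basicOpen g).2, hg⟩
  intro q hq
  refine bijective_of_le φ (Submonoid.powers g) q.asIdeal.primeCompl ?_ hbij
  rw [Submonoid.powers_le]
  exact hq

end Groth.Agent.S2131
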