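import Groth.Statements.S2132
import Mathlib.Algebra.Category.Ring.FilteredColimits
import Mathlib.CategoryTheory.Limits.ConcreteCategory.Basic
import Mathlib.Algebra.Polynomial.Monic

set_option autoImplicit false
universe u
open CategoryTheory
open CAlg

namespace Groth.Agent.S2132

section
open Polynomial Limits

variable {J : Type u} [SmallCategory J] [IsFiltered J] (F : J ⥤ CommRingCat.{u})
  (c : Limits.Cocone F) (hc : Limits.IsColimit c)

include hc

theorem exists_rep (x : c.pt) : ∃ (j : J) (y : F.obj j), (c.ι.app j).hom y = x :=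
  Concrete.isColimit_exists_rep F hc x

theorem exists_of_rep_eq {i j : J} (x : F.obj i) (y : F.obj j)
    (h : (c.ι.app i).hom x = (c.ι.app j).hom y) :
    ∃ (k : J) (f : i ⟶ k) (g : j ⟶ k), (F.map f).hom x = (F.map g).hom y :=
  Concrete.isColimit_exists_of_rep_eq F hc x y h

omit hc [IsFiltered J] in
theorem ι_map {i k : J} (f : i ⟶ k) (x : F.obj i) :
    (c.ι.app k).hom ((F.map f).hom x) = (c.ι.app i).hom x := by
  have := c.w f
  rw [← this]
  rfl

theorem isUnit_of_isUnit_ι (hloc : ∀ (i j : J) (a : i ⟶ j), IsLocalHom (F.map a).hom)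
    {j : J} (z : F.obj j) (hz : IsUnit ((c.ι.app j).hom z)) : IsUnit z := by
  obtain ⟨w, hw⟩ := hz.exists_right_inv
  obtain ⟨i, w', rfl⟩ := exists_rep F c hc w
  let k := IsFiltered.max j i
  let l : j ⟶ k := IsFiltered.leftToMax j i
  let r : i ⟶ k := IsFiltered.rightToMax j i
  have h1 : (c.ι.app k).hom ((F.map l).hom z * (F.map r).hom w') = (c.ι.app k).hom 1 := by
    rw [map_mul, ι_map, ι_map, hw, map_one]
  obtain ⟨k', f, g, h2⟩ := exists_of_rep_eq F c hc _ _ h1
  rw [map_mul, map_one] at h2
  have h3 : IsUnit ((F.map f).hom ((F.map l).hom z)) := .of_mul_eq_one _ h2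
  have h4 : IsUnit ((F.map l).hom z) := (hloc _ _ f).map_nonunit _ h3
  exact (hloc _ _ l).map_nonunit _ h4

theorem exists_lift_poly (p : (c.pt)[X]) :
    ∃ (j : J) (q : (F.obj j)[X]), q.map (c.ι.app j).hom = p := by
  induction p using Polynomial.induction_on' with
  | add p q hp hq =>
    obtain ⟨i, p', rfl⟩ := hp
    obtain ⟨j, q', rfl⟩ := hq
    refine ⟨IsFiltered.max i j, p'.map (F.map (IsFiltered.leftToMax i j)).hom +
      q'.map (F.map (IsFiltered.rightToMax i j)).hom, ?_⟩
    rw [Polynomial.map_add, Polynomial.map_map, Polynomial.map_map]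
    congr 2
    · ext x; exact ι_map F c _ x
    · ext x; exact ι_map F c _ x
  | monomial n a =>
    obtain ⟨j, a', rfl⟩ := exists_rep F c hc a
    exact ⟨j, monomial n a', by simp⟩

theorem exists_lift_monic (p : (c.pt)[X]) (hp : p.Monic) :
    ∃ (j : J) (q : (F.obj j)[X]), q.Monic ∧ q.map (c.ι.app j).hom = p := by
  obtain ⟨j, q, hq⟩ := exists_lift_poly F c hc p
  set n := p.natDegree with hn
  let r : (F.obj j)[X] := ∑ i ∈ Finset.range n, C (q.coeff i) * X ^ i
  refine ⟨j, X ^ n + r, ?_, ?_⟩
  · apply Polynomial.monic_X_pow_add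
    refine lt_of_le_of_lt (Polynomial.degree_sum_le _ _) ?_
    refine (Finset.sup_lt_iff (WithBot.bot_lt_coe n)).mpr ?_
    intro i hi
    exact lt_of_le_of_lt (Polynomial.degree_C_mul_X_pow_le i _)
      (WithBot.coe_lt_coe.mpr (Finset.mem_range.mp hi))
  · rw [Polynomial.map_add, Polynomial.map_pow, Polynomial.map_X, Polynomial.map_sum]
    conv_rhs => rw [hp.as_sum]
    congr 1
    apply Finset.sum_congr rfl
    intro i _
    rw [Polynomial.map_mul, Polynomial.map_C, Polynomial.map_pow, Polynomial.map_X,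
      ← Polynomial.coeff_map, hq]

end

/-- Let `F : J ⥤ CommRingCat` be a filtered diagram of henselian local rings with local transition maps
and `c` a colimit cocone. Then the colimit is a henselian local ring. -/
theorem result {J : Type u} [SmallCategory J] [IsFiltered J] (F : J ⥤ CommRingCat.{u})
    (hF : ∀ j, HenselianLocalRing (F.obj j)) (hloc : ∀ (i j : J) (a : i ⟶ j), IsLocalHom (F.map a).hom)
    (c : Limits.Cocone F) (hc : Limits.IsColimit c) : HenselianLocalRing c.pt := by
  have hnt : ∀ i, Nontrivial (F.obj i) := fun i => (hF i).toIsLocalRing.toNontrivial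
  have : Nontrivial c.pt := CommRingCat.FilteredColimits.nontrivial hc
  have hlocal : IsLocalRing c.pt := by
    apply IsLocalRing.of_isUnit_or_isUnit_one_sub_self
    intro a
    obtain ⟨j, a', rfl⟩ := exists_rep F c hc a
    rcases IsLocalRing.isUnit_or_isUnit_one_sub_self a' with h | h
    · exact Or.inl (h.map _)
    · right
      have := h.map (c.ι.app j).hom
      rwa [map_sub, map_one] at this
  refine { toIsLocalRing := hlocal, is_henselian := ?_ }
  intro f hf a₀ h₁ h₂
  obtain ⟨j, q, hq, rfl⟩ := exists_lift_monic F c hc f hf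
  obtain ⟨i, a', rfl⟩ := exists_rep F c hc a₀
  let k := IsFiltered.max j i
  let l : j ⟶ k := IsFiltered.leftToMax j i
  let r : i ⟶ k := IsFiltered.rightToMax j i
  obtain ⟨qk, hqk_def⟩ : ∃ qk, qk = q.map (F.map l).hom := ⟨_, rfl⟩
  obtain ⟨ak, hak_def⟩ : ∃ ak, ak = (F.map r).hom a' := ⟨_, rfl⟩
  have hqk : qk.map (c.ι.app k).hom = q.map (c.ι.app j).hom := by
    rw [hqk_def, Polynomial.map_map]; congr 1; ext x; exact ι_map F c _ x
  have hak : (c.ι.app k).hom ak = (c.ι.app i).hom a' := by
    rw [hak_def]; exact ι_map F c _ _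
  have hqkm : qk.Monic := by rw [hqk_def]; exact hq.map _
  have heval : (c.ι.app k).hom (qk.eval ak) =
      (q.map (c.ι.app j).hom).eval ((c.ι.app i).hom a') := by
    rw [← hqk, ← hak, Polynomial.eval_map_apply]
  have hder : (c.ι.app k).hom (qk.derivative.eval ak) =
      (q.map (c.ι.app j).hom).derivative.eval ((c.ι.app i).hom a') := by
    rw [← hqk, ← hak, Polynomial.derivative_map, Polynomial.eval_map_apply]
  have hu : IsUnit (qk.derivative.eval ak) :=
    isUnit_of_isUnit_ι F c hc hloc _ (by rw [hder]; exact h₂)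
  have hm : qk.eval ak ∈ IsLocalRing.maximalIdeal (F.obj k) := by
    rw [IsLocalRing.mem_maximalIdeal, mem_nonunits_iff]
    intro hunit
    have := hunit.map (c.ι.app k).hom
    rw [heval] at this
    exact (IsLocalRing.mem_maximalIdeal _).mp h₁ this
  obtain ⟨a, ha, hdiff⟩ := (hF k).is_henselian qk hqkm ak hm hu
  refine ⟨(c.ι.app k).hom a, ?_, ?_⟩
  · rw [← hqk]
    exact ha.map
  · rw [← hak, ← map_sub, IsLocalRing.mem_maximalIdeal, mem_nonunits_iff]
    intro hunit
    have := isUnit_of_isUnit_ι F c hc hloc _ hunit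
    exact (IsLocalRing.mem_maximalIdeal _).mp hdiff this

end Groth.Agent.S2132
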