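import Groth.Statements.S2133
import Mathlib.RingTheory.Etale.Kaehler
import Mathlib.RingTheory.Localization.Module
import Mathlib.RingTheory.Localization.Away.Basic

set_option autoImplicit false
universe u
open CAlg

namespace Groth.Agent.S2133

open KaehlerDifferential in
theorem exists_derivation_localization {R L : Type u} [CommRing R] [CommRing L] [Algebra R L]
    (M : Submonoid R) [IsLocalization M L] (D : Derivation ℤ R R) :
    ∃ D' : Derivation ℤ L L, ∀ r, D' (algebraMap R L r) = algebraMap R L (D r) := by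
  let d : Ω[R⁄ℤ] →ₗ[R] R := D.liftKaehlerDifferential
  let ψ : Ω[R⁄ℤ] →ₗ[R] L := (Algebra.linearMap R L).comp d
  have hu : ∀ x : M, IsUnit (algebraMap R (Module.End R L) x) :=
    IsLocalizedModule.map_units (Algebra.linearMap R L)
  let lift : Ω[L⁄ℤ] →ₗ[R] L := IsLocalizedModule.lift M (KaehlerDifferential.map ℤ ℤ R L) ψ hu
  let liftL : Ω[L⁄ℤ] →ₗ[L] L := lift.extendScalarsOfIsLocalization M L
  refine ⟨liftL.compDer (KaehlerDifferential.D ℤ L), fun r => ?_⟩
  have h1 : (KaehlerDifferential.D ℤ L) (algebraMap R L r) =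
      KaehlerDifferential.map ℤ ℤ R L (KaehlerDifferential.D ℤ R r) := by
    rw [KaehlerDifferential.map_D]
  change lift ((KaehlerDifferential.D ℤ L) (algebraMap R L r)) = _
  rw [h1, IsLocalizedModule.lift_apply]
  simp [ψ, d]

theorem aux {R R' L : Type u} [CommRing R] [CommRing R'] [Algebra R R'] [Algebra.FiniteType R R']
    [CommRing L] [Algebra R' L] [Algebra R L] [IsScalarTower R R' L]
    (hinj : Function.Injective (algebraMap R R')) (g : R)
    [IsLocalization.Away (algebraMap R R' g) L] (hg : IsSMulRegular R' (algebraMap R R' g))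
    (hloc : ∀ x : R', ∃ n : ℕ, (algebraMap R R' g) ^ n * x ∈ Set.range (algebraMap R R')) (D : Derivation ℤ R R) :
    ∃ (N : ℕ) (D' : Derivation ℤ R' R'), ∀ r : R, D' (algebraMap R R' r) = algebraMap R R' (g ^ N * D r) := by
  classical
  set g' := algebraMap R R' g with hg'
  have hsc : ∀ r : R, algebraMap R L r = algebraMap R' L (algebraMap R R' r) :=
    fun r => IsScalarTower.algebraMap_apply R R' L r
  have hunit : IsUnit (algebraMap R' L g') := IsLocalization.Away.algebraMap_isUnit g'
  have hgnz : g' ∈ nonZeroDivisors R' := by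
    rw [mem_nonZeroDivisors_iff_right]
    intro x hx
    apply hg
    simp only [smul_eq_mul, mul_zero]
    rw [mul_comm]; exact hx
  have hLinj : Function.Injective (algebraMap R' L) :=
    IsLocalization.injective L (Submonoid.powers_le.mpr hgnz)
  -- `L` is the localization of `R` at the powers of `g`
  have hLoc : IsLocalization (Submonoid.powers g) L := by
    rw [isLocalization_iff]
    refine ⟨?_, ?_, ?_⟩
    · rintro ⟨y, n, rfl⟩
      simp only [hsc, map_pow]
      exact hunit.pow n
    · intro z
      obtain ⟨⟨x, ⟨_, k, rfl⟩⟩, hx⟩ := IsLocalization.surj (Submonoid.powers g') z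
      simp only at hx
      obtain ⟨n, r, hr⟩ := hloc x
      refine ⟨⟨r, ⟨g ^ (k + n), k + n, rfl⟩⟩, ?_⟩
      simp only [hsc, hr, map_pow, map_mul, pow_add]
      rw [← mul_assoc, ← map_pow, hx]
      ring
    · intro x y hxy
      rw [hsc, hsc] at hxy
      obtain ⟨⟨_, n, rfl⟩, hc⟩ := IsLocalization.exists_of_eq (M := Submonoid.powers g') hxy
      refine ⟨⟨g ^ n, n, rfl⟩, ?_⟩
      apply hinj
      simpa [map_mul, map_pow] using hc
  obtain ⟨DL, hDL⟩ := exists_derivation_localization (L := L) (Submonoid.powers g) D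
  -- the key property
  let P : ℕ → R' → Prop := fun N x =>
    ∃ z : R', algebraMap R' L z = algebraMap R' L (g' ^ N) * DL (algebraMap R' L x)
  have hPmono : ∀ N k x, P N x → P (N + k) x := by
    rintro N k x ⟨z, hz⟩
    refine ⟨g' ^ k * z, ?_⟩
    rw [map_mul, hz, pow_add, map_mul]
    ring
  have hPex : ∀ x, ∃ N, P N x := by
    intro x
    obtain ⟨⟨z, ⟨_, k, rfl⟩⟩, hz⟩ := IsLocalization.surj (Submonoid.powers g') (DL (algebraMap R' L x))
    simp only at hz
    exact ⟨k, z, by rw [← hz]; ring⟩
  obtain ⟨s, hs⟩ := (Algebra.FiniteType.out : (⊤ : Subalgebra R R').FG)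
  choose Nx hNx using hPex
  let N := ∑ x ∈ s, Nx x
  have hPs : ∀ x ∈ s, P N x := by
    intro x hx
    have hle : Nx x ≤ N := Finset.single_le_sum (f := Nx) (fun _ _ => Nat.zero_le _) hx
    obtain ⟨k, hk⟩ := Nat.exists_eq_add_of_le hle
    rw [hk]
    exact hPmono _ _ _ (hNx x)
  let S : Subalgebra R R' :=
    { carrier := {x | P N x}
      mul_mem' := by
        rintro x y ⟨zx, hzx⟩ ⟨zy, hzy⟩
        refine ⟨x * zy + y * zx, ?_⟩
        rw [map_add, map_mul, map_mul, hzx, hzy, map_mul, DL.leibniz]
        simp only [smul_eq_mul]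
        ring
      add_mem' := by
        rintro x y ⟨zx, hzx⟩ ⟨zy, hzy⟩
        refine ⟨zx + zy, ?_⟩
        rw [map_add, hzx, hzy, map_add, map_add]
        ring
      algebraMap_mem' := by
        intro r
        refine ⟨g' ^ N * algebraMap R R' (D r), ?_⟩
        rw [map_mul, ← hsc, ← hsc, hDL] }
  have hS : S = ⊤ := by
    rw [eq_top_iff, ← hs]
    exact Algebra.adjoin_le hPs
  have hPall : ∀ x, P N x := fun x => by
    have : x ∈ S := hS ▸ Algebra.mem_top
    exact this
  choose z hz using hPall
  have hzadd : ∀ x y, z (x + y) = z x + z y := by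
    intro x y
    apply hLinj
    rw [map_add, hz, hz, hz, map_add, map_add]
    ring
  let zl : R' →ₗ[ℤ] R' := (AddMonoidHom.mk' z hzadd).toIntLinearMap
  have hzl : ∀ x, zl x = z x := fun x => rfl
  refine ⟨N, Derivation.mk' zl ?_, ?_⟩
  · intro a b
    rw [hzl, hzl, hzl]
    apply hLinj
    simp only [smul_eq_mul]
    rw [map_add, map_mul, map_mul, hz, hz, hz, map_mul, DL.leibniz]
    simp only [smul_eq_mul]
    ring
  · intro r
    change zl _ = _
    rw [hzl]
    apply hLinj
    rw [hz, ← hsc, hDL, hsc, map_mul, map_mul, map_pow, map_pow, ← hg']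
    rw [map_pow]


/-- Let `R → R'` be an injective ring map of finite type and `g ∈ R` a nonzerodivisor on `R'` such that
every element of `R'` lands in `R` after multiplication by a power of `g` (so `R_g = R'_g`). Then
for every derivation `D` of `R` there is `N` such that `g^N D` extends to a derivation of `R'`. -/
theorem result {R R' : Type u} [CommRing R] [CommRing R'] [Algebra R R'] [Algebra.FiniteType R R']
    (hinj : Function.Injective (algebraMap R R')) (g : R) (hg : IsSMulRegular R' (algebraMap R R' g))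
    (hloc : ∀ x : R', ∃ n : ℕ, (algebraMap R R' g) ^ n * x ∈ Set.range (algebraMap R R')) (D : Derivation ℤ R R) :
    ∃ (N : ℕ) (D' : Derivation ℤ R' R'), ∀ r : R, D' (algebraMap R R' r) = algebraMap R R' (g ^ N * D r) := by
  exact aux (L := Localization.Away (algebraMap R R' g)) hinj g hg hloc D

end Groth.Agent.S2133
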