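import Groth.Statements.S2134
import Mathlib.Order.Minimal
import Mathlib.Data.Fintype.Powerset
import Mathlib.Order.WellFounded

set_option autoImplicit false
universe u
open CAlg

namespace Groth.Agent.S2134

/-- Let `K/k` be a field extension and `(K_α)` a nonempty family of intermediate fields, directed
downwards, with intersection `k`. For a `K`-subspace `V` of `K^n` (`n ≥ 1`), `V` contains a nonzero
vector with all coordinates in `k` if and only if for every `α` it contains a nonzero vector with
all coordinates in `K_α`. -/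
theorem result {k K : Type u} [Field k] [Field K] [Algebra k K] {ι : Type u} [Nonempty ι]
    (F : ι → IntermediateField k K) (hdir : ∀ a b : ι, ∃ c, F c ≤ F a ⊓ F b) (hinf : ⨅ a, F a = ⊥) (n : ℕ) (hn : 1 ≤ n)
    (V : Submodule K (Fin n → K)) :
    (∃ v ∈ V, v ≠ 0 ∧ ∀ i, v i ∈ Set.range (algebraMap k K)) ↔
      ∀ a, ∃ v ∈ V, v ≠ 0 ∧ ∀ i, v i ∈ F a := by
  classical
  constructor
  · rintro ⟨v, hvV, hv0, hv⟩ a
    refine ⟨v, hvV, hv0, fun i => ?_⟩
    obtain ⟨x, hx⟩ := hv i
    rw [← hx]
    exact (F a).algebraMap_mem x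
  · intro H
    -- the family of possible supports
    let 𝒯 : ι → Set (Finset (Fin n)) := fun a =>
      {T | ∃ v ∈ V, v ≠ 0 ∧ (∀ i, v i ∈ F a) ∧ ∀ i, v i ≠ 0 → i ∈ T}
    have hmono : ∀ a c, F c ≤ F a → 𝒯 c ⊆ 𝒯 a := by
      rintro a c hca T ⟨v, hvV, hv0, hv, hsupp⟩
      exact ⟨v, hvV, hv0, fun i => hca (hv i), hsupp⟩
    obtain ⟨S₀, hS₀⟩ := exists_minimal_of_wellFoundedLT (fun S : Set (Finset (Fin n)) => ∃ a, 𝒯 a = S)
      ⟨_, Classical.arbitrary ι, rfl⟩
    obtain ⟨a₀, ha₀⟩ := hS₀.prop
    have hconst : ∀ c, F c ≤ F a₀ → 𝒯 c = 𝒯 a₀ := by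
      intro c hc
      have h1 : 𝒯 c ≤ S₀ := ha₀ ▸ hmono a₀ c hc
      have h2 := hS₀.le_of_le ⟨c, rfl⟩ h1
      rw [ha₀]
      exact le_antisymm h1 h2
    have hne : ∃ T, T ∈ 𝒯 a₀ := by
      obtain ⟨v, hvV, hv0, hv⟩ := H a₀
      exact ⟨Finset.univ, v, hvV, hv0, hv, fun i _ => Finset.mem_univ i⟩
    obtain ⟨T, hT⟩ := exists_minimal_of_wellFoundedLT (fun T : Finset (Fin n) => T ∈ 𝒯 a₀) hne
    obtain ⟨v, hvV, hv0, hv, hsupp⟩ := hT.prop
    have hex : ∃ i, v i ≠ 0 := by
      by_contra hcon
      push Not at hcon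
      exact hv0 (funext hcon)
    obtain ⟨i, hi⟩ := hex
    have hiT : i ∈ T := hsupp i hi
    -- no nonzero vector with coordinates in `F a₀` supported in `T.erase i`
    have hmin : ∀ u ∈ V, (∀ j, u j ∈ F a₀) → (∀ j, u j ≠ 0 → j ∈ T) → u i = 0 → u = 0 := by
      intro u huV hu husupp hui
      by_contra hu0
      have hmem : T.erase i ∈ 𝒯 a₀ := by
        refine ⟨u, huV, hu0, hu, fun j hj => ?_⟩
        rw [Finset.mem_erase]
        refine ⟨?_, husupp j hj⟩
        rintro rfl
        exact hj hui
      have := hT.le_of_le hmem (Finset.erase_subset i T)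
      exact (Finset.notMem_erase i T) (this hiT)
    let v' : Fin n → K := (v i)⁻¹ • v
    have hv'V : v' ∈ V := V.smul_mem _ hvV
    have hv'i : v' i = 1 := by simp [v', hi]
    have hv'supp : ∀ j, v' j ≠ 0 → j ∈ T := by
      intro j hj
      apply hsupp
      intro h0
      apply hj
      simp [v', h0]
    have hv' : ∀ j, v' j ∈ F a₀ := by
      intro j
      simp only [v', Pi.smul_apply, smul_eq_mul]
      exact (F a₀).mul_mem ((F a₀).inv_mem (hv i)) (hv j)
    have hkey : ∀ b j, v' j ∈ F b := by
      intro b j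
      obtain ⟨c, hc⟩ := hdir a₀ b
      have hca : F c ≤ F a₀ := hc.trans inf_le_left
      have hcb : F c ≤ F b := hc.trans inf_le_right
      have hTc : T ∈ 𝒯 c := by rw [hconst c hca]; exact hT.prop
      obtain ⟨w, hwV, hw0, hw, hwsupp⟩ := hTc
      have hwi : w i ≠ 0 := by
        intro hwi
        exact hw0 (hmin w hwV (fun j => hca (hw j)) hwsupp hwi)
      let w' : Fin n → K := (w i)⁻¹ • w
      have hw'V : w' ∈ V := V.smul_mem _ hwV
      have hw'i : w' i = 1 := by simp [w', hwi]
      have hw'supp : ∀ j, w' j ≠ 0 → j ∈ T := by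
        intro j hj
        apply hwsupp
        intro h0
        apply hj
        simp [w', h0]
      have hw' : ∀ j, w' j ∈ F c := by
        intro j
        simp only [w', Pi.smul_apply, smul_eq_mul]
        exact (F c).mul_mem ((F c).inv_mem (hw i)) (hw j)
      have hsub : v' - w' = 0 := by
        apply hmin (v' - w') (V.sub_mem hv'V hw'V)
        · intro j
          exact (F a₀).sub_mem (hv' j) (hca (hw' j))
        · intro j hj
          by_contra hjT
          apply hj
          have h1 : v' j = 0 := by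
            by_contra h; exact hjT (hv'supp j h)
          have h2 : w' j = 0 := by
            by_contra h; exact hjT (hw'supp j h)
          simp [h1, h2]
        · simp [hv'i, hw'i]
      have : v' = w' := sub_eq_zero.mp hsub
      rw [this]
      exact hcb (hw' j)
    refine ⟨v', hv'V, ?_, fun j => ?_⟩
    · intro h0
      have := congr_fun h0 i
      rw [hv'i] at this
      exact one_ne_zero this
    · rw [← IntermediateField.mem_bot, ← hinf]
      have : v' j ∈ ((⨅ a, F a : IntermediateField k K) : Set K) := by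
        rw [IntermediateField.coe_iInf]
        exact Set.mem_iInter.mpr (fun b => hkey b j)
      exact this

end Groth.Agent.S2134
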