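import Groth.Statements.S2137
import Groth.Agent.Lib.Helper16.LDer3
import Groth.Agent.Lib.Helper16.PC12
import Groth.Agent.Lib.Helper16.PC2
-- import your own Groth.Agent.* helpers here

set_option autoImplicit false
universe u
open CategoryTheory
attribute [local instance] HasDerivedCategory.standard
open CAlg

namespace Groth.Agent.S2137

open CategoryTheory.Limits DerivedCategory CategoryTheory.Pretriangulated
open Groth.Agent.Lib.Helper16.LDer Groth.Agent.Lib.Helper16.PC Groth.Agent.Lib.Helper8.PAmp

/-- Let `A → B` be a ring map and `K` an `m`-pseudo-coherent object of `D(A)`. Then `K ⊗^L_A B` is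
`m`-pseudo-coherent in `D(B)`. (Stated assuming the total left derived functor of base change exists
on `D(A)`, a fact not available as a library result here.) -/
theorem result {A B : Type u} [CommRing A] [CommRing B] (φ : A →+* B) [DRing.HasLBaseChange φ]
    (K : Dual.D A) (m : ℤ) (hK : DRing.IsPseudoCoherent A m K) :
    DRing.IsPseudoCoherent B m ((DRing.LBaseChange φ).obj K) := by
  rw [isPseudoCoherent_iff] at hK ⊢
  obtain ⟨b', hb'⟩ := hK.exists_isLE
  obtain ⟨E, a, b, α, hE, hff, hgood⟩ := hK
  -- a representative of `K`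
  let L := Q.objPreimage K
  let eL : Q.obj L ≅ K := Q.objObjPreimageIso K
  have hL : (Q.obj L).IsLE b' := (TStructure.t).isLE_of_iso eL.symm b'
  obtain ⟨P, p, hPb, hPproj, hp⟩ := exists_projective_resolution L b' hL
  have hpiso : IsIso (Q.map p) := (isIso_Q_map_iff_quasiIso _ p).2 hp
  let eP : Q.obj P ≅ K := asIso (Q.map p) ≪≫ eL
  haveI : E.IsKProjective := isKProjective_of_hasProjAmp_data E b (fun i hi => hE i (Or.inr hi))
    (fun i => finFree_proj _ (hff i))
  haveI : P.IsKProjective := isKProjective_of_hasProjAmp_data P b' hPb hPproj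
  obtain ⟨a₀, ha₀⟩ := exists_Q_map_of_isKProjective E P (α ≫ eP.inv)
  have hgood₀ : Good m (Q.map a₀) := by
    rw [← ha₀]
    exact hgood.comp (good_of_isIso m eP.inv)
  -- the cone
  have hT₀ := DerivedCategory.mappingCone_triangle_distinguished a₀
  have hC₀ : (Q.obj (CochainComplex.mappingCone a₀)).IsLE (m - 1) :=
    (good_iff_isLE _ hT₀ m (m - 1) (by omega)).1 hgood₀
  haveI : (CochainComplex.mappingCone a₀).IsKProjective := by
    refine isKProjective_of_hasProjAmp_data _ (max b b') (fun i hi => ?_) (fun i => ?_)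
    · exact Groth.Agent.Lib.Helper8.DRing2.isZero_mappingCone_X a₀ i
        (hE (i + 1) (Or.inr (by have := le_max_left b b'; omega)))
        (hPb i (by have := le_max_right b b'; omega))
    · exact projective_mappingCone_X a₀ i (finFree_proj _ (hff (i + 1))) (hPproj i)
  obtain ⟨P', p', hP'b, hP'proj, hp'⟩ :=
    exists_projective_resolution (CochainComplex.mappingCone a₀) (m - 1) hC₀
  haveI : P'.IsKProjective := isKProjective_of_hasProjAmp_data P' (m - 1) hP'b hP'proj
  have hp'iso : IsIso ((HomotopyCategory.quotient (ModuleCat.{u} A) (ComplexShape.up ℤ)).map p') :=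
    HomotopyCategory.quotient_inverts_homotopyEquivalences _ _ p'
      ((CochainComplex.IsKProjective.quasiIso_iff p').1 hp')
  -- apply the triangulated functor `K(A) ⥤ D(B)`
  let G : HomotopyCategory (ModuleCat.{u} A) (ComplexShape.up ℤ) ⥤ Dual.D B :=
    DRing.baseChangeKh φ
  have hTG := G.map_distinguished _ (HomotopyCategory.mappingCone_triangleh_distinguished a₀)
  have hGC : (G.obj ((HomotopyCategory.quotient _ _).obj (CochainComplex.mappingCone a₀))).IsLE
      (m - 1) := by
    have e : G.obj ((HomotopyCategory.quotient _ _).obj P') ≅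
        G.obj ((HomotopyCategory.quotient _ _).obj (CochainComplex.mappingCone a₀)) :=
      G.mapIso (asIso ((HomotopyCategory.quotient _ _).map p'))
    have : CochainComplex.IsStrictlyLE ((extCx φ).obj P') (m - 1) := by
      rw [CochainComplex.isStrictlyLE_iff]
      intro i hi
      exact extCx_isZero φ P' i (hP'b i hi)
    have h2 : (Q.obj ((extCx φ).obj P')).IsLE (m - 1) := by
      rw [isLE_Q_obj_iff]
      infer_instance
    have h3 : TStructure.t.IsLE (G.obj ((HomotopyCategory.quotient _ _).obj P')) (m - 1) := h2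
    exact (TStructure.t).isLE_of_iso e (m - 1)
  have hgoodG : Good m (G.map ((HomotopyCategory.quotient _ _).map a₀)) :=
    (good_iff_isLE _ hTG m (m - 1) (by omega)).2 hGC
  -- conclusion
  have hPC : IsPC (FinFree (R := B)) m (Q.obj ((extCx φ).obj P)) := by
    refine ⟨(extCx φ).obj E, a, b, Q.map ((extCx φ).map a₀),
      fun i hi => extCx_isZero φ E i (hE i hi), fun i => ?_, hgoodG⟩
    have h1 := (hff i).1
    have h2 := (hff i).2
    exact ⟨ext_finite φ (E.X i), ext_free φ (E.X i)⟩
  exact hPC.of_iso ((lBaseChangeIso φ P).symm ≪≫ (DRing.LBaseChange φ).mapIso eP)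

end Groth.Agent.S2137
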