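import Groth.Statements.S2138
import Groth.Agent.Lib.Helper2.SymbFlat

set_option autoImplicit false
universe u
open CAlg

namespace Groth.Agent.S2138

/-- the `n`-th symbolic power of a prime -/
def symb {A : Type*} [CommRing A] (P : Ideal A) [P.IsPrime] (n : ℕ) : Ideal A :=
  ((P ^ n).map (algebraMap A (Localization.AtPrime P))).comap
    (algebraMap A (Localization.AtPrime P))

lemma mem_symb {A : Type*} [CommRing A] (P : Ideal A) [P.IsPrime] (n : ℕ) (x : A) :
    x ∈ symb P n ↔ ∃ s, s ∉ P ∧ s * x ∈ P ^ n := by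
  unfold symb
  rw [Ideal.mem_comap, IsLocalization.mem_map_algebraMap_iff P.primeCompl]
  constructor
  · rintro ⟨⟨⟨a, ha⟩, ⟨s, hs⟩⟩, h⟩
    simp only at h
    rw [← map_mul, IsLocalization.eq_iff_exists P.primeCompl] at h
    obtain ⟨⟨c, hc⟩, hc'⟩ := h
    refine ⟨c * s, P.primeCompl.mul_mem hc hs, ?_⟩
    have : c * s * x = c * a := by
      rw [← hc']
      ring
    rw [this]
    exact Ideal.mul_mem_left _ _ ha
  · rintro ⟨s, hs, hsx⟩
    refine ⟨⟨⟨s * x, hsx⟩, ⟨s, hs⟩⟩, ?_⟩
    simp only
    rw [← map_mul, mul_comm]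

lemma symb_succ_le {A : Type*} [CommRing A] (P : Ideal A) [P.IsPrime] (i : ℕ) :
    symb P (i + 1) ≤ symb P i := by
  intro r hr
  obtain ⟨s, hs, hsr⟩ := (mem_symb P (i + 1) r).mp hr
  exact (mem_symb P i r).mpr ⟨s, hs, Ideal.pow_le_pow_right (Nat.le_succ i) hsr⟩

lemma pow_le_symb {A : Type*} [CommRing A] (P : Ideal A) [P.IsPrime] (n : ℕ) :
    P ^ n ≤ symb P n := Ideal.le_comap_map

/-- Let `R → S` be flat and `𝔭` a prime of `R` whose extension `𝔮 = 𝔭S` is prime. Then for every `n` the
extension to `S` of the symbolic power `𝔭^{(n)}` (the contraction of `𝔭ⁿR_𝔭`) equals the symbolic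
power `𝔮^{(n)}`. -/
theorem result {R S : Type u} [CommRing R] [CommRing S] [Algebra R S] [Module.Flat R S]
    (p : Ideal R) [p.IsPrime] [(p.map (algebraMap R S)).IsPrime] (n : ℕ) :
    (((p ^ n).map (algebraMap R (Localization.AtPrime p))).comap (algebraMap R (Localization.AtPrime p))).map
        (algebraMap R S) =
      (((p.map (algebraMap R S)) ^ n).map (algebraMap S (Localization.AtPrime (p.map (algebraMap R S))))).comap
        (algebraMap S (Localization.AtPrime (p.map (algebraMap R S)))) := by
  classical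
  show (symb p n).map (algebraMap R S) = symb (p.map (algebraMap R S)) n
  have hqtop : p.map (algebraMap R S) ≠ ⊤ := Ideal.IsPrime.ne_top inferInstance
  have hpow : ∀ k, (p.map (algebraMap R S)) ^ k = (p ^ k).map (algebraMap R S) := fun k =>
    (Ideal.map_pow _ _ _).symm
  apply le_antisymm
  · rw [Ideal.map_le_iff_le_comap]
    intro r hr
    obtain ⟨s, hs, hsr⟩ := (mem_symb p n r).mp hr
    rw [Ideal.mem_comap, mem_symb]
    refine ⟨algebraMap R S s,
      Groth.Agent.Lib.Helper2.SymbFlat.algebraMap_notMem p hqtop s hs, ?_⟩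
    rw [← map_mul, hpow]
    exact Ideal.mem_map_of_mem _ hsr
  · intro x hx
    obtain ⟨t, ht, htx⟩ := (mem_symb (p.map (algebraMap R S)) n x).mp hx
    have hreg : ∀ i, Groth.Agent.Lib.Helper2.SymbFlat.Reg (R := R) t (R ⧸ symb p i) := by
      intro i
      induction i with
      | zero =>
        have h0 : symb p 0 = ⊤ := by
          rw [Ideal.eq_top_iff_one, mem_symb]
          refine ⟨1, fun h => (Ideal.IsPrime.ne_top ‹p.IsPrime›) ((Ideal.eq_top_iff_one _).mpr h), ?_⟩
          simp
        haveI : Subsingleton (R ⧸ symb p 0) := by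
          rw [h0]
          exact Ideal.Quotient.subsingleton_iff.mpr rfl
        exact Groth.Agent.Lib.Helper2.SymbFlat.reg_of_subsingleton t _
      | succ i ih =>
        let π : (R ⧸ symb p (i + 1)) →ₗ[R] (R ⧸ symb p i) :=
          (Ideal.Quotient.factorₐ R (symb_succ_le p i)).toLinearMap
        have hπ : ∀ y : R, π (Ideal.Quotient.mk _ y) = Ideal.Quotient.mk _ y := fun y => rfl
        have hex : Function.Exact (LinearMap.ker π).subtype π :=
          LinearMap.exact_subtype_ker_map π
        refine Groth.Agent.Lib.Helper2.SymbFlat.Reg.of_exact (LinearMap.ker π).subtype π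
          (LinearMap.ker π).injective_subtype hex ?_ ih
        apply Groth.Agent.Lib.Helper2.SymbFlat.reg_of_torsionFree p t ht (LinearMap.ker π)
        · rintro a ha ⟨y', hy'⟩
          obtain ⟨y, rfl⟩ := Ideal.Quotient.mk_surjective y'
          apply Subtype.ext
          show a • (Ideal.Quotient.mk (symb p (i + 1)) y) = 0
          rw [LinearMap.mem_ker, hπ, Ideal.Quotient.eq_zero_iff_mem] at hy'
          obtain ⟨s, hs, hsy⟩ := (mem_symb p i y).mp hy'
          rw [Algebra.smul_def, Ideal.Quotient.algebraMap_eq, ← map_mul,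
            Ideal.Quotient.eq_zero_iff_mem, mem_symb]
          refine ⟨s, hs, ?_⟩
          have : s * (a * y) = (s * y) * a := by ring
          rw [this, pow_succ]
          exact Ideal.mul_mem_mul hsy ha
        · rintro r hr ⟨y', hy'⟩ h
          obtain ⟨y, rfl⟩ := Ideal.Quotient.mk_surjective y'
          apply Subtype.ext
          show Ideal.Quotient.mk (symb p (i + 1)) y = 0
          have h' : r • (Ideal.Quotient.mk (symb p (i + 1)) y) = 0 :=
            congrArg Subtype.val h
          rw [Algebra.smul_def, Ideal.Quotient.algebraMap_eq, ← map_mul,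
            Ideal.Quotient.eq_zero_iff_mem, mem_symb] at h'
          obtain ⟨s, hs, hsry⟩ := h'
          rw [Ideal.Quotient.eq_zero_iff_mem, mem_symb]
          refine ⟨s * r, p.primeCompl.mul_mem hs hr, ?_⟩
          rw [mul_assoc]
          exact hsry
    have htx' : t * x ∈ (symb p n).map (algebraMap R S) := by
      rw [hpow] at htx
      exact Ideal.map_mono (pow_le_symb p n) htx
    exact Groth.Agent.Lib.Helper2.SymbFlat.mem_map_of_reg (symb p n) t x (hreg n) htx'

end Groth.Agent.S2138
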