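import Groth.Statements.S2140
import Groth.Agent.Lib.helper11.GenFreeFP2
import Mathlib.RingTheory.Localization.BaseChange

set_option autoImplicit false
universe u
open CAlg

namespace Groth.Agent.S2140

/-- Let `R → S` be an injective ring map of finite type between domains. Then there are nonzero `f ∈ R`
and `g ∈ S` such that `S_{fg}` is a finitely presented `R_f`-algebra. -/
theorem result {R S : Type u} [CommRing R] [IsDomain R] [CommRing S] [IsDomain S]
    [Algebra R S] [Algebra.FiniteType R S] (hinj : Function.Injective (algebraMap R S)) :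
    ∃ (f : R) (g : S), f ≠ 0 ∧ g ≠ 0 ∧
      ∀ (Rf Sfg : Type u) [CommRing Rf] [CommRing Sfg] [Algebra R Rf] [IsLocalization.Away f Rf]
        [Algebra S Sfg] [IsLocalization.Away (algebraMap R S f * g) Sfg] [Algebra Rf Sfg] [Algebra R Sfg]
        [IsScalarTower R S Sfg] [IsScalarTower R Rf Sfg], Algebra.FinitePresentation Rf Sfg := by
  classical
  obtain ⟨f, hf, H⟩ := Groth.Agent.Lib.helper11.GenFreeFP2.exists_fp_algebra (R := R) (S := S)
  refine ⟨f, 1, hf, one_ne_zero, ?_⟩
  intro Rf Sfg _ _ _ _ _ hloc _ _ _ _
  haveI : IsLocalization.Away (algebraMap R S f) Sfg := by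
    have := hloc
    rwa [mul_one] at this
  haveI : Algebra.FinitePresentation Rf (TensorProduct R Rf S) := H f (dvd_refl f) Rf
  letI : Algebra S (TensorProduct R Rf S) := Algebra.TensorProduct.rightAlgebra
  haveI : IsLocalization.Away (algebraMap R S f) (TensorProduct R Rf S) :=
    IsLocalization.Away.tensorRight f Rf
  let ψ : TensorProduct R Rf S →ₐ[Rf] Sfg :=
    Algebra.TensorProduct.productLeftAlgHom (Algebra.ofId Rf Sfg) (IsScalarTower.toAlgHom R S Sfg)
  let e : TensorProduct R Rf S ≃ₐ[S] Sfg :=
    IsLocalization.algEquiv (Submonoid.powers (algebraMap R S f)) _ _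
  have hψe : (ψ : TensorProduct R Rf S →+* Sfg) = (e : TensorProduct R Rf S →+* Sfg) := by
    apply IsLocalization.ringHom_ext (Submonoid.powers (algebraMap R S f))
    ext s
    simp only [RingHom.comp_apply]
    have h1 : algebraMap S (TensorProduct R Rf S) s = (1 : Rf) ⊗ₜ[R] s := rfl
    rw [h1]
    have h2 : (e : TensorProduct R Rf S →+* Sfg) ((1 : Rf) ⊗ₜ[R] s) = algebraMap S Sfg s := by
      rw [← h1]
      exact e.commutes s
    rw [h2]
    simp [ψ]
  have hbij : Function.Bijective ψ := by
    have : (ψ : TensorProduct R Rf S → Sfg) = e := by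
      funext x
      exact congrFun (congrArg DFunLike.coe hψe) x
    rw [this]
    exact e.bijective
  exact Algebra.FinitePresentation.equiv (AlgEquiv.ofBijective ψ hbij)

end Groth.Agent.S2140
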