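import Groth.Statements.S2142
import Groth.Agent.Lib.Helper18.FieldBC.DimLe
import Groth.Agent.Lib.Helper18.FieldBC.Top
import Groth.Agent.Lib.lead.AffLocalDim

set_option linter.style.haveILetI false
open TensorProduct Groth.Agent.Lib.Helper18.FieldBC

set_option autoImplicit false
universe u
open CAlg

namespace Groth.Agent.S2142

open TensorProduct in
/-- Let `S` be of finite type over a field `k`, `K/k` a field extension, `𝔮` a prime of `S` and `𝔮_K` a
prime of `K ⊗_k S` lying over `𝔮`. Then the local dimension of `Spec (K ⊗_k S)` at `𝔮_K` equals the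
local dimension of `Spec S` at `𝔮`. -/
theorem result {k S K : Type u} [Field k] [CommRing S] [Algebra k S] [Algebra.FiniteType k S] [Field K]
    [Algebra k K] (q : Ideal S) [q.IsPrime] (qK : Ideal (K ⊗[k] S)) [qK.IsPrime]
    (hq : qK.comap (Algebra.TensorProduct.includeRight.toRingHom : S →+* K ⊗[k] S) = q) :
    FlatMor.localDim (PrimeSpectrum (K ⊗[k] S)) ⟨qK, inferInstance⟩ = FlatMor.localDim (PrimeSpectrum S) ⟨q, inferInstance⟩ := by
  set ι : S →+* K ⊗[k] S := Algebra.TensorProduct.includeRight.toRingHom with hι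
  set π : PrimeSpectrum (K ⊗[k] S) → PrimeSpectrum S := PrimeSpectrum.comap ι with hπ
  have hπq : π ⟨qK, inferInstance⟩ = ⟨q, inferInstance⟩ := PrimeSpectrum.ext hq
  have hπc : Continuous π := PrimeSpectrum.continuous_comap ι
  -- factor through the commutativity isomorphism
  let e : S ⊗[k] K ≃ₐ[k] K ⊗[k] S := Algebra.TensorProduct.comm k S K
  have hfac : ι = (e : S ⊗[k] K →+* K ⊗[k] S).comp (algebraMap S (S ⊗[k] K)) := by
    refine RingHom.ext fun s => ?_
    simp [ι, e, Algebra.TensorProduct.algebraMap_apply]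
  have hflat : ι.Flat := by
    rw [hfac]
    refine RingHom.Flat.comp ?_ (RingHom.Flat.of_bijective e.bijective)
    rw [RingHom.flat_algebraMap_iff]
    infer_instance
  have hgen : GeneralizingMap π := hflat.generalizingMap_comap
  have hπo : IsOpenMap π := by
    have h1 : π = (PrimeSpectrum.comap (algebraMap S (S ⊗[k] K))) ∘
        (PrimeSpectrum.comap (e : S ⊗[k] K →+* K ⊗[k] S)) := by
      rw [hπ, hfac]
      rfl
    rw [h1]
    refine IsOpenMap.comp PrimeSpectrum.isOpenMap_comap_algebraMap_tensorProduct_of_field ?_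
    exact (PrimeSpectrum.homeomorphOfRingEquiv e.toRingEquiv.symm).isOpenMap
  apply le_antisymm
  · -- via minimal primes
    rw [Groth.Agent.Lib.lead.AffLocalDim.localDim_eq (k := K) (K ⊗[k] S) ⟨qK, inferInstance⟩,
      Groth.Agent.Lib.lead.AffLocalDim.localDim_eq (k := k) S ⟨q, inferInstance⟩]
    obtain ⟨P, hPle, hPmin, hPeq⟩ := Groth.Agent.Lib.Helper7.AffDim.exists_isMin_coheight_eq
      (k := K) (K ⊗[k] S) ⟨qK, inferInstance⟩
    set p := π P with hp
    have hpq : p ≤ ⟨q, inferInstance⟩ := by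
      rw [← hπq]
      exact Ideal.comap_mono hPle
    have h1 : ringKrullDim ((K ⊗[k] S) ⧸ P.asIdeal) ≤ ringKrullDim (S ⧸ p.asIdeal) := by
      let f : K →ₐ[k] (K ⊗[k] S) ⧸ P.asIdeal :=
        (Ideal.Quotient.mkₐ k P.asIdeal).comp Algebra.TensorProduct.includeLeft
      let g : S ⧸ p.asIdeal →ₐ[k] (K ⊗[k] S) ⧸ P.asIdeal :=
        Ideal.Quotient.liftₐ p.asIdeal
          ((Ideal.Quotient.mkₐ k P.asIdeal).comp Algebra.TensorProduct.includeRight)
          (fun a ha => by
            have : (1 : K) ⊗ₜ[k] a ∈ P.asIdeal := ha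
            simpa [Ideal.Quotient.eq_zero_iff_mem] using this)
      let ψ : K ⊗[k] (S ⧸ p.asIdeal) →ₐ[k] (K ⊗[k] S) ⧸ P.asIdeal :=
        Algebra.TensorProduct.productMap f g
      have hψ : Function.Surjective ψ := by
        intro x
        obtain ⟨t, rfl⟩ := Ideal.Quotient.mk_surjective x
        induction t using TensorProduct.induction_on with
        | zero => exact ⟨0, by simp⟩
        | add x y hx hy =>
          obtain ⟨a, ha⟩ := hx
          obtain ⟨b, hb⟩ := hy
          exact ⟨a + b, by rw [map_add, ha, hb, map_add]⟩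
        | tmul c s =>
          refine ⟨c ⊗ₜ[k] Ideal.Quotient.mk p.asIdeal s, ?_⟩
          rw [Algebra.TensorProduct.productMap_apply_tmul]
          show (Ideal.Quotient.mk P.asIdeal) (c ⊗ₜ[k] 1) *
            (Ideal.Quotient.mk P.asIdeal) ((1 : K) ⊗ₜ[k] s) = _
          rw [← map_mul, Algebra.TensorProduct.tmul_mul_tmul, mul_one, one_mul]
      exact (ringKrullDim_le_of_surjective ψ.toRingHom hψ).trans ringKrullDim_tensor_le
    rw [Groth.Agent.Lib.Helper7.AffChain.ringKrullDim_quotient_eq_coheight,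
      Groth.Agent.Lib.Helper7.AffChain.ringKrullDim_quotient_eq_coheight] at h1
    have h2 : Order.coheight P ≤ Order.coheight p := by exact_mod_cast h1
    have h3 := Groth.Agent.Lib.lead.AffLocalDim.coheight_add_height_mono (k := k) S hpq
    have h4 : Order.height (⟨qK, inferInstance⟩ : PrimeSpectrum (K ⊗[k] S)) +
        Order.coheight (⟨qK, inferInstance⟩ : PrimeSpectrum (K ⊗[k] S)) ≤
        Order.height (⟨q, inferInstance⟩ : PrimeSpectrum S) +
          Order.coheight (⟨q, inferInstance⟩ : PrimeSpectrum S) :=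
      calc _ = Order.coheight P := by rw [hPeq, add_comm]
        _ ≤ Order.coheight p := h2
        _ ≤ Order.coheight p + Order.height p := le_self_add
        _ ≤ _ := h3
        _ = _ := add_comm _ _
    exact_mod_cast h4
  · unfold FlatMor.localDim
    refine le_iInf fun W => ?_
    refine (iInf_le _ ⟨⟨π '' W.1, hπo _ W.1.2⟩, ⟨_, W.2, hπq⟩⟩).trans ?_
    exact dim_image_le_of_generalizing π hπc hπo hgen W.1 W.1.2

end Groth.Agent.S2142
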