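import Groth.Statements.S2145
import Mathlib
import Groth.Agent.Lib.Helper2.SpreadOut

set_option autoImplicit false
universe u
open CAlg

namespace Groth.Agent.S2145

/-- Let `S`, `S'` be finitely presented `R`-algebras and `𝔮 ⊆ S`, `𝔮' ⊆ S'` primes with `S_𝔮 ≅ S'_{𝔮'}`
as `R`-algebras. Then `S_g ≅ S'_{g'}` as `R`-algebras for some `g ∉ 𝔮`, `g' ∉ 𝔮'`. -/
theorem result {R S S' : Type u} [CommRing R] [CommRing S] [CommRing S'] [Algebra R S]
    [Algebra R S'] [Algebra.FinitePresentation R S] [Algebra.FinitePresentation R S'] (q : Ideal S) [q.IsPrime]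
    (q' : Ideal S') [q'.IsPrime] (e : Localization.AtPrime q ≃ₐ[R] Localization.AtPrime q') :
    ∃ (g : S) (g' : S'), g ∉ q ∧ g' ∉ q' ∧ Nonempty (Localization.Away g ≃ₐ[R] Localization.Away g') := by
  classical
  open Lib.Helper2.SpreadOut in
  obtain ⟨g', hg', φ₁, hφ₁⟩ := exists_lift (R := R) (T := S') q'
    (e.toAlgHom.comp (IsScalarTower.toAlgHom R S (Localization.AtPrime q)))
  open Lib.Helper2.SpreadOut in
  obtain ⟨g, hg, ψ₁, hψ₁⟩ := exists_lift (R := R) (T := S) q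
    (e.symm.toAlgHom.comp (IsScalarTower.toAlgHom R S' (Localization.AtPrime q')))
  open Lib.Helper2.SpreadOut in
  have hφ₁' : ∀ x : S, toPrime (R := R) q' hg' (φ₁ x) = e (algebraMap S _ x) :=
    fun x => DFunLike.congr_fun hφ₁ x
  open Lib.Helper2.SpreadOut in
  have hψ₁' : ∀ x : S', toPrime (R := R) q hg (ψ₁ x) = e.symm (algebraMap S' _ x) :=
    fun x => DFunLike.congr_fun hψ₁ x
  -- (b)
  open Lib.Helper2.SpreadOut in
  have hub : IsUnit (toPrime (R := R) q' hg' (φ₁ g)) := by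
    rw [hφ₁']; exact (IsLocalization.map_units _ (⟨g, hg⟩ : q.primeCompl)).map e
  open Lib.Helper2.SpreadOut in
  obtain ⟨u'₁, hu'₁, hext₁⟩ := exists_extend (R := R) q' hg' φ₁ g hub
  have hh' : g' * u'₁ ∉ q' := fun h => (Ideal.IsPrime.mem_or_mem ‹_› h).elim hg' hu'₁
  obtain ⟨φ₂, hφ₂⟩ := hext₁ (g' * u'₁) (Dvd.intro _ rfl) (Dvd.intro_left _ rfl)
  open Lib.Helper2.SpreadOut in
  have hLφ₂ : ∀ y : Localization.Away g,
      toPrime (R := R) q' hh' (φ₂ y) = e (toPrime (R := R) q hg y) := by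
    have : (toPrime (R := R) q' hh').comp φ₂ = e.toAlgHom.comp (toPrime (R := R) q hg) := by
      apply away_algHom_ext
      intro x
      simp only [AlgHom.comp_apply]
      rw [hφ₂, toPrime_awayMap (R := R) q' _ hg' hh', hφ₁', toPrime_algebraMap]; rfl
    exact fun y => DFunLike.congr_fun this y
  -- (c)
  open Lib.Helper2.SpreadOut in
  obtain ⟨u'₂, hu'₂, heq₁⟩ := exists_eq (R := R) q' hh' (φ₂.comp ψ₁)
    (IsScalarTower.toAlgHom R S' _) (by
      ext x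
      simp only [AlgHom.comp_apply]
      rw [hLφ₂, hψ₁', e.apply_symm_apply]
      simp)
  have hgB : g' * u'₁ * u'₂ ∉ q' := fun h => (Ideal.IsPrime.mem_or_mem ‹_› h).elim hh' hu'₂
  have hd₁ : g' * u'₁ ∣ g' * u'₁ * u'₂ := Dvd.intro _ rfl
  open Lib.Helper2.SpreadOut in
  let φ₃ : Localization.Away g →ₐ[R] Localization.Away (g' * u'₁ * u'₂) :=
    (awayMap (R := R) hd₁).comp φ₂
  have h1 : ∀ x' : S', φ₃ (ψ₁ x') = algebraMap S' _ x' := by
    intro x'
    have := DFunLike.congr_fun (heq₁ _ hd₁ (Dvd.intro_left _ rfl)) x'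
    simp only [AlgHom.comp_apply, IsScalarTower.coe_toAlgHom',
      Lib.Helper2.SpreadOut.awayMap_algebraMap] at this
    exact this
  open Lib.Helper2.SpreadOut in
  have hLφ₃ : ∀ y, toPrime (R := R) q' hgB (φ₃ y) = e (toPrime (R := R) q hg y) := fun y => by
    change toPrime (R := R) q' hgB (awayMap (R := R) hd₁ (φ₂ y)) = _
    rw [toPrime_awayMap (R := R) q' hd₁ hh' hgB, hLφ₂]
  -- (d)
  open Lib.Helper2.SpreadOut in
  have hud : IsUnit (toPrime (R := R) q hg (ψ₁ (g' * u'₁ * u'₂))) := by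
    rw [hψ₁']; exact (IsLocalization.map_units _ (⟨_, hgB⟩ : q'.primeCompl)).map e.symm
  open Lib.Helper2.SpreadOut in
  obtain ⟨u₁, hu₁, hext₂⟩ := exists_extend (R := R) q hg ψ₁ _ hud
  have hg₂ : g * u₁ ∉ q := fun h => (Ideal.IsPrime.mem_or_mem ‹_› h).elim hg hu₁
  obtain ⟨ψ₂, hψ₂⟩ := hext₂ (g * u₁) (Dvd.intro _ rfl) (Dvd.intro_left _ rfl)
  open Lib.Helper2.SpreadOut in
  have hLψ₂ : ∀ y : Localization.Away (g' * u'₁ * u'₂),
      toPrime (R := R) q hg₂ (ψ₂ y) = e.symm (toPrime (R := R) q' hgB y) := by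
    have : (toPrime (R := R) q hg₂).comp ψ₂ = e.symm.toAlgHom.comp (toPrime (R := R) q' hgB) := by
      apply away_algHom_ext
      intro x
      simp only [AlgHom.comp_apply]
      rw [hψ₂, toPrime_awayMap (R := R) q _ hg hg₂, hψ₁', toPrime_algebraMap]; rfl
    exact fun y => DFunLike.congr_fun this y
  -- (e)
  open Lib.Helper2.SpreadOut in
  obtain ⟨u₂, hu₂, heq₂⟩ := exists_eq (R := R) q hg₂
    (ψ₂.comp (φ₃.comp (IsScalarTower.toAlgHom R S _))) (IsScalarTower.toAlgHom R S _) (by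
      ext x
      simp only [AlgHom.comp_apply]
      rw [hLψ₂, hLφ₃, e.symm_apply_apply]
      simp)
  have hg₃ : g * u₁ * u₂ ∉ q := fun h => (Ideal.IsPrime.mem_or_mem ‹_› h).elim hg₂ hu₂
  have hd₂ : g * u₁ ∣ g * u₁ * u₂ := Dvd.intro _ rfl
  have hgg₃ : g ∣ g * u₁ * u₂ := ⟨u₁ * u₂, by ring⟩
  open Lib.Helper2.SpreadOut in
  let ψ₃ : Localization.Away (g' * u'₁ * u'₂) →ₐ[R] Localization.Away (g * u₁ * u₂) :=
    (awayMap (R := R) hd₂).comp ψ₂
  have h2 : ∀ x : S, ψ₃ (φ₃ (algebraMap S _ x)) = algebraMap S _ x := by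
    intro x
    have := DFunLike.congr_fun (heq₂ _ hd₂ (Dvd.intro_left _ rfl)) x
    simp only [AlgHom.comp_apply, IsScalarTower.coe_toAlgHom',
      Lib.Helper2.SpreadOut.awayMap_algebraMap] at this
    exact this
  open Lib.Helper2.SpreadOut in
  have hψ₃alg : ∀ x' : S', ψ₃ (algebraMap S' _ x') = awayMap (R := R) hgg₃ (ψ₁ x') := by
    intro x'
    change awayMap (R := R) hd₂ (ψ₂ (algebraMap _ _ x')) = _
    rw [hψ₂, awayMap_awayMap]
  -- (f)
  open Lib.Helper2.SpreadOut in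
  have huf : IsUnit (toPrime (R := R) q' hgB
      ((φ₃.comp (IsScalarTower.toAlgHom R S _)) (g * u₁ * u₂))) := by
    change IsUnit (toPrime (R := R) q' hgB (φ₃ (algebraMap S _ (g * u₁ * u₂))))
    rw [hLφ₃, toPrime_algebraMap]
    exact (IsLocalization.map_units _ (⟨_, hg₃⟩ : q.primeCompl)).map e
  open Lib.Helper2.SpreadOut in
  obtain ⟨u'₃, hu'₃, ⟨v, hv, hvu⟩, hext₃⟩ := exists_extend' (R := R) q' hgB
    (φ₃.comp (IsScalarTower.toAlgHom R S _)) (g * u₁ * u₂) huf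
  have hgC : g' * u'₁ * u'₂ * u'₃ ∉ q' := fun h => (Ideal.IsPrime.mem_or_mem ‹_› h).elim hgB hu'₃
  have hd₃ : g' * u'₁ * u'₂ ∣ g' * u'₁ * u'₂ * u'₃ := Dvd.intro _ rfl
  obtain ⟨φ₄, hφ₄⟩ := hext₃ _ hd₃ (Dvd.intro_left _ rfl)
  have hunit4 : ∀ y : Submonoid.powers (g' * u'₁ * u'₂ * u'₃),
      IsUnit ((ψ₃.comp (IsScalarTower.toAlgHom R S' (Localization.Away (g' * u'₁ * u'₂)))) y) := by
    intro y
    obtain ⟨k, hk⟩ := y.2
    change IsUnit (ψ₃ (algebraMap S' _ (y : S')))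
    rw [← hk]
    change IsUnit (ψ₃ (algebraMap S' _ ((g' * u'₁ * u'₂ * u'₃) ^ k)))
    rw [map_pow, map_pow]
    refine IsUnit.pow k ?_
    rw [map_mul (algebraMap S' _), map_mul ψ₃]
    refine IsUnit.mul ?_ ?_
    · exact (IsLocalization.Away.algebraMap_isUnit (g' * u'₁ * u'₂)).map ψ₃
    · rw [hvu, map_mul]
      refine IsUnit.mul ?_ (hv.map ψ₃)
      change IsUnit (ψ₃ (φ₃ (algebraMap S _ (g * u₁ * u₂))))
      rw [h2]
      exact IsLocalization.Away.algebraMap_isUnit (g * u₁ * u₂)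
  let ψ₄ : Localization.Away (g' * u'₁ * u'₂ * u'₃) →ₐ[R] Localization.Away (g * u₁ * u₂) :=
    IsLocalization.liftAlgHom (M := Submonoid.powers (g' * u'₁ * u'₂ * u'₃))
      (f := ψ₃.comp (IsScalarTower.toAlgHom R S' _)) hunit4
  have hψ₄ : ∀ x' : S', ψ₄ (algebraMap S' _ x') = ψ₃ (algebraMap S' _ x') := by
    intro x'
    simp [ψ₄, IsLocalization.liftAlgHom_apply, IsLocalization.lift_eq]
  open Lib.Helper2.SpreadOut in
  have hψ₄away : ∀ y : Localization.Away (g' * u'₁ * u'₂),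
      ψ₄ (awayMap (R := R) hd₃ y) = ψ₃ y := by
    have : ψ₄.comp (awayMap (R := R) hd₃) = ψ₃ :=
      away_algHom_ext _ _ (fun x' => by simp [hψ₄])
    exact fun y => DFunLike.congr_fun this y
  open Lib.Helper2.SpreadOut in
  have hφ₄away : ∀ y : Localization.Away g,
      φ₄ (awayMap (R := R) hgg₃ y) = awayMap (R := R) hd₃ (φ₃ y) := by
    have : φ₄.comp (awayMap (R := R) hgg₃) = (awayMap (R := R) hd₃).comp φ₃ :=
      away_algHom_ext _ _ (fun x => by simp [hφ₄])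
    exact fun y => DFunLike.congr_fun this y
  refine ⟨g * u₁ * u₂, g' * u'₁ * u'₂ * u'₃, hg₃, hgC, ⟨AlgEquiv.ofAlgHom φ₄ ψ₄ ?_ ?_⟩⟩
  · open Lib.Helper2.SpreadOut in
    apply away_algHom_ext
    intro x'
    simp only [AlgHom.comp_apply, AlgHom.coe_id, id_eq]
    open Lib.Helper2.SpreadOut in
    rw [hψ₄, hψ₃alg, hφ₄away, h1, awayMap_algebraMap]
  · open Lib.Helper2.SpreadOut in
    apply away_algHom_ext
    intro x
    simp only [AlgHom.comp_apply, AlgHom.coe_id, id_eq]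
    rw [hφ₄]
    open Lib.Helper2.SpreadOut in
    change ψ₄ (awayMap (R := R) hd₃ (φ₃ (algebraMap S _ x))) = _
    rw [hψ₄away, h2]

end Groth.Agent.S2145
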