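import Groth.Statements.S2146
import Mathlib
import Groth.Agent.S2145

set_option autoImplicit false
universe u
open CAlg

namespace Groth.Agent.S2146

/-- Let `S` be a finitely presented `R`-algebra and `𝔮` a prime of `S` over `𝔭` such that the induced
map `R_𝔭 → S_𝔮` is bijective. Then for some `f ∉ 𝔭` there is an `R_f`-algebra `C` with `S_f ≅ R_f ×
C` as `R_f`-algebras. -/
theorem result {R S : Type u} [CommRing R] [CommRing S] [Algebra R S]
    [Algebra.FinitePresentation R S] (q : Ideal S) [q.IsPrime] (p : Ideal R) [p.IsPrime] [q.LiesOver p]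
    (h : Function.Bijective (Localization.localRingHom p q (algebraMap R S) (q.over_def p))) :
    ∃ f : R, f ∉ p ∧ ∀ (Rf Sf : Type u) [CommRing Rf] [CommRing Sf] [Algebra R Rf] [IsLocalization.Away f Rf]
      [Algebra S Sf] [IsLocalization.Away (algebraMap R S f) Sf] [Algebra Rf Sf] [Algebra R Sf] [IsScalarTower R S Sf]
      [IsScalarTower R Rf Sf],
      ∃ (C : Type u) (_ : CommRing C) (_ : Algebra Rf C), Nonempty (Sf ≃ₐ[Rf] (Rf × C)) := by
  classical
  -- the isomorphism `R_p ≃ S_q` of `R`-algebras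
  let φ : Localization.AtPrime p →ₐ[R] Localization.AtPrime q :=
    { Localization.localRingHom p q (algebraMap R S) (q.over_def p) with
      commutes' := fun r => by
        change Localization.localRingHom p q (algebraMap R S) (q.over_def p)
          (algebraMap R (Localization.AtPrime p) r) = _
        rw [Localization.localRingHom_to_map]
        exact (IsScalarTower.algebraMap_apply R S (Localization.AtPrime q) r).symm }
  let e : Localization.AtPrime p ≃ₐ[R] Localization.AtPrime q := AlgEquiv.ofBijective φ h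
  obtain ⟨f₀, g, hf₀, hg, ⟨E⟩⟩ := Groth.Agent.S2145.result (R := R) (S := R) (S' := S) p q e
  refine ⟨f₀, hf₀, ?_⟩
  intro Rf Sf _ _ _ _ _ _ _ _ _ _
  -- `f₀` is a unit in `S_g`
  have hu : IsUnit (algebraMap R (Localization.Away g) f₀) := by
    have := (IsLocalization.Away.algebraMap_isUnit f₀ (S := Localization.Away f₀)).map E
    rwa [E.commutes] at this
  have hunitτ : ∀ y : Submonoid.powers (algebraMap R S f₀),
      IsUnit ((IsScalarTower.toAlgHom R S (Localization.Away g)) y) := by
    intro y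
    obtain ⟨k, hk⟩ := y.2
    change IsUnit (algebraMap S (Localization.Away g) (y : S))
    rw [← hk]
    change IsUnit (algebraMap S (Localization.Away g) ((algebraMap R S f₀) ^ k))
    rw [map_pow, ← IsScalarTower.algebraMap_apply]
    exact hu.pow k
  let τ : Sf →ₐ[R] Localization.Away g :=
    IsLocalization.liftAlgHom (M := Submonoid.powers (algebraMap R S f₀))
      (f := IsScalarTower.toAlgHom R S (Localization.Away g)) hunitτ
  have hτ : ∀ s : S, τ (algebraMap S Sf s) = algebraMap S (Localization.Away g) s := by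
    intro s
    simp [τ, IsLocalization.liftAlgHom_apply, IsLocalization.lift_eq]
  let θ : Rf ≃ₐ[R] Localization.Away f₀ :=
    IsLocalization.algEquiv (Submonoid.powers f₀) Rf (Localization.Away f₀)
  let πR : Sf →ₐ[R] Rf := θ.symm.toAlgHom.comp (E.symm.toAlgHom.comp τ)
  have hπR : ∀ x : Sf, πR x = θ.symm (E.symm (τ x)) := fun x => rfl
  have hπ : ∀ x : Rf, πR (algebraMap Rf Sf x) = x := by
    have : (πR.toRingHom.comp (algebraMap Rf Sf)) = RingHom.id Rf := by
      apply IsLocalization.ringHom_ext (Submonoid.powers f₀)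
      ext r
      simp only [RingHom.coe_comp, Function.comp_apply, RingHom.id_apply, AlgHom.toRingHom_eq_coe,
        RingHom.coe_coe]
      rw [← IsScalarTower.algebraMap_apply R Rf Sf, AlgHom.commutes]
    exact fun x => RingHom.congr_fun this x
  let π : Sf →ₐ[Rf] Rf := { πR.toRingHom with commutes' := hπ }
  have hπapp : ∀ x : Sf, π x = πR x := fun x => rfl
  -- kernel elements are killed by powers of `g`
  have hKa : ∀ x : Sf, τ x = 0 → ∃ m : ℕ, algebraMap S Sf (g ^ m) * x = 0 := by
    intro x hx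
    obtain ⟨s, t, rfl⟩ := IsLocalization.exists_mk'_eq (Submonoid.powers (algebraMap R S f₀)) x
    have h1 := IsLocalization.mk'_spec Sf s t
    have h2 := congrArg τ h1
    rw [map_mul, hx, zero_mul, hτ] at h2
    obtain ⟨⟨c, m, hm⟩, hc⟩ :=
      (IsLocalization.map_eq_zero_iff (Submonoid.powers g) (Localization.Away g) s).mp h2.symm
    change c * s = 0 at hc
    change g ^ m = c at hm
    refine ⟨m, ?_⟩
    have h3 : algebraMap S Sf (g ^ m) * IsLocalization.mk' Sf s t * algebraMap S Sf (t : S) = 0 := by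
      rw [mul_assoc, h1, ← map_mul, hm, hc, map_zero]
    exact (IsLocalization.map_units Sf t).mul_left_eq_zero.mp h3
  haveI : Algebra.FinitePresentation S Sf :=
    IsLocalization.Away.finitePresentation (algebraMap R S f₀)
  haveI : Algebra.FinitePresentation R Sf := Algebra.FinitePresentation.trans R S Sf
  haveI : Algebra.FinitePresentation R Rf := IsLocalization.Away.finitePresentation f₀
  have hπsurj : Function.Surjective πR := fun x => ⟨algebraMap Rf Sf x, hπ x⟩
  have hJfg : (RingHom.ker πR.toRingHom).FG :=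
    Algebra.FinitePresentation.ker_fG_of_surjective πR hπsurj
  have hτ0 : ∀ x : Sf, πR x = 0 → τ x = 0 := by
    intro x hx
    rw [hπR] at hx
    have := (map_eq_zero_iff _ θ.symm.injective).mp hx
    exact (map_eq_zero_iff _ E.symm.injective).mp this
  obtain ⟨N, hN⟩ : ∃ N : ℕ, ∀ x ∈ RingHom.ker πR.toRingHom, algebraMap S Sf (g ^ N) * x = 0 := by
    obtain ⟨s, hs⟩ := hJfg
    have hex : ∀ x : Sf, ∃ m : ℕ, x ∈ s → algebraMap S Sf (g ^ m) * x = 0 := by
      intro x
      by_cases hx : x ∈ s
      · have hxk : x ∈ RingHom.ker πR.toRingHom := hs ▸ Ideal.subset_span hx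
        obtain ⟨m, hm⟩ := hKa x (hτ0 x ((RingHom.mem_ker).mp hxk))
        exact ⟨m, fun _ => hm⟩
      · exact ⟨0, fun h => absurd h hx⟩
    choose mf hmf using hex
    refine ⟨s.sup mf, fun x hx => ?_⟩
    rw [← hs] at hx
    induction hx using Submodule.span_induction with
    | mem y hy =>
      obtain ⟨k, hk⟩ := Nat.exists_eq_add_of_le (Finset.le_sup (f := mf) hy)
      rw [hk, pow_add, map_mul, mul_right_comm, hmf y hy, zero_mul]
    | zero => simp
    | add y z _ _ hy hz => rw [mul_add, hy, hz, add_zero]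
    | smul c y _ hy => rw [smul_eq_mul, mul_left_comm, hy, mul_zero]
  -- `π ḡ` is a unit
  have hgunit : IsUnit (πR (algebraMap S Sf g)) := by
    rw [hπR, hτ]
    exact ((IsLocalization.Away.algebraMap_isUnit g).map E.symm).map θ.symm
  obtain ⟨ρ', hρ'⟩ := hgunit.exists_right_inv
  -- the element `ε = b ḡ^N` with `1 - ε ∈ J`
  let K : Ideal Sf := Ideal.span {algebraMap S Sf (g ^ N)}
  let ε : Sf := algebraMap Rf Sf (ρ' ^ N) * algebraMap S Sf (g ^ N)
  have hεK : ε ∈ K := Ideal.mul_mem_left _ _ (Ideal.subset_span rfl)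
  have hπε : πR ε = 1 := by
    change πR (algebraMap Rf Sf (ρ' ^ N) * algebraMap S Sf (g ^ N)) = 1
    rw [map_mul, hπ, map_pow (algebraMap S Sf), map_pow πR, ← mul_pow, mul_comm, hρ', one_pow]
  have hJε : ∀ x : Sf, πR x = 0 → ε * x = 0 := by
    intro x hx
    change algebraMap Rf Sf (ρ' ^ N) * algebraMap S Sf (g ^ N) * x = 0
    rw [mul_assoc, hN x ((RingHom.mem_ker).mpr hx), mul_zero]
  let F : Sf →ₐ[Rf] Rf × (Sf ⧸ K) := AlgHom.prod π (Ideal.Quotient.mkₐ Rf K)
  have hF : ∀ x, F x = (πR x, Ideal.Quotient.mk K x) := fun x => rfl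
  have hFbij : Function.Bijective F := by
    constructor
    · rw [injective_iff_map_eq_zero]
      intro x hx
      rw [hF, Prod.mk_eq_zero] at hx
      obtain ⟨hx1, hx2⟩ := hx
      have h1 : ε * x = 0 := hJε x hx1
      -- x ∈ K ⇒ x = c ḡ^N; (1 - ε) ∈ J kills ḡ^N-multiples
      rw [Ideal.Quotient.eq_zero_iff_mem, Ideal.mem_span_singleton'] at hx2
      obtain ⟨c, rfl⟩ := hx2
      have h2 : πR (1 - ε) = 0 := by rw [map_sub, map_one, hπε, sub_self]
      have h3 : algebraMap S Sf (g ^ N) * (1 - ε) = 0 := hN _ ((RingHom.mem_ker).mpr h2)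
      have : c * algebraMap S Sf (g ^ N) = ε * (c * algebraMap S Sf (g ^ N)) +
          c * (algebraMap S Sf (g ^ N) * (1 - ε)) := by ring
      rw [this, h1, h3, mul_zero, add_zero]
    · rintro ⟨r, c⟩
      obtain ⟨c, rfl⟩ := Ideal.Quotient.mk_surjective c
      refine ⟨algebraMap Rf Sf r * ε + c * (1 - ε), ?_⟩
      rw [hF]
      refine Prod.ext ?_ ?_
      · change πR (algebraMap Rf Sf r * ε + c * (1 - ε)) = r
        rw [map_add, map_mul πR (algebraMap Rf Sf r) ε, map_mul πR c (1 - ε), map_sub, map_one,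
          hπε, hπ, sub_self, mul_zero, add_zero, mul_one]
      · change Ideal.Quotient.mk K (algebraMap Rf Sf r * ε + c * (1 - ε)) = Ideal.Quotient.mk K c
        rw [Ideal.Quotient.eq]
        have : algebraMap Rf Sf r * ε + c * (1 - ε) - c = (algebraMap Rf Sf r - c) * ε := by ring
        rw [this]
        exact Ideal.mul_mem_left _ _ hεK
  exact ⟨Sf ⧸ K, inferInstance, inferInstance, ⟨AlgEquiv.ofBijective F hFbij⟩⟩

end Groth.Agent.S2146
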