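import Groth.Statements.S2147
import Mathlib
import Groth.Agent.Lib.Helper13.NaProper
import Groth.Agent.Lib.Helper13.NaImage
import Groth.Agent.Lib.Helper13.LimModelMain
import Groth.Agent.Lib.lead.LimProper

set_option autoImplicit false
universe u
open CategoryTheory AlgebraicGeometry
open Lim

namespace Groth.Agent.S2147

section helpers

open CategoryTheory CategoryTheory.Limits AlgebraicGeometry TopologicalSpace Opposite Topology


open Groth.Agent.Lib.Helper13.NaOver Groth.Agent.Lib.Helper13.NaClosed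
  Groth.Agent.Lib.Helper13.NaLft Groth.Agent.Lib.Helper13.NaProper
  Groth.Agent.Lib.Helper13.NaImage Groth.Agent.Lib.Helper13.NaArrow
  Groth.Agent.Lib.lead.NaMain Groth.Agent.Lib.Helper22 Groth.Agent.Lib.Helper13.LimModel

/-- a proper morphism over a qcqs base factors as a closed immersion followed by a proper morphism
of finite presentation -/
theorem exists_closedImmersion_proper_fp {X S : Scheme.{u}} (f : X ⟶ S) [IsProper f]
    [CompactSpace S] [QuasiSeparatedSpace S] :
    ∃ (X₁ : Scheme.{u}) (p₁ : X₁ ⟶ S) (h : X ⟶ X₁), IsClosedImmersion h ∧ IsProper p₁ ∧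
      LocallyOfFinitePresentation p₁ ∧ h ≫ p₁ = f := by
  obtain ⟨Y, g, j, hg1, hg2, hg3, hj, hjg⟩ := Groth.Agent.S7395.result f
  have hYc : CompactSpace Y := QuasiCompact.compactSpace_of_compactSpace g
  have hYq : QuasiSeparatedSpace Y := quasiSeparatedSpace_of_quasiSeparated g
  obtain ⟨I₀, _, _, _, G₀, s₀, π₀, ⟨hπ₀⟩, k1, k2, k3, k4⟩ := exists_closed_approx j
  have hP : IsProper (j ≫ g) := by rw [hjg]; infer_instance
  obtain ⟨i₀, hi₀⟩ := exists_proper_stage g j G₀ s₀ π₀ hπ₀ k1 (fun a => (k2 a).1) k3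
  refine ⟨G₀.obj (op i₀), s₀.app (op i₀) ≫ g, pr π₀ (op i₀), k4 _, hi₀ i₀ le_rfl, ?_, ?_⟩
  · have := (k2 (op i₀)).2
    infer_instance
  · rw [← Category.assoc, k1, hjg]


theorem main {X S : Scheme.{u}} (f : X ⟶ S) [IsProper f] [CompactSpace S]
    [QuasiSeparatedSpace S] :
    ∃ (I : Type u) (_ : SmallCategory I) (_ : IsCofiltered I) (DX DS : I ⥤ Scheme.{u}) (φ : DX ⟶ DS)
      (cX : Limits.Cone DX) (cS : Limits.Cone DS) (_ : Limits.IsLimit cX) (_ : Limits.IsLimit cS)
      (eX : cX.pt ≅ X) (eS : cS.pt ≅ S),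
      (∀ (i j : I) (a : i ⟶ j), IsAffineHom (DX.map a) ∧ IsAffineHom (DS.map a)) ∧
      (∀ i, IsProper (φ.app i) ∧ CompactSpace (DS.obj i) ∧
        LocallyOfFiniteType (Limits.IsTerminal.from specULiftZIsTerminal (DS.obj i))) ∧
      (∀ i, cX.π.app i ≫ φ.app i = eX.hom ≫ f ≫ eS.inv ≫ cS.π.app i) := by
  obtain ⟨X₁, p₁, h, hh, hp₁, hp₁l, hhp⟩ := exists_closedImmersion_proper_fp f
  obtain ⟨A, _, _, _, D, πS, ⟨hS⟩, haff, hft⟩ := exists_approx' S
  let c : Cone D := Cone.mk S πS
  have hcomp : ∀ i, CompactSpace (D.obj i) := fun i => (hft i).1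
  have hN : ∀ i, IsNoetherian (D.obj i) := fun i => isNoetherian_of_ftz (hft i)
  have hqs : ∀ i, QuasiSeparatedSpace (D.obj i) := fun i => inferInstance
  -- a model of `p₁`
  obtain ⟨i, ⟨M⟩⟩ := hasModel_of_finitePresentation (D := D) (c := c) hS p₁
  haveI := M.lfp
  haveI := M.qc
  haveI := M.qs
  haveI : CompactSpace M.Z₀ := QuasiCompact.compactSpace_of_compactSpace M.h₀
  haveI : QuasiSeparatedSpace M.Z₀ := quasiSeparatedSpace_of_quasiSeparated M.h₀
  have hprop : IsProper (pullback.fst (c.π.app i) M.h₀) := by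
    have e : pullback.fst (c.π.app i) M.h₀ = M.pb.flip.isoPullback.inv ≫ p₁ := by
      rw [Iso.eq_inv_comp]; exact M.pb.flip.isoPullback_hom_fst
    rw [e]; infer_instance
  obtain ⟨j, ψ, hj⟩ := Groth.Agent.Lib.lead.LimProper.core_isProper D c hS i M.h₀ hprop
  let M' : ModelAt D c j p₁ := M.ofHom ψ
  let Q : Scheme.{u} := pullback M.h₀ (D.map ψ)
  let q : Q ⟶ D.obj j := pullback.snd M.h₀ (D.map ψ)
  have hq : IsProper q := by
    have e : q = (pullbackSymmetry M.h₀ (D.map ψ)).hom ≫ pullback.fst (D.map ψ) M.h₀ :=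
      (pullbackSymmetry_hom_comp_fst _ _).symm
    rw [e]; infer_instance
  have hpb : IsPullback p₁ M'.g (c.π.app j) q := M'.pb.flip
  haveI : CompactSpace Q := QuasiCompact.compactSpace_of_compactSpace q
  haveI : QuasiSeparatedSpace Q := quasiSeparatedSpace_of_quasiSeparated q
  -- the base change diagram
  let E : Over j ⥤ Scheme.{u} := bcDiag D j q
  let e : Cone E := bcCone D c j q
  have he : IsLimit e := bcIsLimit D hS j q
  let ι' : X ⟶ e.pt := h ≫ hpb.isoPullback.hom
  haveI : IsClosedImmersion ι' := inferInstanceAs (IsClosedImmersion (h ≫ hpb.isoPullback.hom))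
  have hEaff : ∀ {k l : Over j} (a : k ⟶ l), IsAffineHom (E.map a) := fun a => inferInstance
  have hEfst : ∀ k : Over j, IsProper (pullback.fst (D.map k.hom) q) := fun k => inferInstance
  have hEq : ∀ k : Over j, QuasiSeparatedSpace (E.obj k) := fun k => by
    have h1 : IsProper (pullback.fst (D.map k.hom) q) := hEfst k
    have h2 : IsSeparated (pullback.fst (D.map k.hom) q) := h1.toIsSeparated
    have h3 : QuasiSeparated (pullback.fst (D.map k.hom) q) := inferInstance
    exact @quasiSeparatedSpace_of_quasiSeparated _ _ (pullback.fst (D.map k.hom) q) (hqs _) h3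
  let DX : Over j ⥤ Scheme.{u} := imDiag E e ι'
  let DS : Over j ⥤ Scheme.{u} := Over.forget j ⋙ D
  let φ : DX ⟶ DS :=
    { app := fun k => (imStr E e ι').app k ≫ pullback.fst (D.map k.hom) q
      naturality := fun k l a => by
        have h1 := (imStr E e ι').naturality a
        have h2 := bcDiag_map_fst D j q a
        change (imDiag E e ι').map a ≫ (imStr E e ι').app l ≫ pullback.fst (D.map l.hom) q =
          ((imStr E e ι').app k ≫ pullback.fst (D.map k.hom) q) ≫ D.map a.left
        calc (imDiag E e ι').map a ≫ (imStr E e ι').app l ≫ pullback.fst (D.map l.hom) q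
            = ((imDiag E e ι').map a ≫ (imStr E e ι').app l) ≫ pullback.fst (D.map l.hom) q :=
              (Category.assoc _ _ _).symm
          _ = ((imStr E e ι').app k ≫ E.map a) ≫ pullback.fst (D.map l.hom) q := by rw [h1]
          _ = (imStr E e ι').app k ≫ (E.map a ≫ pullback.fst (D.map l.hom) q) :=
              Category.assoc _ _ _
          _ = (imStr E e ι').app k ≫ (pullback.fst (D.map k.hom) q ≫ D.map a.left) := by
            rw [h2]; rfl
          _ = _ := (Category.assoc _ _ _).symm }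
  let cX : Cone DX := Cone.mk X (imπ E e ι')
  have hcX : IsLimit cX := imIsLimit E e ι' he
  let cS : Cone DS := c.whisker (Over.forget j)
  have hcS : IsLimit cS := (Functor.Initial.isLimitWhiskerEquiv (Over.forget j) c).symm hS
  refine ⟨Over j, inferInstance, inferInstance, DX, DS, φ, cX, cS, hcX, hcS, Iso.refl _, Iso.refl _,
    ?_, ?_, ?_⟩
  · intro k l a
    exact ⟨isAffineHom_imDiag_map E e ι' a, haff _ _ _⟩
  · intro k
    refine ⟨?_, (hft k.left).1, (hft k.left).2⟩
    have := hEfst k
    let sk : (K E e ι' k).subscheme ⟶ pullback (D.map k.hom) q := (imStr E e ι').app k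
    have hsk : IsClosedImmersion sk := inferInstanceAs (IsClosedImmersion (K E e ι' k).subschemeι)
    exact (inferInstance : IsProper (sk ≫ pullback.fst (D.map k.hom) q))
  · intro k
    let sk : (K E e ι' k).subscheme ⟶ pullback (D.map k.hom) q := (imStr E e ι').app k
    let pk : X ⟶ (K E e ι' k).subscheme := (imπ E e ι').app k
    let iso : X₁ ⟶ pullback (c.π.app j) q := hpb.isoPullback.hom
    have hiso : iso ≫ pullback.fst (c.π.app j) q = p₁ := hpb.isoPullback_hom_fst
    let ek : pullback (c.π.app j) q ⟶ pullback (D.map k.hom) q := e.π.app k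
    have h1 : pk ≫ sk = (h ≫ iso) ≫ ek := imπ_str E e ι' k
    have h2 : ek ≫ pullback.fst (D.map k.hom) q =
        pullback.fst (c.π.app j) q ≫ c.π.app k.left := bcCone_π_fst D c j q k
    change pk ≫ sk ≫ pullback.fst (D.map k.hom) q = 𝟙 X ≫ f ≫ 𝟙 S ≫ c.π.app k.left
    rw [Category.id_comp, Category.id_comp, ← Category.assoc pk, h1, Category.assoc,
      Category.assoc, h2, ← Category.assoc iso, hiso, ← Category.assoc, hhp]


end helpers

/-- Let `f : X → S` be proper with `S` quasi-compact and quasi-separated. Then `f` is a limit of proper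
morphisms `f_i : X_i → S_i` with `S_i` of finite type over `ℤ`: there are cofiltered diagrams of
schemes `X_i`, `S_i` with affine transition morphisms, a natural transformation with proper
components, and limit cones identified with `X` and `S` compatibly with `f`. -/
theorem result {X S : Scheme.{u}} (f : X ⟶ S) [IsProper f] [CompactSpace S]
    [QuasiSeparatedSpace S] :
    ∃ (I : Type u) (_ : SmallCategory I) (_ : IsCofiltered I) (DX DS : I ⥤ Scheme.{u}) (φ : DX ⟶ DS)
      (cX : Limits.Cone DX) (cS : Limits.Cone DS) (_ : Limits.IsLimit cX) (_ : Limits.IsLimit cS)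
      (eX : cX.pt ≅ X) (eS : cS.pt ≅ S),
      (∀ (i j : I) (a : i ⟶ j), IsAffineHom (DX.map a) ∧ IsAffineHom (DS.map a)) ∧
      (∀ i, IsProper (φ.app i) ∧ CompactSpace (DS.obj i) ∧
        LocallyOfFiniteType (Limits.IsTerminal.from specULiftZIsTerminal (DS.obj i))) ∧
      (∀ i, cX.π.app i ≫ φ.app i = eX.hom ≫ f ≫ eS.inv ≫ cS.π.app i) := by
  exact main f

end Groth.Agent.S2147
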