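import Groth.Statements.S2148
import Mathlib.RingTheory.Unramified.Field
import Mathlib.FieldTheory.PurelyInseparable.Basic
import Mathlib.Order.Zorn
-- import your own Groth.Agent.* helpers here

set_option autoImplicit false
universe u
open CAlg

namespace Groth.Agent.S2148


open Polynomial IntermediateField in
/-- Step A: a purely inseparable (exponent one) simple extension with `da = 0` is trivial. -/
theorem mem_range_of_D_eq_zero {L K : Type u} [Field L] [Field K] [Algebra L K] (p : ℕ)
    [Fact p.Prime] [CharP L p] (hpow : ∀ x : K, x ^ p ∈ (algebraMap L K).range) (a : K)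
    (hgen : Algebra.adjoin L {a} = ⊤) (hD : KaehlerDifferential.D L K a = 0) :
    a ∈ (algebraMap L K).range := by
  have hD0 : KaehlerDifferential.D L K = 0 := by
    apply Derivation.ext_of_adjoin_eq_top {a} hgen
    intro x hx
    rw [Set.mem_singleton_iff] at hx
    subst hx
    simpa using hD
  have hsub : Subsingleton (Ω[K⁄L]) := by
    have h := KaehlerDifferential.span_range_derivation L K
    rw [hD0] at h
    have h2 : (⊤ : Submodule K (Ω[K⁄L])) = ⊥ := by
      rw [← h, Submodule.span_eq_bot]
      rintro _ ⟨y, rfl⟩
      rfl
    exact (Submodule.subsingleton_iff K).1 (subsingleton_of_bot_eq_top h2.symm)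
  haveI : Algebra.FormallyUnramified L K := ⟨hsub⟩
  haveI : Algebra.FiniteType L K := ⟨⟨{a}, by simpa using hgen⟩⟩
  haveI : ExpChar L p := ExpChar.prime (Fact.out : p.Prime)
  haveI : IsPurelyInseparable L K := by
    rw [isPurelyInseparable_iff_pow_mem L p]
    intro x
    exact ⟨1, by simpa using hpow x⟩
  have := Algebra.FormallyUnramified.range_eq_top_of_isPurelyInseparable L K
  rw [this]
  trivial

open Polynomial IntermediateField in
/-- Step B: degree of a non-trivial exponent-one element. -/
theorem finrank_adjoin_eq {L K : Type u} [Field L] [Field K] [Algebra L K] (p : ℕ)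
    [Fact p.Prime] [CharP L p] (hpow : ∀ x : K, x ^ p ∈ (algebraMap L K).range) (b : K)
    (hb : b ∉ (algebraMap L K).range) :
    IsIntegral L b ∧ Module.finrank L L⟮b⟯ = p := by
  haveI : ExpChar L p := ExpChar.prime (Fact.out : p.Prime)
  haveI : IsPurelyInseparable L K := by
    rw [isPurelyInseparable_iff_pow_mem L p]
    intro x
    exact ⟨1, by simpa using hpow x⟩
  have hint : IsIntegral L b := IsPurelyInseparable.isIntegral' L b
  refine ⟨hint, ?_⟩
  rw [IntermediateField.adjoin.finrank hint]
  obtain ⟨n, y, hmin⟩ := IsPurelyInseparable.minpoly_eq_X_pow_sub_C L p b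
  obtain ⟨c, hc⟩ := hpow b
  have hdvd : minpoly L b ∣ (X ^ p - C c : L[X]) := by
    apply minpoly.dvd
    simp [hc]
  have hp : p.Prime := Fact.out
  have hne : (X ^ p - C c : L[X]) ≠ 0 := X_pow_sub_C_ne_zero hp.pos c
  have hle : (minpoly L b).natDegree ≤ p := by
    have := natDegree_le_of_dvd hdvd hne
    rwa [natDegree_X_pow_sub_C] at this
  have hdeg : (minpoly L b).natDegree = p ^ n := by
    rw [hmin, natDegree_X_pow_sub_C]
  rw [hdeg] at hle ⊢
  rcases Nat.eq_zero_or_pos n with hn | hn
  · exfalso
    subst hn
    apply hb
    rw [← minpoly.natDegree_eq_one_iff, hdeg, pow_zero]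
  · have h1 : p ^ 1 ≤ p ^ n := Nat.pow_le_pow_right hp.pos hn
    rw [pow_one] at h1
    exact le_antisymm hle h1

/-- Let `k` be a perfect field of characteristic `p > 0` and `K` an extension field of `k`. For `a ∈ K`,
the differential `da` vanishes in `Ω_{K/k}` if and only if `a` is a `p`-th power in `K`. -/
theorem result {k K : Type u} [Field k] [Field K] [Algebra k K] (p : ℕ) [Fact p.Prime]
    [CharP k p] [PerfectRing k p] (a : K) :
    KaehlerDifferential.D k K a = 0 ↔ ∃ b : K, b ^ p = a := by
  classical
  have hp : p.Prime := Fact.out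
  haveI : CharP K p := charP_of_injective_algebraMap (algebraMap k K).injective p
  constructor
  · intro hD
    by_contra hno
    push_neg at hno
    have hkpow : ∀ c : k, ∃ x : K, x ^ p = algebraMap k K c := by
      intro c
      obtain ⟨e, he⟩ := surjective_frobenius k p c
      refine ⟨algebraMap k K e, ?_⟩
      rw [← map_pow, ← he, frobenius_def]
    let F : IntermediateField k K :=
      { (frobenius K p).fieldRange with
        algebraMap_mem' := fun c => by
          obtain ⟨x, hx⟩ := hkpow c
          exact ⟨x, by simpa [frobenius_def] using hx⟩ }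
    let S : Set (IntermediateField k K) := {L | (∀ x : K, x ^ p ∈ L) ∧ a ∉ L}
    have hFS : F ∈ S := by
      refine ⟨fun x => ⟨x, rfl⟩, ?_⟩
      rintro ⟨b, hb⟩
      exact hno b hb
    obtain ⟨L, -, hLS, hLmax⟩ := zorn_le_nonempty₀ S (by
      intro c hcS hc y hy
      refine ⟨sSup c, ⟨fun x => ?_, ?_⟩, fun z hz => le_sSup hz⟩
      · exact (le_sSup hy : y ≤ sSup c) ((hcS hy).1 x)
      · intro ha
        haveI : Nonempty c := ⟨⟨y, hy⟩⟩
        rw [sSup_eq_iSup', ← SetLike.mem_coe,
          IntermediateField.coe_iSup_of_directed hc.directedOn.directed_val,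
          Set.mem_iUnion] at ha
        obtain ⟨⟨z, hz⟩, haz⟩ := ha
        exact (hcS hz).2 haz) F hFS
    obtain ⟨hLpow, haL⟩ := hLS
    haveI : CharP L p := charP_of_injective_algebraMap (algebraMap k L).injective p
    have hpowL : ∀ x : K, x ^ p ∈ (algebraMap L K).range := fun x => ⟨⟨x ^ p, hLpow x⟩, rfl⟩
    have hrange : ∀ x : K, x ∈ (algebraMap L K).range ↔ x ∈ L := by
      intro x
      constructor
      · rintro ⟨y, rfl⟩
        exact y.2
      · intro hx
        exact ⟨⟨x, hx⟩, rfl⟩
    have haL' : a ∉ (algebraMap L K).range := fun h => haL ((hrange a).1 h)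
    obtain ⟨hinta, hranka⟩ := finrank_adjoin_eq p hpowL a haL'
    -- exchange
    have hall : ∀ b : K, b ∈ IntermediateField.adjoin L {a} := by
      intro b
      by_cases hb : b ∈ (algebraMap L K).range
      · obtain ⟨y, rfl⟩ := hb
        exact IntermediateField.algebraMap_mem _ y
      · obtain ⟨hintb, hrankb⟩ := finrank_adjoin_eq p hpowL b hb
        let L' : IntermediateField k K :=
          (IntermediateField.adjoin L {b}).restrictScalars k
        have hLL' : L ≤ L' := by
          intro x hx
          rw [IntermediateField.mem_restrictScalars]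
          exact IntermediateField.algebraMap_mem _ (⟨x, hx⟩ : L)
        have hbL' : b ∈ L' := by
          rw [IntermediateField.mem_restrictScalars]
          exact IntermediateField.mem_adjoin_simple_self L b
        have haL'' : a ∈ IntermediateField.adjoin L {b} := by
          by_contra hna
          have hL'S : L' ∈ S :=
            ⟨fun x => hLL' (hLpow x), fun h => hna ((IntermediateField.mem_restrictScalars k).1 h)⟩
          exact hb ((hrange b).2 (hLmax hL'S hLL' hbL'))
        have hle : IntermediateField.adjoin L {a} ≤ IntermediateField.adjoin L {b} :=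
          IntermediateField.adjoin_simple_le_iff.2 haL''
        haveI := IntermediateField.adjoin.finiteDimensional hintb
        have heq := IntermediateField.eq_of_le_of_finrank_eq hle (hranka.trans hrankb.symm)
        rw [heq]
        exact IntermediateField.mem_adjoin_simple_self L b
    have hgen : Algebra.adjoin L {a} = ⊤ := by
      rw [← IntermediateField.adjoin_simple_toSubalgebra_of_isAlgebraic hinta.isAlgebraic]
      rw [eq_top_iff]
      intro x _
      exact hall x
    have hDL : KaehlerDifferential.D L K a = 0 := by
      have := KaehlerDifferential.map_D k L K K a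
      rw [hD, map_zero] at this
      simpa using this.symm
    exact haL' (mem_range_of_D_eq_zero p hpowL a hgen hDL)
  · rintro ⟨b, rfl⟩
    rw [Derivation.leibniz_pow, ← Nat.cast_smul_eq_nsmul K, CharP.cast_eq_zero, zero_smul]

end Groth.Agent.S2148
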