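import Groth.Statements.S2157
import Groth.Agent.S1478
import Groth.Agent.Lib.Helper15.OmegaAlg
-- import your own Groth.Agent.* helpers here

set_option autoImplicit false
universe u
open CategoryTheory AlgebraicGeometry
open Mor

namespace Groth.Agent.S2157

section H
namespace W1
open CategoryTheory.Limits Opposite TensorProduct
open Groth.Agent.Lib.Helper17.ModPullback Groth.Agent.Lib.Helper17.CohKer
  Groth.Agent.Lib.Helper17.Serre
set_option backward.isDefEq.respectTransparency.types false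

variable (R A : Type u) [CommRing R] [CommRing A] [Algebra R A]

theorem main :
    Nonempty (Omega.sheaf (Spec.map (CommRingCat.ofHom (algebraMap R A))) ≅
      tilde (R := CommRingCat.of A) (ModuleCat.of A (Ω[A⁄R]))) := by
  let f := Spec.map (CommRingCat.ofHom (algebraMap R A))
  let Δ := pullback.diagonal f
  let e := pullbackSpecIso R A A
  have hΔ : Δ = Spec.map (CommRingCat.ofHom
      (Algebra.TensorProduct.lmul' R : A ⊗[R] A →ₐ[R] A).toRingHom) ≫ e.inv := diagonal_SpecMap R A
  haveI : IsAffine (pullback f f) := IsAffine.of_isIso e.hom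
  have hV : IsAffineOpen (⊤ : (pullback f f).Opens) := isAffineOpen_top _
  have hU : IsAffineOpen (⊤ : (Spec (CommRingCat.of A)).Opens) := isAffineOpen_top _
  let M : (Spec (CommRingCat.of A)).Modules := Omega.sheaf f
  haveI hq : M.IsQuasicoherent := by
    change ((Scheme.Modules.pullback Δ).obj (ClSub.idealMod Δ.ker)).IsQuasicoherent
    infer_instance
  obtain ⟨eq⟩ := nonempty_linearEquiv_pullback_sections Δ (ClSub.idealMod Δ.ker) hU hV le_top
  letI : Algebra Γ(pullback f f, ⊤) Γ(Spec (CommRingCat.of A), ⊤) :=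
    (Δ.appLE ⊤ ⊤ le_top).hom.toAlgebra
  obtain ⟨ι, hinj, hsmul, hadd, hmem, hsurj⟩ := Groth.Agent.S1478.W1.idealMod_sections' Δ.ker ⊤ hV
  let ι' : Γ(ClSub.idealMod Δ.ker, ⊤) →ₗ[Γ(pullback f f, ⊤)] Γ(pullback f f, ⊤) :=
    { toFun := ι, map_add' := hadd, map_smul' := fun r n => by simpa using hsmul r n }
  let θ : A ≃+* Γ(Spec (CommRingCat.of A), ⊤) :=
    (Scheme.ΓSpecIso (CommRingCat.of A)).symm.commRingCatIsoToRingEquiv
  let ψ : A ⊗[R] A ≃+* Γ(pullback f f, ⊤) :=
    ((Scheme.ΓSpecIso (CommRingCat.of (A ⊗[R] A))).symm ≪≫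
      Scheme.Γ.mapIso e.op).commRingCatIsoToRingEquiv
  have hcompat : ∀ x, algebraMap Γ(pullback f f, ⊤) Γ(Spec (CommRingCat.of A), ⊤) (ψ x) =
      θ (Algebra.TensorProduct.lmul' R x) := by
    intro x
    have h1 : Δ ≫ e.hom = Spec.map (CommRingCat.ofHom
        (Algebra.TensorProduct.lmul' R : A ⊗[R] A →ₐ[R] A).toRingHom) := by
      rw [hΔ, Category.assoc, Iso.inv_hom_id, Category.comp_id]
    have h2 : (Scheme.ΓSpecIso (CommRingCat.of (A ⊗[R] A))).inv ≫ e.hom.appTop ≫ Δ.appTop =
        CommRingCat.ofHom (Algebra.TensorProduct.lmul' R : A ⊗[R] A →ₐ[R] A).toRingHom ≫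
          (Scheme.ΓSpecIso (CommRingCat.of A)).inv := by
      rw [← Scheme.Hom.comp_appTop, h1, Scheme.ΓSpecIso_inv_naturality]
    have h3 := congrArg (fun g => g.hom x) h2
    exact h3
  have hrange : ∀ c, (∃ n, ι' n = c) ↔
      algebraMap Γ(pullback f f, ⊤) Γ(Spec (CommRingCat.of A), ⊤) c = 0 := by
    intro c
    have hc : c ∈ Δ.ker.ideal ⟨⊤, hV⟩ ↔
        algebraMap Γ(pullback f f, ⊤) Γ(Spec (CommRingCat.of A), ⊤) c = 0 := by
      rw [Scheme.Hom.ker_apply, RingHom.mem_ker, Scheme.Hom.app_eq_appLE]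
      rfl
    constructor
    · rintro ⟨n, rfl⟩
      exact hc.1 (hmem n)
    · intro h
      exact hsurj c (hc.2 h)
  obtain ⟨Φ, hΦ⟩ := Groth.Agent.Lib.Helper15.OmegaAlg.exists_equiv θ ψ hcompat ι' hinj hrange
  let X₁ : ModuleCat (CommRingCat.of A) := (modulesSpecToSheaf.obj M).presheaf.obj (.op ⊤)
  let E : Γ((Scheme.Modules.pullback Δ).obj (ClSub.idealMod Δ.ker), ⊤) ≃+ Ω[A⁄R] :=
    eq.toAddEquiv.trans Φ
  have hE : ∀ (b : Γ(Spec (CommRingCat.of A), ⊤))
      (x : Γ((Scheme.Modules.pullback Δ).obj (ClSub.idealMod Δ.ker), ⊤)),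
      E (b • x) = θ.symm b • E x := by
    intro b x
    change Φ (eq (b • x)) = θ.symm b • Φ (eq x)
    rw [map_smul, hΦ]
  have hsm : ∀ (a : A) (x : X₁), (a • x : X₁) =
      (θ a • (show Γ((Scheme.Modules.pullback Δ).obj (ClSub.idealMod Δ.ker), ⊤) from x) :
        Γ((Scheme.Modules.pullback Δ).obj (ClSub.idealMod Δ.ker), ⊤)) := by
    intro a x
    have h0 := Scheme.Modules.smul_Spec_def (R := CommRingCat.of A) (M := M) (U := ⊤) a x
    refine h0.trans ?_
    congr 1
  let lin : X₁ ≃ₗ[A] Ω[A⁄R] :=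
    { toFun := fun x => E x
      invFun := fun y => E.symm y
      map_add' := fun x y => E.map_add x y
      map_smul' := fun a x => by
        change E (a • x : X₁) = a • E x
        rw [hsm, hE, RingEquiv.symm_apply_apply]
      left_inv := fun x => E.left_inv x
      right_inv := fun y => E.right_inv y }
  let miso : X₁ ≅ ModuleCat.of A (Ω[A⁄R]) := LinearEquiv.toModuleIso lin
  haveI : IsIso (Scheme.Modules.fromTildeΓ (R := CommRingCat.of A) M) :=
    Scheme.Modules.isIso_fromTildeΓ_of_isQuasicoherent (R := CommRingCat.of A) M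
  have i1 : M ≅ tilde X₁ := (asIso (Scheme.Modules.fromTildeΓ (R := CommRingCat.of A) M)).symm
  have i2 : tilde X₁ ≅ tilde (R := CommRingCat.of A) (ModuleCat.of A (Ω[A⁄R])) :=
    (tilde.functor (CommRingCat.of A)).mapIso miso
  exact ⟨i1 ≪≫ i2⟩

end W1
end H


/-- For a ring map `R → A`, the sheaf of differentials of `Spec A → Spec R`, defined as the conormal
sheaf of the diagonal, is isomorphic as an `O_{Spec A}`-module to the sheaf associated with the
module of Kähler differentials `Ω_{A/R}` (the source also pins the isomorphism down by compatibility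
with the universal derivations, which is not restated here). -/
theorem result (R A : Type u) [CommRing R] [CommRing A] [Algebra R A] :
    Nonempty (Omega.sheaf (Spec.map (CommRingCat.ofHom (algebraMap R A))) ≅
      tilde (R := CommRingCat.of A) (ModuleCat.of A (Ω[A⁄R]))) := by
  exact W1.main R A

end Groth.Agent.S2157
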