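import Groth.Statements.S2160
import Mathlib.RingTheory.Ideal.KrullsHeightTheorem
-- import your own Groth.Agent.* helpers here

set_option autoImplicit false
universe u
open CAlg

namespace Groth.Agent.S2160

/-- Let `R` be a Noetherian local domain of Krull dimension at least `2`. Then every nonempty open
subset of `Spec R` is infinite. -/
theorem result {R : Type u} [CommRing R] [IsDomain R] [IsLocalRing R] [IsNoetherianRing R]
    (hdim : 2 ≤ ringKrullDim R) (U : Set (PrimeSpectrum R)) (hU : IsOpen U) (hne : U.Nonempty) : U.Infinite := by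
  classical
  by_contra hfin
  rw [Set.not_infinite] at hfin
  obtain ⟨p₀, hp₀⟩ := hne
  obtain ⟨_, ⟨f, rfl⟩, hp₀f, hfU⟩ :=
    PrimeSpectrum.isTopologicalBasis_basic_opens.exists_subset_of_mem_open hp₀ hU
  have hDfin : (PrimeSpectrum.basicOpen f : Set (PrimeSpectrum R)).Finite := hfin.subset hfU
  have hf0 : f ≠ 0 := by
    rintro rfl
    exact (PrimeSpectrum.mem_basicOpen _ _).1 hp₀f (Ideal.zero_mem _)
  set m := IsLocalRing.maximalIdeal R with hm
  have hmht : (2 : ℕ∞) ≤ m.height := by
    have h := IsLocalRing.maximalIdeal_height_eq_ringKrullDim (R := R)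
    rw [← h] at hdim
    have h2 : ((2 : ℕ∞) : WithBot ℕ∞) ≤ ((IsLocalRing.maximalIdeal R).height : WithBot ℕ∞) := hdim
    exact WithBot.coe_le_coe.1 h2
  -- the finite set of primes to avoid
  have hminfin : ((Ideal.span {f}).minimalPrimes).Finite :=
    Ideal.finite_minimalPrimes_of_isNoetherianRing R _
  let T : Finset (Ideal R) :=
    ((hDfin.toFinset.image PrimeSpectrum.asIdeal).erase m) ∪ hminfin.toFinset ∪ {⊥}
  have hTprime : ∀ p ∈ T, p.IsPrime := by
    intro p hp
    simp only [T, Finset.mem_union, Finset.mem_erase, Finset.mem_image, Set.Finite.mem_toFinset,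
      Finset.mem_singleton] at hp
    rcases hp with (⟨_, ⟨q, _, rfl⟩⟩ | hp) | rfl
    · exact q.2
    · exact hp.isPrime
    · exact Ideal.isPrime_bot
  have hTne : ∀ p ∈ T, ¬ m ≤ p := by
    intro p hp hmp
    have hpp := hTprime p hp
    have hpm : p = m := le_antisymm (IsLocalRing.le_maximalIdeal hpp.ne_top) hmp
    simp only [T, Finset.mem_union, Finset.mem_erase, Finset.mem_image, Set.Finite.mem_toFinset,
      Finset.mem_singleton] at hp
    rcases hp with (⟨hne, _⟩ | hp) | hbot
    · exact hne hpm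
    · have := Ideal.height_le_one_of_isPrincipal_of_mem_minimalPrimes _ p hp
      rw [hpm] at this
      have : (2 : ℕ∞) ≤ 1 := hmht.trans this
      exact absurd this (by decide)
    · rw [hpm] at hbot
      rw [hbot, Ideal.height_bot] at hmht
      exact absurd hmht (by decide)
  have havoid : ¬ ((m : Set R) ⊆ ⋃ i ∈ (↑T : Set (Ideal R)), (id i : Ideal R)) := by
    rw [Ideal.subset_union_prime (f := id) ⊥ ⊥ (fun i hi _ _ => hTprime i hi)]
    rintro ⟨i, hi, hle⟩
    exact hTne i hi hle
  rw [Set.not_subset] at havoid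
  obtain ⟨x, hxm, hxT⟩ := havoid
  have hxT' : ∀ p ∈ T, x ∉ p := by
    intro p hp hxp
    apply hxT
    simp only [Set.mem_iUnion]
    exact ⟨p, hp, hxp⟩
  have hxne : Ideal.span {x} ≠ ⊤ := by
    intro h
    rw [Ideal.span_singleton_eq_top] at h
    exact (IsLocalRing.mem_maximalIdeal x).1 hxm h
  obtain ⟨⟨q, hq⟩⟩ := Ideal.nonempty_minimalPrimes hxne
  have hqprime : q.IsPrime := hq.isPrime
  have hqht : q.height ≤ 1 := Ideal.height_le_one_of_isPrincipal_of_mem_minimalPrimes _ q hq
  have hxq : x ∈ q := hq.1.2 (Ideal.subset_span (Set.mem_singleton x))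
  have hqm : q ≠ m := by
    intro h
    rw [h] at hqht
    exact absurd (hmht.trans hqht) (by decide)
  by_cases hfq : f ∈ q
  · obtain ⟨q', hq', hq'q⟩ := Ideal.exists_minimalPrimes_le (I := Ideal.span {f}) (J := q)
      (by rw [Ideal.span_le]; simpa using hfq)
    have hq'T : q' ∈ T := by
      simp only [T, Finset.mem_union, Set.Finite.mem_toFinset]
      exact Or.inl (Or.inr hq')
    have hq'prime : q'.IsPrime := hq'.isPrime
    have hne : q' ≠ q := fun h => hxT' q' hq'T (h ▸ hxq)
    have hlt : q' < q := lt_of_le_of_ne hq'q hne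
    have h1 := Ideal.height_add_one_le_of_lt_of_isPrime hlt
    have h0 : q'.height = 0 := by
      have h2 : q'.height + 1 ≤ 1 := h1.trans hqht
      by_contra hh
      have : 1 ≤ q'.height := Order.one_le_iff_ne_zero.2 hh
      have h3 : (1 : ℕ∞) + 1 ≤ 1 := (add_le_add_left this 1).trans h2
      exact absurd h3 (by decide)
    rw [Ideal.height_eq_zero_iff_eq_bot] at h0
    have : f ∈ q' := hq'.1.2 (Ideal.subset_span (Set.mem_singleton f))
    rw [h0] at this
    exact hf0 this
  · have hqT : q ∈ T := by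
      simp only [T, Finset.mem_union, Finset.mem_erase, Finset.mem_image, Set.Finite.mem_toFinset]
      refine Or.inl (Or.inl ⟨hqm, ⟨q, hqprime⟩, ?_, rfl⟩)
      exact (PrimeSpectrum.mem_basicOpen _ _).2 hfq
    exact hxT' q hqT hxq

end Groth.Agent.S2160
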