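import Groth.Statements.S2163
import Mathlib.RingTheory.Flat.EquationalCriterion
-- import your own Groth.Agent.* helpers here

set_option autoImplicit false
universe u
open CAlg

namespace Groth.Agent.S2163


/-- The map `Rⁿ → I` onto the ideal spanned by `f`. -/
noncomputable def phi {R : Type u} [CommRing R] {n : ℕ} (f : Fin n → R) :
    (Fin n → R) →ₗ[R] (Ideal.span (Set.range f)) :=
  Fintype.linearCombination R
    (fun i => (⟨f i, Ideal.subset_span ⟨i, rfl⟩⟩ : Ideal.span (Set.range f)))

theorem phi_val {R : Type u} [CommRing R] {n : ℕ} (f : Fin n → R) (c : Fin n → R) :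
    ((phi f c : Ideal.span (Set.range f)) : R) = ∑ i, c i * f i := by
  simp [phi, Fintype.linearCombination_apply]

theorem phi_surj {R : Type u} [CommRing R] {n : ℕ} (f : Fin n → R) :
    Function.Surjective (phi f) := by
  rw [← LinearMap.range_eq_top, phi, Fintype.range_linearCombination]
  apply Submodule.map_injective_of_injective (Submodule.injective_subtype _)
  rw [Submodule.map_span, Submodule.map_top, Submodule.range_subtype, ← Set.range_comp]
  rfl

theorem mem_ker_phi {R : Type u} [CommRing R] {n : ℕ} (f : Fin n → R) (c : Fin n → R) :
    c ∈ LinearMap.ker (phi f) ↔ ∑ i, c i * f i = 0 := by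
  rw [LinearMap.mem_ker, ← phi_val, Subtype.ext_iff]
  rfl

/-- A ring `R` is coherent — every finitely generated ideal is a finitely presented module — if and only
if for every index set `A` (in the same universe) the product module `R^A` is flat. -/
theorem result {R : Type u} [CommRing R] :
    (∀ I : Ideal R, I.FG → Module.FinitePresentation R I) ↔ ∀ (A : Type u), Module.Flat R (A → R) := by
  constructor
  · intro hcoh A
    apply Module.Flat.of_forall_isTrivialRelation
    intro l f x h
    haveI : Module.FinitePresentation R (Ideal.span (Set.range f)) :=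
      hcoh _ (Submodule.fg_span (Set.finite_range f))
    have hker : (LinearMap.ker (phi f)).FG := Module.FinitePresentation.fg_ker (phi f) (phi_surj f)
    obtain ⟨k, s, hs⟩ := Submodule.fg_iff_exists_fin_generating_family.1 hker
    have hv : ∀ α : A, (fun i => x i α) ∈ Submodule.span R (Set.range s) := by
      intro α
      rw [hs, mem_ker_phi]
      have := congr_fun h α
      simpa [mul_comm] using this
    choose c hc using fun α => (Submodule.mem_span_range_iff_exists_fun R).1 (hv α)
    refine ⟨k, fun i j => s j i, fun j α => c α j, ?_, ?_⟩
    · intro i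
      funext α
      have := congr_fun (hc α) i
      simp only [Finset.sum_apply, Pi.smul_apply, smul_eq_mul] at this ⊢
      rw [← this]
      exact Finset.sum_congr rfl (fun j _ => mul_comm _ _)
    · intro j
      have hsj : s j ∈ LinearMap.ker (phi f) := by
        rw [← hs]
        exact Submodule.subset_span ⟨j, rfl⟩
      rw [mem_ker_phi] at hsj
      rw [← hsj]
      exact Finset.sum_congr rfl (fun i _ => mul_comm _ _)
  · intro hflat I hI
    obtain ⟨n, f, hf⟩ := Submodule.fg_iff_exists_fin_generating_family.1 hI
    have hf' : Ideal.span (Set.range f) = I := hf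
    subst hf'
    let Kt := LinearMap.ker (phi f)
    haveI : Module.Flat R (Kt → R) := hflat Kt
    let x : Fin n → (Kt → R) := fun i κ => κ.1 i
    have hx : ∑ i, f i • x i = 0 := by
      funext κ
      have := (mem_ker_phi f κ.1).1 κ.2
      simp only [Finset.sum_apply, Pi.smul_apply, smul_eq_mul, Pi.zero_apply, x]
      rw [← this]
      exact Finset.sum_congr rfl (fun i _ => mul_comm _ _)
    obtain ⟨k, a, y, hxy, hfa⟩ := Module.Flat.isTrivialRelation_of_sum_smul_eq_zero hx
    have hK : (LinearMap.ker (phi f)).FG := by
      have hle : LinearMap.ker (phi f) ≤ Submodule.span R (Set.range (fun j : Fin k => fun i => a i j)) := by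
        intro κ hκ
        rw [Submodule.mem_span_range_iff_exists_fun]
        refine ⟨fun j => y j ⟨κ, hκ⟩, ?_⟩
        funext i
        have := congr_fun (hxy i) ⟨κ, hκ⟩
        simp only [Finset.sum_apply, Pi.smul_apply, smul_eq_mul, x] at this ⊢
        rw [this]
        exact Finset.sum_congr rfl (fun j _ => mul_comm _ _)
      have hge : Submodule.span R (Set.range (fun j : Fin k => fun i => a i j)) ≤ LinearMap.ker (phi f) := by
        rw [Submodule.span_le]
        rintro _ ⟨j, rfl⟩
        rw [SetLike.mem_coe, mem_ker_phi]
        rw [← hfa j]
        exact Finset.sum_congr rfl (fun i _ => mul_comm _ _)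
      rw [le_antisymm hle hge]
      exact Submodule.fg_span (Set.finite_range _)
    exact Module.finitePresentation_of_free_of_surjective (phi f) (phi_surj f) hK

end Groth.Agent.S2163
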