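import Groth.Statements.S2167
import Groth.Agent.Lib.Helper5.CotGen
import Groth.Agent.Lib.Helper5.RegSchImm

set_option autoImplicit false
universe u
open LCI

namespace Groth.Agent.S2167

/-- Equivalence of (2) and (3), special case with R already a regular local ring: for a regular local
ring R and a proper ideal I, the ideal I is generated by a regular sequence if and only if the
conormal module I/I^2 can be generated by (dim R - dim R/I) elements, the inequality below being the
additive form of that count. -/
theorem result {R : Type u} [CommRing R] [IsRegularLocalRing R]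
    (I : Ideal R) (hI : I ≠ ⊤) :
    (∃ rs : List R, Ideal.ofList rs = I ∧ RingTheory.Sequence.IsRegular R rs) ↔
      (((⊤ : Submodule (R ⧸ I) I.Cotangent).spanFinrank : WithBot ℕ∞) + ringKrullDim (R ⧸ I)
        ≤ ringKrullDim R) := by
  have hIm : I ≤ IsLocalRing.maximalIdeal R := IsLocalRing.le_maximalIdeal hI
  constructor
  · rintro ⟨rs, hrs, hreg⟩
    have hdim := ringKrullDim_add_length_eq_ringKrullDim_of_isRegular rs hreg
    subst hrs
    have h1 := Groth.Agent.Lib.Helper5.CotGen.spanFinrank_cotangent_le (Ideal.ofList rs) rs rfl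
    rw [← hdim, add_comm]
    exact add_le_add_right (by exact_mod_cast h1) _
  · intro h
    obtain ⟨xs, hlen, hxs⟩ := Groth.Agent.Lib.Helper5.CotGen.exists_list_of_cotangent I (by
      rw [IsLocalRing.jacobson_eq_maximalIdeal ⊥ bot_ne_top]; exact hIm)
    refine ⟨xs, hxs, Groth.Agent.Lib.Helper5.RegComp.isRegular_of_weaklyRegular_of_ne_top ?_
      (hxs ▸ hI)⟩
    have hCM := Groth.Agent.S10834.isCM_of_isRegularLocalRing R
    apply Groth.Agent.Lib.Helper21.DepthKit.isWeaklyRegular_of_supportDim_drop xs R hCM
      (fun r hr => hIm (hxs ▸ Ideal.subset_span hr))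
    rw [Module.supportDim_self_eq_ringKrullDim]
    have h2 : Module.supportDim R (R ⧸ (Ideal.ofList xs • ⊤ : Submodule R R)) =
        ringKrullDim (R ⧸ (Ideal.ofList xs • ⊤ : Ideal R)) :=
      Module.supportDim_quotient_eq_ringKrullDim _
    have e : (R ⧸ (Ideal.ofList xs • ⊤ : Ideal R)) ≃+* R ⧸ I :=
      Ideal.quotEquivOfEq (by rw [smul_eq_mul, Ideal.mul_top, hxs])
    rw [h2, ringKrullDim_eq_of_ringEquiv e, hlen]
    apply le_antisymm
    · rw [add_comm]; exact h
    · have h3 := ringKrullDim_le_ringKrullDim_quotient_add_spanFinrank I (by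
        rw [IsLocalRing.ringJacobson_eq_maximalIdeal]; exact hIm)
      refine h3.trans (add_le_add_right ?_ _)
      have h4 := Groth.Agent.Lib.Helper5.RegSchImm.spanFinrank_ofList_le xs
      rw [hxs, hlen] at h4
      exact_mod_cast h4

end Groth.Agent.S2167
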