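import Groth.Statements.S2170
import Mathlib.Tactic.Ring
import Mathlib.Tactic.Linarith
import Mathlib.Tactic.FieldSimp
import Mathlib.Tactic.Positivity
import Mathlib.Algebra.Order.BigOperators.Ring.Finset
import Mathlib.Algebra.BigOperators.Field

set_option autoImplicit false
open Finset
open Models

namespace Groth.Agent.S2170

section helpers
open Finset

variable {n : ℕ} (A : Matrix (Fin n) (Fin n) ℝ) (m : Fin n → ℝ)

theorem sum_split (i : Fin n) :
    ∑ j, A i j * m j = A i i * m i + ∑ j ∈ univ.erase i, A i j * m j :=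
  (Finset.add_sum_erase _ _ (mem_univ i)).symm

/-- the easy inclusion -/
theorem mem_ker_of_indicator (hsymm : A.IsSymm) (I : Finset (Fin n))
    (h1 : ∀ i ∈ I, ∀ j ∉ I, A i j = 0)
    (h2 : ∀ i ∈ I, ∑ j ∈ univ.erase i, A i j * m j = -(A i i * m i)) :
    (fun i => if i ∈ I then m i else 0) ∈ LinearMap.ker (Matrix.mulVecLin A) := by
  rw [LinearMap.mem_ker, Matrix.mulVecLin_apply]
  funext i
  simp only [Matrix.mulVec, dotProduct, Pi.zero_apply]
  by_cases hi : i ∈ I
  · have : ∑ j, A i j * (if j ∈ I then m j else 0) = ∑ j, A i j * m j := by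
      refine Finset.sum_congr rfl fun j _ => ?_
      by_cases hj : j ∈ I
      · rw [if_pos hj]
      · rw [if_neg hj, h1 i hi j hj, zero_mul, zero_mul]
    rw [this, sum_split, h2 i hi]; ring
  · refine Finset.sum_eq_zero fun j _ => ?_
    by_cases hj : j ∈ I
    · have : A i j = 0 := (hsymm.apply i j).symm.trans (h1 j hj i hi)
      rw [this, zero_mul]
    · rw [if_neg hj, mul_zero]

/-- the quadratic form identity -/
theorem quad_identity (B : Fin n → Fin n → ℝ) (hB : ∀ i j, B i j = B j i) (y : Fin n → ℝ) :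
    ∑ i, ∑ j, B i j * y i * y j =
      ∑ i, (∑ j, B i j) * y i ^ 2 - (1 / 2) * ∑ i, ∑ j, B i j * (y i - y j) ^ 2 := by
  have e1 : ∑ i, ∑ j, B i j * (y i - y j) ^ 2 =
      ∑ i, ∑ j, B i j * y i ^ 2 + ∑ i, ∑ j, B i j * y j ^ 2 - 2 * ∑ i, ∑ j, B i j * y i * y j := by
    rw [Finset.mul_sum, ← Finset.sum_add_distrib, ← Finset.sum_sub_distrib]
    refine Finset.sum_congr rfl fun i _ => ?_
    rw [Finset.mul_sum, ← Finset.sum_add_distrib, ← Finset.sum_sub_distrib]
    refine Finset.sum_congr rfl fun j _ => ?_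
    ring
  have e2 : ∑ i, ∑ j, B i j * y i ^ 2 = ∑ i, (∑ j, B i j) * y i ^ 2 := by
    refine Finset.sum_congr rfl fun i _ => ?_
    rw [Finset.sum_mul]
  have e3 : ∑ i, ∑ j, B i j * y j ^ 2 = ∑ i, (∑ j, B i j) * y i ^ 2 := by
    rw [Finset.sum_comm]
    refine Finset.sum_congr rfl fun j _ => ?_
    rw [Finset.sum_mul]
    refine Finset.sum_congr rfl fun i _ => ?_
    rw [hB]
  rw [e1, e2, e3]; ring

/-- the hard inclusion: consequences of `x ∈ ker A` -/
theorem key (hsymm : A.IsSymm) (hA : ∀ i j, i ≠ j → 0 ≤ A i j) (hm : ∀ i, 0 < m i)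
    (hle : ∀ i, ∑ j, A i j * m j ≤ 0) (x : Fin n → ℝ) (hx : ∀ i, ∑ j, A i j * x j = 0) :
    (∀ i, x i ≠ 0 → ∑ j, A i j * m j = 0) ∧
      (∀ i j, A i j ≠ 0 → x i / m i = x j / m j) := by
  obtain ⟨y, hy⟩ : ∃ y : Fin n → ℝ, y = fun i => x i / m i := ⟨_, rfl⟩
  have hxy : ∀ i, x i = m i * y i := by
    intro i; rw [hy]; field_simp [(hm i).ne']
  obtain ⟨B, hB⟩ : ∃ B : Fin n → Fin n → ℝ, B = fun i j => m i * A i j * m j := ⟨_, rfl⟩
  have hBsymm : ∀ i j, B i j = B j i := by
    intro i j; rw [hB]; simp only; rw [hsymm.apply i j]; ring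
  have hr : ∀ i, ∑ j, B i j = m i * ∑ j, A i j * m j := by
    intro i; rw [hB, Finset.mul_sum]; exact Finset.sum_congr rfl fun j _ => by ring
  have hQ : ∑ i, ∑ j, B i j * y i * y j = 0 := by
    have : ∀ i, ∑ j, B i j * y i * y j = x i * ∑ j, A i j * x j := by
      intro i
      rw [Finset.mul_sum]
      refine Finset.sum_congr rfl fun j _ => ?_
      rw [hB, hxy i, hxy j]; ring
    simp only [this, hx, mul_zero, Finset.sum_const_zero]
  rw [quad_identity B hBsymm y] at hQ
  have hnn1 : ∀ i ∈ (univ : Finset (Fin n)), 0 ≤ -((∑ j, B i j) * y i ^ 2) := by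
    intro i _
    rw [hr i]
    have := hle i
    have h1 : 0 ≤ y i ^ 2 := sq_nonneg _
    have h2 := (hm i).le
    nlinarith [mul_nonneg h2 h1, mul_nonneg (mul_nonneg h2 h1) (neg_nonneg.mpr this)]
  have hnn2 : ∀ i ∈ (univ : Finset (Fin n)), ∀ j ∈ (univ : Finset (Fin n)),
      0 ≤ B i j * (y i - y j) ^ 2 := by
    intro i _ j _
    by_cases hij : i = j
    · rw [hij, sub_self]; simp
    · apply mul_nonneg _ (sq_nonneg _)
      rw [hB]
      exact mul_nonneg (mul_nonneg (hm i).le (hA i j hij)) (hm j).le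
  have hS1 : 0 ≤ ∑ i, -((∑ j, B i j) * y i ^ 2) := Finset.sum_nonneg hnn1
  have hS2 : 0 ≤ ∑ i, ∑ j, B i j * (y i - y j) ^ 2 :=
    Finset.sum_nonneg fun i hi => Finset.sum_nonneg fun j hj => hnn2 i hi j hj
  rw [Finset.sum_neg_distrib] at hS1
  have hS1' : ∑ i, -((∑ j, B i j) * y i ^ 2) = 0 := by
    rw [Finset.sum_neg_distrib]; linarith
  have hS2' : ∑ i, ∑ j, B i j * (y i - y j) ^ 2 = 0 := by linarith
  have t1 := (Finset.sum_eq_zero_iff_of_nonneg hnn1).mp hS1'
  have t2 := (Finset.sum_eq_zero_iff_of_nonneg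
    (fun i hi => Finset.sum_nonneg fun j hj => hnn2 i hi j hj)).mp hS2'
  constructor
  · intro i hxi
    have h1 := t1 i (mem_univ i)
    rw [hr i, neg_eq_zero] at h1
    have hyi : y i ≠ 0 := by
      intro h0; apply hxi; rw [hxy i, h0, mul_zero]
    have hyi2 : y i ^ 2 ≠ 0 := pow_ne_zero 2 hyi
    rcases mul_eq_zero.mp h1 with h | h
    · rcases mul_eq_zero.mp h with h' | h'
      · exact absurd h' (hm i).ne'
      · exact h'
    · exact absurd h hyi2
  · intro i j hAij
    have h1 := t2 i (mem_univ i)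
    have h2 := (Finset.sum_eq_zero_iff_of_nonneg (fun j hj => hnn2 i (mem_univ i) j hj)).mp h1 j
      (mem_univ j)
    have hBij : B i j ≠ 0 := by
      rw [hB]
      exact mul_ne_zero (mul_ne_zero (hm i).ne' hAij) (hm j).ne'
    rcases mul_eq_zero.mp h2 with h | h
    · exact absurd h hBij
    · have : y i - y j = 0 := by
        rcases pow_eq_zero_iff (n := 2) (by norm_num) |>.mp h with h'
        exact h'
      have hyy : y i = y j := by linarith
      rw [hy] at hyy
      exact hyy

theorem main (hsymm : A.IsSymm) (hA : ∀ i j, i ≠ j → 0 ≤ A i j) (hm : ∀ i, 0 < m i)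
    (hle : ∀ i, ∑ j ∈ univ.erase i, A i j * m j ≤ -(A i i * m i)) :
    LinearMap.ker (Matrix.mulVecLin A) = Submodule.span ℝ
      {x : Fin n → ℝ | ∃ I : Finset (Fin n), (∀ i ∈ I, ∀ j ∉ I, A i j = 0) ∧
        (∀ i ∈ I, ∑ j ∈ univ.erase i, A i j * m j = -(A i i * m i)) ∧
        x = fun i => if i ∈ I then m i else 0} := by
  classical
  apply le_antisymm
  · intro x hx
    rw [LinearMap.mem_ker, Matrix.mulVecLin_apply] at hx
    have hx' : ∀ i, ∑ j, A i j * x j = 0 := fun i => congrFun hx i
    have hle' : ∀ i, ∑ j, A i j * m j ≤ 0 := by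
      intro i; rw [sum_split]; linarith [hle i]
    obtain ⟨k1, k2⟩ := key A m hsymm hA hm hle' x hx'
    -- decomposition
    let y : Fin n → ℝ := fun i => x i / m i
    have hdec : x = ∑ c ∈ univ.image y, c • (fun i => if i ∈ univ.filter (fun i => y i = c) then m i else 0) := by
      funext i
      rw [Finset.sum_apply]
      simp only [Pi.smul_apply, smul_eq_mul, mem_filter, mem_univ, true_and]
      rw [Finset.sum_eq_single (y i)]
      · rw [if_pos rfl]; simp only [y]; field_simp [(hm i).ne']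
      · intro c _ hc
        rw [if_neg (fun h => hc h.symm), mul_zero]
      · intro h
        exact absurd (mem_image_of_mem y (mem_univ i)) h
    rw [hdec]
    refine Submodule.sum_mem _ fun c _ => ?_
    by_cases hc : c = 0
    · rw [hc, zero_smul]; exact Submodule.zero_mem _
    · refine Submodule.smul_mem _ _ (Submodule.subset_span ⟨_, ?_, ?_, rfl⟩)
      · intro i hi j hj
        simp only [mem_filter, mem_univ, true_and] at hi hj
        by_contra hAij
        apply hj
        rw [← hi]
        exact (k2 i j hAij).symm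
      · intro i hi
        simp only [mem_filter, mem_univ, true_and] at hi
        have hxi : x i ≠ 0 := by
          intro h0
          apply hc
          rw [← hi]; simp only [y]; rw [h0, zero_div]
        have := k1 i hxi
        rw [sum_split] at this
        linarith
  · rw [Submodule.span_le]
    rintro x ⟨I, h1, h2, rfl⟩
    exact mem_ker_of_indicator A m hsymm I h1 h2


end helpers


/-- Let A be a symmetric real n × n matrix with non-negative off-diagonal entries and m a vector with
positive entries such that for every i, ∑_{j ≠ i} A_{ij} m_j ≤ −A_{ii} m_i. Then the kernel of A is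
the span of the vectors equal to m on an index set I and zero off I, for those I such that A_{ij} =
0 whenever i ∈ I and j ∉ I and such that equality holds in the above inequality for every i ∈ I. The
published statement omits the symmetry of A (without which it fails) and applies it only to
symmetric matrices; stated here with A symmetric. -/
theorem result {n : ℕ} (A : Matrix (Fin n) (Fin n) ℝ) (m : Fin n → ℝ)
    (hsymm : A.IsSymm) (hA : ∀ i j, i ≠ j → 0 ≤ A i j) (hm : ∀ i, 0 < m i)
    (hle : ∀ i, ∑ j ∈ univ.erase i, A i j * m j ≤ -(A i i * m i)) :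
    LinearMap.ker (Matrix.mulVecLin A) = Submodule.span ℝ
      {x : Fin n → ℝ | ∃ I : Finset (Fin n), (∀ i ∈ I, ∀ j ∉ I, A i j = 0) ∧
        (∀ i ∈ I, ∑ j ∈ univ.erase i, A i j * m j = -(A i i * m i)) ∧
        x = fun i => if i ∈ I then m i else 0} := by
  exact main A m hsymm hA hm hle

end Groth.Agent.S2170
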