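import Groth.Statements.S2178
import Mathlib.Tactic

set_option autoImplicit false
open Finset
open Models Models.NumericalType

namespace Groth.Agent.S2178

section
variable {n : ℕ} (T : Models.NumericalType n)

/-- maximum principle: a kernel vector of `a` is rationally proportional to `m` -/
lemma ker_prop (v : Fin n → ℤ) (hv : T.a.mulVec v = 0) :
    ∃ M : ℚ, ∀ j, (v j : ℚ) = M * T.m j := by
  classical
  have hn : (univ : Finset (Fin n)).Nonempty := ⟨⟨0, T.pos⟩, mem_univ _⟩
  let t : Fin n → ℚ := fun i => (v i : ℚ) / T.m i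
  obtain ⟨i0, -, hi0⟩ := Finset.exists_max_image univ t hn
  set M := t i0 with hM
  have hmpos : ∀ j, (0 : ℚ) < T.m j := fun j => by exact_mod_cast T.m_pos j
  have hvt : ∀ j, (v j : ℚ) = t j * T.m j := fun j => by
    simp only [t]
    rw [div_mul_cancel₀ _ (hmpos j).ne']
  -- indices where the maximum is attained
  let I : Finset (Fin n) := univ.filter (fun i => t i = M)
  have hI0 : I.Nonempty := ⟨i0, by simp [I, hM]⟩
  have hstep : ∀ i ∈ I, ∀ j, T.a i j ≠ 0 → j ∈ I := by
    intro i hi j haij
    have hti : t i = M := (mem_filter.mp hi).2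
    by_cases hij : j = i
    · rw [hij]; exact hi
    have h1 : ∑ j, (T.a i j : ℚ) * v j = 0 := by
      have := congrFun hv i
      simp only [Matrix.mulVec, dotProduct, Pi.zero_apply] at this
      exact_mod_cast this
    have h2 : ∑ j, (T.a i j : ℚ) * T.m j = 0 := by
      have := congrFun T.mulVec_m i
      simp only [Matrix.mulVec, dotProduct, Pi.zero_apply] at this
      exact_mod_cast this
    have h3 : ∑ j, (T.a i j : ℚ) * T.m j * (M - t j) = 0 := by
      have : ∑ j, (T.a i j : ℚ) * T.m j * (M - t j) =
          M * ∑ j, (T.a i j : ℚ) * T.m j - ∑ j, (T.a i j : ℚ) * v j := by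
        rw [Finset.mul_sum, ← Finset.sum_sub_distrib]
        apply Finset.sum_congr rfl
        intro j _
        rw [hvt j]; ring
      rw [this, h1, h2]; ring
    have hnonneg : ∀ j ∈ (univ : Finset (Fin n)), 0 ≤ (T.a i j : ℚ) * T.m j * (M - t j) := by
      intro j _
      by_cases hji : j = i
      · rw [hji, hti, sub_self, mul_zero]
      · have ha : (0 : ℚ) ≤ T.a i j := by exact_mod_cast T.offDiag_nonneg i j (Ne.symm hji)
        have ht : 0 ≤ M - t j := sub_nonneg.mpr (hi0 j (mem_univ _))
        exact mul_nonneg (mul_nonneg ha (hmpos j).le) ht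
    have h4 := (Finset.sum_eq_zero_iff_of_nonneg hnonneg).mp h3 j (mem_univ _)
    have haq : (T.a i j : ℚ) ≠ 0 := by exact_mod_cast haij
    have h5 : M - t j = 0 := by
      rcases mul_eq_zero.mp h4 with h | h
      · rcases mul_eq_zero.mp h with h | h
        · exact absurd h haq
        · exact absurd h (hmpos j).ne'
      · exact h
    simp only [I, mem_filter, mem_univ, true_and]
    linarith
  have hIuniv : I = univ := by
    by_contra hne
    obtain ⟨i, hi, j, hj, haij⟩ := T.connected I hI0 hne
    exact hj (hstep i hi j haij)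
  refine ⟨M, fun j => ?_⟩
  have hj : j ∈ I := hIuniv ▸ mem_univ j
  have : t j = M := (mem_filter.mp hj).2
  rw [hvt j, this]


lemma mem_ker_iff (v : Fin n → ℤ) :
    v ∈ LinearMap.ker (Matrix.mulVecLin T.picMatrix) ↔ T.a.mulVec v = 0 := by
  rw [LinearMap.mem_ker, Matrix.mulVecLin_apply]
  have key : ∀ i, T.a.mulVec v i = T.w i * T.picMatrix.mulVec v i := by
    intro i
    simp only [Matrix.mulVec, dotProduct, picMatrix, Finset.mul_sum]
    apply Finset.sum_congr rfl
    intro j _
    rw [← mul_assoc, Int.mul_ediv_cancel' (T.w_dvd i j)]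
  constructor
  · intro h
    funext i
    rw [key, h]; simp
  · intro h
    funext i
    have := key i
    rw [h] at this
    simp only [Pi.zero_apply] at this ⊢
    rcases mul_eq_zero.mp this.symm with h1 | h1
    · exact absurd h1 (T.w_pos i).ne'
    · exact h1

lemma finrank_ker : Module.finrank ℤ (LinearMap.ker (Matrix.mulVecLin T.picMatrix)) = 1 := by
  let i0 : Fin n := ⟨0, T.pos⟩
  let K := LinearMap.ker (Matrix.mulVecLin T.picMatrix)
  -- injection into ℤ
  let f : K →ₗ[ℤ] ℤ := (LinearMap.proj i0).comp K.subtype
  have hf : Function.Injective f := by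
    rw [← LinearMap.ker_eq_bot, LinearMap.ker_eq_bot']
    intro v hv
    obtain ⟨M, hM⟩ := ker_prop T v.1 ((mem_ker_iff T v.1).mp v.2)
    have h0 : v.1 i0 = 0 := hv
    have hM0 : M = 0 := by
      have := hM i0
      rw [h0] at this
      have hm : (T.m i0 : ℚ) ≠ 0 := by exact_mod_cast (T.m_pos i0).ne'
      simp only [Int.cast_zero] at this
      rcases mul_eq_zero.mp this.symm with h | h
      · exact h
      · exact absurd h hm
    apply Subtype.ext
    funext j
    have := hM j
    rw [hM0, zero_mul] at this
    exact_mod_cast this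
  have hle : Module.finrank ℤ ↥(LinearMap.ker (Matrix.mulVecLin T.picMatrix)) ≤ 1 := by
    have := LinearMap.finrank_le_finrank_of_injective hf
    simpa using this
  have hge : 0 < Module.finrank ℤ ↥(LinearMap.ker (Matrix.mulVecLin T.picMatrix)) := by
    rw [Module.finrank_pos_iff_exists_ne_zero]
    refine ⟨⟨T.m, (mem_ker_iff T T.m).mpr T.mulVec_m⟩, ?_⟩
    intro h
    have := congrArg (fun x => x.1 i0) h
    simp only at this
    exact (T.m_pos i0).ne' this
  omega

end


/-- The Picard group of a numerical type (the cokernel of the matrix (a i j / w i) acting on Z^n) has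
free rank one: its rank as a Z-module is 1. -/
theorem result {n : ℕ} (T : Models.NumericalType n) : Module.finrank ℤ T.Pic = 1 := by
  have h1 := Submodule.finrank_quotient_add_finrank (LinearMap.range (Matrix.mulVecLin T.picMatrix))
  have h2 := Submodule.finrank_quotient_add_finrank (LinearMap.ker (Matrix.mulVecLin T.picMatrix))
  have h3 := (Matrix.mulVecLin T.picMatrix).quotKerEquivRange.finrank_eq
  have h4 := finrank_ker T
  change Module.finrank ℤ ((Fin n → ℤ) ⧸ LinearMap.range (Matrix.mulVecLin T.picMatrix)) = 1
  omega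

end Groth.Agent.S2178
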