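import Groth.Statements.S2179
-- import your own Groth.Agent.* helpers here

set_option autoImplicit false
open Finset
open Models Models.NumericalType

namespace Groth.Agent.S2179

/-- For a numerical type T, the map Z^n -> Z^n multiplying the i-th coordinate by w i induces a
well-defined injective homomorphism from Pic(T), the cokernel of (a i j / w i), to the cokernel of
the matrix a. -/
theorem result {n : ℕ} (T : Models.NumericalType n) :
    ∃ f : T.Pic →+ T.CokerA, Function.Injective f ∧
      ∀ x : Fin n → ℤ, f (Submodule.Quotient.mk x) = Submodule.Quotient.mk (fun i => T.w i * x i) := by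
  have hkey : ∀ (v : Fin n → ℤ) (i : Fin n),
      T.w i * (T.picMatrix.mulVec v) i = (T.a.mulVec v) i := by
    intro v i
    simp only [Matrix.mulVec, dotProduct, Finset.mul_sum]
    apply Finset.sum_congr rfl
    intro j _
    rw [← mul_assoc]
    congr 1
    exact Int.mul_ediv_cancel' (T.w_dvd i j)
  let g : (Fin n → ℤ) →ₗ[ℤ] (Fin n → ℤ) := Matrix.mulVecLin (Matrix.diagonal T.w)
  have hg : ∀ x, g x = fun i => T.w i * x i := by
    intro x
    ext i
    simp [g, Matrix.mulVec_diagonal]
  have hle : LinearMap.range (Matrix.mulVecLin T.picMatrix) ≤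
      (LinearMap.range (Matrix.mulVecLin T.a)).comap g := by
    rintro _ ⟨v, rfl⟩
    rw [Submodule.mem_comap]
    refine ⟨v, ?_⟩
    rw [hg]
    ext i
    simp only [Matrix.mulVecLin_apply]
    exact (hkey v i).symm
  refine ⟨(Submodule.mapQ _ _ g hle).toAddMonoidHom, ?_, ?_⟩
  · rw [injective_iff_map_eq_zero]
    intro y hy
    obtain ⟨x, rfl⟩ := Submodule.Quotient.mk_surjective _ y
    change Submodule.mapQ _ _ g hle (Submodule.Quotient.mk x) = 0 at hy
    rw [Submodule.mapQ_apply, Submodule.Quotient.mk_eq_zero] at hy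
    obtain ⟨v, hv⟩ := hy
    rw [Submodule.Quotient.mk_eq_zero]
    refine ⟨v, ?_⟩
    ext i
    have h1 := congrFun hv i
    rw [hg] at h1
    simp only [Matrix.mulVecLin_apply] at h1 ⊢
    rw [← hkey v i] at h1
    exact mul_left_cancel₀ (T.w_pos i).ne' h1
  · intro x
    change Submodule.mapQ _ _ g hle (Submodule.Quotient.mk x) = _
    rw [Submodule.mapQ_apply, hg]

end Groth.Agent.S2179
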