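import Groth.Statements.S2182
-- import your own Groth.Agent.* helpers here
import Mathlib.Tactic.Linarith

set_option autoImplicit false
open Finset
open Models Models.NumericalType

namespace Groth.Agent.S2182

/-- In a numerical type, whenever a i j > 0 one has m i * a i j at most m j * |a j j| and m i * w i at
most m j * |a j j|. -/
theorem result {n : ℕ} (T : Models.NumericalType n) (i j : Fin n) (hij : 0 < T.a i j) :
    T.m i * T.a i j ≤ T.m j * |T.a j j| ∧ T.m i * T.w i ≤ T.m j * |T.a j j| := by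
  have hrow : ∀ k, T.a k k * T.m k + ∑ l ∈ univ.erase k, T.a k l * T.m l = 0 := by
    intro k
    have := congrFun T.mulVec_m k
    rw [Finset.add_sum_erase univ (fun l => T.a k l * T.m l) (mem_univ k)]
    simpa [Matrix.mulVec, dotProduct] using this
  have hnn : ∀ k, ∀ l ∈ univ.erase k, 0 ≤ T.a k l * T.m l := by
    intro k l hl
    exact mul_nonneg (T.offDiag_nonneg _ _ (ne_of_mem_erase hl).symm) (T.m_pos l).le
  have hne : i ≠ j := by
    rintro rfl
    have h1 := hrow i
    have h2 : 0 ≤ ∑ l ∈ univ.erase i, T.a i l * T.m l := Finset.sum_nonneg (hnn i)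
    have h3 := mul_pos hij (T.m_pos i)
    linarith
  have hsym : T.a j i = T.a i j := T.symm.apply i j
  have h1 : T.a j i * T.m i ≤ ∑ l ∈ univ.erase j, T.a j l * T.m l :=
    Finset.single_le_sum (hnn j) (mem_erase.mpr ⟨hne, mem_univ _⟩)
  have h2 := hrow j
  have h3 : -T.a j j ≤ |T.a j j| := neg_le_abs _
  have h4 : T.m j * (-T.a j j) ≤ T.m j * |T.a j j| := mul_le_mul_of_nonneg_left h3 (T.m_pos j).le
  have hA : T.m i * T.a i j ≤ T.m j * |T.a j j| := by
    rw [hsym] at h1
    nlinarith
  refine ⟨hA, le_trans ?_ hA⟩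
  have hw : T.w i ≤ T.a i j := Int.le_of_dvd hij (T.w_dvd i j)
  exact mul_le_mul_of_nonneg_left hw (T.m_pos i).le

end Groth.Agent.S2182
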