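import Groth.Statements.S2187
import Groth.Agent.Lib.helper10.VascB

set_option autoImplicit false
universe u
open CategoryTheory
open LCI

namespace Groth.Agent.S2187

/-- Let R be a Noetherian local ring and I an ideal of finite projective dimension as an R-module. If F
is a direct summand of the conormal module I/I^2 which is isomorphic to R/I, then there is a
nonzerodivisor x in I whose class in I/I^2 generates F. -/
theorem result {R : Type u} [CommRing R]
    [IsNoetherianRing R] [IsLocalRing R] (I : Ideal R) (n : ℕ)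
    (hpd : HasProjectiveDimensionLT (ModuleCat.of R I) n)
    (F G : Submodule (R ⧸ I) I.Cotangent) (hFG : IsCompl F G) (e : F ≃ₗ[R ⧸ I] (R ⧸ I)) :
    ∃ (x : R) (hx : x ∈ I), x ∈ nonZeroDivisors R ∧
      Submodule.span (R ⧸ I) {I.toCotangent ⟨x, hx⟩} = F := by
  by_cases hI : I = ⊤
  · subst hI
    refine ⟨1, Submodule.mem_top, one_mem _, ?_⟩
    haveI : Subsingleton (R ⧸ (⊤ : Ideal R)) := Ideal.Quotient.subsingleton_iff.mpr rfl
    haveI : Subsingleton (⊤ : Ideal R).Cotangent := Module.subsingleton (R ⧸ (⊤ : Ideal R)) _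
    exact Subsingleton.elim _ _
  · haveI : Nontrivial (R ⧸ I) := Ideal.Quotient.nontrivial_iff.mpr hI
    obtain ⟨y, hy⟩ := Ideal.toCotangent_surjective I (e.symm 1 : I.Cotangent)
    have hIbot : I ≠ ⊥ := by
      rintro rfl
      have h2 : y = 0 := Subtype.ext ((Submodule.mem_bot R).mp y.2)
      rw [h2, map_zero] at hy
      have h3 : e.symm 1 = 0 := Subtype.ext hy.symm
      have h4 : (1 : R ⧸ (⊥ : Ideal R)) = 0 := by
        have := congrArg e h3
        rwa [LinearEquiv.apply_symm_apply, map_zero] at this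
      exact one_ne_zero h4
    obtain ⟨j, hj, hnzd⟩ :=
      Groth.Agent.Lib.helper10.VascB.exists_add_mem_nonZeroDivisors I hIbot n hpd y.1
    have hjI : j ∈ I := Ideal.pow_le_self two_ne_zero hj
    have hxI : y.1 + j ∈ I := I.add_mem y.2 hjI
    refine ⟨y.1 + j, hxI, hnzd, ?_⟩
    have h1 : I.toCotangent ⟨y.1 + j, hxI⟩ = (e.symm 1 : I.Cotangent) := by
      have : (⟨y.1 + j, hxI⟩ : I) = y + ⟨j, hjI⟩ := rfl
      rw [this, map_add, hy, (Ideal.toCotangent_eq_zero I ⟨j, hjI⟩).mpr hj, add_zero]
    rw [h1]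
    apply le_antisymm
    · rw [Submodule.span_le, Set.singleton_subset_iff]
      exact (e.symm 1).2
    · intro v hv
      rw [Submodule.mem_span_singleton]
      refine ⟨e ⟨v, hv⟩, ?_⟩
      have h2 : (⟨v, hv⟩ : F) = e ⟨v, hv⟩ • e.symm 1 := by
        rw [← map_smul, smul_eq_mul, mul_one, LinearEquiv.symm_apply_apply]
      have := congrArg Subtype.val h2
      rw [Submodule.coe_smul] at this
      exact this.symm

end Groth.Agent.S2187
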