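import Groth.Statements.S2188
import Groth.Agent.Lib.helper10.VascD

set_option autoImplicit false
universe u
open CategoryTheory
open LCI

namespace Groth.Agent.S2188

/-- membership of classes in a submodule of the conormal module, from membership in ideals -/
theorem toCotangent_mem_of_mem_span {R : Type u} [CommRing R] (I : Ideal R)
    (S : Submodule (R ⧸ I) I.Cotangent) {ι : Type*} (y : ι → R) (hy : ∀ i, y i ∈ I)
    (hS : ∀ i, I.toCotangent ⟨y i, hy i⟩ ∈ S) (w : R)
    (hw : w ∈ Ideal.span (Set.range y) ⊔ I ^ 2) (hwI : w ∈ I) :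
    I.toCotangent ⟨w, hwI⟩ ∈ S := by
  let T : Submodule R I := (S.restrictScalars R).comap I.toCotangent
  have h1 : Ideal.span (Set.range y) ⊔ I ^ 2 ≤ T.map I.subtype := by
    refine sup_le ?_ ?_
    · rw [Ideal.span_le]
      rintro _ ⟨i, rfl⟩
      exact ⟨⟨y i, hy i⟩, hS i, rfl⟩
    · intro j hj
      have hjI : j ∈ I := Ideal.pow_le_self two_ne_zero hj
      refine ⟨⟨j, hjI⟩, ?_, rfl⟩
      change I.toCotangent ⟨j, hjI⟩ ∈ S
      rw [(Ideal.toCotangent_eq_zero I ⟨j, hjI⟩).mpr hj]
      exact S.zero_mem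
  obtain ⟨k, hk, hkw⟩ := h1 hw
  have : (⟨w, hwI⟩ : I) = k := Subtype.ext hkw.symm
  rw [this]
  exact hk

/-- Let R be a Noetherian local ring and I an ideal of finite projective dimension as an R-module. If F
is a direct summand of I/I^2 which is free of rank r over R/I, then there is a regular sequence x_1,
..., x_r of R inside I whose classes in I/I^2 generate F. -/
theorem result {R : Type u} [CommRing R]
    [IsNoetherianRing R] [IsLocalRing R] (I : Ideal R) (hI : I ≠ ⊤) (n : ℕ)
    (hpd : HasProjectiveDimensionLT (ModuleCat.of R I) n)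
    (F G : Submodule (R ⧸ I) I.Cotangent) (hFG : IsCompl F G) (r : ℕ)
    (e : F ≃ₗ[R ⧸ I] (Fin r → R ⧸ I)) :
    ∃ (x : Fin r → R) (hx : ∀ i, x i ∈ I), RingTheory.Sequence.IsRegular R (List.ofFn x) ∧
      Submodule.span (R ⧸ I) (Set.range fun i => I.toCotangent ⟨x i, hx i⟩) = F := by
  classical
  -- the basis of `F` and lifts
  have hlift : ∀ i : Fin r, ∃ y : I, I.toCotangent y = (e.symm (Pi.single i 1) : I.Cotangent) :=
    fun i => Ideal.toCotangent_surjective I _
  choose y hy using hlift
  let projF : I.Cotangent →ₗ[R ⧸ I] F := Submodule.projectionOnto F G hFG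
  let lam : Fin r → (I →ₗ[R] R ⧸ I) := fun i =>
    ((LinearMap.proj i ∘ₗ e.toLinearMap ∘ₗ projF).restrictScalars R) ∘ₗ I.toCotangent
  have hlam : ∀ i j, lam i ⟨(y j).1, (y j).2⟩ = if i = j then 1 else 0 := by
    intro i j
    change (e (projF (I.toCotangent (y j)))) i = _
    have hp : projF ↑(e.symm (Pi.single j 1)) = e.symm (Pi.single j 1) :=
      Submodule.projectionOnto_apply_left hFG _
    rw [hy j, hp, LinearEquiv.apply_symm_apply, Pi.single_apply]
  obtain ⟨x, hx, hreg, hspan⟩ := Groth.Agent.Lib.helper10.VascD.exists_regular r R I hI n hpd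
    (fun i => (y i).1) (fun i => (y i).2) lam hlam
  refine ⟨x, hx, hreg, ?_⟩
  -- `F` is spanned by the classes of the `y i`
  have hF : Submodule.span (R ⧸ I) (Set.range fun i => I.toCotangent (y i)) = F := by
    let b : Module.Basis (Fin r) (R ⧸ I) F := (Pi.basisFun (R ⧸ I) (Fin r)).map e.symm
    have h1 : (fun i => I.toCotangent (y i)) = F.subtype ∘ b := by
      funext i
      rw [hy i]
      simp [b]
    rw [h1, Set.range_comp, ← Submodule.map_span, b.span_eq, Submodule.map_subtype_top]
  rw [← hF]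
  apply le_antisymm
  · rw [Submodule.span_le]
    rintro _ ⟨i, rfl⟩
    refine toCotangent_mem_of_mem_span I _ (fun i => (y i).1) (fun i => (y i).2)
      (fun i => Submodule.subset_span (Set.mem_range_self i)) (x i) ?_ (hx i)
    rw [← hspan]
    exact Ideal.mem_sup_left (Ideal.subset_span ⟨i, rfl⟩)
  · rw [Submodule.span_le]
    rintro _ ⟨i, rfl⟩
    refine toCotangent_mem_of_mem_span I _ x hx
      (fun i => Submodule.subset_span (Set.mem_range_self i)) (y i).1 ?_ (y i).2
    rw [hspan]
    exact Ideal.mem_sup_left (Ideal.subset_span ⟨i, rfl⟩)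

end Groth.Agent.S2188
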