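import Groth.Statements.S2190
import Groth.Agent.S7316
import Groth.Agent.S3349

set_option autoImplicit false
open Finset
open Models Models.NumericalType

namespace Groth.Agent.S2190

/-- A minimal numerical type of genus zero has a single index, with m = 1, a = 0, w = 1 and g = 0. -/
theorem result {n : ℕ} (T : Models.NumericalType n) (hmin : T.IsMinimal) (hg : T.genus = 0) :
    n = 1 ∧ ∀ i, T.m i = 1 ∧ T.a i i = 0 ∧ T.w i = 1 ∧ T.g i = 0 := by
  have hn1 : n = 1 := by
    by_contra hne
    have hn : 1 < n := by have := T.pos; omega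
    have hc : ∀ i, 0 ≤ T.m i * (2 * T.w i * (T.g i - 1) - T.a i i) := by
      intro i
      by_contra hlt
      push_neg at hlt
      exact hmin i (Groth.Agent.S7316.result T hn i hlt)
    have hsum : 0 ≤ ∑ i, T.m i * (2 * T.w i * (T.g i - 1) - T.a i i) :=
      Finset.sum_nonneg fun i _ => hc i
    have hsplit : ∑ i, T.m i * (2 * T.w i * (T.g i - 1) - T.a i i) =
        2 * (∑ i, T.m i * T.w i * (T.g i - 1)) - ∑ i, T.m i * T.a i i := by
      rw [Finset.mul_sum, ← Finset.sum_sub_distrib]
      refine Finset.sum_congr rfl fun i _ => ?_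
      ring
    rw [hsplit] at hsum
    have hdiv : (∑ i, T.m i * T.a i i) / 2 ≤ ∑ i, T.m i * T.w i * (T.g i - 1) :=
      Int.ediv_le_of_le_mul (by norm_num) (by linarith)
    have : 1 ≤ T.genus := by
      unfold Models.NumericalType.genus
      linarith
    omega
  subst hn1
  refine ⟨rfl, fun i => ?_⟩
  have hi : i = 0 := Subsingleton.elim _ _
  subst hi
  obtain ⟨ha, -, -, h0, -, -⟩ := Groth.Agent.S3349.result T
  obtain ⟨h1, h2, h3⟩ := h0 hg
  exact ⟨h1, ha, h2, h3⟩

end Groth.Agent.S2190
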