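import Groth.Statements.S2191
import Groth.Agent.Lib.helper10.DPSup

set_option autoImplicit false
universe u v
open DPow

namespace Groth.Agent.S2191

/-- Part (2): if two ideals I and J of a ring carry divided power structures agreeing on their
intersection, then exactly one divided power structure on the ideal I + J restricts to the given
ones on I and on J. -/
theorem result {A : Type u} [CommRing A] {I J : Ideal A} (γ : DividedPowers I)
    (δ : DividedPowers J) (h : ∀ (n : ℕ) (x : A), x ∈ I ⊓ J → γ.dpow n x = δ.dpow n x) :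
    ∃! ε : DividedPowers (I ⊔ J),
      (∀ (n : ℕ) (x : A), x ∈ I → ε.dpow n x = γ.dpow n x) ∧
        (∀ (n : ℕ) (x : A), x ∈ J → ε.dpow n x = δ.dpow n x) := by
  refine ⟨Groth.Agent.Lib.helper10.DPSup.dividedPowers γ δ h,
    ⟨fun n x hx => Groth.Agent.Lib.helper10.DPSup.dividedPowers_left γ δ h n hx,
      fun n x hx => Groth.Agent.Lib.helper10.DPSup.dividedPowers_right γ δ h n hx⟩, ?_⟩
  rintro ε' ⟨h1, h2⟩
  refine DividedPowers.dpow_eq_from_gens _ _
    (Groth.Agent.Lib.helper10.DPSup.span_union (I := I) (J := J)).symm ?_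
  rintro n a (ha | ha)
  · rw [Groth.Agent.Lib.helper10.DPSup.dividedPowers_left γ δ h n ha, h1 n a ha]
  · rw [Groth.Agent.Lib.helper10.DPSup.dividedPowers_right γ δ h n ha, h2 n a ha]

end Groth.Agent.S2191
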