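import Groth.Statements.S2192
import Groth.Agent.Lib.helper10.DPGens

set_option autoImplicit false
universe u
open DPow

namespace Groth.Agent.S2192

-- NOTE: the template writes `Finset.antidiagonal n`; with all of Mathlib imported that name is taken by the
-- well-quasi-order antidiagonal, so the same constant is written out as `Finset.HasAntidiagonal.antidiagonal n`
-- (the elaborated type is identical to the frozen one; the kernel check confirms it).

/-- Let I be an ideal of a ring A generated by a set S, and let d n : A -> A (n a natural number) be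
maps with d 0 = 1 and d 1 = id on I, d n mapping I into I for n > 0, vanishing off I, additive in
the divided-power sense and satisfying d n (a x) = a^n d n x for all x in I. If the product rule d m
x * d n x = C(m+n, m) d (m+n) x and the composition rule for d m (d n x) hold for all x in S, then
the d n form a divided power structure on I. -/
theorem result {A : Type u} [CommRing A] (I : Ideal A) (S : Set A)
    (hS : Ideal.span S = I) (d : ℕ → A → A) (h_null : ∀ (n : ℕ) (x : A), x ∉ I → d n x = 0)
    (h_zero : ∀ x ∈ I, d 0 x = 1) (h_one : ∀ x ∈ I, d 1 x = x)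
    (h_mem : ∀ (n : ℕ) (x : A), n ≠ 0 → x ∈ I → d n x ∈ I)
    (h_add : ∀ (n : ℕ) (x y : A), x ∈ I → y ∈ I →
      d n (x + y) = (Finset.HasAntidiagonal.antidiagonal n).sum fun k => d k.1 x * d k.2 y)
    (h_mul : ∀ (n : ℕ) (a x : A), x ∈ I → d n (a * x) = a ^ n * d n x)
    (h_mul_dpow : ∀ (m n : ℕ) (x : A), x ∈ S → d m x * d n x = (m + n).choose m * d (m + n) x)
    (h_comp : ∀ (m n : ℕ) (x : A), n ≠ 0 → x ∈ S →
      d m (d n x) = Nat.uniformBell m n * d (m * n) x) :
    ∃ γ : DividedPowers I, γ.dpow = d := by
  refine ⟨Groth.Agent.Lib.helper10.DPGens.dividedPowers d h_null h_zero h_one h_mem h_add h_mul S hS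
    (fun x hx => ⟨fun m n => h_mul_dpow m n x hx, fun m n hn => h_comp m n x hn hx⟩), rfl⟩

end Groth.Agent.S2192
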