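import Groth.Statements.S2203
import Mathlib.CategoryTheory.Center.Localization
import Mathlib.CategoryTheory.Center.Linear
import Mathlib.Algebra.Category.ModuleCat.Limits
import Mathlib.Algebra.Category.ModuleCat.Biproducts
-- import your own Groth.Agent.* helpers here

set_option autoImplicit false
universe u
open CategoryTheory
open QCohCat

namespace Groth.Agent.S2203

theorem toCatCenter_bijective (A : Type u) [CommRing A] :
    Function.Bijective (Linear.toCatCenter A (ModuleCat.{u} A)) := by
  constructor
  · intro a b h
    have h1 := congrArg (fun z : CatCenter (ModuleCat.{u} A) => (z.app (ModuleCat.of A A)).hom (1 : A)) h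
    simpa using h1
  · intro z
    refine ⟨(z.app (ModuleCat.of A A)).hom (1 : A), ?_⟩
    apply CatCenter.ext
    intro M
    ext m
    have hn := z.naturality (ModuleCat.ofHom (LinearMap.toSpanSingleton A M m) :
      ModuleCat.of A A ⟶ M)
    have := congrArg (fun f => f.hom (1 : A)) hn
    simp at this
    simp [this]

theorem center_bijective {C D : Type*} [Category C] [Category D] [Preadditive C] [Preadditive D]
    (L : C ⥤ D) [L.IsEquivalence] [L.Additive] :
    haveI := Functor.IsLocalization.of_isEquivalence L (MorphismProperty.isomorphisms C) le_rfl
    Function.Bijective (CatCenter.localizationRingHom L (MorphismProperty.isomorphisms C)) := by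
  haveI := Functor.IsLocalization.of_isEquivalence L (MorphismProperty.isomorphisms C) le_rfl
  constructor
  · intro r s h
    apply CatCenter.ext
    intro X
    apply L.map_injective
    have := congrArg (fun z : CatCenter D => z.app (L.obj X)) h
    simpa [CatCenter.localizationRingHom] using this
  · intro t
    refine ⟨{ app := fun X => L.preimage (t.app (L.obj X)), naturality := ?_ }, ?_⟩
    · intro X Y f
      apply L.map_injective
      simp only [Functor.id_obj, Functor.id_map, Functor.map_comp, Functor.map_preimage]
      exact t.naturality (L.map f)
    · apply CatCenter.ext_of_localization L (MorphismProperty.isomorphisms C)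
      intro X
      simp only [CatCenter.localizationRingHom, RingHom.coe_mk, MonoidHom.coe_mk, OneHom.coe_mk,
        CatCenter.localization_app]
      exact L.map_preimage _

/-- Ring-isomorphism part of the statement: let A and B be commutative rings whose categories of modules
are equivalent. Then A and B are isomorphic as rings. (The source moreover describes the equivalence
as base change followed by tensoring with an invertible module.) -/
theorem result (A B : Type u) [CommRing A] [CommRing B]
    (F : ModuleCat.{u} A ≌ ModuleCat.{u} B) : Nonempty (A ≃+* B) := by
  have : F.functor.Additive := Functor.additive_of_preserves_binary_products _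
  have := Functor.IsLocalization.of_isEquivalence F.functor
    (MorphismProperty.isomorphisms (ModuleCat.{u} A)) le_rfl
  let e1 := RingEquiv.ofBijective _ (toCatCenter_bijective A)
  let e2 := RingEquiv.ofBijective _ (toCatCenter_bijective B)
  let e3 := RingEquiv.ofBijective _ (center_bijective F.functor)
  exact ⟨(e1.trans e3).trans e2.symm⟩

end Groth.Agent.S2203
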