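import Groth.Statements.S2235
import Groth.Agent.Lib.helper10.Wiebe
import Groth.Agent.Lib.Helper5.KosBCB

set_option autoImplicit false
universe u
open TensorProduct
open Disc

namespace Groth.Agent.S2235

theorem aux {A P : Type u} [CommRing A] [CommRing P] [Algebra A P]
    {n : ℕ} (f : Fin n → P) (hf : LCI.IsKoszulRegularSeq P (List.ofFn f))
    (I : Ideal P) (hI : I = Ideal.span (Set.range f))
    [Module.Flat A (P ⧸ I)]
    (g : Fin n → P ⊗[A] (P ⧸ I))
    (hgker : Ideal.span (Set.range g) = RingHom.ker (Algebra.TensorProduct.productMap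
      (Ideal.Quotient.mkₐ A I) (AlgHom.id A (P ⧸ I))))
    (c : Matrix (Fin n) (Fin n) (P ⊗[A] (P ⧸ I)))
    (hc : ∀ i, f i ⊗ₜ[A] (1 : P ⧸ I) = ∑ j, c i j * g j) :
    Submodule.annihilator (RingHom.ker
        (Algebra.TensorProduct.lmul' (S := P ⧸ I) A)) =
      Ideal.span {Algebra.TensorProduct.map (Ideal.Quotient.mkₐ A I)
        (AlgHom.id A (P ⧸ I)) (Matrix.det c)} := by
  classical
  -- notation
  let π : P ⊗[A] (P ⧸ I) →ₐ[A] (P ⧸ I) ⊗[A] (P ⧸ I) :=
    Algebra.TensorProduct.map (Ideal.Quotient.mkₐ A I) (AlgHom.id A (P ⧸ I))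
  let pm : P ⊗[A] (P ⧸ I) →ₐ[A] (P ⧸ I) :=
    Algebra.TensorProduct.productMap (Ideal.Quotient.mkₐ A I) (AlgHom.id A (P ⧸ I))
  have hπs : Function.Surjective π :=
    Algebra.TensorProduct.map_surjective _ _ (Ideal.Quotient.mkₐ_surjective A I)
      Function.surjective_id
  -- the kernel of `π`
  have hπk : RingHom.ker π = Ideal.span (Set.range fun i => f i ⊗ₜ[A] (1 : P ⧸ I)) := by
    have h1 := Algebra.TensorProduct.rTensor_ker (R := A) (S := A) (C := P ⧸ I) (Ideal.Quotient.mkₐ A I)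
      (Ideal.Quotient.mkₐ_surjective A I)
    change RingHom.ker (Algebra.TensorProduct.map (Ideal.Quotient.mkₐ A I)
      (AlgHom.id A (P ⧸ I))) = _
    rw [h1]
    have h2 : RingHom.ker (Ideal.Quotient.mkₐ A I) = I := by
      ext x
      rw [RingHom.mem_ker]
      exact Ideal.Quotient.eq_zero_iff_mem
    rw [h2, hI, Ideal.map_span, ← Set.range_comp]
    rfl
  -- `lmul' ∘ π = pm`
  have hcomp : (Algebra.TensorProduct.lmul' (S := P ⧸ I) A).comp π = pm := by
    apply Algebra.TensorProduct.ext'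
    intro a b
    simp [π, pm]
  have hcomp' : ∀ r, Algebra.TensorProduct.lmul' (S := P ⧸ I) A (π r) = pm r :=
    fun r => congrArg (fun k => k r) hcomp
  -- Koszul regularity of `f ⊗ 1`
  have hflat : (algebraMap P (P ⊗[A] (P ⧸ I))).Flat := by
    rw [RingHom.flat_algebraMap_iff]
    infer_instance
  have hf' : LCI.IsKoszulRegularSeq (P ⊗[A] (P ⧸ I))
      (List.ofFn fun i => f i ⊗ₜ[A] (1 : P ⧸ I)) := by
    have h1 := Groth.Agent.Lib.Helper5.KosBC.isKoszulRegularSeq_map
      (algebraMap P (P ⊗[A] (P ⧸ I))) hflat (List.ofFn f) hf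
    rw [List.map_ofFn] at h1
    exact h1
  have hW := Groth.Agent.Lib.helper10.Wiebe.mul_mem_iff (fun i => f i ⊗ₜ[A] (1 : P ⧸ I)) g c hc hf'
  rw [← hπk] at hW
  -- the kernel of `lmul'`
  have hkerl : ∀ m, m ∈ RingHom.ker (Algebra.TensorProduct.lmul' (S := P ⧸ I) A) →
      ∃ r ∈ Ideal.span (Set.range g), π r = m := by
    intro m hm
    obtain ⟨r, rfl⟩ := hπs m
    refine ⟨r, ?_, rfl⟩
    rw [hgker]
    rw [RingHom.mem_ker] at hm ⊢
    rw [← hm]
    exact (hcomp' r).symm
  have hgmem : ∀ j, π (g j) ∈ RingHom.ker (Algebra.TensorProduct.lmul' (S := P ⧸ I) A) := by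
    intro j
    rw [RingHom.mem_ker, hcomp' (g j)]
    have : g j ∈ RingHom.ker (Algebra.TensorProduct.productMap
      (Ideal.Quotient.mkₐ A I) (AlgHom.id A (P ⧸ I))) := by
      rw [← hgker]
      exact Ideal.subset_span ⟨j, rfl⟩
    exact this
  apply le_antisymm
  · intro z hz
    rw [Submodule.mem_annihilator] at hz
    obtain ⟨y, rfl⟩ := hπs z
    have hy : ∀ j, y * g j ∈ RingHom.ker π := by
      intro j
      rw [RingHom.mem_ker, map_mul]
      have := hz (π (g j)) (hgmem j)
      rwa [smul_eq_mul] at this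
    have h1 := (hW y).1 hy
    rw [Submodule.mem_sup] at h1
    obtain ⟨a, ha, b, hb, rfl⟩ := h1
    obtain ⟨d, rfl⟩ := Ideal.mem_span_singleton'.1 hb
    rw [map_add, (RingHom.mem_ker).1 ha, zero_add, map_mul]
    exact Ideal.mul_mem_left _ _ (Ideal.subset_span rfl)
  · rw [Ideal.span_le, Set.singleton_subset_iff, SetLike.mem_coe, Submodule.mem_annihilator]
    intro m hm
    obtain ⟨r, hr, rfl⟩ := hkerl m hm
    rw [smul_eq_mul]
    change π (Matrix.det c) * π r = 0
    rw [← map_mul, ← RingHom.mem_ker]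
    have h1 : ∀ j, Matrix.det c * g j ∈ RingHom.ker π :=
      (hW (Matrix.det c)).2 (Ideal.mem_sup_right (Ideal.subset_span rfl))
    refine Submodule.span_induction (p := fun r _ => Matrix.det c * r ∈ RingHom.ker π)
      ?_ ?_ ?_ ?_ hr
    · rintro _ ⟨j, rfl⟩
      exact h1 j
    · simp
    · intro a b _ _ ha hb
      rw [mul_add]
      exact Ideal.add_mem _ ha hb
    · intro a b _ hb
      rw [smul_eq_mul, mul_left_comm]
      exact Ideal.mul_mem_left _ _ hb


/-- Let A -> P be a ring map, f_1, ..., f_n a Koszul-regular sequence in P with B = P/(f_1, ..., f_n)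
flat over A, and g_1, ..., g_n a Koszul-regular sequence in P tensor_A B generating the kernel of
the multiplication map P tensor_A B -> B. Write f_i tensor 1 = sum_j c_ij g_j. Then the annihilator
of the kernel of B tensor_A B -> B is the principal ideal generated by the image of det(c_ij). -/
theorem result {A P : Type u} [CommRing A] [CommRing P] [Algebra A P]
    {n : ℕ} (f : Fin n → P) (hf : LCI.IsKoszulRegularSeq P (List.ofFn f))
    [Module.Flat A (P ⧸ Ideal.span (Set.range f))]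
    (g : Fin n → P ⊗[A] (P ⧸ Ideal.span (Set.range f)))
    (hg : LCI.IsKoszulRegularSeq (P ⊗[A] (P ⧸ Ideal.span (Set.range f))) (List.ofFn g))
    (hgker : Ideal.span (Set.range g) = RingHom.ker (Algebra.TensorProduct.productMap
      (Ideal.Quotient.mkₐ A (Ideal.span (Set.range f))) (AlgHom.id A (P ⧸ Ideal.span (Set.range f)))))
    (c : Matrix (Fin n) (Fin n) (P ⊗[A] (P ⧸ Ideal.span (Set.range f))))
    (hc : ∀ i, f i ⊗ₜ[A] (1 : P ⧸ Ideal.span (Set.range f)) = ∑ j, c i j * g j) :
    Submodule.annihilator (RingHom.ker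
        (Algebra.TensorProduct.lmul' (S := P ⧸ Ideal.span (Set.range f)) A)) =
      Ideal.span {Algebra.TensorProduct.map (Ideal.Quotient.mkₐ A (Ideal.span (Set.range f)))
        (AlgHom.id A (P ⧸ Ideal.span (Set.range f))) (Matrix.det c)} := by
  exact aux f hf _ rfl g hgker c hc

end Groth.Agent.S2235
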