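import Groth.Statements.S2210
import Groth.Agent.S9147
import Groth.Agent.S9254
import Groth.Agent.S2235
import Groth.Agent.Lib.helper10.TateDiag

set_option autoImplicit false
universe u
open Disc

namespace Groth.Agent.S2210

/-- quasi-finite presentations with as many equations as variables are relative global complete
intersections -/
theorem relGCI_of_quasiFinite {A : Type u} [CommRing A] {n : ℕ}
    (f : Fin n → MvPolynomial (Fin n) A)
    [Algebra.QuasiFinite A (MvPolynomial (Fin n) A ⧸ Ideal.span (Set.range f))] :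
    Synt.IsRelGCI A n n f := by
  intro p hp
  refine ⟨le_rfl, ?_⟩
  haveI := hp
  rw [Nat.sub_self]
  haveI : IsArtinianRing (p.asIdeal.Fiber (Synt.RelGCIRing A n n f)) := inferInstance
  haveI : Ring.KrullDimLE 0 (p.asIdeal.Fiber (Synt.RelGCIRing A n n f)) :=
    ((isArtinianRing_iff_isNoetherianRing_krullDimLE_zero
      (R := p.asIdeal.Fiber (Synt.RelGCIRing A n n f))).mp inferInstance).2
  exact ringKrullDimZero_iff_ringKrullDim_eq_zero.mp inferInstance

open TensorProduct Groth.Agent.Lib.helper10.TateDiag in
/-- the annihilator of the diagonal ideal is principal, generated by an element mapping to the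
Jacobian determinant. -/
theorem ann_eq {A : Type u} [CommRing A] {n : ℕ} (f : Fin n → MvPolynomial (Fin n) A)
    (hkos : LCI.IsKoszulRegularSeq (MvPolynomial (Fin n) A) (List.ofFn f))
    [Module.Flat A (MvPolynomial (Fin n) A ⧸ Ideal.span (Set.range f))] :
    ∃ Δ : (MvPolynomial (Fin n) A ⧸ Ideal.span (Set.range f)) ⊗[A]
        (MvPolynomial (Fin n) A ⧸ Ideal.span (Set.range f)),
      Submodule.annihilator (RingHom.ker (Algebra.TensorProduct.lmul'
        (S := MvPolynomial (Fin n) A ⧸ Ideal.span (Set.range f)) A)) = Ideal.span {Δ} ∧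
      Algebra.TensorProduct.lmul' (S := MvPolynomial (Fin n) A ⧸ Ideal.span (Set.range f)) A Δ =
        Ideal.Quotient.mk (Ideal.span (Set.range f))
          (Matrix.det (Matrix.of fun i j => MvPolynomial.pderiv j (f i))) := by
  classical
  have hmem : ∀ i, f i ⊗ₜ[A] (1 : MvPolynomial (Fin n) A ⧸ Ideal.span (Set.range f)) ∈
      Ideal.span (Set.range (gdiag (Ideal.Quotient.mkₐ A (Ideal.span (Set.range f))))) := by
    intro i
    rw [span_gdiag_eq_ker]
    show pm _ _ = 0
    rw [pm_tmul, mul_one]
    exact Ideal.Quotient.eq_zero_iff_mem.mpr (Ideal.subset_span ⟨i, rfl⟩)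
  choose c hc using fun i => (Ideal.mem_span_range_iff_exists_fun.mp (hmem i))
  have haux := Groth.Agent.S2235.aux f hkos _ rfl
    (gdiag (Ideal.Quotient.mkₐ A (Ideal.span (Set.range f))))
    (span_gdiag_eq_ker _) (Matrix.of c) (fun i => (hc i).symm)
  refine ⟨_, haux, ?_⟩
  have h1 : ∀ z, (Algebra.TensorProduct.lmul' (S := MvPolynomial (Fin n) A ⧸ Ideal.span (Set.range f)) A)
      (Algebra.TensorProduct.map (Ideal.Quotient.mkₐ A (Ideal.span (Set.range f)))
        (AlgHom.id A (MvPolynomial (Fin n) A ⧸ Ideal.span (Set.range f))) z) =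
      pm (Ideal.Quotient.mkₐ A (Ideal.span (Set.range f))) z := fun z => by
    rw [pm, Algebra.TensorProduct.productMap_eq_comp_map]; rfl
  rw [h1, AlgHom.map_det]
  have h2 : Ideal.Quotient.mk (Ideal.span (Set.range f))
      (Matrix.det (Matrix.of fun i j => MvPolynomial.pderiv j (f i))) =
      (Ideal.Quotient.mkₐ A (Ideal.span (Set.range f)))
        (Matrix.det (Matrix.of fun i j => MvPolynomial.pderiv j (f i))) := rfl
  rw [h2, AlgHom.map_det]
  congr 1
  ext i j
  simp only [AlgHom.mapMatrix_apply, Matrix.map_apply, Matrix.of_apply]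
  exact pm_coeff_eq _ (f i) (c i) (hc i).symm j

theorem key {A : Type u} [CommRing A] {n : ℕ} (f : Fin n → MvPolynomial (Fin n) A)
    (hkos : LCI.IsKoszulRegularSeq (MvPolynomial (Fin n) A) (List.ofFn f))
    [Module.Flat A (MvPolynomial (Fin n) A ⧸ Ideal.span (Set.range f))] :
    Disc.noetherDifferent A (MvPolynomial (Fin n) A ⧸ Ideal.span (Set.range f)) =
        Ideal.span {Ideal.Quotient.mk (Ideal.span (Set.range f))
          (Matrix.det (Matrix.of fun i j => MvPolynomial.pderiv j (f i)))} := by
  obtain ⟨Δ, h1, h2⟩ := ann_eq f hkos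
  rw [Disc.noetherDifferent, h1, Ideal.map_span, Set.image_singleton, h2]

/-- Parts (1) (flatness) and (3), in the case h = 1: let A be a ring, n at least 1, f_1, ..., f_n
polynomials in A[x_1, ..., x_n] and B = A[x_1, ..., x_n]/(f_1, ..., f_n). When B is quasi-finite
over A, it is A-flat, and its Noether different over A is the principal ideal generated by the image
of the Jacobian determinant det(d f_i / d x_j). -/
theorem result {A : Type u} [CommRing A] {n : ℕ}
    (hn : 1 ≤ n) (f : Fin n → MvPolynomial (Fin n) A)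
    [Algebra.QuasiFinite A (MvPolynomial (Fin n) A ⧸ Ideal.span (Set.range f))] :
    Module.Flat A (MvPolynomial (Fin n) A ⧸ Ideal.span (Set.range f)) ∧
      Disc.noetherDifferent A (MvPolynomial (Fin n) A ⧸ Ideal.span (Set.range f)) =
        Ideal.span {Ideal.Quotient.mk (Ideal.span (Set.range f))
          (Matrix.det (Matrix.of fun i j => MvPolynomial.pderiv j (f i)))} := by
  classical
  have hgci := relGCI_of_quasiFinite f
  have hsynt := Groth.Agent.S9147.result A n n f hgci
  haveI hflat : Module.Flat A (MvPolynomial (Fin n) A ⧸ Ideal.span (Set.range f)) := hsynt.1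
  have hkos := Groth.Agent.S9254.result A n n f hgci
  exact ⟨hflat, key f hkos⟩

end Groth.Agent.S2210
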