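import Groth.Statements.S2212
import Groth.Agent.Lib.helper10.DPPrimeD
import Groth.Agent.S2211

set_option autoImplicit false
universe u
open DPow

namespace Groth.Agent.S2212

-- NOTE: the template writes `Finset.antidiagonal p`; with all of Mathlib imported that name is taken by the
-- well-quasi-order antidiagonal, so the same constant is written out as `Finset.HasAntidiagonal.antidiagonal p`
-- (the elaborated type is identical to the frozen one; the kernel check confirms it).

/-- Second part: let p be a prime, A a ring in which every integer prime to p is invertible and I an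
ideal. Let d : A -> A send I into I and satisfy p! d(x) = x^p, d(a x) = a^p d(x), and d(x + y) =
d(x) + d(y) + sum over i + j = p with i, j > 0 of x^i y^j / (i! j!), for x, y in I and a in A. Then
there is exactly one divided power structure on I whose p-th divided power is d on I. -/
theorem result {A : Type u} [CommRing A] (p : ℕ) (hp : p.Prime)
    (hA : ∀ n : ℕ, ¬ p ∣ n → IsUnit (n : A)) {I : Ideal A} (d : A → A)
    (hdI : ∀ x ∈ I, d x ∈ I) (h1 : ∀ x ∈ I, (p.factorial : A) * d x = x ^ p)
    (h2 : ∀ (a x : A), x ∈ I → d (a * x) = a ^ p * d x)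
    (h3 : ∀ x ∈ I, ∀ y ∈ I, d (x + y) = d x + d y +
      ((Finset.HasAntidiagonal.antidiagonal p).filter fun k => 0 < k.1 ∧ 0 < k.2).sum
        fun k => Ring.inverse ((k.1.factorial * k.2.factorial : ℕ) : A) * x ^ k.1 * y ^ k.2) :
    ∃! γ : DividedPowers I, ∀ x ∈ I, γ.dpow p x = d x := by
  refine ⟨Groth.Agent.Lib.helper10.DPPrimeD.dividedPowers p hp hA d hdI h1 h2 h3,
    fun x hx => Groth.Agent.Lib.helper10.DPPrimeD.dividedPowers_dpow_prime p hp hA d hdI h1 h2 h3 hx,
    ?_⟩
  intro γ' hγ'
  rw [Groth.Agent.S2211.result p hp hA]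
  intro x hx
  rw [hγ' x hx, Groth.Agent.Lib.helper10.DPPrimeD.dividedPowers_dpow_prime p hp hA d hdI h1 h2 h3 hx]

end Groth.Agent.S2212
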