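import Groth.Statements.S2214
import Groth.Agent.Lib.Helper21.QCohCompact2

set_option autoImplicit false
universe u
open CategoryTheory AlgebraicGeometry
open QCohCat

namespace Groth.Agent.S2214

/-- For a qcqs scheme X and a quasi-coherent O_X-module F: Hom(F, -) on QCoh(O_X) commutes with filtered
colimits (F is categorically compact) if and only if F is an O_X-module of finite presentation. -/
theorem result (X : Scheme.{u}) [CompactSpace X]
    [QuasiSeparatedSpace X] (F : QCohCat.QCoh X) :
    IsFinitelyPresentable.{u} F ↔ SheafOfModules.IsFinitePresentation F.obj := by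
  constructor
  · intro hF
    haveI := hF
    obtain ⟨Fo, hFo⟩ := F
    haveI : Fo.IsQuasicoherent := hFo
    obtain ⟨I, _, _, D, c, hc, hD, hpt⟩ := Groth.Agent.Lib.Helper21.FPQuot.exists_filtered_colimit_fp Fo
    subst hpt
    let D' : I ⥤ QCohCat.QCoh X := (QCohCat.isQCoh X).lift D (fun i => by
      haveI := hD i
      exact Groth.Agent.Lib.Helper29.FPDict.isQuasicoherent_of_isFinitePresentation (D.obj i))
    let c' : Limits.Cocone D' :=
      { pt := ⟨c.pt, hFo⟩
        ι :=
          { app := fun i => ObjectProperty.homMk (c.ι.app i)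
            naturality := fun i j f => by
              apply ObjectProperty.hom_ext
              exact c.ι.naturality f } }
    have hc' : Limits.IsColimit c' :=
      Limits.isColimitOfReflects (QCohCat.isQCoh X).ι (show Limits.IsColimit ((QCohCat.isQCoh X).ι.mapCocone c') from hc)
    obtain ⟨i, p, hp⟩ := IsFinitelyPresentable.exists_hom_of_isColimit hc' (𝟙 _)
    haveI : SheafOfModules.IsFinitePresentation.{u} (R := X.ringCatSheaf) (D'.obj i).obj := hD i
    exact Groth.Agent.Lib.Helper21.QCohCompact.isFP_of_retract p.hom (c.ι.app i)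
      (congrArg (fun φ => φ.hom) hp)
  · intro hfp
    haveI := hfp
    rw [isFinitelyPresentable_iff_preservesFilteredColimitsOfSize]
    refine ⟨fun J _ _ => ⟨fun {D} => ⟨fun {c} hc => ⟨?_⟩⟩⟩⟩
    have hcι : Limits.IsColimit ((QCohCat.isQCoh X).ι.mapCocone c) :=
      Limits.isColimitOfPreserves (QCohCat.isQCoh X).ι hc
    refine Limits.Types.FilteredColimit.isColimitOf' _ _ ?_ ?_
    · intro f
      obtain ⟨k, g, hg⟩ := Groth.Agent.Lib.Helper21.QCohCompact.exists_hom_lift hcι
        (fun j => (D.obj j).property) F.obj f.hom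
      refine ⟨k, ObjectProperty.homMk g, ?_⟩
      change f = ObjectProperty.homMk g ≫ c.ι.app k
      exact ObjectProperty.hom_ext _ hg.symm
    · intro i x y hxy
      have h0 : (x.hom - y.hom) ≫ ((QCohCat.isQCoh X).ι.mapCocone c).ι.app i = 0 := by
        rw [Preadditive.sub_comp, sub_eq_zero]
        exact congrArg (fun φ => φ.hom) hxy
      haveI : F.obj.IsQuasicoherent := F.property
      obtain ⟨k, u, hku⟩ := Groth.Agent.Lib.Helper21.QCohCompact.exists_comp_map_eq_zero hcι F.obj i
        (x.hom - y.hom) h0
      refine ⟨k, u, ?_⟩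
      change x ≫ D.map u = y ≫ D.map u
      refine ObjectProperty.hom_ext _ ?_
      rw [Preadditive.sub_comp, sub_eq_zero] at hku
      exact hku

end Groth.Agent.S2214
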