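import Groth.Statements.S2217
import Groth.Agent.S12080
import Groth.Agent.Lib.helper10.FrobGor
import Groth.Agent.Lib.helper10.GramOmega

set_option autoImplicit false
universe u
open Disc

namespace Groth.Agent.S2217

open Groth.Agent.Lib.helper10 GramOmega TensorProduct Module

theorem key {A B : Type u} [CommRing A] [CommRing B]
    [Algebra A B] [Module.Finite A B] [Module.Free A B] {ι : Type u} [Fintype ι] [DecidableEq ι]
    (b : Basis ι A B) (p : Ideal A) [p.IsPrime] :
    LocCoh.IsGorensteinRing (p.Fiber B) ↔ ∃ φ : B →ₗ[A] A, gdet b φ ∉ p := by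
  let κ := p.ResidueField
  let b' : Basis ι κ (κ ⊗[A] B) := b.baseChange κ
  have hfin : Module.Finite κ (κ ⊗[A] B) := Module.Finite.of_basis b'
  rw [FrobGor.isGorensteinRing_iff_exists_nondeg (κ := κ) (p.Fiber B)]
  constructor
  · rintro ⟨ψ, hψ⟩
    obtain ⟨d, hd⟩ := IsLocalization.exist_integer_multiples_of_finite
      (nonZeroDivisors (A ⧸ p)) (fun i => ψ (b' i))
    have hc : algebraMap (A ⧸ p) κ d ≠ 0 := by
      rw [Ne, map_eq_zero_iff _ (IsFractionRing.injective (A ⧸ p) κ)]
      exact nonZeroDivisors.coe_ne_zero d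
    set c := algebraMap (A ⧸ p) κ d with hcdef
    have : ∀ i, ∃ a : A, algebraMap A κ a = c * ψ (b' i) := by
      intro i
      obtain ⟨a', ha'⟩ := hd i
      obtain ⟨a, rfl⟩ := Ideal.Quotient.mk_surjective a'
      refine ⟨a, ?_⟩
      rw [IsScalarTower.algebraMap_apply A (A ⧸ p) κ, Ideal.Quotient.algebraMap_eq, ha',
        Algebra.smul_def]
    choose a ha using this
    let φ : B →ₗ[A] A := b.constr A a
    refine ⟨φ, ?_⟩
    have hψ' : ∀ x : B, (c • ψ) (1 ⊗ₜ x) = algebraMap A κ (φ x) := by
      intro x
      have : ((c • ψ).restrictScalars A) ∘ₗ (TensorProduct.mk A κ B 1) =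
          (Algebra.linearMap A κ) ∘ₗ φ := by
        apply b.ext
        intro i
        simp only [LinearMap.coe_comp, LinearMap.coe_restrictScalars, Function.comp_apply,
          TensorProduct.mk_apply, LinearMap.smul_apply, smul_eq_mul, Algebra.linearMap_apply]
        rw [show φ (b i) = a i from Basis.constr_basis b A a i, ha i]
        congr 2
        exact (Basis.baseChange_apply κ b i).symm
      exact LinearMap.congr_fun this x
    have hdet := gdet_baseChange b κ φ (c • ψ) hψ'
    have hnd : gdet b' (c • ψ) ≠ 0 := by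
      rw [gdet_ne_zero_iff]
      intro z hz
      apply hψ z
      intro x
      have := hz x
      rw [LinearMap.smul_apply, smul_eq_mul] at this
      exact (mul_eq_zero.mp this).resolve_left hc
    intro hmem
    apply hnd
    rw [hdet]
    exact Ideal.algebraMap_residueField_eq_zero.mpr hmem
  · rintro ⟨φ, hφ⟩
    let ψ : κ ⊗[A] B →ₗ[κ] κ := b'.constr κ (fun i => algebraMap A κ (φ (b i)))
    have hψ' : ∀ x : B, ψ (1 ⊗ₜ x) = algebraMap A κ (φ x) := by
      intro x
      have : (ψ.restrictScalars A) ∘ₗ (TensorProduct.mk A κ B 1) =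
          (Algebra.linearMap A κ) ∘ₗ φ := by
        apply b.ext
        intro i
        simp only [LinearMap.coe_comp, LinearMap.coe_restrictScalars, Function.comp_apply,
          TensorProduct.mk_apply, Algebra.linearMap_apply]
        rw [← Basis.baseChange_apply κ b i]
        exact Basis.constr_basis b' κ _ i
      exact LinearMap.congr_fun this x
    have hdet := gdet_baseChange b κ φ ψ hψ'
    refine ⟨ψ, ?_⟩
    change ∀ z, _
    rw [← gdet_ne_zero_iff b', hdet]
    intro h0
    exact hφ (Ideal.algebraMap_residueField_eq_zero.mp h0)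


/-- Equivalence of (2) and (4) in the affine finite free case: let A be a Noetherian ring and B an
A-algebra which is finite free as an A-module (so A -> B is flat and quasi-finite). Then all fibre
rings kappa(p) tensor_A B are Gorenstein if and only if omega_{B/A} = Hom_A(B, A), with its B-module
structure through the argument, is an invertible B-module. -/
theorem result {A B : Type u} [CommRing A] [CommRing B]
    [Algebra A B] [IsNoetherianRing A] [Module.Finite A B] [Module.Free A B] :
    (∀ (p : Ideal A) [p.IsPrime], LocCoh.IsGorensteinRing (p.Fiber B)) ↔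
      Module.Invertible B (Disc.Omega A B) := by
  classical
  let ι := Module.Free.ChooseBasisIndex A B
  let b : Basis ι A B := Module.Free.chooseBasis A B
  constructor
  · intro h
    have hφ : ∀ p : PrimeSpectrum A, ∃ φ : B →ₗ[A] A, gdet b φ ∉ p.asIdeal :=
      fun p => (key b p.asIdeal).mp (h p.asIdeal)
    choose φ hφ using hφ
    apply Groth.Agent.S12080.result B (Disc.Omega A B)
      (Set.range fun p => algebraMap A B (gdet b (φ p)))
    · have h1 : Ideal.span (Set.range fun p => gdet b (φ p)) = ⊤ := by
        by_contra hne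
        obtain ⟨m, hm, hle⟩ := Ideal.exists_le_maximal _ hne
        have := hle (Ideal.subset_span ⟨⟨m, hm.isPrime⟩, rfl⟩)
        exact hφ ⟨m, hm.isPrime⟩ this
      have h2 := congrArg (Ideal.map (algebraMap A B)) h1
      rw [Ideal.map_span, Ideal.map_top, ← Set.range_comp] at h2
      exact h2
    · rintro _ ⟨p, rfl⟩
      exact nonempty_away_equiv b (φ p)
  · intro hinv p hp
    rw [key b p]
    let S := Algebra.algebraMapSubmonoid B p.primeCompl
    let Bp := Localization S
    let ωp := LocalizedModule S (Disc.Omega A B)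
    haveI : Finite (MaximalSpectrum Bp) :=
      finite_maximalSpectrum_of_finite (Localization.AtPrime p) Bp
    have hfree : Module.Free Bp ωp := inferInstance
    obtain ⟨e⟩ := Module.Invertible.free_iff_linearEquiv.mp hfree
    obtain ⟨⟨g, s⟩, hgs⟩ : ∃ gs : Disc.Omega A B × S, LocalizedModule.mk gs.1 gs.2 = e.symm 1 := by
      induction (e.symm 1) using LocalizedModule.induction_on with
      | h m s => exact ⟨⟨m, s⟩, rfl⟩
    refine ⟨g.toLinearMap, ?_⟩
    apply gdet_notMem b g.toLinearMap p
    intro i
    let w : Disc.Omega A B := ⟨b.coord i⟩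
    have hw : LocalizedModule.mk w 1 = e (LocalizedModule.mk w 1) • (e.symm 1 : ωp) := by
      rw [← map_smul, smul_eq_mul, mul_one, e.symm_apply_apply]
    obtain ⟨⟨x, t⟩, hxt⟩ : ∃ xt : B × S, Localization.mk xt.1 xt.2 = e (LocalizedModule.mk w 1) := by
      induction (e (LocalizedModule.mk w 1)) using Localization.induction_on with
      | H xs => exact ⟨xs, rfl⟩
    rw [← hxt, ← hgs, LocalizedModule.mk_smul_mk, LocalizedModule.mk_eq] at hw
    obtain ⟨v, hv⟩ := hw
    -- all of v, t, s come from A ∖ p
    have hmem : ∀ z : S, ∃ a : A, a ∉ p ∧ algebraMap A B a = z := by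
      intro z
      obtain ⟨a, ha, hz⟩ := z.2
      exact ⟨a, ha, hz⟩
    obtain ⟨av, hav, hav'⟩ := hmem (v * (t * s))
    refine ⟨av, hav, (v : B) * x, fun y => ?_⟩
    have h3 : (algebraMap A B av) • w = ((v : B) * x) • g := by
      rw [hav', mul_smul]
      simpa [Submonoid.smul_def, mul_smul] using hv
    have h4 := congrArg (fun z : Disc.Omega A B => z.toLinearMap y) h3
    simp only [Disc.Omega.smul_toLinearMap_apply] at h4
    rw [← h4, ← Algebra.smul_def, map_smul, smul_eq_mul]

end Groth.Agent.S2217
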