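import Groth.Statements.S2220
import Groth.Agent.Lib.Helper7.NoetherOpenImm
import Mathlib.AlgebraicGeometry.Morphisms.Flat

set_option autoImplicit false
universe u
open AlgebraicGeometry
open Disc

namespace Groth.Agent.S2220

/-- Part (2): for ring maps A -> B' -> B with B' of finite type over A and Spec B -> Spec B' an open
immersion, the Noether different of B over A is the ideal generated by the image of that of B'. -/
theorem result {A B' B : Type u} [CommRing A] [CommRing B']
    [CommRing B] [Algebra A B'] [Algebra A B] [Algebra B' B] [IsScalarTower A B' B]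
    [Algebra.FiniteType A B']
    (h : IsOpenImmersion (Spec.map (CommRingCat.ofHom (algebraMap B' B)))) :
    Disc.noetherDifferent A B = (Disc.noetherDifferent A B').map (algebraMap B' B) := by
  have hflat : Module.Flat B' B := by
    have h1 : Flat (Spec.map (CommRingCat.ofHom (algebraMap B' B))) := inferInstance
    rw [Flat.SpecMap_iff] at h1
    exact RingHom.flat_algebraMap_iff.1 h1
  have hmono : CategoryTheory.Mono (Spec.map (CommRingCat.ofHom (algebraMap B' B))) := inferInstance
  have hepi : ∀ (Q : Type u) [CommRing Q] (g h : B →+* Q),
      g.comp (algebraMap B' B) = h.comp (algebraMap B' B) → g = h := by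
    intro Q _ g h' hgh
    have e : CategoryTheory.CategoryStruct.comp (Spec.map (CommRingCat.ofHom g))
          (Spec.map (CommRingCat.ofHom (algebraMap B' B))) =
        CategoryTheory.CategoryStruct.comp (Spec.map (CommRingCat.ofHom h'))
          (Spec.map (CommRingCat.ofHom (algebraMap B' B))) := by
      rw [← Spec.map_comp, ← Spec.map_comp, ← CommRingCat.ofHom_comp, ← CommRingCat.ofHom_comp, hgh]
    have e2 := (CategoryTheory.cancel_mono _).1 e
    have e3 := Spec.map_injective e2
    exact congrArg CommRingCat.Hom.hom e3
  exact Groth.Agent.Lib.Helper7.NoetherOI.noetherDifferent_eq hflat hepi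

end Groth.Agent.S2220
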