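import Groth.Statements.S2225
import Groth.Agent.Lib.Helper5.ClosedFibre
import Groth.Agent.Lib.Helper5.ClosedFibreDVR

set_option autoImplicit false
universe u
open CategoryTheory AlgebraicGeometry
open Models

namespace Groth.Agent.S2225

/-- Part (1), for the closed fibre: let R be a discrete valuation ring with fraction field K, C a smooth
proper curve over K and X a regular model of C over R (flat, of finite type, all local rings
regular). Then every local ring of the special fibre X_k is a Gorenstein local ring; together with
flatness and regularity of the generic fibre this says X -> Spec R is a Gorenstein morphism. -/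
theorem result (R : Type u) [CommRing R] [IsDomain R]
    [IsDiscreteValuationRing R] (C X : Scheme.{u})
    (f : C ⟶ Spec (CommRingCat.of (FractionRing R))) (p : X ⟶ Spec (CommRingCat.of R))
    (hC : Curve.IsSmoothProperCurve (FractionRing R) C f) (hX : Models.IsModel R X p C f)
    (hreg : Models.IsRegularScheme X) (x : ↥(Models.specialFibre R X p)) :
    LocCoh.IsGorensteinLocalRing ((Models.specialFibre R X p).presheaf.stalk x) := by
  have hflat : Flat p := hX.1
  let i : Models.specialFibre R X p ⟶ X := Limits.pullback.fst p
    (Spec.map (CommRingCat.ofHom (IsLocalRing.residue R)))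
  let q : Models.specialFibre R X p ⟶ Spec (CommRingCat.of (IsLocalRing.ResidueField R)) :=
    Limits.pullback.snd p (Spec.map (CommRingCat.ofHom (IsLocalRing.residue R)))
  have hsq : IsPullback i q p (Spec.map (CommRingCat.ofHom (IsLocalRing.residue R))) :=
    IsPullback.of_hasPullback _ _
  obtain ⟨e1⟩ := Groth.Agent.Lib.Helper5.ClosedFibre.nonempty_stalk_equiv p i q hsq x
  have hy : p (i x) = IsLocalRing.closedPoint R := by
    have h1 : p (i x) = (Spec.map (CommRingCat.ofHom (IsLocalRing.residue R))) (q x) := by
      have := congrArg (fun g => g x) hsq.w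
      simpa using this
    rw [h1]
    exact IsLocalRing.PrimeSpectrum.comap_residue R _
  set y := p (i x) with hydef
  have hB : IsRegularLocalRing (X.presheaf.stalk (i x)) := hreg (i x)
  have hP : y.asIdeal ≠ ⊥ := by
    rw [hy]
    change IsLocalRing.maximalIdeal R ≠ ⊥
    exact IsDiscreteValuationRing.not_a_field R
  have hL : IsDiscreteValuationRing (Localization.AtPrime y.asIdeal) :=
    IsLocalization.AtPrime.isDiscreteValuationRing_of_dedekind_domain R hP _
  let e : (Spec (CommRingCat.of R)).presheaf.stalk y ≃+* Localization.AtPrime y.asIdeal :=
    (AlgebraicGeometry.Spec.stalkIso (CommRingCat.of R) y).commRingCatIsoToRingEquiv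
  have hdom : IsDomain ((Spec (CommRingCat.of R)).presheaf.stalk y) :=
    Function.Injective.isDomain e.toRingHom e.injective
  have hdvr : IsDiscreteValuationRing ((Spec (CommRingCat.of R)).presheaf.stalk y) :=
    IsDiscreteValuationRing.RingEquivClass.isDiscreteValuationRing e.symm
  have hG := Groth.Agent.Lib.Helper5.ClosedFibreDVR.gorenstein_quot_of_dvr
    (p.stalkMap (i x)).hom (Flat.stalkMap p (i x))
  exact Groth.Agent.Lib.Helper5.GorIso.isGorensteinLocalRing_of_ringEquiv e1.symm


end Groth.Agent.S2225
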