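import Groth.Statements.S2229
import Groth.Agent.S2216
import Mathlib

set_option autoImplicit false
universe u
open Disc

namespace Groth.Agent.S2229

section Aux
open Disc TensorProduct

variable {A B : Type u} [CommRing A] [CommRing B] [Algebra A B] {ι : Type} [Fintype ι]
  [DecidableEq ι] (b : Module.Basis ι A B)

/-- Gram matrix of the form `(y, z) ↦ φ (y z)` -/
noncomputable def G (φ : Omega A B) : Matrix ι ι A := fun i j => φ.toLinearMap (b i * b j)

theorem G_smul (x : B) (φ : Omega A B) :
    G b (x • φ) = (Algebra.leftMulMatrix b x).transpose * G b φ := by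
  ext i j
  simp only [G, Omega.smul_toLinearMap_apply, Matrix.mul_apply, Matrix.transpose_apply]
  have : x * b i = ∑ k, Algebra.leftMulMatrix b x k i • b k := by
    conv_lhs => rw [← b.sum_repr (x * b i)]
    simp [Algebra.leftMulMatrix_eq_repr_mul]
  rw [← mul_assoc, this, Finset.sum_mul, map_sum]
  simp [smul_mul_assoc]

theorem det_G_smul (x : B) (φ : Omega A B) :
    (G b (x • φ)).det = Algebra.norm A x * (G b φ).det := by
  rw [G_smul, Matrix.det_mul, Matrix.det_transpose, Algebra.norm_eq_matrix_det b]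

theorem det_G_trace : (G b (⟨Algebra.trace A B⟩ : Omega A B)).det = Algebra.discr A b := by
  rw [Algebra.discr_def]
  congr 1

theorem rank_one_id {R M : Type u} [CommRing R] [AddCommGroup M] [Module R M]
    [Module.Invertible R M] (ℓ : M →ₗ[R] R) (w w' : M) : ℓ w • w' = ℓ w' • w := by
  have h := congrArg (TensorProduct.lift ((LinearMap.lsmul R M) ∘ₗ ℓ))
    (Module.Invertible.tmul_comm (R := R) (m₁ := w) (m₂ := w'))
  simpa using h

theorem exists_local [Module.Finite A B] [Module.Invertible B (Omega A B)]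
    (m : Ideal A) [m.IsMaximal] :
    ∃ (ℓ₀ : Omega A B →ₗ[B] B) (w₀ : Omega A B), ℓ₀ w₀ - 1 ∈ m.map (algebraMap A B) := by
  let I := m.map (algebraMap A B)
  let : Field (A ⧸ m) := Ideal.Quotient.field m
  have hf1 : Module.Finite A (B ⧸ m.map (algebraMap A B)) :=
    Module.Finite.of_surjective (Ideal.Quotient.mkₐ A (m.map (algebraMap A B))).toLinearMap
      (Ideal.Quotient.mkₐ_surjective A _)
  have hf2 : Module.Finite (A ⧸ m) (B ⧸ m.map (algebraMap A B)) :=
    Module.Finite.of_restrictScalars_finite A (A ⧸ m) (B ⧸ m.map (algebraMap A B))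
  have := IsArtinianRing.of_finite (A ⧸ m) (B ⧸ m.map (algebraMap A B))
  have hfree : Module.Free (B ⧸ I) ((B ⧸ I) ⊗[B] Omega A B) := inferInstance
  obtain ⟨e⟩ := Module.Invertible.free_iff_linearEquiv.mp hfree
  let q : Omega A B →ₗ[B] (B ⧸ I) :=
    (e.restrictScalars B).toLinearMap ∘ₗ (TensorProduct.mk B (B ⧸ I) (Omega A B) 1)
  have hq : Function.Surjective q :=
    e.surjective.comp (TensorProduct.mk_surjective B (Omega A B) (B ⧸ I) Ideal.Quotient.mk_surjective)
  obtain ⟨w₀, hw₀⟩ := hq 1
  obtain ⟨ℓ₀, hℓ₀⟩ := Module.projective_lifting_property (Algebra.linearMap B (B ⧸ I)) q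
    Ideal.Quotient.mk_surjective
  refine ⟨ℓ₀, w₀, ?_⟩
  rw [← Ideal.Quotient.eq_zero_iff_mem, map_sub, map_one, sub_eq_zero]
  have := congrArg (fun f => f w₀) hℓ₀
  simp only [LinearMap.comp_apply] at this
  exact this.trans hw₀

theorem repr_mem (m : Ideal A) (z : B) (hz : z ∈ m.map (algebraMap A B)) (i : ι) :
    b.repr z i ∈ m := by
  have hz' : z ∈ (m • ⊤ : Submodule A B) := by
    rw [Ideal.smul_top_eq_map]
    exact hz
  refine Submodule.smul_induction_on (p := fun z => b.repr z i ∈ m) hz' ?_ ?_
  · intro r hr n _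
    rw [map_smul, Finsupp.smul_apply, smul_eq_mul]
    exact m.mul_mem_right _ hr
  · intro x y hx hy
    rw [map_add, Finsupp.add_apply]
    exact m.add_mem hx hy

include b in
theorem norm_sub_one_mem (m : Ideal A) (v : B) (hv : v - 1 ∈ m.map (algebraMap A B)) :
    Algebra.norm A v - 1 ∈ m := by
  rw [← Ideal.Quotient.eq_zero_iff_mem, map_sub, map_one, sub_eq_zero,
    Algebra.norm_eq_matrix_det b, RingHom.map_det]
  have : (Ideal.Quotient.mk m).mapMatrix (Algebra.leftMulMatrix b v) = 1 := by
    ext i j
    rw [RingHom.mapMatrix_apply, Matrix.map_apply, Algebra.leftMulMatrix_eq_repr_mul]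
    have h1 : v * b j = b j + (v - 1) * b j := by ring
    rw [h1, map_add, Finsupp.add_apply, map_add]
    have h2 : b.repr ((v - 1) * b j) i ∈ m :=
      repr_mem b m _ (Ideal.mul_mem_right _ _ hv) i
    rw [Ideal.Quotient.eq_zero_iff_mem.mpr h2, add_zero, Module.Basis.repr_self,
      Matrix.one_apply]
    by_cases hij : i = j
    · subst hij; simp
    · rw [if_neg hij, Finsupp.single_eq_of_ne' (Ne.symm hij)] ; simp
  rw [this, Matrix.det_one]

theorem main {A B : Type u} [CommRing A] [CommRing B]
    [Algebra A B] [IsNoetherianRing A] {ι : Type} [Fintype ι] [DecidableEq ι]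
    (b : Module.Basis ι A B) [Module.Invertible B (Disc.Omega A B)] :
    Ideal.span (Algebra.norm A '' Disc.differentSet A B) = Ideal.span {Algebra.discr A b} := by
  apply le_antisymm
  · rw [Ideal.span_le]
    rintro _ ⟨x, hx, rfl⟩
    exact Groth.Agent.S2216.result b x hx
  · rw [Ideal.span_le, Set.singleton_subset_iff]
    set I := Ideal.span (Algebra.norm A '' differentSet A B) with hI
    let J : Ideal A := Submodule.comap (LinearMap.mulRight A (Algebra.discr A b)) I
    suffices J = ⊤ by
      have h1 : (1 : A) ∈ J := by rw [this]; trivial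
      have h2 : (1 : A) * Algebra.discr A b ∈ I := h1
      rwa [one_mul] at h2
    by_contra hJ
    obtain ⟨m, hm, hJm⟩ := Ideal.exists_le_maximal J hJ
    have : Module.Finite A B := Module.Finite.of_basis b
    obtain ⟨ℓ₀, w₀, hv⟩ := exists_local (A := A) (B := B) m
    have hN := norm_sub_one_mem b m _ hv
    set τ : Omega A B := ⟨Algebra.trace A B⟩ with hτ
    have hx : ℓ₀ τ ∈ differentSet A B := by
      intro φ
      refine ⟨ℓ₀ ⟨φ⟩, fun y => ?_⟩
      have h1 := rank_one_id ℓ₀ τ ⟨φ⟩
      have h2 := congrArg (fun ψ => ψ.toLinearMap y) h1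
      simpa using h2
    have hvx : ℓ₀ w₀ • τ = ℓ₀ τ • w₀ := rank_one_id ℓ₀ w₀ τ
    have hdet : Algebra.norm A (ℓ₀ w₀) * Algebra.discr A b =
        Algebra.norm A (ℓ₀ τ) * (G b w₀).det := by
      rw [← det_G_trace, ← det_G_smul, ← det_G_smul, hvx]
    have hvJ : Algebra.norm A (ℓ₀ w₀) ∈ J := by
      show Algebra.norm A (ℓ₀ w₀) * Algebra.discr A b ∈ I
      rw [hdet]
      exact I.mul_mem_right _ (Ideal.subset_span ⟨ℓ₀ τ, hx, rfl⟩)
    have h1 : (1 : A) ∈ m := by
      have h2 := m.sub_mem (hJm hvJ) hN
      simpa using h2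
    exact hm.ne_top ((Ideal.eq_top_iff_one m).mpr h1)

end Aux

/-- Part (2), special case: affine with B finite free over the Noetherian ring A (basis b) and omega =
Hom_A(B, A) an invertible B-module. Then the ideal of A generated by the norms of all elements of
the different of B over A equals the ideal generated by the discriminant of the basis b (the norm of
the ramification locus is the discriminant). -/
theorem result {A B : Type u} [CommRing A] [CommRing B]
    [Algebra A B] [IsNoetherianRing A] {ι : Type} [Fintype ι] [DecidableEq ι]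
    (b : Module.Basis ι A B) [Module.Invertible B (Disc.Omega A B)] :
    Ideal.span (Algebra.norm A '' Disc.differentSet A B) = Ideal.span {Algebra.discr A b} := by
  exact main b

end Groth.Agent.S2229
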