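import Groth.Statements.S7072
import Groth.Agent.Lib.Helper5.NLHtpy
import Groth.Agent.Lib.Helper5.CotLoc

set_option autoImplicit false
universe u
attribute [local instance] HasDerivedCategory.standard
open LCI

namespace Groth.Agent.S7072

open CategoryTheory CategoryTheory.Limits HomologicalComplex
open Groth.Agent.Lib.Helper5.NLHtpy Groth.Agent.Lib.Helper5.CotLoc

theorem termwise {A B : Type u} [CommRing A] [CommRing B] [Algebra A B] (n : ℕ)
    (G : Algebra.Generators A B (Fin n))
    (hK : LCI.IsKoszulRegularIdeal G.toExtension.ker) (i : ℤ) :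
    Module.Finite B ((NLCx.cx G.toExtension).X i) ∧
      Module.Projective B ((NLCx.cx G.toExtension).X i) := by
  obtain ⟨hfin, hproj⟩ := extension_cotangent_finite_projective G.toExtension hK
  by_cases h0 : i = -1
  · subst h0
    let e := (x0Iso G.toExtension).toLinearEquiv
    exact ⟨Module.Finite.equiv e.symm, Module.Projective.of_equiv' e.symm⟩
  · by_cases h1 : i = 0
    · subst h1
      let e := (x1Iso G.toExtension).toLinearEquiv
      have hfree : Module.Free B G.toExtension.CotangentSpace :=
        Module.Free.of_basis G.cotangentSpaceBasis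
      have hfin' : Module.Finite B G.toExtension.CotangentSpace :=
        Module.Finite.of_basis G.cotangentSpaceBasis
      exact ⟨Module.Finite.equiv e.symm, Module.Projective.of_equiv' e.symm⟩
    · have hz : IsZero ((NLCx.cx G.toExtension).X i) := isZero_double_X _ _ i h0 h1
      have hs : Subsingleton ((NLCx.cx G.toExtension).X i) :=
        ModuleCat.subsingleton_of_isZero hz
      exact ⟨inferInstance, inferInstance⟩

/-- For a local complete intersection homomorphism of commutative rings A → B, the naive cotangent
complex NL_{B/A} is a perfect object of D(B) and has tor amplitude in [-1, 0]. -/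
theorem result {A B : Type u} [CommRing A] [CommRing B] [Algebra A B]
    (h : LCI.IsLCI A B) :
    DRing.IsPerfect B (LCI.NL A B) ∧ DRing.HasTorAmplitudeIn B (-1) 0 (LCI.NL A B) := by
  obtain ⟨_, n, f, hsurj, hK⟩ := h
  let G : Algebra.Generators A B (Fin n) := Algebra.Generators.ofAlgHom f hsurj
  have hker : G.toExtension.ker = RingHom.ker f.toRingHom := by
    ext x
    change algebraMap G.Ring B x = 0 ↔ f x = 0
    rw [Algebra.Generators.algebraMap_apply]
    have : MvPolynomial.aeval G.val = f := by
      ext j
      simp [G, Algebra.Generators.ofAlgHom]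
    rw [this]
  have hK' : LCI.IsKoszulRegularIdeal G.toExtension.ker := by rw [hker]; exact hK
  have hvan : DRing.VanishesOutside (NLCx.cx G.toExtension) (-1) 0 := by
    intro i hi
    exact isZero_double_X _ _ i (by omega) (by omega)
  have hiso := nonempty_toD_iso_NL A B G
  refine ⟨⟨NLCx.cx G.toExtension, -1, 0, hvan, fun i => termwise n G hK' i, hiso⟩,
    ⟨NLCx.cx G.toExtension, hvan, fun i => ?_, hiso⟩⟩
  have := (termwise n G hK' i).2
  infer_instance

end Groth.Agent.S7072
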