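import Groth.Statements.S9826
import Groth.Agent.Lib.Helper29.TildeBridge
import Groth.Agent.Lib.Helper28.FinTypeConv

set_option autoImplicit false
universe u
open CategoryTheory CategoryTheory.Limits AlgebraicGeometry TopologicalSpace Opposite
open Props

namespace Groth.Agent.S9826

open Groth.Agent.Lib.Helper28.QCohLoc Groth.Agent.Lib.Helper29.QCohStalk Groth.Agent.Lib.Helper29.TildeBridge

theorem finite_iff_of_semilinear_bij {R S M N : Type*} [CommRing R] [CommRing S] [AddCommGroup M]
    [AddCommGroup N] [Module R M] [Module S N] (f : R ≃+* S) (g : M → N)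
    (hadd : ∀ x y, g (x + y) = g x + g y) (hsmul : ∀ r x, g (r • x) = f r • g x)
    (hg : Function.Bijective g) : Module.Finite R M ↔ Module.Finite S N := by
  letI : Algebra R S := (f : R →+* S).toAlgebra
  letI : Module R N := Module.compHom N (f : R →+* S)
  haveI : IsScalarTower R S N := IsScalarTower.of_algebraMap_smul fun r x => rfl
  let gl : M ≃ₗ[R] N := LinearEquiv.ofBijective
    { toFun := g, map_add' := hadd, map_smul' := fun r x => hsmul r x } hg
  have hRS : Module.Finite R S := Module.Finite.of_surjective (Algebra.linearMap R S) f.surjective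
  constructor
  · intro h
    haveI : Module.Finite R N := Module.Finite.equiv gl
    exact Module.Finite.of_restrictScalars_finite R S N
  · intro h
    haveI : Module.Finite R N := Module.Finite.trans S N
    exact Module.Finite.equiv gl.symm

/-- The sheaf associated to a module over a ring is of finite type on the spectrum if and only if the
module is finitely generated. -/
theorem result (R : CommRingCat.{u}) (M : ModuleCat.{u} R) :
    CohB1.IsFT (tilde M) ↔ Module.Finite R M := by
  rw [finite_iff_of_semilinear_bij (ι : R ≃+* Γ(Spec R, ⊤)) (e M) (e_add M) (e_smul M) (e_bijective M)]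
  constructor
  · intro h
    haveI : SheafOfModules.IsFiniteType.{u} (R := (Spec R).ringCatSheaf) (tilde M) := h
    exact Groth.Agent.Lib.Helper28.FinType.finite_of_isAffineOpen (tilde M) (isAffineOpen_top (Spec R))
  · intro h
    refine Groth.Agent.Lib.Helper28.FinType.isFiniteType_of_finite_cover (tilde M) (fun _ : PUnit.{u+1} => (⊤ : (Spec R).Opens)) ?_
      (fun _ => isAffineOpen_top (Spec R)) (fun _ => h)
    exact iSup_const



end Groth.Agent.S9826
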