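import Groth.Statements.S2326
import Groth.Agent.Lib.Helper17.GGStalk2
import Groth.Agent.Lib.Helper17.IdealOfSub
import Groth.Agent.Lib.Helper17.FTLimit
import Groth.Agent.Lib.Helper28.AmpleH1B
import Mathlib
set_option backward.isDefEq.respectTransparency.types false

set_option autoImplicit false
universe u
open CategoryTheory CategoryTheory.Limits AlgebraicGeometry
open EGA2

namespace Groth.Agent.S2326
open Groth.Agent.Lib.Helper28 Groth.Agent.Lib.Helper28.QCohLoc Groth.Agent.Lib.Helper28.GenLocus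
  Groth.Agent.Lib.Helper28.TensorGen Groth.Agent.Lib.Helper28.InvTensor Groth.Agent.Lib.Helper28.IdealDual
  Groth.Agent.Lib.Helper28.AmpleH1
  Groth.Agent.Lib.Helper17 Groth.Agent.Lib.Helper17.GGStalk Groth.Agent.Lib.Helper17.IdealOfSub
  Groth.Agent.Lib.Helper17.QCAlgGen TopologicalSpace Opposite

/-- if `I ⊗ N` is generated by finitely many global sections, for an ideal `I` which is the unit ideal on an affine
neighbourhood `U` of `x` and whose support contains the complement of `U`, then some section `s` of the invertible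
module `N` has `x ∈ X_s` affine -/
theorem key (X : Scheme.{u}) (N : X.Modules) (hN : PicF.IsInvertible N) (I : X.IdealSheafData)
    (U : X.Opens) (hU : IsAffineOpen U) (x : X) (hxU : x ∈ U) (h1mem : (1 : Γ(X, U)) ∈ I.ideal ⟨U, hU⟩)
    (hZI : ∀ z : X, z ∉ U → z ∈ I.support) (k : ℕ)
    (p : FlatMod.freeMod X k ⟶ CohB1.tensorMod (ClSub.idealMod I) N) (hp : Epi p) :
    ∃ s : Coh.structureModule X ⟶ N, x ∈ CohB1.genLocus N s ∧ IsAffineOpen (CohB1.genLocus N s) := by
  obtain ⟨μ, hμ⟩ : ∃ μ : CohB1.tensorMod (ClSub.idealMod I) N ⟶ N, μ = mulMap (ClSub.idealModι I) N := ⟨_, rfl⟩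
  have hμapp : ∀ (W : X.Opens) (y : Γ(ClSub.idealMod I, W)) (l : Γ(N, W)),
      μ.app W (tmulSec (ClSub.idealMod I) N y l) = (iota I y • l : Γ(N, W)) := by
    intro W y l; rw [hμ]; exact mulMap_app_tmulSec (ClSub.idealModι I) N y l
  let c : Cofan (fun _ : Fin k => Coh.structureModule X) := Cofan.mk (∐ fun _ : Fin k => Coh.structureModule X)
    (Sigma.ι fun _ : Fin k => Coh.structureModule X)
  have hc : IsColimit c := coproductIsCoproduct _
  let σ : Fin k → (Coh.structureModule X ⟶ CohB1.tensorMod (ClSub.idealMod I) N) := fun i => c.inj i ≫ p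
  let s : Fin k → (Coh.structureModule X ⟶ N) := fun i => σ i ≫ μ
  have hspanM := span_germs_eq_top_of_isColimit c hc p hp x
  -- a section of the ideal with value `1` near `x`
  obtain ⟨y₁, hy₁⟩ := exists_iota_eq_of_mem I ⟨U, hU⟩ 1 h1mem
  have hspanN : Submodule.span (X.presheaf.stalk x)
      (Set.range fun i : Fin k => germAt N x ⊤ trivial (secOf (s i))) = ⊤ := by
    rw [eq_top_iff]
    intro b _
    obtain ⟨V, hxV, l, rfl⟩ := exists_germAt N x b
    let m : Γ(CohB1.tensorMod (ClSub.idealMod I) N, V ⊓ U) :=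
      tmulSec (ClSub.idealMod I) N (res _ inf_le_right y₁) (res N inf_le_left l)
    have hm : μ.app (V ⊓ U) m = res N inf_le_left l := by
      show μ.app (V ⊓ U) (tmulSec (ClSub.idealMod I) N (res _ inf_le_right y₁) (res N inf_le_left l)) = _
      rw [hμapp, iota_res, hy₁]
      have : resO (inf_le_right : V ⊓ U ≤ U) (1 : Γ(X, U)) = 1 := map_one _
      rw [this, one_smul]
    have hmem : germAt _ x (V ⊓ U) ⟨hxV, hxU⟩ m ∈ Submodule.span (X.presheaf.stalk x)
        (Set.range fun i : Fin k => germAt _ x ⊤ trivial (secOf (c.inj i ≫ p))) := by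
      rw [hspanM]; trivial
    have h2 := Submodule.apply_mem_span_image_of_mem_span ((Groth.Agent.Lib.Helper16.Stk.stk x).map μ).hom hmem
    rw [stk_map_germAt, hm, germAt_res] at h2
    refine Submodule.span_mono ?_ h2
    rintro _ ⟨_, ⟨i, rfl⟩, rfl⟩
    refine ⟨i, ?_⟩
    rw [stk_map_germAt]
    rfl
  obtain ⟨i, hi⟩ := exists_mem_genLocus_of_span_germs N hN s x hspanN
  have hle : CohB1.genLocus N (s i) ≤ U := by
    intro z hz
    by_contra hzU
    have hzI : z ∈ I.support := hZI z hzU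
    obtain ⟨V', γ', hzV', hγ'⟩ := exists_isGen N hN z
    obtain ⟨y, hy⟩ := (tmulSec_right_bijective (ClSub.idealMod I) N hγ').2
      (res _ (le_top : V' ≤ ⊤) (secOf (σ i)))
    have hy' : tmulSec (ClSub.idealMod I) N y γ' = res _ (le_top : V' ≤ ⊤) (secOf (σ i)) := hy
    have hr : res N (le_top : V' ≤ ⊤) (secOf (s i)) = (iota I y • γ' : Γ(N, V')) := by
      have h3 : secOf (s i) = μ.app ⊤ (secOf (σ i)) := rfl
      rw [h3, ← app_res, ← hy', hμapp]
    have h4 := genLocus_inf_eq (s i) V' γ' hγ' (iota I y) hr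
    have h5 : z ∈ CohB1.genLocus N (s i) ⊓ V' := ⟨hz, hzV'⟩
    rw [h4] at h5
    exact not_mem_basicOpen_iota I y z hzI h5
  refine ⟨s i, hi, ?_⟩
  have h6 := isAffineOpen_genLocus_inf hN (s i) hU
  rwa [inf_eq_left.2 hle] at h6


/-- Let X be a quasi-compact separated scheme (the source also allows a prescheme with Noetherian
underlying space) and L an invertible module. Suppose that for every quasi-coherent ideal sheaf I of
finite type there are n > 0 and k > 0 with I ⊗ L^{⊗n} a quotient of O_X^k. Then L is ample. -/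
theorem result (X : Scheme.{u}) [CompactSpace X] [X.IsSeparated] (L : X.Modules) (hL : PicF.IsInvertible L)
    (h : ∀ I : X.IdealSheafData, BlowUp.IsFiniteTypeIdeal I →
      ∃ (n k : ℕ) (p : FlatMod.freeMod X k ⟶ CohB1.tensorMod (ClSub.idealMod I) (CohB1.tensorPow L (n + 1))), 0 < k ∧ Epi p) :
    CohB1.IsAmple L := by
  refine ⟨hL, inferInstance, fun x => ?_⟩
  obtain ⟨_, ⟨U, (hU : IsAffineOpen U), rfl⟩, hxU, -⟩ :=
    X.isBasis_affineOpens.exists_subset_of_mem_open (Set.mem_univ x) isOpen_univ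
  let Z : Closeds X := ⟨(U : Set X)ᶜ, U.isOpen.isClosed_compl⟩
  obtain ⟨IZ, hIZ⟩ : ∃ IZ : X.IdealSheafData, IZ = Scheme.IdealSheafData.vanishingIdeal Z := ⟨_, rfl⟩
  have hsupp : (IZ.support : Set X) = (U : Set X)ᶜ := by
    rw [hIZ]; exact Scheme.IdealSheafData.coe_support_vanishingIdeal _
  obtain ⟨t, ht⟩ := exists_iota_eq IZ (1 : Γ(X, U)) (subschemeι_app_eq_zero_of_disjoint IZ U
    (fun y hy hys => by
      have : y ∈ (IZ.support : Set X) := hys
      rw [hsupp] at this
      exact this hy) 1)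
  haveI : (ClSub.idealMod IZ).IsQuasicoherent := inferInstance
  obtain ⟨G, j, hj, hGq, hGft, hg⟩ := exists_sub_through (ClSub.idealMod IZ) hU PUnit.{u+1} (fun _ => t)
  obtain ⟨g, hg⟩ := hg PUnit.unit
  haveI := hGq
  haveI := hGft
  obtain ⟨j', hj'⟩ : ∃ j' : G ⟶ Coh.structureModule X, j' = j ≫ ClSub.idealModι IZ := ⟨_, rfl⟩
  have hval : ∀ (V : X.Opens) (g' : Γ(G, V)), val G j' g' = iota IZ (j.app V g') := by
    intro V g'; rw [hj']; rfl
  obtain ⟨I, hIdef⟩ : ∃ I : X.IdealSheafData, I = idealOfSub G j' := ⟨_, rfl⟩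
  have hIft : BlowUp.IsFiniteTypeIdeal I := by rw [hIdef]; exact isFiniteTypeIdeal_idealOfSub G j'
  have h1mem : (1 : Γ(X, U)) ∈ I.ideal ⟨U, hU⟩ := by
    rw [hIdef]
    exact ⟨g, by rw [hval, hg]; exact ht⟩
  have hZI : Z ≤ I.support := by
    rw [hIdef]
    refine le_support_of_le G j' Z (fun V g' => ?_)
    rw [hval, ← hIZ]
    exact iota_mem_ideal IZ V _
  obtain ⟨n, k, p, hk, hp⟩ := h I hIft
  obtain ⟨s, hs1, hs2⟩ := key X _ (isInvertible_tensorPow hL (n + 1)) I U hU x hxU h1mem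
    (fun z hz => hZI (show z ∈ (U : Set X)ᶜ from hz)) k p hp
  exact ⟨n, s, hs1, hs2⟩

end Groth.Agent.S2326
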