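import Groth.Statements.S2334
import Groth.Agent.S4450

set_option autoImplicit false
universe u
open CategoryTheory CategoryTheory.Limits AlgebraicGeometry
open EGA2

namespace Groth.Agent.S2334

section
open IsLocalRing

/-- the generic-point map of a valuation subring factors through `Spec` of the ambient field -/
theorem specMap_algebraMap_fractionRing {K : Type u} [Field K] (A : ValuationSubring K) :
    Spec.map (CommRingCat.ofHom (algebraMap A (FractionRing A))) =
      Spec.map (CommRingCat.ofHom
        ((FractionRing.algEquiv A K).symm : K →+* FractionRing A)) ≫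
        Spec.map (CommRingCat.ofHom A.subtype) := by
  rw [← Spec.map_comp]
  congr 1
  ext a
  exact ((FractionRing.algEquiv A K).symm.commutes a).symm

theorem specializingMap_diagonal {X Y : Scheme.{u}} [IsLocallyNoetherian Y] (f : X ⟶ Y)
    [LocallyOfFiniteType f]
    (H : ∀ (A : Type u) [CommRing A] [IsDomain A] [IsDiscreteValuationRing A]
      (g₁ g₂ : (Spec (CommRingCat.of A)) ⟶ X), g₁ ≫ f = g₂ ≫ f →
      (Spec.map (CommRingCat.ofHom (algebraMap A (FractionRing A)))) ≫ g₁ =
        (Spec.map (CommRingCat.ofHom (algebraMap A (FractionRing A)))) ≫ g₂ → g₁ = g₂) :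
    SpecializingMap (pullback.diagonal f).base := by
  have hX : IsLocallyNoetherian X := LocallyOfFiniteType.isLocallyNoetherian f
  have hΔlft : LocallyOfFiniteType (pullback.diagonal f) := by
    have : LocallyOfFiniteType (pullback.diagonal f ≫ pullback.fst f f) := by
      rw [pullback.diagonal_fst]; infer_instance
    exact locallyOfFiniteType_of_comp (pullback.diagonal f) (pullback.fst f f)
  intro x z' hsp
  by_cases hne : z' = (pullback.diagonal f).base x
  · exact ⟨x, specializes_rfl, hne.symm⟩
  obtain ⟨A, h, hA, hcl, hcomp⟩ := Groth.Agent.S4450.result (pullback.diagonal f) x z' hsp hne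
  have e1 : Spec.map (CommRingCat.ofHom A.subtype) ≫ h ≫ pullback.fst f f =
      X.fromSpecResidueField x := by
    rw [← Category.assoc, hcomp, Category.assoc, pullback.diagonal_fst, Category.comp_id]
  have e2 : Spec.map (CommRingCat.ofHom A.subtype) ≫ h ≫ pullback.snd f f =
      X.fromSpecResidueField x := by
    rw [← Category.assoc, hcomp, Category.assoc, pullback.diagonal_snd, Category.comp_id]
  have h12 : h ≫ pullback.fst f f = h ≫ pullback.snd f f := by
    apply H A
    · rw [Category.assoc, Category.assoc, pullback.condition]
    · rw [specMap_algebraMap_fractionRing, Category.assoc, Category.assoc, e1, e2]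
  have hfac : h = (h ≫ pullback.fst f f) ≫ pullback.diagonal f := by
    apply pullback.hom_ext
    · simp
    · simp [h12]
  refine ⟨(h ≫ pullback.fst f f).base (closedPoint A), ?_, ?_⟩
  · have hx : x = (h ≫ pullback.fst f f).base
        ((Spec.map (CommRingCat.ofHom A.subtype)).base (closedPoint (X.residueField x))) := by
      rw [← Scheme.Hom.comp_apply, e1, Scheme.fromSpecResidueField_apply]
    change x ⤳ _
    conv_lhs => rw [hx]
    exact (specializes_closedPoint (R := A) _).map (h ≫ pullback.fst f f).continuous
  · rw [← Scheme.Hom.comp_apply, ← hfac, hcl]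

end

/-- Locally Noetherian case of the valuative criterion of separatedness: let Y be a locally Noetherian
scheme and f : X → Y locally of finite type. Then f is separated if and only if for every discrete
valuation ring A with fraction field K, any two morphisms Spec A → X with the same composite to Y
which agree on Spec K are equal. (In the general criterion the diagonal must be assumed
quasi-compact; that is automatic here.) -/
theorem result {X Y : Scheme.{u}} [IsLocallyNoetherian Y] (f : X ⟶ Y) [LocallyOfFiniteType f] :
    IsSeparated f ↔ ∀ (A : Type u) [CommRing A] [IsDomain A] [IsDiscreteValuationRing A] (g₁ g₂ : (Spec (CommRingCat.of A)) ⟶ X),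
      g₁ ≫ f = g₂ ≫ f → (Spec.map (CommRingCat.ofHom (algebraMap A (FractionRing A)))) ≫ g₁ = (Spec.map (CommRingCat.ofHom (algebraMap A (FractionRing A)))) ≫ g₂ → g₁ = g₂ := by
  constructor
  · intro hsep A _ _ _ g₁ g₂ h1 h2
    have huniq := IsSeparated.valuativeCriterion f
    let S : ValuativeCommSq f :=
      { R := A, K := FractionRing A,
        i₁ := Spec.map (CommRingCat.ofHom (algebraMap A (FractionRing A))) ≫ g₁,
        i₂ := g₁ ≫ f, commSq := ⟨by rw [Category.assoc]⟩ }
    have := huniq S
    let l₁ : S.commSq.LiftStruct := ⟨g₁, rfl, rfl⟩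
    let l₂ : S.commSq.LiftStruct := ⟨g₂, h2.symm, h1.symm⟩
    exact congrArg CommSq.LiftStruct.l (Subsingleton.elim l₁ l₂)
  · intro H
    have hX : IsLocallyNoetherian X := LocallyOfFiniteType.isLocallyNoetherian f
    have hspec := specializingMap_diagonal f H
    have hqc : QuasiCompact (pullback.diagonal f) := by
      rw [← (pullback.diagonal f).liftCoborder_ι]
      infer_instance
    have hclosed : IsClosedMap (pullback.diagonal f).base :=
      (isClosedMap_iff_specializingMap (pullback.diagonal f)).mpr hspec
    exact ⟨IsClosedImmersion.of_isPreimmersion _ hclosed.isClosed_range⟩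

end Groth.Agent.S2334
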