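import Groth.Statements.S2335
-- import your own Groth.Agent.* helpers here
import Groth.Agent.S2334
import Groth.Agent.Lib.Helper13.DvrProper

set_option autoImplicit false
universe u
open CategoryTheory CategoryTheory.Limits AlgebraicGeometry
open EGA2

namespace Groth.Agent.S2335

/-- Let Y be locally Noetherian and f : X → Y of finite type. Then f is proper if and only if for every
discrete valuation ring A with fraction field K and every commutative square Spec K → X, Spec A → Y,
there is exactly one morphism Spec A → X making both triangles commute. -/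
theorem result {X Y : Scheme.{u}} [IsLocallyNoetherian Y] (f : X ⟶ Y) [LocallyOfFiniteType f] [QuasiCompact f] :
    IsProper f ↔ ∀ (A : Type u) [CommRing A] [IsDomain A] [IsDiscreteValuationRing A] (x : (Spec (CommRingCat.of (FractionRing A))) ⟶ X) (y : (Spec (CommRingCat.of A)) ⟶ Y),
      x ≫ f = (Spec.map (CommRingCat.ofHom (algebraMap A (FractionRing A)))) ≫ y → ∃! l : (Spec (CommRingCat.of A)) ⟶ X, l ≫ f = y ∧ (Spec.map (CommRingCat.ofHom (algebraMap A (FractionRing A)))) ≫ l = x := by
  constructor
  · intro hproper A _ _ _ x y hxy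
    have hex : ValuativeCriterion f := by
      have h1 := hproper
      rw [IsProper.eq_valuativeCriterion] at h1
      exact h1.1.1.1
    let S : ValuativeCommSq f :=
      { R := A, K := FractionRing A, i₁ := x, i₂ := y, commSq := ⟨hxy⟩ }
    obtain ⟨⟨l⟩⟩ := hex.existence S
    refine ⟨l.l, ⟨l.fac_right, l.fac_left⟩, ?_⟩
    rintro l' ⟨h1, h2⟩
    have := hex.uniqueness S
    let l₂ : S.commSq.LiftStruct := ⟨l', h2, h1⟩
    have h := Subsingleton.elim l₂ l
    exact congrArg CommSq.LiftStruct.l h
  · intro H
    have hsep : IsSeparated f := by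
      rw [Groth.Agent.S2334.result f]
      intro A _ _ _ g₁ g₂ h1 h2
      obtain ⟨l, -, hl⟩ := H A
        (Spec.map (CommRingCat.ofHom (algebraMap A (FractionRing A))) ≫ g₁) (g₁ ≫ f)
        (by rw [Category.assoc])
      rw [hl g₁ ⟨rfl, rfl⟩, hl g₂ ⟨h1.symm, h2.symm⟩]
    have huc : UniversallyClosed f :=
      Groth.Agent.Lib.Helper13.DvrProper.universallyClosed_of_dvr f (fun A _ _ _ x y hxy => by
        obtain ⟨l, hl, -⟩ := H A x y hxy
        exact ⟨l, hl⟩)
    exact { }

end Groth.Agent.S2335
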