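import Groth.Statements.S2342
import Groth.Agent.S4439

set_option autoImplicit false
universe u
open CategoryTheory CategoryTheory.Limits AlgebraicGeometry
open EGA2

namespace Groth.Agent.S2342

/-- Let A be a valuation ring with Y = Spec A, X an integral separated scheme and f : X → Y a morphism
which is closed as a map of topological spaces, such that the fibre over the generic point of Y
consists of exactly one point x and the induced map from the residue field of the generic point of Y
to that of x is bijective. Then f is an isomorphism. -/
theorem result (A : Type u) [CommRing A] [IsDomain A] [ValuationRing A]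
    (X : Scheme.{u}) [IsIntegral X] [X.IsSeparated] (f : X ⟶ Spec (CommRingCat.of A)) (hf : IsClosedMap f.base)
    (x : X) (hx : f.base ⁻¹' {genericPoint (Spec (CommRingCat.of A))} = {x})
    (hres : Function.Bijective (f.residueFieldMap x).hom) : IsIso f := by
  have hfx : f.base x = genericPoint (Spec (CommRingCat.of A)) := by
    have : x ∈ f.base ⁻¹' {genericPoint (Spec (CommRingCat.of A))} := by rw [hx]; rfl
    exact this
  have hbot : (f.base x).asIdeal = ⊥ := by
    rw [hfx, genericPoint_eq_bot_of_affine (CommRingCat.of A)]; rfl
  let ψc : CommRingCat.of A ⟶ X.residueField x :=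
    CommRingCat.ofHom (algebraMap A (f.base x).asIdeal.ResidueField) ≫
      (Scheme.Spec.residueFieldIso (.of A) (f.base x)).inv ≫ f.residueFieldMap x
  let _ : Algebra A (X.residueField x) := ψc.hom.toAlgebra
  have hψ : X.fromSpecResidueField x ≫ f =
      Spec.map (CommRingCat.ofHom (algebraMap A (X.residueField x))) := by
    change _ = Spec.map ψc
    rw [← Scheme.Hom.SpecMap_residueFieldMap_fromSpecResidueField,
      ← Scheme.Spec.map_residueFieldIso_inv_eq_fromSpecResidueField]
    simp only [ψc, Spec.map_comp, Category.assoc]
  have hθ : Function.Bijective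
      ((Scheme.Spec.residueFieldIso (.of A) (f.base x)).inv ≫ f.residueFieldMap x).hom := by
    rw [CommRingCat.hom_comp]
    exact hres.comp (ConcreteCategory.bijective_of_isIso _)
  have hψapply : ∀ a : A, algebraMap A (X.residueField x) a =
      ((Scheme.Spec.residueFieldIso (.of A) (f.base x)).inv ≫ f.residueFieldMap x).hom
        (algebraMap A (f.base x).asIdeal.ResidueField a) := fun a => rfl
  have hinj : Function.Injective (algebraMap A (X.residueField x)) := by
    intro a b hab
    rw [hψapply, hψapply] at hab
    have h1 := hθ.1 hab
    have h2 : a - b ∈ RingHom.ker (algebraMap A (f.base x).asIdeal.ResidueField) := by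
      rw [RingHom.mem_ker, map_sub, h1, sub_self]
    rw [Ideal.ker_algebraMap_residueField, hbot, Ideal.mem_bot] at h2
    exact sub_eq_zero.mp h2
  have hfaith : FaithfulSMul A (X.residueField x) :=
    (faithfulSMul_iff_algebraMap_injective _ _).mpr hinj
  have hfrac : IsFractionRing A (X.residueField x) := by
    apply IsFractionRing.of_field
    intro z
    obtain ⟨w, rfl⟩ := hθ.2 z
    obtain ⟨a, b, hb, rfl⟩ := IsFractionRing.div_surjective (A := A ⧸ (f.base x).asIdeal) w
    obtain ⟨a, rfl⟩ := Ideal.Quotient.mk_surjective a
    obtain ⟨b', rfl⟩ := Ideal.Quotient.mk_surjective (b : _)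
    refine ⟨a, b', ?_⟩
    rw [map_div₀, hψapply, hψapply]
    rfl
  obtain ⟨s, ⟨hs1, hs2⟩, -⟩ := Groth.Agent.S4439.result A (X.residueField x) X f hf
    (X.fromSpecResidueField x) hψ
  have hsf : IsClosedImmersion (s ≫ f) := by rw [hs1]; infer_instance
  have hsci : IsClosedImmersion s := IsClosedImmersion.of_comp s f
  have hxs : x ∈ Set.range s.base := by
    refine ⟨(Spec.map (CommRingCat.ofHom (algebraMap A (X.residueField x)))).base
      (IsLocalRing.closedPoint (X.residueField x)), ?_⟩
    rw [← Scheme.Hom.comp_apply, hs2, Scheme.fromSpecResidueField_apply]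
  have hgen : genericPoint X = x := by
    have h1 : genericPoint X ⤳ x := (genericPoint_spec X).specializes trivial
    have h2 : f.base (genericPoint X) ⤳ f.base x := h1.map f.continuous
    have h3 : f.base x ⤳ f.base (genericPoint X) := by
      rw [hfx]; exact (genericPoint_spec _).specializes trivial
    have h4 : f.base (genericPoint X) = f.base x := (h2.antisymm h3).eq
    have h5 : genericPoint X ∈ f.base ⁻¹' {genericPoint (Spec (CommRingCat.of A))} := by
      rw [Set.mem_preimage, h4, hfx]; rfl
    rw [hx] at h5
    exact h5
  have hsurj : Surjective s := by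
    constructor
    rw [← Set.range_eq_univ]
    have hcl : IsClosed (Set.range s.base) := s.isClosedEmbedding.isClosed_range
    have h1 : closure {genericPoint X} ⊆ Set.range s.base :=
      hcl.closure_subset_iff.mpr (Set.singleton_subset_iff.mpr (hgen ▸ hxs))
    rw [(genericPoint_spec X).def] at h1
    exact Set.eq_univ_of_univ_subset h1
  have hiso := isIso_of_isClosedImmersion_of_surjective s
  have : f = inv s := by rw [← cancel_epi s, hs1, IsIso.hom_inv_id]
  rw [this]
  infer_instance

end Groth.Agent.S2342
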