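import Groth.Statements.S2343
import Groth.Agent.Lib.Helper12.HenselQuasiFinite
import Mathlib
set_option backward.isDefEq.respectTransparency.types false

set_option autoImplicit false
universe u
open CategoryTheory CategoryTheory.Limits AlgebraicGeometry
open EGA2

namespace Groth.Agent.S2343
open IsLocalRing

theorem henselianLocalRing_of_isAdicComplete (A : Type*) [CommRing A] [IsLocalRing A]
    [IsAdicComplete (maximalIdeal A) A] : HenselianLocalRing A where
  is_henselian f hf a₀ h₁ h₂ :=
    HenselianRing.is_henselian (I := maximalIdeal A) f hf a₀ h₁ (h₂.map _)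

/-- Algebraic core: over a henselian local ring, a finite type algebra quasi-finite at `q` over the
closed point has an idempotent `e ∉ q` such that `S/(1-e)` is a finite local `R`-algebra. -/
theorem exists_idem_finite_local (R : Type u) [CommRing R]
    [HenselianLocalRing R] (S : Type u) [CommRing S] [Algebra R S] [Algebra.FiniteType R S]
    (q : Ideal S) [q.IsPrime] [q.LiesOver (maximalIdeal R)] [Algebra.QuasiFiniteAt R q] :
    ∃ e : S, IsIdempotentElem e ∧ e ∉ q ∧ Module.Finite R (S ⧸ Ideal.span {1 - e}) ∧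
      IsLocalRing (S ⧸ Ideal.span {1 - e}) := by
  obtain ⟨e, he, heq, hfin, huniq⟩ :=
    Groth.Agent.Lib.Helper12.exists_idem_finite_of_quasiFiniteAt R S q
  refine ⟨e, he, heq, hfin, ?_⟩
  have h1e : (1 - e) ∈ q := by
    have : e * (1 - e) = 0 := by rw [mul_sub, mul_one, he.eq, sub_self]
    have h0 : e * (1 - e) ∈ q := by rw [this]; exact q.zero_mem
    exact (Ideal.IsPrime.mem_or_mem inferInstance h0).resolve_left heq
  have hle : Ideal.span {1 - e} ≤ q := (Ideal.span_singleton_le_iff_mem _).mpr h1e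
  -- the image of q in the quotient is the unique maximal ideal
  haveI : Nontrivial (S ⧸ Ideal.span {1 - e}) := by
    apply Ideal.Quotient.nontrivial_iff.mpr
    intro h
    exact (inferInstance : q.IsPrime).ne_top (top_le_iff.mp (h ▸ hle))
  have hsurj : Function.Surjective (Ideal.Quotient.mk (Ideal.span {1 - e})) :=
    Ideal.Quotient.mk_surjective
  have hcomap : (q.map (Ideal.Quotient.mk (Ideal.span {1 - e}))).comap
      (Ideal.Quotient.mk (Ideal.span {1 - e})) = q := by
    rw [Ideal.comap_map_of_surjective _ hsurj, ← RingHom.ker_eq_comap_bot, Ideal.mk_ker]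
    exact sup_eq_left.mpr hle
  haveI : Algebra.IsIntegral R (S ⧸ Ideal.span {1 - e}) := Algebra.IsIntegral.of_finite R _
  have hmaxS₁ : ∀ M' : Ideal (S ⧸ Ideal.span {1 - e}), M'.IsMaximal →
      M' = q.map (Ideal.Quotient.mk (Ideal.span {1 - e})) := by
    intro M' hM'
    have hM'R : (M'.comap (algebraMap R (S ⧸ Ideal.span {1 - e}))).IsMaximal :=
      Ideal.isMaximal_comap_of_isIntegral_of_isMaximal M'
    have hM'm : M'.comap (algebraMap R (S ⧸ Ideal.span {1 - e})) = maximalIdeal R :=
      IsLocalRing.eq_maximalIdeal hM'R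
    set q' := M'.comap (Ideal.Quotient.mk (Ideal.span {1 - e})) with hq'
    have hq'prime : q'.IsPrime := Ideal.comap_isPrime _ _
    have hq'lies : q'.LiesOver (maximalIdeal R) := by
      refine ⟨?_⟩
      rw [← hM'm, Ideal.under, hq', Ideal.comap_comap]
      rfl
    have h1eq' : (1 - e) ∈ q' := by
      rw [hq', Ideal.mem_comap]
      have : Ideal.Quotient.mk (Ideal.span {1 - e}) (1 - e) = 0 :=
        Ideal.Quotient.eq_zero_iff_mem.mpr (Ideal.subset_span rfl)
      rw [this]; exact M'.zero_mem
    have heq' : e ∉ q' := by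
      intro h
      apply hq'prime.ne_top
      rw [Ideal.eq_top_iff_one]
      have := q'.add_mem h h1eq'
      rwa [add_sub_cancel] at this
    have := huniq q' hq'prime hq'lies heq'
    rw [← this, hq', Ideal.map_comap_of_surjective _ hsurj]
  obtain ⟨M, hM⟩ := Ideal.exists_maximal (S ⧸ Ideal.span {1 - e})
  have hMq := hmaxS₁ M hM
  refine IsLocalRing.of_unique_max_ideal ⟨q.map (Ideal.Quotient.mk _), hMq ▸ hM, ?_⟩
  intro M' hM'
  exact hmaxS₁ M' hM'

/-- A point isolated in its fibre is a quasi-finite point. -/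
theorem quasiFiniteAt_of_isolated {X Y : Scheme.{u}} (f : X ⟶ Y) [LocallyOfFiniteType f] (x : X)
    (y : Y) (hy : f.base x = y)
    (h : IsOpen ((Subtype.val : (f.base ⁻¹' {y}) → X) ⁻¹' {x})) : f.QuasiFiniteAt x := by
  subst hy
  rw [Scheme.Hom.quasiFiniteAt_iff_isOpen_singleton_asFiber]
  rw [← (f.fiberHomeo (f x)).isOpen_image]
  simp only [Set.image_singleton, Scheme.Hom.asFiber, Homeomorph.apply_symm_apply]
  convert h using 1
  ext ⟨z, hz⟩
  simp [Subtype.ext_iff]


theorem comap_ΓSpecIso_inv_primeIdealOf (R : CommRingCat.{u})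
    (y : (⊤ : (Spec R).Opens)) :
    ((isAffineOpen_top (Spec R)).primeIdealOf y).comap (Scheme.ΓSpecIso R).inv.hom = y.1 := by
  have h := (isAffineOpen_top (Spec R)).fromSpec_primeIdealOf y
  rw [IsAffineOpen.fromSpec_top, Scheme.isoSpec_Spec_inv] at h
  exact h

theorem comap_primeIdealOf_toSpec (R : CommRingCat.{u}) {X : Scheme.{u}} (f : X ⟶ Spec R)
    {V : X.Opens} (hV : IsAffineOpen V) (x : X) (hxV : x ∈ V) :
    (hV.primeIdealOf ⟨x, hxV⟩).comap ((Scheme.ΓSpecIso R).inv ≫ f.appLE ⊤ V le_top).hom = f x := by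
  have h1 := IsAffineOpen.comap_primeIdealOf_appLE (f := f) (x := x) ⊤ (isAffineOpen_top _) V hV
    le_top hxV
  have h2 := comap_ΓSpecIso_inv_primeIdealOf R ⟨f x, trivial⟩
  rw [CommRingCat.hom_comp, PrimeSpectrum.comap_comp_apply, h1]
  exact h2

theorem quasiFiniteAt_comp_of_bijective {R R' S : Type*} [CommRing R] [CommRing R'] [CommRing S]
    (g : R →+* R') (hg : Function.Bijective g) (f : R' →+* S) (p : Ideal S) [p.IsPrime]
    (h : f.QuasiFiniteAt p) : (f.comp g).QuasiFiniteAt p := by
  unfold RingHom.QuasiFiniteAt at h ⊢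
  letI i1 := f.toAlgebra
  letI i2 := (f.comp g).toAlgebra
  have h' : Algebra.QuasiFinite R' (Localization.AtPrime p) := h
  change Algebra.QuasiFinite R (Localization.AtPrime p)
  rw [← RingHom.quasiFinite_algebraMap] at h' ⊢
  have hg' : g.QuasiFinite := RingHom.QuasiFinite.of_finite (RingHom.Finite.of_surjective g hg.2)
  exact h'.comp hg'

/-- transport along `IsLocalization.Away e` for idempotent e. -/
theorem finite_local_of_away {R S T : Type*} [CommRing R] [CommRing S] [CommRing T] [Algebra R S]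
    [Algebra S T] [Algebra R T] [IsScalarTower R S T] (e : S) (he : IsIdempotentElem e)
    [IsLocalization.Away e T]
    (hfin : Module.Finite R (S ⧸ Ideal.span {1 - e})) (hloc : IsLocalRing (S ⧸ Ideal.span {1 - e})) :
    Module.Finite R T ∧ IsLocalRing T := by
  haveI := IsLocalization.Away.quotient_of_isIdempotentElem he
  let E : (S ⧸ Ideal.span {1 - e}) ≃ₐ[S] T :=
    IsLocalization.algEquiv (Submonoid.powers e) _ _
  constructor
  · exact Module.Finite.equiv (E.restrictScalars R).toLinearEquiv
  · exact E.toRingEquiv.isLocalRing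

/-- localization of a local ring at its maximal ideal is itself. -/
theorem bijective_algebraMap_of_isLocalization_atPrime_maximal {T L : Type*} [CommRing T]
    [IsLocalRing T] [CommRing L] [Algebra T L] (p : Ideal T) [p.IsPrime] (hp : p.IsMaximal)
    [IsLocalization.AtPrime L p] : Function.Bijective (algebraMap T L) := by
  have hp' : p = maximalIdeal T := IsLocalRing.eq_maximalIdeal hp
  have H : p.primeCompl ≤ IsUnit.submonoid T := by
    intro t ht
    change IsUnit t
    by_contra h
    apply ht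
    change t ∈ p
    rw [hp']
    exact (IsLocalRing.mem_maximalIdeal t).mpr h
  exact (IsLocalization.atUnits T p.primeCompl (S := L) H).bijective


set_option backward.defeqAttrib.useBackward true in
set_option backward.isDefEq.respectTransparency false in

/-- Let A be a complete Noetherian local ring, X a separated scheme locally of finite type over Spec A,
and x a point of X over the closed point which is isolated in its fibre. Then the local ring of X at
x is a finite A-module and the canonical morphism Spec O_{X,x} → X is both an open and a closed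
immersion (X is the disjoint sum of Spec O_{X,x} and another open subscheme). -/
theorem result (A : Type u) [CommRing A] [IsLocalRing A] [IsNoetherianRing A]
    [IsAdicComplete (IsLocalRing.maximalIdeal A) A] (X : Scheme.{u}) (f : X ⟶ Spec (CommRingCat.of A)) [LocallyOfFiniteType f] [IsSeparated f]
    (x : X) (hx : f.base x = IsLocalRing.closedPoint A)
    (hisol : IsOpen ((Subtype.val : (f.base ⁻¹' {IsLocalRing.closedPoint A}) → X) ⁻¹' {x})) :
    ((Scheme.ΓSpecIso (CommRingCat.of A)).inv ≫ f.appTop ≫ X.presheaf.germ ⊤ x trivial).hom.Finite ∧ IsOpenImmersion (X.fromSpecStalk x) ∧ IsClosedImmersion (X.fromSpecStalk x) := by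
  haveI : HenselianLocalRing A := henselianLocalRing_of_isAdicComplete A
  have hqf : f.QuasiFiniteAt x := quasiFiniteAt_of_isolated f x _ hx hisol
  obtain ⟨_, ⟨V, hV, rfl⟩, hxV, -⟩ :=
    X.isBasis_affineOpens.exists_subset_of_mem_open (Set.mem_univ x) isOpen_univ
  have hU : IsAffineOpen (⊤ : (Spec (CommRingCat.of A)).Opens) := isAffineOpen_top _
  have hVU : V ≤ f ⁻¹ᵁ ⊤ := le_top
  set φ₀ := f.appLE ⊤ V hVU with hφ₀
  set ψ : CommRingCat.of A ⟶ Γ(X, V) := (Scheme.ΓSpecIso (CommRingCat.of A)).inv ≫ φ₀ with hψ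
  letI : Algebra A Γ(X, V) := ψ.hom.toAlgebra
  set q := (hV.primeIdealOf ⟨x, hxV⟩).asIdeal with hq
  have hft : Algebra.FiniteType A Γ(X, V) := by
    have h1 : φ₀.hom.FiniteType := f.finiteType_appLE hU hV hVU
    have h2 : ((Scheme.ΓSpecIso (CommRingCat.of A)).inv).hom.FiniteType :=
      RingHom.FiniteType.of_surjective _
        ((ConcreteCategory.isIso_iff_bijective (Scheme.ΓSpecIso (CommRingCat.of A)).inv).mp
          inferInstance).2
    have h3 : ψ.hom.FiniteType := by
      rw [hψ, CommRingCat.hom_comp]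
      exact h1.comp h2
    exact h3
  have hqcomap : (hV.primeIdealOf ⟨x, hxV⟩).comap ψ.hom = f x :=
    comap_primeIdealOf_toSpec _ f hV x hxV
  haveI hlies : q.LiesOver (maximalIdeal A) := by
    refine ⟨?_⟩
    have := congrArg PrimeSpectrum.asIdeal hqcomap
    rw [hx] at this
    exact this.symm
  have hbij : Function.Bijective ((Scheme.ΓSpecIso (CommRingCat.of A)).inv).hom :=
    (ConcreteCategory.isIso_iff_bijective (Scheme.ΓSpecIso (CommRingCat.of A)).inv).mp
      inferInstance
  haveI hqfa : Algebra.QuasiFiniteAt A q := by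
    have h1 := hqf.quasiFiniteAt hV hU hVU hxV
    exact quasiFiniteAt_comp_of_bijective _ hbij φ₀.hom q h1
  obtain ⟨e, he, heq, hfin, hloc⟩ := exists_idem_finite_local A Γ(X, V) q
  have hW : IsAffineOpen (X.basicOpen e) := hV.basicOpen e
  have hWV : X.basicOpen e ≤ V := X.basicOpen_le e
  have hxW : x ∈ X.basicOpen e := by
    have h1 := hV.fromSpec_primeIdealOf ⟨x, hxV⟩
    have h2 : hV.primeIdealOf ⟨x, hxV⟩ ∈ hV.fromSpec ⁻¹ᵁ X.basicOpen e := by
      rw [hV.fromSpec_preimage_basicOpen e]
      exact heq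
    have h3 : hV.fromSpec (hV.primeIdealOf ⟨x, hxV⟩) ∈ X.basicOpen e := h2
    rw [h1] at h3
    exact h3
  haveI : IsLocalization.Away e Γ(X, X.basicOpen e) := hV.isLocalization_basicOpen e
  set ψW : CommRingCat.of A ⟶ Γ(X, X.basicOpen e) :=
    (Scheme.ΓSpecIso (CommRingCat.of A)).inv ≫ f.appLE ⊤ (X.basicOpen e) le_top with hψW
  letI : Algebra A Γ(X, X.basicOpen e) := ψW.hom.toAlgebra
  haveI : IsScalarTower A Γ(X, V) Γ(X, X.basicOpen e) := by
    refine IsScalarTower.of_algebraMap_eq' ?_
    change ψW.hom = (X.presheaf.map (homOfLE hWV).op).hom.comp ψ.hom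
    rw [← CommRingCat.hom_comp, hψ, hψW, hφ₀, Category.assoc, Scheme.Hom.appLE_map]
  obtain ⟨hfinW, hlocW⟩ := finite_local_of_away (R := A) (S := Γ(X, V))
    (T := Γ(X, X.basicOpen e)) e he hfin hloc
  set p := hW.primeIdealOf ⟨x, hxW⟩ with hp
  have hpcomap : p.comap ψW.hom = f x := comap_primeIdealOf_toSpec _ f hW x hxW
  haveI : Algebra.IsIntegral A Γ(X, X.basicOpen e) := Algebra.IsIntegral.of_finite A _
  have hpmax : p.asIdeal.IsMaximal := by
    apply Ideal.isMaximal_of_isIntegral_of_isMaximal_comap (R := A) p.asIdeal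
    have h1 := congrArg PrimeSpectrum.asIdeal hpcomap
    rw [hx] at h1
    change (p.asIdeal.comap ψW.hom).IsMaximal
    rw [show p.asIdeal.comap ψW.hom = maximalIdeal A from h1]
    exact IsLocalRing.maximalIdeal.isMaximal A
  letI : Algebra Γ(X, X.basicOpen e) (X.presheaf.stalk x) :=
    TopCat.Presheaf.algebra_section_stalk X.presheaf (⟨x, hxW⟩ : X.basicOpen e)
  haveI : IsLocalization.AtPrime (X.presheaf.stalk x) p.asIdeal :=
    hW.isLocalization_stalk ⟨x, hxW⟩
  have hgerm : Function.Bijective (X.presheaf.germ (X.basicOpen e) x hxW).hom :=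
    bijective_algebraMap_of_isLocalization_atPrime_maximal (T := Γ(X, X.basicOpen e))
      (L := X.presheaf.stalk x) p.asIdeal hpmax
  haveI : IsIso (X.presheaf.germ (X.basicOpen e) x hxW) :=
    (ConcreteCategory.isIso_iff_bijective _).mpr hgerm
  have hfs : X.fromSpecStalk x =
      Spec.map (X.presheaf.germ (X.basicOpen e) x hxW) ≫ hW.fromSpec := by
    rw [← hW.fromSpecStalk_eq_fromSpecStalk hxW, IsAffineOpen.fromSpecStalk]
  haveI hopen : IsOpenImmersion (X.fromSpecStalk x) := by rw [hfs]; infer_instance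
  have hφ : ((Scheme.ΓSpecIso (CommRingCat.of A)).inv ≫ f.appTop ≫ X.presheaf.germ ⊤ x trivial) =
      ψW ≫ X.presheaf.germ (X.basicOpen e) x hxW := by
    rw [hψW, Category.assoc]
    congr 1
    rw [← X.presheaf.germ_res (homOfLE le_top : X.basicOpen e ⟶ ⊤) x hxW, Scheme.Hom.appLE,
      Category.assoc]
  have hfinφ : ((Scheme.ΓSpecIso (CommRingCat.of A)).inv ≫ f.appTop ≫
      X.presheaf.germ ⊤ x trivial).hom.Finite := by
    rw [hφ, CommRingCat.hom_comp]
    exact (RingHom.Finite.of_surjective _ hgerm.2).comp hfinW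
  have hcomp : X.fromSpecStalk x ≫ f = Spec.map ((Scheme.ΓSpecIso (CommRingCat.of A)).inv ≫
      f.appTop ≫ X.presheaf.germ ⊤ x trivial) := by
    rw [← cancel_mono (Spec (CommRingCat.of A)).toSpecΓ, Category.assoc,
      Scheme.toSpecΓ_naturality, Scheme.fromSpecStalk_toSpecΓ_assoc, ← SpecMap_ΓSpecIso_hom,
      ← Spec.map_comp, ← Spec.map_comp]
    simp
  haveI : IsFinite (X.fromSpecStalk x ≫ f) := by
    rw [hcomp]; exact (IsFinite.SpecMap_iff _).mpr hfinφ
  haveI : IsProper (X.fromSpecStalk x) := IsProper.of_comp _ f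
  exact ⟨hfinφ, hopen,
    IsClosedImmersion.of_isPreimmersion _ (X.fromSpecStalk x).isClosedMap.isClosed_range⟩

end Groth.Agent.S2343
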