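import Groth.Statements.S2344
import Mathlib
import Groth.Agent.Lib.Helper13.CodimOne
import Groth.Agent.Lib.Helper13.NormalCurve

set_option autoImplicit false
universe u
open CategoryTheory CategoryTheory.Limits AlgebraicGeometry
open EGA2

namespace Groth.Agent.S2344

/-- Let X be a normal algebraic curve over k (separated, of finite type, nonempty, local rings at closed
points of dimension one, all local rings integrally closed domains), Y proper over k, U a dense open
of X and g : U → Y a k-morphism. Then g extends uniquely to a k-morphism X → Y. -/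
theorem result (k : Type u) [Field k] (X Y : Scheme.{u}) [X.Over (Spec (CommRingCat.of k))] [Y.Over (Spec (CommRingCat.of k))]
    [LocallyOfFiniteType (X ↘ (Spec (CommRingCat.of k)))] [QuasiCompact (X ↘ (Spec (CommRingCat.of k)))] [IsSeparated (X ↘ (Spec (CommRingCat.of k)))] [Nonempty X] (hcurve : (∀ x : X, IsClosed ({x} : Set X) → ringKrullDim (X.presheaf.stalk x) = 1)) (hnorm : Pi1.IsNormalScheme X)
    [IsProper (Y ↘ (Spec (CommRingCat.of k)))] (U : X.Opens) (hU : Dense (U : Set X)) (g : (U : Scheme.{u}) ⟶ Y)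
    (hg : g ≫ (Y ↘ (Spec (CommRingCat.of k))) = U.ι ≫ (X ↘ (Spec (CommRingCat.of k)))) :
    ∃! g' : X ⟶ Y, U.ι ≫ g' = g ∧ g' ≫ (Y ↘ (Spec (CommRingCat.of k))) = X ↘ (Spec (CommRingCat.of k)) := by
  haveI : IsLocallyNoetherian X :=
    LocallyOfFiniteType.isLocallyNoetherian (X ↘ (Spec (CommRingCat.of k)))
  haveI : CompactSpace X := by
    have : QuasiCompact (X ↘ (Spec (CommRingCat.of k))) := inferInstance
    exact (quasiCompact_iff_compactSpace (X ↘ (Spec (CommRingCat.of k)))).mp this
  haveI : ∀ x : X, _root_.IsReduced (X.presheaf.stalk x) := fun x => by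
    haveI := (hnorm x).1
    infer_instance
  haveI : IsReduced X := isReduced_of_isReduced_stalk X
  have hcl : IsClosedMap (pullback.snd (Y ↘ (Spec (CommRingCat.of k)))
      (X ↘ (Spec (CommRingCat.of k)))).base :=
    (pullback.snd (Y ↘ (Spec (CommRingCat.of k))) (X ↘ (Spec (CommRingCat.of k)))).isClosedMap
  obtain ⟨U', hUU', s', h1, h2, h3⟩ := Groth.Agent.Lib.Helper13.CodimOne.exists_extension
    (pullback.snd (Y ↘ (Spec (CommRingCat.of k))) (X ↘ (Spec (CommRingCat.of k)))) hcl U hU
    (pullback.lift g U.ι hg) (pullback.lift_snd _ _ _) Set.univ (fun x _ =>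
      Groth.Agent.Lib.Helper13.NormalCurve.valuationRing_stalk X hcurve hnorm x)
  have hU' : U' = ⊤ := by
    ext x
    simp only [TopologicalSpace.Opens.coe_top, Set.mem_univ, iff_true]
    exact h3 x trivial
  subst hU'
  haveI : IsIso (⊤ : X.Opens).ι := by
    change IsIso X.topIso.hom
    infer_instance
  haveI : IsDominant U.ι := Opens.isDominant_ι hU
  refine ⟨inv (⊤ : X.Opens).ι ≫ s' ≫ pullback.fst _ _, ⟨?_, ?_⟩, ?_⟩
  · have e : U.ι ≫ inv (⊤ : X.Opens).ι = X.homOfLE hUU' := by
      rw [IsIso.comp_inv_eq, Scheme.homOfLE_ι]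
    rw [← Category.assoc, e, ← Category.assoc, h2, pullback.lift_fst]
  · rw [Category.assoc, Category.assoc, pullback.condition, ← Category.assoc s', h1,
      IsIso.inv_hom_id_assoc]
  · rintro g₂ ⟨hg₂1, hg₂2⟩
    refine ext_of_isDominant_of_isSeparated (Y ↘ (Spec (CommRingCat.of k))) ?_ U.ι ?_
    · rw [hg₂2, Category.assoc, Category.assoc, pullback.condition, ← Category.assoc s', h1,
        IsIso.inv_hom_id_assoc]
    · have e : U.ι ≫ inv (⊤ : X.Opens).ι = X.homOfLE hUU' := by
        rw [IsIso.comp_inv_eq, Scheme.homOfLE_ι]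
      rw [hg₂1, ← Category.assoc, e, ← Category.assoc, h2, pullback.lift_fst]

end Groth.Agent.S2344
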