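import Groth.Statements.S4443
import Mathlib

set_option autoImplicit false
universe u
open CategoryTheory CategoryTheory.Limits AlgebraicGeometry
open EGA2

namespace Groth.Agent.S4443

section
open IsLocalRing TopologicalSpace

/-- the local ring at the generic point of an irreducible scheme has dimension zero -/
theorem krullDimLE_zero_stalk_genericPoint (X : Scheme.{u}) [IrreducibleSpace X] :
    Ring.KrullDimLE 0 (X.presheaf.stalk (genericPoint X)) := by
  rw [Ring.krullDimLE_zero_iff]
  intro I hI
  have h1 : (X.fromSpecStalk (genericPoint X)).base ⟨I, hI⟩ =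
      (X.fromSpecStalk (genericPoint X)).base (closedPoint _) := by
    have h2 : (X.fromSpecStalk (genericPoint X)).base ⟨I, hI⟩ ∈
        Set.range (X.fromSpecStalk (genericPoint X)).base := Set.mem_range_self _
    rw [Scheme.range_fromSpecStalk] at h2
    rw [Scheme.fromSpecStalk_closedPoint]
    exact (h2.antisymm (genericPoint_specializes _)).eq
  have h3 := (X.fromSpecStalk (genericPoint X)).isEmbedding.injective h1
  have h4 : I = maximalIdeal _ := congrArg PrimeSpectrum.asIdeal h3
  rw [h4]
  infer_instance

/-- on an irreducible quasi-compact scheme whose closed points have one-dimensional local rings,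
every non-closed point is the generic point -/
theorem eq_genericPoint_of_not_isClosed (X : Scheme.{u}) [IrreducibleSpace X] [CompactSpace X]
    (hX : ∀ x : X, IsClosed ({x} : Set X) → ringKrullDim (X.presheaf.stalk x) = 1)
    (x : X) (hx : ¬ IsClosed ({x} : Set X)) : x = genericPoint X := by
  obtain ⟨x', hx'mem, hx'cl⟩ := (isClosed_closure (s := ({x} : Set X))).exists_closed_singleton
    ⟨x, subset_closure rfl⟩
  have hsp : x ⤳ x' := specializes_iff_mem_closure.mpr hx'mem
  have hdim : Ring.KrullDimLE 1 (X.presheaf.stalk x') := Ring.krullDimLE_iff.mpr (hX x' hx'cl).le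
  have hxr : x ∈ Set.range (X.fromSpecStalk x').base := by
    rw [Scheme.range_fromSpecStalk]
    exact hsp
  obtain ⟨p, hp⟩ := hxr
  rcases Ring.krullDimLE_one_iff.mp hdim
    (show PrimeSpectrum (X.presheaf.stalk x') from p).asIdeal
    (show PrimeSpectrum (X.presheaf.stalk x') from p).isPrime with hmin | hmax
  · have hηr : genericPoint X ∈ Set.range (X.fromSpecStalk x').base := by
      rw [Scheme.range_fromSpecStalk]
      exact genericPoint_specializes x'
    obtain ⟨q, hq⟩ := hηr
    have hqp : (show PrimeSpectrum (X.presheaf.stalk x') from q) ⤳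
        (show PrimeSpectrum (X.presheaf.stalk x') from p) := by
      have h1 : (X.fromSpecStalk x').base q ⤳ (X.fromSpecStalk x').base p := by
        rw [hq, hp]
        exact genericPoint_specializes x
      exact (X.fromSpecStalk x').isEmbedding.isInducing.specializes_iff.mp h1
    rw [← PrimeSpectrum.le_iff_specializes] at hqp
    have hle : (show PrimeSpectrum (X.presheaf.stalk x') from p).asIdeal ≤
        (show PrimeSpectrum (X.presheaf.stalk x') from q).asIdeal :=
      hmin.2 ⟨(show PrimeSpectrum (X.presheaf.stalk x') from q).isPrime, bot_le⟩ hqp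
    have hpq : p = q := PrimeSpectrum.ext (le_antisymm hle hqp)
    rw [← hp, hpq, hq]
  · exfalso
    apply hx
    have hpc : p = closedPoint (X.presheaf.stalk x') := by
      apply PrimeSpectrum.ext
      exact eq_maximalIdeal hmax
    rw [hpc, Scheme.fromSpecStalk_closedPoint] at hp
    rw [← hp]
    exact hx'cl

/-- the generic point of an irreducible scheme whose closed points have one-dimensional local
rings is not closed -/
theorem not_isClosed_genericPoint (X : Scheme.{u}) [IrreducibleSpace X]
    (hX : ∀ x : X, IsClosed ({x} : Set X) → ringKrullDim (X.presheaf.stalk x) = 1) :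
    ¬ IsClosed ({genericPoint X} : Set X) := by
  intro hcl
  have h1 := hX _ hcl
  have h2 : ringKrullDim (X.presheaf.stalk (genericPoint X)) ≤ 0 :=
    Ring.krullDimLE_iff.mp (krullDimLE_zero_stalk_genericPoint X)
  rw [h1] at h2
  exact absurd h2 (by decide)

/-- closed subsets of a curve -/
theorem isClosed_ne_univ_iff (X : Scheme.{u}) [IrreducibleSpace X] [IsNoetherian X]
    (hX : ∀ x : X, IsClosed ({x} : Set X) → ringKrullDim (X.presheaf.stalk x) = 1)
    (F : Set X) (hF : IsClosed F) :
    F ≠ Set.univ ↔ (F.Finite ∧ ∀ x ∈ F, IsClosed ({x} : Set X)) := by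
  constructor
  · intro hne
    have hη : genericPoint X ∉ F := by
      intro hmem
      apply hne
      rw [Set.eq_univ_iff_forall]
      intro z
      exact (genericPoint_specializes z).mem_closed hF hmem
    have hcl : ∀ x ∈ F, IsClosed ({x} : Set X) := by
      intro x hxF
      by_contra hncl
      exact hη (eq_genericPoint_of_not_isClosed X hX x hncl ▸ hxF)
    refine ⟨?_, hcl⟩
    obtain ⟨S, hSf, hSc, hSi, hSU⟩ := NoetherianSpace.exists_finite_set_isClosed_irreducible hF
    rw [hSU]
    refine Set.Finite.sUnion hSf ?_
    intro t ht
    have htF : t ⊆ F := by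
      rw [hSU]
      exact Set.subset_sUnion_of_mem ht
    -- `t` is irreducible closed, hence the closure of a point, which is closed
    obtain ⟨z, hz⟩ := QuasiSober.sober (hSi t ht) (hSc t ht)
    have hzt : z ∈ t := hz.mem
    have h1 : t = closure {z} := hz.def.symm
    rw [h1, (hcl z (htF hzt)).closure_eq]
    exact Set.finite_singleton z
  · rintro ⟨-, hcl⟩ huniv
    exact not_isClosed_genericPoint X hX (hcl _ (huniv ▸ Set.mem_univ _))

end

/-- Let X be an irreducible algebraic curve over a field k (separated and of finite type over k,
nonempty, irreducible, local rings at closed points of dimension one). Then the generic point is the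
only non-closed point of X, and the closed subsets of X distinct from X are exactly the finite sets
of closed points. (The published statement adds that these are also exactly the subsets of X that
are not dense in X, an immediate consequence; this row does not state it.) -/
theorem result (k : Type u) [Field k] (X : Scheme.{u})
    [X.Over (Spec (CommRingCat.of k))] [LocallyOfFiniteType (X ↘ (Spec (CommRingCat.of k)))]
    [QuasiCompact (X ↘ (Spec (CommRingCat.of k)))] [IsSeparated (X ↘ (Spec (CommRingCat.of k)))]
    [Nonempty X] [IrreducibleSpace X] (hcurve : ∀ x : X, IsClosed ({x} : Set X) → ringKrullDim (X.presheaf.stalk x) = 1) :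
    (∀ x : X, ¬ IsClosed ({x} : Set X) → x = genericPoint X) ∧
      ∀ F : Set X, IsClosed F → (F ≠ Set.univ ↔ (F.Finite ∧ ∀ x ∈ F, IsClosed ({x} : Set X))) := by
  haveI : IsLocallyNoetherian X :=
    LocallyOfFiniteType.isLocallyNoetherian (X ↘ (Spec (CommRingCat.of k)))
  haveI : CompactSpace X := by
    have : QuasiCompact (X ↘ (Spec (CommRingCat.of k))) := inferInstance
    exact (HasAffineProperty.iff_of_isAffine (P := @QuasiCompact)).mp this
  haveI : IsNoetherian X := {}
  exact ⟨fun x hx => eq_genericPoint_of_not_isClosed X hcurve x hx,
    fun F hF => isClosed_ne_univ_iff X hcurve F hF⟩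

end Groth.Agent.S4443
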