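import Groth.Statements.S2346
import Mathlib
import Groth.Agent.S4443

set_option autoImplicit false
universe u
open CategoryTheory CategoryTheory.Limits AlgebraicGeometry
open EGA2

namespace Groth.Agent.S2346

section
open IsLocalRing TopologicalSpace Groth.Agent.S4443

/-- a dominant morphism of irreducible schemes maps the generic point to the generic point -/
theorem map_genericPoint_of_isDominant {X Y : Scheme.{u}} [IrreducibleSpace X] [IrreducibleSpace Y]
    (f : X ⟶ Y) [IsDominant f] : f.base (genericPoint X) = genericPoint Y := by
  have h1 : IsGenericPoint (f.base (genericPoint X)) (Set.univ : Set Y) := by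
    rw [isGenericPoint_def, Set.eq_univ_iff_forall]
    intro y
    have hy : y ∈ closure (Set.range f.base) := by
      rw [f.denseRange.closure_range]
      trivial
    have hsub : Set.range f.base ⊆ closure ({f.base (genericPoint X)} : Set Y) := by
      rintro _ ⟨x, rfl⟩
      exact ((genericPoint_specializes x).map f.continuous).mem_closure
    exact closure_minimal hsub isClosed_closure hy
  exact (h1.eq (genericPoint_spec Y)).symm ▸ rfl

/-- a finite Jacobson irreducible scheme has closed generic point -/
theorem isClosed_genericPoint_of_finite (X : Scheme.{u}) [IrreducibleSpace X] [JacobsonSpace X]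
    (hfin : (Set.univ : Set X).Finite) : IsClosed ({genericPoint X} : Set X) := by
  have hcl : IsClosed (closedPoints X) := by
    have h1 : closedPoints X = ⋃ x ∈ closedPoints X, {x} := by
      ext z
      simp
    rw [h1]
    exact (hfin.subset (Set.subset_univ _)).isClosed_biUnion (fun x hx => hx)
  have h2 := JacobsonSpace.closure_inter_closedPoints (X := X) isClosed_univ
  rw [Set.univ_inter, hcl.closure_eq] at h2
  have : genericPoint X ∈ closedPoints X := h2 ▸ Set.mem_univ _
  exact this

end

/-- Let X and Y be irreducible algebraic curves over k (separated, of finite type, local rings at closed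
points one-dimensional) and f : X → Y a k-morphism. Then f is dominant if and only if every fibre
f⁻¹(y) is a finite set. -/
theorem result (k : Type u) [Field k] (X Y : Scheme.{u}) [X.Over (Spec (CommRingCat.of k))] [Y.Over (Spec (CommRingCat.of k))]
    [LocallyOfFiniteType (X ↘ (Spec (CommRingCat.of k)))] [QuasiCompact (X ↘ (Spec (CommRingCat.of k)))] [IsSeparated (X ↘ (Spec (CommRingCat.of k)))] [LocallyOfFiniteType (Y ↘ (Spec (CommRingCat.of k)))] [QuasiCompact (Y ↘ (Spec (CommRingCat.of k)))] [IsSeparated (Y ↘ (Spec (CommRingCat.of k)))] [IrreducibleSpace X] [IrreducibleSpace Y]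
    (hX : (∀ x : X, IsClosed ({x} : Set X) → ringKrullDim (X.presheaf.stalk x) = 1)) (hY : (∀ x : Y, IsClosed ({x} : Set Y) → ringKrullDim (Y.presheaf.stalk x) = 1))
    (f : X ⟶ Y) (hf : f ≫ (Y ↘ (Spec (CommRingCat.of k))) = X ↘ (Spec (CommRingCat.of k))) :
    IsDominant f ↔ ∀ y : Y, (f.base ⁻¹' {y}).Finite := by
  haveI : IsLocallyNoetherian X :=
    LocallyOfFiniteType.isLocallyNoetherian (X ↘ (Spec (CommRingCat.of k)))
  haveI : CompactSpace X := by
    have : QuasiCompact (X ↘ (Spec (CommRingCat.of k))) := inferInstance
    exact (HasAffineProperty.iff_of_isAffine (P := @QuasiCompact)).mp this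
  haveI : IsNoetherian X := {}
  haveI : IsLocallyNoetherian Y :=
    LocallyOfFiniteType.isLocallyNoetherian (Y ↘ (Spec (CommRingCat.of k)))
  haveI : CompactSpace Y := by
    have : QuasiCompact (Y ↘ (Spec (CommRingCat.of k))) := inferInstance
    exact (HasAffineProperty.iff_of_isAffine (P := @QuasiCompact)).mp this
  haveI : IsNoetherian Y := {}
  haveI : JacobsonSpace X := LocallyOfFiniteType.jacobsonSpace (X ↘ (Spec (CommRingCat.of k)))
  haveI : JacobsonSpace Y := LocallyOfFiniteType.jacobsonSpace (Y ↘ (Spec (CommRingCat.of k)))
  haveI : LocallyOfFiniteType (f ≫ (Y ↘ (Spec (CommRingCat.of k)))) := hf ▸ inferInstance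
  haveI : LocallyOfFiniteType f := locallyOfFiniteType_of_comp f (Y ↘ (Spec (CommRingCat.of k)))
  constructor
  · intro hdom y
    by_cases hy : y = genericPoint Y
    · -- the fibre over the generic point is contained in `{genericPoint X}`
      refine (Set.finite_singleton (genericPoint X)).subset ?_
      intro x hx
      have hfx : f.base x = genericPoint Y := hx.trans hy
      by_contra hne
      have hxcl : IsClosed ({x} : Set X) := by
        by_contra hncl
        exact hne (Groth.Agent.S4443.eq_genericPoint_of_not_isClosed X hX x hncl)
      have h1 : f.base x ∈ closedPoints Y :=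
        f.closePoints_subset_preimage_closedPoints hxcl
      rw [hfx] at h1
      exact Groth.Agent.S4443.not_isClosed_genericPoint Y hY h1
    · have hycl : IsClosed ({y} : Set Y) := by
        by_contra hncl
        exact hy (Groth.Agent.S4443.eq_genericPoint_of_not_isClosed Y hY y hncl)
      have hFcl : IsClosed (f.base ⁻¹' {y}) := hycl.preimage f.continuous
      have hne : f.base ⁻¹' {y} ≠ Set.univ := by
        intro huniv
        have h1 : genericPoint X ∈ f.base ⁻¹' {y} := huniv ▸ Set.mem_univ _
        have h2 : f.base (genericPoint X) = y := h1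
        rw [map_genericPoint_of_isDominant f] at h2
        exact hy h2.symm
      exact ((Groth.Agent.S4443.isClosed_ne_univ_iff X hX _ hFcl).mp hne).1
  · intro hfin
    by_contra hnd
    -- the closure of the image is a proper irreducible closed subset
    have hsub : Set.range f.base ⊆ closure ({f.base (genericPoint X)} : Set Y) := by
      rintro _ ⟨x, rfl⟩
      exact ((genericPoint_specializes x).map f.continuous).mem_closure
    have hZne : closure ({f.base (genericPoint X)} : Set Y) ≠ Set.univ := by
      intro huniv
      apply hnd
      constructor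
      rw [DenseRange, dense_iff_closure_eq, Set.eq_univ_iff_forall]
      intro y
      have : y ∈ closure ({f.base (genericPoint X)} : Set Y) := huniv ▸ Set.mem_univ _
      exact closure_mono (Set.singleton_subset_iff.mpr (Set.mem_range_self _)) this
    have h1 := (Groth.Agent.S4443.isClosed_ne_univ_iff Y hY _ isClosed_closure).mp hZne
    have hycl : IsClosed ({f.base (genericPoint X)} : Set Y) :=
      h1.2 _ (subset_closure rfl)
    rw [hycl.closure_eq] at hsub
    have huniv : f.base ⁻¹' {f.base (genericPoint X)} = Set.univ := by
      rw [Set.eq_univ_iff_forall]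
      intro x
      exact hsub (Set.mem_range_self x)
    have hXfin : (Set.univ : Set X).Finite := huniv ▸ hfin _
    exact Groth.Agent.S4443.not_isClosed_genericPoint X hX
      (isClosed_genericPoint_of_finite X hXfin)

end Groth.Agent.S2346
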