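import Groth.Statements.S2347
import Groth.Agent.Lib.Helper28.NormalSection

set_option autoImplicit false
universe u
open CategoryTheory CategoryTheory.Limits AlgebraicGeometry
open EGA2

namespace Groth.Agent.S2347

/-- Let X be an integral normal scheme, X' an integral scheme and g : X' → X an integral morphism. If g
has a rational section (a morphism s from a dense open U of X to X' with g ∘ s the inclusion of U),
then g is an isomorphism. -/
theorem result {X X' : Scheme.{u}} [IsIntegral X] [IsIntegral X'] (hX : Pi1.IsNormalScheme X)
    (g : X' ⟶ X) [IsIntegralHom g] (U : X.Opens) (hU : Dense (U : Set X)) (s : (U : Scheme.{u}) ⟶ X') (hs : s ≫ g = U.ι) :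
    IsIso g := by
  obtain ⟨s', hs', -⟩ :=
    Groth.Agent.Lib.Helper28.NormalSection.exists_section g U s (fun x => (hX x).2) hU hs
  exact Groth.Agent.Lib.Helper28.NormalSection.isIso_of_section g s' hs'

end Groth.Agent.S2347
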