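import Groth.Statements.S2349
-- import your own Groth.Agent.* helpers here

set_option autoImplicit false
universe u
open CategoryTheory CategoryTheory.Limits AlgebraicGeometry
open EGA2

namespace Groth.Agent.S2349

open MorphismProperty

set_option backward.isDefEq.respectTransparency false in
theorem univClosed_of_cover {X Y : Scheme.{u}} (f : X ⟶ Y)
    (ι : Type u) [Finite ι] (Xi : ι → Scheme.{u}) (j : ∀ i, Xi i ⟶ X)
    (hj : ∀ i, UniversallyClosed (j i ≫ f))
    (hcov : ∀ x : X, ∃ i, x ∈ Set.range (j i).base) : UniversallyClosed f := by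
  rw [universallyClosed_eq]
  intro X' Y' i₁ i₂ f' hpb
  change IsClosedMap f'.base
  intro Z hZ
  have key : f'.base '' Z = ⋃ i, (pullback.snd (j i) i₁ ≫ f').base ''
      ((pullback.snd (j i) i₁).base ⁻¹' Z) := by
    ext y
    constructor
    · rintro ⟨x', hx'Z, rfl⟩
      obtain ⟨i, xi, hxi⟩ := hcov (i₁.base x')
      obtain ⟨q, -, hq⟩ := Scheme.exists_preimage_of_isPullback
        (IsPullback.of_hasPullback (j i) i₁) xi x' hxi
      refine Set.mem_iUnion.2 ⟨i, q, ?_, ?_⟩
      · change (pullback.snd (j i) i₁).base q ∈ Z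
        rw [hq]; exact hx'Z
      · change f'.base ((pullback.snd (j i) i₁).base q) = _
        rw [hq]
    · intro hy
      obtain ⟨i, q, hq, rfl⟩ := Set.mem_iUnion.1 hy
      exact ⟨(pullback.snd (j i) i₁).base q, hq, rfl⟩
  rw [key]
  refine isClosed_iUnion_of_finite fun i => ?_
  have hA : IsPullback (pullback.snd (j i) i₁) (pullback.fst (j i) i₁) i₁ (j i) :=
    (IsPullback.of_hasPullback (j i) i₁).flip
  have hAB := hA.paste_horiz hpb
  have huc : UniversallyClosed (pullback.snd (j i) i₁ ≫ f') :=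
    MorphismProperty.of_isPullback hAB.flip (hj i)
  exact (pullback.snd (j i) i₁ ≫ f').isClosedMap _
    (hZ.preimage (pullback.snd (j i) i₁).continuous)

set_option backward.isDefEq.respectTransparency false in
theorem main {X Y : Scheme.{u}} (f : X ⟶ Y) [IsSeparated f] [LocallyOfFiniteType f] [QuasiCompact f]
    (ι : Type u) [Finite ι] (Xi Yi : ι → Scheme.{u}) (j : ∀ i, Xi i ⟶ X) (h : ∀ i, Yi i ⟶ Y) (fi : ∀ i, Xi i ⟶ Yi i)
    [∀ i, IsClosedImmersion (j i)] [∀ i, IsClosedImmersion (h i)] (hcomm : ∀ i, j i ≫ f = fi i ≫ h i)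
    (hcov : ∀ x : X, ∃ i, x ∈ Set.range (j i).base) : IsProper f ↔ ∀ i, IsProper (fi i) := by
  constructor
  · intro hf i
    have : IsProper (fi i ≫ h i) := by
      rw [← hcomm i]; infer_instance
    exact IsProper.of_comp (fi i) (h i)
  · intro hfi
    have huc : UniversallyClosed f := by
      refine univClosed_of_cover f ι Xi j (fun i => ?_) hcov
      rw [hcomm i]
      have := hfi i
      infer_instance
    exact { }


/-- Let f : X → Y be separated and of finite type, and let j_i : X_i → X and h_i : Y_i → Y (i in a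
finite index type) be closed immersions with morphisms f_i : X_i → Y_i satisfying j_i ≫ f = f_i ≫
h_i, such that the images of the j_i cover X. Then f is proper if and only if every f_i is proper. -/
theorem result {X Y : Scheme.{u}} (f : X ⟶ Y) [IsSeparated f] [LocallyOfFiniteType f] [QuasiCompact f]
    (ι : Type u) [Finite ι] (Xi Yi : ι → Scheme.{u}) (j : ∀ i, Xi i ⟶ X) (h : ∀ i, Yi i ⟶ Y) (fi : ∀ i, Xi i ⟶ Yi i)
    [∀ i, IsClosedImmersion (j i)] [∀ i, IsClosedImmersion (h i)] (hcomm : ∀ i, j i ≫ f = fi i ≫ h i)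
    (hcov : ∀ x : X, ∃ i, x ∈ Set.range (j i).base) : IsProper f ↔ ∀ i, IsProper (fi i) := by
  exact main f ι Xi Yi j h fi hcomm hcov

end Groth.Agent.S2349
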