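import Groth.Statements.S2350
import Groth.Agent.Lib.Helper28.GenLocus

set_option autoImplicit false
universe u
open CategoryTheory CategoryTheory.Limits AlgebraicGeometry
open EGA2

open Groth.Agent.Lib.Helper28

namespace Groth.Agent.S2350

/-- Let X be a scheme, L an invertible O_X-module and s a global section of L. Then the inclusion of the
open X_s (where s generates L) into X is an affine morphism. -/
theorem result (X : Scheme.{u}) (L : X.Modules) (hL : PicF.IsInvertible L) (s : Coh.structureModule X ⟶ L) :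
    IsAffineHom (CohB1.genLocus L s).ι := by
  apply isAffineHom_of_forall_exists_isAffineOpen
  intro x
  obtain ⟨U, g, hxU, hg⟩ := GenLocus.exists_isGen L hL x
  obtain ⟨_, ⟨V, hV, rfl⟩, hxV, hVU⟩ := X.isBasis_affineOpens.exists_subset_of_mem_open hxU U.isOpen
  have hVU' : V ≤ U := hVU
  have hgV := hg.res hVU'
  obtain ⟨r, hr⟩ := (hgV V le_rfl).2
    (s.app V (show Γ(Coh.structureModule X, V) from (1 : Γ(X, V))))
  have hr' : s.app V (show Γ(Coh.structureModule X, V) from (1 : Γ(X, V))) =
      (r • QCohLoc.res L hVU' g : Γ(L, V)) := by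
    rw [← hr]
    show _ = (r • QCohLoc.res L hVU' g : Γ(L, V))
    rw [QCohLoc.res_self]
  have hloc := GenLocus.genLocus_inf_eq_basicOpen s V (QCohLoc.res L hVU' g) hgV r hr'
  refine ⟨V, hxV, hV, ?_⟩
  rw [← Scheme.Hom.isAffineOpen_iff_of_isOpenImmersion (CohB1.genLocus L s).ι,
    Scheme.Hom.image_preimage_eq_opensRange_inf, Scheme.Opens.opensRange_ι, hloc]
  exact IsAffineOpen.basicOpen hV r

end Groth.Agent.S2350
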