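import Groth.Statements.S2351
import Groth.Agent.Lib.Helper13.Normalization

set_option autoImplicit false
universe u
open CategoryTheory CategoryTheory.Limits AlgebraicGeometry
open EGA2

namespace Groth.Agent.S2351

/-- Let X be an integral scheme and X' → X its normalization (integral closure of X in its function
field). Then X' is integral with integrally closed local rings, the morphism X' → X is surjective,
maps the generic point to the generic point and induces a bijection between the residue fields of
the generic points. (The quasi-compactness/quasi-separatedness binders on Spec K(X) → X always hold;
they are only needed to form Mathlib's relative normalization.) -/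
theorem result (X : Scheme.{u}) [IsIntegral X]
    [QuasiCompact (X.fromSpecStalk (genericPoint X))] [QuasiSeparated (X.fromSpecStalk (genericPoint X))] :
    ∃ (_ : IsIntegral (Curv2.normalization X)), Pi1.IsNormalScheme (Curv2.normalization X) ∧ Surjective (Curv2.normalizationι X) ∧
      ∃ hgen : (Curv2.normalizationι X).base (genericPoint (Curv2.normalization X)) = genericPoint X,
        Function.Bijective ((Curv2.normalizationι X).residueFieldMap (genericPoint (Curv2.normalization X))).hom := by
  have hK : IsField (X.presheaf.stalk (genericPoint X)) := Field.toIsField X.functionField
  have hgη : ∀ pt, (X.fromSpecStalk (genericPoint X)) pt = genericPoint X := by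
    intro pt
    haveI := Lib.Helper13.Normalization.subsingleton_Spec hK
    rw [Subsingleton.elim pt (IsLocalRing.closedPoint _)]
    exact Scheme.fromSpecStalk_closedPoint
  haveI := Lib.Helper13.Normalization.isIntegral_Spec hK
  have hint : IsIntegral (Curv2.normalization X) :=
    inferInstanceAs (IsIntegral (X.fromSpecStalk (genericPoint X)).normalization)
  refine ⟨hint, ?_, ?_, ?_⟩
  · exact fun x' => Lib.Helper13.Normalization.isNormal hK _ hgη x'
  · exact ⟨Lib.Helper13.Normalization.surjective_fromNormalization hK _ hgη⟩
  · have hgen := Lib.Helper13.Normalization.fromNormalization_genericPoint hK _ hgη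
    refine ⟨hgen, ?_⟩
    have key : ∀ x' : (X.fromSpecStalk (genericPoint X)).normalization,
        x' = (X.fromSpecStalk (genericPoint X)).toNormalization (IsLocalRing.closedPoint _) →
        Function.Bijective
          (((X.fromSpecStalk (genericPoint X)).fromNormalization).residueFieldMap x').hom := by
      rintro _ rfl
      refine ⟨RingHom.injective _, ?_⟩
      apply Lib.Helper13.Normalization.residueFieldMap_surjective_of_comp
      have h1 := Lib.Helper13.Normalization.residueFieldMap_surjective_of_stalkMap
        (X.fromSpecStalk (genericPoint X)) (IsLocalRing.closedPoint _)
        (Lib.Helper13.Normalization.stalkMap_fromSpecStalk_bijective X (genericPoint X)).2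
      rw [Scheme.Hom.residueFieldMap_congr
        (X.fromSpecStalk (genericPoint X)).toNormalization_fromNormalization]
      rw [CommRingCat.hom_comp, RingHom.coe_comp]
      exact h1.comp (ConcreteCategory.bijective_of_isIso _).2
    exact key _ (Lib.Helper13.Normalization.toNormalization_eq_genericPoint hK _ _).symm

end Groth.Agent.S2351
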