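import Groth.Statements.S2356
import Groth.Agent.Lib.Helper29.FreeIso5

set_option autoImplicit false
universe u
open CategoryTheory CategoryTheory.Limits AlgebraicGeometry
open EGA2

namespace Groth.Agent.S2356

open TopologicalSpace Opposite
open Groth.Agent.Lib.Helper28.QCohLoc Groth.Agent.Lib.Helper29.QCohStalk Groth.Agent.Lib.Helper29.FreeIso

/-- a finite set of points contains a subset of pairwise non-specialising points to which all its points specialise -/
theorem exists_finset_minimal {α : Type*} [TopologicalSpace α] (Z : Finset α) :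
    ∃ Z' : Finset α, Z' ⊆ Z ∧ (∀ z ∈ Z, ∃ z' ∈ Z', z ⤳ z') ∧
      ∀ z ∈ Z', ∀ w ∈ Z', z ≠ w → ¬ (w ⤳ z) := by
  classical
  induction Z using Finset.induction_on with
  | empty => exact ⟨∅, Finset.Subset.refl _, by simp, by simp⟩
  | insert a S _ ih =>
    obtain ⟨Z', hsub, hcov, hinc⟩ := ih
    by_cases hA : ∃ s' ∈ Z', a ⤳ s'
    · refine ⟨Z', hsub.trans (Finset.subset_insert a S), ?_, hinc⟩
      intro z hz
      rcases Finset.mem_insert.1 hz with rfl | hz
      · exact hA
      · exact hcov z hz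
    · refine ⟨insert a (Z'.filter fun s' => ¬ (s' ⤳ a)), ?_, ?_, ?_⟩
      · intro z hz
        rcases Finset.mem_insert.1 hz with rfl | hz
        · exact Finset.mem_insert_self _ _
        · exact Finset.mem_insert_of_mem (hsub (Finset.mem_filter.1 hz).1)
      · intro z hz
        rcases Finset.mem_insert.1 hz with rfl | hz
        · exact ⟨z, Finset.mem_insert_self _ _, specializes_rfl⟩
        · obtain ⟨s', hs', hzs'⟩ := hcov z hz
          by_cases h : s' ⤳ a
          · exact ⟨a, Finset.mem_insert_self _ _, hzs'.trans h⟩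
          · exact ⟨s', Finset.mem_insert_of_mem (Finset.mem_filter.2 ⟨hs', h⟩), hzs'⟩
      · intro z hz w hw hzw
        rcases Finset.mem_insert.1 hz with rfl | hz
        · rcases Finset.mem_insert.1 hw with rfl | hw
          · exact absurd rfl hzw
          · exact (Finset.mem_filter.1 hw).2
        · rcases Finset.mem_insert.1 hw with rfl | hw
          · intro h
            exact hA ⟨z, (Finset.mem_filter.1 hz).1, h⟩
          · exact hinc z (Finset.mem_filter.1 hz).1 w (Finset.mem_filter.1 hw).1 hzw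

/-- Let Y be a scheme, E a locally free O_Y-module of rank r, and Z a finite set of points of Y
contained in an affine open V. Then there is an open neighbourhood U ⊆ V of Z on which E is free of
rank r. -/
theorem result (Y : Scheme.{u}) (r : ℕ) (E : Y.Modules) (hE : FlatMod.IsFinLocFreeOfRank r E)
    (Z : Set Y) (hZ : Z.Finite) (V : Y.Opens) (hV : IsAffineOpen V) (hZV : Z ⊆ V) :
    ∃ U : Y.Opens, Z ⊆ U ∧ U ≤ V ∧ Nonempty (E.restrict U.ι ≅ FlatMod.freeMod (U : Scheme.{u}) r) := by
  obtain ⟨Z', hsub, hcov, hinc⟩ := exists_finset_minimal hZ.toFinset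
  have hZ'V : ∀ z ∈ Z', z ∈ V := fun z hz => hZV (hZ.mem_toFinset.1 (hsub hz))
  obtain ⟨σ, f, hf⟩ := exists_isBasisOn_nhds_of_finset E hE hV Z' hZ'V hinc
  have hbasis := isBasisOn_iSup E (fun z : {z // z ∈ Z'} => Y.basicOpen (f z.1))
    (fun z => Y.basicOpen_le (f z.1)) σ (fun z => (hf z.1 z.2).2)
  refine ⟨⨆ z : {z // z ∈ Z'}, Y.basicOpen (f z.1), ?_, iSup_le fun z => Y.basicOpen_le (f z.1),
    hbasis.nonempty_iso⟩
  intro z hz
  obtain ⟨z', hz', hzz'⟩ := hcov z (hZ.mem_toFinset.2 hz)
  exact Opens.mem_iSup.2 ⟨⟨z', hz'⟩, hzz'.mem_open (Y.basicOpen (f z')).isOpen (hf z' hz').1⟩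



end Groth.Agent.S2356
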