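import Groth.Statements.S2457
import Groth.Agent.Lib.Helper5.CohenRingLift
import Groth.Agent.Lib.Helper5.DvrIso

set_option autoImplicit false
universe u
open EGA41

namespace Groth.Agent.S2457

open IsLocalRing in
/-- Let W and W' be Cohen rings with residue fields K and K' and u : K ≅ K' an isomorphism. Then u is
induced by some isomorphism v : W ≅ W'. -/
theorem result {W W' : Type u} [CommRing W] [IsLocalRing W] [CommRing W'] [IsLocalRing W']
    (hW : EGA41.IsCohenRingEGA W) (hW' : EGA41.IsCohenRingEGA W') (u : ResidueField W ≃+* ResidueField W') :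
    ∃ v : W ≃+* W', ∀ x : W, residue W' (v x) = u (residue W x) := by
  open Groth.Agent.Lib.Helper5 in
  -- residue map of a field is bijective
  have hbij : ∀ (V : Type u) [CommRing V] [IsLocalRing V], IsField V →
      Function.Bijective (residue V) := by
    intro V _ _ hV
    refine ⟨?_, residue_surjective⟩
    rw [injective_iff_map_eq_zero]
    intro x hx
    have h1 : x ∈ maximalIdeal V := (residue_eq_zero_iff x).mp hx
    rw [(isField_iff_maximalIdeal_eq.mp hV)] at h1
    exact h1
  -- a field of characteristic zero and a Cohen ring have different residue characteristics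
  have hmixed : ∀ (V V' : Type u) [CommRing V] [IsLocalRing V] [CommRing V'] [IsLocalRing V'],
      IsField V → CharZero V → CAlg.IsCohenRing V' →
      (ResidueField V ≃+* ResidueField V') → False := by
    intro V V' _ _ _ _ hV hchar hV' e
    obtain ⟨_, _, -, p, hp, hmax⟩ := hV'
    have h1 : residue V' (p : V') = 0 := by
      rw [residue_eq_zero_iff, hmax]
      exact Ideal.subset_span rfl
    have h2 : residue V (p : V) = 0 := by
      apply e.injective
      rw [map_zero, map_natCast, map_natCast, ← map_natCast (residue V'), h1]
    have h3 : (p : V) = 0 := (hbij V hV).1 (by rw [h2, map_zero])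
    exact hp.ne_zero (Nat.cast_eq_zero.mp h3)
  rcases hW with ⟨hf, hc⟩ | hcoh
  · rcases hW' with ⟨hf', hc'⟩ | hcoh'
    · let e : W ≃+* ResidueField W := RingEquiv.ofBijective (residue W) (hbij W hf)
      let e' : W' ≃+* ResidueField W' := RingEquiv.ofBijective (residue W') (hbij W' hf')
      refine ⟨e.trans (u.trans e'.symm), fun x => ?_⟩
      change e' (e'.symm (u (e x))) = u (residue W x)
      rw [RingEquiv.apply_symm_apply]
      rfl
    · exact (hmixed W W' hf hc hcoh' u).elim
  · rcases hW' with ⟨hf', hc'⟩ | hcoh'
    · exact (hmixed W' W hf' hc' hcoh u.symm).elim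
    · obtain ⟨p, hp, hmax, hfs⟩ := CohenRingSmoothU.isFSA_int_of_isCohenRing W hcoh
      obtain ⟨hdom, hdvr, hcompl, -⟩ := hcoh
      obtain ⟨hdom', hdvr', hcompl', p', hp', hmax'⟩ := hcoh'
      -- the residue characteristics agree
      have hpp : (p : W') ∈ maximalIdeal W' := by
        rw [← residue_eq_zero_iff, map_natCast, ← map_natCast u, ← map_natCast (residue W),
          (residue_eq_zero_iff _).mpr (by rw [hmax]; exact Ideal.subset_span rfl), map_zero]
      have hpeq : p = p' := by
        by_contra hne
        have hcop : Nat.Coprime p' p := (Nat.coprime_primes hp' hp).2 (Ne.symm hne)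
        have h1 : ((p' : ℤ) : W') * ((Nat.gcdA p' p : ℤ) : W') +
            ((p : ℤ) : W') * ((Nat.gcdB p' p : ℤ) : W') = 1 := by
          have := Nat.gcd_eq_gcd_ab p' p
          rw [hcop.gcd_eq_one] at this
          have h2 := congrArg (fun z : ℤ => (z : W')) this
          simp only [Int.cast_add, Int.cast_mul, Nat.cast_one, Int.cast_one] at h2
          exact h2.symm
        have h3 : (1 : W') ∈ maximalIdeal W' := by
          rw [← h1, Int.cast_natCast, Int.cast_natCast]
          apply Ideal.add_mem
          · apply Ideal.mul_mem_right
            rw [hmax']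
            exact Ideal.subset_span rfl
          · exact Ideal.mul_mem_right _ _ hpp
        exact (maximalIdeal.isMaximal W').ne_top ((Ideal.eq_top_iff_one _).mpr h3)
      subst hpeq
      let u₀ : W →+* W' ⧸ maximalIdeal W' := (u : ResidueField W →+* ResidueField W').comp (residue W)
      have hloc : IsLocalHom u₀ := ⟨fun x hx => by
        by_contra hxu
        have h1 : residue W x = 0 := (residue_eq_zero_iff x).mpr ((mem_maximalIdeal x).mpr hxu)
        have h2 : u₀ x = 0 := by
          change u (residue W x) = 0
          rw [h1, map_zero]
        rw [h2] at hx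
        exact not_isUnit_zero hx⟩
      have hloc' : IsLocalRing (W' ⧸ maximalIdeal W') :=
        inferInstanceAs (IsLocalRing (ResidueField W'))
      obtain ⟨v, hvloc, hv⟩ := CohenRingLift.exists_local_lift (Ideal.span {(p : ℤ)})
        (maximalIdeal W) hfs (by
          rw [Ideal.map_span, Set.image_singleton, hmax]
          simp) le_rfl (maximalIdeal W')
        (maximalIdeal.isMaximal W').ne_top u₀
      have hv' : ∀ x, residue W' (v x) = u (residue W x) := fun x => congrArg (fun f => f x) hv
      have hmap : (maximalIdeal W).map v = maximalIdeal W' := by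
        rw [hmax, hmax', Ideal.map_span, Set.image_singleton, map_natCast]
      have hb : Function.Bijective v := by
        apply DvrIso.bijective_of_map_maximalIdeal v hmap
        intro y
        obtain ⟨x, hx⟩ := u.surjective y
        obtain ⟨w, rfl⟩ := residue_surjective x
        exact ⟨w, by rw [← hx]; exact hv' w⟩
      exact ⟨RingEquiv.ofBijective v hb, hv'⟩

end Groth.Agent.S2457
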