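import Groth.Statements.S2459
import Groth.Agent.Lib.Helper12.CohenStructB

set_option autoImplicit false
universe u
open EGA41

namespace Groth.Agent.S2459

open IsLocalRing in
/-- Let A be an Artinian local ring with maximal ideal 𝔪 and residue field of characteristic p (p = 0
allowed). Then A is isomorphic to a quotient of a Cohen ring if and only if 𝔪 is generated by p·1. -/
theorem result {A : Type u} [CommRing A] [IsLocalRing A] [IsArtinianRing A]
    (p : ℕ) [CharP (ResidueField A) p] :
    (∃ (W : Type u) (_ : CommRing W) (I : Ideal W), EGA41.IsCohenRingEGA W ∧ Nonempty (A ≃+* W ⧸ I)) ↔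
      maximalIdeal A = Ideal.span {(p : A)} := by
  have injective_of_isField : ∀ {W B : Type u} [CommRing W] [CommRing B] [Nontrivial B]
      (_ : IsField W) (g : W →+* B), Function.Injective g := by
    intro W B _ _ _ h g
    rw [injective_iff_map_eq_zero]
    intro x hx
    by_contra hx0
    obtain ⟨y, hy⟩ := h.mul_inv_cancel hx0
    have := congrArg g hy
    rw [map_mul, hx, zero_mul, map_one] at this
    exact zero_ne_one this
  constructor
  · rintro ⟨W, iW, I, hW, ⟨e⟩⟩
    let f : W →+* A := (e.symm : W ⧸ I →+* A).comp (Ideal.Quotient.mk I)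
    have hf : Function.Surjective f := e.symm.surjective.comp Ideal.Quotient.mk_surjective
    rcases hW with ⟨hfield, hchar⟩ | hcohen
    · have hinj : Function.Injective f := injective_of_isField hfield f
      have hAfield : IsField A :=
        MulEquiv.isField hfield (RingEquiv.ofBijective f ⟨hinj, hf⟩).symm.toMulEquiv
      have hmbot : maximalIdeal A = ⊥ := (IsLocalRing.isField_iff_maximalIdeal_eq).mp hAfield
      have hcz : CharZero (ResidueField A) :=
        charZero_of_injective_ringHom (injective_of_isField hfield ((residue A).comp f))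
      have hp0 : p = 0 := CharP.eq (ResidueField A) inferInstance (CharP.ofCharZero _)
      rw [hmbot, hp0, Nat.cast_zero]
      exact (Ideal.span_singleton_eq_bot.mpr rfl).symm
    · obtain ⟨hdom, hdvr, -, q, hq, hmW⟩ := hcohen
      have hmap := Groth.Agent.Lib.Helper12.CohenStruct.map_maximalIdeal_of_surjective f hf
      rw [hmW, Ideal.map_span, Set.image_singleton, map_natCast] at hmap
      have hq0 : ((q : ℕ) : ResidueField A) = 0 := by
        have h1 : ((q : ℕ) : A) ∈ maximalIdeal A := by
          rw [← hmap]
          exact Ideal.mem_span_singleton_self _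
        have h2 := (residue_eq_zero_iff _).mpr h1
        rwa [map_natCast] at h2
      have hdvd : p ∣ q := (CharP.cast_eq_zero_iff (ResidueField A) p q).mp hq0
      have hp1 : p ≠ 1 := CharP.char_ne_one (ResidueField A) p
      have hpq : p = q := ((Nat.dvd_prime hq).mp hdvd).resolve_left hp1
      rw [hpq]
      exact hmap.symm
  · intro hm
    rcases CharP.char_is_prime_or_zero (ResidueField A) p with hpp | hp0
    · haveI : Fact p.Prime := ⟨hpp⟩
      obtain ⟨Λ, i1, v, hΛ, hv⟩ :=
        Groth.Agent.Lib.Helper12.CohenStruct.exists_cohenRing_surjective_of_artinian A p hm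
      exact ⟨Λ, i1, RingHom.ker v, Or.inr hΛ, ⟨(RingHom.quotientKerEquivOfSurjective hv).symm⟩⟩
    · subst hp0
      have hmbot : maximalIdeal A = ⊥ := by
        rw [hm, Nat.cast_zero, Ideal.span_singleton_eq_bot]
      have hfield : IsField A := (IsLocalRing.isField_iff_maximalIdeal_eq).mpr hmbot
      have hcz : CharZero A := by
        haveI : CharZero (ResidueField A) := CharP.charP_to_charZero _
        refine charZero_of_inj_zero fun n hn => ?_
        have h1 := congrArg (residue A) hn
        rw [map_natCast, map_zero] at h1
        exact Nat.cast_eq_zero.mp h1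
      exact ⟨A, inferInstance, ⊥, Or.inl ⟨hfield, hcz⟩, ⟨(RingEquiv.quotientBot A).symm⟩⟩

end Groth.Agent.S2459
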