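import Groth.Statements.S2461
import Groth.Agent.Lib.Helper5.AdicComplSmooth

set_option autoImplicit false
universe u
open EGA41

namespace Groth.Agent.S2461

/-- Let A carry the 𝔞-adic topology and let B be a Noetherian A-algebra with the 𝔟-adic topology. Then B
is formally smooth over A if and only if the 𝔟-adic completion of B, with the adic topology of the
extended ideal, is formally smooth over A. -/
theorem result {A B : Type u} [CommRing A] (𝔞 : Ideal A) [CommRing B] [IsNoetherianRing B] [Algebra A B] (𝔟 : Ideal B) :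
    EGA41.IsFormallySmoothAdic A 𝔞 B 𝔟 ↔
      EGA41.IsFormallySmoothAdic A 𝔞 (AdicCompletion 𝔟 B) (𝔟.map (algebraMap B (AdicCompletion 𝔟 B))) :=
  ⟨Lib.Helper5.AdicComplSmooth.isFormallySmoothAdic_completion_of 𝔟 𝔞
      (IsNoetherian.noetherian 𝔟),
    Lib.Helper5.AdicComplSmooth.isFormallySmoothAdic_of_completion 𝔟 𝔞⟩

end Groth.Agent.S2461
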