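import Groth.Statements.S2462
import Groth.Agent.Lib.Helper5.AdicLift
import Mathlib.RingTheory.AdicCompletion.Noetherian

set_option autoImplicit false
universe u
open EGA41

namespace Groth.Agent.S2462

open IsLocalRing in
/-- Let A carry the 𝔞-adic and B the 𝔟-adic topology with B formally smooth over A; let C be a complete
Noetherian local A-algebra with 𝔞C inside the maximal ideal (continuity of A → C) and J ≠ C an
ideal. Then every A-algebra homomorphism u : B → C/J sending 𝔟 into the maximal ideal of C/J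
(continuity) is induced by an A-algebra homomorphism v : B → C sending 𝔟 into the maximal ideal of
C. -/
theorem result {A B C : Type u} [CommRing A] (𝔞 : Ideal A) [CommRing B] [Algebra A B] (𝔟 : Ideal B)
    (hB : EGA41.IsFormallySmoothAdic A 𝔞 B 𝔟)
    [CommRing C] [IsLocalRing C] [IsNoetherianRing C] [IsAdicComplete (maximalIdeal C) C] [Algebra A C]
    (hA : 𝔞.map (algebraMap A C) ≤ maximalIdeal C) (J : Ideal C) (hJ : J ≠ ⊤)
    (u : B →ₐ[A] C ⧸ J) (hu : 𝔟.map u.toRingHom ≤ (maximalIdeal C).map (Ideal.Quotient.mk J)) :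
    ∃ v : B →ₐ[A] C, 𝔟.map v.toRingHom ≤ maximalIdeal C ∧ (Ideal.Quotient.mkₐ A J).comp v = u := by
  have hJle : J ≤ maximalIdeal C := IsLocalRing.le_maximalIdeal hJ
  have : Nontrivial (C ⧸ J) := Ideal.Quotient.nontrivial_iff.2 hJ
  have : IsLocalRing (C ⧸ J) :=
    IsLocalRing.of_surjective' (Ideal.Quotient.mk J) Ideal.Quotient.mk_surjective
  have hne : (maximalIdeal C).map (Ideal.Quotient.mk J) ≠ ⊤ := by
    intro htop
    have h1 : (1 : C ⧸ J) ∈ (maximalIdeal C).map (Ideal.Quotient.mk J) := by rw [htop]; trivial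
    obtain ⟨c, hc, hc1⟩ := (Ideal.mem_map_iff_of_surjective _ Ideal.Quotient.mk_surjective).1 h1
    have hdc : c - 1 ∈ J := Ideal.Quotient.eq.1 (by rw [hc1, map_one])
    have h2 : (1 : C) ∈ maximalIdeal C := by
      have : (1 : C) = c - (c - 1) := by ring
      rw [this]
      exact Ideal.sub_mem _ hc (hJle hdc)
    exact (Ideal.ne_top_iff_one _).1 (maximalIdeal.isMaximal C).ne_top h2
  have : IsHausdorff ((maximalIdeal C).map (Ideal.Quotient.mk J)) (C ⧸ J) :=
    IsHausdorff.of_isLocalRing _ _ hne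
  obtain ⟨v, ⟨k, hk⟩, hv⟩ := Lib.Helper5.AdicLift.exists_lift_adicComplete 𝔞 𝔟 (maximalIdeal C) hB
    ⟨1, by rwa [pow_one]⟩ J ⟨1, by rwa [pow_one]⟩ u ⟨1, by rwa [pow_one]⟩
  refine ⟨v, ?_, hv⟩
  rw [Ideal.map_le_iff_le_comap]
  intro x hx
  have hvx : Ideal.Quotient.mk J (v x) = u x := AlgHom.congr_fun hv x
  have h1 : u x ∈ (maximalIdeal C).map (Ideal.Quotient.mk J) :=
    hu (Ideal.mem_map_of_mem u.toRingHom hx)
  obtain ⟨c, hc, hcu⟩ := (Ideal.mem_map_iff_of_surjective _ Ideal.Quotient.mk_surjective).1 h1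
  have hdc : c - v x ∈ J := Ideal.Quotient.eq.1 (by rw [hcu, hvx])
  rw [Ideal.mem_comap]
  have : v x = c - (c - v x) := by ring
  change v x ∈ maximalIdeal C
  rw [this]
  exact Ideal.sub_mem _ hc (hJle hdc)

end Groth.Agent.S2462
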