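import Groth.Statements.S2464
import Groth.Agent.Lib.Helper5.PBasisBase

set_option autoImplicit false
universe u
open EGA41

namespace Groth.Agent.S2464

/-- Let p be a prime, B a ring of characteristic p and A → B an injective ring map whose image contains
every p-th power, and (x_α) a p-basis of B over A. Let E be an A-algebra and q : E → B a surjective
A-algebra homomorphism whose kernel K has K^p = 0. (i) q admits an A-algebra right inverse if and
only if, for all z ∈ E and a ∈ A with a ↦ q(z)^p in B, the image of a in E is z^p. (ii) When this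
holds, for every family (z_α) in E with q(z_α) = x_α there is a unique A-algebra homomorphism v : B
→ E with v(x_α) = z_α for all α, and q ∘ v is the identity. -/
theorem result (p : ℕ) [Fact p.Prime] {A B : Type u} [CommRing A] [CommRing B] [Algebra A B] [CharP B p]
    (hinj : Function.Injective (algebraMap A B)) (hpow : ∀ b : B, b ^ p ∈ Set.range (algebraMap A B))
    {ι : Type u} (x : ι → B) (hx : EGA41.IsPBasis p A x)
    {E : Type u} [CommRing E] [Algebra A E] (q : E →ₐ[A] B) (hq : Function.Surjective q) (hK : RingHom.ker q.toRingHom ^ p = ⊥) :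
    ((∃ v : B →ₐ[A] E, q.comp v = AlgHom.id A B) ↔ ∀ (z : E) (a : A), algebraMap A B a = q z ^ p → algebraMap A E a = z ^ p) ∧
    ((∀ (z : E) (a : A), algebraMap A B a = q z ^ p → algebraMap A E a = z ^ p) →
      ∀ z : ι → E, (∀ i, q (z i) = x i) →
        (∃! v : B →ₐ[A] E, ∀ i, v (x i) = z i) ∧ ∀ v : B →ₐ[A] E, (∀ i, v (x i) = z i) → q.comp v = AlgHom.id A B) := by
  have hp : p.Prime := Fact.out
  have hp0 : 0 < p := hp.pos
  have hli := Lib.Helper5.PBasis.li_base p x hinj hx.1
  have hsp := Lib.Helper5.PBasis.span_base p hpow x hx.2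
  choose c hc using fun i => hpow (x i)
  -- the second part
  have part2 : (∀ (z : E) (a : A), algebraMap A B a = q z ^ p → algebraMap A E a = z ^ p) →
      ∀ z : ι → E, (∀ i, q (z i) = x i) →
        (∃! v : B →ₐ[A] E, ∀ i, v (x i) = z i) ∧
          ∀ v : B →ₐ[A] E, (∀ i, v (x i) = z i) → q.comp v = AlgHom.id A B := by
    intro hstar z hz
    have hzp : ∀ i, z i ^ p = algebraMap A E (c i) := fun i =>
      (hstar (z i) (c i) (by rw [hc i, hz i])).symm
    have hcomp : ∀ v : B →ₐ[A] E, (∀ i, v (x i) = z i) → q.comp v = AlgHom.id A B := by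
      intro v hv
      have : (q.comp v : B →ₐ[A] B).toRingHom = (AlgHom.id A B).toRingHom := by
        apply Lib.Helper5.PBasis.ringHom_ext_of_span p x hsp
        · intro a
          change q (v (algebraMap A B a)) = algebraMap A B a
          rw [AlgHom.commutes, AlgHom.commutes]
        · intro i
          change q (v (x i)) = x i
          rw [hv i, hz i]
      exact AlgHom.ext (fun b => RingHom.congr_fun this b)
    refine ⟨?_, hcomp⟩
    let v₀ : B →+* E := Lib.Helper5.PBasis.vhom p x c hc hli hsp (algebraMap A E) z hzp hp0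
    let v : B →ₐ[A] E :=
      { v₀ with
        commutes' := fun a =>
          Lib.Helper5.PBasis.vhom_algebraMap p x c hc hli hsp (algebraMap A E) z hzp hp0 a }
    refine ⟨v, fun i => Lib.Helper5.PBasis.vhom_x p x c hc hli hsp (algebraMap A E) z hzp hp0 i, ?_⟩
    intro v' hv'
    have : v'.toRingHom = v.toRingHom := by
      apply Lib.Helper5.PBasis.ringHom_ext_of_span p x hsp
      · intro a
        change v' (algebraMap A B a) = v (algebraMap A B a)
        rw [AlgHom.commutes, AlgHom.commutes]
      · intro i
        change v' (x i) = v (x i)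
        rw [hv' i]
        exact (Lib.Helper5.PBasis.vhom_x p x c hc hli hsp (algebraMap A E) z hzp hp0 i).symm
    exact AlgHom.ext (fun b => RingHom.congr_fun this b)
  refine ⟨⟨?_, ?_⟩, part2⟩
  · rintro ⟨v, hv⟩ z a ha
    have hpA : (p : A) = 0 := by
      apply hinj
      rw [map_natCast, map_zero]
      exact CharP.cast_eq_zero B p
    have hpE : (p : E) = 0 := by
      rw [← map_natCast (algebraMap A E), hpA, map_zero]
    have hker : z - v (q z) ∈ RingHom.ker q.toRingHom := by
      rw [RingHom.mem_ker]
      change q (z - v (q z)) = 0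
      rw [map_sub]
      have : q (v (q z)) = q z := AlgHom.congr_fun hv (q z)
      rw [this, sub_self]
    have hzero : (z - v (q z)) ^ p = 0 := by
      have : (z - v (q z)) ^ p ∈ RingHom.ker q.toRingHom ^ p := Ideal.pow_mem_pow hker p
      rw [hK] at this
      exact this
    obtain ⟨r, hr⟩ := exists_add_pow_prime_eq hp (z - v (q z)) (v (q z))
    rw [sub_add_cancel, hzero, hpE, zero_mul, zero_mul, zero_mul, add_zero, zero_add] at hr
    rw [hr, ← map_pow, ← ha, AlgHom.commutes]
  · intro hstar
    choose z hz using fun i => hq (x i)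
    obtain ⟨⟨v, hv, -⟩, hcomp⟩ := part2 hstar z hz
    exact ⟨v, hcomp v hv⟩

end Groth.Agent.S2464
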