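import Groth.Statements.S2465
import Groth.Agent.Lib.Helper5.PBasisDer

set_option autoImplicit false
universe u
open EGA41

namespace Groth.Agent.S2465

/-- Let p be a prime, B a ring of characteristic p, A → B injective with image containing all p-th
powers, (x_α) a p-basis of B over A, and L a B-module. (i) An additive derivation D : A → L extends
to a derivation of B if and only if D vanishes on the elements of A mapping to p-th powers. (ii) In
that case, for every family (y_α) in L there is a unique derivation D' of B into L extending D with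
D'(x_α) = y_α for all α. -/
theorem result (p : ℕ) [Fact p.Prime] {A B : Type u} [CommRing A] [CommRing B] [Algebra A B] [CharP B p]
    (hinj : Function.Injective (algebraMap A B)) (hpow : ∀ b : B, b ^ p ∈ Set.range (algebraMap A B))
    {ι : Type u} (x : ι → B) (hx : EGA41.IsPBasis p A x)
    (L : Type u) [AddCommGroup L] [Module B L] [Module A L] [IsScalarTower A B L] (D : Derivation ℤ A L) :
    ((∃ D' : Derivation ℤ B L, ∀ a : A, D' (algebraMap A B a) = D a) ↔ ∀ (a : A) (b : B), algebraMap A B a = b ^ p → D a = 0) ∧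
    ((∀ (a : A) (b : B), algebraMap A B a = b ^ p → D a = 0) →
      ∀ y : ι → L, ∃! D' : Derivation ℤ B L, (∀ a : A, D' (algebraMap A B a) = D a) ∧ ∀ i, D' (x i) = y i) := by
  have hp : p.Prime := Fact.out
  have hp0 : 0 < p := hp.pos
  have hli := Lib.Helper5.PBasis.li_base p x hinj hx.1
  have hsp := Lib.Helper5.PBasis.span_base p hpow x hx.2
  choose c hc using fun i => hpow (x i)
  have hpB : (p : B) = 0 := CharP.cast_eq_zero B p
  have hd₀ : ∀ r r' : A, (D : A →+ L) (r * r') =
      algebraMap A B r • (D : A →+ L) r' + algebraMap A B r' • (D : A →+ L) r := by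
    intro r r'
    change D (r * r') = algebraMap A B r • D r' + algebraMap A B r' • D r
    rw [Derivation.leibniz, algebraMap_smul, algebraMap_smul]
  have part2 : (∀ (a : A) (b : B), algebraMap A B a = b ^ p → D a = 0) →
      ∀ y : ι → L, ∃! D' : Derivation ℤ B L,
        (∀ a : A, D' (algebraMap A B a) = D a) ∧ ∀ i, D' (x i) = y i := by
    intro hD y
    obtain ⟨D', h1, h2⟩ := Lib.Helper5.PBasis.exists_derivation_extending p x c hc hli hsp
      (D : A →+ L) hd₀ hp0 hpB (fun i => hD (c i) (x i) (hc i)) y
    refine ⟨D', ⟨h1, h2⟩, ?_⟩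
    rintro D'' ⟨h1', h2'⟩
    apply Lib.Helper5.PBasis.derivation_ext_of_span p x hsp
    · intro r
      rw [h1', h1]
      rfl
    · intro i
      rw [h2', h2]
  refine ⟨⟨?_, ?_⟩, part2⟩
  · rintro ⟨D', hD'⟩ a b hab
    rw [← hD', hab, Derivation.leibniz_pow, ← Nat.cast_smul_eq_nsmul B, hpB, zero_smul]
  · intro hD
    obtain ⟨D', ⟨h1, -⟩, -⟩ := part2 hD (fun _ => 0)
    exact ⟨D', h1⟩

end Groth.Agent.S2465
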