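import Groth.Statements.S2467
import Groth.Agent.Lib.Helper5.PBasisField

set_option autoImplicit false
universe u
open EGA41

namespace Groth.Agent.S2467

/-- Let k ⊆ K be fields of characteristic p > 0, S ⊆ K a system of p-generators of K over k and L ⊆ S a
subset which is p-free over k. Then there is a p-basis B of K over k with L ⊆ B ⊆ S. In particular
every extension of k has a p-basis over k. -/
theorem result (p : ℕ) [Fact p.Prime] {k K : Type u} [Field k] [Field K] [Algebra k K] [CharP K p]
    (S L : Set K) (hLS : L ⊆ S) (hS : EGA41.IsPGenerating p k (Subtype.val : S → K)) (hL : EGA41.IsPIndependent p k (Subtype.val : L → K)) :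
    ∃ B : Set K, L ⊆ B ∧ B ⊆ S ∧ EGA41.IsPBasis p k (Subtype.val : B → K) := by
  have hL' : LinearIndepOn K (fun y : K => KaehlerDifferential.D k K y) L :=
    Lib.Helper5.PBasis.linearIndependent_D_of_isPIndependent p (Subtype.val : L → K) hL
  have hpK : (p : K) = 0 := CharP.cast_eq_zero K p
  have hS' := Lib.Helper5.PBasis.span_D_eq_top p k (Subtype.val : S → K) hpK hS
  obtain ⟨B, hBS, hLB, hspan, hli⟩ := exists_linearIndepOn_extension hL' hLS
  refine ⟨B, hLB, hBS, ?_, ?_⟩
  · exact Lib.Helper5.PBasis.isPIndependent_of_linearIndependent_D p (Subtype.val : B → K) hli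
  · apply Lib.Helper5.PBasis.isPGenerating_of_span_D_field p (Subtype.val : B → K)
    rw [eq_top_iff, ← hS', Submodule.span_le]
    rintro _ ⟨s, rfl⟩
    have h1 := hspan ⟨s.1, s.2, rfl⟩
    have h2 : ((fun y : K => KaehlerDifferential.D k K y) '' B) =
        Set.range fun i : B => KaehlerDifferential.D k K (i : K) := by
      ext ω
      constructor
      · rintro ⟨y, hy, rfl⟩
        exact ⟨⟨y, hy⟩, rfl⟩
      · rintro ⟨y, rfl⟩
        exact ⟨y.1, y.2, rfl⟩
    rw [h2] at h1
    exact h1

end Groth.Agent.S2467
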