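import Groth.Statements.S2468
import Groth.Agent.Lib.Helper5.PBasisField

set_option autoImplicit false
universe u
open EGA41

namespace Groth.Agent.S2468

/-- Let k ⊆ K be fields of characteristic p > 0 and (x_α) a family of elements of K. Then (x_α) is
p-free over k if and only if the d_{K/k} x_α are linearly independent over K; it is a system of
p-generators of K over k if and only if the d x_α span Ω_{K/k}; and it is a p-basis if and only if
the d x_α form a basis of Ω_{K/k} (stated as the existence of a K-basis of Ω_{K/k} indexed by the
same index set whose members are the d x_α). (With the empty family the second equivalence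
specializes to: Ω_{K/k} = 0 iff K = k(K^p).) -/
theorem result (p : ℕ) [Fact p.Prime] {k K : Type u} [Field k] [Field K] [Algebra k K] [CharP K p]
    {ι : Type u} (x : ι → K) :
    (EGA41.IsPIndependent p k x ↔ LinearIndependent K (fun i => KaehlerDifferential.D k K (x i))) ∧
    (EGA41.IsPGenerating p k x ↔ Submodule.span K (Set.range fun i => KaehlerDifferential.D k K (x i)) = ⊤) ∧
    (EGA41.IsPBasis p k x ↔ ∃ b : Module.Basis ι K (Ω[K⁄k]), ∀ i, b i = KaehlerDifferential.D k K (x i)) := by
  have hpK : (p : K) = 0 := CharP.cast_eq_zero K p
  have hp : p.Prime := Fact.out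
  have h1 : EGA41.IsPIndependent p k x ↔
      LinearIndependent K (fun i => KaehlerDifferential.D k K (x i)) :=
    ⟨Lib.Helper5.PBasis.linearIndependent_D_of_isPIndependent p x,
      Lib.Helper5.PBasis.isPIndependent_of_linearIndependent_D p x⟩
  have h2 : EGA41.IsPGenerating p k x ↔
      Submodule.span K (Set.range fun i => KaehlerDifferential.D k K (x i)) = ⊤ :=
    ⟨Lib.Helper5.PBasis.span_D_eq_top p k x hpK,
      Lib.Helper5.PBasis.isPGenerating_of_span_D_field p x⟩
  refine ⟨h1, h2, ?_, ?_⟩
  · intro hx
    exact Lib.Helper5.PBasis.exists_basis_kaehler p x hp.pos hpK hx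
  · rintro ⟨b, hb⟩
    have hfun : (fun i => KaehlerDifferential.D k K (x i)) = b := funext fun i => (hb i).symm
    refine ⟨h1.2 ?_, h2.2 ?_⟩
    · rw [hfun]; exact b.linearIndependent
    · rw [hfun]; exact b.span_eq

end Groth.Agent.S2468
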