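import Groth.Statements.S2470
import Groth.Agent.S5769
import Groth.Agent.S2082
import Groth.Agent.S10834
import Groth.Agent.Lib.Helper5.RegFlatFiber
import Groth.Agent.Lib.Helper5.SerreFlat
import Groth.Agent.Lib.Helper5.SerreLoc

set_option autoImplicit false
universe u
open EGA41

namespace Groth.Agent.S2470

section Aux

open IsLocalRing

variable {A B : Type u} [CommRing A] [IsLocalRing A] [IsNoetherianRing A] [CommRing B]
  [IsLocalRing B] [IsNoetherianRing B] [Algebra A B] [IsLocalHom (algebraMap A B)]
  [IsLocalRing (B ⧸ (maximalIdeal A).map (algebraMap A B))]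

theorem dim_eq_of_flat [Module.Flat A B] :
    ringKrullDim B = ringKrullDim A +
      ringKrullDim (B ⧸ (maximalIdeal A).map (algebraMap A B)) := by
  have hover : (maximalIdeal B).LiesOver (maximalIdeal A) :=
    ⟨(IsLocalRing.maximalIdeal_comap (algebraMap A B)).symm⟩
  have h3 := Ideal.height_eq_height_add_of_liesOver_of_hasGoingDown (maximalIdeal A)
    (maximalIdeal B)
  have hmax : (maximalIdeal B).map
      (Ideal.Quotient.mk ((maximalIdeal A).map (algebraMap A B))) =
      maximalIdeal (B ⧸ (maximalIdeal A).map (algebraMap A B)) :=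
    (Groth.Agent.Lib.helper19.maximalIdeal_quotient _).symm
  rw [hmax] at h3
  rw [← IsLocalRing.maximalIdeal_height_eq_ringKrullDim (R := B), h3, WithBot.coe_add,
    IsLocalRing.maximalIdeal_height_eq_ringKrullDim,
    IsLocalRing.maximalIdeal_height_eq_ringKrullDim]

theorem embdim_le :
    (maximalIdeal B).spanFinrank ≤ (maximalIdeal A).spanFinrank +
      (maximalIdeal (B ⧸ (maximalIdeal A).map (algebraMap A B))).spanFinrank := by
  have hIle : (maximalIdeal A).map (algebraMap A B) ≤ maximalIdeal B :=
    ((IsLocalRing.local_hom_TFAE (algebraMap A B)).out 0 2).mp ‹_›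
  have h1 := Groth.Agent.Lib.Helper5.RegFlatFiber.spanFinrank_maximalIdeal_le_quotient_add
    ((maximalIdeal A).map (algebraMap A B)) hIle
  have h2 : ((maximalIdeal A).map (algebraMap A B)).spanFinrank ≤ (maximalIdeal A).spanFinrank :=
    Ideal.spanFinrank_map_le_of_fg _ (IsNoetherian.noetherian _)
  omega

theorem regular_iff_nat (R : Type u) [CommRing R] [IsLocalRing R] [IsNoetherianRing R] (d : ℕ)
    (hd : ringKrullDim R = d) : IsRegularLocalRing R ↔ (maximalIdeal R).spanFinrank = d := by
  rw [isRegularLocalRing_iff, hd]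
  exact Nat.cast_inj

theorem dim_le_nat (R : Type u) [CommRing R] [IsLocalRing R] [IsNoetherianRing R] (d : ℕ)
    (hd : ringKrullDim R = d) : d ≤ (maximalIdeal R).spanFinrank := by
  have h := ringKrullDim_le_spanFinrank_maximalIdeal R
  rw [hd] at h
  exact_mod_cast h

end Aux

open IsLocalRing in
/-- Let A → B be a local homomorphism of Noetherian local rings with maximal ideals 𝔪, 𝔫 and residue
fields k, k', and let B₀ = B/𝔪B be the closed fibre. The following are equivalent: (a) B is regular
and the canonical map (𝔪/𝔪²) ⊗_k k' → 𝔫/𝔫² is injective — stated here through dimensions, as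
rank_{k'} 𝔫/𝔫² = rank_k 𝔪/𝔪² + rank_{k'} of the cotangent space of B₀, which is equivalent since the
cokernel of that map is the cotangent space of B₀; (c) B and B₀ are regular and B is flat over A;
(d) A and B₀ are regular and B is flat over A; (e) A and B₀ are regular and dim B = dim A + dim B₀.
(Condition (b) of the source, on regular systems of parameters, is not stated.) -/
theorem result {A B : Type u} [CommRing A] [IsLocalRing A] [IsNoetherianRing A] [CommRing B] [IsLocalRing B] [IsNoetherianRing B]
    [Algebra A B] [IsLocalHom (algebraMap A B)] [IsLocalRing (B ⧸ (maximalIdeal A).map (algebraMap A B))] :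
    [IsRegularLocalRing B ∧
       Module.finrank (ResidueField B) (CotangentSpace B) =
         Module.finrank (ResidueField A) (CotangentSpace A) +
           Module.finrank (ResidueField (B ⧸ (maximalIdeal A).map (algebraMap A B))) (CotangentSpace (B ⧸ (maximalIdeal A).map (algebraMap A B))),
     IsRegularLocalRing B ∧ IsRegularLocalRing (B ⧸ (maximalIdeal A).map (algebraMap A B)) ∧ Module.Flat A B,
     IsRegularLocalRing A ∧ IsRegularLocalRing (B ⧸ (maximalIdeal A).map (algebraMap A B)) ∧ Module.Flat A B,
     IsRegularLocalRing A ∧ IsRegularLocalRing (B ⧸ (maximalIdeal A).map (algebraMap A B)) ∧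
       ringKrullDim B = ringKrullDim A + ringKrullDim (B ⧸ (maximalIdeal A).map (algebraMap A B))].TFAE := by
  obtain ⟨dA, hdA⟩ := Groth.Agent.Lib.Helper5.SerreLoc.exists_finite_ringKrullDim A
  obtain ⟨dB, hdB⟩ := Groth.Agent.Lib.Helper5.SerreLoc.exists_finite_ringKrullDim B
  obtain ⟨dC, hdC⟩ := Groth.Agent.Lib.Helper5.SerreLoc.exists_finite_ringKrullDim
    (B ⧸ (maximalIdeal A).map (algebraMap A B))
  have hrA := regular_iff_nat A dA hdA
  have hrB := regular_iff_nat B dB hdB
  have hrC := regular_iff_nat (B ⧸ (maximalIdeal A).map (algebraMap A B)) dC hdC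
  have hlA := dim_le_nat A dA hdA
  have hlB := dim_le_nat B dB hdB
  have hlC := dim_le_nat (B ⧸ (maximalIdeal A).map (algebraMap A B)) dC hdC
  have hF1 : dB ≤ dA + dC := by
    have h := Groth.Agent.S5769.result A B
    rw [hdA, hdB, hdC] at h
    exact_mod_cast h
  have hF2 := embdim_le (A := A) (B := B)
  have hcA : Module.finrank (ResidueField A) (CotangentSpace A) = (maximalIdeal A).spanFinrank :=
    (IsLocalRing.spanFinrank_maximalIdeal_eq_finrank_cotangentSpace _).symm
  have hcB : Module.finrank (ResidueField B) (CotangentSpace B) = (maximalIdeal B).spanFinrank :=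
    (IsLocalRing.spanFinrank_maximalIdeal_eq_finrank_cotangentSpace _).symm
  have hcC : Module.finrank (ResidueField (B ⧸ (maximalIdeal A).map (algebraMap A B)))
      (CotangentSpace (B ⧸ (maximalIdeal A).map (algebraMap A B))) =
      (maximalIdeal (B ⧸ (maximalIdeal A).map (algebraMap A B))).spanFinrank :=
    (IsLocalRing.spanFinrank_maximalIdeal_eq_finrank_cotangentSpace _).symm
  rw [hcA, hcB, hcC, hdA, hdB, hdC]
  tfae_have 1 → 2 := by
    rintro ⟨hB, hb⟩
    have hb' := hrB.mp hB
    have hA : IsRegularLocalRing A := hrA.mpr (by omega)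
    have hC : IsRegularLocalRing (B ⧸ (maximalIdeal A).map (algebraMap A B)) :=
      hrC.mpr (by omega)
    refine ⟨hB, hC, ?_⟩
    have hCM : LocCoh.IsCohenMacaulayLocalRing B :=
      { supportDim_eq_depth := Groth.Agent.S10834.isCM_of_isRegularLocalRing B }
    apply Groth.Agent.S2082.result (R := A) (S := B)
    rw [hdA, hdB, hdC]
    have : dB = dA + dC := by omega
    exact_mod_cast this
  tfae_have 2 → 3 := by
    rintro ⟨hB, hC, hflat⟩
    exact ⟨Groth.Agent.Lib.Helper5.SerreLoc.regular_of_flat A B, hC, hflat⟩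
  tfae_have 3 → 4 := by
    rintro ⟨hA, hC, hflat⟩
    refine ⟨hA, hC, ?_⟩
    rw [← hdA, ← hdB, ← hdC]
    exact dim_eq_of_flat
  tfae_have 4 → 1 := by
    rintro ⟨hA, hC, hdim⟩
    have ha := hrA.mp hA
    have hc := hrC.mp hC
    have hd : dB = dA + dC := by exact_mod_cast hdim
    exact ⟨hrB.mpr (by omega), by omega⟩
  tfae_finish

end Groth.Agent.S2470
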