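import Groth.Statements.S2476
import Groth.Agent.Lib.Helper5.ComplFreeF
import Groth.Agent.Lib.Helper5.ComplKaehler
import Groth.Agent.S4537

set_option autoImplicit false
universe u
open EGA41

namespace Groth.Agent.S2476

open IsLocalRing in
/-- Let k₀ be a field and A a complete Noetherian local k₀-algebra, formally smooth over k₀ for the adic
topology, whose residue field K is a finitely generated extension of k₀. Then the 𝔪-adic completion
Ω̂_{A/k₀} of Ω_{A/k₀} is a free A-module of rank dim A + trdeg_{k₀} K. -/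
theorem result {k₀ A : Type u} [Field k₀] [CommRing A] [IsLocalRing A] [IsNoetherianRing A] [Algebra k₀ A]
    [IsAdicComplete (maximalIdeal A) A] (hfs : CAlgX.IsAdicFormallySmooth k₀ A (maximalIdeal A))
    [Algebra.EssFiniteType k₀ (ResidueField A)] :
    Module.Finite A (AdicCompletion (maximalIdeal A) (Ω[A⁄k₀])) ∧ Module.Free A (AdicCompletion (maximalIdeal A) (Ω[A⁄k₀])) ∧
      (Module.finrank A (AdicCompletion (maximalIdeal A) (Ω[A⁄k₀])) : WithBot ℕ∞) =
        ringKrullDim A + (Cardinal.toNat (Algebra.trdeg k₀ (ResidueField A)) : WithBot ℕ∞) := by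
  have h1 : Module.Finite (A ⧸ maximalIdeal A) (Ω[A ⧸ maximalIdeal A⁄k₀]) :=
    inferInstanceAs (Module.Finite (ResidueField A) (Ω[ResidueField A⁄k₀]))
  have h2 : Module.Finite (A ⧸ maximalIdeal A) (maximalIdeal A).Cotangent :=
    inferInstanceAs (Module.Finite (ResidueField A) (CotangentSpace A))
  have hfin : Module.Finite A (AdicCompletion (maximalIdeal A) (Ω[A⁄k₀])) :=
    Lib.Helper5.ComplKaehler.finite_completedKaehler (maximalIdeal A)
  have h := (Groth.Agent.S4537.result (maximalIdeal A)).mp hfs
  have hfree : Module.Free A (AdicCompletion (maximalIdeal A) (Ω[A⁄k₀])) :=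
    Lib.Helper5.ComplFree.free_completedKaehler h
  refine ⟨hfin, hfree, ?_⟩
  have hrank := Lib.Helper5.ComplFree.finrank_completedKaehler (k := k₀) (A := A)
  obtain ⟨_, hV⟩ := Lib.Helper5.ComplFree.finrank_tensor_kaehler hfs
  have hreg : IsRegularLocalRing A := Lib.Helper5.AdicReg.isRegularLocalRing_of_adicSmooth hfs
  have hdim := (IsRegularLocalRing.iff_finrank_cotangentSpace (R := A)).mp hreg
  have hV' : Module.finrank (A ⧸ maximalIdeal A)
      (TensorProduct A (A ⧸ maximalIdeal A) Ω[A⁄k₀]) =
      Module.finrank (ResidueField A) (CotangentSpace A) +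
        Cardinal.toNat (Algebra.trdeg k₀ (ResidueField A)) := hV
  rw [hrank, hV', ← hdim]
  push_cast
  rfl

end Groth.Agent.S2476
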