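import Groth.Statements.S2479
import Groth.Agent.Lib.Helper25.ProConsProd
import Groth.Agent.Lib.Helper25.ProCons2

set_option autoImplicit false
universe u
open EGA41

namespace Groth.Agent.S2479
open AlgebraicGeometry CategoryTheory Topology
open Groth.Agent.Lib.Helper25.PC
open scoped Set.Notation


open AlgebraicGeometry CategoryTheory Topology in
/-- Let X be a quasi-compact and quasi-separated scheme and E ⊆ X. Then E = f(X') for some quasi-compact
morphism f : X' → X if and only if E is an intersection of a family of constructible subsets of X. -/
theorem result {X : Scheme.{u}} [CompactSpace X] [QuasiSeparatedSpace X] (E : Set X) :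
    (∃ (X' : Scheme.{u}) (f : X' ⟶ X), QuasiCompact f ∧ Set.range f.base = E) ↔
      ∃ S : Set (Set X), (∀ s ∈ S, IsConstructible s) ∧ E = ⋂₀ S := by
  constructor
  · rintro ⟨X', f, hf, rfl⟩
    have h1 : ProC (Set.range f.base) := by
      have := ProC.image f (E := Set.univ) (isClosed_univ.proC)
      rwa [Set.image_univ] at this
    exact isPCl_iff_sInter.mp h1.isPCl
  · intro h
    have hE : IsPCl E := isPCl_iff_sInter.mpr h
    have hE' : ProC E := by
      intro V hV
      haveI := hV.compactSpace
      exact hE.preimage_of_isOpenEmbedding hV.isOpen.isOpenEmbedding_subtypeVal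
    obtain ⟨X', f, hX', hf⟩ := ProC.exists_affine_range_eq hE'
    exact ⟨X', f, inferInstance, hf⟩

end Groth.Agent.S2479
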