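import Groth.Statements.S2481
import Mathlib
import Groth.Agent.Lib.Helper2.SmallExt

set_option autoImplicit false
universe u
open EGA41

namespace Groth.Agent.S2481

open IsLocalRing in
/-- Let A → B be a local homomorphism of Noetherian local rings with the adic topologies, K the residue
field of B. Then B is formally smooth over A if and only if: for every Artinian local ring C with a
local homomorphism A → C, every nilpotent ideal J of C and every local A-algebra homomorphism u : B
→ C/J inducing a bijection of residue fields (so that C has residue field K and u induces the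
identity on it), u is induced by a local A-algebra homomorphism B → C. -/
theorem result {A B : Type u} [CommRing A] [IsLocalRing A] [IsNoetherianRing A] [CommRing B] [IsLocalRing B] [IsNoetherianRing B]
    [Algebra A B] [IsLocalHom (algebraMap A B)] :
    EGA41.IsFormallySmoothAdic A (maximalIdeal A) B (maximalIdeal B) ↔
      ∀ (C : Type u) [CommRing C] [IsLocalRing C] [IsArtinianRing C] [Algebra A C] [IsLocalHom (algebraMap A C)]
        (J : Ideal C), IsNilpotent J → ∀ [IsLocalRing (C ⧸ J)] (u : B →ₐ[A] C ⧸ J) [IsLocalHom u.toRingHom],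
        Function.Bijective (ResidueField.map u.toRingHom) →
        ∃ f : B →ₐ[A] C, IsLocalHom f.toRingHom ∧ (Ideal.Quotient.mkₐ A J).comp f = u := by
  constructor
  · intro h C _ _ _ _ _ J hJ _ u _ _
    obtain ⟨n, hn⟩ : ∃ n : ℕ, maximalIdeal C ^ n = ⊥ := by
      have := IsArtinianRing.isNilpotent_jacobson_bot (R := C)
      rw [IsLocalRing.jacobson_eq_maximalIdeal ⊥ bot_ne_top] at this
      exact this
    have hA : (maximalIdeal A ^ n).map (algebraMap A C) = ⊥ := by
      rw [eq_bot_iff, Ideal.map_pow, ← hn]
      refine Ideal.pow_right_mono ?_ n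
      rw [Ideal.map_le_iff_le_comap]
      intro a ha
      rw [Ideal.mem_comap, mem_maximalIdeal, mem_nonunits_iff]
      intro hu
      exact ha (IsLocalHom.map_nonunit a hu)
    have hu : ∀ x ∈ maximalIdeal B ^ n, u x = 0 := by
      intro x hx
      have h1 : (maximalIdeal B).map u.toRingHom ≤ maximalIdeal (C ⧸ J) := by
        rw [Ideal.map_le_iff_le_comap]
        intro s hs
        rw [Ideal.mem_comap, mem_maximalIdeal, mem_nonunits_iff]
        intro hu
        exact hs (IsLocalHom.map_nonunit (f := u.toRingHom) s hu)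
      have h2 : maximalIdeal (C ⧸ J) ≤ (maximalIdeal C).map (Ideal.Quotient.mk J) := by
        intro y hy
        obtain ⟨a, rfl⟩ := Ideal.Quotient.mk_surjective y
        refine Ideal.mem_map_of_mem _ ?_
        rw [mem_maximalIdeal, mem_nonunits_iff]
        intro hu
        exact hy (hu.map _)
      have h3 : u x ∈ (maximalIdeal (C ⧸ J)) ^ n := by
        have : u.toRingHom x ∈ ((maximalIdeal B) ^ n).map u.toRingHom := Ideal.mem_map_of_mem _ hx
        rw [Ideal.map_pow] at this
        exact Ideal.pow_right_mono h1 n this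
      have h4 : (maximalIdeal (C ⧸ J)) ^ n = ⊥ := by
        rw [eq_bot_iff]
        refine (Ideal.pow_right_mono h2 n).trans ?_
        rw [← Ideal.map_pow, hn, Ideal.map_bot]
      rw [h4, Ideal.mem_bot] at h3
      exact h3
    obtain ⟨v, hv⟩ := h C J hJ ⟨n, hA⟩ u ⟨n, hu⟩
    refine ⟨v, ⟨fun b hb => ?_⟩, hv⟩
    have : IsUnit (u b) := by
      rw [← hv]
      exact hb.map (Ideal.Quotient.mk J)
    exact IsLocalHom.map_nonunit (f := u.toRingHom) b this
  · intro H
    have hSL : Lib.Helper2.SmallExt.SmallLift A B := by
      intro C _ _ _ _ _ J hJ _ _ ψ _ hbij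
      obtain ⟨f, _, hf⟩ := H C J ⟨2, hJ⟩ ψ hbij
      exact ⟨f, hf⟩
    have hsq := Lib.Helper2.SmallExt.formallySmooth_of_smallLift (R := A) (S := B) hSL
    intro C _ _ J hJ _ u hu
    obtain ⟨n, hn⟩ := hJ
    exact Lib.Helper2.SmallExt.lift_of_nilpotent (maximalIdeal B) hsq n C J hn u hu

end Groth.Agent.S2481
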