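import Groth.Statements.S2482
import Groth.Agent.Lib.Helper5.DvrIso

set_option autoImplicit false
universe u
open EGA41

namespace Groth.Agent.S2482

open IsLocalRing in
/-- (a) ⟹ (b): let A, B be complete discrete valuation rings and u : A → B a ring homomorphism with
u(𝔪_A)B = 𝔪_B, such that the residue field L of B is separable over the residue field K of A. Then
for every complete discrete valuation ring B', every homomorphism u' : A → B' with u'(𝔪_A)B' =
𝔪_{B'} and every isomorphism σ of residue fields L ≅ L' compatible with the maps from K, there is an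
isomorphism w : B ≅ B' with u' = w ∘ u inducing σ on residue fields. -/
theorem result {A B B' : Type u} [CommRing A] [IsDomain A] [IsDiscreteValuationRing A] [IsAdicComplete (maximalIdeal A) A]
    [CommRing B] [IsDomain B] [IsDiscreteValuationRing B] [IsAdicComplete (maximalIdeal B) B]
    [CommRing B'] [IsDomain B'] [IsDiscreteValuationRing B'] [IsAdicComplete (maximalIdeal B') B']
    (u : A →+* B) [IsLocalHom u] (hu : (maximalIdeal A).map u = maximalIdeal B)
    (hsep : letI := (ResidueField.map u).toAlgebra; Algebra.IsGeometricallyReduced (ResidueField A) (ResidueField B))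
    (u' : A →+* B') [IsLocalHom u'] (hu' : (maximalIdeal A).map u' = maximalIdeal B')
    (σ : ResidueField B ≃+* ResidueField B') (hσ : (σ : ResidueField B →+* ResidueField B').comp (ResidueField.map u) = ResidueField.map u') :
    ∃ w : B ≃+* B', (w : B →+* B').comp u = u' ∧ ∀ b : B, residue B' (w b) = σ (residue B b) := by
  open Groth.Agent.Lib.Helper5 in
  let algB : Algebra A B := u.toAlgebra
  let algB' : Algebra A B' := u'.toAlgebra
  have hlocB : IsLocalHom (algebraMap A B) := ‹IsLocalHom u›
  have hinj : Function.Injective (algebraMap A B) := DvrIso.injective_of_map_maximalIdeal u hu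
  have htf : Module.IsTorsionFree A B := Module.isTorsionFree_iff_algebraMap_injective.mpr hinj
  have hflat : Module.Flat A B := inferInstance
  have halg : (ResidueField.map u).toAlgebra =
      (ResidueField.instAlgebra : Algebra (ResidueField A) (ResidueField B)) := by
    apply Algebra.algebra_ext
    intro x
    obtain ⟨a, rfl⟩ := residue_surjective x
    rfl
  have hsep' : Algebra.IsGeometricallyReduced (ResidueField A) (ResidueField B) := halg ▸ hsep
  have hcohen : IsCohenAlgebra A B :=
    ⟨inferInstance, inferInstance, inferInstance, hflat, hu, hsep'⟩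
  have hfs := CohenAlgSmooth.isFormallySmoothAdic_of_isCohenAlgebra hcohen
  let u₀ : B →ₐ[A] B' ⧸ maximalIdeal B' :=
    { (σ : ResidueField B →+* ResidueField B').comp (residue B) with
      commutes' := by
        intro a
        change σ (residue B (u a)) = residue B' (u' a)
        have := congrArg (fun f => f (residue A a)) hσ
        exact this }
  have hu₀ : ∀ b, u₀ b = σ (residue B b) := fun b => rfl
  have hH : IsHausdorff ((maximalIdeal B').map (Ideal.Quotient.mk (maximalIdeal B')))
      (B' ⧸ maximalIdeal B') := by
    rw [Ideal.map_quotient_self]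
    infer_instance
  obtain ⟨v, -, hv⟩ := AdicLift.exists_lift_adicComplete (maximalIdeal A) (maximalIdeal B)
    (maximalIdeal B') hfs ⟨1, by rw [pow_one]; exact le_of_eq hu'⟩ (maximalIdeal B')
    ⟨1, by rw [pow_one]⟩ u₀ ⟨1, by
      rw [pow_one, Ideal.map_le_iff_le_comap]
      intro b hb
      rw [Ideal.mem_comap]
      change u₀ b ∈ _
      rw [hu₀, (residue_eq_zero_iff b).mpr hb, map_zero]
      exact Ideal.zero_mem _⟩
  have hv' : ∀ b, residue B' (v b) = σ (residue B b) := fun b => congrArg (fun f => f b) hv
  have hvu : (v : B →+* B').comp u = u' := by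
    ext a
    exact v.commutes a
  have hmap : (maximalIdeal B).map (v : B →+* B') = maximalIdeal B' := by
    rw [← hu, Ideal.map_map, hvu, hu']
  have hbij : Function.Bijective (v : B →+* B') := by
    apply DvrIso.bijective_of_map_maximalIdeal _ hmap
    intro y
    obtain ⟨x, hx⟩ := σ.surjective y
    obtain ⟨b, rfl⟩ := residue_surjective x
    exact ⟨b, by rw [← hx]; exact hv' b⟩
  refine ⟨RingEquiv.ofBijective (v : B →+* B') hbij, ?_, ?_⟩
  · ext a
    exact v.commutes a
  · intro b
    exact hv' b

end Groth.Agent.S2482
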