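import Groth.Statements.S2483
import Groth.Agent.Lib.Helper5.CoeffField

set_option autoImplicit false
universe u
open EGA41

namespace Groth.Agent.S2483

open IsLocalRing in
/-- Let C be a complete Noetherian local ring with maximal ideal 𝔍 ≠ 0 and residue field K, and u : K →
C a ring homomorphism which is a section of the residue map. Then u is the only such section if and
only if Ω_{K/ℤ} = 0. -/
theorem result {C : Type u} [CommRing C] [IsLocalRing C] [IsNoetherianRing C] [IsAdicComplete (maximalIdeal C) C]
    (hm : maximalIdeal C ≠ ⊥) (u : ResidueField C →+* C) (hu : ∀ x, residue C (u x) = x) :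
    (∀ v : ResidueField C →+* C, (∀ x, residue C (v x) = x) → v = u) ↔ Subsingleton (Ω[ResidueField C⁄ℤ]) := by
  constructor
  · intro huniq
    by_contra hΩ
    obtain ⟨v, hv, hne⟩ := Lib.Helper5.CoeffField.exists_ne_section hm u hu hΩ
    exact hne (huniq v hv)
  · intro hΩ v hv
    haveI : Algebra.FormallyUnramified ℤ (ResidueField C) := ⟨hΩ⟩
    have hinf : ⨅ i, maximalIdeal C ^ i = ⊥ :=
      Ideal.iInf_pow_eq_bot_of_isLocalRing (maximalIdeal C) Ideal.IsPrime.ne_top'
    have hcomm : ∀ (f : ResidueField C →+* C) (n : ℤ),
        f (algebraMap ℤ (ResidueField C) n) = algebraMap ℤ C n := by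
      intro f n
      rw [eq_intCast, eq_intCast, map_intCast]
    let vA : ResidueField C →ₐ[ℤ] C := { v with commutes' := hcomm v }
    let uA : ResidueField C →ₐ[ℤ] C := { u with commutes' := hcomm u }
    have h := Algebra.FormallyUnramified.ext_of_iInf (R := ℤ) (A := ResidueField C) (B := C)
      (I := maximalIdeal C) hinf (g₁ := vA) (g₂ := uA) (fun x => by
        change residue C (v x) = residue C (u x)
        rw [hv, hu])
    ext x
    exact AlgHom.congr_fun h x

end Groth.Agent.S2483
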