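import Groth.Statements.S2484
import Groth.Agent.Lib.Helper5.SepCartier2
import Groth.Agent.Lib.Helper5.SepSmooth
import Groth.Agent.Lib.Helper5.ImperfExt

set_option autoImplicit false
universe u
open EGA41

namespace Groth.Agent.S2484

/-- Let K ⊆ E ⊆ F be fields. (i) If F is a separable extension of E, then Υ_{F/E/K} = 0, i.e. the
canonical map Ω_{E/K} ⊗_E F → Ω_{F/K} is injective. (ii) Conversely, if F is separable over K and
this map is injective, then F is separable over E. (Separable means geometrically reduced.) -/
theorem result {K E F : Type u} [Field K] [Field E] [Field F] [Algebra K E] [Algebra E F] [Algebra K F] [IsScalarTower K E F] :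
    (Algebra.IsGeometricallyReduced E F → Function.Injective (KaehlerDifferential.mapBaseChange K E F)) ∧
    (Algebra.IsGeometricallyReduced K F → Function.Injective (KaehlerDifferential.mapBaseChange K E F) → Algebra.IsGeometricallyReduced E F) := by
  refine ⟨fun h => Lib.Helper5.SepSmooth.mapBaseChange_injective_of_geomReduced (k := E) (K := F) K,
    fun hKF hinj => ?_⟩
  apply Lib.Helper5.SepCartier.geomReduced_of_mapBaseChange_injective
  rw [injective_iff_map_eq_zero]
  intro z hz
  have h1 : KaehlerDifferential.mapBaseChange K E F (Lib.Helper5.ImperfTower.chg ℤ K E F z) = 0 := by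
    rw [← Lib.Helper5.ImperfTower.map_mapBaseChange ℤ K E F z, hz, map_zero]
  rw [← map_zero (KaehlerDifferential.mapBaseChange K E F)] at h1
  have h2 : Lib.Helper5.ImperfTower.chg ℤ K E F z = 0 := hinj h1
  obtain ⟨t, rfl⟩ := Lib.Helper5.ImperfTower.exists_low_eq ℤ K E F z h2
  have h3 : KaehlerDifferential.mapBaseChange ℤ K F t = 0 := by
    rw [← Lib.Helper5.ImperfTower.mapBaseChange_low ℤ K E F t, hz]
  have h4 := Lib.Helper5.SepSmooth.mapBaseChange_injective_of_geomReduced (k := K) (K := F) ℤ
  rw [← map_zero (KaehlerDifferential.mapBaseChange ℤ K F)] at h3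
  rw [h4 h3, map_zero]

end Groth.Agent.S2484
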