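import Groth.Statements.S2486
import Groth.Agent.Lib.Helper5.PBasisGen

set_option autoImplicit false
universe u
open EGA41

namespace Groth.Agent.S2486

/-- Let p be a prime, B an A-algebra of characteristic p and (x_α) a family of elements of B. Then (a) B
is generated as an A[B^p]-algebra by the x_α if and only if (b) (x_α) is a system of p-generators of
B over A; these imply (c) Ω_{B/A} is generated by the d x_α; and if B is an A[B^p]-algebra of finite
type, (c) implies (a). -/
theorem result (p : ℕ) [Fact p.Prime] {A B : Type u} [CommRing A] [CommRing B] [Algebra A B] [CharP B p]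
    {ι : Type u} (x : ι → B) :
    (Algebra.adjoin (EGA41.pPowerSubalgebra p A B) (Set.range x) = ⊤ ↔ EGA41.IsPGenerating p A x) ∧
    (EGA41.IsPGenerating p A x → Submodule.span B (Set.range fun i => KaehlerDifferential.D A B (x i)) = ⊤) ∧
    (Algebra.FiniteType (EGA41.pPowerSubalgebra p A B) B →
      Submodule.span B (Set.range fun i => KaehlerDifferential.D A B (x i)) = ⊤ → EGA41.IsPGenerating p A x) := by
  have hp : p.Prime := Fact.out
  have hpB : (p : B) = 0 := CharP.cast_eq_zero B p
  exact ⟨Lib.Helper5.PBasis.adjoin_eq_top_iff p A x hp.pos,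
    fun hx => Lib.Helper5.PBasis.span_D_eq_top p A x hpB hx,
    fun hft hspan => Lib.Helper5.PBasis.isPGenerating_of_span_D p A x hp hpB hft hspan⟩

end Groth.Agent.S2486
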