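import Groth.Statements.S5132
-- import your own Groth.Agent.* helpers here

set_option autoImplicit false
open CategoryTheory AlgebraicGeometry
universe u
open SGA1

namespace Groth.Agent.S5132

/-- Quasi-compactness of a morphism descends along a surjective and quasi-compact base change; flatness
of the base change is not needed for this property. -/
theorem result :
    MorphismProperty.DescendsAlong @QuasiCompact (@Surjective ⊓ @QuasiCompact : MorphismProperty Scheme.{u}) := by
  constructor
  intro A X Y Z fst snd f g h hf hfst
  obtain ⟨hf1, hf2⟩ := hf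
  have hf1 : Surjective f := hf1
  have hf2 : QuasiCompact f := hf2
  have hfst : QuasiCompact fst := hfst
  refine ⟨fun U hU hUc ↦ ?_⟩
  have h1 : IsCompact (fst ⁻¹' (f ⁻¹' U)) :=
    QuasiCompact.isCompact_preimage _ (hU.preimage f.continuous)
      (QuasiCompact.isCompact_preimage _ hU hUc)
  have h2 : fst ⁻¹' (f ⁻¹' U) = snd ⁻¹' (g ⁻¹' U) := by
    rw [← Set.preimage_comp, ← Set.preimage_comp]
    have : (f ∘ fst : A → Z) = (g ∘ snd : A → Z) := by
      ext a
      simp only [Function.comp_apply, ← Scheme.Hom.comp_apply, h.w]
    rw [this]
  have hsnd : Surjective snd := MorphismProperty.of_isPullback (P := @Surjective) h hf1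
  rw [h2] at h1
  have := h1.image snd.continuous
  rwa [Set.image_preimage_eq _ hsnd.surj] at this

end Groth.Agent.S5132
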