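import Groth.Statements.S5133
import Groth.Agent.Lib.Helper1.QcSpecialization

set_option autoImplicit false
open CategoryTheory CategoryTheory.Limits AlgebraicGeometry
universe u
open SGA1

namespace Groth.Agent.S5133

/-- For a quasi-compact morphism f : X ⟶ Y and a flat surjective base change g : Y' ⟶ Y, with no
quasi-compactness asked of g, if the base change of f along g is a homeomorphism onto its image then
f is a homeomorphism onto its image. -/
theorem result {X Y Y' : Scheme.{u}} (f : X ⟶ Y)
    (g : Y' ⟶ Y) [QuasiCompact f] [Flat g] [Surjective g]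
    (h : Topology.IsEmbedding (pullback.snd f g).base) : Topology.IsEmbedding f.base := by
  have hpb : IsPullback (pullback.fst f g) (pullback.snd f g) f g := .of_hasPullback _ _
  have hsurj : Function.Surjective g := ‹Surjective g›.surj
  have hinj : Function.Injective f := by
    intro x₁ x₂ hx
    obtain ⟨y', hy'⟩ := hsurj (f x₁)
    obtain ⟨a₁, ha₁, hb₁⟩ := Scheme.exists_preimage_of_isPullback hpb x₁ y' hy'.symm
    obtain ⟨a₂, ha₂, hb₂⟩ := Scheme.exists_preimage_of_isPullback hpb x₂ y' (hx ▸ hy'.symm)
    have : a₁ = a₂ := h.injective (hb₁.trans hb₂.symm)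
    rw [← ha₁, ← ha₂, this]
  refine ⟨⟨?_⟩, hinj⟩
  rw [TopologicalSpace.ext_iff_isClosed]
  intro F
  rw [isClosed_induced_iff]
  constructor
  · intro hF
    refine ⟨closure (f '' F), isClosed_closure, ?_⟩
    apply Set.Subset.antisymm
    · intro x hx
      obtain ⟨x₀, hx₀, hspec⟩ :=
        Groth.Agent.Lib.Helper1.exists_specializes_of_mem_closure_image f F hF (f x) hx
      obtain ⟨y', hy'⟩ := hsurj (f x)
      obtain ⟨a, ha, hb⟩ := Scheme.exists_preimage_of_isPullback hpb x y' hy'.symm
      obtain ⟨y₀', hy₀', hgy₀'⟩ := Flat.generalizingMap g (hy' ▸ hspec)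
      obtain ⟨a₀, ha₀, hb₀⟩ := Scheme.exists_preimage_of_isPullback hpb x₀ y₀' hgy₀'.symm
      have h1 : a₀ ⤳ a := by
        rw [← h.isInducing.specializes_iff]
        rw [hb₀, hb]
        exact hy₀'
      have h2 := h1.map (pullback.fst f g).continuous
      rw [ha₀, ha] at h2
      exact h2.mem_closed hF hx₀
    · exact fun x hx ↦ subset_closure ⟨x, hx, rfl⟩
  · rintro ⟨t, ht, rfl⟩
    exact ht.preimage f.continuous

end Groth.Agent.S5133
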