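import Groth.Statements.S2567
import Groth.Agent.Lib.Helper25.RedAscent

set_option autoImplicit false
open CategoryTheory AlgebraicGeometry
universe u
open EGA43

namespace Groth.Agent.S2567

/-- Reduced case (the source only needs f flat and of finite presentation at the point x): let f : X ⟶ Y
be flat and locally of finite presentation, x a point of X with y = f x. If the local ring of Y at y
is reduced and the fibre of f over y is geometrically reduced at x, then the local ring of X at x is
reduced. -/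
theorem result {X Y : Scheme.{u}} (f : X ⟶ Y) [Flat f]
    [LocallyOfFinitePresentation f] (x : X) (hy : FBase.IsReducedAt Y (f.base x))
    (hx : FBase.IsGeomReducedAt (f.fiberToSpecResidueField (f.base x)) (f.asFiber x)) :
    FBase.IsReducedAt X x := by
  have hW : IsOpen {x : X | Groth.Agent.Lib.lead.GROpen.GR f x} :=
    Groth.Agent.Lib.lead.GROpen.isOpen_gr f
  have hxW : x ∈ {x : X | Groth.Agent.Lib.lead.GROpen.GR f x} := hx
  obtain ⟨_, ⟨V, hV : IsAffineOpen V, rfl⟩, hfxV, -⟩ :=
    Y.isBasis_affineOpens.exists_subset_of_mem_open (Set.mem_univ (f x)) isOpen_univ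
  obtain ⟨_, ⟨U, hU : IsAffineOpen U, rfl⟩, hxU, hUV₀⟩ :=
    X.isBasis_affineOpens.exists_subset_of_mem_open
      (show x ∈ (f ⁻¹ᵁ V : Set X) ∩ {x : X | Groth.Agent.Lib.lead.GROpen.GR f x} from ⟨hfxV, hxW⟩)
      ((f ⁻¹ᵁ V).isOpen.inter hW)
  have hUV : U ≤ f ⁻¹ᵁ V := fun z hz => (hUV₀ hz).1
  have hUW : ∀ z ∈ U, Groth.Agent.Lib.lead.GROpen.GR f z := fun z hz => (hUV₀ hz).2
  exact Groth.Agent.Lib.Helper25.RedAscent.isReducedAt_of_chart f x hV hU hUV hxU hUW hy

end Groth.Agent.S2567
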