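import Groth.Statements.S2569
import Mathlib
import Groth.Statements.S2569
import Groth.Agent.Lib.Helper13.ProperNhd

set_option autoImplicit false
open CategoryTheory AlgebraicGeometry
universe u
open EGA43

namespace Groth.Agent.S2569

section helpers
set_option linter.unusedSectionVars false
set_option linter.unusedVariables false
set_option linter.style.haveILetI false
open CategoryTheory CategoryTheory.Limits AlgebraicGeometry TopologicalSpace PrimeSpectrum IsLocalRing


open Groth.Agent.Lib.Helper13.ProperNhd Groth.Agent.Lib.Helper13.BCPaste

theorem connectedSpace_of_isLocalRing (R : Type*) [CommRing R] [IsLocalRing R] :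
    ConnectedSpace (PrimeSpectrum R) := by
  haveI : Nonempty (PrimeSpectrum R) := ⟨closedPoint R⟩
  refine @ConnectedSpace.mk _ _ ⟨?_⟩ inferInstance
  refine isPreconnected_of_forall (closedPoint R) ?_
  intro p _
  refine ⟨closure {p}, Set.subset_univ _, ?_, subset_closure rfl, isPreconnected_singleton.closure⟩
  exact (specializes_closedPoint p).mem_closed isClosed_closure (subset_closure rfl)

theorem main {X Y : Scheme.{u}} [IsLocallyNoetherian Y] (f : X ⟶ Y)
    [IsSeparated f] [LocallyOfFiniteType f] [QuasiCompact f]
    (hsub : MorphismProperty.universally (topologically fun g => Topology.IsQuotientMap g) f)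
    (hconn : ∀ y : Y, GeometricallyConnected (f.fiberToSpecResidueField y))
    (y : Y) (hy : IsProper (f.fiberToSpecResidueField y)) :
    ∃ U : Y.Opens, y ∈ U ∧ IsProper (f ∣_ U) := by
  haveI : GeometricallyConnected f := by
    rw [geometricallyConnected_iff, geometrically_iff_forall_fiberToSpecResidueField]
    intro y'
    exact (geometricallyConnected_iff _).mp (hconn y')
  obtain ⟨U, hUcl, hUp, hUsub⟩ := exists_clopen_of_closedFibre f y hy
  refine exists_nhd_of_clopen_eq_top f y U hUp ?_
  have hq : Topology.IsQuotientMap (fhat f y) :=
    hsub _ _ _ (isPullback_snd_snd f (Y.fromSpecStalk y) (cmap Y y))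
  haveI : GeometricallyConnected (fhat f y) := inferInstance
  have hfib : ∀ p, _root_.IsConnected ((fhat f y) ⁻¹' {p}) :=
    (fhat f y).isConnected_preimage_singleton
  haveI : ConnectedSpace (PrimeSpectrum (Rhat Y y)) := connectedSpace_of_isLocalRing _
  have hX₂ : _root_.IsConnected ((fhat f y) ⁻¹' Set.univ) :=
    hq.isCoinducing.isConnected_preimage_of_isClosed hfib isClosed_univ
      (isConnected_univ (α := PrimeSpectrum (Rhat Y y)))
  rw [Set.preimage_univ] at hX₂
  -- `U` is clopen and nonempty
  have hUne : (U : Set ↥(pullback (pullback.snd f (Y.fromSpecStalk y)) (cmap Y y))).Nonempty := by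
    obtain ⟨x, hx⟩ := hq.surjective (closedPoint (Rhat Y y))
    refine ⟨x, hUsub ?_⟩
    show (fhat f y) x ∈ zeroLocus _
    rw [hx]
    intro a ha
    exact ha
  have hsubU : (Set.univ : Set ↥(pullback (pullback.snd f (Y.fromSpecStalk y)) (cmap Y y))) ⊆
      (U : Set ↥(pullback (pullback.snd f (Y.fromSpecStalk y)) (cmap Y y))) := by
    apply hX₂.isPreconnected.subset_isClopen ⟨hUcl, U.2⟩
    obtain ⟨x, hx⟩ := hUne
    exact ⟨x, Set.mem_univ x, hx⟩
  ext x
  constructor
  · intro _; trivial
  · intro _; exact hsubU (Set.mem_univ x)


end helpers

/-- Let Y be locally Noetherian and f : X ⟶ Y separated, of finite type and universally submersive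
(every base change is a topological quotient map onto its target), with all fibres geometrically
connected. If the fibre over a point y is proper over the residue field of y, then f is proper over
some open neighbourhood of y. -/
theorem result {X Y : Scheme.{u}} [IsLocallyNoetherian Y] (f : X ⟶ Y)
    [IsSeparated f] [LocallyOfFiniteType f] [QuasiCompact f]
    (hsub : MorphismProperty.universally (topologically fun g => Topology.IsQuotientMap g) f)
    (hconn : ∀ y : Y, GeometricallyConnected (f.fiberToSpecResidueField y))
    (y : Y) (hy : IsProper (f.fiberToSpecResidueField y)) :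
    ∃ U : Y.Opens, y ∈ U ∧ IsProper (f ∣_ U) := by
  exact main f hsub hconn y hy

end Groth.Agent.S2569
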