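import Groth.Statements.S2573
import Groth.Agent.Lib.Helper25.StratFree
import Groth.Agent.Lib.Helper25.LocFlatStage
import Groth.Agent.Lib.Helper21.FlatDescP

set_option autoImplicit false
universe u
open EGA43


set_option linter.style.haveILetI false

namespace Groth.Agent.S2573Aux

open Groth.Agent.Lib.Helper25.StratFree Groth.Agent.Lib.Helper25.LocFlatStage TensorProduct

attribute [local instance] Algebra.TensorProduct.rightAlgebra

/-- The flat case: if `A` is nontrivial and `M` is `A`-flat, there is a non-nilpotent `a` with `M_a` free. -/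
theorem exists_free_of_flat {A B : Type u} [CommRing A] [Nontrivial A] [CommRing B] [Algebra A B]
    [Algebra.FinitePresentation A B] (M : Type u) [AddCommGroup M] [Module B M] [Module A M]
    [IsScalarTower A B M] [Module.FinitePresentation B M] [Module.Flat A M] :
    ∃ a : A, ¬ IsNilpotent a ∧ ∀ (T : Type u) [CommRing T] [Algebra A T],
      IsUnit (algebraMap A T a) → Module.Free T (T ⊗[A] M) := by
  obtain ⟨R₀, _, _, S₀, _, _, _, _, _, _, M₀, _, _, _, _, _, _, f₀, hR₀ft, hS₀ft, hM₀fin, hM₀flat,
    hpush, hf₀⟩ := Groth.Agent.Lib.Helper21.FlatDesc.exists_flat_model A B M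
  haveI : IsNoetherianRing R₀ := Algebra.FiniteType.isNoetherianRing ℤ R₀
  let e : A ⊗[R₀] M₀ ≃ₗ[A] M :=
    (Algebra.IsPushout.cancelBaseChange R₀ A S₀ B M₀).symm ≪≫ₗ hf₀.equiv.restrictScalars A
  have hI : RingHom.ker (algebraMap R₀ A) ≠ ⊤ := RingHom.ker_ne_top _
  obtain ⟨r, hr, hfree⟩ := exists_free_stratum (S := S₀) M₀ (RingHom.ker (algebraMap R₀ A)) hI
  refine ⟨algebraMap R₀ A r, ?_, ?_⟩
  · rintro ⟨n, hn⟩
    apply hr
    refine ⟨n, ?_⟩
    rw [RingHom.mem_ker, map_pow, hn]
  · intro T _ _ hunit
    letI : Algebra R₀ T := ((algebraMap A T).comp (algebraMap R₀ A)).toAlgebra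
    haveI : IsScalarTower R₀ A T := IsScalarTower.of_algebraMap_eq fun _ => rfl
    haveI h1 : Module.Free T (T ⊗[R₀] M₀) :=
      free_of_freeAt M₀ _ r hfree T hunit (fun a ha => by
        change algebraMap A T (algebraMap R₀ A a) = 0
        rw [(RingHom.mem_ker).1 ha, map_zero])
    let e₁ : T ⊗[A] (A ⊗[R₀] M₀) ≃ₗ[T] T ⊗[R₀] M₀ :=
      AlgebraTensorModule.cancelBaseChange R₀ A T T M₀
    let e₂ : T ⊗[A] (A ⊗[R₀] M₀) ≃ₗ[T] T ⊗[A] M :=
      AlgebraTensorModule.congr (LinearEquiv.refl _ _) e
    exact Module.Free.of_equiv (e₁.symm ≪≫ₗ e₂)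

theorem main {A B : Type u} [CommRing A] [CommRing B] [Algebra A B]
    [Algebra.FinitePresentation A B] (p : Ideal A) [hpp : p.IsPrime]
    (hnil : ∀ a ∈ p, IsNilpotent a)
    (M : Type u) [AddCommGroup M] [Module B M] [Module A M] [IsScalarTower A B M]
    [Module.FinitePresentation B M] (t : A) (htp : t ∉ p)
    (hflat : Module.Flat (Localization.Away t) (Localization.Away t ⊗[A] M)) :
    ∃ t : A, t ∉ p ∧ Module.Free (Localization.Away t)
      (LocalizedModule (Submonoid.powers t) M) := by
  haveI : Nontrivial (Localization.Away t) :=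
    (toLoc p ⟨t, htp⟩).toRingHom.domain_nontrivial
  let e' : (Localization.Away t ⊗[A] B) ⊗[B] M ≃ₗ[Localization.Away t] Localization.Away t ⊗[A] M :=
    Algebra.IsPushout.cancelBaseChange A (Localization.Away t) B (Localization.Away t ⊗[A] B) M
  haveI : Module.Flat (Localization.Away t) ((Localization.Away t ⊗[A] B) ⊗[B] M) :=
    Module.Flat.of_linearEquiv e'
  obtain ⟨a', ha'nil, hfree⟩ := exists_free_of_flat (A := Localization.Away t)
    (B := Localization.Away t ⊗[A] B) ((Localization.Away t ⊗[A] B) ⊗[B] M)
  obtain ⟨n, a, ha⟩ := IsLocalization.Away.surj t a'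
  have hap : a ∉ p := by
    intro h
    obtain ⟨k, hk⟩ := hnil a h
    apply ha'nil
    refine ⟨k, ?_⟩
    have h1 : a' ^ k * (algebraMap A (Localization.Away t) t ^ n) ^ k = 0 := by
      rw [← mul_pow, ha, ← map_pow, hk, map_zero]
    have hu : IsUnit ((algebraMap A (Localization.Away t) t ^ n) ^ k) :=
      ((IsLocalization.Away.algebraMap_isUnit t).pow n).pow k
    exact (hu.mul_left_eq_zero).1 h1
  refine ⟨t * a, fun h => (hpp.mem_or_mem h).elim htp hap, ?_⟩
  letI : Algebra (Localization.Away t) (Localization.Away (t * a)) :=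
    (IsLocalization.Away.lift (S := Localization.Away t) t
      (g := algebraMap A (Localization.Away (t * a)))
      (IsLocalization.Away.isUnit_of_dvd (S := Localization.Away (t * a)) (t * a)
        (dvd_mul_right t a))).toAlgebra
  haveI : IsScalarTower A (Localization.Away t) (Localization.Away (t * a)) :=
    IsScalarTower.of_algebraMap_eq fun r => by
      change _ = IsLocalization.Away.lift (S := Localization.Away t) t
        (g := algebraMap A (Localization.Away (t * a))) _ _
      rw [IsLocalization.Away.lift_eq]
  have hunit : IsUnit (algebraMap (Localization.Away t) (Localization.Away (t * a)) a') := by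
    have h1 : algebraMap (Localization.Away t) (Localization.Away (t * a)) a' *
        (algebraMap A (Localization.Away (t * a)) t) ^ n =
        algebraMap A (Localization.Away (t * a)) a := by
      rw [IsScalarTower.algebraMap_apply A (Localization.Away t) (Localization.Away (t * a)),
        IsScalarTower.algebraMap_apply A (Localization.Away t) (Localization.Away (t * a)),
        ← map_pow, ← map_mul, ha]
    have h2 : IsUnit (algebraMap A (Localization.Away (t * a)) a) :=
      IsLocalization.Away.isUnit_of_dvd (S := Localization.Away (t * a)) (t * a)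
        (dvd_mul_left a t)
    rw [← h1] at h2
    exact isUnit_of_mul_isUnit_left h2
  haveI h3 : Module.Free (Localization.Away (t * a))
      (Localization.Away (t * a) ⊗[Localization.Away t]
        ((Localization.Away t ⊗[A] B) ⊗[B] M)) := hfree _ hunit
  let e₁ : Localization.Away (t * a) ⊗[Localization.Away t]
        ((Localization.Away t ⊗[A] B) ⊗[B] M) ≃ₗ[Localization.Away (t * a)]
      Localization.Away (t * a) ⊗[Localization.Away t] (Localization.Away t ⊗[A] M) :=
    AlgebraTensorModule.congr (LinearEquiv.refl _ _) e'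
  let e₂ : Localization.Away (t * a) ⊗[Localization.Away t] (Localization.Away t ⊗[A] M)
      ≃ₗ[Localization.Away (t * a)] Localization.Away (t * a) ⊗[A] M :=
    AlgebraTensorModule.cancelBaseChange A (Localization.Away t) (Localization.Away (t * a))
      (Localization.Away (t * a)) M
  let e₃ : Localization.Away (t * a) ⊗[A] M ≃ₗ[Localization.Away (t * a)]
      LocalizedModule (Submonoid.powers (t * a)) M :=
    (LocalizedModule.isBaseChange (Submonoid.powers (t * a)) M).equiv
  exact Module.Free.of_equiv (e₁ ≪≫ₗ e₂ ≪≫ₗ e₃)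

end Groth.Agent.S2573Aux

namespace Groth.Agent.S2573

/-- Let A be a commutative ring whose spectrum is irreducible, with unique minimal prime p, let B be a
finitely presented A-algebra and M a finitely presented B-module. If the localization M_p is flat
over A_p, then there is t ∉ p such that M_t is a free A_t-module. -/
theorem result {A B : Type u} [CommRing A] [CommRing B] [Algebra A B]
    [Algebra.FinitePresentation A B] (p : Ideal A) [p.IsPrime] (hp : minimalPrimes A = {p})
    (M : Type u) [AddCommGroup M] [Module B M] [Module A M] [IsScalarTower A B M] [Module.FinitePresentation B M]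
    (hflat : Module.Flat (Localization.AtPrime p) (LocalizedModule p.primeCompl M)) :
    ∃ t : A, t ∉ p ∧ Module.Free (Localization.Away t) (LocalizedModule (Submonoid.powers t) M) := by
  classical
  have hpp : p.IsPrime := inferInstance
  -- `p` is the nilradical
  have hnil : ∀ a ∈ p, IsNilpotent a := by
    intro a ha
    have h1 : sInf (minimalPrimes A) = nilradical A :=
      Ideal.sInf_minimalPrimes (I := (⊥ : Ideal A))
    rw [hp, sInf_singleton] at h1
    rw [← mem_nilradical, ← h1]
    exact ha
  haveI : Module.Flat (Localization.AtPrime p) (TensorProduct A (Localization.AtPrime p) M) :=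
    Module.Flat.of_linearEquiv (LocalizedModule.isBaseChange p.primeCompl M).equiv
  obtain ⟨t, htp, hflat'⟩ := Groth.Agent.Lib.Helper25.LocFlatStage.exists_away_flat p (B := B) M
  exact Groth.Agent.S2573Aux.main (B := B) p hnil M t htp hflat'

end Groth.Agent.S2573
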