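import Groth.Statements.S2574
import Groth.Agent.Lib.Helper2.LocalCrit
import Mathlib.RingTheory.Flat.Localization
import Mathlib.RingTheory.Flat.Tensor
import Mathlib.RingTheory.Localization.BaseChange
import Mathlib.RingTheory.Ideal.AssociatedPrime.Finiteness
import Mathlib.Algebra.Module.Torsion.Basic

set_option autoImplicit false
open TensorProduct
universe u
open EGA43

namespace Groth.Agent.S2574

open Lib.Helper2 in
/-- An injective map between modules killed by `J` stays injective after tensoring with `M`,
if `M/JM` is flat over `A/J`. -/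
lemma lTensor_injective_of_killed {A : Type*} [CommRing A] (J : Ideal A) {M : Type*}
    [AddCommGroup M] [Module A M] [Module.Flat (A ⧸ J) ((A ⧸ J) ⊗[A] M)]
    {Q' Q : Type*} [AddCommGroup Q'] [Module A Q'] [AddCommGroup Q] [Module A Q]
    (hQ' : ∀ a ∈ J, ∀ x : Q', a • x = 0) (hQ : ∀ a ∈ J, ∀ x : Q, a • x = 0)
    (j : Q' →ₗ[A] Q) (hj : Function.Injective j) : Function.Injective (j.lTensor M) := by
  have tQ' : Module.IsTorsionBySet A Q' J := fun x a => hQ' a.1 a.2 x
  have tQ : Module.IsTorsionBySet A Q J := fun x a => hQ a.1 a.2 x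
  letI := tQ'.module
  letI := tQ.module
  haveI : IsScalarTower A (A ⧸ J) Q' := tQ'.isScalarTower
  haveI : IsScalarTower A (A ⧸ J) Q := tQ.isScalarTower
  let j' : Q' →ₗ[A ⧸ J] Q :=
    { toFun := j
      map_add' := j.map_add
      map_smul' := by
        intro r x
        obtain ⟨r, rfl⟩ := Ideal.Quotient.mk_surjective r
        exact j.map_smul r x }
  exact LocalCrit.lTensor_injective_of_flat_baseChange (A := A ⧸ J) j' hj


/-- If `M_p` is flat over `A_p`, elements of the kernel of `M ⊗ K → M` are killed by some
`s ∉ p`. -/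
lemma exists_smul_eq_zero {A : Type*} [CommRing A] (p : Ideal A) [p.IsPrime] (M : Type*)
    [AddCommGroup M] [Module A M]
    [Module.Flat (Localization.AtPrime p) (LocalizedModule p.primeCompl M)]
    (K : Ideal A) (z : M ⊗[A] K) (hz : K.subtype.lTensor M z = 0) : ∃ s ∉ p, s • z = 0 := by
  let ℓ := LocalizedModule.mkLinearMap p.primeCompl M
  haveI : Module.Flat A (Localization.AtPrime p) := IsLocalization.flat _ p.primeCompl
  haveI : Module.Flat A (LocalizedModule p.primeCompl M) :=
    Module.Flat.trans A (Localization.AtPrime p) _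
  have hinj : Function.Injective (K.subtype.lTensor (LocalizedModule p.primeCompl M)) :=
    Module.Flat.lTensor_preserves_injective_linearMap _ Subtype.val_injective
  have h1 : ℓ.rTensor K z = 0 := by
    apply hinj
    rw [map_zero, ← LinearMap.comp_apply, LinearMap.lTensor_comp_rTensor,
      ← LinearMap.rTensor_comp_lTensor, LinearMap.comp_apply, hz, map_zero]
  haveI : IsLocalizedModule p.primeCompl (ℓ.rTensor K) :=
    IsLocalizedModule.rTensor (R := A) (A := A) (N := K) (S := p.primeCompl) ℓ
  obtain ⟨s, hs⟩ := (IsLocalizedModule.eq_zero_iff p.primeCompl (ℓ.rTensor K)).mp h1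
  exact ⟨s.1, s.2, hs⟩

theorem injective_of_annihilator {A : Type*} [CommRing A] [IsNoetherianRing A] (J : Ideal A)
    {M : Type*} [AddCommGroup M] [Module A M] [Module.Flat (A ⧸ J) ((A ⧸ J) ⊗[A] M)]
    (H : ∀ p ∈ associatedPrimes A A, ∀ (K : Ideal A) (z : M ⊗[A] K),
      K.subtype.lTensor M z = 0 → ∃ s ∉ p, s • z = 0) :
    ∀ (k : ℕ) (K : Ideal A), K ≤ (J ^ k).annihilator →
      Function.Injective (K.subtype.lTensor M) := by
  intro k
  induction k with
  | zero =>
    intro K hK
    have hK0 : K = ⊥ := by
      rw [eq_bot_iff]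
      intro a ha
      have := hK ha
      rw [pow_zero, Ideal.one_eq_top, Submodule.mem_annihilator] at this
      have h1 := this 1 Submodule.mem_top
      rw [smul_eq_mul, mul_one] at h1
      rw [h1]
      exact zero_mem _
    subst hK0
    haveI : Subsingleton (M ⊗[A] (⊥ : Ideal A)) := inferInstance
    exact Function.injective_of_subsingleton _
  | succ k ih =>
    intro K hK
    rw [injective_iff_map_eq_zero]
    intro z hz
    let K' : Ideal A := K ⊓ (J ^ k).annihilator
    let f : K' →ₗ[A] K := Submodule.inclusion inf_le_left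
    let g : K →ₗ[A] (K ⧸ LinearMap.range f) := Submodule.mkQ _
    have hfg : Function.Exact f g := LinearMap.exact_map_mkQ_range f
    have hg : Function.Surjective g := Submodule.mkQ_surjective _
    have hex := lTensor_exact M hfg hg
    have hmem : ∀ x : K, x ∈ LinearMap.range f ↔ x.1 ∈ (J ^ k).annihilator := by
      intro x
      constructor
      · rintro ⟨y, rfl⟩
        exact y.2.2
      · intro hx
        exact ⟨⟨x.1, x.2, hx⟩, rfl⟩
    have hzbar : g.lTensor M z = 0 := by
      have hQ : ∀ a ∈ J, ∀ x : K ⧸ LinearMap.range f, a • x = 0 := by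
        intro a ha x
        obtain ⟨x, rfl⟩ := Submodule.mkQ_surjective _ x
        rw [← map_smul, Submodule.mkQ_apply, Submodule.Quotient.mk_eq_zero, hmem,
          Submodule.mem_annihilator]
        intro y hy
        have hx := hK x.2
        rw [Submodule.mem_annihilator] at hx
        have := hx (a * y) (by rw [pow_succ']; exact Ideal.mul_mem_mul ha hy)
        simp only [smul_eq_mul, SetLike.val_smul] at this ⊢
        rw [← this]
        ring
      let 𝔟 : Ideal A := LinearMap.ker (LinearMap.toSpanSingleton A _ (g.lTensor M z))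
      have h𝔟 : ∀ p ∈ associatedPrimes A A, ¬ 𝔟 ≤ p := by
        intro p hp hle
        obtain ⟨s, hsp, hs⟩ := H p hp K z hz
        apply hsp
        apply hle
        show LinearMap.toSpanSingleton A _ (g.lTensor M z) s = 0
        rw [LinearMap.toSpanSingleton_apply, ← map_smul, hs, map_zero]
      have hnot : ¬ ((𝔟 : Set A) ⊆ ⋃ p ∈ associatedPrimes A A, (p : Set A)) := by
        intro hsub
        have hfin := associatedPrimes.finite A A
        have h2 := (Ideal.subset_union_prime (s := hfin.toFinset) (f := fun p : Ideal A => p)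
          ⊤ ⊤ (fun p hp _ _ => IsAssociatedPrime.isPrime (hfin.mem_toFinset.mp hp)) (I := 𝔟)).mp
          (by
            intro a ha
            obtain ⟨p, hp, hap⟩ := Set.mem_iUnion₂.mp (hsub ha)
            exact Set.mem_iUnion₂.mpr ⟨p, by simpa using hp, hap⟩)
        obtain ⟨p, hp, hle⟩ := h2
        exact h𝔟 p (hfin.mem_toFinset.mp hp) hle
      obtain ⟨s, hs𝔟, hsn⟩ := Set.not_subset.mp hnot
      rw [biUnion_associatedPrimes_eq_compl_nonZeroDivisors, Set.notMem_compl_iff] at hsn
      have hsinj : Function.Injective
          ((s • LinearMap.id : (K ⧸ LinearMap.range f) →ₗ[A] (K ⧸ LinearMap.range f))) := by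
        rw [injective_iff_map_eq_zero]
        intro x hx
        obtain ⟨x, rfl⟩ := Submodule.mkQ_surjective _ x
        rw [LinearMap.smul_apply, LinearMap.id_apply, ← map_smul, Submodule.mkQ_apply,
          Submodule.Quotient.mk_eq_zero, hmem, Submodule.mem_annihilator] at hx
        rw [Submodule.mkQ_apply, Submodule.Quotient.mk_eq_zero, hmem, Submodule.mem_annihilator]
        intro y hy
        have := hx y hy
        simp only [smul_eq_mul, SetLike.val_smul] at this ⊢
        apply (mem_nonZeroDivisors_iff.mp hsn).1  
        rw [← this]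
        ring
      have hinj := lTensor_injective_of_killed (M := M) J hQ hQ _ hsinj
      apply hinj
      rw [map_zero, LinearMap.lTensor_smul, LinearMap.lTensor_id, LinearMap.smul_apply,
        LinearMap.id_apply]
      exact hs𝔟
    obtain ⟨z', rfl⟩ := (hex z).mp hzbar
    have hz' : K'.subtype.lTensor M z' = 0 := by
      have hc : K.subtype ∘ₗ f = K'.subtype := rfl
      rw [← hc, LinearMap.lTensor_comp, LinearMap.comp_apply]
      exact hz
    rw [(injective_iff_map_eq_zero _).mp (ih K' inf_le_right) z' hz', map_zero]

/-- Let A be a Noetherian ring, J a nilpotent ideal of A and M an A-module. Then M is flat over A if and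
only if (A/J) ⊗_A M is flat over A/J and, for every associated prime p of A, the localization M_p is
flat over A_p. -/
theorem result {A : Type u} [CommRing A] [IsNoetherianRing A]
    (J : Ideal A) (hJ : IsNilpotent J) (M : Type u) [AddCommGroup M] [Module A M] :
    Module.Flat A M ↔
      Module.Flat (A ⧸ J) ((A ⧸ J) ⊗[A] M) ∧
        ∀ p : associatedPrimes A A,
          haveI : p.1.IsPrime := IsAssociatedPrime.isPrime p.2
          Module.Flat (Localization.AtPrime p.1) (LocalizedModule p.1.primeCompl M) := by
  constructor
  · intro hM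
    refine ⟨Module.Flat.baseChange A (A ⧸ J) M, fun p => ?_⟩
    haveI : p.1.IsPrime := IsAssociatedPrime.isPrime p.2
    exact inferInstance
  · rintro ⟨h1, h2⟩
    obtain ⟨n, hn⟩ := hJ
    rw [Module.Flat.iff_lTensor_injective']
    intro I
    haveI := h1
    refine injective_of_annihilator J ?_ n I ?_
    · intro p hp K z hz
      haveI : p.IsPrime := IsAssociatedPrime.isPrime hp
      haveI := h2 ⟨p, hp⟩
      exact exists_smul_eq_zero p M K z hz
    · rw [hn, Ideal.zero_eq_bot]
      intro a _
      rw [Submodule.mem_annihilator]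
      intro y hy
      rw [(Submodule.mem_bot A).mp hy, smul_zero]

end Groth.Agent.S2574
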