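import Groth.Statements.S2591
import Groth.Agent.Lib.Helper25.StratFree
import Groth.Agent.Lib.Helper21.FlatDescP

set_option autoImplicit false
open TensorProduct
universe u
open EGA43

namespace Groth.Agent.S2591

/-- Let A be a commutative ring, B a finitely presented A-algebra and M a finitely presented B-module
which is flat over A. Then there are finitely many elements f₁, …, fₙ of A generating the unit ideal
such that, for each i < n, writing A' for the localization of A at f_{i+1} modulo the ideal
generated by f₁, …, fᵢ, the module A' ⊗_A M is free over A'. -/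
theorem result {A B : Type u} [CommRing A] [CommRing B] [Algebra A B]
    [Algebra.FinitePresentation A B] (M : Type u) [AddCommGroup M] [Module B M] [Module A M] [IsScalarTower A B M]
    [Module.FinitePresentation B M] [Module.Flat A M] :
    ∃ l : List A, Ideal.span {a | a ∈ l} = ⊤ ∧
      ∀ (i : ℕ) (hi : i < l.length),
        letI J : Ideal (Localization.Away l[i]) :=
          (Ideal.span {a | a ∈ l.take i}).map (algebraMap A (Localization.Away l[i]))
        Module.Free (Localization.Away l[i] ⧸ J) ((Localization.Away l[i] ⧸ J) ⊗[A] M) := by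
  classical
  obtain ⟨R₀, _, _, S₀, _, _, _, _, _, _, M₀, _, _, _, _, _, _, f₀, hR₀ft, hS₀ft, hM₀fin, hM₀flat,
    hpush, hf₀⟩ := Groth.Agent.Lib.Helper21.FlatDesc.exists_flat_model A B M
  haveI : IsNoetherianRing R₀ := Algebra.FiniteType.isNoetherianRing ℤ R₀
  obtain ⟨l₀, hl₀, hfree⟩ :=
    Groth.Agent.Lib.Helper25.StratFree.exists_strat (S := S₀) M₀ (⊥ : Ideal R₀)
  let e : A ⊗[R₀] M₀ ≃ₗ[A] M :=
    (Algebra.IsPushout.cancelBaseChange R₀ A S₀ B M₀).symm ≪≫ₗ hf₀.equiv.restrictScalars A
  have himg : ∀ l' : List R₀, {a | a ∈ l'.map (algebraMap R₀ A)} =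
      (algebraMap R₀ A) '' {a | a ∈ l'} := by
    intro l'
    ext a
    simp
  refine ⟨l₀.map (algebraMap R₀ A), ?_, ?_⟩
  · rw [himg, ← Ideal.map_span]
    have h1 : Ideal.span {a | a ∈ l₀} = ⊤ := by
      simpa [Groth.Agent.Lib.Helper25.StratFree.spanL] using hl₀
    rw [h1, Ideal.map_top]
  · intro i hi
    have hi' : i < l₀.length := by simpa using hi
    refine Groth.Agent.Lib.Helper25.StratFree.freeAt_transfer M₀ M e
      (⊥ ⊔ Groth.Agent.Lib.Helper25.StratFree.spanL (l₀.take i)) l₀[i] _ _ (by simp) ?_
      (hfree i hi')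
    rw [bot_sup_eq, ← List.map_take, himg, ← Ideal.map_span]
    exact le_rfl

end Groth.Agent.S2591
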