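import Groth.Statements.S2596
import Mathlib
import Groth.Agent.Lib.Helper13.StalkSpread
import Groth.Agent.Lib.Helper3.AlgSpDvrCl
import Groth.Agent.Lib.Helper28.ProjSpaceBasic
import Groth.Agent.S7409

set_option autoImplicit false
open CategoryTheory AlgebraicGeometry
universe u
open EGA43

namespace Groth.Agent.S2596

section helpers
set_option linter.unusedSectionVars false
set_option linter.unusedVariables false
set_option linter.style.haveILetI false
open CategoryTheory CategoryTheory.Limits AlgebraicGeometry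


open Groth.Agent.Lib.Helper13.StalkSpread

/-- the discrete valuative criterion with centre at a given point -/
def DvrAt {X B : Scheme.{u}} (fB : X ⟶ B) (b₀ : B) : Prop :=
  ∀ (A : Type u) [CommRing A] [IsDomain A] [IsDiscreteValuationRing A]
    (hA : Spec (CommRingCat.of A) ⟶ B) (x : Spec (CommRingCat.of (FractionRing A)) ⟶ X),
    hA.base (IsLocalRing.closedPoint A) = b₀ →
    x ≫ fB = Spec.map (CommRingCat.ofHom (algebraMap A (FractionRing A))) ≫ hA →
    ∃ l : Spec (CommRingCat.of A) ⟶ X, l ≫ fB = hA ∧
      Spec.map (CommRingCat.ofHom (algebraMap A (FractionRing A))) ≫ l = x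

set_option maxHeartbeats 1600000 in
theorem isProper_of_dvrAt {X B : Scheme.{u}} [IsLocallyNoetherian B] [CompactSpace B]
    [QuasiSeparatedSpace B] (fB : X ⟶ B) [IsSeparated fB] [LocallyOfFiniteType fB]
    [QuasiCompact fB] (b₀ : B) (hb₀ : ∀ F : Set B, IsClosed F → F.Nonempty → b₀ ∈ F)
    (H : DvrAt fB b₀) : IsProper fB := by
  obtain ⟨n, X', π, j, hj, hcomm, hπ, hsurj⟩ := Groth.Agent.S7409.result fB
  let p := CohB1.ProjSpaceOver.toBase n B
  haveI hp : IsProper p := Groth.Agent.Lib.Helper28.ProjSpaceBasic.isProper_toBase n B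
  haveI : IsLocallyNoetherian (CohB1.ProjSpaceOver n B) :=
    LocallyOfFiniteType.isLocallyNoetherian p
  haveI : LocallyOfFiniteType (j ≫ p) := by rw [hcomm]; infer_instance
  haveI : LocallyOfFiniteType j := locallyOfFiniteType_of_comp j p
  haveI : CompactSpace X := QuasiCompact.compactSpace_of_compactSpace fB
  haveI : CompactSpace X' := QuasiCompact.compactSpace_of_compactSpace π
  -- the range of `j` is closed
  have hcl : IsClosed (Set.range j.base) := by
    rw [← closure_subset_iff_isClosed]
    intro c hc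
    by_contra hcR
    have hC : IsClosed (closure (Set.range j.base) ∩ (Set.range j.base)ᶜ) := by
      have : IsLocallyClosed (Set.range j.base) := j.isLocallyClosed_range
      have h2 := this.isOpen_coborder
      rw [coborder, ← Set.sdiff_eq] at *
      exact isOpen_compl_iff.mp h2
    have hF : IsClosed (p.base '' (closure (Set.range j.base) ∩ (Set.range j.base)ᶜ)) :=
      p.isClosedMap _ hC
    obtain ⟨c', ⟨hc'1, hc'2⟩, hc'3⟩ := hb₀ _ hF ⟨p.base c, c, ⟨hc, hcR⟩, rfl⟩
    obtain ⟨A, _, _, _, hA, xK, hx1, hx2⟩ :=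
      Groth.Agent.Lib.Helper3.DvrCl.exists_dvr_of_mem_closure_range j c' hc'1
    obtain ⟨l, hl1, hl2⟩ := H A (hA ≫ p) (xK ≫ π)
      ((congrArg p.base hx2).trans hc'3)
      (by rw [Category.assoc, ← hcomm, ← Category.assoc, hx1, Category.assoc])
    have hE : ValuativeCriterion.Existence π := by
      have : UniversallyClosed π := inferInstance
      rw [UniversallyClosed.eq_valuativeCriterion] at this
      exact this.1
    let S₁ : ValuativeCommSq π :=
      { R := A, K := FractionRing A, i₁ := xK, i₂ := l, commSq := ⟨hl2.symm⟩ }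
    obtain ⟨⟨l', hl'1, hl'2⟩⟩ := hE S₁
    have hU : ValuativeCriterion.Uniqueness p := IsSeparated.valuativeCriterion p
    let S₂ : ValuativeCommSq p :=
      { R := A, K := FractionRing A, i₁ := xK ≫ j, i₂ := hA ≫ p,
        commSq := ⟨by rw [Category.assoc, ← Category.assoc, hx1, Category.assoc]⟩ }
    let L1 : S₂.commSq.LiftStruct := ⟨hA, hx1.symm, rfl⟩
    let L2 : S₂.commSq.LiftStruct := ⟨l' ≫ j, by rw [← Category.assoc, hl'1], by
      rw [Category.assoc, hcomm, ← Category.assoc, hl'2, hl1]⟩
    have heq : hA = l' ≫ j := by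
      show L1.l = L2.l
      exact congrArg CommSq.LiftStruct.l ((hU S₂).elim L1 L2)
    apply hc'2
    rw [← hx2, heq]
    exact ⟨l'.base _, rfl⟩
  haveI : IsClosedImmersion j := IsClosedImmersion.of_isPreimmersion j hcl
  haveI : IsProper (π ≫ fB) := by rw [← hcomm]; infer_instance
  haveI : UniversallyClosed fB := UniversallyClosed.of_comp_surjective π fB
  exact { }

theorem baseChange_comp (P : MorphismProperty Scheme.{u}) [P.IsStableUnderBaseChange]
    {X Y Z W : Scheme.{u}} (f : X ⟶ Y) (r : Z ⟶ Y) (a : W ⟶ Z) (r' : W ⟶ Y) (hr : r' = a ≫ r)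
    (h : P (pullback.snd f r)) : P (pullback.snd f r') := by
  subst hr
  let l : pullback f (a ≫ r) ⟶ pullback f r :=
    pullback.lift (pullback.fst f (a ≫ r)) (pullback.snd f (a ≫ r) ≫ a)
      (by rw [Category.assoc]; exact pullback.condition)
  have hl1 : l ≫ pullback.fst f r = pullback.fst f (a ≫ r) := pullback.lift_fst _ _ _
  have hl2 : l ≫ pullback.snd f r = pullback.snd f (a ≫ r) ≫ a := pullback.lift_snd _ _ _
  have big : IsPullback (l ≫ pullback.fst f r) (pullback.snd f (a ≫ r)) f (a ≫ r) := by
    rw [hl1]; exact IsPullback.of_hasPullback _ _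
  have sq : IsPullback l (pullback.snd f (a ≫ r)) (pullback.snd f r) a :=
    IsPullback.of_right big hl2 (IsPullback.of_hasPullback f r)
  exact MorphismProperty.of_isPullback sq h

set_option maxHeartbeats 1600000 in
theorem main {X Y : Scheme.{u}} [IsLocallyNoetherian Y]
    (f : X ⟶ Y) [IsSeparated f] [LocallyOfFiniteType f] [QuasiCompact f] (y : Y)
    (h : ∀ (A : Type u) [CommRing A] [IsDomain A] [IsDiscreteValuationRing A]
      (g : Spec (CommRingCat.of A) ⟶ Y), g.base (IsLocalRing.closedPoint A) = y →
      ∀ σ : Spec (CommRingCat.of (FractionRing A)) ⟶ pullback f g,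
        σ ≫ pullback.snd f g = Spec.map (CommRingCat.ofHom (algebraMap A (FractionRing A))) →
        ∃ s : Spec (CommRingCat.of A) ⟶ pullback f g, s ≫ pullback.snd f g = 𝟙 _ ∧
          Spec.map (CommRingCat.ofHom (algebraMap A (FractionRing A))) ≫ s = σ) :
    ∃ U : Y.Opens, y ∈ U ∧ IsProper (f ∣_ U) := by
  let fss := Y.fromSpecStalk y
  have hproper : IsProper (pullback.snd f fss) := by
    apply isProper_of_dvrAt (pullback.snd f fss) (IsLocalRing.closedPoint (Y.presheaf.stalk y))
    · intro F hF hne
      by_contra hb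
      have h1 : (⟨Fᶜ, hF.isOpen_compl⟩ : TopologicalSpace.Opens (PrimeSpectrum (Y.presheaf.stalk y)))
          = ⊤ := (IsLocalRing.closedPoint_mem_iff (U := ⟨Fᶜ, hF.isOpen_compl⟩)).mp hb
      obtain ⟨z, hz⟩ := hne
      have h2 : z ∈ (⟨Fᶜ, hF.isOpen_compl⟩ : TopologicalSpace.Opens
        (PrimeSpectrum (Y.presheaf.stalk y))) := by rw [h1]; trivial
      exact h2 hz
    · intro A _ _ _ hA x hcl hx
      let gen := Spec.map (CommRingCat.ofHom (algebraMap A (FractionRing A)))
      have hg : (hA ≫ fss).base (IsLocalRing.closedPoint A) = y :=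
        (congrArg fss.base hcl).trans (Y.fromSpecStalk_closedPoint (x := y))
      let σ : Spec (CommRingCat.of (FractionRing A)) ⟶ pullback f (hA ≫ fss) :=
        pullback.lift (x ≫ pullback.fst f fss) gen (by
          rw [Category.assoc, pullback.condition, ← Category.assoc, hx, Category.assoc])
      obtain ⟨s, hs1, hs2⟩ := h A (hA ≫ fss) hg σ (pullback.lift_snd _ _ _)
      have hs3 : (s ≫ pullback.fst f (hA ≫ fss)) ≫ f = hA ≫ fss := by
        rw [Category.assoc, pullback.condition, ← Category.assoc, hs1, Category.id_comp]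
      refine ⟨pullback.lift (s ≫ pullback.fst f (hA ≫ fss)) hA hs3, pullback.lift_snd _ _ _, ?_⟩
      apply pullback.hom_ext
      · rw [Category.assoc, pullback.lift_fst, ← Category.assoc, hs2]
        exact pullback.lift_fst _ _ _
      · rw [Category.assoc, pullback.lift_snd]
        exact hx.symm
  have hP : IsProper (pullback.snd f (pullback.fst (𝟙 Y) fss)) :=
    baseChange_comp @IsProper f fss (pullback.snd (𝟙 Y) fss) _
      (by rw [← pullback.condition, Category.comp_id]) hproper
  obtain ⟨W, hW, hPW⟩ := exists_nhd_of_stalk @IsProper descends_isProper Y f (𝟙 Y) y hP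
  exact ⟨W, hW, hPW⟩


end helpers

open CategoryTheory.Limits in
/-- Let Y be locally Noetherian, f : X ⟶ Y separated and of finite type, and y a point of Y. Suppose
that for every discrete valuation ring A with fraction field K and every morphism g : Spec A ⟶ Y
sending the closed point to y, every K-point σ of X ×_Y Spec A lying over the generic point Spec K ⟶
Spec A extends to a section of X ×_Y Spec A ⟶ Spec A. Then f is proper over some open neighbourhood
of y. -/
theorem result {X Y : Scheme.{u}} [IsLocallyNoetherian Y]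
    (f : X ⟶ Y) [IsSeparated f] [LocallyOfFiniteType f] [QuasiCompact f] (y : Y)
    (h : ∀ (A : Type u) [CommRing A] [IsDomain A] [IsDiscreteValuationRing A]
      (g : Spec (CommRingCat.of A) ⟶ Y), g.base (IsLocalRing.closedPoint A) = y →
      ∀ σ : Spec (CommRingCat.of (FractionRing A)) ⟶ pullback f g,
        σ ≫ pullback.snd f g = Spec.map (CommRingCat.ofHom (algebraMap A (FractionRing A))) →
        ∃ s : Spec (CommRingCat.of A) ⟶ pullback f g, s ≫ pullback.snd f g = 𝟙 _ ∧
          Spec.map (CommRingCat.ofHom (algebraMap A (FractionRing A))) ≫ s = σ) :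
    ∃ U : Y.Opens, y ∈ U ∧ IsProper (f ∣_ U) := by
  exact main f y h

end Groth.Agent.S2596
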