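import Groth.Statements.S2908
import Groth.Agent.Lib.Helper28.FinQuot

set_option autoImplicit false
open CategoryTheory CategoryTheory.Limits AlgebraicGeometry
universe u
open SGA1

namespace Groth.Agent.S2908

/-- Let a finite group G act on a scheme X and let p : X ⟶ Y be a quotient of X by G. Then p is
surjective, two points of X have the same image exactly when they lie in one G-orbit, and the
topology of Y is the quotient topology. -/
theorem result {X Y : Scheme.{u}} {G : Type u} [Group G] [Finite G] (ρ : G →* Aut X)
    (p : X ⟶ Y) (hp : SGA1.IsQuot ρ p) :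
    Function.Surjective p.base ∧ (∀ x x' : X, p.base x = p.base x' ↔ ∃ g : G, (ρ g).hom.base x = x') ∧
      Topology.IsQuotientMap p.base := by
  have hint := Groth.Agent.Lib.Helper28.FinQuot.isIntegralHom ρ p hp
  have hsurj : Function.Surjective p.base := Groth.Agent.Lib.Helper28.FinQuot.surjective ρ p hp
  refine ⟨hsurj, fun x x' => ⟨fun h => ?_, ?_⟩, ?_⟩
  · exact Groth.Agent.Lib.Helper28.FinQuot.exists_of_apply_eq ρ p hp x x' h
  · rintro ⟨g, rfl⟩
    have := congrArg (fun f => f.base x) (hp.inv g)
    exact this.symm
  · exact IsClosedMap.isQuotientMap p.isClosedMap p.continuous hsurj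

end Groth.Agent.S2908
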