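import Groth.Statements.S2909
import Groth.Agent.Lib.Helper28.FinQuotProps

set_option autoImplicit false
open CategoryTheory CategoryTheory.Limits AlgebraicGeometry
universe u
open SGA1

namespace Groth.Agent.S2909

open Groth.Agent.Lib.Helper28.FinQuot

theorem affine_part {X Y Z : Scheme.{u}} {G : Type u} [Group G] [Finite G] (ρ : G →* Aut X)
    (p : X ⟶ Y) (hp : SGA1.IsQuot ρ p) (f : X ⟶ Z) (q : Y ⟶ Z) (hq : p ≫ q = f) :
    IsAffineHom f ↔ IsAffineHom q := by
  haveI := hp.affine
  constructor
  · intro hf
    refine ⟨fun T hT => ?_⟩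
    apply isAffineOpen_of_preimage ρ p hp
    have : p ⁻¹ᵁ (q ⁻¹ᵁ T) = f ⁻¹ᵁ T := by rw [← Scheme.Hom.comp_preimage, hq]
    rw [this]
    exact hT.preimage f
  · intro hq'
    rw [← hq]
    infer_instance

set_option backward.isDefEq.respectTransparency false in
theorem separated_part {X Y Z : Scheme.{u}} {G : Type u} [Group G] [Finite G] (ρ : G →* Aut X)
    (p : X ⟶ Y) (hp : SGA1.IsQuot ρ p) (f : X ⟶ Z) (q : Y ⟶ Z) (hq : p ≫ q = f) :
    IsSeparated f ↔ IsSeparated q := by
  haveI := hp.affine
  constructor
  · intro hf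
    have hint := isIntegralHom ρ p hp
    have hP : UniversallyClosed (pullback.map f f q q p p (𝟙 Z)
        ((Category.comp_id _).trans hq.symm) ((Category.comp_id _).trans hq.symm)) :=
      MorphismProperty.pullbackMap (P := @UniversallyClosed) (inferInstance : UniversallyClosed p)
        (inferInstance : UniversallyClosed p) hq.symm hq.symm
    have hcomm : pullback.diagonal f ≫ pullback.map f f q q p p (𝟙 Z)
        ((Category.comp_id _).trans hq.symm) ((Category.comp_id _).trans hq.symm) =
        p ≫ pullback.diagonal q := by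
      apply pullback.hom_ext <;> simp
    have hrange : Set.range (pullback.diagonal q) =
        (pullback.map f f q q p p (𝟙 Z)
          ((Category.comp_id _).trans hq.symm) ((Category.comp_id _).trans hq.symm)) ''
          Set.range (pullback.diagonal f) := by
      rw [← Set.range_comp]
      have h1 : Set.range (pullback.diagonal q) = Set.range (p ≫ pullback.diagonal q) := by
        rw [Scheme.Hom.comp_base, TopCat.coe_comp, Set.range_comp,
          Set.range_eq_univ.mpr (surjective ρ p hp), Set.image_univ]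
      rw [h1, ← hcomm]
      rfl
    have hclosed : IsClosed (Set.range (pullback.diagonal q)) := by
      rw [hrange]
      exact Scheme.Hom.isClosedMap _ _ (pullback.diagonal f).isClosedEmbedding.isClosed_range
    exact ⟨IsClosedImmersion.of_isPreimmersion _ hclosed⟩
  · intro hq'
    rw [← hq]
    infer_instance


theorem artinTate {A B C : Type*} [CommRing A] [CommRing B] [CommRing C] [IsNoetherianRing A]
    (g : A →+* B) (h : B →+* C) (hfin : h.Finite) (hinj : Function.Injective h)
    (hft : (h.comp g).FiniteType) : g.FiniteType := by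
  letI := g.toAlgebra
  letI := h.toAlgebra
  letI : Algebra A C := (h.comp g).toAlgebra
  haveI : IsScalarTower A B C := IsScalarTower.of_algebraMap_eq (fun _ => rfl)
  exact ⟨fg_of_fg_of_fg A B C hft.out hfin.fg_top hinj⟩

theorem finite_part {X Y Z : Scheme.{u}} {G : Type u} [Group G] [Finite G] (ρ : G →* Aut X)
    (p : X ⟶ Y) (hp : SGA1.IsQuot ρ p) (f : X ⟶ Z) (q : Y ⟶ Z) (hq : p ≫ q = f)
    (hf : LocallyOfFiniteType f) : IsFinite p := by
  have hint := isIntegralHom ρ p hp
  have : LocallyOfFiniteType p := by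
    have : LocallyOfFiniteType (p ≫ q) := hq ▸ hf
    exact locallyOfFiniteType_of_comp p q
  exact (IsFinite.iff_isIntegralHom_and_locallyOfFiniteType p).mpr ⟨hint, this⟩

set_option backward.isDefEq.respectTransparency false in
theorem noeth_part {X Y Z : Scheme.{u}} {G : Type u} [Group G] [Finite G] (ρ : G →* Aut X)
    (p : X ⟶ Y) (hp : SGA1.IsQuot ρ p) (f : X ⟶ Z) (q : Y ⟶ Z) (hq : p ≫ q = f)
    [IsLocallyNoetherian Z] (hf : LocallyOfFiniteType f) (hqc : QuasiCompact f) :
    LocallyOfFiniteType q ∧ QuasiCompact q := by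
  haveI := hp.affine
  have hfin : IsFinite p := finite_part ρ p hp f q hq hf
  have hsurj := surjective ρ p hp
  refine ⟨?_, ?_⟩
  · rw [HasRingHomProperty.iff_appLE (P := @LocallyOfFiniteType)]
    intro U V e
    have hW : IsAffineOpen (p ⁻¹ᵁ V.1) := V.2.preimage p
    have e' : p ⁻¹ᵁ V.1 ≤ f ⁻¹ᵁ U.1 := by
      rw [← hq, Scheme.Hom.comp_preimage]
      exact p.preimage_mono e
    haveI : IsNoetherianRing Γ(Z, U.1) := IsLocallyNoetherian.component_noetherian U
    have h1 : (f.appLE U.1 (p ⁻¹ᵁ V.1) e').hom.FiniteType := f.finiteType_appLE U.2 hW e'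
    have h2 : f.appLE U.1 (p ⁻¹ᵁ V.1) e' = q.appLE U.1 V.1 e ≫ p.app V.1 := by
      rw [Scheme.Hom.app_eq_appLE, Scheme.Hom.appLE_comp_appLE]
      exact appLE_congr hq.symm _ _ _
    rw [h2] at h1
    exact artinTate (q.appLE U.1 V.1 e).hom (p.app V.1).hom (p.finite_app V.1 V.2)
      (hp.injective V.1) h1
  · refine ⟨fun U hU hUc => ?_⟩
    have : q ⁻¹' U = p '' (f ⁻¹' U) := by
      ext y
      constructor
      · intro hy
        obtain ⟨x, rfl⟩ := hsurj y
        refine ⟨x, ?_, rfl⟩
        change f x ∈ U
        rw [← hq]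
        exact hy
      · rintro ⟨x, hx, rfl⟩
        change q (p x) ∈ U
        have : f x ∈ U := hx
        rw [← hq] at this
        exact this
    rw [this]
    exact (hqc.isCompact_preimage U hU hUc).image p.continuous


/-- Let a finite group G act on a scheme X by automorphisms over a scheme Z (structure morphism f), and
let p : X ⟶ Y be a quotient of X by G with Y ⟶ Z the induced morphism q (so p ≫ q = f). Then X is
affine over Z iff Y is, X is separated over Z iff Y is; if f is locally of finite type then p is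
finite; and if moreover Z is locally Noetherian and f quasi-compact then q is of finite type
(locally of finite type and quasi-compact). -/
theorem result {X Y Z : Scheme.{u}} {G : Type u} [Group G] [Finite G] (ρ : G →* Aut X)
    (p : X ⟶ Y) (hp : SGA1.IsQuot ρ p) (f : X ⟶ Z) (q : Y ⟶ Z) (hq : p ≫ q = f) (hρ : ∀ g : G, (ρ g).hom ≫ f = f) :
    (IsAffineHom f ↔ IsAffineHom q) ∧ (IsSeparated f ↔ IsSeparated q) ∧
    (LocallyOfFiniteType f → IsFinite p) ∧
    (IsLocallyNoetherian Z → LocallyOfFiniteType f → QuasiCompact f → LocallyOfFiniteType q ∧ QuasiCompact q) := by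
  exact ⟨affine_part ρ p hp f q hq, separated_part ρ p hp f q hq,
    fun hf => finite_part ρ p hp f q hq hf,
    fun hZ hf hqc => @noeth_part _ _ _ _ _ _ ρ p hp f q hq hZ hf hqc⟩

end Groth.Agent.S2909
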