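import Groth.Statements.S2910
import Groth.Agent.Lib.Helper28.FinQuotGeom
import Groth.Agent.Lib.Helper28.Rigidity

set_option autoImplicit false
open CategoryTheory CategoryTheory.Limits AlgebraicGeometry
universe u
open SGA1

open Groth.Agent.Lib.Helper28.FinQuot Groth.Agent.Lib.Helper28.FinQuotGeom
open Groth.Agent.Lib.Helper28.Rigidity

namespace Groth.Agent.S2910

/-- Let a finite group G act faithfully on a connected scheme X, let p : X ⟶ Y be a quotient of X by G
with Y locally Noetherian and p finite, and suppose p is etale. Then G acts freely on the geometric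
points of X (all inertia groups are trivial), and every automorphism of X over Y is the action of
exactly one element of G. -/
theorem result {X Y : Scheme.{u}} {G : Type u} [Group G] [Finite G] (ρ : G →* Aut X)
    (p : X ⟶ Y) (hp : SGA1.IsQuot ρ p) [IsLocallyNoetherian Y] [IsFinite p] [ConnectedSpace X]
    (hfaith : Function.Injective ρ) [Etale p] :
    (∀ (K : Type u) [Field K] [IsAlgClosed K] (ξ : Spec (CommRingCat.of K) ⟶ X) (g : G), ξ ≫ (ρ g).hom = ξ → g = 1) ∧
    ∀ u : Aut X, u.hom ≫ p = p → ∃! g : G, ρ g = u := by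
  constructor
  · intro K _ _ ξ g hg
    have h1 : (ρ g).hom = 𝟙 X :=
      eq_of_comp_eq p (ρ g).hom (𝟙 X) (by rw [hp.inv g, Category.id_comp]) ξ
        (by rw [hg, Category.comp_id])
    apply hfaith
    rw [map_one]
    exact Iso.ext h1
  · intro u hu
    obtain ⟨x⟩ : Nonempty X := inferInstance
    obtain ⟨g, hg⟩ := exists_comp_eq ρ p hp (X.residueField x) (X.fromSpecResidueField x)
      (X.fromSpecResidueField x ≫ u.hom) (by rw [Category.assoc, hu])
    have h1 : u.hom = (ρ g).hom :=
      eq_of_comp_eq p u.hom (ρ g).hom (by rw [hu, hp.inv g]) (X.fromSpecResidueField x) hg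
    refine ⟨g, (Iso.ext h1).symm, fun g' hg' => hfaith (hg'.trans (Iso.ext h1))⟩

end Groth.Agent.S2910
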