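import Groth.Statements.S2911
import Groth.Agent.S2909
import Groth.Agent.Lib.Helper28.FinQuotInertiaC
import Groth.Agent.Lib.Helper28.EtSrcDescent

set_option autoImplicit false
open CategoryTheory CategoryTheory.Limits AlgebraicGeometry
universe u
open SGA1

namespace Groth.Agent.S2911

/-- With the existence of the quotient taken as a hypothesis: Let Y be locally Noetherian, f : X ⟶ Y
etale, separated and quasi-compact, G a finite group acting on X by Y-automorphisms, p : X ⟶ X' a
quotient of X by G and q : X' ⟶ Y the induced morphism. Then p and q are etale, and if f is finite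
then q is finite. -/
theorem result {X X' Y : Scheme.{u}} {G : Type u} [Group G] [Finite G] (ρ : G →* Aut X)
    [IsLocallyNoetherian Y] (f : X ⟶ Y) [Etale f] [IsSeparated f] [QuasiCompact f] (hρ : ∀ g : G, (ρ g).hom ≫ f = f)
    (p : X ⟶ X') (hp : SGA1.IsQuot ρ p) (q : X' ⟶ Y) (hq : p ≫ q = f) :
    Etale p ∧ Etale q ∧ (IsFinite f → IsFinite q) := by
  classical
  obtain ⟨haff, hsep, hfin, hft⟩ := Groth.Agent.S2909.result ρ p hp f q hq hρ
  haveI hpfin : IsFinite p := hfin inferInstance
  obtain ⟨hqlft, hqqc⟩ := hft inferInstance inferInstance inferInstance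
  haveI : IsLocallyNoetherian X' := LocallyOfFiniteType.isLocallyNoetherian q
  haveI : IsAffineHom p := hp.affine
  haveI hpsurj : Surjective p := ⟨Groth.Agent.Lib.Helper28.FinQuot.surjective ρ p hp⟩
  -- `p` is étale
  have hpet : Etale p := by
    refine (IsZariskiLocalAtSource.iff_of_iSup_eq_top (P := @Etale)
      (fun x₀ : X => Groth.Agent.Lib.Helper28.FinQuotInertia.stratum f ρ hρ x₀) ?_).mpr
      (fun x₀ => Groth.Agent.Lib.Helper28.FinQuotInertia.etale_stratum ρ f hρ p hp q hq x₀)
    apply top_le_iff.mp
    intro x _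
    exact TopologicalSpace.Opens.mem_iSup.mpr
      ⟨x, Groth.Agent.Lib.Helper28.FinQuotInertia.self_mem_stratum f ρ hρ x⟩
  haveI := hpet
  haveI : Etale (p ≫ q) := hq ▸ inferInstance
  -- `q` is étale
  have hqet : Etale q := by
    haveI : Flat q := Groth.Agent.Lib.Helper28.EtSrcDescent.flat_of_comp p q
    haveI : FormallyUnramified q := Groth.Agent.Lib.Helper28.EtSrcDescent.formallyUnramified_of_comp p q
    haveI : LocallyOfFinitePresentation q :=
      Groth.Agent.Lib.Helper27.NoethLfp.locallyOfFinitePresentation_of_isLocallyNoetherian q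
    exact Etale.of_formallyUnramified_of_flat q
  refine ⟨hpet, hqet, fun hf => ?_⟩
  haveI : IsAffineHom q := haff.mp inferInstance
  haveI : UniversallyClosed (p ≫ q) := hq ▸ inferInstance
  haveI : UniversallyClosed q := UniversallyClosed.of_comp_surjective p q
  haveI : IsIntegralHom q := IsIntegralHom.iff_universallyClosed_and_isAffineHom.mpr ⟨inferInstance, inferInstance⟩
  exact (IsFinite.iff_isIntegralHom_and_locallyOfFiniteType q).mpr ⟨inferInstance, hqlft⟩

end Groth.Agent.S2911
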