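import Groth.Statements.S2913
-- import your own Groth.Agent.* helpers here

set_option autoImplicit false
open CategoryTheory CategoryTheory.Limits AlgebraicGeometry Opposite
universe u
open SGA1

namespace Groth.Agent.S2913

/-- Let g : S' ⟶ S be a surjective morphism of schemes such that for every open U of S the map O_S(U) →
O_{S'}(g⁻¹U) is injective. Then g is an epimorphism in the category of schemes. -/
theorem result {S' S : Scheme.{u}} (g : S' ⟶ S) [Surjective g]
    (hinj : ∀ U : S.Opens, Function.Injective (g.app U).hom) : Epi g := by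
  constructor
  intro T f1 f2 h
  have hbase : f1.base = f2.base := by
    have h' : g.base ≫ f1.base = g.base ≫ f2.base := by
      rw [← Scheme.Hom.comp_base, ← Scheme.Hom.comp_base, h]
    have hepi : Epi g.base := (TopCat.epi_iff_surjective _).mpr g.surjective
    exact (cancel_epi g.base).mp h'
  refine Scheme.Hom.ext hbase ?_
  intro U
  have key : ∀ (φ ψ : Γ(T, U) ⟶ Γ(S, f2 ⁻¹ᵁ U)), φ ≫ g.app (f2 ⁻¹ᵁ U) = ψ ≫ g.app (f2 ⁻¹ᵁ U) → φ = ψ := by
    intro φ ψ hφψ
    apply CommRingCat.hom_ext
    apply RingHom.ext
    intro x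
    apply hinj (f2 ⁻¹ᵁ U)
    have := congrArg (fun k => k.hom x) hφψ
    simpa using this
  apply key
  rw [Category.assoc, ← Scheme.Hom.comp_app, Scheme.Hom.naturality, ← Category.assoc,
    ← Scheme.Hom.comp_app, Scheme.Hom.congr_app h U]
  have hid : ∀ (V : S'.Opens) (e : op V ⟶ op V), S'.presheaf.map e = 𝟙 _ := by
    intro V e
    rw [Subsingleton.elim e (𝟙 _), S'.presheaf.map_id]
  erw [Category.assoc, ← Functor.map_comp, hid, Category.comp_id]

end Groth.Agent.S2913
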