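import Groth.Statements.S2914
import Groth.Agent.Lib.Helper28.DescGeneral

set_option autoImplicit false
open CategoryTheory CategoryTheory.Limits AlgebraicGeometry Opposite
universe u
open SGA1

namespace Groth.Agent.S2914

open Groth.Agent.Lib.Helper28 in
theorem desc_aux {S' S : Scheme.{u}} (g : S' ⟶ S) (hq : Topology.IsQuotientMap g.base)
    (hinj : ∀ U : S.Opens, Function.Injective (g.app U).hom)
    (heq : ∀ (U : S.Opens) (s' : Γ(S', g ⁻¹ᵁ U)), (SGA1.overlapFstApp g U).hom s' = (SGA1.overlapSndApp g U).hom s' →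
      s' ∈ Set.range (g.app U).hom)
    {T : Scheme.{u}} (e : S' ⟶ T)
    (he : pullback.fst g g ≫ e = pullback.snd g g ≫ e) :
    ∃! m : S ⟶ T, g ≫ m = e := by
  have hfib : ∀ a b : S', g a = g b → e a = e b := by
    intro a b hab
    obtain ⟨z, hz1, hz2⟩ := Scheme.Pullback.exists_preimage_pullback a b hab
    rw [← hz1, ← hz2, ← Scheme.Hom.comp_apply, ← Scheme.Hom.comp_apply, he]
  refine DescGeneral.existsUnique_desc g hq.surjective hinj e (fun T₀ => ?_) (fun T₀ V ev c => ?_)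
  · have hsat : g ⁻¹' (g '' ((e ⁻¹ᵁ T₀.1 : S'.Opens) : Set S')) = (e ⁻¹ᵁ T₀.1 : S'.Opens) := by
      ext x
      constructor
      · rintro ⟨x', hx', hxx'⟩
        have : e x' = e x := hfib x' x hxx'
        change e x ∈ T₀.1
        rw [← this]; exact hx'
      · intro hx
        exact ⟨x, hx, rfl⟩
    have hopen : IsOpen (g '' ((e ⁻¹ᵁ T₀.1 : S'.Opens) : Set S')) := by
      rw [← hq.isOpen_preimage, hsat]
      exact (e ⁻¹ᵁ T₀.1).isOpen
    exact ⟨⟨g '' ((e ⁻¹ᵁ T₀.1 : S'.Opens) : Set S'), hopen⟩, TopologicalSpace.Opens.ext hsat⟩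
  · apply heq V
    have hle : pullback.fst g g ⁻¹ᵁ (g ⁻¹ᵁ V) ≤ (pullback.fst g g ≫ e) ⁻¹ᵁ T₀.1 := by
      rw [Scheme.Hom.comp_preimage, ← ev]
    have h1 : e.appLE T₀.1 (g ⁻¹ᵁ V) ev.le ≫ SGA1.overlapFstApp g V =
        (pullback.fst g g ≫ e).appLE T₀.1 (pullback.fst g g ⁻¹ᵁ (g ⁻¹ᵁ V)) hle := by
      rw [SGA1.overlapFstApp, Scheme.Hom.app_eq_appLE, Scheme.Hom.appLE_comp_appLE]
    have h2 : e.appLE T₀.1 (g ⁻¹ᵁ V) ev.le ≫ SGA1.overlapSndApp g V =
        (pullback.snd g g ≫ e).appLE T₀.1 (pullback.fst g g ⁻¹ᵁ (g ⁻¹ᵁ V)) (he ▸ hle) := by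
      rw [SGA1.overlapSndApp, Scheme.Hom.appLE_comp_appLE]
    have h3 := FinQuot.appLE_congr he T₀.1 (pullback.fst g g ⁻¹ᵁ (g ⁻¹ᵁ V)) hle
    have h4 := congrArg (fun φ => φ.hom c) (h1.trans (h3.trans h2.symm))
    exact h4

/-- Let g : S' ⟶ S be a morphism of schemes whose underlying map is a quotient map, and such that for
every open U of S the sequence O_S(U) → O_{S'}(g⁻¹U) ⇉ O_{S''}(h⁻¹U) is an equalizer, where S'' = S'
×_S S' with structure map h and the two arrows are restriction along the projections. Then g is an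
effective epimorphism in the category of schemes. -/
theorem result {S' S : Scheme.{u}} (g : S' ⟶ S) (hq : Topology.IsQuotientMap g.base)
    (hinj : ∀ U : S.Opens, Function.Injective (g.app U).hom)
    (heq : ∀ (U : S.Opens) (s' : Γ(S', g ⁻¹ᵁ U)), (SGA1.overlapFstApp g U).hom s' = (SGA1.overlapSndApp g U).hom s' →
      s' ∈ Set.range (g.app U).hom) :
    EffectiveEpi g := by
  have key : ∀ {T : Scheme.{u}} (e : S' ⟶ T),
      (∀ {Z : Scheme.{u}} (g₁ g₂ : Z ⟶ S'), g₁ ≫ g = g₂ ≫ g → g₁ ≫ e = g₂ ≫ e) →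
      ∃! m : S ⟶ T, g ≫ m = e := fun e he =>
    desc_aux g hq hinj heq e (he _ _ pullback.condition)
  exact ⟨⟨{ desc := fun e he => (key e he).choose
            fac := fun e he => (key e he).choose_spec.1
            uniq := fun e he m hm => (key e he).choose_spec.2 m hm }⟩⟩

end Groth.Agent.S2914
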