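import Groth.Statements.S2916
import Groth.Agent.Lib.Helper28.GeomConn

set_option autoImplicit false
open CategoryTheory CategoryTheory.Limits AlgebraicGeometry Opposite
universe u
open SGA1

open CategoryTheory CategoryTheory.Limits AlgebraicGeometry MorphismProperty Groth.Agent.Lib.Helper28

namespace Groth.Agent.S2916

/-- Let g : S' ⟶ S be universally submersive with geometrically connected fibres (the base change of S'
to any algebraically closed field valued point of S is connected). Then S' is connected whenever S
is, and for schemes X, Y etale over S every S'-morphism between their base changes comes from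
exactly one S-morphism X ⟶ Y. -/
theorem result {S' S : Scheme.{u}} (g : S' ⟶ S)
    (hg : SGA1.UnivSubmersive g)
    (hconn : ∀ (K : Type u) [Field K] [IsAlgClosed K] (ξ : Spec (CommRingCat.of K) ⟶ S), ConnectedSpace ↑(pullback g ξ)) :
    (ConnectedSpace S → ConnectedSpace S') ∧
    ∀ (X Y : Over S) [Etale X.hom] [Etale Y.hom], Function.Bijective ((Over.pullback g).map : (X ⟶ Y) → _) := by
  classical
  refine ⟨fun _ => GeomConn.connectedSpace_of_geomConn g
    (SubmDescent.isQuotientMap_of_univSubmersive hg) hconn, ?_⟩
  intro X Y _ _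
  have hπ : SGA1.UnivSubmersive (pullback.fst X.hom g) :=
    MorphismProperty.pullback_fst (P := SGA1.UnivSubmersive.{u}) X.hom g hg
  haveI : Surjective (pullback.fst X.hom g) :=
    ⟨(SubmDescent.isQuotientMap_of_univSubmersive hπ).surjective⟩
  constructor
  · intro u₁ u₂ h12
    ext1
    refine EtDescent.eq_of_surjective_comp_eq Y.hom (pullback.fst X.hom g) _ _
      (by rw [CategoryTheory.Over.w, CategoryTheory.Over.w]) ?_
    have := congr($(h12).left ≫ pullback.fst Y.hom g)
    simpa only [CategoryTheory.Over.pullback_map_left, pullback.lift_fst] using this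
  · intro f'
    have hconnπ : ∀ (K : Type u) [Field K] [IsAlgClosed K] (ξ : Spec (CommRingCat.of K) ⟶ X.left),
        ConnectedSpace ↑(pullback (pullback.fst X.hom g) ξ) := by
      intro K _ _ ξ
      haveI := hconn K (ξ ≫ X.hom)
      let e : pullback g (ξ ≫ X.hom) ≅ pullback (pullback.fst X.hom g) ξ :=
        pullbackSymmetry _ _ ≪≫ (pullbackRightPullbackFstIso X.hom g ξ).symm ≪≫ pullbackSymmetry _ _
      exact (Scheme.homeoOfIso e).surjective.connectedSpace (Scheme.homeoOfIso e).continuous
    have hw : f'.left ≫ pullback.snd Y.hom g = pullback.snd X.hom g := CategoryTheory.Over.w f'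
    have hc0 : pullback.fst X.hom g ≫ X.hom = (f'.left ≫ pullback.fst Y.hom g) ≫ Y.hom := by
      rw [Category.assoc, pullback.condition (f := Y.hom), ← Category.assoc, hw, pullback.condition]
    let φ : pullback X.hom g ⟶ pullback X.hom Y.hom :=
      pullback.lift (pullback.fst X.hom g) (f'.left ≫ pullback.fst Y.hom g) hc0
    have hφ : φ ≫ pullback.fst X.hom Y.hom = pullback.fst X.hom g := pullback.lift_fst _ _ _
    have hφ2 : φ ≫ pullback.snd X.hom Y.hom = f'.left ≫ pullback.fst Y.hom g :=
      pullback.lift_snd _ _ _
    have hcoc := GeomConn.cocycle_of_geomConn (pullback.fst X.hom g) (pullback.fst X.hom Y.hom) φ hφ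
      hconnπ
    obtain ⟨σ, hσ1, hσ2⟩ := EtDescent.exists_section (pullback.fst X.hom g)
      (pullback.fst X.hom Y.hom) φ hφ hcoc hπ
    refine ⟨Over.homMk (σ ≫ pullback.snd X.hom Y.hom) ?_, ?_⟩
    · rw [Category.assoc, ← pullback.condition, ← Category.assoc, hσ1, Category.id_comp]
    · ext1
      apply pullback.hom_ext
      · simp only [CategoryTheory.Over.pullback_map_left, pullback.lift_fst, Over.homMk_left]
        rw [← Category.assoc, hσ2, hφ2]
      · simp only [CategoryTheory.Over.pullback_map_left, pullback.lift_snd]
        exact hw.symm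

end Groth.Agent.S2916
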