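import Groth.Statements.S2917
import Groth.Agent.Lib.Helper28.SubmDescent

set_option autoImplicit false
open CategoryTheory CategoryTheory.Limits AlgebraicGeometry Opposite
universe u
open SGA1

open MorphismProperty Groth.Agent.Lib.Helper28.SubmDescent

namespace Groth.Agent.S2917

/-- Let g : S' ⟶ S be universally submersive, f : X ⟶ Y a morphism of S-schemes (Y ⟶ S the structure
map) and f' its base change along S' ⟶ S, realised as X ×_S S' ⟶ Y ×_S S'. If f' is open (resp.
closed) then so is f; if f' is universally open (resp. universally closed, resp. separated) then so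
is f; and if moreover g is quasi-compact and f locally of finite type, then f is proper as soon as
f' is. -/
theorem result {S' S X Y : Scheme.{u}} (g : S' ⟶ S) (hg : SGA1.UnivSubmersive g)
    (f : X ⟶ Y) (q : Y ⟶ S) :
    (IsOpenMap (pullback.map (f ≫ q) g q g f (𝟙 S') (𝟙 S) (Category.comp_id _) ((Category.comp_id _).trans (Category.id_comp _).symm)).base → IsOpenMap f.base) ∧
    (IsClosedMap (pullback.map (f ≫ q) g q g f (𝟙 S') (𝟙 S) (Category.comp_id _) ((Category.comp_id _).trans (Category.id_comp _).symm)).base → IsClosedMap f.base) ∧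
    (UniversallyOpen (pullback.map (f ≫ q) g q g f (𝟙 S') (𝟙 S) (Category.comp_id _) ((Category.comp_id _).trans (Category.id_comp _).symm)) → UniversallyOpen f) ∧
    (UniversallyClosed (pullback.map (f ≫ q) g q g f (𝟙 S') (𝟙 S) (Category.comp_id _) ((Category.comp_id _).trans (Category.id_comp _).symm)) → UniversallyClosed f) ∧
    (IsSeparated (pullback.map (f ≫ q) g q g f (𝟙 S') (𝟙 S) (Category.comp_id _) ((Category.comp_id _).trans (Category.id_comp _).symm)) → IsSeparated f) ∧
    (QuasiCompact g → LocallyOfFiniteType f →
      IsProper (pullback.map (f ≫ q) g q g f (𝟙 S') (𝟙 S) (Category.comp_id _) ((Category.comp_id _).trans (Category.id_comp _).symm)) → IsProper f) := by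
  set f' := pullback.map (f ≫ q) g q g f (𝟙 S') (𝟙 S) (Category.comp_id _)
    ((Category.comp_id _).trans (Category.id_comp _).symm) with hf'
  have hfst : f' ≫ pullback.fst q g = pullback.fst (f ≫ q) g ≫ f := pullback.lift_fst _ _ _
  have hsnd : f' ≫ pullback.snd q g = pullback.snd (f ≫ q) g :=
    (pullback.lift_snd _ _ _).trans (Category.comp_id _)
  have hpb : IsPullback f' (pullback.fst (f ≫ q) g) (pullback.fst q g) f := by
    refine IsPullback.of_right ?_ hfst (IsPullback.of_hasPullback q g).flip
    rw [hsnd]
    exact (IsPullback.of_hasPullback (f ≫ q) g).flip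
  have hπ : SGA1.UnivSubmersive (pullback.fst q g) := MorphismProperty.pullback_fst _ _ hg
  have hπq := isQuotientMap_of_univSubmersive hπ
  have hsep : IsSeparated f' → IsSeparated f := fun h =>
    DescendsAlong.of_isPullback (P := @IsSeparated) hpb hπ h
  have hcl : UniversallyClosed f' → UniversallyClosed f := fun h =>
    DescendsAlong.of_isPullback (P := @UniversallyClosed) hpb hπ h
  refine ⟨fun h => isOpenMap_of_isPullback hpb.flip hπq h,
    fun h => isClosedMap_of_isPullback hpb.flip hπq h,
    fun h => DescendsAlong.of_isPullback (P := @UniversallyOpen) hpb hπ h,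
    hcl, hsep, fun _ hft hprop => ?_⟩
  haveI := hsep inferInstance
  haveI := hcl inferInstance
  exact {}

end Groth.Agent.S2917
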