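import Groth.Statements.S2919
import Groth.Agent.Lib.Helper28.FinQuotSect

set_option autoImplicit false
open CategoryTheory CategoryTheory.Limits AlgebraicGeometry
universe u
open SGA1

open Groth.Agent.Lib.Helper28

namespace Groth.Agent.S2919

/-- Let a finite group G act on X, p : X ⟶ Y a quotient with Y locally Noetherian and p finite, G acting
freely on geometric points, and suppose p has a section. Then the morphism from the disjoint union
of copies of Y indexed by G to X which is s followed by the action of g on the g-th copy is an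
isomorphism. -/
theorem result {X Y : Scheme.{u}} {G : Type u} [Group G] [Finite G] (ρ : G →* Aut X)
    (p : X ⟶ Y) (hp : SGA1.IsQuot ρ p) [IsLocallyNoetherian Y] [IsFinite p]
    (hfree : (∀ (K : Type u) [Field K] [IsAlgClosed K] (ξ : Spec (CommRingCat.of K) ⟶ X) (g : G), ξ ≫ (ρ g).hom = ξ → g = 1)) (s : Y ⟶ X) (hs : s ≫ p = 𝟙 Y) :
    IsIso (Sigma.desc (fun g : G => s ≫ (ρ g).hom) : (∐ fun _ : G => Y) ⟶ X) := by
  haveI := FinQuotSect.isOpenImmersion_section ρ p s hs hp hfree
  haveI : ∀ g : G, IsOpenImmersion (s ≫ (ρ g).hom) := fun g => inferInstance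
  haveI : IsOpenImmersion (Sigma.desc (fun g : G => s ≫ (ρ g).hom)) := by
    refine isOpenImmersion_sigmaDesc _ _ (fun g g' hgg' => ?_)
    rw [Function.onFun, Set.disjoint_iff]
    rintro x ⟨⟨y, hy⟩, ⟨y', hy'⟩⟩
    apply hgg'
    refine FinQuotSect.eq_of_apply_eq ρ p s hs hp hfree g g' y y' ?_
    have h1 : (s ≫ (ρ g).hom) y = (s ≫ (ρ g').hom) y' := hy.trans hy'.symm
    rw [Scheme.Hom.comp_apply, Scheme.Hom.comp_apply] at h1
    exact h1
  apply isIso_of_isOpenImmersion_of_opensRange_eq_top
  rw [eq_top_iff]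
  intro x _
  obtain ⟨g, y, rfl⟩ := FinQuotSect.cover ρ p s hs hp x
  refine ⟨Sigma.ι (fun _ : G => Y) g y, ?_⟩
  rw [← Scheme.Hom.comp_apply, Sigma.ι_desc]

end Groth.Agent.S2919
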