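import Groth.Statements.S2930
import Groth.Agent.Lib.Helper2.GrothFin
import Groth.Agent.Lib.Helper2.FinDim1
import Groth.Agent.Lib.helper11.BassDepth
import Groth.Agent.S11652

set_option autoImplicit false
universe u
open LocCoh
open Groth.Agent.Lib.Helper2.FinDim Groth.Agent.Lib.helper11.BassDepth

namespace Groth.Agent.S2930

/-- (ii)⇔(iii): Let A be a Noetherian ring which is a quotient of a regular ring, I an ideal, M a finite
A-module and n ≥ 0. Then H^i_I(M) is a finite A-module for every i ≤ n if and only if depth M_p ≥ n
for every prime p not containing I for which V(p) ∩ V(I) has codimension 1 in V(p), i.e. for which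
there is a prime q ⊇ I covering p. -/
theorem result (R : Type u) [CommRing R] [IsRegularRing R] (A : Type u) [CommRing A] [IsNoetherianRing A] (π : R →+* A) (hπ : Function.Surjective π) (I : Ideal A) (M : Type u) [AddCommGroup M] [Module A M] [Module.Finite A M] (n : ℕ) : (∀ i : ℕ, i ≤ n → Module.Finite A (LocCoh.H I i M)) ↔ ∀ p q : PrimeSpectrum A, ¬ I ≤ p.asIdeal → I ≤ q.asIdeal → p ⋖ q → (n : ℕ∞) ≤ LocCoh.depth (Localization.AtPrime p.asIdeal) (LocalizedModule p.asIdeal.primeCompl M) := by
  rw [Groth.Agent.Lib.Helper2.GrothFin.finite_below_iff R A π hπ I M n]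
  constructor
  · intro h p q hIp hIq hcov
    haveI := p.isPrime
    haveI := q.isPrime
    have hpq : p.asIdeal < q.asIdeal := hcov.lt
    have h1 := h p hIp
    unfold LocCoh.adjDepth at h1
    have h2 : ((I ⊔ p.asIdeal).map (Ideal.Quotient.mk p.asIdeal)).height ≤
        relHt p.asIdeal q.asIdeal :=
      Ideal.height_mono (Ideal.map_mono (sup_le hIq hpq.le))
    have h3 : relHt p.asIdeal q.asIdeal ≤ 1 := by
      by_contra hlt
      rw [not_le] at hlt
      obtain ⟨x, hxI, hxp⟩ := Set.not_subset.1 hIp
      obtain ⟨t, ht, hpt, htq, -⟩ :=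
        Groth.Agent.S11652.result A p.asIdeal q.asIdeal hpq hlt x (hIq hxI) hxp
      exact hcov.2 (show p < ⟨t, ht⟩ from hpt) (show (⟨t, ht⟩ : PrimeSpectrum A) < q from htq)
    have h4 : (n : ℕ∞) < LocCoh.depth (Localization.AtPrime p.asIdeal)
        (LocalizedModule p.asIdeal.primeCompl M) + 1 :=
      lt_of_lt_of_le h1 (add_le_add le_rfl (h2.trans h3))
    exact Order.le_of_lt_add_one h4
  · intro hC
    have key : ∀ h : ℕ, ∀ (p q : Ideal A) [hp : p.IsPrime] [hq : q.IsPrime], ¬ I ≤ p → I ≤ q →
        p ≤ q → relHt p q = h → (n : ℕ∞) < LocCoh.depth (Localization.AtPrime p)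
          (LocalizedModule p.primeCompl M) + h := by
      intro h
      induction h using Nat.strong_induction_on with
      | _ h ih =>
        intro p q hp hq hIp hIq hpq hh
        have hne : p ≠ q := fun e => hIp (e ▸ hIq)
        have hlt : p < q := lt_of_le_of_ne hpq hne
        by_cases h1 : 1 < relHt p q
        · obtain ⟨x, hxI, hxp⟩ := Set.not_subset.1 hIp
          obtain ⟨t, ht, hpt, htq, hxt⟩ :=
            Groth.Agent.S11652.result A p q hlt h1 x (hIq hxI) hxp
          haveI := ht
          have hIt : ¬ I ≤ t := fun hle => hxt (hle hxI)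
          have hadd := relHt_add_le p t q hpt.le htq.le
          have h1pt := one_le_relHt p t hpt
          obtain ⟨k', hk'⟩ := ENat.ne_top_iff_exists.1 (relHt_ne_top t q htq.le)
          have hk'lt : k' < h := by
            have h2 : (1 : ℕ∞) + k' ≤ h := by
              rw [hk', ← hh]
              exact (add_le_add h1pt le_rfl).trans hadd
            have h3 : 1 + k' ≤ h := by exact_mod_cast h2
            omega
          have hIH := ih k' hk'lt t q hIt hIq htq.le hk'.symm
          calc (n : ℕ∞) < LocCoh.depth (Localization.AtPrime t)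
                (LocalizedModule t.primeCompl M) + k' := hIH
            _ ≤ (LocCoh.depth (Localization.AtPrime p) (LocalizedModule p.primeCompl M) +
                relHt p t) + relHt t q := by
              rw [hk']
              exact add_le_add (depth_localization_le M p t hpt.le) le_rfl
            _ = LocCoh.depth (Localization.AtPrime p) (LocalizedModule p.primeCompl M) +
                (relHt p t + relHt t q) := add_assoc _ _ _
            _ ≤ LocCoh.depth (Localization.AtPrime p) (LocalizedModule p.primeCompl M) +
                relHt p q := add_le_add le_rfl hadd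
            _ = _ := by rw [hh]
        · have h1' : relHt p q = 1 := le_antisymm (not_lt.1 h1) (one_le_relHt p q hlt)
          have hcov : (⟨p, hp⟩ : PrimeSpectrum A) ⋖ ⟨q, hq⟩ := by
            refine ⟨hlt, ?_⟩
            intro c hpc hcq
            haveI := c.isPrime
            have h2 := one_le_relHt p c.asIdeal hpc
            have h3 := one_le_relHt c.asIdeal q hcq
            have h4 := relHt_add_le p c.asIdeal q (le_of_lt hpc) (le_of_lt hcq)
            rw [h1'] at h4
            have h5 : (1 : ℕ∞) + 1 ≤ 1 := (add_le_add h2 h3).trans h4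
            exact absurd h5 (by decide)
          have h2 := hC ⟨p, hp⟩ ⟨q, hq⟩ hIp hIq hcov
          have hh1 : (h : ℕ∞) = 1 := by rw [← hh, h1']
          rw [hh1]
          by_cases hdt : LocCoh.depth (Localization.AtPrime p) (LocalizedModule p.primeCompl M) = ⊤
          · rw [hdt, top_add]
            exact ENat.coe_lt_top n
          · exact (ENat.lt_add_one_iff hdt).2 h2
    intro p hIp
    haveI := p.isPrime
    unfold LocCoh.adjDepth
    by_cases htop : ((I ⊔ p.asIdeal).map (Ideal.Quotient.mk p.asIdeal)).height = ⊤
    · rw [htop, add_top]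
      exact ENat.coe_lt_top n
    · obtain ⟨h, hh'⟩ := ENat.ne_top_iff_exists.1 htop
      obtain ⟨Q, hQ, hle, hQh⟩ := Ideal.exists_isPrime_height_eq hh'.symm
      haveI := hQ
      have hpq : p.asIdeal ≤ Q.comap (Ideal.Quotient.mk p.asIdeal) := by
        intro z hz
        rw [Ideal.mem_comap, Ideal.Quotient.eq_zero_iff_mem.2 hz]
        exact Q.zero_mem
      have hIq : I ≤ Q.comap (Ideal.Quotient.mk p.asIdeal) :=
        le_sup_left.trans (Ideal.map_le_iff_le_comap.1 hle)
      have hrel : relHt p.asIdeal (Q.comap (Ideal.Quotient.mk p.asIdeal)) = h := by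
        unfold relHt
        rw [Ideal.map_comap_of_surjective _ Ideal.Quotient.mk_surjective, hQh]
      have := key h p.asIdeal (Q.comap (Ideal.Quotient.mk p.asIdeal)) hIp hIq hpq hrel
      rw [← hh']
      exact this

end Groth.Agent.S2930
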