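import Groth.Statements.S2931
import Groth.Agent.Lib.Helper2.Caten
import Groth.Agent.Lib.Helper2.GrothFin
import Groth.Agent.Lib.Helper21.DepthKit11

set_option autoImplicit false
universe u
open LocCoh Groth.Agent.Lib.Helper2.Caten Groth.Agent.Lib.Helper2.FinDim Groth.Agent.Lib.Helper21.DepthKit

namespace Groth.Agent.S2931

/-- Affine form (coherence of R^p i_*(F) for p < n being finiteness of H^i_I for i ≤ n). Let A be a
Noetherian ring which is a quotient of a regular ring, I an ideal and M a finite A-module such that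
M_p is zero or Cohen–Macaulay for every prime p not containing I. Then H^i_I(M) is a finite A-module
for every i ≤ n if and only if for every prime p not containing I which is minimal in the support of
M, the codimension of V(p) ∩ V(I) in V(p) is greater than n. -/
theorem result (R : Type u) [CommRing R] [IsRegularRing R] (A : Type u) [CommRing A] [IsNoetherianRing A] (π : R →+* A) (hπ : Function.Surjective π) (I : Ideal A) (M : Type u) [AddCommGroup M] [Module A M] [Module.Finite A M] (hCM : ∀ p : PrimeSpectrum A, ¬ I ≤ p.asIdeal → Subsingleton (LocalizedModule p.asIdeal.primeCompl M) ∨ LocCoh.IsCohenMacaulayModule (Localization.AtPrime p.asIdeal) (LocalizedModule p.asIdeal.primeCompl M)) (n : ℕ) : (∀ i : ℕ, i ≤ n → Module.Finite A (LocCoh.H I i M)) ↔ ∀ p : PrimeSpectrum A, ¬ I ≤ p.asIdeal → p.asIdeal ∈ (Module.annihilator A M).minimalPrimes → (n : ℕ∞) < SGA2.relCodim I p := by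
  rw [Groth.Agent.Lib.Helper2.GrothFin.finite_below_iff R A π hπ I M n]
  constructor
  · intro h p hp hmin
    haveI := p.isPrime
    have h1 := h p hp
    unfold LocCoh.adjDepth at h1
    have hass : p.asIdeal ∈ associatedPrimes A M :=
      Module.associatedPrimes.minimalPrimes_annihilator_subset_associatedPrimes A M hmin
    rw [(depth_localization_eq_zero_iff p.asIdeal).2 hass, zero_add] at h1
    exact h1.trans_le (height_le_relCodim I p)
  · intro h p hp
    haveI := p.isPrime
    unfold LocCoh.adjDepth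
    rcases subsingleton_or_nontrivial (LocalizedModule p.asIdeal.primeCompl M) with hs | hn
    · rw [depth_of_subsingleton, top_add]
      exact ENat.natCast_lt_top n
    have hCMp := (hCM p hp).resolve_left (not_subsingleton _)
    have hsupp : p ∈ Module.support A M := Module.mem_support_iff.mpr hn
    have hann : Module.annihilator A M ≤ p.asIdeal := Module.mem_support_iff_of_finite.1 hsupp
    obtain ⟨p₀, hp₀min, hp₀p⟩ := Ideal.exists_minimalPrimes_le hann
    haveI hp₀ : p₀.IsPrime := hp₀min.1.1
    have hIp₀ : ¬ I ≤ p₀ := fun hh => hp (hh.trans hp₀p)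
    have h1 := h ⟨p₀, hp₀⟩ hIp₀ hp₀min
    rcases eq_or_ne ((I ⊔ p.asIdeal).map (Ideal.Quotient.mk p.asIdeal)).height ⊤ with htop | hfin
    · rw [htop, add_top]
      exact ENat.natCast_lt_top n
    obtain ⟨m, hm⟩ := ENat.ne_top_iff_exists.1 hfin
    obtain ⟨q, hq, hpq, hIq, hqm⟩ := exists_relHt_eq_height I p.asIdeal m hm.symm
    haveI := hq
    have h2 : SGA2.relCodim I ⟨p₀, hp₀⟩ ≤ relHt p₀ q :=
      relCodim_le_relHt I ⟨p₀, hp₀⟩ ⟨q, hq⟩ (hp₀p.trans hpq) hIq
    have h3 := relHt_le_add_of_surjective R π hπ p₀ p.asIdeal q hp₀p hpq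
    have h4 := relHt_le_supportDim M p₀ p.asIdeal hp₀p hp₀min.1.2
    unfold LocCoh.IsCohenMacaulayModule at hCMp
    rw [hCMp] at h4
    have h4' : relHt p₀ p.asIdeal ≤ LocCoh.depth (Localization.AtPrime p.asIdeal)
        (LocalizedModule p.asIdeal.primeCompl M) := WithBot.coe_le_coe.1 h4
    rw [← hm, ← hqm]
    calc (n : ℕ∞) < SGA2.relCodim I ⟨p₀, hp₀⟩ := h1
      _ ≤ relHt p₀ q := h2
      _ ≤ relHt p₀ p.asIdeal + relHt p.asIdeal q := h3
      _ ≤ _ := add_le_add h4' le_rfl

end Groth.Agent.S2931
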