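import Groth.Statements.S2933
import Groth.Agent.Lib.Helper7.CodimConn

set_option autoImplicit false
universe u
open LocCoh

namespace Groth.Agent.S2933

/-- Let A be a Noetherian ring with connected spectrum and d ≥ 1 an integer such that every prime p with
dim A_p ≥ d has depth A_p ≥ 2. Then for any two minimal primes p', p'' of A there is a finite
sequence of minimal primes starting at p' and ending at p'' such that any two consecutive members
are both contained in some prime of height at most d − 1 (Spec A is connected in codimension d − 1). -/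
theorem result (A : Type u) [CommRing A] [IsNoetherianRing A] [ConnectedSpace (PrimeSpectrum A)] (d : ℕ) (hd : 1 ≤ d) (h : ∀ p : PrimeSpectrum A, (d : ℕ∞) ≤ p.asIdeal.height → (2 : ℕ∞) ≤ LocCoh.depth (Localization.AtPrime p.asIdeal) (Localization.AtPrime p.asIdeal)) (p' p'' : PrimeSpectrum A) (hp' : p'.asIdeal ∈ minimalPrimes A) (hp'' : p''.asIdeal ∈ minimalPrimes A) : ∃ l : List (PrimeSpectrum A), l.head? = some p' ∧ l.getLast? = some p'' ∧ (∀ p ∈ l, p.asIdeal ∈ minimalPrimes A) ∧ List.IsChain (fun p q => ∃ r : PrimeSpectrum A, p ≤ r ∧ q ≤ r ∧ r.asIdeal.height ≤ (d - 1 : ℕ)) l := by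
  classical
  have h' : ∀ (p : Ideal A) [p.IsPrime], (d : ℕ∞) ≤ p.height →
      (2 : ℕ∞) ≤ LocCoh.depth (Localization.AtPrime p) (Localization.AtPrime p) :=
    fun p hp hd' => h ⟨p, hp⟩ hd'
  have hlink := Groth.Agent.Lib.Helper7.CodimConn.reflTransGen_link A d h' p'.asIdeal p''.asIdeal
    hp' hp''
  -- lift to the prime spectrum
  let R' : PrimeSpectrum A → PrimeSpectrum A → Prop :=
    fun x y => Groth.Agent.Lib.Helper7.CodimConn.Link A d x.asIdeal y.asIdeal
  have hlift : ∀ b : Ideal A, Relation.ReflTransGen (Groth.Agent.Lib.Helper7.CodimConn.Link A d)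
      p'.asIdeal b → ∀ hb : b.IsPrime, Relation.ReflTransGen R' p' ⟨b, hb⟩ := by
    intro b hb
    induction hb with
    | refl => intro hb; exact Relation.ReflTransGen.refl
    | tail hab hbc ih =>
      rename_i b₀ c₀
      intro hc
      have hb₀ : b₀.IsPrime := by
        rcases Relation.ReflTransGen.cases_tail hab with h1 | ⟨c, -, hcb⟩
        · rw [h1]; exact p'.isPrime
        · exact hcb.1.1.1
      exact (ih hb₀).tail hbc
  have hR' : Relation.ReflTransGen R' p' p'' := hlift p''.asIdeal hlink p''.isPrime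
  obtain ⟨l, hl1, hl2⟩ := List.exists_isChain_cons_of_relationReflTransGen hR'
  refine ⟨p' :: l, rfl, ?_, ?_, ?_⟩
  · rw [List.getLast?_eq_getLast_of_ne_nil (List.cons_ne_nil _ _), hl2]
  · exact hl1.induction (fun x => x.asIdeal ∈ minimalPrimes A) _ (fun x y hxy _ => hxy.1)
      (fun _ => hp')
  · refine hl1.imp ?_
    rintro x y ⟨-, q, hq, hxq, hyq, hht⟩
    refine ⟨⟨q, hq⟩, hxq, hyq, ?_⟩
    show q.height ≤ ((d - 1 : ℕ) : ℕ∞)
    have hd1 : (d : ℕ∞) = ((d - 1 : ℕ) : ℕ∞) + 1 := by
      have : d = (d - 1) + 1 := by omega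
      conv_lhs => rw [this]
      push_cast
      rfl
    rw [hd1] at hht
    exact (ENat.add_le_add_iff_right ENat.one_ne_top).1 hht

end Groth.Agent.S2933
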