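import Groth.Statements.S2934
import Groth.Agent.Lib.helper11.GorDualAnn2
import Groth.Agent.Lib.helper11.FinLenArt
import Groth.Agent.Lib.helper11.LCArtinian
import Groth.Agent.S0342

set_option autoImplicit false
universe u
open LocCoh

namespace Groth.Agent.S2934

/-- Let A be a Noetherian local ring which is a quotient of a regular local ring, m its maximal ideal, M
a finite A-module and i ≥ 0. Then H^i_m(M) is an A-module of finite length if and only if for every
prime p ≠ m, writing e = dim A/p, the local cohomology H^{i−e} of M_p with support in the maximal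
ideal of A_p vanishes (no condition when e > i). -/
theorem result (R : Type u) [CommRing R] [IsRegularLocalRing R] (A : Type u) [CommRing A] [IsLocalRing A] [IsNoetherianRing A] (π : R →+* A) (hπ : Function.Surjective π) (M : Type u) [AddCommGroup M] [Module A M] [Module.Finite A M] (i : ℕ) : IsFiniteLength A (LocCoh.H (IsLocalRing.maximalIdeal A) i M) ↔ ∀ p : PrimeSpectrum A, p.asIdeal ≠ IsLocalRing.maximalIdeal A → ∀ (e j : ℕ), ringKrullDim (A ⧸ p.asIdeal) = e → j + e = i → Subsingleton (LocCoh.H (IsLocalRing.maximalIdeal (Localization.AtPrime p.asIdeal)) j (LocalizedModule p.asIdeal.primeCompl M)) := by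
  haveI := Groth.Agent.S0342.result R
  letI : Algebra R A := π.toAlgebra
  have hsurj : Function.Surjective (algebraMap R A) := hπ
  letI : Module R M := Module.compHom M π
  haveI : IsScalarTower R A M := IsScalarTower.of_algebraMap_smul (fun r m => rfl)
  haveI : IsArtinian A (LocCoh.H (IsLocalRing.maximalIdeal A) i M) :=
    Groth.Agent.Lib.helper11.LCKit.isArtinian_localCohomology i M
  rw [Groth.Agent.Lib.helper11.FinLenArt.isFiniteLength_iff_le_radical_annihilator,
    Groth.Agent.Lib.helper11.GorDual.le_radical_annihilator_iff_forall hsurj M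
      (IsLocalRing.maximalIdeal A) i]
  constructor
  · intro h p hp e j he hj
    haveI := p.isPrime
    refine h p.asIdeal (fun hle => hp ?_) j ?_
    · exact le_antisymm (IsLocalRing.le_maximalIdeal p.isPrime.ne_top) hle
    · rw [he]
      exact_mod_cast hj
  · intro h p _ hp j hj
    obtain ⟨d, hd⟩ := Groth.Agent.Lib.helper11.GorDual.exists_dim A
    obtain ⟨e, -, he⟩ := Groth.Agent.Lib.helper11.GorDual.exists_dim_quotient d hd p
    rw [he] at hj
    refine h ⟨p, inferInstance⟩ (fun heq => hp ?_) e j he (by exact_mod_cast hj)
    exact heq.ge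

end Groth.Agent.S2934
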