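import Groth.Statements.S2937
import Groth.Agent.Lib.Helper9.Hart9

set_option autoImplicit false
universe u
open CategoryTheory AlgebraicGeometry
open Pi1

namespace Groth.Agent.S2937

open Groth.Agent.Lib.Helper9.Hart CategoryTheory.Limits

theorem sq {X X₁ : Scheme.{u}} (f : X₁ ⟶ X) (U V : X.Opens) :
    IsPullback (X₁.homOfLE (inf_le_left : f ⁻¹ᵁ V ⊓ f ⁻¹ᵁ U ≤ f ⁻¹ᵁ V))
      (f.resLE (V ⊓ U) (f ⁻¹ᵁ V ⊓ f ⁻¹ᵁ U) le_rfl) (f ∣_ V)
      (X.homOfLE (inf_le_left : V ⊓ U ≤ V)) := by
  refine (IsOpenImmersion.isPullback _ _ _ _ ?_ ?_).flip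
  · rw [← cancel_mono V.ι]
    simp only [Category.assoc, morphismRestrict_ι, Scheme.homOfLE_ι, Scheme.homOfLE_ι_assoc]
    exact (Scheme.Hom.resLE_comp_ι f _).symm
  · rw [Scheme.opensRange_homOfLE, Scheme.opensRange_homOfLE, ← Scheme.Hom.comp_preimage,
      morphismRestrict_ι, Scheme.Hom.comp_preimage]
    rfl

/-- Let X be a locally Noetherian scheme and U an open subscheme such that O_X → i_*O_U is an
isomorphism, equivalently, every local ring of X at a point outside U has depth ≥ 2. Let f : X_1 → X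
be faithfully flat and quasi-compact. If the pair (X_1, X_1 − f⁻¹U) is pure (restriction of finite
étale covers from every open V to V ∩ f⁻¹U is an equivalence), then so is (X, X − U). -/
theorem result (X X₁ : Scheme.{u}) [IsLocallyNoetherian X] (U : X.Opens) (hU : ∀ x : X, x ∉ U → (2 : ℕ∞) ≤ LocCoh.depth (X.presheaf.stalk x) (X.presheaf.stalk x)) (f : X₁ ⟶ X) [Flat f] [Surjective f] [QuasiCompact f] (h : SGA2.IsPurePair X₁ (f ⁻¹ᵁ U)) : SGA2.IsPurePair X U := by
  intro V
  have hj : Hart (X.homOfLE (inf_le_left : V ⊓ U ≤ V)) :=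
    hart_bc (isPullback_opens_inf V U).flip (hart_of_depth U hU)
  haveI : Surjective (f ∣_ V) := IsZariskiLocalAtTarget.restrict ‹Surjective f› V
  have hE := h (f ⁻¹ᵁ V)
  haveI := hE.essSurj
  exact
    { faithful := faithful_restrict _ hj
      full := full_restrict _ hj
      essSurj := essSurj_restrict (sq f U V) hj inferInstance }

end Groth.Agent.S2937
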