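import Groth.Statements.S2954
import Groth.Agent.Lib.lead.ZFormB

set_option autoImplicit false
open RootPairing
open scoped Pointwise
universe u
open RootD

namespace Groth.Agent.S2954

/-- For a finite crystallographic reduced root pairing (over a domain of characteristic zero), the Weyl
group acts freely and transitively on bases: for two bases b, b' there is exactly one element of the
Weyl group carrying the set of simple roots of b onto that of b'. -/
theorem result {ι R M N : Type*} [CommRing R] [CharZero R] [IsDomain R] [AddCommGroup M] [Module R M]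
    [AddCommGroup N] [Module R N] (P : RootPairing ι R M N) [Finite ι] [P.IsCrystallographic] [P.IsReduced]
    (b b' : P.Base) :
    ∃! g : P.weylGroup, (fun i : ι => (g : P.Aut) • i) '' (b.support : Set ι) = (b'.support : Set ι) := by
  classical
  have hΔ := Groth.Agent.ZForm.isSimpleSys_of_base P b
  have hΔ' := Groth.Agent.ZForm.isSimpleSys_of_base P b'
  -- existence
  obtain ⟨g₀, hg₀, hg₀Δ⟩ := Groth.Agent.RootDL.weyl_transitive_simpleSys hΔ hΔ'
  obtain ⟨L, -, hL⟩ := Groth.Agent.RootDL.exists_list hΔ hg₀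
  have hex : (fun i : ι => Groth.Agent.S2953.pr P L • i) '' (b.support : Set ι) =
      (b'.support : Set ι) := by
    rw [Groth.Agent.ZForm.pr_image, hL, hg₀Δ]
  refine ⟨⟨Groth.Agent.S2953.pr P L, Groth.Agent.ZForm.pr_mem_weylGroup P L⟩, hex, ?_⟩
  -- uniqueness
  rintro ⟨g', hg'⟩ hg'Δ
  change (fun i : ι => g' • i) '' (b.support : Set ι) = (b'.support : Set ι) at hg'Δ
  apply Subtype.ext
  change g' = Groth.Agent.S2953.pr P L
  set g := Groth.Agent.S2953.pr P L with hgdef
  have hg : g ∈ P.weylGroup := Groth.Agent.ZForm.pr_mem_weylGroup P L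
  have hh : g⁻¹ * g' ∈ P.weylGroup := mul_mem (inv_mem hg) hg'
  obtain ⟨L', -, hL'⟩ := Groth.Agent.S2953.exists_list P b (g⁻¹ * g') hh
  have hfix : (fun i : ι => (g⁻¹ * g') • i) '' (b.support : Set ι) = (b.support : Set ι) := by
    have : (fun i : ι => (g⁻¹ * g') • i) = (fun i : ι => g⁻¹ • i) ∘ (fun i : ι => g' • i) := by
      funext i
      exact mul_smul g⁻¹ g' i
    rw [this, Set.image_comp, hg'Δ, ← hex, ← Set.image_comp]
    convert Set.image_id _ using 2
    funext i
    exact inv_smul_smul g i
  rw [← hL', Groth.Agent.ZForm.pr_image] at hfix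
  have h1 := Groth.Agent.RootDL.weyl_eq_one_of_image_eq hΔ
    (Groth.Agent.ZForm.pr_mem_weylGroup (Groth.Agent.ZForm.zForm P) L') hfix
  have h2 : ∀ i : ι, (g⁻¹ * g') • i = i := by
    intro i
    rw [← hL', Groth.Agent.ZForm.pr_smul_idx, h1, one_smul]
  have h3 : g⁻¹ * g' = 1 :=
    Groth.Agent.S2953.result P b (g⁻¹ * g') hh (fun i hi => by rw [h2 i]; exact hi)
  exact (inv_mul_eq_one.mp h3).symm

end Groth.Agent.S2954
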