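import Groth.Statements.S2955
-- import your own Groth.Agent.* helpers here

set_option autoImplicit false
open RootPairing
open scoped Pointwise Classical
universe u
open RootD

namespace Groth.Agent.S2955

/-- Let P be a finite crystallographic reduced root pairing over a domain of characteristic zero, with a
base b, and write 2ρ for the sum of the positive roots with respect to b. Then for every simple root
β (an index in the support of b) the reflection in β sends 2ρ to 2ρ − 2β (equivalently, the coroot
of β pairs to 1 with ρ; only the reflection identity is asserted). -/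
theorem result {ι R M N : Type*} [CommRing R] [CharZero R] [IsDomain R] [AddCommGroup M] [Module R M]
    [AddCommGroup N] [Module R N] (P : RootPairing ι R M N) [Finite ι] [P.IsCrystallographic] [P.IsReduced]
    [Fintype ι] (b : P.Base) (j : ι) (hj : j ∈ b.support) :
    P.reflection j (∑ i, if b.IsPos i then P.root i else 0) =
      (∑ i, if b.IsPos i then P.root i else 0) - (2 : R) • P.root j := by
  have hsum : ∀ f : ι → M, (∑ i, if b.IsPos i then f i else 0) =
      ∑ i ∈ Finset.univ.filter (fun i => b.IsPos i), f i :=
    fun f => (Finset.sum_filter _ _).symm
  rw [hsum, map_sum]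
  simp_rw [← P.root_reflectionPerm]
  have hjpos : j ∈ Finset.univ.filter (fun i => b.IsPos i) := by
    simp [RootPairing.Base.isPos_of_mem_support hj]
  rw [← Finset.add_sum_erase _ _ hjpos, ← Finset.add_sum_erase _ (fun i => P.root i) hjpos]
  have hmem : ∀ i ∈ (Finset.univ.filter (fun i => b.IsPos i)).erase j,
      P.reflectionPerm j i ∈ (Finset.univ.filter (fun i => b.IsPos i)).erase j := by
    intro i hi
    rw [Finset.mem_erase, Finset.mem_filter] at hi ⊢
    refine ⟨?_, Finset.mem_univ _, hi.2.2.reflectionPerm hj hi.1⟩
    intro h
    apply hi.1
    have := congrArg (P.reflectionPerm j) h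
    rw [P.reflectionPerm_self] at this
    have hneg : b.IsPos (P.reflectionPerm j j) := this ▸ hi.2.2
    have h1 : b.height (P.reflectionPerm j j) = -b.height j := b.height_reflectionPerm_self j
    rw [RootPairing.Base.isPos_iff] at hneg
    have h2 := (RootPairing.Base.isPos_iff b).mp (RootPairing.Base.isPos_of_mem_support hj)
    omega
  have hperm : ∑ i ∈ (Finset.univ.filter (fun i => b.IsPos i)).erase j, P.root (P.reflectionPerm j i) =
      ∑ i ∈ (Finset.univ.filter (fun i => b.IsPos i)).erase j, P.root i := by
    refine Finset.sum_nbij' (P.reflectionPerm j) (P.reflectionPerm j) hmem hmem ?_ ?_ ?_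
    · intro i _; exact P.reflectionPerm_self j i
    · intro i _; exact P.reflectionPerm_self j i
    · intro i _; rfl
  rw [hperm, root_reflectionPerm, reflection_apply_self]
  module

end Groth.Agent.S2955
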