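import Groth.Statements.S2957
import Groth.Agent.Lib.lead.TitsB

set_option autoImplicit false
open RootPairing
open scoped Pointwise
universe u
open RootD

namespace Groth.Agent.S2957

/-- For a finite crystallographic reduced root pairing with a base b: let α, β be simple roots and w an
element of the Weyl group with w(α) = β. Then there are simple roots α = α_0, ..., α_m = β and Weyl
group elements w_0, ..., w_{m-1} with w = w_{m-1} ... w_0, w_i(α_i) = α_{i+1}, and each w_i lying in
the subgroup generated by the reflections in α_i and in a simple root γ_i, where γ_i = α_{i+1}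
whenever α_i ≠ α_{i+1}. -/
theorem result {ι R M N : Type*} [CommRing R] [CharZero R] [IsDomain R] [AddCommGroup M] [Module R M]
    [AddCommGroup N] [Module R N] (P : RootPairing ι R M N) [Finite ι] [P.IsCrystallographic] [P.IsReduced]
    (b : P.Base) (α β : ι) (hα : α ∈ b.support) (hβ : β ∈ b.support) (w : P.Aut) (hw : w ∈ P.weylGroup)
    (hwα : w • α = β) :
    ∃ (m : ℕ) (a : Fin (m + 1) → ι) (ws : Fin m → P.Aut),
      (∀ i, a i ∈ b.support) ∧ a 0 = α ∧ a (Fin.last m) = β ∧
      (∀ i, ws i ∈ P.weylGroup) ∧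
      w = (List.ofFn fun i : Fin m => ws (Fin.rev i)).prod ∧
      (∀ i : Fin m, ws i • a (Fin.castSucc i) = a (Fin.succ i)) ∧
      ∀ i : Fin m, ∃ γ ∈ b.support,
        ws i ∈ Subgroup.closure {Equiv.reflection P (a (Fin.castSucc i)), Equiv.reflection P γ} ∧
        (a (Fin.castSucc i) ≠ a (Fin.succ i) → γ = a (Fin.succ i)) := by
  classical
  have hΔ := Groth.Agent.ZForm.isSimpleSys_of_base P b
  obtain ⟨Lw, hLw, hprw⟩ := Groth.Agent.S2953.exists_list P b w hw
  have hαβ₀ : Groth.Agent.S2953.pr (Groth.Agent.ZForm.zForm P) Lw • α = β := by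
    rw [← Groth.Agent.ZForm.pr_smul_idx, hprw, hwα]
  obtain ⟨Lc, hch₀, hprc₀⟩ := Groth.Agent.RootDL.exists_wchain hΔ Lw.length Lw le_rfl
    (fun a ha => hLw a ha) α hα β hβ hαβ₀
  have hch := Groth.Agent.RootDL.WChain.of_zForm P hch₀
  obtain ⟨m, a, ws, haΔ, ha0, halast, hws, hprod, hstep, hpair⟩ := hch.toFin
  refine ⟨m, a, ws, fun i => haΔ i, ha0, halast, hws, ?_, hstep, ?_⟩
  · rw [← hprod]
    -- `w` and `pr P Lc` act in the same way on the indices
    have hfix : ∀ i : ι, (w⁻¹ * Groth.Agent.S2953.pr P Lc) • i = i := by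
      intro i
      rw [mul_smul, Groth.Agent.ZForm.pr_smul_idx, hprc₀, ← Groth.Agent.ZForm.pr_smul_idx, hprw,
        inv_smul_smul]
    have h1 : w⁻¹ * Groth.Agent.S2953.pr P Lc = 1 :=
      Groth.Agent.S2953.result P b _
        (mul_mem (inv_mem hw) (Groth.Agent.RootDL.pr_mem_weylGroup' Lc))
        (fun i hi => by rw [hfix i]; exact hi)
    exact inv_mul_eq_one.mp h1
  · intro i
    obtain ⟨γ, hγ, h1, h2⟩ := hpair i
    exact ⟨γ, hγ, h1, h2⟩

end Groth.Agent.S2957
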