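import Groth.Statements.S2965
import Mathlib.RingTheory.Polynomial.Basic
import Mathlib.LinearAlgebra.Charpoly.Basic

set_option autoImplicit false
universe u
open SGA3t2b

namespace Groth.Agent.S2965

open Polynomial in
theorem aux {A : Type u} [CommRing A] {M : Type u} [AddCommGroup M] [Module A M]
    [Module.Free A M] [Module.Finite A M] (u : M →ₗ[A] M) (r : ℕ) (Q : A[X]) (hQ : IsUnit (Q.coeff 0))
    (h : u.charpoly = X ^ r * Q) :
    ∃ M' M'' : Submodule A M, IsCompl M' M'' ∧ (∀ x ∈ M', u x ∈ M') ∧ (∀ x ∈ M'', u x ∈ M'') ∧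
      (∃ n : ℕ, ∀ x ∈ M', (u ^ n) x = 0) ∧ Set.BijOn u M'' M'' := by
  obtain ⟨c, hc⟩ := hQ
  -- Bezout relation `X * b + Q * C c⁻¹ = 1`
  have hXQ : IsCoprime (X : A[X]) Q := by
    refine ⟨- (C (↑c⁻¹ : A) * Q.divX), C (↑c⁻¹ : A), ?_⟩
    have hdiv : Q = Q.divX * X + C (Q.coeff 0) := (Polynomial.divX_mul_X_add Q).symm
    have h1 : C (↑c⁻¹ : A) * C (Q.coeff 0) = 1 := by
      rw [← C_mul, ← hc, Units.inv_mul, C_1]
    calc -(C (↑c⁻¹ : A) * Q.divX) * X + C (↑c⁻¹ : A) * Q
        = -(C (↑c⁻¹ : A) * Q.divX) * X + C (↑c⁻¹ : A) * (Q.divX * X + C (Q.coeff 0)) := by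
          rw [← hdiv]
      _ = C (↑c⁻¹ : A) * C (Q.coeff 0) := by ring
      _ = 1 := h1
  have hcop : IsCoprime ((X : A[X]) ^ r) Q := hXQ.pow_left
  have hCH : aeval u (X ^ r * Q) = 0 := by rw [← h]; exact LinearMap.aeval_self_charpoly u
  have hcomm : ∀ P : A[X], aeval u P * u = u * aeval u P := by
    intro P
    have hX : aeval u (X : A[X]) = u := aeval_X u
    calc aeval u P * u = aeval u P * aeval u (X : A[X]) := by rw [hX]
      _ = aeval u (P * X) := (map_mul _ _ _).symm
      _ = aeval u (X * P) := by rw [mul_comm]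
      _ = aeval u (X : A[X]) * aeval u P := map_mul _ _ _
      _ = u * aeval u P := by rw [hX]
  have hcomm' : ∀ (P : A[X]) (x : M), aeval u P (u x) = u (aeval u P x) :=
    fun P x => LinearMap.congr_fun (hcomm P) x
  have hstab : ∀ (P : A[X]), ∀ x ∈ LinearMap.ker (aeval u P), u x ∈ LinearMap.ker (aeval u P) := by
    intro P x hx
    rw [LinearMap.mem_ker] at hx ⊢
    rw [hcomm', hx, map_zero]
  -- Bezout: `b * X + C c⁻¹ * Q = 1`
  obtain ⟨b, d, hbd⟩ := hXQ
  have hbez : ∀ x ∈ LinearMap.ker (aeval u Q), aeval u b (u x) = x := by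
    intro x hx
    rw [LinearMap.mem_ker] at hx
    have h1 := LinearMap.congr_fun (congrArg (aeval u) hbd) x
    simp only [map_add, map_mul, aeval_X, map_one, LinearMap.add_apply, Module.End.mul_apply,
      Module.End.one_apply, hx, map_zero, add_zero] at h1
    exact h1
  refine ⟨LinearMap.ker (aeval u (X ^ r)), LinearMap.ker (aeval u Q), ⟨?_, ?_⟩, hstab _, hstab _,
    ?_, ?_, ?_, ?_⟩
  · exact disjoint_ker_aeval_of_isCoprime u hcop
  · rw [codisjoint_iff, sup_ker_aeval_eq_ker_aeval_mul_of_coprime u hcop, hCH, LinearMap.ker_zero]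
  · refine ⟨r, fun x hx => ?_⟩
    rw [LinearMap.mem_ker] at hx
    simpa using hx
  · exact fun x hx => hstab Q x hx
  · intro x hx y hy hxy
    rw [← hbez x hx, ← hbez y hy, hxy]
  · intro x hx
    refine ⟨aeval u b x, ?_, ?_⟩
    · have hx' := hx
      rw [SetLike.mem_coe, LinearMap.mem_ker] at hx' ⊢
      have : aeval u Q (aeval u b x) = aeval u b (aeval u Q x) := by
        rw [← Module.End.mul_apply, ← Module.End.mul_apply, ← map_mul, ← map_mul, mul_comm]
      rw [this, hx', map_zero]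
    · rw [← hcomm']
      exact hbez x hx

open Polynomial in
/-- Implication (iv) ⇒ (i) (global form, finite free module): let u be an endomorphism of a finite free
module M over a commutative ring A whose characteristic polynomial is X^r · Q with Q(0) invertible.
Then M is the direct sum of two u-stable submodules M', M'' such that u is nilpotent on M' and
bijective on M''. -/
theorem result {A : Type u} [CommRing A] {M : Type u} [AddCommGroup M] [Module A M]
    [Module.Free A M] [Module.Finite A M] (u : M →ₗ[A] M) (r : ℕ) (Q : A[X]) (hQ : IsUnit (Q.coeff 0))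
    (h : u.charpoly = X ^ r * Q) :
    ∃ M' M'' : Submodule A M, IsCompl M' M'' ∧ (∀ x ∈ M', u x ∈ M') ∧ (∀ x ∈ M'', u x ∈ M'') ∧
      (∃ n : ℕ, ∀ x ∈ M', (u ^ n) x = 0) ∧ Set.BijOn u M'' M'' := by
  exact aux u r Q hQ h

end Groth.Agent.S2965
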