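import Groth.Statements.S2966
import Groth.Agent.S18813
import Groth.Agent.Lib.Helper25.Diag
import Groth.Agent.Lib.Helper25.Flag
import Groth.Agent.Lib.Helper25.TrivFlag
import Groth.Agent.Lib.Helper25.GroupLikeBC
import Groth.Agent.Lib.Helper25.Cores
-- import your own Groth.Agent.* helpers here

set_option autoImplicit false
universe u
open scoped TensorProduct
open SGA3t2b

namespace Groth.Agent.S2966

open HopfRep Groth.Agent.Lib.Helper25 Groth.Agent.Lib.Helper25.Comod

/-- part (i): homomorphisms from a linearly reductive group to a unipotent group are trivial -/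
theorem part1 {k : Type u} [Field k] {AM AU : Type u} [CommRing AM] [CommRing AU]
    [HopfAlgebra k AM] [HopfAlgebra k AU]
    (hLR : HopfRep.IsLinearlyReductive k AM) (hU : HopfRep.IsUnipotent k AU)
    (φ : AU →ₐc[k] AM) : SGA3t2b.IsTrivialBialgHom φ := by
  intro a
  obtain ⟨X, hX, hXfg, haX⟩ := exists_fg_subcomod (k := k) (C := AU) (V := AU) a
  have hfin : Module.Finite k X := Module.Finite.iff_fg.mpr hXfg
  let cX : Comod k AU X := subComod X hX
  obtain ⟨F, -, hF0, -, -, htop, htriv⟩ :=
    Flag.exists_flag (k := k) (A := AU) True (Flag.source_of_isUnipotent hU True)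
      (Module.finrank k X) X rfl
  let cM : Comod k AM X := GLin.comodAlong φ cX
  have htrivM : ∀ i, ∀ v ∈ F (i + 1), cM.coact v - v ⊗ₜ[k] (1 : AM) ∈
      LinearMap.range ((F i).subtype.rTensor AM) := by
    intro i v hv
    have h1 := htriv trivial i v hv
    have h2 : cM.coact v - v ⊗ₜ[k] (1 : AM) =
        LinearMap.lTensor X (φ : AU →ₗ[k] AM) (cX.coact v - v ⊗ₜ[k] (1 : AU)) := by
      rw [map_sub, LinearMap.lTensor_tmul]
      have h11 : (φ : AU →ₗ[k] AM) 1 = 1 := map_one φ
      rw [h11]
      rfl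
    rw [h2]
    exact Cores.mem_range_rTensor_of_lTensor _ _ _ h1
  have hss : @IsSemisimpleComod k AM _ _ _ _ X _ _ cM := @hLR X _ _ cM hfin
  have hfix : @fixedPts k AM _ _ _ X _ _ cM = ⊤ :=
    @TrivFlag.fixedPts_eq_top_of_flag k _ AM _ _ X _ _ cM hss (Module.finrank k X) F hF0
      (htop _ le_rfl) htrivM
  have ha : (⟨a, haX⟩ : X) ∈ @fixedPts k AM _ _ _ X _ _ cM := by rw [hfix]; trivial
  have ha' : LinearMap.lTensor X (φ : AU →ₗ[k] AM) (cX.coact ⟨a, haX⟩) =
      (⟨a, haX⟩ : X) ⊗ₜ[k] (1 : AM) := ha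
  have h3 := congrArg (LinearMap.rTensor AM X.subtype) ha'
  rw [← LinearMap.comp_apply, LinearMap.rTensor_comp_lTensor, ← LinearMap.lTensor_comp_rTensor,
    LinearMap.comp_apply, subComod_coact X hX ⟨a, haX⟩, LinearMap.rTensor_tmul] at h3
  change LinearMap.lTensor AU (φ : AU →ₗ[k] AM) (CoalgebraStruct.comul (R := k) a) =
    a ⊗ₜ[k] (1 : AM) at h3
  have h4 := congrArg (LinearMap.rTensor AM (CoalgebraStruct.counit (R := k) (A := AU))) h3
  rw [← LinearMap.comp_apply, LinearMap.rTensor_comp_lTensor, ← LinearMap.lTensor_comp_rTensor,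
    LinearMap.comp_apply, Coalgebra.rTensor_counit_comul, LinearMap.lTensor_tmul,
    LinearMap.rTensor_tmul] at h4
  have h5 := congrArg (TensorProduct.lid k AM) h4
  rw [TensorProduct.lid_tmul, TensorProduct.lid_tmul, one_smul] at h5
  rw [Algebra.algebraMap_eq_smul_one]
  exact h5

/-- part (ii): homomorphisms from a unipotent group to a group which is diagonalizable over an
extension field are trivial -/
theorem part2 {k : Type u} [Field k] {AM AU : Type u} [CommRing AM] [CommRing AU]
    [HopfAlgebra k AM] [HopfAlgebra k AU] (K : Type u) [Field K] [Algebra k K]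
    (hM : HopfRep.IsDiagonalizable K (K ⊗[k] AM)) (hU : HopfRep.IsUnipotent k AU)
    (ψ : AM →ₐc[k] AU) : SGA3t2b.IsTrivialBialgHom ψ := by
  intro a
  let ψK : K ⊗[k] AM →ₗc[K] K ⊗[k] AU :=
    Coalgebra.TensorProduct.map (CoalgHom.id K K) (ψ : AM →ₗc[k] AU)
  have hψK : ∀ (x : K) (b : AM), ψK (x ⊗ₜ[k] b) = x ⊗ₜ[k] ψ b := fun x b => rfl
  let T : K ⊗[k] AM →ₗ[K] K ⊗[k] AU :=
    (LinearMap.toSpanSingleton K (K ⊗[k] AU) 1) ∘ₗ
      (CoalgebraStruct.counit (R := K) (A := K ⊗[k] AM))
  have heq : (ψK : K ⊗[k] AM →ₗ[K] K ⊗[k] AU) = T := by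
    refine LinearMap.ext_on hM ?_
    intro χ hχ
    have h1 : ψK χ = 1 :=
      GroupLikeBC.eq_one_of_isGroupLikeElem k AU K hU (ψK χ) (IsGroupLikeElem.map ψK hχ)
    change ψK χ = (CoalgebraStruct.counit (R := K) χ) • (1 : K ⊗[k] AU)
    rw [h1, hχ.counit_eq_one, one_smul]
  have h2 := LinearMap.congr_fun heq ((1 : K) ⊗ₜ[k] a)
  change ψK ((1 : K) ⊗ₜ[k] a) =
    (CoalgebraStruct.counit (R := K) ((1 : K) ⊗ₜ[k] a)) • (1 : K ⊗[k] AU) at h2
  rw [hψK, TensorProduct.counit_tmul] at h2
  have h3 : (CoalgebraStruct.counit (R := k) a • CoalgebraStruct.counit (R := K) (1 : K)) •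
      (1 : K ⊗[k] AU) = (1 : K) ⊗ₜ[k] (algebraMap k AU (CoalgebraStruct.counit (R := k) a)) := by
    have : CoalgebraStruct.counit (R := K) (1 : K) = 1 := rfl
    rw [this, Algebra.TensorProduct.one_def, TensorProduct.smul_tmul', smul_eq_mul, mul_one,
      Algebra.algebraMap_eq_smul_one, TensorProduct.tmul_smul, TensorProduct.smul_tmul']
  rw [h3] at h2
  exact Algebra.TensorProduct.includeRight_injective (R := k) (A := K) (B := AU)
    (algebraMap k K).injective h2

/-- In Hopf-algebra form (with unipotent taken in the representation-theoretic sense: affine and every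
non-zero finite-dimensional representation has a non-zero fixed vector): let k be a field, A_M the
coordinate Hopf algebra of an affine k-group M of finite type which is of multiplicative type in the
sense that it becomes diagonalisable over an algebraic closure of k, and A_U that of a unipotent
affine k-group U of finite type. Then (i) every homomorphism M -> U and (ii) every homomorphism U ->
M is trivial: every bialgebra map A_U -> A_M, resp. A_M -> A_U, factors through the counit. -/
theorem result {k : Type u} [Field k] {AM AU : Type u} [CommRing AM] [CommRing AU]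
    [HopfAlgebra k AM] [HopfAlgebra k AU] [Algebra.FiniteType k AM] [Algebra.FiniteType k AU]
    (hM : HopfRep.IsDiagonalizable (AlgebraicClosure k) (AlgebraicClosure k ⊗[k] AM)) (hU : HopfRep.IsUnipotent k AU) :
    (∀ φ : AU →ₐc[k] AM, SGA3t2b.IsTrivialBialgHom φ) ∧ (∀ ψ : AM →ₐc[k] AU, SGA3t2b.IsTrivialBialgHom ψ) := by
  have hLR : HopfRep.IsLinearlyReductive k AM :=
    (Groth.Agent.S18813.result k (AlgebraicClosure k) AM).mpr
      (Diag.isLinearlyReductive_of_isDiagonalizable _ _ hM)
  exact ⟨fun φ => part1 hLR hU φ, fun ψ => part2 (AlgebraicClosure k) hM hU ψ⟩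

end Groth.Agent.S2966
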