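import Groth.Statements.S2967
import Mathlib.LinearAlgebra.FiniteDimensional.Defs
import Mathlib.LinearAlgebra.FreeModule.Finite.Basic
import Mathlib.LinearAlgebra.Dimension.Free

set_option autoImplicit false
universe u
open SGA3t2b

namespace Groth.Agent.S2967

/-- A commutative p-Lie algebra over a field k of characteristic p is recorded as a k-vector space g
together with its p-th power map φ, which is additive and Frobenius-semilinear. Let g be
finite-dimensional and non-zero, and assume every element of g is killed by some iterate of φ (g is
unipotent). Then the k-subspace of g spanned by the image φ(g) is a proper subspace. -/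
theorem result {k : Type u} [Field k] (p : ℕ) [Fact p.Prime] [CharP k p]
    {V : Type u} [AddCommGroup V] [Module k V] [FiniteDimensional k V] [Nontrivial V]
    (φ : V →ₛₗ[frobenius k p] V) (hφ : ∀ x : V, ∃ n : ℕ, φ^[n] x = 0) :
    Submodule.span k (Set.range φ) ≠ ⊤ := by
  classical
  have iter_zero : ∀ n : ℕ, φ^[n] 0 = 0 := by
    intro n
    induction n with
    | zero => rfl
    | succ n ih => rw [Function.iterate_succ_apply, map_zero, ih]
  have iter_add : ∀ (n : ℕ) (x y : V), φ^[n] (x + y) = φ^[n] x + φ^[n] y := by
    intro n
    induction n with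
    | zero => intro x y; rfl
    | succ n ih =>
      intro x y
      rw [Function.iterate_succ_apply, Function.iterate_succ_apply, Function.iterate_succ_apply,
        map_add, ih]
  have iter_smul : ∀ (n : ℕ) (c : k) (x : V), ∃ c' : k, φ^[n] (c • x) = c' • φ^[n] x := by
    intro n
    induction n with
    | zero => intro c x; exact ⟨c, rfl⟩
    | succ n ih =>
      intro c x
      obtain ⟨c', hc'⟩ := ih (frobenius k p c) (φ x)
      refine ⟨c', ?_⟩
      rw [Function.iterate_succ_apply, Function.iterate_succ_apply, map_smulₛₗ, hc']
  let K : ℕ → Submodule k V := fun n =>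
    { carrier := {x | φ^[n] x = 0}
      add_mem' := by
        intro x y hx hy
        simp only [Set.mem_setOf_eq] at hx hy ⊢
        rw [iter_add, hx, hy, add_zero]
      zero_mem' := iter_zero n
      smul_mem' := by
        intro c x hx
        simp only [Set.mem_setOf_eq] at hx ⊢
        obtain ⟨c', hc'⟩ := iter_smul n c x
        rw [hc', hx, smul_zero] }
  have hKmem : ∀ n x, x ∈ K n ↔ φ^[n] x = 0 := fun n x => Iff.rfl
  -- some iterate kills everything
  have hex : ∃ N : ℕ, ∀ x : V, φ^[N] x = 0 := by
    let b := Module.finBasis k V
    choose n hn using fun i => hφ (b i)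
    refine ⟨Finset.univ.sup n, fun x => ?_⟩
    have htop : K (Finset.univ.sup n) = ⊤ := by
      rw [eq_top_iff, ← b.span_eq, Submodule.span_le]
      rintro _ ⟨i, rfl⟩
      have hle : n i ≤ Finset.univ.sup n := Finset.le_sup (Finset.mem_univ i)
      change φ^[Finset.univ.sup n] (b i) = 0
      rw [← Nat.sub_add_cancel hle, Function.iterate_add_apply, hn i, iter_zero]
    have : x ∈ K (Finset.univ.sup n) := by rw [htop]; trivial
    exact this
  intro htop
  have hN := Nat.find_spec hex
  have hmin := fun m => Nat.find_min hex (m := m)
  rcases Nat.eq_zero_or_pos (Nat.find hex) with h0 | hpos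
  · rw [h0] at hN
    obtain ⟨x, hx⟩ := exists_ne (0 : V)
    exact hx (hN x)
  · obtain ⟨m, hm⟩ := Nat.exists_eq_succ_of_ne_zero hpos.ne'
    apply hmin m (by omega)
    intro x
    have hle : Submodule.span k (Set.range φ) ≤ K m := by
      rw [Submodule.span_le]
      rintro _ ⟨y, rfl⟩
      change φ^[m] (φ y) = 0
      rw [← Function.iterate_succ_apply, ← hm]
      exact hN y
    have : x ∈ K m := hle (by rw [htop]; trivial)
    exact this

end Groth.Agent.S2967
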