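import Groth.Statements.S2978
-- import your own Groth.Agent.* helpers here

set_option autoImplicit false
universe u
open SGA3b

namespace Groth.Agent.S2978

/-- Let A be a Noetherian ring, M a set and a : M × M → A a family vanishing off the diagonal which is a
finite sum of decomposable families: a(m, m') = Σ_i b_i(m) c_i(m') for finitely many b_i, c_i : M →
A. Then a has finite support. -/
theorem result (A : Type u) [CommRing A] [IsNoetherianRing A] (M : Type u)
    (a : M × M → A) (hdiag : ∀ m m', m ≠ m' → a (m, m') = 0)
    (ι : Type u) [Fintype ι] (b c : ι → M → A) (hdec : ∀ m m', a (m, m') = ∑ i, b i m * c i m') :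
    Set.Finite {p : M × M | a p ≠ 0} := by
  classical
  set S : Set M := {m | a (m, m) ≠ 0} with hS
  let v : M → (ι → A) := fun m i => b i m
  let φ : M → ((ι → A) →ₗ[A] A) := fun m =>
    ∑ i, (c i m) • (LinearMap.proj i : (ι → A) →ₗ[A] A)
  have hφ : ∀ m m', φ m' (v m) = a (m, m') := by
    intro m m'
    simp only [φ, v, LinearMap.sum_apply, LinearMap.smul_apply, LinearMap.proj_apply, smul_eq_mul, hdec]
    exact Finset.sum_congr rfl (fun i _ => mul_comm _ _)
  have hfg : (Submodule.span A (v '' S)).FG := IsNoetherian.noetherian _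
  obtain ⟨T, hTS, hT⟩ := (Submodule.fg_span_iff_fg_span_finset_subset _).mp hfg
  have himg : v '' S ⊆ (T : Set (ι → A)) := by
    rintro _ ⟨m, hm, rfl⟩
    by_contra hmT
    have hmem : v m ∈ Submodule.span A (T : Set (ι → A)) := by
      rw [← hT]; exact Submodule.subset_span ⟨m, hm, rfl⟩
    have hker : Submodule.span A (T : Set (ι → A)) ≤ LinearMap.ker (φ m) := by
      rw [Submodule.span_le]
      intro t ht
      obtain ⟨m', hm', rfl⟩ := hTS ht
      have hne : m' ≠ m := by
        rintro rfl
        exact hmT ht
      simp only [SetLike.mem_coe, LinearMap.mem_ker, hφ]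
      exact hdiag m' m hne
    have := hker hmem
    rw [LinearMap.mem_ker, hφ] at this
    exact hm this
  have hinj : Set.InjOn v S := by
    intro m hm m' hm' h
    by_contra hne
    have h1 : φ m' (v m) = a (m, m') := hφ m m'
    rw [h, hφ] at h1
    exact hm' (h1.trans (hdiag m m' hne))
  have hSfin : S.Finite := Set.Finite.of_finite_image (T.finite_toSet.subset himg) hinj
  refine (hSfin.image (fun m => (m, m))).subset ?_
  rintro ⟨m, m'⟩ hp
  by_cases h : m = m'
  · subst h
    exact ⟨m, hp, rfl⟩
  · exact (hp (hdiag m m' h)).elim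

end Groth.Agent.S2978
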