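import Groth.Statements.S3024
import Groth.Agent.Lib.Helper24.NFT.HomSurj
import Groth.Agent.Lib.Helper24.AntiAff.ImageGroup

set_option autoImplicit false
universe u
open CategoryTheory MonoidalCategory CartesianMonoidalCategory MonObj GrpObj AlgebraicGeometry TensorProduct
open SGA3

namespace Groth.Agent.S3024

/-- Let f : H → G be a quasi-compact homomorphism of group schemes over a field k. Then f factors as a
homomorphism f' : H → H' followed by a homomorphism i : H' → G which is a closed immersion (H' is
the schematic image of f, a closed subgroup scheme of G), with f' schematically dominant,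
quasi-compact and surjective. -/
theorem result (k : Type u) [Field k] (H G : Over (Spec (CommRingCat.of k))) [GrpObj H] [GrpObj G]
    (f : H ⟶ G) [IsMonHom f] [QuasiCompact f.left] :
    ∃ (H' : Over (Spec (CommRingCat.of k))) (_ : GrpObj H') (i : H' ⟶ G) (f' : H ⟶ H'),
      IsMonHom i ∧ IsMonHom f' ∧ f' ≫ i = f ∧ IsClosedImmersion i.left ∧
      f'.left.ker = ⊥ ∧ QuasiCompact f'.left ∧ Surjective f'.left := by
  obtain ⟨M₁, inst, j₁, f₁, hj₁, hci, hfac, hdom, hqc⟩ :=
    Groth.Agent.Lib.Helper24.AntiAff.exists_image_subgroup H G f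
  haveI : Mono j₁.left := inferInstance
  haveI : Mono j₁ := Over.mono_of_mono_left j₁
  haveI hmon : IsMonHom f₁ := by
    refine ⟨?_, ?_⟩
    · rw [← cancel_mono j₁, Category.assoc, hfac, IsMonHom.one_hom, IsMonHom.one_hom]
    · rw [← cancel_mono j₁, Category.assoc, hfac, Category.assoc, IsMonHom.mul_hom,
        IsMonHom.mul_hom, tensorHom_comp_tensorHom_assoc, hfac]
  haveI : IsDominant f₁.left := inferInstance
  refine ⟨M₁, inst, j₁, f₁, hj₁, hmon, hfac, hci, hdom.ker_eq_bot, hqc, ?_⟩
  exact Groth.Agent.Lib.Helper24.NFT.surjective_of_dominant f₁ f₁.left.denseRange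

end Groth.Agent.S3024
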