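import Groth.Statements.S3025
import Groth.Agent.Lib.Helper24.NFT.QC
import Groth.Agent.Lib.Helper24.NFT.Dense
import Groth.Agent.Lib.Helper24.HomogSep.Main4100

set_option autoImplicit false
universe u
open CategoryTheory MonoidalCategory CartesianMonoidalCategory MonObj GrpObj AlgebraicGeometry TensorProduct
open SGA3

namespace Groth.Agent.S3025

/-- Let S be a scheme and G a group scheme over S which is locally of finite presentation and
universally open over S and whose fibres are connected. Then G is separated and quasi-compact (hence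
of finite presentation) over S. -/
theorem result (S : Scheme.{u}) (G : Over S) [GrpObj G]
    [LocallyOfFinitePresentation G.hom] [UniversallyOpen G.hom]
    (hconn : ∀ s : S, _root_.IsConnected (G.hom.base ⁻¹' {s})) :
    IsSeparated G.hom ∧ QuasiCompact G.hom := by
  have hΦ := Groth.Agent.Lib.Helper24.NFT.surjective_selfAct G
  have hconn' : ∀ s : S, ConnectedSpace (G.hom.fiber s) := by
    intro s
    haveI : ConnectedSpace ↥(G.hom.base ⁻¹' {s}) := isConnected_iff_connectedSpace.1 (hconn s)
    exact (G.hom.fiberHomeo s).symm.surjective.connectedSpace (G.hom.fiberHomeo s).symm.continuous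
  refine ⟨Groth.Agent.Lib.Helper24.HomogSep.isSeparated_of_connected_fibres
    (Groth.Agent.Lib.Helper4.ActShear2.selfAct G) hconn hΦ, ?_⟩
  rw [quasiCompact_iff_forall_isAffineOpen]
  intro S' hS'
  obtain ⟨W, hWc, hWS, hWe⟩ :=
    Groth.Agent.Lib.Helper24.NFT.exists_compact_open_unit (G := G) S' hS'
  refine Groth.Agent.Lib.Helper24.NFT.isCompact_preimage_of_fibres
    (Groth.Agent.Lib.Helper4.ActShear2.selfAct G) hΦ S' hS'
    (fun x _ => Groth.Agent.Lib.Helper24.HomogSep.isPreirreducible_fibre
      (Groth.Agent.Lib.Helper4.ActShear2.selfAct G) hconn' hΦ x) W hWc hWS ?_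
  intro x hx
  haveI : IsIso (𝟙_ (Over S)).hom := by
    rw [Over.tensorUnit_hom]; exact IsIso.id _
  obtain ⟨p, hp⟩ := (𝟙_ (Over S)).hom.homeomorph.surjective (G.hom.base x)
  have hp' : (𝟙_ (Over S)).hom.base p = G.hom.base x := hp
  refine ⟨η[G].left.base p, hWe p (by rw [hp']; exact hx), ?_⟩
  change G.hom.base (η[G].left.base p) = G.hom.base x
  rw [← Scheme.Hom.comp_apply, Over.w η[G], hp']

end Groth.Agent.S3025
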