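import Groth.Statements.S3029
import Mathlib
import Groth.Agent.Lib.Helper24.HomogSep.Transl
import Groth.Agent.Lib.Helper24.Homog.KPoints
import Groth.Agent.Lib.Helper7.CMClosedPoint
import Groth.Agent.Lib.Helper22.CMFibB
import Groth.Agent.Lib.Helper5.CMFlatLocal
import Groth.Prelude.Def_SGA3

set_option autoImplicit false
universe u
open CategoryTheory MonoidalCategory CartesianMonoidalCategory MonObj GrpObj AlgebraicGeometry TensorProduct
open SGA3

namespace Groth.Agent.S3029

section helpers

open CategoryTheory MonoidalCategory CartesianMonoidalCategory MonObj GrpObj AlgebraicGeometry Limits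


open Groth.Agent.Lib.Helper24.HomogSep Groth.Agent.Lib.Helper24 Groth.Agent.Lib.Helper4.ActShear2

/-- CM stalks are stable under generization -/
theorem isCM_stalk_of_specializes {Y : Scheme.{u}} {x y : Y} (h : x ⤳ y)
    [hy : LocCoh.IsCohenMacaulayLocalRing (Y.presheaf.stalk y)] :
    LocCoh.IsCohenMacaulayLocalRing (Y.presheaf.stalk x) := by
  obtain ⟨V, hV, hyV, -⟩ := exists_isAffineOpen_mem_and_subset (x := y) (U := (⊤ : Y.Opens))
    (by trivial)
  have hxV : x ∈ V := h.mem_open V.2 hyV
  rw [Groth.Agent.Lib.Helper7.CMClosedPoint.isCM_stalk_iff hV x hxV]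
  rw [Groth.Agent.Lib.Helper7.CMClosedPoint.isCM_stalk_iff hV y hyV] at hy
  have hle : (hV.primeIdealOf ⟨x, hxV⟩).asIdeal ≤ (hV.primeIdealOf ⟨y, hyV⟩).asIdeal := by
    have h1 : (⟨x, hxV⟩ : V) ⤳ ⟨y, hyV⟩ := (subtype_specializes_iff _ _).mpr h
    have h2 : hV.primeIdealOf ⟨x, hxV⟩ ⤳ hV.primeIdealOf ⟨y, hyV⟩ :=
      h1.map hV.isoSpec.hom.continuous
    exact (PrimeSpectrum.le_iff_specializes _ _).mpr h2
  exact Groth.Agent.Lib.Helper22.CMFib.isCM_localization_of_le _ _ _ hle

/-- CM stalks transported by an isomorphism of schemes -/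
theorem isCM_stalk_of_iso {Y Z : Scheme.{u}} (φ : Y ⟶ Z) [IsIso φ] (u : Y)
    [LocCoh.IsCohenMacaulayLocalRing (Y.presheaf.stalk u)] :
    LocCoh.IsCohenMacaulayLocalRing (Z.presheaf.stalk (φ u)) := by
  have : IsIso (φ.stalkMap u) := inferInstance
  exact Groth.Agent.Lib.Helper5.CMFlatLocal.isCohenMacaulayLocalRing_of_ringEquiv
    (asIso (φ.stalkMap u)).symm.commRingCatIsoToRingEquiv


section algClosed

variable {K : Type u} [Field K] [IsAlgClosed K]

theorem isCM_stalk_algClosed (G : Over (Spec (CommRingCat.of K))) [GrpObj G]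
    [LocallyOfFiniteType G.hom] (x : G.left) :
    LocCoh.IsCohenMacaulayLocalRing (G.left.presheaf.stalk x) := by
  haveI : Nonempty G.left := ⟨x⟩
  obtain ⟨u, hu, hCMu⟩ := Groth.Agent.Lib.Helper7.CMClosedPoint.exists_closedPoint_CM K G.left G.hom
  obtain ⟨cu, hcu1, hcu2⟩ := Homog.exists_Kpoint_of_isClosed_singleton (k := K) (K := K) G.hom u hu
  obtain ⟨cy, hcy1, hcy2⟩ := Homog.exists_Kpoint_mem_closed (k := K) (K := K) G.hom
    (closure {x}) isClosed_closure ⟨x, subset_closure rfl⟩
  have hid : Spec.map (CommRingCat.ofHom (algebraMap K K)) = 𝟙 (Spec (CommRingCat.of K)) := by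
    change Spec.map (CommRingCat.ofHom (RingHom.id K)) = 𝟙 _
    exact Spec.map_id _
  rw [hid] at hcu1 hcy1
  let cU : 𝟙_ (Over (Spec (CommRingCat.of K))) ⟶ G := Over.homMk cu hcu1
  let cY : 𝟙_ (Over (Spec (CommRingCat.of K))) ⟶ G := Over.homMk cy hcy1
  let g : 𝟙_ (Over (Spec (CommRingCat.of K))) ⟶ G := cY * cU⁻¹
  let φ : G ≅ G := trIso (selfAct G) g
  have h1 : cU ≫ φ.hom = cY := by
    change cU ≫ tr (selfAct G) g = cY
    rw [point_tr]
    exact inv_mul_cancel_right cY cU
  have h2 : cu ≫ φ.hom.left = cy := congrArg (fun f => f.left) h1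
  obtain ⟨t⟩ : Nonempty (Spec (CommRingCat.of K)) := inferInstance
  have h3 : φ.hom.left u = cy t := by
    rw [← hcu2 t, ← h2]
    rfl
  haveI : IsIso φ.hom.left := (Over.forget _).map_isIso φ.hom
  haveI : LocCoh.IsCohenMacaulayLocalRing (G.left.presheaf.stalk (cy t)) := by
    rw [← h3]
    exact isCM_stalk_of_iso φ.hom.left u
  have hsp : x ⤳ cy t := specializes_iff_mem_closure.mpr (hcy2 t)
  exact isCM_stalk_of_specializes hsp

end algClosed

theorem main (k : Type u) [Field k] (G : Over (Spec (CommRingCat.of k))) [GrpObj G]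
    [LocallyOfFiniteType G.hom] (x : G.left) :
    LocCoh.IsCohenMacaulayLocalRing (G.left.presheaf.stalk x) := by
  let K := AlgebraicClosure k
  let j : Spec (CommRingCat.of K) ⟶ Spec (CommRingCat.of k) :=
    Spec.map (CommRingCat.ofHom (algebraMap k K))
  let G' : Over (Spec (CommRingCat.of K)) := (Over.pullback j).obj G
  letI : GrpObj G' := Functor.grpObjObj
  haveI : LocallyOfFiniteType G'.hom := by
    show LocallyOfFiniteType (pullback.snd G.hom j)
    infer_instance
  let π : G'.left ⟶ G.left := pullback.fst G.hom j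
  haveI : Flat j := by
    rw [HasRingHomProperty.Spec_iff (P := @Flat)]
    rw [CommRingCat.hom_ofHom, RingHom.flat_algebraMap_iff]
    infer_instance
  haveI : Surjective j := by
    refine ⟨fun y => ?_⟩
    obtain ⟨z⟩ : Nonempty (Spec (CommRingCat.of K)) := inferInstance
    exact ⟨z, Subsingleton.elim _ _⟩
  haveI : Flat π := by
    show Flat (pullback.fst G.hom j)
    infer_instance
  haveI : Surjective π := by
    show Surjective (pullback.fst G.hom j)
    infer_instance
  obtain ⟨x', hx'⟩ := π.surjective x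
  have hCM' : LocCoh.IsCohenMacaulayLocalRing (G'.left.presheaf.stalk x') :=
    isCM_stalk_algClosed G' x'
  subst hx'
  have hflat : (π.stalkMap x').hom.Flat := Flat.stalkMap π x'
  haveI : IsLocallyNoetherian G.left := LocallyOfFiniteType.isLocallyNoetherian G.hom
  haveI : IsLocallyNoetherian G'.left := LocallyOfFiniteType.isLocallyNoetherian G'.hom
  algebraize [(π.stalkMap x').hom]
  haveI : IsLocalHom (algebraMap (G.left.presheaf.stalk (π x')) (G'.left.presheaf.stalk x')) :=
    inferInstanceAs (IsLocalHom (π.stalkMap x').hom)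
  exact ((Groth.Agent.Lib.Helper5.CMFlatLocal.isCohenMacaulayLocalRing_flat_iff
    (G.left.presheaf.stalk (π x')) (G'.left.presheaf.stalk x')).mp hCM').1


end helpers

/-- Let G be a group scheme locally of finite type over a field k and x a point of G. Then the local
ring of G at x is Cohen–Macaulay. (This is the case of a base field; the published statement treats
flat groups over a local Artinian ring.) -/
theorem result (k : Type u) [Field k] (G : Over (Spec (CommRingCat.of k))) [GrpObj G]
    [LocallyOfFiniteType G.hom] (x : G.left) :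
    LocCoh.IsCohenMacaulayLocalRing (G.left.presheaf.stalk x) := by
  exact main k G x

end Groth.Agent.S3029
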