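import Groth.Statements.S3043
import Mathlib

set_option autoImplicit false
universe u
open CategoryTheory MonoidalCategory CartesianMonoidalCategory MonObj GrpObj AlgebraicGeometry TensorProduct
open SGA3

namespace Groth.Agent.S3043

/-- Let π : X → S be a morphism of schemes admitting a section ε (ε followed by π is the identity). If π
is injective on underlying points, then π is an integral morphism. -/
theorem result (X S : Scheme.{u}) (π : X ⟶ S) (ε : S ⟶ X) (hε : ε ≫ π = 𝟙 S)
    (hinj : Function.Injective π.base) : IsIntegralHom π := by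
  have h1 : ∀ s : S, π (ε s) = s := fun s => by
    rw [← Scheme.Hom.comp_apply, hε]; rfl
  have h2 : ∀ x : X, ε (π x) = x := fun x => hinj (h1 (π x))
  let e : X ≃ₜ S :=
    { toFun := π, invFun := ε, left_inv := h2, right_inv := h1,
      continuous_toFun := π.continuous, continuous_invFun := ε.continuous }
  have hind : Topology.IsInducing π := e.isInducing
  have hcl : IsClosed (Set.range π) := by
    have : Set.range π = Set.univ := e.surjective.range_eq
    rw [this]; exact isClosed_univ
  have haff : IsAffineHom π := isAffineHom_of_isInducing π hind hcl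
  refine ⟨fun U hU => ?_⟩
  have hV : IsAffineOpen (π ⁻¹ᵁ U) := hU.preimage π
  have hle : U ≤ ε ⁻¹ᵁ (π ⁻¹ᵁ U) := by
    intro s hs
    change π (ε s) ∈ U
    rw [h1]; exact hs
  have hgen : ∀ (f : S ⟶ S) (hf : f = 𝟙 S) (h : U ≤ f ⁻¹ᵁ U), f.appLE U U h = 𝟙 _ := by
    intro f hf h
    subst hf
    rw [Scheme.Hom.appLE]
    simp only [Scheme.Hom.id_app]
    exact S.presheaf.map_id _
  have hcomp : π.app U ≫ ε.appLE (π ⁻¹ᵁ U) U hle = 𝟙 _ := by
    rw [← hgen (ε ≫ π) hε hle]
    exact (Scheme.Hom.comp_appLE ε π U U hle).symm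
  intro b
  set a := ε.appLE (π ⁻¹ᵁ U) U hle b with ha
  have hzero : ε.appLE (π ⁻¹ᵁ U) U hle (b - π.app U a) = 0 := by
    rw [map_sub, ← CommRingCat.comp_apply, hcomp]
    simp [ha]
  have hnil : IsNilpotent (b - π.app U a) := by
    rw [Scheme.isNilpotent_iff_basicOpen_eq_bot_of_isCompact hV.isCompact]
    have hb := Scheme.basicOpen_appLE ε U (π ⁻¹ᵁ U) hle (b - π.app U a)
    rw [hzero] at hb
    rw [eq_bot_iff]
    intro x hx
    have hx' : x ∈ π ⁻¹ᵁ U := Scheme.basicOpen_le _ _ hx
    have : π x ∈ S.basicOpen (0 : Γ(S, U)) := by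
      rw [hb]
      refine ⟨hx', ?_⟩
      change ε (π x) ∈ X.basicOpen (b - π.app U a)
      rw [h2]; exact hx
    simp at this
  have : b = π.app U a + (b - π.app U a) := by ring
  rw [this]
  apply RingHom.IsIntegralElem.add
  · exact RingHom.isIntegralElem_map _
  · obtain ⟨n, hn⟩ := hnil
    refine ⟨Polynomial.X ^ n, Polynomial.monic_X_pow n, ?_⟩
    simp [hn]

end Groth.Agent.S3043
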