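import Groth.Statements.S3045
import Mathlib
-- import your own Groth.Agent.* helpers here

set_option autoImplicit false
universe u
open TensorProduct
open SGA3

namespace Groth.Agent.S3045

/-- Let A be a commutative Hopf algebra over a commutative ring k (the coordinate ring of an affine
group G = Spec A) and φ, ψ two k[ε]-valued points of G reducing to the unit point modulo ε (tangent
vectors at the identity). Then for every a ∈ A the ε-component of the product point φ · ψ at a — the
product of points being convolution, formed here as the triple convolution of φ, ψ and the unit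
point — is the sum of the ε-components of φ(a) and ψ(a): on tangent vectors at the identity the
group law of G induces addition. -/
theorem result (k : Type u) [CommRing k] (A : Type u) [CommRing A] [HopfAlgebra k A]
    (φ ψ : LieHopf.LiePts k A) (a : A) :
    TrivSqZeroExt.snd (Dyn.conv3 k A φ.1 ψ.1 ((Algebra.ofId k (DualNumber k)).comp (Bialgebra.counitAlgHom k A)) a) =
      LieHopf.LiePts.tangent k A φ a + LieHopf.LiePts.tangent k A ψ a := by
  classical
  let ε : A →ₗ[k] k := CoalgebraStruct.counit (R := k) (A := A)
  let Δ : A →ₗ[k] A ⊗[k] A := CoalgebraStruct.comul (R := k) (A := A)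
  let e : A →ₐ[k] DualNumber k :=
    (Algebra.ofId k (DualNumber k)).comp (Bialgebra.counitAlgHom k A)
  let m₂ : A ⊗[k] A →ₐ[k] DualNumber k :=
    (Algebra.TensorProduct.lmul' (S := DualNumber k) k).comp (Algebra.TensorProduct.map φ.1 ψ.1)
  have hA : ∀ x : A ⊗[k] A,
      (Algebra.TensorProduct.lmul' (S := DualNumber k) k)
        ((Algebra.TensorProduct.map m₂ e)
          ((Algebra.TensorProduct.map (Bialgebra.comulAlgHom k A) (AlgHom.id k A)) x)) =
      m₂ (Δ ((TensorProduct.rid k A) ((ε.lTensor A) x))) := by
    intro x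
    induction x using TensorProduct.induction_on with
    | zero => simp
    | add x y hx hy => simp only [map_add, hx, hy]
    | tmul b c =>
      rw [Algebra.TensorProduct.map_tmul, Algebra.TensorProduct.map_tmul,
        Algebra.TensorProduct.lmul'_apply_tmul, LinearMap.lTensor_tmul, TensorProduct.rid_tmul,
        map_smul, map_smul]
      change m₂ (Δ b) * algebraMap k (DualNumber k) (ε c) = ε c • m₂ (Δ b)
      rw [Algebra.smul_def, mul_comm]
  have hB : ∀ x : A ⊗[k] A, TrivSqZeroExt.snd (m₂ x) =
      TrivSqZeroExt.snd (ψ.1 ((TensorProduct.lid k A) ((ε.rTensor A) x))) +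
        TrivSqZeroExt.snd (φ.1 ((TensorProduct.rid k A) ((ε.lTensor A) x))) := by
    intro x
    induction x using TensorProduct.induction_on with
    | zero => simp
    | add x y hx hy =>
      simp only [map_add, TrivSqZeroExt.snd_add, hx, hy]
      abel
    | tmul b c =>
      have h1 : m₂ (b ⊗ₜ[k] c) = φ.1 b * ψ.1 c := by
        simp [m₂]
      rw [h1, TrivSqZeroExt.snd_mul, LinearMap.rTensor_tmul, LinearMap.lTensor_tmul,
        TensorProduct.lid_tmul, TensorProduct.rid_tmul, map_smul, map_smul,
        TrivSqZeroExt.snd_smul, TrivSqZeroExt.snd_smul, φ.2 b, ψ.2 c, op_smul_eq_smul]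
      rfl
  have hcu1 : (TensorProduct.rid k A) ((ε.lTensor A) (Δ a)) = a := by
    have h := LinearMap.congr_fun (Coalgebra.lTensor_counit_comp_comul (R := k) (A := A)) a
    change (ε.lTensor A) (Δ a) = _ at h
    rw [h]; simp
  have hcu2 : (TensorProduct.lid k A) ((ε.rTensor A) (Δ a)) = a := by
    have h := LinearMap.congr_fun (Coalgebra.rTensor_counit_comp_comul (R := k) (A := A)) a
    change (ε.rTensor A) (Δ a) = _ at h
    rw [h]; simp
  have hconv : Dyn.conv3 k A φ.1 ψ.1 e a = m₂ (Δ a) := by
    have := hA (Δ a)
    rw [hcu1] at this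
    exact this
  change TrivSqZeroExt.snd (Dyn.conv3 k A φ.1 ψ.1 e a) = TrivSqZeroExt.snd (φ.1 a) + TrivSqZeroExt.snd (ψ.1 a)
  rw [hconv, hB, hcu1, hcu2, add_comm]

end Groth.Agent.S3045
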