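import Groth.Statements.S3046
import Groth.Agent.Lib.Helper14.RedSplitA

set_option autoImplicit false
universe u
open TensorProduct
open SGA3

namespace Groth.Agent.S3046

open WithConv Groth.Agent.Lib.Helper14.RedSplit

section

variable (k : Type u) [CommRing k] (A : Type u) [CommRing A] [HopfAlgebra k A]
  (R : Type u) [CommRing R] [Algebra k R]

/-- the class of an algebra hom in the linear convolution ring -/
noncomputable def cl (f : A →ₐ[k] R) : WithConv (A →ₗ[k] R) := toConv f.toLinearMap

lemma cl_mul (f g : WithConv (A →ₐ[k] R)) : cl k A R (f * g).ofConv = cl k A R f.ofConv * cl k A R g.ofConv :=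
  rfl

lemma cl_one : cl k A R (1 : WithConv (A →ₐ[k] R)).ofConv = 1 := rfl

lemma conv3_eq (f g h : A →ₐ[k] R) :
    Dyn.conv3 k A f g h = (toConv f * toConv g * toConv h : WithConv (A →ₐ[k] R)).ofConv := by
  unfold Dyn.conv3
  rw [AlgHom.convMul_def, AlgHom.convMul_def]
  simp only [ofConv_toConv]
  have h1 : Algebra.TensorProduct.map
      ((Algebra.TensorProduct.lmul' k).comp ((Algebra.TensorProduct.map f g).comp
        (Bialgebra.comulAlgHom k A))) h =
      (Algebra.TensorProduct.map ((Algebra.TensorProduct.lmul' (S := R) k).comp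
        (Algebra.TensorProduct.map f g)) h).comp
        (Algebra.TensorProduct.map (Bialgebra.comulAlgHom k A) (AlgHom.id k A)) := by
    rw [← Algebra.TensorProduct.map_comp, AlgHom.comp_id, AlgHom.comp_assoc]
  rw [h1]
  rfl

/-- an `ε`-derivation as an element of the convolution ring with values in `R` -/
noncomputable def d₀ (D : LieHopf.Lie k A) : WithConv (A →ₗ[k] R) :=
  toConv ((Algebra.linearMap k R) ∘ₗ LieHopf.dlin D)

lemma cl_pt (D : LieHopf.Lie k A) (t : R) (ht : t * t = 0) :
    cl k A R (LieHopf.ptOfLie D R t ht) = 1 + t • d₀ k A R D := by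
  apply WithConv.ofConv_injective
  ext a
  show algebraMap k R (Bialgebra.counitAlgHom k A a) + algebraMap k R (LieHopf.dlin D a) * t =
    algebraMap k R (Coalgebra.counit (R := k) a) + t • algebraMap k R (LieHopf.dlin D a)
  rw [smul_eq_mul, mul_comm t]
  rfl

lemma sq_zero (D : LieHopf.Lie k A) (t : R) (ht : t * t = 0) :
    (t • d₀ k A R D) * (t • d₀ k A R D) = 0 := by
  rw [smul_mul_assoc, mul_smul_comm, smul_smul, ht, zero_smul]

lemma cl_pt_inv (D : LieHopf.Lie k A) (t : R) (ht : t * t = 0) :
    cl k A R ((LieHopf.ptOfLie D R t ht).comp (HopfAlgebra.antipodeAlgHom k A)) =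
      1 - t • d₀ k A R D := by
  have h1 := mul_cinv_cancel (toConv (LieHopf.ptOfLie D R t ht) : WithConv (A →ₐ[k] R))
  have h2 : cl k A R (LieHopf.ptOfLie D R t ht) *
      cl k A R ((LieHopf.ptOfLie D R t ht).comp (HopfAlgebra.antipodeAlgHom k A)) = 1 := by
    have := congrArg (fun f : WithConv (A →ₐ[k] R) => cl k A R f.ofConv) h1
    exact this
  rw [cl_pt] at h2
  set X' := cl k A R ((LieHopf.ptOfLie D R t ht).comp (HopfAlgebra.antipodeAlgHom k A)) with hX'
  set d := t • d₀ k A R D with hd
  have hdd : d * d = 0 := sq_zero k A R D t ht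
  have h3 : (1 - d) * (1 + d) = 1 := by
    rw [sub_mul, mul_add, mul_add, hdd]; simp
  calc X' = ((1 - d) * (1 + d)) * X' := by rw [h3, one_mul]
    _ = (1 - d) * ((1 + d) * X') := by rw [mul_assoc]
    _ = 1 - d := by rw [h2, mul_one]

/-- the commutator expansion in a ring -/
lemma comm_expand {W : Type*} [Ring W] (d e : W) (hd : d * d = 0) (he : e * e = 0)
    (hede : e * d * e = 0) (hded : d * e * d = 0) :
    (1 + d) * (1 + e) * (1 - d) * (1 - e) = 1 + (d * e - e * d) := by
  have h1 : (1 + d) * (1 + e) * (1 - d) * (1 - e) = 1 + (d * e - e * d) +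
      (-(d * d) + d * d * e - d * e * d + d * e * d * e - e * e + e * d * e - d * (e * e)) := by
    noncomm_ring
  rw [h1, hd, he, hede, hded]
  simp

lemma bracket_eq (D E : LieHopf.Lie k A) (a : A) :
    (d₀ k A R D * d₀ k A R E - d₀ k A R E * d₀ k A R D).ofConv a =
      algebraMap k R (LieHopf.bracketLin D E a) := by
  have h1 : ∀ F G : A →ₗ[k] k,
      (toConv ((Algebra.linearMap k R) ∘ₗ F) * toConv ((Algebra.linearMap k R) ∘ₗ G) :
        WithConv (A →ₗ[k] R)).ofConv a = algebraMap k R (LieHopf.conv F G a) := by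
    intro F G
    have := LinearMap.algHom_comp_convMul_distrib (Algebra.ofId k R) (toConv F) (toConv G)
    have h2 := congrArg (fun f : A →ₗ[k] R => f a) this
    exact h2.symm
  show (d₀ k A R D * d₀ k A R E).ofConv a - (d₀ k A R E * d₀ k A R D).ofConv a = _
  unfold d₀
  rw [h1, h1, ← map_sub]
  rfl

end


/-- Let A be a commutative Hopf algebra over a commutative ring k, D and E two ε-derivations A → k
(tangent vectors at the identity of G = Spec A), R a commutative k-algebra and t, t' ∈ R with t² = 0
= t'². Let x = e + tD and y = e + t'E be the corresponding R-points of G. Then the commutator x y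
x⁻¹ y⁻¹ (product of points; the inverse of a point is its composite with the antipode) is the point
a ↦ ε(a) + [D, E](a) · t t', where [D, E] = D ⋆ E − E ⋆ D is the convolution commutator. -/
theorem result (k : Type u) [CommRing k] (A : Type u) [CommRing A] [HopfAlgebra k A]
    (D E : LieHopf.Lie k A) (R : Type u) [CommRing R] [Algebra k R] (t t' : R) (ht : t * t = 0) (ht' : t' * t' = 0)
    (a : A) :
    Dyn.conv3 k A
        (Dyn.conv3 k A (LieHopf.ptOfLie D R t ht) (LieHopf.ptOfLie E R t' ht')
          ((LieHopf.ptOfLie D R t ht).comp (HopfAlgebra.antipodeAlgHom k A)))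
        ((LieHopf.ptOfLie E R t' ht').comp (HopfAlgebra.antipodeAlgHom k A))
        ((Algebra.ofId k R).comp (Bialgebra.counitAlgHom k A)) a =
      algebraMap k R (Bialgebra.counitAlgHom k A a) + algebraMap k R (LieHopf.bracketLin D E a) * (t * t') := by
  rw [conv3_eq, conv3_eq]
  simp only [toConv_ofConv]
  have hone : (toConv ((Algebra.ofId k R).comp (Bialgebra.counitAlgHom k A)) : WithConv (A →ₐ[k] R)) = 1 :=
    rfl
  rw [hone, mul_one]
  set d := t • d₀ k A R D with hd
  set e := t' • d₀ k A R E with he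
  have key : cl k A R (toConv (LieHopf.ptOfLie D R t ht) * toConv (LieHopf.ptOfLie E R t' ht') *
      toConv ((LieHopf.ptOfLie D R t ht).comp (HopfAlgebra.antipodeAlgHom k A)) *
      toConv ((LieHopf.ptOfLie E R t' ht').comp (HopfAlgebra.antipodeAlgHom k A)) :
        WithConv (A →ₐ[k] R)).ofConv = 1 + (d * e - e * d) := by
    rw [cl_mul, cl_mul, cl_mul]
    simp only [ofConv_toConv]
    rw [cl_pt, cl_pt, cl_pt_inv, cl_pt_inv]
    apply comm_expand
    · exact sq_zero k A R D t ht
    · exact sq_zero k A R E t' ht'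
    · simp only [hd, he, smul_mul_assoc, mul_smul_comm, smul_smul]
      have : t' * (t * t') = 0 := by rw [mul_comm t, ← mul_assoc, ht', zero_mul]
      rw [this, zero_smul]
    · simp only [hd, he, smul_mul_assoc, mul_smul_comm, smul_smul]
      have : t * (t' * t) = 0 := by rw [mul_comm t', ← mul_assoc, ht, zero_mul]
      rw [this, zero_smul]
  have h2 := congrArg (fun f : WithConv (A →ₗ[k] R) => f.ofConv a) key
  have h3 : d * e - e * d = (t * t') • (d₀ k A R D * d₀ k A R E - d₀ k A R E * d₀ k A R D) := by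
    simp only [hd, he, smul_mul_assoc, mul_smul_comm, smul_smul, smul_sub]
    rw [mul_comm t' t]
  rw [h3] at h2
  refine h2.trans ?_
  show algebraMap k R (Coalgebra.counit (R := k) a) +
    (t * t') • (d₀ k A R D * d₀ k A R E - d₀ k A R E * d₀ k A R D).ofConv a = _
  rw [bracket_eq, smul_eq_mul, mul_comm (t * t')]
  rfl

end Groth.Agent.S3046
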