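import Groth.Statements.S3058
import Groth.Agent.Lib.Helper13.ToposQC17
open Groth.Agent.Lib.Helper13.ToposQC

set_option autoImplicit false
open CategoryTheory CategoryTheory.Limits Opposite
universe u
open ToposFin

namespace Groth.Agent.S3058

/-- For a topos of sheaves of sets on a small site: the coproduct of a small family of objects is
quasi-compact if and only if every member is quasi-compact and all but finitely many members are
initial (empty) objects. -/
theorem result {C : Type u} [SmallCategory C] {J : GrothendieckTopology C} {ι : Type u}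
    (F : ι → ToposFin.Sh J) :
    ToposFin.IsQC (∐ F) ↔ (∀ i, ToposFin.IsQC (F i)) ∧ {i | IsEmpty (F i ≅ ⊥_ (ToposFin.Sh J))}.Finite := by
  classical
  have hc := coproductIsCoproduct F
  constructor
  · intro h
    constructor
    · intro i
      have := isQC_pullback_inj (Cofan.mk (∐ F) (Sigma.ι F)) hc h (𝟙 _) i
      exact isQC_of_iso (asIso (pullback.snd (𝟙 (∐ F)) (Sigma.ι F i))) this
    · obtain ⟨s, hs⟩ := (isQC_iff _).mp h _ _ _ (jls_inj (Cofan.mk (∐ F) (Sigma.ι F)) hc)
      refine s.finite_toSet.subset ?_
      intro j hj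
      by_contra hjs
      have hj' : IsEmpty (F j ≅ ⊥_ (ToposFin.Sh J)) := hj
      rw [← not_nonempty_iff] at hj'
      apply hj'
      have h1 : JLS (fun i : s => pullback.snd (Sigma.ι F i) (Sigma.ι F j)) :=
        jls_of_isPullback (fun i : s => Sigma.ι F i) hs (Sigma.ι F j) _
          (fun i => pullback.fst _ _) (fun i => IsPullback.of_hasPullback _ _)
      have h2 : ∀ (Z : ToposFin.Sh J) (a b : F j ⟶ Z), a = b := by
        intro Z a b
        apply cancel_of_jls _ h1
        intro i
        have hij : (i : ι) ≠ j := fun e => hjs (e ▸ i.2)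
        obtain ⟨φ⟩ := exists_to_initial (Cofan.mk (∐ F) (Sigma.ι F)) hc hij
          (pullback.fst (Sigma.ι F i) (Sigma.ι F j)) (pullback.snd (Sigma.ι F i) (Sigma.ι F j))
          pullback.condition
        exact eq_of_hom_to_initial φ _ _
      obtain ⟨φ⟩ := exists_to_initial_of_subsingleton (h2 _)
      haveI : IsIso φ := initialIsInitial.isIso_to φ
      exact ⟨asIso φ⟩
  · rintro ⟨h, hfin⟩
    have hjls : JLS (fun i : hfin.toFinset => Sigma.ι F i) := by
      apply jls_of_cancel
      intro Z a b hab
      apply Sigma.hom_ext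
      intro i
      by_cases hi : i ∈ hfin.toFinset
      · exact hab ⟨i, hi⟩
      · rw [Set.Finite.mem_toFinset, Set.mem_ofPred_eq, not_isEmpty_iff] at hi
        obtain ⟨e⟩ := hi
        rw [← cancel_epi e.inv]
        exact initialIsInitial.hom_ext _ _
    exact isQC_of_finite_jls (fun i : hfin.toFinset => F i) (fun i => Sigma.ι F i) hjls
      (fun i => h i)

end Groth.Agent.S3058
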