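import Groth.Statements.S3061
-- import your own Groth.Agent.* helpers here
import Mathlib.CategoryTheory.Limits.Shapes.Pullback.IsPullback.Basic

set_option autoImplicit false
open CategoryTheory CategoryTheory.Limits Opposite
universe u
open ToposFin

namespace Groth.Agent.S3061

/-- Quasi-compactness is invariant under isomorphism. -/
lemma isQC_of_iso {C : Type u} [SmallCategory C] {J : GrothendieckTopology C}
    {X X' : ToposFin.Sh J} (e : X ≅ X') (hX : ToposFin.IsQC X) : ToposFin.IsQC X' := by
  intro ι F π hπ
  have h1 : Sigma.desc (fun i => π i ≫ e.inv) = Sigma.desc π ≫ e.inv := by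
    ext; simp
  have h2 : Epi (Sigma.desc (fun i => π i ≫ e.inv)) := by
    rw [h1]; infer_instance
  obtain ⟨s, hs⟩ := hX ι F (fun i => π i ≫ e.inv) h2
  refine ⟨s, ?_⟩
  have h3 : Sigma.desc (fun i : s => π i) =
      Sigma.desc (fun i : s => π i ≫ e.inv) ≫ e.hom := by
    ext; simp
  rw [h3]
  infer_instance


/-- For a topos of sheaves of sets on a small site: if f : X -> Y and g : Y -> Z are morphisms and g o f
is quasi-separated (quasi-compact diagonal), then f is quasi-separated. -/
theorem result {C : Type u} [SmallCategory C] {J : GrothendieckTopology C} {X Y Z : ToposFin.Sh J}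
    (f : X ⟶ Y) (g : Y ⟶ Z) (h : ToposFin.IsQSHom (f ≫ g)) : ToposFin.IsQSHom f := by
  intro T t hT
  have e1 : pullback.mapDesc f f g ≫ pullback.fst (f ≫ g) (f ≫ g) = pullback.fst f f := by
    dsimp only [pullback.mapDesc, pullback.map]
    rw [pullback.lift_fst, Category.comp_id]
  have e2 : pullback.mapDesc f f g ≫ pullback.snd (f ≫ g) (f ≫ g) = pullback.snd f f := by
    dsimp only [pullback.mapDesc, pullback.map]
    rw [pullback.lift_snd, Category.comp_id]
  have hm : Mono (pullback.mapDesc f f g) := by
    refine ⟨fun a b hab => ?_⟩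
    apply pullback.hom_ext
    · have := hab =≫ pullback.fst _ _
      simpa only [Category.assoc, e1] using this
    · have := hab =≫ pullback.snd _ _
      simpa only [Category.assoc, e2] using this
  have hd : pullback.diagonal f ≫ pullback.mapDesc f f g = pullback.diagonal (f ≫ g) := by
    apply pullback.hom_ext
    · rw [Category.assoc, e1, pullback.diagonal_fst, pullback.diagonal_fst]
    · rw [Category.assoc, e2, pullback.diagonal_snd, pullback.diagonal_snd]
  have sq1 : IsPullback (pullback.snd (pullback.diagonal f) t) (pullback.fst (pullback.diagonal f) t)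
      t (pullback.diagonal f) := (IsPullback.of_hasPullback _ _).flip
  have sq2 : IsPullback (𝟙 T) t (t ≫ pullback.mapDesc f f g) (pullback.mapDesc f f g) :=
    IsPullback.of_horiz_isIso_mono ⟨by simp⟩
  have sq3 := (sq1.paste_horiz sq2).flip
  rw [hd] at sq3
  have hq := h T (t ≫ pullback.mapDesc f f g) hT
  exact isQC_of_iso sq3.isoPullback.symm hq

end Groth.Agent.S3061
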