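import Groth.Statements.S3062
import Groth.Agent.Lib.Helper13.ToposQC6
import Groth.Agent.S3061

set_option autoImplicit false
open CategoryTheory CategoryTheory.Limits Opposite
universe u
open ToposFin

namespace Groth.Agent.S3062

/-- For a topos of sheaves of sets on a small site: if g : Y -> Z is quasi-separated and g o f is
quasi-compact, then f : X -> Y is quasi-compact; likewise with coherent in place of quasi-compact. -/
theorem result {C : Type u} [SmallCategory C] {J : GrothendieckTopology C} {X Y Z : ToposFin.Sh J}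
    (f : X ⟶ Y) (g : Y ⟶ Z) (hg : ToposFin.IsQSHom g) :
    (ToposFin.IsQCHom (f ≫ g) → ToposFin.IsQCHom f) ∧ (ToposFin.IsCohHom (f ≫ g) → ToposFin.IsCohHom f) := by
  refine ⟨fun h => Groth.Agent.Lib.Helper13.ToposQC.isQCHom_of_comp_of_isQSHom f g hg h, ?_⟩
  rintro ⟨h1, h2⟩
  exact ⟨Groth.Agent.Lib.Helper13.ToposQC.isQCHom_of_comp_of_isQSHom f g hg h1,
    Groth.Agent.S3061.result f g h2⟩


end Groth.Agent.S3062
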