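import Groth.Statements.S3071
import Groth.Agent.Lib.Helper13.ToposQC12

set_option autoImplicit false
open CategoryTheory CategoryTheory.Limits Opposite
universe u
open ToposFin

namespace Groth.Agent.S3071

/-- Implication (ii bis) => (i bis), for a topos of sheaves of sets on a small site: suppose given a
generating family of coherent objects G_a such that every product G_a x G_b is quasi-separated. Then
for every morphism f : X -> Y with X quasi-separated, f is quasi-separated. -/
theorem result {C : Type u} [SmallCategory C] {J : GrothendieckTopology C} {α : Type u} (G : α → ToposFin.Sh J)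
    (hG : ∀ a, ToposFin.IsCoherent (G a))
    (hgen : ∀ X : ToposFin.Sh J, ∃ (ι : Type u) (a : ι → α) (π : ∀ i, G (a i) ⟶ X), Epi (Sigma.desc π))
    (hprod : ∀ a b, ToposFin.IsQS (G a ⨯ G b)) {X Y : ToposFin.Sh J} (f : X ⟶ Y) (hX : ToposFin.IsQS X) :
    ToposFin.IsQSHom f := by
  have hE := Groth.Agent.Lib.Helper13.ToposQC.hasQCGenerators_of_generators G
    (fun a => (hG a).1) hgen
  obtain ⟨ι, a, π, hπ⟩ := hgen X
  refine Groth.Agent.Lib.Helper13.ToposQC.isQSHom_of_cover_with_qs_products hE f
    (fun i => G (a i)) π (Groth.Agent.Lib.Helper13.ToposQC.jls_of_epi π hπ)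
    (fun i => (hG (a i)).1) (fun i j => ?_) hX
  exact Groth.Agent.Lib.Helper13.ToposQC.isQS_of_mono
    (prod.lift (pullback.fst (π i ≫ f) (π j ≫ f)) (pullback.snd (π i ≫ f) (π j ≫ f)))
    (hprod (a i) (a j))


end Groth.Agent.S3071
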