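import Groth.Statements.S3076
import Groth.Agent.Lib.Helper13.ToposQC11

set_option autoImplicit false
open CategoryTheory CategoryTheory.Limits Opposite
universe u
open ToposFin

namespace Groth.Agent.S3076

/-- For a topos of sheaves of sets on a small site admitting a generating family of quasi-compact
objects: let g : Y -> Z and let (f_i : X_i -> Y) be a jointly epimorphic family of quasi-compact
morphisms. If every g o f_i is quasi-separated then g is quasi-separated; if moreover the family is
finite and every g o f_i is coherent, then g is coherent. -/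
theorem result {C : Type u} [SmallCategory C] {J : GrothendieckTopology C} (hE : ToposFin.HasQCGenerators J) {Y Z : ToposFin.Sh J}
    (g : Y ⟶ Z) :
    (∀ {ι : Type u} (X : ι → ToposFin.Sh J) (f : ∀ i, X i ⟶ Y), Epi (Sigma.desc f) →
      (∀ i, ToposFin.IsQCHom (f i)) → (∀ i, ToposFin.IsQSHom (f i ≫ g)) → ToposFin.IsQSHom g) ∧
    (∀ {n : ℕ} (X : Fin n → ToposFin.Sh J) (f : ∀ k, X k ⟶ Y), Epi (Sigma.desc f) →
      (∀ k, ToposFin.IsQCHom (f k)) → (∀ k, ToposFin.IsCohHom (f k ≫ g)) → ToposFin.IsCohHom g) := by
  constructor
  · intro ι X f hf hqc hqs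
    exact Groth.Agent.Lib.Helper13.ToposQC.isQSHom_of_cover_of_source hE g X f
      (Groth.Agent.Lib.Helper13.ToposQC.jls_of_epi f hf) hqc hqs
  · intro n X f hf hqc hcoh
    have hjls := Groth.Agent.Lib.Helper13.ToposQC.jls_of_epi f hf
    refine ⟨Groth.Agent.Lib.Helper13.ToposQC.isQCHom_of_finite_cover_of_source g X f hjls
      (fun k => (hcoh k).1), ?_⟩
    -- reindex the finite family by a type in the right universe
    have hjls' : Groth.Agent.Lib.Helper13.ToposQC.JLS (fun k : ULift.{u} (Fin n) => f k.down) := by
      intro U s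
      refine J.superset_covering ?_ (hjls U s)
      rintro V h ⟨k, a, ha⟩
      exact ⟨⟨k⟩, a, ha⟩
    exact Groth.Agent.Lib.Helper13.ToposQC.isQSHom_of_cover_of_source hE g
      (fun k : ULift.{u} (Fin n) => X k.down) (fun k => f k.down) hjls'
      (fun k => hqc k.down) (fun k => (hcoh k.down).2)


end Groth.Agent.S3076
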