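import Groth.Statements.S3082
import Groth.Agent.Lib.Helper13.ToposEps3
open Groth.Agent.Lib.Helper13.ToposQC

set_option autoImplicit false
universe u
open CategoryTheory Opposite
open SGA4

namespace Groth.Agent.S3082

/-- Let (C, J) be a small site and G a set of objects of C such that each object of C has a covering
family whose members all lie in G. Then the sheafifications of the presheaves represented by the
members of G form a detecting family in the category Sh(C, J) of set-valued sheaves on (C, J): any
morphism of sheaves that is bijective on sections over each member of G is an isomorphism. -/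
theorem result {C : Type u} [SmallCategory C] (J : GrothendieckTopology C) (G : Set C)
    (hG : ∀ X : C, ∃ (ι : Type u) (Y : ι → C) (f : ∀ i, Y i ⟶ X), Sieve.ofArrows Y f ∈ J X ∧ ∀ i, Y i ∈ G) :
    (ObjectProperty.ofObj fun X : G => (presheafToSheaf J (Type u)).obj (yoneda.obj (X : C))).IsDetecting := by
  intro X Y f hf
  -- bijectivity on sections over members of G
  have hbij : ∀ V ∈ G, Function.Bijective (f.hom.app (op V)) := by
    intro V hV
    have h := hf _ (ObjectProperty.ofObj_apply
      (fun X : G => (presheafToSheaf J (Type u)).obj (yoneda.obj (X : C))) ⟨V, hV⟩)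
    have key : ∀ s : X.obj.obj (op V), secMap J s ≫ f = secMap J (f.hom.app (op V) s) := by
      intro s
      apply eps_hom_ext
      rw [comp_app_apply, secMap_epsOf, secMap_epsOf, nat_apply]
    constructor
    · intro s t hst
      obtain ⟨h', -, huniq⟩ := h (secMap J (f.hom.app (op V) s))
      have e : secMap J s = secMap J t := (huniq _ (key s)).trans (huniq _ (hst ▸ key t)).symm
      have e1 := secMap_epsOf J s (𝟙 V)
      have e2 := secMap_epsOf J t (𝟙 V)
      rw [e] at e1
      have := e1.symm.trans e2
      simpa using this
    · intro y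
      obtain ⟨h', hh', -⟩ := h (secMap J y)
      refine ⟨h'.hom.app (op V) (epsOf J (𝟙 V)), ?_⟩
      rw [← comp_app_apply, hh', secMap_epsOf]
      simp
  -- mono
  have hinj : ∀ U : Cᵒᵖ, Function.Injective (f.hom.app U) := by
    intro U s t hst
    obtain ⟨ι, W, g, hcov, hW⟩ := hG U.unop
    have hsep := (Presieve.IsSheaf.isSeparated
      ((isSheaf_iff_isSheaf_of_type J X.obj).mp X.property)) _ hcov
    apply hsep.ext
    intro V' g' hg'
    obtain ⟨i, a, rfl⟩ := (Sieve.mem_ofArrows_iff W g g').mp hg'
    have e : X.obj.map (g i).op s = X.obj.map (g i).op t := by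
      apply (hbij _ (hW i)).1
      rw [nat_apply, nat_apply]
      exact congrArg _ hst
    rw [op_comp, X.obj.map_comp]
    exact congrArg (X.obj.map a.op) e
  have hmono : Mono f := by
    have : ∀ U : Cᵒᵖ, Mono (f.hom.app U) := fun U => (mono_iff_injective _).mpr (hinj U)
    have : Mono f.hom := NatTrans.mono_of_mono_app _
    exact Sheaf.Hom.mono_of_presheaf_mono J (Type u) f
  have hepi : Epi f := by
    have : Sheaf.IsLocallySurjective f := by
      constructor
      intro U y
      obtain ⟨ι, W, g, hcov, hW⟩ := hG U
      refine J.superset_covering ?_ hcov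
      intro V' g' hg'
      obtain ⟨i, a, rfl⟩ := (Sieve.mem_ofArrows_iff W g g').mp hg'
      obtain ⟨x, hx⟩ := (hbij _ (hW i)).2 (Y.obj.map (g i).op y)
      refine ⟨X.obj.map a.op x, ?_⟩
      rw [nat_apply, hx, op_comp, Y.obj.map_comp]
      rfl
    infer_instance
  exact isIso_of_mono_of_epi f

end Groth.Agent.S3082
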