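import Groth.Statements.S3085
import Groth.Agent.S3084
import Groth.Agent.Lib.Helper14.ClosedCompl
import Mathlib.CategoryTheory.Adjunction.Triple
import Mathlib.CategoryTheory.Comma.Over.Pullback

set_option autoImplicit false
universe u
open CategoryTheory
open SGA4

namespace Groth.Agent.S3085

open Groth.Agent.Lib.Helper14.ClosedCompl
open Limits

section General
universe v₁ v₂ u₁ u₂
variable {E : Type u₁} [Category.{v₁} E] {D : Type u₂} [Category.{v₂} D]

lemma isIso_map_lift (G : E ⥤ D) {P X Y Z : E} {fst : P ⟶ X} {snd : P ⟶ Y} {f : X ⟶ Z} {g : Y ⟶ Z}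
    [HasPullback f g] [PreservesLimit (cospan f g) G] (sq : CommSq fst snd f g)
    (hG : IsPullback (G.map fst) (G.map snd) (G.map f) (G.map g)) :
    IsIso (G.map (pullback.lift fst snd sq.w)) := by
  have hP := (IsPullback.of_hasPullback f g).map G
  have : G.map (pullback.lift fst snd sq.w) = (hG.isoIsPullback _ _ hP).hom := by
    apply hP.hom_ext
    · rw [← G.map_comp, pullback.lift_fst, IsPullback.isoIsPullback_hom_fst]
    · rw [← G.map_comp, pullback.lift_snd, IsPullback.isoIsPullback_hom_snd]
  rw [this]
  infer_instance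

lemma isIso_of_comp_eq_id {A B : E} (f : A ⟶ B) (g : B ⟶ A) [IsIso g] (h : f ≫ g = 𝟙 A) : IsIso f := by
  have : f = inv g := by
    rw [← Category.comp_id f, ← IsIso.hom_inv_id g, ← Category.assoc, h, Category.id_comp]
  rw [this]
  infer_instance

end General

section
variable {C : Type u} [SmallCategory C] {J : GrothendieckTopology C}
  (U : Sheaf J (Type u)) (hU : SGA4.IsOpen U) [(Over.star U).IsLeftAdjoint]
  (L : Sheaf J (Type u) ⥤ (SGA4.closedCompl U).FullSubcategory) (adj : L ⊣ (SGA4.closedCompl U).ι)

/-- `j_*` -/
noncomputable abbrev jl : Over U ⥤ Sheaf J (Type u) := (Over.star U).rightAdjoint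

/-- `j^* ⊣ j_*` -/
noncomputable abbrev adjJ : Over.star U ⊣ jl U := Adjunction.ofIsLeftAdjoint _

include hU in
lemma forget_full : (Over.forget U).Full := by
  constructor
  intro A B f
  have : Mono (terminal.from U) := hU
  refine ⟨Over.homMk f ?_, rfl⟩
  rw [← cancel_mono (terminal.from U)]
  exact Subsingleton.elim _ _

include hU in
lemma isIso_counitJ : IsIso (adjJ U).counit := by
  have := forget_full U hU
  let t : Adjunction.Triple (Over.forget U) (Over.star U) (jl U) := ⟨Over.forgetAdjStar U, adjJ U⟩
  exact t.isIso_unit_iff_isIso_counit.1 inferInstance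


/-- `j^*` of a closed object is terminal -/
noncomputable def isTerminalStar (Y : (SGA4.closedCompl U).FullSubcategory) :
    IsTerminal ((Over.star U).obj ((SGA4.closedCompl U).ι.obj Y)) := by
  have hY := (closedCompl_iff U _).1 Y.property
  refine IsTerminal.ofUniqueHom
    (fun A => ((Over.forgetAdjStar U).homEquiv A _) (A.hom ≫ hY.fromU)) ?_
  intro A m
  apply ((Over.forgetAdjStar U).homEquiv A _).symm.injective
  exact hY.hom_ext A.hom _ _

lemma isIso_star_ι {Y Y' : (SGA4.closedCompl U).FullSubcategory}
    (f : (SGA4.closedCompl U).ι.obj Y ⟶ (SGA4.closedCompl U).ι.obj Y') :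
    IsIso ((Over.star U).map f) :=
  isIso_of_isTerminal (isTerminalStar U Y) (isTerminalStar U Y') _

include adj in
lemma L_lex : PreservesFiniteLimits L :=
  preservesFiniteLimits_of_natIso (adj.leftAdjointUniq (adjL U)).symm

include hU in
lemma isIso_star_unit (X : Sheaf J (Type u)) : IsIso ((Over.star U).map ((adjJ U).unit.app X)) := by
  have := isIso_counitJ U hU
  exact isIso_of_comp_eq_id _ ((adjJ U).counit.app ((Over.star U).obj X))
    ((adjJ U).left_triangle_components X)

include adj in
lemma isIso_L_unit (X : Sheaf J (Type u)) : IsIso (L.map (adj.unit.app X)) :=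
  isIso_of_comp_eq_id _ (adj.counit.app (L.obj X)) (adj.left_triangle_components X)

include hU adj in
/-- the fracture square of `Y` -/
lemma fracture (Y : Sheaf J (Type u)) :
    IsPullback ((adjJ U).unit.app Y) (adj.unit.app Y)
      (adj.unit.app ((jl U).obj ((Over.star U).obj Y)))
      ((SGA4.closedCompl U).ι.map (L.map ((adjJ U).unit.app Y))) := by
  have sq : CommSq ((adjJ U).unit.app Y) (adj.unit.app Y)
      (adj.unit.app ((jl U).obj ((Over.star U).obj Y)))
      ((SGA4.closedCompl U).ι.map (L.map ((adjJ U).unit.app Y))) :=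
    ⟨(adj.unit.naturality ((adjJ U).unit.app Y))⟩
  have hL := L_lex U L adj
  have h1 : IsIso ((Over.star U).map (pullback.lift _ _ sq.w)) := by
    have : PreservesLimitsOfSize.{0, 0} (Over.star U) :=
      (Over.forgetAdjStar U).rightAdjoint_preservesLimits
    apply isIso_map_lift (Over.star U) sq
    have i1 := isIso_star_unit U hU Y
    have i2 : IsIso ((Over.star U).map ((SGA4.closedCompl U).ι.map (L.map ((adjJ U).unit.app Y)))) :=
      isIso_star_ι U _
    exact IsPullback.of_horiz_isIso ⟨by rw [← Functor.map_comp, ← Functor.map_comp, sq.w]⟩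
  have h2 : IsIso (L.map (pullback.lift _ _ sq.w)) := by
    apply isIso_map_lift L sq
    have i1 := isIso_L_unit U L adj Y
    have i2 := isIso_L_unit U L adj ((jl U).obj ((Over.star U).obj Y))
    exact IsPullback.of_vert_isIso ⟨by rw [← Functor.map_comp, ← Functor.map_comp, sq.w]⟩
  have h3 : IsIso (pullback.lift _ _ sq.w) :=
    (Groth.Agent.S3084.result J U hU L adj _).2 ⟨h1, h2⟩
  exact IsPullback.of_iso_pullback sq (asIso (pullback.lift _ _ sq.w)) (pullback.lift_fst _ _ _)
    (pullback.lift_snd _ _ _)


/-- the comparison functor to the glued category -/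
noncomputable def Φ : Sheaf J (Type u) ⥤
    Comma (𝟭 (SGA4.closedCompl U).FullSubcategory) (jl U ⋙ L) where
  obj X :=
    { left := L.obj X
      right := (Over.star U).obj X
      hom := L.map ((adjJ U).unit.app X) }
  map {X Y} f :=
    { left := L.map f
      right := (Over.star U).map f
      w := by
        dsimp
        rw [← L.map_comp, ← L.map_comp]
        congr 1
        exact (adjJ U).unit.naturality f }
  map_id X := by
    apply CommaMorphism.ext
    · exact L.map_id X
    · exact (Over.star U).map_id X
  map_comp f g := by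
    apply CommaMorphism.ext
    · exact L.map_comp f g
    · exact (Over.star U).map_comp f g

include hU adj in
lemma Φ_faithful : (Φ U L).Faithful := by
  constructor
  intro X Y f g hfg
  have h1 : L.map f = L.map g := congrArg CommaMorphism.left hfg
  have h2 : (Over.star U).map f = (Over.star U).map g := congrArg CommaMorphism.right hfg
  apply (fracture U hU L adj Y).hom_ext
  · have n1 := (adjJ U).unit.naturality f
    have n2 := (adjJ U).unit.naturality g
    simp only [Functor.id_obj, Functor.id_map, Functor.comp_obj, Functor.comp_map] at n1 n2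
    rw [n1, n2, h2]
  · have n1 := adj.unit.naturality f
    have n2 := adj.unit.naturality g
    simp only [Functor.id_obj, Functor.id_map, Functor.comp_obj, Functor.comp_map] at n1 n2
    rw [n1, n2, h1]

include hU adj in
lemma Φ_full : (Φ U L).Full := by
  constructor
  intro X Y m
  obtain ⟨ml, mr, hw⟩ : ∃ (ml : L.obj X ⟶ L.obj Y) (mr : (Over.star U).obj X ⟶ (Over.star U).obj Y),
      ml = m.left ∧ mr = m.right ∧ ml ≫ L.map ((adjJ U).unit.app Y) =
      L.map ((adjJ U).unit.app X) ≫ L.map ((jl U).map mr) := ⟨m.left, m.right, rfl, rfl, m.w⟩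
  obtain ⟨hml, hmr, hw⟩ := hw
  have hcomm : ((adjJ U).unit.app X ≫ (jl U).map mr) ≫
        adj.unit.app ((jl U).obj ((Over.star U).obj Y)) =
      (adj.unit.app X ≫ (SGA4.closedCompl U).ι.map ml) ≫
        (SGA4.closedCompl U).ι.map (L.map ((adjJ U).unit.app Y)) := by
    have n1 := adj.unit.naturality ((adjJ U).unit.app X ≫ (jl U).map mr)
    simp only [Functor.id_obj, Functor.id_map, Functor.comp_obj, Functor.comp_map] at n1
    rw [n1, Category.assoc, ← Functor.map_comp, hw, Functor.map_comp]
  let f : X ⟶ Y := (fracture U hU L adj Y).lift _ _ hcomm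
  have hf1 : f ≫ (adjJ U).unit.app Y = (adjJ U).unit.app X ≫ (jl U).map mr :=
    (fracture U hU L adj Y).lift_fst _ _ hcomm
  have hf2 : f ≫ adj.unit.app Y = adj.unit.app X ≫ (SGA4.closedCompl U).ι.map ml :=
    (fracture U hU L adj Y).lift_snd _ _ hcomm
  refine ⟨f, ?_⟩
  apply CommaMorphism.ext
  · show L.map f = m.left
    rw [← hml]
    apply (adj.homEquiv _ _).injective
    rw [adj.homEquiv_unit, adj.homEquiv_unit, ← hf2]
    exact (adj.unit.naturality f).symm
  · show (Over.star U).map f = m.right
    rw [← hmr]
    apply ((adjJ U).homEquiv _ _).injective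
    rw [(adjJ U).homEquiv_unit, (adjJ U).homEquiv_unit, ← hf1]
    exact ((adjJ U).unit.naturality f).symm

include hU adj in
lemma Φ_essSurj : (Φ U L).EssSurj := by
  constructor
  intro T
  obtain ⟨Y, X', φ, hT⟩ : ∃ (Y : (SGA4.closedCompl U).FullSubcategory) (X' : Over U)
      (φ : Y ⟶ L.obj ((jl U).obj X')), T = ⟨Y, X', φ⟩ := ⟨T.left, T.right, T.hom, rfl⟩
  subst hT
  have hcJ := isIso_counitJ U hU
  have hL := L_lex U L adj
  -- the glued object
  let f := adj.unit.app ((jl U).obj X')
  let g := (SGA4.closedCompl U).ι.map φ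
  let X : Sheaf J (Type u) := pullback f g
  have hX : IsPullback (pullback.fst f g) (pullback.snd f g) f g := IsPullback.of_hasPullback f g
  -- `L` of the square
  have hXL := hX.map L
  have i1 : IsIso (L.map f) := isIso_L_unit U L adj _
  have i2 : IsIso (L.map (pullback.snd f g)) := hXL.isIso_snd_of_isIso
  -- `j^*` of the square
  have : PreservesLimitsOfSize.{0, 0} (Over.star U) :=
    (Over.forgetAdjStar U).rightAdjoint_preservesLimits
  have hXJ := hX.map (Over.star U)
  have i3 : IsIso ((Over.star U).map g) := isIso_star_ι U φ.hom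
  have i4 : IsIso ((Over.star U).map (pullback.fst f g)) := hXJ.isIso_fst_of_isIso
  refine ⟨X, ⟨Comma.isoMk ((@asIso _ _ _ _ _ i2) ≪≫ asIso (adj.counit.app Y))
    ((@asIso _ _ _ _ _ i4) ≪≫ asIso ((adjJ U).counit.app X')) ?_⟩⟩
  symm
  show L.map ((adjJ U).unit.app X) ≫ L.map ((jl U).map ((Over.star U).map (pullback.fst f g) ≫
      (adjJ U).counit.app X')) = (L.map (pullback.snd f g) ≫ adj.counit.app Y) ≫ φ
  have e1 : (adjJ U).unit.app X ≫ (jl U).map ((Over.star U).map (pullback.fst f g) ≫
      (adjJ U).counit.app X') = pullback.fst f g := by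
    rw [Functor.map_comp, ← Category.assoc]
    have n := (adjJ U).unit.naturality (pullback.fst f g)
    simp only [Functor.id_obj, Functor.id_map, Functor.comp_obj, Functor.comp_map] at n
    rw [← n, Category.assoc, (adjJ U).right_triangle_components X', Category.comp_id]
  rw [← L.map_comp, e1, Category.assoc]
  have n2 := adj.counit.naturality φ
  simp only [Functor.id_obj, Functor.id_map, Functor.comp_obj, Functor.comp_map] at n2
  rw [← n2, ← Category.assoc, ← L.map_comp]
  have e2 : pullback.snd f g ≫ (SGA4.closedCompl U).ι.map φ = pullback.fst f g ≫ f :=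
    pullback.condition.symm
  rw [e2, L.map_comp, Category.assoc]
  have t := adj.left_triangle_components ((jl U).obj X')
  rw [t]
  exact (Category.comp_id _).symm

end

open CategoryTheory.Limits in


open CategoryTheory.Limits in
/-- Gluing a topos from an open subtopos and its closed complement, for sheaves of sets on a small site:
let E be the category of sheaves of sets on a small site, U an open of E (a subobject of the final
object) with restriction functor j^* : E → E/U, X ↦ U × X; assume j^* has a right adjoint j_* (true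
in any topos; taken as an instance hypothesis), and let i^* be a left adjoint of the inclusion of
the closed complement F of U. With ρ = i^* ∘ j_* : E/U → F, the category E is equivalent to the
glued category of triples (Y in F, X in E/U, Y → ρX). (Only the existence of an equivalence is
asserted; the published statement gives it explicitly as X ↦ (i^*X, j^*X, i^*(X → j_*j^*X)).) -/
theorem result {C : Type u} [SmallCategory C] (J : GrothendieckTopology C)
    (U : Sheaf J (Type u)) (hU : SGA4.IsOpen U) [(Over.star U).IsLeftAdjoint]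
    (L : Sheaf J (Type u) ⥤ (SGA4.closedCompl U).FullSubcategory) (adj : L ⊣ (SGA4.closedCompl U).ι) :
    Nonempty (Sheaf J (Type u) ≌
      Comma (𝟭 (SGA4.closedCompl U).FullSubcategory) ((Over.star U).rightAdjoint ⋙ L)) := by
  have h1 := Φ_faithful U hU L adj
  have h2 := Φ_full U hU L adj
  have h3 := Φ_essSurj U hU L adj
  have : (Φ U L).IsEquivalence := {}
  exact ⟨(Φ U L).asEquivalence⟩

end Groth.Agent.S3085
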