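import Groth.Statements.S3104
-- import your own Groth.Agent.* helpers here
import Groth.Agent.Lib.Helper23.NormalStalk

set_option autoImplicit false
universe u
open CategoryTheory CategoryTheory.Limits AlgebraicGeometry Opposite
open EtPBC

namespace Groth.Agent.S3104

/-- Let X be a normal scheme, j : U → X a quasi-compact open immersion with dense image, and M an
abelian group. Then the natural map from the constant sheaf M_X on X_ét to j_* j^* M_X (the unit of
the adjunction) is an isomorphism. The published statement is more general, allowing X geometrically
unibranch and sheaves of sets; stated here for X normal, j an open immersion and constant abelian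
sheaves. -/
theorem result (X U : Scheme.{u}) (hX : Pi1.IsNormalScheme X)
    (j : U ⟶ X) [IsOpenImmersion j] [QuasiCompact j] (hj : Dense (Set.range j)) [EtCoh.BCCont j]
    (M : Type) [AddCommGroup M] :
    IsIso ((EtCoh.pullPushAdj j).unit.app (EtCoh.const X M)) := by
  open Groth.Agent.Lib.Helper23 in
  apply LCPull.isIso_unit_const M j
  intro W
  haveI : Etale W.hom := W.prop
  have hr : Set.range (pullback.fst W.hom j) = W.hom ⁻¹' Set.range j :=
    Scheme.Pullback.range_fst _ _
  apply LCExtend.lcMap_bijective_of_sep M (pullback.fst W.hom j)
  · change Dense (Set.range (pullback.fst W.hom j))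
    rw [hr]
    exact Dense.preimage hj W.hom.isOpenMap
  · intro b
    obtain ⟨N, hN, hbN, -⟩ := exists_isAffineOpen_mem_and_subset (x := b) (U := ⊤) trivial
    haveI := NormalStalk.isDomain_stalk_of_etale hX W.hom b
    exact ⟨N, N.isOpen, hbN,
      QuasiCompact.isCompact_preimage (f := pullback.fst W.hom j) _ N.isOpen hN.isCompact,
      LCExtend.sepAt_of_isDomain_stalk b hN hbN⟩


end Groth.Agent.S3104
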