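import Groth.Statements.S3114
-- import your own Groth.Agent.* helpers here
import Groth.Agent.Lib.Helper23.SpecIso2
import Groth.Agent.S3115

set_option autoImplicit false
universe u
open CategoryTheory CategoryTheory.Limits AlgebraicGeometry Opposite
open EtPBC

namespace Groth.Agent.S3114

/-- Abelian case on a locally noetherian scheme (locally noetherian schemes are 'locally arcwise
connected' in the sense of the source): let F be an abelian sheaf on the small etale site of X all
of whose geometric stalks are finite. Then F is finite locally constant if and only if for every two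
geometric points ξ, ξ' of X and every morphism of the corresponding points of the etale site from ξ'
to ξ (a specialization arrow), the induced specialization map on stalks F_ξ -> F_ξ' is an
isomorphism. -/
theorem result (X : Scheme.{u}) [IsLocallyNoetherian X] (F : EtCoh.Ab X)
    (hfin : ∀ (Ω : Type u) [Field Ω] [IsSepClosed Ω] (ξ : Spec (CommRingCat.of Ω) ⟶ X),
      Finite ((EtCoh.stalk ξ).obj F)) :
    EtCoh.IsFiniteLocallyConstant F ↔
      ∀ (Ω Ω' : Type u) [Field Ω] [IsSepClosed Ω] [Field Ω'] [IsSepClosed Ω']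
        (ξ : Spec (CommRingCat.of Ω) ⟶ X) (ξ' : Spec (CommRingCat.of Ω') ⟶ X)
        (φ : Scheme.pointSmallEtale ξ' ⟶ Scheme.pointSmallEtale ξ),
        IsIso ((GrothendieckTopology.Point.Hom.sheafFiber (A := AddCommGrpCat.{u + 1}) φ).app F) := by
  open Groth.Agent.Lib.Helper23 Groth.Agent.Lib.Helper23.FlcLoc in
  constructor
  · intro hflc Ω Ω' _ _ _ _ ξ ξ' φ
    obtain ⟨U, u, hu, hT⟩ := (flc_iff_locTriv F).1 hflc (ξ default)
    obtain ⟨y⟩ := SpecIso2.exists_fiber_of_mem ξ U u hu
    exact SpecIso2.isIso_sp_of_triv F U hT ξ ξ' φ y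
  · intro hiso
    have hF : EtPBC.IsConstructible F :=
      Groth.Agent.S3115.result X F hfin (fun Ω Ω' _ _ _ _ ξ ξ' φ => by
        haveI := hiso Ω Ω' ξ ξ' φ
        infer_instance)
    rw [flc_iff_locTriv]
    intro x
    obtain ⟨U', u', hu', hT⟩ := SpecIso.exists_triv_of_sp_iso F hF (FlcConn.geomPt x)
      (hfin _ _) (fun Ω' _ _ ξ' φ => hiso _ Ω' (FlcConn.geomPt x) ξ' φ)
    exact ⟨U', u', hu'.trans (FlcConn.geomPt_default x), hT⟩

end Groth.Agent.S3114
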