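import Groth.Statements.S3120
-- import your own Groth.Agent.* helpers here
import Groth.Agent.S0652
import Groth.Agent.S0647
import Groth.Prelude.Def_EtCore

set_option autoImplicit false
universe u
open CategoryTheory CategoryTheory.Limits AlgebraicGeometry Opposite
open EtDual

namespace Groth.Agent.S3120

/-- Let f : X → Y be a morphism of schemes, j : V → Y an open immersion, and U = X ×_Y V with
projections f' : U → V and j' : U → X (an open immersion). Then for every abelian sheaf G on the
small étale site of V, the sheaves f^*(j_!G) and j'_!(f'^*G) on X are isomorphic. (The published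
statement gives a unique isomorphism compatible with the base change map for j_*; only the existence
of an isomorphism is stated here. The prelude's instances for the inverse image functors along f and
f' are carried as binders.) -/
theorem result {X Y V : Scheme.{u}} (f : X ⟶ Y) (j : V ⟶ Y) [IsOpenImmersion j]
    [EtCoh.BCCont f] [EtCoh.BCCont (pullback.snd f j)] (G : EtCoh.Ab V) :
    Nonempty ((EtCoh.pull f).obj ((EtShriek.extZero j).obj G) ≅
      (EtShriek.extZero (pullback.fst f j)).obj ((EtCoh.pull (pullback.snd f j)).obj G)) := by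
  let j' := pullback.fst f j
  let f' := pullback.snd f j
  apply Groth.Agent.S0652.result j' ((EtCoh.pull f').obj G)
    ((EtCoh.pull f).obj ((EtShriek.extZero j).obj G))
  · haveI : IsIso ((EtShriek.extZeroAdj j).unit.app G) := (Groth.Agent.S0651.result j G).2
    let K := (EtShriek.extZero j).obj G
    let e1 : (EtShriek.restrAlong j').obj ((EtCoh.pull f).obj K) ≅
        (EtCoh.pull j').obj ((EtCoh.pull f).obj K) :=
      ((Groth.Agent.Lib.Helper23.EtRestr.pullIsoRestr j').app _).symm
    let e2 : (EtCoh.pull j').obj ((EtCoh.pull f).obj K) ≅ (EtCoh.pull (j' ≫ f)).obj K :=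
      ((EtCore.pullComp j' f).app K).symm
    let e3 : (EtCoh.pull (j' ≫ f)).obj K ≅ (EtCoh.pull (f' ≫ j)).obj K :=
      (EtCore.pullCongr (pullback.condition (f := f) (g := j))).app K
    let e4 : (EtCoh.pull (f' ≫ j)).obj K ≅ (EtCoh.pull f').obj ((EtCoh.pull j).obj K) :=
      (EtCore.pullComp f' j).app K
    let e5 : (EtCoh.pull j).obj K ≅ G :=
      (Groth.Agent.Lib.Helper23.EtRestr.pullIsoRestr j).app K ≪≫
        (asIso ((EtShriek.extZeroAdj j).unit.app G)).symm
    exact ⟨e1 ≪≫ e2 ≪≫ e3 ≪≫ e4 ≪≫ (EtCoh.pull f').mapIso e5⟩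
  · intro Ω _ _ ξ hξ
    obtain ⟨e1⟩ := Groth.Agent.S0100.result f ((EtShriek.extZero j).obj G) ξ
    obtain ⟨e2⟩ := Groth.Agent.S0647.result j G (ξ ≫ f)
    refine IsZero.of_iso ?_ (e1 ≪≫ e2)
    haveI : IsEmpty {u : Spec (CommRingCat.of Ω) ⟶ V // u ≫ j = ξ ≫ f} := by
      refine ⟨fun ⟨u, hu⟩ => ?_⟩
      let l : Spec (CommRingCat.of Ω) ⟶ pullback f j := pullback.lift ξ u hu.symm
      have hl : l ≫ j' = ξ := pullback.lift_fst _ _ _
      have hx : ξ.base default ∈ Set.range j'.base := by
        refine ⟨l.base default, ?_⟩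
        rw [← hl]
        rfl
      exact hξ ⟨default, rfl⟩ hx
    rw [IsZero.iff_id_eq_zero]
    apply Sigma.hom_ext
    intro u
    exact isEmptyElim u

end Groth.Agent.S3120
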