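import Groth.Statements.S3134
import Mathlib.LinearAlgebra.Matrix.Adjugate
-- import your own Groth.Agent.* helpers here

set_option autoImplicit false
open Polynomial
open SGA4h

namespace Groth.Agent.S3134

section helpers
open Matrix

theorem derivative_det_eq {R : Type} [CommRing R] {m : Type} [Fintype m] [DecidableEq m]
    (B : Matrix m m R[X]) :
    derivative B.det = ∑ i, (B.updateCol i (fun k => derivative (B k i))).det := by
  simp only [Matrix.det_apply, map_sum]
  rw [Finset.sum_comm]
  refine Finset.sum_congr rfl (fun σ _ => ?_)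
  rw [Polynomial.derivative_smul, Polynomial.derivative_prod_finset, Finset.smul_sum]
  refine Finset.sum_congr rfl (fun i _ => ?_)
  congr 1
  rw [← Finset.prod_erase_mul Finset.univ _ (Finset.mem_univ i)]
  rw [Matrix.updateCol_self]
  congr 1
  refine Finset.prod_congr rfl (fun j hj => ?_)
  rw [Matrix.updateCol_ne (Finset.ne_of_mem_erase hj)]

theorem derivative_det_eq_trace {R : Type} [CommRing R] {m : Type} [Fintype m] [DecidableEq m]
    (B : Matrix m m R[X]) :
    derivative B.det = (B.adjugate * B.map (derivative)).trace := by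
  rw [derivative_det_eq]
  simp only [Matrix.trace, Matrix.diag, Matrix.mul_apply]
  refine Finset.sum_congr rfl (fun i _ => ?_)
  rw [← Matrix.cramer_apply, Matrix.cramer_eq_adjugate_mulVec]
  rfl

variable {R : Type} [CommRing R] {m : Type} [Fintype m] [DecidableEq m] (A : Matrix m m R)

/-- step 1 : polynomial identity -/
theorem step1 :
    -(X * derivative A.charpolyRev) =
      (1 - (X : R[X]) • A.map C).adjugate.trace - (Fintype.card m : R[X]) * A.charpolyRev := by
  set B : Matrix m m R[X] := 1 - (X : R[X]) • A.map C with hB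
  have hder : B.map derivative = -(A.map C) := by
    ext i j
    simp only [hB, Matrix.map_apply, Matrix.sub_apply, Matrix.smul_apply, Matrix.neg_apply,
      smul_eq_mul, map_sub, derivative_mul, derivative_X, derivative_C, one_mul, mul_zero, add_zero]
    by_cases hij : i = j
    · subst hij; simp
    · simp [hij]
  have h1 : A.charpolyRev = B.det := rfl
  rw [h1, derivative_det_eq_trace, hder]
  have h2 : B.adjugate * B = B.det • (1 : Matrix m m R[X]) := Matrix.adjugate_mul B
  have h3 : (X : R[X]) • A.map C = 1 - B := by rw [hB]; abel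
  have h4 : -(X * (B.adjugate * -(A.map C)).trace) = (B.adjugate * ((X : R[X]) • A.map C)).trace := by
    rw [Matrix.mul_neg, Matrix.trace_neg, Matrix.mul_smul, Matrix.trace_smul, smul_eq_mul]
    ring
  rw [h4, h3, mul_sub, mul_one, h2, Matrix.trace_sub, Matrix.trace_smul, Matrix.trace_one,
    smul_eq_mul, mul_comm]


/-- the inverse matrix over power series -/
noncomputable def Cinv : Matrix m m (PowerSeries R) :=
  Matrix.of fun i j => PowerSeries.mk fun n => (A ^ n) i j

theorem map_B : (1 - (X : R[X]) • A.map C).map (Polynomial.coeToPowerSeries.ringHom) =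
    1 - (PowerSeries.X : PowerSeries R) • A.map (PowerSeries.C) := by
  ext i j n
  by_cases hij : i = j
  · subst hij; simp; ring
  · simp [hij]; ring

theorem B_mul_Cinv :
    (1 - (PowerSeries.X : PowerSeries R) • A.map (PowerSeries.C)) * Cinv A = 1 := by
  rw [Matrix.sub_mul, Matrix.one_mul, Matrix.smul_mul]
  ext i j n
  rw [Matrix.sub_apply, Matrix.smul_apply, smul_eq_mul, map_sub]
  cases n with
  | zero =>
    simp only [Cinv, Matrix.of_apply, PowerSeries.coeff_mk, pow_zero, PowerSeries.coeff_zero_X_mul,
      sub_zero]
    by_cases hij : i = j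
    · subst hij; simp
    · simp [hij]
  | succ n =>
    rw [PowerSeries.coeff_succ_X_mul, Matrix.mul_apply, map_sum]
    have : ∀ k, PowerSeries.coeff n ((A.map PowerSeries.C) i k * Cinv A k j) = A i k * (A ^ n) k j := by
      intro k
      simp [Cinv, PowerSeries.coeff_C_mul]
    simp only [this]
    rw [← Matrix.mul_apply, ← pow_succ']
    simp only [Cinv, Matrix.of_apply, PowerSeries.coeff_mk, sub_self]
    by_cases hij : i = j
    · subst hij; simp
    · simp [hij]

theorem trace_Cinv : (Cinv A).trace = PowerSeries.mk (fun n => (A ^ n).trace) := by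
  ext n
  simp [Matrix.trace, Cinv, map_sum]

theorem adjugate_eq :
    (1 - (PowerSeries.X : PowerSeries R) • A.map (PowerSeries.C)).adjugate =
      (1 - (PowerSeries.X : PowerSeries R) • A.map (PowerSeries.C)).det • Cinv A := by
  set B := (1 - (PowerSeries.X : PowerSeries R) • A.map (PowerSeries.C)) with hB
  calc B.adjugate = B.adjugate * (B * Cinv A) := by rw [B_mul_Cinv, Matrix.mul_one]
    _ = (B.adjugate * B) * Cinv A := by rw [Matrix.mul_assoc]
    _ = B.det • Cinv A := by rw [Matrix.adjugate_mul, Matrix.smul_mul, Matrix.one_mul]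


end helpers

/-- For a square matrix A over a commutative ring, with P(T) = det(1 − A·T), one has −T·P′(T) = P(T) ·
Σ_{n ≥ 1} Tr(Aⁿ) Tⁿ as formal power series (equivalently T d/dT log P(T)⁻¹ = Σ_{n≥1} Tr(Aⁿ) Tⁿ). -/
theorem result (R : Type) [CommRing R] (m : Type) [Fintype m] [DecidableEq m]
    (A : Matrix m m R) :
    ((-(X * Polynomial.derivative A.charpolyRev) : R[X]) : PowerSeries R) =
      (A.charpolyRev : PowerSeries R) * PowerSeries.mk (fun n => if n = 0 then 0 else (A ^ n).trace) := by
  rw [step1]
  have hφ : ∀ p : R[X], (p : PowerSeries R) = Polynomial.coeToPowerSeries.ringHom p := fun _ => rfl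
  rw [hφ, hφ, map_sub, map_mul, map_natCast]
  have h1 : Polynomial.coeToPowerSeries.ringHom ((1 - (X : R[X]) • A.map C).adjugate.trace) =
      ((1 - (X : R[X]) • A.map C).map Polynomial.coeToPowerSeries.ringHom).adjugate.trace := by
    have h := RingHom.map_adjugate Polynomial.coeToPowerSeries.ringHom (1 - (X : R[X]) • A.map C)
    simp only [RingHom.mapMatrix_apply] at h
    rw [← h]
    simp [Matrix.trace, map_sum]
  have h2 : Polynomial.coeToPowerSeries.ringHom A.charpolyRev =
      ((1 - (X : R[X]) • A.map C).map Polynomial.coeToPowerSeries.ringHom).det := by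
    rw [← RingHom.mapMatrix_apply, ← RingHom.map_det]; rfl
  rw [h1, h2, map_B, adjugate_eq, Matrix.trace_smul, trace_Cinv, smul_eq_mul, mul_comm (Fintype.card m : PowerSeries R),
    ← mul_sub]
  congr 1
  ext n
  cases n with
  | zero => simp [Matrix.trace_one]
  | succ n =>
    have : (Fintype.card m : PowerSeries R) = PowerSeries.C (Fintype.card m : R) :=
      (map_natCast (PowerSeries.C) _).symm
    rw [map_sub, PowerSeries.coeff_mk, PowerSeries.coeff_mk, this, PowerSeries.coeff_C]
    simp

end Groth.Agent.S3134
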