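import Groth.Statements.S3140
import Mathlib
import Groth.Agent.S0611

set_option autoImplicit false
universe u
open RingTheory.Sequence
open SGA4h

namespace Groth.Agent.S3140

section helpers
open RingTheory.Sequence IsLocalRing Groth.Agent.S0611

variable {A : Type u} [CommRing A] [IsLocalRing A]

lemma exists_unit_coeff' (J : Ideal A) :
    ∀ (as : List A) (x : A), x ∈ J ⊔ Ideal.ofList as →
      x ∉ J ⊔ maximalIdeal A • (J ⊔ Ideal.ofList as) →
      ∃ (a : A) (as' : List A) (c y : A), as.Perm (a :: as') ∧ IsUnit c ∧
        y ∈ J ⊔ Ideal.ofList as' ∧ x = c * a + y := by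
  intro as
  induction as with
  | nil =>
    intro x hx hnx
    exfalso
    rw [Ideal.ofList_nil, sup_bot_eq] at hx
    exact hnx (Ideal.mem_sup_left hx)
  | cons a as ih =>
    intro x hx hnx
    rw [Ideal.ofList_cons, Submodule.mem_sup] at hx
    obtain ⟨j, hj, w, hw, rfl⟩ := hx
    rw [Submodule.mem_sup] at hw
    obtain ⟨u, hu, y, hy, rfl⟩ := hw
    rw [Ideal.mem_span_singleton'] at hu
    obtain ⟨c, rfl⟩ := hu
    have hle : J ⊔ Ideal.ofList as ≤ J ⊔ Ideal.ofList (a :: as) := by
      rw [Ideal.ofList_cons]
      exact sup_le_sup_left le_sup_right _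
    by_cases hc : IsUnit c
    · refine ⟨a, as, c, j + y, List.Perm.refl _, hc, ?_, by ring⟩
      exact add_mem (Ideal.mem_sup_left hj) (Ideal.mem_sup_right hy)
    · have hcm : c ∈ maximalIdeal A := (mem_maximalIdeal c).mpr hc
      have ha : a ∈ J ⊔ Ideal.ofList (a :: as) := by
        rw [Ideal.ofList_cons]
        exact Ideal.mem_sup_right (Ideal.mem_sup_left (Ideal.mem_span_singleton_self a))
      have h1 : c * a ∈ maximalIdeal A • (J ⊔ Ideal.ofList (a :: as)) := by
        rw [smul_eq_mul]
        exact Ideal.mul_mem_mul hcm ha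
      have hz : j + y ∈ J ⊔ Ideal.ofList as :=
        add_mem (Ideal.mem_sup_left hj) (Ideal.mem_sup_right hy)
      have hz' : j + y ∉ J ⊔ maximalIdeal A • (J ⊔ Ideal.ofList as) := fun h => by
        apply hnx
        have h2 : j + y ∈ J ⊔ maximalIdeal A • (J ⊔ Ideal.ofList (a :: as)) := by
          have hle2 : J ⊔ maximalIdeal A • (J ⊔ Ideal.ofList as) ≤
              J ⊔ maximalIdeal A • (J ⊔ Ideal.ofList (a :: as)) := by
            refine sup_le_sup_left ?_ _
            rw [smul_eq_mul, smul_eq_mul]
            exact Ideal.mul_mono_right hle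
          exact hle2 h
        have : j + (c * a + y) = (j + y) + c * a := by ring
        rw [this]
        exact add_mem h2 (Ideal.mem_sup_right h1)
      obtain ⟨a', as'', c', y', hp, hc', hy'', hzz⟩ := ih (j + y) hz hz'
      refine ⟨a', a :: as'', c', c * a + y', ?_, hc', ?_, ?_⟩
      · exact (List.Perm.cons a hp).trans (List.Perm.swap a' a as'')
      · rw [Ideal.ofList_cons]
        refine add_mem (Ideal.mem_sup_right
          (Ideal.mem_sup_left (Ideal.mem_span_singleton'.2 ⟨c, rfl⟩))) ?_
        have hle3 : J ⊔ Ideal.ofList as'' ≤ J ⊔ (Ideal.span {a} ⊔ Ideal.ofList as'') :=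
          sup_le_sup_left le_sup_right _
        exact hle3 hy''
      · have : j + (c * a + y) = (j + y) + c * a := by ring
        rw [this, hzz]
        ring

variable [IsNoetherianRing A]

lemma isRegular_concat_of_unit {a x c y : A} {as : List A}
    (h1 : IsRegular A (as ++ [a])) (hc : IsUnit c) (hy : y ∈ Ideal.ofList as)
    (hx : x = c * a + y) :
    IsRegular A (as ++ [x]) := by
  have h : IsRegular A (a :: as) :=
    IsLocalRing.isRegular_of_perm h1 (List.perm_append_singleton a as)
  have h2 := isRegular_cons_of_unit h hc hy hx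
  exact IsLocalRing.isRegular_of_perm h2 (List.perm_append_singleton x as).symm

omit [IsLocalRing A] [IsNoetherianRing A] in
lemma ofList_concat_of_unit {a x c y : A} {as : List A}
    (hc : IsUnit c) (hy : y ∈ Ideal.ofList as) (hx : x = c * a + y) :
    Ideal.ofList (as ++ [x]) = Ideal.ofList (as ++ [a]) := by
  rw [ofList_perm (List.perm_append_singleton x as), ofList_perm (List.perm_append_singleton a as)]
  exact ofList_cons_of_unit hc hy hx

/-- regular and generating `I` -/
def P (I : Ideal A) (w : List A) : Prop := IsRegular A w ∧ Ideal.span {x | x ∈ w} = I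

/-- elementary step -/
def R (w w' : List A) : Prop :=
  w.Perm w' ∨ (w.length = w'.length ∧ w.dropLast = w'.dropLast)

/-- elementary step landing in a regular sequence generating `I` -/
def St (I : Ideal A) (w w' : List A) : Prop := P I w' ∧ R w w'

omit [IsLocalRing A] [IsNoetherianRing A] in
lemma P.perm {I : Ideal A} {w w' : List A} [IsLocalRing A] [IsNoetherianRing A]
    (h : P I w) (hp : w.Perm w') : P I w' :=
  ⟨IsLocalRing.isRegular_of_perm h.1 hp, (ofList_perm hp.symm).trans h.2⟩

lemma not_mem_of_P {I : Ideal A} {p u v : List A} {x : A}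
    (hu : P I (p ++ u)) (hv : P I (p ++ x :: v)) (hlen : u.length = v.length + 1) :
    x ∉ Ideal.ofList p ⊔ maximalIdeal A • (Ideal.ofList p ⊔ Ideal.ofList u) := by
  intro hx
  have hI1 : Ideal.ofList p ⊔ Ideal.ofList u = I := by
    rw [← Ideal.ofList_append]; exact hu.2
  have hI2 : Ideal.ofList p ⊔ (Ideal.span {x} ⊔ Ideal.ofList v) = I := by
    rw [← Ideal.ofList_cons, ← Ideal.ofList_append]; exact hv.2
  rw [hI1] at hx
  have hle : I ≤ Ideal.ofList (p ++ v) := by
    apply Submodule.le_of_le_smul_of_le_jacobson_bot (I := maximalIdeal A)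
      (IsNoetherian.noetherian _) (IsLocalRing.maximalIdeal_le_jacobson _)
    conv_lhs => rw [← hI2]
    rw [Ideal.ofList_append]
    refine sup_le (le_sup_of_le_left le_sup_left) (sup_le ?_ (le_sup_of_le_left le_sup_right))
    rw [Ideal.span_singleton_le_iff_mem]
    have hle2 : Ideal.ofList p ⊔ maximalIdeal A • I ≤
        Ideal.ofList p ⊔ Ideal.ofList v ⊔ maximalIdeal A • I :=
      sup_le_sup_right le_sup_left _
    exact hle2 hx
  have hge : Ideal.ofList (p ++ v) ≤ I := by
    rw [← hI2, Ideal.ofList_append]
    exact sup_le_sup_left le_sup_right _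
  have heq : Ideal.ofList (p ++ u) = Ideal.ofList (p ++ v) :=
    hu.2.trans (le_antisymm hle hge)
  have := (main (p ++ u).length A (p ++ u) (p ++ v) rfl
    (by simp only [List.length_append]; omega) hu.1 heq).1
  simp only [List.length_append] at this
  omega

lemma conn_core (I : Ideal A) (m : ℕ) : ∀ (p u v : List A), u.length = m → v.length = m →
    P I (p ++ u) → P I (p ++ v) → Relation.ReflTransGen (St I) (p ++ u) (p ++ v) := by
  induction m with
  | zero =>
    intro p u v hu hv _ _
    have h1 : u = [] := List.eq_nil_of_length_eq_zero hu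
    have h2 : v = [] := List.eq_nil_of_length_eq_zero hv
    subst h1 h2
    exact Relation.ReflTransGen.refl
  | succ m ih =>
    intro p u v hu hv hPu hPv
    obtain ⟨x, v', rfl⟩ : ∃ x v', v = x :: v' := List.exists_cons_of_length_eq_add_one hv
    have hlen : u.length = v'.length + 1 := by
      simp only [List.length_cons] at hv; omega
    have hnx := not_mem_of_P hPu hPv hlen
    have hxI : x ∈ Ideal.ofList p ⊔ Ideal.ofList u := by
      rw [← Ideal.ofList_append]
      change x ∈ Ideal.span {r | r ∈ p ++ u}
      rw [hPu.2, ← hPv.2]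
      exact Ideal.subset_span (by simp)
    obtain ⟨a, u', c, y, hp, hc, hy, hx⟩ := exists_unit_coeff' (Ideal.ofList p) u x hxI hnx
    have hperm1 : (p ++ u).Perm ((p ++ u') ++ [a]) := by
      rw [List.append_assoc]
      exact List.Perm.append_left p (hp.trans (List.perm_append_singleton a u').symm)
    have hP1 : P I ((p ++ u') ++ [a]) := hPu.perm hperm1
    have hy' : y ∈ Ideal.ofList (p ++ u') := by rw [Ideal.ofList_append]; exact hy
    have hP2 : P I ((p ++ u') ++ [x]) :=
      ⟨isRegular_concat_of_unit hP1.1 hc hy' hx,
        (ofList_concat_of_unit hc hy' hx).trans hP1.2⟩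
    have hperm3 : ((p ++ u') ++ [x]).Perm ((p ++ [x]) ++ u') := by
      rw [List.append_assoc, List.append_assoc]
      exact List.Perm.append_left p List.perm_append_comm
    have hP3 : P I ((p ++ [x]) ++ u') := hP2.perm hperm3
    have hlen' : u'.length = m := by
      have := hp.length_eq
      simp only [List.length_cons] at this; omega
    have hv'len : v'.length = m := by
      simp only [List.length_cons] at hv; omega
    have hPv' : P I ((p ++ [x]) ++ v') := by
      rw [List.append_assoc, List.singleton_append]; exact hPv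
    have hIH := ih (p ++ [x]) u' v' hlen' hv'len hP3 hPv'
    rw [List.append_assoc p [x] v', List.singleton_append] at hIH
    refine Relation.ReflTransGen.head ⟨hP1, Or.inl hperm1⟩ ?_
    refine Relation.ReflTransGen.head (b := (p ++ u') ++ [x]) ⟨hP2, Or.inr ⟨?_, ?_⟩⟩ ?_
    · simp
    · simp
    · exact Relation.ReflTransGen.head ⟨hP3, Or.inl hperm3⟩ hIH

omit [IsLocalRing A] [IsNoetherianRing A] in
lemma chain_P {I : Ideal A} : ∀ (l : List (List A)) (u : List A), List.IsChain (St I) (u :: l) →
    ∀ w ∈ l, P I w := by
  intro l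
  induction l with
  | nil => intro u _ w hw; simp at hw
  | cons a l ih =>
    intro u h w hw
    rw [List.isChain_cons_cons] at h
    rw [List.mem_cons] at hw
    rcases hw with rfl | hw
    · exact h.1.1
    · exact ih a h.2 w hw

end helpers


/-- Let A be a Noetherian local ring and u, v two regular sequences of elements of A generating the same
ideal. Then there is a finite chain of regular sequences generating that same ideal, starting at u
and ending at v, in which each sequence is obtained from the previous one either by a permutation or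
by changing only its last element. -/
theorem result (A : Type u) [CommRing A] [IsLocalRing A] [IsNoetherianRing A]
    (u v : List A) (hu : IsRegular A u) (hv : IsRegular A v) (huv : Ideal.span {x | x ∈ u} = Ideal.span {x | x ∈ v}) :
    ∃ ws : List (List A), ws.head? = some u ∧ ws.getLast? = some v ∧
      (∀ w ∈ ws, IsRegular A w ∧ Ideal.span {x | x ∈ w} = Ideal.span {x | x ∈ u}) ∧
      List.IsChain (fun w w' : List A => w.Perm w' ∨ (w.length = w'.length ∧ w.dropLast = w'.dropLast)) ws := by
  have hlen : u.length = v.length := by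
    rcases le_total u.length v.length with h | h
    · exact (Groth.Agent.S0611.main v.length A v u rfl h hv huv.symm).1
    · exact ((Groth.Agent.S0611.main u.length A u v rfl h hu huv).1).symm
  have hPu : P (Ideal.span {x | x ∈ u}) ([] ++ u) := ⟨hu, rfl⟩
  have hPv : P (Ideal.span {x | x ∈ u}) ([] ++ v) := ⟨hv, huv.symm⟩
  have hconn := conn_core (Ideal.span {x | x ∈ u}) u.length [] u v rfl hlen.symm hPu hPv
  simp only [List.nil_append] at hconn
  obtain ⟨l, hl1, hl2⟩ := List.exists_isChain_cons_of_relationReflTransGen hconn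
  refine ⟨u :: l, rfl, ?_, ?_, ?_⟩
  · rw [List.getLast?_eq_some_getLast (List.cons_ne_nil _ _), hl2]
  · intro w hw
    rw [List.mem_cons] at hw
    rcases hw with rfl | hw
    · exact ⟨hu, rfl⟩
    · exact chain_P l u hl1 w hw
  · exact hl1.imp fun a b h => h.2

end Groth.Agent.S3140
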