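import Groth.Statements.S3192
import Groth.Agent.Lib.Helper6.K0LocD
import Mathlib
set_option backward.isDefEq.respectTransparency.types false

set_option autoImplicit false
universe u
open CategoryTheory CategoryTheory.Limits AlgebraicGeometry
attribute [local instance] HasDerivedCategory.standard
open SGA6

namespace Groth.Agent.S3192

/-- Let X be a Noetherian scheme, i : X' ⟶ X a closed immersion and j : U ⟶ X the open immersion of the
complement. With K_•(−) = K₀ of coherent modules, i_* (exact; carried as instance hypotheses, and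
sending coherent modules to coherent modules — hypothesis hi) and j^* (exact, preserving coherence —
hypothesis hj) induce homomorphisms K_•(X') ⟶ K_•(X) ⟶ K_•(U); then j^* is surjective and its kernel
is the image of i_*. -/
theorem result {X X' U : Scheme.{u}} [IsNoetherian X] (i : X' ⟶ X) [IsClosedImmersion i]
    (j : U ⟶ X) [IsOpenImmersion j] (hU : Set.range j = (Set.range i)ᶜ)
    [(Scheme.Modules.pushforward i).Additive] [PreservesFiniteLimits (Scheme.Modules.pushforward i)] [PreservesFiniteColimits (Scheme.Modules.pushforward i)]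
    [PreservesFiniteLimits (Scheme.Modules.restrictFunctor j)]
    (hi : ∀ M : X'.Modules, Coh.IsCoh M → Coh.IsCoh ((Scheme.Modules.pushforward i).obj M))
    (hj : ∀ M : X.Modules, Coh.IsCoh M → Coh.IsCoh ((Scheme.Modules.restrictFunctor j).obj M)) :
    Function.Surjective (SGA6.mapSub (Scheme.Modules.restrictFunctor j) (fun M : (X).Modules => Coh.IsCoh M) (fun M : (U).Modules => Coh.IsCoh M) hj) ∧
      (SGA6.mapSub (Scheme.Modules.restrictFunctor j) (fun M : (X).Modules => Coh.IsCoh M) (fun M : (U).Modules => Coh.IsCoh M) hj).ker =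
        (SGA6.mapSub (Scheme.Modules.pushforward i) (fun M : (X').Modules => Coh.IsCoh M) (fun M : (X).Modules => Coh.IsCoh M) hi).range := by
  classical
  have h4 : (SGA6.mapSub (Scheme.Modules.pushforward i) (fun M : (X').Modules => Coh.IsCoh M)
      (fun M : (X).Modules => Coh.IsCoh M) hi).range ≤
      (SGA6.mapSub (Scheme.Modules.restrictFunctor j) (fun M : (X).Modules => Coh.IsCoh M)
        (fun M : (U).Modules => Coh.IsCoh M) hj).ker := by
    rintro c ⟨d, rfl⟩
    rw [AddMonoidHom.mem_ker]
    induction d using Groth.Agent.Lib.Helper6.K0Abs.K0sub_induction with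
    | h0 => simp
    | hof M hM =>
      rw [Groth.Agent.Lib.Helper6.K0Abs.mapSub_clSub _ _ _ hi M hM,
        Groth.Agent.Lib.Helper6.K0Abs.mapSub_clSub _ _ _ hj _ (hi M hM)]
      apply Groth.Agent.Lib.Helper16.K0Db.clSub_isZero
      apply Groth.Agent.Lib.Helper6.K0LocB.isZero_restrict_of_support
      rw [hU]
      exact Set.disjoint_compl_right_iff_subset.2
        (Groth.Agent.Lib.Helper6.K0LocB.support_push_subset_range i i.isClosedEmbedding.isClosedMap M)
    | hneg c ih => rw [map_neg, map_neg, ih, neg_zero]
    | hadd c d ihc ihd => rw [map_add, map_add, ihc, ihd, add_zero]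
  refine Groth.Agent.Lib.Helper6.K0Abs.localization _ _ _ hj ?_ _ ?_ ?_ ?_ h4
  · intro G G' e hG hG'
    exact Groth.Agent.Lib.Helper6.K0Op.cls_iso e hG
  · intro G hG
    exact Groth.Agent.Lib.Helper6.K0LocD.exists_extension' j G hG
  · rintro F F' hF hF' ⟨φ⟩
    have := Groth.Agent.Lib.Helper6.K0LocD.cls_sub_mem_FY_of_restrict_iso' j F F' hF hF' φ
    rw [hU, compl_compl] at this
    exact Groth.Agent.Lib.Helper6.K0LocA.FY_range_le i hi this
  · intro S hS q1 q2 q3
    exact Groth.Agent.Lib.Helper6.K0LocD.exists_ses_extension' j S hS q1 q2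

end Groth.Agent.S3192
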