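import Groth.Statements.S3200
import Groth.Agent.Lib.Helper16.ResExist
-- import your own Groth.Agent.* helpers here

set_option autoImplicit false
universe v u
open CategoryTheory CategoryTheory.Limits
open SGA6

namespace Groth.Agent.S3200

open Groth.Agent.Lib.Helper16.ResK Groth.Agent.Lib.Helper16.ResD

lemma phi_res {C : Type u} [Category.{v} C] [Abelian C] {P₀ P₁ : ObjectProperty C}
    (H : Hyp P₀ P₁) : ∀ (n : ℕ) (A : C) (x : KZero.K0sub P₀) (hA : P₁ A), Res P₀ n A x →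
      SGA6.mapSub (𝟭 C) P₀ P₁ H.hle x = cl P₁ A hA
  | 0, A, x, hA, ⟨h, hx⟩ => by rw [hx]; rfl
  | n+1, A, x, hA, ⟨L, hL, π, hπ, y, hy, hx⟩ => by
      have hK := H.ker₁ π (H.hle _ hL) hA
      rw [hx, map_sub, phi_res H n _ y hK hy]
      have h1 := cl_rel P₁ _ (shortExact_kernel π) hK (H.hle _ hL) hA
      have h2 : SGA6.mapSub (𝟭 C) P₀ P₁ H.hle (cl P₀ L hL) = cl P₁ L (H.hle _ hL) := rfl
      rw [h2]
      dsimp only at h1
      rw [h1]; abel


/-- Let C be an abelian category and P₀ ≤ P₁ two isomorphism-closed classes of objects, both stable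
under extensions, such that: (i) for every short exact sequence 0 → A' → A → A'' → 0 with A, A'' in
P₀ (resp. P₁), A' is in P₀ (resp. P₁); (ii) for u : A ⟶ B an epimorphism and v : D ⟶ B with A, B, D
in P₁ there are L in P₀, an epimorphism u' : L ⟶ D and v' : L ⟶ A with u' ≫ v = v' ≫ u; (iii) for
every A in P₁ there is d such that for every resolution L of A by objects of P₀ (a chain complex of
objects of P₀, exact in positive degrees, with H₀(L) ≅ A) the object of cycles Z_{d+1}(L) =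
ker(L_{d+1} → L_d) is in P₀. Then the homomorphism K₀(P₀) ⟶ K₀(P₁) induced by the inclusion is
bijective. (Two deviations from the published statement. Stability of P₀ and P₁ under extensions is
assumed here in addition to (i)–(iii); without it the conclusion can fail. In (iii) the published
statement asks that Z_d(L) be in P₀; asking it of Z_{d+1}(L) is equivalent given (i), and avoids
degree 0, where the cycles of the complex L in Mathlib's sense are L₀ itself rather than the kernel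
of the augmentation L₀ → A.) -/
theorem result {C : Type u} [Category.{v} C] [Abelian C]
    (P₀ P₁ : ObjectProperty C) [P₀.IsClosedUnderIsomorphisms] [P₁.IsClosedUnderIsomorphisms] (hle : ∀ X, P₀ X → P₁ X)
    (hext₀ : ∀ S : ShortComplex C, S.ShortExact → P₀ S.X₁ → P₀ S.X₃ → P₀ S.X₂)
    (hext₁ : ∀ S : ShortComplex C, S.ShortExact → P₁ S.X₁ → P₁ S.X₃ → P₁ S.X₂)
    (h1₀ : ∀ S : ShortComplex C, S.ShortExact → P₀ S.X₂ → P₀ S.X₃ → P₀ S.X₁)
    (h1₁ : ∀ S : ShortComplex C, S.ShortExact → P₁ S.X₂ → P₁ S.X₃ → P₁ S.X₁)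
    (h2 : ∀ (A B D : C) (u : A ⟶ B) (v : D ⟶ B), Epi u → P₁ A → P₁ B → P₁ D →
      ∃ (L : C) (u' : L ⟶ D) (v' : L ⟶ A), P₀ L ∧ Epi u' ∧ u' ≫ v = v' ≫ u)
    (h3 : ∀ A : C, P₁ A → ∃ d : ℕ, ∀ L : ChainComplex C ℕ, (∀ i, P₀ (L.X i)) → (∀ i, 1 ≤ i → L.ExactAt i) →
      Nonempty (L.homology 0 ≅ A) → P₀ (L.cycles (d + 1))) :
    Function.Bijective (SGA6.mapSub (𝟭 C) P₀ P₁ hle) := by
  have H : Hyp P₀ P₁ := ⟨hle, hext₀, hext₁, h1₀, h1₁, h2⟩
  have hE : ∀ A, P₁ A → ∃ x, ∃ n, Res P₀ n A x := by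
    intro A hA
    obtain ⟨n, x, hx⟩ := exists_Res H h3 A hA
    exact ⟨x, n, hx⟩
  choose! χ₀ hχ₀ using hE
  have huniq : ∀ A (_ : P₁ A) n x, Res P₀ n A x → x = χ₀ A := by
    intro A hA n x hx
    obtain ⟨m, hm⟩ := hχ₀ A hA
    exact Res_unique H (max n m) A hA _ _ (Res_le H (le_max_left _ _) A x hx)
      (Res_le H (le_max_right _ _) A _ hm)
  have hadd : ∀ S : ShortComplex C, S.ShortExact → P₁ S.X₁ → P₁ S.X₂ → P₁ S.X₃ →
      χ₀ S.X₂ = χ₀ S.X₁ + χ₀ S.X₃ := by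
    intro S hS h₁ h₂ h₃
    obtain ⟨n, hn⟩ := hχ₀ _ h₁
    obtain ⟨m, hm⟩ := hχ₀ _ h₃
    have := Res_ext H (max n m) S hS h₁ h₃ _ _ (Res_le H (le_max_left _ _) _ _ hn)
      (Res_le H (le_max_right _ _) _ _ hm)
    exact (huniq _ h₂ _ _ this).symm
  let χF : FreeAbelianGroup (Subtype P₁) →+ KZero.K0sub P₀ :=
    FreeAbelianGroup.lift (fun X => χ₀ X.1)
  have hker : KZero.relSub P₁ ≤ χF.ker := by
    rw [KZero.relSub, AddSubgroup.closure_le]
    rintro x ⟨S, h₁, h₂, h₃, hS, rfl⟩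
    simp only [SetLike.mem_coe, AddMonoidHom.mem_ker, map_sub, χF, FreeAbelianGroup.lift_apply_of]
    rw [hadd S hS h₁ h₂ h₃]; abel
  let χ : KZero.K0sub P₁ →+ KZero.K0sub P₀ := QuotientAddGroup.lift _ χF hker
  have hχcl : ∀ A (hA : P₁ A), χ (cl P₁ A hA) = χ₀ A := by
    intro A hA
    show χF (FreeAbelianGroup.of ⟨A, hA⟩) = χ₀ A
    simp only [χF, FreeAbelianGroup.lift_apply_of]
  have hφcl : ∀ A (h : P₀ A), SGA6.mapSub (𝟭 C) P₀ P₁ hle (cl P₀ A h) = cl P₁ A (hle A h) :=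
    fun A h => rfl
  have h1 : χ.comp (SGA6.mapSub (𝟭 C) P₀ P₁ hle) = AddMonoidHom.id _ := by
    apply QuotientAddGroup.addMonoidHom_ext
    apply FreeAbelianGroup.lift_ext
    rintro ⟨A, hA⟩
    show χ (SGA6.mapSub (𝟭 C) P₀ P₁ hle (cl P₀ A hA)) = cl P₀ A hA
    rw [hφcl, hχcl]
    exact (huniq A (hle A hA) 0 _ ⟨hA, rfl⟩).symm
  have h2' : (SGA6.mapSub (𝟭 C) P₀ P₁ hle).comp χ = AddMonoidHom.id _ := by
    apply QuotientAddGroup.addMonoidHom_ext
    apply FreeAbelianGroup.lift_ext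
    rintro ⟨A, hA⟩
    show SGA6.mapSub (𝟭 C) P₀ P₁ hle (χ (cl P₁ A hA)) = cl P₁ A hA
    rw [hχcl]
    obtain ⟨n, hn⟩ := hχ₀ A hA
    exact phi_res H n A _ hA hn
  refine Function.bijective_iff_has_inverse.2 ⟨χ, fun x => ?_, fun y => ?_⟩
  · exact DFunLike.congr_fun h1 x
  · exact DFunLike.congr_fun h2' y

end Groth.Agent.S3200
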