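import Groth.Statements.S3206
import Mathlib
import Groth.Agent.Lib.Helper20.MorseApp
import Groth.Agent.S16231
-- import your own Groth.Agent.* helpers here

set_option autoImplicit false
set_option linter.unusedSectionVars false
set_option linter.style.haveILetI false
set_option linter.unusedVariables false
open SGA7

namespace Groth.Agent.S3206

open MvPowerSeries Groth.Agent.Lib.Helper20.IFT Groth.Agent.Lib.Helper20.LT
  Groth.Agent.Lib.Helper20.Morse Groth.Agent.S16231 in
lemma jac_of_span {k : Type} [Field k] {n : ℕ} (y : Fin n → MvPowerSeries (Fin n) k)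
    (hy : Ideal.span (Set.range y) = IsLocalRing.maximalIdeal (MvPowerSeries (Fin n) k)) :
    (∀ i, constantCoeff (y i) = 0) ∧ IsUnit (jac y).det := by
  classical
  have hy0 : ∀ i, constantCoeff (y i) = 0 := by
    intro i
    have hmem : y i ∈ IsLocalRing.maximalIdeal (MvPowerSeries (Fin n) k) := by
      rw [← hy]; exact Ideal.subset_span ⟨i, rfl⟩
    rw [IsLocalRing.mem_maximalIdeal, mem_nonunits_iff, isUnit_iff_constantCoeff,
      isUnit_iff_ne_zero, not_not] at hmem
    exact hmem
  refine ⟨hy0, ?_⟩
  have hX : ∀ j : Fin n, ∃ g : Fin n → MvPowerSeries (Fin n) k, ∑ i, g i * y i = X j := by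
    intro j
    have hmem : (X j : MvPowerSeries (Fin n) k) ∈ Ideal.span (Set.range y) := by
      rw [hy, IsLocalRing.mem_maximalIdeal, mem_nonunits_iff, isUnit_iff_constantCoeff,
        constantCoeff_X]
      exact not_isUnit_zero
    obtain ⟨g, hg⟩ := (Ideal.mem_span_range_iff_exists_fun).mp hmem
    exact ⟨g, hg⟩
  choose G hG using hX
  let M : Matrix (Fin n) (Fin n) k := Matrix.of fun j i => constantCoeff (G j i)
  have hM : M * jac y = 1 := by
    ext j l
    rw [Matrix.mul_apply]
    have := congrArg (coeff (Finsupp.single l 1)) (hG j)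
    rw [map_sum] at this
    simp only [coeff_single_mul, hy0, mul_zero, add_zero] at this
    rw [← jac_X (σ := Fin n) (R := k)] 
    exact this
  have := congrArg Matrix.det hM
  rw [Matrix.det_mul, Matrix.det_one] at this
  exact IsUnit.of_mul_eq_one _ (by rw [mul_comm]; exact this)

open MvPowerSeries Groth.Agent.Lib.Helper20.IFT Groth.Agent.Lib.Helper20.LT
  Groth.Agent.Lib.Helper20.Morse Groth.Agent.S16231 in
lemma quadPoly_isHomogeneous {k : Type} [Field k] {n : ℕ} (q : Fin n → Fin n → k) :
    (VanCyc.quadPoly q).IsHomogeneous 2 := by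
  unfold VanCyc.quadPoly
  refine MvPolynomial.IsHomogeneous.sum _ _ _ fun i _ => MvPolynomial.IsHomogeneous.sum _ _ _ fun j _ => ?_
  split_ifs
  · have h1 : (MvPolynomial.C (q i j) * MvPolynomial.X i : MvPolynomial (Fin n) k).IsHomogeneous 1 := by
      have := (MvPolynomial.isHomogeneous_C (Fin n) (q i j)).mul (MvPolynomial.isHomogeneous_X k i)
      simpa using this
    exact h1.mul (MvPolynomial.isHomogeneous_X k j)
  · exact MvPolynomial.isHomogeneous_zero _ _ _

open MvPowerSeries Groth.Agent.Lib.Helper20.IFT Groth.Agent.Lib.Helper20.LT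
  Groth.Agent.Lib.Helper20.Morse Groth.Agent.S16231 in
theorem main (k : Type) [Field k] (n : ℕ) (f : MvPowerSeries (Fin n) k)
    (hf0 : MvPowerSeries.constantCoeff f = 0)
    (hJ : Ideal.span (Set.range fun i : Fin n => MvPowerSeries.pderiv k i f) = IsLocalRing.maximalIdeal (MvPowerSeries (Fin n) k)) :
    ∃ (ε : Fin n → MvPowerSeries (Fin n) k) (_ : ∀ i (m : Fin n →₀ ℕ), m.degree < 2 → MvPowerSeries.coeff m (ε i) = 0)
      (q : MvPolynomial (Fin n) k) (_ : q.IsHomogeneous 2)
      (_ : MvPowerSeries.HasSubst (fun i : Fin n => MvPowerSeries.X i + ε i)),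
      f = MvPowerSeries.subst (fun i : Fin n => MvPowerSeries.X i + ε i) (q : MvPowerSeries (Fin n) k) := by
  classical
  obtain ⟨hy0, hjac⟩ := jac_of_span (fun i : Fin n => MvPowerSeries.pderiv k i f) hJ
  -- no linear terms
  have hlin : ∀ i, coeff (Finsupp.single i 1) f = 0 := by
    intro i
    have := hy0 i
    rw [← coeff_zero_eq_constantCoeff_apply, coeff_pderiv, zero_add] at this
    simpa using this
  -- the quadratic part
  let q : Fin n → Fin n → k := fun i j => if i ≤ j then coeff (sx i j) f else 0
  have hq2 : ∀ a b, a ≤ b → coeff (sx a b) f = q a b := fun i j hij => by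
    simp only [q, if_pos hij]
  have hpolar : jac (fun i : Fin n => MvPowerSeries.pderiv k i f) = VanCyc.polarMatrix q := by
    ext i j
    show coeff (Finsupp.single j 1) (MvPowerSeries.pderiv k i f) = _
    rw [coeff_pderiv]
    unfold VanCyc.polarMatrix
    rcases lt_trichotomy i j with hij | hij | hij
    · rw [if_neg hij.ne, if_pos hij, ← hq2 i j hij.le, Finsupp.single_apply, if_neg hij.ne', sx,
        add_comm (Finsupp.single j 1)]
      simp
    · subst hij
      rw [if_pos rfl, ← hq2 i i le_rfl, Finsupp.single_apply, if_pos rfl, sx]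
      push_cast
      ring
    · rw [if_neg hij.ne', if_neg (not_lt.mpr hij.le), ← hq2 j i hij.le, Finsupp.single_apply,
        if_neg hij.ne, sx]
      simp
  have hq : VanCyc.QuadNondeg q := by
    unfold VanCyc.QuadNondeg
    rw [← hpolar]; exact hjac
  have hF : ∀ e : Fin n →₀ ℕ, e.degree ≤ 2 → coeff e f = coeff e
      ((VanCyc.quadPoly q + MvPolynomial.C 0 : MvPolynomial (Fin n) k) :
        MvPowerSeries (Fin n) k) := by
    intro e he
    rw [MvPolynomial.coeff_coe, MvPolynomial.coeff_add, MvPolynomial.coeff_C]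
    have hcases : e.degree = 0 ∨ e.degree = 1 ∨ e.degree = 2 := by omega
    rcases hcases with h0 | h1 | h2
    · rw [Finsupp.degree_eq_zero_iff] at h0
      subst h0
      rw [coeff_quadPoly_of_degree_ne q (by simp), if_pos rfl, zero_add,
        coeff_zero_eq_constantCoeff_apply, hf0]
    · obtain ⟨i, rfl⟩ := deg_one_eq h1
      rw [coeff_quadPoly_of_degree_ne q (by simp [Finsupp.degree_single]), hlin i,
        if_neg (by simp [eq_comm, Finsupp.single_eq_zero]), add_zero]
    · obtain ⟨i, j, hij, rfl⟩ := deg_two_eq h2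
      rw [coeff_quadPoly_sx q hij, hq2 i j hij, if_neg, add_zero]
      intro h
      have := congrArg Finsupp.degree h
      rw [degree_sx] at this
      simp at this
  obtain ⟨h, hh, hS, hs, -⟩ := morse_full 2 le_rfl q hq 0 f hF
  have hhO : ∀ i, OrdGE 2 (h i) := fun i e he => hh i e he
  have hconst : ∀ i, constantCoeff (X i + h i) = 0 := by
    intro i
    rw [map_add, constantCoeff_X, zero_add]
    exact ordGE_one_iff.mp ((hhO i).mono (by omega))
  have hjacy : jac (fun i => X i + h i) = 1 := by
    rw [← jac_X]
    ext i j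
    show coeff (Finsupp.single j 1) (X i + h i) = coeff (Finsupp.single j 1) (X i)
    rw [map_add, hhO i _ (by rw [Finsupp.degree_single]; omega), add_zero]
  obtain ⟨z, hz0, hz, hz'⟩ := exists_inverse (fun i => X i + h i) hconst
    (by rw [hjacy, Matrix.det_one]; exact isUnit_one)
  have hzS : HasSubst z := hasSubst_of_constantCoeff_zero hz0
  have hjz : jac z = 1 := by
    have h1 : jac (fun i => X i + h i) * jac z = 1 := by
      rw [← jac_subst _ z hz0, ← jac_X]
      congr 1
      funext i
      exact hz i
    rwa [hjacy, one_mul] at h1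
  have hzX : (fun i : Fin n => X i + (z i - X i)) = z := by
    funext i; ring
  refine ⟨fun i => z i - X i, ?_, VanCyc.quadPoly q, quadPoly_isHomogeneous q, ?_, ?_⟩
  · intro i m hm
    have hcases : m.degree = 0 ∨ m.degree = 1 := by omega
    rcases hcases with h0 | h1
    · rw [Finsupp.degree_eq_zero_iff] at h0
      subst h0
      rw [coeff_zero_eq_constantCoeff_apply, map_sub, hz0, constantCoeff_X, sub_zero]
    · obtain ⟨j, rfl⟩ := deg_one_eq h1
      rw [map_sub]
      have e1 : coeff (Finsupp.single j 1) (z i) = (jac z) i j := rfl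
      have e2 : coeff (Finsupp.single j 1) (X i : MvPowerSeries (Fin n) k) =
          (jac (fun i : Fin n => (X i : MvPowerSeries (Fin n) k))) i j := rfl
      rw [e1, e2, hjz, jac_X, sub_self]
  · rw [hzX]; exact hzS
  · rw [hzX]
    have h1 : subst z (subst (fun i => X i + h i) f) = f := by
      rw [subst_comp_subst_apply hS hzS]
      have h2 : (fun s => subst z (X s + h s)) = (X : Fin n → MvPowerSeries (Fin n) k) := funext hz
      rw [h2, subst_self]; rfl
    rw [← h1, hs, map_zero, add_zero]

/-- Let k be a field and f a formal power series in n variables over k without constant term whose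
partial derivatives ∂f/∂x_1, …, ∂f/∂x_n generate the maximal ideal of k[[x_1, …, x_n]]. Then there
are power series ε_1, …, ε_n with no terms of degree < 2 and a quadratic form q such that f = q(x_1
+ ε_1, …, x_n + ε_n). -/
theorem result (k : Type) [Field k] (n : ℕ) (f : MvPowerSeries (Fin n) k)
    (hf0 : MvPowerSeries.constantCoeff f = 0)
    (hJ : Ideal.span (Set.range fun i : Fin n => MvPowerSeries.pderiv k i f) = IsLocalRing.maximalIdeal (MvPowerSeries (Fin n) k)) :
    ∃ (ε : Fin n → MvPowerSeries (Fin n) k) (_ : ∀ i (m : Fin n →₀ ℕ), m.degree < 2 → MvPowerSeries.coeff m (ε i) = 0)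
      (q : MvPolynomial (Fin n) k) (_ : q.IsHomogeneous 2)
      (_ : MvPowerSeries.HasSubst (fun i : Fin n => MvPowerSeries.X i + ε i)),
      f = MvPowerSeries.subst (fun i : Fin n => MvPowerSeries.X i + ε i) (q : MvPowerSeries (Fin n) k) := by
  exact main k n f hf0 hJ

end Groth.Agent.S3206
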