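import Groth.Statements.S3208
import Mathlib.RingTheory.Filtration
import Mathlib.Algebra.CharP.Lemmas
import Mathlib.Data.Nat.Factors
import Mathlib.RingTheory.Int.Basic
import Mathlib.Data.Nat.Choose.Dvd
import Mathlib.Tactic.LinearCombination
import Mathlib.Tactic.Ring
import Mathlib.Tactic.Abel

set_option autoImplicit false
open SGA7

namespace Groth.Agent.S3208

variable {E : Type} [CommRing E]

theorem B0 (y : E) (n : ℕ) :
    (1 + y) ^ (n + 1) = 1 + ((n + 1 : ℕ) : E) * y +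
      y ^ 2 * ∑ m ∈ Finset.range n, y ^ m * ((n + 1).choose (m + 2) : E) := by
  rw [add_comm 1 y, add_pow, Finset.sum_range_succ', Finset.sum_range_succ', Finset.mul_sum]
  simp only [one_pow, mul_one, pow_zero, Nat.choose_zero_right, Nat.cast_one, zero_add, pow_one,
    Nat.choose_one_right]
  have : ∀ m, y ^ (m + 1 + 1) * ((n + 1).choose (m + 1 + 1) : E) =
      y ^ 2 * (y ^ m * ((n + 1).choose (m + 2) : E)) := by
    intro m; ring
  simp only [this]
  ring

theorem B1 (p : ℕ) (hp : p.Prime) (hp2 : p ≠ 2) (y : E) (hy : (p : E) ∣ y) :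
    (p : E) ∣ ∑ m ∈ Finset.range (p - 1), y ^ m * (p.choose (m + 2) : E) := by
  apply Finset.dvd_sum
  intro m hm
  rw [Finset.mem_range] at hm
  by_cases h : m + 2 < p
  · apply Dvd.dvd.mul_left
    have := hp.dvd_choose_self (k := m + 2) (by omega) h
    exact_mod_cast (Nat.cast_dvd_cast (α := E) this)
  · have hm' : m ≠ 0 := by
      have := hp.two_le
      omega
    apply Dvd.dvd.mul_right
    exact dvd_pow hy hm'

theorem cancel [NoZeroSMulDivisors ℤ E] (k : ℕ) (hk : k ≠ 0) (z : E) (h : (k : E) * z = 0) :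
    z = 0 := by
  have h' : (k : ℤ) • z = 0 := by rw [zsmul_eq_mul]; exact_mod_cast h
  rcases smul_eq_zero.mp h' with h1 | h1
  · exact absurd (by exact_mod_cast h1) hk
  · exact h1

theorem L1 [NoZeroSMulDivisors ℤ E] (p : ℕ) (hp : p.Prime) (ℓ : ℕ) (hℓ : ℓ.Prime) (b : ℕ)
    (hpb : p ≠ 2 ∨ 1 ≤ b) (x : E) (hw : (1 + (p : E) ^ (b + 1) * x) ^ ℓ = 1) : (p : E) ∣ x := by
  obtain ⟨n, rfl⟩ : ∃ n, ℓ = n + 1 := ⟨ℓ - 1, by have := hℓ.pos; omega⟩
  obtain ⟨y, hy⟩ : ∃ y : E, y = (p : E) ^ (b + 1) * x := ⟨_, rfl⟩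
  obtain ⟨s, hs⟩ : ∃ s : E, s = ∑ m ∈ Finset.range n, y ^ m * ((n + 1).choose (m + 2) : E) :=
    ⟨_, rfl⟩
  have h0 := B0 y n
  rw [← hs, hy, hw] at h0
  have h1 : ((p ^ (b + 1) : ℕ) : E) * (((n + 1 : ℕ) : E) * x + (p : E) ^ (b + 1) * x ^ 2 * s) = 0 := by
    push_cast at h0 ⊢
    linear_combination -h0
  have h2 := cancel _ (pow_ne_zero _ hp.ne_zero) _ h1
  by_cases hlp : n + 1 = p
  · rw [hlp] at h2
    rcases hpb with hp2 | hb1
    · have hps : (p : E) ∣ s := by
        have hn : n = p - 1 := by omega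
        have hn' : p - 1 + 1 = p := by omega
        rw [hs, hn, hn']
        exact B1 p hp hp2 y ⟨(p : E) ^ b * x, by rw [hy]; ring⟩
      obtain ⟨s', hs'⟩ := hps
      have h3 : (p : E) * (x + (p : E) ^ (b + 1) * x ^ 2 * s') = 0 := by
        rw [hs'] at h2; linear_combination h2
      have h4 := cancel _ hp.ne_zero _ h3
      exact ⟨-((p : E) ^ b * x ^ 2 * s'), by linear_combination h4⟩
    · obtain ⟨b', rfl⟩ : ∃ b', b = b' + 1 := ⟨b - 1, by omega⟩
      have h3 : (p : E) * (x + (p : E) ^ (b' + 1) * x ^ 2 * s) = 0 := by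
        linear_combination h2
      have h4 := cancel _ hp.ne_zero _ h3
      exact ⟨-((p : E) ^ b' * x ^ 2 * s), by linear_combination h4⟩
  · have hcop : Nat.Coprime (n + 1) p := (Nat.coprime_primes hℓ hp).mpr hlp
    obtain ⟨a, c, hac⟩ := (Nat.isCoprime_iff_coprime.mpr hcop)
    have hac' : (a : E) * ((n + 1 : ℕ) : E) + (c : E) * (p : E) = 1 := by
      exact_mod_cast congrArg (Int.cast : ℤ → E) hac
    refine ⟨-(a : E) * (p : E) ^ b * x ^ 2 * s + c * x, ?_⟩
    linear_combination (-x) * hac' + (a : E) * h2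
theorem F1 [NoZeroSMulDivisors ℤ E] [Module.Finite ℤ E] (p : ℕ) (hp : p.Prime) (z : E) (h : ∀ k : ℕ, ((p : E) ^ k) ∣ z) : z = 0 := by
  have hI : (Ideal.span {(p : ℤ)}) ≠ ⊤ := by
    rw [Ne, Ideal.span_singleton_eq_top, Int.isUnit_iff]
    have := hp.two_le
    omega
  have key := Ideal.iInf_pow_smul_eq_bot_of_isTorsionFree (R := ℤ) (M := E) (I := Ideal.span {(p : ℤ)}) hI
  have : z ∈ (⨅ i : ℕ, (Ideal.span {(p : ℤ)}) ^ i • ⊤ : Submodule ℤ E) := by
    rw [Submodule.mem_iInf]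
    intro k
    obtain ⟨t, rfl⟩ := h k
    rw [Ideal.span_singleton_pow, Submodule.ideal_span_singleton_smul]
    have : (p : E) ^ k * t = ((p : ℤ) ^ k) • t := by
      rw [zsmul_eq_mul]; push_cast; ring
    rw [this]
    exact Submodule.smul_mem_pointwise_smul _ _ _ trivial
  rw [key] at this
  simpa using this


theorem L2 [NoZeroSMulDivisors ℤ E] [Module.Finite ℤ E] (p : ℕ) (hp : p.Prime) (ℓ : ℕ)
    (hℓ : ℓ.Prime) (b : ℕ) (hpb : p ≠ 2 ∨ 1 ≤ b) (w : E) (hw : w ^ ℓ = 1)
    (hd : (p : E) ^ (b + 1) ∣ w - 1) : w = 1 := by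
  have key : ∀ k : ℕ, (p : E) ^ (b + k + 1) ∣ w - 1 := by
    intro k
    induction k with
    | zero => simpa using hd
    | succ k ih =>
      obtain ⟨x, hx⟩ := ih
      have hw' : w = 1 + (p : E) ^ (b + k + 1) * x := by linear_combination hx
      have hpx : (p : E) ∣ x := by
        apply L1 p hp ℓ hℓ (b + k) (by omega) x
        rw [← hw']; exact hw
      obtain ⟨t, rfl⟩ := hpx
      exact ⟨t, by rw [hx]; ring⟩
  have : w - 1 = 0 := by
    apply F1 (E := E) p hp
    intro k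
    exact dvd_trans (pow_dvd_pow _ (by omega)) (key k)
  linear_combination this

theorem L3 [NoZeroSMulDivisors ℤ E] [Module.Finite ℤ E] (p : ℕ) (hp : p.Prime) (b : ℕ)
    (hpb : p ≠ 2 ∨ 1 ≤ b) (m : ℕ) (hm : 0 < m) (w : E) (hw : w ^ m = 1)
    (hd : (p : E) ^ (b + 1) ∣ w - 1) : w = 1 := by
  induction m using Nat.strong_induction_on with
  | _ m ih =>
    by_cases hm1 : m = 1
    · rw [hm1, pow_one] at hw; exact hw
    · obtain ⟨m', hm'⟩ := Nat.minFac_dvd m
      have hℓ : (Nat.minFac m).Prime := Nat.minFac_prime hm1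
      have hm'pos : 0 < m' := by
        rcases Nat.eq_zero_or_pos m' with h | h
        · rw [h, mul_zero] at hm'; omega
        · exact h
      have hlt : m' < m := by
        have := hℓ.two_le
        nlinarith
      have h1 : (w ^ m') ^ (Nat.minFac m) = 1 := by
        rw [← pow_mul, mul_comm, ← hm']; exact hw
      have h2 : (p : E) ^ (b + 1) ∣ w ^ m' - 1 := by
        have := sub_dvd_pow_sub_pow w 1 m'
        rw [one_pow] at this
        exact dvd_trans hd this
      have h3 := L2 p hp _ hℓ b hpb _ h1 h2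
      exact ih m' hlt hm'pos h3

theorem main [NoZeroSMulDivisors ℤ E] [Module.Finite ℤ E] (u : E) (m : ℕ) (hm : 0 < m)
    (hu : u ^ m = 1) (n : ℕ) (hn : 2 ≤ n) (hcong : ∃ v : E, 1 - u = (n : E) * v) :
    u ^ 2 = 1 ∧ (3 ≤ n → u = 1) := by
  obtain ⟨v, hv⟩ := hcong
  have h3 : 3 ≤ n → u = 1 := by
    intro hn3
    rcases Nat.eq_two_pow_or_exists_odd_prime_and_dvd n with ⟨k, hk⟩ | ⟨p, hp, hpn, hodd⟩
    · -- n = 2^k, k ≥ 2
      have hk2 : 2 ≤ k := by
        by_contra hlt
        have : k = 0 ∨ k = 1 := by omega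
        rcases this with rfl | rfl <;> simp at hk <;> omega
      obtain ⟨k', rfl⟩ : ∃ k', k = k' + 2 := ⟨k - 2, by omega⟩
      apply L3 2 Nat.prime_two 1 (Or.inr le_rfl) m hm u hu
      refine ⟨-((2 : E) ^ k' * v), ?_⟩
      have : (n : E) = 2 ^ (k' + 2) := by rw [hk]; push_cast; rfl
      rw [this] at hv
      push_cast
      linear_combination -hv
    · apply L3 p hp 0 (Or.inl ?_) m hm u hu
      · obtain ⟨c, rfl⟩ := hpn
        refine ⟨-((c : E) * v), ?_⟩
        push_cast at hv ⊢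
        linear_combination -hv
      · rintro rfl
        exact absurd hodd (by decide)
  refine ⟨?_, h3⟩
  by_cases hn2 : n = 2
  · subst hn2
    apply L3 2 Nat.prime_two 1 (Or.inr le_rfl) m hm (u ^ 2)
    · rw [← pow_mul, mul_comm, pow_mul, hu, one_pow]
    · refine ⟨v ^ 2 - v, ?_⟩
      push_cast at hv ⊢
      have : u = 1 - 2 * v := by linear_combination -hv
      rw [this]; ring
  · rw [h3 (by omega), one_pow]


/-- Let E be a commutative ring which is finitely generated and torsion-free as an additive group, u an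
element of E of finite multiplicative order (u^m = 1 for some m > 0), and n ≥ 2 an integer with u ≡
1 modulo nE (i.e. 1 - u = n·v for some v ∈ E). Then u² = 1, and if n ≥ 3 then u = 1. -/
theorem result (E : Type) [CommRing E] [NoZeroSMulDivisors ℤ E] [Module.Finite ℤ E] (u : E) (m : ℕ) (hm : 0 < m)
    (hu : u ^ m = 1) (n : ℕ) (hn : 2 ≤ n) (hcong : ∃ v : E, 1 - u = (n : E) * v) :
    u ^ 2 = 1 ∧ (3 ≤ n → u = 1) := by
  exact main u m hm hu n hn hcong

end Groth.Agent.S3208
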