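import Groth.Statements.S3209
import Mathlib.LinearAlgebra.TensorProduct.RightExactness

set_option autoImplicit false
universe u
open TensorProduct
open SGA7

namespace Groth.Agent.S3209

variable (R B' B C S : Type u) [CommRing R] [CommRing B'] [CommRing B] [CommRing C]
    [CommRing S] [Algebra R B'] [Algebra R B] [Algebra R C] [Algebra R S]

theorem map_id_eq_lTensor {X Y : Type u} [CommRing X] [CommRing Y] [Algebra R X] [Algebra R Y]
    (h : X →ₐ[R] Y) (z : S ⊗[R] X) :
    Algebra.TensorProduct.map (AlgHom.id R S) h z = h.toLinearMap.lTensor S z := rfl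

theorem main (f : B' →ₐ[R] B) (hf : Function.Surjective f) (g : C →ₐ[R] B)
    (hJ : Function.Injective (LinearMap.lTensor S (LinearMap.ker f.toLinearMap).subtype)) :
    letI P := AlgHom.equalizer (f.comp (AlgHom.fst R B' C)) (g.comp (AlgHom.snd R B' C))
    letI φ₁ := Algebra.TensorProduct.map (AlgHom.id R S) ((AlgHom.fst R B' C).comp P.val)
    letI φ₂ := Algebra.TensorProduct.map (AlgHom.id R S) ((AlgHom.snd R B' C).comp P.val)
    Function.Injective (fun z : S ⊗[R] ↥P => (φ₁ z, φ₂ z)) ∧
    ∀ (x : S ⊗[R] B') (y : S ⊗[R] C),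
      Algebra.TensorProduct.map (AlgHom.id R S) f x = Algebra.TensorProduct.map (AlgHom.id R S) g y →
        ∃ z : S ⊗[R] ↥P, φ₁ z = x ∧ φ₂ z = y := by
  let P := AlgHom.equalizer (f.comp (AlgHom.fst R B' C)) (g.comp (AlgHom.snd R B' C))
  let φ₁ := Algebra.TensorProduct.map (AlgHom.id R S) ((AlgHom.fst R B' C).comp P.val)
  let φ₂ := Algebra.TensorProduct.map (AlgHom.id R S) ((AlgHom.snd R B' C).comp P.val)
  show Function.Injective (fun z : S ⊗[R] ↥P => (φ₁ z, φ₂ z)) ∧
    ∀ (x : S ⊗[R] B') (y : S ⊗[R] C),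
      Algebra.TensorProduct.map (AlgHom.id R S) f x = Algebra.TensorProduct.map (AlgHom.id R S) g y →
        ∃ z : S ⊗[R] ↥P, φ₁ z = x ∧ φ₂ z = y
  let J := LinearMap.ker f.toLinearMap
  -- the inclusion of J into P
  let j : J →ₗ[R] P :=
    { toFun := fun a => ⟨(a.1, 0), by
        show f a.1 = g 0
        rw [map_zero]; exact a.2⟩
      map_add' := fun a b => by ext <;> simp
      map_smul' := fun r a => by ext <;> simp }
  let p₁ : P →ₗ[R] B' := ((AlgHom.fst R B' C).comp P.val).toLinearMap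
  let p₂ : P →ₗ[R] C := ((AlgHom.snd R B' C).comp P.val).toLinearMap
  have hp₂ : Function.Surjective p₂ := by
    intro c
    obtain ⟨b, hb⟩ := hf (g c)
    exact ⟨⟨(b, c), hb⟩, rfl⟩
  have hex : Function.Exact j p₂ := by
    intro z
    constructor
    · intro hz
      obtain ⟨⟨b, c⟩, hbc⟩ := z
      have hc : c = 0 := hz
      subst hc
      have hb : f b = g 0 := hbc
      rw [map_zero] at hb
      exact ⟨⟨b, hb⟩, rfl⟩
    · rintro ⟨a, rfl⟩
      rfl
  have hex' : Function.Exact J.subtype f.toLinearMap := LinearMap.exact_subtype_ker_map _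
  have hE := lTensor_exact S hex hp₂
  have hE' := lTensor_exact S hex' hf
  have h1 : ∀ w, φ₁ (j.lTensor S w) = J.subtype.lTensor S w := by
    intro w
    show p₁.lTensor S (j.lTensor S w) = _
    rw [← LinearMap.comp_apply, ← LinearMap.lTensor_comp]
    rfl
  have h2 : ∀ w, φ₂ (j.lTensor S w) = 0 := by
    intro w
    show p₂.lTensor S (j.lTensor S w) = _
    exact hE.apply_apply_eq_zero w
  have h3 : ∀ z, Algebra.TensorProduct.map (AlgHom.id R S) f (φ₁ z) =
      Algebra.TensorProduct.map (AlgHom.id R S) g (φ₂ z) := by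
    intro z
    show f.toLinearMap.lTensor S (p₁.lTensor S z) = g.toLinearMap.lTensor S (p₂.lTensor S z)
    rw [← LinearMap.comp_apply, ← LinearMap.lTensor_comp, ← LinearMap.comp_apply,
      ← LinearMap.lTensor_comp]
    congr 2
    ext ⟨⟨b, c⟩, hbc⟩
    exact hbc
  constructor
  · intro z z' hzz'
    simp only [Prod.mk.injEq] at hzz'
    rw [← sub_eq_zero]
    have e1 : φ₁ (z - z') = 0 := by rw [map_sub, hzz'.1, sub_self]
    have e2 : φ₂ (z - z') = 0 := by rw [map_sub, hzz'.2, sub_self]
    obtain ⟨w, hw⟩ := (hE (z - z')).mp e2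
    rw [← hw, h1] at e1
    have : w = 0 := hJ (by rw [e1, map_zero])
    rw [← hw, this, map_zero]
  · intro x y hxy
    obtain ⟨z₁, hz₁⟩ := LinearMap.lTensor_surjective S hp₂ y
    have hz₁' : φ₂ z₁ = y := hz₁
    have e1 : f.toLinearMap.lTensor S (x - φ₁ z₁) = 0 := by
      rw [map_sub]
      have := h3 z₁
      rw [hz₁', ← hxy] at this
      rw [sub_eq_zero]
      exact this.symm
    obtain ⟨w, hw⟩ := (hE' (x - φ₁ z₁)).mp e1
    refine ⟨z₁ + j.lTensor S w, ?_, ?_⟩
    · rw [map_add, h1, hw]; abel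
    · rw [map_add, h2, hz₁', add_zero]


/-- Let f : B' → B be a surjective map of R-algebras with kernel J, g : C → B a map of R-algebras, P =
B' ×_B C their fibre product (the equalizer of f ∘ pr₁ and g ∘ pr₂ in B' × C) and S an R-algebra
such that S ⊗_R J → S ⊗_R B' is injective (this holds when Tor_1^R(B, S) = 0, the published
hypothesis, and in particular when S is flat). Then the canonical map S ⊗_R P → (S ⊗_R B') ×_{S ⊗_R
B} (S ⊗_R C) is bijective: it is injective, and every pair with the same image in S ⊗_R B comes from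
S ⊗_R P. -/
theorem result (R B' B C S : Type u) [CommRing R] [CommRing B'] [CommRing B] [CommRing C]
    [CommRing S] [Algebra R B'] [Algebra R B] [Algebra R C] [Algebra R S]
    (f : B' →ₐ[R] B) (hf : Function.Surjective f) (g : C →ₐ[R] B)
    (hJ : Function.Injective (LinearMap.lTensor S (LinearMap.ker f.toLinearMap).subtype)) :
    letI P := AlgHom.equalizer (f.comp (AlgHom.fst R B' C)) (g.comp (AlgHom.snd R B' C))
    letI φ₁ := Algebra.TensorProduct.map (AlgHom.id R S) ((AlgHom.fst R B' C).comp P.val)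
    letI φ₂ := Algebra.TensorProduct.map (AlgHom.id R S) ((AlgHom.snd R B' C).comp P.val)
    Function.Injective (fun z : S ⊗[R] ↥P => (φ₁ z, φ₂ z)) ∧
    ∀ (x : S ⊗[R] B') (y : S ⊗[R] C),
      Algebra.TensorProduct.map (AlgHom.id R S) f x = Algebra.TensorProduct.map (AlgHom.id R S) g y →
        ∃ z : S ⊗[R] ↥P, φ₁ z = x ∧ φ₂ z = y := by
  exact main R B' B C S f hf g hJ

end Groth.Agent.S3209
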