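import Groth.Statements.S3213
import Mathlib.LinearAlgebra.LinearIndependent.Lemmas
import Mathlib.LinearAlgebra.Dimension.Finite
import Mathlib.LinearAlgebra.FiniteDimensional.Lemmas

set_option autoImplicit false
universe u v
open SGA7II

namespace Groth.Agent.S3213
open Polynomial

theorem exists_relation {k : Type u} {V : Type v} [Field k] [AddCommGroup V] [Module k V]
    [FiniteDimensional k V] (f : ℕ → V) :
    ∃ d : ℕ, ∃ a : ℕ → k, f d = ∑ i ∈ Finset.range d, a i • f i := by
  by_contra h
  push Not at h
  have key : ∀ d : ℕ, LinearIndependent k (fun i : Fin d => f i) := by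
    intro d
    induction d with
    | zero => exact linearIndependent_empty_type
    | succ d ih =>
      have : (fun i : Fin (d + 1) => f i) = Fin.snoc (fun i : Fin d => f i) (f d) := by
        funext i
        refine Fin.lastCases ?_ (fun j => ?_) i
        · simp
        · simp
      rw [this, linearIndependent_finSnoc]
      refine ⟨ih, fun hmem => ?_⟩
      rw [Submodule.mem_span_range_iff_exists_fun] at hmem
      obtain ⟨c, hc⟩ := hmem
      apply h d (fun i => if hi : i < d then c ⟨i, hi⟩ else 0)
      rw [← hc, Finset.sum_range]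
      refine Finset.sum_congr rfl fun i _ => ?_
      simp
  have := (key (Module.finrank k V + 1)).fintype_card_le_finrank
  simp at this

section poly

variable {k : Type u} [Field k] (p : ℕ) [Fact p.Prime] [CharP k p] (r : ℕ) (a : ℕ → k)

/-- the polynomials `X_i`. -/
noncomputable def XX : ℕ → k[X]
  | 0 => 1 + C (a 0) * X ^ (p ^ r)
  | (i + 1) => (XX i) ^ (p ^ r) + C (a (i + 1)) * X ^ (p ^ r)

omit [Fact p.Prime] in
theorem cast_p_eq_zero : ((p : ℕ) : k[X]) = 0 := by
  rw [← map_natCast (C : k →+* k[X]), CharP.cast_eq_zero k p, map_zero]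

omit [Fact p.Prime] in
theorem cast_q_eq_zero (hr : 0 < r) : ((p ^ r : ℕ) : k[X]) = 0 := by
  rw [Nat.cast_pow, cast_p_eq_zero, zero_pow hr.ne']

omit [Fact p.Prime] in
theorem derivative_X_pow_q (hr : 0 < r) : derivative ((X : k[X]) ^ (p ^ r)) = 0 := by
  rw [derivative_X_pow, map_natCast, cast_q_eq_zero p r hr, zero_mul]

omit [Fact p.Prime] in
theorem derivative_XX (hr : 0 < r) (i : ℕ) : derivative (XX p r a i) = 0 := by
  cases i with
  | zero =>
    rw [XX, derivative_add, derivative_one, derivative_mul, derivative_C, derivative_X_pow_q p r hr]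
    simp
  | succ i =>
    rw [XX, derivative_add, derivative_mul, derivative_C, derivative_X_pow_q p r hr, derivative_pow,
      map_natCast, cast_q_eq_zero p r hr]
    simp

omit [Fact p.Prime] in
theorem exists_fixed (hr : 0 < r) [IsSepClosed k] (i : ℕ) : ∃ t : k, eval t (XX p r a i) = t := by
  have hder : derivative (X - XX p r a i) = 1 := by
    rw [derivative_sub, derivative_X, derivative_XX p r a hr, sub_zero]
  have hsep : (X - XX p r a i).Separable := by
    rw [separable_def, hder]; exact isCoprime_one_right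
  have hdeg : (X - XX p r a i).degree ≠ 0 := by
    intro h
    rw [eq_C_of_degree_eq_zero h, derivative_C] at hder
    exact zero_ne_one hder
  obtain ⟨t, ht⟩ := IsSepClosed.exists_root _ hdeg hsep
  refine ⟨t, ?_⟩
  rw [IsRoot, eval_sub, eval_X, sub_eq_zero] at ht
  exact ht.symm

end poly

theorem main (k : Type u) [Field k] [IsSepClosed k] (p : ℕ) [Fact p.Prime] [CharP k p]
    (r : ℕ) (hr : 0 < r) (V : Type v) [AddCommGroup V] [Module k V] [FiniteDimensional k V]
    (φ : V →+ V) (hφ : ∀ (c : k) (v : V), φ (c • v) = c ^ (p ^ r) • φ v) :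
    Function.Surjective (fun v : V => v - φ v) := by
  intro w
  obtain ⟨d, a, hda⟩ := exists_relation (k := k) (fun i => φ^[i] w)
  cases d with
  | zero =>
    simp only [Function.iterate_zero, id_eq, Finset.range_zero, Finset.sum_empty] at hda
    exact ⟨0, by simp [hda]⟩
  | succ d =>
    obtain ⟨t, ht⟩ := exists_fixed p r a hr d
    obtain ⟨x, hx⟩ : ∃ x : ℕ → k, x = fun i => eval t (XX p r a i) := ⟨_, rfl⟩
    have hx0 : x 0 = 1 + a 0 * t ^ (p ^ r) := by simp [hx, XX]
    have hxs : ∀ i, x (i + 1) = (x i) ^ (p ^ r) + a (i + 1) * t ^ (p ^ r) := by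
      intro i; simp [hx, XX]
    have hxd : x d = t := by rw [hx]; exact ht
    refine ⟨∑ i ∈ Finset.range (d + 1), x i • φ^[i] w, ?_⟩
    show (∑ i ∈ Finset.range (d + 1), x i • φ^[i] w) -
      φ (∑ i ∈ Finset.range (d + 1), x i • φ^[i] w) = w
    rw [map_sum]
    have h1 : ∀ i, φ (x i • φ^[i] w) = (x i) ^ (p ^ r) • φ^[i + 1] w := by
      intro i; rw [hφ, Function.iterate_succ_apply']
    simp only [h1]
    rw [Finset.sum_range_succ' (fun i => x i • φ^[i] w),
      Finset.sum_range_succ (fun i => x i ^ (p ^ r) • φ^[i + 1] w)]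
    rw [hda, Finset.sum_range_succ' (fun i => a i • φ^[i] w)]
    simp only [hxs, hx0, hxd, Function.iterate_zero, id_eq]
    simp only [add_smul, mul_smul, Finset.sum_add_distrib, Finset.smul_sum, smul_add, one_smul]
    have h2 : ∀ i, a (i + 1) • t ^ (p ^ r) • φ^[i + 1] w = t ^ (p ^ r) • a (i + 1) • φ^[i + 1] w :=
      fun i => smul_comm _ _ _
    have h3 : a 0 • t ^ (p ^ r) • w = t ^ (p ^ r) • a 0 • w := smul_comm _ _ _
    simp only [h2, h3]
    abel


/-- Let k be a separably closed field of characteristic p > 0, q = p^r (r >= 1), V a finite-dimensional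
k-vector space and phi : V -> V additive with phi(c v) = c^q phi(v). Then the additive map v |-> v -
phi(v) is surjective. -/
theorem result (k : Type u) [Field k] [IsSepClosed k] (p : ℕ) [Fact p.Prime] [CharP k p]
    (r : ℕ) (hr : 0 < r) (V : Type v) [AddCommGroup V] [Module k V] [FiniteDimensional k V] (φ : V →+ V)
    (hφ : ∀ (c : k) (v : V), φ (c • v) = c ^ (p ^ r) • φ v) :
    Function.Surjective (fun v : V => v - φ v) := by
  exact main k p r hr V φ hφ

end Groth.Agent.S3213
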