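import Groth.Statements.S3214
import Mathlib.RingTheory.Polynomial.Vieta
import Mathlib.Algebra.Polynomial.RingDivision

set_option autoImplicit false
open Polynomial
universe u
open SGA7II

namespace Groth.Agent.S3214

theorem P_eq (a : ℕ) :
    (∏ i : Fin a, (X - C (MvPolynomial.X i)) : (MvPolynomial (Fin a) ℤ)[X]) =
      ∑ i ∈ Finset.range (a + 1),
        (-1) ^ i * (C (MvPolynomial.esymm (Fin a) ℤ i) * X ^ (a - i)) := by
  let s := Finset.univ.val.map fun i : Fin a => (MvPolynomial.X i : MvPolynomial (Fin a) ℤ)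
  have hcard : a = Multiset.card s := by
    rw [Multiset.card_map]
    simp
  have h := Multiset.prod_X_sub_X_eq_sum_esymm s
  rw [← hcard] at h
  simp_rw [MvPolynomial.esymm_eq_multiset_esymm (Fin a) ℤ, Finset.prod_eq_multiset_prod]
  convert h using 2
  simp_rw [s, Multiset.map_map, Function.comp_apply]

theorem P_monic (a : ℕ) :
    (∏ i : Fin a, (X - C (MvPolynomial.X i)) : (MvPolynomial (Fin a) ℤ)[X]).Monic :=
  monic_prod_of_monic _ _ fun _ _ => monic_X_sub_C _

theorem P_natDegree (a : ℕ) :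
    (∏ i : Fin a, (X - C (MvPolynomial.X i)) : (MvPolynomial (Fin a) ℤ)[X]).natDegree = a := by
  rw [natDegree_prod_of_monic _ _ fun i _ => monic_X_sub_C _]
  simp

theorem X_pow_mod (a e : ℕ) (he : e < a) :
    ((X : (MvPolynomial (Fin a) ℤ)[X]) ^ e %ₘ ∏ i : Fin a, (X - C (MvPolynomial.X i))) = X ^ e := by
  rw [modByMonic_eq_self_iff (P_monic a)]
  rw [degree_eq_natDegree (P_monic a).ne_zero, P_natDegree, degree_X_pow]
  exact_mod_cast he

theorem main (a : ℕ) (ha : 0 < a) :
    let P : (MvPolynomial (Fin a) ℤ)[X] := ∏ i : Fin a, (X - C (MvPolynomial.X i))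
    let coef : ℤ → MvPolynomial (Fin a) ℤ := fun j =>
      if j < 0 then 0 else ((X : (MvPolynomial (Fin a) ℤ)[X]) ^ (a - 1 + j.toNat) %ₘ P).coeff (a - 1)
    coef 0 = 1 ∧ ∀ j : ℕ, 0 < j →
      (∑ i ∈ Finset.range (a + 1), (-1 : MvPolynomial (Fin a) ℤ) ^ i * MvPolynomial.esymm (Fin a) ℤ i *
        coef ((j : ℤ) - i)) = 0 := by
  intro P coef
  constructor
  · show (if (0 : ℤ) < 0 then 0 else ((X : (MvPolynomial (Fin a) ℤ)[X]) ^ (a - 1 + (0 : ℤ).toNat) %ₘ P).coeff (a - 1)) = 1
    rw [if_neg (lt_irrefl _)]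
    simp only [Int.toNat_zero, add_zero]
    rw [X_pow_mod a (a - 1) (by omega), coeff_X_pow, if_pos rfl]
  · intro j hj
    have h0 : (X ^ (j - 1) * P) %ₘ P = 0 := by
      rw [modByMonic_eq_zero_iff_dvd (P_monic a)]
      exact dvd_mul_left _ _
    have h1 : X ^ (j - 1) * P = ∑ i ∈ Finset.range (a + 1),
        ((-1) ^ i * MvPolynomial.esymm (Fin a) ℤ i) • (X : (MvPolynomial (Fin a) ℤ)[X]) ^ (a - i + (j - 1)) := by
      show X ^ (j - 1) * (∏ i : Fin a, (X - C (MvPolynomial.X i))) = _
      rw [P_eq, Finset.mul_sum]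
      refine Finset.sum_congr rfl fun i _ => ?_
      rw [smul_eq_C_mul, map_mul, map_pow, map_neg, map_one, pow_add]
      ring
    have h2 : ∑ i ∈ Finset.range (a + 1),
        ((-1) ^ i * MvPolynomial.esymm (Fin a) ℤ i) •
          (((X : (MvPolynomial (Fin a) ℤ)[X]) ^ (a - i + (j - 1)) %ₘ P).coeff (a - 1)) = 0 := by
      have := congrArg (fun q => q.coeff (a - 1)) h0
      simp only [coeff_zero] at this
      rw [h1] at this
      rw [← this]
      have hlin : ∀ q : (MvPolynomial (Fin a) ℤ)[X], q %ₘ P = modByMonicHom P q := fun q => rfl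
      rw [hlin, map_sum, finsetSum_coeff]
      refine Finset.sum_congr rfl fun i _ => ?_
      rw [map_smul, coeff_smul]
      rfl
    rw [← h2]
    refine Finset.sum_congr rfl fun i hi => ?_
    rw [Finset.mem_range] at hi
    rw [smul_eq_mul]
    congr 1
    show (if ((j : ℤ) - i) < 0 then 0 else ((X : (MvPolynomial (Fin a) ℤ)[X]) ^ (a - 1 + ((j : ℤ) - i).toNat) %ₘ P).coeff (a - 1)) = _
    by_cases hji : (j : ℤ) - i < 0
    · rw [if_pos hji]
      have hlt : a - i + (j - 1) < a - 1 := by omega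
      rw [X_pow_mod a _ (by omega), coeff_X_pow, if_neg (by omega)]
    · rw [if_neg hji]
      have : a - 1 + ((j : ℤ) - i).toNat = a - i + (j - 1) := by omega
      rw [this]


/-- In the recursive form established in its proof: let A = Z[X_1, ..., X_a] (a >= 1), P = prod_i (T -
X_i) in A[T] and S_i the i-th elementary symmetric function. Writing a_j for the coefficient of
T^{a-1} in the remainder of T^{a-1+j} modulo P, one has a_0 = 1 and sum_{i=0}^{a} (-1)^i S_i a_{j-i}
= 0 for every j > 0 (with a_m = 0 for m < 0); equivalently sum_j (-1)^j a_j is the inverse of sum_i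
S_i. (The source works in formal power series; the identity involves only polynomials.) -/
theorem result (a : ℕ) (ha : 0 < a) :
    let P : (MvPolynomial (Fin a) ℤ)[X] := ∏ i : Fin a, (X - C (MvPolynomial.X i))
    let coef : ℤ → MvPolynomial (Fin a) ℤ := fun j =>
      if j < 0 then 0 else ((X : (MvPolynomial (Fin a) ℤ)[X]) ^ (a - 1 + j.toNat) %ₘ P).coeff (a - 1)
    coef 0 = 1 ∧ ∀ j : ℕ, 0 < j →
      (∑ i ∈ Finset.range (a + 1), (-1 : MvPolynomial (Fin a) ℤ) ^ i * MvPolynomial.esymm (Fin a) ℤ i *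
        coef ((j : ℤ) - i)) = 0 := by
  exact main a ha

end Groth.Agent.S3214
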