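import Groth.Statements.S3244
-- import your own Groth.Agent.* helpers here
import Groth.Agent.S0108
import Mathlib.Algebra.Homology.DerivedCategory.Ext.ExactSequences
import Mathlib.AlgebraicGeometry.ResidueField

set_option autoImplicit false
universe u
open CategoryTheory AlgebraicGeometry
open Dix

namespace Groth.Agent.S3244

open CategoryTheory.Limits Abelian

lemma isUnit_natCast_of_invertibleOn (X : Scheme.{u}) (n : ℕ) (hX : Dix.InvertibleOn X n) :
    IsUnit (n : Γ(X, ⊤)) := by
  apply X.toLocallyRingedSpace.toRingedSpace.isUnit_of_isUnit_germ ⊤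
  intro x hx
  have h1 : X.evaluation ⊤ x trivial (n : Γ(X, ⊤)) ≠ 0 := by
    rw [map_natCast]
    exact hX x
  have h2 := (X.evaluation_ne_zero_iff_mem_basicOpen (U := ⊤) x trivial (n : Γ(X, ⊤))).1 h1
  exact (X.mem_basicOpen_top _ x).1 h2

/-- the Kummer short exact sequence -/
noncomputable def kummer (X : Scheme.{u}) (n : ℕ) : ShortComplex (EtCoh.Ab X) :=
  ShortComplex.mk (EtCoh.muι X n) (EtCoh.powMap X n) (kernel.condition _)

lemma kummer_shortExact (X : Scheme.{u}) (n : ℕ) (h : IsUnit (n : Γ(X, ⊤))) :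
    (kummer X n).ShortExact := by
  haveI : Epi (EtCoh.powMap X n) := Groth.Agent.S0108.result X n h
  exact
    { exact := ShortComplex.exact_kernel (EtCoh.powMap X n)
      mono_f := inferInstanceAs (Mono (kernel.ι _))
      epi_g := inferInstanceAs (Epi (EtCoh.powMap X n)) }

lemma comp_mk₀_nsmul {C : Type*} [Category C] [Abelian C] [HasExt C] {A B B' : C} {i : ℕ}
    (ξ : Ext A B i) (f : B ⟶ B') (n : ℕ) :
    ξ.comp (Ext.mk₀ (n • f)) (add_zero i) = n • ξ.comp (Ext.mk₀ f) (add_zero i) := by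
  induction n with
  | zero => rw [zero_smul, zero_smul, Ext.mk₀_zero, Ext.comp_zero]
  | succ n ih => rw [succ_nsmul, succ_nsmul, Ext.mk₀_add, Ext.comp_add, ih]

lemma HF_map_powMap (X : Scheme.{u}) (n i : ℕ) (ξ : EtCoh.H X (EtCoh.Gm X) i) :
    ξ.comp (Ext.mk₀ (EtCoh.powMap X n)) (add_zero i) = n • ξ := by
  change ξ.comp (Ext.mk₀ (n • 𝟙 (EtCoh.Gm X))) (add_zero i) = _
  rw [comp_mk₀_nsmul, Ext.comp_mk₀_id]

/-- Kummer theory at finite level: let n > 0 be an integer invertible on the scheme X (nonzero in every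
residue field). Then for every i ≥ 1 the image of H^i(X_ét, μ_n) → H^i(X_ét, G_m), induced by the
inclusion μ_n → G_m, is exactly the subgroup of elements of H^i(X_ét, G_m) killed by n; in
particular H²(X_ét, μ_n) maps onto the n-torsion of the cohomological Brauer group H²(X_ét, G_m).
(The published statement gives exact sequences obtained as the colimit of these over the powers n =
ℓ^m of a prime ℓ.) -/
theorem result (X : Scheme.{u}) (n : ℕ) (hn : 0 < n) (hX : Dix.InvertibleOn X n) (i : ℕ) (hi : 1 ≤ i) : Set.range ⇑((EtCoh.HF X i).map (EtCoh.muι X n)) = {ξ : (EtCoh.HF X i).obj (EtCoh.Gm X) | n • ξ = 0} := by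
  have hunit := isUnit_natCast_of_invertibleOn X n hX
  have hS := kummer_shortExact X n hunit
  ext ξ
  simp only [Set.mem_range, Set.mem_setOf_eq]
  constructor
  · rintro ⟨η, rfl⟩
    change n • ((η : EtCoh.H X (EtCoh.mu X n) i).comp (Ext.mk₀ (EtCoh.muι X n)) (add_zero i)) = 0
    rw [← HF_map_powMap, Ext.comp_assoc_of_third_deg_zero, Ext.mk₀_comp_mk₀]
    have : EtCoh.muι X n ≫ EtCoh.powMap X n = 0 := kernel.condition _
    rw [this, Ext.mk₀_zero, Ext.comp_zero]
  · intro h
    have h2 : (ξ : EtCoh.H X (EtCoh.Gm X) i).comp (Ext.mk₀ (kummer X n).g) (add_zero i) = 0 := by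
      change (ξ : EtCoh.H X (EtCoh.Gm X) i).comp (Ext.mk₀ (EtCoh.powMap X n)) (add_zero i) = 0
      rw [HF_map_powMap]
      exact h
    obtain ⟨η, hη⟩ := Ext.covariant_sequence_exact₂ _ hS (ξ : EtCoh.H X (EtCoh.Gm X) i) h2
    exact ⟨η, hη⟩


end Groth.Agent.S3244
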