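import Groth.Statements.S3245
import Groth.Agent.S19588
import Groth.Agent.Lib.Helper17.AzumayaFam
import Groth.Agent.Lib.Helper17.AzumayaField

set_option autoImplicit false
universe u
open TensorProduct
open Dix

namespace Groth.Agent.S3245

/-- (i) ⇔ (ii) over a local base: let R be a local ring with residue field k and A an R-algebra which is
finite and free as an R-module and nonzero. Then A is an Azumaya R-algebra (A ⊗_R A° → End_R(A)
bijective) if and only if k ⊗_R A is a central simple k-algebra. -/
theorem result (R : Type u) [CommRing R] [IsLocalRing R] (A : Type u) [Ring A] [Algebra R A] [Module.Finite R A] [Module.Free R A] [Nontrivial A] : IsAzumaya R A ↔ (Algebra.IsCentral (IsLocalRing.ResidueField R) ((IsLocalRing.ResidueField R) ⊗[R] A) ∧ IsSimpleRing ((IsLocalRing.ResidueField R) ⊗[R] A)) := by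
  constructor
  · intro h
    have := Groth.Agent.S19588.result R (IsLocalRing.ResidueField R) A
    exact Groth.Agent.Lib.Helper17.AzumayaField.csa_of_isAzumaya _ _
  · rintro ⟨hc, hs⟩
    have hAz : IsAzumaya (IsLocalRing.ResidueField R) ((IsLocalRing.ResidueField R) ⊗[R] A) :=
      Groth.Agent.Lib.Helper17.AzumayaField.isAzumaya_of_csa _ _
    have h1 : Function.Bijective
        ((AlgHom.mulLeftRight R A).toLinearMap.lTensor (IsLocalRing.ResidueField R)) :=
      (Groth.Agent.Lib.Helper17.AzumayaBC.bijective_iff R (IsLocalRing.ResidueField R) A).mp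
        IsAzumaya.bij
    have Hc : ∀ I : Ideal R, (∀ _ : Unit,
        I.map (algebraMap R (IsLocalRing.ResidueField R)) = ⊤) → I = ⊤ := by
      intro I hI
      by_contra hne
      have hle : I ≤ IsLocalRing.maximalIdeal R := IsLocalRing.le_maximalIdeal hne
      have h2 : I.map (algebraMap R (IsLocalRing.ResidueField R)) ≤ ⊥ := by
        rw [Ideal.map_le_iff_le_comap]
        intro x hx
        rw [Ideal.mem_comap, Ideal.mem_bot]
        exact (IsLocalRing.residue_eq_zero_iff x).mpr (hle hx)
      rw [hI ()] at h2
      exact absurd (le_bot_iff.mp h2) top_ne_bot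
    have hfin : Module.Finite R (Module.End R A) :=
      Groth.Agent.Lib.Helper17.AzumayaBC.finite_end R A
    have hproj : Module.Projective R (Module.End R A) :=
      Groth.Agent.Lib.Helper17.AzumayaBC.projective_end R A
    have hbij : Function.Bijective (AlgHom.mulLeftRight R A) :=
      Groth.Agent.Lib.Helper17.AzumayaFam.bijective_of_lTensor_bijective
        (fun _ : Unit => IsLocalRing.ResidueField R) Hc
        (AlgHom.mulLeftRight R A).toLinearMap (fun _ => h1)
    exact { bij := hbij }

end Groth.Agent.S3245
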