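import Groth.Statements.S3246
-- import your own Groth.Agent.* helpers here
import Groth.Agent.S3244

set_option autoImplicit false
universe u
open CategoryTheory AlgebraicGeometry
open Dix

namespace Groth.Agent.S3246

open CategoryTheory.Limits Abelian Opposite

/-- abstract torsion-vanishing lemma: multiplication by `m` on `Ext^i(A, G)` is injective for
`i > n + 1` when `Ext^q(A, T) = 0` for `q > n` and all `T` killed by `m`. -/
lemma eq_zero_of_nsmul_eq_zero {C : Type*} [Category C] [Abelian C] [HasExt C] (A G : C) (m n : ℕ)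
    (hT : ∀ T : C, m • 𝟙 T = 0 → ∀ q, n < q → Subsingleton (Ext A T q))
    (i : ℕ) (hi : n + 1 < i) (ξ : Ext A G i) (hξ : m • ξ = 0) : ξ = 0 := by
  let φ : G ⟶ G := m • 𝟙 G
  let p : G ⟶ Abelian.image φ := Abelian.factorThruImage φ
  let j : Abelian.image φ ⟶ G := Abelian.image.ι φ
  have hpj : p ≫ j = φ := Abelian.image.fac φ
  -- second sequence `0 → Im → G → coker j → 0`
  let S2 : ShortComplex C := ShortComplex.mk j (cokernel.π j) (cokernel.condition j)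
  have hS2 : S2.ShortExact :=
    { exact := ShortComplex.exact_cokernel j
      mono_f := inferInstanceAs (Mono (Abelian.image.ι φ))
      epi_g := inferInstanceAs (Epi (cokernel.π j)) }
  have hC : m • 𝟙 (cokernel j) = 0 := by
    rw [← cancel_epi (cokernel.π j), Preadditive.comp_nsmul, Category.comp_id, comp_zero]
    have : m • cokernel.π j = φ ≫ cokernel.π j := by
      change _ = (m • 𝟙 G) ≫ _
      rw [Preadditive.nsmul_comp, Category.id_comp]
    rw [this]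
    calc φ ≫ cokernel.π j = (p ≫ j) ≫ cokernel.π j := by rw [hpj]
      _ = 0 := by rw [Category.assoc, cokernel.condition, comp_zero]
  -- first sequence `0 → ker p → G → Im → 0`
  let S1 : ShortComplex C := ShortComplex.mk (kernel.ι p) p (kernel.condition p)
  have hS1 : S1.ShortExact :=
    { exact := ShortComplex.exact_kernel p
      mono_f := inferInstanceAs (Mono (kernel.ι p))
      epi_g := inferInstanceAs (Epi (Abelian.factorThruImage φ)) }
  have hK : m • 𝟙 (kernel p) = 0 := by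
    rw [← cancel_mono (kernel.ι p), Preadditive.nsmul_comp, Category.id_comp, zero_comp]
    have : m • kernel.ι p = kernel.ι p ≫ φ := by
      change _ = _ ≫ (m • 𝟙 G)
      rw [Preadditive.comp_nsmul, Category.comp_id]
    rw [this]
    calc kernel.ι p ≫ φ = kernel.ι p ≫ (p ≫ j) := by rw [hpj]
      _ = 0 := by rw [← Category.assoc, kernel.condition, zero_comp]
  have h0 : ξ.comp (Ext.mk₀ φ) (add_zero i) = 0 := by
    rw [Groth.Agent.S3244.comp_mk₀_nsmul, Ext.comp_mk₀_id]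
    exact hξ
  have h1 : (ξ.comp (Ext.mk₀ p) (add_zero i)).comp (Ext.mk₀ j) (add_zero i) = 0 := by
    rw [Ext.comp_assoc_of_third_deg_zero, Ext.mk₀_comp_mk₀, hpj]
    exact h0
  obtain ⟨i', rfl⟩ : ∃ i', i = i' + 1 := ⟨i - 1, by omega⟩
  have h2 : ξ.comp (Ext.mk₀ p) (add_zero (i' + 1)) = 0 := by
    obtain ⟨x₃, hx₃⟩ := Ext.covariant_sequence_exact₁ A hS2 (ξ.comp (Ext.mk₀ p) (add_zero (i' + 1))) h1 rfl
    haveI := hT (cokernel j) hC i' (by omega)
    rw [← hx₃, Subsingleton.elim x₃ 0, Ext.zero_comp]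
  obtain ⟨x₁, hx₁⟩ := Ext.covariant_sequence_exact₂ A hS1 ξ h2
  haveI := hT (kernel p) hK (i' + 1) (by omega)
  rw [← hx₁, Subsingleton.elim x₁ 0, Ext.zero_comp]

/-- a sheaf killed by `ℓ^k` is `ℓ`-primary torsion -/
lemma isPrimaryTorsion_of_killed {X : Scheme.{u}} (ℓ k : ℕ) (T : EtCoh.Ab X)
    (hT : (ℓ ^ k) • 𝟙 T = 0) : Dix.IsPrimaryTorsion ℓ T := by
  intro U s x
  refine ⟨U, 𝟙 U, ⟨x, rfl⟩, k, ?_⟩
  have h1 : ((ℓ ^ k) • 𝟙 T : T ⟶ T).hom = (ℓ ^ k) • (𝟙 T : T ⟶ T).hom :=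
    (sheafToPresheaf _ _).map_nsmul
  have h2 : ((ℓ ^ k) • 𝟙 T : T ⟶ T).hom.app (op U) s = (ℓ ^ k) • s := by
    rw [h1, NatTrans.app_nsmul]
    rfl
  rw [hT] at h2
  have h3 : T.obj.map (𝟙 U).op s = s := by
    rw [op_id, T.obj.map_id]
    rfl
  rw [h3, ← h2]
  rfl

/-- Let X be a scheme, ℓ a prime and n an integer with cd_ℓ(X) ≤ n (étale cohomology of ℓ-primary
torsion sheaves vanishes above degree n). Then the ℓ-primary torsion of H^i(X_ét, G_m) is zero for i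
> n + 1; if moreover ℓ is invertible on X, it is zero for i > n. -/
theorem result (X : Scheme.{u}) (ℓ : ℕ) (hℓ : ℓ.Prime) (n : ℕ) (hcd : Dix.CohDimLEAt X ℓ n) : (∀ i : ℕ, n + 1 < i → ∀ ξ : EtCoh.H X (EtCoh.Gm X) i, (∃ k : ℕ, ℓ ^ k • ξ = 0) → ξ = 0) ∧ (Dix.InvertibleOn X ℓ → ∀ i : ℕ, n < i → ∀ ξ : EtCoh.H X (EtCoh.Gm X) i, (∃ k : ℕ, ℓ ^ k • ξ = 0) → ξ = 0) := by
  have hvan : ∀ k : ℕ, ∀ T : EtCoh.Ab X, (ℓ ^ k) • 𝟙 T = 0 → ∀ q, n < q →
      Subsingleton (Ext (EtCoh.const X ℤ) T q) := fun k T hT q hq =>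
    hcd T (isPrimaryTorsion_of_killed ℓ k T hT) q hq
  refine ⟨?_, ?_⟩
  · rintro i hi ξ ⟨k, hk⟩
    exact eq_zero_of_nsmul_eq_zero (EtCoh.const X ℤ) (EtCoh.Gm X) (ℓ ^ k) n (hvan k) i hi ξ hk
  · rintro hinv i hi ξ ⟨k, hk⟩
    have hinv' : Dix.InvertibleOn X (ℓ ^ k) := by
      intro x
      rw [Nat.cast_pow]
      exact pow_ne_zero _ (hinv x)
    have hunit := Groth.Agent.S3244.isUnit_natCast_of_invertibleOn X (ℓ ^ k) hinv'
    have hS := Groth.Agent.S3244.kummer_shortExact X (ℓ ^ k) hunit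
    have h2 : (ξ : EtCoh.H X (EtCoh.Gm X) i).comp (Ext.mk₀ (Groth.Agent.S3244.kummer X (ℓ ^ k)).g)
        (add_zero i) = 0 := by
      change (ξ : EtCoh.H X (EtCoh.Gm X) i).comp (Ext.mk₀ (EtCoh.powMap X (ℓ ^ k))) (add_zero i) = 0
      rw [Groth.Agent.S3244.HF_map_powMap]
      exact hk
    obtain ⟨η, hη⟩ := Ext.covariant_sequence_exact₂ _ hS (ξ : EtCoh.H X (EtCoh.Gm X) i) h2
    have hμ : (ℓ ^ k) • 𝟙 (EtCoh.mu X (ℓ ^ k)) = 0 := by
      haveI : Mono (EtCoh.muι X (ℓ ^ k)) := inferInstanceAs (Mono (kernel.ι _))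
      rw [← cancel_mono (EtCoh.muι X (ℓ ^ k)), Preadditive.nsmul_comp, Category.id_comp, zero_comp]
      have : (ℓ ^ k) • EtCoh.muι X (ℓ ^ k) = EtCoh.muι X (ℓ ^ k) ≫ EtCoh.powMap X (ℓ ^ k) := by
        change _ = _ ≫ ((ℓ ^ k) • 𝟙 (EtCoh.Gm X))
        rw [Preadditive.comp_nsmul, Category.comp_id]
      rw [this]
      exact kernel.condition _
    haveI : Subsingleton (Ext (EtCoh.const X ℤ) (Groth.Agent.S3244.kummer X (ℓ ^ k)).X₁ i) :=
      hvan k _ hμ i hi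
    rw [← hη, Subsingleton.elim η 0, Ext.zero_comp]
    rfl


end Groth.Agent.S3246
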