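import Groth.Statements.S5719
import Groth.Agent.S19588
import Groth.Agent.Lib.Helper17.AzumayaFam
import Groth.Agent.Lib.Helper17.AzumayaField

set_option autoImplicit false
universe u v
open TensorProduct
open Dix

namespace Groth.Agent.S5719

/-- (i) ⇔ (ii), over an affine base. Let R be a commutative ring and A an R-algebra whose underlying
module is finite and projective (locally free of finite type). Then A ⊗_R A° → End_R(A) is bijective
with A faithful, i.e. A is an Azumaya algebra over R, if and only if every fibre κ(p) ⊗_R A, p a
prime ideal of R, is a central simple algebra over the residue field κ(p). -/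
theorem result (R : Type u) [CommRing R] (A : Type u) [Ring A] [Algebra R A] [Module.Finite R A] [Module.Projective R A] : IsAzumaya R A ↔ ∀ (p : Ideal R) [p.IsPrime], Algebra.IsCentral p.ResidueField (p.ResidueField ⊗[R] A) ∧ IsSimpleRing (p.ResidueField ⊗[R] A) := by
  constructor
  · intro h p hp
    have := Groth.Agent.S19588.result R p.ResidueField A
    exact Groth.Agent.Lib.Helper17.AzumayaField.csa_of_isAzumaya _ _
  · intro h
    have hAz : ∀ x : PrimeSpectrum R,
        IsAzumaya x.asIdeal.ResidueField (x.asIdeal.ResidueField ⊗[R] A) := by
      intro x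
      obtain ⟨hc, hs⟩ := h x.asIdeal
      exact Groth.Agent.Lib.Helper17.AzumayaField.isAzumaya_of_csa _ _
    have h1 : ∀ x : PrimeSpectrum R, Function.Bijective
        ((AlgHom.mulLeftRight R A).toLinearMap.lTensor x.asIdeal.ResidueField) := fun x =>
      (Groth.Agent.Lib.Helper17.AzumayaBC.bijective_iff R x.asIdeal.ResidueField A).mp
        (hAz x).bij
    have Hc : ∀ I : Ideal R, (∀ x : PrimeSpectrum R,
        I.map (algebraMap R x.asIdeal.ResidueField) = ⊤) → I = ⊤ := by
      intro I hI
      by_contra hne
      obtain ⟨m, hm, hIm⟩ := Ideal.exists_le_maximal I hne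
      have h2 : I.map (algebraMap R m.ResidueField) ≤ ⊥ := by
        rw [Ideal.map_le_iff_le_comap]
        intro x hx
        rw [Ideal.mem_comap, Ideal.mem_bot]
        exact Ideal.algebraMap_residueField_eq_zero.mpr (hIm hx)
      rw [hI ⟨m, hm.isPrime⟩] at h2
      exact absurd (le_bot_iff.mp h2) top_ne_bot
    have hfin : Module.Finite R (Module.End R A) :=
      Groth.Agent.Lib.Helper17.AzumayaBC.finite_end R A
    have hproj : Module.Projective R (Module.End R A) :=
      Groth.Agent.Lib.Helper17.AzumayaBC.projective_end R A
    have hbij : Function.Bijective (AlgHom.mulLeftRight R A) :=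
      Groth.Agent.Lib.Helper17.AzumayaFam.bijective_of_lTensor_bijective
        (fun x : PrimeSpectrum R => x.asIdeal.ResidueField) Hc
        (AlgHom.mulLeftRight R A).toLinearMap h1
    have hann : ∀ r : R, (∀ b : A, r • b = 0) → ∀ m : Ideal R, m.IsMaximal → r ∈ m := by
      intro r hr m hm
      by_contra hrm
      have hp := hm.isPrime
      obtain ⟨hc, hs⟩ := h m
      have hne : algebraMap R m.ResidueField r ≠ 0 := fun h0 =>
        hrm (Ideal.algebraMap_residueField_eq_zero.mp h0)
      have hz : ∀ z : m.ResidueField ⊗[R] A, z = 0 := by
        intro z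
        have h3 : algebraMap R m.ResidueField r • z = 0 := by
          induction z using TensorProduct.induction_on with
          | zero => simp
          | tmul s b =>
            have h4 : algebraMap R m.ResidueField r * s = r • s := (Algebra.smul_def r s).symm
            rw [TensorProduct.smul_tmul', smul_eq_mul, h4, TensorProduct.smul_tmul, hr b,
              TensorProduct.tmul_zero]
          | add x y hx hy => rw [smul_add, hx, hy, add_zero]
        have h5 := congrArg (fun w => (algebraMap R m.ResidueField r)⁻¹ • w) h3
        simp only [smul_zero] at h5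
        rwa [smul_smul, inv_mul_cancel₀ hne, one_smul] at h5
      exact one_ne_zero (hz 1)
    obtain ⟨s, hs⟩ := Groth.Agent.Lib.Helper17.AzumayaFam.exists_retraction_of_ann_le A hann
    have hfaith : FaithfulSMul R A :=
      Groth.Agent.Lib.Helper17.AzumayaFam.faithful_of_retraction A s hs
    exact { bij := hbij }

end Groth.Agent.S5719
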