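import Groth.Statements.S3248
import Groth.Agent.S5719
import Groth.Agent.S19589

set_option autoImplicit false
universe u
open TensorProduct
open Dix

namespace Groth.Agent.S3248

/-- Stated for a commutative subalgebra: let A be a central simple algebra of dimension r² over a field
k and L a commutative k-algebra embedded in A by an injective k-algebra homomorphism ι, such that A
is free of rank r for the right L-module structure a · l = a ι(l) (given here as a module structure
together with that compatibility). Then L ⊗_k A is isomorphic as an L-algebra to the matrix algebra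
M_r(L). (Only the existence of an isomorphism is stated; the text names the map a ⊗ l ↦ (y ↦ a y
l).) -/
theorem result (k : Type u) [Field k] (A : Type u) [Ring A] [Algebra k A] [Algebra.IsCentral k A] [IsSimpleRing A] [FiniteDimensional k A] (L : Type u) [CommRing L] [Algebra k L] (ι : L →ₐ[k] A) (hι : Function.Injective ι) [Module L A] (hmod : ∀ (l : L) (a : A), l • a = a * ι l) [Module.Free L A] (r : ℕ) (hr : 0 < r) (hA : Module.finrank k A = r ^ 2) (hrank : Module.finrank L A = r) : Nonempty ((L ⊗[k] A) ≃ₐ[L] Matrix (Fin r) (Fin r) L) := by
  have hst : IsScalarTower k L A := ⟨fun c l a => by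
    rw [hmod, hmod, map_smul, mul_smul_comm]⟩
  have hcomm : SMulCommClass L k A := ⟨fun l c a => by
    rw [hmod, hmod, smul_mul_assoc]⟩
  -- left multiplication as a k-algebra hom into End_L(A)
  let g : A →ₐ[k] Module.End L A :=
    { toFun := fun a =>
        { toFun := fun y => a * y
          map_add' := fun y z => mul_add a y z
          map_smul' := fun l y => by
            simp only [RingHom.id_apply, hmod, mul_assoc] }
      map_one' := by ext y; simp
      map_mul' := fun a b => by ext y; simp [mul_assoc]
      map_zero' := by ext y; simp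
      map_add' := fun a b => by ext y; simp [add_mul]
      commutes' := fun c => by
        ext y
        simp [Algebra.algebraMap_eq_smul_one] }
  have hg : ∀ a y, g a y = a * y := fun a y => rfl
  have hcm : ∀ (l : L) (a : A), Commute ((Algebra.ofId L (Module.End L A)) l) (g a) := by
    intro l a
    rw [Algebra.ofId_apply]
    exact Algebra.commutes l (g a)
  let f : L ⊗[k] A →ₐ[L] Module.End L A :=
    Algebra.TensorProduct.lift (Algebra.ofId L (Module.End L A)) g hcm
  have hf : ∀ l a y, f (l ⊗ₜ a) y = l • (a * y) := by
    intro l a y
    change (Algebra.TensorProduct.lift (Algebra.ofId L (Module.End L A)) g hcm (l ⊗ₜ a)) y = _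
    rw [Algebra.TensorProduct.lift_tmul, Algebra.ofId_apply, Module.End.mul_apply,
      Module.algebraMap_end_apply, hg]
  have hntL : Nontrivial L := by
    by_contra h
    rw [not_nontrivial_iff_subsingleton] at h
    have : ∀ a : A, a = 0 := fun a => by
      rw [← one_smul L a, Subsingleton.elim (1 : L) 0, zero_smul]
    exact one_ne_zero (this 1)
  have hAzk : IsAzumaya k A := Groth.Agent.Lib.Helper17.AzumayaField.isAzumaya_of_csa k A
  have hAzB : IsAzumaya L (L ⊗[k] A) := Groth.Agent.S19588.result k L A
  have hfinA : Module.Finite L A := Module.finite_of_finrank_pos (hrank ▸ hr)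
  have hAzB' : IsAzumaya L (Module.End L A) := Groth.Agent.S19589.result L A
  have hfib := (Groth.Agent.S5719.result L (L ⊗[k] A)).mp hAzB
  have hfib' := (Groth.Agent.S5719.result L (Module.End L A)).mp hAzB'
  have hrB : Module.finrank L (L ⊗[k] A) = r ^ 2 := by
    rw [Module.finrank_baseChange, hA]
  have hrB' : Module.finrank L (Module.End L A) = r ^ 2 := by
    rw [Module.finrank_linearMap, hrank, sq]
  have h1 : ∀ x : PrimeSpectrum L, Function.Bijective
      (f.toLinearMap.lTensor x.asIdeal.ResidueField) := by
    intro x
    obtain ⟨-, hs⟩ := hfib x.asIdeal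
    obtain ⟨-, hs'⟩ := hfib' x.asIdeal
    let fκ : x.asIdeal.ResidueField ⊗[L] (L ⊗[k] A) →ₐ[x.asIdeal.ResidueField]
        x.asIdeal.ResidueField ⊗[L] (Module.End L A) :=
      Algebra.TensorProduct.map (AlgHom.id _ _) f
    have hfκ : ∀ z, fκ z = f.toLinearMap.lTensor x.asIdeal.ResidueField z := by
      intro z
      induction z using TensorProduct.induction_on with
      | zero => simp
      | tmul s b => simp [fκ]
      | add z w hz hw => rw [map_add, map_add, hz, hw]
    have hinj : Function.Injective fκ :=
      (IsSimpleRing.injective_ringHom_or_subsingleton_codomain fκ.toRingHom).resolve_right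
        (not_subsingleton _)
    have hinj' : Function.Injective (f.toLinearMap.lTensor x.asIdeal.ResidueField) := by
      intro z w hzw
      apply hinj
      rw [hfκ, hfκ, hzw]
    have hrk : Module.finrank x.asIdeal.ResidueField (x.asIdeal.ResidueField ⊗[L] (L ⊗[k] A)) =
        Module.finrank x.asIdeal.ResidueField
          (x.asIdeal.ResidueField ⊗[L] (Module.End L A)) := by
      have e1 : Module.finrank x.asIdeal.ResidueField
          (x.asIdeal.ResidueField ⊗[L] (L ⊗[k] A)) = Module.finrank L (L ⊗[k] A) :=
        Module.finrank_baseChange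
      have e2 : Module.finrank x.asIdeal.ResidueField
          (x.asIdeal.ResidueField ⊗[L] (Module.End L A)) = Module.finrank L (Module.End L A) :=
        Module.finrank_baseChange
      rw [e1, e2, hrB, hrB']
    have hsurj : Function.Surjective fκ :=
      (LinearMap.injective_iff_surjective_of_finrank_eq_finrank (f := fκ.toLinearMap) hrk).mp hinj
    refine ⟨hinj', fun w => ?_⟩
    obtain ⟨z, hz⟩ := hsurj w
    exact ⟨z, by rw [← hfκ, hz]⟩
  have Hc : ∀ I : Ideal L, (∀ x : PrimeSpectrum L,
      I.map (algebraMap L x.asIdeal.ResidueField) = ⊤) → I = ⊤ := by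
    intro I hI
    by_contra hne
    obtain ⟨m, hm, hIm⟩ := Ideal.exists_le_maximal I hne
    have h2 : I.map (algebraMap L m.ResidueField) ≤ ⊥ := by
      rw [Ideal.map_le_iff_le_comap]
      intro x hx
      rw [Ideal.mem_comap, Ideal.mem_bot]
      exact Ideal.algebraMap_residueField_eq_zero.mpr (hIm hx)
    rw [hI ⟨m, hm.isPrime⟩] at h2
    exact absurd (le_bot_iff.mp h2) top_ne_bot
  have hbij : Function.Bijective f :=
    Groth.Agent.Lib.Helper17.AzumayaFam.bijective_of_lTensor_bijective
      (fun x : PrimeSpectrum L => x.asIdeal.ResidueField) Hc f.toLinearMap h1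
  let b : Module.Basis (Fin r) L A := Module.finBasisOfFinrankEq L A hrank
  exact ⟨(AlgEquiv.ofBijective f hbij).trans (algEquivMatrix b)⟩

end Groth.Agent.S3248
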