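import Groth.Statements.S3388
import Groth.Agent.Lib.Helper18.Chev.Main
import Groth.Agent.Lib.Helper24.FibreDim.Formula
import Groth.Agent.Lib.Helper18.GenFin

set_option autoImplicit false
open CategoryTheory AlgebraicGeometry
universe u
open EGA43

namespace Groth.Agent.S3388

/-- Let X and Y be irreducible schemes and f : X ⟶ Y a dominant morphism locally of finite type; let e
be the dimension of the fibre over the generic point of Y. Then for every point x of X the local
dimension at x of the fibre through x is at least e. -/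
theorem result {X Y : Scheme.{u}} [IrreducibleSpace X] [IrreducibleSpace Y]
    (f : X ⟶ Y) [LocallyOfFiniteType f] [IsDominant f] (x : X) :
    topologicalKrullDim ↥(f.fiber (genericPoint Y)) ≤ FlatMor.fibreDimAt f x := by
  have hf : DenseRange f.base := f.denseRange
  have hfξ : f (genericPoint ↥X) = genericPoint ↥Y :=
    Groth.Agent.Lib.Helper18.GenFin.map_genericPoint_of_dense f hf
  rw [Groth.Agent.Lib.Helper24.FibreDim.dim_fibre_generic f (genericPoint ↥Y) hfξ]
  obtain ⟨d, hd⟩ := Groth.Agent.Lib.Helper18.Chev.exists_nat_fibreDimAt f x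
  have hopen := Groth.Agent.Lib.Helper18.Chev.isOpen_fibreDimAt_le f d
  have hξ : genericPoint ↥X ∈ {x : X | FlatMor.fibreDimAt f x ≤ d} := by
    rw [(genericPoint_spec ↥X).mem_open_set_iff hopen]
    exact ⟨x, trivial, le_of_eq hd⟩
  have h1 : FlatMor.fibreDimAt f (genericPoint ↥X) ≤ d := hξ
  rw [Groth.Agent.Lib.Helper24.FibreDim.fibreDimAt_eq_tr_add_G] at h1
  rw [hd]
  refine le_trans ?_ h1
  have : ((Groth.Agent.Lib.Helper24.FibreDim.tr f (genericPoint ↥X) : ℕ) : ℕ∞) ≤
      ((Groth.Agent.Lib.Helper24.FibreDim.tr f (genericPoint ↥X) : ℕ) : ℕ∞) +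
        Groth.Agent.Lib.lead.FibreOrder.G f (genericPoint ↥X) := le_self_add
  exact_mod_cast this

end Groth.Agent.S3388
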