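import Groth.Statements.S3390
import Groth.Agent.S3388
import Groth.Agent.Lib.Helper24.FibreDim.Main3448

set_option autoImplicit false
open CategoryTheory AlgebraicGeometry
universe u
open EGA43

namespace Groth.Agent.S3390

/-- Let Y be an irreducible locally Noetherian scheme with generic point η and X an irreducible scheme,
and let f : X ⟶ Y be dominant and locally of finite type. Take a point x of X and write y = f x.
Suppose dim O_{X,x} = dim O_{Y,y} + dim O_{X_y,x}. Then the local dimension of the fibre X_y at x
(FlatMor.fibreDimAt f x) equals the dimension of the generic fibre X_η (i.e. f is equidimensional at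
x). -/
theorem result {X Y : Scheme.{u}} [IrreducibleSpace X] [IrreducibleSpace Y]
    [IsLocallyNoetherian Y] (f : X ⟶ Y) [LocallyOfFiniteType f] [IsDominant f] (x : X)
    (h : ringKrullDim (X.presheaf.stalk x) =
        ringKrullDim (Y.presheaf.stalk (f.base x)) + ringKrullDim ((f.fiber (f.base x)).presheaf.stalk (f.asFiber x))) :
    FlatMor.fibreDimAt f x = topologicalKrullDim ↥(f.fiber (genericPoint Y)) := by
  have hf : DenseRange f.base := f.denseRange
  have hfξ : f (genericPoint ↥X) = genericPoint ↥Y :=
    Groth.Agent.Lib.Helper18.GenFin.map_genericPoint_of_dense f hf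
  have hge := Groth.Agent.S3388.result f x
  apply le_antisymm _ hge
  rw [Groth.Agent.Lib.Helper24.FibreDim.dim_fibre_generic f (genericPoint ↥Y) hfξ,
    Groth.Agent.Lib.Helper24.FibreDim.fibreDimAt_eq_tr_add_G]
  have hle := Groth.Agent.Lib.Helper24.FibreDim.coheight_add_tr_le f x
  rw [ringKrullDim_stalk_eq_coheight, ringKrullDim_stalk_eq_coheight,
    Groth.Agent.Lib.lead.FibreOrder.ringKrullDim_fiber_stalk] at h
  have h' : (Order.coheight x : ℕ∞) = Order.coheight (f x) +
      Groth.Agent.Lib.lead.FibreOrder.G f x := by exact_mod_cast h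
  rw [h', add_assoc] at hle
  have hne := Groth.Agent.Lib.Helper24.FibreDim.coheight_ne_top Y (f x)
  have h2 : Groth.Agent.Lib.lead.FibreOrder.G f x +
      ((Groth.Agent.Lib.Helper24.FibreDim.tr f x : ℕ) : ℕ∞) ≤
      ((Groth.Agent.Lib.Helper24.FibreDim.tr f (genericPoint ↥X) : ℕ) : ℕ∞) :=
    (ENat.add_le_add_iff_left hne).1 hle
  rw [add_comm] at h2
  exact_mod_cast h2

end Groth.Agent.S3390
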