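import Groth.Statements.S3394
import Groth.Agent.Lib.Helper18.Chev.NoetherFibre

set_option linter.style.haveILetI false
open CategoryTheory.Limits Groth.Agent.Lib.Helper18.Chev

set_option autoImplicit false
open CategoryTheory AlgebraicGeometry
universe u
open EGA43

namespace Groth.Agent.S3394

open CategoryTheory.Limits in
/-- Let X and Y be affine schemes, f : X ⟶ Y a morphism of finite type, y a point of f(X) and e the
dimension of the fibre of f over y. Then there is a Y-morphism g from X to the affine space of
dimension e over Y such that the morphism induced by g on the fibres over y is finite (here written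
as the base change of g along the inclusion of the fibre of the affine space over y). -/
theorem result {X Y : Scheme.{u}} [IsAffine X] [IsAffine Y] (f : X ⟶ Y)
    [LocallyOfFiniteType f] (y : Y) (hy : y ∈ Set.range f.base) (e : ℕ)
    (he : topologicalKrullDim ↥(f.fiber y) = e) :
    ∃ g : X ⟶ 𝔸(ULift.{u} (Fin e); Y), g ≫ (𝔸(ULift.{u} (Fin e); Y) ↘ Y) = f ∧
      IsFinite (pullback.snd g ((𝔸(ULift.{u} (Fin e); Y) ↘ Y).fiberι y)) := by
  set F := (𝔸(ULift.{u} (Fin e); Y) ↘ Y) with hF
  set K := Y.residueField y with hK
  set p₁ := pullback.fst f (Y.fromSpecResidueField y) with hp₁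
  set p₂ := pullback.snd f (Y.fromSpecResidueField y) with hp₂
  -- the fibre ring as a `K`-algebra
  let δ : K →+* Γ(pullback f (Y.fromSpecResidueField y), ⊤) :=
    ((Scheme.ΓSpecIso K).inv ≫ p₂.appTop).hom
  letI : Algebra K Γ(pullback f (Y.fromSpecResidueField y), ⊤) := δ.toAlgebra
  haveI : Nonempty ↥(pullback f (Y.fromSpecResidueField y)) := by
    obtain ⟨x, hx⟩ := hy
    have : x ∈ Set.range (f.fiberι y).base := by
      rw [Scheme.Hom.range_fiberι]; exact hx
    obtain ⟨z, -⟩ := this
    exact ⟨z⟩
  haveI : Nontrivial Γ(pullback f (Y.fromSpecResidueField y), ⊤) :=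
    @Scheme.component_nontrivial _ ⊤ ⟨⟨Classical.arbitrary _, trivial⟩⟩
  haveI : Algebra.FiniteType K Γ(pullback f (Y.fromSpecResidueField y), ⊤) := by
    have h1 : RingHom.FiniteType p₂.appTop.hom :=
      (HasRingHomProperty.iff_of_isAffine (P := @LocallyOfFiniteType)).1 inferInstance
    have h2 : RingHom.FiniteType δ := by
      show RingHom.FiniteType (p₂.appTop.hom.comp (Scheme.ΓSpecIso K).inv.hom)
      refine h1.comp (RingHom.FiniteType.of_surjective _ ?_)
      exact (ConcreteCategory.bijective_of_isIso (Scheme.ΓSpecIso K).inv).2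
    exact h2
  have hdim : ringKrullDim Γ(pullback f (Y.fromSpecResidueField y), ⊤) = e := by
    rw [← topologicalKrullDim_eq_ringKrullDim_of_isAffine]
    exact he
  -- the evaluation at `y` and the two ways around the fibre square
  have hsq : ∀ a : Γ(Y, ⊤), p₁.appTop (f.appTop a) = δ (Y.Γevaluation y a) := by
    intro a
    have h1 := congr($(pullback.condition (f := f) (g := Y.fromSpecResidueField y)).appTop a)
    rw [Scheme.Hom.comp_appTop, Scheme.Hom.comp_appTop, fromSpecResidueField_appTop'] at h1
    exact h1
  have hS : ∀ r : Γ(pullback f (Y.fromSpecResidueField y), ⊤), ∃ c : K, c ≠ 0 ∧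
      c • r ∈ Set.range p₁.appTop := by
    intro r
    obtain ⟨s, hs, hmem⟩ := exists_scale_mem_range_fiberι f y r
    refine ⟨Y.Γevaluation y s, hs, ?_⟩
    rw [Algebra.smul_def]
    show δ (Y.Γevaluation y s) * r ∈ _
    rw [← hsq]
    exact hmem
  obtain ⟨t, htmem, htfin⟩ := exists_vec_finite_of_scaling e hdim (Set.range p₁.appTop) hS
  choose b hb using htmem
  refine ⟨AffineSpace.homOfVector f (fun i : ULift.{u} (Fin e) => b i.down), AffineSpace.homOfVector_over _ _, ?_⟩
  set g := AffineSpace.homOfVector f (fun i : ULift.{u} (Fin e) => b i.down) with hgdef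
  have hg : g ≫ F = f := AffineSpace.homOfVector_over _ _
  show IsFinite (pullback.snd g (pullback.fst F (Y.fromSpecResidueField y)))
  set ιy := pullback.fst F (Y.fromSpecResidueField y) with hιy
  set gy := pullback.snd g ιy with hgy
  -- the source of `gy` is the fibre of `f`
  let φ : pullback g ιy ≅ pullback f (Y.fromSpecResidueField y) :=
    pullbackRightPullbackFstIso F (Y.fromSpecResidueField y) g ≪≫ pullback.congrHom hg rfl
  have hφ₁ : φ.hom ≫ p₁ = pullback.fst g ιy := by
    show (pullbackRightPullbackFstIso F (Y.fromSpecResidueField y) g ≪≫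
      pullback.congrHom hg rfl).hom ≫ pullback.fst f (Y.fromSpecResidueField y) =
        pullback.fst g (pullback.fst F (Y.fromSpecResidueField y))
    rw [Iso.trans_hom, Category.assoc, pullback.congrHom_hom, pullback.lift_fst, Category.comp_id]
    exact pullbackRightPullbackFstIso_hom_fst F (Y.fromSpecResidueField y) g
  have hφ₂ : φ.hom ≫ p₂ = gy ≫ pullback.snd F (Y.fromSpecResidueField y) := by
    show (pullbackRightPullbackFstIso F (Y.fromSpecResidueField y) g ≪≫
      pullback.congrHom hg rfl).hom ≫ pullback.snd f (Y.fromSpecResidueField y) =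
        pullback.snd g (pullback.fst F (Y.fromSpecResidueField y)) ≫
          pullback.snd F (Y.fromSpecResidueField y)
    rw [Iso.trans_hom, Category.assoc, pullback.congrHom_hom, pullback.lift_snd, Category.comp_id]
    exact pullbackRightPullbackFstIso_hom_snd F (Y.fromSpecResidueField y) g
  have hpb := AffineSpace.isPullback_map (n := ULift.{u} (Fin e)) (Y.fromSpecResidueField y)
  let i1 : 𝔸(ULift.{u} (Fin e); Spec K) ≅ pullback F (Y.fromSpecResidueField y) :=
    hpb.isoPullback
  have hi1₁ : i1.inv ≫ AffineSpace.map (ULift.{u} (Fin e)) (Y.fromSpecResidueField y) = ιy :=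
    hpb.isoPullback_inv_fst
  have hi1₂ : i1.inv ≫ (𝔸(ULift.{u} (Fin e); Spec K) ↘ Spec K) =
      pullback.snd F (Y.fromSpecResidueField y) := hpb.isoPullback_inv_snd
  have hkey : φ.inv ≫ gy ≫ i1.inv =
      AffineSpace.homOfVector p₂ (fun i : ULift.{u} (Fin e) => t i.down) := by
    apply AffineSpace.hom_ext
    · rw [AffineSpace.homOfVector_over, Category.assoc, Category.assoc, hi1₂, ← hφ₂,
        Iso.inv_hom_id_assoc]
    · intro i
      rw [AffineSpace.homOfVector_appTop_coord]
      have c1 : i1.inv.appTop (AffineSpace.coord (Spec K) i) =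
          ιy.appTop (AffineSpace.coord Y i) := by
        have h1 := congr($(hi1₁).appTop (AffineSpace.coord Y i))
        rw [Scheme.Hom.comp_appTop, CommRingCat.comp_apply, AffineSpace.map_appTop_coord] at h1
        exact h1
      have c2 : gy.appTop (ιy.appTop (AffineSpace.coord Y i)) =
          (pullback.fst g ιy).appTop (b i.down) := by
        have h1 := congr($(pullback.condition (f := g) (g := ιy)).appTop (AffineSpace.coord Y i))
        rw [Scheme.Hom.comp_appTop, Scheme.Hom.comp_appTop, CommRingCat.comp_apply,
          CommRingCat.comp_apply, AffineSpace.homOfVector_appTop_coord] at h1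
        exact h1.symm
      have c3 : φ.inv.appTop ((pullback.fst g ιy).appTop (b i.down)) = p₁.appTop (b i.down) := by
        have h0 : φ.inv ≫ pullback.fst g ιy = p₁ := by rw [← hφ₁, Iso.inv_hom_id_assoc]
        have h1 := congr($(h0).appTop (b i.down))
        rw [Scheme.Hom.comp_appTop, CommRingCat.comp_apply] at h1
        exact h1
      rw [Scheme.Hom.comp_appTop, Scheme.Hom.comp_appTop, CommRingCat.comp_apply,
        CommRingCat.comp_apply, c1, c2, c3, hb]
  -- finiteness of the model map
  set v : ULift.{u} (Fin e) → Γ(pullback f (Y.fromSpecResidueField y), ⊤) :=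
    fun i => t i.down with hv
  have h3 : (MvPolynomial.eval₂Hom δ v).Finite := by
    have hren : Function.Surjective
        (MvPolynomial.rename (R := K) (ULift.down : ULift.{u} (Fin e) → Fin e)) :=
      MvPolynomial.rename_surjective _ ULift.down_surjective
    have hcomp : MvPolynomial.eval₂Hom δ v =
        ((MvPolynomial.aeval t : MvPolynomial (Fin e) K →ₐ[K] _).comp
          (MvPolynomial.rename (R := K) (ULift.down : ULift.{u} (Fin e) → Fin e))).toRingHom := by
      apply MvPolynomial.ringHom_ext
      · intro c
        simp [RingHom.algebraMap_toAlgebra]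
      · intro i
        simp [v]
    rw [hcomp]
    exact AlgHom.Finite.comp htfin (AlgHom.Finite.of_surjective _ hren)
  have h1 : IsFinite (AffineSpace.homOfVector p₂ v ≫
      (AffineSpace.SpecIso (ULift.{u} (Fin e)) K).hom) := by
    apply isFinite_of_finite_appTop
    have h2 := homOfVector_SpecIso_appTop p₂ v
    have h4 : ((AffineSpace.homOfVector p₂ v ≫
        (AffineSpace.SpecIso (ULift.{u} (Fin e)) K).hom).appTop.hom.comp
          (Scheme.ΓSpecIso (.of (MvPolynomial (ULift.{u} (Fin e)) K))).inv.hom).Finite := by
      rw [← CommRingCat.hom_comp, h2]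
      exact h3
    exact RingHom.Finite.of_comp_finite h4
  have hfinal : gy = φ.hom ≫ (AffineSpace.homOfVector p₂ v ≫
      (AffineSpace.SpecIso (ULift.{u} (Fin e)) K).hom) ≫
        (AffineSpace.SpecIso (ULift.{u} (Fin e)) K).inv ≫ i1.hom := by
    rw [← hkey]
    simp
  rw [hfinal]
  infer_instance

end Groth.Agent.S3394
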