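import Groth.Statements.S3395
import Groth.Agent.Lib.Helper18.Chev.FibreIrred
import Groth.Agent.Lib.Helper4.QFinDim
import Groth.Agent.Lib.lead.NowhereDenseDim
import Groth.Agent.Lib.Helper3.QuasiFiniteAtBC

set_option linter.style.haveILetI false
open CategoryTheory.Limits Groth.Agent.Lib.Helper18.Chev

set_option autoImplicit false
open CategoryTheory AlgebraicGeometry
universe u
open EGA43

namespace Groth.Agent.S3395

open CategoryTheory.Limits in
/-- Let X and Y be affine schemes, f : X ⟶ Y of finite type, y a point of f(X), e the dimension of the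
fibre over y, and g a Y-morphism from X to the affine space of dimension e over Y whose base change
to the fibre of the affine space over y is finite. Then that base change is surjective, and g is
locally quasi-finite on some open U ⊆ X that contains the fibre f⁻¹(y). -/
theorem result {X Y : Scheme.{u}} [IsAffine X] [IsAffine Y]
    (f : X ⟶ Y) [LocallyOfFiniteType f] (y : Y) (hy : y ∈ Set.range f.base) (e : ℕ)
    (he : topologicalKrullDim ↥(f.fiber y) = e) (g : X ⟶ 𝔸(ULift.{u} (Fin e); Y)) (hg : g ≫ (𝔸(ULift.{u} (Fin e); Y) ↘ Y) = f)
    (hfin : IsFinite (pullback.snd g ((𝔸(ULift.{u} (Fin e); Y) ↘ Y).fiberι y))) :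
    Function.Surjective (pullback.snd g ((𝔸(ULift.{u} (Fin e); Y) ↘ Y).fiberι y)).base ∧
      ∃ U : X.Opens, f.base ⁻¹' {y} ⊆ (U : Set X) ∧ LocallyQuasiFinite (U.ι ≫ g) := by
  set F := (𝔸(ULift.{u} (Fin e); Y) ↘ Y) with hF
  set ιy := F.fiberι y with hιy
  set gy := pullback.snd g ιy with hgy
  -- the source of `gy` is the fibre of `f`
  let φ : pullback g ιy ≅ f.fiber y :=
    pullbackRightPullbackFstIso F (Y.fromSpecResidueField y) g ≪≫
      pullback.congrHom hg rfl
  have hφ : φ.hom ≫ f.fiberι y = pullback.fst g ιy := by
    show (pullbackRightPullbackFstIso F (Y.fromSpecResidueField y) g ≪≫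
      pullback.congrHom hg rfl).hom ≫ pullback.fst f (Y.fromSpecResidueField y) =
        pullback.fst g (pullback.fst F (Y.fromSpecResidueField y))
    rw [Iso.trans_hom, Category.assoc, pullback.congrHom_hom, pullback.lift_fst, Category.comp_id]
    exact pullbackRightPullbackFstIso_hom_fst F (Y.fromSpecResidueField y) g
  have hdimW : topologicalKrullDim ↥(pullback g ιy) = e := by
    rw [IsHomeomorph.topologicalKrullDim_eq _ φ.hom.homeomorph.isHomeomorph]
    exact he
  haveI : LocallyOfFiniteType (g ≫ F) := by rw [hg]; infer_instance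
  haveI : LocallyOfFiniteType g := locallyOfFiniteType_of_comp g F
  haveI : LocallyQuasiFinite gy := inferInstance
  refine ⟨?_, g.quasiFiniteLocus, ?_, inferInstance⟩
  · -- surjectivity by a dimension count
    rw [← Set.range_eq_univ]
    by_contra hne
    have hdimF : topologicalKrullDim ↥(F.fiber y) = e := by
      rw [topologicalKrullDim_fiber_affineSpace]
      simp
    haveI : IrreducibleSpace ↥(F.fiber y) := irreducibleSpace_fiber_affineSpace _ Y y
    have hcl : IsClosed (Set.range gy.base) := gy.isClosedMap.isClosed_range
    have hnd : IsNowhereDense (Set.range gy.base) := by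
      show interior (closure (Set.range gy.base)) = ∅
      rw [hcl.closure_eq]
      by_contra hint
      have hd : Dense (interior (Set.range gy.base)) :=
        isOpen_interior.dense (Set.nonempty_iff_ne_empty.2 hint)
      apply hne
      have := hd.mono interior_subset
      rw [← hcl.closure_eq]
      exact this.closure_eq
    have hlt := (Groth.Agent.Lib.lead.NowhereDenseDim.main (k := Y.residueField y)
      (F.fiberToSpecResidueField y) ?_ (Set.range gy.base) hcl.isLocallyClosed).1 hnd
    · have h1 := (Groth.Agent.Lib.Helper4.QFinDim.main gy).1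
      rw [hcl.closure_eq, hdimW] at h1
      rw [hdimF] at hlt
      exact absurd (lt_of_le_of_lt h1 hlt) (lt_irrefl _)
    · intro T hT
      rw [irreducibleComponents_eq_singleton, Set.mem_singleton_iff] at hT
      subst hT
      exact IsHomeomorph.topologicalKrullDim_eq _ (Homeomorph.Set.univ _).isHomeomorph
  · -- the quasi-finite locus contains the fibre
    intro x hx
    have hx' : x ∈ Set.range (f.fiberι y).base := by
      rw [Scheme.Hom.range_fiberι]; exact hx
    obtain ⟨z, rfl⟩ := hx'
    have hz : (f.fiberι y) z = (pullback.fst g ιy) (φ.inv z) := by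
      rw [← hφ]
      simp
    show g.QuasiFiniteAt _
    rw [hz]
    exact Groth.Agent.Lib.Helper3.quasiFiniteAt_of_isPullback
      (IsPullback.of_hasPullback g ιy).flip (φ.inv z) (gy.quasiFiniteAt _)

end Groth.Agent.S3395
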