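import Groth.Statements.S3404
import Groth.Agent.Lib.Helper25.ProCons2
-- import your own Groth.Agent.* helpers here

set_option autoImplicit false
open CategoryTheory AlgebraicGeometry
universe u
open EGA41

namespace Groth.Agent.S3404

open Groth.Agent.Lib.Helper25.PC in
theorem part1 {X Y : Scheme.{u}} (f : X ⟶ Y) (x : X) (h : EGA43.IsOpenAt f.base x) :
    ∀ y' : Y, y' ⤳ f.base x → ∃ x' : X, x' ⤳ x ∧ f.base x' = y' := by
  intro y' hy'
  apply exists_specializes_of_forall_open f x y' hy'
  intro O hO hxO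
  have h1 : f.base '' O ∈ nhds (f.base x) := h O (hO.mem_nhds hxO)
  obtain ⟨N, hN, hNo, hxN⟩ := mem_nhds_iff.mp h1
  exact hN (hy'.mem_open hNo hxN)

open Groth.Agent.Lib.Helper25.PC in
theorem part2 {X Y : Scheme.{u}} (f : X ⟶ Y) [LocallyOfFinitePresentation f] (x : X)
    (h : ∀ y' : Y, y' ⤳ f.base x → ∃ x' : X, x' ⤳ x ∧ f.base x' = y') :
    EGA43.IsOpenAt f.base x := by
  intro N hN
  obtain ⟨O, hON, hO, hxO⟩ := mem_nhds_iff.mp hN
  have hInd : IndC (f.base '' O) := IndC.image f hO.indC
  have hint : f.base x ∈ interior (f.base '' O) := by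
    rw [mem_interior_iff (locSpectral Y) hInd]
    intro y' hy'
    obtain ⟨x', hx', rfl⟩ := h y' hy'
    exact ⟨x', hx'.mem_open hO hxO, rfl⟩
  exact Filter.mem_of_superset (mem_interior_iff_mem_nhds.mp hint) (Set.image_mono hON)

/-- Let f : X ⟶ Y be a morphism of schemes, x a point of X and y = f x. If f is open at x then every
generization of y is the image of a generization of x; when f is locally of finite presentation the
converse holds. -/
theorem result {X Y : Scheme.{u}} (f : X ⟶ Y) (x : X) :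
    (EGA43.IsOpenAt f.base x → ∀ y' : Y, y' ⤳ f.base x → ∃ x' : X, x' ⤳ x ∧ f.base x' = y') ∧
    (LocallyOfFinitePresentation f →
      ((EGA43.IsOpenAt f.base x) ↔ ∀ y' : Y, y' ⤳ f.base x → ∃ x' : X, x' ⤳ x ∧ f.base x' = y')) := by
  refine ⟨part1 f x, fun hf => ⟨part1 f x, fun h => ?_⟩⟩
  exact part2 f x h

end Groth.Agent.S3404
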