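import Groth.Statements.S3406
import Groth.Agent.Lib.Helper7.SupportDimParams

set_option autoImplicit false
universe u
open EGA41

namespace Groth.Agent.S3406

/-- The equality s(M) = dim(M): let A be a Noetherian ring with finitely many maximal ideals, r its
Jacobson radical and M a nonzero finitely generated A-module. Then the dimension of M (the Krull
dimension of its support) is the least n for which there are elements x_1, …, x_n of r such that
M/(x_1 M + ⋯ + x_n M) has finite length. -/
theorem result (A : Type u) [CommRing A] [IsNoetherianRing A]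
    [Finite (MaximalSpectrum A)] (M : Type u) [AddCommGroup M] [Module A M] [Module.Finite A M] [Nontrivial M] :
    Module.supportDim A M =
      sInf {k : WithBot ℕ∞ | ∃ (n : ℕ) (x : Fin n → A), k = n ∧ (∀ i, x i ∈ Ring.jacobson A) ∧
        IsFiniteLength A (M ⧸ (Ideal.span (Set.range x) • (⊤ : Submodule A M)))} := by
  have hspan : ∀ (n : ℕ) (x : Fin n → A),
      Ideal.span (Set.range x) = Ideal.ofList (List.ofFn x) := by
    intro n x
    unfold Ideal.ofList
    congr 1
    ext r
    simp [List.mem_ofFn]
  apply le_antisymm
  · apply le_sInf
    rintro k ⟨n, x, rfl, hx, hfl⟩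
    rw [hspan] at hfl
    have := Groth.Agent.Lib.Helper7.SuppDimParams.supportDim_le_length (List.ofFn x) (by
      intro r hr
      rw [List.mem_ofFn] at hr
      obtain ⟨i, rfl⟩ := hr
      exact hx i) M hfl
    simpa using this
  · by_cases htop : Module.supportDim A M = ⊤
    · rw [htop]; exact le_top
    · have hbot : Module.supportDim A M ≠ ⊥ := Module.supportDim_ne_bot_of_nontrivial A M
      obtain ⟨e, he⟩ := WithBot.ne_bot_iff_exists.1 hbot
      have hetop : e ≠ ⊤ := by
        rintro rfl
        exact htop he.symm
      obtain ⟨d, rfl⟩ := ENat.ne_top_iff_exists.1 hetop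
      obtain ⟨l, hlen, hl, hfl⟩ :=
        Groth.Agent.Lib.Helper7.SuppDimParams.exists_list_of_supportDim_le d M (le_of_eq he.symm)
      apply sInf_le
      refine ⟨l.length, l.get, ?_, fun i => hl _ (List.get_mem l i), ?_⟩
      · rw [← he, hlen]; rfl
      · rw [hspan, List.ofFn_get]
        exact hfl

end Groth.Agent.S3406
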