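import Groth.Statements.S3423
import Groth.Agent.Lib.Helper5.JacZ
import Groth.Agent.Lib.Helper5.JacQ
import Groth.Agent.Lib.lead.FibreDimConstr

set_option autoImplicit false
open CategoryTheory AlgebraicGeometry
universe u
open EGA43

namespace Groth.Agent.S3423

/-- Let f : X ⟶ S be locally of finite presentation. The set of points x of X such that the fibre of f
through x is geometrically regular at x over the residue field of f x — equivalently, such that x
lies in the smooth locus of that fibre over the residue field — is locally constructible in X. -/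
theorem result {X S : Scheme.{u}} (f : X ⟶ S)
    [LocallyOfFinitePresentation f]
    [∀ s : S, LocallyOfFinitePresentation (f.fiberToSpecResidueField s)] :
    Topology.IsLocallyConstructible {x : X | f.asFiber x ∈ (f.fiberToSpecResidueField (f.base x)).smoothLocus} := by
  classical
  set T : Set X := {x : X | f.asFiber x ∈
    (f.fiberToSpecResidueField (f.base x)).smoothLocus} with hT
  -- the cover by affine charts
  let ι := {t : S.affineOpens × X.affineOpens // t.2.1 ≤ f ⁻¹ᵁ t.1.1}
  let U : ι → X.Opens := fun t => t.1.2.1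
  have hU : TopologicalSpace.IsOpenCover U := by
    rw [TopologicalSpace.IsOpenCover, eq_top_iff]
    intro x _
    obtain ⟨_, ⟨V, hV, rfl⟩, hxV, -⟩ :=
      S.isBasis_affineOpens.exists_subset_of_mem_open (Set.mem_univ (f x)) isOpen_univ
    obtain ⟨_, ⟨D, hD, rfl⟩, hxD, hDV⟩ :=
      X.isBasis_affineOpens.exists_subset_of_mem_open hxV (V.2.preimage f.continuous)
    exact TopologicalSpace.Opens.mem_iSup.mpr ⟨⟨(⟨V, hV⟩, ⟨D, hD⟩), hDV⟩, hxD⟩
  refine Topology.IsLocallyConstructible.of_isOpenCover hU fun t => ?_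
  obtain ⟨⟨⟨V, hV⟩, ⟨D, hD⟩⟩, e⟩ := t
  replace hV : IsAffineOpen V := hV
  replace hD : IsAffineOpen D := hD
  change Topology.IsLocallyConstructible ((Subtype.val : ↥D → X) ⁻¹' T)
  letI := (f.appLE V D e).hom.toAlgebra
  have hfp : Algebra.FinitePresentation Γ(S, V) Γ(X, D) :=
    f.finitePresentation_appLE hV hD e
  -- bound on the rank
  obtain ⟨N, v, hv⟩ := Module.Finite.exists_fin (R := Γ(X, D)) (M := Ω[Γ(X, D)⁄Γ(S, V)])
  have hbound : ∀ q : PrimeSpectrum Γ(X, D),
      Module.finrank q.asIdeal.ResidueField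
        (TensorProduct Γ(X, D) q.asIdeal.ResidueField Ω[Γ(X, D)⁄Γ(S, V)]) ≤ N := by
    intro q
    refine Groth.Agent.Lib.Helper5.Jac.finrank_le_of_local_span q.asIdeal v fun t' => ?_
    refine ⟨1, fun h1 => q.isPrime.ne_top ((Ideal.eq_top_iff_one _).mpr h1), ?_⟩
    rw [hv]
    exact Submodule.mem_top
  let W : ℕ → Set (PrimeSpectrum Γ(X, D)) := fun n => {q |
    Module.finrank q.asIdeal.ResidueField
      (TensorProduct Γ(X, D) q.asIdeal.ResidueField Ω[Γ(X, D)⁄Γ(S, V)]) ≤ n}
  have hW : ∀ n, Topology.IsConstructible (W n) := fun n =>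
    Groth.Agent.Lib.Helper5.Jac.isConstructible_setOf_finrank_kaehler_le Γ(S, V) Γ(X, D) n
  let Un : ℕ → Set ↥D := fun n => (fun y => hD.primeIdealOf y) ⁻¹' W n
  have hemb : Topology.IsOpenEmbedding (fun y : ↥D => hD.primeIdealOf y) :=
    (Scheme.homeoOfIso hD.isoSpec).isOpenEmbedding
  have hUn : ∀ n, Topology.IsLocallyConstructible (Un n) := fun n =>
    ((hW n).preimage_of_isOpenEmbedding hemb).isLocallyConstructible
  let Bn : ℕ → Set ↥D := fun n =>
    (Subtype.val : ↥D → X) ⁻¹' {x : X | (n : WithBot ℕ∞) ≤ FlatMor.fibreDimAt f x}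
  have hBn : ∀ n, Topology.IsLocallyConstructible (Bn n) := fun n =>
    (Groth.Agent.Lib.lead.FibreDimConstr.isLocallyConstructible_setOf_le_fibreDimAt f
      n).preimage_of_isOpenEmbedding D.isOpen.isOpenEmbedding_subtypeVal
  have hset : (Subtype.val : ↥D → X) ⁻¹' T = ⋃ n : Fin (N + 1), (Un n ∩ Bn n) := by
    ext ⟨y, hy⟩
    obtain ⟨d, hd⟩ := Groth.Agent.Lib.Helper18.Chev.exists_nat_fibreDimAt f y
    have hcrit := Groth.Agent.Lib.Helper5.Jac.fiber_smooth_iff_finrank_le_of_chart f hD hV e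
      y hy d hd
    simp only [Set.mem_preimage, Set.mem_iUnion, Set.mem_inter_iff]
    constructor
    · intro hyT
      have h1 := hcrit.mp hyT
      refine ⟨⟨_, Nat.lt_succ_of_le (hbound (hD.primeIdealOf ⟨y, hy⟩))⟩,
        (le_rfl : Module.finrank (hD.primeIdealOf ⟨y, hy⟩).asIdeal.ResidueField
          (TensorProduct Γ(X, D) (hD.primeIdealOf ⟨y, hy⟩).asIdeal.ResidueField
            Ω[Γ(X, D)⁄Γ(S, V)]) ≤ _), ?_⟩
      change ((_ : ℕ) : WithBot ℕ∞) ≤ FlatMor.fibreDimAt f y
      rw [hd]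
      exact_mod_cast h1
    · rintro ⟨n, h1, h2⟩
      apply hcrit.mpr
      have h3 : ((n : ℕ) : WithBot ℕ∞) ≤ FlatMor.fibreDimAt f y := h2
      rw [hd] at h3
      have h4 : (n : ℕ) ≤ d := by exact_mod_cast h3
      exact le_trans h1 h4
  rw [hset]
  exact Topology.IsLocallyConstructible.iUnion fun n => (hUn n).inter (hBn n)

end Groth.Agent.S3423
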