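import Groth.Statements.S3428
import Mathlib
import Groth.Agent.Lib.Helper25.FibSet
import Groth.Agent.S0591
-- import your own Groth.Agent.* helpers here

set_option autoImplicit false
open CategoryTheory AlgebraicGeometry
universe u
open EGA43

namespace Groth.Agent.S3428

open Groth.Agent.Lib.Helper25.FibSet

theorem range_val {X S : Scheme.{u}} (f : X ⟶ S) (s : S) :
    Set.range (Subtype.val : ↥(f.base ⁻¹' {s}) → X) = f ⁻¹' {s} := Subtype.range_coe

/-- Let f : X ⟶ S be of finite presentation (locally of finite presentation, quasi-compact,
quasi-separated) and Z a locally constructible subset of X. Then the set of points s of S such that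
Z ∩ f⁻¹(s) is closed in the fibre f⁻¹(s) (with the topology induced from X), the set of s such that
it is open in the fibre, and the set of s such that it is locally closed in the fibre, are locally
constructible in S. -/
theorem result {X S : Scheme.{u}} (f : X ⟶ S)
    [LocallyOfFinitePresentation f] [QuasiCompact f] [QuasiSeparated f] (Z : Set X)
    (hZ : Topology.IsLocallyConstructible Z) :
    Topology.IsLocallyConstructible {s : S | IsClosed (Subtype.val ⁻¹' Z : Set ↥(f.base ⁻¹' {s}))} ∧
      Topology.IsLocallyConstructible {s : S | IsOpen (Subtype.val ⁻¹' Z : Set ↥(f.base ⁻¹' {s}))} ∧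
      Topology.IsLocallyConstructible {s : S | IsLocallyClosed (Subtype.val ⁻¹' Z : Set ↥(f.base ⁻¹' {s}))} := by
  have H : Groth.Agent.Lib.Helper25.NoethApprox.FPDescent.{u} := by
    intro I _ _ D c hc _ _ _ X f _ _ _
    exact Groth.Agent.S0591.result D c hc X f
  have h1 := isLocallyConstructible_locus H topInv2_closed dichCore_closed f Z Z hZ hZ
  have h2 := isLocallyConstructible_locus H topInv2_open dichCore_open f Z Z hZ hZ
  have h3 := isLocallyConstructible_locus H topInv2_lc dichCore_lc f Z Z hZ hZ
  rw [locus_closed_eq] at h1
  rw [locus_open_eq] at h2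
  rw [locus_lc_eq] at h3
  refine ⟨?_, ?_, ?_⟩
  · convert h1 using 1
    ext s
    rw [Set.mem_setOf_eq, isClosed_iff_of_isInducing Topology.IsInducing.subtypeVal, range_val]
    rfl
  · convert h2 using 1
    ext s
    rw [Set.mem_setOf_eq, isOpen_iff_of_isInducing Topology.IsInducing.subtypeVal, range_val]
    rfl
  · convert h3 using 1
    ext s
    rw [Set.mem_setOf_eq, isLocallyClosed_iff_of_isInducing Topology.IsInducing.subtypeVal,
      range_val]
    rfl

end Groth.Agent.S3428
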