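import Groth.Statements.S3431
import Groth.Agent.Lib.Helper7.JacobsonPunctured
import Mathlib.RingTheory.Jacobson.Ring
import Mathlib.RingTheory.KrullDimension.Field

set_option autoImplicit false
universe u
open EGA43

namespace Groth.Agent.S3431

open Groth.Agent.Lib.Helper7

theorem not_semilocal_dim_one_of_jacobson (D : Type*) [CommRing D] [IsDomain D]
    [IsJacobsonRing D] (hfin : Finite (MaximalSpectrum D)) (hdim : ringKrullDim D = 1) : False := by
  classical
  have hbot : (⊥ : Ideal D).jacobson = ⊥ :=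
    (isJacobsonRing_iff_prime_eq.1 inferInstance) ⊥ Ideal.isPrime_bot
  have hS : {J : Ideal D | J.IsMaximal}.Finite := by
    have : {J : Ideal D | J.IsMaximal} = Set.range (MaximalSpectrum.asIdeal (R := D)) := by
      ext J
      constructor
      · intro hJ; exact ⟨⟨J, hJ⟩, rfl⟩
      · rintro ⟨m, rfl⟩; exact m.isMaximal
    rw [this]
    exact Set.finite_range _
  have hle : sInf {J : Ideal D | J.IsMaximal} ≤ (⊥ : Ideal D) := by
    rw [← hbot]
    intro x hx
    rw [Ideal.jacobson, Ideal.mem_sInf]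
    intro J hJ
    exact (Ideal.mem_sInf.1 hx) hJ.2
  rw [← hS.coe_toFinset, ← Finset.inf_id_eq_sInf, (show (⊥ : Ideal D).IsPrime from Ideal.isPrime_bot).inf_le'] at hle
  obtain ⟨J, hJ, hJle⟩ := hle
  have hJmax : J.IsMaximal := hS.mem_toFinset.1 hJ
  have hJ0 : J = ⊥ := le_bot_iff.1 hJle
  rw [hJ0] at hJmax
  have hfield : IsField D := Ring.isField_iff_maximal_bot.2 hJmax
  rw [ringKrullDim_eq_zero_of_isField hfield] at hdim
  exact zero_ne_one hdim


/-- Let A be a Noetherian ring. Then A is a Jacobson ring if and only if there is no prime ideal p of A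
such that A/p is semi-local (finitely many maximal ideals) of Krull dimension 1. -/
theorem result (A : Type u) [CommRing A] [IsNoetherianRing A] :
    IsJacobsonRing A ↔
      ∀ (p : Ideal A) [p.IsPrime], ¬ (Finite (MaximalSpectrum (A ⧸ p)) ∧ ringKrullDim (A ⧸ p) = 1) := by
  constructor
  · intro hJ p hp ⟨hfin, hdim⟩
    haveI : IsDomain (A ⧸ p) := Ideal.Quotient.isDomain p
    haveI : IsJacobsonRing (A ⧸ p) :=
      isJacobsonRing_of_surjective ⟨Ideal.Quotient.mk p, Ideal.Quotient.mk_surjective⟩
    exact not_semilocal_dim_one_of_jacobson (A ⧸ p) hfin hdim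
  · intro h
    rw [isJacobsonRing_iff_prime_eq]
    by_contra hcon
    push_neg at hcon
    obtain ⟨P0, hP0, hne0⟩ := hcon
    obtain ⟨p, ⟨hp, hpne⟩, hpmax⟩ : ∃ p ∈ {P : Ideal A | P.IsPrime ∧ P.jacobson ≠ P},
        ∀ I ∈ {P : Ideal A | P.IsPrime ∧ P.jacobson ≠ P}, ¬ p < I :=
      (set_has_maximal_iff_noetherian (R := A) (M := A)).2
        inferInstance {P : Ideal A | P.IsPrime ∧ P.jacobson ≠ P} ⟨P0, hP0, hne0⟩
    haveI := hp
    haveI : IsDomain (A ⧸ p) := Ideal.Quotient.isDomain p
    have hlt : p < p.jacobson := lt_of_le_of_ne Ideal.le_jacobson (Ne.symm hpne)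
    obtain ⟨f, hfJ, hfp⟩ := SetLike.exists_of_lt hlt
    have hfr : ∀ r : Ideal A, r.IsPrime → p < r → f ∈ r := by
      intro r hr hpr
      have hrJ : r.jacobson = r := by
        by_contra hne
        exact hpmax r ⟨hr, hne⟩ hpr
      rw [← hrJ]
      exact Ideal.jacobson_mono hpr.le hfJ
    have hf0 : Ideal.Quotient.mk p f ≠ 0 := by
      rwa [Ne, Ideal.Quotient.eq_zero_iff_mem]
    have hall := JacPunct.forall_mem_quotient p f hfr
    have hfinS := JacPunct.finite_maximal _ hf0 hall
    refine h p ⟨?_, ?_⟩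
    · haveI : Finite ↥{m : Ideal (A ⧸ p) | m.IsMaximal} := hfinS.to_subtype
      exact Finite.of_injective
        (fun m : MaximalSpectrum (A ⧸ p) =>
          (⟨m.asIdeal, m.isMaximal⟩ : ↥{m : Ideal (A ⧸ p) | m.IsMaximal}))
        (fun m m' hmm => MaximalSpectrum.ext (congrArg Subtype.val hmm))
    · apply le_antisymm
      · rw [ringKrullDim_le_iff_isMaximal_height_le]
        intro m hm
        have := JacPunct.maximal_height_le_one _ hf0 hall m hm
        exact_mod_cast this
      · rw [ringKrullDim, Order.one_le_krullDim_iff]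
        have hnf : ¬ IsField (A ⧸ p) := by
          intro hfield
          have hmax : p.IsMaximal := Ideal.Quotient.maximal_of_isField p hfield
          exact hpne Ideal.jacobson_eq_self_of_isMaximal
        obtain ⟨m, hm⟩ := Ideal.exists_maximal (A ⧸ p)
        refine ⟨⟨⊥, Ideal.isPrime_bot⟩, ⟨m, hm.isPrime⟩, ?_⟩
        refine lt_of_le_of_ne bot_le ?_
        intro heq
        have : (⊥ : Ideal (A ⧸ p)) = m := congrArg PrimeSpectrum.asIdeal heq
        rw [← this] at hm
        exact hnf (Ring.isField_iff_maximal_bot.2 hm)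

end Groth.Agent.S3431
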