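import Groth.Statements.S3432
import Groth.Agent.Lib.Helper7.JacobsonPunctured

set_option autoImplicit false
open CategoryTheory AlgebraicGeometry
universe u
open EGA43

namespace Groth.Agent.S3432

open Groth.Agent.Lib.Helper7 AlgebraicGeometry


/-- Let X be a locally Noetherian scheme and Y a closed subset of X such that every nonempty closed
subset of X meets Y. Then the open subscheme X ∖ Y (equivalently, the subspace X ∖ Y) is a Jacobson
space. -/
theorem result (X : Scheme.{u}) [IsLocallyNoetherian X] (Y : Set X)
    (hY : IsClosed Y) (hmeet : ∀ Z : Set X, IsClosed Z → Z.Nonempty → (Z ∩ Y).Nonempty) :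
    JacobsonSpace ↥(Yᶜ) := by
  have hUo : IsOpen (Yᶜ : Set X) := hY.isOpen_compl
  apply JacPunct.jacobsonSpace_of_locally_noetherian
  · intro x
    obtain ⟨W, hW, hxW, -⟩ := exists_isAffineOpen_mem_and_subset (X := X) (x := x.1)
      (U := ⊤) trivial
    haveI : IsNoetherianRing Γ(X, W) := IsLocallyNoetherian.component_noetherian ⟨W, hW⟩
    have hN : TopologicalSpace.NoetherianSpace ↥(W : Set X) := noetherianSpace_of_isAffineOpen W hW
    refine ⟨Subtype.val ⁻¹' (W : Set X), W.2.preimage continuous_subtype_val, hxW, ?_⟩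
    let g : ↥(Subtype.val ⁻¹' (W : Set X) : Set ↥(Yᶜ)) → ↥(W : Set X) := fun v => ⟨v.1.1, v.2⟩
    have hg : Topology.IsInducing g := by
      refine Topology.IsInducing.of_comp (f := g) (g := Subtype.val) ?_ continuous_subtype_val ?_
      · exact Continuous.subtype_mk (continuous_subtype_val.comp continuous_subtype_val) _
      · have h := (Topology.IsInducing.subtypeVal (t := (Yᶜ : Set X))).comp
          (Topology.IsInducing.subtypeVal (t := (Subtype.val ⁻¹' (W : Set X) : Set ↥(Yᶜ))))
        exact h
    exact @Topology.IsInducing.noetherianSpace _ _ _ _ hN g hg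
  · intro u hu
    have hlc : IsLocallyClosed ({u.1} : Set X) := by
      have := hu.image Topology.IsInducing.subtypeVal
        (by rw [Subtype.range_val]; exact hUo.isLocallyClosed)
      rwa [Set.image_singleton] at this
    rw [← closure_subset_iff_isClosed]
    intro x hx
    rw [← specializes_iff_mem_closure, subtype_specializes_iff] at hx
    by_contra hne
    have hne' : u.1 ≠ x.1 := fun h => hne (Subtype.ext h.symm)
    obtain ⟨y, hyx, hyY⟩ := hmeet (closure {x.1}) isClosed_closure ⟨x.1, subset_closure rfl⟩
    rw [← specializes_iff_mem_closure] at hyx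
    have hy_ne : x.1 ≠ y := fun h => x.2 (h ▸ hyY)
    have hemb : Topology.IsEmbedding (X.fromSpecStalk y) := (X.fromSpecStalk y).isEmbedding
    obtain ⟨qu, hqu⟩ : u.1 ∈ Set.range (X.fromSpecStalk y) := by
      rw [Scheme.range_fromSpecStalk]; exact hx.trans hyx
    obtain ⟨qx, hqx⟩ : x.1 ∈ Set.range (X.fromSpecStalk y) := by
      rw [Scheme.range_fromSpecStalk]; exact hyx
    obtain ⟨qy, hqy⟩ : y ∈ Set.range (X.fromSpecStalk y) := by
      rw [Scheme.range_fromSpecStalk]; exact specializes_rfl
    have h1 : qu ⤳ qx := hemb.isInducing.specializes_iff.1 (by rw [hqu, hqx]; exact hx)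
    have h2 : qx ⤳ qy := hemb.isInducing.specializes_iff.1
      ((specializes_of_eq hqx).trans (hyx.trans (specializes_of_eq hqy.symm)))
    have hlcq : IsLocallyClosed ({qu} : Set (Spec (X.presheaf.stalk y))) := by
      have := hlc.preimage (X.fromSpecStalk y).continuous
      rwa [← hqu, ← Set.image_singleton, hemb.injective.preimage_image] at this
    have hn1 : qu ≠ qx := fun h => hne' (by rw [← hqu, ← hqx, h])
    have hn2 : qx ≠ qy := fun h => hy_ne (hqx.symm.trans ((congrArg _ h).trans hqy))
    exact JacPunct.no_chain_of_isLocallyClosed_singleton (A := X.presheaf.stalk y) qu qx qy hlcq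
      (lt_of_le_of_ne ((PrimeSpectrum.le_iff_specializes _ _).2 h1) hn1)
      (lt_of_le_of_ne ((PrimeSpectrum.le_iff_specializes _ _).2 h2) hn2)

end Groth.Agent.S3432
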