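import Groth.Statements.S3433
import Groth.Agent.Lib.Helper7.JacobsonPunctured
import Groth.Agent.Lib.Helper7.AffineChain

set_option autoImplicit false
universe u
open EGA43

namespace Groth.Agent.S3433

open Groth.Agent.Lib.Helper7

variable {A : Type u} [CommRing A] [IsNoetherianRing A] [IsLocalRing A]

theorem lt_closedPoint (x : ↥({IsLocalRing.closedPoint A}ᶜ : Set (PrimeSpectrum A))) :
    x.1 < IsLocalRing.closedPoint A := by
  refine lt_of_le_of_ne ?_ x.2
  exact IsLocalRing.le_maximalIdeal x.1.2.ne_top

theorem isClosed_singleton_iff (p : ↥({IsLocalRing.closedPoint A}ᶜ : Set (PrimeSpectrum A))) :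
    IsClosed ({p} : Set ↥({IsLocalRing.closedPoint A}ᶜ : Set (PrimeSpectrum A))) ↔
      ∀ x : ↥({IsLocalRing.closedPoint A}ᶜ : Set (PrimeSpectrum A)), p.1 ≤ x.1 → x = p := by
  rw [← closure_subset_iff_isClosed]
  constructor
  · intro h x hx
    have : x ∈ closure {p} := by
      rw [← specializes_iff_mem_closure, subtype_specializes_iff,
        ← PrimeSpectrum.le_iff_specializes]
      exact hx
    exact h this
  · intro h x hx
    rw [← specializes_iff_mem_closure, subtype_specializes_iff,
        ← PrimeSpectrum.le_iff_specializes] at hx
    exact h x hx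


/-- Let A be a Noetherian local ring with maximal ideal m and let Y be the punctured spectrum Spec A ∖
{m}. Then Y is a Jacobson space, and a point p of Y is closed in Y if and only if dim A/p = 1. -/
theorem result (A : Type u) [CommRing A] [IsNoetherianRing A] [IsLocalRing A] :
    JacobsonSpace ↥({IsLocalRing.closedPoint A}ᶜ : Set (PrimeSpectrum A)) ∧
      ∀ p : ↥({IsLocalRing.closedPoint A}ᶜ : Set (PrimeSpectrum A)),
        IsClosed ({p} : Set ↥({IsLocalRing.closedPoint A}ᶜ : Set (PrimeSpectrum A))) ↔
          ringKrullDim (A ⧸ p.1.asIdeal) = 1 := by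
  have hUo : IsOpen ({IsLocalRing.closedPoint A}ᶜ : Set (PrimeSpectrum A)) :=
    isOpen_compl_iff.2 (IsLocalRing.isClosed_singleton_closedPoint A)
  refine ⟨?_, ?_⟩
  · apply JacPunct.jacobsonSpace_of_locally_noetherian
    · intro x
      refine ⟨Set.univ, isOpen_univ, Set.mem_univ _, ?_⟩
      exact (Topology.IsInducing.subtypeVal.comp Topology.IsInducing.subtypeVal).noetherianSpace
        (α := PrimeSpectrum A)
    · intro p hp
      have hlc : IsLocallyClosed ({p.1} : Set (PrimeSpectrum A)) := by
        have := hp.image Topology.IsInducing.subtypeVal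
          (by rw [Subtype.range_val]; exact hUo.isLocallyClosed)
        rwa [Set.image_singleton] at this
      rw [isClosed_singleton_iff]
      intro x hx
      by_contra hne
      have hlt : p.1 < x.1 := lt_of_le_of_ne hx (fun h => hne (Subtype.ext h.symm))
      exact JacPunct.no_chain_of_isLocallyClosed_singleton p.1 x.1 _ hlc hlt (lt_closedPoint x)
  · intro p
    rw [isClosed_singleton_iff, AffChain.ringKrullDim_quotient_eq_coheight]
    constructor
    · intro h
      have h1 : Order.coheight p.1 ≤ 1 := by
        have : Order.coheight p.1 ≤ ((1 : ℕ) : ℕ∞) := by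
          rw [Order.coheight_le_coe_iff]
          intro y hy
          have hym : y = IsLocalRing.closedPoint A := by
            by_contra hne
            have := h ⟨y, hne⟩ hy.le
            have h2 : y = p.1 := congrArg Subtype.val this
            exact hy.ne h2.symm
          rw [hym]
          have : Order.coheight (IsLocalRing.closedPoint A) = 0 := by
            rw [Order.coheight_eq_zero]
            intro z hz
            exact IsLocalRing.le_maximalIdeal z.2.ne_top
          rw [this]
          norm_num
        simpa using this
      have h2 : 1 ≤ Order.coheight p.1 := by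
        have := Order.coheight_add_one_le (lt_closedPoint p)
        exact le_trans (by simp) this
      have : Order.coheight p.1 = 1 := le_antisymm h1 h2
      rw [this]
      rfl
    · intro h x hx
      by_contra hne
      have hlt : p.1 < x.1 := lt_of_le_of_ne hx (fun h => hne (Subtype.ext h.symm))
      have e1 := Order.coheight_add_one_le (lt_closedPoint x)
      have e2 := Order.coheight_add_one_le hlt
      have h1 : Order.coheight p.1 = 1 := by
        have : ((Order.coheight p.1 : ℕ∞) : WithBot ℕ∞) = ((1 : ℕ∞) : WithBot ℕ∞) := h
        exact WithBot.coe_injective this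
      rw [h1] at e2
      have : (2 : ℕ∞) ≤ 1 := by
        calc (2 : ℕ∞) = 0 + 1 + 1 := by norm_num
          _ ≤ Order.coheight (IsLocalRing.closedPoint A) + 1 + 1 := by gcongr; exact zero_le
          _ ≤ Order.coheight x.1 + 1 := by gcongr
          _ ≤ 1 := e2
      exact absurd this (by decide)

end Groth.Agent.S3433
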