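import Groth.Statements.S3434
import Mathlib
import Groth.Agent.Lib.Helper13.StalkSpread
import Groth.Agent.Lib.Helper13.DvrAtMax
import Groth.Agent.Lib.Helper13.DvrLift

set_option autoImplicit false
open CategoryTheory AlgebraicGeometry
universe u
open EGA43

namespace Groth.Agent.S3434

section helpers
set_option linter.unusedSectionVars false
set_option linter.unusedVariables false
set_option linter.style.haveILetI false
open CategoryTheory CategoryTheory.Limits AlgebraicGeometry TopologicalSpace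

open Groth.Agent.Lib.Helper13.StalkSpread Groth.Agent.Lib.Helper13.DvrAtMax
  Groth.Agent.Lib.Helper13.DvrLift

theorem comap_isDVR_or_eq_top {K L : Type*} [Field K] [Field L] (θ : K →+* L)
    (B : ValuationSubring L) [IsDiscreteValuationRing B] :
    IsDiscreteValuationRing (B.comap θ) ∨ B.comap θ = ⊤ := by
  by_cases htop : B.comap θ = ⊤
  · exact Or.inr htop
  left
  have hmem : ∀ a : K, a ∈ B.comap θ ↔ θ a ∈ B := fun a => ValuationSubring.mem_comap
  let v : (B.comap θ) → ℕ∞ := fun a => IsDiscreteValuationRing.addVal B ⟨θ a.1, (hmem _).mp a.2⟩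
  have hPID : IsPrincipalIdealRing (B.comap θ) := by
    refine ⟨fun I => ?_⟩
    obtain ⟨m, ⟨a₀, rfl⟩, hmin⟩ := wellFounded_lt.has_min (Set.range fun a : I => v a.1)
      ⟨_, ⟨0, rfl⟩⟩
    refine ⟨a₀.1, ?_⟩
    apply le_antisymm
    · intro b hb
      have h1 : v a₀.1 ≤ v b := not_lt.mp (hmin _ ⟨⟨b, hb⟩, rfl⟩)
      rw [IsDiscreteValuationRing.addVal_le_iff_dvd] at h1
      obtain ⟨c, hc⟩ := h1
      have hc' : θ b.1 = θ a₀.1.1 * c.1 := congrArg Subtype.val hc
      rw [Ideal.submodule_span_eq, Ideal.mem_span_singleton]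
      by_cases ha₀ : a₀.1.1 = 0
      · have hb0 : b.1 = 0 := by
          rw [ha₀, map_zero, zero_mul] at hc'
          exact (map_eq_zero θ).mp hc'
        have : b = 0 := Subtype.ext hb0
        rw [this]; exact dvd_zero _
      · have hθa : θ a₀.1.1 ≠ 0 := (map_ne_zero θ).mpr ha₀
        have hcθ : θ (b.1 / a₀.1.1) = c.1 := by
          rw [map_div₀, hc', mul_div_cancel_left₀ _ hθa]
        refine ⟨⟨b.1 / a₀.1.1, (hmem _).mpr (hcθ ▸ c.2)⟩, Subtype.ext ?_⟩
        show b.1 = a₀.1.1 * (b.1 / a₀.1.1)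
        rw [mul_div_cancel₀ _ ha₀]
    · rw [Ideal.submodule_span_eq, Ideal.span_singleton_le_iff_mem]; exact a₀.2
  refine { toIsPrincipalIdealRing := hPID, toIsLocalRing := inferInstance, not_a_field' := ?_ }
  intro hbot
  apply htop
  rw [eq_top_iff]
  intro x _
  by_contra hx
  have hx0 : x ≠ 0 := fun h => hx (h ▸ (B.comap θ).zero_mem)
  have hinv : x⁻¹ ∈ B.comap θ := ((B.comap θ).mem_or_inv_mem x).resolve_left hx
  by_cases hu : IsUnit (⟨x⁻¹, hinv⟩ : B.comap θ)
  · obtain ⟨c, hc⟩ := hu.exists_right_inv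
    have hc' : x⁻¹ * c.1 = 1 := congrArg Subtype.val hc
    have : c.1 = x := by
      field_simp at hc'
      exact hc'
    exact hx (this ▸ c.2)
  · have h2 : (⟨x⁻¹, hinv⟩ : B.comap θ) ∈ IsLocalRing.maximalIdeal (B.comap θ) :=
      (IsLocalRing.mem_maximalIdeal _).mpr hu
    rw [hbot, Ideal.mem_bot] at h2
    have : x⁻¹ = 0 := congrArg Subtype.val h2
    exact hx0 (inv_eq_zero.mp this)


theorem exists_factor_of_range {R A₀ K₀ : Type*} [CommRing R] [CommRing A₀] [CommRing K₀]
    [Algebra A₀ K₀] (hinj : Function.Injective (algebraMap A₀ K₀)) (g : R →+* K₀)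
    (h : ∀ r, ∃ a : A₀, algebraMap A₀ K₀ a = g r) :
    ∃ β : R →+* A₀, (algebraMap A₀ K₀).comp β = g := by
  choose b hb using h
  exact ⟨{ toFun := b
           map_one' := hinj (by rw [hb, map_one, map_one])
           map_mul' := fun r s => hinj (by rw [hb, map_mul, map_mul, hb, hb])
           map_zero' := hinj (by rw [hb, map_zero, map_zero])
           map_add' := fun r s => hinj (by rw [hb, map_add, map_add, hb, hb]) },
    RingHom.ext fun r => hb r⟩

theorem lift_of_stalk_hom {X Y : Scheme.{u}} [IsIntegral X] (f : X ⟶ Y) (y : Y)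
    (hξ : f.base (genericPoint X) ⤳ y)
    (A₀ : Type u) [CommRing A₀] [IsDomain A₀]
    (α : Y.presheaf.stalk y ⟶ CommRingCat.of A₀)
    (θ : X.presheaf.stalk (genericPoint X) ⟶ CommRingCat.of (FractionRing A₀))
    (hcompat : (Y.presheaf.stalkSpecializes hξ ≫ f.stalkMap (genericPoint X)) ≫ θ =
      α ≫ CommRingCat.ofHom (algebraMap A₀ (FractionRing A₀)))
    (x₁ : X) (h₁ : f.base x₁ ⤳ y) (β : X.presheaf.stalk x₁ ⟶ CommRingCat.of A₀)
    (hβ : β ≫ CommRingCat.ofHom (algebraMap A₀ (FractionRing A₀)) =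
      X.presheaf.stalkSpecializes (genericPoint_specializes x₁) ≫ θ) :
    Spec.map (CommRingCat.ofHom (algebraMap A₀ (FractionRing A₀))) ≫
        (Spec.map β ≫ X.fromSpecStalk x₁) = Spec.map θ ≫ X.fromSpecStalk (genericPoint X) ∧
      (Spec.map β ≫ X.fromSpecStalk x₁) ≫ f = Spec.map α ≫ Y.fromSpecStalk y := by
  constructor
  · rw [← Category.assoc, ← Spec.map_comp, hβ, Spec.map_comp, Category.assoc,
      Scheme.SpecMap_stalkSpecializes_fromSpecStalk]
  · have hmono : Mono (CommRingCat.ofHom (algebraMap A₀ (FractionRing A₀))) :=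
      ConcreteCategory.mono_of_injective _ (IsFractionRing.injective A₀ (FractionRing A₀))
    have hα : Y.presheaf.stalkSpecializes h₁ ≫ f.stalkMap x₁ ≫ β = α := by
      rw [← cancel_mono (CommRingCat.ofHom (algebraMap A₀ (FractionRing A₀))), ← hcompat]
      simp only [Category.assoc]
      rw [hβ, ← Scheme.Hom.stalkSpecializes_stalkMap_assoc, ← Category.assoc,
        TopCat.Presheaf.stalkSpecializes_comp]
    rw [Category.assoc, ← Scheme.SpecMap_stalkMap_fromSpecStalk,
      ← Scheme.SpecMap_stalkSpecializes_fromSpecStalk h₁, ← hα]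
    simp only [Spec.map_comp, Category.assoc]


theorem flat_fromSpecStalk (X : Scheme.{u}) (x : X) : Flat (X.fromSpecStalk x) := by
  obtain ⟨_, ⟨U, hU : IsAffineOpen U, rfl⟩, hxU, -⟩ :=
    X.isBasis_affineOpens.exists_subset_of_mem_open (Set.mem_univ x) isOpen_univ
  rw [← hU.fromSpecStalk_eq_fromSpecStalk hxU]
  dsimp [IsAffineOpen.fromSpecStalk]
  have : Flat (Spec.map (X.presheaf.germ U x hxU)) := by
    rw [Flat.SpecMap_iff]
    let : Algebra Γ(X, U) (X.presheaf.stalk x) := (X.presheaf.germ U x hxU).hom.toAlgebra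
    have := hU.isLocalization_stalk ⟨x, hxU⟩
    exact IsLocalization.flat (X.presheaf.stalk x) (hU.primeIdealOf ⟨x, hxU⟩).asIdeal.primeCompl
  infer_instance

set_option maxHeartbeats 1600000 in
theorem dvrAtMax_of_dominating {X Y : Scheme.{u}} [IsIntegral X] (f : X ⟶ Y) (y : Y)
    (hξ : f.base (genericPoint X) ⤳ y)
    (H : ∀ A : ValuationSubring X.functionField, IsDiscreteValuationRing A →
        (∀ r : Y.presheaf.stalk y, A.valuation ((Y.presheaf.stalkSpecializes hξ ≫ f.stalkMap (genericPoint X)) r) ≤ 1) →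
        (∀ r ∈ IsLocalRing.maximalIdeal (Y.presheaf.stalk y),
            A.valuation ((Y.presheaf.stalkSpecializes hξ ≫ f.stalkMap (genericPoint X)) r) < 1) →
        ∃ x : X, f.base x = y ∧
          (∀ r : X.presheaf.stalk x, A.valuation (X.presheaf.stalkSpecializes (genericPoint_specializes x) r) ≤ 1) ∧
          (∀ r ∈ IsLocalRing.maximalIdeal (X.presheaf.stalk x),
            A.valuation (X.presheaf.stalkSpecializes (genericPoint_specializes x) r) < 1)) :
    DvrAtMax (pullback.snd f (Y.fromSpecStalk y))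
      (IsLocalRing.closedPoint (Y.presheaf.stalk y)) := by
  intro A₀ _ _ _ hA x hcl hmax hx
  let K₀ := FractionRing A₀
  let fss := Y.fromSpecStalk y
  let q := pullback.fst f fss
  let gen := Spec.map (CommRingCat.ofHom (algebraMap A₀ K₀))
  let pt : ↥(Spec (CommRingCat.of K₀)) := IsLocalRing.closedPoint K₀
  let ξ := genericPoint X
  let x₀ : Spec (CommRingCat.of K₀) ⟶ X := x ≫ q
  have hx₀f : x₀ ≫ f = gen ≫ hA ≫ fss := by
    simp only [x₀, q, Category.assoc]
    rw [pullback.condition, ← Category.assoc, hx, Category.assoc]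
  have hx₀pt : x₀.base pt = ξ := by
    haveI : Flat fss := flat_fromSpecStalk Y y
    haveI : Flat q := inferInstance
    have hqmax : IsMaxPt (q.base (x.base pt)) := by
      intro t₁ ht₁
      obtain ⟨t', ht', rfl⟩ := (Flat.generalizingMap q) ht₁
      rw [hmax t' ht']
    exact (hqmax ξ (genericPoint_specializes _)).symm
  obtain ⟨θ, -, hθ⟩ := exists_stalk_hom K₀ x₀ ξ hx₀pt
  obtain ⟨α, hα⟩ : ∃ α : Y.presheaf.stalk y ⟶ CommRingCat.of A₀, Spec.map α = hA :=
    ⟨Spec.preimage hA, Spec.map_preimage hA⟩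
  haveI hαloc : IsLocalHom α.hom := by
    rw [IsLocalRing.isLocalHom_iff_comap_closedPoint]
    rw [← hα] at hcl
    exact hcl
  let φ := Y.presheaf.stalkSpecializes hξ ≫ f.stalkMap ξ
  have hcompat : φ ≫ θ = α ≫ CommRingCat.ofHom (algebraMap A₀ K₀) := by
    apply Spec.map_injective
    rw [← cancel_mono fss]
    simp only [φ, Spec.map_comp, Category.assoc]
    rw [Scheme.SpecMap_stalkSpecializes_fromSpecStalk, Scheme.SpecMap_stalkMap_fromSpecStalk,
      ← Category.assoc, hθ, hx₀f, hα]
  have hcompat' : ∀ r, θ.hom (φ.hom r) = algebraMap A₀ K₀ (α.hom r) := fun r =>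
    congrArg (fun ψ : Y.presheaf.stalk y ⟶ CommRingCat.of K₀ => ψ.hom r) hcompat
  have hinj : Function.Injective (algebraMap A₀ K₀) := IsFractionRing.injective A₀ K₀
  -- the valuation subring
  let V₀ : ValuationSubring K₀ := (ValuationRing.valuation A₀ K₀).valuationSubring
  have hV₀ : ∀ z : K₀, z ∈ V₀ ↔ ∃ a : A₀, algebraMap A₀ K₀ a = z :=
    fun z => ValuationRing.mem_integer_iff A₀ K₀ z
  haveI : IsDiscreteValuationRing V₀ := by
    have h : IsDiscreteValuationRing (ValuationRing.valuation A₀ K₀).integer :=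
      IsDiscreteValuationRing.RingEquivClass.isDiscreteValuationRing
        (ValuationRing.equivInteger A₀ K₀)
    exact h
  let A : ValuationSubring X.functionField := V₀.comap θ.hom
  have hAmem : ∀ z : X.functionField, z ∈ A ↔ ∃ a : A₀, algebraMap A₀ K₀ a = θ.hom z :=
    fun z => (hV₀ _)
  -- it suffices to find a point and a homomorphism
  obtain ⟨x₁, h₁, β, hβ⟩ : ∃ (x₁ : X) (_ : f.base x₁ ⤳ y) (β : X.presheaf.stalk x₁ ⟶ CommRingCat.of A₀),
      β ≫ CommRingCat.ofHom (algebraMap A₀ K₀) =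
        X.presheaf.stalkSpecializes (genericPoint_specializes x₁) ≫ θ := by
    rcases comap_isDVR_or_eq_top θ.hom V₀ with hDVR | htop
    · have hφmem : ∀ r, φ.hom r ∈ A := fun r => (hAmem _).mpr ⟨α.hom r, (hcompat' r).symm⟩
      obtain ⟨x₁, hx₁, hc, -⟩ := H A hDVR
        (fun r => (A.valuation_le_one_iff _).mpr (hφmem r))
        (fun r hr => by
          refine (A.valuation_lt_one_iff ⟨φ.hom r, hφmem r⟩).mp ?_
          rw [IsLocalRing.mem_maximalIdeal]
          intro hu
          obtain ⟨c, hc⟩ := hu.exists_right_inv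
          have hc' : φ.hom r * c.1 = 1 := congrArg Subtype.val hc
          obtain ⟨c', hc''⟩ := (hAmem _).mp c.2
          have h2 : α.hom r * c' = 1 := by
            apply hinj
            rw [map_mul, map_one, ← hcompat', hc'', ← map_mul, hc', map_one]
          have h3 : IsUnit (α.hom r) := IsUnit.of_mul_eq_one _ h2
          have h4 : IsUnit r := (isUnit_map_iff α.hom r).mp h3
          exact hr h4)
      let ψ := X.presheaf.stalkSpecializes (genericPoint_specializes x₁)
      obtain ⟨β₀, hβ₀⟩ := exists_factor_of_range hinj (θ.hom.comp ψ.hom)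
        (fun r => (hAmem _).mp ((A.valuation_le_one_iff _).mp (hc r)))
      refine ⟨x₁, specializes_of_eq hx₁, CommRingCat.ofHom β₀, ?_⟩
      ext r
      exact congrArg (fun g : _ →+* K₀ => g r) hβ₀
    · obtain ⟨β₀, hβ₀⟩ := exists_factor_of_range hinj θ.hom
        (fun r => (hAmem _).mp (by rw [show A = ⊤ from htop]; trivial))
      refine ⟨ξ, hξ, CommRingCat.ofHom β₀, ?_⟩
      have : X.presheaf.stalkSpecializes (genericPoint_specializes ξ) = 𝟙 _ :=
        TopCat.Presheaf.stalkSpecializes_refl _ _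
      rw [this, Category.id_comp]
      ext r
      exact congrArg (fun g : _ →+* K₀ => g r) hβ₀
  obtain ⟨hl₀gen, hl₀f⟩ := lift_of_stalk_hom f y hξ A₀ α θ hcompat x₁ h₁ β hβ
  rw [hθ] at hl₀gen
  rw [hα] at hl₀f
  refine ⟨pullback.lift (Spec.map β ≫ X.fromSpecStalk x₁) hA hl₀f, pullback.lift_snd _ _ _, ?_⟩
  apply pullback.hom_ext
  · rw [Category.assoc, pullback.lift_fst, hl₀gen]
  · rw [Category.assoc, pullback.lift_snd]
    exact hx.symm


theorem baseChange_comp (P : MorphismProperty Scheme.{u}) [P.IsStableUnderBaseChange]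
    {X Y Z W : Scheme.{u}} (f : X ⟶ Y) (r : Z ⟶ Y) (a : W ⟶ Z) (r' : W ⟶ Y) (hr : r' = a ≫ r)
    (h : P (pullback.snd f r)) : P (pullback.snd f r') := by
  subst hr
  let l : pullback f (a ≫ r) ⟶ pullback f r :=
    pullback.lift (pullback.fst f (a ≫ r)) (pullback.snd f (a ≫ r) ≫ a)
      (by rw [Category.assoc]; exact pullback.condition)
  have hl1 : l ≫ pullback.fst f r = pullback.fst f (a ≫ r) := pullback.lift_fst _ _ _
  have hl2 : l ≫ pullback.snd f r = pullback.snd f (a ≫ r) ≫ a := pullback.lift_snd _ _ _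
  have big : IsPullback (l ≫ pullback.fst f r) (pullback.snd f (a ≫ r)) f (a ≫ r) := by
    rw [hl1]; exact IsPullback.of_hasPullback _ _
  have sq : IsPullback l (pullback.snd f (a ≫ r)) (pullback.snd f r) a :=
    IsPullback.of_right big hl2 (IsPullback.of_hasPullback f r)
  exact MorphismProperty.of_isPullback sq h

set_option maxHeartbeats 1600000 in
theorem main_mpr {X Y : Scheme.{u}} [IsIntegral X] [IsLocallyNoetherian Y]
    (f : X ⟶ Y) [IsSeparated f] [LocallyOfFiniteType f] [QuasiCompact f] (y : Y)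
    (hξ : f.base (genericPoint X) ⤳ y)
    (H : ∀ A : ValuationSubring X.functionField, IsDiscreteValuationRing A →
        (∀ r : Y.presheaf.stalk y, A.valuation ((Y.presheaf.stalkSpecializes hξ ≫ f.stalkMap (genericPoint X)) r) ≤ 1) →
        (∀ r ∈ IsLocalRing.maximalIdeal (Y.presheaf.stalk y),
            A.valuation ((Y.presheaf.stalkSpecializes hξ ≫ f.stalkMap (genericPoint X)) r) < 1) →
        ∃ x : X, f.base x = y ∧
          (∀ r : X.presheaf.stalk x, A.valuation (X.presheaf.stalkSpecializes (genericPoint_specializes x) r) ≤ 1) ∧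
          (∀ r ∈ IsLocalRing.maximalIdeal (X.presheaf.stalk x),
            A.valuation (X.presheaf.stalkSpecializes (genericPoint_specializes x) r) < 1)) :
    ∃ U : Y.Opens, y ∈ U ∧ IsProper (f ∣_ U) := by
  let fss := Y.fromSpecStalk y
  have hD := dvrAtMax_of_dominating f y hξ H
  have hproper : IsProper (pullback.snd f fss) := by
    refine isProper_of_dvrAtMax (pullback.snd f fss)
      (IsLocalRing.closedPoint (Y.presheaf.stalk y)) ?_ hD
    intro F hF hne
    by_contra hb
    have h1 : (⟨Fᶜ, hF.isOpen_compl⟩ : TopologicalSpace.Opens (PrimeSpectrum (Y.presheaf.stalk y)))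
        = ⊤ := (IsLocalRing.closedPoint_mem_iff (U := ⟨Fᶜ, hF.isOpen_compl⟩)).mp hb
    obtain ⟨z, hz⟩ := hne
    have h2 : z ∈ (⟨Fᶜ, hF.isOpen_compl⟩ : TopologicalSpace.Opens
      (PrimeSpectrum (Y.presheaf.stalk y))) := by rw [h1]; trivial
    exact h2 hz
  have hP : IsProper (pullback.snd f (pullback.fst (𝟙 Y) fss)) :=
    baseChange_comp @IsProper f fss (pullback.snd (𝟙 Y) fss) _
      (by rw [← pullback.condition, Category.comp_id]) hproper
  obtain ⟨W, hW, hPW⟩ := exists_nhd_of_stalk @IsProper descends_isProper Y f (𝟙 Y) y hP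
  exact ⟨W, hW, hPW⟩

set_option maxHeartbeats 1600000 in
theorem main_mp {X Y : Scheme.{u}} [IsIntegral X] (f : X ⟶ Y) (y : Y)
    (hξ : f.base (genericPoint X) ⤳ y) (U : Y.Opens) (hyU : y ∈ U) (hprop : IsProper (f ∣_ U))
    (A : ValuationSubring X.functionField)
    (ha : ∀ r : Y.presheaf.stalk y, A.valuation ((Y.presheaf.stalkSpecializes hξ ≫ f.stalkMap (genericPoint X)) r) ≤ 1)
    (hb : ∀ r ∈ IsLocalRing.maximalIdeal (Y.presheaf.stalk y),
            A.valuation ((Y.presheaf.stalkSpecializes hξ ≫ f.stalkMap (genericPoint X)) r) < 1) :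
    ∃ x : X, f.base x = y ∧
      (∀ r : X.presheaf.stalk x, A.valuation (X.presheaf.stalkSpecializes (genericPoint_specializes x) r) ≤ 1) ∧
      (∀ r ∈ IsLocalRing.maximalIdeal (X.presheaf.stalk x),
        A.valuation (X.presheaf.stalkSpecializes (genericPoint_specializes x) r) < 1) := by
  let ξ := genericPoint X
  let φ := Y.presheaf.stalkSpecializes hξ ≫ f.stalkMap ξ
  have hmem : ∀ r, φ.hom r ∈ A := fun r => (A.valuation_le_one_iff _).mp (ha r)
  let α₀ : Y.presheaf.stalk y →+* A := φ.hom.codRestrict A.toSubring hmem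
  let α : Y.presheaf.stalk y ⟶ CommRingCat.of A := CommRingCat.ofHom α₀
  let ιA : CommRingCat.of A ⟶ X.functionField :=
    CommRingCat.ofHom (algebraMap A X.functionField)
  have hαφ : α ≫ ιA = φ := by ext r; rfl
  haveI : IsLocalHom α₀ := ⟨fun r hr => by
    by_contra hnu
    have h1 : r ∈ IsLocalRing.maximalIdeal _ := (IsLocalRing.mem_maximalIdeal _).mpr hnu
    have h2 := hb r h1
    have h3 : A.valuation (α₀ r) = 1 := (A.valuation_eq_one_iff _).mp hr
    exact (ne_of_lt h2) h3⟩
  haveI : IsLocalHom α.hom := ‹IsLocalHom α₀›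
  let gen := Spec.map ιA
  let fss := Y.fromSpecStalk y
  let hY : Spec (CommRingCat.of A) ⟶ Y := Spec.map α ≫ fss
  have hYcl : hY.base (IsLocalRing.closedPoint A) = y := specMap_closedPoint y A α
  -- `hY` factors through `U`
  have hYU : Set.range hY.base ⊆ Set.range U.ι.base := by
    rintro _ ⟨a, rfl⟩
    rw [Scheme.Opens.range_ι]
    have h1 : a ⤳ IsLocalRing.closedPoint A := IsLocalRing.specializes_closedPoint a
    have h2 := h1.map hY.continuous
    rw [hYcl] at h2
    exact h2.mem_open U.2 hyU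
  let i₂ : Spec (CommRingCat.of A) ⟶ U.toScheme := IsOpenImmersion.lift U.ι hY hYU
  have hi₂ : i₂ ≫ U.ι = hY := IsOpenImmersion.lift_fac _ _ _
  -- the generic point
  let i₁X : Spec X.functionField ⟶ X := X.fromSpecStalk ξ
  have hi₁Xf : i₁X ≫ f = gen ≫ hY := by
    simp only [i₁X, gen, hY]
    rw [← Category.assoc, ← Spec.map_comp, hαφ]
    simp only [φ, Spec.map_comp, Category.assoc]
    rw [Scheme.SpecMap_stalkSpecializes_fromSpecStalk, Scheme.SpecMap_stalkMap_fromSpecStalk]
  have hi₁XU : Set.range i₁X.base ⊆ Set.range (f ⁻¹ᵁ U).ι.base := by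
    rintro _ ⟨a, rfl⟩
    rw [Scheme.Opens.range_ι]
    show f.base (i₁X.base a) ∈ U
    have : f.base (i₁X.base a) = hY.base (gen.base a) :=
      congrArg (fun ψ : Spec X.functionField ⟶ Y => ψ.base a) hi₁Xf
    rw [this, ← SetLike.mem_coe, ← Scheme.Opens.range_ι]
    exact hYU ⟨_, rfl⟩
  let i₁ : Spec X.functionField ⟶ (f ⁻¹ᵁ U).toScheme :=
    IsOpenImmersion.lift (f ⁻¹ᵁ U).ι i₁X hi₁XU
  have hi₁ : i₁ ≫ (f ⁻¹ᵁ U).ι = i₁X := IsOpenImmersion.lift_fac _ _ _
  have hsq : i₁ ≫ (f ∣_ U) = gen ≫ i₂ := by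
    rw [← cancel_mono U.ι, Category.assoc, Category.assoc, morphismRestrict_ι, ← Category.assoc,
      hi₁, hi₁Xf, hi₂]
  have hE : ValuativeCriterion.Existence (f ∣_ U) := by
    have : UniversallyClosed (f ∣_ U) := inferInstance
    rw [UniversallyClosed.eq_valuativeCriterion] at this
    exact this.1
  let S₁ : ValuativeCommSq (f ∣_ U) :=
    { R := A, K := X.functionField, i₁ := i₁, i₂ := i₂, commSq := ⟨hsq⟩ }
  obtain ⟨⟨l', hl1', hl2'⟩⟩ := hE S₁
  let l : Spec (CommRingCat.of A) ⟶ (f ⁻¹ᵁ U).toScheme := l'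
  have hl1 : gen ≫ l = i₁ := hl1'
  have hl2 : l ≫ (f ∣_ U) = i₂ := hl2'
  let lX : Spec (CommRingCat.of A) ⟶ X := l ≫ (f ⁻¹ᵁ U).ι
  have hlXf : lX ≫ f = hY := by
    simp only [lX, Category.assoc]
    rw [← morphismRestrict_ι, ← Category.assoc, hl2, hi₂]
  have hlXgen : gen ≫ lX = i₁X := by
    simp only [lX]
    rw [← Category.assoc, hl1, hi₁]
  let x₁ : X := lX.base (IsLocalRing.closedPoint A)
  obtain ⟨β, hβloc, hβ⟩ := exists_stalk_hom A lX x₁ rfl
  have hβψ : β ≫ ιA = X.presheaf.stalkSpecializes (genericPoint_specializes x₁) := by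
    apply Spec.map_injective
    rw [← cancel_mono (X.fromSpecStalk x₁), Spec.map_comp, Category.assoc, hβ, hlXgen,
      Scheme.SpecMap_stalkSpecializes_fromSpecStalk]
  have hβψ' : ∀ r, X.presheaf.stalkSpecializes (genericPoint_specializes x₁) r = (β.hom r : A).1 :=
    fun r => (congrArg (fun ψ : X.presheaf.stalk x₁ ⟶ X.functionField => ψ.hom r) hβψ).symm
  refine ⟨x₁, ?_, ?_, ?_⟩
  · have : f.base x₁ = hY.base (IsLocalRing.closedPoint A) :=
      congrArg (fun ψ : Spec (CommRingCat.of A) ⟶ Y => ψ.base (IsLocalRing.closedPoint A)) hlXf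
    rw [this, hYcl]
  · intro r
    rw [hβψ']
    exact A.valuation_le_one _
  · intro r hr
    rw [hβψ']
    refine (A.valuation_lt_one_iff _).mp ?_
    rw [IsLocalRing.mem_maximalIdeal] at hr ⊢
    intro hu
    exact hr ((isUnit_map_iff β.hom r).mp hu)


end helpers

/-- Let Y be an integral locally Noetherian scheme, X an integral scheme, f : X ⟶ Y separated, dominant
and of finite type, and y a point of Y; write K for the function field of X (the local ring at its
generic point ξ), into which O_{Y,y} maps through O_{Y,f ξ}. Then f is proper over some open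
neighbourhood of y if and only if every discrete valuation ring of K which dominates (the image of)
O_{Y,y} dominates (the image of) O_{X,x} for some point x of X; such an x lies over y. -/
theorem result {X Y : Scheme.{u}} [IsIntegral X] [IsIntegral Y] [IsLocallyNoetherian Y]
    (f : X ⟶ Y) [IsSeparated f] [IsDominant f] [LocallyOfFiniteType f] [QuasiCompact f] (y : Y)
    (hξ : f.base (genericPoint X) ⤳ y) :
    (∃ U : Y.Opens, y ∈ U ∧ IsProper (f ∣_ U)) ↔
      ∀ A : ValuationSubring X.functionField, IsDiscreteValuationRing A →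
        (∀ r : Y.presheaf.stalk y, A.valuation ((Y.presheaf.stalkSpecializes hξ ≫ f.stalkMap (genericPoint X)) r) ≤ 1) →
        (∀ r ∈ IsLocalRing.maximalIdeal (Y.presheaf.stalk y),
            A.valuation ((Y.presheaf.stalkSpecializes hξ ≫ f.stalkMap (genericPoint X)) r) < 1) →
        ∃ x : X, f.base x = y ∧
          (∀ r : X.presheaf.stalk x, A.valuation (X.presheaf.stalkSpecializes (genericPoint_specializes x) r) ≤ 1) ∧
          (∀ r ∈ IsLocalRing.maximalIdeal (X.presheaf.stalk x),
            A.valuation (X.presheaf.stalkSpecializes (genericPoint_specializes x) r) < 1) := by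
  exact ⟨fun ⟨U, hyU, hprop⟩ A _ ha hb => main_mp f y hξ U hyU hprop A ha hb, fun H => main_mpr f y hξ H⟩

end Groth.Agent.S3434
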