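import Groth.Statements.S3435
-- import your own Groth.Agent.* helpers here

set_option autoImplicit false
universe u
open EGA41

namespace Groth.Agent.S3435

section helpers
open TensorProduct
variable (Λ A B C : Type u) [CommRing Λ] [CommRing A] [CommRing B] [CommRing C]
    [Algebra Λ A] [Algebra Λ B] [Algebra Λ C] [Algebra A B] [Algebra A C] [Algebra B C]
    [IsScalarTower Λ A B] [IsScalarTower Λ A C] [IsScalarTower Λ B C] [IsScalarTower A B C]

/-- commutative square -/
theorem square (η : C ⊗[B] Ω[B⁄Λ]) :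
    KaehlerDifferential.map Λ A C C (KaehlerDifferential.mapBaseChange Λ B C η) =
      KaehlerDifferential.mapBaseChange A B C
        ((KaehlerDifferential.map Λ A B B).baseChange C η) := by
  induction η with
  | zero => simp
  | add x y hx hy => simp only [map_add, hx, hy]
  | tmul c m =>
    simp only [KaehlerDifferential.mapBaseChange_tmul, LinearMap.baseChange_tmul, map_smul]
    congr 1
    have hm : m ∈ Submodule.span B (Set.range (KaehlerDifferential.D Λ B)) := by
      rw [KaehlerDifferential.span_range_derivation]; trivial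
    induction hm using Submodule.span_induction with
    | mem x hx =>
      obtain ⟨b, rfl⟩ := hx
      simp
    | zero => simp
    | add x y _ _ hx hy => simp only [map_add, hx, hy]
    | smul b x _ hx =>
      simp only [map_smul]
      rw [← algebraMap_smul C b, map_smul, hx, algebraMap_smul]

theorem lift_pure (m : Ω[A⁄Λ]) : ∀ c : C, ∃ ζ : C ⊗[B] Ω[B⁄Λ],
    KaehlerDifferential.mapBaseChange Λ B C ζ = KaehlerDifferential.mapBaseChange Λ A C (c ⊗ₜ m) ∧
      (KaehlerDifferential.map Λ A B B).baseChange C ζ = 0 := by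
  have hm : m ∈ Submodule.span A (Set.range (KaehlerDifferential.D Λ A)) := by
    rw [KaehlerDifferential.span_range_derivation]; trivial
  induction hm using Submodule.span_induction with
  | mem x hx =>
    obtain ⟨a, rfl⟩ := hx
    intro c
    refine ⟨c ⊗ₜ KaehlerDifferential.D Λ B (algebraMap A B a), ?_, ?_⟩
    · simp [← IsScalarTower.algebraMap_apply]
    · simp
  | zero => intro c; exact ⟨0, by simp, by simp⟩
  | add x y _ _ hx hy =>
    intro c
    obtain ⟨ζ1, h1, h1'⟩ := hx c
    obtain ⟨ζ2, h2, h2'⟩ := hy c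
    exact ⟨ζ1 + ζ2, by rw [map_add, h1, h2, tmul_add, map_add], by rw [map_add, h1', h2', add_zero]⟩
  | smul a x _ hx =>
    intro c
    obtain ⟨ζ, h1, h2⟩ := hx (a • c)
    refine ⟨ζ, ?_, h2⟩
    rw [h1, TensorProduct.smul_tmul]

theorem lift_all (ξ : C ⊗[A] Ω[A⁄Λ]) : ∃ ζ : C ⊗[B] Ω[B⁄Λ],
    KaehlerDifferential.mapBaseChange Λ B C ζ = KaehlerDifferential.mapBaseChange Λ A C ξ ∧
      (KaehlerDifferential.map Λ A B B).baseChange C ζ = 0 := by
  induction ξ with
  | zero => exact ⟨0, by simp, by simp⟩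
  | tmul c m => exact lift_pure Λ A B C m c
  | add x y hx hy =>
    obtain ⟨ζ1, h1, h1'⟩ := hx
    obtain ⟨ζ2, h2, h2'⟩ := hy
    exact ⟨ζ1 + ζ2, by rw [map_add, h1, h2, map_add], by rw [map_add, h1', h2', add_zero]⟩

theorem aux : ∀ ω ∈ EGA41.imperfection A B C, ∃ η ∈ EGA41.imperfection Λ B C,
      (KaehlerDifferential.map Λ A B B).baseChange C η = ω := by
  intro ω hω
  have hsurj : Function.Surjective ((KaehlerDifferential.map Λ A B B).baseChange C) :=
    LinearMap.baseChange_surjective _ (KaehlerDifferential.map_surjective Λ A B) -- placeholder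
  obtain ⟨η₀, rfl⟩ := hsurj ω
  have h0 : KaehlerDifferential.map Λ A C C (KaehlerDifferential.mapBaseChange Λ B C η₀) = 0 := by
    rw [square]; exact hω
  obtain ⟨ξ, hξ⟩ := (KaehlerDifferential.exact_mapBaseChange_map Λ A C _).1 h0
  obtain ⟨ζ, h1, h2⟩ := lift_all Λ A B C ξ
  refine ⟨η₀ - ζ, ?_, by rw [map_sub, h2, sub_zero]⟩
  change KaehlerDifferential.mapBaseChange Λ B C (η₀ - ζ) = 0
  rw [map_sub, h1, hξ, sub_self]

end helpers

open TensorProduct in
/-- Let Λ → A → B → C be ring homomorphisms. The homomorphism Ω_{B/Λ} ⊗_B C → Ω_{B/A} ⊗_B C maps the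
imperfection module Υ_{C/B/Λ} (the kernel of Ω_{B/Λ} ⊗_B C → Ω_{C/Λ}) onto the imperfection module
Υ_{C/B/A} (the kernel of Ω_{B/A} ⊗_B C → Ω_{C/A}): every element of Υ_{C/B/A} is the image of some
element of Υ_{C/B/Λ}. -/
theorem result (Λ A B C : Type u) [CommRing Λ] [CommRing A] [CommRing B] [CommRing C]
    [Algebra Λ A] [Algebra Λ B] [Algebra Λ C] [Algebra A B] [Algebra A C] [Algebra B C]
    [IsScalarTower Λ A B] [IsScalarTower Λ A C] [IsScalarTower Λ B C] [IsScalarTower A B C] :
    ∀ ω ∈ EGA41.imperfection A B C, ∃ η ∈ EGA41.imperfection Λ B C,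
      (KaehlerDifferential.map Λ A B B).baseChange C η = ω := by
  exact aux Λ A B C

end Groth.Agent.S3435
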