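import Groth.Statements.S3436
import Groth.Agent.Lib.Helper5.AdicStalk
import Groth.Agent.Lib.Helper5.PowSerAdic
import Mathlib.AlgebraicGeometry.Morphisms.Smooth
import Mathlib.AlgebraicGeometry.Noetherian

set_option autoImplicit false
open CategoryTheory AlgebraicGeometry
universe u
open EGA42

namespace Groth.Agent.S3436

/-- Let X and Y be locally Noetherian schemes, f : X ⟶ Y locally of finite type, x a point of X and y =
f x; give O_{X,x} the O_{Y,y}-algebra structure coming from f. Then O_{X,x} is formally smooth over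
O_{Y,y} for the adic topologies of the two local rings (topologies defined by the maximal ideals) if
and only if it is formally smooth for the discrete topologies. -/
theorem result {X Y : Scheme.{u}} [IsLocallyNoetherian X] [IsLocallyNoetherian Y]
    (f : X ⟶ Y) [LocallyOfFiniteType f] (x : X) :
    letI : Algebra (Y.presheaf.stalk (f.base x)) (X.presheaf.stalk x) := (f.stalkMap x).hom.toAlgebra
    EGA41.IsFormallySmoothAdic (Y.presheaf.stalk (f.base x)) (IsLocalRing.maximalIdeal (Y.presheaf.stalk (f.base x)))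
        (X.presheaf.stalk x) (IsLocalRing.maximalIdeal (X.presheaf.stalk x)) ↔
      Algebra.FormallySmooth (Y.presheaf.stalk (f.base x)) (X.presheaf.stalk x) := by
  let g : Y.presheaf.stalk (f.base x) →+* X.presheaf.stalk x := (f.stalkMap x).hom
  let _ : Algebra (Y.presheaf.stalk (f.base x)) (X.presheaf.stalk x) := g.toAlgebra
  constructor
  · intro h
    have hle : (IsLocalRing.maximalIdeal (Y.presheaf.stalk (f.base x))).map
        (algebraMap (Y.presheaf.stalk (f.base x)) (X.presheaf.stalk x)) ≤
        IsLocalRing.maximalIdeal (X.presheaf.stalk x) :=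
      ((IsLocalRing.local_hom_TFAE g).out 0 2).1 (inferInstance : IsLocalHom (f.stalkMap x).hom)
    have h1 : CAlgX.IsAdicFormallySmooth (Y.presheaf.stalk (f.base x)) (X.presheaf.stalk x)
        (IsLocalRing.maximalIdeal (X.presheaf.stalk x)) :=
      Lib.Helper5.PowSer.adicSmooth_of_isFormallySmoothAdic _ _ h hle
    have h2 : Lib.Helper5.AdicIso.JacSmooth g := by
      rw [Lib.Helper5.AdicIso.isAdicFormallySmooth_iff_liftProp,
        ← IsLocalRing.jacobson_eq_maximalIdeal (⊥ : Ideal (X.presheaf.stalk x)) bot_ne_top] at h1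
      exact h1
    obtain ⟨_, ⟨U, hU, rfl⟩, hxU, -⟩ :=
      Y.isBasis_affineOpens.exists_subset_of_mem_open (Set.mem_univ (f x)) isOpen_univ
    obtain ⟨_, ⟨V, hV, rfl⟩, hxV, hVU⟩ :=
      X.isBasis_affineOpens.exists_subset_of_mem_open hxU (U.2.preimage f.continuous)
    have h3 := (Lib.Helper5.AdicIso.jacSmooth_respectsIso.arrow_mk_iso_iff
      (IsAffineOpen.arrowStalkMapIso f U hU V hV hVU hxV)).1 h2
    let _ : Algebra Γ(Y, U) Γ(X, V) := (f.appLE U V hVU).hom.toAlgebra
    have _ : Algebra.FiniteType Γ(Y, U) Γ(X, V) := f.finiteType_appLE hU hV hVU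
    have _ : IsNoetherianRing Γ(Y, U) := IsLocallyNoetherian.component_noetherian ⟨U, hU⟩
    have h4 : Algebra.FormallySmooth Γ(Y, U)
        (Localization.AtPrime (hV.primeIdealOf ⟨x, hxV⟩).asIdeal) :=
      Lib.Helper5.AdicStalk.formallySmooth_of_jacSmooth_localRingHom
        (hU.primeIdealOf ⟨f x, hVU hxV⟩).asIdeal (hV.primeIdealOf ⟨x, hxV⟩).asIdeal
        congr($(IsAffineOpen.comap_primeIdealOf_appLE U hU V hV hVU hxV).1).symm h3
    exact (AlgebraicGeometry.formallySmooth_stalkMap_iff U hU V hV hVU hxV).2 h4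
  · intro h C _ _ J hJ _ u _
    refine ⟨Algebra.FormallySmooth.lift J hJ u, ?_⟩
    ext y
    exact Algebra.FormallySmooth.mk_lift J hJ u y

end Groth.Agent.S3436
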