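import Groth.Statements.S3441
import Mathlib.RingTheory.Derivation.ToSquareZero
import Mathlib.Algebra.TrivSqZeroExt.Ideal
import Mathlib.RingTheory.Kaehler.Basic
import Mathlib.Tactic.LinearCombination
import Mathlib.Tactic.Ring

set_option autoImplicit false
universe u
open EGA41

namespace Groth.Agent.S3441

open TensorProduct

section forward

variable {A B C : Type u} [CommRing A] [CommRing B]
    [CommRing C] [Algebra A B] [Algebra B C] [Algebra A C] [IsScalarTower A B C]

theorem forward (l : Ω[C⁄A] →ₗ[C] C ⊗[B] Ω[B⁄A])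
    (hl : l ∘ₗ KaehlerDifferential.mapBaseChange A B C = LinearMap.id) :
    EGA41.IsFormallySmoothRel A B C := by
  intro T _ _ _ _ J hJ u₀ ⟨u, hu⟩
  letI : Algebra C T := u.toRingHom.toAlgebra
  have halgC : ∀ c, algebraMap C T c = u c := fun _ => rfl
  haveI : IsScalarTower A C T := IsScalarTower.of_algebraMap_eq fun a => (u.commutes a).symm
  have hu' : ∀ c : C, Ideal.Quotient.mk J (u c) = u₀ c := fun c => DFunLike.congr_fun hu c
  have hmemJ : ∀ b : B, u (algebraMap B C b) - algebraMap B T b ∈ J := by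
    intro b
    rw [← Ideal.Quotient.eq, hu', u₀.commutes]
    rfl
  have hsq : ∀ x ∈ J, ∀ y ∈ J, x * y = 0 := by
    intro x hx y hy
    have : x * y ∈ J ^ 2 := by rw [pow_two]; exact Ideal.mul_mem_mul hx hy
    rw [hJ] at this
    exact this
  haveI : IsScalarTower B C ↥J := by
    refine ⟨fun b c j => Subtype.ext ?_⟩
    have h0 := hsq _ (hmemJ b) _ j.2
    simp only [Submodule.coe_smul_of_tower, Algebra.smul_def, halgC, map_mul]
    linear_combination (u c) * h0
  let f₀ : B →ₐ[A] T := u.comp (IsScalarTower.toAlgHom A B C)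
  have e₀ : (Ideal.Quotient.mkₐ A J).comp f₀ = IsScalarTower.toAlgHom A B (T ⧸ J) := by
    ext b
    change Ideal.Quotient.mk J (u (algebraMap B C b)) = algebraMap B (T ⧸ J) b
    rw [hu', u₀.commutes]
  let D₀ : Derivation A B ↥J := derivationToSquareZeroOfLift J hJ f₀ e₀
  have hD₀ : ∀ b, (D₀ b : T) = u (algebraMap B C b) - algebraMap B T b := fun b => rfl
  let φ : C ⊗[B] Ω[B⁄A] →ₗ[C] ↥J := LinearMap.liftBaseChange C D₀.liftKaehlerDifferential
  let Dd : Derivation A C ↥J := (φ ∘ₗ l).compDer (KaehlerDifferential.D A C)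
  have hDd : ∀ b : B, Dd (algebraMap B C b) = D₀ b := by
    intro b
    change φ (l (KaehlerDifferential.D A C (algebraMap B C b))) = D₀ b
    have h1 : KaehlerDifferential.D A C (algebraMap B C b) =
        KaehlerDifferential.mapBaseChange A B C (1 ⊗ₜ KaehlerDifferential.D A B b) := by
      rw [KaehlerDifferential.mapBaseChange_tmul, one_smul, KaehlerDifferential.map_D]
    have h2 : l (KaehlerDifferential.mapBaseChange A B C (1 ⊗ₜ KaehlerDifferential.D A B b)) =
        1 ⊗ₜ KaehlerDifferential.D A B b := LinearMap.congr_fun hl _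
    rw [h1, h2, LinearMap.liftBaseChange_tmul, one_smul, Derivation.liftKaehlerDifferential_comp_D]
  let w : C →ₐ[A] T := liftOfDerivationToSquareZero J hJ (-Dd)
  have hw : ∀ c, w c = -(Dd c : T) + u c := fun c => rfl
  have hcomm : ∀ b : B, w.toRingHom (algebraMap B C b) = algebraMap B T b := by
    intro b
    change w (algebraMap B C b) = _
    rw [hw, hDd, hD₀]
    ring
  refine ⟨{ toRingHom := w.toRingHom, commutes' := hcomm }, ?_⟩
  ext c
  change Ideal.Quotient.mk J (w c) = u₀ c
  rw [hw, ← hu', eq_comm, Ideal.Quotient.eq]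
  have : u c - (-(Dd c : T) + u c) = (Dd c : T) := by ring
  rw [this]
  exact (Dd c).2

end forward

section backward

variable (A B C : Type u) [CommRing A] [CommRing B]
    [CommRing C] [Algebra A B] [Algebra B C] [Algebra A C] [IsScalarTower A B C]

/-- the twisted trivial square-zero extension. -/
def Tw : Type u := TrivSqZeroExt C (C ⊗[B] Ω[B⁄A])

noncomputable instance : CommRing (Tw A B C) :=
  inferInstanceAs (CommRing (TrivSqZeroExt C (C ⊗[B] Ω[B⁄A])))

/-- the twisted structure map `b ↦ (b, 1 ⊗ db)`. -/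
noncomputable def twHom : B →+* Tw A B C where
  toFun b := (TrivSqZeroExt.inl (algebraMap B C b) +
    TrivSqZeroExt.inr ((1 : C) ⊗ₜ[B] KaehlerDifferential.D A B b) :
      TrivSqZeroExt C (C ⊗[B] Ω[B⁄A]))
  map_one' := by
    apply TrivSqZeroExt.ext
    · simp
      rfl
    · simp
      rfl
  map_mul' b b' := by
    apply TrivSqZeroExt.ext
    · change TrivSqZeroExt.fst _ = TrivSqZeroExt.fst
        ((_ : TrivSqZeroExt C (C ⊗[B] Ω[B⁄A])) * (_ : TrivSqZeroExt C (C ⊗[B] Ω[B⁄A])))
      simp
    · change TrivSqZeroExt.snd _ = TrivSqZeroExt.snd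
        ((_ : TrivSqZeroExt C (C ⊗[B] Ω[B⁄A])) * (_ : TrivSqZeroExt C (C ⊗[B] Ω[B⁄A])))
      simp only [TrivSqZeroExt.snd_add, TrivSqZeroExt.snd_inl, TrivSqZeroExt.snd_inr, zero_add,
        TrivSqZeroExt.snd_mul, TrivSqZeroExt.fst_add, TrivSqZeroExt.fst_inl,
        TrivSqZeroExt.fst_inr, add_zero, Derivation.leibniz, tmul_add, op_smul_eq_smul]
      rw [TensorProduct.tmul_smul, TensorProduct.tmul_smul, algebraMap_smul, algebraMap_smul]
  map_zero' := by
    apply TrivSqZeroExt.ext
    · simp
      rfl
    · simp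
      rfl
  map_add' b b' := by
    apply TrivSqZeroExt.ext
    · change TrivSqZeroExt.fst _ = TrivSqZeroExt.fst
        ((_ : TrivSqZeroExt C (C ⊗[B] Ω[B⁄A])) + (_ : TrivSqZeroExt C (C ⊗[B] Ω[B⁄A])))
      simp
    · change TrivSqZeroExt.snd _ = TrivSqZeroExt.snd
        ((_ : TrivSqZeroExt C (C ⊗[B] Ω[B⁄A])) + (_ : TrivSqZeroExt C (C ⊗[B] Ω[B⁄A])))
      simp [tmul_add]

noncomputable instance : Algebra B (Tw A B C) := (twHom A B C).toAlgebra

noncomputable instance : Algebra A (Tw A B C) :=
  ((twHom A B C).comp (algebraMap A B)).toAlgebra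

instance : IsScalarTower A B (Tw A B C) := IsScalarTower.of_algebraMap_eq fun _ => rfl

/-- the identity ring isomorphism to the underlying trivial square-zero extension. -/
noncomputable def twEquiv : Tw A B C ≃+* TrivSqZeroExt C (C ⊗[B] Ω[B⁄A]) := RingEquiv.refl _

/-- first projection. -/
noncomputable def twFst : Tw A B C →+* C :=
  (TrivSqZeroExt.fstHom C C (C ⊗[B] Ω[B⁄A]) : _ →+* C).comp (twEquiv A B C).toRingHom

/-- second projection. -/
noncomputable def twSnd (x : Tw A B C) : C ⊗[B] Ω[B⁄A] := TrivSqZeroExt.snd (twEquiv A B C x)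

theorem twFst_apply (x : Tw A B C) : twFst A B C x = TrivSqZeroExt.fst (twEquiv A B C x) := rfl

theorem twSnd_add (x y : Tw A B C) : twSnd A B C (x + y) = twSnd A B C x + twSnd A B C y := by
  unfold twSnd
  rw [map_add, TrivSqZeroExt.snd_add]

theorem twSnd_mul (x y : Tw A B C) :
    twSnd A B C (x * y) = twFst A B C x • twSnd A B C y + twFst A B C y • twSnd A B C x := by
  unfold twSnd
  rw [map_mul, TrivSqZeroExt.snd_mul, op_smul_eq_smul, twFst_apply, twFst_apply]

theorem twEquiv_algebraMap_B (b : B) : twEquiv A B C (algebraMap B (Tw A B C) b) =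
    TrivSqZeroExt.inl (algebraMap B C b) +
      TrivSqZeroExt.inr ((1 : C) ⊗ₜ[B] KaehlerDifferential.D A B b) := rfl

theorem twFst_algebraMap_B (b : B) : twFst A B C (algebraMap B (Tw A B C) b) = algebraMap B C b := by
  rw [twFst_apply, twEquiv_algebraMap_B]
  simp

theorem twSnd_algebraMap_B (b : B) : twSnd A B C (algebraMap B (Tw A B C) b) =
    (1 : C) ⊗ₜ[B] KaehlerDifferential.D A B b := by
  unfold twSnd
  rw [twEquiv_algebraMap_B]
  simp

theorem twFst_algebraMap_A (a : A) : twFst A B C (algebraMap A (Tw A B C) a) = algebraMap A C a := by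
  rw [IsScalarTower.algebraMap_apply A B (Tw A B C), twFst_algebraMap_B,
    ← IsScalarTower.algebraMap_apply]

theorem twSnd_algebraMap_A (a : A) : twSnd A B C (algebraMap A (Tw A B C) a) = 0 := by
  rw [IsScalarTower.algebraMap_apply A B (Tw A B C), twSnd_algebraMap_B,
    Derivation.map_algebraMap, tmul_zero]

/-- the untwisted inclusion `C → Tw`. -/
noncomputable def twInl : C →+* Tw A B C :=
  (twEquiv A B C).symm.toRingHom.comp (TrivSqZeroExt.inlHom C (C ⊗[B] Ω[B⁄A]))

theorem twEquiv_twInl (c : C) : twEquiv A B C (twInl A B C c) = TrivSqZeroExt.inl c := rfl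

theorem twFst_twInl (c : C) : twFst A B C (twInl A B C c) = c := by
  rw [twFst_apply, twEquiv_twInl, TrivSqZeroExt.fst_inl]

theorem twSnd_twInl (c : C) : twSnd A B C (twInl A B C c) = 0 := by
  unfold twSnd
  rw [twEquiv_twInl, TrivSqZeroExt.snd_inl]

theorem tw_ext {x y : Tw A B C} (h1 : twFst A B C x = twFst A B C y)
    (h2 : twSnd A B C x = twSnd A B C y) : x = y := by
  apply (twEquiv A B C).injective
  rw [twFst_apply, twFst_apply] at h1
  exact TrivSqZeroExt.ext h1 h2

/-- the square-zero ideal of `Tw`. -/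
noncomputable def twJ : Ideal (Tw A B C) := RingHom.ker (twFst A B C)

theorem mem_twJ (x : Tw A B C) : x ∈ twJ A B C ↔ twFst A B C x = 0 := RingHom.mem_ker

theorem twJ_sq : twJ A B C ^ 2 = ⊥ := by
  rw [pow_two, eq_bot_iff, Ideal.mul_le]
  intro x hx y hy
  rw [mem_twJ] at hx hy
  rw [Ideal.mem_bot]
  apply tw_ext
  · rw [map_mul, hx, zero_mul, map_zero]
  · rw [twSnd_mul, hx, hy, zero_smul, zero_smul, add_zero]
    unfold twSnd
    rw [map_zero, TrivSqZeroExt.snd_zero]

theorem backward (h : EGA41.IsFormallySmoothRel A B C) :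
    ∃ l : Ω[C⁄A] →ₗ[C] C ⊗[B] Ω[B⁄A],
      l ∘ₗ KaehlerDifferential.mapBaseChange A B C = LinearMap.id := by
  have hcA : ∀ a : A, twInl A B C (algebraMap A C a) = algebraMap A (Tw A B C) a := by
    intro a
    apply tw_ext
    · rw [twFst_twInl, twFst_algebraMap_A]
    · rw [twSnd_twInl, twSnd_algebraMap_A]
  let u : C →ₐ[A] Tw A B C := { toRingHom := twInl A B C, commutes' := hcA }
  have hcB : ∀ b : B, ((Ideal.Quotient.mk (twJ A B C)).comp (twInl A B C)) (algebraMap B C b) =
      algebraMap B (Tw A B C ⧸ twJ A B C) b := by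
    intro b
    change Ideal.Quotient.mk (twJ A B C) (twInl A B C (algebraMap B C b)) =
      Ideal.Quotient.mk (twJ A B C) (algebraMap B (Tw A B C) b)
    rw [Ideal.Quotient.eq, mem_twJ, map_sub, twFst_twInl, twFst_algebraMap_B, sub_self]
  let u₀ : C →ₐ[B] Tw A B C ⧸ twJ A B C :=
    { toRingHom := (Ideal.Quotient.mk (twJ A B C)).comp (twInl A B C), commutes' := hcB }
  have hu : (Ideal.Quotient.mkₐ A (twJ A B C)).comp u = u₀.restrictScalars A := by
    ext c
    rfl
  obtain ⟨v, hv⟩ := h (Tw A B C) (twJ A B C) (twJ_sq A B C) u₀ ⟨u, hu⟩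
  have hfst : ∀ c : C, twFst A B C (v c) = c := by
    intro c
    have h1 : Ideal.Quotient.mk (twJ A B C) (v c) = Ideal.Quotient.mk (twJ A B C) (twInl A B C c) :=
      DFunLike.congr_fun hv c
    rw [Ideal.Quotient.eq, mem_twJ, map_sub, twFst_twInl, sub_eq_zero] at h1
    exact h1
  have hvA : ∀ a : A, v (algebraMap A C a) = algebraMap A (Tw A B C) a := by
    intro a
    rw [IsScalarTower.algebraMap_apply A B C, v.commutes, ← IsScalarTower.algebraMap_apply]
  -- the derivation
  let Dl : C →ₗ[A] C ⊗[B] Ω[B⁄A] :=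
    { toFun := fun c => twSnd A B C (v c)
      map_add' := fun x y => by
        rw [map_add, twSnd_add]
      map_smul' := fun a c => by
        rw [Algebra.smul_def, map_mul, twSnd_mul, hvA, twFst_algebraMap_A, twSnd_algebraMap_A,
          smul_zero, add_zero, algebraMap_smul]
        rfl }
  have hDl : ∀ c, Dl c = twSnd A B C (v c) := fun _ => rfl
  let D' : Derivation A C (C ⊗[B] Ω[B⁄A]) := Derivation.mk' Dl (by
    intro x y
    rw [hDl, hDl, hDl, map_mul, twSnd_mul, hfst, hfst])
  have hD' : ∀ b : B, D' (algebraMap B C b) = (1 : C) ⊗ₜ[B] KaehlerDifferential.D A B b := by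
    intro b
    change twSnd A B C (v (algebraMap B C b)) = _
    rw [v.commutes, twSnd_algebraMap_B]
  refine ⟨D'.liftKaehlerDifferential, ?_⟩
  have key : (D'.liftKaehlerDifferential.restrictScalars B) ∘ₗ (KaehlerDifferential.map A A B C) =
      TensorProduct.mk B C Ω[B⁄A] 1 := by
    apply Derivation.liftKaehlerDifferential_unique
    ext b
    change D'.liftKaehlerDifferential (KaehlerDifferential.map A A B C (KaehlerDifferential.D A B b))
      = (1 : C) ⊗ₜ[B] KaehlerDifferential.D A B b
    rw [KaehlerDifferential.map_D, Derivation.liftKaehlerDifferential_comp_D, hD']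
  apply LinearMap.ext
  intro x
  induction x using TensorProduct.induction_on with
  | zero => simp
  | tmul c ω =>
    have := LinearMap.congr_fun key ω
    change D'.liftKaehlerDifferential (KaehlerDifferential.map A A B C ω) = (1 : C) ⊗ₜ[B] ω at this
    change D'.liftKaehlerDifferential (KaehlerDifferential.mapBaseChange A B C (c ⊗ₜ ω)) = c ⊗ₜ ω
    rw [KaehlerDifferential.mapBaseChange_tmul, map_smul, this, smul_tmul', smul_eq_mul, mul_one]
  | add x y hx hy =>
    rw [map_add, hx, hy]
    rfl

end backward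

open TensorProduct in
/-- Let A → B → C be ring homomorphisms. The canonical C-linear map Ω_{B/A} ⊗_B C → Ω_{C/A} is left
invertible (has a C-linear left inverse) if and only if C is a formally smooth B-algebra relative to
A for the discrete topologies: every B-algebra homomorphism from C to a quotient C'/J of a B-algebra
C' by an ideal J of square zero that lifts to C' as an A-algebra homomorphism also lifts to C' as a
B-algebra homomorphism. (The published definition of relative formal smoothness tests every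
nilpotent ideal J; its reduction to ideals of square zero does not carry over to the relative
setting, and the square-zero form, which is what the published proof of this statement uses, is the
one taken here.) -/
theorem result (A B C : Type u) [CommRing A] [CommRing B]
    [CommRing C] [Algebra A B] [Algebra B C] [Algebra A C] [IsScalarTower A B C] :
    (∃ l : Ω[C⁄A] →ₗ[C] C ⊗[B] Ω[B⁄A], l ∘ₗ KaehlerDifferential.mapBaseChange A B C = LinearMap.id) ↔
      EGA41.IsFormallySmoothRel A B C := by
  constructor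
  · rintro ⟨l, hl⟩
    exact forward l hl
  · intro h
    exact backward A B C h

end Groth.Agent.S3441
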