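import Groth.Statements.S3450
import Mathlib
import Groth.Agent.Lib.Helper12.DvrFamA
import Groth.Agent.Lib.Helper12.DvrFamB
import Groth.Agent.Lib.Helper12.DvrFamC

set_option autoImplicit false
universe u
open EGA43

namespace Groth.Agent.S3450

/-- Let A be a Noetherian local ring which is reduced, complete (for the topology defined by its maximal
ideal m) and not a field. Then for every n there are finitely many local homomorphisms φ_i : A → V_i
into discrete valuation rings, each making V_i a finite A-algebra, such that the intersection of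
their kernels is contained in mⁿ. (Equivalently: such finite intersections form a base of
neighbourhoods of 0 for the m-adic topology.) -/
theorem result (A : Type u) [CommRing A] [IsNoetherianRing A]
    [IsLocalRing A] [IsReduced A] [IsAdicComplete (IsLocalRing.maximalIdeal A) A] (hA : ¬ IsField A) (n : ℕ) :
    ∃ (k : ℕ) (V : Fin k → Type u) (_ : ∀ i, CommRing (V i)) (_ : ∀ i, IsDomain (V i))
      (_ : ∀ i, IsDiscreteValuationRing (V i)) (φ : ∀ i, A →+* V i),
      (∀ i, IsLocalHom (φ i) ∧ (φ i).Finite) ∧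
        ⨅ i, RingHom.ker (φ i) ≤ IsLocalRing.maximalIdeal A ^ n := by
  classical
  let P₁ : Type u := {p : Ideal A // p.IsPrime ∧ ringKrullDim (A ⧸ p) = 1}
  have H : ∀ p : P₁, ∃ (V : Type u) (_ : CommRing V) (_ : IsDomain V)
      (_ : IsDiscreteValuationRing V) (φ : A →+* V),
      IsLocalHom φ ∧ φ.Finite ∧ RingHom.ker φ = p.1 := fun p => by
    haveI := p.2.1
    exact Groth.Agent.Lib.Helper12.DvrFam.exists_dvr_of_dim_one A p.1 p.2.2
  choose V i1 i2 i3 φ hφ using H
  let J : Finset P₁ → Ideal A := fun s => ⨅ p ∈ s, (p : P₁).1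
  have hdir : ∀ s t : Finset P₁, ∃ u, J u ≤ J s ⊓ J t := by
    intro s t
    refine ⟨s ∪ t, le_inf ?_ ?_⟩
    · exact le_iInf₂ fun p hp => iInf₂_le p (Finset.mem_union_left t hp)
    · exact le_iInf₂ fun p hp => iInf₂_le p (Finset.mem_union_right s hp)
  have hbot : ⨅ s, J s = ⊥ := by
    rw [eq_bot_iff]
    intro x hx
    by_contra hx0
    obtain ⟨p, hp, hxp, hdim⟩ :=
      Groth.Agent.Lib.Helper12.DvrFam.exists_prime_dim_one_notMem hA x hx0
    have h1 : x ∈ J {⟨p, hp, hdim⟩} := (Ideal.mem_iInf.mp hx) _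
    have h2 : x ∈ (⟨p, hp, hdim⟩ : P₁).1 :=
      (Ideal.mem_iInf.mp ((Ideal.mem_iInf.mp h1) ⟨p, hp, hdim⟩)) (Finset.mem_singleton_self _)
    exact hxp h2
  obtain ⟨s, hs⟩ := Groth.Agent.Lib.Helper12.DvrFam.chevalley_directed J hdir hbot n
  let e : Fin s.card ≃ s := s.equivFin.symm
  refine ⟨s.card, fun i => V (e i).1, fun i => i1 (e i).1, fun i => i2 (e i).1,
    fun i => i3 (e i).1, fun i => φ (e i).1, fun i => ⟨(hφ (e i).1).1, (hφ (e i).1).2.1⟩, ?_⟩
  refine le_trans ?_ hs
  refine le_iInf₂ fun p hp => ?_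
  have h1 := iInf_le (fun i : Fin s.card => RingHom.ker (φ (e i).1)) (e.symm ⟨p, hp⟩)
  have h2 : (e (e.symm ⟨p, hp⟩)).1 = p := by rw [Equiv.apply_symm_apply]
  change ⨅ i, _ ≤ RingHom.ker (φ (e (e.symm ⟨p, hp⟩)).1) at h1
  rw [h2, (hφ p).2.2] at h1
  exact h1

end Groth.Agent.S3450
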