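import Groth.Statements.S3453
import Groth.Agent.Lib.Helper21.Coprof8

open Groth.Agent.Lib.Helper21 Groth.Agent.Lib.Helper21.Coprof

set_option autoImplicit false
open CategoryTheory AlgebraicGeometry
universe u
open EGA43

namespace Groth.Agent.S3453

/-- Let f : X ⟶ S be locally of finite presentation and n a natural number. The set of points x of X
such that the local ring of the fibre of f through x at x has codepth n (its Krull dimension equals
its depth plus n) is locally constructible in X. -/
theorem result {X S : Scheme.{u}} (f : X ⟶ S)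
    [LocallyOfFinitePresentation f] (n : ℕ) :
    Topology.IsLocallyConstructible {x : X |
      ringKrullDim ((f.fiber (f.base x)).presheaf.stalk (f.asFiber x)) =
        ((LocCoh.depth ((f.fiber (f.base x)).presheaf.stalk (f.asFiber x)) ((f.fiber (f.base x)).presheaf.stalk (f.asFiber x)) : ℕ∞) : WithBot ℕ∞) + n} := by
  have key : ∀ x : X, ∃ a d : ℕ, d ≤ a ∧
      ringKrullDim ((f.fiber (f x)).presheaf.stalk (f.asFiber x)) = (a : WithBot ℕ∞) ∧
      LocCoh.depth ((f.fiber (f x)).presheaf.stalk (f.asFiber x))
        ((f.fiber (f x)).presheaf.stalk (f.asFiber x)) = (d : ℕ∞) := by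
    intro x
    haveI : IsLocallyNoetherian (f.fiber (f x)) := by
      haveI hφ : LocallyOfFiniteType (f.fiberToSpecResidueField (f x)) :=
        MorphismProperty.pullback_snd _ _ inferInstance
      exact LocallyOfFiniteType.isLocallyNoetherian (f.fiberToSpecResidueField (f x))
    set R := (f.fiber (f x)).presheaf.stalk (f.asFiber x) with hR
    obtain ⟨a, ha⟩ := DepthKit.exists_nat_supportDim (A := R) (M := R)
    obtain ⟨d, hd⟩ := DepthKit.exists_nat_depth (A := R) (M := R)
    have hle := DepthKit.depth_le_supportDim (A := R) (M := R)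
    rw [ha, hd] at hle
    rw [Module.supportDim_self_eq_ringKrullDim] at ha
    refine ⟨a, d, ?_, ha, hd⟩
    exact_mod_cast hle
  have hiff : ∀ (x : X) (k : ℕ), Cop f k x ↔ ∃ a d : ℕ, a ≤ d + k ∧
      ringKrullDim ((f.fiber (f x)).presheaf.stalk (f.asFiber x)) = (a : WithBot ℕ∞) ∧
      LocCoh.depth ((f.fiber (f x)).presheaf.stalk (f.asFiber x))
        ((f.fiber (f x)).presheaf.stalk (f.asFiber x)) = (d : ℕ∞) := by
    intro x k
    obtain ⟨a, d, hda, ha, hd⟩ := key x
    rw [cop_iff, ha, hd]
    constructor
    · intro h
      refine ⟨a, d, ?_, rfl, rfl⟩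
      exact_mod_cast h
    · rintro ⟨a', d', h, ha', hd'⟩
      have e1 : a' = a := by exact_mod_cast ha'.symm
      have e2 : d' = d := by exact_mod_cast hd'.symm
      subst e1 e2
      exact_mod_cast h
  rcases n with _ | m
  · have hset : {x : X |
        ringKrullDim ((f.fiber (f.base x)).presheaf.stalk (f.asFiber x)) =
          ((LocCoh.depth ((f.fiber (f.base x)).presheaf.stalk (f.asFiber x)) ((f.fiber (f.base x)).presheaf.stalk (f.asFiber x)) : ℕ∞) : WithBot ℕ∞) + (0 : ℕ)} =
        {x | Cop f 0 x} := by
      ext x
      simp only [Set.mem_setOf_eq]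
      obtain ⟨a, d, hda, ha, hd⟩ := key x
      rw [hiff]
      change ringKrullDim ((f.fiber (f x)).presheaf.stalk (f.asFiber x)) = _ ↔ _
      rw [ha, hd]
      constructor
      · intro h
        have : a = d + 0 := by exact_mod_cast h
        exact ⟨a, d, by omega, rfl, rfl⟩
      · rintro ⟨a', d', h, ha', hd'⟩
        have e1 : a' = a := by exact_mod_cast ha'.symm
        have e2 : d' = d := by exact_mod_cast hd'.symm
        subst e1 e2
        have : a' = d' + 0 := by omega
        exact_mod_cast this
    rw [hset]
    exact isLocallyConstructible_cop f 0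
  · have hset : {x : X |
        ringKrullDim ((f.fiber (f.base x)).presheaf.stalk (f.asFiber x)) =
          ((LocCoh.depth ((f.fiber (f.base x)).presheaf.stalk (f.asFiber x)) ((f.fiber (f.base x)).presheaf.stalk (f.asFiber x)) : ℕ∞) : WithBot ℕ∞) + ((m + 1 : ℕ))} =
        {x | Cop f (m + 1) x} ∩ {x | Cop f m x}ᶜ := by
      ext x
      simp only [Set.mem_setOf_eq, Set.mem_inter_iff, Set.mem_compl_iff]
      obtain ⟨a, d, hda, ha, hd⟩ := key x
      rw [hiff, hiff]
      change ringKrullDim ((f.fiber (f x)).presheaf.stalk (f.asFiber x)) = _ ↔ _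
      rw [ha, hd]
      constructor
      · intro h
        have : a = d + (m + 1) := by exact_mod_cast h
        refine ⟨⟨a, d, by omega, rfl, rfl⟩, ?_⟩
        rintro ⟨a', d', h, ha', hd'⟩
        have e1 : a' = a := by exact_mod_cast ha'.symm
        have e2 : d' = d := by exact_mod_cast hd'.symm
        subst e1 e2
        omega
      · rintro ⟨⟨a', d', h, ha', hd'⟩, h2⟩
        have e1 : a' = a := by exact_mod_cast ha'.symm
        have e2 : d' = d := by exact_mod_cast hd'.symm
        subst e1 e2
        have h3 : ¬ a' ≤ d' + m := fun h3 => h2 ⟨a', d', h3, rfl, rfl⟩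
        have : a' = d' + (m + 1) := by omega
        exact_mod_cast this
    rw [hset]
    exact (isLocallyConstructible_cop f (m + 1)).inter
      (ConsLoc.isLocallyConstructible_compl (isLocallyConstructible_cop f m))

end Groth.Agent.S3453
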