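import Groth.Statements.S3532
-- import your own Groth.Agent.* helpers here

set_option autoImplicit false
universe u
open HomAlg3

namespace Groth.Agent.S3532

open CategoryTheory in
/-- transition map -/
noncomputable def tr (F : ℕᵒᵖ ⥤ AddCommGrpCat.{u}) {k p : ℕ} (h : p ≤ k) :
    F.obj (Opposite.op k) →+ F.obj (Opposite.op p) := (F.map (homOfLE h).op).hom

open CategoryTheory in
theorem tr_comp (F : ℕᵒᵖ ⥤ AddCommGrpCat.{u}) {k p q : ℕ} (h1 : p ≤ k) (h2 : q ≤ p)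
    (x : F.obj (Opposite.op k)) : tr F h2 (tr F h1 x) = tr F (h2.trans h1) x := by
  unfold tr
  have : (homOfLE (h2.trans h1)).op = (homOfLE h1).op ≫ (homOfLE h2).op := by
    rw [← op_comp, homOfLE_comp]
  rw [this, F.map_comp]
  rfl

open CategoryTheory in
theorem range_anti (F : ℕᵒᵖ ⥤ AddCommGrpCat.{u}) {k k' p : ℕ} (h : p ≤ k) (hk : k ≤ k') :
    (tr F (h.trans hk)).range ≤ (tr F h).range := by
  rintro _ ⟨y, rfl⟩
  exact ⟨tr F hk y, tr_comp F hk h y⟩

open CategoryTheory in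
/-- abstract Mittag-Leffler -/
def ML' (F : ℕᵒᵖ ⥤ AddCommGrpCat.{u}) : Prop :=
  ∀ p : ℕ, ∃ k₀ : ℕ, ∃ h₀ : p ≤ k₀, ∀ (k : ℕ) (hk : k₀ ≤ k),
    (tr F (h₀.trans hk)).range = (tr F h₀).range

open CategoryTheory in
theorem ml_iff_ml' (F : ℕᵒᵖ ⥤ AddCommGrpCat.{u}) :
    (F ⋙ forget AddCommGrpCat).IsMittagLeffler ↔ ML' F := by
  constructor
  · intro h p
    obtain ⟨i, f, hf⟩ := h (Opposite.op p)
    have h₀ : p ≤ i.unop := f.unop.le
    refine ⟨i.unop, h₀, fun k hk => le_antisymm (range_anti F h₀ hk) ?_⟩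
    have hfeq : f = (homOfLE h₀).op := Subsingleton.elim _ _
    have := hf (homOfLE (h₀.trans hk)).op
    rw [hfeq] at this
    intro x hx
    exact this hx
  · intro h j
    obtain ⟨k₀, h₀, hk₀⟩ := h j.unop
    refine ⟨Opposite.op k₀, (homOfLE h₀).op, fun k g => ?_⟩
    have hg : j.unop ≤ k.unop := g.unop.le
    have hgeq : g = (homOfLE hg).op := Subsingleton.elim _ _
    rw [hgeq]
    have h1 := hk₀ (max k₀ k.unop) (le_max_left _ _)
    have h2 := range_anti F hg (le_max_right k₀ k.unop)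
    intro x hx
    have hx' : x ∈ (tr F h₀).range := hx
    rw [← h1] at hx'
    exact h2 hx'

open CategoryTheory in
theorem ml'_iff (F : ℕᵒᵖ ⥤ AddCommGrpCat.{u}) :
    ML' F ↔
      ((∃ k₀ : ℕ, ∀ (k : ℕ) (hk : k₀ ≤ k),
          (tr F (Nat.zero_le k)).range = (tr F (Nat.zero_le k₀)).range) ∧
        ∀ p : ℕ, ∃ k₀ : ℕ, ∃ h₀ : p + 1 ≤ k₀, ∀ (k : ℕ) (hk : k₀ ≤ k),
          (tr F (h₀.trans hk)).range ⊓ (tr F (Nat.le_succ p)).ker =
            (tr F h₀).range ⊓ (tr F (Nat.le_succ p)).ker) := by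
  constructor
  · intro h
    refine ⟨?_, fun p => ?_⟩
    · obtain ⟨k₀, h₀, hk₀⟩ := h 0
      exact ⟨k₀, fun k hk => hk₀ k hk⟩
    · obtain ⟨k₀, h₀, hk₀⟩ := h (p + 1)
      exact ⟨k₀, h₀, fun k hk => by rw [hk₀ k hk]⟩
  · rintro ⟨h0, hS⟩ p
    induction p with
    | zero =>
      obtain ⟨k₀, hk₀⟩ := h0
      exact ⟨k₀, Nat.zero_le _, fun k hk => hk₀ k hk⟩
    | succ p ih =>
      obtain ⟨k₁, h₁, hk₁⟩ := ih
      obtain ⟨k₂, h₂, hk₂⟩ := hS p
      have h₀ : p + 1 ≤ max k₁ k₂ := h₂.trans (le_max_right _ _)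
      refine ⟨max k₁ k₂, h₀, fun k hk => le_antisymm (range_anti F h₀ hk) ?_⟩
      rintro x ⟨y, rfl⟩
      have hk1 : k₁ ≤ k := (le_max_left _ _).trans hk
      have hk2 : k₂ ≤ k := (le_max_right _ _).trans hk
      -- image of x in A_p lies in Im_k(A_p)
      have hxp : tr F (Nat.le_succ p) (tr F h₀ y) ∈ (tr F (h₁.trans hk1)).range := by
        rw [hk₁ k hk1, tr_comp, ← hk₁ (max k₁ k₂) (le_max_left _ _)]
        exact ⟨y, rfl⟩
      obtain ⟨y', hy'⟩ := hxp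
      have hpk : p + 1 ≤ k := h₀.trans hk
      have hker : tr F h₀ y - tr F hpk y' ∈ (tr F (Nat.le_succ p)).ker := by
        rw [AddMonoidHom.mem_ker, map_sub, sub_eq_zero, tr_comp F hpk (Nat.le_succ p) y']
        exact hy'.symm
      have hx'mem : tr F hpk y' ∈ (tr F hpk).range := ⟨y', rfl⟩
      have hx'mem2 : tr F hpk y' ∈ (tr F h₂).range := range_anti F h₂ hk2 hx'mem
      have hxmem2 : tr F h₀ y ∈ (tr F h₂).range := range_anti F h₂ (le_max_right _ _) ⟨y, rfl⟩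
      have hdiff : tr F h₀ y - tr F hpk y' ∈ (tr F h₂).range ⊓ (tr F (Nat.le_succ p)).ker :=
        AddSubgroup.mem_inf.mpr ⟨sub_mem hxmem2 hx'mem2, hker⟩
      rw [← hk₂ k hk2] at hdiff
      have : tr F h₀ y = tr F hpk y' + (tr F h₀ y - tr F hpk y') := (add_sub_cancel _ _).symm
      rw [this]
      exact add_mem hx'mem (AddSubgroup.mem_inf.mp hdiff).1

open CategoryTheory in
/-- Category of abelian groups, system indexed by the natural numbers: Let (A_k)_{k ≥ 0} be an inverse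
system of abelian groups. For p ≤ k write Im_k(A_p) for the image of A_k → A_p, and K_p for the
kernel of A_p → A_{p-1} (K_0 = A_0). Then (A_k) satisfies the Mittag-Leffler condition (for each p
the subgroups Im_k(A_p) are eventually constant in k) if and only if for each p the subgroups
Im_k(A_p) ∩ K_p are eventually constant in k. -/
theorem result (F : ℕᵒᵖ ⥤ AddCommGrpCat.{u}) :
    (F ⋙ forget AddCommGrpCat).IsMittagLeffler ↔
      ((∃ k₀ : ℕ, ∀ (k : ℕ) (hk : k₀ ≤ k),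
          (F.map (homOfLE (Nat.zero_le k)).op).hom.range = (F.map (homOfLE (Nat.zero_le k₀)).op).hom.range) ∧
        ∀ p : ℕ, ∃ k₀ : ℕ, ∃ h₀ : p + 1 ≤ k₀, ∀ (k : ℕ) (hk : k₀ ≤ k),
          (F.map (homOfLE (h₀.trans hk)).op).hom.range ⊓ (F.map (homOfLE (Nat.le_succ p)).op).hom.ker =
            (F.map (homOfLE h₀).op).hom.range ⊓ (F.map (homOfLE (Nat.le_succ p)).op).hom.ker) := by
  rw [ml_iff_ml', ml'_iff]
  rfl

end Groth.Agent.S3532
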