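import Groth.Statements.S3544
import Mathlib

set_option autoImplicit false
universe u
open HomAlg3

namespace Groth.Agent.S3544

section Aux
open CategoryTheory CategoryTheory.Limits

section SC
variable {A : Type u} [Ring A]

/-- length as a natural number -/
noncomputable def len (M : Type u) [AddCommGroup M] [Module A M] : ℕ := (Module.length A M).toNat

theorem len_eq_add_of_exact {N M P : Type u} [AddCommGroup N] [Module A N] [AddCommGroup M] [Module A M]
    [AddCommGroup P] [Module A P] (f : N →ₗ[A] M) (g : M →ₗ[A] P) (hf : Function.Injective f)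
    (hg : Function.Surjective g) (H : Function.Exact f g) (hM : IsFiniteLength A M) :
    len (A := A) M = len (A := A) N + len (A := A) P := by
  have h := Module.length_eq_add_of_exact f g hf hg H
  have hN : Module.length A N ≠ ⊤ := Module.length_ne_top_iff.mpr (IsFiniteLength.of_injective hM hf)
  have hP : Module.length A P ≠ ⊤ := Module.length_ne_top_iff.mpr (IsFiniteLength.of_surjective hM hg)
  unfold len
  rw [h, ENat.toNat_add hN hP]

theorem len_congr {M N : Type u} [AddCommGroup N] [Module A N] [AddCommGroup M] [Module A M]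
    (e : M ≃ₗ[A] N) : len (A := A) M = len (A := A) N := by
  unfold len; rw [e.length_eq]

/-- the two length identities for a short complex of finite length modules -/
theorem len_sc (S : ShortComplex (ModuleCat.{u} A)) (h₂ : IsFiniteLength A S.X₂) :
    len (A := A) S.X₂ = len (A := A) (LinearMap.ker S.g.hom) + len (A := A) (LinearMap.range S.g.hom) ∧
    len (A := A) (LinearMap.ker S.g.hom) =
      len (A := A) (LinearMap.range S.f.hom) + len (A := A) S.homology := by
  constructor
  · exact len_eq_add_of_exact (LinearMap.ker S.g.hom).subtype S.g.hom.rangeRestrict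
      (Submodule.injective_subtype _) (LinearMap.surjective_rangeRestrict _)
      (by
        intro x
        constructor
        · intro hx
          refine ⟨⟨x, ?_⟩, rfl⟩
          have := congrArg Subtype.val hx
          simpa using this
        · rintro ⟨y, rfl⟩
          apply Subtype.ext
          simpa using y.2) h₂
  · have hker : IsFiniteLength A (LinearMap.ker S.g.hom) :=
      IsFiniteLength.of_injective h₂ (Submodule.injective_subtype _)
    have h1 := len_eq_add_of_exact (LinearMap.range S.moduleCatToCycles).subtype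
      (LinearMap.range S.moduleCatToCycles).mkQ (Submodule.injective_subtype _)
      (Submodule.mkQ_surjective _) (LinearMap.exact_subtype_mkQ _) hker
    rw [h1]
    congr 1
    · -- range toCycles ≃ range f
      have hmap : Submodule.map (LinearMap.ker S.g.hom).subtype (LinearMap.range S.moduleCatToCycles) =
          LinearMap.range S.f.hom := by
        ext x
        constructor
        · rintro ⟨y, ⟨z, rfl⟩, rfl⟩
          exact ⟨z, rfl⟩
        · rintro ⟨z, rfl⟩
          exact ⟨S.moduleCatToCycles z, ⟨z, rfl⟩, rfl⟩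
      exact len_congr ((Submodule.equivMapOfInjective _ (Submodule.injective_subtype _) _).trans
        (LinearEquiv.ofEq _ _ hmap))
    · exact (len_congr S.moduleCatHomologyIso.toLinearEquiv).symm

end SC

section Step
variable {A : Type u} [Ring A]

/-- the sign `(-1)^(p+q)` -/
def sgn (pq : ℤ × ℤ) : ℤ := (((pq.1 + pq.2).negOnePow : ℤˣ) : ℤ)

theorem sgn_sub (w : ℤ × ℤ) (hw : w.1 + w.2 = 1) (pq : ℤ × ℤ) : sgn (pq - w) = - sgn pq := by
  unfold sgn
  have : (pq - w).1 + (pq - w).2 = (pq.1 + pq.2) - 1 := by
    simp only [Prod.fst_sub, Prod.snd_sub]; omega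
  rw [this, Int.negOnePow_sub, Int.negOnePow_one]
  simp

theorem euler_step (w : ℤ × ℤ) (hw : w.1 + w.2 = 1)
    (K : HomologicalComplex (ModuleCat.{u} A) (ComplexShape.up' w)) (s : Finset (ℤ × ℤ))
    (hs : ∀ pq : ℤ × ℤ, pq ∉ s → IsZero (K.X pq)) (hfl : ∀ pq : ℤ × ℤ, IsFiniteLength A (K.X pq)) :
    ∑ pq ∈ s, sgn pq * (len (A := A) (K.homology pq) : ℤ) =
      ∑ pq ∈ s, sgn pq * (len (A := A) (K.X pq) : ℤ) := by
  classical
  let a : ℤ × ℤ → ℤ × ℤ → ℕ := fun i j => len (A := A) (LinearMap.range (K.d i j).hom)
  have hnext : ∀ pq : ℤ × ℤ, (ComplexShape.up' w).next pq = pq + w := fun pq =>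
    (ComplexShape.up' w).next_eq' (rfl : pq + w = pq + w)
  have hprev : ∀ pq : ℤ × ℤ, (ComplexShape.up' w).prev pq = pq - w := fun pq =>
    (ComplexShape.up' w).prev_eq' (show (pq - w) + w = pq by simp)
  have hlen : ∀ pq : ℤ × ℤ, len (A := A) (K.X pq) =
      a (pq - w) pq + len (A := A) (K.homology pq) + a pq (pq + w) := by
    intro pq
    obtain ⟨h1, h2⟩ := len_sc (K.sc pq) (hfl pq)
    have e1 : len (A := A) (LinearMap.range (K.sc pq).g.hom) = a pq (pq + w) := by
      show len (A := A) (LinearMap.range (K.d pq ((ComplexShape.up' w).next pq)).hom) = _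
      rw [hnext]
    have e2 : len (A := A) (LinearMap.range (K.sc pq).f.hom) = a (pq - w) pq := by
      show len (A := A) (LinearMap.range (K.d ((ComplexShape.up' w).prev pq) pq).hom) = _
      rw [hprev]
    have e3 : len (A := A) (K.sc pq).X₂ = len (A := A) (K.X pq) := rfl
    have e4 : len (A := A) (K.sc pq).homology = len (A := A) (K.homology pq) := rfl
    rw [e1] at h1
    rw [e2, e4] at h2
    rw [← e3, h1, h2]
  have ha0 : ∀ i j : ℤ × ℤ, (i ∉ s ∨ j ∉ s) → a i j = 0 := by
    intro i j hij
    have hd : K.d i j = 0 := by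
      rcases hij with h | h
      · exact (hs i h).eq_of_src _ _
      · exact (hs j h).eq_of_tgt _ _
    show len (A := A) (LinearMap.range (K.d i j).hom) = 0
    rw [hd]
    have : Subsingleton (LinearMap.range (0 : K.X i ⟶ K.X j).hom) := by
      rw [ModuleCat.hom_zero, LinearMap.range_zero]
      infer_instance
    unfold len
    rw [Module.length_eq_zero]; rfl
  let b : ℤ × ℤ → ℤ := fun pq => sgn pq * (a pq (pq + w) : ℤ)
  have hb : ∀ pq : ℤ × ℤ, sgn pq * (a (pq - w) pq : ℤ) = - b (pq - w) := by
    intro pq
    show _ = - (sgn (pq - w) * (a (pq - w) (pq - w + w) : ℤ))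
    rw [sgn_sub w hw, sub_add_cancel]; ring
  have hsum : ∑ pq ∈ s, b pq = ∑ pq ∈ s, b (pq - w) := by
    have hinj : Set.InjOn (fun pq : ℤ × ℤ => pq - w) (s : Set (ℤ × ℤ)) :=
      fun x _ y _ h => by simpa using h
    rw [← Finset.sum_image (f := b) hinj]
    set s' := s.image (fun pq : ℤ × ℤ => pq - w) with hs'
    have h1 : ∑ pq ∈ s, b pq = ∑ pq ∈ s ∪ s', b pq := by
      apply Finset.sum_subset Finset.subset_union_left
      intro x _ hx
      show sgn x * (a x (x + w) : ℤ) = 0
      rw [ha0 x (x + w) (Or.inl hx)]; simp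
    have h2 : ∑ pq ∈ s', b pq = ∑ pq ∈ s ∪ s', b pq := by
      apply Finset.sum_subset Finset.subset_union_right
      intro x _ hx
      show sgn x * (a x (x + w) : ℤ) = 0
      have : x + w ∉ s := by
        intro h
        apply hx
        rw [hs', Finset.mem_image]
        exact ⟨x + w, h, by simp⟩
      rw [ha0 x (x + w) (Or.inr this)]; simp
    rw [h1, h2]
  have : ∀ pq ∈ s, sgn pq * (len (A := A) (K.X pq) : ℤ) =
      sgn pq * (len (A := A) (K.homology pq) : ℤ) + (b pq - b (pq - w)) := by
    intro pq _
    rw [hlen pq]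
    push_cast
    have := hb pq
    show _ = _ + (sgn pq * (a pq (pq + w) : ℤ) - b (pq - w))
    linear_combination this
  rw [Finset.sum_congr rfl this, Finset.sum_add_distrib, Finset.sum_sub_distrib, hsum]
  simp

end Step

theorem isFiniteLength_homology {A : Type u} [Ring A] (S : ShortComplex (ModuleCat.{u} A))
    (h₂ : IsFiniteLength A S.X₂) : IsFiniteLength A S.homology := by
  have hker : IsFiniteLength A (LinearMap.ker S.g.hom) :=
    IsFiniteLength.of_injective h₂ (Submodule.injective_subtype _)
  have hq : IsFiniteLength A (LinearMap.ker S.g.hom ⧸ LinearMap.range S.moduleCatToCycles) :=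
    IsFiniteLength.of_surjective hker (Submodule.mkQ_surjective _)
  exact IsFiniteLength.of_injective hq S.moduleCatHomologyIso.toLinearEquiv.injective

theorem main {A : Type u} [Ring A]
    (E : E₂CohomologicalSpectralSequence (ModuleCat.{u} A)) (s : Finset (ℤ × ℤ))
    (hs : ∀ pq : ℤ × ℤ, pq ∉ s → IsZero ((E.page 2).X pq))
    (hfl : ∀ pq : ℤ × ℤ, IsFiniteLength A ((E.page 2).X pq)) (r : ℤ) (hr : 2 ≤ r) :
    (s.sum fun pq => (((pq.1 + pq.2).negOnePow : ℤˣ) : ℤ) * ((Module.length A ((E.page r hr).X pq)).toNat : ℤ)) =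
      s.sum fun pq => (((pq.1 + pq.2).negOnePow : ℤˣ) : ℤ) * ((Module.length A ((E.page 2).X pq)).toNat : ℤ) := by
  have key : ∀ r : ℤ, 2 ≤ r → ∀ hr : 2 ≤ r,
      (∀ pq : ℤ × ℤ, pq ∉ s → IsZero ((E.page r hr).X pq)) ∧
      (∀ pq : ℤ × ℤ, IsFiniteLength A ((E.page r hr).X pq)) ∧
      (∑ pq ∈ s, sgn pq * (len (A := A) ((E.page r hr).X pq) : ℤ)) =
        ∑ pq ∈ s, sgn pq * (len (A := A) ((E.page 2).X pq) : ℤ) := by
    intro r hr
    induction r, hr using Int.leInduction with
    | base => intro _; exact ⟨hs, hfl, rfl⟩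
    | succ r hr ih =>
      intro hr'
      obtain ⟨h1, h2, h3⟩ := ih hr
      refine ⟨fun pq hpq => ?_, fun pq => ?_, ?_⟩
      · refine IsZero.of_iso ?_ (E.iso r (r + 1) pq rfl hr).symm
        exact ShortComplex.isZero_homology_of_isZero_X₂ _ (h1 pq hpq)
      · have := isFiniteLength_homology ((E.page r hr).sc pq) (h2 pq)
        exact IsFiniteLength.of_injective this
          (E.iso r (r + 1) pq rfl hr).symm.toLinearEquiv.injective
      · rw [← h3, ← euler_step (r, 1 - r) (by simp) (E.page r hr) s h1 h2]
        refine Finset.sum_congr rfl fun pq _ => ?_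
        congr 2
        exact len_congr (E.iso r (r + 1) pq rfl hr).symm.toLinearEquiv
  exact (key r hr hr).2.2

end Aux

open CategoryTheory CategoryTheory.Limits in
/-- Let E be a cohomological spectral sequence of modules over a ring A, starting at page 2, such that
the E₂ terms have finite length and only finitely many of them (all inside the finite set s of
bidegrees) are nonzero. Then for every r ≥ 2 the Euler–Poincaré characteristic of page r, the
alternating sum over s of (-1)^{p+q} times the length of E_r^{pq}, equals that of page 2. -/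
theorem result {A : Type u} [Ring A]
    (E : E₂CohomologicalSpectralSequence (ModuleCat.{u} A)) (s : Finset (ℤ × ℤ))
    (hs : ∀ pq : ℤ × ℤ, pq ∉ s → IsZero ((E.page 2).X pq))
    (hfl : ∀ pq : ℤ × ℤ, IsFiniteLength A ((E.page 2).X pq)) (r : ℤ) (hr : 2 ≤ r) :
    (s.sum fun pq => (((pq.1 + pq.2).negOnePow : ℤˣ) : ℤ) * ((Module.length A ((E.page r hr).X pq)).toNat : ℤ)) =
      s.sum fun pq => (((pq.1 + pq.2).negOnePow : ℤˣ) : ℤ) * ((Module.length A ((E.page 2).X pq)).toNat : ℤ) := by
  exact main E s hs hfl r hr

end Groth.Agent.S3544
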