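import Groth.Statements.S3587
import Mathlib.RingTheory.GradedAlgebra.Radical
-- import your own Groth.Agent.* helpers here

set_option autoImplicit false
universe u
open CategoryTheory AlgebraicGeometry Opposite TopologicalSpace
open EGA2

namespace Groth.Agent.S3587

open DirectSum in
/-- The annihilator of a homogeneous element of a graded module is a homogeneous ideal. -/
theorem ann_homogeneous {R A : Type u} [CommRing R] [CommRing A] [Algebra R A] (𝒜 : ℕ → Submodule R A) [GradedAlgebra 𝒜]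
    {M : Type u} [AddCommGroup M] [Module R M] [Module A M] (ℳ : ℕ → Submodule R M)
    [DirectSum.Decomposition ℳ] [SetLike.GradedSMul 𝒜 ℳ] {i : ℕ} (m : M) (hm : m ∈ ℳ i) :
    Ideal.IsHomogeneous 𝒜 (LinearMap.ker (LinearMap.toSpanSingleton A M m)) := by
  classical
  intro k a ha
  rw [LinearMap.mem_ker, LinearMap.toSpanSingleton_apply] at ha ⊢
  -- a • m = Σ_j a_j • m
  have hsum : a • m = ∑ j ∈ (decompose 𝒜 a).support, ((decompose 𝒜 a j : A)) • m := by
    conv_lhs => rw [← DirectSum.sum_support_decompose 𝒜 a]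
    rw [Finset.sum_smul]
  have hmem : ∀ j, ((decompose 𝒜 a j : A)) • m ∈ ℳ (j + i) := fun j =>
    SetLike.GradedSMul.smul_mem (decompose 𝒜 a j).2 hm
  have h2 : (decompose ℳ (a • m) (k + i) : M) = (decompose 𝒜 a k : A) • m := by
    rw [hsum, decompose_sum]
    rw [DFinsupp.finsetSum_apply, AddSubmonoidClass.coe_finsetSum]
    rw [Finset.sum_eq_single k]
    · rw [decompose_of_mem_same ℳ (hmem k)]
    · intro j _ hjk
      rw [decompose_of_mem_ne ℳ (hmem j) (by omega)]
    · intro hk
      rw [DFinsupp.notMem_support_iff] at hk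
      rw [hk]
      simp
  rw [← h2, ha]
  simp

/-- Let S be a graded ring, M a graded S-module, f a homogeneous element of degree d > 0 and m a
homogeneous element of M. If the fraction m/f^k vanishes in the localized module M_x for every point
x of D_+(f), then f^N m = 0 for some N (so m/f^k = 0 in M_(f)); this is the injectivity half of the
identification of the sections of M~ over D_+(f) with M_(f). -/
theorem result {R A : Type u} [CommRing R] [CommRing A] [Algebra R A] (𝒜 : ℕ → Submodule R A) [GradedAlgebra 𝒜]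
    {M : Type u} [AddCommGroup M] [Module R M] [Module A M] [IsScalarTower R A M] (ℳ : ℕ → Submodule R M) [DirectSum.Decomposition ℳ] [SetLike.GradedSMul 𝒜 ℳ] {d : ℕ} (hd : 0 < d) {f : A} (hf : f ∈ 𝒜 d) (k i : ℕ) (m : ℳ i)
    (h : ∀ x : ProjectiveSpectrum.basicOpen 𝒜 f,
      (LocalizedModule.mk m.1 ⟨f ^ k, fun h => (ProjectiveSpectrum.mem_basicOpen 𝒜 f x.1).mp x.2
        (x.1.isPrime.mem_of_pow_mem k h)⟩ : GrTilde.LocMod 𝒜 (M := M) x.1) = 0) :
    ∃ N : ℕ, f ^ N • m.1 = 0 := by
  set I : Ideal A := LinearMap.ker (LinearMap.toSpanSingleton A M m.1) with hI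
  have hIhom : I.IsHomogeneous 𝒜 := ann_homogeneous 𝒜 ℳ m.1 m.2
  suffices hrad : f ∈ I.radical by
    obtain ⟨N, hN⟩ := hrad
    exact ⟨N, by simpa [hI, LinearMap.toSpanSingleton_apply] using hN⟩
  rw [hIhom.radical_eq, Ideal.mem_sInf]
  rintro q ⟨hqhom, hIq, hqprime⟩
  by_contra hfq
  let x : ProjectiveSpectrum 𝒜 := ⟨⟨q, hqhom⟩, hqprime, fun hle =>
    hfq (hle (HomogeneousIdeal.mem_irrelevant_of_mem 𝒜 hd hf))⟩
  have hx : x ∈ ProjectiveSpectrum.basicOpen 𝒜 f := (ProjectiveSpectrum.mem_basicOpen 𝒜 f x).mpr hfq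
  have h0 := h ⟨x, hx⟩
  rw [← LocalizedModule.zero_mk (1 : x.asHomogeneousIdeal.toIdeal.primeCompl), LocalizedModule.mk_eq] at h0
  obtain ⟨u, hu⟩ := h0
  simp only [smul_zero, one_smul] at hu
  have : (u : A) ∈ I := by
    rw [hI, LinearMap.mem_ker, LinearMap.toSpanSingleton_apply]
    exact hu
  exact u.2 (hIq this)


end Groth.Agent.S3587
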