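import Groth.Statements.S3547
import Groth.Agent.S3587
-- import your own Groth.Agent.* helpers here

set_option autoImplicit false
universe u
open CategoryTheory CategoryTheory.Limits AlgebraicGeometry
open EGA2

namespace Groth.Agent.S3547

open Opposite TopologicalSpace in
/-- Every element of `tildeAt` is zero or a single homogeneous fraction of the right degree. -/
theorem tildeAt_eq_frac {R A : Type u} [CommRing R] [CommRing A] [Algebra R A] (𝒜 : ℕ → Submodule R A) [GradedAlgebra 𝒜]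
    {M : Type u} [AddCommGroup M] [Module R M] [Module A M] [IsScalarTower R A M] (ℳ : ℕ → Submodule R M) [DirectSum.Decomposition ℳ] [SetLike.GradedSMul 𝒜 ℳ] (n : ℤ)
    (p : ProjectiveSpectrum 𝒜) (t : GrTilde.LocMod 𝒜 (M := M) p) (ht : t ∈ GrTilde.tildeAt 𝒜 ℳ n p) :
    t = 0 ∨ ∃ (i j : ℕ) (m : ℳ i) (s : 𝒜 j) (hs : s.1 ∉ p.asHomogeneousIdeal),
      (i : ℤ) = j + n ∧ t = LocalizedModule.mk m.1 ⟨s.1, hs⟩ := by
  unfold GrTilde.tildeAt at ht
  induction ht using Submodule.span_induction with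
  | mem x hx => exact Or.inr hx
  | zero => exact Or.inl rfl
  | add x y _ _ hx hy =>
    rcases hx with rfl | ⟨i, j, m, s, hs, hij, rfl⟩
    · rw [zero_add]; exact hy
    rcases hy with rfl | ⟨i', j', m', s', hs', hij', rfl⟩
    · rw [add_zero]; exact Or.inr ⟨i, j, m, s, hs, hij, rfl⟩
    right
    have hdeg : j + i' = j' + i := by omega
    have h1 : s'.1 • m.1 ∈ ℳ (j' + i) := SetLike.GradedSMul.smul_mem s'.2 m.2
    have h2 : s.1 • m'.1 ∈ ℳ (j' + i) := hdeg ▸ SetLike.GradedSMul.smul_mem s.2 m'.2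
    refine ⟨j' + i, j + j', ⟨s'.1 • m.1 + s.1 • m'.1, add_mem h1 h2⟩, ⟨s.1 * s'.1, SetLike.GradedMul.mul_mem s.2 s'.2⟩,
      ?_, ?_, ?_⟩
    · intro hmem
      rcases p.isPrime.mem_or_mem hmem with h | h
      · exact hs h
      · exact hs' h
    · push_cast; omega
    · rw [LocalizedModule.mk_add_mk]
      rfl
  | smul c x _ hx =>
    rcases hx with rfl | ⟨i, j, m, s, hs, hij, rfl⟩
    · left; exact smul_zero c
    right
    obtain ⟨⟨e, a, b, hb⟩, rfl⟩ := HomogeneousLocalization.mk_surjective c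
    · refine ⟨e + i, e + j, ⟨a.1 • m.1, SetLike.GradedSMul.smul_mem a.2 m.2⟩,
        ⟨b.1 * s.1, SetLike.GradedMul.mul_mem b.2 s.2⟩, ?_, ?_, ?_⟩
      · intro hmem
        rcases p.isPrime.mem_or_mem hmem with h | h
        · exact hb h
        · exact hs h
      · push_cast; omega
      · rw [GrTilde.a0_smul_def, HomogeneousLocalization.val_mk]
        exact LocalizedModule.mk_smul_mk a.1 m.1 ⟨b.1, hb⟩ ⟨s.1, hs⟩

open Opposite TopologicalSpace in
theorem exists_homog_witness {R A : Type u} [CommRing R] [CommRing A] [Algebra R A] (𝒜 : ℕ → Submodule R A) [GradedAlgebra 𝒜]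
    {M : Type u} [AddCommGroup M] [Module R M] [Module A M] [IsScalarTower R A M] (ℳ : ℕ → Submodule R M) [DirectSum.Decomposition ℳ] [SetLike.GradedSMul 𝒜 ℳ] (n : ℤ)
    (p : ProjectiveSpectrum 𝒜) {i j i' j' : ℕ} (m : ℳ i) (s : 𝒜 j) (m' : ℳ i') (s' : 𝒜 j')
    (hs : s.1 ∉ p.asHomogeneousIdeal) (hs' : s'.1 ∉ p.asHomogeneousIdeal)
    (hij : (i : ℤ) = j + n ∨ m.1 = 0) (hij' : (i' : ℤ) = j' + n ∨ m'.1 = 0)
    (heq : (LocalizedModule.mk m.1 ⟨s.1, hs⟩ : GrTilde.LocMod 𝒜 (M := M) p) = LocalizedModule.mk m'.1 ⟨s'.1, hs'⟩) :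
    ∃ (k : ℕ) (c : A), c ∈ 𝒜 k ∧ c ∉ p.asHomogeneousIdeal ∧ c • s'.1 • m.1 = c • s.1 • m'.1 := by
  classical
  -- the difference is homogeneous
  have hhom : ∃ e, s'.1 • m.1 - s.1 • m'.1 ∈ ℳ e := by
    rcases hij with hij | hm
    · rcases hij' with hij' | hm'
      · refine ⟨j' + i, sub_mem (SetLike.GradedSMul.smul_mem s'.2 m.2) ?_⟩
        have hdeg : j + i' = j' + i := by omega
        exact hdeg ▸ SetLike.GradedSMul.smul_mem s.2 m'.2
      · refine ⟨j' + i, ?_⟩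
        rw [hm', smul_zero, sub_zero]
        exact SetLike.GradedSMul.smul_mem s'.2 m.2
    · refine ⟨j + i', ?_⟩
      rw [hm, smul_zero, zero_sub]
      exact neg_mem (SetLike.GradedSMul.smul_mem s.2 m'.2)
  obtain ⟨e, he⟩ := hhom
  rw [LocalizedModule.mk_eq] at heq
  obtain ⟨u, hu⟩ := heq
  have hu' : (u : A) • (s'.1 • m.1 - s.1 • m'.1) = 0 := by
    rw [smul_sub, sub_eq_zero]
    exact hu
  have hann := Groth.Agent.S3587.ann_homogeneous 𝒜 ℳ _ he
  have humem : (u : A) ∈ LinearMap.ker (LinearMap.toSpanSingleton A M (s'.1 • m.1 - s.1 • m'.1)) := by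
    rw [LinearMap.mem_ker, LinearMap.toSpanSingleton_apply]; exact hu'
  -- some component of u is not in p
  have hex : ∃ k, (DirectSum.decompose 𝒜 (u : A) k : A) ∉ p.asHomogeneousIdeal := by
    by_contra hcon
    push Not at hcon
    apply u.2
    rw [← DirectSum.sum_support_decompose 𝒜 (u : A)]
    exact Ideal.sum_mem _ fun k _ => hcon k
  obtain ⟨k, hk⟩ := hex
  refine ⟨k, (DirectSum.decompose 𝒜 (u : A) k : A), (DirectSum.decompose 𝒜 (u : A) k).2, hk, ?_⟩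
  have := hann k humem
  rw [LinearMap.mem_ker, LinearMap.toSpanSingleton_apply, smul_sub, sub_eq_zero] at this
  exact this

open Opposite TopologicalSpace in
theorem main {R A : Type u} [CommRing R] [CommRing A] [Algebra R A] (𝒜 : ℕ → Submodule R A) [GradedAlgebra 𝒜]
    {M : Type u} [AddCommGroup M] [Module R M] [Module A M] [IsScalarTower R A M] (ℳ : ℕ → Submodule R M) [DirectSum.Decomposition ℳ] [SetLike.GradedSMul 𝒜 ℳ] (n : ℤ)
    (p : ↑(ProjectiveSpectrum.top 𝒜)) :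
    Function.Bijective (TopCat.stalkToFiber (GrTilde.isLocFrac 𝒜 ℳ n) p) := by
  constructor
  · apply TopCat.stalkToFiber_injective
    intro U V fU hU fV hV hUV
    obtain ⟨U', hpU', iU, i, j, m, s, hs, hij, hfU⟩ := hU ⟨p, U.2⟩
    obtain ⟨V', hpV', iV, i', j', m', s', hs', hij', hfV⟩ := hV ⟨p, V.2⟩
    have e1 := hfU ⟨p, hpU'⟩
    have e2 := hfV ⟨p, hpV'⟩
    have heq : (LocalizedModule.mk m.1 ⟨s.1, hs ⟨p, hpU'⟩⟩ : GrTilde.LocMod 𝒜 (M := M) p) =
        LocalizedModule.mk m'.1 ⟨s'.1, hs' ⟨p, hpV'⟩⟩ := by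
      rw [← e1, ← e2]
      exact congrArg Subtype.val hUV
    obtain ⟨k, c, hck, hcp, hc⟩ := exists_homog_witness 𝒜 ℳ n p m s m' s' _ _ hij hij' heq
    let W : OpenNhds (X := ProjectiveSpectrum.top 𝒜) p := ⟨U' ⊓ V' ⊓ ProjectiveSpectrum.basicOpen 𝒜 c,
      ⟨⟨hpU', hpV'⟩, (ProjectiveSpectrum.mem_basicOpen 𝒜 c p).mpr hcp⟩⟩
    have hWU' : W.1 ≤ U' := fun y hy => hy.1.1
    have hWV' : W.1 ≤ V' := fun y hy => hy.1.2
    refine ⟨W, homOfLE (fun y hy => iU.le (hWU' hy)), homOfLE (fun y hy => iV.le (hWV' hy)), ?_⟩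
    intro w
    apply Subtype.ext
    have e1' := hfU ⟨w.1, hWU' w.2⟩
    have e2' := hfV ⟨w.1, hWV' w.2⟩
    refine e1'.trans (Eq.trans ?_ e2'.symm)
    rw [LocalizedModule.mk_eq]
    exact ⟨⟨c, (ProjectiveSpectrum.mem_basicOpen 𝒜 c w.1).mp w.2.2⟩, hc⟩
  · apply TopCat.stalkToFiber_surjective
    intro t
    rcases tildeAt_eq_frac 𝒜 ℳ n p t.1 t.2 with h0 | ⟨i, j, m, s, hs, hij, ht⟩
    · refine ⟨⟨⊤, trivial⟩, 0, GrTilde.zero_mem' n (op ⊤), ?_⟩
      exact Subtype.ext h0.symm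
    · have hnin : ∀ y : ProjectiveSpectrum.basicOpen 𝒜 s.1, s.1 ∉ y.1.asHomogeneousIdeal := fun y =>
        (ProjectiveSpectrum.mem_basicOpen 𝒜 s.1 y.1).mp y.2
      have hmem : ∀ y : ProjectiveSpectrum.basicOpen 𝒜 s.1,
          (LocalizedModule.mk m.1 ⟨s.1, hnin y⟩ : GrTilde.LocMod 𝒜 (M := M) y.1) ∈ GrTilde.tildeAt 𝒜 ℳ n y.1 := by
        intro y
        unfold GrTilde.tildeAt
        apply Submodule.subset_span
        exact ⟨i, j, m, s, hnin y, hij, rfl⟩
      refine ⟨⟨ProjectiveSpectrum.basicOpen 𝒜 s.1, (ProjectiveSpectrum.mem_basicOpen 𝒜 s.1 p).mpr hs⟩,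
        fun y => ⟨LocalizedModule.mk m.1 ⟨s.1, hnin y⟩, hmem y⟩, ?_, ?_⟩
      · intro y
        exact ⟨ProjectiveSpectrum.basicOpen 𝒜 s.1, y.2, 𝟙 _, i, j, m, s, hnin, Or.inl hij, fun _ => rfl⟩
      · exact Subtype.ext ht.symm

/-- Let S be a graded ring, M a graded S-module, X = Proj S and p a point of X. The stalk of M(n)~ at p
is the module of fractions m/f in M_p with m, f homogeneous, f not in p and deg m = deg f + n:
precisely, evaluation at p is a bijection from the stalk at p of the sheaf of local sections of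
M(n)~ onto that module of fractions. -/
theorem result {R A : Type u} [CommRing R] [CommRing A] [Algebra R A] (𝒜 : ℕ → Submodule R A) [GradedAlgebra 𝒜]
    {M : Type u} [AddCommGroup M] [Module R M] [Module A M] [IsScalarTower R A M] (ℳ : ℕ → Submodule R M) [DirectSum.Decomposition ℳ] [SetLike.GradedSMul 𝒜 ℳ] (n : ℤ)
    (p : ProjectiveSpectrum 𝒜) :
    Function.Bijective (TopCat.stalkToFiber (GrTilde.isLocFrac 𝒜 ℳ n) p) :=
  main 𝒜 ℳ n p


end Groth.Agent.S3547
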