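import Groth.Statements.S3548
-- import your own Groth.Agent.* helpers here

set_option autoImplicit false
universe u
open CategoryTheory CategoryTheory.Limits AlgebraicGeometry
open EGA2

namespace Groth.Agent.S3548

theorem locmod_subsingleton {R A : Type u} [CommRing R] [CommRing A] [Algebra R A] (𝒜 : ℕ → Submodule R A) [GradedAlgebra 𝒜]
    {M : Type u} [AddCommGroup M] [Module R M] [Module A M]
    (h : ∀ (z : M) (d : ℕ) (f : A), 0 < d → f ∈ 𝒜 d → ∃ k : ℕ, f ^ k • z = 0)
    (x : ProjectiveSpectrum 𝒜) : Subsingleton (GrTilde.LocMod 𝒜 (M := M) x) := by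
  -- find homogeneous f of positive degree not in x
  have hx := x.not_irrelevant_le
  obtain ⟨f, d, hd, hfd, hfx⟩ : ∃ (f : A) (d : ℕ), 0 < d ∧ f ∈ 𝒜 d ∧ f ∉ x.asHomogeneousIdeal := by
    by_contra hcon
    apply hx
    rw [HomogeneousIdeal.irrelevant_le]
    intro i hi a ha
    by_contra hax
    exact hcon ⟨a, i, hi, ha, hax⟩
  refine ⟨fun p q => ?_⟩
  suffices ∀ p : GrTilde.LocMod 𝒜 (M := M) x, p = 0 by rw [this p, this q]
  intro p
  induction p using LocalizedModule.induction_on with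
  | h z s =>
    obtain ⟨k, hk⟩ := h z d f hd hfd
    rw [← LocalizedModule.zero_mk (1 : x.asHomogeneousIdeal.toIdeal.primeCompl), LocalizedModule.mk_eq]
    refine ⟨⟨f ^ k, fun hmem => hfx (x.isPrime.mem_of_pow_mem k hmem)⟩, ?_⟩
    simp only [smul_zero, one_smul]
    exact hk

/-- Let S be a graded ring, M a graded S-module and X = Proj S. If for every z in M and every
homogeneous f of positive degree some power of f annihilates z, then the O_X-module M~ is zero. -/
theorem result {R A : Type u} [CommRing R] [CommRing A] [Algebra R A] (𝒜 : ℕ → Submodule R A) [GradedAlgebra 𝒜]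
    {M : Type u} [AddCommGroup M] [Module R M] [Module A M] [IsScalarTower R A M] (ℳ : ℕ → Submodule R M) [DirectSum.Decomposition ℳ] [SetLike.GradedSMul 𝒜 ℳ]
    (h : ∀ (z : M) (d : ℕ) (f : A), 0 < d → f ∈ 𝒜 d → ∃ k : ℕ, f ^ k • z = 0) :
    IsZero (GrTilde.tilde 𝒜 ℳ 0) := by
  rw [Limits.IsZero.iff_id_eq_zero]
  ext U s
  have hs : ∀ t : GrTilde.sect 𝒜 ℳ 0 (Opposite.op U), t = 0 := fun t =>
    Subtype.ext (funext fun x => Subtype.ext
      (@Subsingleton.elim _ (locmod_subsingleton 𝒜 h x.1) _ _))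
  have h1 : ∀ t : ↑Γ(GrTilde.tilde 𝒜 ℳ 0, U), t = 0 := hs
  rw [h1 ((AddCommGrpCat.Hom.hom (Scheme.Modules.Hom.app (𝟙 (GrTilde.tilde 𝒜 ℳ 0)) U)) s),
    h1 ((AddCommGrpCat.Hom.hom (Scheme.Modules.Hom.app 0 U)) s)]


end Groth.Agent.S3548
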