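import Groth.Statements.S3549
import Groth.Agent.S3587
-- import your own Groth.Agent.* helpers here

set_option autoImplicit false
universe u
open CategoryTheory CategoryTheory.Limits AlgebraicGeometry
open EGA2

namespace Groth.Agent.S3549

open Opposite TopologicalSpace in
theorem sections_zero {R A : Type u} [CommRing R] [CommRing A] [Algebra R A] (𝒜 : ℕ → Submodule R A) [GradedAlgebra 𝒜]
    {M : Type u} [AddCommGroup M] [Module R M] [Module A M] [IsScalarTower R A M] (ℳ : ℕ → Submodule R M) [DirectSum.Decomposition ℳ] [SetLike.GradedSMul 𝒜 ℳ]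
    (h : Limits.IsZero (GrTilde.tilde 𝒜 ℳ 0)) (U : Opens (ProjectiveSpectrum.top 𝒜))
    (s : GrTilde.sect 𝒜 ℳ 0 (op U)) : s = 0 := by
  rw [Limits.IsZero.iff_id_eq_zero] at h
  have h1 := congrArg (fun φ : GrTilde.tilde 𝒜 ℳ 0 ⟶ GrTilde.tilde 𝒜 ℳ 0 =>
    (AddCommGrpCat.Hom.hom (Scheme.Modules.Hom.app φ U)) (show ↑Γ(GrTilde.tilde 𝒜 ℳ 0, U) from s)) h
  exact h1

open Opposite TopologicalSpace in
theorem deg_one_nilp {R A : Type u} [CommRing R] [CommRing A] [Algebra R A] (𝒜 : ℕ → Submodule R A) [GradedAlgebra 𝒜]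
    {M : Type u} [AddCommGroup M] [Module R M] [Module A M] [IsScalarTower R A M] (ℳ : ℕ → Submodule R M) [DirectSum.Decomposition ℳ] [SetLike.GradedSMul 𝒜 ℳ]
    (h : Limits.IsZero (GrTilde.tilde 𝒜 ℳ 0)) {i : ℕ} (z : ℳ i) (g : A) (hg : g ∈ 𝒜 1) :
    ∃ N : ℕ, g ^ N • z.1 = 0 := by
  have hgi : g ^ i ∈ 𝒜 i := by simpa using SetLike.pow_mem_graded i hg
  have hnin : ∀ x : ProjectiveSpectrum.basicOpen 𝒜 g, g ^ i ∉ x.1.asHomogeneousIdeal := fun x hmem =>
    (ProjectiveSpectrum.mem_basicOpen 𝒜 g x.1).mp x.2 (x.1.isPrime.mem_of_pow_mem i hmem)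
  have hmem : ∀ x : ProjectiveSpectrum.basicOpen 𝒜 g,
      (LocalizedModule.mk z.1 ⟨g ^ i, hnin x⟩ : GrTilde.LocMod 𝒜 (M := M) x.1) ∈ GrTilde.tildeAt 𝒜 ℳ 0 x.1 := by
    intro x
    unfold GrTilde.tildeAt
    apply Submodule.subset_span
    exact ⟨i, i, z, ⟨g ^ i, hgi⟩, hnin x, by simp, rfl⟩
  let s : GrTilde.sect 𝒜 ℳ 0 (op (ProjectiveSpectrum.basicOpen 𝒜 g)) :=
    ⟨fun x => (⟨LocalizedModule.mk z.1 ⟨g ^ i, hnin x⟩, hmem x⟩ :
        GrTilde.tildeAt 𝒜 ℳ 0 x.1),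
     fun x => ⟨ProjectiveSpectrum.basicOpen 𝒜 g, x.2, 𝟙 _, i, i, z, ⟨g ^ i, hgi⟩,
      hnin, Or.inl (by simp), fun _ => rfl⟩⟩
  have hs := sections_zero 𝒜 ℳ h _ s
  apply Groth.Agent.S3587.result 𝒜 ℳ (d := 1) Nat.one_pos hg i i z
  intro x
  have := congrArg (fun t => ((t.1 x).1 : GrTilde.LocMod 𝒜 (M := M) x.1)) hs
  exact this

/-- Let S be a graded ring whose irrelevant ideal S_+ is generated by the degree-one elements, M a
graded S-module and X = Proj S. If the O_X-module M~ is zero, then for every z in M and every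
homogeneous f of positive degree some power of f annihilates z. -/
theorem result {R A : Type u} [CommRing R] [CommRing A] [Algebra R A] (𝒜 : ℕ → Submodule R A) [GradedAlgebra 𝒜]
    (hgen : (HomogeneousIdeal.irrelevant 𝒜).toIdeal = Ideal.span (𝒜 1 : Set A))
    {M : Type u} [AddCommGroup M] [Module R M] [Module A M] [IsScalarTower R A M] (ℳ : ℕ → Submodule R M) [DirectSum.Decomposition ℳ] [SetLike.GradedSMul 𝒜 ℳ]
    (h : IsZero (GrTilde.tilde 𝒜 ℳ 0)) (z : M) (d : ℕ) (f : A) (hd : 0 < d) (hf : f ∈ 𝒜 d) :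
    ∃ k : ℕ, f ^ k • z = 0 := by
  have hfirr : f ∈ (HomogeneousIdeal.irrelevant 𝒜).toIdeal :=
    HomogeneousIdeal.mem_irrelevant_of_mem 𝒜 hd hf
  induction z using DirectSum.Decomposition.inductionOn ℳ with
  | zero => exact ⟨0, by simp⟩
  | @homogeneous i m =>
    set I : Ideal A := LinearMap.ker (LinearMap.toSpanSingleton A M m.1) with hI
    have h1 : Ideal.span (𝒜 1 : Set A) ≤ I.radical := by
      rw [Ideal.span_le]
      intro g hg
      obtain ⟨N, hN⟩ := deg_one_nilp 𝒜 ℳ h m g hg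
      exact ⟨N, by simpa [hI, LinearMap.toSpanSingleton_apply] using hN⟩
    rw [hgen] at hfirr
    obtain ⟨k, hk⟩ := h1 hfirr
    exact ⟨k, by simpa [hI, LinearMap.toSpanSingleton_apply] using hk⟩
  | add m m' hm hm' =>
    obtain ⟨k, hk⟩ := hm
    obtain ⟨k', hk'⟩ := hm'
    refine ⟨k + k', ?_⟩
    rw [smul_add, pow_add, mul_smul (f ^ k) (f ^ k') m', hk', smul_zero, add_zero, mul_comm, mul_smul, hk, smul_zero]


end Groth.Agent.S3549
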