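import Groth.Statements.S3553
import Groth.Agent.Lib.Helper17.Proj

set_option autoImplicit false
universe u
open CategoryTheory CategoryTheory.Limits AlgebraicGeometry
open EGA2

namespace Groth.Agent.S3553

/-- In the case where the induced morphism is defined on all of Proj S: let φ : S' → S be a homomorphism
of graded rings such that S_+ is contained in the ideal generated by φ(S'_+), and suppose every
element of the kernel of φ is nilpotent. Then the induced morphism from Proj S to Proj S' has dense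
image. -/
theorem result {R A : Type u} [CommRing R] [CommRing A] [Algebra R A] (𝒜 : ℕ → Submodule R A) [GradedAlgebra 𝒜]
    {B : Type u} [CommRing B] [Algebra R B] (ℬ : ℕ → Submodule R B) [GradedAlgebra ℬ]
    (φ : 𝒜 →+*ᵍ ℬ) (hφ : HomogeneousIdeal.irrelevant ℬ ≤ (HomogeneousIdeal.irrelevant 𝒜).map φ)
    (hker : ∀ a : A, φ a = 0 → IsNilpotent a) :
    DenseRange (Proj.map φ hφ).base := by
  rw [DenseRange, dense_iff_inter_open]
  rintro U hU ⟨x, hxU⟩
  obtain ⟨t, ht⟩ := (ProjectiveSpectrum.isOpen_iff 𝒜 U).mp hU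
  have hx : x ∉ ProjectiveSpectrum.zeroLocus 𝒜 t := by
    rw [← ht]; exact fun h => h hxU
  have hx2 : ¬ (t ⊆ (x.asHomogeneousIdeal : Set A)) := fun h => hx h
  rw [Set.not_subset] at hx2
  obtain ⟨g, hgt, hgx⟩ := hx2
  obtain ⟨h, hh, hhx⟩ := SetLike.not_le_iff_exists.mp x.not_irrelevant_le
  have hs : g * h ∈ (HomogeneousIdeal.irrelevant 𝒜).toIdeal := Ideal.mul_mem_left _ _ hh
  have hsx : g * h ∉ x.asHomogeneousIdeal.toIdeal := fun hmem =>
    (x.isPrime.mem_or_mem hmem).elim hgx hhx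
  have hsn : ¬ IsNilpotent (g * h) := by
    rintro ⟨n, hn⟩
    exact hsx (x.isPrime.mem_of_pow_mem n (by rw [hn]; exact zero_mem _))
  have hφn : ¬ IsNilpotent (φ (g * h)) := by
    rintro ⟨n, hn⟩
    rw [← map_pow] at hn
    exact hsn (IsNilpotent.of_pow (m := n) (hker _ hn))
  obtain ⟨y, hy⟩ := Groth.Agent.Lib.Helper17.exists_point_of_not_isNilpotent ℬ (φ (g * h))
    (Groth.Agent.Lib.Helper17.map_mem_irrelevant 𝒜 ℬ φ _ hs) hφn
  refine ⟨(Proj.map φ hφ).base y, ?_, ⟨y, rfl⟩⟩
  by_contra hyU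
  have hyz : (Proj.map φ hφ).base y ∈ ProjectiveSpectrum.zeroLocus 𝒜 t := by
    rw [← ht]; exact hyU
  have hgy : g ∈ (((Proj.map φ hφ).base y).asHomogeneousIdeal : Set A) := hyz hgt
  apply hy
  change φ (g * h) ∈ y.asHomogeneousIdeal.toIdeal
  rw [map_mul]
  exact Ideal.mul_mem_right _ _ hgy

end Groth.Agent.S3553
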