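import Groth.Statements.S3555
import Groth.Agent.Lib.helper11.TwistSpan

set_option autoImplicit false
universe u
open CategoryTheory CategoryTheory.Limits AlgebraicGeometry
open EGA2

namespace Groth.Agent.S3555

/-- Let S be a graded ring whose irrelevant ideal S_+ is generated by the degree-one elements, X = Proj
S, and f homogeneous of degree d > 0. Then D_+(f) is the set of points p of X at which the global
section f/1 of O_X(d) does not vanish, i.e. at which its value generates the module of degree-d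
fractions at p. -/
theorem result {R A : Type u} [CommRing R] [CommRing A] [Algebra R A] (𝒜 : ℕ → Submodule R A) [GradedAlgebra 𝒜]
    (hgen : (HomogeneousIdeal.irrelevant 𝒜).toIdeal = Ideal.span (𝒜 1 : Set A))
    {d : ℕ} (hd : 0 < d) (f : 𝒜 d) (p : ProjectiveSpectrum 𝒜) :
    p ∈ ProjectiveSpectrum.basicOpen 𝒜 (f : A) ↔
      Submodule.span (Twist.A0 𝒜 p) {(Twist.globalOf 𝒜 f).1 ⟨p, trivial⟩} = ⊤ := by
  -- some degree-one element outside `p`
  have hex : ∃ t ∈ 𝒜 1, t ∉ p.asHomogeneousIdeal := by
    by_contra hcon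
    push Not at hcon
    apply p.not_irrelevant_le
    change (HomogeneousIdeal.irrelevant 𝒜).toIdeal ≤ p.asHomogeneousIdeal.toIdeal
    rw [hgen, Ideal.span_le]
    intro t ht
    exact hcon t ht
  obtain ⟨t, ht1, htp⟩ := hex
  have hpow : t ^ d ∈ 𝒜 d := by
    have := SetLike.pow_mem_graded d ht1
    simpa using this
  have hpowp : t ^ d ∉ p.asHomogeneousIdeal := fun h => htp (p.isPrime.mem_of_pow_mem d h)
  exact Groth.Agent.Lib.helper11.TwistSpan.mem_basicOpen_iff_span_globalOf_eq_top 𝒜 p f
    (⟨t ^ d, hpow⟩ : 𝒜 d) (⟨1, SetLike.GradedOne.one_mem⟩ : 𝒜 0)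
    (Groth.Agent.Lib.helper11.TwistSpan.one_not_mem 𝒜 p) hpowp (by simp)

end Groth.Agent.S3555
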