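import Groth.Statements.S3565
import Groth.Agent.S2355
import Groth.Agent.S9716
import Groth.Agent.Lib.Helper17.NormAmple
import Groth.Agent.Lib.Helper17.NormFLFD
import Groth.Agent.Lib.Helper28.PullbackAmple2
import Mathlib
set_option backward.isDefEq.respectTransparency.types false

set_option autoImplicit false
universe u
open CategoryTheory CategoryTheory.Limits AlgebraicGeometry
open EGA2

namespace Groth.Agent.S3565

open Groth.Agent.Lib.Helper28 Groth.Agent.Lib.Helper28.PullbackInv Groth.Agent.Lib.Helper17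


/-- Let f : X → Y be a quasi-compact morphism, g : X' → X a finite surjective morphism such that the
direct image of the structure sheaf of X' is a finite locally free O_X-module, and L an invertible
O_X-module. Then L is ample relative to f if and only if its inverse image on X' is ample relative
to f ∘ g. -/
theorem result {X X' Y : Scheme.{u}} (f : X ⟶ Y) [QuasiCompact f]
    (g : X' ⟶ X) [IsFinite g] [Surjective g]
    (hfree : FlatMod.IsFinLocFree ((Coh.push g).obj (Coh.structureModule X')))
    (L : X.Modules) (hL : PicF.IsInvertible L) :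
    RelAmple.IsRelAmple f L ↔ RelAmple.IsRelAmple (g ≫ f) ((Scheme.Modules.pullback g).obj L) := by
  constructor
  · intro h
    refine Groth.Agent.S2355.result f g ⟨inferInstance, fun V hV => ?_⟩ L h
    haveI : IsAffine ((g ⁻¹ᵁ V : X'.Opens) : Scheme.{u}) := hV.preimage g
    infer_instance
  · intro h
    refine ⟨inferInstance, fun V => ?_⟩
    have hA := h.2 V
    haveI : CompactSpace ((f ⁻¹ᵁ V.1 : X.Opens) : Scheme.{u}) :=
      isCompact_iff_compactSpace.mp (QuasiCompact.isCompact_preimage (f := f) _ V.1.isOpen V.2.isCompact)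
    obtain ⟨-, hflat, hfp⟩ := (Groth.Agent.S9716.result g).1 ⟨inferInstance, hfree⟩
    haveI := hflat
    haveI := hfp
    haveI : Surjective (g ∣_ (f ⁻¹ᵁ V.1)) := IsZariskiLocalAtTarget.restrict (P := @Surjective) inferInstance _
    obtain ⟨D, ⟨Nm⟩⟩ := NormFLFD.exists_hasNorm (g ∣_ (f ⁻¹ᵁ V.1))
    have h2 : CohB1.IsAmple ((Scheme.Modules.pullback (g ∣_ (f ⁻¹ᵁ V.1))).obj (L.restrict (f ⁻¹ᵁ V.1).ι)) :=
      AmpleIso.isAmple_of_iso ((restrictPullbackIso g (f ⁻¹ᵁ V.1)).app L) hA
    exact NormAmple.isAmple_of_isAmple_pullback Nm (L.restrict (f ⁻¹ᵁ V.1).ι)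
      (AmpleIso.isInvertible_restrict _ L hL) h2

end Groth.Agent.S3565
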