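import Groth.Statements.S3568
import Mathlib
import Groth.Agent.S2246
import Groth.Agent.Lib.Helper13.DvrLift

set_option autoImplicit false
universe u
open CategoryTheory CategoryTheory.Limits AlgebraicGeometry
open EGA2

namespace Groth.Agent.S3568

section
open IsLocalRing

/-- Krull: an element of the fraction field lying in every valuation ring dominating an
integrally closed local domain lies in that domain -/
theorem mem_range_of_forall_valuationSubring (O K : Type*) [CommRing O] [IsDomain O]
    [IsLocalRing O] [IsIntegrallyClosed O] [Field K] [Algebra O K] [IsFractionRing O K] (x : K)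
    (H : ∀ A : ValuationSubring K,
      LocalSubring.range (algebraMap O K) ≤ A.toLocalSubring → x ∈ A) :
    x ∈ Set.range (algebraMap O K) := by
  haveI : IsIntegrallyClosedIn (LocalSubring.range (algebraMap O K)).toSubring K := by
    change IsIntegrallyClosedIn (algebraMap O K).range K
    refine Subring.isIntegrallyClosedIn_iff.mpr (fun y hy => ?_)
    letI : Algebra O (algebraMap O K).range := (algebraMap O K).rangeRestrict.toAlgebra
    haveI : IsScalarTower O (algebraMap O K).range K :=
      IsScalarTower.of_algebraMap_eq (fun _ => rfl)
    haveI : Algebra.IsIntegral O (algebraMap O K).range :=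
      Algebra.isIntegral_of_surjective (algebraMap O K).rangeRestrict_surjective
    have hy' : IsIntegral O y := isIntegral_trans y hy
    obtain ⟨z, hz⟩ := IsIntegrallyClosed.isIntegral_iff.mp hy'
    exact ⟨z, hz⟩
  by_contra hx
  have hx' : x ∉ (LocalSubring.range (algebraMap O K)).toSubring := hx
  obtain ⟨A, hA, hxA⟩ := LocalSubring.exists_le_valuationSubring_of_isIntegrallyClosedIn hx'
  exact hxA (H A hA)

/-- the residue map at a point whose local ring is a field is bijective -/
theorem residue_bijective_of_isField (X : Scheme.{u}) (x : X)
    (hF : IsField (X.presheaf.stalk x)) : Function.Bijective (X.residue x).hom := by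
  refine ⟨?_, X.residue_surjective x⟩
  change Function.Injective (IsLocalRing.residue (X.presheaf.stalk x))
  rw [RingHom.injective_iff_ker_eq_bot, IsLocalRing.ker_residue]
  exact isField_iff_maximalIdeal_eq.mp hF

/-- the key step: the maps on local rings are bijective -/
theorem stalkMap_bijective {U V : Scheme.{u}} [IsIntegral U] [IsIntegral V]
    (hN : ∀ x : V, IsDomain (V.presheaf.stalk x) ∧ IsIntegrallyClosed (V.presheaf.stalk x))
    (h : U ⟶ V) [UniversallyClosed h]
    (hinj : Function.Injective h.base) (hgen : h.base (genericPoint U) = genericPoint V)
    (hι : Function.Bijective (V.presheaf.stalkSpecializes (specializes_of_eq hgen) ≫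
      h.stalkMap (genericPoint U)).hom) (u : U) :
    Function.Bijective (h.stalkMap u).hom := by
  obtain ⟨ι, hιdef⟩ : ∃ ι : V.presheaf.stalk (genericPoint V) ⟶ U.presheaf.stalk (genericPoint U),
      ι = V.presheaf.stalkSpecializes (specializes_of_eq hgen) ≫ h.stalkMap (genericPoint U) :=
    ⟨_, rfl⟩
  rw [← hιdef] at hι
  -- identity (A)
  have hA : Spec.map ι ≫ V.fromSpecStalk (genericPoint V) =
      U.fromSpecStalk (genericPoint U) ≫ h := by
    rw [hιdef, Spec.map_comp, Category.assoc, Scheme.SpecMap_stalkSpecializes_fromSpecStalk,
      Scheme.SpecMap_stalkMap_fromSpecStalk]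
  -- identity (B)
  have hB : V.presheaf.stalkSpecializes (genericPoint_specializes (h.base u)) ≫ ι =
      h.stalkMap u ≫ U.presheaf.stalkSpecializes (genericPoint_specializes u) := by
    apply Spec.map_injective
    apply (cancel_mono (V.fromSpecStalk (h.base u))).mp
    rw [Spec.map_comp, Category.assoc, Scheme.SpecMap_stalkSpecializes_fromSpecStalk, hA,
      Spec.map_comp, Category.assoc, Scheme.SpecMap_stalkMap_fromSpecStalk,
      ← Category.assoc, Scheme.SpecMap_stalkSpecializes_fromSpecStalk]
  have hBv : ∀ a : V.presheaf.stalk (h.base u),
      ι.hom (algebraMap (V.presheaf.stalk (h.base u)) V.functionField a) =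
      algebraMap (U.presheaf.stalk u) U.functionField ((h.stalkMap u).hom a) := by
    intro a
    exact congrArg (fun ξ : V.presheaf.stalk (h.base u) ⟶ U.presheaf.stalk (genericPoint U) =>
      ξ.hom a) hB
  constructor
  · -- injective
    rw [injective_iff_map_eq_zero]
    intro a ha
    have h1 := hBv a
    rw [ha, map_zero] at h1
    have h2 : algebraMap (V.presheaf.stalk (h.base u)) V.functionField a = 0 :=
      hι.1 (by rw [h1, map_zero])
    exact (IsFractionRing.injective (V.presheaf.stalk (h.base u)) V.functionField)
      (by rw [h2, map_zero])
  · -- surjective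
    intro b
    obtain ⟨γ, hγ⟩ := hι.2 (algebraMap (U.presheaf.stalk u) U.functionField b)
    haveI := (hN (h.base u)).1
    haveI := (hN (h.base u)).2
    have hmem : γ ∈ Set.range (algebraMap (V.presheaf.stalk (h.base u)) V.functionField) := by
      refine mem_range_of_forall_valuationSubring _ _ γ (fun A hA' => ?_)
      obtain ⟨φ, hφ1, hφ2⟩ := Groth.Agent.S2246.exists_hom_of_dominate V (h.base u) A hA'
      -- the inverse of `ι`
      obtain ⟨ι', hι'1, hι'2⟩ : ∃ ι' : U.functionField →+* V.functionField,
          (∀ z, ι' (ι.hom z) = z) ∧ (∀ z, ι.hom (ι' z) = z) :=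
        ⟨((RingEquiv.ofBijective ι.hom hι).symm : U.functionField →+* V.functionField),
          fun z => (RingEquiv.ofBijective ι.hom hι).symm_apply_apply z,
          fun z => (RingEquiv.ofBijective ι.hom hι).apply_symm_apply z⟩
      have hinv : Spec.map (CommRingCat.ofHom ι') ≫ Spec.map ι = 𝟙 _ := by
        rw [← Spec.map_comp, ← Spec.map_id]
        congr 1
        ext z
        exact hι'1 z
      have hex : ValuativeCriterion.Existence h := by
        have hh : UniversallyClosed h := inferInstance
        rw [UniversallyClosed.eq_valuativeCriterion] at hh
        exact hh.1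
      let Sq : ValuativeCommSq h :=
        { R := A, K := V.functionField,
          i₁ := Spec.map (CommRingCat.ofHom ι') ≫ U.fromSpecStalk (genericPoint U),
          i₂ := φ,
          commSq := ⟨by
            rw [Category.assoc, ← hA, ← Category.assoc, hinv, Category.id_comp]
            exact hφ2.symm⟩ }
      obtain ⟨⟨l, hl1, hl2⟩⟩ := hex Sq
      have hlu : l.base (closedPoint A) = u := by
        apply hinj
        rw [← Scheme.Hom.comp_apply]
        have : l ≫ h = φ := hl2
        rw [this, hφ1]
      obtain ⟨θ, -, hθ⟩ := Groth.Agent.Lib.Helper13.DvrLift.exists_stalk_hom A l u hlu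
      have hcompat : θ ≫ CommRingCat.ofHom A.subtype =
          U.presheaf.stalkSpecializes (genericPoint_specializes u) ≫ CommRingCat.ofHom ι' := by
        apply Spec.map_injective
        apply (cancel_mono (U.fromSpecStalk u)).mp
        rw [Spec.map_comp, Category.assoc, hθ, Spec.map_comp, Category.assoc,
          Scheme.SpecMap_stalkSpecializes_fromSpecStalk]
        exact hl1
      have h5 : ((θ.hom b : A) : V.functionField) =
          ι' (algebraMap (U.presheaf.stalk u) U.functionField b) :=
        congrArg (fun ξ : U.presheaf.stalk u ⟶ CommRingCat.of V.functionField => ξ.hom b) hcompat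
      have h6 : γ = ι' (algebraMap (U.presheaf.stalk u) U.functionField b) := by
        rw [← hγ, hι'1]
      rw [h6, ← h5]
      exact Subtype.coe_prop _
    obtain ⟨a, ha⟩ := hmem
    refine ⟨a, ?_⟩
    apply IsFractionRing.injective (U.presheaf.stalk u) U.functionField
    rw [← hBv, ha, hγ]

end

/-- Let U be an integral scheme, V a normal integral scheme (all local rings integrally closed domains)
and h : U → V a morphism which is universally closed, radicial (universally injective) and
birational (it sends the generic point of U to that of V and induces an isomorphism of the residue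
fields there). Then h is an isomorphism. (The source assumes only V normal; integrality of V, needed
here to speak of its generic point, follows from the other hypotheses.) -/
theorem result {U V : Scheme.{u}} [AlgebraicGeometry.IsIntegral U] [AlgebraicGeometry.IsIntegral V]
    (hN : Pi1.IsNormalScheme V) (h : U ⟶ V) [UniversallyClosed h]
    [UniversallyInjective h] (hgen : h.base (genericPoint U) = genericPoint V)
    (hbir : Function.Bijective (h.residueFieldMap (genericPoint U)).hom) :
    IsIso h := by
  have hUfield : IsField (U.presheaf.stalk (genericPoint U)) := Field.toIsField U.functionField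
  have hVfield : IsField (V.presheaf.stalk (h.base (genericPoint U))) := by
    rw [hgen]
    exact Field.toIsField V.functionField
  have hst : Function.Bijective (h.stalkMap (genericPoint U)).hom := by
    have b1 := residue_bijective_of_isField V _ hVfield
    have b2 := residue_bijective_of_isField U _ hUfield
    have hsq : (U.residue (genericPoint U)).hom ∘ (h.stalkMap (genericPoint U)).hom =
        (h.residueFieldMap (genericPoint U)).hom ∘ (V.residue (h.base (genericPoint U))).hom := by
      funext a
      exact (congrArg (fun ξ : V.presheaf.stalk (h.base (genericPoint U)) ⟶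
        U.residueField (genericPoint U) => ξ.hom a)
        (Scheme.residue_residueFieldMap h (genericPoint U))).symm
    have b3 : Function.Bijective ((U.residue (genericPoint U)).hom ∘
        (h.stalkMap (genericPoint U)).hom) := by
      rw [hsq]
      exact hbir.comp b1
    exact (Function.Bijective.of_comp_iff' b2 _).mp b3
  have hsp : Function.Bijective (V.presheaf.stalkSpecializes (specializes_of_eq hgen)).hom := by
    have : IsIso (V.presheaf.stalkSpecializes (specializes_of_eq hgen)) :=
      (V.presheaf.stalkCongr (Inseparable.of_eq hgen.symm)).isIso_hom
    exact ConcreteCategory.bijective_of_isIso _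
  have hι : Function.Bijective (V.presheaf.stalkSpecializes (specializes_of_eq hgen) ≫
      h.stalkMap (genericPoint U)).hom := by
    rw [CommRingCat.hom_comp]
    exact hst.comp hsp
  -- topology
  have hinj : Function.Injective h.base := h.injective
  have hclosed : IsClosedMap h.base := h.isClosedMap
  have hsurj : Function.Surjective h.base := by
    intro v
    have hcl : IsClosed (Set.range h.base) := hclosed.isClosed_range
    have h1 : genericPoint V ∈ Set.range h.base := ⟨genericPoint U, hgen⟩
    exact (genericPoint_specializes v).mem_closed hcl h1
  have hopen : IsOpenMap h.base := by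
    intro O hO
    have h1 : h.base '' O = (h.base '' Oᶜ)ᶜ := by
      rw [Set.image_compl_eq ⟨hinj, hsurj⟩, compl_compl]
    rw [h1]
    exact (hclosed _ hO.isClosed_compl).isOpen_compl
  have hemb : Topology.IsOpenEmbedding h.base :=
    Topology.IsOpenEmbedding.of_continuous_injective_isOpenMap h.base.hom.continuous hinj hopen
  haveI : ∀ x, IsIso (h.stalkMap x) := fun x =>
    (ConcreteCategory.isIso_iff_bijective _).mpr (stalkMap_bijective hN h hinj hgen hι x)
  haveI : IsOpenImmersion h := IsOpenImmersion.of_isIso_stalkMap h hemb
  rw [isIso_iff_isOpenImmersion_and_epi_base]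
  exact ⟨inferInstance, (TopCat.epi_iff_surjective _).mpr hsurj⟩

end Groth.Agent.S3568
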