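import Groth.Statements.S3571
import Groth.Agent.Lib.Helper28.QCAlgOfQCoh
import Groth.Agent.S8255

set_option autoImplicit false
universe u
open CategoryTheory AlgebraicGeometry TopologicalSpace
open EGA2

open Groth.Agent.Lib.Helper28 CategoryTheory.Limits Opposite

namespace Groth.Agent.S3571

/-- Let S be a scheme and B a sheaf of commutative rings on S with a morphism O_S → B making B a
quasi-coherent O_S-module (a quasi-coherent O_S-algebra). Then there are a scheme X and an affine
morphism f : X → S together with an isomorphism of sheaves of rings B ≅ f_*O_X compatible with the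
two structure maps from O_S (X is the relative spectrum of B; it is in fact unique up to unique
S-isomorphism, but only existence is asserted here). -/
theorem result {S : Scheme.{u}}
    (B : Sheaf (Opens.grothendieckTopology S) CommRingCat.{u}) (φ : S.sheaf ⟶ B)
    (hB : Coh.IsQCoh ((SheafOfModules.restrictScalars
      ((sheafCompose (Opens.grothendieckTopology S) (forget₂ CommRingCat.{u} RingCat.{u})).map φ)).obj
      (SheafOfModules.unit ((sheafCompose (Opens.grothendieckTopology S) (forget₂ CommRingCat.{u} RingCat.{u})).obj B)))) :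
    ∃ (X : Scheme.{u}) (f : X ⟶ S) (_ : IsAffineHom f)
      (e : B ≅ (TopCat.Sheaf.pushforward CommRingCat.{u} f.base).obj X.sheaf),
      (φ ≫ e.hom).hom = f.c := by
  classical
  let A : RelSpec.QCAlg S := ⟨B.obj, B.property, φ.hom, QCAlgOfQCoh.isQC B φ hB⟩
  have hiso : IsIso A.gammaMap := Groth.Agent.S8255.main A
  let gi : A.presheaf ⟶ A.π.base _* A.spec.presheaf := @inv _ _ _ _ A.gammaMap hiso
  have hgi1 : gi ≫ A.gammaMap = 𝟙 _ := @IsIso.inv_hom_id _ _ _ _ A.gammaMap hiso
  have hgi2 : A.gammaMap ≫ gi = 𝟙 _ := @IsIso.hom_inv_id _ _ _ _ A.gammaMap hiso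
  let e : B ≅ (TopCat.Sheaf.pushforward CommRingCat.{u} A.π.base).obj A.spec.sheaf :=
    { hom := ⟨gi⟩
      inv := ⟨A.gammaMap⟩
      hom_inv_id := Sheaf.hom_ext hgi1
      inv_hom_id := Sheaf.hom_ext hgi2 }
  refine ⟨A.spec, A.π, inferInstance, e, ?_⟩
  have h1 : A.π.c ≫ A.gammaMap = φ.hom := A.π_c_gammaMap
  change φ.hom ≫ gi = A.π.c
  have h2 : (A.π.c ≫ A.gammaMap) ≫ gi = A.π.c :=
    (Category.assoc _ _ _).trans ((congrArg (A.π.c ≫ ·) hgi2).trans (Category.comp_id _))
  exact (congrArg (· ≫ gi) h1.symm).trans h2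

end Groth.Agent.S3571
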