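import Groth.Statements.S3577
import Groth.Agent.S2355
import Groth.Agent.S9716
import Groth.Agent.Lib.Helper17.GNorm
import Groth.Agent.Lib.Helper17.WNormAmple
import Groth.Agent.Lib.Helper28.RestrictAmple
import Groth.Agent.Lib.Helper28.VeryAmpleBase
import Mathlib
set_option backward.isDefEq.respectTransparency.types false

set_option autoImplicit false
universe u
open CategoryTheory CategoryTheory.Limits AlgebraicGeometry
open EGA2

namespace Groth.Agent.S3577

open Groth.Agent.Lib.Helper28 Groth.Agent.Lib.Helper17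
open Groth.Agent.Lib.Helper28.QCohLoc Groth.Agent.Lib.Helper28.TwistGen Groth.Agent.Lib.Helper29.FreeIso
open Groth.Agent.Lib.Helper29.QCohStalk Groth.Agent.S9716

attribute [local instance] Groth.Agent.Lib.Helper17.NormFLF.algApp

/-- local freeness of the restriction of `g_* O_{X'}` to an open `T` gives good affine neighbourhoods of the
points of `T` -/
theorem exists_good_of_restrict {X X' : Scheme.{u}} (g : X' ⟶ X) (T : X.Opens)
    (h : FlatMod.IsFinLocFree ((PO g).restrict T.ι)) (x : X) (hx : x ∈ T) :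
    ∃ W, NormFLF.Good g W ∧ x ∈ W := by
  obtain ⟨U', n, hxU', ⟨e⟩⟩ := h ⟨x, hx⟩
  obtain ⟨τ, hτ, hgen⟩ := exists_isBasisOn_of_iso' ((PO g).restrict T.ι) U' n e
  obtain ⟨V', hV', hxV', hV'U'⟩ :=
    (TopologicalSpace.Opens.isBasis_iff_nbhd.1 (T : Scheme.{u}).isBasis_affineOpens) hxU'
  have hW : IsAffineOpen (T.ι ''ᵁ V') := hV'.image_of_isOpenImmersion T.ι
  refine ⟨T.ι ''ᵁ V', ⟨hW, ?_⟩, ⟨⟨x, hx⟩, hxV', rfl⟩⟩
  let b : Fin n → Γ(X', g ⁻¹ᵁ (T.ι ''ᵁ V')) := fun j =>
    ofSM (show Γ(Coh.structureModule X', g ⁻¹ᵁ (T.ι ''ᵁ V')) from res ((PO g).restrict T.ι) hV'U' (τ j))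
  have hsmul : ∀ (a : Γ(X, T.ι ''ᵁ V')) (m : Γ(X', g ⁻¹ᵁ (T.ι ''ᵁ V'))), a • m = g.app (T.ι ''ᵁ V') a * m := by
    intro a m
    rw [Algebra.smul_def, NormFLF.algebraMap_eq]
  have key : ∀ c : Fin n → Γ(X, T.ι ''ᵁ V'),
      ofSM (show Γ(Coh.structureModule X', g ⁻¹ᵁ (T.ι ''ᵁ V')) from
        (∑ j, (show Γ(↑T, V') from c j) • res ((PO g).restrict T.ι) hV'U' (τ j) :
          Γ((PO g).restrict T.ι, V'))) = ∑ j, c j • b j := by
    intro c
    have h1 : (∑ j, (show Γ(↑T, V') from c j) • res ((PO g).restrict T.ι) hV'U' (τ j) :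
          Γ((PO g).restrict T.ι, V')) =
        (∑ j, (c j • (show Γ(PO g, T.ι ''ᵁ V') from res ((PO g).restrict T.ι) hV'U' (τ j)) :
          Γ(PO g, T.ι ''ᵁ V'))) := by
      refine Finset.sum_congr rfl fun j _ => ?_
      exact restrict_smul_eq (PO g) T V' _ _
    rw [h1]
    have h2 := sum_PO g (T.ι ''ᵁ V') c
      (fun j => (show Γ(PO g, T.ι ''ᵁ V') from res ((PO g).restrict T.ι) hV'U' (τ j)))
    refine h2.trans (Finset.sum_congr rfl fun j _ => (hsmul _ _).symm)
  have hli : LinearIndependent Γ(X, T.ι ''ᵁ V') b := by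
    rw [Fintype.linearIndependent_iff]
    intro c hc
    refine hτ.1 V' hV'U' (fun j => (show Γ(↑T, V') from c j)) ?_
    have h3 := key c
    rw [hc] at h3
    exact h3
  have hspan : Submodule.span Γ(X, T.ι ''ᵁ V') (Set.range b) = ⊤ := by
    rw [eq_top_iff]
    rintro m -
    obtain ⟨c, hc⟩ := hgen V' hV'U' (show Γ((PO g).restrict T.ι, V') from toSM m)
    have h3 := key (fun j => (show Γ(X, T.ι ''ᵁ V') from c j))
    have h4 : m = ∑ j, (show Γ(X, T.ι ''ᵁ V') from c j) • b j := by
      rw [← h3]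
      have h5 : m = ofSM (show Γ(Coh.structureModule X', g ⁻¹ᵁ (T.ι ''ᵁ V')) from (toSM m)) := rfl
      rw [h5]
      congr 1
    rw [h4]
    exact Submodule.sum_mem _ fun j _ => Submodule.smul_mem _ _ (Submodule.subset_span ⟨j, rfl⟩)
  exact Module.Free.of_basis (Module.Basis.mk hli hspan.ge)


/-- Let Y be an affine scheme, X a Noetherian reduced scheme, f : X → Y a quasi-compact morphism and g :
X' → X a finite surjective morphism. Assume that at every point x of X either the local ring of X at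
x is an integrally closed domain, or the direct image of the structure sheaf of X' is locally free
on some open neighbourhood of x. Then an invertible O_X-module L is ample relative to f if and only
if its inverse image on X' is ample relative to f ∘ g. -/
theorem result {X X' Y : Scheme.{u}} [IsAffine Y]
    [IsNoetherian X] [IsReduced X] (f : X ⟶ Y) [QuasiCompact f] (g : X' ⟶ X) [IsFinite g] [Surjective g]
    (hW : ∀ x : X, (IsDomain (X.presheaf.stalk x) ∧ IsIntegrallyClosed (X.presheaf.stalk x)) ∨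
      ∃ T : X.Opens, x ∈ T ∧ FlatMod.IsFinLocFree (((Coh.push g).obj (Coh.structureModule X')).restrict T.ι))
    (L : X.Modules) (hL : PicF.IsInvertible L) :
    RelAmple.IsRelAmple f L ↔ RelAmple.IsRelAmple (g ≫ f) ((Scheme.Modules.pullback g).obj L) := by
  constructor
  · intro h
    refine Groth.Agent.S2355.result f g ⟨inferInstance, fun V hV => ?_⟩ L h
    haveI : IsAffine ((g ⁻¹ᵁ V : X'.Opens) : Scheme.{u}) := hV.preimage g
    infer_instance
  · intro h
    have hA := h.2 ⟨⊤, isAffineOpen_top Y⟩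
    have hA' : CohB1.IsAmple ((Scheme.Modules.pullback g).obj L) :=
      GenLocus.isAmple_of_isAmple_restrict_of_eq_top _ rfl hA
    have hpt : GNorm.PtHyp g := by
      intro x
      rcases hW x with h1 | ⟨T, hxT, hT⟩
      · exact Or.inl h1
      · exact Or.inr (exists_good_of_restrict g T hT x hxT)
    obtain ⟨N, ⟨Nm⟩⟩ := GNorm.exists_wnorm hpt
    exact VeryAmpleBase.isRelAmple_of_isAmple f (WNormAmple.isAmple_of_isAmple_pullback Nm L hL hA')

end Groth.Agent.S3577
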