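import Groth.Statements.S3578
-- import your own Groth.Agent.* helpers here

set_option autoImplicit false
universe u
open EGA2

namespace Groth.Agent.S3578

/-- Via the correspondence between closed subsets of Proj S and radical graded ideals of S_+: let S be a
graded ring and Z a closed subset of Proj S, with J = S_+ ∩ (vanishing ideal of Z). Then Z is
irreducible if and only if J is a prime ideal of the ring-without-unit S_+: J ≠ S_+ and a product of
two elements of S_+ lies in J only if one factor does. -/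
theorem result {R A : Type u} [CommRing R] [CommRing A] [Algebra R A] (𝒜 : ℕ → Submodule R A) [GradedAlgebra 𝒜]
    (Z : Set (ProjectiveSpectrum 𝒜)) (hZ : IsClosed Z) :
    IsIrreducible Z ↔
      (¬ (HomogeneousIdeal.irrelevant 𝒜).toIdeal ≤ (ProjectiveSpectrum.vanishingIdeal Z).toIdeal ∧
        ∀ f ∈ (HomogeneousIdeal.irrelevant 𝒜).toIdeal, ∀ g ∈ (HomogeneousIdeal.irrelevant 𝒜).toIdeal,
          f * g ∈ (ProjectiveSpectrum.vanishingIdeal Z).toIdeal →
            f ∈ (ProjectiveSpectrum.vanishingIdeal Z).toIdeal ∨ g ∈ (ProjectiveSpectrum.vanishingIdeal Z).toIdeal) := by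
  constructor
  · rintro ⟨⟨x, hx⟩, hpre⟩
    refine ⟨fun hle => x.not_irrelevant_le fun f hf =>
      (ProjectiveSpectrum.mem_vanishingIdeal _ _).mp (hle hf) x hx, ?_⟩
    intro f _ g _ hfg
    have hsub : Z ⊆ ProjectiveSpectrum.zeroLocus 𝒜 {f} ∪ ProjectiveSpectrum.zeroLocus 𝒜 {g} := by
      intro y hy
      have hy' : f * g ∈ y.asHomogeneousIdeal.toIdeal :=
        (ProjectiveSpectrum.mem_vanishingIdeal _ _).mp hfg y hy
      rcases y.isPrime.mem_or_mem hy' with h | h
      · left
        rw [ProjectiveSpectrum.mem_zeroLocus]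
        exact Set.singleton_subset_iff.mpr h
      · right
        rw [ProjectiveSpectrum.mem_zeroLocus]
        exact Set.singleton_subset_iff.mpr h
    rcases (isPreirreducible_iff_isClosed_union_isClosed.mp hpre) _ _
      (ProjectiveSpectrum.isClosed_zeroLocus 𝒜 _) (ProjectiveSpectrum.isClosed_zeroLocus 𝒜 _) hsub
      with h | h
    · left
      refine (ProjectiveSpectrum.mem_vanishingIdeal _ _).mpr fun y hy => ?_
      exact Set.singleton_subset_iff.mp ((ProjectiveSpectrum.mem_zeroLocus _ _ _).mp (h hy))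
    · right
      refine (ProjectiveSpectrum.mem_vanishingIdeal _ _).mpr fun y hy => ?_
      exact Set.singleton_subset_iff.mp ((ProjectiveSpectrum.mem_zeroLocus _ _ _).mp (h hy))
  · rintro ⟨hnle, hprime⟩
    refine ⟨?_, ?_⟩
    · by_contra hemp
      rw [Set.not_nonempty_iff_eq_empty] at hemp
      apply hnle
      intro f _
      refine (ProjectiveSpectrum.mem_vanishingIdeal _ _).mpr fun y hy => ?_
      rw [hemp] at hy
      exact hy.elim
    · rw [isPreirreducible_iff_isClosed_union_isClosed]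
      intro z₁ z₂ hz₁ hz₂ hsub
      by_contra hcon
      rw [not_or, Set.not_subset, Set.not_subset] at hcon
      obtain ⟨⟨x₁, hx₁Z, hx₁⟩, ⟨x₂, hx₂Z, hx₂⟩⟩ := hcon
      obtain ⟨t₁, rfl⟩ := (ProjectiveSpectrum.isClosed_iff_zeroLocus 𝒜 _).mp hz₁
      obtain ⟨t₂, rfl⟩ := (ProjectiveSpectrum.isClosed_iff_zeroLocus 𝒜 _).mp hz₂
      rw [ProjectiveSpectrum.mem_zeroLocus, Set.not_subset] at hx₁ hx₂
      obtain ⟨f₁, hf₁t, hf₁x⟩ := hx₁
      obtain ⟨f₂, hf₂t, hf₂x⟩ := hx₂
      obtain ⟨h₁, hh₁, hh₁x⟩ := SetLike.not_le_iff_exists.mp x₁.not_irrelevant_le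
      obtain ⟨h₂, hh₂, hh₂x⟩ := SetLike.not_le_iff_exists.mp x₂.not_irrelevant_le
      have ha : f₁ * h₁ ∈ (HomogeneousIdeal.irrelevant 𝒜).toIdeal := Ideal.mul_mem_left _ _ hh₁
      have hb : f₂ * h₂ ∈ (HomogeneousIdeal.irrelevant 𝒜).toIdeal := Ideal.mul_mem_left _ _ hh₂
      have hax : f₁ * h₁ ∉ x₁.asHomogeneousIdeal.toIdeal := fun hmem =>
        (x₁.isPrime.mem_or_mem hmem).elim hf₁x hh₁x
      have hbx : f₂ * h₂ ∉ x₂.asHomogeneousIdeal.toIdeal := fun hmem =>
        (x₂.isPrime.mem_or_mem hmem).elim hf₂x hh₂x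
      have hab : (f₁ * h₁) * (f₂ * h₂) ∈ (ProjectiveSpectrum.vanishingIdeal Z).toIdeal := by
        refine (ProjectiveSpectrum.mem_vanishingIdeal _ _).mpr fun y hy => ?_
        rcases hsub hy with h | h
        · have : f₁ ∈ y.asHomogeneousIdeal.toIdeal := ((ProjectiveSpectrum.mem_zeroLocus _ _ _).mp h) hf₁t
          exact Ideal.mul_mem_right _ _ (Ideal.mul_mem_right _ _ this)
        · have : f₂ ∈ y.asHomogeneousIdeal.toIdeal := ((ProjectiveSpectrum.mem_zeroLocus _ _ _).mp h) hf₂t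
          exact Ideal.mul_mem_left _ _ (Ideal.mul_mem_right _ _ this)
      rcases hprime _ ha _ hb hab with h | h
      · exact hax ((ProjectiveSpectrum.mem_vanishingIdeal _ _).mp h x₁ hx₁Z)
      · exact hbx ((ProjectiveSpectrum.mem_vanishingIdeal _ _).mp h x₂ hx₂Z)

end Groth.Agent.S3578
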