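import Groth.Statements.S3580
-- import your own Groth.Agent.* helpers here
import Mathlib
import Groth.Agent.Lib.Helper28.Glue
import Groth.Agent.Lib.Helper28.ProjChart

set_option autoImplicit false
universe u
open CategoryTheory CategoryTheory.Limits AlgebraicGeometry
open EGA2

namespace Groth.Agent.S3580

open HomogeneousLocalization Groth.Agent.Lib.Helper28

section helpers

variable {R A : Type u} [CommRing R] [CommRing A] [Algebra R A] (𝒜 : ℕ → Submodule R A)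
    [GradedAlgebra 𝒜]
    {B : Type u} [CommRing B] [Algebra R B] (ℬ : ℕ → Submodule R B) [GradedAlgebra ℬ]
    (d : ℕ) (hd : 0 < d) (φ : B →ₐ[R] A) (hφ : Function.Injective φ)
    (hdeg : ∀ n : ℕ, Submodule.map φ.toLinearMap (ℬ n) = 𝒜 (n * d))

include hdeg in
theorem map_mem {n : ℕ} {g : B} (hg : g ∈ ℬ n) : φ g ∈ 𝒜 (n * d) :=
  (hdeg n).le (Submodule.mem_map_of_mem hg)

include hdeg in
theorem map_mem' {n k : ℕ} {b : B} (hb : b ∈ ℬ (k • n)) : φ b ∈ 𝒜 (k • (n * d)) := by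
  have := map_mem 𝒜 ℬ d φ hdeg hb
  rwa [smul_eq_mul, mul_assoc] at this

include hdeg in
theorem exists_preimage {n : ℕ} {a : A} (ha : a ∈ 𝒜 (n * d)) : ∃ b ∈ ℬ n, φ b = a := by
  obtain ⟨b, hb, rfl⟩ := (hdeg n).ge ha
  exact ⟨b, hb, rfl⟩

/-- compatibility of `θ : B_(g) → A_(φ g)` with `φ` inside the localizations -/
def Compat (g : B) (θ : Away ℬ g →+* Away 𝒜 (φ g)) : Prop :=
  (algebraMap (Away 𝒜 (φ g)) (Localization.Away (φ g))).comp θ =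
    (Localization.awayMap φ.toRingHom g).comp (algebraMap (Away ℬ g) (Localization.Away g))

theorem locAwayMap_mk (g b : B) (k : ℕ) :
    Localization.awayMap φ.toRingHom g (Localization.mk b ⟨g ^ k, k, rfl⟩) =
      Localization.mk (φ b) (⟨φ g ^ k, k, rfl⟩ : Submonoid.powers (φ g)) := by
  rw [Localization.mk_eq_mk', Localization.mk_eq_mk']
  unfold Localization.awayMap IsLocalization.Away.map
  rw [IsLocalization.map_mk']
  congr 1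
  exact Subtype.ext (map_pow φ g k)

include hdeg in
theorem compat_mk {n : ℕ} {g : B} (hg : g ∈ ℬ n) (θ : Away ℬ g →+* Away 𝒜 (φ g))
    (hθ : Compat 𝒜 ℬ φ g θ) (k : ℕ) (b : B) (hb : b ∈ ℬ (k • n)) :
    θ (Away.mk ℬ hg k b hb) =
      Away.mk 𝒜 (map_mem 𝒜 ℬ d φ hdeg hg) k (φ b) (map_mem' 𝒜 ℬ d φ hdeg hb) := by
  apply val_injective
  have := congrArg (fun h => h (Away.mk ℬ hg k b hb)) hθ
  simp only [RingHom.comp_apply] at this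
  change (θ (Away.mk ℬ hg k b hb)).val = _ at this
  rw [this, Away.val_mk]
  change Localization.awayMap φ.toRingHom g (Away.mk ℬ hg k b hb).val = _
  rw [Away.val_mk]
  exact locAwayMap_mk φ g b k


include hdeg in
theorem exists_compat {n : ℕ} {g : B} (hg : g ∈ ℬ n) :
    ∃ θ : Away ℬ g →+* Away 𝒜 (φ g), Compat 𝒜 ℬ φ g θ := by
  let ιA := algebraMap (Away 𝒜 (φ g)) (Localization.Away (φ g))
  have hinj : Function.Injective ιA := val_injective _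
  let Λ : Away ℬ g →+* Localization.Away (φ g) :=
    (Localization.awayMap φ.toRingHom g).comp (algebraMap (Away ℬ g) (Localization.Away g))
  have hΛ : ∀ x, Λ x ∈ ιA.range := by
    intro x
    obtain ⟨k, b, hb, rfl⟩ := Away.mk_surjective ℬ hg x
    refine ⟨Away.mk 𝒜 (map_mem 𝒜 ℬ d φ hdeg hg) k (φ b) (map_mem' 𝒜 ℬ d φ hdeg hb), ?_⟩
    change (Away.mk 𝒜 (map_mem 𝒜 ℬ d φ hdeg hg) k (φ b) (map_mem' 𝒜 ℬ d φ hdeg hb)).val =
      Localization.awayMap φ.toRingHom g (Away.mk ℬ hg k b hb).val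
    rw [Away.val_mk, Away.val_mk, locAwayMap_mk]
  let E := RingEquiv.ofBijective ιA.rangeRestrict
    ⟨fun a b h => hinj (congrArg Subtype.val h), RingHom.rangeRestrict_surjective ιA⟩
  refine ⟨E.symm.toRingHom.comp (Λ.codRestrict ιA.range hΛ), ?_⟩
  ext x
  change ιA (E.symm ⟨Λ x, hΛ x⟩) = Λ x
  have : ιA.rangeRestrict (E.symm ⟨Λ x, hΛ x⟩) = ⟨Λ x, hΛ x⟩ := E.apply_symm_apply _
  exact congrArg Subtype.val this

theorem compat_unique (g : B) (θ θ' : Away ℬ g →+* Away 𝒜 (φ g))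
    (hθ : Compat 𝒜 ℬ φ g θ) (hθ' : Compat 𝒜 ℬ φ g θ') : θ = θ' := by
  ext x
  have h1 := congrArg (fun h => h x) hθ
  have h2 := congrArg (fun h => h x) hθ'
  simp only [RingHom.comp_apply] at h1 h2
  exact h1.trans h2.symm

include hdeg hφ in
theorem compat_bijective {n : ℕ} {g : B} (hg : g ∈ ℬ n) (θ : Away ℬ g →+* Away 𝒜 (φ g))
    (hθ : Compat 𝒜 ℬ φ g θ) : Function.Bijective θ := by
  constructor
  · rw [injective_iff_map_eq_zero]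
    intro x hx
    obtain ⟨k, b, hb, rfl⟩ := Away.mk_surjective ℬ hg x
    rw [compat_mk 𝒜 ℬ d φ hdeg hg θ hθ] at hx
    have hx' := congrArg val hx
    rw [Away.val_mk, val_zero, Localization.mk_eq_mk', IsLocalization.mk'_eq_zero_iff] at hx'
    obtain ⟨⟨_, m, rfl⟩, hm⟩ := hx'
    have h0 : g ^ m * b = 0 := by
      apply hφ
      rw [map_mul, map_pow, map_zero]
      exact hm
    apply val_injective
    rw [Away.val_mk, val_zero, Localization.mk_eq_mk', IsLocalization.mk'_eq_zero_iff]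
    exact ⟨⟨g ^ m, m, rfl⟩, h0⟩
  · intro y
    obtain ⟨k, a, ha, rfl⟩ := Away.mk_surjective 𝒜 (map_mem 𝒜 ℬ d φ hdeg hg) y
    have ha' : a ∈ 𝒜 ((k • n) * d) := by
      rwa [smul_eq_mul, mul_assoc]
    obtain ⟨b, hb, rfl⟩ := exists_preimage 𝒜 ℬ d φ hdeg ha'
    exact ⟨Away.mk ℬ hg k b hb, compat_mk 𝒜 ℬ d φ hdeg hg θ hθ k b hb⟩


include hdeg in
theorem θ_natural {n n' : ℕ} {g g' x : B} (hg : g ∈ ℬ n) (hg' : g' ∈ ℬ n') (hx : x = g * g')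
    (θ₁ : Away ℬ g →+* Away 𝒜 (φ g)) (h₁ : Compat 𝒜 ℬ φ g θ₁)
    (θ₂ : Away ℬ x →+* Away 𝒜 (φ x)) (h₂ : Compat 𝒜 ℬ φ x θ₂) :
    θ₂.comp (awayMap ℬ hg' hx) =
      (awayMap 𝒜 (map_mem 𝒜 ℬ d φ hdeg hg') (hx ▸ map_mul φ g g')).comp θ₁ := by
  subst hx
  apply RingHom.ext
  intro x
  obtain ⟨k, b, hb, rfl⟩ := Away.mk_surjective ℬ hg x
  simp only [RingHom.comp_apply]
  rw [HomogeneousLocalization.awayMap_mk, compat_mk 𝒜 ℬ d φ hdeg hg θ₁ h₁,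
    compat_mk 𝒜 ℬ d φ hdeg (SetLike.mul_mem_graded hg hg') θ₂ h₂,
    HomogeneousLocalization.awayMap_mk]
  apply val_injective
  rw [Away.val_mk, Away.val_mk]
  congr 1
  rw [map_mul, map_pow]


/-- index type of the standard charts -/
structure Idx (ℬ : ℕ → Submodule R B) where
  n : ℕ
  g : B
  hn : 0 < n
  hg : g ∈ ℬ n

namespace Idx
variable {ℬ}
/-- product of two indices -/
def mul (t s : Idx ℬ) : Idx ℬ := ⟨t.n + s.n, t.g * s.g, Nat.add_pos_left t.hn _, SetLike.mul_mem_graded t.hg s.hg⟩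
end Idx

theorem awayι_congr {m m' : ℕ} {f : A} (hf : f ∈ 𝒜 m) (hf' : f ∈ 𝒜 m') (hm : 0 < m) (hm' : 0 < m')
    (h : m = m') : Proj.awayι 𝒜 f hf hm = Proj.awayι 𝒜 f hf' hm' := by
  subst h
  rfl

section charts
variable (t s : Idx ℬ)

/-- the chosen ring map -/
noncomputable def θ : Away ℬ t.g →+* Away 𝒜 (φ t.g) := (exists_compat 𝒜 ℬ d φ hdeg t.hg).choose

theorem θ_compat : Compat 𝒜 ℬ φ t.g (θ 𝒜 ℬ d φ hdeg t) := (exists_compat 𝒜 ℬ d φ hdeg t.hg).choose_spec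

/-- the chart isomorphism of rings -/
noncomputable def Θ : CommRingCat.of (Away ℬ t.g) ≅ CommRingCat.of (Away 𝒜 (φ t.g)) :=
  (RingEquiv.ofBijective (θ 𝒜 ℬ d φ hdeg t)
    (compat_bijective 𝒜 ℬ d φ hφ hdeg t.hg _ (θ_compat 𝒜 ℬ d φ hdeg t))).toCommRingCatIso

theorem Θ_hom : (Θ 𝒜 ℬ d φ hφ hdeg t).hom = CommRingCat.ofHom (θ 𝒜 ℬ d φ hdeg t) := rfl

/-- chart of `Proj 𝒜` -/
noncomputable def cA : Spec (CommRingCat.of (Away 𝒜 (φ t.g))) ⟶ Proj 𝒜 :=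
  Proj.awayι 𝒜 (φ t.g) (map_mem 𝒜 ℬ d φ hdeg t.hg) (Nat.mul_pos t.hn hd)

/-- chart of `Proj ℬ` -/
noncomputable def cB : Spec (CommRingCat.of (Away ℬ t.g)) ⟶ Proj ℬ :=
  Proj.awayι ℬ t.g t.hg t.hn

instance : IsOpenImmersion (cA 𝒜 ℬ d hd φ hdeg t) := by unfold cA; infer_instance
instance : IsOpenImmersion (cB ℬ t) := by unfold cB; infer_instance

/-- restriction between charts of `Proj 𝒜` -/
noncomputable def rA : Spec (CommRingCat.of (Away 𝒜 (φ (t.mul s).g))) ⟶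
    Spec (CommRingCat.of (Away 𝒜 (φ t.g))) :=
  Spec.map (CommRingCat.ofHom (awayMap 𝒜 (map_mem 𝒜 ℬ d φ hdeg s.hg) (map_mul φ t.g s.g)))

/-- restriction between charts of `Proj 𝒜`, other side -/
noncomputable def rA' : Spec (CommRingCat.of (Away 𝒜 (φ (t.mul s).g))) ⟶
    Spec (CommRingCat.of (Away 𝒜 (φ s.g))) :=
  Spec.map (CommRingCat.ofHom (awayMap 𝒜 (map_mem 𝒜 ℬ d φ hdeg t.hg)
    ((map_mul φ t.g s.g).trans (mul_comm _ _))))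

/-- restriction between charts of `Proj ℬ` -/
noncomputable def rB : Spec (CommRingCat.of (Away ℬ (t.mul s).g)) ⟶
    Spec (CommRingCat.of (Away ℬ t.g)) :=
  Spec.map (CommRingCat.ofHom (awayMap ℬ s.hg rfl))

/-- restriction between charts of `Proj ℬ`, other side -/
noncomputable def rB' : Spec (CommRingCat.of (Away ℬ (t.mul s).g)) ⟶
    Spec (CommRingCat.of (Away ℬ s.g)) :=
  Spec.map (CommRingCat.ofHom (awayMap ℬ t.hg (mul_comm t.g s.g)))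

set_option backward.isDefEq.respectTransparency false in
theorem rA_cA : rA 𝒜 ℬ d φ hdeg t s ≫ cA 𝒜 ℬ d hd φ hdeg t = cA 𝒜 ℬ d hd φ hdeg (t.mul s) := by
  unfold rA cA
  rw [Proj.SpecMap_awayMap_awayι]
  exact awayι_congr 𝒜 _ _ _ _ (add_mul _ _ _).symm

set_option backward.isDefEq.respectTransparency false in
theorem rA'_cA : rA' 𝒜 ℬ d φ hdeg t s ≫ cA 𝒜 ℬ d hd φ hdeg s = cA 𝒜 ℬ d hd φ hdeg (t.mul s) := by
  unfold rA' cA
  rw [Proj.SpecMap_awayMap_awayι]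
  exact awayι_congr 𝒜 _ _ _ _ (by change s.n * d + t.n * d = (t.n + s.n) * d; ring)

set_option backward.isDefEq.respectTransparency false in
theorem rB_cB : rB ℬ t s ≫ cB ℬ t = cB ℬ (t.mul s) := by
  unfold rB cB
  rw [Proj.SpecMap_awayMap_awayι]

set_option backward.isDefEq.respectTransparency false in
theorem rB'_cB : rB' ℬ t s ≫ cB ℬ s = cB ℬ (t.mul s) := by
  unfold rB' cB
  rw [Proj.SpecMap_awayMap_awayι]
  exact awayι_congr ℬ _ _ _ _ (add_comm _ _)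

end charts


section nat
variable (t s : Idx ℬ)

theorem nat_hom : rA 𝒜 ℬ d φ hdeg t s ≫ Spec.map (Θ 𝒜 ℬ d φ hφ hdeg t).hom =
    Spec.map (Θ 𝒜 ℬ d φ hφ hdeg (t.mul s)).hom ≫ rB ℬ t s := by
  unfold rA rB
  rw [Θ_hom, Θ_hom, ← Spec.map_comp, ← Spec.map_comp, ← CommRingCat.ofHom_comp,
    ← CommRingCat.ofHom_comp]
  congr 2
  exact (θ_natural 𝒜 ℬ d φ hdeg t.hg s.hg rfl _ (θ_compat 𝒜 ℬ d φ hdeg t) _
    (θ_compat 𝒜 ℬ d φ hdeg (t.mul s))).symm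

theorem nat_hom' : rA' 𝒜 ℬ d φ hdeg t s ≫ Spec.map (Θ 𝒜 ℬ d φ hφ hdeg s).hom =
    Spec.map (Θ 𝒜 ℬ d φ hφ hdeg (t.mul s)).hom ≫ rB' ℬ t s := by
  unfold rA' rB'
  rw [Θ_hom, Θ_hom, ← Spec.map_comp, ← Spec.map_comp, ← CommRingCat.ofHom_comp,
    ← CommRingCat.ofHom_comp]
  congr 2
  exact (θ_natural 𝒜 ℬ d φ hdeg s.hg t.hg (mul_comm t.g s.g) _ (θ_compat 𝒜 ℬ d φ hdeg s) _
    (θ_compat 𝒜 ℬ d φ hdeg (t.mul s))).symm

theorem nat_inv : rB ℬ t s ≫ Spec.map (Θ 𝒜 ℬ d φ hφ hdeg t).inv =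
    Spec.map (Θ 𝒜 ℬ d φ hφ hdeg (t.mul s)).inv ≫ rA 𝒜 ℬ d φ hdeg t s := by
  have h := nat_hom 𝒜 ℬ d φ hφ hdeg t s
  have h1 : Spec.map (Θ 𝒜 ℬ d φ hφ hdeg t).hom ≫ Spec.map (Θ 𝒜 ℬ d φ hφ hdeg t).inv = 𝟙 _ := by
    rw [← Spec.map_comp, Iso.inv_hom_id, Spec.map_id]
  have h2 : Spec.map (Θ 𝒜 ℬ d φ hφ hdeg (t.mul s)).inv ≫
      Spec.map (Θ 𝒜 ℬ d φ hφ hdeg (t.mul s)).hom = 𝟙 _ := by
    rw [← Spec.map_comp, Iso.hom_inv_id, Spec.map_id]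
  calc rB ℬ t s ≫ Spec.map (Θ 𝒜 ℬ d φ hφ hdeg t).inv
      = (Spec.map (Θ 𝒜 ℬ d φ hφ hdeg (t.mul s)).inv ≫
          Spec.map (Θ 𝒜 ℬ d φ hφ hdeg (t.mul s)).hom) ≫ rB ℬ t s ≫
            Spec.map (Θ 𝒜 ℬ d φ hφ hdeg t).inv := by rw [h2, Category.id_comp]
    _ = Spec.map (Θ 𝒜 ℬ d φ hφ hdeg (t.mul s)).inv ≫ (rA 𝒜 ℬ d φ hdeg t s ≫
          Spec.map (Θ 𝒜 ℬ d φ hφ hdeg t).hom) ≫ Spec.map (Θ 𝒜 ℬ d φ hφ hdeg t).inv := by
        rw [h]; simp only [Category.assoc]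
    _ = _ := by rw [Category.assoc, h1, Category.comp_id]

theorem nat_inv' : rB' ℬ t s ≫ Spec.map (Θ 𝒜 ℬ d φ hφ hdeg s).inv =
    Spec.map (Θ 𝒜 ℬ d φ hφ hdeg (t.mul s)).inv ≫ rA' 𝒜 ℬ d φ hdeg t s := by
  have h := nat_hom' 𝒜 ℬ d φ hφ hdeg t s
  have h1 : Spec.map (Θ 𝒜 ℬ d φ hφ hdeg s).hom ≫ Spec.map (Θ 𝒜 ℬ d φ hφ hdeg s).inv = 𝟙 _ := by
    rw [← Spec.map_comp, Iso.inv_hom_id, Spec.map_id]
  have h2 : Spec.map (Θ 𝒜 ℬ d φ hφ hdeg (t.mul s)).inv ≫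
      Spec.map (Θ 𝒜 ℬ d φ hφ hdeg (t.mul s)).hom = 𝟙 _ := by
    rw [← Spec.map_comp, Iso.hom_inv_id, Spec.map_id]
  calc rB' ℬ t s ≫ Spec.map (Θ 𝒜 ℬ d φ hφ hdeg s).inv
      = (Spec.map (Θ 𝒜 ℬ d φ hφ hdeg (t.mul s)).inv ≫
          Spec.map (Θ 𝒜 ℬ d φ hφ hdeg (t.mul s)).hom) ≫ rB' ℬ t s ≫
            Spec.map (Θ 𝒜 ℬ d φ hφ hdeg s).inv := by rw [h2, Category.id_comp]
    _ = Spec.map (Θ 𝒜 ℬ d φ hφ hdeg (t.mul s)).inv ≫ (rA' 𝒜 ℬ d φ hdeg t s ≫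
          Spec.map (Θ 𝒜 ℬ d φ hφ hdeg s).hom) ≫ Spec.map (Θ 𝒜 ℬ d φ hφ hdeg s).inv := by
        rw [h]; simp only [Category.assoc]
    _ = _ := by rw [Category.assoc, h1, Category.comp_id]

end nat

section cover

set_option backward.isDefEq.respectTransparency false in
theorem coverB (x : Proj ℬ) : ∃ t : Idx ℬ, x ∈ Set.range (cB ℬ t) := by
  obtain ⟨s, y, hy⟩ := (Proj.affineOpenCover ℬ).openCover.exists_eq x
  exact ⟨⟨s.1.1, s.2.1, s.1.2, s.2.2⟩, y, hy⟩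

include hd in
set_option backward.isDefEq.respectTransparency false in
theorem coverA (x : Proj 𝒜) : ∃ t : Idx ℬ, x ∈ Set.range (cA 𝒜 ℬ d hd φ hdeg t) := by
  obtain ⟨s, y, hy⟩ := (Proj.affineOpenCover 𝒜).openCover.exists_eq x
  have hx : x ∈ Proj.basicOpen 𝒜 s.2.1 := by
    rw [← Proj.opensRange_awayι 𝒜 s.2.1 s.2.2 s.1.2]
    exact ⟨y, hy⟩
  have hpow : s.2.1 ^ d ∈ 𝒜 (s.1.1 * d) := by
    have := SetLike.pow_mem_graded d s.2.2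
    rwa [smul_eq_mul, mul_comm] at this
  obtain ⟨g, hg, hgφ⟩ := exists_preimage 𝒜 ℬ d φ hdeg hpow
  refine ⟨⟨s.1.1, g, s.1.2, hg⟩, ?_⟩
  have : x ∈ Proj.basicOpen 𝒜 (φ g) := by
    rw [hgφ, Proj.basicOpen_pow 𝒜 _ d hd]
    exact hx
  rw [← Proj.opensRange_awayι 𝒜 (φ g) (map_mem 𝒜 ℬ d φ hdeg hg) (Nat.mul_pos s.1.2 hd)] at this
  exact this

end cover


section glue

set_option backward.isDefEq.respectTransparency false in
theorem range_cA (t : Idx ℬ) :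
    Set.range (cA 𝒜 ℬ d hd φ hdeg t) = (Proj.basicOpen 𝒜 (φ t.g) : Set (Proj 𝒜)) := by
  have := Proj.opensRange_awayι 𝒜 (φ t.g) (map_mem 𝒜 ℬ d φ hdeg t.hg) (Nat.mul_pos t.hn hd)
  exact congrArg (fun U : (Proj 𝒜).Opens => (U : Set (Proj 𝒜))) this

set_option backward.isDefEq.respectTransparency false in
theorem range_cB (t : Idx ℬ) :
    Set.range (cB ℬ t) = (Proj.basicOpen ℬ t.g : Set (Proj ℬ)) := by
  have := Proj.opensRange_awayι ℬ t.g t.hg t.hn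
  exact congrArg (fun U : (Proj ℬ).Opens => (U : Set (Proj ℬ))) this

set_option backward.isDefEq.respectTransparency false in
theorem HA (t s : Idx ℬ) : ∃ (V : Scheme.{u}) (a : V ⟶ Spec (CommRingCat.of (Away 𝒜 (φ t.g))))
    (b : V ⟶ Spec (CommRingCat.of (Away 𝒜 (φ s.g)))),
    a ≫ cA 𝒜 ℬ d hd φ hdeg t = b ≫ cA 𝒜 ℬ d hd φ hdeg s ∧
    IsOpenImmersion (a ≫ cA 𝒜 ℬ d hd φ hdeg t) ∧
    (Set.range (cA 𝒜 ℬ d hd φ hdeg t) ∩ Set.range (cA 𝒜 ℬ d hd φ hdeg s) ⊆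
      Set.range (a ≫ cA 𝒜 ℬ d hd φ hdeg t)) ∧
    a ≫ (Spec.map (Θ 𝒜 ℬ d φ hφ hdeg t).hom ≫ cB ℬ t) =
      b ≫ (Spec.map (Θ 𝒜 ℬ d φ hφ hdeg s).hom ≫ cB ℬ s) := by
  refine ⟨_, rA 𝒜 ℬ d φ hdeg t s, rA' 𝒜 ℬ d φ hdeg t s, ?_, ?_, ?_, ?_⟩
  · rw [rA_cA, rA'_cA]
  · rw [rA_cA]; infer_instance
  · rw [rA_cA, range_cA, range_cA, range_cA]
    rintro x ⟨h1, h2⟩
    change x ∈ Proj.basicOpen 𝒜 (φ (t.g * s.g))
    rw [map_mul, Proj.basicOpen_mul]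
    exact ⟨h1, h2⟩
  · rw [← Category.assoc, nat_hom, Category.assoc, rB_cB, ← Category.assoc, nat_hom',
      Category.assoc, rB'_cB]

set_option backward.isDefEq.respectTransparency false in
theorem HB (t s : Idx ℬ) : ∃ (V : Scheme.{u}) (a : V ⟶ Spec (CommRingCat.of (Away ℬ t.g)))
    (b : V ⟶ Spec (CommRingCat.of (Away ℬ s.g))),
    a ≫ cB ℬ t = b ≫ cB ℬ s ∧
    IsOpenImmersion (a ≫ cB ℬ t) ∧
    (Set.range (cB ℬ t) ∩ Set.range (cB ℬ s) ⊆ Set.range (a ≫ cB ℬ t)) ∧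
    a ≫ (Spec.map (Θ 𝒜 ℬ d φ hφ hdeg t).inv ≫ cA 𝒜 ℬ d hd φ hdeg t) =
      b ≫ (Spec.map (Θ 𝒜 ℬ d φ hφ hdeg s).inv ≫ cA 𝒜 ℬ d hd φ hdeg s) := by
  refine ⟨_, rB ℬ t s, rB' ℬ t s, ?_, ?_, ?_, ?_⟩
  · rw [rB_cB, rB'_cB]
  · rw [rB_cB]; infer_instance
  · rw [rB_cB, range_cB, range_cB, range_cB]
    rintro x ⟨h1, h2⟩
    change x ∈ Proj.basicOpen ℬ (t.g * s.g)
    rw [Proj.basicOpen_mul]
    exact ⟨h1, h2⟩
  · rw [← Category.assoc, nat_inv, Category.assoc, rA_cA, ← Category.assoc, nat_inv',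
      Category.assoc, rA'_cA]

theorem exists_hom : ∃! p : Proj 𝒜 ⟶ Proj ℬ, ∀ t : Idx ℬ,
    cA 𝒜 ℬ d hd φ hdeg t ≫ p = Spec.map (Θ 𝒜 ℬ d φ hφ hdeg t).hom ≫ cB ℬ t :=
  Glue.existsUnique_glue (fun t : Idx ℬ => Spec (CommRingCat.of (Away 𝒜 (φ t.g))))
    (fun t => cA 𝒜 ℬ d hd φ hdeg t) (coverA 𝒜 ℬ d hd φ hdeg)
    (fun t => Spec.map (Θ 𝒜 ℬ d φ hφ hdeg t).hom ≫ cB ℬ t) (HA 𝒜 ℬ d hd φ hφ hdeg)

theorem exists_inv : ∃! p : Proj ℬ ⟶ Proj 𝒜, ∀ t : Idx ℬ,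
    cB ℬ t ≫ p = Spec.map (Θ 𝒜 ℬ d φ hφ hdeg t).inv ≫ cA 𝒜 ℬ d hd φ hdeg t :=
  Glue.existsUnique_glue (fun t : Idx ℬ => Spec (CommRingCat.of (Away ℬ t.g)))
    (fun t => cB ℬ t) (coverB ℬ)
    (fun t => Spec.map (Θ 𝒜 ℬ d φ hφ hdeg t).inv ≫ cA 𝒜 ℬ d hd φ hdeg t)
    (HB 𝒜 ℬ d hd φ hφ hdeg)

end glue


set_option backward.isDefEq.respectTransparency false in
theorem exists_iso : ∃ e : Proj 𝒜 ≅ Proj ℬ, ∀ t : Idx ℬ,
    cA 𝒜 ℬ d hd φ hdeg t ≫ e.hom = Spec.map (Θ 𝒜 ℬ d φ hφ hdeg t).hom ≫ cB ℬ t := by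
  obtain ⟨p, hp, -⟩ := exists_hom 𝒜 ℬ d hd φ hφ hdeg
  obtain ⟨q, hq, -⟩ := exists_inv 𝒜 ℬ d hd φ hφ hdeg
  refine ⟨⟨p, q, ?_, ?_⟩, hp⟩
  · refine (Glue.cov (fun t : Idx ℬ => Spec (CommRingCat.of (Away 𝒜 (φ t.g))))
      (fun t => cA 𝒜 ℬ d hd φ hdeg t) (coverA 𝒜 ℬ d hd φ hdeg)).hom_ext _ _ fun (t : Idx ℬ) => ?_
    change cA 𝒜 ℬ d hd φ hdeg t ≫ p ≫ q = cA 𝒜 ℬ d hd φ hdeg t ≫ 𝟙 _
    rw [← Category.assoc, hp, Category.assoc, hq, ← Category.assoc, ← Spec.map_comp,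
      Iso.inv_hom_id, Spec.map_id, Category.id_comp, Category.comp_id]
  · refine (Glue.cov (fun t : Idx ℬ => Spec (CommRingCat.of (Away ℬ t.g)))
      (fun t => cB ℬ t) (coverB ℬ)).hom_ext _ _ fun (t : Idx ℬ) => ?_
    change cB ℬ t ≫ q ≫ p = cB ℬ t ≫ 𝟙 _
    rw [← Category.assoc, hq, Category.assoc, hp, ← Category.assoc, ← Spec.map_comp,
      Iso.hom_inv_id, Spec.map_id, Category.id_comp, Category.comp_id]


section ideal

include hd hdeg in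
theorem decompose_map (x : B) (i : ℕ) :
    (DirectSum.decompose 𝒜 (φ x) (i * d) : A) = φ (DirectSum.decompose ℬ x i) := by
  classical
  conv_lhs => rw [← DirectSum.sum_support_decompose ℬ x, map_sum]
  rw [DirectSum.decompose_sum, DFinsupp.finsetSum_apply, AddSubmonoidClass.coe_finsetSum]
  rw [Finset.sum_eq_single i]
  · exact DirectSum.decompose_of_mem_same _ (map_mem 𝒜 ℬ d φ hdeg (SetLike.coe_mem _))
  · intro j _ hji
    refine DirectSum.decompose_of_mem_ne _ (map_mem 𝒜 ℬ d φ hdeg (SetLike.coe_mem _)) ?_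
    intro h
    exact hji (Nat.eq_of_mul_eq_mul_right hd h)
  · intro hi
    rw [DFinsupp.notMem_support_iff] at hi
    rw [hi]
    simp

include hd hdeg in
theorem map_mem_iff (I : HomogeneousIdeal 𝒜) (x : B) :
    φ x ∈ I.toIdeal ↔ ∀ i, φ (DirectSum.decompose ℬ x i) ∈ I.toIdeal := by
  classical
  constructor
  · intro h i
    rw [← decompose_map 𝒜 ℬ d hd φ hdeg]
    exact I.isHomogeneous.mem_iff.mp h _
  · intro h
    rw [← DirectSum.sum_support_decompose ℬ x, map_sum]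
    exact Ideal.sum_mem _ fun i _ => h i

end ideal


section points

variable (e : Proj 𝒜 ≅ Proj ℬ) (he : ∀ t : Idx ℬ,
    cA 𝒜 ℬ d hd φ hdeg t ≫ e.hom = Spec.map (Θ 𝒜 ℬ d φ hφ hdeg t).hom ≫ cB ℬ t)

include he in
set_option backward.isDefEq.respectTransparency false in
theorem mem_basicOpen_iff {m : ℕ} {b : B} (hb : b ∈ ℬ m) (p : Proj 𝒜) :
    e.hom p ∈ Proj.basicOpen ℬ b ↔ p ∈ Proj.basicOpen 𝒜 (φ b) := by
  obtain ⟨t, z, rfl⟩ := coverA 𝒜 ℬ d hd φ hdeg p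
  have h1 : e.hom (cA 𝒜 ℬ d hd φ hdeg t z) = cB ℬ t (Spec.map (Θ 𝒜 ℬ d φ hφ hdeg t).hom z) := by
    rw [← Scheme.Hom.comp_apply, he t]
    rfl
  rw [h1]
  unfold cA cB
  rw [ProjChart.awayι_mem_basicOpen_iff ℬ t.hg hb t.hn,
    ProjChart.awayι_mem_basicOpen_iff 𝒜 (map_mem 𝒜 ℬ d φ hdeg t.hg) (map_mem 𝒜 ℬ d φ hdeg hb)
      (Nat.mul_pos t.hn hd)]
  have hz : ∀ u : Away ℬ t.g,
      (Spec.map (Θ 𝒜 ℬ d φ hφ hdeg t).hom z ∈
        (PrimeSpectrum.basicOpen u : Set (PrimeSpectrum (Away ℬ t.g)))) ↔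
      z ∈ (PrimeSpectrum.basicOpen (θ 𝒜 ℬ d φ hdeg t u) :
        Set (PrimeSpectrum (Away 𝒜 (φ t.g)))) := fun u => Iff.rfl
  rw [hz]
  have hel : Away.isLocalizationElem (map_mem 𝒜 ℬ d φ hdeg t.hg) (map_mem 𝒜 ℬ d φ hdeg hb) =
      (θ 𝒜 ℬ d φ hdeg t (Away.isLocalizationElem t.hg hb)) ^ d := by
    unfold Away.isLocalizationElem
    rw [compat_mk 𝒜 ℬ d φ hdeg t.hg _ (θ_compat 𝒜 ℬ d φ hdeg t)]
    apply val_injective
    rw [val_pow, Away.val_mk, Away.val_mk, Localization.mk_pow]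
    congr 1
    · rw [map_pow, ← pow_mul]
    · apply Subtype.ext
      change φ t.g ^ (m * d) = (φ t.g ^ m) ^ d
      rw [← pow_mul]
  rw [hel, PrimeSpectrum.basicOpen_pow _ _ hd]

include he in
set_option backward.isDefEq.respectTransparency false in
theorem ideal_eq (p : Proj 𝒜) :
    (e.hom.base p).asHomogeneousIdeal.toIdeal = Ideal.comap φ p.asHomogeneousIdeal.toIdeal := by
  ext x
  rw [Ideal.mem_comap, map_mem_iff 𝒜 ℬ d hd φ hdeg,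
    (e.hom.base p).asHomogeneousIdeal.isHomogeneous.mem_iff]
  refine forall_congr' fun i => ?_
  have := mem_basicOpen_iff 𝒜 ℬ d hd φ hφ hdeg e he
    (SetLike.coe_mem (DirectSum.decompose ℬ x i)) p
  rw [Proj.mem_basicOpen, Proj.mem_basicOpen] at this
  exact not_iff_not.mp this

end points

include hφ in
set_option backward.isDefEq.respectTransparency false in
theorem main :
    ∃ e : Proj 𝒜 ≅ Proj ℬ,
      (∀ p : Proj 𝒜, (e.hom.base p).asHomogeneousIdeal.toIdeal = Ideal.comap φ p.asHomogeneousIdeal.toIdeal) ∧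
      ∀ (n : ℕ) (g : B) (hn : 0 < n) (hg : g ∈ ℬ n)
        (θ : CommRingCat.of (HomogeneousLocalization.Away ℬ g) ⟶ CommRingCat.of (HomogeneousLocalization.Away 𝒜 (φ g))),
        (algebraMap (HomogeneousLocalization.Away 𝒜 (φ g)) (Localization.Away (φ g))).comp θ.hom =
          (Localization.awayMap φ.toRingHom g).comp
            (algebraMap (HomogeneousLocalization.Away ℬ g) (Localization.Away g)) →
        Proj.awayι 𝒜 (φ g) ((hdeg n).le (Submodule.mem_map_of_mem hg)) (Nat.mul_pos hn hd) ≫ e.hom =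
          Spec.map θ ≫ Proj.awayι ℬ g hg hn := by
  obtain ⟨e, he⟩ := exists_iso 𝒜 ℬ d hd φ hφ hdeg
  refine ⟨e, ideal_eq 𝒜 ℬ d hd φ hφ hdeg e he, ?_⟩
  intro n g hn hg θ' hθ'
  have h1 := he ⟨n, g, hn, hg⟩
  have hθeq : θ'.hom = θ 𝒜 ℬ d φ hdeg ⟨n, g, hn, hg⟩ :=
    compat_unique 𝒜 ℬ φ g _ _ hθ' (θ_compat 𝒜 ℬ d φ hdeg ⟨n, g, hn, hg⟩)
  have hθ2 : θ' = (Θ 𝒜 ℬ d φ hφ hdeg ⟨n, g, hn, hg⟩).hom := by
    rw [Θ_hom, ← hθeq]
    rfl
  rw [hθ2]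
  exact h1


end helpers


/-- Let S be a graded ring, d > 0, and S^{(d)} the graded ring with S^{(d)}_n = S_{nd} (here: any graded
ring S' with an injective algebra homomorphism φ : S' → S carrying S'_n onto S_{nd} for every n).
Then there is an isomorphism of schemes Proj S ≅ Proj S^{(d)} sending a homogeneous prime p to
φ⁻¹(p), and which over each standard open D_+(g), g ∈ S'_n with n > 0, is induced by the ring
isomorphism S'_(g) ≅ S_(φ g), b/g^k ↦ φ(b)/φ(g)^k; precisely: for every ring map θ : S'_(g) → S_(φ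
g) compatible with b/g^k ↦ φ(b)/φ(g)^k inside the localizations, the composite of Spec S_(φ g) →
Proj S with the isomorphism equals Spec θ followed by Spec S'_(g) → Proj S'. -/
theorem result {R A : Type u} [CommRing R] [CommRing A] [Algebra R A] (𝒜 : ℕ → Submodule R A) [GradedAlgebra 𝒜]
    {B : Type u} [CommRing B] [Algebra R B] (ℬ : ℕ → Submodule R B) [GradedAlgebra ℬ]
    (d : ℕ) (hd : 0 < d) (φ : B →ₐ[R] A) (hφ : Function.Injective φ)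
    (hdeg : ∀ n : ℕ, Submodule.map φ.toLinearMap (ℬ n) = 𝒜 (n * d)) :
    ∃ e : Proj 𝒜 ≅ Proj ℬ,
      (∀ p : Proj 𝒜, (e.hom.base p).asHomogeneousIdeal.toIdeal = Ideal.comap φ p.asHomogeneousIdeal.toIdeal) ∧
      ∀ (n : ℕ) (g : B) (hn : 0 < n) (hg : g ∈ ℬ n)
        (θ : CommRingCat.of (HomogeneousLocalization.Away ℬ g) ⟶ CommRingCat.of (HomogeneousLocalization.Away 𝒜 (φ g))),
        (algebraMap (HomogeneousLocalization.Away 𝒜 (φ g)) (Localization.Away (φ g))).comp θ.hom =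
          (Localization.awayMap φ.toRingHom g).comp
            (algebraMap (HomogeneousLocalization.Away ℬ g) (Localization.Away g)) →
        Proj.awayι 𝒜 (φ g) ((hdeg n).le (Submodule.mem_map_of_mem hg)) (Nat.mul_pos hn hd) ≫ e.hom =
          Spec.map θ ≫ Proj.awayι ℬ g hg hn := by
  exact main 𝒜 ℬ d hd φ hφ hdeg

end Groth.Agent.S3580
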