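import Groth.Statements.S3588
import Groth.Agent.Lib.Helper28.ProjRed
import Groth.Agent.Lib.Helper28.ProjMapG

set_option autoImplicit false
universe u
open CategoryTheory CategoryTheory.Limits AlgebraicGeometry
open EGA2

namespace Groth.Agent.S3588

open Groth.Agent.Lib.Helper28.ProjRed Groth.Agent.Lib.Helper28.ProjMapG TopologicalSpace Opposite
open scoped HomogeneousIdeal
open HomogeneousLocalization

variable {A B : Type u} [CommRing A] [CommRing B] {σ τ : Type u} [SetLike σ A] [AddSubgroupClass σ A]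
  [SetLike τ B] [AddSubgroupClass τ B] {𝒜 : ℕ → σ} {ℬ : ℕ → τ}
  [GradedRing 𝒜] [GradedRing ℬ] (φ : 𝒜 →+*ᵍ ℬ)

/-- the kernel of the map on degree-zero localizations consists of nilpotents -/
theorem ker_away_map_le (hker : ∀ a : A, φ a = 0 → IsNilpotent a) {i : ℕ} (s : A) (hs : s ∈ 𝒜 i) :
    RingHom.ker (Away.map φ s) ≤ nilradical (Away 𝒜 s) := by
  intro z hz
  rw [RingHom.mem_ker] at hz
  obtain ⟨n, a, ha, rfl⟩ := Away.mk_surjective 𝒜 hs z
  rw [Away.map_mk, HomogeneousLocalization.ext_iff_val, HomogeneousLocalization.val_zero,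
    Away.val_mk, Localization.mk_eq_mk', IsLocalization.mk'_eq_zero_iff] at hz
  obtain ⟨⟨_, m, rfl⟩, hm⟩ := hz
  have h1 : φ (s ^ m * a) = 0 := by
    rw [map_mul, map_pow]; exact hm
  obtain ⟨k, hk⟩ := hker _ h1
  rw [mem_nilradical]
  refine ⟨k, ?_⟩
  rw [HomogeneousLocalization.ext_iff_val, HomogeneousLocalization.val_pow,
    HomogeneousLocalization.val_zero, Away.val_mk, Localization.mk_pow,
    Localization.mk_eq_mk', IsLocalization.mk'_eq_zero_iff]
  refine ⟨⟨s ^ (m * k), _, rfl⟩, ?_⟩
  change s ^ (m * k) * a ^ k = 0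
  rw [pow_mul, ← mul_pow]
  exact hk

set_option backward.isDefEq.respectTransparency false in
theorem surjective_map (hφ : ℬ₊ ≤ (𝒜₊).map φ) (hsurj : Function.Surjective φ)
    (hker : ∀ a : A, φ a = 0 → IsNilpotent a) : Surjective (Proj.map φ hφ) := by
  refine of_away φ hφ @Surjective fun i hi s hs => ?_
  constructor
  change Function.Surjective (PrimeSpectrum.comap (Away.map φ s))
  rw [← Set.range_eq_univ, _root_.range_comap_of_surjective _ _ (away_map_surjective φ hsurj s hs),
    PrimeSpectrum.zeroLocus_eq_univ_iff]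
  exact ker_away_map_le φ hker s hs

theorem main (hsurj : Function.Surjective φ)
    (hker : ∀ a : A, φ a = 0 ↔ a ∈ (HomogeneousIdeal.irrelevant 𝒜).toIdeal ∧ IsNilpotent a)
    (hφ : HomogeneousIdeal.irrelevant ℬ ≤ (HomogeneousIdeal.irrelevant 𝒜).map φ) :
    IsClosedImmersion (Proj.map φ hφ) ∧ IsHomeomorph (Proj.map φ hφ).base ∧
      AlgebraicGeometry.IsReduced (Proj ℬ) := by
  have hci : IsClosedImmersion (Proj.map φ hφ) := isClosedImmersion_map φ hφ hsurj
  refine ⟨hci, ?_, ?_⟩
  · rw [isHomeomorph_iff_isEmbedding_surjective]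
    exact ⟨(Proj.map φ hφ).isClosedEmbedding.isEmbedding,
      (surjective_map φ hφ hsurj (fun a ha => ((hker a).1 ha).2)).surj⟩
  · refine projRed ℬ fun x hx hnil => ?_
    -- lift `x` to the irrelevant ideal of `𝒜`
    have hlift : ∃ a ∈ (HomogeneousIdeal.irrelevant 𝒜).toIdeal, φ a = x := by
      obtain ⟨a, rfl⟩ := hsurj x
      classical
      refine ⟨a - (DirectSum.decompose 𝒜 a 0 : A), ?_, ?_⟩
      · change a - _ ∈ 𝒜₊
        rw [HomogeneousIdeal.mem_irrelevant_iff, GradedRing.proj_apply, DirectSum.decompose_sub,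
          DirectSum.sub_apply, DirectSum.decompose_coe, DirectSum.of_eq_same]
        simp
      · have h0 : (DirectSum.decompose ℬ (φ a) 0 : B) = 0 := by
          have := (HomogeneousIdeal.mem_irrelevant_iff ℬ (φ a)).1 hx
          rwa [GradedRing.proj_apply] at this
        rw [map_sub, GradedRingHom.map_directSumDecompose, h0, sub_zero]
    obtain ⟨a, ha, rfl⟩ := hlift
    obtain ⟨k, hk⟩ := hnil
    rw [← map_pow] at hk
    have hnil' : IsNilpotent a := by
      obtain ⟨m, hm⟩ := ((hker _).1 hk).2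
      exact ⟨k * m, by rw [pow_mul]; exact hm⟩
    exact (hker a).2 ⟨ha, hnil'⟩


/-- Let S be a graded ring, N_+ the set of nilpotent elements of S_+ (an ideal of S), and S → S/N_+ the
quotient (here: any surjective homomorphism of graded rings φ : S → S' whose kernel is N_+). Then
the induced morphism Proj S' → Proj S is a closed immersion which is a homeomorphism of the
underlying spaces, and Proj S' is reduced; thus Proj S' is the reduced closed subscheme (Proj
S)_red. -/
theorem result {R A : Type u} [CommRing R] [CommRing A] [Algebra R A] (𝒜 : ℕ → Submodule R A) [GradedAlgebra 𝒜]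
    {B : Type u} [CommRing B] [Algebra R B] (ℬ : ℕ → Submodule R B) [GradedAlgebra ℬ]
    (φ : 𝒜 →+*ᵍ ℬ) (hsurj : Function.Surjective φ)
    (hker : ∀ a : A, φ a = 0 ↔ a ∈ (HomogeneousIdeal.irrelevant 𝒜).toIdeal ∧ IsNilpotent a)
    (hφ : HomogeneousIdeal.irrelevant ℬ ≤ (HomogeneousIdeal.irrelevant 𝒜).map φ) :
    IsClosedImmersion (Proj.map φ hφ) ∧ IsHomeomorph (Proj.map φ hφ).base ∧
      AlgebraicGeometry.IsReduced (Proj ℬ) := by
  exact main φ hsurj hker hφ

end Groth.Agent.S3588
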