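import Groth.Statements.S3589
import Mathlib
import Groth.Agent.Lib.Helper28.AffineSecIso
import Groth.Agent.Lib.Helper28.TwistCov
import Groth.Agent.S3573

set_option autoImplicit false
universe u
open CategoryTheory CategoryTheory.Limits AlgebraicGeometry
open EGA2

open Groth.Agent.Lib.Helper28

namespace Groth.Agent.S3589

/-- For E = O_Y^{n+1} over an affine base Y = Spec R (injectivity of the correspondence): a section s of
projective n-space over R is determined by the submodule F(s) of R^{n+1} formed by the R-linear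
relations among the pulled-back coordinates s^*T_0, …, s^*T_n in the global sections of s^*O(1). -/
theorem result {R : Type u} [CommRing R] (n : ℕ)
    (s₁ s₂ : Spec (CommRingCat.of R) ⟶ CohB1.ProjSpace n R)
    (h₁ : s₁ ≫ CohB1.ProjSpace.toSpec n R = 𝟙 _) (h₂ : s₂ ≫ CohB1.ProjSpace.toSpec n R = 𝟙 _)
    (h : ProjUP.secKernel n R s₁ = ProjUP.secKernel n R s₂) :
    s₁ = s₂ := by
  classical
  let X : Scheme.{u} := Spec (CommRingCat.of R)
  let 𝒮 := CohB1.polyGrading n R
  let O1 : (CohB1.ProjSpace n R).Modules := Twist.twistProjSpace n R 1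
  have hxs : ∀ i : Fin (n + 1), (MvPolynomial.X i : MvPolynomial (Fin (n + 1)) R) ∈ CohB1.polyGrading n R 1 :=
    fun i => MvPolynomial.isHomogeneous_X R i
  have hgen : Algebra.adjoin R (Set.range (MvPolynomial.X : Fin (n + 1) → MvPolynomial (Fin (n + 1)) R)) = ⊤ :=
    MvPolynomial.adjoin_range_X
  have hcov : ∀ x : Proj 𝒮, ∃ f : MvPolynomial (Fin (n + 1)) R, f ∈ 𝒮 1 ∧ x ∈ Proj.basicOpen 𝒮 f := fun x => by
    obtain ⟨j, hj⟩ := Segre5.cover_of_adjoin 𝒮 _ hxs hgen x
    exact ⟨MvPolynomial.X j, hxs j, hj⟩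
  have hO1 : PicF.IsInvertible O1 := TwistCov.isInvertible_twist 𝒮 hcov 1
  -- generic part, for one section
  have key : ∀ (s : X ⟶ CohB1.ProjSpace n R),
      ∃ (_ : ((Scheme.Modules.pullback s).obj O1).IsQuasicoherent)
        (v : (Fin (n + 1) → R) →ₗ[R]
          ((moduleSpecΓFunctor (R := CommRingCat.of R)).obj ((Scheme.Modules.pullback s).obj O1))),
        Function.Surjective v ∧ LinearMap.ker v = ProjUP.secKernel n R s ∧
          ∀ j, v (Pi.single j 1) = ProjUP.pullSec s O1 (ProjUP.coord n R j) := by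
    intro s
    let L := (Scheme.Modules.pullback s).obj O1
    have hL : PicF.IsInvertible L := PullbackInv.isInvertible_pullback s hO1
    have hQ : L.IsQuasicoherent := InvQC.isQuasicoherent_of_isInvertible L hL
    let t : Fin (n + 1) → Γ(L, ⊤) := fun j => ProjUP.pullSec s O1 (ProjUP.coord n R j)
    have hgenL : ProjUP.GeneratedBy L t :=
      AffineSecIso.generatedBy_pbs_gsec 𝒮 _ hxs hgen s
    let γ : R →+* Γ(X, ⊤) := (Scheme.ΓSpecIso (CommRingCat.of R)).inv.hom
    have hγ : Function.Surjective γ := by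
      intro a
      refine ⟨(Scheme.ΓSpecIso (CommRingCat.of R)).hom.hom a, ?_⟩
      show ((Scheme.ΓSpecIso (CommRingCat.of R)).hom ≫ (Scheme.ΓSpecIso (CommRingCat.of R)).inv).hom a = a
      rw [Iso.hom_inv_id]; rfl
    have hsm : ∀ (a : R) (y : Γ(L, ⊤)),
        (a • (show ((moduleSpecΓFunctor (R := CommRingCat.of R)).obj L) from y) :
          ((moduleSpecΓFunctor (R := CommRingCat.of R)).obj L)) = (γ a • y : Γ(L, ⊤)) := by
      intro a y
      have h1 : (Spec (CommRingCat.of R)).presheaf.map (⊤ : (Spec (CommRingCat.of R)).Opens).leTop.op =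
          𝟙 _ := by
        have : (⊤ : (Spec (CommRingCat.of R)).Opens).leTop = 𝟙 _ := Subsingleton.elim _ _
        rw [this, op_id, CategoryTheory.Functor.map_id]
      have h2 := Scheme.Modules.smul_Spec_def (R := CommRingCat.of R) (M := L) (U := ⊤) a y
      rw [h1] at h2
      exact h2
    let v : (Fin (n + 1) → R) →ₗ[R] ((moduleSpecΓFunctor (R := CommRingCat.of R)).obj L) :=
      { toFun := fun c => (∑ j, (γ (c j) • t j : Γ(L, ⊤)) : Γ(L, ⊤))
        map_add' := by
          intro c c'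
          show (∑ j, (γ ((c + c') j) • t j : Γ(L, ⊤)) : Γ(L, ⊤)) =
            ((∑ j, (γ (c j) • t j : Γ(L, ⊤)) : Γ(L, ⊤)) + (∑ j, (γ (c' j) • t j : Γ(L, ⊤)) : Γ(L, ⊤)) : Γ(L, ⊤))
          simp only [Pi.add_apply, map_add, add_smul, Finset.sum_add_distrib]
        map_smul' := by
          intro a c
          rw [RingHom.id_apply, hsm]
          show (∑ j, (γ ((a • c) j) • t j : Γ(L, ⊤)) : Γ(L, ⊤)) =
            (γ a • (∑ j, (γ (c j) • t j : Γ(L, ⊤)) : Γ(L, ⊤)) : Γ(L, ⊤))
          rw [Finset.smul_sum]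
          refine Finset.sum_congr rfl fun j _ => ?_
          rw [Pi.smul_apply, smul_eq_mul, map_mul, mul_smul] }
    refine ⟨hQ, v, ?_, ?_, ?_⟩
    · intro μ
      obtain ⟨c, hc⟩ := AffineSecIso.exists_sum_smul_eq hL t hgenL μ
      choose c' hc' using fun j => hγ (c j)
      refine ⟨c', ?_⟩
      show (∑ j, (γ (c' j) • t j : Γ(L, ⊤)) : Γ(L, ⊤)) = μ
      rw [hc]
      exact Finset.sum_congr rfl fun j _ => by rw [hc' j]
    · ext c
      exact Iff.rfl
    · intro j
      show (∑ k, (γ ((Pi.single j (1 : R) : Fin (n + 1) → R) k) • t k : Γ(L, ⊤)) : Γ(L, ⊤)) = t j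
      rw [Finset.sum_eq_single j]
      · rw [Pi.single_eq_same, map_one, one_smul]
      · intro k _ hk
        rw [Pi.single_eq_of_ne hk, map_zero, zero_smul]
      · intro h; exact absurd (Finset.mem_univ j) h
  obtain ⟨hQ₁, v₁, hs₁, hk₁, hv₁⟩ := key s₁
  obtain ⟨hQ₂, v₂, hs₂, hk₂, hv₂⟩ := key s₂
  obtain ⟨τ, hτ⟩ := AffineSecIso.exists_iso_of_ker_eq _ _ v₁ v₂ hs₁ hs₂ (by rw [hk₁, hk₂, h])
  refine Groth.Agent.S3573.result n s₁ s₂ (h₁.trans h₂.symm) τ fun j => ?_
  have := hτ (Pi.single j 1)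
  rw [hv₁ j, hv₂ j] at this
  exact this

end Groth.Agent.S3589
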