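import Groth.Statements.S3590
import Groth.Agent.Lib.Helper28.AffineSecIso
import Groth.Agent.Lib.Helper28.TwistCov
import Groth.Agent.Lib.Helper17.AffineInvLoc
import Groth.Agent.Lib.Helper17.TildeInv
import Groth.Agent.S3572
import Groth.Agent.S12080
import Mathlib
set_option backward.isDefEq.respectTransparency.types false

set_option autoImplicit false
universe u
open CategoryTheory CategoryTheory.Limits AlgebraicGeometry
open EGA2

namespace Groth.Agent.S3590
open Groth.Agent.Lib.Helper28 Groth.Agent.Lib.Helper17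

/-- the presentation of `Γ(s^*O(1))` by the pulled-back coordinates (copied from the proof of S3589) -/
theorem key {R : Type u} [CommRing R] (n : ℕ) (s : Spec (CommRingCat.of R) ⟶ CohB1.ProjSpace n R) :
    ∃ (_ : PicF.IsInvertible ((Scheme.Modules.pullback s).obj (Twist.twistProjSpace n R 1)))
      (_ : ((Scheme.Modules.pullback s).obj (Twist.twistProjSpace n R 1)).IsQuasicoherent)
      (v : (Fin (n + 1) → R) →ₗ[R]
        ((moduleSpecΓFunctor (R := CommRingCat.of R)).obj
          ((Scheme.Modules.pullback s).obj (Twist.twistProjSpace n R 1)))),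
      Function.Surjective v ∧ LinearMap.ker v = ProjUP.secKernel n R s ∧
        ∀ j, v (Pi.single j 1) = ProjUP.pullSec s (Twist.twistProjSpace n R 1) (ProjUP.coord n R j) := by
  classical
  let X : Scheme.{u} := Spec (CommRingCat.of R)
  let 𝒮 := CohB1.polyGrading n R
  let O1 : (CohB1.ProjSpace n R).Modules := Twist.twistProjSpace n R 1
  have hxs : ∀ i : Fin (n + 1), (MvPolynomial.X i : MvPolynomial (Fin (n + 1)) R) ∈ CohB1.polyGrading n R 1 :=
    fun i => MvPolynomial.isHomogeneous_X R i
  have hgen : Algebra.adjoin R (Set.range (MvPolynomial.X : Fin (n + 1) → MvPolynomial (Fin (n + 1)) R)) = ⊤ :=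
    MvPolynomial.adjoin_range_X
  have hcov : ∀ x : Proj 𝒮, ∃ f : MvPolynomial (Fin (n + 1)) R, f ∈ 𝒮 1 ∧ x ∈ Proj.basicOpen 𝒮 f := fun x => by
    obtain ⟨j, hj⟩ := Segre5.cover_of_adjoin 𝒮 _ hxs hgen x
    exact ⟨MvPolynomial.X j, hxs j, hj⟩
  have hO1 : PicF.IsInvertible O1 := TwistCov.isInvertible_twist 𝒮 hcov 1
  let L := (Scheme.Modules.pullback s).obj O1
  have hL : PicF.IsInvertible L := PullbackInv.isInvertible_pullback s hO1
  have hQ : L.IsQuasicoherent := InvQC.isQuasicoherent_of_isInvertible L hL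
  let t : Fin (n + 1) → Γ(L, ⊤) := fun j => ProjUP.pullSec s O1 (ProjUP.coord n R j)
  have hgenL : ProjUP.GeneratedBy L t :=
    AffineSecIso.generatedBy_pbs_gsec 𝒮 _ hxs hgen s
  let γ : R →+* Γ(X, ⊤) := (Scheme.ΓSpecIso (CommRingCat.of R)).inv.hom
  have hγ : Function.Surjective γ := by
    intro a
    refine ⟨(Scheme.ΓSpecIso (CommRingCat.of R)).hom.hom a, ?_⟩
    show ((Scheme.ΓSpecIso (CommRingCat.of R)).hom ≫ (Scheme.ΓSpecIso (CommRingCat.of R)).inv).hom a = a
    rw [Iso.hom_inv_id]; rfl
  have hsm : ∀ (a : R) (y : Γ(L, ⊤)),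
      (a • (show ((moduleSpecΓFunctor (R := CommRingCat.of R)).obj L) from y) :
        ((moduleSpecΓFunctor (R := CommRingCat.of R)).obj L)) = (γ a • y : Γ(L, ⊤)) := by
    intro a y
    have h1 : (Spec (CommRingCat.of R)).presheaf.map (⊤ : (Spec (CommRingCat.of R)).Opens).leTop.op =
        𝟙 _ := by
      have : (⊤ : (Spec (CommRingCat.of R)).Opens).leTop = 𝟙 _ := Subsingleton.elim _ _
      rw [this, op_id, CategoryTheory.Functor.map_id]
    have h2 := Scheme.Modules.smul_Spec_def (R := CommRingCat.of R) (M := L) (U := ⊤) a y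
    rw [h1] at h2
    exact h2
  let v : (Fin (n + 1) → R) →ₗ[R] ((moduleSpecΓFunctor (R := CommRingCat.of R)).obj L) :=
    { toFun := fun c => (∑ j, (γ (c j) • t j : Γ(L, ⊤)) : Γ(L, ⊤))
      map_add' := by
        intro c c'
        show (∑ j, (γ ((c + c') j) • t j : Γ(L, ⊤)) : Γ(L, ⊤)) =
          ((∑ j, (γ (c j) • t j : Γ(L, ⊤)) : Γ(L, ⊤)) + (∑ j, (γ (c' j) • t j : Γ(L, ⊤)) : Γ(L, ⊤)) : Γ(L, ⊤))
        simp only [Pi.add_apply, map_add, add_smul, Finset.sum_add_distrib]
      map_smul' := by
        intro a c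
        rw [RingHom.id_apply, hsm]
        show (∑ j, (γ ((a • c) j) • t j : Γ(L, ⊤)) : Γ(L, ⊤)) =
          (γ a • (∑ j, (γ (c j) • t j : Γ(L, ⊤)) : Γ(L, ⊤)) : Γ(L, ⊤))
        rw [Finset.smul_sum]
        refine Finset.sum_congr rfl fun j _ => ?_
        rw [Pi.smul_apply, smul_eq_mul, map_mul, mul_smul] }
  refine ⟨hL, hQ, v, ?_, ?_, ?_⟩
  · intro μ
    obtain ⟨c, hc⟩ := AffineSecIso.exists_sum_smul_eq hL t hgenL μ
    choose c' hc' using fun j => hγ (c j)
    refine ⟨c', ?_⟩
    show (∑ j, (γ (c' j) • t j : Γ(L, ⊤)) : Γ(L, ⊤)) = μ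
    rw [hc]
    exact Finset.sum_congr rfl fun j _ => by rw [hc' j]
  · ext c
    exact Iff.rfl
  · intro j
    show (∑ k, (γ ((Pi.single j (1 : R) : Fin (n + 1) → R) k) • t k : Γ(L, ⊤)) : Γ(L, ⊤)) = t j
    rw [Finset.sum_eq_single j]
    · rw [Pi.single_eq_same, map_one, one_smul]
    · intro k _ hk
      rw [Pi.single_eq_of_ne hk, map_zero, zero_smul]
    · intro h; exact absurd (Finset.mem_univ j) h


/-- For E = O_Y^{n+1} over an affine base Y = Spec R (image of the correspondence): a submodule F of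
R^{n+1} is the module of relations among the pulled-back coordinates of some section of projective
n-space over R if and only if the quotient R^{n+1}/F is an invertible R-module (projective, of rank
one at every prime). -/
theorem result {R : Type u} [CommRing R] (n : ℕ)
    (F : Submodule R (Fin (n + 1) → R)) :
    (∃ s : Spec (CommRingCat.of R) ⟶ CohB1.ProjSpace n R,
        s ≫ CohB1.ProjSpace.toSpec n R = 𝟙 _ ∧ ProjUP.secKernel n R s = F) ↔
      (Module.Projective R ((Fin (n + 1) → R) ⧸ F) ∧
        ∀ p : PrimeSpectrum R, Module.finrank (Localization.AtPrime p.asIdeal)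
          (LocalizedModule p.asIdeal.primeCompl ((Fin (n + 1) → R) ⧸ F)) = 1) := by
  classical
  constructor
  · rintro ⟨s, -, hF⟩
    obtain ⟨hL, hQ, v, hsurj, hker, -⟩ := key n s
    obtain rfl : F = LinearMap.ker v := hF.symm.trans hker.symm
    obtain ⟨S, hS, hfree⟩ := AffineInvLoc.exists_span_free
      ((Scheme.Modules.pullback s).obj (Twist.twistProjSpace n R 1)) hL
    haveI : Module.Invertible R ((moduleSpecΓFunctor (R := CommRingCat.of R)).obj
        ((Scheme.Modules.pullback s).obj (Twist.twistProjSpace n R 1))) :=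
      Groth.Agent.S12080.result R _ S hS hfree
    haveI : Module.Invertible R ((Fin (n + 1) → R) ⧸ LinearMap.ker v) :=
      Module.Invertible.congr (v.quotKerEquivOfSurjective hsurj).symm
    exact AffineInvLoc.projective_and_rank_of_invertible R _
  · rintro ⟨hproj, hrank⟩
    let M : ModuleCat.{u} (CommRingCat.of R) := ModuleCat.of R ((Fin (n + 1) → R) ⧸ F)
    haveI : Module.Finite R M := inferInstanceAs (Module.Finite R ((Fin (n + 1) → R) ⧸ F))
    haveI : Module.Projective R M := hproj
    haveI : Module.FinitePresentation R M := Module.finitePresentation_of_projective _ _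
    haveI : Module.Flat R M := inferInstance
    have hL : PicF.IsInvertible (tilde M) := TildeInv.isInvertible_tilde M hrank
    let m : Fin (n + 1) → M := fun j => F.mkQ (Pi.single j 1)
    have hspan : Submodule.span R (Set.range m) = ⊤ := by
      rw [eq_top_iff]
      rintro q -
      obtain ⟨c, rfl⟩ := F.mkQ_surjective q
      have hc : c = ∑ j, c j • (Pi.single j (1 : R) : Fin (n + 1) → R) := by
        ext k
        simp [Finset.sum_apply, Pi.single_apply]
      rw [hc, map_sum]
      refine Submodule.sum_mem _ fun j _ => ?_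
      rw [map_smul]
      exact Submodule.smul_mem _ _ (Submodule.subset_span ⟨j, rfl⟩)
    have hgen := TildeInv.generatedBy_tilde M m hspan
    obtain ⟨r, hr, τ, hτ⟩ := Groth.Agent.S3572.result n (𝟙 (Spec (CommRingCat.of R))) (tilde M) hL _ hgen
    refine ⟨r, hr, ?_⟩
    obtain ⟨-, -, v, -, hker, hv⟩ := key n r
    let W : (moduleSpecΓFunctor (R := CommRingCat.of R)).obj
        ((Scheme.Modules.pullback r).obj (Twist.twistProjSpace n R 1)) ≅ M :=
      (moduleSpecΓFunctor (R := CommRingCat.of R)).mapIso τ ≪≫ (tilde.isoTop M).symm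
    let θ : ((moduleSpecΓFunctor (R := CommRingCat.of R)).obj
        ((Scheme.Modules.pullback r).obj (Twist.twistProjSpace n R 1))) ≃ₗ[R] ((Fin (n + 1) → R) ⧸ F) :=
      W.toLinearEquiv
    have hθ : θ.toLinearMap ∘ₗ v = F.mkQ := by
      refine (Pi.basisFun R (Fin (n + 1))).ext fun j => ?_
      rw [Pi.basisFun_apply, LinearMap.comp_apply, hv j]
      show (tilde.isoTop M).inv.hom (τ.hom.app ⊤ _) = m j
      rw [hτ j]
      show (tilde.isoTop M).inv.hom ((tilde.isoTop M).hom.hom (m j)) = m j
      rw [← ModuleCat.comp_apply, Iso.hom_inv_id]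
      rfl
    rw [← hker]
    have h1 : LinearMap.ker (θ.toLinearMap ∘ₗ v) = LinearMap.ker v := by
      ext c
      rw [LinearMap.mem_ker, LinearMap.mem_ker, LinearMap.comp_apply]
      exact θ.map_eq_zero_iff
    rw [← h1, hθ, Submodule.ker_mkQ]

end Groth.Agent.S3590
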