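import Groth.Statements.S3593
import Groth.Agent.Lib.Helper28.ConeAlg

set_option autoImplicit false
universe u
open CategoryTheory CategoryTheory.Limits AlgebraicGeometry
open EGA2

namespace Groth.Agent.S3593

open HomogeneousLocalization Polynomial

theorem main {R A : Type u} [CommRing R] [CommRing A] [Algebra R A] (𝒜 : ℕ → Submodule R A) [GradedAlgebra 𝒜]
    {B : Type u} [CommRing B] [Algebra R B] (ℬ : ℕ → Submodule R B) [GradedAlgebra ℬ]
    [Algebra A B] (φ : 𝒜 →+*ᵍ ℬ) (hφ : ∀ a : A, φ a = algebraMap A B a)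
    (z : B) (hz : z ∈ ℬ 1) (hhat : Function.Bijective (Polynomial.aeval (R := A) z)) :
    ∃ θ : A ≃+* HomogeneousLocalization.Away ℬ z,
      ∀ (n : ℕ) (a : A), a ∈ 𝒜 n → (θ a).val = Localization.mk (φ a) ⟨z ^ n, pow_mem (Submonoid.mem_powers z) n⟩ := by
  obtain ⟨e, he⟩ := Groth.Agent.Lib.Helper28.ConeAlg.exists_dehom ℬ (f := z) hz
  let α : A[X] →ₐ[A] B := Polynomial.aeval z
  let ι : A →+* B ⧸ Ideal.span {z - 1} := (Ideal.Quotient.mk _).comp (algebraMap A B)
  have hz1 : Ideal.Quotient.mk (Ideal.span {z - 1}) z = 1 := by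
    have : Ideal.Quotient.mk (Ideal.span {z - 1}) (z - 1) = 0 :=
      Ideal.Quotient.eq_zero_iff_mem.2 (Ideal.subset_span rfl)
    rwa [map_sub, map_one, sub_eq_zero] at this
  have hι : (Ideal.Quotient.mk (Ideal.span {z - 1})).comp (α : A[X] →+* B) =
      ι.comp (Polynomial.evalRingHom 1) := by
    apply Polynomial.ringHom_ext
    · intro a
      simp only [RingHom.comp_apply, Polynomial.coe_evalRingHom, Polynomial.eval_C, ι]
      congr 1
      exact Polynomial.aeval_C z a
    · simp only [RingHom.comp_apply, Polynomial.coe_evalRingHom, Polynomial.eval_X, map_one]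
      rw [← hz1]
      congr 1
      exact Polynomial.aeval_X z
  have hι' : ∀ P : A[X], Ideal.Quotient.mk (Ideal.span {z - 1}) (α P) = ι (P.eval 1) :=
    fun P => congrArg (fun g => g P) hι
  have hbij : Function.Bijective ι := by
    constructor
    · rw [injective_iff_map_eq_zero]
      intro a ha
      change Ideal.Quotient.mk (Ideal.span {z - 1}) (algebraMap A B a) = 0 at ha
      rw [Ideal.Quotient.eq_zero_iff_mem, Ideal.mem_span_singleton'] at ha
      obtain ⟨b', hb'⟩ := ha
      obtain ⟨P', rfl⟩ := hhat.2 b'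
      have h1 : α (P' * (X - C 1)) = α (C a) := by
        rw [map_mul, map_sub]
        change _ * (Polynomial.aeval z X - Polynomial.aeval z (C 1)) = Polynomial.aeval z (C a)
        rw [Polynomial.aeval_X, Polynomial.aeval_C, Polynomial.aeval_C, map_one]
        exact hb'
      have h2 := hhat.1 h1
      have h3 := congrArg (Polynomial.eval 1) h2
      simp only [Polynomial.eval_mul, Polynomial.eval_sub, Polynomial.eval_X, Polynomial.eval_C,
        sub_self, mul_zero] at h3
      exact h3.symm
    · intro y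
      obtain ⟨b, rfl⟩ := Ideal.Quotient.mk_surjective y
      obtain ⟨P, rfl⟩ := hhat.2 b
      exact ⟨P.eval 1, (hι' P).symm⟩
  refine ⟨(RingEquiv.ofBijective ι hbij).trans e.symm, fun n a ha => ?_⟩
  change (e.symm (Ideal.Quotient.mk _ (algebraMap A B a))).val = _
  rw [← hφ]
  exact he n (φ a) (φ.2 ha)


/-- Let S be a graded R-algebra, Ŝ a graded R-algebra with a graded homomorphism φ : S → Ŝ making Ŝ an
S-algebra, and z an element of Ŝ of degree one such that the S-algebra map S[X] → Ŝ, X ↦ z, is
bijective (so Ŝ = S[z] with z in degree one, the graded ring of the projective cone of S). Then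
there is a ring isomorphism S ≅ Ŝ_(z) onto the degree-zero localization at z, sending a homogeneous
a of degree n to φ(a)/z^n. (This is the isomorphism that identifies the affine cone Spec S with the
open D_+(z) of the projective cone Proj Ŝ; that identification itself is not asserted here.) -/
theorem result {R A : Type u} [CommRing R] [CommRing A] [Algebra R A] (𝒜 : ℕ → Submodule R A) [GradedAlgebra 𝒜]
    {B : Type u} [CommRing B] [Algebra R B] (ℬ : ℕ → Submodule R B) [GradedAlgebra ℬ]
    [Algebra A B] [IsScalarTower R A B] (φ : 𝒜 →+*ᵍ ℬ) (hφ : ∀ a : A, φ a = algebraMap A B a)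
    (z : B) (hz : z ∈ ℬ 1) (hhat : Function.Bijective (Polynomial.aeval (R := A) z)) :
    ∃ θ : A ≃+* HomogeneousLocalization.Away ℬ z,
      ∀ (n : ℕ) (a : A), a ∈ 𝒜 n → (θ a).val = Localization.mk (φ a) ⟨z ^ n, pow_mem (Submonoid.mem_powers z) n⟩ := by
  exact main 𝒜 ℬ φ hφ z hz hhat

end Groth.Agent.S3593
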