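import Groth.Statements.S3597
import Groth.Agent.S3595

set_option autoImplicit false
universe u
open CategoryTheory CategoryTheory.Limits AlgebraicGeometry
open EGA2

namespace Groth.Agent.S3597

open HomogeneousLocalization TopologicalSpace Opposite
open Groth.Agent.Lib.Helper28.RelProjGlue (hom_ext_of_local)
open Groth.Agent.S3595 (chart_ι)

variable {R A : Type u} [CommRing R] [CommRing A] [Algebra R A] {𝒜 : ℕ → Submodule R A}
    [GradedAlgebra 𝒜]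
    {B : Type u} [CommRing B] [Algebra R B] {ℬ : ℕ → Submodule R B} [GradedAlgebra ℬ]

set_option backward.isDefEq.respectTransparency false in
theorem away_id (χ : 𝒜 →+*ᵍ 𝒜) (h : χ = GradedRingHom.id 𝒜) {d : ℕ} (hd : 0 < d) {f : A}
    (hf : f ∈ 𝒜 d) :
    Spec.map (CommRingCat.ofHom (Away.map χ f)) ≫ Proj.awayι 𝒜 f hf hd =
      Proj.awayι 𝒜 (χ f) (χ.2 hf) hd := by
  subst h
  rw [Away.map_id]
  simp

set_option backward.isDefEq.respectTransparency false in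
theorem main (φ : 𝒜 →+*ᵍ ℬ)
    (ψ : ℬ →+*ᵍ 𝒜) (hψφ : ∀ a : A, ψ (φ a) = a)
    (hψ : HomogeneousIdeal.irrelevant 𝒜 ≤ (HomogeneousIdeal.irrelevant ℬ).map ψ)
    (p : (PCone.dom φ : Scheme.{u}) ⟶ Proj 𝒜) (hp : ∀ (d : ℕ) (f : A) (hd : 0 < d) (hf : f ∈ 𝒜 d),
        PCone.chart φ hf hd ≫ p =
          Spec.map (CommRingCat.ofHom (HomogeneousLocalization.Away.map φ f)) ≫ Proj.awayι 𝒜 f hf hd) :
    Surjective p ∧ ∃ j : Proj 𝒜 ⟶ (PCone.dom φ : Scheme.{u}),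
      j ≫ (PCone.dom φ).ι = Proj.map ψ hψ ∧ j ≫ p = 𝟙 (Proj 𝒜) := by
  -- every point lies in some `D₊(f)`
  have hcover : ∀ x : Proj 𝒜, ∃ (d : ℕ) (f : A) (_ : 0 < d) (_ : f ∈ 𝒜 d), x ∈ Proj.basicOpen 𝒜 f := by
    intro x
    obtain ⟨s, y, hy⟩ := (Proj.affineOpenCover 𝒜).openCover.exists_eq x
    refine ⟨s.1.1, s.2.1, s.1.2, s.2.2, ?_⟩
    rw [← Proj.opensRange_awayι 𝒜 s.2.1 s.2.2 s.1.2]
    exact ⟨y, hy⟩
  have hrange : Set.range (Proj.map ψ hψ).base ⊆ Set.range (PCone.dom φ).ι.base := by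
    rw [Scheme.Opens.range_ι]
    rintro _ ⟨x, rfl⟩
    obtain ⟨d, f, hd, hf, hx⟩ := hcover x
    refine Opens.mem_iSup.2 ⟨⟨f, d, hd, hf⟩, ?_⟩
    change x ∈ Proj.map ψ hψ ⁻¹ᵁ Proj.basicOpen ℬ (φ f)
    rw [Proj.map_preimage_basicOpen, hψφ]
    exact hx
  let j : Proj 𝒜 ⟶ (PCone.dom φ : Scheme.{u}) :=
    IsOpenImmersion.lift (PCone.dom φ).ι (Proj.map ψ hψ) hrange
  have hj : j ≫ (PCone.dom φ).ι = Proj.map ψ hψ := IsOpenImmersion.lift_fac _ _ _
  have hcomp : ψ.comp φ = GradedRingHom.id 𝒜 := GradedRingHom.ext fun a => hψφ a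
  have hjp : j ≫ p = 𝟙 (Proj 𝒜) := by
    refine hom_ext_of_local _ _ fun x => ?_
    obtain ⟨d, f, hd, hf, hx⟩ := hcover x
    have hmem : ψ (φ f) ∈ 𝒜 d := ψ.2 (φ.2 hf)
    refine ⟨_, Proj.awayι 𝒜 (ψ (φ f)) hmem hd, inferInstance, ?_, ?_⟩
    · change x ∈ (Proj.awayι 𝒜 (ψ (φ f)) hmem hd).opensRange
      rw [Proj.opensRange_awayι, hψφ]
      exact hx
    · have h1 : Proj.awayι 𝒜 (ψ (φ f)) hmem hd ≫ j =
          Spec.map (CommRingCat.ofHom (Away.map ψ (φ f))) ≫ PCone.chart φ hf hd := by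
        rw [← cancel_mono (PCone.dom φ).ι, Category.assoc, Category.assoc, hj, chart_ι]
        exact Proj.awayι_comp_map ψ hψ hd (φ f) (φ.2 hf)
      rw [reassoc_of% h1, hp d f hd hf, ← Spec.map_comp_assoc, ← CommRingCat.ofHom_comp,
        ← Away.map_comp, Category.comp_id]
      exact away_id (ψ.comp φ) hcomp hd hf
  refine ⟨⟨fun x => ⟨j x, ?_⟩⟩, j, hj, hjp⟩
  rw [← Scheme.Hom.comp_apply, hjp]
  rfl


/-- Let S be a graded algebra over a ring and Ŝ = S[z] the graded S-algebra obtained by adjoining a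
variable z in degree 1 (an S-algebra with an element z of degree 1 such that S[T] → Ŝ, T ↦ z, is
bijective), with φ : S → Ŝ the graded structure map and ψ : Ŝ → S the graded retraction with ψ ∘ φ =
id and ψ(z) = 0 (the irrelevant-ideal containment needed to define Proj(ψ) on all of X = Proj S
carried as a hypothesis). Let Ê ⊆ Ĉ = Proj Ŝ be the pointed projective cone, the open union of the
D_+(φ f) for f ∈ S homogeneous of positive degree, and p : Ê → X a morphism which on each chart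
D_+(φ f) = Spec Ŝ_{(φ f)} is induced by S_{(f)} → Ŝ_{(φ f)} (the canonical retraction). Then p is
surjective, and the closed immersion j = Proj(ψ) : X → Ĉ factors through Ê with p ∘ j = id_X. -/
theorem result {R A : Type u} [CommRing R] [CommRing A] [Algebra R A] (𝒜 : ℕ → Submodule R A) [GradedAlgebra 𝒜]
    {B : Type u} [CommRing B] [Algebra R B] (ℬ : ℕ → Submodule R B) [GradedAlgebra ℬ]
    [Algebra A B] [IsScalarTower R A B] (φ : 𝒜 →+*ᵍ ℬ) (hφ : ∀ a : A, φ a = algebraMap A B a)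
    (z : B) (hz : z ∈ ℬ 1) (hhat : Function.Bijective (Polynomial.aeval (R := A) z))
    (ψ : ℬ →+*ᵍ 𝒜) (hψφ : ∀ a : A, ψ (φ a) = a) (hψz : ψ z = 0)
    (hψ : HomogeneousIdeal.irrelevant 𝒜 ≤ (HomogeneousIdeal.irrelevant ℬ).map ψ)
    (p : (PCone.dom φ : Scheme.{u}) ⟶ Proj 𝒜) (hp : ∀ (d : ℕ) (f : A) (hd : 0 < d) (hf : f ∈ 𝒜 d),
        PCone.chart φ hf hd ≫ p =
          Spec.map (CommRingCat.ofHom (HomogeneousLocalization.Away.map φ f)) ≫ Proj.awayι 𝒜 f hf hd) :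
    Surjective p ∧ ∃ j : Proj 𝒜 ⟶ (PCone.dom φ : Scheme.{u}), j ≫ (PCone.dom φ).ι = Proj.map ψ hψ ∧ j ≫ p = 𝟙 (Proj 𝒜) := by
  exact main φ ψ hψφ hψ p hp

end Groth.Agent.S3597
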