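import Groth.Statements.S3669
import Groth.Agent.Lib.Helper23.CIProj.HomOSec

set_option autoImplicit false
universe u
open CategoryTheory CategoryTheory.Limits AlgebraicGeometry
attribute [local instance] HasDerivedCategory.standard
open Dual3

namespace Groth.Agent.S3669

/-- Let i : Z → X be a closed immersion of schemes with ideal sheaf I, Hom(O_Z, -) a right adjoint of
i_* on modules (it exists; here the chosen one) with counit i_* Hom(O_Z, F) → F. Then for every
O_X-module F and every affine open U ⊆ X, the counit on sections over U, Γ(i⁻¹U, Hom(O_Z, F)) → Γ(U,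
F), is injective with image exactly the sections s of F over U with I(U) · s = 0. -/
theorem result (Z X : Scheme.{u}) (i : Z ⟶ X) [IsClosedImmersion i] [Dual3.HasHomO i] (F : X.Modules) (U : X.affineOpens) : Function.Injective ⇑(ConcreteCategory.hom (((Dual3.homOAdj i).counit.app F).val.app (Opposite.op U.1))) ∧ Set.range ⇑(ConcreteCategory.hom (((Dual3.homOAdj i).counit.app F).val.app (Opposite.op U.1))) = ((LocCoh.torsionBy (i.ker.ideal U) (F.val.obj (Opposite.op U.1)) : Submodule Γ(X, U.1) (F.val.obj (Opposite.op U.1))) : Set (F.val.obj (Opposite.op U.1))) := by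
  refine ⟨Groth.Agent.Lib.Helper23.CIProj.counit_app_injective i (Dual3.homOAdj i) F U.1, ?_⟩
  ext s
  constructor
  · rintro ⟨t, rfl⟩
    change _ ∈ Submodule.torsionBySet _ _ _
    rw [Submodule.mem_torsionBySet_iff]
    rintro ⟨a, ha⟩
    have h0 := Groth.Agent.Lib.Helper23.CIProj.smul_push_eq_zero i U ((Dual3.homO i).obj F) a ha t
    have h1 := (((Dual3.homOAdj i).counit.app F).val.app (Opposite.op U.1)).hom.map_smul a t
    change a • _ = 0
    refine h1.symm.trans ((congr_arg _ h0).trans (map_zero _))
  · intro hs
    change s ∈ Submodule.torsionBySet _ _ _ at hs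
    rw [Submodule.mem_torsionBySet_iff] at hs
    exact Groth.Agent.Lib.Helper23.CIProj.exists_counit_app_eq i (Dual3.homOAdj i) F U s
      (fun a ha => hs ⟨a, ha⟩)

end Groth.Agent.S3669
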