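import Groth.Statements.S3707
import Mathlib.AlgebraicGeometry.Morphisms.Separated
import Mathlib.AlgebraicGeometry.Morphisms.IsIso
-- import your own Groth.Agent.* helpers here

set_option autoImplicit false
universe u
open SGA1

namespace Groth.Agent.S3707

open AlgebraicGeometry CategoryTheory CategoryTheory.Limits in
set_option backward.isDefEq.respectTransparency false in
theorem isOpenImmersion_equalizer_ι_left {S : Scheme.{u}} {X Y : Over S}
    [FormallyUnramified Y.hom] [LocallyOfFiniteType Y.hom]
    (f g : X ⟶ Y) : IsOpenImmersion (equalizer.ι f g).left := by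
  refine MorphismProperty.of_isPullback
    ((Limits.isPullback_equalizer_prod f g).map (Over.forget _)).flip ?_
  rw [← MorphismProperty.cancel_right_of_respectsIso @IsOpenImmersion _
    (Over.prodLeftIsoPullback Y Y).hom]
  convert! (inferInstance : IsOpenImmersion (pullback.diagonal Y.hom))
  ext1 <;> simp [← Over.comp_left]

open AlgebraicGeometry CategoryTheory CategoryTheory.Limits in
/-- Let g : S' -> S be a surjective morphism of schemes, X and Y schemes over S with Y unramified over S
(formally unramified and locally of finite type), and X', Y' their base changes to S'. Then the map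
sending an S-morphism X -> Y to the induced S'-morphism X' -> Y' is injective. -/
theorem result {S S' X Y : Scheme.{u}} (g : S' ⟶ S) [Surjective g]
    (p : X ⟶ S) (q : Y ⟶ S) [FormallyUnramified q] [LocallyOfFiniteType q]
    (u v : X ⟶ Y) (hu : p ≫ 𝟙 S = u ≫ q) (hv : p ≫ 𝟙 S = v ≫ q)
    (h : pullback.map p g q g u (𝟙 S') (𝟙 S) hu ((Category.comp_id _).trans (Category.id_comp _).symm) =
      pullback.map p g q g v (𝟙 S') (𝟙 S) hv ((Category.comp_id _).trans (Category.id_comp _).symm)) :
    u = v := by
  have huv : u ≫ q = v ≫ q := hu.symm.trans hv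
  have hπ : pullback.fst p g ≫ u = pullback.fst p g ≫ v := by
    have h1 := congr($h ≫ pullback.fst q g)
    rw [pullback.map, pullback.map, pullback.lift_fst, pullback.lift_fst] at h1
    exact h1
  let X' : Over S := Over.mk (u ≫ q)
  let Y' : Over S := Over.mk q
  let U' : Over S := Over.mk (pullback.fst p g ≫ u ≫ q)
  let f' : X' ⟶ Y' := Over.homMk u
  let g' : X' ⟶ Y' := Over.homMk v huv.symm
  let ι' : U' ⟶ X' := Over.homMk (pullback.fst p g)
  have : FormallyUnramified Y'.hom := ‹_›
  have : LocallyOfFiniteType Y'.hom := ‹_›
  have hopen : IsOpenImmersion (equalizer.ι f' g').left :=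
    isOpenImmersion_equalizer_ι_left f' g'
  have hsurj : Surjective (equalizer.ι f' g').left := by
    have hι : ι' ≫ f' = ι' ≫ g' := by ext1; exact hπ
    have : Surjective ((equalizer.lift ι' hι).left ≫ (equalizer.ι f' g').left) := by
      rw [← Over.comp_left, equalizer.lift_ι]
      exact inferInstanceAs (Surjective (pullback.fst p g))
    exact Surjective.of_comp (equalizer.lift ι' hι).left _
  have := (isIso_iff_isOpenImmersion_and_surjective _).mpr ⟨hopen, hsurj⟩
  rw [← cancel_epi (equalizer.ι f' g').left]
  exact congr($(equalizer.condition f' g').left)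

end Groth.Agent.S3707
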