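import Groth.Statements.S3731
import Groth.Agent.Lib.Helper16.DerTrunc2
-- import your own Groth.Agent.* helpers here

set_option autoImplicit false
universe u v
open CategoryTheory CategoryTheory.Limits
attribute [local instance] HasDerivedCategory.standard
open EtDl

namespace Groth.Agent.S3731

open DerivedCategory Pretriangulated Groth.Agent.Lib.Helper16.DerT

section
variable {A : Type u} [Category.{v} A] [Abelian A]

/-- a map from an object concentrated in degree `b` to an object of `D^{≥ b}` inducing zero on `H^b`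
vanishes -/
lemma eq_zero_of_isGE {Z W : DerivedCategory A} (b : ℤ) [Z.IsGE b] [Z.IsLE b] [W.IsGE b]
    (v : Z ⟶ W) (hv : (homologyFunctor A b).map v = 0) : v = 0 := by
  let t := TStructure.t (C := A)
  have hT := t.triangleLTGE_distinguished (b + 1) W
  have i1 : t.IsGE ((t.truncGE (b + 1)).obj W) (b + 1) := inferInstance
  have h1 : v ≫ (t.truncGEπ (b + 1)).app W = 0 := t.zero _ b (b + 1) (by omega)
  obtain ⟨v', hv'⟩ : ∃ v' : Z ⟶ (t.truncLT (b + 1)).obj W, v = v' ≫ (t.truncLTι (b + 1)).app W :=
    Triangle.coyoneda_exact₂ _ hT v h1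
  have i2 : t.IsLE ((t.truncLT (b + 1)).obj W) (b + 1 - 1) := inferInstance
  have i3 : ((t.truncLT (b + 1)).obj W).IsLE b := t.isLE_of_le _ (b + 1 - 1) b (by omega)
  have i4 : ((t.truncLT (b + 1)).obj W).IsGE b := by
    show t.IsGE _ b
    infer_instance
  have := mono_homologyMap_truncLTι W (b + 1) b
  have h2 : (homologyFunctor A b).map v' = 0 := by
    rw [← cancel_mono ((homologyFunctor A b).map ((t.truncLTι (b + 1)).app W)), ← Functor.map_comp,
      ← hv', hv, zero_comp]
  rw [hv', eq_zero_of_homologyMap_eq_zero b v' h2, zero_comp]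

lemma exists_lift_truncLT {X Y : DerivedCategory A} (b : ℤ) [X.IsLE b] (u : X ⟶ Y)
    (hu : (homologyFunctor A b).map u = 0) :
    ∃ u' : X ⟶ ((TStructure.t (C := A)).truncLT b).obj Y,
      u = u' ≫ ((TStructure.t (C := A)).truncLTι b).app Y := by
  let t := TStructure.t (C := A)
  have hT := t.triangleLTGE_distinguished b Y
  have nat : u ≫ (t.truncGEπ b).app Y = (t.truncGEπ b).app X ≫ (t.truncGE b).map u :=
    (t.truncGEπ b).naturality u
  have i1 : ((t.truncGE b).obj X).IsGE b := by show t.IsGE _ b; infer_instance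
  have i2 : ((t.truncGE b).obj X).IsLE b := by show t.IsLE _ b; infer_instance
  have i3 : ((t.truncGE b).obj Y).IsGE b := by show t.IsGE _ b; infer_instance
  have := epi_homologyMap_truncGEπ X b b
  have h2 : (homologyFunctor A b).map ((t.truncGE b).map u) = 0 := by
    rw [← cancel_epi ((homologyFunctor A b).map ((t.truncGEπ b).app X)), ← Functor.map_comp,
      ← nat, Functor.map_comp, hu, zero_comp, comp_zero]
  have h3 : u ≫ (t.truncGEπ b).app Y = 0 := by
    rw [nat, eq_zero_of_isGE b _ h2, comp_zero]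
  exact Triangle.coyoneda_exact₂ _ hT u h3

end


/-- Let A be an abelian category, k ≥ 0, and K_0 -> K_1 -> ... -> K_{2k} a chain of 2k morphisms in the
derived category of A such that every K_i has H^p(K_i) = 0 for p outside [0, k] and every morphism
K_i -> K_{i+1} induces the zero map on H^p for all p < k. Let π : K_0 -> H^k(K_0)[-k] be the
morphism to the top cohomology object placed in degree k that induces the identity on H^k. Then the
composite K_0 -> K_{2k} factors through π. -/
theorem result {A : Type u} [Category.{v} A] [Abelian A] (k : ℕ)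
    (K : ComposableArrows (DerivedCategory A) (2 * k))
    (hK : ∀ (i : ℕ) (hi : i ≤ 2 * k) (p : ℤ), p < 0 ∨ (k : ℤ) < p →
      IsZero ((DerivedCategory.homologyFunctor A p).obj (K.obj' i)))
    (hf : ∀ (i : ℕ) (hi : i < 2 * k) (p : ℤ), p < (k : ℤ) →
      (DerivedCategory.homologyFunctor A p).map (K.map' i (i + 1)) = 0)
    (π : K.obj' 0 ⟶ (DerivedCategory.singleFunctor A (k : ℤ)).obj
      ((DerivedCategory.homologyFunctor A (k : ℤ)).obj (K.obj' 0)))
    (hπ : (DerivedCategory.homologyFunctor A (k : ℤ)).map π ≫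
      (DerivedCategory.singleFunctorCompHomologyFunctorIso A (k : ℤ)).hom.app
        ((DerivedCategory.homologyFunctor A (k : ℤ)).obj (K.obj' 0)) = 𝟙 _) :
    ∃ φ : (DerivedCategory.singleFunctor A (k : ℤ)).obj
        ((DerivedCategory.homologyFunctor A (k : ℤ)).obj (K.obj' 0)) ⟶ K.obj' (2 * k),
      K.map' 0 (2 * k) = π ≫ φ := by
  let t := TStructure.t (C := A)
  have hGE : ∀ (i : ℕ) (hi : i ≤ 2 * k), (K.obj' i).IsGE 0 := fun i hi =>
    (isGE_iff _ 0).2 (fun p hp => hK i hi p (Or.inl hp))
  -- the inductive claim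
  have claim : ∀ (j : ℕ) (hj : j ≤ k) (c : ℤ), c + j = k →
      ∃ g : (t.truncLT k).obj (K.obj' 0) ⟶ (t.truncLT c).obj (K.obj' j),
        (t.truncLTι k).app (K.obj' 0) ≫ K.map' 0 j = g ≫ (t.truncLTι c).app (K.obj' j) := by
    intro j
    induction j with
    | zero =>
      intro hj c hc
      obtain rfl : c = k := by simpa using hc
      refine ⟨𝟙 _, ?_⟩
      rw [Category.id_comp, K.map'_self 0]
      exact Category.comp_id _
    | succ j ih =>
      intro hj c hc
      obtain ⟨g, hg⟩ := ih (by omega) (c + 1) (by push_cast at hc ⊢; omega)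
      have i1 : ((t.truncLT (c + 1)).obj (K.obj' j)).IsLE c := by
        have : t.IsLE ((t.truncLT (c + 1)).obj (K.obj' j)) (c + 1 - 1) := inferInstance
        exact t.isLE_of_le _ (c + 1 - 1) c (by omega)
      have h0 : (homologyFunctor A c).map ((t.truncLTι (c + 1)).app (K.obj' j) ≫ K.map' j (j + 1)) = 0 := by
        rw [Functor.map_comp, hf j (by omega) c (by push_cast at hc; omega), comp_zero]
      obtain ⟨u', hu'⟩ := exists_lift_truncLT c _ h0
      refine ⟨g ≫ u', ?_⟩
      have hcomp : K.map' 0 (j + 1) = K.map' 0 j ≫ K.map' j (j + 1) := K.map'_comp 0 j (j + 1)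
      rw [hcomp, ← Category.assoc, hg, Category.assoc, hu', Category.assoc]
  obtain ⟨g, hg⟩ := claim k le_rfl 0 (by simp)
  have hz : IsZero ((t.truncLT 0).obj (K.obj' k)) := by
    have := hGE k (by omega)
    have i1 : t.IsLE ((t.truncLT 0).obj (K.obj' k)) (0 - 1) := inferInstance
    have i2 : t.IsGE ((t.truncLT 0).obj (K.obj' k)) 0 := inferInstance
    exact t.isZero _ (0 - 1) 0 (by omega)
  have h1 : (t.truncLTι k).app (K.obj' 0) ≫ K.map' 0 k = 0 := by
    rw [hg, hz.eq_of_src ((t.truncLTι 0).app (K.obj' k)) 0, comp_zero]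
  have h2 : (t.truncLTι k).app (K.obj' 0) ≫ K.map' 0 (2 * k) = 0 := by
    have hcomp : K.map' 0 (2 * k) = K.map' 0 k ≫ K.map' k (2 * k) := K.map'_comp 0 k (2 * k)
    rw [hcomp, ← Category.assoc, h1, zero_comp]
  have hT := t.triangleLTGE_distinguished k (K.obj' 0)
  obtain ⟨ψ, hψ⟩ : ∃ ψ : (t.truncGE k).obj (K.obj' 0) ⟶ K.obj' (2 * k),
      K.map' 0 (2 * k) = (t.truncGEπ k).app (K.obj' 0) ≫ ψ :=
    Triangle.yoneda_exact₂ _ hT _ h2
  -- π factors through the truncation
  have i3 : t.IsLE ((t.truncLT k).obj (K.obj' 0)) (k - 1) := inferInstance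
  have h3 : (t.truncLTι k).app (K.obj' 0) ≫ π = 0 := t.zero _ (k - 1) k (by omega)
  obtain ⟨π', hπ'⟩ : ∃ π' : (t.truncGE k).obj (K.obj' 0) ⟶ _,
      π = (t.truncGEπ k).app (K.obj' 0) ≫ π' :=
    Triangle.yoneda_exact₂ _ hT _ h3
  have hiso : IsIso π' := by
    rw [DerivedCategory.isIso_iff]
    intro n
    by_cases hn : n = k
    · subst hn
      have e1 := isIso_homologyMap_truncGEπ (K.obj' 0) k k le_rfl
      have e2 : IsIso ((homologyFunctor A k).map π) := by
        have : (homologyFunctor A k).map π =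
            ((singleFunctorCompHomologyFunctorIso A (k : ℤ)).app
              ((homologyFunctor A (k : ℤ)).obj (K.obj' 0))).inv := by
          rw [← cancel_mono ((singleFunctorCompHomologyFunctorIso A (k : ℤ)).app
              ((homologyFunctor A (k : ℤ)).obj (K.obj' 0))).hom, Iso.inv_hom_id]
          exact hπ
        rw [this]
        infer_instance
      rw [hπ', Functor.map_comp] at e2
      exact IsIso.of_isIso_comp_left ((homologyFunctor A k).map ((t.truncGEπ k).app _)) _
    · have i4 : ((t.truncGE k).obj (K.obj' 0)).IsGE k := by show t.IsGE _ k; infer_instance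
      have i5 : ((t.truncGE k).obj (K.obj' 0)).IsLE k := by
        have := (isLE_iff (K.obj' 0) k).2 (fun p hp => hK 0 (by omega) p (Or.inr hp))
        show t.IsLE _ k
        infer_instance
      have z1 : IsZero ((homologyFunctor A n).obj ((t.truncGE k).obj (K.obj' 0))) := by
        rcases lt_or_gt_of_ne hn with h | h
        · exact isZero_of_isGE _ k n h
        · exact isZero_of_isLE _ k n h
      have z2 : IsZero ((homologyFunctor A n).obj ((singleFunctor A (k : ℤ)).obj
          ((homologyFunctor A (k : ℤ)).obj (K.obj' 0)))) := by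
        rcases lt_or_gt_of_ne hn with h | h
        · exact isZero_of_isGE _ k n h
        · exact isZero_of_isLE _ k n h
      exact ⟨⟨0, z1.eq_of_src _ _, z2.eq_of_src _ _⟩⟩
  refine ⟨inv π' ≫ ψ, ?_⟩
  rw [hψ, hπ', Category.assoc, IsIso.hom_inv_id_assoc]

end Groth.Agent.S3731
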