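import Groth.Statements.S3780
import Groth.Agent.Lib.Helper16.KRRFunctional
import Groth.Agent.Lib.Helper16.KRRLam
import Mathlib.Tactic
-- import your own Groth.Agent.* helpers here

set_option autoImplicit false
universe v u
open CategoryTheory CategoryTheory.Limits AlgebraicGeometry
attribute [local instance] HasDerivedCategory.standard
open KRR

namespace Groth.Agent.S3780

open LambdaRing PowerSeries Finset Groth.Agent.Lib.Helper20.LR Groth.Agent.Lib.Helper16.KRRFunctional Groth.Agent.Lib.Helper16.KRRLam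


/-- Let K be a λ-ring with positive structure admitting a splitting, e a positive element of
augmentation ε(e) = r + 1, K_e = K[T]/(p_e(T)) the elementary extension of K with ℓ the class of T,
and f : K_e → K a K-linear functional with f(ℓ^i) = σ^i(e) for i ≤ r. For any λ-operations on K_e
extending those of K with λ^i(ℓ) = 0 for i ≥ 2, and q = e − ℓ ∈ K_e, one has f(λ^0(q)) = 1 and
f(λ^i(q)) = 0 for all i ≥ 1; that is, f(λ_t(q)) = 1. -/
theorem result (K : Type v) [CommRing K] [LambdaRing.LambdaOps K] (P : LambdaRing.PosStructure K) (hK : LambdaRing.HasSplitting K P) (e : K) (he : e ∈ P.pos) (r : ℕ) (hr : P.aug e = r + 1)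
    (inst : LambdaRing.LambdaOps (AdjoinRoot (KRR.extPoly P e)))
    (hext : ∀ (i : ℕ) (x : K), @LambdaRing.LambdaOps.lam _ _ inst i (AdjoinRoot.of (KRR.extPoly P e) x) =
      AdjoinRoot.of (KRR.extPoly P e) (LambdaRing.LambdaOps.lam i x))
    (hroot : ∀ i : ℕ, 2 ≤ i → @LambdaRing.LambdaOps.lam _ _ inst i (AdjoinRoot.root (KRR.extPoly P e)) = 0)
    (f : AdjoinRoot (KRR.extPoly P e) →ₗ[K] K)
    (hf : ∀ i : ℕ, i ≤ r → f (AdjoinRoot.root (KRR.extPoly P e) ^ i) = KRR.sigma i e) (i : ℕ) :
    f (@LambdaRing.LambdaOps.lam _ _ inst i (AdjoinRoot.of (KRR.extPoly P e) e - AdjoinRoot.root (KRR.extPoly P e))) =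
      if i = 0 then 1 else 0 := by
  let _ := inst
  have hf' := part1 K P e he r hr f hf
  have h1 := lamSeries_eq_mul_geom (AdjoinRoot.of (KRR.extPoly P e) e - AdjoinRoot.root (KRR.extPoly P e))
    (AdjoinRoot.root (KRR.extPoly P e)) hroot
  rw [sub_add_cancel] at h1
  have h2 : LambdaOps.lam i (AdjoinRoot.of (KRR.extPoly P e) e - AdjoinRoot.root (KRR.extPoly P e)) =
      ∑ p ∈ antidiagonal i, AdjoinRoot.of (KRR.extPoly P e) (LambdaOps.lam p.1 e) *
        (-AdjoinRoot.root (KRR.extPoly P e)) ^ p.2 := by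
    have h3 := congrArg (coeff i) h1
    rw [coeff_lamSeries, coeff_mul] at h3
    rw [h3]
    apply Finset.sum_congr rfl
    intro p _
    rw [coeff_lamSeries, hext, coeff_mk]
  rw [h2, map_sum, ← lam_sigma_rel e i]
  apply Finset.sum_congr rfl
  intro p _
  have h4 : AdjoinRoot.of (KRR.extPoly P e) (LambdaOps.lam p.1 e) *
      (-AdjoinRoot.root (KRR.extPoly P e)) ^ p.2 =
      (LambdaOps.lam p.1 e * (-1 : K) ^ p.2) • AdjoinRoot.root (KRR.extPoly P e) ^ p.2 := by
    rw [Algebra.smul_def, AdjoinRoot.algebraMap_eq, map_mul, map_pow, map_neg, map_one, neg_pow]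
    ring
  rw [h4, map_smul, hf', smul_eq_mul]
  ring

end Groth.Agent.S3780
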