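import Groth.Statements.S3781
import Groth.Agent.Lib.Helper16.DetLine3
-- import your own Groth.Agent.* helpers here

set_option autoImplicit false
universe v u
open CategoryTheory CategoryTheory.Limits AlgebraicGeometry
attribute [local instance] HasDerivedCategory.standard
open KRR

namespace Groth.Agent.S3781

open LambdaRing Groth.Agent.Lib.Helper20.LR Groth.Agent.Lib.Helper20.GFP Groth.Agent.Lib.Helper16.GN
  Groth.Agent.Lib.Helper16.DL Finset

lemma aug_det {K : Type v} [CommRing K] [LambdaRing.LambdaOps K] (P : LambdaRing.PosStructure K)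
    (hK : LambdaRing.HasSplitting K P) (e : K) (he : e ∈ P.pos) : P.aug (det P e) = 1 := by
  unfold det
  have h := congrArg (PowerSeries.coeff (P.aug e).toNat) (map_aug_lamSeries_pos P hK e he)
  rw [PowerSeries.coeff_map, coeff_lamSeries, coeff_one_add_X_pow_int, Nat.choose_self] at h
  simpa using h

lemma det_sub_mem {K : Type v} [CommRing K] [LambdaRing.LambdaOps K] (P : LambdaRing.PosStructure K)
    (e : K) (he : e ∈ P.pos) :
    det P e - 1 - (e - ((P.aug e).toNat : K)) ∈ gammaFiltration P 2 := by
  have hpos := P.aug_pos e he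
  have haug : P.aug (e - ((P.aug e).toNat : K)) = 0 := by
    rw [map_sub, map_natCast, Int.toNat_of_nonneg hpos.le, sub_self]
  have h := lam_top_eq_sum_gamma P e he
  obtain ⟨m', hm'⟩ : ∃ m', (P.aug e).toNat = m' + 1 := ⟨(P.aug e).toNat - 1, by omega⟩
  unfold det
  rw [hm'] at h haug ⊢
  rw [h]
  rw [Finset.sum_range_succ', Finset.sum_range_succ']
  have e0 : gamma 0 (e - ((m' + 1 : ℕ) : K)) = 1 := by simp [gamma]
  have e1 : gamma (0 + 1) (e - ((m' + 1 : ℕ) : K)) = e - ((m' + 1 : ℕ) : K) :=
    Groth.Agent.Lib.Helper20.GF.gamma_one_left _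
  rw [e0, e1]
  have : ∑ k ∈ range m', gamma (k + 1 + 1) (e - ((m' + 1 : ℕ) : K)) + (e - ((m' + 1 : ℕ) : K)) + 1 - 1 -
      (e - ((m' + 1 : ℕ) : K)) = ∑ k ∈ range m', gamma (k + 1 + 1) (e - ((m' + 1 : ℕ) : K)) := by ring
  rw [this]
  apply AddSubgroup.sum_mem
  intro k _
  exact filt_anti P (show 2 ≤ k + 1 + 1 by omega) (gamma_mem P haug (k + 1 + 1))



/-- Let K be a λ-ring with positive structure having the splitting property, L its group of line
elements and F^n the γ-filtration. Assume moreover that the inverse of a line element is a line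
element and that for a positive e with ε(e) = r the element det e = λ^r(e) is positive (hence a line
element); these are part of the published setting but are not implied by the axioms used here, so
they are hypotheses. Then u ↦ u − 1 induces an isomorphism L ≅ Gr^1 K = F^1/F^2: every x ∈ F^1 is
congruent modulo F^2 to u − 1 for some line element u, and line elements u, v with u − v ∈ F^2 are
equal. -/
theorem result (K : Type v) [CommRing K] [LambdaRing.LambdaOps K] (P : LambdaRing.PosStructure K) (hK : LambdaRing.HasSplitting K P)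
    (hLinv : ∀ w : K, P.IsLine w → ∃ w' : K, P.IsLine w' ∧ w * w' = 1)
    (hdet : ∀ e : K, e ∈ P.pos → LambdaRing.LambdaOps.lam (P.aug e).toNat e ∈ P.pos) :
    (∀ x : K, x ∈ LambdaRing.gammaFiltration P 1 → ∃ u : K, P.IsLine u ∧ x - (u - 1) ∈ LambdaRing.gammaFiltration P 2) ∧
    ∀ u v : K, P.IsLine u → P.IsLine v → u - v ∈ LambdaRing.gammaFiltration P 2 → u = v := by
  refine ⟨?_, fun u v hu hv h => line_eq_of_sub_mem P hK hu hv h⟩
  intro x hx
  have hx0 : P.aug x = 0 := aug_eq_zero_of_mem P hK le_rfl hx
  obtain ⟨e, f, he, hf, rfl⟩ := P.exists_sub x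
  have hm : P.aug e = P.aug f := by
    rw [map_sub] at hx0; exact sub_eq_zero.mp hx0
  have ha : P.IsLine (det P e) := ⟨hdet e he, aug_det P hK e he⟩
  have hb : P.IsLine (det P f) := ⟨hdet f hf, aug_det P hK f hf⟩
  obtain ⟨b', hb', hbb'⟩ := hLinv (det P f) hb
  refine ⟨det P e * b', isLine_mul P ha hb', ?_⟩
  have h1 := det_sub_mem P e he
  have h2 := det_sub_mem P f hf
  have hF1 : ∀ y : K, P.aug y = 0 → y ∈ gammaFiltration P 1 := by
    intro y hy
    have := gamma_mem P hy 1
    rwa [Groth.Agent.Lib.Helper20.GF.gamma_one_left] at this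
  have h3 : (1 - b') * (det P e - det P f) ∈ gammaFiltration P 2 := by
    apply mul_mem P (m := 1) (n := 1)
    · apply hF1
      rw [map_sub, map_one, hb'.2, sub_self]
    · apply hF1
      rw [map_sub, ha.2, hb.2, sub_self]
  have hnat : ((P.aug e).toNat : K) = ((P.aug f).toNat : K) := by rw [hm]
  have key : e - f - (det P e * b' - 1) =
      (1 - b') * (det P e - det P f) - (det P e - 1 - (e - ((P.aug e).toNat : K))) +
        (det P f - 1 - (f - ((P.aug f).toNat : K))) := by
    rw [hnat]
    linear_combination (-1 : K) * hbb'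
  rw [key]
  exact AddSubgroup.add_mem _ (AddSubgroup.sub_mem _ h3 h1) h2

end Groth.Agent.S3781
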