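import Groth.Statements.S3791
import Groth.Agent.Lib.Helper16.KRRLam
import Mathlib.Tactic
-- import your own Groth.Agent.* helpers here

set_option autoImplicit false
universe v u
open CategoryTheory CategoryTheory.Limits AlgebraicGeometry
attribute [local instance] HasDerivedCategory.standard
open KRR

namespace Groth.Agent.S3791

open LambdaRing PowerSeries Finset Groth.Agent.Lib.Helper20.LR Groth.Agent.Lib.Helper16.KRRLam

section
variable {K : Type v} [CommRing K] [LambdaOps K]

theorem lamSeries_natCast (P : PosStructure K) (n : ℕ) : lamSeries ((n : ℕ) : K) = (1 + X) ^ n := by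
  induction n with
  | zero => rw [Nat.cast_zero, lamSeries_zero, pow_zero]
  | succ n ih =>
    rw [Nat.cast_succ, lamSeries_add, ih, lamSeries_line P (isLine_one P), map_one, one_mul, pow_succ]

omit [LambdaOps K] in
theorem coeff_one_add_X_pow (n i : ℕ) :
    coeff i ((1 + X : PowerSeries K) ^ n) = (n.choose i : K) := by
  have : ((1 + X : PowerSeries K) ^ n) = (((1 + Polynomial.X) ^ n : Polynomial K) : PowerSeries K) := by
    rw [Polynomial.coe_pow, Polynomial.coe_add, Polynomial.coe_one, Polynomial.coe_X]
  rw [this, Polynomial.coeff_coe, Polynomial.coeff_one_add_X_pow]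

/-- if `e + w = m` with `e` positive, `w` a line element, `m` a natural number, then `(1 - w)^m = 0`. -/
theorem one_sub_line_pow_eq_zero (P : PosStructure K) (e w : K) (m : ℕ) (he : e ∈ P.pos) (hw : P.IsLine w)
    (h : e + w = (m : K)) : (1 - w) ^ m = 0 := by
  have haug : P.aug e = (m : ℤ) - 1 := by
    have := congrArg P.aug h
    rw [map_add, hw.2, map_natCast] at this
    linarith
  have hlam : LambdaOps.lam m e = 0 := P.lam_eq_zero e he m (by rw [haug]; omega)
  have hw2 : ∀ i : ℕ, 2 ≤ i → LambdaOps.lam i w = 0 := fun i hi =>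
    P.lam_eq_zero w hw.1 i (by rw [hw.2]; exact_mod_cast hi)
  have h1 := lamSeries_eq_mul_geom e w hw2
  rw [h, lamSeries_natCast P] at h1
  have h2 := congrArg (coeff m) h1
  rw [coeff_lamSeries, hlam, coeff_mul, Finset.Nat.sum_antidiagonal_eq_sum_range_succ_mk] at h2
  rw [sub_eq_add_neg, add_pow, h2]
  apply Finset.sum_congr rfl
  intro i _
  rw [coeff_one_add_X_pow, coeff_mk, one_pow, one_mul, mul_comm]

end



/-- Let K be a λ-ring with positive structure P and u an ample line element (for every x, u^n x is a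
positive element minus a natural number for all large n). Then for every line element v, the element
v - 1 is nilpotent. -/
theorem result (K : Type v) [CommRing K] [LambdaRing.LambdaOps K] (P : LambdaRing.PosStructure K)
    (u : K) (hu : KRR.IsAmpleElt P u) (w : K) (hw : P.IsLine w) : IsNilpotent (w - 1) := by
  obtain ⟨hul, hamp⟩ := hu
  obtain ⟨n₀, h0⟩ := hamp (-1)
  obtain ⟨n₁, h1⟩ := hamp (-w)
  set n := max n₀ n₁ with hn
  obtain ⟨e0, m0, he0, h0'⟩ := h0 n (le_max_left _ _)
  obtain ⟨e1, m1, he1, h1'⟩ := h1 n (le_max_right _ _)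
  have ha : IsNilpotent (1 - u ^ n) :=
    ⟨m0, one_sub_line_pow_eq_zero P e0 (u ^ n) m0 he0 (isLine_pow P hul n) (by linear_combination -h0')⟩
  have hb : IsNilpotent (1 - u ^ n * w) :=
    ⟨m1, one_sub_line_pow_eq_zero P e1 (u ^ n * w) m1 he1 (isLine_mul P (isLine_pow P hul n) hw)
      (by linear_combination -h1')⟩
  have hunit : IsUnit (u ^ n) := by
    have := ha.isUnit_one_sub
    rwa [sub_sub_cancel] at this
  have hab : IsNilpotent (u ^ n * (w - 1)) := by
    have : u ^ n * (w - 1) = (1 - u ^ n) - (1 - u ^ n * w) := by ring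
    rw [this]
    exact (Commute.all _ _).isNilpotent_sub ha hb
  obtain ⟨k, hk⟩ := hab
  rw [mul_pow] at hk
  exact ⟨k, ((hunit.pow k).mul_right_eq_zero).mp hk⟩

end Groth.Agent.S3791
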