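import Groth.Statements.S3792
import Groth.Agent.Lib.Helper16.KRRBott
import Mathlib.Tactic
-- import your own Groth.Agent.* helpers here

set_option autoImplicit false
universe v u
open CategoryTheory CategoryTheory.Limits AlgebraicGeometry
attribute [local instance] HasDerivedCategory.standard
open KRR

namespace Groth.Agent.S3792

open LambdaRing Finset Groth.Agent.Lib.Helper20.LR Groth.Agent.Lib.Helper16.KRRBott


/-- Let K be a λ-ring with positive structure having the splitting property, e a positive element and j
≥ 1. Then ψ^j(λ_{-1}(e)) = λ_{-1}(e) · θ^j(e), where λ_{-1}(e) = Σ_{i ≤ ε(e)} (-1)^i λ^i(e), ψ^j is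
the Adams operation and θ^j(e) is Bott's cannibalistic class (the universal polynomial in the λ^i(e)
which is Π (1 + u_i + ⋯ + u_i^{j-1}) on a splitting e = Σ u_i). -/
theorem result (K : Type v) [CommRing K] [LambdaRing.LambdaOps K] (P : LambdaRing.PosStructure K) (hK : LambdaRing.HasSplitting K P) (e : K) (he : e ∈ P.pos) (j : ℕ) (hj : 1 ≤ j) :
    LambdaRing.adams P j (KRR.lamAlt P e) = KRR.lamAlt P e * KRR.bott P j e := by
  obtain ⟨C, hKC, hC⟩ := hK
  obtain ⟨L', hL', f, hf, s, hs, hse⟩ := hC ⟨K, P⟩ hKC e he
  change K →+* L'.carrier at f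
  apply hf.injective
  rw [map_mul, map_adams f hf, map_lamAlt f hf, map_bott f hf, ← hse, lamAlt_lines L'.posStr s hs,
    bott_lines L'.posStr j s hs, adams_multiset_prod C hC L' hL', Multiset.map_map,
    ← Multiset.prod_map_mul]
  congr 1
  apply Multiset.map_congr rfl
  intro u hu
  simp only [Function.comp_apply]
  rw [adams_sub, adams_line L'.posStr (isLine_one L'.posStr), adams_line L'.posStr (hs u hu), one_pow,
    mul_neg_geom_sum]

end Groth.Agent.S3792
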