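import Groth.Statements.S3795
import Groth.Agent.Lib.Helper20.AdamsFilt
import Mathlib.Tactic
-- import your own Groth.Agent.* helpers here

set_option autoImplicit false
universe v u
open CategoryTheory CategoryTheory.Limits AlgebraicGeometry
attribute [local instance] HasDerivedCategory.standard
open KRR

namespace Groth.Agent.S3795

open LambdaRing Groth.Agent.Lib.Helper20.LR Groth.Agent.Lib.Helper20.GFP Groth.Agent.Lib.Helper20.AF



/-- Let K be a λ-ring with positive structure having the splitting property, j ≥ 2, n ≥ 0 and x ∈ K. If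
ψ^j(x) - j^n x lies in ℚF^{n+1} (some positive multiple lies in F^{n+1}, γ-filtration), then x lies
in ℚF^n (some positive multiple of x lies in F^n). -/
theorem result (K : Type v) [CommRing K] [LambdaRing.LambdaOps K] (P : LambdaRing.PosStructure K) (hK : LambdaRing.HasSplitting K P) (j : ℕ) (hj : 2 ≤ j) (n : ℕ) (x : K)
    (hx : ∃ N : ℕ, 1 ≤ N ∧ (N : K) * (LambdaRing.adams P j x - (j : K) ^ n * x) ∈ LambdaRing.gammaFiltration P (n + 1)) :
    ∃ N : ℕ, 1 ≤ N ∧ (N : K) * x ∈ LambdaRing.gammaFiltration P n := by
  obtain ⟨N, hN1, hN⟩ := hx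
  obtain ⟨ψ, hψ⟩ := Groth.Agent.S3285.result K P hK j
  have key : ∀ k, k ≤ n → ∃ M : ℕ, 1 ≤ M ∧ (M : K) * x ∈ gammaFiltration P k := by
    intro k
    induction k with
    | zero =>
      intro _
      exact ⟨1, le_rfl, by rw [filt_zero]; trivial⟩
    | succ k ih =>
      intro hk
      obtain ⟨M, hM1, hM⟩ := ih (by omega)
      have h1 := adams_sub_mem P hK j k ((M : K) * x) hM
      rw [← hψ, map_mul, map_natCast, hψ] at h1
      have h2 : (N : K) * (adams P j x - (j : K) ^ n * x) ∈ gammaFiltration P (k + 1) :=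
        filt_anti P (by omega) hN
      have hlt : j ^ k < j ^ n := Nat.pow_lt_pow_right (by omega) (by omega)
      refine ⟨N * M * (j ^ n - j ^ k), ?_, ?_⟩
      · have : 1 ≤ j ^ n - j ^ k := by omega
        calc 1 = 1 * 1 * 1 := by norm_num
          _ ≤ N * M * (j ^ n - j ^ k) := by gcongr
      · have h3 : ((N * M * (j ^ n - j ^ k) : ℕ) : K) * x =
            (N : K) * ((M : K) * adams P j x - (j : K) ^ k * ((M : K) * x)) -
              (M : K) * ((N : K) * (adams P j x - (j : K) ^ n * x)) := by
          rw [Nat.cast_mul, Nat.cast_mul, Nat.cast_sub hlt.le]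
          push_cast
          ring
        rw [h3]
        exact AddSubgroup.sub_mem _ (smul_mem P _ h1) (smul_mem P _ h2)
  exact key n le_rfl

end Groth.Agent.S3795
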