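import Groth.Statements.S3802
import Groth.Agent.Lib.Helper16.KRRPoly
import Mathlib.Tactic
-- import your own Groth.Agent.* helpers here

set_option autoImplicit false
universe v u
open CategoryTheory CategoryTheory.Limits AlgebraicGeometry
attribute [local instance] HasDerivedCategory.standard
open KRR

namespace Groth.Agent.S3802

open LambdaRing Finset Groth.Agent.Lib.Helper20.LR Groth.Agent.Lib.Helper16.KRRFunctional
  Groth.Agent.Lib.Helper16.KRRLam Groth.Agent.Lib.Helper16.KRRPoly
open Polynomial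


/-- Let K be a λ-ring with positive structure having the splitting property, c positive with ε(c) = r +
1, and K_c = K[T]/(p_c) with generator ℓ, equipped with a λ-structure extending that of K with
λ^i(ℓ) = 0 for i ≥ 2 and a positive structure making K ⟶ K_c an extension with ℓ a line element and
c - ℓ positive (when r ≥ 1), having the splitting property; let f : K_c ⟶ K be the associated
K-linear functional (f(ℓ^i) = σ^i(c) for i ≤ r). If z ∈ K_c satisfies z (1 - ℓ) = 0, then z = f(z) ·
λ_{-1}(c - ℓ), where λ_{-1}(c - ℓ) = Σ_{i ≤ r} (-1)^i λ^i(c - ℓ). -/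
theorem result (K : Type v) [CommRing K] [LambdaRing.LambdaOps K] (P : LambdaRing.PosStructure K) (hK : LambdaRing.HasSplitting K P) (c : K) (hc : c ∈ P.pos) (r : ℕ) (hr : P.aug c = r + 1)
    (inst : LambdaRing.LambdaOps (AdjoinRoot (KRR.extPoly P c))) (Pc : @LambdaRing.PosStructure _ _ inst)
    (hext : @LambdaRing.IsExtension K _ _ _ _ inst P Pc (AdjoinRoot.of (KRR.extPoly P c)))
    (hroot : ∀ i : ℕ, 2 ≤ i → @LambdaRing.LambdaOps.lam _ _ inst i (AdjoinRoot.root (KRR.extPoly P c)) = 0)
    (hline : @LambdaRing.PosStructure.IsLine _ _ inst Pc (AdjoinRoot.root (KRR.extPoly P c)))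
    (hpos : 1 ≤ r → AdjoinRoot.of (KRR.extPoly P c) c - AdjoinRoot.root (KRR.extPoly P c) ∈ (@LambdaRing.PosStructure.pos _ _ inst Pc))
    (hsplit : @LambdaRing.HasSplitting _ _ inst Pc)
    (f : AdjoinRoot (KRR.extPoly P c) →ₗ[K] K)
    (hf : ∀ i : ℕ, i ≤ r → f (AdjoinRoot.root (KRR.extPoly P c) ^ i) = KRR.sigma i c)
    (z : AdjoinRoot (KRR.extPoly P c)) (hz : z * (1 - AdjoinRoot.root (KRR.extPoly P c)) = 0) :
    z = AdjoinRoot.of (KRR.extPoly P c) (f z) *
      @KRR.lamAlt _ _ inst Pc (AdjoinRoot.of (KRR.extPoly P c) c - AdjoinRoot.root (KRR.extPoly P c)) := by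
  let _ := inst
  have hKnt : Nontrivial K := by
    obtain ⟨x, hx⟩ := P.aug_surjective 1
    refine ⟨⟨x, 0, ?_⟩⟩
    intro h
    rw [h, map_zero] at hx
    exact zero_ne_one hx
  have hm : (P.aug c).toNat = r + 1 := by rw [hr]; omega
  have hmonic : (KRR.extPoly P c).Monic := extPoly_monic P c (r + 1) hm
  have hdeg : (KRR.extPoly P c).natDegree = r + 1 := extPoly_natDegree P c (r + 1) hm
  have haugq : Pc.aug (AdjoinRoot.of (KRR.extPoly P c) c - AdjoinRoot.root (KRR.extPoly P c)) = r := by
    rw [map_sub, hext.aug_comp, hr, hline.2]; ring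
  -- λ^{r+1}(q) = 0
  have hqtop : LambdaOps.lam (r + 1)
      (AdjoinRoot.of (KRR.extPoly P c) c - AdjoinRoot.root (KRR.extPoly P c)) = 0 := by
    rcases Nat.eq_zero_or_pos r with h0 | hpos'
    · subst h0
      have h1 := root_rel P c 1 hm (1 : AdjoinRoot (KRR.extPoly P c))
      rw [Finset.sum_range_succ, Finset.sum_range_one] at h1
      simp only [cc, pow_zero, one_mul, LambdaOps.lam_zero, pow_one, LambdaOps.lam_one, Nat.sub_zero,
        Nat.sub_self, mul_one, one_smul, neg_mul, neg_smul] at h1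
      rw [Algebra.smul_def, AdjoinRoot.algebraMap_eq, mul_one] at h1
      have h2 : AdjoinRoot.of (KRR.extPoly P c) c - AdjoinRoot.root (KRR.extPoly P c) = 0 := by
        linear_combination -h1
      rw [h2, LambdaOps.lam_one]
    · exact Pc.lam_eq_zero _ (hpos hpos') (r + 1) (by rw [haugq]; push_cast; omega)
  -- factorisation of p over A
  have hfac : (KRR.extPoly P c).map (AdjoinRoot.of (KRR.extPoly P c)) =
      (X - C (AdjoinRoot.root (KRR.extPoly P c))) *
        ∑ i ∈ range (r + 1), C ((-1 : AdjoinRoot (KRR.extPoly P c)) ^ i * LambdaOps.lam i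
          (AdjoinRoot.of (KRR.extPoly P c) c - AdjoinRoot.root (KRR.extPoly P c))) * X ^ (r - i) := by
    rw [horner_factor' (fun i => (-1 : AdjoinRoot (KRR.extPoly P c)) ^ i * LambdaOps.lam i
          (AdjoinRoot.of (KRR.extPoly P c) c - AdjoinRoot.root (KRR.extPoly P c)))
        (AdjoinRoot.root (KRR.extPoly P c)) r (by simp only [hqtop, mul_zero])]
    rw [map_extPoly P c _ (r + 1) hm]
    apply Finset.sum_congr rfl
    intro i _
    congr 2
    rw [cc, map_mul, map_pow, map_neg, map_one, hext.isLambdaHom]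
    cases i with
    | zero => simp [Aseq, LambdaOps.lam_zero]
    | succ i =>
      have h3 := lam_succ_add_line (AdjoinRoot.of (KRR.extPoly P c) c - AdjoinRoot.root (KRR.extPoly P c))
        (AdjoinRoot.root (KRR.extPoly P c)) hroot i
      rw [sub_add_cancel] at h3
      rw [h3]
      simp only [Aseq]
      ring
  -- z ℓ = z, hence ℓ^k z = z
  have hzl : AdjoinRoot.root (KRR.extPoly P c) * z = z := by linear_combination -hz
  -- ℓ is a unit
  obtain ⟨linv, hlinv⟩ : ∃ linv : AdjoinRoot (KRR.extPoly P c),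
      linv * AdjoinRoot.root (KRR.extPoly P c) = 1 := by
    have h1 := Pc.isUnit_lam _ hline.1
    rw [hline.2] at h1
    simp only [Int.toNat_one, LambdaOps.lam_one] at h1
    obtain ⟨u, hu⟩ := h1
    exact ⟨↑u⁻¹, by rw [← hu]; exact u.inv_mul⟩
  have hzinv : ∀ k : ℕ, linv ^ k * z = z := by
    intro k
    induction k with
    | zero => simp
    | succ k ih =>
      have : linv * z = z := by
        calc linv * z = linv * (AdjoinRoot.root (KRR.extPoly P c) * z) := by rw [hzl]
          _ = z := by rw [← mul_assoc, hlinv, one_mul]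
      rw [pow_succ, mul_assoc, this, ih]
  -- polynomial representative of z of degree ≤ r
  obtain ⟨Z₀, hZ₀⟩ := AdjoinRoot.mk_surjective z
  have hZ : AdjoinRoot.mk (KRR.extPoly P c) (Z₀ %ₘ KRR.extPoly P c) = z := by
    rw [← hZ₀, AdjoinRoot.mk_eq_mk]
    refine ⟨-(Z₀ /ₘ KRR.extPoly P c), ?_⟩
    have := Polynomial.modByMonic_add_div Z₀ (KRR.extPoly P c)
    linear_combination this
  have hp1 : KRR.extPoly P c ≠ 1 := by
    intro h
    rw [h, Polynomial.natDegree_one] at hdeg
    omega
  have hZdeg : (Z₀ %ₘ KRR.extPoly P c).natDegree < r + 1 := by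
    rw [← hdeg]
    exact Polynomial.natDegree_modByMonic_lt Z₀ hmonic hp1
  obtain ⟨Z, hZ, hZdeg⟩ : ∃ Z : K[X], AdjoinRoot.mk (KRR.extPoly P c) Z = z ∧ Z.natDegree < r + 1 :=
    ⟨_, hZ, hZdeg⟩

  -- (X - 1) Z = a p
  have hG : (X - 1) * Z = C (Z.coeff r) * KRR.extPoly P c := by
    have hdvd : KRR.extPoly P c ∣ (X - 1) * Z - C (Z.coeff r) * KRR.extPoly P c := by
      rw [← AdjoinRoot.mk_eq_zero, map_sub, map_mul, map_mul, map_sub, map_one, AdjoinRoot.mk_X, hZ,
        AdjoinRoot.mk_self, mul_zero, sub_zero]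
      linear_combination -hz
    have hlt : ((X - 1) * Z - C (Z.coeff r) * KRR.extPoly P c).degree < (KRR.extPoly P c).degree := by
      rw [Polynomial.degree_eq_natDegree hmonic.ne_zero, hdeg, Polynomial.degree_lt_iff_coeff_zero]
      intro m hm'
      obtain ⟨k, rfl⟩ : ∃ k, m = k + 1 := ⟨m - 1, by omega⟩
      rw [Polynomial.coeff_sub, sub_mul, one_mul, Polynomial.coeff_sub, Polynomial.coeff_X_mul,
        Polynomial.coeff_C_mul, Polynomial.coeff_eq_zero_of_natDegree_lt (p := Z) (n := k + 1) (by omega)]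
      rcases Nat.eq_or_lt_of_le hm' with h | h
      · have hk : k = r := by omega
        subst hk
        have h1 : (KRR.extPoly P c).coeff (k + 1) = 1 := by
          rw [← hdeg]; exact hmonic.coeff_natDegree
        rw [h1]; ring
      · rw [Polynomial.coeff_eq_zero_of_natDegree_lt (p := Z) (n := k) (by omega),
          Polynomial.coeff_eq_zero_of_natDegree_lt (p := KRR.extPoly P c) (n := k + 1) (by omega)]
        ring
    by_contra hne
    exact hmonic.not_dvd_of_degree_lt (fun h0 => hne (sub_eq_zero.mp h0)) hlt hdvd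
  -- pass to A[X]
  have hG' : (X - 1) * Z.map (AdjoinRoot.of (KRR.extPoly P c)) =
      C (AdjoinRoot.of (KRR.extPoly P c) (Z.coeff r)) * ((X - C (AdjoinRoot.root (KRR.extPoly P c))) *
        ∑ i ∈ range (r + 1), C ((-1 : AdjoinRoot (KRR.extPoly P c)) ^ i * LambdaOps.lam i
          (AdjoinRoot.of (KRR.extPoly P c) c - AdjoinRoot.root (KRR.extPoly P c))) * X ^ (r - i)) := by
    have := congrArg (Polynomial.map (AdjoinRoot.of (KRR.extPoly P c))) hG
    rw [Polynomial.map_mul, Polynomial.map_sub, Polynomial.map_X, Polynomial.map_one,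
      Polynomial.map_mul, Polynomial.map_C, hfac] at this
    exact this
  have hev : (Z.map (AdjoinRoot.of (KRR.extPoly P c))).eval (AdjoinRoot.root (KRR.extPoly P c)) = z := by
    rw [Polynomial.eval_map, ← hZ, ← AdjoinRoot.aeval_eq, Polynomial.aeval_def, AdjoinRoot.algebraMap_eq]
  have hW : Z.map (AdjoinRoot.of (KRR.extPoly P c)) = C z + (X - C (AdjoinRoot.root (KRR.extPoly P c))) *
      (Z.map (AdjoinRoot.of (KRR.extPoly P c)) /ₘ (X - C (AdjoinRoot.root (KRR.extPoly P c)))) := by
    have h1 := Polynomial.modByMonic_add_div (Z.map (AdjoinRoot.of (KRR.extPoly P c)))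
      (X - C (AdjoinRoot.root (KRR.extPoly P c)))
    rw [Polynomial.modByMonic_X_sub_C_eq_C_eval, hev] at h1
    exact h1.symm
  set W := Z.map (AdjoinRoot.of (KRR.extPoly P c)) /ₘ (X - C (AdjoinRoot.root (KRR.extPoly P c))) with hWdef
  have hCz : (C (AdjoinRoot.root (KRR.extPoly P c)) : (AdjoinRoot (KRR.extPoly P c))[X]) * C z = C z := by
    rw [← Polynomial.C_mul, hzl]
  have hcancel : C z + (X - 1) * W = C (AdjoinRoot.of (KRR.extPoly P c) (Z.coeff r)) *
        ∑ i ∈ range (r + 1), C ((-1 : AdjoinRoot (KRR.extPoly P c)) ^ i * LambdaOps.lam i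
          (AdjoinRoot.of (KRR.extPoly P c) c - AdjoinRoot.root (KRR.extPoly P c))) * X ^ (r - i) := by
    have hreg := (Polynomial.monic_X_sub_C (AdjoinRoot.root (KRR.extPoly P c))).isRegular.left
    apply hreg
    change (X - C (AdjoinRoot.root (KRR.extPoly P c))) * (C z + (X - 1) * W) = (X - C (AdjoinRoot.root (KRR.extPoly P c))) * _
    have h1 : (X - C (AdjoinRoot.root (KRR.extPoly P c))) * (C z + (X - 1) * W) =
        (X - 1) * Z.map (AdjoinRoot.of (KRR.extPoly P c)) := by
      rw [hW]
      linear_combination -hCz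
    rw [h1, hG']
    ring
  have hfinal := congrArg (Polynomial.eval 1) hcancel
  rw [Polynomial.eval_add, Polynomial.eval_C, Polynomial.eval_mul, Polynomial.eval_sub, Polynomial.eval_X,
    Polynomial.eval_one, sub_self, zero_mul, add_zero, Polynomial.eval_mul, Polynomial.eval_C,
    Polynomial.eval_finset_sum] at hfinal
  -- the sum is λ_{-1}(q)
  have hlamAlt : ∑ i ∈ range (r + 1), Polynomial.eval 1 (C ((-1 : AdjoinRoot (KRR.extPoly P c)) ^ i * LambdaOps.lam i
          (AdjoinRoot.of (KRR.extPoly P c) c - AdjoinRoot.root (KRR.extPoly P c))) * X ^ (r - i)) =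
      KRR.lamAlt Pc (AdjoinRoot.of (KRR.extPoly P c) c - AdjoinRoot.root (KRR.extPoly P c)) := by
    unfold KRR.lamAlt
    rw [haugq, Int.toNat_natCast]
    apply Finset.sum_congr rfl
    intro i _
    simp
  rw [hlamAlt] at hfinal
  -- f z = top coefficient
  have hf1 := part1 K P c hc r hr f hf
  have hf2 := part2 K P c hc r hr f hf1 linv hlinv
  have hzsum : z = ∑ k ∈ range (r + 1), AdjoinRoot.of (KRR.extPoly P c) (Z.coeff k) *
      AdjoinRoot.root (KRR.extPoly P c) ^ k := by
    have h1 := Polynomial.eval_eq_sum_range' (p := Z.map (AdjoinRoot.of (KRR.extPoly P c))) (n := r + 1)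
      (lt_of_le_of_lt Polynomial.natDegree_map_le hZdeg) (AdjoinRoot.root (KRR.extPoly P c))
    rw [hev] at h1
    rw [h1]
    apply Finset.sum_congr rfl
    intro k _
    rw [Polynomial.coeff_map]
  have hfz : f z = Z.coeff r := by
    have h1 : z = ∑ k ∈ range (r + 1), (Z.coeff k) •
        (AdjoinRoot.root (KRR.extPoly P c) ^ k * linv ^ r) := by
      conv_lhs => rw [← hzinv r, hzsum, Finset.mul_sum]
      apply Finset.sum_congr rfl
      intro k _
      rw [Algebra.smul_def, AdjoinRoot.algebraMap_eq]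
      ring
    conv_lhs => rw [h1]
    rw [map_sum, Finset.sum_range_succ]
    have h2 : ∑ k ∈ range r, f ((Z.coeff k) •
        (AdjoinRoot.root (KRR.extPoly P c) ^ k * linv ^ r)) = 0 := by
      apply Finset.sum_eq_zero
      intro k hk
      rw [Finset.mem_range] at hk
      have : r = k + (r - k) := by omega
      rw [map_smul, this, pow_mul_inv_pow' _ _ hlinv, hf2 (r - k) (by omega) (by omega), smul_zero]
    have h3 : AdjoinRoot.root (KRR.extPoly P c) ^ r * linv ^ r = AdjoinRoot.root (KRR.extPoly P c) ^ 0 := by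
      have := pow_mul_inv_pow' (AdjoinRoot.root (KRR.extPoly P c)) linv hlinv r 0
      rw [add_zero, pow_zero] at this
      rw [this, pow_zero]
    rw [h2, zero_add, map_smul, h3, hf1 0, sigma_zero, smul_eq_mul, mul_one]
  rw [hfz]
  exact hfinal

end Groth.Agent.S3802
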