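import Groth.Statements.S3805
import Mathlib.Tactic

set_option autoImplicit false
universe u
open scoped TensorProduct
open PP16

namespace Groth.Agent.S3805

/-- For an A-algebra B, the image of the principal-part map d^n : B → P^n_{B/A} generates P^n_{B/A} as a
B-module (for the B-module structure through the first factor). -/
theorem result (n : ℕ) (A B : Type u) [CommRing A] [CommRing B] [Algebra A B] :
    Submodule.span B (Set.range (PP16.dn n A B)) = ⊤ := by
  rw [eq_top_iff]
  rintro z -
  obtain ⟨w, rfl⟩ := Ideal.Quotient.mk_surjective z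
  induction w using TensorProduct.induction_on with
  | zero => simp
  | tmul x y =>
    have h : (Ideal.Quotient.mk (KaehlerDifferential.ideal A B ^ (n + 1))) (x ⊗ₜ[A] y) =
        x • PP16.dn n A B y := by
      change _ = x • (Ideal.Quotient.mk (KaehlerDifferential.ideal A B ^ (n + 1))) ((1 : B) ⊗ₜ[A] y)
      rw [← Ideal.Quotient.mkₐ_eq_mk B, ← map_smul, TensorProduct.smul_tmul', smul_eq_mul, mul_one]
    rw [h]
    exact Submodule.smul_mem _ _ (Submodule.subset_span ⟨y, rfl⟩)
  | add a b ha hb =>
    rw [map_add]
    exact Submodule.add_mem _ ha hb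

end Groth.Agent.S3805
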