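import Groth.Statements.S3806
import Mathlib.RingTheory.TensorProduct.IsBaseChangeRightExact
import Mathlib.RingTheory.IsTensorProduct

set_option autoImplicit false
universe u
open scoped TensorProduct
attribute [local instance] PP16.mapAlgebra PP16.isScalarTower_mapAlgebra
open PP16

namespace Groth.Agent.S3806


section aux

variable (A B A' B' : Type u) [CommRing A] [CommRing B] [Algebra A B]
    [CommRing A'] [CommRing B'] [Algebra A' B'] [Algebra A A'] [Algebra B B'] [Algebra A B']
    [IsScalarTower A A' B'] [IsScalarTower A B B']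

private lemma tensorMap_algebraMap (b : B) :
    tensorMap A B A' B' (algebraMap B (B ⊗[A] B) b) = algebraMap B (B' ⊗[A'] B') b := by
  rw [Algebra.TensorProduct.algebraMap_apply, Algebra.TensorProduct.algebraMap_apply,
    tensorMap_tmul, map_one]
  rfl

/-- `tensorMap` as a `B`-linear map for the left structures. -/
private noncomputable def ψ : B ⊗[A] B →ₗ[B] B' ⊗[A'] B' :=
  { (tensorMap A B A' B').toLinearMap with
    map_smul' := fun b x => by
      change tensorMap A B A' B' (b • x) = b • tensorMap A B A' B' x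
      rw [Algebra.smul_def, map_mul, tensorMap_algebraMap, ← Algebra.smul_def] }

private lemma ψ_apply (x : B ⊗[A] B) : ψ A B A' B' x = tensorMap A B A' B' x := rfl

variable [Algebra.IsPushout A B A' B']

private lemma ψ_isBaseChange : IsBaseChange B' (ψ A B A' B') := by
  have hf1 : IsBaseChange B (TensorProduct.mk A B B 1) := TensorProduct.isBaseChange A B B
  have hg0 : IsBaseChange A' (IsScalarTower.toAlgHom A B B').toLinearMap :=
    (Algebra.IsPushout.symm (inferInstance : Algebra.IsPushout A B A' B')).out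
  have hg1 : IsBaseChange B' (TensorProduct.mk A' B' B' 1) := TensorProduct.isBaseChange A' B' B'
  have hc := IsBaseChange.comp hg0 hg1
  refine IsBaseChange.of_comp hf1 (h := ψ A B A' B') ?_
  convert hc using 1
  ext b
  simp [ψ_apply, tensorMap_tmul]

omit [Algebra.IsPushout A B A' B'] in
private lemma ideal_eq_map [Algebra.IsPushout A B A' B'] :
    KaehlerDifferential.ideal A' B' = (KaehlerDifferential.ideal A B).map (tensorMap A B A' B') := by
  refine le_antisymm ?_ (ideal_map_tensorMap_le A B A' B')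
  rw [← KaehlerDifferential.span_range_eq_ideal, Ideal.span_le]
  rintro _ ⟨s, rfl⟩
  have hg0 : IsBaseChange A' (IsScalarTower.toAlgHom A B B').toLinearMap :=
    (Algebra.IsPushout.symm (inferInstance : Algebra.IsPushout A B A' B')).out
  refine hg0.inductionOn s
    (fun s => (1 : B') ⊗ₜ[A'] s - s ⊗ₜ[A'] (1 : B') ∈
      (KaehlerDifferential.ideal A B).map (tensorMap A B A' B')) ?_ ?_ ?_ ?_
  · simp
  · intro b
    have : (1 : B') ⊗ₜ[A'] (IsScalarTower.toAlgHom A B B').toLinearMap b
        - (IsScalarTower.toAlgHom A B B').toLinearMap b ⊗ₜ[A'] (1 : B')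
        = tensorMap A B A' B' ((1 : B) ⊗ₜ[A] b - b ⊗ₜ[A] (1 : B)) := by
      rw [map_sub, tensorMap_tmul, tensorMap_tmul, map_one]
      rfl
    rw [this]
    exact Ideal.mem_map_of_mem _ (KaehlerDifferential.one_smul_sub_smul_one_mem_ideal A b)
  · intro a' s hs
    have : (1 : B') ⊗ₜ[A'] (a' • s) - (a' • s) ⊗ₜ[A'] (1 : B')
        = algebraMap A' (B' ⊗[A'] B') a' * ((1 : B') ⊗ₜ[A'] s - s ⊗ₜ[A'] (1 : B')) := by
      rw [← Algebra.smul_def, smul_sub, TensorProduct.tmul_smul, ← TensorProduct.smul_tmul']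
    rw [this]
    exact Ideal.mul_mem_left _ _ hs
  · intro s₁ s₂ h₁ h₂
    have : (1 : B') ⊗ₜ[A'] (s₁ + s₂) - (s₁ + s₂) ⊗ₜ[A'] (1 : B')
        = ((1 : B') ⊗ₜ[A'] s₁ - s₁ ⊗ₜ[A'] (1 : B')) + ((1 : B') ⊗ₜ[A'] s₂ - s₂ ⊗ₜ[A'] (1 : B')) := by
      rw [TensorProduct.tmul_add, TensorProduct.add_tmul]; abel
    rw [this]
    exact Ideal.add_mem _ h₁ h₂

end aux

/-- Let A → A' be a ring map, B an A-algebra and B' = B ⊗_A A'. Then the canonical map P^n_{B/A} ⊗_B B'
→ P^n_{B'/A'} induced by functoriality of principal parts is an isomorphism; that is, the square B →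
P^n_{B/A}, B → B', with P^n_{B'/A'} in the corner, is a pushout of rings. -/
theorem result (n : ℕ) (A B A' B' : Type u) [CommRing A] [CommRing B] [Algebra A B]
    [CommRing A'] [CommRing B'] [Algebra A' B'] [Algebra A A'] [Algebra B B'] [Algebra A B']
    [IsScalarTower A A' B'] [IsScalarTower A B B'] [Algebra.IsPushout A B A' B'] :
    Algebra.IsPushout B (PP16.P n A B) B' (PP16.P n A' B') := by
  refine Algebra.IsPushout.symm ⟨?_⟩
  set J : Ideal (B ⊗[A] B) := (KaehlerDifferential.ideal A B) ^ (n + 1) with hJ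
  set J' : Ideal (B' ⊗[A'] B') := (KaehlerDifferential.ideal A' B') ^ (n + 1) with hJ'
  have hJJ' : J' = J.map (tensorMap A B A' B') := by
    rw [hJ', hJ, Ideal.map_pow, ← ideal_eq_map]
  have hψ := ψ_isBaseChange A B A' B'
  -- the maps
  let f : ↥J →ₗ[B] B ⊗[A] B := J.subtype.restrictScalars B
  let g : B ⊗[A] B →ₗ[B] P n A B := (Ideal.Quotient.mkₐ B J).toLinearMap
  let f' : B' ⊗[B] ↥J →ₗ[B'] B' ⊗[A'] B' := LinearMap.liftBaseChange B' ((ψ A B A' B').comp f)
  let g' : B' ⊗[A'] B' →ₗ[B'] P n A' B' := (Ideal.Quotient.mkₐ B' J').toLinearMap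
  have hf'range : ∀ y, f' y ∈ J' := by
    intro y
    induction y using TensorProduct.induction_on with
    | zero => simp
    | tmul b' j =>
      rw [LinearMap.liftBaseChange_tmul, Algebra.smul_def]
      refine Ideal.mul_mem_left _ _ ?_
      rw [hJJ']
      exact Ideal.mem_map_of_mem _ j.2
    | add x y hx hy => rw [map_add]; exact Ideal.add_mem _ hx hy
  have hmul : ∀ (t' : B' ⊗[A'] B') (j : ↥J), t' * tensorMap A B A' B' j ∈ LinearMap.range f' := by
    intro t' j
    refine hψ.inductionOn t' (fun t' => t' * tensorMap A B A' B' j ∈ LinearMap.range f') ?_ ?_ ?_ ?_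
    · simp
    · intro t
      refine ⟨(1 : B') ⊗ₜ[B] (⟨t * j, Ideal.mul_mem_left _ _ j.2⟩ : ↥J), ?_⟩
      rw [LinearMap.liftBaseChange_tmul, one_smul]
      change tensorMap A B A' B' (t * j) = _
      rw [map_mul]; rfl
    · rintro b' t' ⟨y, hy⟩
      refine ⟨b' • y, ?_⟩
      rw [map_smul, hy, smul_mul_assoc]
    · rintro t₁ t₂ ⟨y₁, h₁⟩ ⟨y₂, h₂⟩
      exact ⟨y₁ + y₂, by rw [map_add, h₁, h₂, add_mul]⟩
  have hsm : ∀ (t' : B' ⊗[A'] B') (y : B' ⊗[B] ↥J), t' • f' y ∈ LinearMap.range f' := by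
    intro t' y
    induction y using TensorProduct.induction_on with
    | zero => simp
    | tmul b' j =>
      rw [LinearMap.liftBaseChange_tmul, smul_eq_mul, mul_smul_comm]
      obtain ⟨z, hz⟩ := hmul t' j
      exact ⟨b' • z, by rw [map_smul, hz]; rfl⟩
    | add y₁ y₂ h₁ h₂ =>
      rw [map_add, smul_add]; exact add_mem h₁ h₂
  have hrange : ∀ x ∈ J', x ∈ LinearMap.range f' := by
    intro x hx
    rw [hJJ', Ideal.map] at hx
    refine Submodule.span_induction ?_ ?_ ?_ ?_ hx
    · rintro _ ⟨j, hj, rfl⟩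
      have := hmul 1 ⟨j, hj⟩
      rwa [one_mul] at this
    · exact zero_mem _
    · intro x y _ _ hx hy; exact add_mem hx hy
    · intro t' x _ hx
      obtain ⟨y, rfl⟩ := hx
      exact hsm t' y
  refine IsBaseChange.of_right_exact B' (TensorProduct.mk B B' ↥J 1) (ψ A B A' B')
    (IsScalarTower.toAlgHom B (P n A B) (P n A' B')).toLinearMap (f := f) (g := g) (f' := f') (g' := g')
    ?_ ?_ (TensorProduct.isBaseChange B ↥J B') hψ ?_ ?_ ?_ ?_
  · ext j
    simp [f']
  · ext t
    rfl
  · intro t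
    constructor
    · intro ht
      exact ⟨⟨t, Ideal.Quotient.eq_zero_iff_mem.1 ht⟩, rfl⟩
    · rintro ⟨j, rfl⟩
      exact Ideal.Quotient.eq_zero_iff_mem.2 j.2
  · exact Ideal.Quotient.mk_surjective
  · intro t'
    constructor
    · intro ht
      exact hrange t' (Ideal.Quotient.eq_zero_iff_mem.1 ht)
    · rintro ⟨y, rfl⟩
      exact Ideal.Quotient.eq_zero_iff_mem.2 (hf'range y)
  · exact Ideal.Quotient.mk_surjective

end Groth.Agent.S3806
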