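import Groth.Statements.S3807
-- import your own Groth.Agent.* helpers here

set_option autoImplicit false
universe u
open scoped TensorProduct
attribute [local instance] PP16.mapAlgebra PP16.isScalarTower_mapAlgebra
open PP16

namespace Groth.Agent.S3807

noncomputable section aux

variable (n : ℕ) (A B B' : Type u) [CommRing A] [CommRing B] [Algebra A B]
    [CommRing B'] [Algebra B B'] [Algebra A B'] [IsScalarTower A B B'] (S : Submonoid B) [IsLocalization S B']

private theorem augIdeal_pow : (augIdeal n A B) ^ (n + 1) = ⊥ := by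
  unfold augIdeal
  rw [← Ideal.map_pow, Ideal.map_quotient_self]

private theorem dn_sub_mem (b : B) : dn n A B b - algebraMap B (P n A B) b ∈ augIdeal n A B := by
  change Ideal.Quotient.mk _ ((1 : B) ⊗ₜ[A] b) - Ideal.Quotient.mk _ (b ⊗ₜ[A] (1 : B)) ∈ _
  rw [← map_sub]
  exact Ideal.mem_map_of_mem _ (KaehlerDifferential.one_smul_sub_smul_one_mem_ideal A b)

private theorem dn_sub_nilp (b : B) : IsNilpotent (dn n A B b - algebraMap B (P n A B) b) := by
  refine ⟨n + 1, ?_⟩
  have := Ideal.pow_mem_pow (dn_sub_mem n A B b) (n + 1)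
  rw [augIdeal_pow] at this
  exact this

abbrev Mm : Submonoid (P n A B) := S.map (algebraMap B (P n A B))
abbrev LL : Type u := Localization (Mm n A B S)

/-- left map -/
private def gL : B →ₐ[A] LL n A B S :=
  (IsScalarTower.toAlgHom A (P n A B) (LL n A B S)).comp (IsScalarTower.toAlgHom A B (P n A B))

private def gR : B →ₐ[A] LL n A B S :=
  (IsScalarTower.toAlgHom A (P n A B) (LL n A B S)).comp (dn n A B)

private theorem gL_unit (s : S) : IsUnit (gL n A B S s) := by
  have : algebraMap B (P n A B) s ∈ Mm n A B S := ⟨s, s.2, rfl⟩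
  exact IsLocalization.map_units (LL n A B S) ⟨_, this⟩

private theorem gR_unit (s : S) : IsUnit (gR n A B S s) := by
  have h1 : gR n A B S s = algebraMap (P n A B) (LL n A B S) (dn n A B s - algebraMap B (P n A B) s)
      + gL n A B S s := by
    simp [gR, gL]
  rw [h1]
  exact ((dn_sub_nilp n A B s).map _).isUnit_add_right_of_commute (gL_unit n A B S s) (by unfold Commute SemiconjBy; exact mul_comm (G := LL n A B S) _ _)

private def psiL : B' →ₐ[A] LL n A B S := IsLocalization.liftAlgHom (A := A) (R := B) (M := S) (S := B') (P := LL n A B S) (f := gL n A B S) (gL_unit n A B S)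
private def psiR : B' →ₐ[A] LL n A B S := IsLocalization.liftAlgHom (A := A) (R := B) (M := S) (S := B') (P := LL n A B S) (f := gR n A B S) (gR_unit n A B S)

private theorem psiL_alg (b : B) : psiL n A B B' S (algebraMap B B' b) = gL n A B S b := by
  simp [psiL]

private theorem psiR_alg (b : B) : psiR n A B B' S (algebraMap B B' b) = gR n A B S b := by
  simp [psiR]

private def psiT : B' ⊗[A] B' →ₐ[A] LL n A B S :=
  Algebra.TensorProduct.lift (psiL n A B B' S) (psiR n A B B' S) (fun _ _ => by unfold Commute SemiconjBy; exact mul_comm (G := LL n A B S) _ _)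

private abbrev JJ : Ideal (LL n A B S) := Ideal.map (algebraMap (P n A B) (LL n A B S)) (augIdeal n A B)

private theorem JJ_pow : (JJ n A B S) ^ (n + 1) = ⊥ := by
  unfold JJ
  have h := Ideal.map_pow (algebraMap (P n A B) (LL n A B S)) (augIdeal n A B) (n + 1)
  rw [augIdeal_pow, Ideal.map_bot] at h
  exact h.symm

private theorem psi_sub_mem (b' : B') : psiR n A B B' S b' - psiL n A B B' S b' ∈ JJ n A B S := by
  obtain ⟨b, s, rfl⟩ := IsLocalization.exists_mk'_eq S b'
  have hL : psiL n A B B' S (IsLocalization.mk' B' b s) * gL n A B S s = gL n A B S b := by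
    rw [← psiL_alg n A B B' S, ← psiL_alg n A B B' S, ← map_mul, IsLocalization.mk'_spec]
  have hR : psiR n A B B' S (IsLocalization.mk' B' b s) * gR n A B S s = gR n A B S b := by
    rw [← psiR_alg n A B B' S, ← psiR_alg n A B B' S, ← map_mul, IsLocalization.mk'_spec]
  have hu : IsUnit (gL n A B S s * gR n A B S s) := (gL_unit n A B S s).mul (gR_unit n A B S s)
  rw [← Ideal.unit_mul_mem_iff_mem _ hu]
  have h1 : gL n A B S s * gR n A B S s * (psiR n A B B' S (IsLocalization.mk' B' b s) -
      psiL n A B B' S (IsLocalization.mk' B' b s)) = gL n A B S s * gR n A B S b - gR n A B S s * gL n A B S b := by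
    rw [← hL, ← hR]; ring
  rw [h1]
  have h2 : gL n A B S s * gR n A B S b - gR n A B S s * gL n A B S b =
      algebraMap (P n A B) (LL n A B S) (algebraMap B (P n A B) s * (dn n A B b - algebraMap B (P n A B) b)
        - (dn n A B s - algebraMap B (P n A B) s) * algebraMap B (P n A B) b) := by
    simp only [gL, gR, AlgHom.comp_apply, IsScalarTower.coe_toAlgHom', map_sub, map_mul]
    ring
  rw [h2]
  apply Ideal.mem_map_of_mem
  exact sub_mem (Ideal.mul_mem_left _ _ (dn_sub_mem n A B b)) (Ideal.mul_mem_right _ _ (dn_sub_mem n A B s))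

private theorem psiT_map_le : (KaehlerDifferential.ideal A B').map (psiT n A B B' S) ≤ JJ n A B S := by
  have hsp := KaehlerDifferential.span_range_eq_ideal A B'
  rw [← hsp, Ideal.map_span, Ideal.span_le]
  rintro _ ⟨_, ⟨b', rfl⟩, rfl⟩
  have : psiT n A B B' S ((1 : B') ⊗ₜ[A] b' - b' ⊗ₜ[A] (1 : B')) = psiR n A B B' S b' - psiL n A B B' S b' := by
    simp [psiT]
  rw [SetLike.mem_coe, this]
  exact psi_sub_mem n A B B' S b'

private theorem psiT_kills (x : B' ⊗[A] B') (hx : x ∈ (KaehlerDifferential.ideal A B') ^ (n + 1)) :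
    psiT n A B B' S x = 0 := by
  have h := Ideal.pow_right_mono (psiT_map_le n A B B' S) (n + 1)
  have h' := Ideal.map_pow (psiT n A B B' S) (KaehlerDifferential.ideal A B') (n + 1)
  rw [JJ_pow] at h
  rw [← h'] at h
  exact (Ideal.mem_bot).1 (h (Ideal.mem_map_of_mem _ hx))

private def psi : P n A B' →ₐ[A] LL n A B S :=
  Ideal.Quotient.liftₐ _ (psiT n A B B' S) (psiT_kills n A B B' S)

private theorem psi_mk (y : B' ⊗[A] B') : psi n A B B' S (Ideal.Quotient.mk _ y) = psiT n A B B' S y := rfl

private theorem mk_tmul_eq (b c : B) : (Ideal.Quotient.mk ((KaehlerDifferential.ideal A B) ^ (n + 1)) (b ⊗ₜ[A] c)) =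
    algebraMap B (P n A B) b * dn n A B c := by
  change _ = Ideal.Quotient.mk _ (b ⊗ₜ[A] (1 : B)) * Ideal.Quotient.mk _ ((1 : B) ⊗ₜ[A] c)
  rw [← map_mul, Algebra.TensorProduct.tmul_mul_tmul, mul_one, one_mul]

private theorem psi_comp (x : P n A B) :
    psi n A B B' S (algebraMap (P n A B) (P n A B') x) = algebraMap (P n A B) (LL n A B S) x := by
  change psi n A B B' S (map n A B A B' x) = _
  obtain ⟨t, rfl⟩ := Ideal.Quotient.mk_surjective x
  induction t using TensorProduct.induction_on with
  | zero => simp
  | tmul b c =>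
    rw [map_mk, tensorMap_tmul, psi_mk, mk_tmul_eq, map_mul]
    simp only [psiT, Algebra.TensorProduct.lift_tmul, psiL_alg, psiR_alg, gL, gR, AlgHom.comp_apply,
      IsScalarTower.coe_toAlgHom']
  | add x y hx hy => rw [map_add, map_add, map_add, map_add, hx, hy]

private theorem map_unit (y : Mm n A B S) : IsUnit (algebraMap (P n A B) (P n A B') y) := by
  obtain ⟨_, ⟨s, hs, rfl⟩⟩ := y
  change IsUnit (map n A B A B' (algebraMap B (P n A B) s))
  rw [map_algebraMap]
  exact (IsLocalization.map_units B' ⟨s, hs⟩).map _

private def phiL : LL n A B S →ₐ[P n A B] P n A B' :=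
  IsLocalization.liftAlgHom (A := P n A B) (R := P n A B) (M := Mm n A B S) (S := LL n A B S) (P := P n A B')
    (f := Algebra.ofId (P n A B) (P n A B')) (map_unit n A B B' S)

private theorem psi_phiL (z : LL n A B S) : psi n A B B' S (phiL n A B B' S z) = z := by
  have h : ((psi n A B B' S).toRingHom.comp (phiL n A B B' S).toRingHom) = RingHom.id _ := by
    refine IsLocalization.ringHom_ext (R := P n A B) (Mm n A B S) (S := LL n A B S) (P := LL n A B S) ?_
    refine RingHom.ext fun x => ?_
    simp [phiL, psi_comp]
  exact congrArg (fun f => f z) h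

private theorem phiL_alg (x : P n A B) :
    phiL n A B B' S (algebraMap (P n A B) (LL n A B S) x) = map n A B A B' x := by
  simp [phiL]
  rfl

private theorem phiL_psiL (b' : B') : phiL n A B B' S (psiL n A B B' S b') = algebraMap B' (P n A B') b' := by
  have h : ((phiL n A B B' S).toRingHom.comp (psiL n A B B' S).toRingHom) = algebraMap B' (P n A B') := by
    refine IsLocalization.ringHom_ext S ?_
    refine RingHom.ext fun b => ?_
    have : phiL n A B B' S (psiL n A B B' S (algebraMap B B' b)) = algebraMap B' (P n A B') (algebraMap B B' b) := by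
      rw [psiL_alg]
      change phiL n A B B' S (algebraMap (P n A B) (LL n A B S) (algebraMap B (P n A B) b)) = _
      rw [phiL_alg, map_algebraMap]
    simpa using this
  exact congrArg (fun f => f b') h

private theorem phiL_psiR (b' : B') : phiL n A B B' S (psiR n A B B' S b') = dn n A B' b' := by
  have h : ((phiL n A B B' S).toRingHom.comp (psiR n A B B' S).toRingHom) = (dn n A B').toRingHom := by
    refine IsLocalization.ringHom_ext S ?_
    refine RingHom.ext fun b => ?_
    have : phiL n A B B' S (psiR n A B B' S (algebraMap B B' b)) = dn n A B' (algebraMap B B' b) := by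
      rw [psiR_alg]
      change phiL n A B B' S (algebraMap (P n A B) (LL n A B S) (dn n A B b)) = _
      rw [phiL_alg, map_dn]
    simpa using this
  exact congrArg (fun f => f b') h

private theorem phiL_psi (z : P n A B') : phiL n A B B' S (psi n A B B' S z) = z := by
  obtain ⟨t, rfl⟩ := Ideal.Quotient.mk_surjective z
  induction t using TensorProduct.induction_on with
  | zero => simp
  | tmul b c =>
    rw [psi_mk, mk_tmul_eq]
    simp only [psiT, Algebra.TensorProduct.lift_tmul, map_mul, phiL_psiL, phiL_psiR]
  | add x y hx hy => rw [map_add, map_add, map_add, hx, hy]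

private theorem main : IsLocalization (Mm n A B S) (P n A B') := by
  refine IsLocalization.isLocalization_of_algEquiv (Mm n A B S) (S := LL n A B S)
    (AlgEquiv.ofBijective (phiL n A B B' S) ⟨?_, ?_⟩)
  · exact Function.LeftInverse.injective (psi_phiL n A B B' S)
  · exact Function.RightInverse.surjective (phiL_psi n A B B' S)

end aux

/-- Let B be an A-algebra, S a multiplicative subset of B and B' = S⁻¹B. Then the canonical map
S⁻¹P^n_{B/A} → P^n_{B'/A} induced by functoriality is an isomorphism: P^n_{B'/A} is the localization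
of P^n_{B/A} at the image of S. -/
theorem result (n : ℕ) (A B B' : Type u) [CommRing A] [CommRing B] [Algebra A B]
    [CommRing B'] [Algebra B B'] [Algebra A B'] [IsScalarTower A B B'] (S : Submonoid B) [IsLocalization S B'] :
    IsLocalization (S.map (algebraMap B (PP16.P n A B))) (PP16.P n A B') := by
  exact main n A B B' S

end Groth.Agent.S3807
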