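import Groth.Statements.S3809
import Mathlib
-- import your own Groth.Agent.* helpers here

set_option autoImplicit false
universe u
open scoped TensorProduct
open PP16

namespace Groth.Agent.S3809

open TensorProduct


section
variable (A B C : Type u) [CommRing A] [CommRing B] [CommRing C]
    [Algebra A B] [Algebra B C] [Algebra A C] [IsScalarTower A B C]

lemma tensorMap_eq (x : C ⊗[A] C) :
    TensorProduct.mapOfCompatibleSMul B A B C C x = PP16.tensorMap A C B C x := by
  induction x using TensorProduct.induction_on with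
  | zero => simp
  | tmul c d => rw [PP16.tensorMap_tmul]; rfl
  | add x y hx hy => rw [map_add, map_add, hx, hy]

lemma ker_tensorMap :
    RingHom.ker (PP16.tensorMap A C B C) =
      Ideal.span (Set.range fun b : B =>
        (1 : C) ⊗ₜ[A] (algebraMap B C b) - (algebraMap B C b) ⊗ₜ[A] (1 : C)) := by
  apply le_antisymm
  · intro x hx
    rw [RingHom.mem_ker, ← tensorMap_eq] at hx
    have h1 : x ∈ LinearMap.ker (TensorProduct.mapOfCompatibleSMul B A B C C) := hx
    rw [TensorProduct.AlgebraTensorModule.ker_mapOfCompatibleSMul (R := A) B C (N := C)] at h1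
    set J := Ideal.span (Set.range fun b : B =>
        (1 : C) ⊗ₜ[A] (algebraMap B C b) - (algebraMap B C b) ⊗ₜ[A] (1 : C)) with hJ
    have h2 : Submodule.span B {x | ∃ (a : B) (m : C) (n : C),
        (a • m) ⊗ₜ[A] n - m ⊗ₜ[A] (a • n) = x} ≤ J.restrictScalars B := by
      rw [Submodule.span_le]
      rintro _ ⟨a, m, n, rfl⟩
      rw [SetLike.mem_coe, Submodule.restrictScalars_mem]
      have e : (a • m) ⊗ₜ[A] n - m ⊗ₜ[A] (a • n) =
          -((m ⊗ₜ[A] n) * ((1 : C) ⊗ₜ[A] (algebraMap B C a) - (algebraMap B C a) ⊗ₜ[A] (1 : C))) := by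
        rw [mul_sub, Algebra.TensorProduct.tmul_mul_tmul, Algebra.TensorProduct.tmul_mul_tmul,
          mul_one, mul_one, Algebra.smul_def, Algebra.smul_def, mul_comm m, mul_comm n]
        ring
      rw [e]
      exact neg_mem (Ideal.mul_mem_left _ _ (Ideal.subset_span ⟨a, rfl⟩))
    exact h2 h1
  · rw [Ideal.span_le]
    rintro _ ⟨b, rfl⟩
    rw [SetLike.mem_coe, RingHom.mem_ker, map_sub, PP16.tensorMap_tmul, PP16.tensorMap_tmul,
      map_one, sub_eq_zero]
    show (1 : C) ⊗ₜ[B] (algebraMap B C b) = (algebraMap B C b) ⊗ₜ[B] (1 : C)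
    rw [Algebra.algebraMap_eq_smul_one, TensorProduct.tmul_smul, TensorProduct.smul_tmul']


end


/-- Let A → B → C be ring maps. Then the canonical map P^n_{C/A} → P^n_{C/B} is surjective, and its
kernel is the ideal generated by the image, under the canonical map P^n_{B/A} → P^n_{C/A}, of the
augmentation ideal of P^n_{B/A}. -/
theorem result (n : ℕ) (A B C : Type u) [CommRing A] [CommRing B] [CommRing C]
    [Algebra A B] [Algebra B C] [Algebra A C] [IsScalarTower A B C] :
    Function.Surjective (PP16.map n A C B C) ∧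
      RingHom.ker (PP16.map n A C B C) = (PP16.augIdeal n A B).map (PP16.map n A B A C) := by
  set IA := KaehlerDifferential.ideal A C with hIA
  set IB := KaehlerDifferential.ideal B C with hIB
  set t := PP16.tensorMap A C B C with ht
  have htsurj : Function.Surjective t := by
    intro y
    obtain ⟨x, hx⟩ := TensorProduct.mapOfCompatibleSMul_surjective B A B C C y
    exact ⟨x, by rw [ht, ← tensorMap_eq, hx]⟩
  have hImap : IA.map t = IB := by
    rw [hIA, hIB, ← KaehlerDifferential.span_range_eq_ideal,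
      ← KaehlerDifferential.span_range_eq_ideal, Ideal.map_span]
    congr 1
    ext z
    constructor
    · rintro ⟨_, ⟨s, rfl⟩, rfl⟩
      refine ⟨s, ?_⟩
      rw [map_sub, ht, PP16.tensorMap_tmul, PP16.tensorMap_tmul, map_one]
      rfl
    · rintro ⟨c, rfl⟩
      refine ⟨_, ⟨c, rfl⟩, ?_⟩
      rw [map_sub, ht, PP16.tensorMap_tmul, PP16.tensorMap_tmul, map_one]
      rfl
  have hIpow : (IA ^ (n + 1)).map t = IB ^ (n + 1) := by
    have e := Ideal.map_pow t IA (n + 1)
    rw [e, hImap]
  have hmk : ∀ x : C ⊗[A] C, PP16.map n A C B C (Ideal.Quotient.mk _ x) =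
      Ideal.Quotient.mk _ (t x) := fun x => rfl
  refine ⟨?_, ?_⟩
  · intro y
    obtain ⟨z, rfl⟩ := Ideal.Quotient.mk_surjective y
    obtain ⟨x, rfl⟩ := htsurj z
    exact ⟨Ideal.Quotient.mk _ x, hmk x⟩
  · have hcomap : Ideal.comap t (IB ^ (n + 1)) = IA ^ (n + 1) ⊔ RingHom.ker t := by
      rw [← hIpow, Ideal.comap_map_of_surjective t htsurj, RingHom.ker_eq_comap_bot]
    have hker : RingHom.ker (PP16.map n A C B C) =
        (Ideal.comap t (IB ^ (n + 1))).map (Ideal.Quotient.mk (IA ^ (n + 1))) := by
      apply le_antisymm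
      · intro y hy
        obtain ⟨x, rfl⟩ := Ideal.Quotient.mk_surjective y
        rw [RingHom.mem_ker, hmk, Ideal.Quotient.eq_zero_iff_mem] at hy
        exact Ideal.mem_map_of_mem _ (Ideal.mem_comap.mpr hy)
      · rw [Ideal.map_le_iff_le_comap]
        intro x hx
        rw [Ideal.mem_comap, RingHom.mem_ker, hmk, Ideal.Quotient.eq_zero_iff_mem]
        exact hx
    have hgen : Ideal.map (PP16.tensorMap A B A C) (KaehlerDifferential.ideal A B) =
        RingHom.ker t := by
      rw [ht, ker_tensorMap, ← KaehlerDifferential.span_range_eq_ideal, Ideal.map_span]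
      congr 1
      ext z
      constructor
      · rintro ⟨_, ⟨s, rfl⟩, rfl⟩
        refine ⟨s, ?_⟩
        rw [map_sub, PP16.tensorMap_tmul, PP16.tensorMap_tmul, map_one]
      · rintro ⟨s, rfl⟩
        refine ⟨_, ⟨s, rfl⟩, ?_⟩
        rw [map_sub, PP16.tensorMap_tmul, PP16.tensorMap_tmul, map_one]
    have hrhs : (PP16.augIdeal n A B).map (PP16.map n A B A C) =
        (Ideal.map (PP16.tensorMap A B A C) (KaehlerDifferential.ideal A B)).map
          (Ideal.Quotient.mk (IA ^ (n + 1))) := by
      rw [PP16.augIdeal, AlgHom.coe_ideal_map (PP16.map n A B A C), Ideal.map_map,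
        AlgHom.coe_ideal_map (PP16.tensorMap A B A C), Ideal.map_map]
      rfl
    rw [hker, hcomap, Ideal.map_sup, Ideal.map_quotient_self, bot_sup_eq, hrhs, hgen]


end Groth.Agent.S3809
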