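import Groth.Statements.S3808
import Groth.Agent.S3809
import Mathlib
-- import your own Groth.Agent.* helpers here

set_option autoImplicit false
universe u
open scoped TensorProduct
open PP16

namespace Groth.Agent.S3808

open TensorProduct

/-- Let A → B be a ring map, R a multiplicative subset of A, S one of B containing the image of R, and
A' = R⁻¹A, B' = S⁻¹B with the induced map A' → B'. Then the canonical map P^n_{B'/A} → P^n_{B'/A'}
is bijective. -/
theorem result (n : ℕ) (A B A' B' : Type u) [CommRing A] [CommRing B] [Algebra A B]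
    [CommRing A'] [CommRing B'] [Algebra A A'] [Algebra B B'] [Algebra A' B'] [Algebra A B']
    [IsScalarTower A A' B'] [IsScalarTower A B B'] (R : Submonoid A) (S : Submonoid B) [IsLocalization R A']
    [IsLocalization S B'] (hRS : ∀ r ∈ R, algebraMap A B r ∈ S) :
    Function.Bijective (PP16.map n A B' A' B') := by
  have key : ∀ a' : A', (1 : B') ⊗ₜ[A] (algebraMap A' B' a') = (algebraMap A' B' a') ⊗ₜ[A] (1 : B') := by
    intro a'
    obtain ⟨⟨a, r⟩, h⟩ := IsLocalization.surj R a'
    have h' : algebraMap A' B' a' * algebraMap A B' (r : A) = algebraMap A B' a := by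
      have := congrArg (algebraMap A' B') h
      rwa [map_mul, ← IsScalarTower.algebraMap_apply, ← IsScalarTower.algebraMap_apply] at this
    have hunit : IsUnit (algebraMap A B' (r : A)) := by
      rw [IsScalarTower.algebraMap_apply A B B']
      exact IsLocalization.map_units B' (⟨_, hRS r r.2⟩ : S)
    have hunit2 : IsUnit ((algebraMap A B' (r : A)) ⊗ₜ[A] (algebraMap A B' (r : A))) := by
      have e : (algebraMap A B' (r : A)) ⊗ₜ[A] (algebraMap A B' (r : A)) =
          (Algebra.TensorProduct.includeLeft : B' →ₐ[A] B' ⊗[A] B') (algebraMap A B' (r : A)) *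
          (Algebra.TensorProduct.includeRight : B' →ₐ[A] B' ⊗[A] B') (algebraMap A B' (r : A)) := by
        rw [Algebra.TensorProduct.includeLeft_apply, Algebra.TensorProduct.includeRight_apply,
          Algebra.TensorProduct.tmul_mul_tmul, mul_one, one_mul]
      rw [e]
      exact (hunit.map _).mul (hunit.map _)
    apply hunit2.mul_left_cancel
    rw [Algebra.TensorProduct.tmul_mul_tmul, Algebra.TensorProduct.tmul_mul_tmul]
    simp only [mul_one]
    rw [mul_comm _ (algebraMap A' B' a'), h']
    simp only [Algebra.algebraMap_eq_smul_one, TensorProduct.tmul_smul, TensorProduct.smul_tmul']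
    rw [smul_comm]
  obtain ⟨hsurj, hker⟩ := Groth.Agent.S3809.result n A A' B'
  have hbot : (PP16.augIdeal n A A').map (PP16.map n A A' A B') = ⊥ := by
    rw [eq_bot_iff, Ideal.map_le_iff_le_comap, PP16.augIdeal, Ideal.map_le_iff_le_comap]
    refine le_trans (KaehlerDifferential.span_range_eq_ideal A A').symm.le ?_
    rw [Ideal.span_le]
    rintro _ ⟨a', rfl⟩
    rw [SetLike.mem_coe, Ideal.mem_comap, Ideal.mem_comap, Ideal.mem_bot]
    show PP16.map n A A' A B' (Ideal.Quotient.mk _ ((1 : A') ⊗ₜ[A] a' - a' ⊗ₜ[A] (1 : A'))) = 0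
    rw [PP16.map_mk, map_sub, PP16.tensorMap_tmul, PP16.tensorMap_tmul, map_one, key, sub_self,
      map_zero]
  refine ⟨?_, hsurj⟩
  rw [injective_iff_map_eq_zero]
  intro x hx
  have hx' : x ∈ RingHom.ker (PP16.map n A B' A' B') := hx
  rw [hker, hbot] at hx'
  exact hx'


end Groth.Agent.S3808
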