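import Groth.Statements.S3810
import Mathlib
-- import your own Groth.Agent.* helpers here

set_option autoImplicit false
universe u
open scoped TensorProduct
open PP16

namespace Groth.Agent.S3810

/-- Let B be an A-algebra, K an ideal of B and C = B/K. Then the canonical map P^n_{B/A} → P^n_{C/A} is
surjective and its kernel is the ideal generated by the image of K under the structure map B →
P^n_{B/A} together with the image of K under the principal-part map d^n (the latter is an additive
subgroup, not a B-submodule, in general). -/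
theorem result (n : ℕ) (A B : Type u) [CommRing A] [CommRing B] [Algebra A B]
    (K : Ideal B) :
    Function.Surjective (PP16.map n A B A (B ⧸ K)) ∧
      RingHom.ker (PP16.map n A B A (B ⧸ K)) =
        K.map (algebraMap B (PP16.P n A B)) ⊔ K.map (PP16.dn n A B) := by
  set IB := KaehlerDifferential.ideal A B with hIB
  set IC := KaehlerDifferential.ideal A (B ⧸ K) with hIC
  let q : B →ₐ[A] B ⧸ K := Ideal.Quotient.mkₐ A K
  have hq : Function.Surjective q := Ideal.Quotient.mkₐ_surjective A K
  have hkq : RingHom.ker q = K := Ideal.Quotient.mkₐ_ker A K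
  set t := PP16.tensorMap A B A (B ⧸ K) with ht
  have htq : t = Algebra.TensorProduct.map q q := by
    apply Algebra.TensorProduct.ext'
    intro a b
    rw [ht, PP16.tensorMap_tmul, Algebra.TensorProduct.map_tmul]
    rfl
  have htsurj : Function.Surjective t := by
    rw [htq]; exact Algebra.TensorProduct.map_surjective q q hq hq
  have hkert : RingHom.ker t =
      K.map (Algebra.TensorProduct.includeLeft : B →ₐ[A] B ⊗[A] B) ⊔
        K.map (Algebra.TensorProduct.includeRight : B →ₐ[A] B ⊗[A] B) := by
    rw [htq, Algebra.TensorProduct.map_ker q q hq hq, hkq]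
  -- I_C = map t I_B
  have hImap : IB.map t = IC := by
    rw [hIB, hIC, ← KaehlerDifferential.span_range_eq_ideal, ← KaehlerDifferential.span_range_eq_ideal,
      Ideal.map_span]
    congr 1
    ext z
    constructor
    · rintro ⟨_, ⟨s, rfl⟩, rfl⟩
      refine ⟨q s, ?_⟩
      rw [map_sub, ht, PP16.tensorMap_tmul, PP16.tensorMap_tmul, map_one]
      rfl
    · rintro ⟨c, rfl⟩
      obtain ⟨s, rfl⟩ := hq c
      refine ⟨_, ⟨s, rfl⟩, ?_⟩
      rw [map_sub, ht, PP16.tensorMap_tmul, PP16.tensorMap_tmul, map_one]
      rfl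
  have hIpow : (IB ^ (n + 1)).map t = IC ^ (n + 1) := by
    have e := Ideal.map_pow t IB (n + 1)
    rw [e, hImap]
  have hmk : ∀ x : B ⊗[A] B, PP16.map n A B A (B ⧸ K) (Ideal.Quotient.mk _ x) =
      Ideal.Quotient.mk _ (t x) := fun x => rfl
  refine ⟨?_, ?_⟩
  · intro y
    obtain ⟨z, rfl⟩ := Ideal.Quotient.mk_surjective y
    obtain ⟨x, rfl⟩ := htsurj z
    exact ⟨Ideal.Quotient.mk _ x, hmk x⟩
  · -- kernel
    have hcomap : Ideal.comap t (IC ^ (n + 1)) = IB ^ (n + 1) ⊔ RingHom.ker t := by
      rw [← hIpow, Ideal.comap_map_of_surjective t htsurj, RingHom.ker_eq_comap_bot]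
    have hker : RingHom.ker (PP16.map n A B A (B ⧸ K)) =
        (Ideal.comap t (IC ^ (n + 1))).map (Ideal.Quotient.mk (IB ^ (n + 1))) := by
      apply le_antisymm
      · intro y hy
        obtain ⟨x, rfl⟩ := Ideal.Quotient.mk_surjective y
        rw [RingHom.mem_ker, hmk, Ideal.Quotient.eq_zero_iff_mem] at hy
        exact Ideal.mem_map_of_mem _ (Ideal.mem_comap.mpr hy)
      · rw [Ideal.map_le_iff_le_comap]
        intro x hx
        rw [Ideal.mem_comap, RingHom.mem_ker, hmk, Ideal.Quotient.eq_zero_iff_mem]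
        exact hx
    have e1 : Ideal.map (Ideal.Quotient.mk (IB ^ (n + 1)))
        (Ideal.map (Algebra.TensorProduct.includeLeft : B →ₐ[A] B ⊗[A] B) K) =
        Ideal.map (algebraMap B (PP16.P n A B)) K := by
      rw [AlgHom.coe_ideal_map (Algebra.TensorProduct.includeLeft : B →ₐ[A] B ⊗[A] B) K,
        Ideal.map_map]
      rfl
    have e2 : Ideal.map (Ideal.Quotient.mk (IB ^ (n + 1)))
        (Ideal.map (Algebra.TensorProduct.includeRight : B →ₐ[A] B ⊗[A] B) K) =
        Ideal.map (PP16.dn n A B) K := by
      rw [AlgHom.coe_ideal_map (Algebra.TensorProduct.includeRight : B →ₐ[A] B ⊗[A] B) K,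
        Ideal.map_map, AlgHom.coe_ideal_map (PP16.dn n A B) K]
      rfl
    rw [hker, hcomap, Ideal.map_sup, Ideal.map_quotient_self, bot_sup_eq, hkert, Ideal.map_sup,
      e1, e2]


end Groth.Agent.S3810
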