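import Groth.Statements.S3811
import Mathlib
-- import your own Groth.Agent.* helpers here

set_option autoImplicit false
universe u
open scoped TensorProduct
open PP16

namespace Groth.Agent.S3811

/-- Let B be an A-algebra with an A-algebra retraction g : B → A, and K the kernel of g. The composite
of d^n : B → P^n_{B/A} with the projection P^n_{B/A} → P^n_{B/A} / K P^n_{B/A} (base change of
P^n_{B/A} along g) is surjective with kernel K^(n+1); thus P^n_{B/A} ⊗_B A is identified with
B/K^(n+1), the class of d^n t corresponding to the class of t. -/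
theorem result (n : ℕ) (A B : Type u) [CommRing A] [CommRing B] [Algebra A B]
    (g : B →ₐ[A] A) :
    Function.Surjective ((Ideal.Quotient.mk ((RingHom.ker g).map (algebraMap B (PP16.P n A B)))).comp
        (PP16.dn n A B).toRingHom) ∧
      RingHom.ker ((Ideal.Quotient.mk ((RingHom.ker g).map (algebraMap B (PP16.P n A B)))).comp
        (PP16.dn n A B).toRingHom) = RingHom.ker g ^ (n + 1) := by
  set I := KaehlerDifferential.ideal A B with hI
  set K := RingHom.ker g with hK
  set K' := K.map (algebraMap B (PP16.P n A B)) with hK'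
  set ψ := (Ideal.Quotient.mk K').comp (PP16.dn n A B).toRingHom with hψ
  let π : B ⊗[A] B →+* (PP16.P n A B ⧸ K') :=
    (Ideal.Quotient.mk K').comp (Ideal.Quotient.mk (I ^ (n + 1)))
  have hπsurj : Function.Surjective π :=
    Ideal.Quotient.mk_surjective.comp Ideal.Quotient.mk_surjective
  have hψπ : ∀ b : B, ψ b = π (1 ⊗ₜ[A] b) := fun b => rfl
  have hπK : ∀ k ∈ K, π (k ⊗ₜ[A] 1) = 0 := by
    intro k hk
    have h1 : Ideal.Quotient.mk (I ^ (n + 1)) (k ⊗ₜ[A] (1 : B)) = algebraMap B (PP16.P n A B) k := rfl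
    show Ideal.Quotient.mk K' (Ideal.Quotient.mk (I ^ (n + 1)) (k ⊗ₜ[A] (1 : B))) = 0
    rw [h1, Ideal.Quotient.eq_zero_iff_mem]
    exact Ideal.mem_map_of_mem _ hk
  have hgK : ∀ x : B, x - algebraMap A B (g x) ∈ K := by
    intro x
    rw [hK, RingHom.mem_ker, map_sub, g.commutes]
    simp
  refine ⟨?_, ?_⟩
  · -- surjectivity
    intro q
    obtain ⟨x, rfl⟩ := hπsurj q
    induction x using TensorProduct.induction_on with
    | zero => exact ⟨0, by simp⟩
    | tmul x y =>
      refine ⟨algebraMap A B (g x) * y, ?_⟩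
      rw [hψπ]
      have h1 : (1 : B) ⊗ₜ[A] (algebraMap A B (g x) * y) = (algebraMap A B (g x)) ⊗ₜ[A] y := by
        rw [← Algebra.smul_def, TensorProduct.tmul_smul, TensorProduct.smul_tmul', Algebra.smul_def,
          mul_one]
      have h2 : x ⊗ₜ[A] y - (algebraMap A B (g x)) ⊗ₜ[A] y =
          ((x - algebraMap A B (g x)) ⊗ₜ[A] (1 : B)) * ((1 : B) ⊗ₜ[A] y) := by
        rw [Algebra.TensorProduct.tmul_mul_tmul, mul_one, one_mul, ← TensorProduct.sub_tmul]
      rw [h1]
      symm
      show Ideal.Quotient.mk K' (Ideal.Quotient.mk (I ^ (n + 1)) (x ⊗ₜ[A] y)) =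
        Ideal.Quotient.mk K' (Ideal.Quotient.mk (I ^ (n + 1)) ((algebraMap A B (g x)) ⊗ₜ[A] y))
      rw [Ideal.Quotient.eq, ← map_sub, h2, map_mul]
      refine Ideal.mul_mem_right _ _ ?_
      have h3 : Ideal.Quotient.mk (I ^ (n + 1)) ((x - algebraMap A B (g x)) ⊗ₜ[A] (1 : B)) =
        algebraMap B (PP16.P n A B) (x - algebraMap A B (g x)) := rfl
      rw [h3]
      exact Ideal.mem_map_of_mem _ (hgK x)
    | add x y hx hy =>
      obtain ⟨a, ha⟩ := hx
      obtain ⟨b, hb⟩ := hy
      exact ⟨a + b, by rw [map_add, ha, hb, map_add]⟩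
  · -- kernel
    apply le_antisymm
    · -- ker ψ ≤ K^(n+1)
      let γ : B ⊗[A] B →ₐ[A] B :=
        Algebra.TensorProduct.lift ((Algebra.ofId A B).comp g) (AlgHom.id A B)
          (fun _ _ => Commute.all _ _)
      have hγ : ∀ x y : B, γ (x ⊗ₜ[A] y) = algebraMap A B (g x) * y := by
        intro x y; simp [γ, Algebra.ofId_apply]
      have hγI : I.map γ.toRingHom ≤ K := by
        rw [hI, ← KaehlerDifferential.span_range_eq_ideal, Ideal.map_span, Ideal.span_le]
        rintro _ ⟨_, ⟨s, rfl⟩, rfl⟩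
        show γ ((1 : B) ⊗ₜ[A] s - s ⊗ₜ[A] (1 : B)) ∈ K
        rw [map_sub, hγ, hγ, map_one, map_one, one_mul, mul_one]
        exact hgK s
      have hγI' : ∀ x ∈ I ^ (n + 1), γ x ∈ K ^ (n + 1) := by
        intro x hx
        have := Ideal.pow_right_mono hγI (n + 1)
        rw [← Ideal.map_pow] at this
        exact this (Ideal.mem_map_of_mem _ hx)
      let γ1 : PP16.P n A B →+* B ⧸ K ^ (n + 1) :=
        Ideal.Quotient.lift (I ^ (n + 1)) ((Ideal.Quotient.mk (K ^ (n + 1))).comp γ.toRingHom)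
          (fun x hx => by
            rw [RingHom.comp_apply, Ideal.Quotient.eq_zero_iff_mem]
            exact hγI' x hx)
      have hγ1 : ∀ a ∈ K', γ1 a = 0 := by
        intro a ha
        have hle : K' ≤ RingHom.ker γ1 := by
          rw [hK', Ideal.map_le_iff_le_comap]
          intro k hk
          rw [Ideal.mem_comap, RingHom.mem_ker]
          show γ1 (Ideal.Quotient.mk (I ^ (n + 1)) (k ⊗ₜ[A] (1 : B))) = 0
          rw [Ideal.Quotient.lift_mk, RingHom.comp_apply]
          show Ideal.Quotient.mk (K ^ (n + 1)) (γ (k ⊗ₜ[A] (1 : B))) = 0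
          rw [hγ, (RingHom.mem_ker).mp hk, map_zero, zero_mul, map_zero]
        exact hle ha
      let γ2 : (PP16.P n A B ⧸ K') →+* B ⧸ K ^ (n + 1) := Ideal.Quotient.lift K' γ1 hγ1
      have hγ2 : ∀ b : B, γ2 (ψ b) = Ideal.Quotient.mk (K ^ (n + 1)) b := by
        intro b
        show γ2 (Ideal.Quotient.mk K' (Ideal.Quotient.mk (I ^ (n + 1)) ((1 : B) ⊗ₜ[A] b))) = _
        rw [Ideal.Quotient.lift_mk, Ideal.Quotient.lift_mk, RingHom.comp_apply]
        show Ideal.Quotient.mk (K ^ (n + 1)) (γ ((1 : B) ⊗ₜ[A] b)) = _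
        rw [hγ, map_one, map_one, one_mul]
      intro b hb
      rw [RingHom.mem_ker] at hb
      have := hγ2 b
      rw [hb, map_zero] at this
      exact Ideal.Quotient.eq_zero_iff_mem.mp this.symm
    · -- K^(n+1) ≤ ker ψ
      have hJ : K.map ψ ≤ I.map π := by
        rw [Ideal.map_le_iff_le_comap]
        intro k hk
        rw [Ideal.mem_comap, hψπ]
        have h1 : (1 : B) ⊗ₜ[A] k = ((1 : B) ⊗ₜ[A] k - k ⊗ₜ[A] (1 : B)) + k ⊗ₜ[A] (1 : B) := by ring
        rw [h1, map_add, hπK k hk, add_zero]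
        exact Ideal.mem_map_of_mem _ (KaehlerDifferential.one_smul_sub_smul_one_mem_ideal A k)
      have hJ0 : (I.map π) ^ (n + 1) = ⊥ := by
        have e := Ideal.map_pow π I (n + 1)
        rw [← e, eq_bot_iff, Ideal.map_le_iff_le_comap]
        intro x hx
        rw [Ideal.mem_comap, Ideal.mem_bot]
        show Ideal.Quotient.mk K' (Ideal.Quotient.mk (I ^ (n + 1)) x) = 0
        rw [Ideal.Quotient.eq_zero_iff_mem.mpr hx, map_zero]
      have h3 : (K ^ (n + 1)).map ψ ≤ ⊥ := by
        have e := Ideal.map_pow ψ K (n + 1)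
        rw [e, ← hJ0]
        exact Ideal.pow_right_mono hJ (n + 1)
      intro b hb
      rw [RingHom.mem_ker]
      exact (Ideal.mem_bot).mp (h3 (Ideal.mem_map_of_mem _ hb))


end Groth.Agent.S3811
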