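import Groth.Statements.S3812
import Mathlib.RingTheory.TensorProduct.MvPolynomial
import Mathlib.RingTheory.MvPolynomial.Ideal

set_option autoImplicit false
universe u
open scoped TensorProduct
open PP16

namespace Groth.Agent.S3812

section

variable (A : Type u) [CommRing A] (σ : Type u)

local notation "B" => MvPolynomial σ A

/-- translation automorphism `U_i ↦ U_i + T_i` of `B[U]` -/
noncomputable def τ : MvPolynomial σ B ≃ₐ[B] MvPolynomial σ B :=
  AlgEquiv.ofAlgHom
    (MvPolynomial.aeval fun i => MvPolynomial.C (MvPolynomial.X i : B) + MvPolynomial.X i)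
    (MvPolynomial.aeval fun i => MvPolynomial.X i - MvPolynomial.C (MvPolynomial.X i : B))
    (by ext i; simp)
    (by ext i; simp)

/-- `B ⊗[A] B ≃ B[U]` sending `1 ⊗ T_i` to `T_i + U_i` -/
noncomputable def e0 : B ⊗[A] B ≃ₐ[B] MvPolynomial σ B :=
  (MvPolynomial.algebraTensorAlgEquiv A B).trans (τ A σ)

lemma e0_one_tmul_X (i : σ) :
    e0 A σ ((1 : B) ⊗ₜ[A] (MvPolynomial.X i : B)) =
      MvPolynomial.C (MvPolynomial.X i : B) + MvPolynomial.X i := by
  simp [e0, τ]

lemma constantCoeff_τ_map (b' : B) :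
    MvPolynomial.constantCoeff (τ A σ (MvPolynomial.map (algebraMap A B) b')) = b' := by
  induction b' using MvPolynomial.induction_on with
  | C a => simp [τ]
  | add p q hp hq => rw [map_add, map_add, map_add, hp, hq]
  | mul_X p i hp =>
    rw [map_mul, map_mul, map_mul, hp]
    simp [τ]

lemma constantCoeff_e0 (x : B ⊗[A] B) :
    MvPolynomial.constantCoeff (e0 A σ x) = Algebra.TensorProduct.lmul' A x := by
  induction x using TensorProduct.induction_on with
  | zero => simp
  | tmul b b' =>
    rw [e0, AlgEquiv.trans_apply, MvPolynomial.algebraTensorAlgEquiv_tmul, map_smul,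
      MvPolynomial.smul_eq_C_mul, map_mul, constantCoeff_τ_map]
    simp
  | add x y hx hy => rw [map_add, map_add, map_add, hx, hy]

lemma ker_constantCoeff_eq :
    RingHom.ker (MvPolynomial.constantCoeff : MvPolynomial σ B →+* B) =
      Ideal.span (Set.range (MvPolynomial.X : σ → MvPolynomial σ B)) := by
  ext p
  have h := MvPolynomial.mem_pow_idealOfVars_iff (σ := σ) (R := B) 1 p
  rw [pow_one] at h
  rw [h, RingHom.mem_ker, MvPolynomial.constantCoeff_eq]
  constructor
  · intro h0 x hx
    by_contra hlt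
    have hx0 : x = 0 := by
      have : Finsupp.degree x = 0 := by omega
      exact (Finsupp.degree_eq_zero_iff x).mp this
    rw [hx0, MvPolynomial.mem_support_iff] at hx
    exact hx h0
  · intro h
    by_contra h0
    have := h 0 (MvPolynomial.mem_support_iff.mpr h0)
    simp at this

lemma map_ideal_e0 :
    Ideal.span (Set.range (MvPolynomial.X : σ → MvPolynomial σ B)) =
      (KaehlerDifferential.ideal A B).map ((e0 A σ : B ⊗[A] B ≃ₐ[B] MvPolynomial σ B) : B ⊗[A] B →+* MvPolynomial σ B) := by
  rw [← ker_constantCoeff_eq]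
  ext p
  obtain ⟨x, rfl⟩ := (e0 A σ).surjective p
  rw [RingHom.mem_ker]
  constructor
  · intro h
    apply Ideal.mem_map_of_mem
    rw [KaehlerDifferential.ideal, RingHom.mem_ker]
    rw [← constantCoeff_e0]
    exact h
  · intro h
    obtain ⟨y, hy, hyx⟩ := (Ideal.mem_map_iff_of_surjective
      ((e0 A σ : B ⊗[A] B ≃ₐ[B] MvPolynomial σ B) : B ⊗[A] B →+* MvPolynomial σ B)
      (e0 A σ).surjective).mp h
    have : y = x := (e0 A σ).injective hyx
    subst this
    rw [constantCoeff_e0]
    exact hy

end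

/-- Let B = A[T_i] be a polynomial algebra. There is an isomorphism of B-algebras from P^n_{B/A} onto
B[U_i]/(U)^(n+1), where (U) is the ideal generated by the new indeterminates, sending the principal
part d^n T_i to the class of T_i + U_i for every i (so d^n F(T) goes to the class of F(T + U)). -/
theorem result (n : ℕ) (A : Type u) [CommRing A] (σ : Type u) :
    ∃ e : PP16.P n A (MvPolynomial σ A) ≃ₐ[MvPolynomial σ A]
        (MvPolynomial σ (MvPolynomial σ A) ⧸
          Ideal.span (Set.range (MvPolynomial.X : σ → MvPolynomial σ (MvPolynomial σ A))) ^ (n + 1)),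
      ∀ i : σ, e (PP16.dn n A (MvPolynomial σ A) (MvPolynomial.X i)) =
        Ideal.Quotient.mk _ (MvPolynomial.C (MvPolynomial.X i : MvPolynomial σ A) +
          (MvPolynomial.X i : MvPolynomial σ (MvPolynomial σ A))) := by
  have hJ : Ideal.span (Set.range (MvPolynomial.X : σ → MvPolynomial σ (MvPolynomial σ A))) ^ (n + 1) =
      ((KaehlerDifferential.ideal A (MvPolynomial σ A)) ^ (n + 1)).map
        ((e0 A σ : MvPolynomial σ A ⊗[A] MvPolynomial σ A ≃ₐ[MvPolynomial σ A] _) :
          MvPolynomial σ A ⊗[A] MvPolynomial σ A →+* MvPolynomial σ (MvPolynomial σ A)) := by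
    rw [Ideal.map_pow, ← map_ideal_e0]
  refine ⟨Ideal.quotientEquivAlg _ _ (e0 A σ) hJ, ?_⟩
  intro i
  change Ideal.quotientEquivAlg _ _ (e0 A σ) hJ
    (Ideal.Quotient.mk _ ((1 : MvPolynomial σ A) ⊗ₜ[A] (MvPolynomial.X i : MvPolynomial σ A))) = _
  rw [Ideal.quotientEquivAlg_mk, e0_one_tmul_X]

end Groth.Agent.S3812
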