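import Groth.Statements.S3813
import Mathlib.LinearAlgebra.TensorProduct.RightExactness

set_option autoImplicit false
universe u
open scoped TensorProduct
open PP16

namespace Groth.Agent.S3813

section

variable (A : Type u) [CommRing A] (E : Type u) [AddCommGroup E] [Module A E]

local notation "B" => SymmetricAlgebra A E

/-- `t ↦ c • (t ⊗ 1) + 1 ⊗ t` with sign `c`-/
noncomputable def ℓ (c : A) : E →ₗ[A] B ⊗[A] B :=
  c • ((TensorProduct.mk A B B).flip 1 ∘ₗ SymmetricAlgebra.ι A E) +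
    (TensorProduct.mk A B B 1) ∘ₗ SymmetricAlgebra.ι A E

lemma ℓ_apply (c : A) (t : E) :
    ℓ A E c t = (c • SymmetricAlgebra.ι A E t) ⊗ₜ[A] (1 : B) + (1 : B) ⊗ₜ[A] SymmetricAlgebra.ι A E t := by
  simp [ℓ, TensorProduct.smul_tmul']

/-- translation `1 ⊗ t ↦ c • (t ⊗ 1) + 1 ⊗ t` -/
noncomputable def θ (c : A) : B ⊗[A] B →ₐ[B] B ⊗[A] B :=
  Algebra.TensorProduct.lift (Algebra.TensorProduct.includeLeft : B →ₐ[B] B ⊗[A] B)
    (SymmetricAlgebra.lift (ℓ A E c)) (fun _ _ => Commute.all _ _)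

lemma θ_one_tmul_ι (c : A) (t : E) :
    θ A E c ((1 : B) ⊗ₜ[A] SymmetricAlgebra.ι A E t) =
      (c • SymmetricAlgebra.ι A E t) ⊗ₜ[A] (1 : B) + (1 : B) ⊗ₜ[A] SymmetricAlgebra.ι A E t := by
  rw [θ, Algebra.TensorProduct.lift_tmul, map_one, one_mul, SymmetricAlgebra.lift_ι_apply, ℓ_apply]

lemma θ_tmul_one (c : A) (b : B) : θ A E c (b ⊗ₜ[A] (1 : B)) = b ⊗ₜ[A] (1 : B) := by
  rw [θ, Algebra.TensorProduct.lift_tmul, map_one, mul_one]
  rfl

lemma θ_comp (c d : A) : (θ A E c).comp (θ A E d) = θ A E (c + d) := by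
  apply Algebra.TensorProduct.ext
  · ext
  · apply SymmetricAlgebra.algHom_ext
    ext t
    change (θ A E c) ((θ A E d) ((1 : B) ⊗ₜ[A] SymmetricAlgebra.ι A E t)) =
      θ A E (c + d) ((1 : B) ⊗ₜ[A] SymmetricAlgebra.ι A E t)
    rw [θ_one_tmul_ι, θ_one_tmul_ι, map_add, θ_tmul_one, θ_one_tmul_ι, add_smul, TensorProduct.add_tmul]
    abel

lemma θ_zero : θ A E 0 = AlgHom.id B (B ⊗[A] B) := by
  apply Algebra.TensorProduct.ext
  · ext
  · apply SymmetricAlgebra.algHom_ext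
    ext t
    change (θ A E 0) ((1 : B) ⊗ₜ[A] SymmetricAlgebra.ι A E t) = (1 : B) ⊗ₜ[A] SymmetricAlgebra.ι A E t
    rw [θ_one_tmul_ι, zero_smul, TensorProduct.zero_tmul, zero_add]

/-- translation automorphism -/
noncomputable def θe : B ⊗[A] B ≃ₐ[B] B ⊗[A] B :=
  AlgEquiv.ofAlgHom (θ A E 1) (θ A E (-1))
    (by rw [θ_comp, add_neg_cancel, θ_zero])
    (by rw [θ_comp, neg_add_cancel, θ_zero])

end


section

variable (A : Type u) [CommRing A] (E : Type u) [AddCommGroup E] [Module A E]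

local notation "B" => SymmetricAlgebra A E

/-- the augmentation -/
noncomputable abbrev ε : B →ₐ[A] A := SymmetricAlgebra.lift (0 : E →ₗ[A] A)

lemma ε_surjective : Function.Surjective (ε A E) := fun a =>
  ⟨algebraMap A B a, by simp⟩

/-- `id ⊗ ε` -/
noncomputable abbrev μ2 : B ⊗[A] B →ₐ[A] B ⊗[A] A :=
  Algebra.TensorProduct.map (AlgHom.id A B) (ε A E)

lemma lmul_eq (x : B ⊗[A] B) :
    Algebra.TensorProduct.lmul' A x =
      Algebra.TensorProduct.rid A A B (μ2 A E (θ A E 1 x)) := by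
  have : (Algebra.TensorProduct.lmul' A : B ⊗[A] B →ₐ[A] B) =
      ((Algebra.TensorProduct.rid A A B : B ⊗[A] A ≃ₐ[A] B) : B ⊗[A] A →ₐ[A] B).comp
        ((μ2 A E).comp ((θ A E 1).restrictScalars A)) := by
    apply Algebra.TensorProduct.ext
    · ext b
      simp [θ_tmul_one]
    · apply SymmetricAlgebra.algHom_ext
      ext t
      simp [θ_one_tmul_ι]
  exact AlgHom.congr_fun this x

lemma mem_ideal_iff (x : B ⊗[A] B) :
    x ∈ KaehlerDifferential.ideal A B ↔ θ A E 1 x ∈ RingHom.ker (μ2 A E) := by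
  rw [KaehlerDifferential.ideal, RingHom.mem_ker, RingHom.mem_ker, lmul_eq]
  exact (Algebra.TensorProduct.rid A A B).map_eq_zero_iff

lemma ideal_eq_comap :
    KaehlerDifferential.ideal A B =
      (RingHom.ker (μ2 A E)).comap ((θe A E : B ⊗[A] B ≃ₐ[B] B ⊗[A] B) : B ⊗[A] B ≃+* B ⊗[A] B) := by
  ext x
  rw [mem_ideal_iff]
  rfl

lemma comap_pow_equiv {R S : Type*} [CommRing R] [CommRing S] (e : R ≃+* S) (J : Ideal S) (n : ℕ) :
    (J ^ n).comap e = (J.comap e) ^ n := by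
  rw [← Ideal.map_symm, ← Ideal.map_symm, Ideal.map_pow]

lemma ker_μ2 : RingHom.ker (μ2 A E) =
    (RingHom.ker (ε A E)).map (Algebra.TensorProduct.includeRight : B →ₐ[A] B ⊗[A] B) :=
  Algebra.TensorProduct.lTensor_ker (ε A E) (ε_surjective A E)

variable (n : ℕ)

/-- `id ⊗ mk` -/
noncomputable abbrev Ψ : B ⊗[A] B →ₐ[B] B ⊗[A] (B ⧸ RingHom.ker (ε A E) ^ (n + 1)) :=
  Algebra.TensorProduct.map (AlgHom.id B B) (Ideal.Quotient.mkₐ A (RingHom.ker (ε A E) ^ (n + 1)))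

lemma ker_Ψ : RingHom.ker (Ψ A E n) = (RingHom.ker (μ2 A E)) ^ (n + 1) := by
  have h1 : RingHom.ker (Ψ A E n) =
      RingHom.ker (Algebra.TensorProduct.map (AlgHom.id A B)
        (Ideal.Quotient.mkₐ A (RingHom.ker (ε A E) ^ (n + 1)))) := by
    ext x
    rfl
  have hk : RingHom.ker (Ideal.Quotient.mkₐ A (RingHom.ker (ε A E) ^ (n + 1))) =
      RingHom.ker (ε A E) ^ (n + 1) := by
    ext x
    rw [RingHom.mem_ker, Ideal.Quotient.mkₐ_eq_mk, Ideal.Quotient.eq_zero_iff_mem]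
  rw [h1, Algebra.TensorProduct.lTensor_ker _ (Ideal.Quotient.mkₐ_surjective A _), ker_μ2,
    ← Ideal.map_pow, hk]

lemma Ψ_surjective : Function.Surjective (Ψ A E n) := by
  have : Function.Surjective (LinearMap.lTensor B
      (Ideal.Quotient.mkₐ A (RingHom.ker (ε A E) ^ (n + 1))).toLinearMap) :=
    LinearMap.lTensor_surjective B (Ideal.Quotient.mkₐ_surjective A _)
  exact this

/-- the map inducing the isomorphism -/
noncomputable def Φ : B ⊗[A] B →ₐ[B] B ⊗[A] (B ⧸ RingHom.ker (ε A E) ^ (n + 1)) :=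
  (Ψ A E n).comp (θ A E 1)

lemma Φ_surjective : Function.Surjective (Φ A E n) := by
  have h : Function.Surjective (θ A E 1) := (θe A E).surjective
  exact (Ψ_surjective A E n).comp h

lemma ker_Φ : RingHom.ker (Φ A E n) = KaehlerDifferential.ideal A B ^ (n + 1) := by
  rw [ideal_eq_comap, ← comap_pow_equiv, ← ker_Ψ]
  ext x
  rfl

end

/-- Let E be an A-module, B = Sym_A(E) its symmetric algebra and K the augmentation ideal of B (the
kernel of the A-algebra map B → A killing E). For every n there is an isomorphism of B-algebras from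
P^n_{B/A} onto B ⊗_A (B/K^(n+1)) sending the principal part d^n t of an element t of E to t ⊗ 1 + 1
⊗ (class of t). -/
theorem result (n : ℕ) (A : Type u) [CommRing A] (E : Type u) [AddCommGroup E]
    [Module A E] :
    ∃ e : PP16.P n A (SymmetricAlgebra A E) ≃ₐ[SymmetricAlgebra A E]
        (SymmetricAlgebra A E ⊗[A] (SymmetricAlgebra A E ⧸
          RingHom.ker (SymmetricAlgebra.lift (0 : E →ₗ[A] A)) ^ (n + 1))),
      ∀ t : E, e (PP16.dn n A (SymmetricAlgebra A E) (SymmetricAlgebra.ι A E t)) =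
        SymmetricAlgebra.ι A E t ⊗ₜ 1 + 1 ⊗ₜ Ideal.Quotient.mk _ (SymmetricAlgebra.ι A E t) := by
  refine ⟨(Ideal.quotientEquivAlgOfEq (SymmetricAlgebra A E) (ker_Φ A E n).symm).trans
    (Ideal.quotientKerAlgEquivOfSurjective (Φ_surjective A E n)), ?_⟩
  intro t
  change (Φ A E n) ((1 : SymmetricAlgebra A E) ⊗ₜ[A] SymmetricAlgebra.ι A E t) = _
  rw [Φ, AlgHom.comp_apply, θ_one_tmul_ι, one_smul, map_add]
  simp

end Groth.Agent.S3813
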