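import Groth.Statements.S3814
import Mathlib.RingTheory.Finiteness.NilpotentKer
import Mathlib.RingTheory.Finiteness.ModuleFinitePresentation
import Mathlib.RingTheory.EssentialFiniteness
import Mathlib.RingTheory.FiniteStability

set_option autoImplicit false
universe u
open scoped TensorProduct
open PP16

namespace Groth.Agent.S3814
open PP16

/-- If B is an A-algebra of finite presentation, then for every n the B-module P^n_{B/A} of principal
parts of order n is of finite presentation. -/
theorem result (n : ℕ) (A B : Type u) [CommRing A] [CommRing B]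
    [Algebra A B] [Algebra.FinitePresentation A B] :
    Module.FinitePresentation B (PP16.P n A B) := by
  have hIfg : (KaehlerDifferential.ideal A B).FG := KaehlerDifferential.ideal_fg A B
  haveI : Algebra.FinitePresentation B (B ⊗[A] B) := inferInstance
  haveI : Algebra.FinitePresentation B (P n A B) :=
    Algebra.FinitePresentation.quotient (hIfg.pow (n := n + 1))
  have hle : (KaehlerDifferential.ideal A B) ^ (n + 1) ≤ RingHom.ker (Algebra.TensorProduct.lmul'' A : B ⊗[A] B →ₐ[B] B) := by
    intro x hx
    exact Ideal.pow_le_self (Nat.succ_ne_zero n) hx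
  let f : P n A B →ₐ[B] B :=
    Ideal.Quotient.liftₐ _ (Algebra.TensorProduct.lmul'' A : B ⊗[A] B →ₐ[B] B) (fun x hx => hle hx)
  have hker : RingHom.ker f = (KaehlerDifferential.ideal A B).map
      (Ideal.Quotient.mk ((KaehlerDifferential.ideal A B) ^ (n + 1))) := by
    exact Ideal.ker_quotient_lift (I := (KaehlerDifferential.ideal A B) ^ (n + 1))
      (Algebra.TensorProduct.lmul'' A : B ⊗[A] B →ₐ[B] B).toRingHom hle
  have hsurj : Function.Surjective f := by
    intro b
    exact ⟨Ideal.Quotient.mk _ (b ⊗ₜ[A] (1 : B)), by
      change Algebra.TensorProduct.lmul'' A (b ⊗ₜ[A] (1 : B)) = b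
      simp [Algebra.TensorProduct.lmul'']⟩
  have hnil : RingHom.ker f ≤ nilradical (P n A B) := by
    rw [hker]
    intro x hx
    refine ⟨n + 1, ?_⟩
    have h1 : x ^ (n + 1) ∈ ((KaehlerDifferential.ideal A B).map
      (Ideal.Quotient.mk ((KaehlerDifferential.ideal A B) ^ (n + 1)))) ^ (n + 1) :=
      Ideal.pow_mem_pow hx _
    rw [← Ideal.map_pow, Ideal.map_quotient_self] at h1
    simpa using h1
  have hfg : (RingHom.ker f).FG := by
    rw [hker]; exact hIfg.map _
  haveI : Module.Finite B (P n A B) :=
    Module.finite_of_surjective_of_ker_le_nilradical f hsurj hnil hfg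
  exact Module.FinitePresentation.of_finite_of_finitePresentation B _

end Groth.Agent.S3814
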