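import Groth.Statements.S3827
import Mathlib
import Groth.Agent.Lib.Helper21.QuasiReg

set_option autoImplicit false
universe u
open QReg16

namespace Groth.Agent.S3827

section helpers
open Groth.Agent.Lib.Helper21.QuasiReg MvPolynomial RingTheory.Sequence

variable {A : Type u} [CommRing A] (J : Ideal A) {r : ℕ} (f : Fin r → A)

lemma qr_quot (hf : IsWeaklyRegular (A ⧸ J) (List.ofFn f)) :
    QR (fun i => Ideal.Quotient.mk J (f i)) := by
  apply qr_of_isWeaklyRegular
  have := (isWeaklyRegular_map_algebraMap_iff (A ⧸ J) (A ⧸ J) (List.ofFn f)).mpr hf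
  rwa [List.map_ofFn] at this

lemma step (hf : IsWeaklyRegular (A ⧸ J) (List.ofFn f)) (n : ℕ) :
    J ⊓ Ideal.span (Set.range f) ^ n ≤
      J * Ideal.span (Set.range f) ^ n ⊔ J ⊓ Ideal.span (Set.range f) ^ (n + 1) := by
  have hqr := qr_quot J f hf
  intro x hx
  obtain ⟨hxJ, hxR⟩ := hx
  obtain ⟨P, hP, rfl⟩ := exists_homogeneous_eval f n x hxR
  -- coefficients of P lie in R ⊔ J
  have hcoef : ∀ m, P.coeff m ∈ Ideal.span (Set.range f) ⊔ J := by
    intro m
    have h0 : eval (fun i => Ideal.Quotient.mk J (f i)) (map (Ideal.Quotient.mk J) P) = 0 := by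
      rw [eval_map, ← Function.comp_def, ← eval₂_comp, Ideal.Quotient.eq_zero_iff_mem]
      exact hxJ
    have h1 := hqr n (map (Ideal.Quotient.mk J) P) (hP.map _) (by rw [h0]; exact Ideal.zero_mem _) m
    rw [coeff_map] at h1
    have hrange : Ideal.span (Set.range fun i => Ideal.Quotient.mk J (f i)) =
        Ideal.map (Ideal.Quotient.mk J) (Ideal.span (Set.range f)) := by
      rw [Ideal.map_span, ← Set.range_comp]
      rfl
    rw [hrange, Ideal.mem_map_iff_of_surjective _ Ideal.Quotient.mk_surjective] at h1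
    obtain ⟨s, hs, hs'⟩ := h1
    have : P.coeff m - s ∈ J := by
      rw [← Ideal.Quotient.eq_zero_iff_mem, map_sub, hs', sub_self]
    have h2 : P.coeff m = s + (P.coeff m - s) := by ring
    rw [h2]
    exact add_mem (Ideal.mem_sup_left hs) (Ideal.mem_sup_right this)
  -- hence x ∈ J R^n ⊔ R^(n+1)
  have hx2 : eval f P ∈ J * Ideal.span (Set.range f) ^ n ⊔ Ideal.span (Set.range f) ^ (n + 1) := by
    rw [eval_eq']
    refine Ideal.sum_mem _ fun m hm => ?_
    have hdeg : ∑ i, m i = n := by
      have := hP (mem_support_iff.mp hm)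
      rw [← this, ← Finsupp.degree_eq_sum]
      exact congrFun (congrArg DFunLike.coe Finsupp.degree_eq_weight_one) m
    have hpm : ∏ i, f i ^ m i ∈ Ideal.span (Set.range f) ^ n := by
      rw [← hdeg]; exact prod_pow_mem f m
    have hc := hcoef m
    rw [Submodule.mem_sup] at hc
    obtain ⟨s, hs, j, hj, hsj⟩ := hc
    rw [← hsj, add_mul]
    refine add_mem (Ideal.mem_sup_right ?_) (Ideal.mem_sup_left (Ideal.mul_mem_mul hj hpm))
    rw [pow_succ']
    exact Ideal.mul_mem_mul hs hpm
  have hle : J * Ideal.span (Set.range f) ^ n ≤ J := Ideal.mul_le_left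
  have hmod := sup_inf_assoc_of_le (Ideal.span (Set.range f) ^ (n + 1)) hle
  have : eval f P ∈ (J * Ideal.span (Set.range f) ^ n ⊔ Ideal.span (Set.range f) ^ (n + 1)) ⊓ J :=
    ⟨hx2, hxJ⟩
  rw [hmod, inf_comm] at this
  exact this

end helpers


/-- Let A be a ring, J an ideal, A' = A/J and f_1, …, f_r elements of A forming an A'-regular sequence
(each f_i a non-zero-divisor on A' modulo the previous ones); let R be the ideal generated by the
f_i. Then for all integers 0 < n ≤ N one has J ∩ Rⁿ = J·Rⁿ + (J ∩ R^N). -/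
theorem result {A : Type u} [CommRing A] (J : Ideal A) {r : ℕ} (f : Fin r → A)
    (hf : RingTheory.Sequence.IsWeaklyRegular (A ⧸ J) (List.ofFn f)) (n N : ℕ) (hn : 0 < n) (hnN : n ≤ N) :
    J ⊓ Ideal.span (Set.range f) ^ n =
      J * Ideal.span (Set.range f) ^ n ⊔ J ⊓ Ideal.span (Set.range f) ^ N := by
  apply le_antisymm
  · obtain ⟨k, rfl⟩ := Nat.exists_eq_add_of_le hnN
    clear hnN
    induction k with
    | zero =>
      rw [Nat.add_zero]
      exact le_sup_right
    | succ k ih =>
      refine ih.trans (sup_le le_sup_left ?_)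
      refine (step J f hf (n + k)).trans (sup_le ?_ ?_)
      · refine le_sup_of_le_left (Ideal.mul_mono_right ?_)
        exact Ideal.pow_le_pow_right (Nat.le_add_right n k)
      · rw [Nat.add_assoc]
        exact le_sup_right
  · refine sup_le (le_inf Ideal.mul_le_left Ideal.mul_le_right) ?_
    exact inf_le_inf_left _ (Ideal.pow_le_pow_right hnN)

end Groth.Agent.S3827
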