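import Groth.Statements.S3828
import Mathlib
import Groth.Agent.S3827

set_option autoImplicit false
universe u
open QReg16

namespace Groth.Agent.S3828

section helpers
open RingTheory.Sequence

variable {A : Type u} [CommRing A] [IsNoetherianRing A] (J : Ideal A) {r : ℕ} (f : Fin r → A)

lemma part1 (hf : IsWeaklyRegular (A ⧸ J) (List.ofFn f))
    (hrad : Ideal.span (Set.range f) ≤ (⊥ : Ideal A).jacobson) (n : ℕ) (hn : 0 < n) :
    J ⊓ Ideal.span (Set.range f) ^ n = J * Ideal.span (Set.range f) ^ n := by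
  apply le_antisymm
  · intro x hx
    set R := Ideal.span (Set.range f) with hR
    have key : ∀ N : ℕ, x ∈ J * R ^ n ⊔ R ^ N := by
      intro N
      rcases le_total n N with h | h
      · have := Groth.Agent.S3827.result J f hf n N hn h
        rw [this] at hx
        have hle2 : J * R ^ n ⊔ J ⊓ R ^ N ≤ J * R ^ n ⊔ R ^ N := sup_le_sup_left inf_le_right _
        exact hle2 hx
      · exact Ideal.mem_sup_right (Ideal.pow_le_pow_right h hx.2)
    have hK := Ideal.iInf_pow_smul_eq_bot_of_le_jacobson (M := A ⧸ (J * R ^ n)) R hrad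
    have hmem : (Ideal.Quotient.mk (J * R ^ n) x : A ⧸ (J * R ^ n)) ∈
        (⨅ i : ℕ, R ^ i • ⊤ : Submodule A (A ⧸ (J * R ^ n))) := by
      rw [Submodule.mem_iInf]
      intro N
      have hN := key N
      rw [Submodule.mem_sup] at hN
      obtain ⟨y, hy, z, hz, rfl⟩ := hN
      rw [map_add, Ideal.Quotient.eq_zero_iff_mem.mpr hy, zero_add]
      have : (Ideal.Quotient.mk (J * R ^ n) z : A ⧸ (J * R ^ n)) =
          z • (Ideal.Quotient.mk (J * R ^ n) 1 : A ⧸ (J * R ^ n)) := by
        rw [Algebra.smul_def, Ideal.Quotient.algebraMap_eq, ← map_mul, mul_one]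
      rw [this]
      exact Submodule.smul_mem_smul hz Submodule.mem_top
    rw [hK, Submodule.mem_bot, Ideal.Quotient.eq_zero_iff_mem] at hmem
    exact hmem
  · exact le_inf Ideal.mul_le_left Ideal.mul_le_right

end helpers


/-- Let A be a Noetherian ring, J an ideal of A, and f_1, …, f_r elements of A forming a weakly regular
sequence on A/J (each f_i a nonzerodivisor on A/(J + (f_1, …, f_{i−1}))) and generating an ideal R
contained in the Jacobson radical of A; put Q = J + R. Then J ∩ Rⁿ = J·Rⁿ for every n > 0, and J ∩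
Q² = J·Q (equivalently, the canonical map J/JQ → Q/Q² is injective). -/
theorem result {A : Type u} [CommRing A] [IsNoetherianRing A] (J : Ideal A)
    {r : ℕ} (f : Fin r → A) (hf : RingTheory.Sequence.IsWeaklyRegular (A ⧸ J) (List.ofFn f))
    (hrad : Ideal.span (Set.range f) ≤ (⊥ : Ideal A).jacobson) :
    (∀ n : ℕ, 0 < n → J ⊓ Ideal.span (Set.range f) ^ n = J * Ideal.span (Set.range f) ^ n) ∧
      J ⊓ (J ⊔ Ideal.span (Set.range f)) ^ 2 = J * (J ⊔ Ideal.span (Set.range f)) := by
  refine ⟨fun n hn => part1 J f hf hrad n hn, ?_⟩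
  set R := Ideal.span (Set.range f) with hR
  have h2 := part1 J f hf hrad 2 (by norm_num)
  have hsq : (J ⊔ R) ^ 2 = J * (J ⊔ R) ⊔ R ^ 2 := by
    rw [pow_two, pow_two, Ideal.sup_mul, Ideal.mul_sup R, Ideal.mul_comm R J]
    apply le_antisymm
    · refine sup_le le_sup_left (sup_le ?_ le_sup_right)
      exact le_sup_of_le_left (Ideal.mul_mono_right le_sup_right)
    · exact sup_le le_sup_left (le_sup_of_le_right le_sup_right)
  have hle : J * (J ⊔ R) ≤ J := Ideal.mul_le_left
  rw [hsq, inf_comm, sup_inf_assoc_of_le _ hle, inf_comm, h2]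
  apply le_antisymm
  · refine sup_le le_rfl ?_
    rw [pow_two]
    exact Ideal.mul_mono_right ((Ideal.mul_le_left).trans le_sup_right)
  · exact le_sup_left

end Groth.Agent.S3828
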