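import Groth.Statements.S3833
import Mathlib.Tactic
import Mathlib.AlgebraicGeometry.Morphisms.QuasiCompact
-- import your own Groth.Agent.* helpers here

set_option autoImplicit false
universe u
open CategoryTheory CategoryTheory.Limits AlgebraicGeometry TopologicalSpace
open Rat20

namespace Groth.Agent.S3833

/-- Stated for a global section, the case of a section over an open subset U being the same statement
for the open subscheme U: let X be a scheme and s a global section of O_X which is regular in the
sense that its germ at every point x is a non-zero-divisor of the local ring O_{X,x} (on an affine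
scheme this is the same as being a non-zero-divisor of Γ(X, O_X), but not in general). Then the open
subset X_s where s is invertible is schematically dense in X. -/
theorem result (X : Scheme.{u}) (s : Γ(X, ⊤))
    (hs : ∀ x : ↥X, (X.presheaf.germ ⊤ x trivial s) ∈ nonZeroDivisors ↑(X.presheaf.stalk x)) :
    CInt.IsSchematicallyDense (X.basicOpen s) := by
  intro V
  rw [injective_iff_map_eq_zero]
  intro t ht
  apply TopCat.Presheaf.section_ext X.sheaf V
  intro x hx
  change X.presheaf.germ V x hx t = X.presheaf.germ V x hx 0
  rw [map_zero]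
  -- choose affine W with x ∈ W ≤ V
  obtain ⟨_, ⟨W, hW, rfl⟩, hxW, hWV⟩ :=
    X.isBasis_affineOpens.exists_subset_of_mem_open hx V.isOpen
  have hWV' : W ≤ V := hWV
  set t' : Γ(X, W) := X.presheaf.map (homOfLE hWV').op t with ht'
  set s' : Γ(X, W) := X.presheaf.map (homOfLE (le_top : W ≤ ⊤)).op s with hs'
  have hbo : X.basicOpen s' = W ⊓ X.basicOpen s := X.basicOpen_res _ _
  have hle : X.basicOpen s' ≤ V ⊓ X.basicOpen s := by
    rw [hbo]
    exact inf_le_inf_right _ hWV'
  have hres : t' |_ (X.basicOpen s') = 0 := by
    have h1 : X.presheaf.map (homOfLE hle).op (X.presheaf.map (homOfLE (inf_le_left : V ⊓ X.basicOpen s ≤ V)).op t) = 0 := by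
      rw [ht, map_zero]
    rw [← h1]
    change X.presheaf.map _ (X.presheaf.map _ t) = X.presheaf.map _ (X.presheaf.map _ t)
    rw [← CommRingCat.comp_apply, ← CommRingCat.comp_apply, ← Functor.map_comp, ← Functor.map_comp]
    rfl
  obtain ⟨n, hn⟩ := exists_pow_mul_eq_zero_of_res_basicOpen_eq_zero_of_isAffineOpen X hW t' s' hres
  -- germs
  have hg := congrArg (X.presheaf.germ W x hxW) hn
  rw [map_mul, map_pow, map_zero] at hg
  have hs'g : X.presheaf.germ W x hxW s' = X.presheaf.germ ⊤ x trivial s := by
    rw [hs']
    exact TopCat.Presheaf.germ_res_apply X.presheaf (homOfLE (le_top : W ≤ ⊤)) x hxW s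
  have ht'g : X.presheaf.germ W x hxW t' = X.presheaf.germ V x hx t := by
    rw [ht']
    exact TopCat.Presheaf.germ_res_apply X.presheaf (homOfLE hWV') x hxW t
  rw [hs'g, ht'g] at hg
  have hnz := pow_mem (hs x) n
  exact (mem_nonZeroDivisors_iff.mp hnz).1 _ hg

end Groth.Agent.S3833
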