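import Groth.Statements.S3834
import Groth.Agent.Lib.Helper29.MeroDense
import Groth.Agent.S3833
import Groth.Agent.S12513

set_option autoImplicit false
universe u
open CategoryTheory CategoryTheory.Limits AlgebraicGeometry TopologicalSpace
open Rat20

namespace Groth.Agent.S3834



section Helpers
open Opposite

variable {X : Scheme.{u}}

theorem isSchematicallyDense_mono {U U' : X.Opens} (h : U ≤ U') (hU : CInt.IsSchematicallyDense U) :
    CInt.IsSchematicallyDense U' := by
  intro V a b hab
  apply hU V
  have h1 : V ⊓ U ≤ V ⊓ U' := inf_le_inf_left V h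
  have h2 := congrArg (X.presheaf.map (homOfLE h1).op) hab
  rw [← ConcreteCategory.comp_apply, ← ConcreteCategory.comp_apply, ← Functor.map_comp] at h2
  exact h2

theorem finite_minimalPrimes_top [IsAffine X] (h1 : (irreducibleComponents ↥X).Finite) :
    (minimalPrimes Γ(X, ⊤)).Finite := by
  let e : ↥X ≃ₜ PrimeSpectrum Γ(X, ⊤) := Scheme.homeoOfIso X.isoSpec
  have eq := irreducibleComponentsEquivOfIsPreirreducibleFiber e e.continuous e.isOpenMap
    (fun x => (Set.subsingleton_singleton.preimage e.injective).isPreirreducible) e.surjective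
  have h2 : (irreducibleComponents (PrimeSpectrum Γ(X, ⊤))).Finite := by
    haveI : Finite ↑(irreducibleComponents ↥X) := h1.to_subtype
    haveI : Finite ↑(irreducibleComponents (PrimeSpectrum Γ(X, ⊤))) := Finite.of_equiv _ eq.symm.toEquiv
    exact Set.toFinite _
  rw [← PrimeSpectrum.vanishingIdeal_irreducibleComponents]
  exact h2.image _

end Helpers

/-- Let X = Spec A be an affine scheme, with A Noetherian, or A reduced with finitely many minimal
primes. Then an open subset U of X is schematically dense if and only if it contains an open subset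
of the form X_t with t a regular element of A = Γ(X, O_X). -/
theorem result (X : Scheme.{u}) [IsAffine X]
    (hX : IsNoetherian X ∨ (IsReduced X ∧ (irreducibleComponents ↥X).Finite)) (U : X.Opens) :
    CInt.IsSchematicallyDense U ↔ ∃ t : Γ(X, ⊤), t ∈ nonZeroDivisors Γ(X, ⊤) ∧ X.basicOpen t ≤ U := by
  constructor
  · intro hU
    have hdense := hU ⊤
    rcases hX with hN | ⟨hR, hfin⟩
    · exact Groth.Agent.Lib.Helper29.MeroDiv.exists_regular_basicOpen_le_of_noetherian
        (isAffineOpen_top X) U hdense
    · exact Groth.Agent.Lib.Helper29.MeroDiv.exists_regular_basicOpen_le_of_reduced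
        (isAffineOpen_top X) (finite_minimalPrimes_top hfin) U hdense
  · rintro ⟨t, ht, htU⟩
    refine isSchematicallyDense_mono htU (Groth.Agent.S3833.result X t fun x => ?_)
    rw [← Groth.Agent.S12513.result X ⊤ (isAffineOpen_top X)] at ht
    exact ht ⟨x, trivial⟩



end Groth.Agent.S3834
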