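import Groth.Statements.S3836
import Groth.Agent.Lib.Helper13.SectionExt3

set_option autoImplicit false
universe u
open CategoryTheory CategoryTheory.Limits AlgebraicGeometry TopologicalSpace
open Rat20

namespace Groth.Agent.S3836

/-- Let X be a locally integral S-scheme, Y an S-scheme locally of finite type and separated over S, and
h : U → Y an S-morphism on a dense open subset (a rational S-map ω). Let Γ be the closure in X ×_S Y
of the graph of h and p : Γ → X the projection. If x is a point of X whose local ring is integrally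
closed and the fibre p⁻¹(x) contains an isolated point, then ω is defined at x: some S-morphism from
an open neighbourhood of x to Y agrees with h on U. -/
theorem result {X Y S : Scheme.{u}} (pX : X ⟶ S) (pY : Y ⟶ S)
    [LocallyOfFiniteType pY] [IsSeparated pY] (hX : ∀ y : ↥X, ∃ W : X.Opens, y ∈ W ∧ IsIntegral (W : Scheme.{u}))
    (U : X.Opens) (hU : Dense (U : Set ↥X)) (h : (U : Scheme.{u}) ⟶ Y) (hh : U.ι ≫ pX = h ≫ pY)
    (x : ↥X) (hx : IsIntegrallyClosed (X.presheaf.stalk x))
    (z : ↥(pullback pX pY)) (hz : pullback.fst pX pY z = x)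
    (hzΓ : z ∈ closure (Set.range (pullback.lift U.ι h hh)))
    (hiso : ∃ W : (pullback pX pY).Opens, (W : Set ↥(pullback pX pY)) ∩ closure (Set.range (pullback.lift U.ι h hh)) ∩
      (pullback.fst pX pY) ⁻¹' {x} = {z}) :
    ∃ (V : X.Opens) (v : (V : Scheme.{u}) ⟶ Y), x ∈ V ∧ v ≫ pY = V.ι ≫ pX ∧
      X.homOfLE (inf_le_right : U ⊓ V ≤ V) ≫ v = X.homOfLE (inf_le_left : U ⊓ V ≤ U) ≫ h := by
  classical
  obtain ⟨W, hW⟩ := hiso
  let q : pullback pX pY ⟶ X := pullback.fst pX pY
  let ht : (U : Scheme.{u}) ⟶ pullback pX pY := pullback.lift U.ι h hh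
  have hht : ht ≫ q = U.ι := pullback.lift_fst _ _ _
  have hht2 : ht ≫ pullback.snd pX pY = h := pullback.lift_snd _ _ _
  have hzW : z ∈ W := by
    have : z ∈ ((W : Set ↥(pullback pX pY)) ∩ closure (Set.range (pullback.lift U.ι h hh)) ∩
        (pullback.fst pX pY) ⁻¹' {x}) := by rw [hW]; rfl
    exact this.1.1
  obtain ⟨V, g, hxV, hg, hag⟩ :=
    Groth.Agent.Lib.Helper13.SectionExt.exists_extension_of_isolated q U ht hht x (hX x) hx z hz hzΓ
      (W : Set ↥(pullback pX pY)) W.isOpen hzW (by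
        intro y hyW hycl hqy
        have : y ∈ ((W : Set ↥(pullback pX pY)) ∩ closure (Set.range (pullback.lift U.ι h hh)) ∩
            (pullback.fst pX pY) ⁻¹' {x}) := ⟨⟨hyW, hycl⟩, hqy⟩
        rw [hW] at this
        exact this)
  have hag' : ∀ (T : Scheme.{u}) (a : T ⟶ (U : Scheme.{u})) (b : T ⟶ (V : Scheme.{u})),
      a ≫ U.ι = b ≫ V.ι → a ≫ ht = b ≫ g := by
    intro T a b hab
    have h1 := congrArg (fun ξ => pullback.lift a b hab ≫ ξ) hag
    simpa only [pullback.lift_fst_assoc, pullback.lift_snd_assoc] using h1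
  refine ⟨V, g ≫ pullback.snd pX pY, hxV, ?_, ?_⟩
  · rw [Category.assoc, ← pullback.condition, ← Category.assoc, hg]
  · have h1 := hag' _ (X.homOfLE (inf_le_left : U ⊓ V ≤ U)) (X.homOfLE (inf_le_right : U ⊓ V ≤ V))
      (by rw [Scheme.homOfLE_ι, Scheme.homOfLE_ι])
    rw [← Category.assoc, ← h1, Category.assoc, hht2]

end Groth.Agent.S3836
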