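import Groth.Statements.S3842


set_option autoImplicit false
universe u
open CategoryTheory CategoryTheory.Limits AlgebraicGeometry TopologicalSpace
open Rat20

namespace Groth.Agent.S3842



section Helpers
open Opposite

variable {X : Scheme.{u}}

/-- on a reduced scheme a topologically dense open is schematically dense -/
theorem isSchematicallyDense_of_dense [IsReduced X] (U : X.Opens) (h : Dense (U : Set X)) :
    CInt.IsSchematicallyDense U := by
  intro V
  rw [injective_iff_map_eq_zero]
  intro a ha
  rw [← AlgebraicGeometry.basicOpen_eq_bot_iff]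
  have h1 := Scheme.basicOpen_res X a (homOfLE (inf_le_left : V ⊓ U ≤ V)).op
  rw [ha, Scheme.basicOpen_zero] at h1
  by_contra hne
  have hne' : ((X.basicOpen a : X.Opens) : Set X).Nonempty := by
    rw [Set.nonempty_iff_ne_empty]
    intro h0
    exact hne (Opens.ext h0)
  obtain ⟨y, hya, hyU⟩ := h.inter_open_nonempty _ (X.basicOpen a).isOpen hne'
  have : y ∈ (⊥ : X.Opens) := by
    rw [h1]
    exact ⟨⟨X.basicOpen_le a hya, hyU⟩, hya⟩
  exact this

/-- a schematically dense open is dense -/
theorem dense_of_isSchematicallyDense (V : X.Opens) (hV : CInt.IsSchematicallyDense V) :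
    Dense (V : Set X) := by
  rw [dense_iff_inter_open]
  rintro W hW ⟨x, hx⟩
  by_contra hcon
  rw [Set.not_nonempty_iff_eq_empty] at hcon
  let W' : X.Opens := ⟨W, hW⟩
  have hbot : W' ⊓ V = ⊥ := Opens.ext hcon
  have hinj := hV W'
  have h1 : (1 : Γ(X, W')) = 0 := by
    apply hinj
    have hsub : Subsingleton Γ(X, W' ⊓ V) := by
      rw [hbot]
      exact CommRingCat.subsingleton_of_isTerminal X.sheaf.isTerminalOfEmpty
    exact Subsingleton.elim _ _
  have h2 := congrArg (X.presheaf.germ W' x hx) h1
  rw [map_one, map_zero] at h2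
  exact one_ne_zero h2

/-- a dense open contains the generic points of the irreducible components, when these are locally
finite -/
theorem genericPoint_mem_of_dense
    (hfin : ∀ x : ↥X, ∃ W : X.Opens, x ∈ W ∧
      {Z ∈ irreducibleComponents ↥X | (Z ∩ (W : Set ↥X)).Nonempty}.Finite)
    (V : X.Opens) (hV : Dense (V : Set X)) (Z : Set X) (hZ : Z ∈ irreducibleComponents X) (η : X)
    (hη : IsGenericPoint η Z) : η ∈ V := by
  obtain ⟨W, hηW, hWfin⟩ := hfin η
  set O : Set X := ⋃₀ ({Z' ∈ irreducibleComponents ↥X | (Z' ∩ (W : Set ↥X)).Nonempty} \ {Z}) with hOdef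
  have hOcl : IsClosed O := by
    rw [hOdef, Set.sUnion_eq_biUnion]
    exact (hWfin.subset Set.diff_subset).isClosed_biUnion
      (fun Z' hZ' => isClosed_of_mem_irreducibleComponents Z' hZ'.1.1)
  have hηO : η ∉ O := by
    rintro ⟨Z', ⟨⟨hZ', -⟩, hne⟩, hηZ'⟩
    have hsub : Z ⊆ Z' := by
      rw [← hη.def]
      exact (isClosed_of_mem_irreducibleComponents Z' hZ').closure_subset_iff.2
        (Set.singleton_subset_iff.2 hηZ')
    exact hne (Set.Subset.antisymm (hZ.2 hZ'.1 hsub) hsub)
  obtain ⟨y, ⟨hyW, hyO⟩, hyV⟩ := hV.inter_open_nonempty ((W : Set X) ∩ Oᶜ)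
    (W.isOpen.inter hOcl.isOpen_compl) ⟨η, hηW, hηO⟩
  have hyZ : y ∈ Z := by
    by_contra hyZ
    refine hyO ⟨irreducibleComponent y, ⟨⟨irreducibleComponent_mem_irreducibleComponents y,
      ⟨y, mem_irreducibleComponent, hyW⟩⟩, ?_⟩, mem_irreducibleComponent⟩
    rintro (h : irreducibleComponent y = Z)
    exact hyZ (h ▸ mem_irreducibleComponent)
  exact (hη.specializes hyZ).mem_open V.isOpen hyV

end Helpers

/-- For the open subset U = X; the general case is the same statement over the open subscheme U: let f :
X' → X be a morphism of schemes with X' reduced, suppose the irreducible components of X form a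
locally finite family and that every irreducible component of X' dominates an irreducible component
of X (the closure of its image is an irreducible component of X). Then for every schematically dense
open subset V of X, the preimage f⁻¹(V) is schematically dense in X'. -/
theorem result {X X' : Scheme.{u}} (f : X' ⟶ X) [IsReduced X']
    (hfin : ∀ x : ↥X, ∃ W : X.Opens, x ∈ W ∧ {Z ∈ irreducibleComponents ↥X | (Z ∩ (W : Set ↥X)).Nonempty}.Finite)
    (hdom : ∀ Z' ∈ irreducibleComponents ↥X', closure (f '' Z') ∈ irreducibleComponents ↥X)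
    (V : X.Opens) (hV : CInt.IsSchematicallyDense V) : CInt.IsSchematicallyDense (f ⁻¹ᵁ V) := by
  apply isSchematicallyDense_of_dense
  have hVd := dense_of_isSchematicallyDense V hV
  intro x'
  have hZ' := irreducibleComponent_mem_irreducibleComponents x'
  have hirr : IsIrreducible (irreducibleComponent x') := hZ'.1
  have hη' := hirr.isGenericPoint_genericPoint (isClosed_of_mem_irreducibleComponents _ hZ')
  have hfη := hη'.image f.continuous
  have hmem := genericPoint_mem_of_dense hfin V hVd _ (hdom _ hZ') _ hfη
  have hsp : hirr.genericPoint ⤳ x' := hη'.specializes mem_irreducibleComponent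
  have h1 : x' ∈ closure ({hirr.genericPoint} : Set X') := specializes_iff_mem_closure.1 hsp
  have hmem' : hirr.genericPoint ∈ ((f ⁻¹ᵁ V : X'.Opens) : Set X') := hmem
  exact closure_mono (Set.singleton_subset_iff.2 hmem') h1



end Groth.Agent.S3842
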