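import Groth.Statements.S3846
-- import your own Groth.Agent.* helpers here

set_option autoImplicit false
universe u
open CategoryTheory CategoryTheory.Limits AlgebraicGeometry TopologicalSpace
open Unram17

namespace Groth.Agent.S3846


/-- A morphism into an unramified (locally of finite type) scheme over `Z` whose composite
is an open immersion is an open immersion. -/
lemma isOpenImmersion_of_comp_unramified {V W Z : Scheme.{u}} (s : V ⟶ W) (h : W ⟶ Z)
    [FormallyUnramified h] [LocallyOfFiniteType h] [IsOpenImmersion (s ≫ h)] :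
    IsOpenImmersion s := by
  have := (MorphismProperty.hasOfPostcompProperty_iff_le_diagonal (P := @IsOpenImmersion)
    (Q := (@IsOpenImmersion).diagonal)).mpr le_rfl
  exact MorphismProperty.of_postcomp (W := @IsOpenImmersion) (W' := (@IsOpenImmersion).diagonal) s h
    (show IsOpenImmersion (pullback.diagonal h) from inferInstance) ‹_›

/-- a) iff b''): let f : X → Y be locally of finite presentation and x a point of X. Then f is
unramified on some open neighbourhood of x if and only if, for every base change g : Y' → Y and
every section s' of X ×_Y Y' → Y', s' is a local isomorphism at every point y' of Y' such that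
s'(y') lies over x. -/
theorem result {X Y : Scheme.{u}} (f : X ⟶ Y) [LocallyOfFinitePresentation f]
    (x : ↥X) :
    (∃ U : X.Opens, x ∈ U ∧ FormallyUnramified (U.ι ≫ f)) ↔
      ∀ (Y' : Scheme.{u}) (g : Y' ⟶ Y) (s' : Y' ⟶ pullback f g), s' ≫ pullback.snd f g = 𝟙 Y' →
        ∀ y' : ↥Y', pullback.fst f g (s' y') = x → SchLoc.IsLocalIsoAt s' y' := by
  constructor
  · rintro ⟨U, hxU, hU⟩ Y' g s' hs' y' hy'
    -- W = preimage of U in the pullback, V = preimage of W under s'
    let W : (pullback f g).Opens := (pullback.fst f g) ⁻¹ᵁ U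
    let V : Y'.Opens := s' ⁻¹ᵁ W
    have hyV : y' ∈ V := by
      change pullback.fst f g (s' y') ∈ U
      rw [hy']; exact hxU
    refine ⟨V, hyV, ?_⟩
    -- the restriction s'|_V : V → W
    have hle : V.ι ''ᵁ ⊤ ≤ s' ⁻¹ᵁ W := by
      rw [Scheme.Opens.ι_image_top]
    let sV : (V : Scheme) ⟶ W := IsOpenImmersion.lift W.ι (V.ι ≫ s') (by
      rw [Scheme.Opens.range_ι]
      rintro _ ⟨v, rfl⟩
      exact v.2)
    have hsV : sV ≫ W.ι = V.ι ≫ s' := IsOpenImmersion.lift_fac _ _ _
    -- h : W → Y' is unramified and locally of finite type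
    let h : (W : Scheme) ⟶ Y' := W.ι ≫ pullback.snd f g
    have sq : IsPullback (pullback.fst f g ∣_ U) h (U.ι ≫ f) g :=
      (((isPullback_morphismRestrict (pullback.fst f g) U).flip).paste_horiz
        (IsPullback.of_hasPullback f g).flip).flip
    have : LocallyOfFiniteType (U.ι ≫ f) := inferInstance
    have h1 : FormallyUnramified h :=
      MorphismProperty.of_isPullback (P := @FormallyUnramified) sq hU
    have h2 : LocallyOfFiniteType h :=
      MorphismProperty.of_isPullback (P := @LocallyOfFiniteType) sq this
    have hcomp : sV ≫ h = V.ι := by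
      simp only [h]
      rw [← Category.assoc, hsV, Category.assoc, hs', Category.comp_id]
    have : IsOpenImmersion (sV ≫ h) := by rw [hcomp]; infer_instance
    have : IsOpenImmersion sV := isOpenImmersion_of_comp_unramified sV h
    rw [← hsV]
    infer_instance
  · intro H
    have hx : pullback.fst f f ((pullback.diagonal f) x) = x := by
      rw [← Scheme.Hom.comp_apply, pullback.diagonal_fst]
      rfl
    obtain ⟨U, hxU, hU⟩ := H X f (pullback.diagonal f) (pullback.diagonal_snd f) x hx
    refine ⟨U, hxU, ?_⟩
    have heq : pullback.diagonal (U.ι ≫ f) ≫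
        pullback.map (U.ι ≫ f) (U.ι ≫ f) f f U.ι U.ι (𝟙 Y) (by simp) (by simp) =
        U.ι ≫ pullback.diagonal f := by
      apply pullback.hom_ext
      · rw [Category.assoc, pullback.lift_fst, ← Category.assoc, pullback.diagonal_fst,
          Category.id_comp, Category.assoc, pullback.diagonal_fst, Category.comp_id]
      · rw [Category.assoc, pullback.lift_snd, ← Category.assoc, pullback.diagonal_snd,
          Category.id_comp, Category.assoc, pullback.diagonal_snd, Category.comp_id]
    have : IsOpenImmersion (pullback.diagonal (U.ι ≫ f) ≫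
        pullback.map (U.ι ≫ f) (U.ι ≫ f) f f U.ι U.ι (𝟙 Y) (by simp) (by simp)) := by
      rw [heq]; exact hU
    have : IsOpenImmersion (pullback.diagonal (U.ι ≫ f)) :=
      IsOpenImmersion.of_comp _ (pullback.map (U.ι ≫ f) (U.ι ≫ f) f f U.ι U.ι (𝟙 Y) _ _)
    infer_instance

end Groth.Agent.S3846
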