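import Groth.Statements.S3848
import Groth.Agent.Lib.Helper13.SectionDvr2
import Groth.Agent.Lib.Helper13.GlueTwo

set_option autoImplicit false
universe u
open CategoryTheory CategoryTheory.Limits AlgebraicGeometry TopologicalSpace
open Rat20

namespace Groth.Agent.S3848

/-- In the case S = X (valuative criterion for a rational map to be defined at a point): let X be a
locally Noetherian scheme, q : Y → X a morphism locally of finite type, U a dense open subset of X,
h : U → Y a section of q over U, x a point of X outside U whose local ring is an integrally closed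
domain, and y₀ a point of Y over x with trivial residue field extension (an X-morphism Spec k(x) →
Y). Then h extends to a section h' of q over an open subset U' containing U and x with h'(x) = y₀ if
and only if: for every discrete valuation ring R and every morphism u : Spec R → X sending the
closed point to x and the generic point into U, there is a morphism h₁ : Spec R → Y over X sending
the closed point to y₀ and agreeing with h at the generic point. -/
theorem result {X Y : Scheme.{u}} [IsLocallyNoetherian X] (q : Y ⟶ X)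
    [LocallyOfFiniteType q] (U : X.Opens) (hU : Dense (U : Set ↥X)) (h : (U : Scheme.{u}) ⟶ Y)
    (hh : h ≫ q = U.ι) (x : ↥X) (hxU : x ∉ U) [IsDomain ↑(X.presheaf.stalk x)]
    (hx : IsIntegrallyClosed ↑(X.presheaf.stalk x)) (y₀ : ↥Y) (hy₀ : q y₀ = x)
    (hk : Function.Bijective (q.residueFieldMap y₀)) :
    (∃ (U' : X.Opens) (hUU' : U ≤ U') (hxU' : x ∈ U') (h' : (U' : Scheme.{u}) ⟶ Y),
        h' ≫ q = U'.ι ∧ X.homOfLE hUU' ≫ h' = h ∧ h' ⟨x, hxU'⟩ = y₀) ↔
      ∀ (R : Type u) [CommRing R] [IsDomain R] [IsDiscreteValuationRing R]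
        (u : Spec (CommRingCat.of R) ⟶ X), u (IsLocalRing.closedPoint R) = x →
        ∀ ub : Spec (CommRingCat.of (FractionRing R)) ⟶ (U : Scheme.{u}),
          ub ≫ U.ι = Spec.map (CommRingCat.ofHom (algebraMap R (FractionRing R))) ≫ u →
          ∃ h₁ : Spec (CommRingCat.of R) ⟶ Y, h₁ ≫ q = u ∧ h₁ (IsLocalRing.closedPoint R) = y₀ ∧
            Spec.map (CommRingCat.ofHom (algebraMap R (FractionRing R))) ≫ h₁ = ub ≫ h := by
  classical
  constructor
  · rintro ⟨U', hUU', hxU', h', hh', hres, hpt⟩ R _ _ _ u hu ub hub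
    have hrange : Set.range u.base ⊆ Set.range U'.ι.base := by
      rintro _ ⟨p, rfl⟩
      rw [Scheme.Opens.range_ι]
      have h1 : u p ⤳ u (IsLocalRing.closedPoint R) :=
        (IsLocalRing.specializes_closedPoint p).map u.continuous
      rw [hu] at h1
      exact h1.mem_open U'.isOpen hxU'
    let u' : Spec (CommRingCat.of R) ⟶ (U' : Scheme.{u}) := IsOpenImmersion.lift U'.ι u hrange
    have hu' : u' ≫ U'.ι = u := IsOpenImmersion.lift_fac _ _ _
    refine ⟨u' ≫ h', ?_, ?_, ?_⟩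
    · rw [Category.assoc, hh', hu']
    · rw [Scheme.Hom.comp_apply]
      have : u' (IsLocalRing.closedPoint R) = ⟨x, hxU'⟩ := by
        apply U'.ι.isOpenEmbedding.injective
        have := congrArg (fun g => g.base (IsLocalRing.closedPoint R)) hu'
        exact this.trans hu
      rw [this, hpt]
    · rw [← hres, ← Category.assoc, ← Category.assoc]
      congr 1
      rw [← cancel_mono U'.ι, Category.assoc, hu', Category.assoc, Scheme.homOfLE_ι, hub]
  · intro H
    -- Step 0: `y₀` lies in the closure of the range of `h`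
    have hy₀cl : y₀ ∈ closure (Set.range h) := by
      obtain ⟨R, iR, iD, iDVR, u, ub, hu, hub⟩ :=
        Groth.Agent.Lib.Helper13.SectionDvr.exists_dvr_centered U hU x hxU
      obtain ⟨h₁, hh₁, hcl, hgen⟩ := H R u hu ub hub
      let p₀ : Spec (CommRingCat.of (FractionRing R)) := IsLocalRing.closedPoint (FractionRing R)
      let t : Spec (CommRingCat.of R) :=
        (Spec.map (CommRingCat.ofHom (algebraMap R (FractionRing R)))) p₀
      have h1 : h₁ t ⤳ h₁ (IsLocalRing.closedPoint R) :=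
        (IsLocalRing.specializes_closedPoint t).map h₁.continuous
      have h2 : h₁ t = h (ub p₀) := congrArg (fun g => g.base p₀) hgen
      rw [h2, hcl] at h1
      have h3 : ({h (ub p₀)} : Set Y) ⊆ Set.range h :=
        Set.singleton_subset_iff.mpr ⟨ub p₀, rfl⟩
      exact closure_mono h3 (specializes_iff_mem_closure.mp h1)
    -- Step 1: an affine open neighbourhood of `y₀`
    obtain ⟨Y', hY'aff, hy₀Y'⟩ : ∃ Y' : Y.Opens, IsAffineOpen Y' ∧ y₀ ∈ Y' := by
      obtain ⟨_, ⟨V, hV, rfl⟩, hyV, -⟩ := Y.isBasis_affineOpens.exists_subset_of_mem_open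
        (Set.mem_univ y₀) isOpen_univ
      exact ⟨V, hV, hyV⟩
    haveI : IsAffine Y'.toScheme := hY'aff
    let U' : X.Opens := U.ι ''ᵁ (h ⁻¹ᵁ Y')
    have hU'U : U' ≤ U := by
      rintro _ ⟨w, -, rfl⟩
      exact w.2
    have memU' : ∀ w : U.toScheme, h w ∈ Y' → U.ι w ∈ U' := fun w hw => ⟨w, hw, rfl⟩
    obtain ⟨h', hh'def⟩ : ∃ h' : (U' : Scheme.{u}) ⟶ (Y' : Scheme.{u}),
      h' = (U.ι.isoImage (h ⁻¹ᵁ Y')).inv ≫ (h ∣_ Y') := ⟨_, rfl⟩
    have hh'Y : h' ≫ Y'.ι = X.homOfLE hU'U ≫ h := by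
      rw [hh'def, Category.assoc, morphismRestrict_ι, ← Category.assoc]
      congr 1
      rw [← cancel_mono U.ι, Category.assoc, Scheme.Hom.isoImage_inv_ι, Scheme.homOfLE_ι]
    obtain ⟨q', hq'def⟩ : ∃ q' : (Y' : Scheme.{u}) ⟶ X, q' = Y'.ι ≫ q := ⟨_, rfl⟩
    haveI : IsSeparated q' := inferInstance
    haveI : LocallyOfFiniteType q' := hq'def ▸ inferInstance
    have hh' : h' ≫ q' = U'.ι := by
      rw [hq'def, ← Category.assoc, hh'Y, Category.assoc, hh, Scheme.homOfLE_ι]
    have hpt : ∀ (w : U.toScheme) (hw : U.ι w ∈ U'), Y'.ι (h' ⟨U.ι w, hw⟩) = h w := by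
      intro w hw
      have h1 := congrArg (fun g => g.base (⟨U.ι w, hw⟩ : U'.toScheme)) hh'Y
      have h2 : X.homOfLE hU'U ⟨U.ι w, hw⟩ = w := by
        apply U.ι.isOpenEmbedding.injective
        exact congrArg (fun g => g.base (⟨U.ι w, hw⟩ : U'.toScheme)) (X.homOfLE_ι hU'U)
      refine h1.trans ?_
      change h (X.homOfLE hU'U ⟨U.ι w, hw⟩) = h w
      rw [h2]
    -- Step 2: the point `y₀'`
    let y₀' : Y'.toScheme := ⟨y₀, hy₀Y'⟩
    have hy₀cl' : y₀' ∈ closure (Set.range h') := by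
      rw [mem_closure_iff]
      intro O hO hyO
      have hO' : IsOpen (Y'.ι '' O) := Y'.ι.isOpenEmbedding.isOpenMap O hO
      obtain ⟨_, ⟨o, ho, rfl⟩, ⟨w, hw⟩⟩ := (mem_closure_iff.mp hy₀cl) _ hO' ⟨y₀', hyO, rfl⟩
      have hwY' : h w ∈ Y' := by rw [hw]; exact o.2
      refine ⟨h' ⟨U.ι w, memU' w hwY'⟩, ?_, ⟨_, rfl⟩⟩
      have : h' ⟨U.ι w, memU' w hwY'⟩ = o := by
        apply Y'.ι.isOpenEmbedding.injective
        rw [hpt w (memU' w hwY'), hw]
      rw [this]; exact ho
    -- Step 3: the valuative criterion for the restricted data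
    have H' : ∀ (R : Type u) [CommRing R] [IsDomain R] [IsDiscreteValuationRing R]
        (u : Spec (CommRingCat.of R) ⟶ X), u (IsLocalRing.closedPoint R) = x →
        ∀ ub : Spec (CommRingCat.of (FractionRing R)) ⟶ (U' : Scheme.{u}),
          ub ≫ U'.ι = Spec.map (CommRingCat.ofHom (algebraMap R (FractionRing R))) ≫ u →
          ∃ h₁ : Spec (CommRingCat.of R) ⟶ (Y' : Scheme.{u}), h₁ ≫ q' = u ∧
            h₁ (IsLocalRing.closedPoint R) = y₀' ∧
            Spec.map (CommRingCat.ofHom (algebraMap R (FractionRing R))) ≫ h₁ = ub ≫ h' := by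
      intro R _ _ _ u hu ub hub
      obtain ⟨h₁, hh₁, hcl, hgen⟩ := H R u hu (ub ≫ X.homOfLE hU'U)
        (by rw [Category.assoc, Scheme.homOfLE_ι, hub])
      have hrange : Set.range h₁.base ⊆ Set.range Y'.ι.base := by
        rintro _ ⟨p, rfl⟩
        rw [Scheme.Opens.range_ι]
        have h1 : h₁ p ⤳ h₁ (IsLocalRing.closedPoint R) :=
          (IsLocalRing.specializes_closedPoint p).map h₁.continuous
        rw [hcl] at h1
        exact h1.mem_open Y'.isOpen hy₀Y'
      let h₁' : Spec (CommRingCat.of R) ⟶ (Y' : Scheme.{u}) :=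
        IsOpenImmersion.lift Y'.ι h₁ hrange
      have hh₁' : h₁' ≫ Y'.ι = h₁ := IsOpenImmersion.lift_fac _ _ _
      refine ⟨h₁', ?_, ?_, ?_⟩
      · rw [hq'def, ← Category.assoc, hh₁', hh₁]
      · apply Y'.ι.isOpenEmbedding.injective
        have := congrArg (fun g => g.base (IsLocalRing.closedPoint R)) hh₁'
        exact this.trans hcl
      · rw [← cancel_mono Y'.ι, Category.assoc, hh₁', hgen, Category.assoc, Category.assoc, hh'Y]
    obtain ⟨X₁, hxX₁, hX₁aff, hX₁int, hX₁noeth⟩ :=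
      Groth.Agent.Lib.Helper13.SectionExt.exists_affine_integral_nhd x
    haveI := hX₁int
    haveI := hX₁noeth
    haveI : NoetherianSpace X₁.toScheme := inferInstance
    have hxU' : x ∉ U' := fun hc => hxU (hU'U hc)
    have hq'y₀' : q' y₀' = x := by
      rw [hq'def, Scheme.Hom.comp_apply]
      exact hy₀
    have hiso : ∀ y ∈ (Set.univ : Set Y'.toScheme), y ∈ closure (Set.range h') → q' y = x →
        y = y₀' := by
      intro y _ hycl hqy
      exact Groth.Agent.Lib.Helper13.SectionDvr.eq_of_dvr_criterion q' U' h' hh' x hxU' X₁ hxX₁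
        y₀' y hycl hqy H'
    obtain ⟨V, g, hxV, hgq, hag, hgpt⟩ :=
      Groth.Agent.Lib.Helper13.SectionExt.exists_extension_of_isolated_pt q' U' h' hh' x
        ⟨X₁, hxX₁, hX₁int⟩ hx y₀' hq'y₀' hy₀cl' Set.univ isOpen_univ (Set.mem_univ _) hiso
    -- Step 4: shrink `V` so that it meets `U` inside `U'`
    have hgenU' : ∀ δ : X, δ ∈ U → δ ⤳ x → δ ∈ U' := by
      intro δ hδU hδx
      obtain ⟨R, iR, iD, iDVR, u, ub, hu, hub, hspec⟩ :=
        Groth.Agent.Lib.Helper13.SectionDvr.exists_dvr_of_specializes U δ x hδU hδx hxU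
      obtain ⟨h₁, hh₁, hcl, hgen⟩ := H R u hu ub hub
      let p₀ : Spec (CommRingCat.of (FractionRing R)) := IsLocalRing.closedPoint (FractionRing R)
      let t : Spec (CommRingCat.of R) :=
        (Spec.map (CommRingCat.ofHom (algebraMap R (FractionRing R)))) p₀
      have h1 : h₁ t ⤳ h₁ (IsLocalRing.closedPoint R) :=
        (IsLocalRing.specializes_closedPoint t).map h₁.continuous
      have h2 : h₁ t = h (ub p₀) := congrArg (fun g => g.base p₀) hgen
      rw [h2, hcl] at h1
      have h3 : h (ub p₀) ∈ Y' := h1.mem_open Y'.isOpen hy₀Y'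
      have h4 : U.ι (ub p₀) ∈ U' := memU' _ h3
      exact (hspec p₀).mem_open U'.isOpen h4
    obtain ⟨V₂, hxV₂, hV₂⟩ :=
      Groth.Agent.Lib.Helper13.SectionDvr.exists_nhd_inter_le U U' x hgenU'
    -- Step 5: glue
    obtain ⟨W, hWdef⟩ : ∃ W : X.Opens, W = V ⊓ V₂ := ⟨_, rfl⟩
    have hWV : W ≤ V := hWdef ▸ inf_le_left
    have hWV₂ : W ≤ V₂ := hWdef ▸ inf_le_right
    have hxW : x ∈ W := hWdef ▸ ⟨hxV, hxV₂⟩
    obtain ⟨gW, hgWdef⟩ : ∃ gW : (W : Scheme.{u}) ⟶ Y, gW = X.homOfLE hWV ≫ g ≫ Y'.ι := ⟨_, rfl⟩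
    have hgWq : gW ≫ q = W.ι := by
      rw [hgWdef, Category.assoc, Category.assoc, ← hq'def, hgq, Scheme.homOfLE_ι]
    have hagW : pullback.fst U.ι W.ι ≫ h = pullback.snd U.ι W.ι ≫ gW := by
      obtain ⟨a, ha⟩ : ∃ a : pullback U.ι W.ι ⟶ (U : Scheme.{u}), a = pullback.fst U.ι W.ι :=
        ⟨_, rfl⟩
      obtain ⟨b, hb⟩ : ∃ b : pullback U.ι W.ι ⟶ (W : Scheme.{u}), b = pullback.snd U.ι W.ι :=
        ⟨_, rfl⟩
      rw [← ha, ← hb]
      have hab : a ≫ U.ι = b ≫ W.ι := by rw [ha, hb]; exact pullback.condition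
      have hrange : Set.range (a ≫ U.ι).base ⊆ Set.range U'.ι.base := by
        rintro _ ⟨p, rfl⟩
        rw [Scheme.Opens.range_ι]
        apply hV₂
        refine ⟨(a p).2, ?_⟩
        have : (a ≫ U.ι) p = (b ≫ W.ι) p := by rw [hab]
        change (a ≫ U.ι) p ∈ V₂
        rw [this]
        exact hWV₂ (b p).2
      let c : pullback U.ι W.ι ⟶ (U' : Scheme.{u}) := IsOpenImmersion.lift U'.ι (a ≫ U.ι) hrange
      have hc : c ≫ U'.ι = a ≫ U.ι := IsOpenImmersion.lift_fac _ _ _
      have hc2 : c ≫ X.homOfLE hU'U = a := by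
        rw [← cancel_mono U.ι, Category.assoc, Scheme.homOfLE_ι, hc]
      have hcb : c ≫ U'.ι = (b ≫ X.homOfLE hWV) ≫ V.ι := by
        rw [hc, hab, Category.assoc, Scheme.homOfLE_ι]
      have h1 := congrArg (fun ξ => pullback.lift c (b ≫ X.homOfLE hWV) hcb ≫ ξ) hag
      simp only [pullback.lift_fst_assoc, pullback.lift_snd_assoc] at h1
      rw [← hc2, Category.assoc, ← hh'Y, ← Category.assoc, h1, hgWdef, Category.assoc,
        Category.assoc]
    obtain ⟨h'', hl, hr, hext⟩ :=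
      Groth.Agent.Lib.Helper13.GlueTwo.exists_glue_two U W h gW hagW
    have hxUW : x ∈ U ⊔ W := Or.inr hxW
    refine ⟨U ⊔ W, le_sup_left, hxUW, h'', ?_, hl, ?_⟩
    · apply hext
      · rw [← Category.assoc, hl, hh, Scheme.homOfLE_ι]
      · rw [← Category.assoc, hr, hgWq, Scheme.homOfLE_ι]
    · have e1 : (⟨x, hxUW⟩ : (U ⊔ W : X.Opens).toScheme) = X.homOfLE le_sup_right ⟨x, hxW⟩ := by
        apply (U ⊔ W).ι.isOpenEmbedding.injective
        exact (congrArg (fun k => k.base (⟨x, hxW⟩ : W.toScheme))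
          (X.homOfLE_ι (le_sup_right : W ≤ U ⊔ W))).symm
      rw [e1, ← Scheme.Hom.comp_apply, hr, hgWdef, Scheme.Hom.comp_apply, Scheme.Hom.comp_apply]
      have e2 : X.homOfLE hWV ⟨x, hxW⟩ = ⟨x, hxV⟩ := by
        apply V.ι.isOpenEmbedding.injective
        exact congrArg (fun k => k.base (⟨x, hxW⟩ : W.toScheme)) (X.homOfLE_ι hWV)
      rw [e2, hgpt hxV]
      rfl

end Groth.Agent.S3848
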