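import Groth.Statements.S3849
import Groth.Agent.Lib.Helper13.SectionExt2
import Groth.Agent.Lib.Helper13.SectionDvr

set_option autoImplicit false
universe u
open CategoryTheory CategoryTheory.Limits AlgebraicGeometry TopologicalSpace
open Rat20

namespace Groth.Agent.S3849

/-- In the case S = X (sections of q : Y → X): let X be a locally Noetherian scheme, q : Y → X
separated, locally of finite type and locally quasi-finite, U a dense open subset of X, h : U → Y a
section of q over U, and x a point of X outside U whose local ring is an integrally closed domain.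
Then h extends to a section of q over an open subset containing U and x if and only if there exist a
discrete valuation ring R, a morphism u : Spec R → X sending the closed point to x and the generic
point into U, and a morphism Spec R → Y over X agreeing with h at the generic point. -/
theorem result {X Y : Scheme.{u}} [IsLocallyNoetherian X] (q : Y ⟶ X)
    [LocallyOfFiniteType q] [IsSeparated q] [LocallyQuasiFinite q] (U : X.Opens) (hU : Dense (U : Set ↥X))
    (h : (U : Scheme.{u}) ⟶ Y) (hh : h ≫ q = U.ι) (x : ↥X) (hxU : x ∉ U) [IsDomain ↑(X.presheaf.stalk x)]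
    (hx : IsIntegrallyClosed ↑(X.presheaf.stalk x)) :
    (∃ (U' : X.Opens) (hUU' : U ≤ U') (h' : (U' : Scheme.{u}) ⟶ Y),
        x ∈ U' ∧ h' ≫ q = U'.ι ∧ X.homOfLE hUU' ≫ h' = h) ↔
      ∃ (R : Type u) (_ : CommRing R) (_ : IsDomain R) (_ : IsDiscreteValuationRing R)
        (u : Spec (CommRingCat.of R) ⟶ X) (ub : Spec (CommRingCat.of (FractionRing R)) ⟶ (U : Scheme.{u}))
        (h₁ : Spec (CommRingCat.of R) ⟶ Y),
        u (IsLocalRing.closedPoint R) = x ∧
          ub ≫ U.ι = Spec.map (CommRingCat.ofHom (algebraMap R (FractionRing R))) ≫ u ∧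
          h₁ ≫ q = u ∧ Spec.map (CommRingCat.ofHom (algebraMap R (FractionRing R))) ≫ h₁ = ub ≫ h := by
  classical
  constructor
  · rintro ⟨U', hUU', h', hxU', hh', hres⟩
    obtain ⟨R, iR, iD, iDVR, u, ub, hu, hub⟩ :=
      Groth.Agent.Lib.Helper13.SectionDvr.exists_dvr_centered U hU x hxU
    have hrange : Set.range u.base ⊆ Set.range U'.ι.base := by
      rintro _ ⟨p, rfl⟩
      rw [Scheme.Opens.range_ι]
      have h1 : u p ⤳ u (IsLocalRing.closedPoint R) :=
        (IsLocalRing.specializes_closedPoint p).map u.continuous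
      rw [hu] at h1
      exact h1.mem_open U'.isOpen hxU'
    let u' : Spec (CommRingCat.of R) ⟶ (U' : Scheme.{u}) := IsOpenImmersion.lift U'.ι u hrange
    have hu' : u' ≫ U'.ι = u := IsOpenImmersion.lift_fac _ _ _
    refine ⟨R, iR, iD, iDVR, u, ub, u' ≫ h', hu, hub, ?_, ?_⟩
    · rw [Category.assoc, hh', hu']
    · rw [← hres, ← Category.assoc, ← Category.assoc]
      congr 1
      rw [← cancel_mono U'.ι, Category.assoc, hu', Category.assoc, Scheme.homOfLE_ι, hub]
  · rintro ⟨R, iR, iD, iDVR, u, ub, h₁, hu, hub, hh₁, hgen⟩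
    have hy₀x : q (h₁ (IsLocalRing.closedPoint R)) = x := by
      rw [← hu, ← hh₁]; rfl
    have hy₀ : h₁ (IsLocalRing.closedPoint R) ∈ closure (Set.range h) := by
      let p₀ : Spec (CommRingCat.of (FractionRing R)) := IsLocalRing.closedPoint (FractionRing R)
      let t : Spec (CommRingCat.of R) :=
        (Spec.map (CommRingCat.ofHom (algebraMap R (FractionRing R)))) p₀
      have h1 : h₁ t ⤳ h₁ (IsLocalRing.closedPoint R) :=
        (IsLocalRing.specializes_closedPoint t).map h₁.continuous
      have h2 : h₁ t = h (ub p₀) := by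
        have := congrArg (fun g => g.base p₀) hgen
        exact this
      rw [h2] at h1
      have h3 : ({h (ub p₀)} : Set Y) ⊆ Set.range h :=
        Set.singleton_subset_iff.mpr ⟨ub p₀, rfl⟩
      exact closure_mono h3 (specializes_iff_mem_closure.mp h1)
    exact Groth.Agent.Lib.Helper13.SectionExt.exists_extension_of_closure q U h hh x hx
      (h₁ (IsLocalRing.closedPoint R)) hy₀x hy₀

end Groth.Agent.S3849
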