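import Groth.Statements.S3851
import Mathlib
import Groth.Agent.Lib.Helper22.KFreeG
import Groth.Agent.Lib.Helper22.KFreeK
import Groth.Agent.Lib.Helper22.KFreeL
-- import your own Groth.Agent.* helpers here

set_option autoImplicit false
universe u
open scoped TensorProduct
open EGA418

namespace Groth.Agent.S3851

/-- a) iff a') iff b), and b) implies d): let k be a field, A a complete Noetherian local k-algebra
whose residue field is finite over k, p a non-maximal prime of A, n the largest dimension of an
irreducible component of Spec A containing p, and Ω̂ the completion of the module of differentials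
of A over k for the topology of the maximal ideal. For a field extension k' of k write A' = A ⊗̂_k
k' (the completion of A ⊗_k k' for the extension of the maximal ideal). The following are
equivalent: (a) for every extension k' and every prime p' of A' over p, A'_{p'} is regular; (a') for
some perfect extension k' and some prime p' of A' over p, A'_{p'} is regular; (b) Ω̂_p is a free
A_p-module of rank n. Moreover (b) implies (d): A_p is geometrically regular over k. (The converse
of the last implication, valid when [k : k^p] is finite, is not stated.) -/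
theorem result (k A : Type u) [Field k] [CommRing A]
    [IsLocalRing A] [IsNoetherianRing A] [Algebra k A] [IsAdicComplete (IsLocalRing.maximalIdeal A) A]
    [Module.Finite k (IsLocalRing.ResidueField A)] (p : Ideal A) [p.IsPrime] (hp : p ≠ IsLocalRing.maximalIdeal A)
    (n : ℕ) (hn₁ : ∀ q ∈ minimalPrimes A, q ≤ p → ringKrullDim (A ⧸ q) ≤ n)
    (hn₂ : ∃ q ∈ minimalPrimes A, q ≤ p ∧ ringKrullDim (A ⧸ q) = n) :
    List.TFAE [
      ∀ (k' : Type u) [Field k'] [Algebra k k']
        (p' : Ideal (AdicCompletion ((IsLocalRing.maximalIdeal A).map
          (Algebra.TensorProduct.includeLeft : A →ₐ[k] A ⊗[k] k')) (A ⊗[k] k'))) [p'.IsPrime],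
        (p'.comap (algebraMap (A ⊗[k] k') _)).comap
            (Algebra.TensorProduct.includeLeft : A →ₐ[k] A ⊗[k] k').toRingHom = p →
          IsRegularLocalRing (Localization.AtPrime p'),
      ∃ (k' : Type u) (_ : Field k') (_ : Algebra k k') (_ : PerfectField k')
        (p' : Ideal (AdicCompletion ((IsLocalRing.maximalIdeal A).map
          (Algebra.TensorProduct.includeLeft : A →ₐ[k] A ⊗[k] k')) (A ⊗[k] k'))) (_ : p'.IsPrime),
        (p'.comap (algebraMap (A ⊗[k] k') _)).comap
            (Algebra.TensorProduct.includeLeft : A →ₐ[k] A ⊗[k] k').toRingHom = p ∧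
          IsRegularLocalRing (Localization.AtPrime p'),
      Module.Free (Localization.AtPrime p)
          (LocalizedModule p.primeCompl (AdicCompletion (IsLocalRing.maximalIdeal A) (KaehlerDifferential k A))) ∧
        Module.finrank (Localization.AtPrime p)
          (LocalizedModule p.primeCompl (AdicCompletion (IsLocalRing.maximalIdeal A) (KaehlerDifferential k A))) = n] ∧
    ((Module.Free (Localization.AtPrime p)
          (LocalizedModule p.primeCompl (AdicCompletion (IsLocalRing.maximalIdeal A) (KaehlerDifferential k A))) ∧
        Module.finrank (Localization.AtPrime p)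
          (LocalizedModule p.primeCompl (AdicCompletion (IsLocalRing.maximalIdeal A) (KaehlerDifferential k A))) = n) →
      CAlg.IsGeometricallyRegular k (Localization.AtPrime p)) := by
  have hconv : ∀ (K : Type u) [Field K] [Algebra k K]
      (p' : Ideal (Groth.Agent.Lib.Helper12.CTens.CC k A K)),
      (p'.comap (algebraMap (A ⊗[k] K) (Groth.Agent.Lib.Helper12.CTens.CC k A K))).comap
        (Algebra.TensorProduct.includeLeft : A →ₐ[k] A ⊗[k] K).toRingHom =
      p'.comap (algebraMap A (Groth.Agent.Lib.Helper12.CTens.CC k A K)) := by
    intro K _ _ p'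
    rfl
  refine ⟨?_, fun hb => Groth.Agent.Lib.Helper22.KFree.geomRegular_of_free k A p hp n hn₁ hn₂ hb⟩
  tfae_have 1 → 2 := by
    intro ha
    obtain ⟨p', hp'prime, hp'⟩ :=
      Groth.Agent.Lib.Helper22.KFree.exists_prime_over k A (AlgebraicClosure k) p
    haveI := hp'prime
    refine ⟨AlgebraicClosure k, inferInstance, inferInstance, inferInstance, p', hp'prime, ?_, ?_⟩
    · exact (hconv (AlgebraicClosure k) p').trans hp'
    · exact @ha (AlgebraicClosure k) _ _ p' hp'prime ((hconv (AlgebraicClosure k) p').trans hp')
  tfae_have 2 → 3 := by
    rintro ⟨K, hK, hKalg, hKperf, p', hp'prime, hp', hreg⟩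
    letI := hK
    letI := hKalg
    haveI := hKperf
    exact Groth.Agent.Lib.Helper22.KFree.free_of_regular' k A p n hn₂ K p' hp'prime
      ((hconv K p').symm.trans hp') hreg
  tfae_have 3 → 1 := by
    intro hb K _ _ p' hp'prime hp'
    exact Groth.Agent.Lib.Helper22.KFree.regular_of_free' k A p hp n hn₁ hn₂ hb K p' hp'prime
      ((hconv K p').symm.trans hp')
  tfae_finish

end Groth.Agent.S3851
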