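import Groth.Statements.S3856
-- import your own Groth.Agent.* helpers here
import Groth.Agent.Lib.helper10.CompleteNoeth
import Groth.Agent.S2292

set_option autoImplicit false
universe u
open AdicRing

namespace Groth.Agent.S3856

/-- Let A be a ring that is complete and separated for the J-adic topology of an ideal J. If A/J² is
Noetherian (equivalently, A/J is Noetherian and J/J² is a finitely generated A/J-module), then A is
Noetherian. The published statement is phrased for a formal spectrum Spf(A) all of whose levels
Spec(A/J^(n+1)) are Noetherian; it is stated here with the weaker hypothesis that A/J² is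
Noetherian. -/
theorem result (A : Type u) [CommRing A]
    (J : Ideal A) [IsAdicComplete J A] [IsNoetherianRing (A ⧸ J ^ 2)] : IsNoetherianRing A := by
  classical
  have hle : J ^ 2 ≤ J := Ideal.pow_le_self (by norm_num)
  haveI : IsNoetherianRing (A ⧸ J) := isNoetherianRing_of_surjective (A ⧸ J ^ 2) (A ⧸ J)
    (Ideal.Quotient.factor hle) (Ideal.Quotient.factor_surjective hle)
  have hJfg : J.FG := by
    have h1 : (Ideal.span ((Ideal.Quotient.mk (J ^ 2)) '' (J : Set A))).FG :=
      IsNoetherian.noetherian _
    obtain ⟨t, htJ, ht⟩ := (Submodule.fg_span_iff_fg_span_finset_subset _).1 h1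
    have hch : ∀ y ∈ t, ∃ a ∈ J, Ideal.Quotient.mk (J ^ 2) a = y := fun y hy => htJ hy
    choose! ch hchJ hchy using hch
    set s : Finset A := t.image ch with hs
    have hsJ : Ideal.span (s : Set A) ≤ J := by
      rw [Ideal.span_le]
      intro x hx
      rw [hs, Finset.coe_image] at hx
      obtain ⟨y, hy, rfl⟩ := hx
      exact hchJ y hy
    have hJs : J ≤ Ideal.span (s : Set A) ⊔ J ^ 2 := by
      intro x hx
      have hx1 : Ideal.Quotient.mk (J ^ 2) x ∈
          Ideal.span ((Ideal.Quotient.mk (J ^ 2)) '' (J : Set A)) :=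
        Ideal.subset_span ⟨x, hx, rfl⟩
      have ht' : Ideal.span ((Ideal.Quotient.mk (J ^ 2)) '' (J : Set A)) =
          Ideal.span (t : Set (A ⧸ J ^ 2)) := ht
      rw [ht'] at hx1
      have hts : (t : Set (A ⧸ J ^ 2)) = (Ideal.Quotient.mk (J ^ 2)) '' (s : Set A) := by
        rw [hs, Finset.coe_image, Set.image_image]
        ext y
        constructor
        · intro hy; exact ⟨y, hy, hchy y hy⟩
        · rintro ⟨y', hy', rfl⟩
          change Ideal.Quotient.mk (J ^ 2) (ch y') ∈ (t : Set (A ⧸ J ^ 2))
          rw [hchy y' hy']; exact hy'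
      rw [hts, ← Ideal.map_span,
        Ideal.mem_map_iff_of_surjective _ Ideal.Quotient.mk_surjective] at hx1
      obtain ⟨z, hz, hzx⟩ := hx1
      have : x - z ∈ J ^ 2 := by
        rw [← Ideal.Quotient.eq, hzx]
      have hxz : x = z + (x - z) := by ring
      rw [hxz]
      exact Submodule.add_mem_sup hz this
    -- successive approximation
    have haus : ∀ x : A, (∀ j, x ∈ J ^ j) → x = 0 := by
      intro x hx
      apply IsHausdorff.haus (inferInstance : IsHausdorff J A)
      intro n
      rw [SModEq.sub_mem, sub_zero, smul_eq_mul, Ideal.mul_top]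
      exact hx n
    have cpl : ∀ sq : ℕ → A, (∀ j, sq (j + 1) - sq j ∈ J ^ j) → ∃ L, ∀ j, L - sq j ∈ J ^ j := by
      intro sq hsq
      have hdiff : ∀ m k, sq (m + k) - sq m ∈ J ^ m := by
        intro m k
        induction k with
        | zero => simp
        | succ k ih =>
          have : sq (m + (k + 1)) - sq m = (sq (m + k + 1) - sq (m + k)) + (sq (m + k) - sq m) := by
            rw [← add_assoc]; ring
          rw [this]
          exact add_mem (Ideal.pow_le_pow_right (Nat.le_add_right _ _) (hsq (m + k))) ih
      have hprec : IsPrecomplete J A := inferInstance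
      obtain ⟨L, hL⟩ := hprec.prec (f := sq) (by
        intro m n hmn
        obtain ⟨k, rfl⟩ := Nat.exists_eq_add_of_le hmn
        rw [SModEq.sub_mem, smul_eq_mul, Ideal.mul_top, ← neg_sub]
        exact neg_mem (hdiff m k))
      refine ⟨L, fun j => ?_⟩
      have := hL j
      rw [SModEq.sub_mem, smul_eq_mul, Ideal.mul_top] at this
      rw [← neg_sub]; exact neg_mem this
    have key := Groth.Agent.S2292.approx (A := A) (fun j => J ^ j) haus cpl
      (ι := {x // x ∈ s}) (fun i => (i : A)) (fun j => J ^ (j + 1)) (fun j => J ^ j)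
      (fun j => le_rfl) (fun j => Ideal.pow_le_pow_right (Nat.le_succ j))
      (by
        intro j
        have hr : Set.range (fun i : {x // x ∈ s} => (i : A)) = (s : Set A) := by
          ext x; simp
        rw [hr]
        calc J ^ (j + 1) = J ^ j * J := pow_succ J j
          _ ≤ J ^ j * (Ideal.span (s : Set A) ⊔ J ^ 2) := Ideal.mul_mono_right hJs
          _ = J ^ j * Ideal.span (s : Set A) ⊔ J ^ j * J ^ 2 := Ideal.mul_sup _ _ _
          _ = J ^ j * Ideal.span (s : Set A) ⊔ J ^ (j + 1 + 1) := by rw [← pow_add])
    have hr : Set.range (fun i : {x // x ∈ s} => (i : A)) = (s : Set A) := by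
      ext x; simp
    rw [hr] at key
    have : J = Ideal.span (s : Set A) := le_antisymm (by simpa using key) hsJ
    rw [this]
    exact ⟨s, rfl⟩
  exact Groth.Agent.Lib.helper10.CompleteNoeth.isNoetherianRing_of_isAdicComplete J hJfg

end Groth.Agent.S3856
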