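import Groth.Statements.S3865
import Groth.Agent.S3862
import Groth.Agent.S3873

set_option autoImplicit false
universe u
open FCompl

namespace Groth.Agent.S3865

open AlgebraicGeometry CategoryTheory CategoryTheory.Limits

section Adic

variable {𝔛 𝔖 : FSch.Sys.{u}} (f : 𝔛 ⟶ 𝔖)

theorem isPullback_toX (hf : FSch.IsAdicHom f) (n : ℕ) :
    IsPullback (𝔛.toX n) ((f : FSch.Hom 𝔛 𝔖).app 0) ((f : FSch.Hom 𝔛 𝔖).app n) (𝔖.toX n) := by
  induction n with
  | zero => exact IsPullback.id_horiz _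
  | succ n ih => exact ih.paste_horiz (hf n)

theorem isClosedImmersion_toX (h𝔖 : 𝔖.IsFormal) (n : ℕ) : IsClosedImmersion (𝔖.toX n) := by
  induction n with
  | zero => show IsClosedImmersion (𝟙 _); infer_instance
  | succ n ih =>
    show IsClosedImmersion (𝔖.toX n ≫ 𝔖.ι n)
    have := (h𝔖 n).1
    infer_instance

theorem isFormal_of_isAdicHom (hf : FSch.IsAdicHom f) (h𝔖 : 𝔖.IsFormal) : 𝔛.IsFormal := by
  intro n
  constructor
  · exact MorphismProperty.of_isPullback (P := @IsClosedImmersion) (hf n).flip (h𝔖 n).1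
  · have : Surjective (𝔖.ι n) := ⟨(h𝔖 n).2⟩
    have : Surjective (𝔛.ι n) :=
      MorphismProperty.of_isPullback (P := @Surjective) (hf n).flip this
    exact this.surj

theorem isAdic_of_isAdicHom (hf : FSch.IsAdicHom f) (h𝔖 : 𝔖.IsFormal) (h𝔖' : 𝔖.IsAdic) :
    𝔛.IsAdic := by
  intro n
  have := (h𝔖 n).1
  have := isClosedImmersion_toX h𝔖 (n + 1)
  rw [← Groth.Agent.S3873.comap_ker_of_isPullback (hf n),
    ← Groth.Agent.S3873.comap_ker_of_isPullback (isPullback_toX f hf (n + 1)),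
    ← Groth.Agent.S3862.comap_pow, h𝔖' n]

end Adic


open AlgebraicGeometry in
/-- A formal scheme is presented as a system of thickenings (X_n)_n, and a coherent ideal of it as a
family of ideal sheaves A_n on the levels X_n, each A_n equal to the inverse image ideal of A_(n+1)
under X_n → X_(n+1). Let (X_n) be a locally Noetherian adic formal system and (A_n) such a family.
Then the closed subschemes Y_n cut out by the A_n, with the induced transition maps, form a locally
Noetherian adic formal system, and its inclusion into (X_n) is adic: every square Y_n → Y_(n+1), X_n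
→ X_(n+1) is cartesian. -/
theorem result (𝔛 : FSch.Sys.{u}) (h𝔛 : 𝔛.IsLocNoethFormal)
    (𝒜 : ∀ n, (𝔛.X n).IdealSheafData) (h : ∀ n, (𝒜 (n + 1)).comap (𝔛.ι n) = 𝒜 n) :
    (FSch.subSys 𝔛 𝒜 (fun n ↦ (h n).le)).IsLocNoethFormal ∧
      FSch.IsAdicHom (FSch.subSysι 𝔛 𝒜 (fun n ↦ (h n).le)) := by
  have hadic : FSch.IsAdicHom (FSch.subSysι 𝔛 𝒜 (fun n ↦ (h n).le)) := by
    intro n
    exact (Groth.Agent.S3862.isPullback_subscheme (𝔛.ι n) (𝒜 (n + 1)) (𝒜 n) (h n).symm
      (Scheme.IdealSheafData.le_map_iff_comap_le.mpr (h n).le)).flip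
  refine ⟨⟨isFormal_of_isAdicHom _ hadic h𝔛.1, isAdic_of_isAdicHom _ hadic h𝔛.1 h𝔛.2.1, ?_⟩, hadic⟩
  intro n
  have := h𝔛.2.2 n
  show IsLocallyNoetherian (𝒜 n).subscheme
  exact LocallyOfFiniteType.isLocallyNoetherian (𝒜 n).subschemeι

end Groth.Agent.S3865
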