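import Groth.Statements.S3857
import Groth.Agent.S3865
import Groth.Agent.S3861
import Mathlib.RingTheory.Noetherian.OfPrime

set_option autoImplicit false
universe u
open FCompl

namespace Groth.Agent.S3857

open AlgebraicGeometry CategoryTheory CategoryTheory.Limits

section RingLemma

variable {B C : Type*} [CommRing B] [CommRing C]

/-- a nilpotent f.g. thickening of a Noetherian ring is Noetherian -/
theorem isNoetherianRing_of_surjective_of_nilpotent (φ : B →+* C) (hφ : Function.Surjective φ)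
    [IsNoetherianRing C] (hfg : (RingHom.ker φ).FG) (hnil : IsNilpotent (RingHom.ker φ)) :
    IsNoetherianRing B := by
  apply IsNoetherianRing.of_prime
  intro P hP
  have hKP : RingHom.ker φ ≤ P := by
    obtain ⟨m, hm⟩ := hnil
    intro x hx
    have : x ^ m ∈ (RingHom.ker φ) ^ m := Ideal.pow_mem_pow hx m
    rw [hm] at this
    have h0 : x ^ m ∈ P := by
      rw [Ideal.zero_eq_bot, Ideal.mem_bot] at this
      rw [this]; exact P.zero_mem
    exact hP.mem_of_pow_mem m h0
  have hfgP : (P.map φ).FG := IsNoetherian.noetherian _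
  obtain ⟨T, hT⟩ := hfgP
  -- lift the generators
  have hlift : ∀ t ∈ T, ∃ b ∈ P, φ b = t := by
    intro t ht
    have : t ∈ P.map φ := by rw [← hT]; exact Submodule.subset_span ht
    rw [Ideal.mem_map_iff_of_surjective φ hφ] at this
    exact this
  choose! l hlP hl using hlift
  classical
  have hP' : P = Ideal.span ((T.image l : Finset B) : Set B) ⊔ RingHom.ker φ := by
    apply le_antisymm
    · intro x hx
      have h1 : φ x ∈ P.map φ := Ideal.mem_map_of_mem φ hx
      have h2 : P.map φ ≤ (Ideal.span ((T.image l : Finset B) : Set B)).map φ := by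
        rw [← hT]
        rw [Ideal.span_le]
        intro t ht
        rw [← hl t ht]
        apply Ideal.mem_map_of_mem
        apply Ideal.subset_span
        simp only [Finset.coe_image, Set.mem_image, Finset.mem_coe]
        exact ⟨t, ht, rfl⟩
      have h3 := h2 h1
      have h4 : x ∈ Ideal.comap φ ((Ideal.span ((T.image l : Finset B) : Set B)).map φ) := h3
      rw [Ideal.comap_map_of_surjective φ hφ, ← RingHom.ker_eq_comap_bot] at h4
      exact h4
    · refine sup_le ?_ hKP
      rw [Ideal.span_le]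
      intro b hb
      simp only [Finset.coe_image, Set.mem_image, Finset.mem_coe] at hb
      obtain ⟨t, ht, rfl⟩ := hb
      exact hlP t ht
  rw [hP']
  exact Submodule.FG.sup ⟨T.image l, rfl⟩ hfg

end RingLemma

section SchemePart

theorem ker_le_nilradical {X Y : Scheme.{u}} (i : X ⟶ Y) [QuasiCompact i]
    (hs : Function.Surjective i.base) (V : Y.affineOpens) :
    i.ker.ideal V ≤ nilradical Γ(Y, V.1) := by
  intro x hx
  rw [Scheme.Hom.ker_apply, RingHom.mem_ker] at hx
  rw [mem_nilradical, Scheme.isNilpotent_iff_basicOpen_eq_bot_of_isCompact V.2.isCompact]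
  rw [eq_bot_iff]
  intro y hy
  obtain ⟨z, rfl⟩ := hs y
  have h1 : z ∈ i ⁻¹ᵁ Y.basicOpen x := hy
  rw [Scheme.preimage_basicOpen] at h1
  have h2 : (i.app V.1) x = 0 := hx
  rw [h2, Scheme.basicOpen_zero] at h1
  exact h1

/-- thickening: `j : X₀ ⟶ X` closed immersion with `X₀` locally Noetherian, whose kernel is locally
f.g. nilpotent on an affine cover. -/
theorem isLocallyNoetherian_of_thickening {X₀ X : Scheme.{u}} (j : X₀ ⟶ X) [IsClosedImmersion j]
    [IsLocallyNoetherian X₀] {ι : Type*} (U : ι → X.affineOpens) (hU : ⨆ i, (U i).1 = ⊤)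
    (hfg : ∀ i, (j.ker.ideal (U i)).FG) (hnil : ∀ i, IsNilpotent (j.ker.ideal (U i))) :
    IsLocallyNoetherian X := by
  apply isLocallyNoetherian_of_affine_cover hU
  intro i
  have haff : IsAffineOpen (j ⁻¹ᵁ (U i).1) := (U i).2.preimage j
  have hN : IsNoetherianRing Γ(X₀, j ⁻¹ᵁ (U i).1) :=
    IsLocallyNoetherian.component_noetherian ⟨j ⁻¹ᵁ (U i).1, haff⟩
  have hsurj : Function.Surjective (j.app (U i).1).hom := j.app_surjective (U i).1 (U i).2
  have hker : RingHom.ker (j.app (U i).1).hom = j.ker.ideal (U i) :=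
    (Scheme.Hom.ker_apply j (U i)).symm
  exact isNoetherianRing_of_surjective_of_nilpotent (j.app (U i).1).hom hsurj
    (hker ▸ hfg i) (hker ▸ hnil i)

theorem surjective_toX {𝔖 : FSch.Sys.{u}} (h𝔖 : 𝔖.IsFormal) (n : ℕ) :
    Function.Surjective (𝔖.toX n).base := by
  induction n with
  | zero => exact Function.surjective_id
  | succ n ih =>
    show Function.Surjective (𝔖.toX n ≫ 𝔖.ι n).base
    intro y
    obtain ⟨x, rfl⟩ := (h𝔖 n).2 y
    obtain ⟨z, rfl⟩ := ih x
    exact ⟨z, by rw [Scheme.Hom.comp_apply]⟩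

end SchemePart


open AlgebraicGeometry in
/-- Here formal schemes are presented as systems of thickenings, an adic morphism being one all of whose
squares are cartesian. Let S_0 -> S_1 -> ... be a locally Noetherian adic formal system and (X_n ->
S_n) a compatible family of morphisms such that every square X_n -> X_(n+1), S_n -> S_(n+1) is
cartesian. If X_0 is locally Noetherian, then (X_n) is a locally Noetherian adic formal system. -/
theorem result {𝔛 𝔖 : FSch.Sys.{u}} (f : 𝔛 ⟶ 𝔖)
    (h𝔖 : 𝔖.IsLocNoethFormal) (hf : FSch.IsAdicHom f) [IsLocallyNoetherian (𝔛.X 0)] :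
    𝔛.IsLocNoethFormal := by
  have hform := Groth.Agent.S3865.isFormal_of_isAdicHom f hf h𝔖.1
  refine ⟨hform, Groth.Agent.S3865.isAdic_of_isAdicHom f hf h𝔖.1 h𝔖.2.1, ?_⟩
  intro n
  have hjc : IsClosedImmersion (𝔛.toX n) := Groth.Agent.S3865.isClosedImmersion_toX hform n
  have hic : IsClosedImmersion (𝔖.toX n) := Groth.Agent.S3865.isClosedImmersion_toX h𝔖.1 n
  have hpb := Groth.Agent.S3865.isPullback_toX f hf n
  have hker : (𝔛.toX n).ker = (𝔖.toX n).ker.comap ((f : FSch.Hom 𝔛 𝔖).app n) :=
    (Groth.Agent.S3873.comap_ker_of_isPullback hpb).symm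
  have hsurj : Function.Surjective (𝔖.toX n).base := surjective_toX h𝔖.1 n
  have hSn : IsLocallyNoetherian (𝔖.X n) := h𝔖.2.2 n
  apply isLocallyNoetherian_of_thickening (𝔛.toX n)
    (fun p : {p : (𝔛.X n).affineOpens × (𝔖.X n).affineOpens //
      p.1.1 ≤ ((f : FSch.Hom 𝔛 𝔖).app n) ⁻¹ᵁ p.2.1} => p.1.1)
    (Groth.Agent.S3861.iSup_affine_pairs _)
  · rintro ⟨⟨U, V⟩, e⟩
    simp only
    rw [hker, Groth.Agent.Lib.Helper29.EffCart.ideal_comap_eq_map _ _ V U e]
    have : IsNoetherianRing Γ(𝔖.X n, V.1) := IsLocallyNoetherian.component_noetherian V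
    exact Ideal.FG.map (IsNoetherian.noetherian _) _
  · rintro ⟨⟨U, V⟩, e⟩
    simp only
    rw [hker, Groth.Agent.Lib.Helper29.EffCart.ideal_comap_eq_map _ _ V U e]
    have : IsNoetherianRing Γ(𝔖.X n, V.1) := IsLocallyNoetherian.component_noetherian V
    have h1 : IsNilpotent ((𝔖.toX n).ker.ideal V) :=
      (Ideal.FG.isNilpotent_iff_le_nilradical (IsNoetherian.noetherian _)).mpr
        (ker_le_nilradical (𝔖.toX n) hsurj V)
    obtain ⟨m, hm⟩ := h1
    exact ⟨m, by rw [← Ideal.map_pow, hm]; simp⟩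

end Groth.Agent.S3857
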