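import Groth.Statements.S3859


set_option autoImplicit false
universe u
open FCompl

namespace Groth.Agent.S3859

open AlgebraicGeometry in
open CategoryTheory in
/-- In the presentation by systems of thickenings: For morphisms of systems X -> S and Y -> S, the
levelwise fibre product with its two projections is a fibre product in the category of systems; it
presents the fibre product of formal schemes when one factor is adic over the base, and otherwise
only up to cofinality of the levels. -/
theorem result {𝔛 𝔜 𝔖 : FSch.Sys.{u}} (f : 𝔛 ⟶ 𝔖) (g : 𝔜 ⟶ 𝔖) :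
    IsPullback (FSch.pullbackFst f g) (FSch.pullbackSnd f g) f g := by
  open CategoryTheory.Limits in
  have hw : FSch.pullbackFst f g ≫ f = FSch.pullbackSnd f g ≫ g := by
    apply FSch.Hom.ext
    funext n
    change pullback.fst _ _ ≫ _ = pullback.snd _ _ ≫ _
    exact pullback.condition
  refine ⟨⟨hw⟩, ⟨PullbackCone.IsLimit.mk hw (fun s => ?_) (fun s => ?_) (fun s => ?_)
    (fun s m h1 h2 => ?_)⟩⟩
  · -- the lift
    have hc : ∀ n, (s.fst : FSch.Hom _ _).app n ≫ (f : FSch.Hom _ _).app n =
        (s.snd : FSch.Hom _ _).app n ≫ (g : FSch.Hom _ _).app n := fun n =>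
      congrArg (fun φ : FSch.Hom _ _ => φ.app n) s.condition
    refine ⟨fun n => pullback.lift ((s.fst : FSch.Hom _ _).app n) ((s.snd : FSch.Hom _ _).app n)
      (hc n), fun n => ?_⟩
    change pullback.lift ((s.fst : FSch.Hom _ _).app n) ((s.snd : FSch.Hom _ _).app n) (hc n) ≫
        pullback.map ((f : FSch.Hom _ _).app n) ((g : FSch.Hom _ _).app n)
          ((f : FSch.Hom _ _).app (n + 1)) ((g : FSch.Hom _ _).app (n + 1)) (𝔛.ι n) (𝔜.ι n) (𝔖.ι n)
          ((f : FSch.Hom _ _).comm n) ((g : FSch.Hom _ _).comm n) =
      s.pt.ι n ≫ pullback.lift ((s.fst : FSch.Hom _ _).app (n + 1))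
        ((s.snd : FSch.Hom _ _).app (n + 1)) (hc (n + 1))
    apply pullback.hom_ext
    · simp only [Category.assoc, pullback.lift_fst, pullback.lift_fst_assoc]
      exact (s.fst : FSch.Hom _ _).comm n
    · simp only [Category.assoc, pullback.lift_snd, pullback.lift_snd_assoc]
      exact (s.snd : FSch.Hom _ _).comm n
  · apply FSch.Hom.ext
    funext n
    exact pullback.lift_fst _ _ _
  · apply FSch.Hom.ext
    funext n
    exact pullback.lift_snd _ _ _
  · apply FSch.Hom.ext
    funext n
    apply pullback.hom_ext
    · have := congrArg (fun φ : FSch.Hom _ _ => φ.app n) h1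
      change (m : FSch.Hom _ _).app n ≫ pullback.fst _ _ = _ at this
      exact this.trans (pullback.lift_fst _ _ _).symm
    · have := congrArg (fun φ : FSch.Hom _ _ => φ.app n) h2
      change (m : FSch.Hom _ _).app n ≫ pullback.snd _ _ = _ at this
      exact this.trans (pullback.lift_snd _ _ _).symm

end Groth.Agent.S3859
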