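import Groth.Statements.S3860

set_option autoImplicit false
universe u
open FCompl

namespace Groth.Agent.S3860

open AlgebraicGeometry CategoryTheory

section RingLevel

variable {A B : Type u} [CommRing A] [CommRing B] (I : Ideal A) (K : Ideal B)

/-- transition maps -/
abbrev trA (n : ℕ) : A ⧸ I ^ (n + 1 + 1) →+* A ⧸ I ^ (n + 1) :=
  Ideal.Quotient.factor (Ideal.pow_le_pow_right (Nat.le_succ (n + 1)))

variable (ψ : ∀ n, B ⧸ K ^ (n + 1) →+* A ⧸ I ^ (n + 1))
  (hψ : ∀ n, (trA I n).comp (ψ (n + 1)) = (ψ n).comp (trA K n))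

/-- the family `B → A/I^n` -/
def fam (n : ℕ) : B →+* A ⧸ I ^ n :=
  ((Ideal.Quotient.factorPow I (Nat.le_succ n)).comp (ψ n)).comp (Ideal.Quotient.mk (K ^ (n + 1)))

include hψ in
theorem fam_succ (n : ℕ) (b : B) :
    Ideal.Quotient.factorPow I (Nat.le_succ n) (fam I K ψ (n + 1) b) = fam I K ψ n b := by
  unfold fam
  simp only [RingHom.comp_apply]
  have := congrArg (fun g => g (Ideal.Quotient.mk (K ^ (n + 1 + 1)) b)) (hψ n)
  simp only [RingHom.comp_apply] at this
  have e1 : (Ideal.Quotient.factorPow I (Nat.le_succ (n + 1)))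
      (ψ (n + 1) (Ideal.Quotient.mk (K ^ (n + 1 + 1)) b)) = trA I n (ψ (n + 1) (Ideal.Quotient.mk (K ^ (n + 1 + 1)) b)) := rfl
  rw [e1, this]
  rfl

include hψ in
theorem fam_compat {m n : ℕ} (hle : m ≤ n) :
    (Ideal.Quotient.factorPow I hle).comp (fam I K ψ n) = fam I K ψ m := by
  induction n, hle using Nat.le_induction with
  | base =>
    ext b
    simp [Ideal.Quotient.factorPow]
  | succ n hmn ih =>
    ext b
    rw [← ih]
    simp only [RingHom.comp_apply]
    rw [← fam_succ I K ψ hψ n b]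
    simp [Ideal.Quotient.factorPow]

variable [IsAdicComplete I A]

/-- the lifted ring hom -/
noncomputable def lift (hψ : ∀ n, (trA I n).comp (ψ (n + 1)) = (ψ n).comp (trA K n)) : B →+* A :=
  ((AdicCompletion.ofAlgEquiv I).symm : AdicCompletion I A →+* A).comp
    (AdicCompletion.liftRingHom I (fam I K ψ) (fun hle => fam_compat I K ψ hψ hle))

theorem mk_lift (n : ℕ) (b : B) :
    Ideal.Quotient.mk (I ^ n) (lift I K ψ hψ b) = fam I K ψ n b := by
  unfold lift
  simp only [RingHom.comp_apply]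
  erw [AdicCompletion.mk_ofAlgEquiv_symm]
  rw [AdicCompletion.evalₐ_liftRingHom]

theorem mk_lift_succ (n : ℕ) (b : B) :
    Ideal.Quotient.mk (I ^ (n + 1)) (lift I K ψ hψ b) = ψ n (Ideal.Quotient.mk (K ^ (n + 1)) b) := by
  rw [mk_lift, ← fam_succ I K ψ hψ]
  unfold fam
  simp only [RingHom.comp_apply]
  have := congrArg (fun g => g (Ideal.Quotient.mk (K ^ (n + 1 + 1)) b)) (hψ n)
  simp only [RingHom.comp_apply] at this
  have e1 : ∀ y : A ⧸ I ^ (n + 1 + 1 + 1), (Ideal.Quotient.factorPow I (Nat.le_succ (n + 1)))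
      ((Ideal.Quotient.factorPow I (Nat.le_succ (n + 1 + 1))) y) =
      trA I n ((Ideal.Quotient.factorPow I (Nat.le_succ (n + 1 + 1))) y) := fun y => rfl
  rw [e1]
  have e2 : (Ideal.Quotient.factorPow I (Nat.le_succ (n + 1 + 1)))
      (ψ (n + 1 + 1) (Ideal.Quotient.mk (K ^ (n + 1 + 1 + 1)) b)) =
      trA I (n + 1) (ψ (n + 1 + 1) (Ideal.Quotient.mk (K ^ (n + 1 + 1 + 1)) b)) := rfl
  rw [e2]
  have h2 := congrArg (fun g => g (Ideal.Quotient.mk (K ^ (n + 1 + 1 + 1)) b)) (hψ (n + 1))
  simp only [RingHom.comp_apply] at h2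
  rw [h2]
  have e3 : trA K (n + 1) (Ideal.Quotient.mk (K ^ (n + 1 + 1 + 1)) b) =
      Ideal.Quotient.mk (K ^ (n + 1 + 1)) b := rfl
  rw [e3, this]
  rfl

theorem lift_mem (b : B) (hb : b ∈ K) : lift I K ψ hψ b ∈ I := by
  have h := mk_lift_succ I K ψ hψ 0 b
  have hb' : Ideal.Quotient.mk (K ^ (0 + 1)) b = 0 := by
    rw [Ideal.Quotient.eq_zero_iff_mem]; simpa using hb
  rw [hb', map_zero, Ideal.Quotient.eq_zero_iff_mem] at h
  simpa using h

end RingLevel


open AlgebraicGeometry in
/-- (Affine adic case; the formal spectra presented as the systems Spec(A/I^(n+1)) and Spec(B/K^(n+1)).)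
Let I be an ideal of a ring A which is complete and separated for the I-adic topology, and K an
ideal of a ring B. Then φ ↦ (Spec of the induced maps B/K^(n+1) -> A/I^(n+1)) is a bijection from
the ring homomorphisms φ : B -> A with φ(K) ⊆ I onto the morphisms of systems from Spf(A) to Spf(B),
i.e. the compatible families of morphisms Spec(A/I^(n+1)) -> Spec(B/K^(n+1)). -/
theorem result (A B : Type u) [CommRing A] [CommRing B] (I : Ideal A) (K : Ideal B)
    [IsAdicComplete I A] :
    Function.Bijective (fun φ : {φ : B →+* A // K ≤ I.comap φ} ↦ FSch.spfMap I K φ.1 φ.2) := by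
  constructor
  · -- injective
    rintro ⟨φ, hφ⟩ ⟨φ', hφ'⟩ h
    simp only at h
    apply Subtype.ext
    simp only
    ext b
    have hsep : IsHausdorff I A := inferInstance
    rw [← sub_eq_zero]
    apply hsep.haus'
    intro n
    have hn := congrArg (fun F : FSch.Hom (FSch.spf A I) (FSch.spf B K) => F.app n) h
    simp only [FSch.spfMap_app] at hn
    have h1 := Spec.map_injective hn
    have h2 : FSch.quotPowMap I K φ hφ n = FSch.quotPowMap I K φ' hφ' n := by
      have := congrArg CommRingCat.Hom.hom h1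
      simpa using this
    have h3 := congrArg (fun g => g (Ideal.Quotient.mk (K ^ (n + 1)) b)) h2
    simp only [FSch.quotPowMap, Ideal.quotientMap_mk] at h3
    rw [SModEq.zero, smul_eq_mul, Ideal.mul_top]
    have h4 : φ b - φ' b ∈ I ^ (n + 1) := by
      rw [← Ideal.Quotient.eq_zero_iff_mem, map_sub, h3, sub_self]
    exact Ideal.pow_le_pow_right (Nat.le_succ n) h4
  · -- surjective
    intro F
    let ψ : ∀ n, B ⧸ K ^ (n + 1) →+* A ⧸ I ^ (n + 1) := fun n => (Spec.preimage (F.app n)).hom
    have hψF : ∀ n, Spec.map (CommRingCat.ofHom (ψ n)) = F.app n := fun n => by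
      simp only [ψ, CommRingCat.ofHom_hom]
      exact Spec.map_preimage _
    have hψ : ∀ n, (trA I n).comp (ψ (n + 1)) = (ψ n).comp (trA K n) := by
      intro n
      have hc := F.comm n
      rw [← hψF n, ← hψF (n + 1)] at hc
      change Spec.map _ ≫ Spec.map _ = Spec.map _ ≫ Spec.map _ at hc
      rw [← Spec.map_comp, ← Spec.map_comp] at hc
      have h1 := Spec.map_injective hc
      have := congrArg CommRingCat.Hom.hom h1
      simp only [CommRingCat.hom_comp, CommRingCat.hom_ofHom] at this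
      exact this.symm
    refine ⟨⟨lift I K ψ hψ, fun b hb => lift_mem I K ψ hψ b hb⟩, ?_⟩
    apply FSch.Hom.ext
    funext n
    simp only [FSch.spfMap_app]
    rw [← hψF n]
    congr 2
    apply Ideal.Quotient.ringHom_ext
    ext b
    simp only [RingHom.comp_apply, FSch.quotPowMap, Ideal.quotientMap_mk]
    exact mk_lift_succ I K ψ hψ n b

end Groth.Agent.S3860
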