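import Groth.Statements.S3869
import Mathlib.RingTheory.Henselian

set_option autoImplicit false
universe u
open FCompl

namespace Groth.Agent.S3869

section UnitCrit

variable {R : Type u} [CommRing R] (I : Ideal R)

theorem cauchy_mem {s : AdicCompletion.AdicCauchySequence I R} {m n : ℕ} (hmn : m ≤ n) :
    s.val m - s.val n ∈ I ^ m := by
  have := s.property hmn
  rw [SModEq.sub_mem] at this
  simpa using this

theorem isUnit_of_evalOne (x : AdicCompletion I R)
    (hx : IsUnit (AdicCompletion.evalₐ I 1 x)) : IsUnit x := by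
  obtain ⟨s, rfl⟩ := AdicCompletion.mk_surjective I R x
  rw [AdicCompletion.evalₐ_mk] at hx
  -- each level is a unit
  have hu : ∀ n : ℕ, ∃ t : R, s.val n * t - 1 ∈ I ^ n := by
    intro n
    rcases Nat.eq_zero_or_pos n with rfl | hn
    · exact ⟨0, by simp⟩
    · have h1 : Ideal.Quotient.mk (I ^ 1) (s.val n) = Ideal.Quotient.mk (I ^ 1) (s.val 1) := by
        rw [Ideal.Quotient.eq, ← Ideal.neg_mem_iff, neg_sub]
        exact cauchy_mem I hn
      rw [← h1, Ideal.Quotient.isUnit_mk_pow_iff_isUnit_mk I one_ne_zero,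
        ← Ideal.Quotient.isUnit_mk_pow_iff_isUnit_mk I (Nat.pos_iff_ne_zero.mp hn)] at hx
      obtain ⟨v, hv⟩ := hx.exists_right_inv
      obtain ⟨t, rfl⟩ := Ideal.Quotient.mk_surjective v
      refine ⟨t, ?_⟩
      rw [← Ideal.Quotient.eq_zero_iff_mem, map_sub, map_mul, hv, map_one, sub_self]
  choose t ht using hu
  have hc : AdicCompletion.IsAdicCauchy I R t := by
    intro m n hmn
    rw [SModEq.sub_mem]
    simp only [smul_eq_mul, Ideal.mul_top]
    have h1 : s.val m * t m - 1 ∈ I ^ m := ht m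
    have h2 : s.val n * t n - 1 ∈ I ^ m := Ideal.pow_le_pow_right hmn (ht n)
    have h3 : s.val m - s.val n ∈ I ^ m := cauchy_mem I hmn
    have : t m - t n = t m * (1 - s.val n * t n) + t n * (s.val m * t m - 1)
        - t m * t n * (s.val m - s.val n) := by ring
    rw [this]
    refine Ideal.sub_mem _ (Ideal.add_mem _ (Ideal.mul_mem_left _ _ ?_) (Ideal.mul_mem_left _ _ h1))
      (Ideal.mul_mem_left _ _ h3)
    rw [← Ideal.neg_mem_iff, neg_sub]; exact h2
  let T : AdicCompletion.AdicCauchySequence I R := ⟨t, hc⟩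
  refine IsUnit.of_mul_eq_one (AdicCompletion.mk I R T) ?_
  apply AdicCompletion.ext_evalₐ
  intro n
  have e2 : AdicCompletion.evalₐ I n (AdicCompletion.mk I R T) = Ideal.Quotient.mk (I ^ n) (t n) :=
    AdicCompletion.evalₐ_mk I n T
  rw [map_mul, AdicCompletion.evalₐ_mk, e2, map_one, ← map_mul,
    ← map_one (Ideal.Quotient.mk (I ^ n)), Ideal.Quotient.eq]
  exact ht n

end UnitCrit

section ComplMap

variable {S T U : Type u} [CommRing S] [CommRing T] [CommRing U] (I : Ideal S) (K : Ideal T)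
  (L : Ideal U) (g : S →+* T) (g' : T →+* U)

theorem evalₐ_complMap (h : I.map g ≤ K) (n : ℕ) (x : AdicCompletion I S) :
    AdicCompletion.evalₐ K n (FSch.complMap I K g h x) =
      Ideal.quotientMap (K ^ n) g (FSch.pow_le_comap_pow_of_map_le I K g h n)
        (AdicCompletion.evalₐ I n x) := by
  unfold FSch.complMap
  generalize_proofs _ _ _ _ _ _ _ _ _ _ hf
  exact AdicCompletion.evalₐ_liftRingHom K _ hf n x

theorem complMap_comp (h : I.map g ≤ K) (h' : K.map g' ≤ L) (h'' : I.map (g'.comp g) ≤ L)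
    (x : AdicCompletion I S) :
    FSch.complMap K L g' h' (FSch.complMap I K g h x) = FSch.complMap I L (g'.comp g) h'' x := by
  apply AdicCompletion.ext_evalₐ
  intro n
  rw [evalₐ_complMap, evalₐ_complMap, evalₐ_complMap]
  obtain ⟨r, hr⟩ := Ideal.Quotient.mk_surjective (AdicCompletion.evalₐ I n x)
  rw [← hr]
  simp only [Ideal.quotientMap_mk, RingHom.comp_apply]

theorem complMap_congr {g₁ g₂ : S →+* T} (e : g₁ = g₂) (h₁ : I.map g₁ ≤ K) (h₂ : I.map g₂ ≤ K) :
    FSch.complMap I K g₁ h₁ = FSch.complMap I K g₂ h₂ := by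
  subst e; rfl

end ComplMap

section Stalk

variable (A : Type u) [CommRing A] (J : Ideal A) (𝔭 : Ideal A) [𝔭.IsPrime]

/-- the map `A_f → A_g` when `f` becomes a unit in `A_g`. -/
noncomputable def awayMap (f g : A) (hu : IsUnit (algebraMap A (Localization.Away g) f)) :
    Localization.Away f →+* Localization.Away g :=
  IsLocalization.Away.lift f hu

theorem awayMap_algebraMap (f g : A) (hu : IsUnit (algebraMap A (Localization.Away g) f)) (a : A) :
    awayMap A f g hu (algebraMap A (Localization.Away f) a) = algebraMap A (Localization.Away g) a := by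
  simp [awayMap]

theorem map_awayMap_le (f g : A) (hu : IsUnit (algebraMap A (Localization.Away g) f)) :
    (J.map (algebraMap A (Localization.Away f))).map (awayMap A f g hu) ≤
      J.map (algebraMap A (Localization.Away g)) := by
  rw [Ideal.map_map]
  apply le_of_eq
  congr 1
  ext a
  simp [awayMap]

theorem awayToAtPrime_algebraMap (f : A) (hf : f ∉ 𝔭) (a : A) :
    FSch.awayToAtPrime A 𝔭 f hf (algebraMap A (Localization.Away f) a) =
      algebraMap A (Localization.AtPrime 𝔭) a := by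
  simp [FSch.awayToAtPrime]

theorem awayToAtPrime_comp (f g : A) (hf : f ∉ 𝔭) (hg : g ∉ 𝔭)
    (hu : IsUnit (algebraMap A (Localization.Away g) f)) :
    (FSch.awayToAtPrime A 𝔭 g hg).comp (awayMap A f g hu) = FSch.awayToAtPrime A 𝔭 f hf := by
  apply IsLocalization.ringHom_ext (Submonoid.powers f)
  ext a
  simp only [RingHom.comp_apply]
  rw [awayMap_algebraMap, awayToAtPrime_algebraMap, awayToAtPrime_algebraMap]

theorem cAway_compat (f g : A) (hf : f ∉ 𝔭) (hg : g ∉ 𝔭)
    (hu : IsUnit (algebraMap A (Localization.Away g) f)) (y : FSch.cAway A J f) :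
    FSch.cAwayToAtPrime A J 𝔭 g hg
      (FSch.complMap _ _ (awayMap A f g hu) (map_awayMap_le A J f g hu) y) =
    FSch.cAwayToAtPrime A J 𝔭 f hf y := by
  unfold FSch.cAwayToAtPrime
  rw [complMap_comp _ _ _ _ _ _ _ (by
    rw [awayToAtPrime_comp A 𝔭 f g hf hg hu]; exact FSch.map_awayToAtPrime_le A J 𝔭 f hf)]
  rw [complMap_congr _ _ (awayToAtPrime_comp A 𝔭 f g hf hg hu)]

theorem range_le_stalkSubring (f : A) (hf : f ∉ 𝔭) :
    (FSch.cAwayToAtPrime A J 𝔭 f hf).range ≤ FSch.stalkSubring A J 𝔭 :=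
  le_iSup (fun f : {f : A // f ∉ 𝔭} => (FSch.cAwayToAtPrime A J 𝔭 f.1 f.2).range) ⟨f, hf⟩

theorem isUnit_algebraMap_away_of_dvd (f g : A) (h : f ∣ g) :
    IsUnit (algebraMap A (Localization.Away g) f) := by
  obtain ⟨c, rfl⟩ := h
  have : IsUnit (algebraMap A (Localization.Away (f * c)) (f * c)) :=
    IsLocalization.Away.algebraMap_isUnit (f * c)
  rw [map_mul] at this
  exact isUnit_of_mul_isUnit_left this

theorem range_mono (f g : A) (hf : f ∉ 𝔭) (hg : g ∉ 𝔭) (h : f ∣ g) :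
    (FSch.cAwayToAtPrime A J 𝔭 f hf).range ≤ (FSch.cAwayToAtPrime A J 𝔭 g hg).range := by
  rintro _ ⟨y, rfl⟩
  exact ⟨_, cAway_compat A J 𝔭 f g hf hg (isUnit_algebraMap_away_of_dvd A f g h) y⟩

theorem exists_of_mem (x : FSch.cAtPrime A J 𝔭) (hx : x ∈ FSch.stalkSubring A J 𝔭) :
    ∃ (f : A) (hf : f ∉ 𝔭) (y : FSch.cAway A J f), FSch.cAwayToAtPrime A J 𝔭 f hf y = x := by
  have hne : Nonempty {f : A // f ∉ 𝔭} := ⟨⟨1, fun h => (‹𝔭.IsPrime›.ne_top) ((Ideal.eq_top_iff_one _).mpr h)⟩⟩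
  have hdir : Directed (· ≤ ·)
      (fun f : {f : A // f ∉ 𝔭} => (FSch.cAwayToAtPrime A J 𝔭 f.1 f.2).range) := by
    rintro ⟨f, hf⟩ ⟨g, hg⟩
    have hfg : f * g ∉ 𝔭 := fun h => (‹𝔭.IsPrime›.mem_or_mem h).elim hf hg
    exact ⟨⟨f * g, hfg⟩, range_mono A J 𝔭 f (f * g) hf hfg (Dvd.intro _ rfl),
      range_mono A J 𝔭 g (f * g) hg hfg (Dvd.intro_left _ rfl)⟩
  unfold FSch.stalkSubring at hx
  rw [Subring.mem_iSup_of_directed hdir] at hx
  obtain ⟨⟨f, hf⟩, y, hy⟩ := hx
  exact ⟨f, hf, y, hy⟩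

theorem Jp_le (hJ : J ≤ 𝔭) : J.map (algebraMap A (Localization.AtPrime 𝔭)) ^ 1 ≤
    IsLocalRing.maximalIdeal (Localization.AtPrime 𝔭) := by
  rw [pow_one, Ideal.map_le_iff_le_comap]
  have := IsLocalization.AtPrime.under_maximalIdeal (Localization.AtPrime 𝔭) 𝔭
  rw [Ideal.under_def] at this
  rw [this]
  exact hJ

theorem key (hJ : J ≤ 𝔭) (f : A) (hf : f ∉ 𝔭) (y : FSch.cAway A J f)
    (hu : IsUnit (AdicCompletion.evalₐ (J.map (algebraMap A (Localization.AtPrime 𝔭))) 1
      (FSch.cAwayToAtPrime A J 𝔭 f hf y))) :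
    ∃ z ∈ FSch.stalkSubring A J 𝔭, FSch.cAwayToAtPrime A J 𝔭 f hf y * z = 1 := by
  obtain ⟨r, hr⟩ := Ideal.Quotient.mk_surjective
    (AdicCompletion.evalₐ (J.map (algebraMap A (Localization.Away f))) 1 y)
  obtain ⟨⟨a, s⟩, has⟩ := IsLocalization.surj (Submonoid.powers f) r
  simp only at has
  -- the image in the local ring is a unit
  have h1 : AdicCompletion.evalₐ (J.map (algebraMap A (Localization.AtPrime 𝔭))) 1
      (FSch.cAwayToAtPrime A J 𝔭 f hf y) =
      Ideal.Quotient.mk _ (FSch.awayToAtPrime A 𝔭 f hf r) := by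
    unfold FSch.cAwayToAtPrime
    rw [evalₐ_complMap, ← hr, Ideal.quotientMap_mk]
  rw [h1] at hu
  have hloc : IsLocalHom (Ideal.Quotient.mk
      (J.map (algebraMap A (Localization.AtPrime 𝔭)) ^ 1)) :=
    isLocalHom_of_le_jacobson_bot _
      ((Jp_le A J 𝔭 hJ).trans (IsLocalRing.maximalIdeal_le_jacobson ⊥))
  have h2 : IsUnit (FSch.awayToAtPrime A 𝔭 f hf r) := hloc.map_nonunit _ hu
  have hs : (s : A) ∉ 𝔭 := by
    obtain ⟨k, hk⟩ := s.2
    rw [← hk]
    exact fun h => hf (‹𝔭.IsPrime›.mem_of_pow_mem k h)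
  have h3 : IsUnit (algebraMap A (Localization.AtPrime 𝔭) a) := by
    have := congrArg (FSch.awayToAtPrime A 𝔭 f hf) has
    rw [map_mul, awayToAtPrime_algebraMap, awayToAtPrime_algebraMap] at this
    rw [← this]
    exact h2.mul (IsLocalization.map_units (M := 𝔭.primeCompl) (Localization.AtPrime 𝔭) ⟨(s : A), hs⟩)
  have ha : a ∉ 𝔭 := by
    intro h
    exact ((IsLocalization.AtPrime.isUnit_to_map_iff (Localization.AtPrime 𝔭) 𝔭 a).mp h3) h
  have hg : a * f ∉ 𝔭 := fun h => (‹𝔭.IsPrime›.mem_or_mem h).elim ha hf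
  have hfu : IsUnit (algebraMap A (Localization.Away (a * f)) f) :=
    isUnit_algebraMap_away_of_dvd A f (a * f) (Dvd.intro_left _ rfl)
  have hau : IsUnit (algebraMap A (Localization.Away (a * f)) a) :=
    isUnit_algebraMap_away_of_dvd A a (a * f) (Dvd.intro _ rfl)
  set y' := FSch.complMap _ _ (awayMap A f (a * f) hfu) (map_awayMap_le A J f (a * f) hfu) y with hy'
  have hcompat := cAway_compat A J 𝔭 f (a * f) hf hg hfu y
  have h4 : AdicCompletion.evalₐ (J.map (algebraMap A (Localization.Away (a * f)))) 1 y' =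
      Ideal.Quotient.mk _ (awayMap A f (a * f) hfu r) := by
    rw [hy', evalₐ_complMap, ← hr, Ideal.quotientMap_mk]
  have h5 : IsUnit (awayMap A f (a * f) hfu r) := by
    have := congrArg (awayMap A f (a * f) hfu) has
    rw [map_mul, awayMap_algebraMap, awayMap_algebraMap] at this
    rw [← this] at hau
    exact isUnit_of_mul_isUnit_left hau
  have h6 : IsUnit y' := by
    apply isUnit_of_evalOne
    rw [h4]
    exact h5.map _
  obtain ⟨v, hv⟩ := h6.exists_right_inv
  refine ⟨FSch.cAwayToAtPrime A J 𝔭 (a * f) hg v,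
    range_le_stalkSubring A J 𝔭 (a * f) hg ⟨v, rfl⟩, ?_⟩
  rw [← hcompat, ← map_mul, hv, map_one]

end Stalk


/-- For a ring A, an ideal J and a prime ideal 𝔭, let A{S⁻¹}, S = A ∖ 𝔭, be the completion of A_𝔭 for
the topology defined by the extension of J, and for f ∉ 𝔭 let A_{f} be the completion of A_f for the
topology defined by the extension of J. Consider the subring A_{S} of A{S⁻¹} generated by the images
of all the A_{f}, f ∉ 𝔭 (when A is adic Noetherian and 𝔭 is open, this is the inductive limit of the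
A_{f}, i.e. the stalk at 𝔭 of the structure sheaf of Spf(A) as a plain ring). If J ⊆ 𝔭, then A_{S}
is a local ring and its inclusion into A{S⁻¹} is a local homomorphism. -/
theorem result (A : Type u) [CommRing A] (J : Ideal A) (𝔭 : Ideal A) [𝔭.IsPrime]
    (hJ : J ≤ 𝔭) :
    IsLocalRing (FSch.stalkSubring A J 𝔭) ∧ IsLocalHom (FSch.stalkSubring A J 𝔭).subtype := by
  set Jp := J.map (algebraMap A (Localization.AtPrime 𝔭)) with hJp
  have hnt : Nontrivial (Localization.AtPrime 𝔭 ⧸ Jp ^ 1) := by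
    rw [Ideal.Quotient.nontrivial_iff]
    intro h
    have := Jp_le A J 𝔭 hJ
    rw [← hJp, h, top_le_iff] at this
    exact (IsLocalRing.maximalIdeal.isMaximal _).ne_top this
  have hloc : IsLocalRing (Localization.AtPrime 𝔭 ⧸ Jp ^ 1) :=
    IsLocalRing.of_surjective' (Ideal.Quotient.mk _) Ideal.Quotient.mk_surjective
  let ε : FSch.stalkSubring A J 𝔭 →+* Localization.AtPrime 𝔭 ⧸ Jp ^ 1 :=
    ((AdicCompletion.evalₐ Jp 1 : FSch.cAtPrime A J 𝔭 →ₐ[_] _) : FSch.cAtPrime A J 𝔭 →+* _).comp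
      (FSch.stalkSubring A J 𝔭).subtype
  have hε : IsLocalHom ε := by
    constructor
    rintro ⟨x, hx⟩ hu
    obtain ⟨f, hf, y, rfl⟩ := exists_of_mem A J 𝔭 x hx
    obtain ⟨z, hz, hyz⟩ := key A J 𝔭 hJ f hf y hu
    exact IsUnit.of_mul_eq_one ⟨z, hz⟩ (Subtype.ext hyz)
  refine ⟨RingHom.domain_isLocalRing ε, ?_⟩
  constructor
  intro x hu
  exact hε.map_nonunit x (hu.map (AdicCompletion.evalₐ Jp 1))

end Groth.Agent.S3869
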