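import Groth.Statements.S3872
import Groth.Agent.S3869

set_option autoImplicit false
universe u
open FCompl

namespace Groth.Agent.S3872

open Groth.Agent.S3869

section

variable {S T : Type u} [CommRing S] [CommRing T] (I : Ideal S) (K : Ideal T) (g : S →+* T)

theorem complMap_of (h : I.map g ≤ K) (y : S) :
    FSch.complMap I K g h (AdicCompletion.of I S y) = AdicCompletion.of K T (g y) := by
  apply AdicCompletion.ext_evalₐ
  intro n
  rw [evalₐ_complMap, AdicCompletion.evalₐ_of, AdicCompletion.evalₐ_of, Ideal.quotientMap_mk]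

end

variable (A : Type u) [CommRing A] (J : Ideal A) (𝔭 : Ideal A) [𝔭.IsPrime]

theorem algebraMap_mem (r : Localization.AtPrime 𝔭) :
    algebraMap (Localization.AtPrime 𝔭) (FSch.cAtPrime A J 𝔭) r ∈ FSch.stalkSubring A J 𝔭 := by
  obtain ⟨⟨a, s⟩, has⟩ := IsLocalization.surj 𝔭.primeCompl r
  simp only at has
  have hs : (s : A) ∉ 𝔭 := s.2
  apply range_le_stalkSubring A J 𝔭 (s : A) hs
  let y : Localization.Away (s : A) :=
    IsLocalization.mk' (Localization.Away (s : A)) a
      (⟨(s : A), Submonoid.mem_powers _⟩ : Submonoid.powers (s : A))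
  have hy : y * algebraMap A (Localization.Away (s : A)) (s : A) =
      algebraMap A (Localization.Away (s : A)) a := by
    simp [y]
  refine ⟨AdicCompletion.of _ _ y, ?_⟩
  unfold FSch.cAwayToAtPrime
  rw [complMap_of, AdicCompletion.algebraMap_apply]
  congr 1
  have h1 := congrArg (FSch.awayToAtPrime A 𝔭 (s : A) hs) hy
  rw [map_mul, awayToAtPrime_algebraMap, awayToAtPrime_algebraMap, ← has] at h1
  have hu : IsUnit (algebraMap A (Localization.AtPrime 𝔭) (s : A)) :=
    IsLocalization.map_units (M := 𝔭.primeCompl) (Localization.AtPrime 𝔭) s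
  exact hu.mul_left_injective h1

theorem exists_sub_mem (hJ : J ≤ 𝔭) [IsLocalRing (FSch.cAtPrime A J 𝔭)] (x : FSch.cAtPrime A J 𝔭) :
    ∃ r : Localization.AtPrime 𝔭,
      x - algebraMap (Localization.AtPrime 𝔭) (FSch.cAtPrime A J 𝔭) r ∈
        IsLocalRing.maximalIdeal (FSch.cAtPrime A J 𝔭) := by
  set Jp := J.map (algebraMap A (Localization.AtPrime 𝔭)) with hJp
  obtain ⟨r, hr⟩ := Ideal.Quotient.mk_surjective (AdicCompletion.evalₐ Jp 1 x)
  refine ⟨r, ?_⟩
  rw [IsLocalRing.mem_maximalIdeal, mem_nonunits_iff]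
  intro hu
  have h1 : AdicCompletion.evalₐ Jp 1
      (x - algebraMap (Localization.AtPrime 𝔭) (FSch.cAtPrime A J 𝔭) r) = 0 := by
    rw [map_sub, AdicCompletion.algebraMap_apply, AdicCompletion.evalₐ_of, ← hr]
    simp
  have h2 := hu.map (AdicCompletion.evalₐ Jp 1)
  rw [h1] at h2
  have hnt : Nontrivial (Localization.AtPrime 𝔭 ⧸ Jp ^ 1) := by
    rw [Ideal.Quotient.nontrivial_iff]
    intro h
    have := Jp_le A J 𝔭 hJ
    rw [← hJp, h, top_le_iff] at this
    exact (IsLocalRing.maximalIdeal.isMaximal _).ne_top this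
  exact not_isUnit_zero h2


/-- For a ring A, an ideal J and a prime ideal 𝔭 with J ⊆ 𝔭, let A{S⁻¹}, S = A ∖ 𝔭, be the completion of
A_𝔭 for the topology defined by the extension of J, and A_{S} the subring of A{S⁻¹} generated by the
images of the completed localizations A_{f}, f ∉ 𝔭 (the stalk ring of Spf(A) at 𝔭). Given that A_{S}
and A{S⁻¹} are local rings and that the inclusion A_{S} → A{S⁻¹} and the canonical map A_𝔭 → A{S⁻¹}
are local homomorphisms (all four are carried here as instance hypotheses; the two about A_{S} are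
stated separately), both maps induce bijections on residue fields; so the residue field of A_{S} is
the residue field κ(𝔭) of A_𝔭. -/
theorem result (A : Type u) [CommRing A] (J : Ideal A) (𝔭 : Ideal A)
    [𝔭.IsPrime] (hJ : J ≤ 𝔭) [IsLocalRing (FSch.stalkSubring A J 𝔭)] [IsLocalRing (FSch.cAtPrime A J 𝔭)]
    [IsLocalHom (FSch.stalkSubring A J 𝔭).subtype]
    [IsLocalHom (algebraMap (Localization.AtPrime 𝔭) (FSch.cAtPrime A J 𝔭))] :
    Function.Bijective (IsLocalRing.ResidueField.map (FSch.stalkSubring A J 𝔭).subtype) ∧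
      Function.Bijective
        (IsLocalRing.ResidueField.map (algebraMap (Localization.AtPrime 𝔭) (FSch.cAtPrime A J 𝔭))) := by
  constructor
  · refine ⟨RingHom.injective _, ?_⟩
    intro xb
    obtain ⟨x, rfl⟩ := IsLocalRing.residue_surjective xb
    obtain ⟨r, hr⟩ := exists_sub_mem A J 𝔭 hJ x
    refine ⟨IsLocalRing.residue _ ⟨_, algebraMap_mem A J 𝔭 r⟩, ?_⟩
    rw [IsLocalRing.ResidueField.map_residue]
    symm
    rw [← sub_eq_zero, ← map_sub, IsLocalRing.residue_eq_zero_iff]
    exact hr
  · refine ⟨RingHom.injective _, ?_⟩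
    intro xb
    obtain ⟨x, rfl⟩ := IsLocalRing.residue_surjective xb
    obtain ⟨r, hr⟩ := exists_sub_mem A J 𝔭 hJ x
    refine ⟨IsLocalRing.residue _ r, ?_⟩
    rw [IsLocalRing.ResidueField.map_residue]
    symm
    rw [← sub_eq_zero, ← map_sub, IsLocalRing.residue_eq_zero_iff]
    exact hr

end Groth.Agent.S3872
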