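import Groth.Statements.S3874
-- import your own Groth.Agent.* helpers here
import Mathlib

set_option autoImplicit false
universe u
open FCompl

namespace Groth.Agent.S3874

/-- kernel of `evalₐ` for a finitely generated ideal -/
theorem ker_evalₐ {B : Type u} [CommRing B] (I : Ideal B) (hI : I.FG) (n : ℕ) :
    RingHom.ker (AdicCompletion.evalₐ I n).toRingHom =
      (I.map (algebraMap B (AdicCompletion I B))) ^ n := by
  ext x
  trans x ∈ (AdicCompletion.eval I B n).ker
  · have eq : I ^ n • (⊤ : Submodule B B) = I ^ n := by simp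
    have hinj : Function.Injective (Ideal.Quotient.factor (le_of_eq eq)) := by
      simpa [RingHom.injective_iff_ker_eq_bot, Ideal.Quotient.factor_ker]
        using Ideal.map_mk_eq_bot_of_le (le_of_eq eq.symm)
    rw [RingHom.mem_ker, LinearMap.mem_ker]
    change AdicCompletion.evalₐ I n x = 0 ↔ _
    rw [← AdicCompletion.factor_eval_eq_evalₐ I x (le_of_eq eq)]
    exact map_eq_zero_iff _ hinj
  · rw [← AdicCompletion.pow_smul_top_eq_ker_eval hI, ← Ideal.map_pow]
    simp

variable (A : Type u) [CommRing A] (J : Ideal A) (f : A) (n : ℕ)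

instance awayInst : IsLocalization.Away (Ideal.Quotient.mk (J ^ (n + 1)) f)
    (Localization.Away f ⧸ (J ^ (n + 1)).map (algebraMap A (Localization.Away f))) := by
  have h : IsLocalization (Algebra.algebraMapSubmonoid (A ⧸ J ^ (n + 1)) (Submonoid.powers f))
    (Localization.Away f ⧸ (J ^ (n + 1)).map (algebraMap A (Localization.Away f))) := inferInstance
  have e : Algebra.algebraMapSubmonoid (A ⧸ J ^ (n + 1)) (Submonoid.powers f) =
      Submonoid.powers (Ideal.Quotient.mk (J ^ (n + 1)) f) := by
    unfold Algebra.algebraMapSubmonoid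
    rw [Submonoid.map_powers]
    rfl
  rw [e] at h
  exact h

/-- step 1 -/
noncomputable def e1 : Localization.Away (Ideal.Quotient.mk (J ^ (n + 1)) f) ≃ₐ[A ⧸ J ^ (n + 1)]
    (Localization.Away f ⧸ (J ^ (n + 1)).map (algebraMap A (Localization.Away f))) :=
  IsLocalization.algEquiv (Submonoid.powers (Ideal.Quotient.mk (J ^ (n + 1)) f)) _ _

abbrev B := Localization.Away f
abbrev I : Ideal (B A f) := J.map (algebraMap A (B A f))

noncomputable def e2 : (B A f ⧸ (J ^ (n + 1)).map (algebraMap A (B A f))) ≃+*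
    (B A f ⧸ (I A J f) ^ (n + 1)) :=
  Ideal.quotEquivOfEq (Ideal.map_pow _ _ _)

noncomputable def e3 : (AdicCompletion (I A J f) (B A f) ⧸
      RingHom.ker (AdicCompletion.evalₐ (I A J f) (n + 1)).toRingHom) ≃+*
    (B A f ⧸ (I A J f) ^ (n + 1)) :=
  RingHom.quotientKerEquivOfSurjective (AdicCompletion.surjective_evalₐ (I A J f) (n + 1))

theorem ker_eq [IsNoetherianRing A] :
    RingHom.ker (AdicCompletion.evalₐ (I A J f) (n + 1)).toRingHom =
      (J.map (algebraMap A (FSch.cAway A J f))) ^ (n + 1) := by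
  have hfg : (I A J f).FG := (IsLocalization.isNoetherianRing (Submonoid.powers f) (B A f) inferInstance).noetherian _
  rw [ker_evalₐ _ hfg]
  congr 1
  unfold I
  rw [Ideal.map_map]
  rfl

noncomputable def e4 [IsNoetherianRing A] : (AdicCompletion (I A J f) (B A f) ⧸
      RingHom.ker (AdicCompletion.evalₐ (I A J f) (n + 1)).toRingHom) ≃+*
    (FSch.cAway A J f ⧸ (J.map (algebraMap A (FSch.cAway A J f))) ^ (n + 1)) :=
  Ideal.quotEquivOfEq (ker_eq A J f n)

theorem main [IsNoetherianRing A] :
    ∃ e : Localization.Away (Ideal.Quotient.mk (J ^ (n + 1)) f) ≃+*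
        FSch.cAway A J f ⧸ (J.map (algebraMap A (FSch.cAway A J f))) ^ (n + 1),
      ∀ a : A, e (algebraMap (A ⧸ J ^ (n + 1)) _ (Ideal.Quotient.mk (J ^ (n + 1)) a)) =
        Ideal.Quotient.mk _ (algebraMap A (FSch.cAway A J f) a) := by
  refine ⟨(e1 A J f n).toRingEquiv.trans ((e2 A J f n).trans ((e3 A J f n).symm.trans (e4 A J f n))), ?_⟩
  intro a
  have h1 : (e1 A J f n) (algebraMap (A ⧸ J ^ (n + 1)) _ (Ideal.Quotient.mk (J ^ (n + 1)) a)) =
      Ideal.Quotient.mk _ (algebraMap A (B A f) a) := by
    rw [AlgEquiv.commutes]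
    rfl
  have h3 : (e3 A J f n) (Ideal.Quotient.mk _ (algebraMap A (FSch.cAway A J f) a)) =
      Ideal.Quotient.mk _ (algebraMap A (B A f) a) := by
    unfold e3
    rw [RingHom.quotientKerEquivOfSurjective_apply_mk]
    exact AdicCompletion.evalₐ_of (I A J f) (n + 1) (algebraMap A (B A f) a)
  simp only [RingEquiv.trans_apply, AlgEquiv.coe_ringEquiv]
  rw [h1]
  unfold e2 e4
  rw [Ideal.quotEquivOfEq_mk, ← h3, RingEquiv.symm_apply_apply, Ideal.quotEquivOfEq_mk]

/-- Let A be a Noetherian ring, J an ideal, f ∈ A and n ≥ 0, and let A_{f} be the completion of the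
localization A_f for the topology defined by the extension of J. There is a ring isomorphism from
the localization of A/J^(n+1) away from the class of f onto A_{f} modulo the (n+1)-st power of the
extension of J to A_{f}, compatible with the canonical maps from A (and hence unique). In terms of
formal spectra: the open D(f) of Spf(A) is Spf(A_{f}), and at level n its ring is the ring
(A/J^(n+1))_f of the open D(f) of Spec(A/J^(n+1)). -/
theorem result (A : Type u) [CommRing A] [IsNoetherianRing A] (J : Ideal A)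
    (f : A) (n : ℕ) :
    ∃ e : Localization.Away (Ideal.Quotient.mk (J ^ (n + 1)) f) ≃+*
        FSch.cAway A J f ⧸ (J.map (algebraMap A (FSch.cAway A J f))) ^ (n + 1),
      ∀ a : A, e (algebraMap (A ⧸ J ^ (n + 1)) _ (Ideal.Quotient.mk (J ^ (n + 1)) a)) =
        Ideal.Quotient.mk _ (algebraMap A (FSch.cAway A J f) a) := by
  exact main A J f n

end Groth.Agent.S3874
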