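import Groth.Statements.S3875
import Groth.Agent.S3862

set_option autoImplicit false
universe u
open FCompl

namespace Groth.Agent.S3875

open AlgebraicGeometry CategoryTheory CategoryTheory.Limits

theorem isPullback_of_levelwise {𝔓 𝔛 𝔜 𝔖 : FSch.Sys.{u}} (p : 𝔓 ⟶ 𝔛) (q : 𝔓 ⟶ 𝔜)
    (f : 𝔛 ⟶ 𝔖) (g : 𝔜 ⟶ 𝔖)
    (H : ∀ n, IsPullback ((p : FSch.Hom 𝔓 𝔛).app n) ((q : FSch.Hom 𝔓 𝔜).app n)
      ((f : FSch.Hom 𝔛 𝔖).app n) ((g : FSch.Hom 𝔜 𝔖).app n)) : IsPullback p q f g := by
  have hw : p ≫ f = q ≫ g := FSch.Hom.ext (funext fun n => (H n).w)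
  refine ⟨⟨hw⟩, ⟨?_⟩⟩
  refine PullbackCone.IsLimit.mk hw (fun s => ?_) (fun s => ?_) (fun s => ?_) (fun s m h1 h2 => ?_)
  · -- lift
    have hc : ∀ n, (s.fst : FSch.Hom _ _).app n ≫ (f : FSch.Hom 𝔛 𝔖).app n =
        (s.snd : FSch.Hom _ _).app n ≫ (g : FSch.Hom 𝔜 𝔖).app n := fun n =>
      congrArg (fun t : FSch.Hom _ _ => t.app n) s.condition
    refine ⟨fun n => (H n).lift _ _ (hc n), fun n => ?_⟩
    apply (H (n + 1)).hom_ext
    · rw [Category.assoc, ← (p : FSch.Hom 𝔓 𝔛).comm n, ← Category.assoc, (H n).lift_fst,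
        Category.assoc, (H (n + 1)).lift_fst, (s.fst : FSch.Hom _ _).comm n]
    · rw [Category.assoc, ← (q : FSch.Hom 𝔓 𝔜).comm n, ← Category.assoc, (H n).lift_snd,
        Category.assoc, (H (n + 1)).lift_snd, (s.snd : FSch.Hom _ _).comm n]
  · exact FSch.Hom.ext (funext fun n => (H n).lift_fst _ _ _)
  · exact FSch.Hom.ext (funext fun n => (H n).lift_snd _ _ _)
  · apply FSch.Hom.ext
    funext n
    apply (H n).hom_ext
    · rw [(H n).lift_fst]
      exact congrArg (fun t : FSch.Hom _ _ => t.app n) h1
    · rw [(H n).lift_snd]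
      exact congrArg (fun t : FSch.Hom _ _ => t.app n) h2

theorem subschemeMap_comm {P X Y S : Scheme.{u}} (IP : P.IdealSheafData) (IX : X.IdealSheafData)
    (IY : Y.IdealSheafData) (IS : S.IdealSheafData) (a : P ⟶ X) (b : P ⟶ Y) (g : X ⟶ S) (h : Y ⟶ S)
    (comm : a ≫ g = b ≫ h) (H1 : IX ≤ IP.map a) (H2 : IY ≤ IP.map b) (H3 : IS ≤ IX.map g)
    (H4 : IS ≤ IY.map h) :
    Scheme.IdealSheafData.subschemeMap IP IY b H2 ≫ Scheme.IdealSheafData.subschemeMap IY IS h H4 =
      Scheme.IdealSheafData.subschemeMap IP IX a H1 ≫ Scheme.IdealSheafData.subschemeMap IX IS g H3 := by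
  rw [← cancel_mono IS.subschemeι]
  simp only [Category.assoc, Scheme.IdealSheafData.subschemeMap_subschemeι,
    Scheme.IdealSheafData.subschemeMap_subschemeι_assoc]
  rw [comm]


open AlgebraicGeometry in
open CategoryTheory in
open CategoryTheory.Limits in
/-- Let g : X → S and h : Y → S be morphisms of schemes, R an ideal sheaf on X and J an ideal sheaf on
S, and consider the completions of S along J, of X along R, of Y along the inverse image of J under
h, and of X x_S Y along the inverse image of R under the first projection (completions presented by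
the subschemes of the powers of these ideal sheaves); this is the case where the closed subset of Y
is the full preimage of that of S. The four compatibility hypotheses between the powers of the ideal
sheaves (for g, for h, and for the two projections of X x_S Y): for each n, the inverse image of the
(n+1)-st power of the target ideal sheaf is contained in the (n+1)-st power of the source ideal
sheaf. These are hypotheses, carried as data for the completed morphisms; the published statement
assumes the schemes locally Noetherian, which this identity does not need. Then the square of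
completed morphisms from the completion of X x_S Y along the preimage of the closed subset of X, to
the completions of X and of Y, over the completion of S, is cartesian in the category of systems. -/
theorem result {X Y S : Scheme.{u}} (g : X ⟶ S) (h : Y ⟶ S)
    (𝓡 : X.IdealSheafData) (𝓙 : S.IdealSheafData)
    (hg : FSch.PowCompat g 𝓡 𝓙) (hh : FSch.PowCompat h (𝓙.comap h) 𝓙)
    (hp : FSch.PowCompat (pullback.fst g h) (𝓡.comap (pullback.fst g h)) 𝓡)
    (hq : FSch.PowCompat (pullback.snd g h) (𝓡.comap (pullback.fst g h)) (𝓙.comap h)) :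
    IsPullback (FSch.completionMap (pullback.fst g h) (𝓡.comap (pullback.fst g h)) 𝓡 hp)
      (FSch.completionMap (pullback.snd g h) (𝓡.comap (pullback.fst g h)) (𝓙.comap h) hq)
      (FSch.completionMap g 𝓡 𝓙 hg) (FSch.completionMap h (𝓙.comap h) 𝓙 hh) := by
  apply isPullback_of_levelwise
  intro n
  have ha := (Groth.Agent.S3862.result (pullback.fst g h) 𝓡 hp).1 n
  have hb := (Groth.Agent.S3862.result h 𝓙 hh).1 n
  have hc : IsPullback (pullback.snd g h) (pullback.fst g h) h g := (IsPullback.of_hasPullback g h).flip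
  have h1 := ha.paste_horiz hc
  simp only [FSch.completionMap_app] at ha hb h1 ⊢
  have e1 : FSch.completionToX (pullback g h) (𝓡.comap (pullback.fst g h)) n ≫ pullback.snd g h =
      Scheme.IdealSheafData.subschemeMap _ _ (pullback.snd g h)
        (Scheme.IdealSheafData.le_map_iff_comap_le.mpr (hq n)) ≫
          FSch.completionToX Y (𝓙.comap h) n :=
    (Scheme.IdealSheafData.subschemeMap_subschemeι _ _ _ _).symm
  have e2 : FSch.completionToX X 𝓡 n ≫ g =
      Scheme.IdealSheafData.subschemeMap _ _ g
        (Scheme.IdealSheafData.le_map_iff_comap_le.mpr (hg n)) ≫ FSch.completionToX S 𝓙 n :=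
    (Scheme.IdealSheafData.subschemeMap_subschemeι _ _ _ _).symm
  rw [e1, e2] at h1
  refine (IsPullback.of_right h1 ?_ hb).flip
  exact subschemeMap_comm _ _ _ _ _ _ _ _ pullback.condition _ _ _ _

end Groth.Agent.S3875
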