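import Groth.Statements.S3883
-- import your own Groth.Agent.* helpers here
import Groth.Agent.S0068
import Groth.Agent.Lib.Helper23.EtRestr
import Groth.Agent.Lib.Helper23.EtSubcanonical

set_option autoImplicit false
open CategoryTheory CategoryTheory.Limits AlgebraicGeometry Opposite
universe u
open EtDesc

namespace Groth.Agent.S3883

open CategoryTheory AlgebraicGeometry Opposite Limits GrothendieckTopology
open Groth.Agent.Lib.Helper23.EtClosedDense Groth.Agent.Lib.Helper23.EtGlue
open Groth.Agent.Lib.Helper23.EtRestr Groth.Agent.Lib.Helper23.EtSubcanonical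

/-- restriction to the induced topology is an equivalence (sheaves of sets) -/
noncomputable abbrev E {Z X : Scheme.{u}} (i : Z ⟶ X) [IsClosedImmersion i] :
    Sheaf Z.smallEtaleTopology (Type (u+1)) ⥤ Sheaf (Jind i) (Type (u+1)) :=
  (EtCoh.bc i).sheafPushforwardContinuous (Type (u+1)) (Jind i) Z.smallEtaleTopology

instance {Z X : Scheme.{u}} (i : Z ⟶ X) [IsClosedImmersion i] : (E i).IsEquivalence :=
  inferInstance

/-- the condition: sections over objects not meeting `Z` are singletons -/
def C {Z X : Scheme.{u}} (i : Z ⟶ X) (F : EtDesc.Sh X) : Prop :=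
  ∀ T : X.Etale, IsEmpty ((EtCoh.bc i).obj T).left → Nonempty (Unique (F.obj.obj (op T)))

set_option backward.isDefEq.respectTransparency.types false in
set_option backward.isDefEq.respectTransparency false in
lemma ess_iff {Z X : Scheme.{u}} (i : Z ⟶ X) [IsClosedImmersion i] (F : EtDesc.Sh X) :
    (EtDesc.pushSh i).essImage F ↔ C i F := by
  constructor
  · rintro ⟨G, ⟨e⟩⟩ T hT
    have hterm := Sheaf.isTerminalOfBotCover G ((EtCoh.bc i).obj T)
      (bot_mem_of_isEmpty ((EtCoh.bc i).obj T))
    have hu : Unique (((EtDesc.pushSh i).obj G).obj.obj (op T)) :=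
      Types.isTerminalEquivUnique _ hterm
    exact ⟨@Equiv.unique _ _ hu ((((sheafToPresheaf _ _).mapIso e).app (op T)).toEquiv.symm)⟩
  · intro h
    have hP : Presieve.IsSheaf X.smallEtaleTopology F.obj :=
      (isSheaf_iff_isSheaf_of_type _ _).1 F.2
    have hJ : Presieve.IsSheaf (Jind i) F.obj := isSheaf_Jind_of_unique i _ hP h
    let FJ : Sheaf (Jind i) (Type (u+1)) := ⟨F.obj, (isSheaf_iff_isSheaf_of_type _ _).2 hJ⟩
    let G := (E i).inv.obj FJ
    let e1 : (E i).obj G ≅ FJ := (E i).asEquivalence.counitIso.app FJ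
    let e2 : ((EtDesc.pushSh i).obj G).obj ≅ F.obj := (sheafToPresheaf _ _).mapIso e1
    exact ⟨G, ⟨(fullyFaithfulSheafToPresheaf _ _).preimageIso e2⟩⟩



/-- a sheaf of sets is terminal iff all its sections are singletons -/
lemma isTerminal_iff {U : Scheme.{u}} (A : EtDesc.Sh U) :
    Nonempty (IsTerminal A) ↔ ∀ V : U.Etale, Nonempty (Unique (A.obj.obj (op V))) := by
  constructor
  · rintro ⟨hA⟩ V
    have hu : Unique ((U.smallEtaleTopology.uliftYoneda.{u+1}).obj V ⟶ A) :=
      ⟨⟨hA.from _⟩, fun a => hA.hom_ext _ _⟩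
    exact ⟨@Equiv.unique _ _ hu (uliftYonedaEquiv.{u+1} U.smallEtaleTopology).symm⟩
  · intro h
    have mk : ∀ B : EtDesc.Sh U, B ⟶ A := fun B =>
      ⟨{ app := fun V => TypeCat.ofHom (fun _ => (h V.unop).some.default)
         naturality := by
          intro V V' g
          ext b
          exact ((h V'.unop).some.instSubsingleton).elim _ _ }⟩
    refine ⟨IsTerminal.ofUniqueHom mk ?_⟩
    · intro B m
      apply Sheaf.hom_ext
      ext V b
      exact ((h V.unop).some.instSubsingleton).elim _ _

set_option backward.isDefEq.respectTransparency.types false in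
set_option backward.isDefEq.respectTransparency false in
lemma C_iff {Y X U : Scheme.{u}} (i : Y ⟶ X) [IsClosedImmersion i] (j : U ⟶ X) [IsOpenImmersion j]
    (hU : Set.range j.base = (Set.range i.base)ᶜ) (F : EtDesc.Sh X) :
    C i F ↔ IsIso (terminal.from ((EtDesc.pullSh j).obj F)) := by
  have hterm : IsIso (terminal.from ((EtDesc.pullSh j).obj F)) ↔
      Nonempty (IsTerminal ((restrSh j).obj F)) := by
    constructor
    · intro h
      exact ⟨(terminalIsTerminal.ofIso (asIso (terminal.from ((EtDesc.pullSh j).obj F))).symm).ofIso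
        ((pullShIsoRestr j).app F)⟩
    · rintro ⟨h⟩
      exact isIso_of_isTerminal (h.ofIso ((pullShIsoRestr j).app F).symm) terminalIsTerminal _
  rw [hterm, isTerminal_iff]
  constructor
  · intro hC V
    apply hC ((EtShriek.compEtale j).obj V)
    rw [Groth.Agent.S0068.isEmpty_bc_iff]
    rw [Set.disjoint_left]
    rintro x ⟨v, rfl⟩ hx
    have h1 : (V.hom ≫ j) v ∈ Set.range j.base := ⟨V.hom v, rfl⟩
    rw [hU] at h1
    exact h1 hx
  · intro h T hT
    have hd := (Groth.Agent.S0068.isEmpty_bc_iff i T).1 hT
    have hr : Set.range T.hom ⊆ Set.range j := by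
      intro x hx
      change x ∈ Set.range j.base
      rw [hU]
      exact fun hx' => Set.disjoint_left.1 hd hx hx'
    let l : T.left ⟶ U := IsOpenImmersion.lift j T.hom hr
    have hl : l ≫ j = T.hom := IsOpenImmersion.lift_fac j T.hom hr
    haveI : AlgebraicGeometry.Etale T.hom := T.prop
    haveI : AlgebraicGeometry.Etale (l ≫ j) := by rw [hl]; infer_instance
    haveI : AlgebraicGeometry.Etale l :=
      EtCoh.etaleMP.of_postcomp (W' := EtCoh.etaleMP) l j inferInstance inferInstance
    let V : U.Etale := Scheme.Etale.mk l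
    let e : (EtShriek.compEtale j).obj V ≅ T :=
      MorphismProperty.Over.isoMk (Iso.refl _) ((Category.id_comp _).trans hl.symm)
    obtain ⟨u⟩ := h V
    exact ⟨@Equiv.unique _ _ u (F.obj.mapIso e.op).toEquiv⟩

/-- Let i : Y -> X be a closed immersion and j : U -> X an open immersion whose image is the complement
of the image of i. Then the direct image functor i_* on etale sheaves of sets is fully faithful, and
a sheaf of sets F on X is isomorphic to some i_* G if and only if j^* F is a final object. -/
theorem result {Y X U : Scheme.{u}} (i : Y ⟶ X)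
    [IsClosedImmersion i] (j : U ⟶ X) [IsOpenImmersion j]
    (hU : Set.range j.base = (Set.range i.base)ᶜ) :
    (EtDesc.pushSh i).Full ∧ (EtDesc.pushSh i).Faithful ∧
    ∀ F : EtDesc.Sh X, (EtDesc.pushSh i).essImage F ↔ IsIso (terminal.from ((EtDesc.pullSh j).obj F)) := by
  refine ⟨?_, ?_, fun F => (ess_iff i F).trans (C_iff i j hU F)⟩
  · constructor
    intro F F' φ
    let φ' : (E i).obj F ⟶ (E i).obj F' := ⟨φ.hom⟩
    obtain ⟨a, ha⟩ := (E i).map_surjective φ'
    refine ⟨a, ?_⟩
    apply Sheaf.hom_ext
    exact congrArg (fun ψ => ψ.hom) ha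
  · constructor
    intro F F' a b hab
    apply (E i).map_injective
    apply Sheaf.hom_ext
    exact congrArg (fun ψ => ψ.hom) hab

end Groth.Agent.S3883
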