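import Groth.Statements.S3888
-- import your own Groth.Agent.* helpers here
import Groth.Agent.S3883
import Groth.Agent.Lib.Helper23.EtRestr
import Mathlib.AlgebraicGeometry.Morphisms.Immersion

set_option autoImplicit false
open CategoryTheory CategoryTheory.Limits AlgebraicGeometry Opposite
universe u
open EtDesc

namespace Groth.Agent.S3888

open CategoryTheory AlgebraicGeometry Opposite Limits GrothendieckTopology
open Groth.Agent.Lib.Helper23.EtRestr

set_option backward.isDefEq.respectTransparency.types false in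
set_option backward.isDefEq.respectTransparency false in
lemma isIso_counit_restrPushSh {U X : Scheme.{u}} (j : U ⟶ X) [IsOpenImmersion j]
    [AlgebraicGeometry.Etale j] [EtShriek.JCont j] : IsIso (restrPushAdjSh j).counit := by
  haveI : IsIso (adjSite j).unit := inferInstance
  rw [NatTrans.isIso_iff_isIso_app]
  intro F
  rw [← isIso_iff_of_reflects_iso _ (sheafToPresheaf _ _), NatTrans.isIso_iff_isIso_app]
  intro V
  change IsIso (F.obj.map (((adjSite j).unit.app V.unop).op) ≫ 𝟙 _)
  infer_instance

lemma open_ff {U X : Scheme.{u}} (j : U ⟶ X) [IsOpenImmersion j] :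
    (EtDesc.pushSh j).Full ∧ (EtDesc.pushSh j).Faithful := by
  haveI := isIso_counit_restrPushSh j
  let ff := (restrPushAdjSh j).fullyFaithfulROfIsIsoCounit
  exact ⟨ff.full, ff.faithful⟩

lemma closed_ff {Z X : Scheme.{u}} (i : Z ⟶ X) [IsClosedImmersion i] :
    (EtDesc.pushSh i).Full ∧ (EtDesc.pushSh i).Faithful := by
  have hcl : IsClosed (Set.range i.base) := i.isClosedEmbedding.isClosed_range
  let W : X.Opens := ⟨(Set.range i.base)ᶜ, hcl.isOpen_compl⟩
  have h := Groth.Agent.S3883.result i W.ι (Scheme.Opens.range_ι W)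
  exact ⟨h.1, h.2.1⟩


/-- Let f : X -> Y be an immersion of schemes. Then for every sheaf of sets F on the small etale site of
X the counit f^* f_* F -> F of the adjunction between inverse and direct image is an isomorphism. -/
theorem result {X Y : Scheme.{u}} (f : X ⟶ Y) [IsImmersion f] (F : EtDesc.Sh X) :
    IsIso ((EtDesc.adjSh f).counit.app F) := by
  obtain ⟨h1, h2⟩ := closed_ff f.liftCoborder
  obtain ⟨h3, h4⟩ := open_ff f.coborderRange.ι
  let e : EtDesc.pushSh f.liftCoborder ⋙ EtDesc.pushSh f.coborderRange.ι ≅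
      EtDesc.pushSh (f.liftCoborder ≫ f.coborderRange.ι) :=
    EtDesc.pushCompSh f.coborderRange.ι f.liftCoborder
  have hff : (EtDesc.pushSh (f.liftCoborder ≫ f.coborderRange.ι)).Full ∧
      (EtDesc.pushSh (f.liftCoborder ≫ f.coborderRange.ι)).Faithful :=
    ⟨Functor.Full.of_iso e, Functor.Faithful.of_iso e⟩
  rw [f.liftCoborder_ι] at hff
  obtain ⟨h5, h6⟩ := hff
  infer_instance

end Groth.Agent.S3888
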