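import Groth.Statements.S3894
-- import your own Groth.Agent.* helpers here
import Mathlib

set_option autoImplicit false
universe u
open CategoryTheory CategoryTheory.Limits Opposite
open Tors

namespace Groth.Agent.S3894

variable {C : Type u} [SmallCategory C] {J : GrothendieckTopology C}

/-- the explicit terminal sheaf of sets -/
noncomputable def Tm (J : GrothendieckTopology C) : Sheaf J (Type u) :=
  Sheaf.terminal J Types.isTerminalPUnit

noncomputable def hTm (J : GrothendieckTopology C) : IsTerminal (Tm J) :=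
  Sheaf.isTerminalTerminal J Types.isTerminalPUnit

noncomputable def iTm (J : GrothendieckTopology C) : ⊤_ (Sheaf J (Type u)) ≅ Tm J :=
  terminalIsTerminal.uniqueUpToIso (hTm J)

theorem fwd {G : Sheaf J AddCommGrpCat.{u}} (T : Tors.Torsor G) (h : T.IsTrivial) : T.HasSection := by
  obtain ⟨e, he⟩ := h
  refine ⟨(iTm J).hom ≫ ObjectProperty.homMk ⟨fun U => ↾(fun _ => e.hom.hom.app U (0 : G.obj.obj U)), ?_⟩⟩
  intro U V f
  refine ConcreteCategory.hom_ext _ _ (fun x => ?_)
  have := NatTrans.naturality_apply e.hom.hom f (0 : G.obj.obj U)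
  change e.hom.hom.app V (0 : G.obj.obj V) = T.P.obj.map f (e.hom.hom.app U (0 : G.obj.obj U))
  rw [← this]
  congr 1
  exact (map_zero (G.obj.map f).hom).symm

theorem bwd {G : Sheaf J AddCommGrpCat.{u}} (T : Tors.Torsor G) (h : T.HasSection) : T.IsTrivial := by
  obtain ⟨σ⟩ := h
  set τ : Tm J ⟶ T.P := (iTm J).inv ≫ σ with hτ
  let s : ∀ U : Cᵒᵖ, T.P.obj.obj U := fun U => τ.hom.app U PUnit.unit
  have hs : ∀ {U V : Cᵒᵖ} (f : U ⟶ V), T.P.obj.map f (s U) = s V := by
    intro U V f
    exact (NatTrans.naturality_apply τ.hom f PUnit.unit).symm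
  have bij : ∀ U : Cᵒᵖ, Function.Bijective (fun g : G.obj.obj U => T.vadd g (s U)) := by
    intro U
    constructor
    · intro g g' hgg'
      obtain ⟨g₀, _, hu⟩ := T.free_transitive (s U) (T.vadd g (s U))
      exact (hu g rfl).trans (hu g' hgg'.symm).symm
    · intro q
      obtain ⟨g, hg, _⟩ := T.free_transitive (s U) q
      exact ⟨g, hg⟩
  let eP : ((sheafCompose J (forget AddCommGrpCat.{u})).obj G).obj ≅ T.P.obj :=
    NatIso.ofComponents (fun U => (Equiv.ofBijective _ (bij U)).toIso) (by
      intro U V f
      refine ConcreteCategory.hom_ext _ _ (fun g => ?_)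
      have h1 := T.map_vadd f (g : G.obj.obj U) (s U)
      rw [hs] at h1
      exact h1.symm)
  refine ⟨(fullyFaithfulSheafToPresheaf J (Type u)).preimageIso eP, ?_⟩
  intro U g h
  change T.vadd (g + h) (s U) = T.vadd g (T.vadd h (s U))
  exact T.add_vadd g h (s U)

/-- A torsor P under an abelian sheaf G is trivial, i.e. equivariantly isomorphic to G acting on itself
by translations, if and only if P has a global section (a morphism from the final sheaf of sets). -/
theorem result {C : Type u} [SmallCategory C] {J : GrothendieckTopology C}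
    {G : Sheaf J AddCommGrpCat.{u}} (T : Tors.Torsor G) : T.IsTrivial ↔ T.HasSection := by
  exact ⟨fwd T, bwd T⟩

end Groth.Agent.S3894
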