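import Groth.Statements.S3896
-- import your own Groth.Agent.* helpers here
import Groth.Agent.S0644
import Groth.Agent.Lib.Helper23.EtSubcanonical

set_option autoImplicit false
open CategoryTheory CategoryTheory.Limits AlgebraicGeometry Opposite
universe u
open EtDesc

namespace Groth.Agent.S3896

open CategoryTheory AlgebraicGeometry Opposite Limits GrothendieckTopology
open Groth.Agent.Lib.Helper23.EtSite Groth.Agent.Lib.Helper23.EtGlue
open Groth.Agent.Lib.Helper23.EtSubcanonical

universe w

set_option backward.isDefEq.respectTransparency.types false in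
set_option backward.isDefEq.respectTransparency false in
lemma nonempty_sections_of_local {S : Scheme.{u}} (F : Sheaf S.smallEtaleTopology (Type w))
    (hF : ∀ U : S.Etale, Subsingleton (F.obj.obj (op U))) (U : S.Etale)
    (h : ∀ u : U.left, ∃ (U' : S.Etale) (u' : U'.left),
      Nonempty (F.obj.obj (op U')) ∧ U'.hom u' = U.hom u) :
    Nonempty (F.obj.obj (op U)) := by
  let R : Sieve U :=
    { arrows := fun T _ => Nonempty (F.obj.obj (op T))
      downward_closed := fun ⟨s⟩ a => ⟨F.obj.map a.op s⟩ }
  have hR : R ∈ S.smallEtaleTopology U := by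
    apply sieve_mem_of_forall_point
    intro u
    obtain ⟨U', u', ⟨s⟩, hu'⟩ := h u
    let U'' : S.Etale := Scheme.Etale.mk (pullback.fst U.hom U'.hom ≫ U.hom)
    let p1 : U'' ⟶ U := MorphismProperty.Over.homMk (pullback.fst U.hom U'.hom) rfl trivial
    let p2 : U'' ⟶ U' := MorphismProperty.Over.homMk (pullback.snd U.hom U'.hom)
      (pullback.condition).symm trivial
    obtain ⟨z, hz1, hz2⟩ := Scheme.Pullback.exists_preimage_pullback u u' hu'.symm
    exact ⟨U'', p1, ⟨F.obj.map p2.op s⟩, ⟨z, hz1⟩⟩
  have hP := (isSheaf_iff_isSheaf_of_type _ _).1 F.2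
  have hsh := hP R hR
  let x : Presieve.FamilyOfElements F.obj R.arrows := fun T g hg => hg.some
  have hx : x.Compatible := by
    intro Y₁ Y₂ Z g₁ g₂ f₁ f₂ h₁ h₂ _
    exact @Subsingleton.elim _ (hF Z) _ _
  obtain ⟨t, _⟩ := hsh x hx
  exact ⟨t⟩

set_option backward.isDefEq.respectTransparency.types false in
set_option backward.isDefEq.respectTransparency false in
lemma iso_of_key {S : Scheme.{u}} (F : Sheaf S.smallEtaleTopology (Type (u+1)))
    (hF : ∀ U : S.Etale, Subsingleton (F.obj.obj (op U))) (W' : S.Opens)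
    (hk : ∀ U : S.Etale, Nonempty (F.obj.obj (op U)) ↔ Nonempty (U ⟶ Scheme.Etale.mk W'.ι)) :
    Nonempty (F.obj ≅ yoneda.obj (Scheme.Etale.mk W'.ι) ⋙ uliftFunctor.{u+1, u}) := by
  refine ⟨NatIso.ofComponents (fun U => Equiv.toIso ?_) ?_⟩
  · haveI := hF U.unop
    haveI := Groth.Agent.S0644.subsingleton_hom W' U.unop
    exact
      { toFun := fun s => ⟨((hk U.unop).1 ⟨s⟩).some⟩
        invFun := fun g => ((hk U.unop).2 ⟨g.down⟩).some
        left_inv := fun _ => Subsingleton.elim _ _
        right_inv := fun _ => by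
          apply ULift.ext
          exact Subsingleton.elim _ _ }
  · intro U U' g
    ext s
    apply ULift.ext
    exact @Subsingleton.elim _ (Groth.Agent.S0644.subsingleton_hom W' U'.unop) _ _

/-- `repSh U` is the (lifted) representable sheaf. -/
noncomputable def repIso {X : Scheme.{u}} (U : X.Etale) :
    EtDesc.repSh U ≅ (X.smallEtaleTopology.uliftYoneda.{u+1}).obj U :=
  (sheafificationIso ((X.smallEtaleTopology.uliftYoneda.{u+1}).obj U)).symm


/-- Let X be a scheme. Sending a Zariski open U of X to the etale sheaf of sets attached to the open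
immersion U -> X gives an isomorphism of ordered sets from the opens of X onto the subobjects of the
final object of the etale topos of X: (a) each such sheaf is a subobject of the final sheaf; (b) U ≤
V if and only if there is a morphism between the attached sheaves; (c) every subobject of the final
sheaf is isomorphic to the sheaf attached to some open. -/
theorem result (X : Scheme.{u}) :
    (∀ U : X.Opens, Mono (terminal.from (EtDesc.repSh (EtDesc.ofOpen U)))) ∧
    (∀ U V : X.Opens, U ≤ V ↔ Nonempty (EtDesc.repSh (EtDesc.ofOpen U) ⟶ EtDesc.repSh (EtDesc.ofOpen V))) ∧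
    (∀ F : EtDesc.Sh X, Mono (terminal.from F) → ∃ U : X.Opens, Nonempty (F ≅ EtDesc.repSh (EtDesc.ofOpen U))) := by
  refine ⟨?_, ?_, ?_⟩
  · intro U
    constructor
    intro Z a b _
    have h : a ≫ (repIso (EtDesc.ofOpen U)).hom = b ≫ (repIso (EtDesc.ofOpen U)).hom := by
      apply Sheaf.hom_ext
      ext T s
      apply ULift.ext
      exact @Subsingleton.elim _ (Groth.Agent.S0644.subsingleton_hom U T.unop) _ _
    exact (cancel_mono (repIso (EtDesc.ofOpen U)).hom).1 h
  · intro U V
    have h1 : Nonempty (EtDesc.repSh (EtDesc.ofOpen U) ⟶ EtDesc.repSh (EtDesc.ofOpen V)) ↔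
        Nonempty (EtDesc.ofOpen U ⟶ EtDesc.ofOpen V) := by
      constructor
      · rintro ⟨a⟩
        exact ⟨(fullyFaithfulUliftYoneda.{u+1} X.smallEtaleTopology).preimage
          ((repIso _).inv ≫ a ≫ (repIso _).hom)⟩
      · rintro ⟨g⟩
        exact ⟨(repIso _).hom ≫ (X.smallEtaleTopology.uliftYoneda.{u+1}).map g ≫ (repIso _).inv⟩
    rw [h1, Groth.Agent.S0644.nonempty_hom_iff]
    have h2 : Set.range (EtDesc.ofOpen U).hom = (U : Set X) := Scheme.Opens.range_ι U
    rw [h2]
    rfl
  · intro F hF
    have hsub : ∀ T : X.Etale, Subsingleton (F.obj.obj (op T)) := by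
      intro T
      constructor
      intro s t
      have h := (cancel_mono (terminal.from F)).1
        (terminal.hom_ext ((uliftYonedaEquiv.{u+1} X.smallEtaleTopology).symm s ≫ terminal.from F)
          ((uliftYonedaEquiv.{u+1} X.smallEtaleTopology).symm t ≫ terminal.from F))
      exact (uliftYonedaEquiv.{u+1} X.smallEtaleTopology).symm.injective h
    let Wset : Set X := ⋃ (U : X.Etale) (_ : Nonempty (F.obj.obj (op U))), Set.range U.hom
    have hopen : IsOpen Wset :=
      isOpen_iUnion fun U => isOpen_iUnion fun _ => by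
        haveI : Etale U.hom := U.prop
        exact (Scheme.Hom.isOpenMap U.hom).isOpen_range
    let W : X.Opens := ⟨Wset, hopen⟩
    have key : ∀ U : X.Etale,
        Nonempty (F.obj.obj (op U)) ↔ Nonempty (U ⟶ Scheme.Etale.mk W.ι) := by
      intro U
      rw [Groth.Agent.S0644.nonempty_hom_iff]
      constructor
      · intro hU x hx
        exact Set.mem_iUnion₂.2 ⟨U, hU, hx⟩
      · intro hU
        apply nonempty_sections_of_local F hsub U
        intro u
        have hu : U.hom u ∈ Wset := hU ⟨u, rfl⟩
        obtain ⟨U', hU', u', hu'⟩ := Set.mem_iUnion₂.1 hu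
        exact ⟨U', u', hU', hu'⟩
    obtain ⟨e⟩ := iso_of_key F hsub W key
    refine ⟨W, ⟨?_ ≪≫ (repIso (EtDesc.ofOpen W)).symm⟩⟩
    exact (fullyFaithfulSheafToPresheaf _ _).preimageIso e

end Groth.Agent.S3896
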