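import Groth.Statements.S4058
import Mathlib
import Groth.Statements.S4058
import Groth.Agent.Lib.Helper13.DvrFlatProper

set_option autoImplicit false
universe u
open CategoryTheory CategoryTheory.Limits AlgebraicGeometry MonObj
open SGA7

namespace Groth.Agent.S4058

section helpers
set_option linter.unusedSectionVars false
set_option linter.unusedVariables false
set_option linter.style.haveILetI false
open CategoryTheory CategoryTheory.Limits AlgebraicGeometry TopologicalSpace PrimeSpectrum IsLocalRing MonObj MonoidalCategory CartesianMonoidalCategory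


open Groth.Agent.Lib.Helper13.DvrFlatProper

theorem main (R K : Type u) [CommRing R] [IsDomain R] [IsDiscreteValuationRing R] [Field K]
    [Algebra R K] [IsFractionRing R K]
    (N : Over (Spec (CommRingCat.of R))) [GrpObj N] (hN : SGA7.IsNeron R K N)
    [hgp : IsProper ((SGA7.genFib R K).obj N).hom]
    [hgi : GeometricallyIntegral ((SGA7.genFib R K).obj N).hom]
    [hsp : IsProper (Red.bc (Spec.map (CommRingCat.ofHom (IsLocalRing.residue R))) N).hom] :
    IsProper N.hom := by
  obtain ⟨hsm, hsep, hqc, -⟩ := hN
  haveI := hsm
  haveI := hsep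
  haveI := hqc
  let r : Spec (CommRingCat.of (ResidueField R)) ⟶ Spec (CommRingCat.of R) :=
    Spec.map (CommRingCat.ofHom (IsLocalRing.residue R))
  let a : Spec (CommRingCat.of K) ⟶ Spec (CommRingCat.of R) :=
    Spec.map (CommRingCat.ofHom (algebraMap R K))
  -- the closed fibre is proper
  have hsp' : IsProper (pullback.snd N.hom r) := hsp
  have hcp : IsProper (N.hom.fiberToSpecResidueField (IsLocalRing.closedPoint R)) := by
    refine isProper_fibre_of_field N.hom r (IsLocalRing.closedPoint R) (fun z => ?_) hsp'
    apply PrimeSpectrum.ext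
    show Ideal.comap (IsLocalRing.residue R) z.asIdeal = maximalIdeal R
    have hz : z.asIdeal = ⊥ := by
      haveI := z.isPrime
      exact Ideal.eq_bot_of_prime _
    rw [hz]
    exact IsLocalRing.ker_residue
  -- the unit section
  let σ : Spec (CommRingCat.of R) ⟶ N.left :=
    (η[N] : 𝟙_ (Over (Spec (CommRingCat.of R))) ⟶ N).left
  have hsec : σ ≫ N.hom = 𝟙 (Spec (CommRingCat.of R)) :=
    Over.w (η[N] : 𝟙_ (Over (Spec (CommRingCat.of R))) ⟶ N)
  let x₀ : ↥(Spec (CommRingCat.of R)) := IsLocalRing.closedPoint R
  have hcn : Nonempty ↥(N.hom.fiber x₀) := by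
    have hx : N.hom (σ x₀) = x₀ := by
      have := congrArg (fun φ : Spec (CommRingCat.of R) ⟶ Spec (CommRingCat.of R) => φ x₀) hsec
      simp only [Scheme.Hom.comp_apply] at this
      exact this
    have : σ x₀ ∈ Set.range (N.hom.fiberι x₀) := by
      rw [N.hom.range_fiberι]; exact hx
    obtain ⟨z, _⟩ := this
    exact ⟨z⟩
  -- the generic fibre
  have hgi' : GeometricallyIntegral (pullback.snd N.hom a) := hgi
  haveI : GeometricallyConnected (pullback.snd N.hom a) :=
    geometricallyConnected_of_geometricallyIrreducible _
  have hgc : ∀ ξ : ↥(Spec (CommRingCat.of R)), ξ.asIdeal = ⊥ →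
      GeometricallyConnected (N.hom.fiberToSpecResidueField ξ) := fun ξ hξ =>
    geomConn_fibre_of_bot R K (pullback.snd N.hom a) N.hom (pullback.fst N.hom a)
      (IsPullback.of_hasPullback N.hom a) ξ hξ
  exact isProper_of_dvr R N.hom hcp hcn hgc


end helpers

/-- (iii) ⇒ (iv): let R be a discrete valuation ring with fraction field K and residue field k, and N a
group scheme over Spec R which is a Néron model of its generic fibre, an abelian variety over K. If
the special fibre N ×_R k is proper over k, then N is proper over Spec R. (In (iii) as published the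
special fibre is an abelian variety; connectedness of the special fibre is not assumed here.) -/
theorem result (R K : Type u) [CommRing R] [IsDomain R] [IsDiscreteValuationRing R] [Field K]
    [Algebra R K] [IsFractionRing R K]
    (N : Over (Spec (CommRingCat.of R))) [GrpObj N] (hN : SGA7.IsNeron R K N)
    [IsProper ((SGA7.genFib R K).obj N).hom] [GeometricallyIntegral ((SGA7.genFib R K).obj N).hom]
    [IsProper (Red.bc (Spec.map (CommRingCat.ofHom (IsLocalRing.residue R))) N).hom] :
    IsProper N.hom := by
  exact main R K N hN

end Groth.Agent.S4058
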