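import Groth.Statements.S4086
import Groth.Agent.Lib.Helper9.GQEqv
import Groth.Agent.S1881

set_option autoImplicit false
universe u
open CategoryTheory MonoidalCategory CartesianMonoidalCategory MonObj GrpObj AlgebraicGeometry CategoryTheory.Limits
open GrpQ

namespace Groth.Agent.S4086

/-- Let (U, R, s, t, c) be a groupoid scheme over S with s finite locally free and every set t(s⁻¹(x))
contained in an affine open of U, and assume that j = (t, s) : R → U ×_S U is a monomorphism. Then
for every coequalizer p : U → Y of (t, s) in schemes, the square formed by t, s, p, p is cartesian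
(R ≅ U ×_Y U) and p is finite locally free. (The source adds that Y is then the quotient sheaf for
the fppf topology and that its formation commutes with base change on Y.) -/
theorem result (S : Scheme.{u}) (G : Grpd.GroupoidScheme S)
    (ha : Mor2.IsFinLocFree G.s)
    (hb : ∀ x : G.U, ∃ V : G.U.Opens, IsAffineOpen V ∧ G.t.base '' (G.s.base ⁻¹' {x}) ⊆ (V : Set G.U))
    [Mono G.j] (Y : Scheme.{u}) (p : G.U ⟶ Y) (w : G.t ≫ p = G.s ≫ p) (hc : IsColimit (Cofork.ofπ p w)) :
    IsPullback G.t G.s p p ∧ Mor2.IsFinLocFree p := by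
  obtain ⟨h1, h2, h3⟩ := ha
  haveI : IsFinite G.s := h1
  haveI : Flat G.s := h2
  haveI : LocallyOfFinitePresentation G.s := h3
  haveI : IsFinite G.t := Groth.Agent.Lib.Helper9.GQ.isFinite_t G
  haveI : Flat G.t := Groth.Agent.Lib.Helper9.GQ.flat_t G
  haveI : LocallyOfFinitePresentation G.t := Groth.Agent.Lib.Helper9.GQ.lfp_t G
  have hcov : ∀ x : G.U, ∃ w : Groth.Agent.Lib.Helper9.GQ.InvOpen G, x ∈ w.W := by
    intro x
    obtain ⟨V, hV, hxV⟩ := hb x
    obtain ⟨W, hW, hxW, hinv⟩ := Groth.Agent.S1881.result S G x V hV (fun r hr =>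
      hxV ⟨r, hr, rfl⟩)
    exact ⟨⟨W, hW, hinv⟩, hxW⟩
  exact Groth.Agent.Lib.Helper9.GQ.main_eqv G hcov Y p w hc


end Groth.Agent.S4086
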