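import Groth.Statements.S4087
import Groth.Agent.Lib.Helper9.QSProps
import Groth.Agent.S4085
import Groth.Agent.S4086

set_option autoImplicit false
universe u
open CategoryTheory MonoidalCategory CartesianMonoidalCategory MonObj GrpObj AlgebraicGeometry CategoryTheory.Limits
open GrpQ

namespace Groth.Agent.S4087

/-- Let (U, R, s, t, c) be a groupoid scheme over S and u : U' → U an immersion which is a
quasi-section: writing V = R ×_{t, U} U' for the arrows with target in U', the morphism V → U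
induced by s is finite locally free and surjective, and every subset of U' whose points are pairwise
equivalent (any two are the target and the source of one arrow) lies in an affine open of U'. Then
(t, s) has a coequalizer p : U → Y in schemes; p is surjective, open if t is open, universally
closed if t is; R → U ×_Y U is surjective; and if j = (t, s) is a monomorphism, R ≅ U ×_Y U, and p
is flat when t is flat. -/
theorem result (S : Scheme.{u}) (G : Grpd.GroupoidScheme S)
    (U' : Scheme.{u}) (u : U' ⟶ G.U) [IsImmersion u]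
    (h1 : Mor2.IsFinLocFree (pullback.fst G.t u ≫ G.s) ∧ Surjective (pullback.fst G.t u ≫ G.s))
    (h2 : ∀ E : Set U', (∀ x ∈ E, ∀ y ∈ E, ∃ r : G.R, G.t.base r = u.base x ∧ G.s.base r = u.base y) →
      ∃ W : U'.Opens, IsAffineOpen W ∧ E ⊆ (W : Set U')) :
    ∃ (Y : Scheme.{u}) (p : G.U ⟶ Y) (w : G.t ≫ p = G.s ≫ p),
      Nonempty (IsColimit (Cofork.ofπ p w)) ∧ Surjective p ∧
      (IsOpenMap G.t.base → IsOpenMap p.base) ∧ (UniversallyClosed G.t → UniversallyClosed p) ∧
      Function.Surjective (pullback.lift G.t G.s w).base ∧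
      (Mono G.j → IsPullback G.t G.s p p ∧ (Flat G.t → Flat p)) := by
  obtain ⟨⟨hf1, hf2, hf3⟩, hsurj⟩ := h1
  haveI : IsFinite (Groth.Agent.Lib.Helper9.QS.v G u) := hf1
  haveI : Flat (Groth.Agent.Lib.Helper9.QS.v G u) := hf2
  haveI : LocallyOfFinitePresentation (Groth.Agent.Lib.Helper9.QS.v G u) := hf3
  haveI : Surjective (Groth.Agent.Lib.Helper9.QS.v G u) := hsurj
  haveI : Mono u := inferInstance
  have ha' : Mor2.IsFinLocFree (Groth.Agent.Lib.Helper9.QS.ind G u).s :=
    ⟨inferInstanceAs (IsFinite (Groth.Agent.Lib.Helper9.QS.s' G u)),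
      inferInstanceAs (Flat (Groth.Agent.Lib.Helper9.QS.s' G u)),
      inferInstanceAs (LocallyOfFinitePresentation (Groth.Agent.Lib.Helper9.QS.s' G u))⟩
  have hb' := Groth.Agent.Lib.Helper9.QS.ind_hb G u h2
  obtain ⟨Y, (p' : U' ⟶ Y),
      (w' : Groth.Agent.Lib.Helper9.QS.t' G u ≫ p' = Groth.Agent.Lib.Helper9.QS.s' G u ≫ p'),
      ⟨hc'⟩, (hint' : IsIntegralHom p'), (hsurj' : Surjective p'), (hopen' : IsOpenMap p'), heq',
      hlift', _⟩ :=
    Groth.Agent.S4085.result S (Groth.Agent.Lib.Helper9.QS.ind G u) ha' hb'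
  haveI : Surjective p' := hsurj'
  haveI : IsIntegralHom p' := hint'
  refine ⟨Y, Groth.Agent.Lib.Helper9.QS.p G u p' w', Groth.Agent.Lib.Helper9.QS.t_p G u p' w',
    ⟨Groth.Agent.Lib.Helper9.QS.isColimit_p G u p' w' hc'⟩,
    Groth.Agent.Lib.Helper9.QS.surjective_p G u p' w',
    fun ht => Groth.Agent.Lib.Helper9.QS.isOpenMap_p G u p' w' hlift' hsurj'.surj hopen' ht,
    fun ht => by
      haveI := ht
      exact Groth.Agent.Lib.Helper9.QS.universallyClosed_p G u p' w',
    Groth.Agent.Lib.Helper9.QS.lift_surjective G u p' w' hlift',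
    fun hj => ?_⟩
  haveI := hj
  haveI : Mono (Groth.Agent.Lib.Helper9.QS.ind G u).j := Groth.Agent.Lib.Helper9.QS.mono_j' G u
  obtain ⟨hpb', hflf'⟩ := Groth.Agent.S4086.result S (Groth.Agent.Lib.Helper9.QS.ind G u) ha' hb'
    Y p' w' hc'
  refine ⟨Groth.Agent.Lib.Helper9.QS.isPullback_p G u p' w' hpb', fun hft => ?_⟩
  haveI := hft
  haveI : @Flat U' Y p' := hflf'.2.1
  exact Groth.Agent.Lib.Helper9.QS.flat_p G u p' w'

end Groth.Agent.S4087
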