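import Groth.Statements.S4091
import Groth.Agent.S0114
import Groth.Agent.Lib.Helper15.FppfFT
-- import your own Groth.Agent.* helpers here

set_option autoImplicit false
universe u
open CategoryTheory MonoidalCategory CartesianMonoidalCategory MonObj GrpObj AlgebraicGeometry CategoryTheory.Limits
open GrpQ

namespace Groth.Agent.S4091

section H
namespace W1
open Groth.Agent.Lib.Helper15

theorem quasiCompact_of_comp_surjective {X Y S : Scheme.{u}} (p : X ⟶ Y) (q : Y ⟶ S)
    [Surjective p] [QuasiCompact (p ≫ q)] : QuasiCompact q := by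
  refine ⟨fun U hU hUc => ?_⟩
  have h1 : IsCompact ((p ≫ q) ⁻¹' U) := QuasiCompact.isCompact_preimage (f := p ≫ q) U hU hUc
  have h2 : q ⁻¹' U = p '' ((p ≫ q) ⁻¹' U) := by
    ext y
    constructor
    · intro hy
      obtain ⟨x, rfl⟩ := p.surjective y
      exact ⟨x, by simpa using hy, rfl⟩
    · rintro ⟨x, hx, rfl⟩
      simpa using hx
  rw [h2]
  exact h1.image p.continuous

theorem exists_compact_open_image_eq {A B : Scheme.{u}} (π : A ⟶ B) (hs : Function.Surjective π)
    (ho : IsOpenMap π) (W : Set B) (hW : IsOpen W) (hWc : IsCompact W) :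
    ∃ W' : Set A, IsOpen W' ∧ IsCompact W' ∧ π '' W' = W := by
  have hpre : IsOpen (π ⁻¹' W) := hW.preimage π.continuous
  have hch : ∀ w : W, ∃ V : A.Opens, IsAffineOpen V ∧ (V : Set A) ⊆ π ⁻¹' W ∧
      (w : B) ∈ π '' (V : Set A) := by
    intro w
    obtain ⟨a, ha⟩ := hs w
    have haW : a ∈ π ⁻¹' W := by
      show π a ∈ W
      rw [ha]
      exact w.2
    obtain ⟨V, hV, haV, hVW⟩ := TopologicalSpace.Opens.isBasis_iff_nbhd.mp A.isBasis_affineOpens
      (U := ⟨π ⁻¹' W, hpre⟩) haW
    exact ⟨V, hV, hVW, a, haV, ha⟩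
  choose V hVa hVW hVw using hch
  obtain ⟨t, ht⟩ := hWc.elim_finite_subcover (fun w : W => π '' (V w : Set A))
    (fun w => ho _ (V w).2) (fun b hb => Set.mem_iUnion.2 ⟨⟨b, hb⟩, hVw ⟨b, hb⟩⟩)
  refine ⟨⋃ w ∈ t, (V w : Set A), isOpen_biUnion fun w _ => (V w).2,
    t.finite_toSet.isCompact_biUnion fun w _ => (hVa w).isCompact, ?_⟩
  rw [Set.image_iUnion₂]
  refine subset_antisymm ?_ ht
  refine Set.iUnion₂_subset fun w _ => ?_
  rw [Set.image_subset_iff]
  exact hVW w

theorem quasiSeparated_of_fppf_comp {X Y S : Scheme.{u}} (p : X ⟶ Y) (q : Y ⟶ S)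
    [Surjective p] [Flat p] [LocallyOfFinitePresentation p] [QuasiCompact p]
    [QuasiSeparated (p ≫ q)] : QuasiSeparated q := by
  refine ⟨⟨fun W hW hWc => ?_⟩⟩
  have sqj := pullback_map_diagonal_isPullback p p q
  set j := pullback.map p p (p ≫ q) (p ≫ q) _ _ q
      (Category.id_comp _).symm (Category.id_comp _).symm with hj
  set π := pullback.map (p ≫ q) (p ≫ q) q q p p (𝟙 _) (Category.comp_id _) (Category.comp_id _)
    with hπ
  have hjsnd : j ≫ pullback.snd (p ≫ q) (p ≫ q) = pullback.snd p p := by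
    rw [hj, pullback.lift_snd, Category.comp_id]
  haveI : QuasiCompact (j ≫ pullback.snd (p ≫ q) (p ≫ q)) := by
    rw [hjsnd]; infer_instance
  haveI : QuasiCompact j := QuasiCompact.of_comp j (pullback.snd (p ≫ q) (p ≫ q))
  haveI : MorphismProperty.IsStableUnderComposition @Surjective.{u} :=
    (inferInstance : MorphismProperty.IsMultiplicative @Surjective.{u}).toIsStableUnderComposition
  have hπs : Surjective π :=
    MorphismProperty.pullbackMap (P := @Surjective.{u}) (f := p ≫ q) (g := p ≫ q) (f' := q) (g' := q)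
      (i₁ := p) (i₂ := p) inferInstance inferInstance rfl rfl
  have hπf : Flat π :=
    MorphismProperty.pullbackMap (P := @Flat.{u}) (f := p ≫ q) (g := p ≫ q) (f' := q) (g' := q)
      (i₁ := p) (i₂ := p) inferInstance inferInstance rfl rfl
  have hπp : LocallyOfFinitePresentation π :=
    MorphismProperty.pullbackMap (P := @LocallyOfFinitePresentation.{u}) (f := p ≫ q) (g := p ≫ q)
      (f' := q) (g' := q) (i₁ := p) (i₂ := p) inferInstance inferInstance rfl rfl
  obtain ⟨W', hW'o, hW'c, hW'⟩ := exists_compact_open_image_eq π π.surjective π.isOpenMap W hW hWc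
  have key := Scheme.image_preimage_eq_of_isPullback sqj.flip W'
  have hc : IsCompact (j ⁻¹' W') := QuasiCompact.isCompact_preimage (f := j) W' hW'o hW'c
  have h3 : (pullback.diagonal q) ⁻¹' W =
      (pullback.fst p p ≫ p) '' (j ⁻¹' W') := by
    rw [← hW']
    exact key.symm
  rw [h3]
  exact hc.image (pullback.fst p p ≫ p).continuous

theorem main {X Y S : Scheme.{u}} (p : X ⟶ Y) (q : Y ⟶ S)
    [Surjective p] [Flat p] [LocallyOfFinitePresentation p] [QuasiCompact p] [QuasiSeparated p] :
    ((LocallyOfFiniteType (p ≫ q) ∧ QuasiCompact (p ≫ q)) → (LocallyOfFiniteType q ∧ QuasiCompact q)) ∧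
    ((LocallyOfFinitePresentation (p ≫ q) ∧ QuasiCompact (p ≫ q) ∧ QuasiSeparated (p ≫ q)) →
      (LocallyOfFinitePresentation q ∧ QuasiCompact q ∧ QuasiSeparated q)) := by
  refine ⟨?_, ?_⟩
  · rintro ⟨h1, h2⟩
    exact ⟨FppfFT.locallyOfFiniteType_of_fppf_comp p q, quasiCompact_of_comp_surjective p q⟩
  · rintro ⟨h1, h2, h3⟩
    exact ⟨Groth.Agent.S0114.result p q, quasiCompact_of_comp_surjective p q,
      quasiSeparated_of_fppf_comp p q⟩

end W1
end H


/-- Let p : X → Y and q : Y → S be morphisms of schemes with p surjective, flat and of finite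
presentation. If p ≫ q is of finite type then q is of finite type; if p ≫ q is of finite
presentation then q is of finite presentation. -/
theorem result {X Y S : Scheme.{u}} (p : X ⟶ Y) (q : Y ⟶ S)
    [Surjective p] [Flat p] [LocallyOfFinitePresentation p] [QuasiCompact p] [QuasiSeparated p] :
    ((LocallyOfFiniteType (p ≫ q) ∧ QuasiCompact (p ≫ q)) → (LocallyOfFiniteType q ∧ QuasiCompact q)) ∧
    ((LocallyOfFinitePresentation (p ≫ q) ∧ QuasiCompact (p ≫ q) ∧ QuasiSeparated (p ≫ q)) →
      (LocallyOfFinitePresentation q ∧ QuasiCompact q ∧ QuasiSeparated q)) := by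
  exact W1.main p q

end Groth.Agent.S4091
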