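import Groth.Statements.S4101
import Mathlib
import Groth.Agent.Lib.Helper13.WeilRep
import Groth.Prelude.Def_SGA3x

set_option autoImplicit false
universe u
open CategoryTheory MonoidalCategory CartesianMonoidalCategory MonObj GrpObj AlgebraicGeometry CategoryTheory.Limits
open SGA3

namespace Groth.Agent.S4101

section helpers

open CategoryTheory AlgebraicGeometry Limits


open Groth.Agent.Lib.Helper13.WeilProjLocal Groth.Agent.Lib.Helper13.ClosedRep
open Groth.Agent.Lib.Helper13.WeilRep

theorem isIso_iff_fac {S Z Y S' : Scheme.{u}} (f : Z ⟶ S) (j : Y ⟶ Z) [IsClosedImmersion j]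
    (g : S' ⟶ S) : IsIso (pullback.snd j (pullback.fst f g)) ↔ Fac f j S' g := by
  constructor
  · intro h
    refine ⟨inv (pullback.snd j (pullback.fst f g)) ≫ pullback.fst j (pullback.fst f g), ?_⟩
    rw [Category.assoc, pullback.condition, IsIso.inv_hom_id_assoc]
  · rintro ⟨w, hw⟩
    haveI : IsSplitEpi (pullback.snd j (pullback.fst f g)) :=
      IsSplitEpi.mk' ⟨pullback.lift w (𝟙 _) (by rw [hw, Category.id_comp]), pullback.lift_snd _ _ _⟩
    exact isIso_of_mono_of_isSplitEpi _

theorem main (S Z Y : Scheme.{u}) (f : Z ⟶ S)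
    (hf : SGA3x.IsEssentiallyFree f) (j : Y ⟶ Z) [IsClosedImmersion j] :
    ∃ (T : Scheme.{u}) (t : T ⟶ S), IsClosedImmersion t ∧
      (∀ (S' : Scheme.{u}) (g : S' ⟶ S),
        (∃ g' : S' ⟶ T, g' ≫ t = g) ↔ IsIso (pullback.snd j (pullback.fst f g))) ∧
      (QuasiCompact f → LocallyOfFinitePresentation j → LocallyOfFinitePresentation t) := by
  have hr : Rep (Fac f j) (QuasiCompact f ∧ LocallyOfFinitePresentation j) := by
    apply rep_fac_of_local f j
    intro p
    obtain ⟨U, hpU, hU, S', hS', g, hgf, hgs, hcharts⟩ := hf p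
    haveI : IsAffine (U : Scheme.{u}) := hU
    haveI := hS'
    refine ⟨U, hpU, S', g, hgf, hgs, inferInstance, ?_⟩
    choose V hxV hVaff hVproj using hcharts
    by_cases hqc : QuasiCompact f
    · haveI : QuasiCompact (pullback.snd f (g ≫ U.ι)) := inferInstance
      haveI : CompactSpace ↥(pullback f (g ≫ U.ι) : Scheme.{u}) :=
        (quasiCompact_iff_compactSpace (pullback.snd f (g ≫ U.ι))).mp inferInstance
      have hsub : (Set.univ : Set ↥(pullback f (g ≫ U.ι) : Scheme.{u})) ⊆
          ⋃ x, ((V x : (pullback f (g ≫ U.ι) : Scheme.{u}).Opens) :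
            Set ↥(pullback f (g ≫ U.ι) : Scheme.{u})) :=
        fun x _ => Set.mem_iUnion.mpr ⟨x, hxV x⟩
      obtain ⟨t, ht⟩ := isCompact_univ.elim_finite_subcover
        (fun x => ((V x : (pullback f (g ≫ U.ι) : Scheme.{u}).Opens) :
            Set ↥(pullback f (g ≫ U.ι) : Scheme.{u})))
        (fun x => (V x).isOpen) hsub
      have hcov : ∀ b : ↥(pullback f (g ≫ U.ι) : Scheme.{u}), ∃ i : (t : Set _), b ∈ V i.1 := by
        intro b
        have := ht (Set.mem_univ b)
        simp only [Set.mem_iUnion] at this
        obtain ⟨x, hx, hb⟩ := this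
        exact ⟨⟨x, hx⟩, hb⟩
      have := rep_fac_of_affine_charts (pullback.snd f (g ≫ U.ι))
        (pullback.snd j (pullback.fst f (g ≫ U.ι))) (fun i : (t : Set ↥(pullback f (g ≫ U.ι) : Scheme.{u})) => V i.1)
        (fun i => hVaff i.1) hcov (fun i => hVproj i.1)
      refine rep_mono _ ?_ this
      rintro ⟨-, h2⟩
      haveI := h2
      exact ⟨Finite.of_fintype _, inferInstance⟩
    · have := rep_fac_of_affine_charts (pullback.snd f (g ≫ U.ι))
        (pullback.snd j (pullback.fst f (g ≫ U.ι))) V hVaff (fun b => ⟨b, hxV b⟩) hVproj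
      exact rep_mono _ (fun h => absurd h.1 hqc) this
  obtain ⟨T, t, ht, hfp, hT⟩ := hr
  exact ⟨T, t, ht, fun S' g => (hT S' g).trans (isIso_iff_fac f j g).symm,
    fun h1 h2 => hfp ⟨h1, h2⟩⟩


end helpers

/-- Let f : Z → S be essentially free (every point of S has an affine open neighbourhood U and a flat
surjective morphism S' → U from an affine scheme S' such that Z ×_S S' is covered by affine opens
whose rings of sections are projective Γ(S')-modules) and j : Y → Z a closed immersion. Then there
is a closed immersion t : T → S such that a morphism g : S' → S factors through T exactly when the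
closed immersion Y ×_Z Z_{S'} → Z_{S'} deduced from j by base change is an isomorphism; if moreover
Z is quasi-compact over S and j is of finite presentation, then t is of finite presentation. (The
published statement omits the quasi-compactness of Z over S in the last clause; it is stated here
with it.) -/
theorem result (S Z Y : Scheme.{u}) (f : Z ⟶ S)
    (hf : SGA3x.IsEssentiallyFree f) (j : Y ⟶ Z) [IsClosedImmersion j] :
    ∃ (T : Scheme.{u}) (t : T ⟶ S), IsClosedImmersion t ∧
      (∀ (S' : Scheme.{u}) (g : S' ⟶ S),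
        (∃ g' : S' ⟶ T, g' ≫ t = g) ↔ IsIso (pullback.snd j (pullback.fst f g))) ∧
      (QuasiCompact f → LocallyOfFinitePresentation j → LocallyOfFinitePresentation t) := by
  exact main S Z Y f hf j

end Groth.Agent.S4101
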