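import Groth.Statements.S4103
import Groth.Agent.Lib.Helper24.HopfFF.Main
-- import your own Groth.Agent.* helpers here

set_option autoImplicit false
universe u
open CategoryTheory MonoidalCategory CartesianMonoidalCategory MonObj GrpObj AlgebraicGeometry CategoryTheory.Limits
open SGA3

namespace Groth.Agent.S4103

/-- Let A be a commutative Hopf algebra over a field k and B a sub-Hopf-algebra of A (a subalgebra
stable under comultiplication and antipode). Then A is faithfully flat as a B-module. -/
theorem result (k : Type u) [Field k] (A : Type u) [CommRing A] [HopfAlgebra k A]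
    (B : Subalgebra k A) (hB : SGA3.IsHopfSubalgebra k A B) : Module.FaithfullyFlat ↥B A := by
  exact Groth.Agent.Lib.Helper24.HopfFF.faithfullyFlat_of_isSub
    ((Groth.Agent.Lib.Helper24.HopfFF.isSub_iff B).2 hB)


end Groth.Agent.S4103
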