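import Groth.Statements.S4104
import Groth.Agent.Lib.Helper24.HopfFF.Range
-- import your own Groth.Agent.* helpers here

set_option autoImplicit false
universe u
open CategoryTheory MonoidalCategory CartesianMonoidalCategory MonObj GrpObj AlgebraicGeometry CategoryTheory.Limits
open SGA3

namespace Groth.Agent.S4104

/-- Let φ : A' → A be a bialgebra map between commutative Hopf algebras over a field k (a homomorphism
of affine k-groups Spec A → Spec A', not necessarily of finite type). If the corresponding morphism
of schemes is a monomorphism, i.e. φ is an epimorphism in the category of commutative rings, then φ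
is surjective (the homomorphism is a closed immersion). -/
theorem result (k : Type u) [Field k] (A' A : Type u) [CommRing A'] [HopfAlgebra k A']
    [CommRing A] [HopfAlgebra k A] (φ : A' →ₐc[k] A)
    (hepi : ∀ (R : Type u) [CommRing R] (f g : A →+* R), f.comp (φ : A' →+* A) = g.comp (φ : A' →+* A) → f = g) :
    Function.Surjective φ := by
  open Groth.Agent.Lib.Helper24.HopfFF in
  have hB : IsSub (φ : A' →ₐ[k] A).range := isSub_range φ
  letI := Groth.Agent.Lib.Helper24.HopfFF.hopfB hB
  have hff := Groth.Agent.Lib.Helper24.HopfFF.faithfullyFlat_of_injective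
    (Groth.Agent.Lib.Helper24.HopfFF.inclB hB) Subtype.val_injective
  have hsurj : Function.Surjective
      ((Groth.Agent.Lib.Helper24.HopfFF.inclB hB : ↥(φ : A' →ₐ[k] A).range →ₐc[k] A) :
        ↥(φ : A' →ₐ[k] A).range →+* A) := by
    refine Groth.Agent.Lib.Helper24.HopfFF.surjective_of_faithfullyFlat_of_epi _ hff ?_
    intro R _ g h hgh
    apply hepi R g h
    refine RingHom.ext fun a' => ?_
    have := congrArg (fun ψ : ↥(φ : A' →ₐ[k] A).range →+* R => ψ ⟨φ a', a', rfl⟩) hgh
    exact this
  intro a
  obtain ⟨⟨_, a', rfl⟩, rfl⟩ := hsurj a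
  exact ⟨a', rfl⟩


end Groth.Agent.S4104
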