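import Groth.Statements.S4110
import Groth.Agent.Lib.Helper14.HeightOne

set_option autoImplicit false
universe u
open CategoryTheory MonoidalCategory CartesianMonoidalCategory MonObj GrpObj AlgebraicGeometry CategoryTheory.Limits
open SGA3

namespace Groth.Agent.S4110

open TensorProduct MvPolynomial
open Groth.Agent.Lib.Helper14.HeightOne

theorem finite_of_height_one (p : ℕ) (hp0 : 0 < p) (R A : Type*) [CommRing R] [CommRing A] [Bialgebra R A]
    [Algebra.FiniteType R A]
    (h1 : ∀ a : A, Bialgebra.counitAlgHom R A a = 0 → a ^ p = 0) : Module.Finite R A := by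
  haveI : Algebra.IsIntegral R A := ⟨fun a => by
    have h : a = algebraMap R A (Bialgebra.counitAlgHom R A a) +
        (a - algebraMap R A (Bialgebra.counitAlgHom R A a)) := by ring
    rw [h]
    refine IsIntegral.add isIntegral_algebraMap ?_
    have h2 : (a - algebraMap R A (Bialgebra.counitAlgHom R A a)) ^ p = 0 :=
      h1 _ (by simp)
    refine IsIntegral.of_pow hp0 ?_
    rw [h2]
    exact isIntegral_zero⟩
  exact Algebra.IsIntegral.finite

section Main

variable (p : ℕ) [Fact p.Prime] (R : Type u) [CommRing R] [IsLocalRing R] [CharP R p]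
  (A : Type u) [CommRing A] [Bialgebra R A]

local notation "k" => IsLocalRing.ResidueField R

lemma charP_residue : CharP k p := by
  obtain ⟨q, hq⟩ := CharP.exists k
  have h0 : ((p : ℕ) : k) = 0 := by
    rw [← map_natCast (algebraMap R k), CharP.cast_eq_zero R p, map_zero]
  have hdvd : q ∣ p := (CharP.cast_eq_zero_iff k q p).mp h0
  rcases (Nat.dvd_prime (Fact.out : p.Prime)).mp hdvd with h | h
  · exact absurd h (CharP.char_ne_one k q)
  · rw [← h]; exact hq

lemma exists_tmul (b : k ⊗[R] A) : ∃ a : A, b = (1 : k) ⊗ₜ[R] a := by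
  induction b using TensorProduct.induction_on with
  | zero => exact ⟨0, by simp⟩
  | tmul c a =>
    obtain ⟨r, rfl⟩ := IsLocalRing.residue_surjective c
    refine ⟨r • a, ?_⟩
    rw [TensorProduct.tmul_smul, TensorProduct.smul_tmul']
    congr 1
    rw [Algebra.smul_def, _root_.mul_one]
    rfl
  | add y z hy hz =>
    obtain ⟨a, rfl⟩ := hy
    obtain ⟨a', rfl⟩ := hz
    exact ⟨a + a', by rw [TensorProduct.tmul_add]⟩

lemma counit_one_tmul (a : A) :
    Coalgebra.counit (R := k) ((1 : k) ⊗ₜ[R] a) =
      IsLocalRing.residue R (Coalgebra.counit (R := R) a) := by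
  rw [TensorProduct.counit_tmul]
  rw [Algebra.smul_def]
  simp

lemma exists_tmul_of_counit_eq_zero (b : k ⊗[R] A)
    (hb : Coalgebra.counit (R := k) b = 0) :
    ∃ a : A, Coalgebra.counit (R := R) a = 0 ∧ b = (1 : k) ⊗ₜ[R] a := by
  obtain ⟨a, rfl⟩ := exists_tmul R A b
  rw [counit_one_tmul] at hb
  refine ⟨a - algebraMap R A (Coalgebra.counit (R := R) a), ?_, ?_⟩
  · rw [map_sub]
    have : Coalgebra.counit (R := R) (algebraMap R A (Coalgebra.counit (R := R) a)) =
        Coalgebra.counit (R := R) a := by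
      rw [Algebra.algebraMap_eq_smul_one, map_smul, Bialgebra.counit_one]; simp
    rw [this, sub_self]
  · rw [TensorProduct.tmul_sub]
    have : (1 : k) ⊗ₜ[R] (algebraMap R A (Coalgebra.counit (R := R) a)) = 0 := by
      rw [Algebra.algebraMap_eq_smul_one, TensorProduct.tmul_smul, TensorProduct.smul_tmul',
        Algebra.smul_def, _root_.mul_one]
      have : algebraMap R k (Coalgebra.counit (R := R) a) = 0 := hb
      rw [this, TensorProduct.zero_tmul]
    rw [this, sub_zero]

end Main


lemma exists_reduced_mod {K : Type*} [CommRing K] {n : ℕ} (p : ℕ) (f : MvPolynomial (Fin n) K) :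
    ∃ f' : MvPolynomial (Fin n) K, (∀ m ∈ f'.support, ∀ i, m i < p) ∧
      f - f' ∈ Ideal.span (Set.range fun i : Fin n => (X i : MvPolynomial (Fin n) K) ^ p) := by
  classical
  induction f using MvPolynomial.induction_on' with
  | monomial u c =>
    by_cases hu : ∀ i, u i < p
    · refine ⟨monomial u c, ?_, by simp⟩
      intro m hm i
      have := MvPolynomial.support_monomial_subset hm
      rw [Finset.mem_singleton] at this
      rw [this]; exact hu i
    · push Not at hu
      obtain ⟨i, hi⟩ := hu
      refine ⟨0, by simp, ?_⟩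
      rw [sub_zero]
      have hle : Finsupp.single i p ≤ u := by
        rw [Finsupp.single_le_iff]
        exact hi
      have e : monomial u c = monomial (u - Finsupp.single i p) c * (X i : MvPolynomial (Fin n) K) ^ p := by
        rw [X_pow_eq_monomial, monomial_mul, tsub_add_cancel_of_le hle, _root_.mul_one]
      rw [e]
      exact Ideal.mul_mem_left _ _ (Ideal.subset_span ⟨i, rfl⟩)
  | add f g hf hg =>
    obtain ⟨f', hf', hfJ⟩ := hf
    obtain ⟨g', hg', hgJ⟩ := hg
    refine ⟨f' + g', ?_, ?_⟩
    · intro m hm i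
      rcases Finset.mem_union.mp (MvPolynomial.support_add hm) with h | h
      · exact hf' m h i
      · exact hg' m h i
    · have : f + g - (f' + g') = (f - f') + (g - g') := by ring
      rw [this]
      exact add_mem hfJ hgJ

section Main2

variable (p : ℕ) [Fact p.Prime] (R : Type u) [CommRing R] [IsLocalRing R] [CharP R p]
  (A : Type u) [CommRing A] [Bialgebra R A]

local notation "k" => IsLocalRing.ResidueField R

theorem main [Algebra.FinitePresentation R A] [Module.Flat R A]
    (h1 : ∀ a : A, Bialgebra.counitAlgHom R A a = 0 → a ^ p = 0) :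
    ∃ n : ℕ, Nonempty (A ≃ₐ[R] (MvPolynomial (Fin n) R ⧸
      Ideal.span (Set.range fun i : Fin n => (MvPolynomial.X i : MvPolynomial (Fin n) R) ^ p))) := by
  classical
  haveI := charP_residue p R
  have hp0 : 0 < p := (Fact.out : p.Prime).pos
  haveI : Module.Finite R A := finite_of_height_one p hp0 R A h1
  -- the fibre
  have hpB : ∀ b ∈ augI k (k ⊗[R] A), b ^ p = 0 := by
    intro b hb
    obtain ⟨a, ha, rfl⟩ := exists_tmul_of_counit_eq_zero R A b (mem_augI.mp hb)
    rw [Algebra.TensorProduct.tmul_pow, one_pow, h1 a ha, TensorProduct.tmul_zero]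
  -- choose x
  let Iκ : Submodule k (k ⊗[R] A) := (augI k (k ⊗[R] A)).restrictScalars k
  let I2 : Submodule k (k ⊗[R] A) := (augI k (k ⊗[R] A) ^ 2).restrictScalars k
  have hI2le : I2 ≤ Iκ := fun y hy => Ideal.pow_le_self (by norm_num) hy
  obtain ⟨C₀, hC₀⟩ := Submodule.exists_isCompl I2
  let C : Submodule k (k ⊗[R] A) := C₀ ⊓ Iκ
  let n := Module.finrank k C
  let bC : Module.Basis (Fin n) k C := Module.finBasis k C
  let x : Fin n → k ⊗[R] A := fun i => (bC i : k ⊗[R] A)
  have hxI : ∀ i, x i ∈ augI k (k ⊗[R] A) := fun i => (bC i).2.2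
  have hind : ∀ c : Fin n → k, ∑ i, c i • x i ∈ augI k (k ⊗[R] A) ^ 2 → c = 0 := by
    intro c hc
    have h2 : ((∑ i, c i • bC i : C) : k ⊗[R] A) = ∑ i, c i • x i := by
      simp [x]
    have h3 : ((∑ i, c i • bC i : C) : k ⊗[R] A) ∈ I2 ⊓ C₀ := by
      rw [h2]
      refine ⟨hc, ?_⟩
      rw [← h2]
      exact (∑ i, c i • bC i : C).2.1
    rw [hC₀.inf_eq_bot, Submodule.mem_bot] at h3
    have h4 : (∑ i, c i • bC i : C) = 0 := Subtype.ext h3
    funext i
    exact (Fintype.linearIndependent_iff.mp bC.linearIndependent) c h4 i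
  have hspan : ∀ b ∈ augI k (k ⊗[R] A), ∃ c : Fin n → k,
      b - ∑ i, c i • x i ∈ augI k (k ⊗[R] A) ^ 2 := by
    intro b hb
    have hbtop : b ∈ I2 ⊔ C₀ := by rw [hC₀.sup_eq_top]; trivial
    obtain ⟨y, hy, z, hz, rfl⟩ := Submodule.mem_sup.mp hbtop
    have hzI : z ∈ Iκ := by
      have : z = (y + z) - y := by ring
      rw [this]
      exact sub_mem hb (hI2le hy)
    let zC : C := ⟨z, hz, hzI⟩
    refine ⟨fun i => bC.repr zC i, ?_⟩
    have h2 : ∑ i, (bC.repr zC i) • x i = z := by
      have := bC.sum_repr zC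
      have h3 := congrArg (Subtype.val) this
      rw [Submodule.coe_sum] at h3
      simp only [Submodule.coe_smul] at h3
      exact h3
    rw [h2]
    have : y + z - z = y := by ring
    rw [this]
    exact hy
  have hF := monomial_bijective p hpB x hxI hspan hind
  -- lift
  choose a ha0 hax using fun i => exists_tmul_of_counit_eq_zero R A (x i) (mem_augI.mp (hxI i))
  let v : (Fin n → Fin p) → A := fun α => ∏ i, a i ^ (α i : ℕ)
  have hv : (TensorProduct.mk R k A 1 ∘ v) = fun α : Fin n → Fin p => ∏ i, x i ^ (α i : ℕ) := by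
    funext α
    simp only [Function.comp_apply, TensorProduct.mk_apply, v]
    have : ((1 : k) ⊗ₜ[R] ∏ i, a i ^ (α i : ℕ)) =
        (Algebra.TensorProduct.includeRight (R := R) (A := k) (B := A)) (∏ i, a i ^ (α i : ℕ)) := rfl
    rw [this, map_prod]
    refine Finset.prod_congr rfl fun i _ => ?_
    rw [map_pow, hax i]
    rfl
  have hbij : Function.Bijective (Finsupp.linearCombination R v) :=
    Module.IsLocalRing.linearCombination_bijective_of_flat v (by rw [hv]; exact hF)
  have hli : LinearIndependent R v := hbij.1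
  -- the algebra map
  let J : Ideal (MvPolynomial (Fin n) R) :=
    Ideal.span (Set.range fun i : Fin n => (MvPolynomial.X i : MvPolynomial (Fin n) R) ^ p)
  let ψ : MvPolynomial (Fin n) R →ₐ[R] A := aeval a
  have hψJ : ∀ f ∈ J, ψ f = 0 := by
    intro f hf
    have hle : J ≤ RingHom.ker (ψ : MvPolynomial (Fin n) R →+* A) := by
      rw [Ideal.span_le]
      rintro _ ⟨i, rfl⟩
      rw [SetLike.mem_coe, RingHom.mem_ker]
      simp only [ψ, AlgHom.coe_toRingHom, map_pow, aeval_X]
      exact h1 (a i) (ha0 i)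
    exact hle hf
  let φ : (MvPolynomial (Fin n) R ⧸ J) →ₐ[R] A := Ideal.Quotient.liftₐ J ψ hψJ
  have hψpoly : ∀ g : (Fin n → Fin p) → R, ψ (polyOf g) = ∑ α, g α • v α := fun g =>
    aeval_polyOf a g
  have hsurj : Function.Surjective φ := by
    intro y
    obtain ⟨l, hl⟩ := hbij.2 y
    refine ⟨Ideal.Quotient.mk J (polyOf (fun α => l α)), ?_⟩
    rw [← hl]
    show ψ (polyOf fun α => l α) = _
    rw [hψpoly, Finsupp.linearCombination_apply, Finsupp.sum_fintype _ _ (by simp)]
  have hinj : Function.Injective φ := by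
    rw [injective_iff_map_eq_zero]
    intro q hq
    obtain ⟨f, rfl⟩ := Ideal.Quotient.mk_surjective q
    obtain ⟨f', hf', hfJ⟩ := exists_reduced_mod p f
    have hψf : ψ f = 0 := hq
    have hψf' : ψ f' = 0 := by
      have : f' = f - (f - f') := by ring
      rw [this, map_sub, hψf, hψJ _ hfJ, sub_zero]
    have hf'0 : f' = 0 := by
      rw [eq_polyOf f' hf'] at hψf' ⊢
      rw [hψpoly] at hψf'
      have hz := Fintype.linearIndependent_iff.mp hli _ hψf'
      have : (fun α : Fin n → Fin p => coeff (tIdx α) f') = fun _ => 0 := funext hz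
      rw [this]
      simp [polyOf]
    rw [hf'0, sub_zero] at hfJ
    exact Ideal.Quotient.eq_zero_iff_mem.mpr hfJ
  exact ⟨n, ⟨(AlgEquiv.ofBijective φ ⟨hinj, hsurj⟩).symm⟩⟩

end Main2


/-- (iv) ⟹ (ii), over a local base: let R be a local ring of prime characteristic p and A a commutative
Hopf algebra over R which is of finite presentation and flat over R (an R-group G locally of finite
presentation and flat; finiteness is then a consequence) and of height ≤ 1: every element a of the
augmentation ideal satisfies a^p = 0 (the Frobenius of G is trivial). Then A is isomorphic as an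
R-algebra to R[X₁, …, Xₙ]/(X₁^p, …, Xₙ^p) for some n (n is the rank of the conormal module ω_G,
which is free). -/
theorem result (p : ℕ) [Fact p.Prime] (R : Type u) [CommRing R]
    [IsLocalRing R] [CharP R p] (A : Type u) [CommRing A] [HopfAlgebra R A] [Algebra.FinitePresentation R A] [Module.Flat R A]
    (h1 : ∀ a : A, Bialgebra.counitAlgHom R A a = 0 → a ^ p = 0) :
    ∃ n : ℕ, Nonempty (A ≃ₐ[R] (MvPolynomial (Fin n) R ⧸
      Ideal.span (Set.range fun i : Fin n => (MvPolynomial.X i : MvPolynomial (Fin n) R) ^ p))) := by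
  exact main p R A h1

end Groth.Agent.S4110
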