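import Groth.Statements.S4114
import Groth.Agent.Lib.Helper14.GrpBridge

set_option autoImplicit false
universe u
open CategoryTheory MonoidalCategory CartesianMonoidalCategory MonObj GrpObj AlgebraicGeometry CategoryTheory.Limits
open SGA3

namespace Groth.Agent.S4114

open Groth.Agent.Lib.Helper14.GrpBridge
open scoped Obj

set_option synthInstance.maxHeartbeats 400000 in


/-- Let S be a reduced scheme and G an S-group scheme which is finite locally free of constant rank n
over S. Then the n-th power morphism of G is the trivial endomorphism (g ↦ gⁿ factors through the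
unit section). -/
theorem result (S : Scheme.{u}) [IsReduced S] (G : Over S) [GrpObj G] (n : ℕ)
    (hG : Mor2.IsFinLocFreeOfDeg n G.hom) : (𝟙 G : G ⟶ G) ^ n = 1 := by
  obtain ⟨⟨hfin, hflat, hfp⟩, hrank⟩ := hG
  apply pow_eq_one_of_cover G n S.affineOpenCover.openCover
  intro i
  have hred : IsReduced (Spec (S.affineOpenCover.X i)) :=
    haveI : IsOpenImmersion (S.affineOpenCover.f i) := S.affineOpenCover.map_prop i
    isReduced_of_isOpenImmersion (S.affineOpenCover.f i)
  have hredR : _root_.IsReduced (S.affineOpenCover.X i) := by
    have := (affine_isReduced_iff (S.affineOpenCover.X i)).mp hred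
    exact this
  have i1 : IsFinite ((Over.pullback (S.affineOpenCover.f i)).obj G).hom :=
    inferInstanceAs (IsFinite (pullback.snd G.hom (S.affineOpenCover.f i)))
  have i2 : Flat ((Over.pullback (S.affineOpenCover.f i)).obj G).hom :=
    inferInstanceAs (Flat (pullback.snd G.hom (S.affineOpenCover.f i)))
  have i3 : LocallyOfFinitePresentation ((Over.pullback (S.affineOpenCover.f i)).obj G).hom :=
    inferInstanceAs (LocallyOfFinitePresentation (pullback.snd G.hom (S.affineOpenCover.f i)))
  exact affine_pow_eq_one (S.affineOpenCover.X i)
    ((Over.pullback (S.affineOpenCover.f i)).obj G) n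
    (fun y => by
      show Scheme.Hom.finrank (pullback.snd G.hom (S.affineOpenCover.f i)) y = n
      rw [Scheme.Hom.finrank_pullback_snd]
      exact hrank _)

end Groth.Agent.S4114
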