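import Groth.Statements.S4130
import Groth.Agent.Lib.Helper24.Unip.MTMain

set_option autoImplicit false
universe u
open TensorProduct
open SGA3

namespace Groth.Agent.S4130

/-- Let A be a finitely generated commutative and cocommutative Hopf algebra over a field k (a
commutative affine algebraic group G = Spec A). Then G has a largest subgroup M of multiplicative
type and G/M is unipotent: there is a Hopf ideal J of A (defining M) such that A/J is of
multiplicative type (diagonalizable after a faithfully flat extension of k), J is contained in every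
Hopf ideal I with A/I of multiplicative type, and J is the ideal generated by the augmentation ideal
of the image of an injective bialgebra map φ : B → A from a Hopf algebra B (so Spec B = G/M) which
is unipotent in the fixed-vector sense. -/
theorem result (k : Type u) [Field k]
    (A : Type u) [CommRing A] [HopfAlgebra k A] [Algebra.FiniteType k A] [Coalgebra.IsCocomm k A] :
    ∃ (J : Ideal A) (_ : J.IsHopfIdeal k), SGA3b.IsMultTypeConst k (A ⧸ J) ∧
      (∀ (I : Ideal A) [I.IsHopfIdeal k], SGA3b.IsMultTypeConst k (A ⧸ I) → J ≤ I) ∧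
      ∃ (B : Type u) (_ : CommRing B) (_ : HopfAlgebra k B) (φ : B →ₐc[k] A), Function.Injective φ ∧
        J = Ideal.map (φ : B →+* A) (RingHom.ker (Bialgebra.counitAlgHom k B)) ∧ HopfRep.IsUnipotent k B := by
  classical
  letI := Groth.Agent.Lib.Helper24.HopfFF.hopfB
    (Groth.Agent.Lib.Helper24.Unip.Soc.isSub_A1 (k := k) (A := A))
  have hg : ∀ r, Groth.Agent.Lib.Helper24.HopfFF.inclB
      (Groth.Agent.Lib.Helper24.Unip.Soc.isSub_A1 (k := k) (A := A)) r =
        algebraMap (Groth.Agent.Lib.Helper24.Unip.Soc.A1 k A) A r := fun _ => rfl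
  have hH := Groth.Agent.Lib.Helper24.HopfFF.isHopfIdeal_augExt
    (Groth.Agent.Lib.Helper24.HopfFF.inclB
      (Groth.Agent.Lib.Helper24.Unip.Soc.isSub_A1 (k := k) (A := A))) hg
  have hJeq : Groth.Agent.Lib.Helper24.HopfFF.augExt k (Groth.Agent.Lib.Helper24.Unip.Soc.A1 k A) A =
      Ideal.map ((Groth.Agent.Lib.Helper24.HopfFF.inclB
        (Groth.Agent.Lib.Helper24.Unip.Soc.isSub_A1 (k := k) (A := A)) :
          Groth.Agent.Lib.Helper24.Unip.Soc.A1 k A →ₐc[k] A) :
            Groth.Agent.Lib.Helper24.Unip.Soc.A1 k A →+* A)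
        (RingHom.ker (Bialgebra.counitAlgHom k (Groth.Agent.Lib.Helper24.Unip.Soc.A1 k A))) := rfl
  refine ⟨Groth.Agent.Lib.Helper24.HopfFF.augExt k (Groth.Agent.Lib.Helper24.Unip.Soc.A1 k A) A, hH,
    ?_, ?_, Groth.Agent.Lib.Helper24.Unip.Soc.A1 k A, inferInstance,
    Groth.Agent.Lib.Helper24.HopfFF.hopfB
      (Groth.Agent.Lib.Helper24.Unip.Soc.isSub_A1 (k := k) (A := A)),
    Groth.Agent.Lib.Helper24.HopfFF.inclB
      (Groth.Agent.Lib.Helper24.Unip.Soc.isSub_A1 (k := k) (A := A)),
    Subtype.val_injective, hJeq, Groth.Agent.Lib.Helper24.Unip.Soc.isUnipotent_A1⟩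
  · haveI := hH
    refine Groth.Agent.Lib.Helper24.Unip.MTMain.isMultTypeConst_of_kills_A1
      (Bialgebra.Quotient.mkBialgHom
        (Groth.Agent.Lib.Helper24.HopfFF.augExt k (Groth.Agent.Lib.Helper24.Unip.Soc.A1 k A) A))
      Ideal.Quotient.mk_surjective ?_
    intro b hb
    have h1 := Groth.Agent.Lib.Helper24.HopfFF.mk_algebraMap_eq (k := k)
      (R := Groth.Agent.Lib.Helper24.Unip.Soc.A1 k A) (B := A) ⟨b, hb⟩
    rw [← Algebra.algebraMap_eq_smul_one]
    exact h1
  · intro I _ hI
    unfold Groth.Agent.Lib.Helper24.HopfFF.augExt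
    rw [Ideal.map_le_iff_le_comap]
    intro r hr
    rw [Ideal.mem_comap]
    have h1 := Groth.Agent.Lib.Helper24.Unip.MTMin.map_A1_eq_zero
      (Bialgebra.Quotient.mkBialgHom I)
      (fun p hp =>
        Groth.Agent.Lib.Helper24.Unip.MTPrim.eq_zero_of_primitive_of_isMultTypeConst hI p hp)
      (r : A) r.2 hr
    exact Ideal.Quotient.eq_zero_iff_mem.mp h1


end Groth.Agent.S4130
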