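import Groth.Statements.S4137
import Mathlib
import Groth.Agent.Lib.Helper13.GenSpread
import Groth.Agent.Lib.Helper13.GenFreeChart
import Groth.Agent.Lib.Helper4.GrpFieldSep
import Groth.Agent.Lib.Helper4.CentralizerClosed
import Groth.Agent.Lib.Helper3.SubGrpMono
import Groth.Agent.Lib.Helper13.WeilTransporter
import Groth.Agent.S3036
import Groth.Prelude.Def_Red
import Groth.Prelude.Def_Red2

set_option autoImplicit false
universe u
open CategoryTheory MonoidalCategory CartesianMonoidalCategory MonObj GrpObj AlgebraicGeometry CategoryTheory.Limits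
open SGA3

namespace Groth.Agent.S4137

section helpers
set_option linter.style.haveILetI false
open CategoryTheory CategoryTheory.Limits MonoidalCategory CartesianMonoidalCategory MonObj GrpObj AlgebraicGeometry


open Groth.Agent.Lib.Helper13.GenSpread Groth.Agent.Lib.Helper13.GenFreeChart
open Groth.Agent.Lib.Helper13.GenChart Groth.Agent.Lib.Helper13.WeilOver
open Groth.Agent.Lib.Helper25.ConsPair

/-- generic separatedness of a finitely presented group scheme over an integral base -/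
theorem exists_open_isSeparated (S : Scheme.{u}) [IsIntegral S] (G : Over S) [GrpObj G]
    [LocallyOfFinitePresentation G.hom] [QuasiCompact G.hom] [QuasiSeparated G.hom] :
    ∃ V : S.Opens, (V : Set S).Nonempty ∧ IsSeparated (pullback.snd G.hom V.ι) := by
  apply spread_obj @IsSeparated descends_isSeparated G
  exact Groth.Agent.Lib.Helper4.GrpFieldSep.isSeparated_of_field (S.residueField (genericPoint S))
    (Red.bc (S.fromSpecResidueField (genericPoint S)) G)

theorem isPullback_map_left {S T : Scheme.{u}} {H G : Over S} (i : H ⟶ G) (b : T ⟶ S) :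
    IsPullback (pullback.fst H.hom b) ((Over.pullback b).map i).left i.left
      (pullback.fst G.hom b) := by
  refine IsPullback.of_bot ?_ (map_left_fst i b).symm (IsPullback.of_hasPullback G.hom b)
  rw [map_left_snd, Over.w i]
  exact IsPullback.of_hasPullback H.hom b

/-- generic closed immersion of a quasi-compact monomorphism of finitely presented groups -/
theorem exists_open_isClosedImmersion (S : Scheme.{u}) [IsIntegral S] (G H : Over S)
    [GrpObj G] [GrpObj H]
    [LocallyOfFinitePresentation G.hom] [QuasiCompact G.hom] [QuasiSeparated G.hom]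
    [LocallyOfFinitePresentation H.hom] [QuasiCompact H.hom] [QuasiSeparated H.hom]
    (i : H ⟶ G) [IsMonHom i] [Mono i] [QuasiCompact i.left] :
    ∃ V : S.Opens, (V : Set S).Nonempty ∧ IsClosedImmersion ((Over.pullback V.ι).map i).left := by
  apply spread_hom @IsClosedImmersion descends_isClosedImmersion i
  obtain ⟨b, hb⟩ : ∃ b : Spec (S.residueField (genericPoint S)) ⟶ S,
      b = S.fromSpecResidueField (genericPoint S) := ⟨_, rfl⟩
  rw [← hb]
  haveI : LocallyOfFiniteType ((Over.pullback b).obj G).hom :=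
    inferInstanceAs (LocallyOfFiniteType (pullback.snd G.hom b))
  haveI : LocallyOfFiniteType ((Over.pullback b).obj H).hom :=
    inferInstanceAs (LocallyOfFiniteType (pullback.snd H.hom b))
  haveI : QuasiCompact ((Over.pullback b).map i).left :=
    MorphismProperty.of_isPullback (P := @QuasiCompact) (isPullback_map_left i b) inferInstance
  have hA : IsArtinianRing (S.residueField (genericPoint S)) := inferInstance
  have hL : IsLocalRing (S.residueField (genericPoint S)) := inferInstance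
  exact @Groth.Agent.S3036.result (S.residueField (genericPoint S)) _ hA hL
    ((Over.pullback b).obj H) ((Over.pullback b).obj G) _ _ _ _ ((Over.pullback b).map i) _ _ _

open Groth.Agent.Lib.Helper13.WeilTransporter

/-- transporter of two morphisms, given `WeilGood` and separatedness -/
theorem transporter {S : Scheme.{u}} (G Y : Over S) [GrpObj G] (hgood : WeilGood G Y)
    [IsSeparated G.hom] (u v : Y ⟶ G) :
    ∃ (T : Over S) (t : T ⟶ G), IsClosedImmersion t.left ∧
      (LocallyOfFiniteType G.hom → LocallyOfFinitePresentation t.left) ∧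
      ∀ (S' : Over S) (g : S' ⟶ G), (∃ z : S' ⟶ T, z ≫ t = g) ↔
        ∀ (S'' : Over S) (s : S'' ⟶ S') (y : S'' ⟶ Y),
          (s ≫ g) * (y ≫ u) * (s ≫ g)⁻¹ = y ≫ v := by
  obtain ⟨Z, j, hj, hfp, hZ⟩ := closed_eq G Y G hgood
    (fst G Y * (snd G Y ≫ u) * (fst G Y)⁻¹) (snd G Y ≫ v)
  refine ⟨Z, j, hj, hfp, ?_⟩
  intro S' g
  rw [hZ]
  have h1 : (g ▷ Y) ≫ (fst G Y * (snd G Y ≫ u) * (fst G Y)⁻¹) =
      (fst S' Y ≫ g) * (snd S' Y ≫ u) * (fst S' Y ≫ g)⁻¹ := by
    rw [MonObj.comp_mul, MonObj.comp_mul, GrpObj.comp_inv, whiskerRight_fst, whiskerRight_snd_assoc]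
  have h2 : (g ▷ Y) ≫ (snd G Y ≫ v) = snd S' Y ≫ v := by
    rw [whiskerRight_snd_assoc]
  rw [h1, h2]
  constructor
  · intro h S'' s y
    have := congrArg (fun φ => lift s y ≫ φ) h
    simp only [MonObj.comp_mul, GrpObj.comp_inv, lift_fst_assoc, lift_snd_assoc] at this
    exact this
  · intro h
    exact h (S' ⊗ Y) (fst S' Y) (snd S' Y)

/-- intersection of two closed subschemes, with finite presentation -/
theorem exists_closed_inter' {S : Scheme.{u}} {A T₁ T₂ : Over S} (t₁ : T₁ ⟶ A) (t₂ : T₂ ⟶ A)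
    [IsClosedImmersion t₁.left] [IsClosedImmersion t₂.left] :
    ∃ (T : Over S) (t : T ⟶ A), IsClosedImmersion t.left ∧
      (LocallyOfFinitePresentation t₁.left → LocallyOfFinitePresentation t₂.left →
        LocallyOfFinitePresentation t.left) ∧
      ∀ (S' : Over S) (g : S' ⟶ A),
        (∃ z : S' ⟶ T, z ≫ t = g) ↔ (∃ z : S' ⟶ T₁, z ≫ t₁ = g) ∧ (∃ z : S' ⟶ T₂, z ≫ t₂ = g) := by
  obtain ⟨t', ht'⟩ : ∃ t' : pullback t₁.left t₂.left ⟶ A.left,
      t' = pullback.fst t₁.left t₂.left ≫ t₁.left := ⟨_, rfl⟩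
  haveI : IsClosedImmersion t' := by rw [ht']; infer_instance
  refine ⟨Over.mk (t' ≫ A.hom), Over.homMk t' rfl, ‹_›, ?_, ?_⟩
  · intro h1 h2
    change LocallyOfFinitePresentation t'
    rw [ht']
    infer_instance
  intro S' g
  rw [over_factor_iff, over_factor_iff t₁, over_factor_iff t₂]
  constructor
  · rintro ⟨z, hz⟩
    change z ≫ t' = g.left at hz
    rw [ht'] at hz
    refine ⟨⟨z ≫ pullback.fst _ _, ?_⟩, ⟨z ≫ pullback.snd _ _, ?_⟩⟩
    · rw [Category.assoc]; exact hz
    · rw [Category.assoc, ← pullback.condition]; exact hz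
  · rintro ⟨⟨z₁, hz₁⟩, ⟨z₂, hz₂⟩⟩
    refine ⟨pullback.lift z₁ z₂ (by rw [hz₁, hz₂]), ?_⟩
    change pullback.lift z₁ z₂ _ ≫ t' = g.left
    rw [ht', pullback.lift_fst_assoc, hz₁]

section sub

variable {S : Scheme.{u}} {G : Over S} [GrpObj G]

/-- a closed subfunctor stable under the group operations carries a group structure -/
theorem exists_grp_of_rep (P : ∀ X : Over S, (X ⟶ G) → Prop)
    (hcomp : ∀ (X X₁ : Over S) (u : X₁ ⟶ X) (g : X ⟶ G), P X g → P X₁ (u ≫ g))
    (hone : ∀ X : Over S, P X 1)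
    (hmul : ∀ (X : Over S) (g₁ g₂ : X ⟶ G), P X g₁ → P X g₂ → P X (g₁ * g₂))
    (hinv : ∀ (X : Over S) (g : X ⟶ G), P X g → P X g⁻¹)
    {N : Over S} (n : N ⟶ G) [Mono n]
    (hN : ∀ (X : Over S) (g : X ⟶ G), (∃ z : X ⟶ N, z ≫ n = g) ↔ P X g) :
    ∃ _ : GrpObj N, IsMonHom n := by
  have hnn : P N n := (hN N n).mp ⟨𝟙 _, Category.id_comp _⟩
  obtain ⟨e, he⟩ := (hN _ η[G]).mpr (by
    have := hone (𝟙_ (Over S))
    rwa [Hom.one_def, toUnit_unique (toUnit _) (𝟙 _), Category.id_comp] at this)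
  obtain ⟨m, hm⟩ := (hN _ ((n ⊗ₘ n) ≫ μ[G])).mpr (by
    have := hmul _ _ _ (hcomp _ _ (fst N N) n hnn) (hcomp _ _ (snd N N) n hnn)
    rwa [Hom.mul_def, lift_fst_comp_snd_comp] at this)
  obtain ⟨v, hv⟩ := (hN _ (n ≫ ι[G])).mpr (hinv _ n hnn)
  exact Groth.Agent.Lib.Helper3.SubGrp.exists_grpObj_of_mono n e he m hm v hv

variable {H : Over S} (i : H ⟶ G)

/-- the centralizing condition on a point -/
def Cent (X : Over S) (g : X ⟶ G) : Prop :=
  ∀ (X' : Over S) (x : X' ⟶ X) (h : X' ⟶ H), (x ≫ g) * (h ≫ i) = (h ≫ i) * (x ≫ g)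

lemma cent_comp (X X₁ : Over S) (u : X₁ ⟶ X) (g : X ⟶ G) (hg : Cent i X g) :
    Cent i X₁ (u ≫ g) := by
  intro X' x h
  have := hg X' (x ≫ u) h
  simpa only [Category.assoc] using this

lemma cent_one (X : Over S) : Cent i X (1 : X ⟶ G) := by
  intro X' x h
  rw [MonObj.comp_one, _root_.one_mul, _root_.mul_one]

lemma cent_mul (X : Over S) (g₁ g₂ : X ⟶ G) (h1 : Cent i X g₁) (h2 : Cent i X g₂) :
    Cent i X (g₁ * g₂) := by
  intro X' x h
  rw [MonObj.comp_mul]
  have a : Commute (x ≫ g₁) (h ≫ i) := h1 X' x h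
  have b : Commute (x ≫ g₂) (h ≫ i) := h2 X' x h
  exact (a.mul_left b).eq

lemma cent_inv (X : Over S) (g : X ⟶ G) (h1 : Cent i X g) : Cent i X g⁻¹ := by
  intro X' x h
  rw [GrpObj.comp_inv]
  have a : Commute (x ≫ g) (h ≫ i) := h1 X' x h
  exact a.inv_left.eq

/-- the normalizing condition on a point -/
def Norm (X : Over S) (g : X ⟶ G) : Prop :=
  ∀ (X' : Over S) (x : X' ⟶ X) (h₀ : X' ⟶ H),
      (∃ h' : X' ⟶ H, (x ≫ g) * (h₀ ≫ i) * (x ≫ g)⁻¹ = h' ≫ i) ∧
      (∃ h' : X' ⟶ H, (x ≫ g)⁻¹ * (h₀ ≫ i) * (x ≫ g) = h' ≫ i)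

lemma norm_comp (X X₁ : Over S) (u : X₁ ⟶ X) (g : X ⟶ G) (hg : Norm i X g) :
    Norm i X₁ (u ≫ g) := by
  intro X' x h₀
  have := hg X' (x ≫ u) h₀
  simpa only [Category.assoc] using this

lemma norm_one (X : Over S) : Norm i X (1 : X ⟶ G) := by
  intro X' x h₀
  rw [MonObj.comp_one]
  refine ⟨⟨h₀, by group⟩, ⟨h₀, by group⟩⟩

lemma norm_mul (X : Over S) (g₁ g₂ : X ⟶ G) (h1 : Norm i X g₁) (h2 : Norm i X g₂) :
    Norm i X (g₁ * g₂) := by
  intro X' x h₀
  rw [MonObj.comp_mul]
  constructor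
  · obtain ⟨h', e'⟩ := (h2 X' x h₀).1
    obtain ⟨h'', e''⟩ := (h1 X' x h').1
    refine ⟨h'', ?_⟩
    rw [← e'', ← e']; group
  · obtain ⟨h', e'⟩ := (h1 X' x h₀).2
    obtain ⟨h'', e''⟩ := (h2 X' x h').2
    refine ⟨h'', ?_⟩
    rw [← e'', ← e']; group

lemma norm_inv (X : Over S) (g : X ⟶ G) (h1 : Norm i X g) : Norm i X g⁻¹ := by
  intro X' x h₀
  rw [GrpObj.comp_inv]
  refine ⟨?_, ?_⟩
  · obtain ⟨h', e'⟩ := (h1 X' x h₀).2
    exact ⟨h', by rw [← e']; group⟩
  · obtain ⟨h', e'⟩ := (h1 X' x h₀).1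
    exact ⟨h', by rw [← e']; group⟩

end sub

/-- the centralizer as a closed subgroup scheme -/
theorem centralizer {S : Scheme.{u}} (G H : Over S) [GrpObj G] [GrpObj H] (hgood : WeilGood G H)
    [IsSeparated G.hom] (i : H ⟶ G) :
    ∃ (C : Over S) (_ : GrpObj C) (c : C ⟶ G), IsClosedImmersion c.left ∧
      (LocallyOfFiniteType G.hom → LocallyOfFinitePresentation c.left) ∧
      Red.IsCentralizerOf i c := by
  obtain ⟨C, c, hc, hfp, hC⟩ := transporter G H hgood i i
  have hC' : ∀ (X : Over S) (g : X ⟶ G), (∃ z : X ⟶ C, z ≫ c = g) ↔ Cent i X g := by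
    intro X g
    rw [hC]
    constructor
    · intro h X' x h₀
      exact mul_inv_eq_iff_eq_mul.mp (h X' x h₀)
    · intro h X' x h₀
      exact mul_inv_eq_iff_eq_mul.mpr (h X' x h₀)
  haveI := hc
  haveI : Mono c.left := inferInstance
  haveI : Mono c := Over.mono_of_mono_left c
  obtain ⟨inst, hmon⟩ := exists_grp_of_rep (Cent i) (cent_comp i) (cent_one i) (cent_mul i)
    (cent_inv i) c hC'
  exact ⟨C, inst, c, hc, hfp, hmon, ‹Mono c›, hC'⟩

/-- the normalizer as a closed subgroup scheme -/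
theorem normalizer {S : Scheme.{u}} (G H : Over S) [GrpObj G] [GrpObj H] (hgood : WeilGood G H)
    (i : H ⟶ G) [IsClosedImmersion i.left] :
    ∃ (N : Over S) (_ : GrpObj N) (n : N ⟶ G), IsClosedImmersion n.left ∧
      (LocallyOfFinitePresentation i.left → LocallyOfFinitePresentation n.left) ∧
      Red.IsNormalizerOf i n := by
  obtain ⟨N₁, n₁, hn₁, hfp₁, hN₁⟩ := closed_preimage G H G hgood
    (fst G H * (snd G H ≫ i) * (fst G H)⁻¹) i
  obtain ⟨N₂, n₂, hn₂, hfp₂, hN₂⟩ := closed_preimage G H G hgood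
    ((fst G H)⁻¹ * (snd G H ≫ i) * (fst G H)) i
  haveI := hn₁
  haveI := hn₂
  obtain ⟨N, n, hn, hfp, hN⟩ := exists_closed_inter' n₁ n₂
  have hN' : ∀ (X : Over S) (g : X ⟶ G), (∃ z : X ⟶ N, z ≫ n = g) ↔ Norm i X g := by
    intro X g
    rw [hN, hN₁, hN₂]
    have h1 : (g ▷ H) ≫ (fst G H * (snd G H ≫ i) * (fst G H)⁻¹) =
        (fst X H ≫ g) * (snd X H ≫ i) * (fst X H ≫ g)⁻¹ := by
      rw [MonObj.comp_mul, MonObj.comp_mul, GrpObj.comp_inv, whiskerRight_fst,
        whiskerRight_snd_assoc]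
    have h2 : (g ▷ H) ≫ ((fst G H)⁻¹ * (snd G H ≫ i) * (fst G H)) =
        (fst X H ≫ g)⁻¹ * (snd X H ≫ i) * (fst X H ≫ g) := by
      rw [MonObj.comp_mul, MonObj.comp_mul, GrpObj.comp_inv, whiskerRight_fst,
        whiskerRight_snd_assoc]
    rw [h1, h2]
    constructor
    · rintro ⟨⟨w₁, hw₁⟩, ⟨w₂, hw₂⟩⟩ X' x h₀
      refine ⟨⟨lift x h₀ ≫ w₁, ?_⟩, ⟨lift x h₀ ≫ w₂, ?_⟩⟩
      · rw [Category.assoc, hw₁, MonObj.comp_mul, MonObj.comp_mul, GrpObj.comp_inv,
          lift_fst_assoc, lift_snd_assoc]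
      · rw [Category.assoc, hw₂, MonObj.comp_mul, MonObj.comp_mul, GrpObj.comp_inv,
          lift_fst_assoc, lift_snd_assoc]
    · intro hg
      obtain ⟨h', e'⟩ := (hg (X ⊗ H) (fst X H) (snd X H)).1
      obtain ⟨h'', e''⟩ := (hg (X ⊗ H) (fst X H) (snd X H)).2
      exact ⟨⟨h', e'.symm⟩, ⟨h'', e''.symm⟩⟩
  haveI := hn
  haveI : Mono n.left := inferInstance
  haveI : Mono n := Over.mono_of_mono_left n
  obtain ⟨inst, hmon⟩ := exists_grp_of_rep (Norm i) (norm_comp i) (norm_one i) (norm_mul i)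
    (norm_inv i) n hN'
  refine ⟨N, inst, n, hn, ?_, hmon, ‹Mono n›, hN'⟩
  intro hi
  exact hfp (hfp₁ hi) (hfp₂ hi)

theorem main (S : Scheme.{u}) [IsIntegral S] (G H : Over S)
    [GrpObj G] [GrpObj H] [LocallyOfFinitePresentation G.hom] [QuasiCompact G.hom] [QuasiSeparated G.hom]
    [LocallyOfFinitePresentation H.hom] [QuasiCompact H.hom] [QuasiSeparated H.hom]
    (i : H ⟶ G) [IsMonHom i] [Mono i] [QuasiCompact i.left] :
    ∃ U : S.Opens, (U : Set S).Nonempty ∧ IsClosedImmersion ((Over.pullback U.ι).map i).left ∧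
      ∃ (C N : Over (U : Scheme.{u})) (_ : GrpObj C) (_ : GrpObj N) (c : C ⟶ Red.bc U.ι G) (n : N ⟶ Red.bc U.ι G),
        Red.IsCentralizerOf ((Over.pullback U.ι).map i) c ∧ IsClosedImmersion c.left ∧
          LocallyOfFinitePresentation C.hom ∧ QuasiCompact C.hom ∧
        Red.IsNormalizerOf ((Over.pullback U.ι).map i) n ∧ IsClosedImmersion n.left ∧
          LocallyOfFinitePresentation N.hom ∧ QuasiCompact N.hom := by
  obtain ⟨U₁, hU₁ne, hU₁ci⟩ := exists_open_isClosedImmersion S G H i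
  obtain ⟨U₂, hU₂ne, hU₂sep⟩ := exists_open_isSeparated S G
  have h12 : ((U₁ ⊓ U₂ : S.Opens) : Set S).Nonempty :=
    nonempty_preirreducible_inter U₁.isOpen U₂.isOpen hU₁ne hU₂ne
  obtain ⟨U, hUne, hUle, hU, J, _, V, hV, hcov, hproj⟩ := exists_free_charts H (U₁ ⊓ U₂) h12
  haveI : IsAffine (U : Scheme.{u}) := hU
  haveI : IsSeparated (Red.bc U.ι G).hom :=
    snd_of_le @IsSeparated G.hom (hUle.trans inf_le_right) hU₂sep
  haveI hci : IsClosedImmersion ((Over.pullback U.ι).map i).left :=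
    map_of_le @IsClosedImmersion i (hUle.trans inf_le_left) hU₁ci
  have hgood : WeilGood (Red.bc U.ι G) (Red.bc U.ι H) :=
    weilGood_of_affineCharts (Red.bc U.ι G) (Red.bc U.ι H) V hV hcov hproj
  haveI : LocallyOfFinitePresentation (Red.bc U.ι G).hom :=
    inferInstanceAs (LocallyOfFinitePresentation (pullback.snd G.hom U.ι))
  haveI : QuasiCompact (Red.bc U.ι G).hom :=
    inferInstanceAs (QuasiCompact (pullback.snd G.hom U.ι))
  haveI : LocallyOfFinitePresentation (Red.bc U.ι H).hom :=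
    inferInstanceAs (LocallyOfFinitePresentation (pullback.snd H.hom U.ι))
  have hilfp : LocallyOfFinitePresentation ((Over.pullback U.ι).map i).left := by
    apply Groth.Agent.Lib.Helper4.CentralizerClosed.lfp_of_comp _ (Red.bc U.ι G).hom
    · rw [Over.w]; infer_instance
    · infer_instance
  obtain ⟨C, instC, c, hc, hcfp, hC⟩ := centralizer (Red.bc U.ι G) (Red.bc U.ι H) hgood
    ((Over.pullback U.ι).map i)
  obtain ⟨N, instN, n, hn, hnfp, hN⟩ := normalizer (Red.bc U.ι G) (Red.bc U.ι H) hgood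
    ((Over.pullback U.ι).map i)
  haveI := hc
  haveI := hn
  haveI : LocallyOfFinitePresentation c.left := hcfp inferInstance
  haveI : LocallyOfFinitePresentation n.left := hnfp hilfp
  refine ⟨U, hUne, hci, C, N, instC, instN, c, n, hC, hc, ?_, ?_, hN, hn, ?_, ?_⟩
  · rw [← Over.w c]; infer_instance
  · rw [← Over.w c]; infer_instance
  · rw [← Over.w n]; infer_instance
  · rw [← Over.w n]; infer_instance


end helpers

/-- Let S be an integral scheme, G and H S-group schemes of finite presentation over S and i : H → G a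
homomorphism which is a quasi-compact monomorphism. Then there is a non-empty open U of S over which
i becomes a closed immersion and the centralizer and the normalizer of H_U in G_U are representable
by closed subgroup schemes of G_U of finite presentation over U. -/
theorem result (S : Scheme.{u}) [IsIntegral S] (G H : Over S)
    [GrpObj G] [GrpObj H] [LocallyOfFinitePresentation G.hom] [QuasiCompact G.hom] [QuasiSeparated G.hom]
    [LocallyOfFinitePresentation H.hom] [QuasiCompact H.hom] [QuasiSeparated H.hom]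
    (i : H ⟶ G) [IsMonHom i] [Mono i] [QuasiCompact i.left] :
    ∃ U : S.Opens, (U : Set S).Nonempty ∧ IsClosedImmersion ((Over.pullback U.ι).map i).left ∧
      ∃ (C N : Over (U : Scheme.{u})) (_ : GrpObj C) (_ : GrpObj N) (c : C ⟶ Red.bc U.ι G) (n : N ⟶ Red.bc U.ι G),
        Red.IsCentralizerOf ((Over.pullback U.ι).map i) c ∧ IsClosedImmersion c.left ∧
          LocallyOfFinitePresentation C.hom ∧ QuasiCompact C.hom ∧
        Red.IsNormalizerOf ((Over.pullback U.ι).map i) n ∧ IsClosedImmersion n.left ∧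
          LocallyOfFinitePresentation N.hom ∧ QuasiCompact N.hom := by
  exact main S G H i

end Groth.Agent.S4137
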