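import Groth.Statements.S6626
-- import your own Groth.Agent.* helpers here
import Groth.Agent.Lib.Helper23.EtGlue

set_option autoImplicit false
open CategoryTheory CategoryTheory.Limits AlgebraicGeometry Opposite
universe u
open EtCore

namespace Groth.Agent.S6626

open CategoryTheory AlgebraicGeometry Opposite Limits GrothendieckTopology
open Groth.Agent.Lib.Helper23.EtSite Groth.Agent.Lib.Helper23.EtGlue

set_option backward.isDefEq.respectTransparency.types false in
/-- A sieve which, around every point, contains an arrow hitting that point, is covering. -/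
lemma sieve_mem_of_forall_point {X : Scheme.{u}} {U : X.Etale} (R : Sieve U)
    (h : ∀ u : U.left, ∃ (T : X.Etale) (g : T ⟶ U), R g ∧ u ∈ Set.range g.left) :
    R ∈ X.smallEtaleTopology U := by
  choose T g hg hu using h
  have hcov : Sieve.ofArrows T g ∈ X.smallEtaleTopology U := by
    rw [Scheme.ofArrows_mem_smallEtaleTopology_iff]
    ext t
    simp only [Set.mem_iUnion, Set.mem_univ, iff_true]
    exact ⟨t, hu t⟩
  refine X.smallEtaleTopology.superset_covering ?_ hcov
  rintro Z k ⟨_, a, _, ⟨t⟩, rfl⟩
  exact R.downward_closed (hg t) a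


set_option backward.isDefEq.respectTransparency.types false in
set_option backward.isDefEq.respectTransparency false in
lemma exists_chartA {X S : Scheme.{u}} (f : X ⟶ S) (hA : BigSite.PropA f) (U : X.Etale)
    (u : U.left) :
    ∃ (V : S.Etale) (W : ((EtCoh.bc f).obj V).left.Opens) (_ : IsClosed (W : Set ((EtCoh.bc f).obj V).left))
      (k : opn ((EtCoh.bc f).obj V) W ⟶ U), u ∈ Set.range k.left := by
  obtain ⟨V, v, hv, W, hW, h, hh, hu⟩ := hA U.left U.hom u
  let V' : S.Etale := Scheme.Etale.mk v
  let σ : pullback v f ≅ pullback f v := pullbackSymmetry v f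
  have hσ : σ.hom ≫ pullback.fst f v = pullback.snd v f := pullbackSymmetry_hom_comp_fst v f
  let W' : ((EtCoh.bc f).obj V').left.Opens := σ.hom ⁻¹ᵁ W
  have hW' : IsClosed (W' : Set ((EtCoh.bc f).obj V').left) := hW.preimage σ.hom.continuous
  let h' : W'.toScheme ⟶ U.left := (σ.hom ∣_ W) ≫ h
  have hh' : h' ≫ U.hom = W'.ι ≫ ((EtCoh.bc f).obj V').hom := by
    change ((σ.hom ∣_ W) ≫ h) ≫ U.hom = W'.ι ≫ pullback.snd v f
    rw [Category.assoc, hh, ← Category.assoc, morphismRestrict_ι, Category.assoc, hσ]
  let k : opn ((EtCoh.bc f).obj V') W' ⟶ U := MorphismProperty.Over.homMk h' hh' trivial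
  refine ⟨V', W', hW', k, ?_⟩
  obtain ⟨w, hw⟩ := hu
  have hsurj : Function.Surjective (σ.hom ∣_ W) :=
    (inferInstance : Surjective (σ.hom ∣_ W)).surj
  obtain ⟨w', hw'⟩ := hsurj w
  refine ⟨w', ?_⟩
  change h ((σ.hom ∣_ W) w') = u
  rw [hw', hw]

set_option backward.isDefEq.respectTransparency.types false in
set_option backward.isDefEq.respectTransparency false in
lemma counit_epi {X S : Scheme.{u}} (f : X ⟶ S) (hA : BigSite.PropA f) (F : EtCoh.Ab X) :
    Epi ((EtCoh.pullPushAdj f).counit.app F) := by
  suffices h : Sheaf.IsLocallySurjective ((EtCoh.pullPushAdj f).counit.app F) from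
    Sheaf.epi_of_isLocallySurjective _
  refine ⟨fun {U} s => ?_⟩
  apply sieve_mem_of_forall_point
  intro u
  obtain ⟨V, W, hW, k, hu⟩ := exists_chartA f hA U u
  let P : EtDesc.Sh X := (sheafCompose X.smallEtaleTopology (forget AddCommGrpCat.{u+1})).obj F
  obtain ⟨s', hs'⟩ : ∃ s' : F.obj.obj (op ((EtCoh.bc f).obj V)),
      F.obj.map (opnι ((EtCoh.bc f).obj V) W).op s' = F.obj.map k.op s :=
    exists_glue P ((EtCoh.bc f).obj V) W hW (F.obj.map k.op s) (0 : F.obj.obj (op _))
  have htri : ((EtCoh.pullPushAdj f).counit.app F).hom.app (op ((EtCoh.bc f).obj V))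
      (((EtCoh.pullPushAdj f).unit.app ((EtCoh.push f).obj F)).hom.app (op V) s') = s' := by
    have h1 := (EtCoh.pullPushAdj f).right_triangle_components F
    have h2 := congrArg (fun φ => φ.hom.app (op V)) h1
    exact ConcreteCategory.congr_hom h2 s'
  refine ⟨opn ((EtCoh.bc f).obj V) W, k,
    ⟨((EtCoh.pull f).obj ((EtCoh.push f).obj F)).obj.map (opnι ((EtCoh.bc f).obj V) W).op
      (((EtCoh.pullPushAdj f).unit.app ((EtCoh.push f).obj F)).hom.app (op V) s'), ?_⟩, hu⟩
  have hnat := NatTrans.naturality_apply ((EtCoh.pullPushAdj f).counit.app F).hom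
    (opnι ((EtCoh.bc f).obj V) W).op
    (((EtCoh.pullPushAdj f).unit.app ((EtCoh.push f).obj F)).hom.app (op V) s')
  exact hnat.trans ((congrArg _ htri).trans hs')

/-- Let f : X ⟶ Y be a morphism of schemes satisfying condition (A) (for every etale U ⟶ X and every
point u of U there are an etale V ⟶ Y, an open and closed subscheme W of X ×_Y V and an X-morphism W
⟶ U whose image contains u). Then, on abelian sheaves on the small etale sites, f_* reflects
monomorphisms and epimorphisms, the counit f⁻¹ f_* F ⟶ F is an epimorphism for every F, and f_* is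
faithful. -/
theorem result {X Y : Scheme.{u}} (f : X ⟶ Y) (hA : BigSite.PropA f) :
    (EtCoh.push f).ReflectsMonomorphisms ∧ (EtCoh.push f).ReflectsEpimorphisms ∧
      (∀ F : EtCoh.Ab X, Epi ((EtCoh.pullPushAdj f).counit.app F)) ∧ (EtCoh.push f).Faithful := by
  have hc : ∀ F : EtCoh.Ab X, Epi ((EtCoh.pullPushAdj f).counit.app F) := counit_epi f hA
  have hfaith : (EtCoh.push f).Faithful := (EtCoh.pullPushAdj f).faithful_R_of_epi_counit_app
  exact ⟨inferInstance, inferInstance, hc, hfaith⟩


end Groth.Agent.S6626
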