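import Groth.Statements.S6627
-- import your own Groth.Agent.* helpers here
import Groth.Agent.Lib.Helper23.PropAFin

set_option autoImplicit false
open CategoryTheory CategoryTheory.Limits AlgebraicGeometry Opposite
universe u
open EtCore

namespace Groth.Agent.S6627

/-- A separated morphism of schemes that is locally quasi-finite (locally of finite type with discrete
fibres) satisfies condition (A): for every etale U ⟶ X and every point u of U there are an etale V ⟶
Y, an open and closed subscheme W of X ×_Y V and an X-morphism W ⟶ U whose image contains u.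
(Locally of finite type is part of the meaning of locally quasi-finite here and is carried as a
separate hypothesis.) -/
theorem result {X Y : Scheme.{u}} (f : X ⟶ Y) [IsSeparated f]
    [LocallyQuasiFinite f] [LocallyOfFiniteType f] : BigSite.PropA f := by
  intro U g _ u
  obtain ⟨V₁, g₁, hg₁, -, A, B, a, hAB, hfin, ha⟩ :=
    exists_etale_isCompl_of_quasiFiniteAt f (x := g u) rfl (f.quasiFiniteAt (g u))
  let fA : (A : Scheme.{u}) ⟶ V₁ := A.ι ≫ pullback.snd f g₁
  let pA : (A : Scheme.{u}) ⟶ X := A.ι ≫ pullback.fst f g₁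
  haveI : IsFinite fA := hfin
  obtain ⟨uA, huA1, huA2⟩ := Scheme.Pullback.exists_preimage_pullback (f := g) (g := pA) u a
    (by rw [← ha]; rfl)
  obtain ⟨V₂, v₂, hv₂, W₂, hW₂, h₂, hh₂, hu₂⟩ :=
    Groth.Agent.Lib.Helper23.PropAFin.propA_of_finite fA (pullback g pA) (pullback.snd g pA) uA
  haveI := hv₂
  haveI := hg₁
  let v : V₂ ⟶ Y := v₂ ≫ g₁
  let π : pullback f v ⟶ pullback f g₁ :=
    pullback.lift (pullback.fst f v) (pullback.snd f v ≫ v₂)
      (by rw [pullback.condition, Category.assoc])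
  let A' : (pullback f v).Opens := π ⁻¹ᵁ A
  have hc : (π ∣_ A) ≫ fA = (A'.ι ≫ pullback.snd f v) ≫ v₂ := by
    change (π ∣_ A) ≫ A.ι ≫ pullback.snd f g₁ = _
    rw [morphismRestrict_ι_assoc, pullback.lift_snd, Category.assoc]
  let c : (A' : Scheme.{u}) ⟶ pullback fA v₂ :=
    pullback.lift (π ∣_ A) (A'.ι ≫ pullback.snd f v) hc
  -- the section `j'` of `c`
  have hj : (pullback.fst fA v₂ ≫ pA) ≫ f = pullback.snd fA v₂ ≫ v := by
    change (pullback.fst fA v₂ ≫ A.ι ≫ pullback.fst f g₁) ≫ f = pullback.snd fA v₂ ≫ v₂ ≫ g₁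
    rw [Category.assoc, Category.assoc, pullback.condition, ← pullback.condition_assoc]
    rfl
  let j : pullback fA v₂ ⟶ pullback f v :=
    pullback.lift (pullback.fst fA v₂ ≫ pA) (pullback.snd fA v₂) hj
  have hjπ : j ≫ π = pullback.fst fA v₂ ≫ A.ι := by
    apply pullback.hom_ext
    · rw [Category.assoc, pullback.lift_fst, pullback.lift_fst, Category.assoc]
    · rw [Category.assoc, pullback.lift_snd, pullback.lift_snd_assoc, Category.assoc,
        ← pullback.condition]
  have hrange : Set.range j ⊆ Set.range A'.ι := by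
    rintro _ ⟨t, rfl⟩
    rw [Scheme.Opens.range_ι]
    change π (j t) ∈ (A : Set ↥(pullback f g₁))
    rw [← Scheme.Hom.comp_apply, hjπ, Scheme.Hom.comp_apply, ← Scheme.Opens.range_ι]
    exact ⟨_, rfl⟩
  let j' : pullback fA v₂ ⟶ (A' : Scheme.{u}) := IsOpenImmersion.lift A'.ι j hrange
  have hj' : j' ≫ A'.ι = j := IsOpenImmersion.lift_fac _ _ _
  have hj'c : j' ≫ c = 𝟙 _ := by
    apply pullback.hom_ext
    · rw [Category.assoc, pullback.lift_fst, Category.id_comp, ← cancel_mono A.ι,
        Category.assoc, morphismRestrict_ι, reassoc_of% hj', hjπ]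
    · rw [Category.assoc, pullback.lift_snd, reassoc_of% hj', pullback.lift_snd, Category.id_comp]
  let Wc : (A' : Scheme.{u}).Opens := c ⁻¹ᵁ W₂
  let Wo : (pullback f v).Opens := A'.ι ''ᵁ Wc
  have hA : IsClosed (A : Set ↥(pullback f g₁)) := by
    have : (A : Set ↥(pullback f g₁)) = (B : Set ↥(pullback f g₁))ᶜ := by
      ext x
      simp only [Set.mem_compl_iff, SetLike.mem_coe]
      constructor
      · intro hxA hxB
        exact (hAB.disjoint.le_bot ⟨hxA, hxB⟩).elim
      · intro hxB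
        have : x ∈ A ⊔ B := hAB.codisjoint.top_le trivial
        rcases this with h | h
        · exact h
        · exact (hxB h).elim
    rw [this]
    exact B.2.isClosed_compl
  have hA'closed : IsClosed (A' : Set ↥(pullback f v)) := hA.preimage π.continuous
  have hWo : IsClosed (Wo : Set ↥(pullback f v)) := by
    have hemb : Topology.IsClosedEmbedding A'.ι :=
      ⟨A'.ι.isOpenEmbedding.isEmbedding, by rw [Scheme.Opens.range_ι]; exact hA'closed⟩
    exact hemb.isClosedMap _ (hW₂.preimage c.continuous)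
  refine ⟨V₂, v, inferInstance, Wo, hWo,
    (A'.ι.isoImage Wc).inv ≫ (c ∣_ W₂) ≫ h₂ ≫ pullback.fst g pA, ?_, ?_⟩
  · have e1 : pullback.fst g pA ≫ g = pullback.snd g pA ≫ pA := pullback.condition
    have e2 : c ≫ pullback.fst fA v₂ = π ∣_ A := pullback.lift_fst _ _ _
    have e3 : π ≫ pullback.fst f g₁ = pullback.fst f v := pullback.lift_fst _ _ _
    simp only [Category.assoc]
    rw [e1, reassoc_of% hh₂, morphismRestrict_ι_assoc, reassoc_of% e2]
    change _ ≫ _ ≫ (π ∣_ A) ≫ A.ι ≫ pullback.fst f g₁ = _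
    rw [morphismRestrict_ι_assoc, e3]
    exact Scheme.Hom.isoImage_inv_ι_assoc _ _ _
  · obtain ⟨w₂, hw₂⟩ := hu₂
    let t := W₂.ι w₂
    let s₀ := j' t
    have hcs₀ : c s₀ = t := by
      change c (j' t) = t
      rw [← Scheme.Hom.comp_apply, hj'c]
      rfl
    have hs₀ : s₀ ∈ Set.range Wc.ι := by
      rw [Scheme.Opens.range_ι]
      change c s₀ ∈ (W₂ : Set ↥(pullback fA v₂))
      rw [hcs₀, ← Scheme.Opens.range_ι]
      exact ⟨w₂, rfl⟩
    obtain ⟨s, hs⟩ := hs₀
    have hcs : (c ∣_ W₂) s = w₂ := by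
      apply W₂.ι.isOpenEmbedding.injective
      rw [← Scheme.Hom.comp_apply, morphismRestrict_ι, Scheme.Hom.comp_apply, hs, hcs₀]
    refine ⟨(A'.ι.isoImage Wc).hom s, ?_⟩
    change ((A'.ι.isoImage Wc).inv ≫ (c ∣_ W₂) ≫ h₂ ≫ pullback.fst g pA)
      ((A'.ι.isoImage Wc).hom s) = u
    rw [← Scheme.Hom.comp_apply, Iso.hom_inv_id_assoc, Scheme.Hom.comp_apply, hcs,
      Scheme.Hom.comp_apply, hw₂, huA1]

end Groth.Agent.S6627
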