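import Groth.Statements.S4211
-- import your own Groth.Agent.* helpers here
import Mathlib

set_option autoImplicit false
universe u
open An

namespace Groth.Agent.S4211

open CategoryTheory TopologicalSpace Topology Opposite

/-- The map from an object over `T` landing in two opens into their intersection. -/
noncomputable def toInf {T : Type u} [TopologicalSpace T] {X : An.Cl T} {Y₁ Y₂ : Opens T}
    (f₁ : X ⟶ (An.opensToCl T).obj Y₁) (f₂ : X ⟶ (An.opensToCl T).obj Y₂) :
    X ⟶ (An.opensToCl T).obj (Y₁ ⊓ Y₂) :=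
  ⟨fun a => ⟨X.p a, by
    have h1 : (f₁.toFun a).1 = X.p a := f₁.over a
    have h2 : (f₂.toFun a).1 = X.p a := f₂.over a
    exact ⟨h1 ▸ (f₁.toFun a).2, h2 ▸ (f₂.toFun a).2⟩⟩,
   Continuous.subtype_mk X.lh.continuous _, fun _ => rfl⟩

theorem toInf_left {T : Type u} [TopologicalSpace T] {X : An.Cl T} {Y₁ Y₂ : Opens T}
    (f₁ : X ⟶ (An.opensToCl T).obj Y₁) (f₂ : X ⟶ (An.opensToCl T).obj Y₂) :
    toInf f₁ f₂ ≫ (An.opensToCl T).map (homOfLE inf_le_left) = f₁ := by
  apply An.Cl.hom_ext
  funext a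
  apply Subtype.ext
  exact (f₁.over a).symm

theorem toInf_right {T : Type u} [TopologicalSpace T] {X : An.Cl T} {Y₁ Y₂ : Opens T}
    (f₁ : X ⟶ (An.opensToCl T).obj Y₁) (f₂ : X ⟶ (An.opensToCl T).obj Y₂) :
    toInf f₁ f₂ ≫ (An.opensToCl T).map (homOfLE inf_le_right) = f₂ := by
  apply An.Cl.hom_ext
  funext a
  apply Subtype.ext
  exact (f₂.over a).symm

theorem compat (T : Type u) [TopologicalSpace T] :
    CompatiblePreserving.{u + 1} (An.Cl.topology T) (An.opensToCl T) := by
  constructor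
  intro ℱ Z P x hx Y₁ Y₂ X f₁ f₂ g₁ g₂ hg₁ hg₂ _
  have key := hx (homOfLE inf_le_left : Y₁ ⊓ Y₂ ⟶ Y₁) (homOfLE inf_le_right : Y₁ ⊓ Y₂ ⟶ Y₂)
    hg₁ hg₂ (Subsingleton.elim _ _)
  have e1 : f₁ = toInf f₁ f₂ ≫ (An.opensToCl T).map (homOfLE inf_le_left) := (toInf_left f₁ f₂).symm
  have e2 : f₂ = toInf f₁ f₂ ≫ (An.opensToCl T).map (homOfLE inf_le_right) :=
    (toInf_right f₁ f₂).symm
  rw [e1, e2, op_comp, op_comp, Functor.map_comp, Functor.map_comp]
  simp only [types_comp_apply]
  exact congrArg _ key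

theorem cover (T : Type u) [TopologicalSpace T] :
    CoverPreserving (Opens.grothendieckTopology T) (An.Cl.topology T) (An.opensToCl T) := by
  constructor
  intro U S hS a
  obtain ⟨V, i, hi, haV⟩ := hS a.1 a.2
  refine ⟨(An.opensToCl T).obj V, (An.opensToCl T).map i, ?_, ?_, ?_⟩
  · exact ⟨V, i, 𝟙 _, hi, (Category.id_comp _).symm⟩
  · exact IsOpenEmbedding.inclusion i.le (V.2.preimage continuous_subtype_val)
  · exact ⟨⟨a.1, haV⟩, rfl⟩

/-- For a topological space T, the inclusion of the opens of T into the site of local homeomorphisms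
over T is continuous. This is the hypothesis An.OpCont carried by statements that restrict classical
sheaves to opens. -/
theorem result (T : Type u) [TopologicalSpace T] :
    An.OpCont T := by
  exact Functor.isContinuous_of_coverPreserving (compat T) (cover T)

end Groth.Agent.S4211
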