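import Groth.Statements.S4212
import Mathlib.CategoryTheory.Sites.DenseSubsite.SheafEquiv

set_option autoImplicit false
universe u
open An

namespace Groth.Agent.S4212

open CategoryTheory TopologicalSpace Topology Opposite

instance faithful_opensToCl (T : Type u) [TopologicalSpace T] : (An.opensToCl T).Faithful where
  map_injective := fun _ => Subsingleton.elim _ _

theorem val_toFun {T : Type u} [TopologicalSpace T] {U V : Opens T}
    (f : (An.opensToCl T).obj U ⟶ (An.opensToCl T).obj V) (a : U) :
    (show V from f.toFun a).1 = a.1 := f.over a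

instance full_opensToCl (T : Type u) [TopologicalSpace T] : (An.opensToCl T).Full where
  map_surjective := by
    intro U V f
    have hle : U ≤ V := by
      intro x hx
      have h := val_toFun f ⟨x, hx⟩
      have h2 : (show V from f.toFun ⟨x, hx⟩).1 ∈ V := (show V from f.toFun ⟨x, hx⟩).2
      rw [h] at h2
      exact h2
    refine ⟨homOfLE hle, ?_⟩
    apply An.Cl.hom_ext
    funext a
    apply Subtype.ext
    exact (val_toFun f a).symm

/-- local sections of a local homeomorphism as morphisms from opens -/
theorem exists_open_section {T : Type u} [TopologicalSpace T] (A : An.Cl T) (a : A.E) :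
    ∃ (U : Opens T) (g : (An.opensToCl T).obj U ⟶ A), IsOpenEmbedding g.toFun ∧
      a ∈ Set.range g.toFun := by
  obtain ⟨e, hae, hpe⟩ := A.lh a
  let U : Opens T := ⟨e.target, e.open_target⟩
  let h := e.toHomeomorphSourceTarget
  let g₀ : U → A.E := fun u => (h.symm u : A.E)
  have hg₀ : IsOpenEmbedding g₀ :=
    e.open_source.isOpenEmbedding_subtypeVal.comp h.symm.isOpenEmbedding
  have hover : ∀ u : U, A.p (g₀ u) = (u : T) := by
    intro u
    rw [hpe]
    exact e.right_inv u.2
  refine ⟨U, ⟨g₀, hg₀.continuous, hover⟩, hg₀, ⟨⟨e a, e.map_source hae⟩, ?_⟩⟩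
  exact e.left_inv hae

instance isCoverDense_opensToCl (T : Type u) [TopologicalSpace T] :
    (An.opensToCl T).IsCoverDense (An.Cl.topology T) where
  is_cover A := by
    intro a
    obtain ⟨U, g, hg, ha⟩ := exists_open_section A a
    exact ⟨_, g, Presieve.in_coverByImage _ g, hg, ha⟩

instance isDenseSubsite_opensToCl (T : Type u) [TopologicalSpace T] :
    (An.opensToCl T).IsDenseSubsite (Opens.grothendieckTopology T) (An.Cl.topology T) where
  functorPushforward_mem_iff := by
    intro U S
    constructor
    · intro hS x hx
      obtain ⟨B, g, hSg, -, b, hb⟩ := hS ⟨x, hx⟩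
      obtain ⟨V, k, l, hk, rfl⟩ := hSg
      refine ⟨V, k, hk, ?_⟩
      have h1 : (show U from ((An.opensToCl T).map k).toFun (l.toFun b)).1 = x :=
        congrArg Subtype.val hb
      have h2 := val_toFun ((An.opensToCl T).map k) (l.toFun b)
      rw [h1] at h2
      rw [h2]
      exact (show V from l.toFun b).2
    · intro hS a
      obtain ⟨V, k, hk, hV⟩ := hS a.1 a.2
      refine ⟨_, (An.opensToCl T).map k, ⟨V, k, 𝟙 _, hk, (Category.id_comp _).symm⟩, ?_,
        ⟨⟨a.1, hV⟩, rfl⟩⟩
      exact TopologicalSpace.Opens.isOpenEmbedding_of_le k.le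

/-- For a topological space T, the topos of the site of local homeomorphisms over T is equivalent to
that of T: restriction of abelian sheaves along the inclusion of the opens of T is an equivalence of
categories. -/
theorem result (T : Type u) [TopologicalSpace T] [An.OpCont T] :
    (An.resOpens T).IsEquivalence := by
  exact Functor.IsDenseSubsite.instIsEquivalenceSheafSheafPushforwardContinuous
    (An.opensToCl T) (Opens.grothendieckTopology T) (An.Cl.topology T)

end Groth.Agent.S4212
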