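import Groth.Statements.S4243
import Mathlib.FieldTheory.Finite.Polynomial

set_option autoImplicit false
open SGA4h

namespace Groth.Agent.S4243

/-- Let k be a finite field with q elements and P a nonzero homogeneous polynomial of degree d in r+1
variables over k. If P vanishes at every point of k^{r+1} (that is, the hypersurface P = 0 in
projective r-space passes through every rational point), then d ≥ q + 1. -/
theorem result (k : Type) [Field k] [Fintype k] (r d : ℕ)
    (P : MvPolynomial (Fin (r + 1)) k) (hP : P.IsHomogeneous d) (hP0 : P ≠ 0)
    (hvan : ∀ x : Fin (r + 1) → k, MvPolynomial.eval x P = 0) :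
    Fintype.card k + 1 ≤ d := by
  classical
  by_contra hd
  push Not at hd
  have hq : 2 ≤ Fintype.card k := Fintype.one_lt_card
  -- degree of monomials in the support
  have hdeg : ∀ m ∈ P.support, ∑ j, m j = d := by
    intro m hm
    have := hP (MvPolynomial.mem_support_iff.mp hm)
    rw [← this, Finsupp.weight_apply, Finsupp.sum_fintype _ _ (by simp)]
    simp
  -- the coefficient of X_i^d vanishes
  have hcoeff : ∀ i, MvPolynomial.coeff (Finsupp.single i d) P = 0 := by
    intro i
    have h := hvan (Pi.single i 1)
    rw [MvPolynomial.eval_eq'] at h
    rw [Finset.sum_eq_single (Finsupp.single i d)] at h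
    · have h2 : ∏ j, (Pi.single i (1 : k) : Fin (r + 1) → k) j ^ (Finsupp.single i d) j = 1 := by
        apply Finset.prod_eq_one
        intro j _
        by_cases hj : j = i
        · subst hj; simp
        · simp [Finsupp.single_apply, Ne.symm hj]
      rwa [h2, mul_one] at h
    · intro m hm hne
      have : ∃ j, j ≠ i ∧ m j ≠ 0 := by
        by_contra hcon
        push Not at hcon
        apply hne
        have hsum := hdeg m hm
        rw [Finset.sum_eq_single i (fun j _ hj => hcon j hj) (by simp)] at hsum
        ext j
        by_cases hj : j = i
        · subst hj; simp [hsum]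
        · simp [Finsupp.single_apply, Ne.symm hj, hcon j hj]
      obtain ⟨j, hji, hmj⟩ := this
      rw [Finset.prod_eq_zero (Finset.mem_univ j), mul_zero]
      simp [Pi.single_apply, hji, hmj]
    · intro hns
      simp [MvPolynomial.notMem_support_iff.mp hns]
  apply hP0
  apply MvPolynomial.eq_zero_of_eval_eq_zero _ _ P hvan
  rw [MvPolynomial.mem_restrictDegree]
  intro m hm i
  by_contra hlt
  push Not at hlt
  have hsum := hdeg m hm
  have hle : m i ≤ ∑ j, m j := Finset.single_le_sum (f := fun j => m j) (fun _ _ => Nat.zero_le _)
    (Finset.mem_univ i)
  have hmi : m i = d := by omega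
  have hm' : m = Finsupp.single i d := by
    ext j
    by_cases hj : j = i
    · subst hj; simp [hmi]
    · have : m j = 0 := by
        by_contra h0
        have h2 : m i + m j ≤ ∑ l, m l := by
          rw [← Finset.add_sum_erase _ _ (Finset.mem_univ i)]
          have : m j ≤ ∑ l ∈ Finset.univ.erase i, m l :=
            Finset.single_le_sum (f := fun l => m l) (fun _ _ => Nat.zero_le _)
              (Finset.mem_erase.mpr ⟨hj, Finset.mem_univ j⟩)
          omega
        omega
      simp [Finsupp.single_apply, Ne.symm hj, this]
  rw [hm'] at hm
  exact MvPolynomial.mem_support_iff.mp hm (hcoeff i)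

end Groth.Agent.S4243
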