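import Groth.Statements.S4275
import Groth.Agent.Lib.Helper16.PerfAmp1
import Groth.Agent.Lib.Helper16.PerfFib1
import Groth.Agent.Lib.Helper1.LocPerf4
import Groth.Agent.Lib.Helper1.LocPerf3
import Groth.Agent.S6200

set_option autoImplicit false
universe u
open CategoryTheory CategoryTheory.Limits AlgebraicGeometry
attribute [local instance] HasDerivedCategory.standard
open KSix

namespace Groth.Agent.S4275

open Groth.Agent.Lib.Helper16.RS Groth.Agent.Lib.Helper16.Stk Groth.Agent.Lib.Helper16.KD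
  Groth.Agent.Lib.Helper16.PC Groth.Agent.Lib.Helper1.LocPC Groth.Agent.Lib.Helper16.PerfFib
  Groth.Agent.Lib.Helper1.LocPerf Groth.Agent.Lib.Helper16

/-- For the ringed space underlying a scheme: let E ∈ D(O_X) and m ≤ n. Then E has perfect amplitude in
[m, n] (locally isomorphic to a complex of finite locally free modules placed in degrees [m, n]) if
and only if E is (m-1)-pseudo-coherent and has tor amplitude in [m, n] (is isomorphic to a complex
of flat modules placed in degrees [m, n]). (The source states this on an arbitrary ringed topos,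
with tor amplitude defined through Tor sheaves.) -/
theorem result (X : Scheme.{u}) (E : DCoh.D X) (m n : ℤ) (hmn : m ≤ n) :
    KSix.HasPerfectAmplitudeIn m n E ↔ DCoh.IsPseudoCoherentD (m - 1) E ∧ DCoh.HasFlatAmplitudeIn m n E := by
  constructor
  · intro h
    -- a representative
    let F₀ := DerivedCategory.Q.objPreimage E
    have e₀ : DerivedCategory.Q.obj F₀ ≅ E := DerivedCategory.Q.objObjPreimageIso E
    refine ⟨?_, ?_⟩
    · intro x
      obtain ⟨V, hx, hV⟩ := h x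
      refine ⟨V, hx, fun F hF => ?_⟩
      obtain ⟨E', hvan, hfree, ⟨e⟩⟩ := hV F hF
      exact ⟨E', e.inv, ⟨⟨m, n, hvan⟩, hfree⟩, fun i _ => inferInstance, inferInstance⟩
    · have hst : ∀ x : X, DRing.HasTorAmplitudeIn (X.presheaf.stalk x) m n
          (DRing.toD (stkCx x F₀)) := by
        intro x
        obtain ⟨V, hx, hV⟩ := h x
        obtain ⟨E', hvan, hfree, ⟨e⟩⟩ := hV F₀ ⟨e₀⟩
        obtain ⟨x₁, hx₁⟩ : ∃ x₁ : V, V.ι x₁ = x := ⟨⟨x, hx⟩, rfl⟩
        subst hx₁
        apply stalk_torAmp_of_RCx V.ι F₀ x₁ m n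
        have e' : DCoh.toD _ E' ≅ DCoh.toD _ ((RCx V.ι).obj F₀) := e.symm
        refine TorAmp.hasTorAmplitudeIn_of_iso (Groth.Agent.S6200.stkIsoOfIso x₁ e') m n ?_
        have hfl : DRing.TermwiseFlat (stkCx x₁ E') :=
          fun i => isFlat_of_isFinLocFree _ (hfree i) x₁
        exact ⟨stkCx x₁ E', fun i hi => (stk x₁).map_isZero (hvan i hi), hfl, ⟨Iso.refl _⟩⟩
      haveI : (DCoh.toD X F₀).IsLE n := by
        rw [DerivedCategory.isLE_Q_obj_iff, CochainComplex.isLE_iff]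
        intro i hi
        rw [exactAt_iff_forall_stalk]
        intro x
        exact TorAmp.exactAt_of_torAmp (stkCx x F₀) m n (hst x) i (Or.inr hi)
      obtain ⟨E', hE', hfl, ⟨e⟩⟩ := Groth.Agent.S6200.backward F₀ n m n hst
      exact ⟨E', hE', hfl, ⟨e ≪≫ e₀⟩⟩
  · rintro ⟨h1, G, hG, hGfl, ⟨eG⟩⟩ x
    obtain ⟨V, hx, hV⟩ := (isPseudoCoherentD_iff (m - 1) E).1 h1 x
    refine ⟨V, hx, ?_⟩
    rintro F ⟨eF⟩
    obtain ⟨E₁, ⟨⟨a₁, b₁, hab₁⟩, hfree⟩, hlow, ⟨e₁⟩⟩ :=
      exists_strictlyPerfect_of_pc_of_stalk_torAmp ((RD V.ι).obj E) m n hV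
        (fun y => stalk_torAmp_of_flat_rep_restrict E G eG m n hG hGfl V.ι y)
    -- `E₁` is exact above `n`
    have hE₁le : E₁.IsLE n := by
      rw [← DerivedCategory.isLE_Q_obj_iff]
      haveI : ((RCx V.ι).obj G).IsStrictlyLE n :=
        (CochainComplex.isStrictlyLE_iff _ _).2 (fun i hi =>
          (Scheme.Modules.restrictFunctor V.ι).map_isZero (hG i (Or.inr hi)))
      haveI : (DerivedCategory.Q.obj ((RCx V.ι).obj G)).IsLE n := by
        rw [DerivedCategory.isLE_Q_obj_iff]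
        infer_instance
      exact (DerivedCategory.TStructure.t).isLE_of_iso
        ((RDQIso V.ι G).symm ≪≫ (RD V.ι).mapIso eG ≪≫ e₁.symm) n
    obtain ⟨hvan, hfree', hqi⟩ := Groth.Agent.Lib.Helper16.PerfAmp.truncLE_strictlyPerfect E₁ hfree
      m b₁ n hmn hlow (fun i hi => hab₁ i (Or.inr hi)) ((CochainComplex.isLE_iff E₁ n).1 hE₁le)
    haveI := hqi
    refine ⟨E₁.truncLE n, hvan, hfree', ⟨?_⟩⟩
    exact (RDQIso V.ι F).symm ≪≫ (RD V.ι).mapIso eF ≪≫ e₁.symm ≪≫
      (asIso (DerivedCategory.Q.map (E₁.ιTruncLE n))).symm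

end Groth.Agent.S4275
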