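import Groth.Statements.S4330
-- import your own Groth.Agent.* helpers here
import Groth.Agent.Lib.Helper6.Leray
import Groth.Agent.Lib.Helper23.EtModStalk

set_option autoImplicit false
universe u
open CategoryTheory CategoryTheory.Limits AlgebraicGeometry Opposite
attribute [local instance] HasDerivedCategory.standard
open EtSix

namespace Groth.Agent.S4330

section Gen

universe w' v' u'

variable {A B C : Type u'} [Category.{v'} A] [Category.{v'} B] [Category.{v'} C]
  [Abelian A] [Abelian B] [Abelian C]

lemma isIso_mapHomotopyCategory {F G : A ⥤ B} [F.Additive] [G.Additive] (α : F ⟶ G) [IsIso α] :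
    IsIso (NatTrans.mapHomotopyCategory α (ComplexShape.up ℤ)) :=
  ⟨⟨NatTrans.mapHomotopyCategory (inv α) (ComplexShape.up ℤ), by
    rw [← NatTrans.mapHomotopyCategory_comp, IsIso.hom_inv_id, NatTrans.mapHomotopyCategory_id], by
    rw [← NatTrans.mapHomotopyCategory_comp, IsIso.inv_hom_id, NatTrans.mapHomotopyCategory_id]⟩⟩

lemma isIso_plusNatTrans {F G : A ⥤ B} [F.Additive] [G.Additive] (α : F ⟶ G) [IsIso α] :
    IsIso (plusNatTrans α) := by
  haveI := isIso_mapHomotopyCategory α
  let FF := (HomotopyCategory.plus B).fullyFaithfulι.whiskeringRight (HomotopyCategory.Plus A)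
  haveI : IsIso (((Functor.whiskeringRight (HomotopyCategory.Plus A) _ _).obj
      (HomotopyCategory.plus B).ι).map (plusNatTrans α)) := by
    dsimp only [plusNatTrans]
    rw [Functor.FullyFaithful.map_preimage]
    exact (inferInstance : IsIso (((Functor.whiskeringLeft _ _ _).obj (HomotopyCategory.Plus.ι A)).map
      (NatTrans.mapHomotopyCategory α (ComplexShape.up ℤ))))
  exact FF.isIso_of_isIso_map _

variable [HasDerivedCategory.{w'} A] [HasDerivedCategory.{w'} B] [HasDerivedCategory.{w'} C]
  [EnoughInjectives A] [EnoughInjectives B]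

open Groth.Agent.Lib.Helper6 in
theorem isIso_rPlusDesc₂ {F : A ⥤ B} {G : B ⥤ C} {H : A ⥤ C} [F.Additive] [G.Additive] [H.Additive]
    [PreservesFiniteLimits G] (θ : H ⟶ F ⋙ G) [IsIso θ]
    (hFG : ∀ I : A, Injective I → RDAcyc.Acyc G (F.obj I)) : IsIso (rPlusDesc₂ θ) := by
  dsimp only [rPlusDesc₂]
  rw [← Functor.isRightDerivedFunctor_iff_isIso_rightDerivedDesc]
  apply (HomotopyCategory.Plus.localizerMorphism_derives _).isRightDerivedFunctor_of_isIso
  intro I
  obtain ⟨L, rfl⟩ := HomotopyCategory.Plus.quotient_obj_surjective I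
  let Y : HomotopyCategory.Plus A := (HomotopyCategory.Plus.localizerMorphism A).functor.obj
    ((HomotopyCategory.Plus.quotient (InjectiveObject A)).obj L)
  let K : CochainComplex.Plus B :=
    F.mapCochainComplexPlus.obj ((InjectiveObject.ι A).mapCochainComplexPlus.obj L)
  have h3 : IsIso (G.rightDerivedFunctorPlusUnit.app (F.mapHomotopyCategoryPlus.obj Y)) := by
    change IsIso (G.rightDerivedFunctorPlusUnit.app ((HomotopyCategory.Plus.quotient B).obj K))
    apply Leray.leray G K
    intro m
    exact hFG ((L.obj.X m).obj) (L.obj.X m).property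
  have h5 : IsIso (F.rightDerivedFunctorPlusUnit.app Y) := by
    change IsIso (F.rightDerivedFunctorPlusUnit.app
      ((InjectiveObject.ι A).mapHomotopyCategoryPlus.obj
        ((HomotopyCategory.Plus.quotient (InjectiveObject A)).obj L)))
    infer_instance
  have h5' : IsIso (G.rightDerivedFunctorPlus.map (F.rightDerivedFunctorPlusUnit.app Y)) :=
    inferInstance
  haveI := isIso_plusNatTrans θ
  have h1 : IsIso (DerivedCategory.Plus.Qh.map
      ((plusNatTrans θ ≫ (Functor.mapHomotopyCategoryPlusCompIso (Iso.refl (F ⋙ G))).inv).app Y)) :=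
    inferInstance
  change IsIso (DerivedCategory.Plus.Qh.map
      ((plusNatTrans θ ≫ (Functor.mapHomotopyCategoryPlusCompIso (Iso.refl (F ⋙ G))).inv).app Y) ≫
    𝟙 _ ≫ G.rightDerivedFunctorPlusUnit.app (F.mapHomotopyCategoryPlus.obj Y) ≫ 𝟙 _ ≫
      G.rightDerivedFunctorPlus.map (F.rightDerivedFunctorPlusUnit.app Y) ≫ 𝟙 _)
  infer_instance

end Gen


/-- Composition of derived direct images: bounded-below version for sheaves of Λ-modules on small etale
sites: let f : X -> Y and g : Y -> Z be morphisms of schemes and Λ a commutative ring. Then the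
canonical morphism R⁺(g ∘ f)_* -> R⁺g_* ∘ R⁺f_* of functors D⁺(X_et, Λ) -> D⁺(Z_et, Λ)
(bounded-below derived functors computed with injective resolutions; the morphism is induced by (g ∘
f)_* ≅ g_* ∘ f_* through the universal property of R⁺(g ∘ f)_*) is an isomorphism. -/
theorem result (Λ : Type (u + 1)) [CommRing Λ] {X Y Z : Scheme.{u}} (f : X ⟶ Y) (g : Y ⟶ Z) :
    IsIso (EtSix.compMapMod Λ f g) := by
  haveI : PreservesFiniteLimits (EtModW.pull Λ f) :=
    Groth.Agent.Lib.Helper23.EtModStalk.pull_preservesFiniteLimits Λ f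
  haveI : (EtModW.push Λ g).IsRightAdjoint := (pullPushModAdj Λ g).isRightAdjoint
  haveI : PreservesFiniteLimits (EtModW.push Λ g) := inferInstance
  haveI : IsIso (pushModComp Λ g f).inv := inferInstance
  apply isIso_rPlusDesc₂
  intro I hI
  haveI : Injective ((EtModW.push Λ f).obj I) :=
    Injective.injective_of_adjoint (pullPushModAdj Λ f) I
  exact Groth.Agent.Lib.Helper6.Leray.acyc_of_injective _ _

end Groth.Agent.S4330
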