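import Groth.Statements.S4332
import Groth.Agent.Lib.Helper14.HModF

set_option autoImplicit false
universe u
open CategoryTheory CategoryTheory.Limits AlgebraicGeometry Opposite
attribute [local instance] HasDerivedCategory.standard
open EtSix

namespace Groth.Agent.S4332

open Abelian Groth.Agent.Lib.Helper2.ExtEdge Groth.Agent.Lib.Helper14.HModA
  Groth.Agent.Lib.Helper14.HModB

theorem edge_bijective (Λ : Type (u + 1)) [CommRing Λ] {X : Scheme.{u}}
    [PreservesFiniteLimits (EtModD.forgetToAb Λ X)] [PreservesFiniteColimits (EtModD.forgetToAb Λ X)]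
    [(EtModD.forgetToAb Λ X).Additive] :
    ∀ (n : ℕ) (F : EtModW.Mod Λ X),
      Function.Bijective (edge (EtModD.forgetToAb Λ X) (intToConstΛ Λ X)
        (𝟙 ((EtModD.forgetToAb Λ X).obj F)) n (ZA := constΛ Λ X))
  | 0, F => edge_zero_bijective F
  | n + 1, F => by
    let S : ShortComplex (EtModW.Mod Λ X) :=
      ShortComplex.mk (Injective.ι F) (cokernel.π (Injective.ι F)) (cokernel.condition _)
    have hS : S.ShortExact :=
      ShortComplex.ShortExact.mk (ShortComplex.exact_cokernel (Injective.ι F))
    have hT : (S.map (EtModD.forgetToAb Λ X)).ShortExact := hS.map_of_exact _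
    exact bijective_succ (EtModD.forgetToAb Λ X) (intToConstΛ Λ X) hS hT (𝟙 _) n
      (edge_bijective Λ n S.X₃) (edge_bijective Λ n S.X₂).2
      (fun x => Ext.eq_zero_of_injective x)
      (fun x => ext_forget_eq_zero Λ (Injective.under F) n x)


/-- Cohomology of a sheaf of modules agrees with that of its underlying abelian sheaf: for the constant
sheaf of rings Λ on the small etale site of a scheme X, through the canonical map: for every sheaf F
of Λ-modules and every n, the map Ext^n(Λ_X, F) -> Ext^n(Z_X, F_ab) = H^n(X, F_ab) obtained by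
applying the forgetful functor to an Ext class (computed in sheaves of Λ-modules) and precomposing
with Z_X -> Λ_X, 1 ↦ 1, is bijective. The exactness and additivity of the forgetful functor, which
hold, are recorded as instance hypotheses. -/
theorem result (Λ : Type (u + 1)) [CommRing Λ] {X : Scheme.{u}}
    [PreservesFiniteLimits (EtModD.forgetToAb Λ X)] [PreservesFiniteColimits (EtModD.forgetToAb Λ X)]
    [(EtModD.forgetToAb Λ X).Additive] (F : EtModW.Mod Λ X) (n : ℕ) :
    Function.Bijective (EtSix.HModToH Λ F n) := by
  have h := edge_bijective Λ n F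
  have e : (EtSix.HModToH Λ F n : _ → _) = edge (EtModD.forgetToAb Λ X) (intToConstΛ Λ X)
      (𝟙 ((EtModD.forgetToAb Λ X).obj F)) n (ZA := constΛ Λ X) := by
    funext x
    exact HModToH_eq_edge F n x
  rw [e]
  exact h

end Groth.Agent.S4332
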