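import Groth.Statements.S4337
import Groth.Agent.S2276

set_option autoImplicit false
universe u
open LinTop

namespace Groth.Agent.S4337

/-- Let A be an admissible ring, J an ideal of definition, and u : M -> N a homomorphism of A-modules
with N of finite type. Then u is surjective if and only if u tensored with A/J is surjective. -/
theorem result
    (A : Type u) [CommRing A] [UniformSpace A] [IsUniformAddGroup A] [IsTopologicalRing A]
    (hA : LinTop.IsAdmissible A) (J : Ideal A) (hJ : LinTop.IsIdealOfDefinition A J)
    (M N : Type u) [AddCommGroup M] [Module A M] [AddCommGroup N] [Module A N] [Module.Finite A N]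
    (u : M →ₗ[A] N) :
    Function.Surjective u ↔ Function.Surjective (u.rTensor (A ⧸ J)) := by
  have hjac := (Groth.Agent.S2276.result A hA J hJ).2
  refine ⟨fun h => LinearMap.rTensor_surjective _ h, fun h => ?_⟩
  -- cokernel
  set C := N ⧸ LinearMap.range u with hC
  have hex : Function.Exact u (LinearMap.range u).mkQ := LinearMap.exact_map_mkQ_range u
  have hex' := rTensor_exact (A ⧸ J) hex (Submodule.mkQ_surjective _)
  have hsurj' : Function.Surjective ((LinearMap.range u).mkQ.rTensor (A ⧸ J)) :=
    LinearMap.rTensor_surjective _ (Submodule.mkQ_surjective _)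
  have hsub : Subsingleton (TensorProduct A C (A ⧸ J)) := by
    refine ⟨fun a b => ?_⟩
    obtain ⟨a', rfl⟩ := hsurj' a
    obtain ⟨b', rfl⟩ := hsurj' b
    rw [(hex' a').mpr (h a'), (hex' b').mpr (h b')]
  have hsub2 : Subsingleton (C ⧸ (J • (⊤ : Submodule A C))) :=
    (TensorProduct.tensorQuotEquivQuotSMul C J).symm.subsingleton
  have htop : J • (⊤ : Submodule A C) = ⊤ := Submodule.Quotient.subsingleton_iff.mp hsub2
  have hbot : (⊤ : Submodule A C) = ⊥ :=
    Submodule.eq_bot_of_le_smul_of_le_jacobson_bot J ⊤ Module.Finite.fg_top (by rw [htop]) hjac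
  have hCs : Subsingleton C := by
    rw [← Submodule.subsingleton_iff A]
    exact subsingleton_of_bot_eq_top hbot.symm
  have : LinearMap.range u = ⊤ := Submodule.Quotient.subsingleton_iff.mp hCs
  exact LinearMap.range_eq_top.mp this

end Groth.Agent.S4337
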