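import Groth.Statements.S4338
import Mathlib

set_option autoImplicit false
universe u
open LinTop

namespace Groth.Agent.S4338

section
variable (A : Type u) [CommRing A] [UniformSpace A] [IsUniformAddGroup A] [IsTopologicalRing A]

theorem nonarch_of_linear [IsLinearTopology A A] : NonarchimedeanAddGroup A :=
  { is_nonarchimedean := fun U hU => by
      obtain ⟨K, hK, hKU⟩ := (IsLinearTopology.hasBasis_open_ideal (R := A)).mem_iff.mp hU
      exact ⟨⟨K.toAddSubgroup, hK⟩, hKU⟩ }

variable {A}

theorem summable_of_mem_pow [IsLinearTopology A A] [CompleteSpace A] (J : Ideal A)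
    (hJ : LinTop.IsIdealOfDefinition A J) (z : ℕ → A) (hz : ∀ k, z k ∈ J ^ k) : Summable z := by
  have hna := nonarch_of_linear A
  refine NonarchimedeanAddGroup.summable_of_tendsto_cofinite_zero ?_
  rw [Nat.cofinite_eq_atTop, (Filter.atTop_basis.tendsto_iff (nhds_basis_opens (0 : A)))]
  rintro U ⟨hU0, hUo⟩
  obtain ⟨n, -, hn⟩ := hJ.2 U (hUo.mem_nhds hU0)
  exact ⟨n, trivial, fun m hm => hn (Ideal.pow_le_pow_right hm (hz m))⟩

theorem tsum_mem_of_fg [IsLinearTopology A A] [CompleteSpace A] [T2Space A] (J : Ideal A)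
    (hJ : LinTop.IsIdealOfDefinition A J) (𝔞 : Ideal A) (h𝔞 : 𝔞.FG) (z : ℕ → A)
    (hz : ∀ k, z k ∈ 𝔞 * J ^ k) : ∑' k, z k ∈ 𝔞 := by
  obtain ⟨s, b, hb⟩ := Submodule.fg_iff_exists_fin_generating_family.mp h𝔞
  have hz' : ∀ k, ∃ d : Fin s → A, (∀ i, d i ∈ J ^ k) ∧ ∑ i, d i * b i = z k := by
    intro k
    have := hz k
    rw [mul_comm, ← smul_eq_mul, ← hb, Submodule.mem_ideal_smul_span_iff_exists_sum] at this
    obtain ⟨a, ha, hsum⟩ := this
    refine ⟨fun i => a i, ha, ?_⟩
    rw [← hsum, Finsupp.sum_fintype _ _ (fun i => by simp)]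
    simp
  choose d hd hdz using hz'
  have hsum_i : ∀ i, Summable (fun k => d k i) :=
    fun i => summable_of_mem_pow J hJ _ (fun k => hd k i)
  have hhas : HasSum z (∑ i, (∑' k, d k i) * b i) := by
    have h1 : ∀ i ∈ (Finset.univ : Finset (Fin s)),
        HasSum (fun k => d k i * b i) ((∑' k, d k i) * b i) :=
      fun i _ => (hsum_i i).hasSum.mul_right (b i)
    have h2 := hasSum_sum h1
    have : (fun k => ∑ i, d k i * b i) = z := funext hdz
    rwa [this] at h2
  rw [hhas.tsum_eq]
  refine Ideal.sum_mem _ fun i _ => Ideal.mul_mem_left _ _ ?_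
  rw [← hb]
  exact Submodule.subset_span (Set.mem_range_self i)

end

theorem main (A : Type u) [CommRing A] [UniformSpace A] [IsUniformAddGroup A] [IsTopologicalRing A]
    (hA : LinTop.IsAdmissible A) (J : Ideal A) (hJ : LinTop.IsIdealOfDefinition A J)
    (I : Ideal A) (hI : I.FG) (hIJ : I ≤ J) :
    IsAdicComplete I A := by
  obtain ⟨⟨hlin, -⟩, hT2, hcomplete⟩ := hA
  have hpowle : ∀ n, I ^ n ≤ J ^ n := fun n => Ideal.pow_right_mono hIJ n
  have hhaus : IsHausdorff I A := by
    refine ⟨fun x hx => ?_⟩
    by_contra hne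
    have hU : ({x}ᶜ : Set A) ∈ nhds (0 : A) :=
      isOpen_compl_singleton.mem_nhds (by simpa using Ne.symm hne)
    obtain ⟨n, -, hn⟩ := hJ.2 _ hU
    have hxn : x ∈ I ^ n := by
      have := hx n
      rwa [SModEq.zero, smul_eq_mul, Ideal.mul_top] at this
    exact hn (hpowle n hxn) rfl
  have hprec : IsPrecomplete I A := by
    refine ⟨fun f hf => ?_⟩
    set z : ℕ → A := fun k => f (k + 1) - f k with hz
    have hzI : ∀ k, z k ∈ I ^ k := by
      intro k
      have := (hf (Nat.le_succ k)).symm
      rwa [SModEq.sub_mem, smul_eq_mul, Ideal.mul_top] at this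
    have hzs : Summable z := summable_of_mem_pow J hJ z (fun k => hpowle k (hzI k))
    refine ⟨f 0 + ∑' k, z k, fun n => ?_⟩
    rw [SModEq.sub_mem, smul_eq_mul, Ideal.mul_top]
    have htel : ∑ i ∈ Finset.range n, z i = f n - f 0 := Finset.sum_range_sub f n
    have hsplit := hzs.sum_add_tsum_nat_add n
    have hIn : (I ^ n).FG := hI.pow
    have htail : ∑' k, z (k + n) ∈ I ^ n := by
      refine tsum_mem_of_fg J hJ (I ^ n) hIn _ (fun k => ?_)
      have h1 : z (k + n) ∈ I ^ (k + n) := hzI (k + n)
      rw [pow_add, mul_comm] at h1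
      exact Ideal.mul_mono_right (hpowle k) h1
    have : f n - (f 0 + ∑' k, z k) = -∑' k, z (k + n) := by
      rw [← hsplit, htel]; ring
    rw [this]
    exact (I ^ n).neg_mem htail
  exact { hhaus, hprec with }

/-- For a finitely generated ideal. Let A be an admissible ring and I a finitely generated ideal
contained in an ideal of definition of A. Then A is separated and complete for the I-adic topology.
(The published statement has no finiteness hypothesis on I and is then not correct: the completion
of a polynomial ring in countably many variables over a field along the ideal generated by the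
variables, with its inverse-limit topology, is admissible, the kernel of its projection onto the
field is an ideal of definition, and the ring is not adically complete for that kernel.) -/
theorem result
    (A : Type u) [CommRing A] [UniformSpace A] [IsUniformAddGroup A] [IsTopologicalRing A]
    (hA : LinTop.IsAdmissible A) (J : Ideal A) (hJ : LinTop.IsIdealOfDefinition A J)
    (I : Ideal A) (hI : I.FG) (hIJ : I ≤ J) :
    IsAdicComplete I A := by
  exact main A hA J hJ I hI hIJ

end Groth.Agent.S4338
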