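import Groth.Statements.S4342
import Groth.Agent.Lib.Helper17.FTExt3
import Mathlib
set_option backward.isDefEq.respectTransparency.types false

set_option autoImplicit false
universe u
open QCohSup

namespace Groth.Agent.S4342
open AlgebraicGeometry CategoryTheory CategoryTheory.Limits Opposite
open Groth.Agent.Lib.Helper17.FTExt Groth.Agent.Lib.Helper28.QCohLoc

theorem isFiniteType_freeMod (Y : Scheme.{u}) (J : Type u) [Finite J] :
    SheafOfModules.IsFiniteType.{u} (R := Y.ringCatSheaf) (freeMod Y J) := by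
  haveI : (SheafOfModules.free.generatingSections (R := Y.ringCatSheaf) J).IsFiniteType :=
    ⟨inferInstanceAs (Finite J)⟩
  let q : SheafOfModules.LocalGeneratorsData.{u} (freeMod Y J) :=
    (SheafOfModules.free.generatingSections (R := Y.ringCatSheaf) J).localGeneratorsData
  have hq : q.IsFiniteType := by
    refine @SheafOfModules.LocalGeneratorsData.IsFiniteType.mk _ _ _ _ _ _ _ q (fun x => ?_)
    exact inferInstanceAs (((SheafOfModules.free.generatingSections (R := Y.ringCatSheaf) J).map
      (SheafOfModules.pushforward (𝟙 (Y.ringCatSheaf.over x))) (Iso.refl _))).IsFiniteType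
  constructor
  exact ⟨q, hq⟩

/-- the submodule generated by a global section -/
theorem exists_sub_of_section {Y : Scheme.{u}} (A : Y.Modules) [A.IsQuasicoherent] (s : Γ(A, ⊤)) :
    ∃ (G : Y.Modules) (i : G ⟶ A), Mono i ∧ G.IsQuasicoherent ∧
      SheafOfModules.IsFiniteType.{u} (R := Y.ringCatSheaf) G ∧ ∃ g : Γ(G, ⊤), i.app ⊤ g = s := by
  let n : PUnit.{u+1} → A.val.obj (op ⊤) := fun _ => s
  haveI := isFiniteType_freeMod Y PUnit.{u+1}
  haveI : (cokernel (fam A n)).IsQuasicoherent :=
    Groth.Agent.Lib.Helper17.CohKer.isQuasicoherent_cokernel (fam A n)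
  refine ⟨Abelian.image (fam A n), Abelian.image.ι (fam A n), inferInstance,
    Groth.Agent.Lib.Helper17.CohKer.isQuasicoherent_kernel _,
    Groth.Agent.Lib.Helper17.CohKer.isFiniteType_of_epi (Abelian.factorThruImage (fam A n)), ?_⟩
  obtain ⟨e, he⟩ := exists_fromFreeFamily_app_eq A n ⊤ PUnit.unit
  refine ⟨(Abelian.factorThruImage (fam A n)).app ⊤ e, ?_⟩
  have h2 : (Abelian.image.ι (fam A n)).app ⊤ ((Abelian.factorThruImage (fam A n)).app ⊤ e) =
      (fam A n).app ⊤ e := by
    have := congrArg (fun ψ : (freeMod Y PUnit.{u+1} ⟶ A) => ψ.app ⊤ e) (Abelian.image.fac (fam A n))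
    exact this
  rw [h2, he]
  exact res_self A s


open AlgebraicGeometry in
open CategoryTheory in
open Opposite in
/-- In the sectionwise form its proof gives. Let X be a scheme whose underlying space is locally
Noetherian and F a quasi-coherent O_X-module. For every affine open U and every section s of F over
U there is a quasi-coherent sub-O_X-module of finite type of F having s among its sections over U;
hence F is the inductive limit of its quasi-coherent submodules of finite type. -/
theorem result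
    {X : Scheme.{u}}
    (hX : ∀ x : X, ∃ U : X.Opens, x ∈ U ∧ TopologicalSpace.NoetherianSpace (U : Set X))
    (F : X.Modules) [Coh.IsQCoh F]
    (U : X.affineOpens) (s : F.val.obj (op (U : X.Opens))) :
    ∃ (G' : X.Modules) (i' : G' ⟶ F), Mono i' ∧ Coh.IsQCoh G' ∧ CohB1.IsFT G' ∧
      ∃ g : G'.val.obj (op (U : X.Opens)), (i'.val.app (op (U : X.Opens))).hom g = s := by
  haveI : F.IsQuasicoherent := ‹Coh.IsQCoh F›
  have hN := affNoeth_of_locallyNoetherianSpace hX
  have e0 : U.1.ι ''ᵁ ⊤ = U.1 := by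
    rw [Scheme.Hom.image_top_eq_opensRange, Scheme.Opens.opensRange_ι]
  haveI : (F.restrict U.1.ι).IsQuasicoherent := inferInstance
  let s' : Γ(F.restrict U.1.ι, ⊤) := res F e0.le s
  obtain ⟨G, i, hi, hGq, hGft, g₀, hg₀⟩ := exists_sub_of_section (F.restrict U.1.ι) s'
  haveI := hi
  haveI := hGq
  haveI := hGft
  obtain ⟨G', i', e, hm, hq, hft, he⟩ := exists_extension_affNoeth hN U.1 F G i
  refine ⟨G', i', hm, hq, hft, ?_⟩
  let g₁ : Γ(G', U.1.ι ''ᵁ ⊤) := e.inv.app ⊤ g₀
  have h1 : i'.app (U.1.ι ''ᵁ ⊤) g₁ = res F e0.le s := by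
    have h2 : ((Scheme.Modules.restrictFunctor U.1.ι).map i').app ⊤ (e.inv.app ⊤ g₀) =
        (e.hom ≫ i).app ⊤ (e.inv.app ⊤ g₀) := by rw [he]
    have h3 : (e.hom ≫ i).app ⊤ (e.inv.app ⊤ g₀) = i.app ⊤ g₀ := by
      have := congrArg (fun ψ : (G ⟶ F.restrict U.1.ι) => ψ.app ⊤ g₀) (e.inv_hom_id_assoc i)
      exact this
    exact h2.trans (h3.trans hg₀)
  refine ⟨res G' e0.ge g₁, ?_⟩
  change i'.app U.1 (res G' e0.ge g₁) = s
  rw [app_res, h1, res_res]
  exact res_self F s

end Groth.Agent.S4342
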