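import Groth.Statements.S4343
import Mathlib

set_option autoImplicit false
universe u
open RatMapD

namespace Groth.Agent.S4343

open AlgebraicGeometry CategoryTheory


lemma ringHom_ext_of_adjoin {A B R : Type*} [CommRing A] [CommRing B] [CommRing R] (α : A →+* B)
    (s : Set B) (hs : @Algebra.adjoin A B _ _ α.toAlgebra s = ⊤) (φ ψ : B →+* R)
    (h1 : φ.comp α = ψ.comp α) (h2 : ∀ b ∈ s, φ b = ψ b) : φ = ψ := by
  let _ := α.toAlgebra
  let _ := (φ.comp α).toAlgebra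
  let φ' : B →ₐ[A] R := ⟨φ, fun _ => rfl⟩
  let ψ' : B →ₐ[A] R := ⟨ψ, fun a => (RingHom.congr_fun h1 a).symm⟩
  have : φ' = ψ' := AlgHom.ext_of_adjoin_eq_top hs h2
  exact congrArg (fun t : B →ₐ[A] R => (t : B →+* R)) this

set_option backward.isDefEq.respectTransparency.types false in
lemma spread_out_unique_of_lft {X Y S : Scheme.{u}} (sX : X ⟶ S) (sY : Y ⟶ S)
    [LocallyOfFiniteType sY] {x : X}
    (f g : X ⟶ Y) (hf : f ≫ sY = sX) (hg : g ≫ sY = sX) (e : f x = g x)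
    (H : f.stalkMap x =
      Y.presheaf.stalkSpecializes (Inseparable.of_eq e.symm).specializes ≫ g.stalkMap x) :
    ∃ (U : X.Opens), x ∈ U ∧ U.ι ≫ f = U.ι ≫ g := by
  obtain ⟨_, ⟨VS : S.Opens, hVS, rfl⟩, hxVS, -⟩ :=
    S.isBasis_affineOpens.exists_subset_of_mem_open (Set.mem_univ (sY (f x))) isOpen_univ
  obtain ⟨_, ⟨V : Y.Opens, hV, rfl⟩, hxV, hVle⟩ :=
    Y.isBasis_affineOpens.exists_subset_of_mem_open (show f x ∈ sY ⁻¹ᵁ VS from hxVS) (sY ⁻¹ᵁ VS).2
  have hxV' : g x ∈ V := e ▸ hxV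
  obtain ⟨_, ⟨U₀ : X.Opens, hU₀, rfl⟩, hxU₀, hU₀le⟩ :=
    X.isBasis_affineOpens.exists_subset_of_mem_open
      (show x ∈ (f ⁻¹ᵁ V ⊓ g ⁻¹ᵁ V) from ⟨hxV, hxV'⟩) (f ⁻¹ᵁ V ⊓ g ⁻¹ᵁ V).2
  have hft : (sY.appLE VS V hVle).hom.FiniteType := sY.finiteType_appLE hVS hV hVle
  have hU₀f : U₀ ≤ f ⁻¹ᵁ V := fun _ h => (hU₀le h).1
  have hU₀g : U₀ ≤ g ⁻¹ᵁ V := fun _ h => (hU₀le h).2
  -- germ equality
  have hgerm : f.appLE V U₀ hU₀f ≫ X.presheaf.germ U₀ x hxU₀ =
      g.appLE V U₀ hU₀g ≫ X.presheaf.germ U₀ x hxU₀ := by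
    simp only [Scheme.Hom.appLE, Category.assoc, X.presheaf.germ_res', ← Scheme.Hom.germ_stalkMap, H]
    simp only [TopCat.Presheaf.germ_stalkSpecializes_assoc, Scheme.Hom.germ_stalkMap]
  obtain ⟨s, hs⟩ := hft
  have key : ∀ b : Γ(Y, V), ∃ (W : X.Opens) (hxW : x ∈ W) (hWU : W ≤ U₀),
      X.presheaf.map (homOfLE hWU).op (f.appLE V U₀ hU₀f b) =
        X.presheaf.map (homOfLE hWU).op (g.appLE V U₀ hU₀g b) := by
    intro b
    have := congr($hgerm b)
    obtain ⟨W, hxW, i₁, i₂, hW⟩ := X.presheaf.germ_eq x hxU₀ hxU₀ _ _ this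
    exact ⟨W, hxW, i₁.le, hW⟩
  choose W hxW hWU hW using key
  have hxU : x ∈ s.inf W ⊓ U₀ := by
    rw [← SetLike.mem_coe, TopologicalSpace.Opens.coe_inf, TopologicalSpace.Opens.coe_finset_inf]
    exact ⟨by simpa using fun x _ ↦ hxW x, hxU₀⟩
  refine ⟨s.inf W ⊓ U₀, hxU, ?_⟩
  have hUV : s.inf W ⊓ U₀ ≤ f ⁻¹ᵁ V ⊓ g ⁻¹ᵁ V := inf_le_right.trans hU₀le
  rw [← Scheme.Hom.resLE_comp_ι _ (hUV.trans inf_le_left),
    ← Scheme.Hom.resLE_comp_ι _ (hUV.trans inf_le_right)]
  congr 1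
  have : IsAffine V := hV
  suffices ∀ (U₁ V₀) (eU : s.inf W ⊓ U₀ = U₁) (eV : V = V₀),
      f.appLE V₀ U₁ (eU ▸ eV ▸ hUV.trans inf_le_left) =
        g.appLE V₀ U₁ (eU ▸ eV ▸ hUV.trans inf_le_right) by
    rw [← cancel_mono V.toScheme.isoSpec.hom]
    simp only [Scheme.isoSpec, asIso_hom, Scheme.toSpecΓ_naturality,
      Scheme.Hom.app_eq_appLE, Scheme.Hom.resLE_appLE]
    congr 2
    apply this <;> simp
  rintro _ _ rfl rfl
  ext1
  refine ringHom_ext_of_adjoin (sY.appLE VS V hVle).hom s hs _ _ ?_ ?_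
  · rw [← CommRingCat.hom_comp, ← CommRingCat.hom_comp, Scheme.Hom.appLE_comp_appLE,
      Scheme.Hom.appLE_comp_appLE]
    subst hf
    simp only [hg]
  · intro b hb
    have hUW : s.inf W ⊓ U₀ ≤ W b := inf_le_left.trans (Finset.inf_le hb)
    have := congr(X.presheaf.map (homOfLE hUW).op $(hW b))
    simp only [← CommRingCat.comp_apply, Scheme.Hom.appLE_map] at this
    exact this

set_option backward.isDefEq.respectTransparency.types false in
lemma spread_out_unique_of_lft' {X Y S : Scheme.{u}} (sX : X ⟶ S) (sY : Y ⟶ S)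
    [LocallyOfFiniteType sY] {x : X}
    (f g : X ⟶ Y) (hf : f ≫ sY = sX) (hg : g ≫ sY = sX)
    (e : X.fromSpecStalk x ≫ f = X.fromSpecStalk x ≫ g) :
    ∃ (U : X.Opens), x ∈ U ∧ U.ι ≫ f = U.ι ≫ g := by
  fapply spread_out_unique_of_lft sX sY f g hf hg
  · simpa using congr($e (IsLocalRing.closedPoint _))
  · apply Spec.map_injective
    rw [← cancel_mono (Y.fromSpecStalk _)]
    simpa [Scheme.SpecMap_stalkSpecializes_fromSpecStalk]

open Scheme in
set_option backward.defeqAttrib.useBackward true in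
set_option backward.isDefEq.respectTransparency false in
lemma equiv_of_fromSpecStalkOfMem_eq_of_lft {S X Y : Scheme.{u}} [X.Over S] [Y.Over S]
    [IrreducibleSpace X] [LocallyOfFiniteType (Y ↘ S)]
    {x : X} (f g : X.PartialMap Y) [f.IsOver S] [g.IsOver S]
    (hxf : x ∈ f.domain) (hxg : x ∈ g.domain)
    (H : f.fromSpecStalkOfMem hxf = g.fromSpecStalkOfMem hxg) : f.equiv g := by
  have hdense : Dense ((f.domain ⊓ g.domain) : Set X) :=
    f.dense_domain.inter_of_isOpen_left g.dense_domain f.domain.2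
  have := spread_out_unique_of_lft' (X := (f.domain ⊓ g.domain).toScheme)
    ((f.domain ⊓ g.domain).ι ≫ X ↘ S) (Y ↘ S)
    (X.homOfLE inf_le_left ≫ f.hom) (X.homOfLE inf_le_right ≫ g.hom) (x := ⟨x, hxf, hxg⟩) ?_ ?_ ?_
  · obtain ⟨U, hxU, e⟩ := this
    refine ⟨(f.domain ⊓ g.domain).ι ''ᵁ U, ((f.domain ⊓ g.domain).ι ''ᵁ U).2.dense
      ⟨_, ⟨_, hxU, rfl⟩⟩,
      ((Set.image_subset_range _ _).trans_eq (Subtype.range_val)).trans inf_le_left,
      ((Set.image_subset_range _ _).trans_eq (Subtype.range_val)).trans inf_le_right, ?_⟩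
    rw [← cancel_epi (Scheme.Hom.isoImage _ _).hom]
    simp only [PartialMap.restrict_hom, ← Category.assoc] at e ⊢
    convert! e using 2 <;> rw [← cancel_mono (Scheme.Opens.ι _)] <;> simp
  · have := PartialMap.isOver_iff.mp (‹f.IsOver S›)
    simp only [PartialMap.compHom_hom] at this
    simp [this]
  · have := PartialMap.isOver_iff.mp (‹g.IsOver S›)
    simp only [PartialMap.compHom_hom] at this
    simp [this]
  · rw [← f.fromSpecStalkOfMem_restrict hdense inf_le_left ⟨hxf, hxg⟩,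
      ← g.fromSpecStalkOfMem_restrict hdense inf_le_right ⟨hxf, hxg⟩] at H
    simpa only [PartialMap.fromSpecStalkOfMem, PartialMap.restrict_domain, Opens.fromSpecStalkOfMem, Spec.map_inv,
      PartialMap.restrict_hom, Category.assoc, IsIso.eq_inv_comp, IsIso.hom_inv_id_assoc] using H


open AlgebraicGeometry in
open CategoryTheory in
/-- Let X, Y be S-schemes with X irreducible and Y locally of finite type over S. Two S-rational maps
from X to Y to which corresponds the same morphism Spec(O_x) -> Y, x the generic point of X, are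
equal. (The published statement has Y of finite type over S; only local finite type is used. X is
not assumed reduced.) -/
theorem result
    (S X Y : Scheme.{u}) [X.Over S] [Y.Over S] [IrreducibleSpace X]
    [LocallyOfFiniteType (Y ↘ S)] (f g : X ⤏ Y) [f.IsOver S] [g.IsOver S]
    (h : f.fromFunctionField = g.fromFunctionField) : f = g := by
  obtain ⟨f, hf, rfl⟩ := f.exists_partialMap_over S
  obtain ⟨g, hg, rfl⟩ := g.exists_partialMap_over S
  refine Scheme.PartialMap.toRationalMap_eq_iff.mpr ?_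
  exact equiv_of_fromSpecStalkOfMem_eq_of_lft (S := S) _ _ _ _ h


end Groth.Agent.S4343
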