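import Groth.Statements.S4344
import Mathlib

set_option autoImplicit false
universe u
open RatMapD

namespace Groth.Agent.S4344

section helpers
open AlgebraicGeometry CategoryTheory Scheme


variable {S X Y : Scheme.{u}} [X.Over S] [Y.Over S]

/-- index type: S-representatives of `f`. -/
abbrev Rep (S : Scheme.{u}) [X.Over S] [Y.Over S] (f : X ⤏ Y) : Type u :=
  { g : X.PartialMap Y // g.IsOver S ∧ g.toRationalMap = f }

/-- the union of the domains of the S-representatives. -/
def dom (S : Scheme.{u}) [X.Over S] [Y.Over S] (f : X ⤏ Y) : X.Opens :=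
  ⨆ i : Rep S f, i.1.domain

lemma le_dom {f : X ⤏ Y} (i : Rep S f) : i.1.domain ≤ dom S f :=
  le_iSup (fun i : Rep S f => i.1.domain) i

lemma dense_dom (f : X ⤏ Y) [f.IsOver S] : Dense (X := X) (dom S f) := by
  obtain ⟨g, hg, e⟩ := f.exists_partialMap_over S
  exact g.dense_domain.mono (le_dom ⟨g, hg, e⟩)

set_option backward.isDefEq.respectTransparency false in
noncomputable
def cover (S : Scheme.{u}) [X.Over S] [Y.Over S] (f : X ⤏ Y) : (dom S f).toScheme.OpenCover where
  I₀ := Rep S f
  X i := i.1.domain.toScheme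
  f i := X.homOfLE (le_dom i)
  mem₀ := by
    rw [presieve₀_mem_precoverage_iff]
    refine ⟨fun x ↦ ?_, inferInstance⟩
    obtain ⟨i, hi⟩ := TopologicalSpace.Opens.mem_iSup.mp x.2
    exact ⟨i, ⟨⟨x.1, hi⟩, Subtype.ext (by simp)⟩⟩

set_option backward.isDefEq.respectTransparency false in
lemma compat [IsReduced X] [IsSeparated (Y ↘ S)] (f : X ⤏ Y) (x y : Rep S f) :
    Limits.pullback.fst ((cover S f).f x) ((cover S f).f y) ≫ x.1.hom =
      Limits.pullback.snd ((cover S f).f x) ((cover S f).f y) ≫ y.1.hom := by
  have hx : x.1.IsOver S := x.2.1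
  have hy : y.1.IsOver S := y.2.1
  refine (cancel_epi (isPullback_opens_inf_le (le_dom x) (le_dom y)).isoPullback.hom).mp ?_
  simp only [cover, IsPullback.isoPullback_hom_fst_assoc,
    IsPullback.isoPullback_hom_snd_assoc]
  have := (PartialMap.equiv_iff_of_isSeparated (S := S) (f := x.1) (g := y.1)).mp
    (by rw [← PartialMap.toRationalMap_eq_iff, x.2.2, y.2.2])
  simpa using this

noncomputable
def bigHom [IsReduced X] [IsSeparated (Y ↘ S)] (f : X ⤏ Y) : (dom S f).toScheme ⟶ Y :=
  (cover S f).glueMorphisms (fun i ↦ i.1.hom) (compat f)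

lemma bigHom_spec [IsReduced X] [IsSeparated (Y ↘ S)] (f : X ⤏ Y) (i : Rep S f) :
    X.homOfLE (le_dom i) ≫ bigHom (S := S) f = i.1.hom :=
  (cover S f).ι_glueMorphisms _ _ i

lemma bigHom_over [IsReduced X] [IsSeparated (Y ↘ S)] (f : X ⤏ Y) :
    bigHom (S := S) f ≫ Y ↘ S = (dom S f).ι ≫ X ↘ S := by
  refine (cover S f).hom_ext _ _ fun i => ?_
  have hi : i.1.IsOver S := i.2.1
  have h1 := PartialMap.isOver_iff.mp hi
  simp only [PartialMap.compHom_hom] at h1
  change X.homOfLE (le_dom i) ≫ _ ≫ _ = X.homOfLE (le_dom i) ≫ _ ≫ _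
  rw [reassoc_of% bigHom_spec f i, h1]
  simp

@[reducible, simps]
noncomputable
def big [IsReduced X] [IsSeparated (Y ↘ S)] (f : X ⤏ Y) [f.IsOver S] : X.PartialMap Y where
  domain := dom S f
  dense_domain := dense_dom f
  hom := bigHom f

lemma big_restrict [IsReduced X] [IsSeparated (Y ↘ S)] (f : X ⤏ Y) [f.IsOver S] (i : Rep S f) :
    (big (S := S) f).restrict i.1.domain i.1.dense_domain (le_dom i) = i.1 := by
  have key := bigHom_spec f i
  obtain ⟨⟨U, hU, φ⟩, h1, h2⟩ := i
  dsimp only at key
  change PartialMap.mk U hU (X.homOfLE _ ≫ bigHom f) = ⟨U, hU, φ⟩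
  rw [key]

instance big_isOver [IsReduced X] [IsSeparated (Y ↘ S)] (f : X ⤏ Y) [f.IsOver S] :
    (big (S := S) f).IsOver S := by
  rw [PartialMap.isOver_iff]
  exact bigHom_over f

lemma big_toRationalMap [IsReduced X] [IsSeparated (Y ↘ S)] (f : X ⤏ Y) [f.IsOver S] :
    (big (S := S) f).toRationalMap = f := by
  obtain ⟨g, hg, e⟩ := f.exists_partialMap_over S
  have := big_restrict f ⟨g, hg, e⟩
  refine Eq.trans ?_ e
  refine Eq.trans ?_ congr(PartialMap.toRationalMap $this)
  exact (PartialMap.restrict_toRationalMap _ _ _ _).symm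

end helpers


open AlgebraicGeometry in
open CategoryTheory in
/-- Let X be a reduced S-scheme, Y an S-scheme separated over S and f an S-rational map from X to Y.
There is a representative g of f which is an S-morphism and of which every S-morphism representing f
is a restriction; in particular g is the unique S-morphism of the class of f defined on the largest
open where some S-representative is defined. (The published statement speaks of the domain of
definition among all representatives; over a base that is not separated that domain can be larger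
than the one on which an S-representative exists, and this row takes the latter.) -/
theorem result
    (S X Y : Scheme.{u}) [X.Over S] [Y.Over S] [IsReduced X] [IsSeparated (Y ↘ S)]
    (f : X ⤏ Y) [f.IsOver S] :
    ∃ g : X.PartialMap Y, g.IsOver S ∧ g.toRationalMap = f ∧
      ∀ h : X.PartialMap Y, h.IsOver S → h.toRationalMap = f →
        ∃ hle : h.domain ≤ g.domain, h = g.restrict h.domain h.dense_domain hle := by
  refine ⟨big (S := S) f, big_isOver f, big_toRationalMap f, fun h hS hf => ?_⟩
  exact ⟨le_dom ⟨h, hS, hf⟩, (big_restrict f ⟨h, hS, hf⟩).symm⟩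


end Groth.Agent.S4344
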