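import Groth.Statements.S4345
-- import your own Groth.Agent.* helpers here
import Mathlib.RingTheory.LocalRing.LocalSubring
import Mathlib.Tactic.TFAE

set_option autoImplicit false
universe u
open SchLoc

namespace Groth.Agent.S4345


section

open IsLocalRing

variable {K : Type u} [Field K]

lemma ofPrime_congr (A : Subring K) {P P' : Ideal A} [P.IsPrime] [P'.IsPrime] (h : P = P') :
    LocalSubring.ofPrime A P = LocalSubring.ofPrime A P' := by
  subst h; rfl

/-- contraction of the maximal ideal of `E_P` to a subring `F ≤ E`. -/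
lemma comap_ofPrime (E : Subring K) (P : Ideal E) [P.IsPrime] (F : Subring K) (hFE : F ≤ E)
    (hF : F ≤ (LocalSubring.ofPrime E P).toSubring) :
    (maximalIdeal (LocalSubring.ofPrime E P).toSubring).comap (Subring.inclusion hF) =
      P.comap (Subring.inclusion hFE) := by
  ext a
  rw [Ideal.mem_comap, Ideal.mem_comap]
  have : Subring.inclusion hF a =
      algebraMap E (LocalSubring.ofPrime E P).toSubring (Subring.inclusion hFE a) := Subtype.ext rfl
  rw [this]
  exact IsLocalization.AtPrime.to_map_mem_maximal_iff _ P _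

lemma ofPrime_le (A : Subring K) (Q : LocalSubring K) (hA : A ≤ Q.toSubring) :
    LocalSubring.ofPrime A ((maximalIdeal Q.toSubring).comap (Subring.inclusion hA)) ≤ Q := by
  set P := (maximalIdeal Q.toSubring).comap (Subring.inclusion hA) with hP
  have key : ∀ y : (LocalSubring.ofPrime A P).toSubring, ∃ (a : A) (s : A) (u : Q.toSubring),
      (y : K) * (s : K) = a ∧ (s : K) * (u : K) = 1 ∧
        (IsUnit y ↔ Subring.inclusion hA a ∉ maximalIdeal Q.toSubring) := by
    intro y
    obtain ⟨⟨a, s⟩, hy0⟩ := IsLocalization.mk'_surjective P.primeCompl y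
    have hy : IsLocalization.mk' (LocalSubring.ofPrime A P).toSubring a s = y := hy0
    have h1 := IsLocalization.mk'_spec (LocalSubring.ofPrime A P).toSubring a s
    rw [hy] at h1
    have h2 : (y : K) * (s.1 : K) = a := congrArg Subtype.val h1
    have hs : IsUnit (Subring.inclusion hA s.1) := by
      rw [← notMem_maximalIdeal]
      exact s.2
    obtain ⟨u, hu⟩ := isUnit_iff_exists_inv.mp hs
    refine ⟨a, s.1, u, h2, congrArg Subtype.val hu, ?_⟩
    rw [← hy, IsLocalization.AtPrime.isUnit_mk'_iff (LocalSubring.ofPrime A P).toSubring P a s]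
    rfl
  have h1 : (LocalSubring.ofPrime A P).toSubring ≤ Q.toSubring := by
    intro x hx
    obtain ⟨a, s, u, h2, h3, -⟩ := key ⟨x, hx⟩
    have : x = (a : K) * (u : K) := by
      have h2' : x * (s : K) = a := h2
      rw [← h2', mul_assoc, h3, mul_one]
    rw [this]
    exact mul_mem (hA a.2) u.2
  refine ⟨h1, ⟨fun y hy => ?_⟩⟩
  obtain ⟨a, s, u, h2, h3, h4⟩ := key y
  rw [h4]
  intro ha
  have e : Subring.inclusion h1 y * Subring.inclusion hA s = Subring.inclusion hA a :=
    Subtype.ext h2
  have hsu : IsUnit (Subring.inclusion hA s) :=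
    isUnit_iff_exists_inv.mpr ⟨u, Subtype.ext h3⟩
  have : IsUnit (Subring.inclusion hA a) := e ▸ hy.mul hsu
  exact (mem_maximalIdeal _).1 ha this

lemma of_ofPrime_le (A : Subring K) (P : Ideal A) [P.IsPrime] (Q : LocalSubring K)
    (h : LocalSubring.ofPrime A P ≤ Q) :
    ∃ hA : A ≤ Q.toSubring, (maximalIdeal Q.toSubring).comap (Subring.inclusion hA) = P := by
  obtain ⟨h1, hloc⟩ := h
  refine ⟨(LocalSubring.le_ofPrime A P).trans h1, ?_⟩
  ext a
  rw [Ideal.mem_comap, ← not_iff_not, notMem_maximalIdeal]
  have : Subring.inclusion ((LocalSubring.le_ofPrime A P).trans h1) a =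
      Subring.inclusion h1 (algebraMap A (LocalSubring.ofPrime A P).toSubring a) := Subtype.ext rfl
  rw [this, isUnit_map_iff (Subring.inclusion h1),
    IsLocalization.AtPrime.isUnit_to_map_iff (LocalSubring.ofPrime A P).toSubring P]
  rfl

end

/-- Let A and B be subrings of a field R, C the subring generated by A and B, and for a subring E let
L(E) be the set of local subrings E_p of R, p a prime ideal of E. The following are equivalent: (i)
for every local subring Q of R containing A and B, the localizations of A and of B at the traces of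
the maximal ideal of Q coincide; (ii) for every prime ideal r of C the localizations of A and B at
the traces of r coincide; (iii) two members of L(A) and L(B) dominated by a common local subring of
R are equal; (iv) the intersection of L(A) and L(B) is L(C). -/
theorem result
    (R : Type u) [Field R] (A B : Subring R) :
    [ ∀ (Q : LocalSubring R) (hA : A ≤ Q.toSubring) (hB : B ≤ Q.toSubring),
        LocalSubring.ofPrime A ((IsLocalRing.maximalIdeal Q.toSubring).comap (Subring.inclusion hA)) =
          LocalSubring.ofPrime B ((IsLocalRing.maximalIdeal Q.toSubring).comap (Subring.inclusion hB)),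
      ∀ r : PrimeSpectrum ↥(A ⊔ B),
        LocalSubring.ofPrime A (r.asIdeal.comap (Subring.inclusion (le_sup_left : A ≤ A ⊔ B))) =
          LocalSubring.ofPrime B (r.asIdeal.comap (Subring.inclusion (le_sup_right : B ≤ A ⊔ B))),
      ∀ (p : PrimeSpectrum A) (q : PrimeSpectrum B),
        (∃ Q : LocalSubring R, LocalSubring.ofPrime A p.asIdeal ≤ Q ∧ LocalSubring.ofPrime B q.asIdeal ≤ Q) →
          LocalSubring.ofPrime A p.asIdeal = LocalSubring.ofPrime B q.asIdeal,
      Set.range (fun p : PrimeSpectrum A ↦ LocalSubring.ofPrime A p.asIdeal) ∩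
          Set.range (fun q : PrimeSpectrum B ↦ LocalSubring.ofPrime B q.asIdeal) =
        Set.range (fun r : PrimeSpectrum ↥(A ⊔ B) ↦ LocalSubring.ofPrime (A ⊔ B) r.asIdeal) ].TFAE := by
  classical
  tfae_have 1 → 2 := by
    intro h r
    have hA : A ≤ (LocalSubring.ofPrime (A ⊔ B) r.asIdeal).toSubring :=
      le_sup_left.trans (LocalSubring.le_ofPrime _ _)
    have hB : B ≤ (LocalSubring.ofPrime (A ⊔ B) r.asIdeal).toSubring :=
      le_sup_right.trans (LocalSubring.le_ofPrime _ _)
    have := h (LocalSubring.ofPrime (A ⊔ B) r.asIdeal) hA hB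
    rw [ofPrime_congr A (comap_ofPrime (A ⊔ B) r.asIdeal A le_sup_left hA),
      ofPrime_congr B (comap_ofPrime (A ⊔ B) r.asIdeal B le_sup_right hB)] at this
    exact this
  tfae_have 2 → 1 := by
    intro h Q hA hB
    have hC : A ⊔ B ≤ Q.toSubring := sup_le hA hB
    exact h ⟨(IsLocalRing.maximalIdeal Q.toSubring).comap (Subring.inclusion hC), inferInstance⟩
  tfae_have 1 → 3 := by
    rintro h p q ⟨Q, hp, hq⟩
    obtain ⟨hA, hAp⟩ := of_ofPrime_le A p.asIdeal Q hp
    obtain ⟨hB, hBq⟩ := of_ofPrime_le B q.asIdeal Q hq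
    have := h Q hA hB
    rw [ofPrime_congr A hAp, ofPrime_congr B hBq] at this
    exact this
  tfae_have 3 → 1 := by
    intro h Q hA hB
    exact h ⟨(IsLocalRing.maximalIdeal Q.toSubring).comap (Subring.inclusion hA), inferInstance⟩
      ⟨(IsLocalRing.maximalIdeal Q.toSubring).comap (Subring.inclusion hB), inferInstance⟩
      ⟨Q, ofPrime_le A Q hA, ofPrime_le B Q hB⟩
  -- general fact: a common member of `L(A)` and `L(B)` is in `L(C)`
  have gen : ∀ (Q' : LocalSubring R) (hA : A ≤ Q'.toSubring) (hB : B ≤ Q'.toSubring)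
      (hQA : Q' ≤ LocalSubring.ofPrime A
        ((IsLocalRing.maximalIdeal Q'.toSubring).comap (Subring.inclusion hA))),
      LocalSubring.ofPrime (A ⊔ B)
        ((IsLocalRing.maximalIdeal Q'.toSubring).comap (Subring.inclusion (sup_le hA hB))) = Q' := by
    intro Q' hA hB hQA
    apply le_antisymm (ofPrime_le (A ⊔ B) Q' (sup_le hA hB))
    refine hQA.trans ?_
    set r := (IsLocalRing.maximalIdeal Q'.toSubring).comap (Subring.inclusion (sup_le hA hB))
    have hA' : A ≤ (LocalSubring.ofPrime (A ⊔ B) r).toSubring :=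
      le_sup_left.trans (LocalSubring.le_ofPrime _ _)
    have := ofPrime_le A (LocalSubring.ofPrime (A ⊔ B) r) hA'
    rw [ofPrime_congr A (comap_ofPrime (A ⊔ B) r A le_sup_left hA')] at this
    exact this
  tfae_have 2 → 4 := by
    intro h
    apply Set.Subset.antisymm
    · rintro x ⟨⟨p, rfl⟩, ⟨q, hq⟩⟩
      have hq' : LocalSubring.ofPrime B q.asIdeal = LocalSubring.ofPrime A p.asIdeal := hq
      have hA : A ≤ (LocalSubring.ofPrime A p.asIdeal).toSubring := LocalSubring.le_ofPrime _ _
      have hB : B ≤ (LocalSubring.ofPrime A p.asIdeal).toSubring := by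
        rw [← hq']; exact LocalSubring.le_ofPrime _ _
      refine ⟨⟨(IsLocalRing.maximalIdeal (LocalSubring.ofPrime A p.asIdeal).toSubring).comap
        (Subring.inclusion (sup_le hA hB)), inferInstance⟩, ?_⟩
      apply gen _ hA hB
      rw [ofPrime_congr A (comap_ofPrime A p.asIdeal A le_rfl hA)]
      exact (ofPrime_congr A (by ext; rfl)).le
    · rintro x ⟨r, rfl⟩
      have h2 := h r
      set P := r.asIdeal.comap (Subring.inclusion (le_sup_left : A ≤ A ⊔ B)) with hP
      have hA' : A ≤ (LocalSubring.ofPrime (A ⊔ B) r.asIdeal).toSubring :=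
        le_sup_left.trans (LocalSubring.le_ofPrime _ _)
      -- (a) `A_P ≤ C_r`
      have ha : LocalSubring.ofPrime A P ≤ LocalSubring.ofPrime (A ⊔ B) r.asIdeal := by
        have := ofPrime_le A (LocalSubring.ofPrime (A ⊔ B) r.asIdeal) hA'
        rw [ofPrime_congr A (comap_ofPrime (A ⊔ B) r.asIdeal A le_sup_left hA')] at this
        exact this
      -- (b) `C_r ≤ A_P`
      have hA : A ≤ (LocalSubring.ofPrime A P).toSubring := LocalSubring.le_ofPrime _ _
      have hB : B ≤ (LocalSubring.ofPrime A P).toSubring := by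
        rw [h2]; exact LocalSubring.le_ofPrime _ _
      have hb : LocalSubring.ofPrime (A ⊔ B) r.asIdeal ≤ LocalSubring.ofPrime A P := by
        have := ofPrime_le (A ⊔ B) (LocalSubring.ofPrime A P) (sup_le hA hB)
        have e : (IsLocalRing.maximalIdeal (LocalSubring.ofPrime A P).toSubring).comap
            (Subring.inclusion (sup_le hA hB)) = r.asIdeal := by
          obtain ⟨h1, hloc⟩ := ha
          ext c
          rw [Ideal.mem_comap, ← not_iff_not, IsLocalRing.notMem_maximalIdeal,
            ← isUnit_map_iff (Subring.inclusion h1)]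
          have : Subring.inclusion h1 (Subring.inclusion (sup_le hA hB) c) =
              algebraMap (A ⊔ B : Subring R) (LocalSubring.ofPrime (A ⊔ B) r.asIdeal).toSubring c :=
            Subtype.ext rfl
          rw [this, IsLocalization.AtPrime.isUnit_to_map_iff
            (LocalSubring.ofPrime (A ⊔ B) r.asIdeal).toSubring r.asIdeal]
          rfl
        rw [ofPrime_congr (A ⊔ B) e] at this
        exact this
      have heq : LocalSubring.ofPrime (A ⊔ B) r.asIdeal = LocalSubring.ofPrime A P :=
        le_antisymm hb ha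
      refine ⟨⟨⟨P, inferInstance⟩, heq.symm⟩, ⟨⟨r.asIdeal.comap (Subring.inclusion
        (le_sup_right : B ≤ A ⊔ B)), inferInstance⟩, ?_⟩⟩
      exact h2.symm.trans heq.symm
  tfae_have 4 → 2 := by
    intro h r
    have hr : LocalSubring.ofPrime (A ⊔ B) r.asIdeal ∈
        Set.range (fun r : PrimeSpectrum ↥(A ⊔ B) ↦ LocalSubring.ofPrime (A ⊔ B) r.asIdeal) :=
      ⟨r, rfl⟩
    rw [← h] at hr
    obtain ⟨⟨p, hp⟩, ⟨q, hq⟩⟩ := hr
    have hp' : LocalSubring.ofPrime A p.asIdeal = LocalSubring.ofPrime (A ⊔ B) r.asIdeal := hp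
    have hq' : LocalSubring.ofPrime B q.asIdeal = LocalSubring.ofPrime (A ⊔ B) r.asIdeal := hq
    obtain ⟨hA, hAp⟩ := of_ofPrime_le A p.asIdeal _ hp'.le
    obtain ⟨hB, hBq⟩ := of_ofPrime_le B q.asIdeal _ hq'.le
    rw [comap_ofPrime (A ⊔ B) r.asIdeal A le_sup_left hA] at hAp
    rw [comap_ofPrime (A ⊔ B) r.asIdeal B le_sup_right hB] at hBq
    rw [ofPrime_congr A hAp, ofPrime_congr B hBq, hp', hq']
  tfae_finish

end Groth.Agent.S4345
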