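import Groth.Statements.S4346
-- import your own Groth.Agent.* helpers here

set_option autoImplicit false
universe u
open SchLoc

namespace Groth.Agent.S4346

theorem exists_ringEquiv_of_range_eq {A B K : Type*} [CommRing A] [CommRing B] [CommRing K]
    (f : A →+* K) (g : B →+* K) (hf : Function.Injective f) (hg : Function.Injective g)
    (h : f.range = g.range) : ∃ e : B ≃+* A, f.comp e.toRingHom = g := by
  let ef : A ≃+* f.range := RingEquiv.ofBijective f.rangeRestrict
    ⟨fun a b hab => hf (congrArg Subtype.val hab), f.rangeRestrict_surjective⟩
  let eg : B ≃+* g.range := RingEquiv.ofBijective g.rangeRestrict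
    ⟨fun a b hab => hg (congrArg Subtype.val hab), g.rangeRestrict_surjective⟩
  refine ⟨eg.trans ((RingEquiv.subringCongr h.symm).trans ef.symm), ?_⟩
  ext b
  have : ∀ z : f.range, f (ef.symm z) = z := by
    intro z
    have := ef.apply_symm_apply z
    exact congrArg Subtype.val this
  simp only [RingEquiv.toRingHom_eq_coe, RingHom.coe_comp, RingHom.coe_coe, Function.comp_apply,
    RingEquiv.trans_apply, this]
  rfl

open AlgebraicGeometry CategoryTheory in
theorem isDominant_SpecMap {R S : CommRingCat.{u}} (φ : R ⟶ S) (h : Function.Injective φ.hom) :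
    IsDominant (Spec.map φ) := by
  constructor
  have := (PrimeSpectrum.denseRange_comap_iff_ker_le_nilRadical (f := φ.hom)).mpr (by
    rw [(RingHom.injective_iff_ker_eq_bot _).mp h]; exact bot_le)
  exact this

open AlgebraicGeometry CategoryTheory in
theorem main (X : Scheme.{u}) [IsIntegral X] [X.IsSeparated] :
    Function.Injective (fun x : X ↦ (algebraMap (X.presheaf.stalk x) X.functionField).range) := by
  intro x y hxy
  dsimp only at hxy
  have hx : Function.Injective (algebraMap (X.presheaf.stalk x) X.functionField) :=
    IsFractionRing.injective _ _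
  have hy : Function.Injective (algebraMap (X.presheaf.stalk y) X.functionField) :=
    IsFractionRing.injective _ _
  obtain ⟨e, he⟩ := exists_ringEquiv_of_range_eq _ _ hx hy hxy
  have hξx : genericPoint X ⤳ x := (genericPoint_spec X).specializes trivial
  have hξy : genericPoint X ⤳ y := (genericPoint_spec X).specializes trivial
  have hax : algebraMap (X.presheaf.stalk x) X.functionField =
    (X.presheaf.stalkSpecializes hξx).hom := rfl
  have hay : algebraMap (X.presheaf.stalk y) X.functionField =
    (X.presheaf.stalkSpecializes hξy).hom := rfl
  have : IsDominant (Spec.map (X.presheaf.stalkSpecializes hξx)) :=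
    isDominant_SpecMap _ (hax ▸ hx)
  let φ : X.presheaf.stalk y ⟶ X.presheaf.stalk x := CommRingCat.ofHom e.toRingHom
  have key : X.fromSpecStalk x =
      Spec.map (φ : X.presheaf.stalk y ⟶ X.presheaf.stalk x) ≫ X.fromSpecStalk y := by
    apply ext_of_isDominant (Spec.map (X.presheaf.stalkSpecializes hξx))
    rw [Scheme.SpecMap_stalkSpecializes_fromSpecStalk, ← Category.assoc, ← Spec.map_comp]
    have : φ ≫ X.presheaf.stalkSpecializes hξx =
        X.presheaf.stalkSpecializes hξy := by
      ext1
      rw [CommRingCat.hom_comp, ← hax, ← hay, ← he]
      rfl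
    rw [this, Scheme.SpecMap_stalkSpecializes_fromSpecStalk]
  have h1 := congr($key (IsLocalRing.closedPoint _))
  rw [Scheme.fromSpecStalk_closedPoint, Scheme.Hom.comp_apply] at h1
  have h2 : Spec.map φ (IsLocalRing.closedPoint _) =
      IsLocalRing.closedPoint _ := by
    have : IsLocalHom e.toRingHom := ⟨fun a ha => (isLocalHom_equiv e).map_nonunit a ha⟩
    exact IsLocalRing.comap_closedPoint e.toRingHom
  rw [h2, Scheme.fromSpecStalk_closedPoint] at h1
  exact h1


open AlgebraicGeometry in
/-- On an integral separated scheme distinct points have distinct local rings inside the function field. -/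
theorem result (X : Scheme.{u}) [IsIntegral X] [X.IsSeparated] :
    Function.Injective (fun x : X ↦ (algebraMap (X.presheaf.stalk x) X.functionField).range) := by
  exact main X

end Groth.Agent.S4346
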