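import Groth.Statements.S4348
import Groth.Agent.Lib.Helper17.Serre2
import Groth.Agent.Lib.Helper17.ModPullback
import Groth.Agent.Lib.Helper17.CohKer
import Groth.Agent.Lib.Helper28.QCohPush
import Mathlib
set_option backward.isDefEq.respectTransparency.types false

set_option autoImplicit false
universe u
open QCohSup

namespace Groth.Agent.S4348
open CategoryTheory CategoryTheory.Limits AlgebraicGeometry

/-- pullbacks of quasi-coherent modules are quasi-coherent -/
theorem isQuasicoherent_pullback_of {X : Scheme.{u}} {A B C : X.Modules} [A.IsQuasicoherent]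
    [B.IsQuasicoherent] [C.IsQuasicoherent] (f : A ⟶ C) (g : B ⟶ C) :
    (pullback f g).IsQuasicoherent := by
  haveI : (A ⊞ B).IsQuasicoherent := Groth.Agent.Lib.Helper17.Serre.isQuasicoherent_biprod A B
  haveI hk : (kernel (biprod.desc f (-g))).IsQuasicoherent :=
    Groth.Agent.Lib.Helper17.CohKer.isQuasicoherent_kernel _
  let e : pullback f g ≅ kernel (biprod.desc f (-g)) :=
    IsLimit.conePointUniqueUpToIso (Abelian.PullbackToBiproductIsKernel.isLimitPullbackToBiproduct f g)
      (limit.isLimit _)
  exact (SheafOfModules.isQuasicoherent.{u} X.ringCatSheaf).prop_of_iso e.symm hk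


open AlgebraicGeometry in
open CategoryTheory in
open CategoryTheory.Limits in
/-- Let X be a scheme and U an open subscheme such that the inclusion j : U -> X is quasi-compact. For a
quasi-coherent O_X-module F and a quasi-coherent submodule G of F|U, the canonical extension of G to
X (the preimage of j_*(G) under F -> j_*(F|U), here the fibre product in the category of
O_X-modules) is quasi-coherent. -/
theorem result
    {X : Scheme.{u}} (U : X.Opens) [QuasiCompact U.ι] (F : X.Modules) [Coh.IsQCoh F]
    (G : (U : Scheme.{u}).Modules) [Coh.IsQCoh G]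
    (i : G ⟶ (Scheme.Modules.pullback U.ι).obj F) [Mono i] :
    Coh.IsQCoh (pullback ((Scheme.Modules.pushforward U.ι).map i)
      ((Scheme.Modules.pullbackPushforwardAdjunction U.ι).unit.app F)) := by
  haveI : F.IsQuasicoherent := ‹Coh.IsQCoh F›
  haveI : G.IsQuasicoherent := ‹Coh.IsQCoh G›
  haveI : ((Scheme.Modules.pullback U.ι).obj F).IsQuasicoherent :=
    Groth.Agent.Lib.Helper17.ModPullback.isQuasicoherent_pullback U.ι F
  haveI : ((Scheme.Modules.pushforward U.ι).obj G).IsQuasicoherent :=
    Groth.Agent.Lib.Helper28.QCohLoc.isQuasicoherent_pushforward U.ι G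
  haveI : ((Scheme.Modules.pushforward U.ι).obj ((Scheme.Modules.pullback U.ι).obj F)).IsQuasicoherent :=
    Groth.Agent.Lib.Helper28.QCohLoc.isQuasicoherent_pushforward U.ι _
  haveI : ((𝟭 X.Modules).obj F).IsQuasicoherent := ‹Coh.IsQCoh F›
  exact isQuasicoherent_pullback_of _ _

end Groth.Agent.S4348
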