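import Groth.Statements.S4349
import Groth.Agent.Lib.Helper28.RatFunLib

set_option autoImplicit false
universe u
open RatFun

open AlgebraicGeometry Groth.Agent.Lib.Helper28

namespace Groth.Agent.S4349

open AlgebraicGeometry in
/-- Second assertion (in the form: sections over a dense open inject into the ring of rational
functions). Let X be a reduced scheme and V a dense open subset of X. The canonical map from the
sections of O_X over V to the ring R(X) of rational functions on X is injective. (The published
statement also assumes X locally integral or locally Noetherian; that hypothesis serves the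
quasi-coherence of the sheaf of rational functions and is not needed here.) -/
theorem result (X : Scheme.{u}) [IsReduced X]
    (V : X.Opens) (hV : Dense (V : Set X)) :
    Function.Injective (RatFun.toRing X V hV) := by
  classical
  rw [injective_iff_map_eq_zero]
  intro s hs
  obtain ⟨W, hW, h, e⟩ := (RatFunLib.toRing_eq_zero_iff X hV s).1 hs
  have h1 : W ⊓ X.basicOpen s = ⊥ := by
    rw [← Scheme.basicOpen_res, e, Scheme.basicOpen_zero]
  rw [← basicOpen_eq_bot_iff]
  by_contra hne
  obtain ⟨x, hx⟩ : ((X.basicOpen s : X.Opens) : Set X).Nonempty := by
    rw [Set.nonempty_iff_ne_empty]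
    intro h0
    exact hne (TopologicalSpace.Opens.ext h0)
  obtain ⟨y, hy1, hy2⟩ := hW.inter_open_nonempty _ (X.basicOpen s).2 ⟨x, hx⟩
  have : y ∈ (W ⊓ X.basicOpen s : X.Opens) := ⟨hy2, hy1⟩
  rw [h1] at this
  exact this

end Groth.Agent.S4349
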