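import Groth.Statements.S4350
import Groth.Agent.S2322
import Groth.Agent.Lib.Helper28.ModGlueHom
import Groth.Agent.Lib.Helper28.RelTildeMap
import Groth.Agent.Lib.Helper28.QCohPush
import Mathlib
set_option backward.isDefEq.respectTransparency.types false

set_option autoImplicit false
universe u
open TorSh

namespace Groth.Agent.S4350
open AlgebraicGeometry CategoryTheory Opposite TopologicalSpace
open Groth.Agent.Lib.Helper28.QCohLoc Groth.Agent.Lib.Helper29.QCohStalk

theorem hgen {X : Scheme.{u}} [IsIntegral X] (U : X.Opens) (hne : (U : Set X).Nonempty) : genericPoint X ∈ U :=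
  ((genericPoint_spec X).mem_open_set_iff U.2).2 (by simpa using hne)

/-- on an integral scheme a section of a torsion-free quasi-coherent module with zero germ at the generic point
is zero -/
theorem eq_zero_of_gm_generic {X : Scheme.{u}} [IsIntegral X] (F : X.Modules) [F.IsQuasicoherent]
    (hF : TorSh.IsTorsionFree F) (V : X.Opens) (h : genericPoint X ∈ V) (m : Γ(F, V))
    (hm : gm F V (genericPoint X) h m = 0) : m = 0 := by
  refine TopCat.Presheaf.section_ext ((SheafOfModules.toSheaf.{u} X.ringCatSheaf).obj F) V _ _ (fun x hx => ?_)
  change gm F V x hx m = gm F V x hx 0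
  rw [gm_zero]
  obtain ⟨U, hU, hxU, hUV⟩ : ∃ U : X.Opens, IsAffineOpen U ∧ x ∈ U ∧ U ≤ V := by
    obtain ⟨_, ⟨U, hU, rfl⟩, hxU, hUV⟩ :=
      X.isBasis_affineOpens.exists_subset_of_mem_open hx V.2
    exact ⟨U, hU, hxU, hUV⟩
  have hηU : genericPoint X ∈ U := hgen U ⟨x, hxU⟩
  have h1 : gm F U (genericPoint X) hηU (res F hUV m) = 0 := by rw [gm_res]; exact hm
  obtain ⟨t, ht0, htm⟩ := Groth.Agent.S2322.exists_ne_zero_smul_eq_zero F hU (genericPoint X) hηU _ h1
  have h2 : X.presheaf.germ U x hxU t • gm F U x hxU (res F hUV m) = 0 := by
    rw [← gm_smul, htm, gm_zero]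
  have hne := Groth.Agent.S2322.germ_ne_zero x hxU t ht0
  haveI := hF x
  haveI : IsDomain (X.presheaf.stalk x) := inferInstance
  have hreg : IsRegular (X.presheaf.germ U x hxU t) := isRegular_of_ne_zero hne
  have h3 := (Module.IsTorsionFree.isSMulRegular hreg : IsSMulRegular (F.presheaf.stalk x) _)
  have h4 : gm F U x hxU (res F hUV m) = 0 := h3 (by
    change X.presheaf.germ U x hxU t • gm F U x hxU (res F hUV m) = X.presheaf.germ U x hxU t • 0
    rw [h2, smul_zero])
  rw [← gm_res F hUV x hxU m]
  exact h4

section main

variable (X : Scheme.{u}) [IsIntegral X]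

/-- the constant functions on the preimage of `V` in the spectrum of the function field -/
noncomputable def cst (V : X.Opens) : X.presheaf.stalk (genericPoint X) →+*
    Γ(Spec (X.presheaf.stalk (genericPoint X)), X.fromSpecStalk (genericPoint X) ⁻¹ᵁ V) :=
  ((Spec (X.presheaf.stalk (genericPoint X))).presheaf.map
    (homOfLE (le_top : X.fromSpecStalk (genericPoint X) ⁻¹ᵁ V ≤ ⊤)).op).hom.comp
    (Scheme.ΓSpecIso (X.presheaf.stalk (genericPoint X))).inv.hom

theorem app_eq_cst (V : X.Opens) (h : genericPoint X ∈ V) (a : Γ(X, V)) :
    (X.fromSpecStalk (genericPoint X)).app V a = cst X V (X.presheaf.germ V (genericPoint X) h a) := by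
  rw [Scheme.fromSpecStalk_app h]
  rfl

theorem cst_res {V V' : X.Opens} (hle : V' ≤ V) (k : X.presheaf.stalk (genericPoint X)) :
    ((Spec (X.presheaf.stalk (genericPoint X))).presheaf.map
      (homOfLE ((X.fromSpecStalk (genericPoint X)).preimage_mono hle)).op).hom (cst X V k) = cst X V' k := by
  unfold cst
  change ((Spec (X.presheaf.stalk (genericPoint X))).presheaf.map
      (homOfLE (le_top : X.fromSpecStalk (genericPoint X) ⁻¹ᵁ V ≤ ⊤)).op ≫
    (Spec (X.presheaf.stalk (genericPoint X))).presheaf.map
      (homOfLE ((X.fromSpecStalk (genericPoint X)).preimage_mono hle)).op).hom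
      ((Scheme.ΓSpecIso (X.presheaf.stalk (genericPoint X))).inv.hom k) = _
  rw [← Functor.map_comp]
  rfl

theorem subsingleton_of_notMem (V : X.Opens) (h : genericPoint X ∉ V) :
    Subsingleton Γ(Spec (X.presheaf.stalk (genericPoint X)), X.fromSpecStalk (genericPoint X) ⁻¹ᵁ V) := by
  have hV : V = ⊥ := by
    by_contra hne
    apply h
    apply hgen V
    by_contra hemp
    apply hne
    ext x
    simp only [Opens.coe_bot, Set.mem_empty_iff_false, iff_false]
    intro hx
    exact hemp ⟨x, hx⟩
  subst hV
  exact inferInstanceAs (Subsingleton Γ(Spec (X.presheaf.stalk (genericPoint X)), ⊥))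

theorem preimage_eq_top (V : X.Opens) (h : genericPoint X ∈ V) :
    X.fromSpecStalk (genericPoint X) ⁻¹ᵁ V = ⊤ := by
  rw [eq_top_iff]
  intro y _
  have hy : X.fromSpecStalk (genericPoint X) y ∈ Set.range (X.fromSpecStalk (genericPoint X)) := ⟨y, rfl⟩
  rw [Scheme.range_fromSpecStalk] at hy
  exact (hy : _ ⤳ _).mem_open V.2 h

theorem cst_injective (V : X.Opens) (h : genericPoint X ∈ V) : Function.Injective (cst X V) := by
  have key : ∀ (W : (Spec (X.presheaf.stalk (genericPoint X))).Opens) (hW : W = ⊤),
      Function.Injective ((Spec (X.presheaf.stalk (genericPoint X))).presheaf.map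
        (homOfLE (le_top : W ≤ ⊤)).op).hom := by
    intro W hW
    subst hW
    have : (homOfLE (le_top : (⊤ : (Spec (X.presheaf.stalk (genericPoint X))).Opens) ≤ ⊤)).op = 𝟙 _ := rfl
    rw [this, CategoryTheory.Functor.map_id]
    exact fun a b hab => hab
  intro a b hab
  have h1 := key _ (preimage_eq_top X V h) hab
  exact (ConcreteCategory.bijective_of_isIso (Scheme.ΓSpecIso (X.presheaf.stalk (genericPoint X))).inv).1 h1

end main

theorem subsingleton_sections_bot {X : Scheme.{u}} (F : X.Modules) : Subsingleton Γ(F, ⊥) := by
  refine ⟨fun a b => ?_⟩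
  refine eq_of_locally_eq F (fun i : PEmpty.{1} => i.elim) ⊥ (fun i => i.elim) ?_ a b (fun i => i.elim)
  intro x hx
  exact absurd hx (by simp)


open AlgebraicGeometry in
open CategoryTheory in
/-- Direct assertion (the sheaf of rational functions of the integral scheme X being the direct image of
the structure sheaf of Spec of the function field under its canonical morphism to X). On an integral
scheme, a quasi-coherent torsion-free O_X-module of rank 1, i.e. whose stalk at the generic point is
one-dimensional over the function field (for instance an invertible module), is isomorphic to a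
sub-O_X-module of the sheaf of rational functions. (The published statement adds a converse, which
for the zero submodule does not hold as stated; it is not included here.) -/
theorem result
    (X : Scheme.{u}) [IsIntegral X] (F : X.Modules) [Coh.IsQCoh F] (hF : TorSh.IsTorsionFree F)
    (h1 : Module.finrank (X.presheaf.stalk (genericPoint X)) (F.presheaf.stalk (genericPoint X)) = 1) :
    ∃ i : F ⟶ (Scheme.Modules.pushforward (X.fromSpecStalk (genericPoint X))).obj
        (Coh.structureModule (Spec (X.presheaf.stalk (genericPoint X)))), Mono i := by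
  classical
  haveI : F.IsQuasicoherent := ‹Coh.IsQCoh F›
  letI : Field (X.presheaf.stalk (genericPoint X)) := inferInstanceAs (Field X.functionField)
  -- an injective linear form on the generic stalk
  obtain ⟨ψ, hψ⟩ : ∃ ψ : F.presheaf.stalk (genericPoint X) →ₗ[X.presheaf.stalk (genericPoint X)]
      X.presheaf.stalk (genericPoint X), Function.Injective ψ := by
    haveI : Module.Finite (X.presheaf.stalk (genericPoint X)) (F.presheaf.stalk (genericPoint X)) :=
      Module.finite_of_finrank_pos (by rw [h1]; exact one_pos)
    have e := LinearEquiv.ofFinrankEq (F.presheaf.stalk (genericPoint X)) (X.presheaf.stalk (genericPoint X))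
      (by rw [h1, Module.finrank_self])
    exact ⟨e.toLinearMap, e.injective⟩
  let kk : ∀ V : X.Opens, Γ(F, V) → X.presheaf.stalk (genericPoint X) := fun V m =>
    if h : genericPoint X ∈ V then ψ (gm F V (genericPoint X) h m) else 0
  have kk_pos : ∀ (V : X.Opens) (h : genericPoint X ∈ V) (m : Γ(F, V)),
      kk V m = ψ (gm F V (genericPoint X) h m) := fun V h m => dif_pos h
  let D : LocalHomData F ((Scheme.Modules.pushforward (X.fromSpecStalk (genericPoint X))).obj
      (Coh.structureModule (Spec (X.presheaf.stalk (genericPoint X))))) :=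
    { B := fun _ => True
      down := fun _ _ _ _ => trivial
      cov := fun x => ⟨⊤, trivial, trivial⟩
      φ := fun V _ m => cst X V (kk V m)
      add := by
        intro V _ x y
        by_cases h : genericPoint X ∈ V
        · rw [kk_pos V h, kk_pos V h, kk_pos V h]
          have : gm F V (genericPoint X) h (x + y) = gm F V (genericPoint X) h x + gm F V (genericPoint X) h y :=
            map_add _ x y
          rw [this, map_add, map_add]
          rfl
        · haveI := subsingleton_of_notMem X V h
          exact Subsingleton.elim (α := Γ(Spec (X.presheaf.stalk (genericPoint X)),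
            X.fromSpecStalk (genericPoint X) ⁻¹ᵁ V)) _ _
      smul := by
        intro V _ a x
        by_cases h : genericPoint X ∈ V
        · rw [kk_pos V h, kk_pos V h, gm_smul, map_smul, smul_eq_mul, map_mul, ← app_eq_cst X V h a]
          rfl
        · haveI := subsingleton_of_notMem X V h
          exact Subsingleton.elim (α := Γ(Spec (X.presheaf.stalk (genericPoint X)),
            X.fromSpecStalk (genericPoint X) ⁻¹ᵁ V)) _ _
      nat := by
        intro V _ V' hle x
        by_cases h : genericPoint X ∈ V'
        · rw [kk_pos V' h, kk_pos V (hle h), gm_res]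
          exact (cst_res X hle _).symm
        · haveI := subsingleton_of_notMem X V' h
          exact Subsingleton.elim (α := Γ(Spec (X.presheaf.stalk (genericPoint X)),
            X.fromSpecStalk (genericPoint X) ⁻¹ᵁ V')) _ _ }
  refine ⟨D.hom, mono_of_injective _ fun V => ?_⟩
  rw [injective_iff_map_eq_zero]
  intro m hm
  rw [LocalHomData.hom_app D V trivial] at hm
  by_cases h : genericPoint X ∈ V
  · have h2 : cst X V (kk V m) = cst X V 0 := by rw [map_zero]; exact hm
    have h3 := cst_injective X V h h2
    rw [kk_pos V h] at h3
    have h4 : gm F V (genericPoint X) h m = 0 := hψ (by rw [h3, map_zero])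
    exact eq_zero_of_gm_generic F hF V h m h4
  · have hV : V = ⊥ := by
      by_contra hne
      apply h
      apply hgen V
      by_contra hemp
      apply hne
      ext x
      simp only [Opens.coe_bot, Set.mem_empty_iff_false, iff_false]
      intro hx
      exact hemp ⟨x, hx⟩
    subst hV
    haveI := subsingleton_sections_bot F
    exact Subsingleton.elim _ _

end Groth.Agent.S4350
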