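import Groth.Statements.S4351
import Groth.Agent.Lib.Helper17.QCAlgSub
import Groth.Agent.S4342
import Mathlib
set_option backward.isDefEq.respectTransparency.types false

set_option autoImplicit false
universe u
open QCohSup

namespace Groth.Agent.S4351
open AlgebraicGeometry CategoryTheory Opposite
open Groth.Agent.Lib.Helper17.QCAlgGen Groth.Agent.Lib.Helper17.QCAlgSub


open AlgebraicGeometry in
open CategoryTheory in
open Opposite in
/-- Case a), in the sectionwise form its proof gives. Let X be a scheme whose underlying space is
locally Noetherian and B a quasi-coherent O_X-algebra. Every section of B over an affine open U lies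
in a quasi-coherent sub-O_X-algebra of B whose sections over every affine open form an algebra of
finite type over the functions (a condition equivalent to being of finite type near every point);
hence B is the inductive limit of its quasi-coherent sub-O_X-algebras of finite type. -/
theorem result
    {X : Scheme.{u}}
    (hX : ∀ x : X, ∃ U : X.Opens, x ∈ U ∧ TopologicalSpace.NoetherianSpace (U : Set X))
    (B : RelSpec.QCAlg X)
    (U : X.affineOpens) (b : B.presheaf.obj (op (U : X.Opens))) :
    ∃ (B' : RelSpec.QCAlg X) (φ : B' ⟶ B),
      (∀ V : X.Opens, Function.Injective (φ.hom.app (op V)).hom) ∧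
      (∀ V : X.affineOpens, (B'.str.app (op (V : X.Opens))).hom.FiniteType) ∧
      b ∈ Set.range (φ.hom.app (op (U : X.Opens))).hom := by
  haveI : Coh.IsQCoh B.toModule := isQuasicoherent_toModule B
  obtain ⟨E, j, hm, hq, hft, g, hg⟩ := Groth.Agent.S4342.result hX B.toModule U
    (show B.toModule.val.obj (op (U : X.Opens)) from b)
  haveI : E.IsQuasicoherent := hq
  haveI : SheafOfModules.IsFiniteType.{u} (R := X.ringCatSheaf) E := hft
  have hb : b ∈ Subring.closure (genSet j U.1) := by
    have := jB_mem j U.1 g
    have e : jB j U.1 g = b := hg
    rwa [e] at this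
  exact ⟨subAlg j, subAlgι j, subAlgι_injective j, fun V => finiteType_subAlg j V.2,
    ⟨⟨b, locMem_of_mem_closure j U.2 hb⟩, rfl⟩⟩

end Groth.Agent.S4351
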