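import Groth.Statements.S4358
import Groth.Agent.Lib.Helper12.FComplE

set_option autoImplicit false
universe u
open FCompl

namespace Groth.Agent.S4358

/-- Affine content (the completion of X = Spec A along V(J) has as stalk ring at an open prime 𝔭 the
ring A_{S}, S = A ∖ 𝔭, realised here as the union of the images of the completed rings A_{f}, f ∉ 𝔭,
inside the completed local ring A{S⁻¹}; flatness of the canonical morphism of ringed spaces from the
completion to X is flatness of A_{S} over the local ring of X at 𝔭, equivalently over A). For A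
Noetherian and J ⊆ 𝔭, the canonical ring map A → A_{S} is flat; the hypothesis h records that A →
A{S⁻¹} takes values in A_{S}, which always holds. -/
theorem result
    (A : Type u) [CommRing A] [IsNoetherianRing A] (J 𝔭 : Ideal A) [𝔭.IsPrime] (hJ : J ≤ 𝔭)
    (h : ∀ a : A, ((algebraMap (Localization.AtPrime 𝔭) (FSch.cAtPrime A J 𝔭)).comp
      (algebraMap A (Localization.AtPrime 𝔭))) a ∈ FSch.stalkSubring A J 𝔭) :
    (((algebraMap (Localization.AtPrime 𝔭) (FSch.cAtPrime A J 𝔭)).comp
      (algebraMap A (Localization.AtPrime 𝔭))).codRestrict (FSch.stalkSubring A J 𝔭) h).Flat := by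
  haveI := Groth.Agent.Lib.Helper12.FComplE.faithfullyFlat_stalkSubring A hJ
  refine Groth.Agent.Lib.Helper12.ringHom_flat_of_comp_faithfullyFlat _
    (algebraMap (FSch.stalkSubring A J 𝔭) (FSch.cAtPrime A J 𝔭)) ?_ ?_
  · exact (RingHom.faithfullyFlat_algebraMap_iff).mpr inferInstance
  · have : (algebraMap (FSch.stalkSubring A J 𝔭) (FSch.cAtPrime A J 𝔭)).comp
        (((algebraMap (Localization.AtPrime 𝔭) (FSch.cAtPrime A J 𝔭)).comp
          (algebraMap A (Localization.AtPrime 𝔭))).codRestrict (FSch.stalkSubring A J 𝔭) h) =
        (algebraMap (Localization.AtPrime 𝔭) (FSch.cAtPrime A J 𝔭)).comp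
          (algebraMap A (Localization.AtPrime 𝔭)) := by
      ext a; rfl
    rw [this]
    refine RingHom.Flat.comp ?_ ?_
    · rw [RingHom.flat_algebraMap_iff]
      infer_instance
    · rw [RingHom.flat_algebraMap_iff]
      exact AdicCompletion.flat_of_isNoetherian _

end Groth.Agent.S4358
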