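import Groth.Statements.S4364
-- import your own Groth.Agent.* helpers here

set_option autoImplicit false
universe u
open FinCond

namespace Groth.Agent.S4364

open AlgebraicGeometry CategoryTheory in
set_option backward.isDefEq.respectTransparency.types false in
theorem eq_of_appLE_eq {X Y : Scheme.{u}} (f g : X ⟶ Y) (V : Y.Opens) (hV : IsAffineOpen V)
    (U : X.Opens) (hUf : U ≤ f ⁻¹ᵁ V) (hUg : U ≤ g ⁻¹ᵁ V)
    (h : f.appLE V U hUf = g.appLE V U hUg) : U.ι ≫ f = U.ι ≫ g := by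
  rw [← Scheme.Hom.resLE_comp_ι _ hUf, ← Scheme.Hom.resLE_comp_ι _ hUg]
  congr 1
  have : IsAffine V := hV
  suffices ∀ (U₀ V₀) (eU : U = U₀) (eV : V = V₀),
      f.appLE V₀ U₀ (eU ▸ eV ▸ hUf) = g.appLE V₀ U₀ (eU ▸ eV ▸ hUg) by
    rw [← cancel_mono V.toScheme.isoSpec.hom]
    simp only [Scheme.isoSpec, asIso_hom, Scheme.toSpecΓ_naturality,
      Scheme.Hom.app_eq_appLE, Scheme.Hom.resLE_appLE]
    congr 2
    apply this <;> simp
  rintro U V rfl rfl
  exact h

open AlgebraicGeometry in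
open CategoryTheory in
/-- Let X and Y be S-schemes with Y locally of finite type over S, and let f, g : X -> Y be S-morphisms.
If f x = g x for some point x and the two induced homomorphisms of local rings O_{Y, f x} -> O_{X,
x} coincide, then f and g coincide on an open neighbourhood of x. No condition is imposed on X. (The
published statement assumes Y of finite type over S; this row assumes Y only locally of finite type
over S, which is all the published proof uses.) -/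
theorem result
    {X Y S : Scheme.{u}} (sX : X ⟶ S) (sY : Y ⟶ S) [LocallyOfFiniteType sY]
    (f g : X ⟶ Y) (hf : f ≫ sY = sX) (hg : g ≫ sY = sX) {x : X} (e : f x = g x)
    (H : f.stalkMap x =
      Y.presheaf.stalkSpecializes (Inseparable.of_eq e.symm).specializes ≫ g.stalkMap x) :
    ∃ U : X.Opens, x ∈ U ∧ U.ι ≫ f = U.ι ≫ g := by
  obtain ⟨_, ⟨W : S.Opens, hW, rfl⟩, hxW, -⟩ :=
    S.isBasis_affineOpens.exists_subset_of_mem_open (Set.mem_univ (sY (f x))) isOpen_univ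
  obtain ⟨_, ⟨V : Y.Opens, hV, rfl⟩, hxV, hVW⟩ :=
    Y.isBasis_affineOpens.exists_subset_of_mem_open
      (show f x ∈ (sY ⁻¹ᵁ W : Set Y) from hxW) (sY ⁻¹ᵁ W).isOpen
  have hxV' : g x ∈ V := e ▸ hxV
  obtain ⟨_, ⟨U₀ : X.Opens, hU₀, rfl⟩, hxU₀, hU₀V⟩ :=
    X.isBasis_affineOpens.exists_subset_of_mem_open
      (show x ∈ ((f ⁻¹ᵁ V ⊓ g ⁻¹ᵁ V : X.Opens) : Set X) from ⟨hxV, hxV'⟩)
      (f ⁻¹ᵁ V ⊓ g ⁻¹ᵁ V).isOpen
  have hU₀f : U₀ ≤ f ⁻¹ᵁ V := fun y hy => (hU₀V hy).1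
  have hU₀g : U₀ ≤ g ⁻¹ᵁ V := fun y hy => (hU₀V hy).2
  have hft : (sY.appLE W V hVW).hom.FiniteType := sY.finiteType_appLE hW hV hVW
  have hgerm : f.appLE V U₀ hU₀f ≫ X.presheaf.germ U₀ x hxU₀ =
      g.appLE V U₀ hU₀g ≫ X.presheaf.germ U₀ x hxU₀ := by
    simp only [Scheme.Hom.appLE, Category.assoc, X.presheaf.germ_res', ← Scheme.Hom.germ_stalkMap, H]
    simp only [TopCat.Presheaf.germ_stalkSpecializes_assoc, Scheme.Hom.germ_stalkMap]
  have key : ∀ t : Finset Γ(Y, V), ∃ U : X.Opens, x ∈ U ∧ ∃ hU : U ≤ U₀, ∀ b ∈ t,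
      (f.appLE V U (hU.trans hU₀f)).hom b = (g.appLE V U (hU.trans hU₀g)).hom b := by
    intro t
    classical
    induction t using Finset.induction_on with
    | empty => exact ⟨U₀, hxU₀, le_rfl, by simp⟩
    | insert b t hb ih =>
      obtain ⟨U₁, hxU₁, hU₁, h₁⟩ := ih
      have hb : X.presheaf.germ U₀ x hxU₀ ((f.appLE V U₀ hU₀f).hom b) =
          X.presheaf.germ U₀ x hxU₀ ((g.appLE V U₀ hU₀g).hom b) :=
        congr($(hgerm).hom b)
      obtain ⟨U₂, hxU₂, i₁, i₂, h₂⟩ := TopCat.Presheaf.germ_eq _ x hxU₀ hxU₀ _ _ hb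
      refine ⟨U₁ ⊓ U₂, ⟨hxU₁, hxU₂⟩, inf_le_left.trans hU₁, ?_⟩
      intro c hc
      have e1 : f.appLE V (U₁ ⊓ U₂) ((inf_le_left.trans hU₁).trans hU₀f) =
          f.appLE V U₀ hU₀f ≫ X.presheaf.map i₁.op ≫
            X.presheaf.map (homOfLE (inf_le_right : U₁ ⊓ U₂ ≤ U₂)).op := by
        rw [← Functor.map_comp, Scheme.Hom.appLE_map]
      have e2 : g.appLE V (U₁ ⊓ U₂) ((inf_le_left.trans hU₁).trans hU₀g) =
          g.appLE V U₀ hU₀g ≫ X.presheaf.map i₂.op ≫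
            X.presheaf.map (homOfLE (inf_le_right : U₁ ⊓ U₂ ≤ U₂)).op := by
        rw [← Functor.map_comp, Scheme.Hom.appLE_map]
      have e3 : f.appLE V (U₁ ⊓ U₂) ((inf_le_left.trans hU₁).trans hU₀f) =
          f.appLE V U₁ (hU₁.trans hU₀f) ≫
            X.presheaf.map (homOfLE (inf_le_left : U₁ ⊓ U₂ ≤ U₁)).op := by
        rw [Scheme.Hom.appLE_map]
      have e4 : g.appLE V (U₁ ⊓ U₂) ((inf_le_left.trans hU₁).trans hU₀g) =
          g.appLE V U₁ (hU₁.trans hU₀g) ≫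
            X.presheaf.map (homOfLE (inf_le_left : U₁ ⊓ U₂ ≤ U₁)).op := by
        rw [Scheme.Hom.appLE_map]
      rcases Finset.mem_insert.mp hc with rfl | hc
      · rw [e1, e2]
        simp only [CommRingCat.hom_comp, RingHom.comp_apply]
        exact congrArg _ h₂
      · rw [e3, e4]
        simp only [CommRingCat.hom_comp, RingHom.comp_apply]
        rw [h₁ c hc]
  letI := (sY.appLE W V hVW).hom.toAlgebra
  obtain ⟨t, ht⟩ := hft.out
  obtain ⟨U, hxU, hU, hUt⟩ := key t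
  refine ⟨U, hxU, eq_of_appLE_eq f g V hV U (hU.trans hU₀f) (hU.trans hU₀g) ?_⟩
  have h1 : sY.appLE W V hVW ≫ f.appLE V U (hU.trans hU₀f) =
      sY.appLE W V hVW ≫ g.appLE V U (hU.trans hU₀g) := by
    rw [Scheme.Hom.appLE_comp_appLE, Scheme.Hom.appLE_comp_appLE]
    simp only [hf, hg]
  ext b
  have hb : b ∈ Algebra.adjoin Γ(S, W) (t : Set Γ(Y, V)) := ht ▸ Algebra.mem_top
  induction hb using Algebra.adjoin_induction with
  | mem b hb => exact hUt b hb
  | algebraMap r => exact congr($(h1).hom r)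
  | add a b _ _ ha hb => rw [map_add, map_add, ha, hb]
  | mul a b _ _ ha hb => rw [map_mul, map_mul, ha, hb]

end Groth.Agent.S4364
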