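import Groth.Statements.S4369
-- import your own Groth.Agent.* helpers here

set_option autoImplicit false
universe u
open AffSch

namespace Groth.Agent.S4369

/-- Let φ : A' -> A be a ring homomorphism such that every f in A can be written f = h φ(f') with h
invertible in A (this holds in particular when φ is surjective). Then the associated continuous map
Spec A -> Spec A' is a homeomorphism onto its image. -/
theorem result
    {A' A : Type u} [CommRing A'] [CommRing A] (φ : A' →+* A)
    (h : ∀ f : A, ∃ (u : Aˣ) (f' : A'), f = (u : A) * φ f') :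
    Topology.IsEmbedding (PrimeSpectrum.comap φ) := by
  have key : ∀ (p : Ideal A) (f : A), f ∈ p ↔ ∃ f' : A', φ f' ∈ p ∧ ∃ u : Aˣ, f = (u : A) * φ f' := by
    intro p f
    constructor
    · intro hf
      obtain ⟨u, f', rfl⟩ := h f
      refine ⟨f', ?_, u, rfl⟩
      have : φ f' = (↑u⁻¹ : A) * ((u : A) * φ f') := by
        rw [← mul_assoc, Units.inv_mul, one_mul]
      rw [this]
      exact p.mul_mem_left _ hf
    · rintro ⟨f', hf', u, rfl⟩
      exact p.mul_mem_left _ hf'
  refine (Topology.isEmbedding_iff _).2 ⟨⟨?_⟩, ?_⟩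
  · refine TopologicalSpace.ext_isClosed fun Z => ?_
    simp_rw [isClosed_induced_iff, PrimeSpectrum.isClosed_iff_zeroLocus, @eq_comm _ _ (PrimeSpectrum.zeroLocus _),
      exists_exists_eq_and, PrimeSpectrum.preimage_comap_zeroLocus]
    constructor
    · rintro ⟨s, rfl⟩
      refine ⟨φ ⁻¹' (Ideal.span s : Set A), ?_⟩
      ext x
      simp only [PrimeSpectrum.mem_zeroLocus, Set.subset_def, Set.mem_image, Set.mem_preimage,
        SetLike.mem_coe, forall_exists_index, and_imp]
      constructor
      · intro hx f hf
        rw [key]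
        obtain ⟨f', hf', u, hu⟩ := (key (Ideal.span s) f).1 (Ideal.subset_span hf)
        exact ⟨f', hx _ f' hf' rfl, u, hu⟩
      · rintro hx _ f' hf' rfl
        have : Ideal.span s ≤ x.asIdeal := Ideal.span_le.2 hx
        exact this hf'
    · rintro ⟨s, rfl⟩
      exact ⟨_, rfl⟩
  · intro p q hpq
    ext f
    have hpq' : ∀ f', φ f' ∈ p.asIdeal ↔ φ f' ∈ q.asIdeal := by
      intro f'
      have := congrArg (fun x : PrimeSpectrum A' => f' ∈ x.asIdeal) hpq
      simpa using this
    rw [key p.asIdeal, key q.asIdeal]
    simp_rw [hpq']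

end Groth.Agent.S4369
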