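import Groth.Statements.S4371
import Groth.Agent.Lib.Helper7.HartogsAffine

set_option autoImplicit false
universe u
open RedSep

namespace Groth.Agent.S4371

open AlgebraicGeometry in
open CategoryTheory in
/-- Let K be a field and Y = Spec K[s, t] the affine plane over K. The open subset D(s) ∪ D(t) of Y, the
complement of the closed point s = t = 0, is not affine. -/
theorem result
    (K : Type u) [Field K] :
    ¬ IsAffineOpen (X := Spec (CommRingCat.of (MvPolynomial (Fin 2) K)))
      (PrimeSpectrum.basicOpen (MvPolynomial.X 0 : MvPolynomial (Fin 2) K) ⊔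
        PrimeSpectrum.basicOpen (MvPolynomial.X 1 : MvPolynomial (Fin 2) K)) := by
  classical
  set J : Ideal (MvPolynomial (Fin 2) K) :=
    Ideal.span {(MvPolynomial.X 0 : MvPolynomial (Fin 2) K), MvPolynomial.X 1} with hJ
  have hU : (PrimeSpectrum.basicOpen (MvPolynomial.X 0 : MvPolynomial (Fin 2) K) ⊔
      PrimeSpectrum.basicOpen (MvPolynomial.X 1 : MvPolynomial (Fin 2) K) :
        (Spec (CommRingCat.of (MvPolynomial (Fin 2) K))).Opens) =
      EGA4.openCompl (MvPolynomial (Fin 2) K) J := by
    ext x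
    change (MvPolynomial.X 0 ∉ x.asIdeal ∨ MvPolynomial.X 1 ∉ x.asIdeal) ↔ ¬ J ≤ x.asIdeal
    rw [hJ, Ideal.span_le]
    constructor
    · rintro (h | h) hle
      · exact h (hle (by simp))
      · exact h (hle (by simp))
    · intro h
      by_contra hcon
      simp only [not_or, not_not] at hcon
      apply h
      intro y hy
      rcases hy with rfl | rfl
      · exact hcon.1
      · exact hcon.2
  rw [hU]
  refine Groth.Agent.Lib.Helper7.HartogsAffine.not_isAffineOpen_openCompl J
    (MvPolynomial.X 0) (MvPolynomial.X 1) rfl ?_ ?_ ?_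
  · exact (isRegular_of_ne_zero (MvPolynomial.X_ne_zero 0)).left.isSMulRegular
  · rintro u ⟨w, hw⟩
    have hdvd : (MvPolynomial.X 0 : MvPolynomial (Fin 2) K) ∣ MvPolynomial.X 1 * u :=
      ⟨w, by simpa [smul_eq_mul] using hw⟩
    rcases (MvPolynomial.X_prime (R := K) (i := (0 : Fin 2))).dvd_or_dvd hdvd with h | h
    · exact absurd (MvPolynomial.X_dvd_X.mp h) (by decide)
    · obtain ⟨w', hw'⟩ := h
      exact ⟨w', by simpa [smul_eq_mul] using hw'⟩
  · intro htop
    have h1 : (1 : MvPolynomial (Fin 2) K) ∈ J := by rw [htop]; trivial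
    obtain ⟨x, y, hxy⟩ := Ideal.mem_span_pair.mp h1
    have h2 := congrArg (MvPolynomial.eval (fun _ : Fin 2 => (0 : K))) hxy
    simp at h2

end Groth.Agent.S4371
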