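import Groth.Statements.S4378
-- import your own Groth.Agent.* helpers here

set_option autoImplicit false
universe u
open CategoryTheory CategoryTheory.Limits AlgebraicGeometry
open EGA2

namespace Groth.Agent.S4378

theorem isClosedMap_of_square {α β γ δ : Type*} [TopologicalSpace α] [TopologicalSpace β]
    [TopologicalSpace γ] [TopologicalSpace δ] (a : α → β) (F : β → δ) (p : α → γ) (G : γ → δ)
    (hcomm : ∀ z, F (a z) = G (p z)) (hG : Function.Injective G) (hGc : Continuous G)
    (ha : IsClosedMap a) (hF : IsClosedMap F) : IsClosedMap p := by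
  intro Z hZ
  have : p '' Z = G ⁻¹' (F '' (a '' Z)) := by
    ext y
    constructor
    · rintro ⟨z, hz, rfl⟩
      exact ⟨a z, ⟨z, hz, rfl⟩, hcomm z⟩
    · rintro ⟨_, ⟨z, hz, rfl⟩, h⟩
      exact ⟨z, hz, hG ((hcomm z).symm.trans h)⟩
  rw [this]
  exact (hF _ (ha _ hZ)).preimage hGc

/-- Let q : Y → S be separated and of finite type, and f : X → Y a morphism such that X is also
separated and of finite type over S through f ≫ q. Then f is proper if and only if for every scheme
S' over S the morphism X ×_S S' → Y ×_S S' induced by f is closed (as a map of topological spaces). -/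
theorem result {X Y S : Scheme.{u}} (q : Y ⟶ S) (f : X ⟶ Y)
    [IsSeparated q] [LocallyOfFiniteType q] [QuasiCompact q]
    [IsSeparated (f ≫ q)] [LocallyOfFiniteType (f ≫ q)] [QuasiCompact (f ≫ q)] :
    IsProper f ↔ ∀ (S' : Scheme.{u}) (g : S' ⟶ S),
      IsClosedMap (pullback.map (f ≫ q) g q g f (𝟙 S') (𝟙 S) (Category.comp_id (f ≫ q))
        ((Category.comp_id g).trans (Category.id_comp g).symm)).base := by
  constructor
  · intro hf S' g
    have : IsProper (pullback.map (f ≫ q) g q g f (𝟙 S') (𝟙 S) (Category.comp_id (f ≫ q))
        ((Category.comp_id g).trans (Category.id_comp g).symm)) :=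
      MorphismProperty.pullbackMap (P := @IsProper) hf (inferInstance : IsProper (𝟙 S')) rfl
        (Category.id_comp g).symm
    exact Scheme.Hom.isClosedMap _
  · intro H
    have : IsSeparated f := IsSeparated.of_comp f q
    have : LocallyOfFiniteType f := locallyOfFiniteType_of_comp f q
    have : QuasiCompact f := QuasiCompact.of_comp f q
    have : UniversallyClosed f := by
      rw [universallyClosed_eq]
      apply MorphismProperty.universally_mk'
      intro T g' _
      let a : pullback g' f ⟶ pullback (f ≫ q) (g' ≫ q) :=
        (pullbackSymmetry g' f).hom ≫ pullback.mapDesc f g' q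
      let G : T ⟶ pullback q (g' ≫ q) := pullback.lift g' (𝟙 T) (by simp)
      have hcomm : a ≫ pullback.map (f ≫ q) (g' ≫ q) q (g' ≫ q) f (𝟙 T) (𝟙 S)
          (Category.comp_id (f ≫ q))
          ((Category.comp_id (g' ≫ q)).trans (Category.id_comp (g' ≫ q)).symm) =
          pullback.fst g' f ≫ G := by
        apply pullback.hom_ext
        · simp only [a, G, Category.assoc, pullback.lift_fst, pullback.lift_fst_assoc,
            pullbackSymmetry_hom_comp_fst_assoc, Category.comp_id]
          exact pullback.condition.symm
        · simp only [a, G, Category.assoc, pullback.lift_snd, pullback.lift_snd_assoc,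
            pullbackSymmetry_hom_comp_snd, Category.comp_id]
      have hGs : G ≫ pullback.snd q (g' ≫ q) = 𝟙 T := pullback.lift_snd _ _ _
      refine isClosedMap_of_square a (pullback.map (f ≫ q) (g' ≫ q) q (g' ≫ q) f (𝟙 T) (𝟙 S)
          (Category.comp_id (f ≫ q))
          ((Category.comp_id (g' ≫ q)).trans (Category.id_comp (g' ≫ q)).symm)) _ G ?_ ?_
          G.continuous a.isClosedEmbedding.isClosedMap (H T (g' ≫ q))
      · intro z
        rw [← Scheme.Hom.comp_apply, ← Scheme.Hom.comp_apply, hcomm]
      · intro x y hxy
        have := congrArg (pullback.snd q (g' ≫ q)) hxy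
        rwa [← Scheme.Hom.comp_apply, ← Scheme.Hom.comp_apply, hGs] at this
    exact {}

end Groth.Agent.S4378
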