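import Groth.Statements.S4383
import Groth.Agent.Lib.Helper17.KeyOver
import Groth.Agent.Lib.Helper17.FTLimit
import Groth.Agent.Lib.Helper17.TensorQC
import Groth.Agent.Lib.Helper28.RestrictAmple
import Groth.Agent.Lib.Helper28.AmpleSep
import Groth.Agent.Lib.Helper28.AmpleGG
import Mathlib
set_option backward.isDefEq.respectTransparency.types false

set_option autoImplicit false
universe u
open CategoryTheory CategoryTheory.Limits AlgebraicGeometry
open EGA2

namespace Groth.Agent.S4383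
open Groth.Agent.Lib.Helper28 Groth.Agent.Lib.Helper28.QCohLoc Groth.Agent.Lib.Helper28.GenLocus
  Groth.Agent.Lib.Helper28.TensorGen Groth.Agent.Lib.Helper28.InvTensor Groth.Agent.Lib.Helper28.IdealDual
  Groth.Agent.Lib.Helper28.AmpleH1
  Groth.Agent.Lib.Helper17 Groth.Agent.Lib.Helper17.GGStalk Groth.Agent.Lib.Helper17.IdealOfSub
  Groth.Agent.Lib.Helper17.QCAlgGen Groth.Agent.Lib.Helper17.CounitStalk Groth.Agent.Lib.Helper17.KeyOver
  TopologicalSpace Opposite

/-- a section `s` of an invertible module `N` over an open `W` which generates near `x ∈ W` and generates only inside an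
affine open `U ⊆ W` gives a section of `N|_W` whose non-vanishing locus is an affine neighbourhood of `x` -/
theorem exists_restrict_section {X : Scheme.{u}} (N : X.Modules) (hN : PicF.IsInvertible N) (W U : X.Opens)
    (hUW : U ≤ W) (hU : IsAffineOpen U) (x' : (↑W : Scheme.{u})) (s : Γ(N, W))
    (h1 : ∃ (W₀ : X.Opens) (h₀ : W₀ ≤ W), W.ι x' ∈ W₀ ∧ IsGen N W₀ (res N h₀ s))
    (h2 : ∀ (W₁ : X.Opens) (h₁ : W₁ ≤ W), IsGen N W₁ (res N h₁ s) → W₁ ≤ U) :
    ∃ s' : Coh.structureModule (↑W : Scheme.{u}) ⟶ N.restrict W.ι,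
      x' ∈ CohB1.genLocus _ s' ∧ IsAffineOpen (CohB1.genLocus _ s') := by
  have hN' : PicF.IsInvertible (N.restrict W.ι) := AmpleIso.isInvertible_restrict W.ι N hN
  obtain ⟨s', hs'⟩ : ∃ s' : Coh.structureModule (↑W : Scheme.{u}) ⟶ N.restrict W.ι,
      secOf s' = (show Γ(N.restrict W.ι, ⊤) from res N (InvGen.image_le W ⊤) s) :=
    ⟨TwistGen.ofSection _ _, secOf_ofSection _⟩
  have hres : ∀ (V : (↑W : Scheme.{u}).Opens), res (N.restrict W.ι) (le_top : V ≤ ⊤) (secOf s') =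
      (show Γ(N.restrict W.ι, V) from res N (InvGen.image_le W V) s) := by
    intro V
    rw [hs', restrict_res]
    exact res_res N _ _ s
  refine ⟨s', ?_, ?_⟩
  · obtain ⟨W₀, h₀, hxW₀, hgen⟩ := h1
    have hle : W.ι ''ᵁ (W.ι ⁻¹ᵁ W₀) ≤ W₀ := W.ι.image_preimage_le W₀
    have hg1 : IsGen N (W.ι ''ᵁ (W.ι ⁻¹ᵁ W₀)) (res N (InvGen.image_le W _) s) := by
      have := hgen.res hle
      rwa [res_res] at this
    have hg2 := isGen_restrict_of_isGen N W (V := W.ι ⁻¹ᵁ W₀) _ hg1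
    refine le_genLocus_of_isGen_res s' (W.ι ⁻¹ᵁ W₀) ?_ hxW₀
    rw [hres]
    exact hg2
  · have hg := isGen_genLocus s'
    rw [hres] at hg
    have hg' := isGen_of_isGen_restrict N W _ hg
    have hle := h2 (W.ι ''ᵁ CohB1.genLocus _ s') (InvGen.image_le W _) hg'
    have hle' : CohB1.genLocus _ s' ≤ W.ι ⁻¹ᵁ U := by
      intro z hz
      exact hle ⟨z, hz, rfl⟩
    have haff : IsAffineOpen (W.ι ⁻¹ᵁ U) := hU.preimage_of_isOpenImmersion W.ι (by
      rw [Scheme.Opens.opensRange_ι]; exact hUW)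
    have h6 := isAffineOpen_genLocus_inf hN' s' haff
    rwa [inf_eq_left.2 hle'] at h6


/-- Let X be a quasi-compact separated scheme, f : X → Y a separated quasi-compact morphism and L an
invertible O_X-module. Suppose that for every quasi-coherent submodule J of O_X of finite type there
is n > 0 such that the canonical morphism f^*(f_*(J ⊗ L^{⊗n})) → J ⊗ L^{⊗n} is an epimorphism. Then
L is ample relative to f. (The published statement also allows X to be a scheme whose underlying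
space is Noetherian; this row assumes X quasi-compact and separated.) -/
theorem result {X Y : Scheme.{u}} [CompactSpace X] [X.IsSeparated] (f : X ⟶ Y)
    [IsSeparated f] [QuasiCompact f] (L : X.Modules) (hL : PicF.IsInvertible L)
    (h : ∀ (J : X.Modules) (i : J ⟶ Coh.structureModule X), Mono i → Coh.IsQCoh J → CohB1.IsFT J →
      ∃ n : ℕ, 0 < n ∧
        Epi ((Scheme.Modules.pullbackPushforwardAdjunction f).counit.app (CohB1.tensorMod J (CohB1.tensorPow L n)))) :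
    RelAmple.IsRelAmple f L := by
  refine ⟨inferInstance, fun V => ?_⟩
  have hWc : IsCompact ((f ⁻¹ᵁ V.1 : X.Opens) : Set X) :=
    (quasiCompact_iff_forall_isAffineOpen (f := f)).1 inferInstance V.1 V.2
  have hWqs : IsQuasiSeparated ((f ⁻¹ᵁ V.1 : X.Opens) : Set X) := IsQuasiSeparated.of_quasiSeparatedSpace _
  have hL' : PicF.IsInvertible (L.restrict (f ⁻¹ᵁ V.1).ι) := AmpleIso.isInvertible_restrict (f ⁻¹ᵁ V.1).ι L hL
  refine ⟨hL', isCompact_iff_compactSpace.1 hWc, fun x' => ?_⟩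
  obtain ⟨_, ⟨U, (hU : IsAffineOpen U), rfl⟩, hxU, hUW⟩ :=
    X.isBasis_affineOpens.exists_subset_of_mem_open
      (show (f ⁻¹ᵁ V.1).ι x' ∈ ((f ⁻¹ᵁ V.1 : X.Opens) : Set X) from x'.2) (f ⁻¹ᵁ V.1).2
  have hUW' : U ≤ f ⁻¹ᵁ V.1 := hUW
  let Z : Closeds X := ⟨(U : Set X)ᶜ, U.isOpen.isClosed_compl⟩
  obtain ⟨IZ, hIZ⟩ : ∃ IZ : X.IdealSheafData, IZ = Scheme.IdealSheafData.vanishingIdeal Z := ⟨_, rfl⟩
  have hsupp : (IZ.support : Set X) = (U : Set X)ᶜ := by
    rw [hIZ]; exact Scheme.IdealSheafData.coe_support_vanishingIdeal _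
  obtain ⟨t, ht⟩ := exists_iota_eq IZ (1 : Γ(X, U)) (subschemeι_app_eq_zero_of_disjoint IZ U
    (fun y hy hys => by
      have : y ∈ (IZ.support : Set X) := hys
      rw [hsupp] at this
      exact this hy) 1)
  haveI : (ClSub.idealMod IZ).IsQuasicoherent := inferInstance
  obtain ⟨G, j, hj, hGq, hGft, hg⟩ := exists_sub_through (ClSub.idealMod IZ) hU PUnit.{u+1} (fun _ => t)
  obtain ⟨g, hg⟩ := hg PUnit.unit
  haveI := hGq
  haveI := hGft
  haveI := hj
  obtain ⟨j', hj'⟩ : ∃ j' : G ⟶ Coh.structureModule X, j' = j ≫ ClSub.idealModι IZ := ⟨_, rfl⟩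
  have hmono : Mono j' := by
    rw [hj']
    haveI : Mono (ClSub.idealModι IZ) := inferInstanceAs (Mono (ClSub.idealModι IZ))
    exact mono_comp _ _
  have hval : ∀ (V' : X.Opens) (g' : Γ(G, V')), val G j' g' = iota IZ (j.app V' g') := by
    intro V' g'; rw [hj']; rfl
  obtain ⟨n, hn, hepi⟩ := h G j' hmono hGq hGft
  obtain ⟨n', rfl⟩ := Nat.exists_eq_succ_of_ne_zero hn.ne'
  have hNinv : PicF.IsInvertible (CohB1.tensorPow L (n' + 1)) := isInvertible_tensorPow hL _
  haveI : (CohB1.tensorPow L (n' + 1)).IsQuasicoherent := InvQC.isQuasicoherent_of_isInvertible _ hNinv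
  have hspan := span_germs_preimage_eq_top f (CohB1.tensorMod G (CohB1.tensorPow L (n' + 1))) hepi V.1 V.2
    hWc hWqs ((f ⁻¹ᵁ V.1).ι x') x'.2
  obtain ⟨s, hs1, hs2⟩ := exists_section_over (CohB1.tensorPow L (n' + 1)) hNinv G j' (f ⁻¹ᵁ V.1) U hUW'
    ((f ⁻¹ᵁ V.1).ι x') hxU g (by rw [hval, hg]; exact ht)
    (fun z _ hzU V' y => by
      rw [hval]
      refine not_mem_basicOpen_iota IZ _ z ?_
      show z ∈ (IZ.support : Set X)
      rw [hsupp]
      exact hzU)
    (fun t : Γ(CohB1.tensorMod G (CohB1.tensorPow L (n' + 1)), f ⁻¹ᵁ V.1) => t) hspan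
  obtain ⟨s', hs'1, hs'2⟩ := exists_restrict_section (CohB1.tensorPow L (n' + 1)) hNinv (f ⁻¹ᵁ V.1) U hUW' hU x' s
    hs1 hs2
  obtain ⟨e⟩ := exists_restrict_tensorPow_iso L (f ⁻¹ᵁ V.1) hL' (n' + 1)
  refine ⟨n', s' ≫ e.hom, ?_, ?_⟩
  · rw [AmpleUnit.genLocus_comp_iso]; exact hs'1
  · rw [AmpleUnit.genLocus_comp_iso]; exact hs'2

end Groth.Agent.S4383
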