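import Groth.Statements.S4382
import Groth.Agent.S4383
import Groth.Agent.Lib.Helper28.CounitSerre
import Mathlib
set_option backward.isDefEq.respectTransparency.types false

set_option autoImplicit false
universe u
open CategoryTheory CategoryTheory.Limits AlgebraicGeometry
open EGA2

namespace Groth.Agent.S4382
open Groth.Agent.Lib.Helper28 Groth.Agent.Lib.Helper28.QCohLoc Groth.Agent.Lib.Helper28.GenLocus
  Groth.Agent.Lib.Helper28.PullbackInv Groth.Agent.Lib.Helper28.FinType Groth.Agent.Lib.Helper28.CounitSerre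
  TopologicalSpace Opposite

/-- helper28's relative Serre theorem, with the source (instead of the base) quasi-compact -/
theorem exists_forall_epi_counit' {X Y : Scheme.{u}} [CompactSpace X] (f : X ⟶ Y) [QuasiCompact f]
    (L : X.Modules) (hamp : RelAmple.IsRelAmple f L) (F : X.Modules) (hF : Coh.IsCoh F) :
    ∃ N : ℕ, ∀ n : ℕ, N ≤ n →
      Epi ((Scheme.Modules.pullbackPushforwardAdjunction f).counit.app
        (CohB1.tensorMod F (CohB1.tensorPow L n))) := by
  classical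
  have : F.IsQuasicoherent := hF.1
  have : SheafOfModules.IsFiniteType.{u} (R := X.ringCatSheaf) F := hF.2
  have hcovY : ∀ y : Y, ∃ V : Y.affineOpens, y ∈ V.1 := by
    intro y
    obtain ⟨V, hV, hyV, -⟩ := Y.isBasis_affineOpens.exists_subset_of_mem_open (Set.mem_univ y) isOpen_univ
    obtain ⟨V', hV', rfl⟩ := hV
    exact ⟨⟨V', hV'⟩, hyV⟩
  obtain ⟨t, ht⟩ := isCompact_univ.elim_finite_subcover
    (fun V : Y.affineOpens => ((f ⁻¹ᵁ V.1 : X.Opens) : Set X))
    (fun V => (f ⁻¹ᵁ V.1).isOpen) (fun x _ => by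
      obtain ⟨V, hV⟩ := hcovY (f x)
      exact Set.mem_iUnion.2 ⟨V, hV⟩)
  have htmem : ∀ x : X, ∃ V ∈ t, f x ∈ V.1 := by
    intro x
    have := ht (Set.mem_univ x)
    simp only [Set.mem_iUnion] at this
    obtain ⟨V, hVt, hxV⟩ := this
    exact ⟨V, hVt, hxV⟩
  have hS : ∀ V : Y.affineOpens, ∃ n₀ : ℕ, ∀ n : ℕ, n₀ ≤ n → ∀ x : (↑(f ⁻¹ᵁ V.1) : Scheme.{u}),
      GGAt (CohB1.tensorMod (F.restrict (f ⁻¹ᵁ V.1).ι) (CohB1.tensorPow (L.restrict (f ⁻¹ᵁ V.1).ι) n)) x := by
    intro V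
    have h1 := hamp.2 V
    have : (↑(f ⁻¹ᵁ V.1) : Scheme.{u}).IsSeparated := isSeparated_of_isAmple h1
    have hqs : QuasiSeparatedSpace ((↑(f ⁻¹ᵁ V.1) : Scheme.{u})) := inferInstance
    have hFU : Coh.IsCoh (F.restrict (f ⁻¹ᵁ V.1).ι) :=
      ⟨(inferInstance : ((Scheme.Modules.restrictFunctor (f ⁻¹ᵁ V.1).ι).obj F).IsQuasicoherent),
        isFiniteType_restrict F (f ⁻¹ᵁ V.1)⟩
    exact exists_forall_ggAt h1 _ hFU
  choose n₀ hn₀ using hS
  refine ⟨t.sup n₀, fun n hn => ?_⟩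
  apply epi_of_locally_in_range
  intro U₀ y pt hpt
  obtain ⟨V, hVt, hptV⟩ := htmem pt
  have hnV : n₀ V ≤ n := (Finset.le_sup (f := n₀) hVt).trans hn
  have hgg := hn₀ V n hnV ⟨pt, hptV⟩
  have hLU : PicF.IsInvertible (L.restrict (f ⁻¹ᵁ V.1).ι) := (hamp.2 V).1
  have tw2 := (IsTwist.refl F L).tensorPow n
  have twU := isTwist_restrict tw2 (f ⁻¹ᵁ V.1)
  have tw3 := (IsTwist.refl (F.restrict (f ⁻¹ᵁ V.1).ι) (L.restrict (f ⁻¹ᵁ V.1).ι)).tensorPow n
  obtain ⟨ψ, -⟩ := tw3.exists_iso twU hLU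
  exact mem_range_counit_of_ggAt f _ V.1 ⟨pt, hptV⟩ (hgg.of_iso ψ) U₀ y hpt


/-- Let X be a quasi-compact separated scheme, f : X → Y a separated quasi-compact morphism and L an
invertible O_X-module. Then L is ample relative to f if and only if for every quasi-coherent
O_X-module F of finite type there is n₀ > 0 such that for every n ≥ n₀ the canonical morphism
f^*(f_*(F ⊗ L^{⊗n})) → F ⊗ L^{⊗n} (the counit of the adjunction between f^* and f_*) is an
epimorphism. (The published statement also allows X to be a scheme whose underlying space is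
Noetherian; this row assumes X quasi-compact and separated.) -/
theorem result {X Y : Scheme.{u}} [CompactSpace X] [X.IsSeparated] (f : X ⟶ Y)
    [IsSeparated f] [QuasiCompact f] (L : X.Modules) (hL : PicF.IsInvertible L) :
    RelAmple.IsRelAmple f L ↔ ∀ F : X.Modules, Coh.IsQCoh F → CohB1.IsFT F →
      ∃ n₀ : ℕ, 0 < n₀ ∧ ∀ n : ℕ, n₀ ≤ n →
        Epi ((Scheme.Modules.pullbackPushforwardAdjunction f).counit.app (CohB1.tensorMod F (CohB1.tensorPow L n))) := by
  constructor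
  · intro hamp F hFq hFft
    obtain ⟨N, hN⟩ := exists_forall_epi_counit' f L hamp F ⟨hFq, hFft⟩
    exact ⟨N + 1, Nat.succ_pos _, fun n hn => hN n (Nat.le_of_succ_le hn)⟩
  · intro h
    refine Groth.Agent.S4383.result f L hL (fun J i _ hJq hJft => ?_)
    obtain ⟨n₀, hn₀, hepi⟩ := h J hJq hJft
    exact ⟨n₀, hn₀, hepi n₀ le_rfl⟩

end Groth.Agent.S4382
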