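import Groth.Statements.S4393
import Groth.Agent.Lib.Helper9.GradedMonomials
-- import your own Groth.Agent.* helpers here

set_option autoImplicit false
universe u
open EGA2

namespace Groth.Agent.S4393

theorem pow_le_graded {R A : Type*} [CommRing R] [CommRing A] [Algebra R A]
    (𝒜 : ℕ → Submodule R A) [GradedAlgebra 𝒜] (i n : ℕ) :
    (𝒜 i : Submodule R A) ^ n ≤ 𝒜 (n * i) := by
  induction n with
  | zero =>
    rw [pow_zero, zero_mul, Submodule.one_le]
    exact SetLike.GradedOne.one_mem
  | succ n ih =>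
    rw [pow_succ, Nat.succ_mul]
    exact (mul_le_mul_left ih _).trans
      (Submodule.mul_le.mpr fun a ha b hb => SetLike.mul_mem_graded ha hb)

/-- Let S be a ring graded in nonnegative degrees which is an S_0-algebra of finite type. Then there is
an integer h > 0 such that S_{mh} = (S_h)^m (the S_0-submodule spanned by m-fold products of
elements of S_h) for every m > 0. -/
theorem result {R A : Type u} [CommRing R] [CommRing A] [Algebra R A] (𝒜 : ℕ → Submodule R A) [GradedAlgebra 𝒜] [Algebra.FiniteType (𝒜 0) A] :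
    ∃ h : ℕ, 0 < h ∧ ∀ m : ℕ, 0 < m → 𝒜 (m * h) = (𝒜 h : Submodule R A) ^ m := by
  classical
  obtain ⟨s, hs, hs'⟩ := GradedAlgebra.exists_finset_adjoin_eq_top_and_homogeneous_ne_zero 𝒜
  choose dx hdx hxd using Subtype.forall'.mp hs'
  have hx : Algebra.adjoin (𝒜 0) (Set.range (Subtype.val : s → A)) = ⊤ := by simpa using hs
  set r := Fintype.card s with hr
  set q := ∏ i, dx i with hq
  have hqpos : 0 < q := Finset.prod_pos fun i _ => Nat.pos_of_ne_zero (hdx i)
  have hqi : ∀ i : s, q / dx i * dx i = q := fun i =>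
    Nat.div_mul_cancel (Finset.dvd_prod_of_mem dx (Finset.mem_univ i))
  -- Lemma A
  have lemA : ∀ W : ℕ, (r + 1) * q ≤ W → 𝒜 W ≤ 𝒜 q * 𝒜 (W - q) := by
    intro W hW a ha
    have hmem := Groth.Agent.Lib.Helper9.mem_span_monomials 𝒜 (Subtype.val : s → A) hx dx hxd W a ha
    clear ha
    induction hmem using Submodule.span_induction with
    | mem x hx' =>
      obtain ⟨ai, hai, rfl⟩ := hx'
      have hex : ∃ i : s, q / dx i ≤ ai i := by
        by_contra hcon
        push Not at hcon
        have h1 : ∑ i, ai i • dx i ≤ ∑ _i : s, q := by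
          refine Finset.sum_le_sum fun i _ => ?_
          rw [smul_eq_mul, ← hqi i]
          exact Nat.mul_le_mul_right _ (hcon i).le
        rw [Finset.sum_const, Finset.card_univ, smul_eq_mul, hai, ← hr] at h1
        have : (r + 1) * q = r * q + q := by ring
        omega
      obtain ⟨i, hi⟩ := hex
      have hprod : ∏ j : s, (j : A) ^ ai j =
          (i : A) ^ (q / dx i) * ((i : A) ^ (ai i - q / dx i) *
            ∏ j ∈ Finset.univ.erase i, (j : A) ^ ai j) := by
        rw [← mul_assoc, ← pow_add, Nat.add_sub_cancel' hi,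
          Finset.mul_prod_erase _ (fun j : s => (j : A) ^ ai j) (Finset.mem_univ i)]
      have hsum : ai i * dx i + ∑ j ∈ Finset.univ.erase i, ai j • dx j = W := by
        rw [← hai, ← Finset.add_sum_erase _ (fun j : s => ai j • dx j) (Finset.mem_univ i)]
        rfl
      have h1 : (i : A) ^ (q / dx i) ∈ 𝒜 q := by
        have := SetLike.pow_mem_graded (q / dx i) (hxd i)
        rwa [smul_eq_mul, hqi i] at this
      have h2 : ((i : A) ^ (ai i - q / dx i) *
            ∏ j ∈ Finset.univ.erase i, (j : A) ^ ai j) ∈ 𝒜 (W - q) := by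
        have h3 := SetLike.mul_mem_graded (SetLike.pow_mem_graded (ai i - q / dx i) (hxd i))
          (SetLike.prod_pow_mem_graded 𝒜 dx (fun j : s => (j : A)) ai
            (F := Finset.univ.erase i) fun j _ => hxd j)
        have h4 : (ai i - q / dx i) • dx i + ∑ j ∈ Finset.univ.erase i, ai j • dx j = W - q := by
          rw [smul_eq_mul, Nat.sub_mul, hqi i]
          have : q ≤ ai i * dx i := by
            rw [← hqi i]; exact Nat.mul_le_mul_right _ hi
          omega
        rwa [h4] at h3
      rw [hprod]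
      exact Submodule.mul_mem_mul h1 h2
    | zero => exact zero_mem _
    | add x y _ _ hx' hy' => exact add_mem hx' hy'
    | smul c x _ hx' =>
      rw [Algebra.smul_def]
      refine Submodule.mul_induction_on hx' ?_ ?_
      · intro y hy z hz
        rw [← mul_assoc]
        refine Submodule.mul_mem_mul ?_ hz
        have := SetLike.mul_mem_graded c.2 hy
        rwa [zero_add] at this
      · intro y z hy hz
        rw [mul_add]
        exact add_mem hy hz
  -- Lemma B
  set h := (r + 1) * q with hh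
  have lemB : ∀ k : ℕ, 𝒜 (h + k * q) ≤ (𝒜 q : Submodule R A) ^ k * 𝒜 h := by
    intro k
    induction k with
    | zero => simp
    | succ k ih =>
      have h1 : (r + 1) * q ≤ h + (k + 1) * q := Nat.le_add_right _ _
      have h2 : h + (k + 1) * q - q = h + k * q := by
        rw [Nat.succ_mul, ← add_assoc, Nat.add_sub_cancel]
      calc 𝒜 (h + (k + 1) * q) ≤ 𝒜 q * 𝒜 (h + (k + 1) * q - q) := lemA _ h1
        _ = 𝒜 q * 𝒜 (h + k * q) := by rw [h2]
        _ ≤ 𝒜 q * ((𝒜 q : Submodule R A) ^ k * 𝒜 h) := mul_le_mul_right ih _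
        _ = (𝒜 q : Submodule R A) ^ (k + 1) * 𝒜 h := by rw [pow_succ', mul_assoc]
  refine ⟨h, Nat.mul_pos (Nat.succ_pos r) hqpos, fun m hm => ?_⟩
  apply le_antisymm
  · obtain ⟨m', rfl⟩ : ∃ m', m = m' + 1 := ⟨m - 1, by omega⟩
    have e1 : (m' + 1) * h = h + ((r + 1) * m') * q := by rw [hh]; ring
    rw [e1]
    calc 𝒜 (h + ((r + 1) * m') * q) ≤ (𝒜 q : Submodule R A) ^ ((r + 1) * m') * 𝒜 h := lemB _
      _ = ((𝒜 q : Submodule R A) ^ (r + 1)) ^ m' * 𝒜 h := by rw [pow_mul]
      _ ≤ (𝒜 h : Submodule R A) ^ m' * 𝒜 h :=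
          mul_le_mul_left (pow_le_pow_left' (pow_le_graded 𝒜 q (r + 1)) m') _
      _ = (𝒜 h : Submodule R A) ^ (m' + 1) := by rw [pow_succ]
  · exact pow_le_graded 𝒜 h m

end Groth.Agent.S4393
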