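import Groth.Statements.S4394
import Groth.Agent.Lib.Helper9.GradedMonomials
-- import your own Groth.Agent.* helpers here

set_option autoImplicit false
universe u
open EGA2

namespace Groth.Agent.S4394

/-- Let S be a ring graded in nonnegative degrees which is an S_0-algebra of finite type. Then for every
integer n > 0 there is m₀ such that S_m ⊆ (S_+)^n for all m ≥ m₀. -/
theorem result {R A : Type u} [CommRing R] [CommRing A] [Algebra R A] (𝒜 : ℕ → Submodule R A) [GradedAlgebra 𝒜] [Algebra.FiniteType (𝒜 0) A]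
    (n : ℕ) (hn : 0 < n) :
    ∃ m₀ : ℕ, ∀ m : ℕ, m₀ ≤ m → (𝒜 m : Set A) ⊆ ((HomogeneousIdeal.irrelevant 𝒜).toIdeal ^ n : Ideal A) := by
  classical
  obtain ⟨s, hs, hs'⟩ := GradedAlgebra.exists_finset_adjoin_eq_top_and_homogeneous_ne_zero 𝒜
  choose dx hdx hxd using Subtype.forall'.mp hs'
  have hx : Algebra.adjoin (𝒜 0) (Set.range (Subtype.val : s → A)) = ⊤ := by simpa using hs
  refine ⟨n * (∑ i, dx i) + 1, fun m hm a ha => ?_⟩
  have hmem := Groth.Agent.Lib.Helper9.mem_span_monomials 𝒜 (Subtype.val : s → A) hx dx hxd m a ha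
  set I := (HomogeneousIdeal.irrelevant 𝒜).toIdeal with hI
  have hle : Submodule.span (𝒜 0)
      {x : A | ∃ ai : s → ℕ, ∑ i, ai i • dx i = m ∧ x = ∏ i : s, (i : A) ^ ai i} ≤
      (I ^ n).restrictScalars (𝒜 0) := by
    rw [Submodule.span_le]
    rintro _ ⟨ai, hai, rfl⟩
    show (∏ i : s, (i : A) ^ ai i) ∈ I ^ n
    have hvi : ∀ i : s, (i : A) ∈ I := fun i =>
      HomogeneousIdeal.mem_irrelevant_of_mem 𝒜 (Nat.pos_of_ne_zero (hdx i)) (hxd i)
    have h1 : (∏ i : s, (i : A) ^ ai i) ∈ ∏ i : s, I ^ ai i :=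
      Ideal.prod_mem_prod fun i _ => Ideal.pow_mem_pow (hvi i) _
    rw [Finset.prod_pow_eq_pow_sum] at h1
    refine Ideal.pow_le_pow_right ?_ h1
    by_contra hlt
    rw [not_le] at hlt
    have h2 : ∑ i, ai i • dx i ≤ (∑ i, ai i) * (∑ i, dx i) := by
      rw [Finset.sum_mul]
      refine Finset.sum_le_sum fun i _ => ?_
      rw [smul_eq_mul]
      exact Nat.mul_le_mul_left _ (Finset.single_le_sum (fun _ _ => Nat.zero_le _) (Finset.mem_univ i))
    have h3 : (∑ i, ai i) * (∑ i, dx i) ≤ (n - 1) * (∑ i, dx i) :=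
      Nat.mul_le_mul_right _ (by omega)
    have h4 : (n - 1) * (∑ i, dx i) ≤ n * (∑ i, dx i) := Nat.mul_le_mul_right _ (by omega)
    omega
  exact hle hmem

end Groth.Agent.S4394
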