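import Mathlib
import Groth.Statements.S4395

set_option autoImplicit false
universe u
open EGA2

namespace Groth.Agent.S4395

open DirectSum

variable {R A : Type u} [CommRing R] [CommRing A] [Algebra R A] (𝒜 : ℕ → Submodule R A) [GradedAlgebra 𝒜]
    (n₀ : ℕ) (p : ℕ → AddSubgroup A)

section Construct

variable (h1 : ∀ m n : ℕ, n₀ ≤ n → ∀ a ∈ 𝒜 m, ∀ b ∈ p n, a * b ∈ p (m + n))
    (h2 : ∀ m n : ℕ, n₀ ≤ m → n₀ ≤ n → ∀ f ∈ 𝒜 m, ∀ g ∈ 𝒜 n, f * g ∈ p (m + n) → f ∈ p m ∨ g ∈ p n)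
    {d : ℕ} (hd : n₀ ≤ d) (f : A) (hf : f ∈ 𝒜 d) (hfp : f ∉ p d)

/-- the ideal `{x | ∀ m, f * x_m ∈ p (d + m)}` -/
def I : Ideal A where
  carrier := {x | ∀ m, f * (decompose 𝒜 x m : A) ∈ p (d + m)}
  zero_mem' := by
    intro m
    simp only [decompose_zero, DirectSum.zero_apply, ZeroMemClass.coe_zero, mul_zero]
    exact (p _).zero_mem
  add_mem' := by
    intro x y hx hy m
    simp only [decompose_add, DirectSum.add_apply, AddMemClass.coe_add, mul_add]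
    exact (p _).add_mem (hx m) (hy m)
  smul_mem' := by
    classical
    intro c x hx
    induction c using DirectSum.Decomposition.inductionOn 𝒜 with
    | zero =>
      intro m
      simp only [zero_smul, decompose_zero, DirectSum.zero_apply, ZeroMemClass.coe_zero, mul_zero]
      exact (p _).zero_mem
    | homogeneous c =>
      rename_i i
      intro m
      rw [smul_eq_mul, coe_decompose_mul_of_left_mem 𝒜 m c.2]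
      split_ifs with him
      · have := h1 i (d + (m - i)) (by omega) c.1 c.2 _ (hx (m - i))
        have e : i + (d + (m - i)) = d + m := by omega
        rw [e] at this
        convert this using 1
        ring
      · rw [mul_zero]; exact (p _).zero_mem
    | add a b ha hb =>
      intro m
      have := (p _).add_mem (ha m) (hb m)
      convert this using 1
      simp only [smul_eq_mul, add_mul, decompose_add, DirectSum.add_apply, AddMemClass.coe_add, mul_add]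

theorem mem_I {x : A} : x ∈ I 𝒜 n₀ p h1 hd f ↔ ∀ m, f * (decompose 𝒜 x m : A) ∈ p (d + m) := Iff.rfl

theorem mem_I_homog {m : ℕ} {x : A} (hx : x ∈ 𝒜 m) :
    x ∈ I 𝒜 n₀ p h1 hd f ↔ f * x ∈ p (d + m) := by
  classical
  rw [mem_I]
  constructor
  · intro h
    have := h m
    rwa [decompose_of_mem_same 𝒜 hx] at this
  · intro h k
    by_cases hk : k = m
    · subst hk
      rwa [decompose_of_mem_same 𝒜 hx]
    · rw [decompose_of_mem_ne 𝒜 hx (Ne.symm hk), mul_zero]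
      exact (p _).zero_mem

theorem I_homogeneous : (I 𝒜 n₀ p h1 hd f).IsHomogeneous 𝒜 := by
  classical
  intro i x hx
  rw [mem_I_homog 𝒜 n₀ p h1 hd f (SetLike.coe_mem _)]
  exact hx i

include h2 hf hfp in
theorem f_not_mem : f ∉ I 𝒜 n₀ p h1 hd f := by
  rw [mem_I_homog 𝒜 n₀ p h1 hd f hf]
  intro h
  rcases h2 d d hd hd f hf f hf h with h | h <;> exact hfp h

include h2 hf hfp in
theorem I_prime : (I 𝒜 n₀ p h1 hd f).IsPrime := by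
  refine Ideal.IsHomogeneous.isPrime_of_homogeneous_mem_or_mem (I_homogeneous 𝒜 n₀ p h1 hd f) ?_ ?_
  · intro htop
    exact f_not_mem 𝒜 n₀ p h1 h2 hd f hf hfp (htop ▸ Submodule.mem_top)
  · rintro x y ⟨i, hx⟩ ⟨j, hy⟩ hxy
    rw [mem_I_homog 𝒜 n₀ p h1 hd f (SetLike.mul_mem_graded hx hy)] at hxy
    rw [mem_I_homog 𝒜 n₀ p h1 hd f hx, mem_I_homog 𝒜 n₀ p h1 hd f hy]
    have h3 := h1 d (d + (i + j)) (by omega) f hf _ hxy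
    have e : d + (d + (i + j)) = (d + i) + (d + j) := by omega
    rw [e] at h3
    have h4 : f * (f * (x * y)) = (f * x) * (f * y) := by ring
    rw [h4] at h3
    exact h2 (d + i) (d + j) (by omega) (by omega) _ (SetLike.mul_mem_graded hf hx) _
      (SetLike.mul_mem_graded hf hy) h3

include h2 hf hfp in
theorem I_inter (hp : ∀ n : ℕ, n₀ ≤ n → (p n : Set A) ⊆ 𝒜 n) {n : ℕ} (hn : n₀ ≤ n) :
    ((I 𝒜 n₀ p h1 hd f : Ideal A) : Set A) ∩ 𝒜 n = p n := by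
  ext x
  constructor
  · rintro ⟨hxI, hxn⟩
    rw [SetLike.mem_coe, mem_I_homog 𝒜 n₀ p h1 hd f hxn] at hxI
    rcases h2 d n hd hn f hf x hxn hxI with h | h
    · exact absurd h hfp
    · exact h
  · intro hx
    have hxn : x ∈ 𝒜 n := hp n hn hx
    refine ⟨?_, hxn⟩
    rw [SetLike.mem_coe, mem_I_homog 𝒜 n₀ p h1 hd f hxn]
    exact h1 d n hn f hf x hx

end Construct

section Main

variable (hn₀ : 0 < n₀) (hp : ∀ n : ℕ, n₀ ≤ n → (p n : Set A) ⊆ 𝒜 n)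

/-- a homogeneous element of degree `≥ n₀` outside a relevant prime -/
theorem exists_not_mem (𝔭 : HomogeneousIdeal 𝒜) (hprime : 𝔭.toIdeal.IsPrime)
    (hirr : ¬ HomogeneousIdeal.irrelevant 𝒜 ≤ 𝔭) :
    ∃ (d : ℕ) (f : A), n₀ ≤ d ∧ f ∈ 𝒜 d ∧ f ∉ 𝔭.toIdeal := by
  rw [HomogeneousIdeal.irrelevant_le] at hirr
  push Not at hirr
  obtain ⟨i, hi, hle⟩ := hirr
  obtain ⟨x, hx, hx'⟩ := SetLike.not_le_iff_exists.1 hle
  refine ⟨n₀ • i, x ^ n₀, ?_, SetLike.pow_mem_graded n₀ hx, fun h => hx' (hprime.mem_of_pow_mem _ h)⟩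
  rw [smul_eq_mul]
  exact Nat.le_mul_of_pos_right n₀ hi

theorem forward (𝔭 : HomogeneousIdeal 𝒜) (hprime : 𝔭.toIdeal.IsPrime)
    (hirr : ¬ HomogeneousIdeal.irrelevant 𝒜 ≤ 𝔭)
    (hint : ∀ n : ℕ, n₀ ≤ n → (𝔭.toIdeal : Set A) ∩ 𝒜 n = p n) :
    (∀ m n : ℕ, n₀ ≤ n → ∀ a ∈ 𝒜 m, ∀ b ∈ p n, a * b ∈ p (m + n)) ∧
      (∀ m n : ℕ, n₀ ≤ m → n₀ ≤ n → ∀ f ∈ 𝒜 m, ∀ g ∈ 𝒜 n, f * g ∈ p (m + n) → f ∈ p m ∨ g ∈ p n) ∧
      ∃ n : ℕ, n₀ ≤ n ∧ (p n : Set A) ≠ 𝒜 n := by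
  have hmem : ∀ n, n₀ ≤ n → ∀ x, x ∈ p n ↔ x ∈ 𝔭.toIdeal ∧ x ∈ 𝒜 n := by
    intro n hn x
    have := congrArg (fun s : Set A => x ∈ s) (hint n hn)
    exact (Iff.of_eq this).symm
  refine ⟨?_, ?_, ?_⟩
  · intro m n hn a ha b hb
    rw [hmem n hn] at hb
    rw [hmem (m + n) (by omega)]
    exact ⟨Ideal.mul_mem_left _ _ hb.1, SetLike.mul_mem_graded ha hb.2⟩
  · intro m n hm hn f hf g hg hfg
    rw [hmem (m + n) (by omega)] at hfg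
    rw [hmem m hm, hmem n hn]
    rcases hprime.mem_or_mem hfg.1 with h | h
    · exact Or.inl ⟨h, hf⟩
    · exact Or.inr ⟨h, hg⟩
  · obtain ⟨d, f, hd, hf, hfp⟩ := exists_not_mem 𝒜 n₀ 𝔭 hprime hirr
    refine ⟨d, hd, fun h => hfp ?_⟩
    have : f ∈ (p d : Set A) := by rw [h]; exact hf
    exact ((hmem d hd f).1 this).1

include hn₀ hp in
theorem backward (h1 : ∀ m n : ℕ, n₀ ≤ n → ∀ a ∈ 𝒜 m, ∀ b ∈ p n, a * b ∈ p (m + n))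
    (h2 : ∀ m n : ℕ, n₀ ≤ m → n₀ ≤ n → ∀ f ∈ 𝒜 m, ∀ g ∈ 𝒜 n, f * g ∈ p (m + n) → f ∈ p m ∨ g ∈ p n)
    (h3 : ∃ n : ℕ, n₀ ≤ n ∧ (p n : Set A) ≠ 𝒜 n) :
    ∃ 𝔭 : HomogeneousIdeal 𝒜, 𝔭.toIdeal.IsPrime ∧ ¬ HomogeneousIdeal.irrelevant 𝒜 ≤ 𝔭 ∧
        ∀ n : ℕ, n₀ ≤ n → (𝔭.toIdeal : Set A) ∩ 𝒜 n = p n := by
  obtain ⟨d, hd, hne⟩ := h3
  have : ∃ f, f ∈ 𝒜 d ∧ f ∉ p d := by
    by_contra hcon
    push Not at hcon
    exact hne (Set.Subset.antisymm (hp d hd) fun x hx => hcon x hx)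
  obtain ⟨f, hf, hfp⟩ := this
  refine ⟨⟨I 𝒜 n₀ p h1 hd f, I_homogeneous 𝒜 n₀ p h1 hd f⟩, I_prime 𝒜 n₀ p h1 h2 hd f hf hfp, ?_,
    fun n hn => I_inter 𝒜 n₀ p h1 h2 hd f hf hfp hp hn⟩
  intro hle
  have hfirr : f ∈ HomogeneousIdeal.irrelevant 𝒜 :=
    HomogeneousIdeal.mem_irrelevant_of_mem 𝒜 (by omega) hf
  exact f_not_mem 𝒜 n₀ p h1 h2 hd f hf hfp (hle hfirr)

theorem unique (𝔭 𝔮 : HomogeneousIdeal 𝒜) (h𝔭 : 𝔭.toIdeal.IsPrime) (h𝔮 : 𝔮.toIdeal.IsPrime)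
    (hirr : ¬ HomogeneousIdeal.irrelevant 𝒜 ≤ 𝔭)
    (hint : ∀ n : ℕ, n₀ ≤ n → (𝔭.toIdeal : Set A) ∩ 𝒜 n = p n)
    (hint' : ∀ n : ℕ, n₀ ≤ n → (𝔮.toIdeal : Set A) ∩ 𝒜 n = p n) : 𝔭 = 𝔮 := by
  obtain ⟨d, f, hd, hf, hfp⟩ := exists_not_mem 𝒜 n₀ 𝔭 h𝔭 hirr
  have hmem : ∀ n, n₀ ≤ n → ∀ x ∈ 𝒜 n, x ∈ 𝔭.toIdeal ↔ x ∈ 𝔮.toIdeal := by
    intro n hn x hx
    have e1 := congrArg (fun s : Set A => x ∈ s) (hint n hn)
    have e2 := congrArg (fun s : Set A => x ∈ s) (hint' n hn)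
    have i1 : (x ∈ 𝔭.toIdeal ∧ x ∈ 𝒜 n) ↔ x ∈ p n := Iff.of_eq e1
    have i2 : (x ∈ 𝔮.toIdeal ∧ x ∈ 𝒜 n) ↔ x ∈ p n := Iff.of_eq e2
    constructor
    · intro h; exact (i2.2 (i1.1 ⟨h, hx⟩)).1
    · intro h; exact (i1.2 (i2.1 ⟨h, hx⟩)).1
  have hfq : f ∉ 𝔮.toIdeal := fun h => hfp ((hmem d hd f hf).2 h)
  refine HomogeneousIdeal.ext' fun i x hx => ?_
  have hfx : f * x ∈ 𝒜 (d + i) := SetLike.mul_mem_graded hf hx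
  have key := hmem (d + i) (by omega) (f * x) hfx
  constructor
  · intro h
    have : f * x ∈ 𝔮.toIdeal := key.1 (Ideal.mul_mem_left _ _ h)
    exact (h𝔮.mem_or_mem this).resolve_left hfq
  · intro h
    have : f * x ∈ 𝔭.toIdeal := key.2 (Ideal.mul_mem_left _ _ h)
    exact (h𝔭.mem_or_mem this).resolve_left hfp

end Main


/-- Let S be a ring graded in nonnegative degrees, n₀ > 0 an integer and, for every n ≥ n₀, p_n an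
additive subgroup of S_n. Then there is a graded prime ideal p of S not containing S_+ with p ∩ S_n
= p_n for all n ≥ n₀ if and only if: (1) S_m p_n ⊆ p_{m+n} for all m ≥ 0 and n ≥ n₀; (2) for m ≥ n₀,
n ≥ n₀, f ∈ S_m, g ∈ S_n, fg ∈ p_{m+n} implies f ∈ p_m or g ∈ p_n; (3) p_n ≠ S_n for at least one n
≥ n₀. Moreover such a graded prime ideal is unique. -/
theorem result {R A : Type u} [CommRing R] [CommRing A] [Algebra R A] (𝒜 : ℕ → Submodule R A) [GradedAlgebra 𝒜]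
    (n₀ : ℕ) (hn₀ : 0 < n₀) (p : ℕ → AddSubgroup A) (hp : ∀ n : ℕ, n₀ ≤ n → (p n : Set A) ⊆ 𝒜 n) :
    ((∃ 𝔭 : HomogeneousIdeal 𝒜, 𝔭.toIdeal.IsPrime ∧ ¬ HomogeneousIdeal.irrelevant 𝒜 ≤ 𝔭 ∧
        ∀ n : ℕ, n₀ ≤ n → (𝔭.toIdeal : Set A) ∩ 𝒜 n = p n) ↔
      ((∀ m n : ℕ, n₀ ≤ n → ∀ a ∈ 𝒜 m, ∀ b ∈ p n, a * b ∈ p (m + n)) ∧
        (∀ m n : ℕ, n₀ ≤ m → n₀ ≤ n → ∀ f ∈ 𝒜 m, ∀ g ∈ 𝒜 n, f * g ∈ p (m + n) → f ∈ p m ∨ g ∈ p n) ∧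
        ∃ n : ℕ, n₀ ≤ n ∧ (p n : Set A) ≠ 𝒜 n)) ∧
    ∀ 𝔭 𝔮 : HomogeneousIdeal 𝒜, 𝔭.toIdeal.IsPrime → 𝔮.toIdeal.IsPrime →
      ¬ HomogeneousIdeal.irrelevant 𝒜 ≤ 𝔭 → ¬ HomogeneousIdeal.irrelevant 𝒜 ≤ 𝔮 →
      (∀ n : ℕ, n₀ ≤ n → (𝔭.toIdeal : Set A) ∩ 𝒜 n = p n) → (∀ n : ℕ, n₀ ≤ n → (𝔮.toIdeal : Set A) ∩ 𝒜 n = p n) →
      𝔭 = 𝔮 := by
  refine ⟨⟨?_, ?_⟩, ?_⟩
  · rintro ⟨𝔭, hprime, hirr, hint⟩
    exact forward 𝒜 n₀ p 𝔭 hprime hirr hint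
  · rintro ⟨h1, h2, h3⟩
    exact backward 𝒜 n₀ p hn₀ hp h1 h2 h3
  · intro 𝔭 𝔮 h𝔭 h𝔮 hirr _ hint hint'
    exact unique 𝒜 n₀ p 𝔭 𝔮 h𝔭 h𝔮 hirr hint hint'

end Groth.Agent.S4395
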