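import Groth.Statements.S4404
import Mathlib.RingTheory.GradedAlgebra.Radical
import Mathlib.RingTheory.Nilpotent.Lemmas
import Mathlib.RingTheory.Ideal.Prime
-- import your own Groth.Agent.* helpers here

set_option autoImplicit false
universe u
open EGA2

namespace Groth.Agent.S4404

/-- (a) ⇔ (b): let S be a ring graded in nonnegative degrees and E a subset of the irrelevant ideal S_+.
Then V_+(E) is the whole of Proj S if and only if every element of E is nilpotent. -/
theorem result {R A : Type u} [CommRing R] [CommRing A] [Algebra R A] (𝒜 : ℕ → Submodule R A) [GradedAlgebra 𝒜]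
    (E : Set A) (hE : E ⊆ (HomogeneousIdeal.irrelevant 𝒜).toIdeal) :
    ProjectiveSpectrum.zeroLocus 𝒜 E = Set.univ ↔ ∀ e ∈ E, IsNilpotent e := by
  constructor
  · intro h e he
    rw [nilpotent_iff_mem_prime]
    intro q hq
    have hq' : (q.homogeneousCore 𝒜).toIdeal.IsPrime := Ideal.IsPrime.homogeneousCore hq
    by_cases hirr : HomogeneousIdeal.irrelevant 𝒜 ≤ q.homogeneousCore 𝒜
    · exact Ideal.toIdeal_homogeneousCore_le 𝒜 q (hirr (hE he))
    · let x : ProjectiveSpectrum 𝒜 := ⟨q.homogeneousCore 𝒜, hq', hirr⟩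
      have hx : x ∈ ProjectiveSpectrum.zeroLocus 𝒜 E := by rw [h]; exact Set.mem_univ _
      exact Ideal.toIdeal_homogeneousCore_le 𝒜 q (hx he)
  · intro h
    ext x
    simp only [ProjectiveSpectrum.mem_zeroLocus, Set.mem_univ, iff_true]
    intro e he
    obtain ⟨n, hn⟩ := h e he
    have : e ^ n ∈ x.asHomogeneousIdeal.toIdeal := by rw [hn]; exact Ideal.zero_mem _
    exact x.isPrime.mem_of_pow_mem n this

end Groth.Agent.S4404
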