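import Groth.Statements.S4405
import Mathlib.RingTheory.GradedAlgebra.Radical
import Mathlib.RingTheory.Ideal.Prime
-- import your own Groth.Agent.* helpers here

set_option autoImplicit false
universe u
open EGA2

namespace Groth.Agent.S4405

/-- Let S be a ring graded in nonnegative degrees and E any subset of the irrelevant ideal S_+. Then the
intersection of S_+ with the vanishing ideal of the closed subset V_+(E) of Proj S equals the
intersection of S_+ with the radical of the graded ideal generated by E (the smallest homogeneous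
ideal containing E). -/
theorem result {R A : Type u} [CommRing R] [CommRing A] [Algebra R A] (𝒜 : ℕ → Submodule R A) [GradedAlgebra 𝒜]
    (E : Set A) (hE : E ⊆ (HomogeneousIdeal.irrelevant 𝒜).toIdeal) :
    (HomogeneousIdeal.irrelevant 𝒜).toIdeal ⊓
        (ProjectiveSpectrum.vanishingIdeal (ProjectiveSpectrum.zeroLocus 𝒜 E)).toIdeal =
      (HomogeneousIdeal.irrelevant 𝒜).toIdeal ⊓ (Ideal.homogeneousHull 𝒜 (Ideal.span E)).toIdeal.radical := by
  apply le_antisymm
  · rintro x ⟨hx1, hx2⟩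
    refine ⟨hx1, ?_⟩
    show x ∈ (Ideal.homogeneousHull 𝒜 (Ideal.span E)).toIdeal.radical
    rw [Ideal.radical_eq_sInf, Ideal.mem_sInf]
    rintro q ⟨hHq, hq⟩
    have hx2 : x ∈ ProjectiveSpectrum.vanishingIdeal (ProjectiveSpectrum.zeroLocus 𝒜 E) := hx2
    have hx2' := (ProjectiveSpectrum.mem_vanishingIdeal _ _).mp hx2
    have hq' : (q.homogeneousCore 𝒜).toIdeal.IsPrime := Ideal.IsPrime.homogeneousCore hq
    have hHq' : Ideal.homogeneousHull 𝒜 (Ideal.span E) ≤ q.homogeneousCore 𝒜 :=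
      (Ideal.homogeneousCore.gc 𝒜 _ _).mp hHq
    by_cases hirr : HomogeneousIdeal.irrelevant 𝒜 ≤ q.homogeneousCore 𝒜
    · exact Ideal.toIdeal_homogeneousCore_le 𝒜 q (hirr hx1)
    · let y : ProjectiveSpectrum 𝒜 := ⟨q.homogeneousCore 𝒜, hq', hirr⟩
      have hy : y ∈ ProjectiveSpectrum.zeroLocus 𝒜 E := by
        intro e he
        exact hHq' (Ideal.le_toIdeal_homogeneousHull 𝒜 _ (Ideal.subset_span he))
      exact Ideal.toIdeal_homogeneousCore_le 𝒜 q (hx2' y hy)
  · rintro x ⟨hx1, hx2⟩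
    refine ⟨hx1, ?_⟩
    show x ∈ ProjectiveSpectrum.vanishingIdeal (ProjectiveSpectrum.zeroLocus 𝒜 E)
    rw [ProjectiveSpectrum.mem_vanishingIdeal]
    intro y hy
    obtain ⟨n, hn⟩ := hx2
    have hle : Ideal.homogeneousHull 𝒜 (Ideal.span E) ≤ y.asHomogeneousIdeal :=
      (Ideal.homogeneousHull.gc 𝒜 _ _).mpr (Ideal.span_le.mpr hy)
    exact y.isPrime.mem_of_pow_mem n (hle hn)

end Groth.Agent.S4405
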