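import Groth.Statements.S4411
import Groth.Agent.Lib.Helper9.GradedMonomials
-- import your own Groth.Agent.* helpers here

set_option autoImplicit false
universe u
open EGA2

namespace Groth.Agent.S4411

/-- Let S be a ring graded in nonnegative degrees which is an S_0-algebra of finite type, d > 0, and
S^{(d)} the graded ring whose degree-n part is S_{nd} (given here as any graded ring S' with an
injective algebra homomorphism φ : S' → S carrying S'_n onto S_{nd} for every n). Then S^{(d)} is an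
algebra of finite type over its degree-zero part S'_0 (which φ identifies with S_0). -/
theorem result {R A : Type u} [CommRing R] [CommRing A] [Algebra R A] (𝒜 : ℕ → Submodule R A) [GradedAlgebra 𝒜] [Algebra.FiniteType (𝒜 0) A]
    {B : Type u} [CommRing B] [Algebra R B] (ℬ : ℕ → Submodule R B) [GradedAlgebra ℬ]
    (d : ℕ) (hd : 0 < d) (φ : B →ₐ[R] A) (hφ : Function.Injective φ)
    (hdeg : ∀ n : ℕ, Submodule.map φ.toLinearMap (ℬ n) = 𝒜 (n * d)) :
    Algebra.FiniteType (ℬ 0) B := by
  classical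
  obtain ⟨s, hs, hs'⟩ := GradedAlgebra.exists_finset_adjoin_eq_top_and_homogeneous_ne_zero 𝒜
  choose dx hdx hxd using Subtype.forall'.mp hs'
  have hx : Algebra.adjoin (𝒜 0) (Set.range (Subtype.val : s → A)) = ⊤ := by simpa using hs
  -- the finite set of bounded monomials
  let M : Set A := {x | ∃ ai : s → ℕ, (∀ i, ai i ≤ d) ∧ x = ∏ i : s, (i : A) ^ ai i}
  have hM : M.Finite := by
    let F : (s → Fin (d + 1)) → A := fun ai => ∏ i : s, (i : A) ^ (ai i : ℕ)
    apply (Set.finite_range F).subset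
    rintro _ ⟨ai, hai, rfl⟩
    exact ⟨fun i => ⟨ai i, Nat.lt_succ_of_le (hai i)⟩, rfl⟩
  let T : Set B := φ ⁻¹' M
  have hT : T.Finite := hM.preimage (Set.injOn_of_injective hφ)
  constructor
  rw [Subalgebra.fg_def]
  refine ⟨T, hT, ?_⟩
  set C := Algebra.adjoin (ℬ 0) T with hC
  -- monomials of degree divisible by d come from C
  have claim1 : ∀ ai : s → ℕ, d ∣ ∑ i, ai i • dx i → ∃ c ∈ C, φ c = ∏ i : s, (i : A) ^ ai i := by
    intro ai hdiv
    have hsplit : ∑ i, ai i • dx i = ∑ i, (ai i % d) • dx i + d * ∑ i, (ai i / d) • dx i := by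
      rw [Finset.mul_sum, ← Finset.sum_add_distrib]
      refine Finset.sum_congr rfl fun i _ => ?_
      simp only [smul_eq_mul]
      rw [← mul_assoc, ← add_mul, Nat.mod_add_div]
    have hdiv0 : d ∣ ∑ i, (ai i % d) • dx i := by
      rw [hsplit] at hdiv
      exact (Nat.dvd_add_left (dvd_mul_right d _)).mp hdiv
    obtain ⟨k, hk⟩ := hdiv0
    have hm0 : (∏ i : s, (i : A) ^ (ai i % d)) ∈ 𝒜 (k * d) := by
      rw [mul_comm, ← hk]
      exact SetLike.prod_pow_mem_graded _ _ _ _ fun i _ ↦ hxd i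
    rw [← hdeg k] at hm0
    obtain ⟨b0, -, hb0⟩ := hm0
    have hb0T : b0 ∈ T := by
      show φ b0 ∈ M
      exact ⟨fun i => ai i % d, fun i => (Nat.mod_lt _ hd).le, hb0⟩
    have hbi : ∀ i : s, ∃ b : B, b ∈ T ∧ φ b = (i : A) ^ d := by
      intro i
      have : (i : A) ^ d ∈ 𝒜 (dx i * d) := by
        rw [mul_comm]
        exact SetLike.pow_mem_graded d (hxd i)
      rw [← hdeg (dx i)] at this
      obtain ⟨b, -, hb⟩ := this
      refine ⟨b, ?_, hb⟩
      show φ b ∈ M
      refine ⟨Pi.single i d, ?_, ?_⟩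
      · intro j
        by_cases h : j = i
        · subst h; simp
        · simp [h]
      · rw [show φ b = (i : A) ^ d from hb]
        simp [Pi.single_apply]
    choose b hbT hb using hbi
    refine ⟨b0 * ∏ i, b i ^ (ai i / d), ?_, ?_⟩
    · exact mul_mem (Algebra.subset_adjoin hb0T)
        (prod_mem fun i _ => pow_mem (Algebra.subset_adjoin (hbT i)) _)
    · rw [map_mul, map_prod]
      simp only [map_pow, hb]
      rw [show φ b0 = ∏ i : s, (i : A) ^ (ai i % d) from hb0, ← Finset.prod_mul_distrib]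
      refine Finset.prod_congr rfl fun i _ => ?_
      rw [← pow_mul, ← pow_add, Nat.mod_add_div]
  -- degree zero part
  have claim2 : ∀ r : A, r ∈ 𝒜 0 → ∃ c ∈ C, φ c = r := by
    intro r hr
    have : r ∈ 𝒜 (0 * d) := by simpa using hr
    rw [← hdeg 0] at this
    obtain ⟨r', hr', hφr⟩ := this
    exact ⟨r', Subalgebra.algebraMap_mem C (⟨r', hr'⟩ : ℬ 0), hφr⟩
  have claim3 : ∀ n : ℕ, ∀ b ∈ ℬ n, b ∈ C := by
    intro n b hb
    have hφb : φ b ∈ 𝒜 (n * d) := by
      rw [← hdeg n]
      exact ⟨b, hb, rfl⟩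
    have hmem := Groth.Agent.Lib.Helper9.mem_span_monomials 𝒜 (Subtype.val : s → A) hx dx hxd
      (n * d) (φ b) hφb
    have key : ∀ y ∈ Submodule.span (𝒜 0)
        {x : A | ∃ ai : s → ℕ, ∑ i, ai i • dx i = n * d ∧ x = ∏ i : s, (i : A) ^ ai i},
        ∃ c ∈ C, φ c = y := by
      intro y hy
      induction hy using Submodule.span_induction with
      | mem x hx' =>
        obtain ⟨ai, hai, rfl⟩ := hx'
        exact claim1 ai (hai ▸ dvd_mul_left d n)
      | zero => exact ⟨0, zero_mem _, map_zero _⟩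
      | add x y _ _ hx' hy' =>
        obtain ⟨c1, hc1, h1⟩ := hx'
        obtain ⟨c2, hc2, h2⟩ := hy'
        exact ⟨c1 + c2, add_mem hc1 hc2, by rw [map_add, h1, h2]⟩
      | smul r x _ hx' =>
        obtain ⟨c1, hc1, h1⟩ := hx'
        obtain ⟨c0, hc0, h0⟩ := claim2 r r.2
        refine ⟨c0 * c1, mul_mem hc0 hc1, ?_⟩
        rw [map_mul, h0, h1, Algebra.smul_def]
        rfl
    obtain ⟨c, hc, hcb⟩ := key _ hmem
    rwa [← hφ hcb]
  rw [eq_top_iff]
  rintro b -
  rw [← DirectSum.sum_support_decompose ℬ b]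
  exact sum_mem fun n _ => claim3 n _ (SetLike.coe_mem _)

end Groth.Agent.S4411
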