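import Groth.Statements.S4412
import Groth.Agent.S4411
import Groth.Agent.S4391
-- import your own Groth.Agent.* helpers here

set_option autoImplicit false
universe u
open EGA2

namespace Groth.Agent.S4412

/-- Let S be a ring graded in nonnegative degrees which is Noetherian, d > 0, and S^{(d)} the graded
ring with degree-n part S_{nd} (given as a graded ring S' with an injective algebra homomorphism φ :
S' → S carrying S'_n onto S_{nd} for every n). Then S^{(d)} is Noetherian. -/
theorem result {R A : Type u} [CommRing R] [CommRing A] [Algebra R A] (𝒜 : ℕ → Submodule R A) [GradedAlgebra 𝒜] [IsNoetherianRing A]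
    {B : Type u} [CommRing B] [Algebra R B] (ℬ : ℕ → Submodule R B) [GradedAlgebra ℬ]
    (d : ℕ) (hd : 0 < d) (φ : B →ₐ[R] A) (hφ : Function.Injective φ)
    (hdeg : ∀ n : ℕ, Submodule.map φ.toLinearMap (ℬ n) = 𝒜 (n * d)) :
    IsNoetherianRing B := by
  obtain ⟨h0, hft⟩ := (Groth.Agent.S4391.result 𝒜).mp inferInstance
  have hftB : Algebra.FiniteType (ℬ 0) B := Groth.Agent.S4411.result 𝒜 ℬ d hd φ hφ hdeg
  have h00 : Submodule.map φ.toLinearMap (ℬ 0) = 𝒜 0 := by
    have := hdeg 0
    rwa [zero_mul] at this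
  let f : ℬ 0 →+* 𝒜 0 :=
    { toFun := fun b => ⟨φ b, by rw [← h00]; exact ⟨b, b.2, rfl⟩⟩
      map_one' := Subtype.ext (map_one φ)
      map_mul' := fun x y => Subtype.ext (map_mul φ (x : B) (y : B))
      map_zero' := Subtype.ext (map_zero φ)
      map_add' := fun x y => Subtype.ext (map_add φ (x : B) (y : B)) }
  have hf_inj : Function.Injective f := fun x y h => Subtype.ext (hφ (congrArg Subtype.val h))
  have hf_surj : Function.Surjective f := by
    rintro ⟨a, ha⟩
    rw [← h00] at ha
    obtain ⟨b, hb, rfl⟩ := ha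
    exact ⟨⟨b, hb⟩, rfl⟩
  let e : ℬ 0 ≃+* 𝒜 0 := RingEquiv.ofBijective f ⟨hf_inj, hf_surj⟩
  have hB0 : IsNoetherianRing (ℬ 0) := isNoetherianRing_of_ringEquiv (𝒜 0) e.symm
  exact (Groth.Agent.S4391.result ℬ).mpr ⟨hB0, hftB⟩

end Groth.Agent.S4412
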