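import Groth.Statements.S4413
import Groth.Agent.Lib.Helper28.PullbackInv2
import Groth.Agent.Lib.Helper28.AmpleUnit
import Mathlib
set_option backward.isDefEq.respectTransparency.types false

set_option autoImplicit false
universe u
open CategoryTheory CategoryTheory.Limits AlgebraicGeometry
open EGA2

namespace Groth.Agent.S4413
open Groth.Agent.Lib.Helper28 Groth.Agent.Lib.Helper28.QCohLoc Groth.Agent.Lib.Helper28.GenLocus
open Groth.Agent.Lib.Helper28.PullbackInv Groth.Agent.Lib.Helper28.AmpleUnit TopologicalSpace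

/-- the locus of a section only depends on the section up to a unit -/
theorem genLocus_eq_of_smul {X : Scheme.{u}} {M : X.Modules} (hM : PicF.IsInvertible M)
    (s₁ s₂ : Coh.structureModule X ⟶ M) (a b : Γ(X, ⊤)) (hab : a * b = 1)
    (h : secOf s₁ = (a • secOf s₂ : Γ(M, ⊤))) :
    CohB1.genLocus M s₁ = CohB1.genLocus M s₂ := by
  ext x
  obtain ⟨U, g, hxU, hg⟩ := exists_isGen M hM x
  have h2 := genLocus_inf_eq_coef s₂ U g hg
  set r₂ := hg.coef le_rfl (res M (le_top : U ≤ ⊤) (secOf s₂)) with hr₂
  have hr : res M (le_top : U ≤ ⊤) (secOf s₁) = ((resO (le_top : U ≤ ⊤) a * r₂) • g : Γ(M, U)) := by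
    have := hg.coef_smul le_rfl (res M (le_top : U ≤ ⊤) (secOf s₂))
    rw [res_self] at this
    rw [h, res_smul, mul_smul, this]
  have h1 := genLocus_inf_eq s₁ U g hg _ hr
  have hu : IsUnit (resO (le_top : U ≤ ⊤) a) := by
    refine IsUnit.of_mul_eq_one (resO (le_top : U ≤ ⊤) b) ?_
    rw [← map_mul, hab, map_one]
  have hb : X.basicOpen (resO (le_top : U ≤ ⊤) a * r₂) = X.basicOpen r₂ := by
    rw [Scheme.basicOpen_mul, Scheme.basicOpen_of_isUnit X hu]
    exact inf_eq_right.2 (X.basicOpen_le r₂)
  have h3 : CohB1.genLocus M s₁ ⊓ U = CohB1.genLocus M s₂ ⊓ U := by rw [h1, hb, h2]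
  constructor
  · intro hx
    have : x ∈ CohB1.genLocus M s₁ ⊓ U := ⟨hx, hxU⟩
    rw [h3] at this
    exact this.1
  · intro hx
    have : x ∈ CohB1.genLocus M s₂ ⊓ U := ⟨hx, hxU⟩
    rw [← h3] at this
    exact this.1

/-- transport of a generator along an isomorphism -/
theorem isGen_of_iso {X : Scheme.{u}} {M N : X.Modules} (e : M ≅ N) (U : X.Opens) (g : Γ(M, U))
    (hg : IsGen M U g) : IsGen N U (e.hom.app U g) := by
  intro W hW
  have hbij : Function.Bijective (e.hom.app W) := app_bijective_of_isIso e.hom W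
  have : (fun c : Γ(X, W) => (c • res N hW (e.hom.app U g) : Γ(N, W))) =
      (e.hom.app W) ∘ (fun c : Γ(X, W) => (c • res M hW g : Γ(M, W))) := by
    funext c
    simp only [Function.comp]
    rw [Scheme.Modules.Hom.app_smul, app_res]
  rw [this]
  exact hbij.comp (hg W hW)


/-- Let u : Z → S be a morphism of schemes, L an invertible O_S-module, s : O_S → L a global section of
L and s' the section of u^*(L) corresponding to s, i.e. u^*(s) composed with an isomorphism O_Z ≅
u^*(O_S) (the locus in question does not depend on that choice). Then the open Z_{s'} of Z where s'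
generates u^*(L) is the preimage u⁻¹(S_s) of the open where s generates L. -/
theorem result {Z S : Scheme.{u}} (u : Z ⟶ S) (L : S.Modules) (hL : PicF.IsInvertible L)
    (s : Coh.structureModule S ⟶ L)
    (e : Coh.structureModule Z ≅ (Scheme.Modules.pullback u).obj (Coh.structureModule S)) :
    CohB1.genLocus ((Scheme.Modules.pullback u).obj L) (e.hom ≫ (Scheme.Modules.pullback u).map s) = u ⁻¹ᵁ CohB1.genLocus L s := by
  rw [← genLocus_pbSec u hL s]
  have hM := isInvertible_pullback u hL
  -- the two global generators of `u^* O_S`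
  let ε : Γ((Scheme.Modules.pullback u).obj (Coh.structureModule S), ⊤) :=
    e.hom.app ⊤ (show Γ(Coh.structureModule Z, ⊤) from (1 : Γ(Z, ⊤)))
  let π : Γ((Scheme.Modules.pullback u).obj (Coh.structureModule S), ⊤) :=
    pbs u (Coh.structureModule S) ⊤ (show Γ(Coh.structureModule S, ⊤) from (1 : Γ(S, ⊤)))
  have hε : IsGen _ ⊤ ε := isGen_of_iso e ⊤ _ (isGen_one Z)
  have hπ : IsGen _ ⊤ π := isGen_pbs (isGen_one S)
  let a := hε.coef le_rfl π
  let b := hπ.coef le_rfl ε
  have ha : (a • ε : Γ((Scheme.Modules.pullback u).obj (Coh.structureModule S), ⊤)) = π := by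
    have := hε.coef_smul le_rfl π
    rw [res_self] at this
    exact this
  have hb : (b • π : Γ((Scheme.Modules.pullback u).obj (Coh.structureModule S), ⊤)) = ε := by
    have := hπ.coef_smul le_rfl ε
    rw [res_self] at this
    exact this
  have hab : b * a = 1 := by
    have h1 : ((b * a) • ε : Γ((Scheme.Modules.pullback u).obj (Coh.structureModule S), ⊤)) =
        ((1 : Γ(Z, ⊤)) • ε : Γ((Scheme.Modules.pullback u).obj (Coh.structureModule S), ⊤)) := by
      rw [mul_smul, ha, hb, one_smul]
    have hinj := (hε ⊤ le_rfl).1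
    have h2 : (fun c : Γ(Z, ⊤) => (c • res _ (le_refl (⊤ : Z.Opens)) ε :
        Γ((Scheme.Modules.pullback u).obj (Coh.structureModule S), ⊤))) (b * a) =
        (fun c : Γ(Z, ⊤) => (c • res _ (le_refl (⊤ : Z.Opens)) ε :
        Γ((Scheme.Modules.pullback u).obj (Coh.structureModule S), ⊤))) 1 := by
      simp only [res_self]
      exact h1
    exact hinj h2
  refine genLocus_eq_of_smul hM _ _ b a hab ?_
  rw [secOf_pbSec]
  have h1 : secOf (e.hom ≫ (Scheme.Modules.pullback u).map s) =
      ((Scheme.Modules.pullback u).map s).app ⊤ ε := rfl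
  have h2 : pbs u L ⊤ (secOf s) = ((Scheme.Modules.pullback u).map s).app ⊤ π :=
    (pbs_map u s ⊤ _).symm
  rw [h1, h2, ← hb, Scheme.Modules.Hom.app_smul]

end Groth.Agent.S4413
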