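import Groth.Statements.S4416
import Groth.Agent.Lib.Helper28.ChowProj3

set_option autoImplicit false
universe u
open CategoryTheory CategoryTheory.Limits AlgebraicGeometry
open EGA2

namespace Groth.Agent.S4416

/-- Let r : X → S be separated of finite type, and assume either S Noetherian, or S quasi-compact and
separated with X having finitely many irreducible components. Then r is proper if and only if there
are a scheme X' and a surjective morphism f : X' → X with f ≫ r projective. Moreover, when r is
proper, f can be chosen so that in addition there is a dense open U of X with f⁻¹(U) dense in X'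
over which f is an isomorphism, and with X' irreducible (resp. reduced) if X is. (The published
statement also remarks that f is then projective; that is not stated here.) -/
theorem result {X S : Scheme.{u}} (r : X ⟶ S) [IsSeparated r] [LocallyOfFiniteType r] [QuasiCompact r]
    (h : IsNoetherian S ∨ (CompactSpace S ∧ S.IsSeparated ∧ (irreducibleComponents X).Finite)) :
    (IsProper r ↔ ∃ (X' : Scheme.{u}) (f : X' ⟶ X), Surjective f ∧ RelProj.IsProjective (f ≫ r)) ∧
    (IsProper r → ∃ (X' : Scheme.{u}) (f : X' ⟶ X), Surjective f ∧ RelProj.IsProjective (f ≫ r) ∧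
        (∃ U : X.Opens, Dense (U : Set X) ∧ Dense ((f ⁻¹ᵁ U : X'.Opens) : Set X') ∧ IsIso (f ∣_ U)) ∧
        (IrreducibleSpace X → IrreducibleSpace X') ∧ (IsReduced X → IsReduced X')) := by
  classical
  have h' : IsNoetherian S ∨ (CompactSpace S ∧ QuasiSeparatedSpace S ∧ (irreducibleComponents X).Finite) := by
    rcases h with h | ⟨h1, h2, h3⟩
    · exact Or.inl h
    · exact Or.inr ⟨h1, inferInstance, h3⟩
  have hSc : CompactSpace S := by
    rcases h with h | ⟨h1, -, -⟩
    · infer_instance
    · exact h1
  have hSq : QuasiSeparatedSpace S := by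
    rcases h with h | ⟨-, h2, -⟩
    · infer_instance
    · infer_instance
  have key : IsProper r → ∃ (X' : Scheme.{u}) (f : X' ⟶ X), Surjective f ∧ RelProj.IsProjective (f ≫ r) ∧
        (∃ U : X.Opens, Dense (U : Set X) ∧ Dense ((f ⁻¹ᵁ U : X'.Opens) : Set X') ∧ IsIso (f ∣_ U)) ∧
        (IrreducibleSpace X → IrreducibleSpace X') ∧ (IsReduced X → IsReduced X') := by
    intro hr
    obtain ⟨n, X'', f, j'', -, -, h3, h4, -, h6, hU, h9, h10, -⟩ :=
      Groth.Agent.Lib.Helper28.ChowProj.chow_relProj_main r h'
    have : IsProper (f ≫ r) := inferInstance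
    exact ⟨X'', f, h6, Groth.Agent.S12416.result (f ≫ r) h4, hU, h10, h9⟩
  refine ⟨⟨fun hr => ?_, ?_⟩, key⟩
  · obtain ⟨X', f, h1, h2, -⟩ := key hr
    exact ⟨X', f, h1, h2⟩
  · rintro ⟨X', f, hf, hproj⟩
    have hp : IsProper (f ≫ r) := Groth.Agent.Lib.Helper28.ProjAmple.isProper_of_isProjective (f ≫ r) hproj
    have huc : UniversallyClosed r := UniversallyClosed.of_comp_surjective f r
    exact { }

end Groth.Agent.S4416
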