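import Groth.Statements.S4419
import Groth.Agent.Lib.Helper28.RelAmpVA
import Groth.Agent.Lib.Helper28.ImgAlg9

set_option autoImplicit false
universe u
open CategoryTheory CategoryTheory.Limits AlgebraicGeometry
open EGA2

namespace Groth.Agent.S4419

/-- Let Y be a scheme which is either quasi-compact and separated or has a Noetherian underlying space,
and f : X → Y a morphism which is quasi-projective and proper. Then f is projective. -/
theorem result {X Y : Scheme.{u}}
    (hY : (CompactSpace Y ∧ Y.IsSeparated) ∨ TopologicalSpace.NoetherianSpace Y) (f : X ⟶ Y)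
    (hq : RelProj.IsQuasiProjective f) [IsProper f] : RelProj.IsProjective f := by
  classical
  obtain ⟨hc, hqs⟩ := Groth.Agent.Lib.Helper28.FTApprox.qcqs_of_base hY
  obtain ⟨hlft, hqc, L, hL⟩ := hq
  have hLinv : PicF.IsInvertible L := Groth.Agent.Lib.Helper28.AmpleLocal.isInvertible_of_isRelAmple f L hL
  obtain ⟨n₀, hn₀⟩ := Groth.Agent.Lib.Helper28.RelAmpSec.exists_forall_isRelVeryAmple f hLinv hLinv hL
  have hva : RelProj.IsRelVeryAmple f (CohB1.tensorPow L (n₀ + 1)) := hn₀ n₀ le_rfl
  exact Groth.Agent.Lib.Helper28.ImgAlg.isProjective_of_isProper_of_isRelVeryAmple' f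
    (Groth.Agent.Lib.Helper28.GenLocus.isInvertible_tensorPow hLinv _) hva

end Groth.Agent.S4419
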