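import Groth.Statements.S4420
import Groth.Agent.Lib.Helper28.HProj3

set_option autoImplicit false
universe u
open CategoryTheory CategoryTheory.Limits AlgebraicGeometry
open EGA2

namespace Groth.Agent.S4420

/-- Let Y be a quasi-compact separated scheme possessing an ample invertible O_Y-module and f : X → Y a
morphism. Then f is projective if and only if there are r ≥ 0 and a closed immersion of X into
projective r-space over Y compatible with the projections (f is H-projective). -/
theorem result {X Y : Scheme.{u}} [CompactSpace Y] [Y.IsSeparated]
    (hY : ∃ M : Y.Modules, CohB1.IsAmple M) (f : X ⟶ Y) :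
    RelProj.IsProjective f ↔ RelProj.IsHProjective f := by
  classical
  obtain ⟨M, hM⟩ := hY
  exact ⟨Groth.Agent.Lib.Helper28.HProj.isHProjective_of_isAmple M hM f,
    Groth.Agent.Lib.Helper28.HProj.isProjective_of_isHProjective f⟩

end Groth.Agent.S4420
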