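import Groth.Statements.S5726
import Groth.Agent.Lib.Helper28.ImgAlg6
import Groth.Agent.Lib.Helper28.FTApprox7
import Groth.Agent.Lib.Helper28.InvQC

set_option autoImplicit false
universe u
open CategoryTheory CategoryTheory.Limits AlgebraicGeometry TopologicalSpace Opposite
open scoped HomogeneousIdeal
open EGA2

namespace Groth.Agent.S5726

/-- Let Y be a scheme which is either quasi-compact and separated or Noetherian, q : X → Y a morphism of
finite type and L an invertible O_X-module which is very ample relative to q. Then there are a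
quasi-coherent graded O_Y-algebra 𝒮 generated by its degree-one part, that part being of finite
type, a relative homogeneous spectrum p : P → Y of 𝒮 (given with its charts over affine opens)
together with its twisting sheaf O_P(1) (given with its chart identifications), and an open
immersion i : X → P with dense image such that i ≫ p = q and L is isomorphic to i^*O_P(1). (The
published statement keeps the notation of the proposition it follows, in which q is of finite type;
without that hypothesis the conclusion fails, for instance for the affine space of countably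
infinite dimension over a field with the structure sheaf, which is an open subscheme of a projective
bundle over the field but is not of finite type.) -/
theorem result {X Y : Scheme.{u}}
    (hY : (CompactSpace Y ∧ Y.IsSeparated) ∨ AlgebraicGeometry.IsNoetherian Y) (q : X ⟶ Y) [QuasiCompact q] [LocallyOfFiniteType q]
    (L : X.Modules) (hL : PicF.IsInvertible L) (h : RelProj.IsRelVeryAmple q L) :
    ∃ (𝒮 : RelProj.QCGrAlg Y) (P : Scheme.{u}) (p : P ⟶ Y)
      (chart : ∀ (U : Y.Opens) (hU : IsAffineOpen U), ((p ⁻¹ᵁ U : P.Opens) : Scheme.{u}) ≅ Proj (𝒮.deg U hU))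
      (O1 : P.Modules)
      (lam : ∀ (U : Y.Opens) (hU : IsAffineOpen U),
        O1 ⟶ (Scheme.Modules.pushforward (RelProj.emb p chart U hU)).obj (GrTwist.twist (𝒮.deg U hU) 1))
      (i : X ⟶ P),
      𝒮.IsGenDegOne ∧ 𝒮.IsFTDeg 1 ∧ RelProj.IsRelProj 𝒮 p chart ∧ RelProj.IsRelTwist 𝒮 p chart 1 O1 lam ∧
        IsOpenImmersion i ∧ Dense (Set.range i.base) ∧ i ≫ p = q ∧
        Nonempty (L ≅ (Scheme.Modules.pullback i).obj O1) := by
  classical
  have hLq : L.IsQuasicoherent := Groth.Agent.Lib.Helper28.InvQC.isQuasicoherent_of_isInvertible L hL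
  have hY' : (CompactSpace Y ∧ Y.IsSeparated) ∨ NoetherianSpace Y := by
    rcases hY with h1 | h2
    · exact Or.inl h1
    · exact Or.inr inferInstance
  obtain ⟨hc, hqs⟩ := Groth.Agent.Lib.Helper28.FTApprox.qcqs_of_base hY'
  have hQCL := Groth.Agent.Lib.Helper28.SymAlg.isQC_symPre_of_isQuasicoherent L
  have hjL := Groth.Agent.Lib.Helper28.SymAlg.isGrSymAlg L hQCL
  have hPL := Groth.Agent.Lib.Helper28.RelProjExists.isRelProj (Groth.Agent.Lib.Helper28.SymAlg.grSymAlg L hQCL)
  obtain ⟨E, hEq, hft, ι, hinj, 𝒯, jE, hE, u, hu, hs, H⟩ :=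
    Groth.Agent.Lib.Helper28.FTApprox.exists_ft_sub_pushforward q hjL _ _ hPL hL h
  have : E.IsQuasicoherent := hEq
  have : SheafOfModules.IsFiniteType.{u} (R := Y.ringCatSheaf) E := hft
  have hP𝒯 := Groth.Agent.Lib.Helper28.RelProjExists.isRelProj 𝒯
  obtain ⟨r, hr, -⟩ := Groth.Agent.Lib.Helper28.ProjQRel.existsUnique_glueW u _ _ hP𝒯 _ _ hPL
  have hrOn := Groth.Agent.Lib.Helper28.ProjQRel.isProjQMapOn_of_glue u _ _ _ _ r hr
  obtain ⟨htop, himm⟩ := H _ _ _ hP𝒯 r hrOn
  obtain ⟨ι₀, U, hU, n, s, hfam⟩ :=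
    Groth.Agent.Lib.Helper28.RLPsiU.exists_family_of_immersion hjL u _ _ hP𝒯 _ _ hPL r hrOn hL htop himm
  -- the image algebra
  have hP := Groth.Agent.Lib.Helper28.RelProjExists.isRelProj (Groth.Agent.Lib.Helper28.ImgAlg.imgGr u)
  obtain ⟨r', hr', -⟩ := Groth.Agent.Lib.Helper28.ProjQRel.existsUnique_glueW
    (Groth.Agent.Lib.Helper28.ImgAlg.imgιGr u) _ _ hP _ _ hPL
  have hr'On := Groth.Agent.Lib.Helper28.ProjQRel.isProjQMapOn_of_glue
    (Groth.Agent.Lib.Helper28.ImgAlg.imgιGr u) _ _ _ _ r' hr'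
  obtain ⟨htop', hoi, hdom⟩ := Groth.Agent.Lib.Helper28.ImgAlg.openImmersion_img hjL u _ _ hP _ _ hPL r' hr'On hL
    U hU n s hfam
  have hO := Groth.Agent.Lib.Helper28.RelTwistEx.isRelTwist hP 1
  have hsurj1 : Groth.Agent.Lib.Helper28.ImgAlg.SurjCond1 (Groth.Agent.Lib.Helper28.ImgAlg.imgιGr u) := by
    intro x
    obtain ⟨U₁, hU₁, e, V, hV, hVU, hxV, hsub⟩ := hs x
    exact ⟨U₁, hU₁, ((Groth.Agent.Lib.Helper28.ImgAlg.imgπ u.toQHom).hom.app (op U₁)).hom ((jE.app U₁) e),
      ⟨_, hE.2 U₁ hU₁ e, rfl⟩, V, hV, hVU, hxV, hsub⟩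
  obtain ⟨i, ⟨h1, h2, hi⟩, hip, hiso⟩ := Groth.Agent.Lib.Helper28.ImgAlg.exists_mor_of_surjCond1 hjL
    (Groth.Agent.Lib.Helper28.ImgAlg.imgιGr u) _ _ hP _ _ hPL r' hr'On hO hL hsurj1
  have hoi' : IsOpenImmersion i := by
    rw [hi]
    infer_instance
  have hdom' : IsDominant i := by
    rw [hi]
    infer_instance
  exact ⟨Groth.Agent.Lib.Helper28.ImgAlg.imgGr u, _, _, _, _, _, i,
    Groth.Agent.Lib.Helper28.ImgAlg.isGenDegOne_imgGr u (Groth.Agent.Lib.Helper28.ImgAlg.isGenDegOne_of_isGrSymAlg hE),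
    Groth.Agent.Lib.Helper28.ImgAlg.isFTDeg_imgGr u 1 (Groth.Agent.Lib.Helper28.ImgAlg.isFTDeg_one_of_isGrSymAlg hE),
    hP, hO, hoi', i.denseRange, hip, hiso⟩

end Groth.Agent.S5726
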