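import Groth.Statements.S4425
import Groth.Agent.Lib.Helper28.RelAmpVA
import Groth.Agent.S5726
import Groth.Agent.S12485
import Groth.Agent.S5721
import Groth.Agent.Lib.Helper28.RelProjGen1

set_option autoImplicit false
universe u
open CategoryTheory CategoryTheory.Limits AlgebraicGeometry
open EGA2

namespace Groth.Agent.S4425

/-- (a) ⇔ (c): let Y be a quasi-compact separated scheme and f : X → Y a morphism. Then f is
quasi-projective if and only if f is of finite type and there are a quasi-coherent graded
O_Y-algebra 𝒮, generated by its degree-one part with that part of finite type, a relative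
homogeneous spectrum p : P → Y of 𝒮 (given with its charts over affine opens), and an open immersion
j : X → P with dense image such that j ≫ p = f. (The published statement also allows Y whose
underlying space is Noetherian, and adds a third equivalent condition, an immersion into some P(E);
this row assumes Y quasi-compact and separated and states only the equivalence of the other two.) -/
theorem result {X Y : Scheme.{u}} [CompactSpace Y] [Y.IsSeparated] (f : X ⟶ Y) :
    RelProj.IsQuasiProjective f ↔
      (LocallyOfFiniteType f ∧ QuasiCompact f ∧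
        ∃ (𝒮 : RelProj.QCGrAlg Y) (P : Scheme.{u}) (p : P ⟶ Y)
          (chart : ∀ (U : Y.Opens) (hU : IsAffineOpen U), ((p ⁻¹ᵁ U : P.Opens) : Scheme.{u}) ≅ Proj (𝒮.deg U hU))
          (j : X ⟶ P), 𝒮.IsGenDegOne ∧ 𝒮.IsFTDeg 1 ∧ RelProj.IsRelProj 𝒮 p chart ∧
            IsOpenImmersion j ∧ Dense (Set.range j.base) ∧ j ≫ p = f) := by
  classical
  constructor
  · rintro ⟨hlft, hqc, L, hL⟩
    have hLinv : PicF.IsInvertible L := Groth.Agent.Lib.Helper28.AmpleLocal.isInvertible_of_isRelAmple f L hL
    obtain ⟨n₀, hn₀⟩ := Groth.Agent.Lib.Helper28.RelAmpSec.exists_forall_isRelVeryAmple f hLinv hLinv hL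
    have hva : RelProj.IsRelVeryAmple f (CohB1.tensorPow L (n₀ + 1)) := hn₀ n₀ le_rfl
    obtain ⟨𝒮, P, p, chart, O1, lam, i, h1, h2, h3, -, h5, h6, h7, -⟩ :=
      Groth.Agent.S5726.result (Or.inl ⟨inferInstance, inferInstance⟩) f (CohB1.tensorPow L (n₀ + 1))
        (Groth.Agent.Lib.Helper28.GenLocus.isInvertible_tensorPow hLinv _) hva
    exact ⟨hlft, hqc, 𝒮, P, p, chart, i, h1, h2, h3, h5, h6, h7⟩
  · rintro ⟨hlft, hqc, 𝒮, P, p, chart, j, hgen, hft, hP, hj, -, hjp⟩
    have hO := Groth.Agent.Lib.Helper28.RelTwistEx.isRelTwist hP 1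
    have hO1inv := (Groth.Agent.Lib.Helper28.RelProjGen1.isInvertible_and_isRelAmple hgen hft hO).1
    have hLinv := Groth.Agent.Lib.Helper28.PullbackInv.isInvertible_pullback j hO1inv
    have hva := Groth.Agent.S12485.result f _ hLinv 𝒮 hgen p chart hP _ _ hO j hjp (Iso.refl _)
    exact ⟨hlft, hqc, _, Groth.Agent.S5721.result f _ hLinv hva⟩

end Groth.Agent.S4425
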