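import Groth.Statements.S4429
import Mathlib.LinearAlgebra.Charpoly.BaseChange
import Mathlib.LinearAlgebra.Eigenspace.Charpoly
import Mathlib.LinearAlgebra.Eigenspace.Minpoly
import Mathlib.FieldTheory.SplittingField.Construction
import Mathlib.RingTheory.IntegralClosure.IsIntegralClosure.Basic
import Mathlib.LinearAlgebra.Matrix.Charpoly.LinearMap
-- import your own Groth.Agent.* helpers here

set_option autoImplicit false
universe u
open EGA2

namespace Groth.Agent.S4429

open Polynomial TensorProduct in
theorem aeval_baseChange_map {R S M : Type*} [CommRing R] [CommRing S] [Algebra R S]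
    [AddCommGroup M] [Module R M] (u : Module.End R M) (f : R[X]) (h : aeval u f = 0) :
    aeval (u.baseChange S) (f.map (algebraMap R S)) = 0 := by
  rw [aeval_map_algebraMap]
  have := Polynomial.aeval_algHom_apply (Module.End.baseChangeHom R S M) u f
  exact this.trans (by rw [h, map_zero])

open Polynomial TensorProduct in
theorem isIntegral_of_isRoot_charpoly (A : Type u) [CommRing A] [IsDomain A] (K : Type u) [Field K]
    [Algebra A K] (E : Type u) [AddCommGroup E] [Module A E] [Module.Finite A E]
    (u : E →ₗ[A] E) (L : Type*) [Field L] [Algebra K L] [Algebra A L] [IsScalarTower A K L]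
    (a : L) (hroot : IsRoot ((u.baseChange K).charpoly.map (algebraMap K L)) a) :
    IsIntegral A a := by
  classical
  obtain ⟨f, hfm, hfu⟩ := LinearMap.exists_monic_and_aeval_eq_zero A u
  have hfK := aeval_baseChange_map (S := K) u f hfu
  have hfL := aeval_baseChange_map (S := L) (u.baseChange K) _ hfK
  rw [← LinearMap.charpoly_baseChange, ← Module.End.hasEigenvalue_iff_isRoot_charpoly] at hroot
  obtain ⟨v, hv⟩ := hroot.exists_hasEigenvector
  have h1 := Module.End.aeval_apply_of_hasEigenvector
    (p := (f.map (algebraMap A K)).map (algebraMap K L)) hv
  rw [hfL, LinearMap.zero_apply] at h1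
  have h2 : eval a ((f.map (algebraMap A K)).map (algebraMap K L)) = 0 := by
    rcases smul_eq_zero.mp h1.symm with h | h
    · exact h
    · exact absurd h hv.2
  refine ⟨f, hfm, ?_⟩
  rw [Polynomial.map_map, ← IsScalarTower.algebraMap_eq, eval_map] at h2
  exact h2

/-- For an integral domain A with fraction field K, a finitely generated A-module E and an endomorphism
u of E, the coefficients of the characteristic polynomial of u ⊗ 1 acting on the K-vector space K
⊗_A E (the elementary symmetric functions of u, among them its trace and determinant) are integral
over A. -/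
theorem result (A : Type u) [CommRing A] [IsDomain A] (K : Type u) [Field K]
    [Algebra A K] [IsFractionRing A K] (E : Type u) [AddCommGroup E] [Module A E] [Module.Finite A E]
    (u : E →ₗ[A] E) (i : ℕ) :
    IsIntegral A (((u.baseChange K).charpoly).coeff i) := by
  classical
  open Polynomial in
  set g := (u.baseChange K).charpoly with hg
  have hmonic : g.Monic := LinearMap.charpoly_monic _
  have hsplit : (g.map (algebraMap K g.SplittingField)).Splits := SplittingField.splits g
  have key : g.map (algebraMap K g.SplittingField) ∈
      lifts (algebraMap (integralClosure A g.SplittingField) g.SplittingField) := by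
    apply hsplit.mem_lift_of_roots_mem_range (hmonic.map _)
    intro a ha
    have hroot : IsRoot (g.map (algebraMap K g.SplittingField)) a := (mem_roots'.mp ha).2
    have hint : IsIntegral A a := isIntegral_of_isRoot_charpoly A K E u g.SplittingField a hroot
    exact ⟨⟨a, hint⟩, rfl⟩
  rw [lifts_iff_coeff_lifts] at key
  obtain ⟨⟨b, hb⟩, hb'⟩ := key i
  rw [coeff_map] at hb'
  have hb'' : b = algebraMap K g.SplittingField (g.coeff i) := hb'
  have : IsIntegral A (algebraMap K g.SplittingField (g.coeff i)) := hb'' ▸ hb
  exact (isIntegral_algebraMap_iff (algebraMap K g.SplittingField).injective).mp this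

end Groth.Agent.S4429
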