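import Groth.Statements.S4430
import Groth.Agent.S4429
import Mathlib.Algebra.Polynomial.Reverse
-- import your own Groth.Agent.* helpers here

set_option autoImplicit false
universe u
open EGA2

namespace Groth.Agent.S4430

theorem isUnit_of_isIntegral_inv {A K : Type*} [CommRing A] [CommRing K] [Algebra A K]
    (hinj : Function.Injective (algebraMap A K)) (a : A) (b : K)
    (hab : algebraMap A K a * b = 1) (hb : IsIntegral A b) : IsUnit a := by
  obtain ⟨f, hfm, hfb⟩ := hb
  letI : Invertible b := ⟨algebraMap A K a, hab, by rw [mul_comm]; exact hab⟩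
  have h1 : Polynomial.eval₂ (algebraMap A K) (algebraMap A K a) f.reverse = 0 :=
    (Polynomial.eval₂_reverse_eq_zero_iff (algebraMap A K) b f).mpr hfb
  rw [Polynomial.eval₂_at_apply] at h1
  have h2 : Polynomial.eval a f.reverse = 0 := hinj (by rw [h1, map_zero])
  have h3 : f.reverse = f.reverse.divX * Polynomial.X + Polynomial.C 1 := by
    have := (Polynomial.divX_mul_X_add f.reverse).symm
    rwa [Polynomial.coeff_zero_reverse, hfm.leadingCoeff] at this
  rw [h3, Polynomial.eval_add, Polynomial.eval_mul, Polynomial.eval_X, Polynomial.eval_C] at h2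
  have h4 : a * (-(Polynomial.eval a f.reverse.divX)) = 1 := by
    linear_combination -h2
  exact IsUnit.of_mul_eq_one _ h4

/-- Let A be an integral domain with fraction field K, E a finitely generated A-module and u an
endomorphism of E whose characteristic-polynomial coefficients (those of u ⊗ 1 on K ⊗_A E) all lie
in A. If u is an automorphism of E, then its determinant, as an element of A, is invertible in A. -/
theorem result (A : Type u) [CommRing A] [IsDomain A] (K : Type u) [Field K]
    [Algebra A K] [IsFractionRing A K] (E : Type u) [AddCommGroup E] [Module A E] [Module.Finite A E]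
    (u : E →ₗ[A] E) (hcoeff : ∀ i : ℕ, ((u.baseChange K).charpoly).coeff i ∈ (algebraMap A K).range)
    (a : A) (ha : algebraMap A K a = LinearMap.det (u.baseChange K)) (hu : Function.Bijective u) :
    IsUnit a := by
  classical
  let e : E ≃ₗ[A] E := LinearEquiv.ofBijective u hu
  let v : E →ₗ[A] E := e.symm.toLinearMap
  have huv : u ∘ₗ v = LinearMap.id := by
    ext x
    exact e.apply_symm_apply x
  have h1 : (u.baseChange K) ∘ₗ (v.baseChange K) = LinearMap.id := by
    rw [← LinearMap.baseChange_comp, huv, LinearMap.baseChange_id]
  have h2 : LinearMap.det (u.baseChange K) * LinearMap.det (v.baseChange K) = 1 := by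
    rw [← LinearMap.det_comp, h1, LinearMap.det_id]
  have h3 : IsIntegral A (LinearMap.det (v.baseChange K)) := by
    rw [LinearMap.det_eq_sign_charpoly_coeff]
    exact (IsIntegral.pow (isIntegral_one.neg) _).mul (Groth.Agent.S4429.result A K E v 0)
  rw [← ha] at h2
  exact isUnit_of_isIntegral_inv (IsFractionRing.injective A K) a _ h2 h3

end Groth.Agent.S4430
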