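import Groth.Statements.S4431
import Mathlib.LinearAlgebra.Charpoly.BaseChange
import Mathlib.RingTheory.Localization.BaseChange
import Mathlib.RingTheory.Polynomial.Basic
-- import your own Groth.Agent.* helpers here

set_option autoImplicit false
universe u
open EGA2

namespace Groth.Agent.S4431

open Polynomial TensorProduct in
/-- If the characteristic polynomial of `u ⊗ 1` has coefficients in `A` and `E` is torsion-free,
then the lifted polynomial annihilates `u`. -/
theorem aeval_lift_eq_zero (A : Type u) [CommRing A] [IsDomain A] (K : Type u) [Field K]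
    [Algebra A K] [IsFractionRing A K] (E : Type u) [AddCommGroup E] [Module A E] [Module.Finite A E]
    [Module.IsTorsionFree A E]
    (u : E →ₗ[A] E) (Q : A[X]) (hQ : Q.map (algebraMap A K) = (u.baseChange K).charpoly) :
    aeval u Q = 0 := by
  have h1 : aeval (u.baseChange K) ((u.baseChange K).charpoly) = 0 :=
    LinearMap.aeval_self_charpoly _
  rw [← hQ, aeval_map_algebraMap] at h1
  have h2 : (aeval u Q).baseChange K = 0 := by
    have := Polynomial.aeval_algHom_apply (Module.End.baseChangeHom A K E) u Q
    rw [← h1]
    exact this.symm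
  have hloc : IsLocalizedModule (nonZeroDivisors A) (TensorProduct.mk A K E 1) :=
    (isLocalizedModule_iff_isBaseChange (nonZeroDivisors A) K _).mpr
      (TensorProduct.isBaseChange A E K)
  ext e
  have h3 : (TensorProduct.mk A K E 1) ((aeval u Q) e) = 0 := by
    have : (aeval u Q).baseChange K ((1 : K) ⊗ₜ[A] e) = 0 := by rw [h2]; rfl
    simpa using this
  rw [IsLocalizedModule.eq_zero_iff (nonZeroDivisors A)] at h3
  obtain ⟨c, hc⟩ := h3
  have hc0 : (c : A) ≠ 0 := nonZeroDivisors.coe_ne_zero c
  have : (c : A) • (aeval u Q) e = 0 := hc
  rcases smul_eq_zero.mp this with h | h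
  · exact absurd h hc0
  · simpa using h

/-- Let A be an integral domain with fraction field K, E a finitely generated torsion-free A-module and
u an endomorphism of E whose characteristic-polynomial coefficients (those of u ⊗ 1 on K ⊗_A E) all
lie in A. If the determinant of u is the image of a unit of A, then u is an automorphism of E. -/
theorem result (A : Type u) [CommRing A] [IsDomain A] (K : Type u) [Field K]
    [Algebra A K] [IsFractionRing A K] (E : Type u) [AddCommGroup E] [Module A E] [Module.Finite A E]
    [Module.IsTorsionFree A E]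
    (u : E →ₗ[A] E) (hcoeff : ∀ i : ℕ, ((u.baseChange K).charpoly).coeff i ∈ (algebraMap A K).range)
    (a : A) (ha : algebraMap A K a = LinearMap.det (u.baseChange K)) (hunit : IsUnit a) :
    Function.Bijective u := by
  classical
  open Polynomial in
  have hlift : (u.baseChange K).charpoly ∈ Polynomial.lifts (algebraMap A K) := by
    rw [Polynomial.lifts_iff_coeff_lifts]
    intro n
    exact hcoeff n
  obtain ⟨Q, hQ⟩ := (Polynomial.mem_lifts _).mp hlift
  have hQ0 : aeval u Q = 0 := aeval_lift_eq_zero A K E u Q hQ
  have hinj : Function.Injective (algebraMap A K) := IsFractionRing.injective A K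
  -- constant coefficient is a unit
  have hc0 : IsUnit (Q.coeff 0) := by
    have h1 : algebraMap A K (Q.coeff 0) = (u.baseChange K).charpoly.coeff 0 := by
      rw [← hQ, Polynomial.coeff_map]
    have h2 := LinearMap.det_eq_sign_charpoly_coeff (u.baseChange K)
    rw [← ha, ← h1] at h2
    have h3 : a = (-1) ^ Module.finrank K (TensorProduct A K E) * Q.coeff 0 := by
      apply hinj
      rw [h2, map_mul, map_pow, map_neg, map_one]
    have h4 : IsUnit ((-1 : A) ^ Module.finrank K (TensorProduct A K E) * Q.coeff 0) := h3 ▸ hunit
    exact (IsUnit.mul_iff.mp h4).2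
  have hdecomp : Q = X * Q.divX + C (Q.coeff 0) := by
    rw [mul_comm]; exact (Polynomial.divX_mul_X_add Q).symm
  have h5 : u * aeval u Q.divX + algebraMap A (Module.End A E) (Q.coeff 0) = 0 := by
    have := congrArg (aeval u) hdecomp
    rw [hQ0, map_add, map_mul, aeval_X, aeval_C] at this
    exact this.symm
  have hcomm : Commute u (aeval u Q.divX) := by
    have : Commute (aeval u (X : A[X])) (aeval u Q.divX) :=
      (Commute.all (X : A[X]) Q.divX).map (aeval u)
    simpa using this
  have h6 : IsUnit (u * aeval u Q.divX) := by
    have : u * aeval u Q.divX = - algebraMap A (Module.End A E) (Q.coeff 0) :=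
      eq_neg_of_add_eq_zero_left h5
    rw [this]
    exact (hc0.map (algebraMap A (Module.End A E))).neg
  have h7 : IsUnit u := (hcomm.isUnit_mul_iff.mp h6).1
  exact (Module.End.isUnit_iff u).mp h7

end Groth.Agent.S4431
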