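import Groth.Statements.S4432
import Groth.Agent.S4429
import Mathlib

set_option autoImplicit false
universe u
open EGA2

namespace Groth.Agent.S4432

section Aux
open Polynomial TensorProduct

/-- Coefficients of the characteristic polynomial of an endomorphism of a finite-dimensional
vector space over a field `L`, killed by a monic polynomial over `A`, are integral over `A`. -/
theorem isIntegral_coeff_charpoly_field {A : Type*} [CommRing A] {L : Type*} [Field L] [Algebra A L]
    {W : Type*} [AddCommGroup W] [Module L W] [Module.Finite L W]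
    (w : W →ₗ[L] W) (f : A[X]) (hfm : f.Monic) (hf : aeval w (f.map (algebraMap A L)) = 0) (i : ℕ) :
    IsIntegral A (w.charpoly.coeff i) := by
  classical
  set g := w.charpoly with hg
  have hmonic : g.Monic := LinearMap.charpoly_monic _
  have hsplit : (g.map (algebraMap L g.SplittingField)).Splits := SplittingField.splits g
  have key : g.map (algebraMap L g.SplittingField) ∈
      lifts (algebraMap (integralClosure A g.SplittingField) g.SplittingField) := by
    apply hsplit.mem_lift_of_roots_mem_range (hmonic.map _)
    intro a ha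
    have hroot : IsRoot (g.map (algebraMap L g.SplittingField)) a := (mem_roots'.mp ha).2
    have hint : IsIntegral A a := by
      have hfL := Groth.Agent.S4429.aeval_baseChange_map (S := g.SplittingField) w _ hf
      have hroot' : IsRoot ((w.baseChange g.SplittingField).charpoly) a := by
        rw [LinearMap.charpoly_baseChange]; exact hroot
      rw [← Module.End.hasEigenvalue_iff_isRoot_charpoly] at hroot'
      obtain ⟨x, hx⟩ := hroot'.exists_hasEigenvector
      have h1 := Module.End.aeval_apply_of_hasEigenvector
        (p := (f.map (algebraMap A L)).map (algebraMap L g.SplittingField)) hx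
      rw [hfL, LinearMap.zero_apply] at h1
      have h2 : eval a ((f.map (algebraMap A L)).map (algebraMap L g.SplittingField)) = 0 := by
        rcases smul_eq_zero.mp h1.symm with h | h
        · exact h
        · exact absurd h hx.2
      refine ⟨f, hfm, ?_⟩
      rw [Polynomial.map_map, ← IsScalarTower.algebraMap_eq, eval_map] at h2
      exact h2
    exact ⟨⟨a, hint⟩, rfl⟩
  rw [lifts_iff_coeff_lifts] at key
  obtain ⟨⟨b, hb⟩, hb'⟩ := key i
  rw [coeff_map] at hb'
  have hb'' : b = algebraMap L g.SplittingField (g.coeff i) := hb'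
  have : IsIntegral A (algebraMap L g.SplittingField (g.coeff i)) := hb'' ▸ hb
  exact (isIntegral_algebraMap_iff (algebraMap L g.SplittingField).injective).mp this


/-- modulo a prime -/
theorem exists_monic_aeval_mem_prime {A : Type*} [CommRing A] {K : Type*} [CommRing K] [Algebra A K]
    {V : Type*} [AddCommGroup V] [Module K V] [Module.Finite K V] [Module.Free K V]
    (v' : V →ₗ[K] V) (f : A[X]) (hfm : f.Monic) (hf : aeval v' (f.map (algebraMap A K)) = 0) (i : ℕ)
    (P : Ideal K) [P.IsPrime] :
    ∃ h : A[X], h.Monic ∧ aeval (v'.charpoly.coeff i) h ∈ P := by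
  let L := FractionRing (K ⧸ P)
  have hfL := Groth.Agent.S4429.aeval_baseChange_map (S := L) v' _ hf
  rw [Polynomial.map_map, ← IsScalarTower.algebraMap_eq] at hfL
  have h1 := isIntegral_coeff_charpoly_field (A := A) (v'.baseChange L) f hfm hfL i
  rw [LinearMap.charpoly_baseChange, coeff_map] at h1
  obtain ⟨h, hm, hh⟩ := h1
  refine ⟨h, hm, ?_⟩
  rw [← aeval_def, aeval_algebraMap_apply] at hh
  rw [IsScalarTower.algebraMap_apply K (K ⧸ P) L] at hh
  have h2 := (IsFractionRing.injective (K ⧸ P) L) (hh.trans (map_zero _).symm)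
  exact Ideal.Quotient.eq_zero_iff_mem.mp h2

theorem isIntegral_coeff_charpoly {A : Type*} [CommRing A] {K : Type*} [CommRing K] [Algebra A K]
    [IsNoetherianRing K] [IsReduced K]
    {V : Type*} [AddCommGroup V] [Module K V] [Module.Finite K V] [Module.Free K V]
    (v' : V →ₗ[K] V) (f : A[X]) (hfm : f.Monic) (hf : aeval v' (f.map (algebraMap A K)) = 0) (i : ℕ) :
    IsIntegral A (v'.charpoly.coeff i) := by
  classical
  set c := v'.charpoly.coeff i with hc
  have hfin : (minimalPrimes K).Finite := minimalPrimes.finite_of_isNoetherianRing K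
  have hex : ∀ P : Ideal K, ∃ h : A[X], h.Monic ∧ (P ∈ minimalPrimes K → aeval c h ∈ P) := by
    intro P
    by_cases hP : P ∈ minimalPrimes K
    · haveI : P.IsPrime := hP.1.1
      obtain ⟨h, hm, hh⟩ := exists_monic_aeval_mem_prime v' f hfm hf i P
      exact ⟨h, hm, fun _ => hh⟩
    · exact ⟨1, monic_one, fun h => absurd h hP⟩
  choose h hm hh using hex
  refine ⟨∏ P ∈ hfin.toFinset, h P, monic_prod_of_monic _ _ fun P _ => hm P, ?_⟩
  rw [← aeval_def, map_prod]
  have hmem : ∏ P ∈ hfin.toFinset, aeval c (h P) ∈ sInf (minimalPrimes K) := by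
    rw [Ideal.mem_sInf]
    intro P hP
    have hP' : P ∈ hfin.toFinset := hfin.mem_toFinset.mpr hP
    exact Ideal.mem_of_dvd _ (Finset.dvd_prod_of_mem _ hP') (hh P hP)
  have : sInf (minimalPrimes K) = ⊥ := by
    rw [minimalPrimes, Ideal.sInf_minimalPrimes]
    exact nilradical_eq_zero K
  rw [this] at hmem
  exact hmem


theorem charpoly_smul_comp {K : Type*} [CommRing K] {n : Type*} [Fintype n] [DecidableEq n]
    (M : Matrix n n K) (σ : K) :
    (σ • M).charpoly.comp (C σ * X) = C (σ ^ Fintype.card n) * M.charpoly := by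
  have h1 : (σ • M).charpoly.comp (C σ * X) =
      ((compRingHom (C σ * X)).mapMatrix (Matrix.charmatrix (σ • M))).det := by
    rw [← RingHom.map_det]; rfl
  have h2 : (compRingHom (C σ * X : K[X])).mapMatrix (Matrix.charmatrix (σ • M)) =
      (C σ : K[X]) • Matrix.charmatrix M := by
    ext i j : 1
    simp only [RingHom.mapMatrix_apply, Matrix.map_apply, Matrix.charmatrix_apply, Matrix.smul_apply,
      coe_compRingHom, sub_comp, C_comp, smul_eq_mul, mul_sub, map_mul]
    congr 1
    · by_cases hij : i = j
      · subst hij; simp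
      · simp [Matrix.diagonal_apply_ne _ hij]
    · rw [← C_mul, C_comp]
  rw [h1, h2, Matrix.det_smul, Matrix.charpoly, map_pow]

theorem coeff_charpoly_smul {K : Type*} [CommRing K] {n : Type*} [Fintype n] [DecidableEq n]
    (M : Matrix n n K) (σ : K) (i : ℕ) :
    (σ • M).charpoly.coeff i * σ ^ i = σ ^ Fintype.card n * M.charpoly.coeff i := by
  have := congrArg (fun p => p.coeff i) (charpoly_smul_comp M σ)
  simp only [comp_C_mul_X_coeff, ← map_pow, coeff_C_mul] at this
  exact this


section Denominators

variable (A : Type u) [CommRing A] (E : Type u) [AddCommGroup E] [Module A E] [Module.Finite A E]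
  [Module.Free (FractionRing A) (TensorProduct A (FractionRing A) E)]

local notation "KK" => FractionRing A
local notation "VV" => TensorProduct A (FractionRing A) E

/-- common denominator for the matrices of all `v ⊗ 1`. -/
theorem exists_denominator :
    ∃ s : A, s ∈ nonZeroDivisors A ∧ ∀ v : E →ₗ[A] E,
      ∀ i j, ∃ a : A, algebraMap A KK a = algebraMap A KK s *
        LinearMap.toMatrix (Module.Free.chooseBasis KK VV) (Module.Free.chooseBasis KK VV)
          (v.baseChange KK) i j := by
  classical
  set b := Module.Free.chooseBasis KK VV with hb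
  -- (a)
  have ha : ∀ j, ∃ x : E × nonZeroDivisors A, x.2 • b j = TensorProduct.mk A KK E 1 x.1 := fun j =>
    IsLocalizedModule.surj (nonZeroDivisors A) (TensorProduct.mk A KK E 1) (b j)
  choose x hx using ha
  let t1 : nonZeroDivisors A := ∏ j, (x j).2
  have ht1 : ∀ j, ∃ e : E, (t1 : A) • b j = (1 : KK) ⊗ₜ[A] e := by
    intro j
    refine ⟨(∏ k ∈ Finset.univ.erase j, ((x k).2 : A)) • (x j).1, ?_⟩
    have : (t1 : A) = (∏ k ∈ Finset.univ.erase j, ((x k).2 : A)) * ((x j).2 : A) := by
      simp only [t1, Submonoid.coe_finsetProd]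
      rw [Finset.prod_erase_mul _ _ (Finset.mem_univ j)]
    rw [this, mul_smul, TensorProduct.tmul_smul]
    congr 1
    exact hx j
  -- (b)
  obtain ⟨G, hG⟩ := (Module.Finite.fg_top : (⊤ : Submodule A E).FG)
  obtain ⟨t2, ht2⟩ := IsLocalization.exist_integer_multiples_of_finset (nonZeroDivisors A)
    ((G ×ˢ (Finset.univ : Finset (Module.Free.ChooseBasisIndex KK VV))).image
      (fun p => b.repr ((1 : KK) ⊗ₜ[A] p.1) p.2))
  have hb2 : ∀ e : E, ∀ i, ∃ a : A, algebraMap A KK a = (t2 : A) • b.repr ((1 : KK) ⊗ₜ[A] e) i := by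
    intro e
    have he : e ∈ Submodule.span A (G : Set E) := by rw [hG]; trivial
    induction he using Submodule.span_induction with
    | mem g hg =>
      intro i
      exact ht2 _ (Finset.mem_image.mpr ⟨(g, i), Finset.mem_product.mpr ⟨hg, Finset.mem_univ _⟩, rfl⟩)
    | zero => intro i; exact ⟨0, by simp⟩
    | add e1 e2 _ _ h1 h2 =>
      intro i
      obtain ⟨a1, h1⟩ := h1 i
      obtain ⟨a2, h2⟩ := h2 i
      refine ⟨a1 + a2, ?_⟩
      rw [map_add, h1, h2, TensorProduct.tmul_add, map_add, Finsupp.add_apply, smul_add]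
    | smul r e _ h =>
      intro i
      obtain ⟨a, h⟩ := h i
      refine ⟨r * a, ?_⟩
      rw [map_mul, h, TensorProduct.tmul_smul, ← algebraMap_smul KK r, map_smul, Finsupp.smul_apply,
        smul_eq_mul, Algebra.smul_def, Algebra.smul_def]
      ring
  refine ⟨t1 * t2, (t1 * t2).2, fun v i j => ?_⟩
  obtain ⟨e, he⟩ := ht1 j
  obtain ⟨a, ha⟩ := hb2 (v e) i
  refine ⟨a, ?_⟩
  rw [ha, LinearMap.toMatrix_apply]
  have h1 : (v.baseChange KK) ((t1 : A) • b j) = (1 : KK) ⊗ₜ[A] v e := by
    rw [he, LinearMap.baseChange_tmul]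
  have h2 : (v.baseChange KK) ((t1 : A) • b j) = (t1 : A) • (v.baseChange KK) (b j) := by
    rw [← algebraMap_smul KK (t1 : A), map_smul, algebraMap_smul]
  rw [← h1, h2, ← algebraMap_smul KK (t1 : A) ((v.baseChange KK) (b j)), map_smul, Finsupp.smul_apply,
    smul_eq_mul, Algebra.smul_def, map_mul]
  ring


theorem main [IsNoetherianRing A] [IsReduced A] :
    (Algebra.adjoin A {c : KK | ∃ (v : E →ₗ[A] E) (j : ℕ),
        c = ((v.baseChange KK).charpoly).coeff j}).toSubmodule.FG := by
  classical
  set S : Set KK := {c : KK | ∃ (v : E →ₗ[A] E) (j : ℕ), c = ((v.baseChange KK).charpoly).coeff j}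
    with hS
  -- integrality
  have hint : ∀ c ∈ S, IsIntegral A c := by
    rintro c ⟨v, j, rfl⟩
    obtain ⟨f, hfm, hfu⟩ := LinearMap.exists_monic_and_aeval_eq_zero A v
    have hfK := Groth.Agent.S4429.aeval_baseChange_map (S := KK) v f hfu
    exact isIntegral_coeff_charpoly (v.baseChange KK) f hfm hfK j
  -- bounded denominators
  obtain ⟨s, hs, hden⟩ := exists_denominator A E
  set r := Fintype.card (Module.Free.ChooseBasisIndex KK VV) with hr
  set σ : KK := algebraMap A KK s with hσ
  have hσu : IsUnit (σ ^ r) := (IsLocalization.map_units KK (⟨s, hs⟩ : nonZeroDivisors A)).pow r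
  obtain ⟨w, hw⟩ := hσu.exists_left_inv
  have hsub : S ⊆ (Submodule.span A {w} : Submodule A KK) := by
    rintro c ⟨v, j, rfl⟩
    choose N₀ hN₀ using hden v
    set M := LinearMap.toMatrix (Module.Free.chooseBasis KK VV) (Module.Free.chooseBasis KK VV)
      (v.baseChange KK) with hM
    have hmap : (algebraMap A KK).mapMatrix (Matrix.of N₀) = σ • M := by
      ext i j
      simp only [RingHom.mapMatrix_apply, Matrix.map_apply, Matrix.of_apply, Matrix.smul_apply,
        smul_eq_mul]
      exact hN₀ i j
    have h1 := coeff_charpoly_smul M σ j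
    rw [← hmap, RingHom.mapMatrix_apply, Matrix.charpoly_map, coeff_map] at h1
    have h2 : (v.baseChange KK).charpoly = M.charpoly := rfl
    rw [h2]
    have h3 : M.charpoly.coeff j = (((Matrix.of N₀).charpoly.coeff j) * s ^ j) • w := by
      rw [Algebra.smul_def, map_mul, map_pow, h1, mul_comm, ← mul_assoc, hw, one_mul]
    rw [h3]
    exact Submodule.smul_mem _ _ (Submodule.mem_span_singleton_self w)
  -- f.g.
  set N : Submodule A KK := Submodule.span A S with hN
  have hNle : N ≤ Submodule.span A {w} := Submodule.span_le.mpr hsub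
  haveI : IsNoetherian A (Submodule.span A ({w} : Set KK)) :=
    isNoetherian_of_fg_of_noetherian _ (Submodule.fg_span_singleton w)
  haveI : IsNoetherian A N := isNoetherian_of_le hNle
  have hNfg : N.FG := (Module.Finite.iff_fg).mp inferInstance
  obtain ⟨G, hG⟩ := hNfg
  have hGint : ∀ x ∈ (G : Set KK), IsIntegral A x := by
    intro x hx
    have hxN : x ∈ N := hG ▸ Submodule.subset_span hx
    have hle : N ≤ (integralClosure A KK).toSubmodule := Submodule.span_le.mpr fun c hc => hint c hc
    exact hle hxN
  have : Algebra.adjoin A S = Algebra.adjoin A (G : Set KK) := by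
    rw [← Algebra.adjoin_span (R := A) (s := S), ← hN, ← hG, Algebra.adjoin_span]
  rw [this]
  exact fg_adjoin_of_finite G.finite_toSet hGint

end Denominators


end Aux

/-- Let A be a reduced Noetherian ring, K its total ring of fractions, and E a finitely generated
A-module with K ⊗_A E free over K. The A-subalgebra of K generated by the coefficients of the
characteristic polynomials of v ⊗ 1 (v running through all endomorphisms of E), i.e. by all
elementary symmetric functions of all endomorphisms of E, is a finitely generated A-module. -/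
theorem result (A : Type u) [CommRing A] [IsNoetherianRing A] [IsReduced A]
    (E : Type u) [AddCommGroup E] [Module A E] [Module.Finite A E]
    [Module.Free (FractionRing A) (TensorProduct A (FractionRing A) E)] :
    (Algebra.adjoin A {c : FractionRing A | ∃ (v : E →ₗ[A] E) (j : ℕ),
        c = ((v.baseChange (FractionRing A)).charpoly).coeff j}).toSubmodule.FG := by
  exact main A E

end Groth.Agent.S4432
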