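import Groth.Statements.S4434
import Groth.Agent.Lib.Helper13.DvrDominate

set_option autoImplicit false
universe u
open EGA2

namespace Groth.Agent.S4434

/-- Let A be a Noetherian domain with field of fractions K and L a finitely generated field extension of
K. The integral closure of A in L is the intersection of the discrete valuation subrings of L (with
fraction field L) containing the image of A: an element of L is integral over A exactly when it
belongs to all of them. -/
theorem result (A : Type u) [CommRing A] [IsDomain A] [IsNoetherianRing A]
    (K : Type u) [Field K] [Algebra A K] [IsFractionRing A K]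
    (L : Type u) [Field L] [Algebra K L] [Algebra A L] [IsScalarTower A K L] (hfg : (⊤ : IntermediateField K L).FG) (x : L) :
    IsIntegral A x ↔ ∀ R : ValuationSubring L, IsDiscreteValuationRing R → (∀ a : A, algebraMap A L a ∈ R) → x ∈ R := by
  constructor
  · intro hx R _ hAR
    let _ : Algebra A R := ((algebraMap A L).codRestrict R.toSubring hAR).toAlgebra
    have : IsScalarTower A R L := IsScalarTower.of_algebraMap_eq (fun _ => rfl)
    have hxR : IsIntegral R x := hx.tower_top
    obtain ⟨y, hy⟩ := (IsIntegrallyClosed.isIntegral_iff (R := R) (K := L)).mp hxR
    rw [← hy]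
    exact y.2
  · intro h
    by_contra hx
    obtain ⟨T, hT⟩ := Groth.Agent.Lib.Helper13.Dvr.exists_finset_closure_eq_top A K hfg
    obtain ⟨R, hR, hAR, hxR⟩ :=
      Groth.Agent.Lib.Helper13.Dvr.exists_dvr_notMem_of_not_isIntegral A T hT x hx
    exact hxR (h R hR hAR)

end Groth.Agent.S4434
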