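import Groth.Statements.S4436
import Groth.Agent.S2356

set_option autoImplicit false
universe u
open CategoryTheory CategoryTheory.Limits AlgebraicGeometry
open EGA2

namespace Groth.Agent.S4436

open TopologicalSpace Opposite
open Groth.Agent.Lib.Helper29.FreeIso


/-- Let f : X' ⟶ X be a finite morphism and F' a locally free O_{X'}-module of rank r. Then every point
of X has an open neighbourhood U over whose inverse image F' is free of rank r; this is the content
of the statement that the direct image of F' is a locally free module of rank r over the direct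
image of O_{X'} (the converse implication being immediate). -/
theorem result {X' X : Scheme.{u}} (f : X' ⟶ X) [IsFinite f] (r : ℕ)
    (F : X'.Modules) (hF : FlatMod.IsFinLocFreeOfRank r F) (x : X) :
    ∃ U : X.Opens, x ∈ U ∧ Nonempty (F.restrict (f ⁻¹ᵁ U).ι ≅ FlatMod.freeMod (↑(f ⁻¹ᵁ U)) r) := by
  obtain ⟨W, hW', hxW, -⟩ := (Opens.isBasis_iff_nbhd.1 X.isBasis_affineOpens)
    (show x ∈ (⊤ : X.Opens) from trivial)
  have hW : IsAffineOpen W := hW'
  have hV : IsAffineOpen (f ⁻¹ᵁ W) := hW.preimage f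
  have hZfin : (f ⁻¹' {x} : Set X').Finite := f.finite_preimage_singleton x
  have hZV : (f ⁻¹' {x} : Set X') ⊆ (f ⁻¹ᵁ W : X'.Opens) := by
    intro z hz
    have : f z = x := hz
    change f z ∈ W
    rw [this]
    exact hxW
  obtain ⟨U', hZU', -, ⟨e⟩⟩ := Groth.Agent.S2356.result X' r F hF _ hZfin (f ⁻¹ᵁ W) hV hZV
  have hclosed : IsClosed (f '' ((U' : Set X')ᶜ)) := f.isClosedMap _ U'.isOpen.isClosed_compl
  let U : X.Opens := ⟨(f '' ((U' : Set X')ᶜ))ᶜ, hclosed.isOpen_compl⟩
  have hxU : x ∈ U := by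
    rintro ⟨z, hz, hzx⟩
    exact hz (hZU' hzx)
  have hle : f ⁻¹ᵁ U ≤ U' := by
    intro z hz
    by_contra hcon
    exact hz ⟨z, hcon, rfl⟩
  exact ⟨U, hxU, nonempty_iso_freeMod_of_le F hle r e⟩



end Groth.Agent.S4436
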