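import Groth.Statements.S4437
import Groth.Agent.S2343
import Groth.Agent.S2349
import Mathlib
set_option backward.isDefEq.respectTransparency.types false

set_option autoImplicit false
universe u
open CategoryTheory CategoryTheory.Limits AlgebraicGeometry
open EGA2

namespace Groth.Agent.S4437
open IsLocalRing

/-- an isolated point of the fibre, from quasi-finiteness at `x`. -/
theorem isolated_of_quasiFiniteAt {X Y : Scheme.{u}} (f : X ⟶ Y) [LocallyOfFiniteType f] (x : X)
    (y : Y) (hy : f.base x = y) (h : f.QuasiFiniteAt x) :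
    IsOpen ((Subtype.val : (f.base ⁻¹' {y}) → X) ⁻¹' {x}) := by
  subst hy
  rw [Scheme.Hom.quasiFiniteAt_iff_isOpen_singleton_asFiber] at h
  rw [← (f.fiberHomeo (f x)).isOpen_image] at h
  simp only [Set.image_singleton, Scheme.Hom.asFiber, Homeomorph.apply_symm_apply] at h
  convert h using 1
  ext ⟨z, hz⟩
  simp [Subtype.ext_iff]

theorem fromSpecStalk_comp_toSpec (R : CommRingCat.{u}) {X : Scheme.{u}} (f : X ⟶ Spec R) (x : X) :
    X.fromSpecStalk x ≫ f = Spec.map ((Scheme.ΓSpecIso R).inv ≫
      f.appTop ≫ X.presheaf.germ ⊤ x trivial) := by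
  rw [← cancel_mono (Spec R).toSpecΓ, Category.assoc,
    Scheme.toSpecΓ_naturality, Scheme.fromSpecStalk_toSpecΓ_assoc, ← SpecMap_ΓSpecIso_hom,
    ← Spec.map_comp, ← Spec.map_comp]
  simp


/-- Let A be a complete Noetherian local ring and f : X ⟶ Spec A a separated quasi-finite morphism (of
finite type with discrete fibres). Then X splits as a disjoint sum of two open subschemes, one
finite over Spec A and containing the fibre over the closed point, the other not meeting that fibre:
there is an open and closed U ⊆ X, finite over Spec A, containing every point lying over the closed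
point. -/
theorem result (A : Type u) [CommRing A] [IsLocalRing A]
    [IsNoetherianRing A] [IsAdicComplete (IsLocalRing.maximalIdeal A) A] (X : Scheme.{u})
    (f : X ⟶ Spec (CommRingCat.of A)) [LocallyOfFiniteType f] [QuasiCompact f] [IsSeparated f] [LocallyQuasiFinite f] :
    ∃ U : X.Opens, IsClosed (U : Set X) ∧ IsFinite (U.ι ≫ f) ∧
      ∀ x : X, f.base x = IsLocalRing.closedPoint A → x ∈ U := by
  -- the closed fibre is finite
  have hfin : (f.base ⁻¹' {closedPoint A}).Finite := f.finite_preimage_singleton _
  haveI : Finite ↥(f.base ⁻¹' {closedPoint A}) := hfin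
  -- apply S2343 at each point of the closed fibre
  have key : ∀ x : ↥(f.base ⁻¹' {closedPoint A}),
      IsFinite (X.fromSpecStalk x.1 ≫ f) ∧ IsOpenImmersion (X.fromSpecStalk x.1) ∧
        IsClosedImmersion (X.fromSpecStalk x.1) := by
    rintro ⟨x, hx⟩
    have hx' : f.base x = closedPoint A := hx
    have hisol := isolated_of_quasiFiniteAt f x _ hx' (f.quasiFiniteAt x)
    obtain ⟨h1, h2, h3⟩ := Groth.Agent.S2343.result A X f x hx' hisol
    refine ⟨?_, h2, h3⟩
    rw [fromSpecStalk_comp_toSpec]
    exact (IsFinite.SpecMap_iff _).mpr h1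
  haveI hopen : ∀ x : ↥(f.base ⁻¹' {closedPoint A}), IsOpenImmersion (X.fromSpecStalk x.1) :=
    fun x => (key x).2.1
  let U : X.Opens := ⨆ x : ↥(f.base ⁻¹' {closedPoint A}), (X.fromSpecStalk x.1).opensRange
  have hUcoe : (U : Set X) = ⋃ x : ↥(f.base ⁻¹' {closedPoint A}),
      Set.range (X.fromSpecStalk x.1) := by
    simp [U]
  have hUclosed : IsClosed (U : Set X) := by
    rw [hUcoe]
    refine isClosed_iUnion_of_finite fun x => ?_
    haveI := (key x).2.2
    exact (X.fromSpecStalk x.1).isClosedEmbedding.isClosed_range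
  refine ⟨U, hUclosed, ?_, ?_⟩
  · -- finiteness
    haveI : IsClosedImmersion U.ι :=
      IsClosedImmersion.of_isPreimmersion U.ι (by rw [Scheme.Opens.range_ι]; exact hUclosed)
    have hle : ∀ x : ↥(f.base ⁻¹' {closedPoint A}),
        Set.range (X.fromSpecStalk x.1) ⊆ Set.range U.ι := by
      intro x
      rw [Scheme.Opens.range_ι, hUcoe]
      exact Set.subset_iUnion (fun x : ↥(f.base ⁻¹' {closedPoint A}) =>
        Set.range (X.fromSpecStalk x.1)) x
    haveI : UniversallyClosed (U.ι ≫ f) := by
      refine Groth.Agent.S2349.univClosed_of_cover (U.ι ≫ f) ↥(f.base ⁻¹' {closedPoint A})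
        (fun x => Spec (X.presheaf.stalk x.1))
        (fun x => IsOpenImmersion.lift U.ι (X.fromSpecStalk x.1) (hle x)) ?_ ?_
      · intro x
        rw [IsOpenImmersion.lift_fac_assoc]
        haveI := (key x).1
        infer_instance
      · intro u
        have hu : u.1 ∈ (U : Set X) := u.2
        rw [hUcoe] at hu
        obtain ⟨x, z, hz⟩ := Set.mem_iUnion.mp hu
        refine ⟨x, z, ?_⟩
        apply U.ι.injective
        rw [← Scheme.Hom.comp_apply, IsOpenImmersion.lift_fac]
        exact hz
    haveI : IsProper (U.ι ≫ f) := {}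
    exact IsFinite.of_isProper_of_locallyQuasiFinite _
  · intro x hx
    have : x ∈ (U : Set X) := by
      rw [hUcoe]
      refine Set.mem_iUnion.mpr ⟨⟨x, hx⟩, closedPoint _, ?_⟩
      exact X.fromSpecStalk_closedPoint
    exact this

end Groth.Agent.S4437
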