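import Groth.Statements.S4438
import Groth.Agent.S2355
import Groth.Agent.S9716
import Groth.Agent.Lib.Helper17.LNormRel
import Groth.Agent.Lib.Helper17.FiniteBirPic
import Groth.Agent.Lib.Helper28.PullbackInv2
import Mathlib
set_option backward.isDefEq.respectTransparency.types false

set_option autoImplicit false
universe u
open CategoryTheory CategoryTheory.Limits AlgebraicGeometry
open EGA2

namespace Groth.Agent.S4438

open Groth.Agent.Lib.Helper28 Groth.Agent.Lib.Helper17
open Groth.Agent.Lib.Helper28.QCohLoc Groth.Agent.Lib.Helper28.TwistGen Groth.Agent.Lib.Helper29.FreeIso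
open Groth.Agent.Lib.Helper29.QCohStalk Groth.Agent.S9716

attribute [local instance] Groth.Agent.Lib.Helper17.NormFLF.algApp

/-- local freeness of `g_* O_{X'}` gives good affine neighbourhoods -/
theorem exists_good {X X' : Scheme.{u}} (g : X' ⟶ X)
    (h : FlatMod.IsFinLocFree (PO g)) (x : X) :
    ∃ W, NormFLF.Good g W ∧ x ∈ W := by
  obtain ⟨U, n, hxU, ⟨e⟩⟩ := h x
  obtain ⟨τ, hτ, hgen⟩ := exists_isBasisOn_of_iso' (PO g) U n e
  obtain ⟨V, hV, hxV, hVU⟩ := (TopologicalSpace.Opens.isBasis_iff_nbhd.1 X.isBasis_affineOpens) hxU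
  refine ⟨V, ⟨hV, ?_⟩, hxV⟩
  let b : Fin n → Γ(X', g ⁻¹ᵁ V) := fun j =>
    ofSM (show Γ(Coh.structureModule X', g ⁻¹ᵁ V) from res (PO g) hVU (τ j))
  have hsmul : ∀ (a : Γ(X, V)) (m : Γ(X', g ⁻¹ᵁ V)), a • m = g.app V a * m := by
    intro a m
    rw [Algebra.smul_def, NormFLF.algebraMap_eq]
  have key : ∀ c : Fin n → Γ(X, V),
      ofSM (show Γ(Coh.structureModule X', g ⁻¹ᵁ V) from
        (∑ j, c j • res (PO g) hVU (τ j) : Γ(PO g, V))) = ∑ j, c j • b j := by
    intro c
    have h2 := sum_PO g V c (fun j => res (PO g) hVU (τ j))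
    refine h2.trans (Finset.sum_congr rfl fun j _ => (hsmul _ _).symm)
  have hli : LinearIndependent Γ(X, V) b := by
    rw [Fintype.linearIndependent_iff]
    intro c hc
    refine hτ.1 V hVU c ?_
    have h3 := key c
    rw [hc] at h3
    exact h3
  have hspan : Submodule.span Γ(X, V) (Set.range b) = ⊤ := by
    rw [eq_top_iff]
    rintro m -
    obtain ⟨c, hc⟩ := hgen V hVU (show Γ(PO g, V) from toSM m)
    have h3 := key c
    have h4 : m = ∑ j, c j • b j := by
      rw [← h3]
      have h5 : m = ofSM (show Γ(Coh.structureModule X', g ⁻¹ᵁ V) from (toSM m)) := rfl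
      rw [h5]
      congr 1
    rw [h4]
    exact Submodule.sum_mem _ fun j _ => Submodule.smul_mem _ _ (Submodule.subset_span ⟨j, rfl⟩)
  exact Module.Free.of_basis (Module.Basis.mk hli hspan.ge)


/-- In existence form: let f : X ⟶ Y be a quasi-compact morphism and g : X' ⟶ X a finite surjective
morphism such that the direct image of O_{X'} is a finite locally free O_X-module. Then there is an
invertible O_X-module ample relative to f if and only if there is an invertible O_{X'}-module ample
relative to f ∘ g. (For the descent direction the published statement names the module on X, the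
norm of the given one; this row asserts existence only. The other direction is the inverse image
along the affine morphism g.) -/
theorem result {X X' Y : Scheme.{u}} (f : X ⟶ Y) [QuasiCompact f]
    (g : X' ⟶ X) [IsFinite g] [Surjective g]
    (hfree : FlatMod.IsFinLocFree ((Coh.push g).obj (Coh.structureModule X'))) :
    (∃ L : X.Modules, PicF.IsInvertible L ∧ RelAmple.IsRelAmple f L) ↔
      ∃ L' : X'.Modules, PicF.IsInvertible L' ∧ RelAmple.IsRelAmple (g ≫ f) L' := by
  constructor
  · rintro ⟨L, hL, h⟩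
    refine ⟨(Scheme.Modules.pullback g).obj L, PullbackInv.isInvertible_pullback g hL,
      Groth.Agent.S2355.result f g ⟨inferInstance, fun V hV => ?_⟩ L h⟩
    haveI : IsAffine ((g ⁻¹ᵁ V : X'.Opens) : Scheme.{u}) := hV.preimage g
    infer_instance
  · rintro ⟨L', hL', h⟩
    have hcovG : ∀ x : X, ∃ W, NormFLF.Good g W ∧ x ∈ W := fun x => exists_good g hfree x
    have hsurj : Function.Surjective g.base := Surjective.surj
    let Nm : LNorm g := LNormGlue.lnorm g hcovG hsurj
    have htriv : ∀ x : X, ∃ W : X.Opens, x ∈ W ∧ ∃ ℓ : Γ(L', g ⁻¹ᵁ W), GenLocus.IsGen L' (g ⁻¹ᵁ W) ℓ := by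
      intro x
      obtain ⟨_, ⟨W₀, hW₀, rfl⟩, hxW₀, -⟩ :=
        X.isBasis_affineOpens.exists_subset_of_mem_open (Set.mem_univ x) isOpen_univ
      obtain ⟨W, hxW, -, ℓ, hℓ⟩ := FiniteBirPic.exists_nhd_generator g L' hL' W₀ hW₀ x hxW₀
      exact ⟨W, hxW, ℓ, hℓ⟩
    choose V hxV ℓ hℓ using htriv
    have hcov : ∀ x : X, ∃ i, x ∈ V i := fun x => ⟨x, hxV x⟩
    refine ⟨LNormMod.NN Nm V L' ℓ hℓ, LNormMod.isInvertible_NN Nm V L' ℓ hℓ hcov, inferInstance, fun V₀ => ?_⟩
    exact LNormRel.isAmple_restrict_NN V L' ℓ hℓ (f ⁻¹ᵁ V₀.1) Nm hcov (h.2 V₀)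

end Groth.Agent.S4438
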