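import Groth.Statements.S4441
import Mathlib

set_option autoImplicit false
universe u
open CategoryTheory CategoryTheory.Limits AlgebraicGeometry
open EGA2

namespace Groth.Agent.S4441

section
open IsLocalRing

/-- a morphism from the spectrum of a valuation subring of the function field, restricting to the
canonical morphism on the generic point, exhibits the valuation ring as dominating the local ring
of the image of the closed point -/
theorem dominates_of_hom (X : Scheme.{u}) [IsIntegral X] (R : ValuationSubring X.functionField)
    (l : Spec (CommRingCat.of R) ⟶ X)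
    (hl : Spec.map (CommRingCat.ofHom R.subtype) ≫ l = X.fromSpecStalk (genericPoint X)) :
    (∀ a : X.presheaf.stalk (l.base (closedPoint R)),
        algebraMap (X.presheaf.stalk (l.base (closedPoint R))) X.functionField a ∈ R) ∧
      ∀ a ∈ maximalIdeal (X.presheaf.stalk (l.base (closedPoint R))),
        R.valuation (algebraMap (X.presheaf.stalk (l.base (closedPoint R))) X.functionField a) <
          1 := by
  have hν : Scheme.stalkClosedPointTo l ≫ CommRingCat.ofHom R.subtype =
      X.presheaf.stalkSpecializes (genericPoint_specializes (l.base (closedPoint R))) := by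
    apply Spec.map_injective
    apply (cancel_mono (X.fromSpecStalk (l.base (closedPoint R)))).mp
    rw [Spec.map_comp, Category.assoc, Scheme.Spec_stalkClosedPointTo_fromSpecStalk, hl,
      Scheme.SpecMap_stalkSpecializes_fromSpecStalk]
  have hνval : ∀ a, algebraMap (X.presheaf.stalk (l.base (closedPoint R))) X.functionField a =
      (((Scheme.stalkClosedPointTo l).hom a : R) : X.functionField) := by
    intro a
    exact (congrArg (fun ξ : X.presheaf.stalk (l.base (closedPoint R)) ⟶
      X.functionField => ξ.hom a) hν).symm
  refine ⟨fun a => ?_, fun a ha => ?_⟩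
  · rw [hνval]
    exact Subtype.coe_prop _
  · rw [hνval]
    rw [← ValuationSubring.valuation_lt_one_iff]
    have hloc : IsLocalHom (Scheme.stalkClosedPointTo l).hom := inferInstance
    rw [mem_maximalIdeal, mem_nonunits_iff] at ha ⊢
    exact fun hu => ha (hloc.map_nonunit a hu)

end

/-- Let X and Y be integral separated schemes and f : X ⟶ Y a dominant, quasi-compact, universally
closed morphism, ξ the generic point of X. Every valuation subring R of the function field K(X) of X
which dominates the local ring of Y at a point y (via O_{Y,y} → O_{Y,f(ξ)} → K(X): image inside R,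
maximal ideal into the maximal ideal of R) also dominates the local ring of X at some point x (via
O_{X,x} → K(X)). -/
theorem result {X Y : Scheme.{u}} [IsIntegral X] [IsIntegral Y]
    [X.IsSeparated] [Y.IsSeparated] (f : X ⟶ Y) [IsDominant f] [QuasiCompact f] [UniversallyClosed f]
    (R : ValuationSubring X.functionField) (y : Y) (hy : f.base (genericPoint X) ⤳ y)
    (hdom : (∀ a : Y.presheaf.stalk y, (Y.presheaf.stalkSpecializes hy ≫ f.stalkMap (genericPoint X)).hom a ∈ R) ∧
      ∀ a ∈ IsLocalRing.maximalIdeal (Y.presheaf.stalk y),
        R.valuation ((Y.presheaf.stalkSpecializes hy ≫ f.stalkMap (genericPoint X)).hom a) < 1) :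
    ∃ x : X, (∀ a : X.presheaf.stalk x, algebraMap (X.presheaf.stalk x) X.functionField a ∈ R) ∧
      ∀ a ∈ IsLocalRing.maximalIdeal (X.presheaf.stalk x), R.valuation (algebraMap (X.presheaf.stalk x) X.functionField a) < 1 := by
  obtain ⟨hmem, hlt⟩ := hdom
  let θ : Y.presheaf.stalk y ⟶ CommRingCat.of R :=
    CommRingCat.ofHom ((Y.presheaf.stalkSpecializes hy ≫
      f.stalkMap (genericPoint X)).hom.codRestrict R.toSubring hmem)
  have hθ : θ ≫ CommRingCat.ofHom R.subtype =
      Y.presheaf.stalkSpecializes hy ≫ f.stalkMap (genericPoint X) := by
    ext a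
    rfl
  have hex : ValuativeCriterion.Existence f := by
    have h1 : (ValuativeCriterion.Existence ⊓ @QuasiCompact : MorphismProperty Scheme) f := by
      rw [← UniversallyClosed.eq_valuativeCriterion]
      infer_instance
    exact h1.1
  let S : ValuativeCommSq f :=
    { R := R
      K := X.functionField
      i₁ := X.fromSpecStalk (genericPoint X)
      i₂ := Spec.map θ ≫ Y.fromSpecStalk y
      commSq := ⟨by
        have e2 := congrArg Spec.map hθ
        rw [Spec.map_comp, Spec.map_comp] at e2
        change _ = Spec.map (CommRingCat.ofHom R.subtype) ≫ _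
        rw [← Category.assoc, e2, Category.assoc, Scheme.SpecMap_stalkSpecializes_fromSpecStalk,
          Scheme.SpecMap_stalkMap_fromSpecStalk]⟩ }
  obtain ⟨⟨l, hl1, -⟩⟩ := hex S
  exact ⟨l.base (IsLocalRing.closedPoint R), dominates_of_hom X R l hl1⟩

end Groth.Agent.S4441
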