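import Groth.Statements.S4442
import Groth.Agent.Lib.Helper7.ResFieldTrdeg
import Groth.Agent.Lib.Helper7.TopDimComponents
import Mathlib.RingTheory.Ideal.MinimalPrime.Noetherian

set_option autoImplicit false
universe u
open CategoryTheory CategoryTheory.Limits AlgebraicGeometry
attribute [local instance] Curv2.resAlgebra
open EGA2

namespace Groth.Agent.S4442

open Groth.Agent.Lib.Helper7.ResTrdeg Groth.Agent.Lib.Helper7.AffPts Groth.Agent.Lib.Helper7.ClosedPtDim

/-- (a) ⇔ (b): let X be a scheme of finite type over a field k. The residue fields of the generic points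
of the irreducible components of X all have transcendence degree one over k if and only if the local
ring of X at every closed point has dimension one. (The published statement has a third equivalent
condition: the irreducible closed subsets of X other than the irreducible components are exactly the
closed points of X. This row states only the equivalence of the first two.) -/
theorem result (k : Type u) [Field k] (X : Scheme.{u})
    [X.Over (Spec (CommRingCat.of k))] [LocallyOfFiniteType (X ↘ (Spec (CommRingCat.of k)))]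
    [QuasiCompact (X ↘ (Spec (CommRingCat.of k)))] :
    (∀ x : X, closure ({x} : Set X) ∈ irreducibleComponents (X : Type u) → Algebra.trdeg k (X.residueField x) = 1) ↔
      ∀ x : X, IsClosed ({x} : Set X) → ringKrullDim (X.presheaf.stalk x) = 1 := by
  classical
  haveI : JacobsonSpace X := LocallyOfFiniteType.jacobsonSpace (X ↘ (Spec (CommRingCat.of k)))
  constructor
  · -- (a) ⇒ (b)
    intro ha x hxc
    obtain ⟨U, hU, hxU, -⟩ := exists_isAffineOpen_mem_and_subset (x := x) (U := ⊤) trivial
    letI algA : Algebra k Γ(X, U) := (kToΓ k X U).toAlgebra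
    haveI ftA : Algebra.FiniteType k Γ(X, U) := finiteType_kToΓ k X hU
    set m := (hU.primeIdealOf ⟨x, hxU⟩).asIdeal with hmdef
    haveI hm : m.IsMaximal := hU.primeIdealOf_isMaximal_of_isClosed ⟨x, hxU⟩ hxc
    letI algS : Algebra Γ(X, U) (X.presheaf.stalk x) :=
      TopCat.Presheaf.algebra_section_stalk X.presheaf (⟨x, hxU⟩ : U)
    haveI hloc : IsLocalization.AtPrime (X.presheaf.stalk x) m := hU.isLocalization_stalk ⟨x, hxU⟩
    rw [IsLocalization.AtPrime.ringKrullDim_eq_height m (X.presheaf.stalk x)]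
    obtain ⟨q, hqmin, hqm, hq⟩ := exists_minimalPrime_dim_eq_height k Γ(X, U) m
    rw [← hq]
    obtain ⟨η, hη⟩ := primeIdealOf_surjective hU ⟨q, hqmin.1.1⟩
    have hηq : (hU.primeIdealOf η).asIdeal = q := by rw [hη]
    have hηmax : ∀ y : X, y ⤳ (η : X) → y = η :=
      (forall_specializes_eq_iff hU η).2 (by rw [hηq]; exact hqmin)
    have hcomp := (closure_mem_irreducibleComponents_iff (η : X)).2 hηmax
    have h1 := ha η.1 hcomp
    obtain ⟨n, hn1, hn2, -⟩ := exists_nat_trdeg_residueField k X hU η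
    rw [hηq] at hn2
    rw [hn2]
    rw [h1] at hn1
    have hn : n = 1 := by exact_mod_cast hn1.symm
    rw [hn]; rfl
  · -- (b) ⇒ (a)
    intro hb x hxcomp
    have hxmax := (closure_mem_irreducibleComponents_iff x).1 hxcomp
    obtain ⟨U, hU, hxU, -⟩ := exists_isAffineOpen_mem_and_subset (x := x) (U := ⊤) trivial
    letI algA : Algebra k Γ(X, U) := (kToΓ k X U).toAlgebra
    haveI ftA : Algebra.FiniteType k Γ(X, U) := finiteType_kToΓ k X hU
    set p := (hU.primeIdealOf ⟨x, hxU⟩).asIdeal with hpdef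
    haveI hpprime : p.IsPrime := (hU.primeIdealOf ⟨x, hxU⟩).isPrime
    have hpmin : p ∈ minimalPrimes Γ(X, U) := (forall_specializes_eq_iff hU ⟨x, hxU⟩).1 hxmax
    obtain ⟨n, hn1, hn2, -⟩ := exists_nat_trdeg_residueField k X hU ⟨x, hxU⟩
    rw [hn1]
    haveI : IsNoetherianRing Γ(X, U) := Algebra.FiniteType.isNoetherianRing k _
    have hfin : (minimalPrimes Γ(X, U)).Finite := minimalPrimes.finite_of_isNoetherianRing _
    have hex : ∀ q : Ideal Γ(X, U), q ∈ minimalPrimes Γ(X, U) → q ≠ p → ∃ g, g ∈ q ∧ g ∉ p := by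
      intro q hq hne
      by_contra hcon
      push Not at hcon
      have hqp : q ≤ p := hcon
      exact hne (le_antisymm hqp (hpmin.2 ⟨hq.1.1, bot_le⟩ hqp))
    choose! g hg1 hg2 using hex
    obtain ⟨f, hfp, hfq⟩ : ∃ f, f ∉ p ∧ ∀ q ∈ minimalPrimes Γ(X, U), q ≠ p → f ∈ q := by
      refine ⟨∏ q ∈ hfin.toFinset.erase p, g q, ?_, ?_⟩
      · rw [Ideal.IsPrime.prod_mem_iff]
        rintro ⟨q, hq, hgq⟩
        rw [Finset.mem_erase, Set.Finite.mem_toFinset] at hq
        exact hg2 q hq.2 hq.1 hgq
      · intro q hq hne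
        exact Ideal.prod_mem q (Finset.mem_erase.2 ⟨hne, hfin.mem_toFinset.2 hq⟩) (hg1 q hq hne)
    have hxf : x ∈ X.basicOpen f := by
      by_contra hcon
      exact hfp ((mem_primeIdealOf_iff hU ⟨x, hxU⟩ f).2 hcon)
    obtain ⟨y, ⟨hy1, hy2⟩, hyc⟩ :=
      Groth.Agent.Lib.Helper7.TopDimComp.exists_isClosed_singleton_mem_of_isOpen_inter
        (isClosed_closure (s := ({x} : Set X))) (X.basicOpen f).isOpen
        ⟨x, subset_closure rfl, hxf⟩
    have hyU : y ∈ U := X.basicOpen_le f hy2
    set m := (hU.primeIdealOf ⟨y, hyU⟩).asIdeal with hmdef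
    haveI hm : m.IsMaximal := hU.primeIdealOf_isMaximal_of_isClosed ⟨y, hyU⟩ hyc
    have hfm : f ∉ m := fun h => ((mem_primeIdealOf_iff hU ⟨y, hyU⟩ f).1 h) hy2
    obtain ⟨q, hqmin, hqm, hq⟩ := exists_minimalPrime_dim_eq_height k Γ(X, U) m
    have hqp : q = p := by
      by_contra hne
      exact hfm (hqm (hfq q hqmin hne))
    rw [hqp] at hq
    have hdim := hb y hyc
    letI algS : Algebra Γ(X, U) (X.presheaf.stalk y) :=
      TopCat.Presheaf.algebra_section_stalk X.presheaf (⟨y, hyU⟩ : U)
    haveI hloc : IsLocalization.AtPrime (X.presheaf.stalk y) m := hU.isLocalization_stalk ⟨y, hyU⟩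
    rw [IsLocalization.AtPrime.ringKrullDim_eq_height m (X.presheaf.stalk y)] at hdim
    have h1 : (n : WithBot ℕ∞) = 1 := by rw [← hn2, hq, hdim]
    have hn : n = 1 := by exact_mod_cast h1
    rw [hn]; simp

end Groth.Agent.S4442
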