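import Groth.Statements.S4451
import Mathlib
import Groth.Agent.S4441
import Groth.Agent.S2246

set_option autoImplicit false
universe u
open CategoryTheory CategoryTheory.Limits AlgebraicGeometry
attribute [local instance] Curv2.stalkAlgebra
open EGA2

namespace Groth.Agent.S4451

section
open IsLocalRing

/-- a Noetherian integrally closed local domain of dimension one is a discrete valuation ring -/
theorem isDVR_of_dim_one (O : Type u) [CommRing O] [IsDomain O] [IsNoetherianRing O]
    [IsLocalRing O] [IsIntegrallyClosed O] (h : ringKrullDim O = 1) :
    IsDiscreteValuationRing O := by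
  have hnf : ¬ IsField O := fun hf => by
    have h0 := ringKrullDim_eq_zero_of_isField hf
    rw [h] at h0
    exact one_ne_zero h0
  haveI : Ring.KrullDimLE 1 O := Ring.krullDimLE_iff.mpr h.le
  have h3 : IsIntegrallyClosed O ∧ ∃! P : Ideal O, P ≠ ⊥ ∧ P.IsPrime := by
    refine ⟨inferInstance, maximalIdeal O, ⟨?_, inferInstance⟩, ?_⟩
    · intro hbot
      exact hnf (isField_iff_maximalIdeal_eq.mpr hbot)
    · rintro P ⟨hP0, hP⟩
      exact eq_maximalIdeal (hP.isMaximal_of_ne_bot hP0)
  exact ((IsDiscreteValuationRing.TFAE O hnf).out 0 3).mpr h3

/-- on an integral quasi-compact scheme whose closed points have one-dimensional local rings,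
every point other than the generic point is closed -/
theorem isClosed_singleton_of_ne_genericPoint (X : Scheme.{u}) [IsIntegral X] [CompactSpace X]
    (hX : ∀ x : X, IsClosed ({x} : Set X) → ringKrullDim (X.presheaf.stalk x) = 1)
    (x : X) (hx : x ≠ genericPoint X) : IsClosed ({x} : Set X) := by
  obtain ⟨x', hx'mem, hx'cl⟩ := (isClosed_closure (s := ({x} : Set X))).exists_closed_singleton
    ⟨x, subset_closure rfl⟩
  have hsp : x ⤳ x' := specializes_iff_mem_closure.mpr hx'mem
  haveI : Ring.KrullDimLE 1 (X.presheaf.stalk x') := Ring.krullDimLE_iff.mpr (hX x' hx'cl).le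
  have hxr : x ∈ Set.range (X.fromSpecStalk x').base := by
    rw [Scheme.range_fromSpecStalk]
    exact hsp
  obtain ⟨p, hp⟩ := hxr
  by_cases hbot : (show PrimeSpectrum (X.presheaf.stalk x') from p).asIdeal = ⊥
  · exfalso
    apply hx
    have hηr : genericPoint X ∈ Set.range (X.fromSpecStalk x').base := by
      rw [Scheme.range_fromSpecStalk]
      exact genericPoint_specializes x'
    obtain ⟨q, hq⟩ := hηr
    have hpq : (show PrimeSpectrum (X.presheaf.stalk x') from p) ⤳
        (show PrimeSpectrum (X.presheaf.stalk x') from q) := by
      rw [← PrimeSpectrum.le_iff_specializes]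
      change (show PrimeSpectrum (X.presheaf.stalk x') from p).asIdeal ≤ _
      rw [hbot]
      exact bot_le
    have h1 : x ⤳ genericPoint X := by
      rw [← hp, ← hq]
      exact hpq.map (X.fromSpecStalk x').continuous
    exact (h1.antisymm (genericPoint_specializes x)).eq
  · have hmax := (show PrimeSpectrum (X.presheaf.stalk x') from p).isPrime.isMaximal_of_ne_bot hbot
    have hpc : p = closedPoint (X.presheaf.stalk x') := by
      apply PrimeSpectrum.ext
      exact eq_maximalIdeal hmax
    rw [hpc, Scheme.fromSpecStalk_closedPoint] at hp
    rw [← hp]
    exact hx'cl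

/-- the canonical morphism from the spectrum of a local ring of a `k`-scheme, composed with the
structure morphism, is induced by the structure ring map `k → O_{X,x}` -/
theorem fromSpecStalk_comp_over (k : Type u) [Field k] (X : Scheme.{u})
    [X.Over (Spec (CommRingCat.of k))] (x : X) :
    X.fromSpecStalk x ≫ (X ↘ (Spec (CommRingCat.of k))) =
      Spec.map (CommRingCat.ofHom (Curv2.stalkMap k X x)) := by
  have h1 : (X ↘ (Spec (CommRingCat.of k))) =
      X.toSpecΓ ≫ Spec.map (X ↘ (Spec (CommRingCat.of k))).appTop ≫
        Spec.map (Scheme.ΓSpecIso (CommRingCat.of k)).inv := by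
    rw [← Scheme.toSpecΓ_naturality_assoc, toSpecΓ_SpecMap_ΓSpecIso_inv, Category.comp_id]
  rw [h1, Scheme.fromSpecStalk_toSpecΓ_assoc, ← Spec.map_comp, ← Spec.map_comp]
  rfl

/-- the valuation subring of the function field given by a local ring which is a valuation ring -/
theorem exists_valuationSubring_of_dvr (X : Scheme.{u}) [IsIntegral X] (x : X)
    [IsDiscreteValuationRing (X.presheaf.stalk x)] :
    ∃ R : ValuationSubring X.functionField, R ≠ ⊤ ∧
      (R : Set X.functionField) = Set.range (algebraMap (X.presheaf.stalk x) X.functionField) := by
  refine ⟨(ValuationRing.valuation (X.presheaf.stalk x) X.functionField).valuationSubring, ?_, ?_⟩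
  · intro htop
    apply IsDiscreteValuationRing.not_isField (X.presheaf.stalk x)
    rw [← IsFractionRing.surjective_iff_isField (K := X.functionField)]
    intro z
    have hz : z ∈ (ValuationRing.valuation (X.presheaf.stalk x)
        X.functionField).valuationSubring := by
      rw [htop]
      trivial
    exact (ValuationRing.mem_integer_iff (X.presheaf.stalk x) X.functionField z).1 hz
  · ext z
    exact ValuationRing.mem_integer_iff (X.presheaf.stalk x) X.functionField z

end

/-- Let X be a normal, complete, irreducible algebraic curve over a field k with field of rational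
functions K. The set of local rings of X, as subrings of K, consists of K itself (at the generic
point) and of the valuation rings of K containing k (and distinct from K): every non-generic point
has such a valuation ring as local ring, and every such valuation ring is the local ring of exactly
one point. -/
theorem result (k : Type u) [Field k] (X : Scheme.{u})
    [X.Over (Spec (CommRingCat.of k))] [IsProper (X ↘ (Spec (CommRingCat.of k)))] [IsIntegral X]
    (hX : ∀ x : X, IsClosed ({x} : Set X) → ringKrullDim (X.presheaf.stalk x) = 1) (hnorm : Pi1.IsNormalScheme X) :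
    (∀ x : X, x ≠ genericPoint X → ∃ R : ValuationSubring X.functionField, R ≠ ⊤ ∧
        (R : Set X.functionField) = Set.range (algebraMap (X.presheaf.stalk x) X.functionField)) ∧
      ∀ R : ValuationSubring X.functionField, R ≠ ⊤ → (∀ c : k, algebraMap k X.functionField c ∈ R) →
        ∃! x : X, (R : Set X.functionField) = Set.range (algebraMap (X.presheaf.stalk x) X.functionField) := by
  classical
  haveI : IsLocallyNoetherian X :=
    LocallyOfFiniteType.isLocallyNoetherian (X ↘ (Spec (CommRingCat.of k)))
  haveI : CompactSpace X := by
    have : QuasiCompact (X ↘ (Spec (CommRingCat.of k))) := inferInstance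
    exact (HasAffineProperty.iff_of_isAffine (P := @QuasiCompact)).mp this
  haveI : X.IsSeparated := ⟨by
    rw [← terminal.comp_from (X ↘ (Spec (CommRingCat.of k)))]
    infer_instance⟩
  -- the local rings at non-generic points are discrete valuation rings
  have hdvr : ∀ x : X, x ≠ genericPoint X → IsDiscreteValuationRing (X.presheaf.stalk x) := by
    intro x hx
    have hcl := isClosed_singleton_of_ne_genericPoint X hX x hx
    haveI := (hnorm x).2
    exact isDVR_of_dim_one (X.presheaf.stalk x) (hX x hcl)
  refine ⟨fun x hx => ?_, fun R hR hk => ?_⟩
  · haveI := hdvr x hx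
    exact exists_valuationSubring_of_dvr X x
  · -- the valuative square
    let κ : k →+* R := (Curv2.stalkMap k X (genericPoint X)).codRestrict R.toSubring hk
    have hκ : CommRingCat.ofHom κ ≫ CommRingCat.ofHom R.subtype =
        CommRingCat.ofHom (Curv2.stalkMap k X (genericPoint X)) := by
      ext a
      rfl
    have hex : ValuativeCriterion.Existence (X ↘ (Spec (CommRingCat.of k))) := by
      have h1 : (ValuativeCriterion.Existence ⊓ @QuasiCompact : MorphismProperty Scheme)
          (X ↘ (Spec (CommRingCat.of k))) := by
        rw [← UniversallyClosed.eq_valuativeCriterion]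
        infer_instance
      exact h1.1
    let S : ValuativeCommSq (X ↘ (Spec (CommRingCat.of k))) :=
      { R := R
        K := X.functionField
        i₁ := X.fromSpecStalk (genericPoint X)
        i₂ := Spec.map (CommRingCat.ofHom κ)
        commSq := ⟨by
          have e2 := congrArg Spec.map hκ
          rw [Spec.map_comp] at e2
          change _ = Spec.map (CommRingCat.ofHom R.subtype) ≫ _
          rw [e2, fromSpecStalk_comp_over]⟩ }
    obtain ⟨⟨l, hl1, -⟩⟩ := hex S
    obtain ⟨hmem, hlt⟩ := Groth.Agent.S4441.dominates_of_hom X R l hl1
    obtain ⟨x, hxdef⟩ : ∃ x : X, x = l.base (IsLocalRing.closedPoint R) := ⟨_, rfl⟩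
    rw [← hxdef] at hmem hlt
    -- `x` is not the generic point
    have hxne : x ≠ genericPoint X := by
      intro hxη
      apply hR
      rw [eq_top_iff]
      intro z _
      subst hxη
      have hid : ∀ w : X.presheaf.stalk (genericPoint X),
          (X.presheaf.stalkSpecializes (genericPoint_specializes (genericPoint X))).hom w = w := by
        intro w
        have : X.presheaf.stalkSpecializes (genericPoint_specializes (genericPoint X)) =
            𝟙 _ := TopCat.Presheaf.stalkSpecializes_refl _ _
        rw [this]
        rfl
      have h2 := hmem z
      change (X.presheaf.stalkSpecializes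
        (genericPoint_specializes (genericPoint X))).hom z ∈ R at h2
      rwa [hid] at h2
    haveI := hdvr x hxne
    have heq : (R : Set X.functionField) =
        Set.range (algebraMap (X.presheaf.stalk x) X.functionField) := by
      apply subset_antisymm
      · intro r hr
        by_cases hr0 : r = 0
        · exact ⟨0, by rw [hr0, map_zero]⟩
        rcases ValuationRing.isInteger_or_isInteger (X.presheaf.stalk x) r with ⟨a, ha⟩ | ⟨a, ha⟩
        · exact ⟨a, ha⟩
        · by_cases hu : IsUnit a
          · obtain ⟨u, rfl⟩ := hu
            refine ⟨((u⁻¹ : (X.presheaf.stalk x)ˣ) : X.presheaf.stalk x), ?_⟩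
            have h1 : algebraMap (X.presheaf.stalk x) X.functionField
                ((u⁻¹ : (X.presheaf.stalk x)ˣ) : X.presheaf.stalk x) *
                algebraMap (X.presheaf.stalk x) X.functionField (u : X.presheaf.stalk x) = 1 := by
              rw [← map_mul, Units.inv_mul, map_one]
            rw [ha] at h1
            have h2 : r * r⁻¹ = 1 := mul_inv_cancel₀ hr0
            exact mul_right_cancel₀ (inv_ne_zero hr0) (h1.trans h2.symm)
          · exfalso
            have h1 := hlt a ((IsLocalRing.mem_maximalIdeal a).2 hu)
            rw [ha] at h1
            have h2 : R.valuation r ≤ 1 := (R.valuation_le_one_iff r).2 hr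
            have h3 : R.valuation r * R.valuation r⁻¹ = 1 := by
              rw [← map_mul, mul_inv_cancel₀ hr0, map_one]
            have h4 : R.valuation r * R.valuation r⁻¹ < 1 := by
              calc R.valuation r * R.valuation r⁻¹ ≤ 1 * R.valuation r⁻¹ :=
                    mul_le_mul_left h2 _
                _ = R.valuation r⁻¹ := one_mul _
                _ < 1 := h1
            exact absurd h3 (ne_of_lt h4)
      · rintro _ ⟨a, rfl⟩
        exact hmem a
    refine ⟨x, heq, fun x' hx' => ?_⟩
    -- uniqueness
    have hrange : ∀ z : X, (R : Set X.functionField) =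
        Set.range (algebraMap (X.presheaf.stalk z) X.functionField) →
        LocalSubring.range (algebraMap (X.presheaf.stalk z) X.functionField) ≤
          R.toLocalSubring := by
      intro z hz
      have hle : (LocalSubring.range (algebraMap (X.presheaf.stalk z) X.functionField)).toSubring ≤
          R.toLocalSubring.toSubring := by
        rintro w ⟨a, rfl⟩
        have : algebraMap (X.presheaf.stalk z) X.functionField a ∈ (R : Set X.functionField) := by
          rw [hz]
          exact ⟨a, rfl⟩
        exact this
      refine ⟨hle, ⟨?_⟩⟩
      rintro ⟨w, a, rfl⟩ hunit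
      -- the inverse lies in `R`, hence in the range
      obtain ⟨⟨v, hv⟩, hv1, hv2⟩ := isUnit_iff_exists.mp hunit
      have hvr : v ∈ Set.range (algebraMap (X.presheaf.stalk z) X.functionField) := by
        rw [← hz]
        exact hv
      obtain ⟨b, rfl⟩ := hvr
      have h1 : algebraMap (X.presheaf.stalk z) X.functionField a *
          algebraMap (X.presheaf.stalk z) X.functionField b = 1 :=
        congrArg Subtype.val hv1
      have h2 : a * b = 1 := by
        apply IsFractionRing.injective (X.presheaf.stalk z) X.functionField
        rw [map_mul, h1, map_one]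
      have h3 : IsUnit a := IsUnit.of_mul_eq_one b h2
      exact h3.map (algebraMap (X.presheaf.stalk z) X.functionField).rangeRestrict
    exact Groth.Agent.S2246.eq_of_dominate X x' x R.toLocalSubring (hrange x' hx') (hrange x heq)

end Groth.Agent.S4451
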