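import Groth.Statements.S4445
import Mathlib
import Groth.Agent.S2344
import Groth.Agent.S4451

set_option autoImplicit false
universe u
open CategoryTheory CategoryTheory.Limits AlgebraicGeometry
attribute [local instance] Curv2.stalkAlgebra
open EGA2

namespace Groth.Agent.S4445

/-- Let X be a normal irreducible algebraic curve over a field k with field of rational functions K, and
Y an integral complete (proper over k) algebraic curve with field of rational functions L. Dominant
k-morphisms X ⟶ Y correspond bijectively to k-embeddings L → K: for every k-algebra homomorphism φ :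
L → K there is exactly one k-morphism u : X ⟶ Y mapping the generic point of X to the generic point
of Y and inducing φ on the stalks at the generic points. -/
theorem result (k : Type u) [Field k] (X Y : Scheme.{u})
    [X.Over (Spec (CommRingCat.of k))] [LocallyOfFiniteType (X ↘ (Spec (CommRingCat.of k)))]
    [QuasiCompact (X ↘ (Spec (CommRingCat.of k)))] [IsSeparated (X ↘ (Spec (CommRingCat.of k)))] [IsIntegral X]
    (hX : ∀ x : X, IsClosed ({x} : Set X) → ringKrullDim (X.presheaf.stalk x) = 1) (hnorm : Pi1.IsNormalScheme X)
    [Y.Over (Spec (CommRingCat.of k))] [IsProper (Y ↘ (Spec (CommRingCat.of k)))] [IsIntegral Y]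
    (hY : ∀ y : Y, IsClosed ({y} : Set Y) → ringKrullDim (Y.presheaf.stalk y) = 1)
    (φ : Y.functionField →ₐ[k] X.functionField) :
    ∃! u : X ⟶ Y, u ≫ (Y ↘ (Spec (CommRingCat.of k))) = X ↘ (Spec (CommRingCat.of k)) ∧
      ∃ hu : u.base (genericPoint X) = genericPoint Y,
        (Y.presheaf.stalkSpecializes (specializes_of_eq hu) ≫ u.stalkMap (genericPoint X)).hom = (φ : Y.functionField →+* X.functionField) := by
  haveI : IsLocallyNoetherian X :=
    LocallyOfFiniteType.isLocallyNoetherian (X ↘ (Spec (CommRingCat.of k)))
  -- the morphism from the generic point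
  obtain ⟨ψ, hψ⟩ : ∃ ψ : Spec (X.presheaf.stalk (genericPoint X)) ⟶ Y,
      ψ = Spec.map (CommRingCat.ofHom (φ : Y.functionField →+* X.functionField)) ≫
        Y.fromSpecStalk (genericPoint Y) := ⟨_, rfl⟩
  have hψk : ψ ≫ (Y ↘ (Spec (CommRingCat.of k))) =
      X.fromSpecStalk (genericPoint X) ≫ (X ↘ (Spec (CommRingCat.of k))) := by
    rw [hψ, Category.assoc, Groth.Agent.S4451.fromSpecStalk_comp_over,
      Groth.Agent.S4451.fromSpecStalk_comp_over, ← Spec.map_comp]
    congr 1
    ext c
    exact φ.commutes c
  obtain ⟨U, hηU, g, hψg, hgk⟩ := spread_out_of_isGermInjective'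
    (sX := X ↘ (Spec (CommRingCat.of k))) (sY := Y ↘ (Spec (CommRingCat.of k))) ψ hψk
  have hUd : Dense (U : Set X) := by
    rw [dense_iff_closure_eq, Set.eq_univ_iff_forall]
    intro x
    exact closure_mono (Set.singleton_subset_iff.mpr hηU)
      (specializes_iff_mem_closure.mp (genericPoint_specializes x))
  obtain ⟨u, ⟨hu1, hu2⟩, huniq⟩ := Groth.Agent.S2344.result k X Y hX hnorm U hUd g hgk
  -- the key identity
  have key : ∀ u' : X ⟶ Y, (∃ hu : u'.base (genericPoint X) = genericPoint Y,
      (Y.presheaf.stalkSpecializes (specializes_of_eq hu) ≫ u'.stalkMap (genericPoint X)).hom =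
        (φ : Y.functionField →+* X.functionField)) ↔ X.fromSpecStalk (genericPoint X) ≫ u' = ψ := by
    intro u'
    constructor
    · rintro ⟨hu, hst⟩
      have h1 : Spec.map (Y.presheaf.stalkSpecializes (specializes_of_eq hu) ≫
          u'.stalkMap (genericPoint X)) ≫ Y.fromSpecStalk (genericPoint Y) =
          X.fromSpecStalk (genericPoint X) ≫ u' := by
        rw [Spec.map_comp, Category.assoc, Scheme.SpecMap_stalkSpecializes_fromSpecStalk,
          Scheme.SpecMap_stalkMap_fromSpecStalk]
      rw [← h1, hψ]
      congr 2
      ext a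
      exact congrArg (fun ξ : Y.functionField →+* X.functionField => ξ a) hst
    · intro h
      have hu : u'.base (genericPoint X) = genericPoint Y := by
        have h2 : (X.fromSpecStalk (genericPoint X) ≫ u').base
            (IsLocalRing.closedPoint (X.presheaf.stalk (genericPoint X))) =
            u'.base (genericPoint X) := by
          rw [Scheme.Hom.comp_apply, Scheme.fromSpecStalk_closedPoint]
        rw [← h2, h, hψ, Scheme.Hom.comp_apply]
        have h3 : ∀ q : Spec (Y.presheaf.stalk (genericPoint Y)),
            q = IsLocalRing.closedPoint (Y.presheaf.stalk (genericPoint Y)) := by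
          intro q
          apply PrimeSpectrum.ext
          rw [Ideal.eq_bot_of_prime q.asIdeal]
          exact (IsLocalRing.maximalIdeal_eq_bot (R := Y.functionField)).symm
        rw [h3 (Spec.map _ _), Scheme.fromSpecStalk_closedPoint]
      refine ⟨hu, ?_⟩
      have h1 : Spec.map (Y.presheaf.stalkSpecializes (specializes_of_eq hu) ≫
          u'.stalkMap (genericPoint X)) ≫ Y.fromSpecStalk (genericPoint Y) =
          X.fromSpecStalk (genericPoint X) ≫ u' := by
        rw [Spec.map_comp, Category.assoc, Scheme.SpecMap_stalkSpecializes_fromSpecStalk,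
          Scheme.SpecMap_stalkMap_fromSpecStalk]
      rw [h, hψ, cancel_mono] at h1
      have h4 := Spec.map_injective h1
      rw [h4]
      rfl
  have hu3 : X.fromSpecStalk (genericPoint X) ≫ u = ψ := by
    rw [hψg, ← hu1, ← Category.assoc, Scheme.Opens.fromSpecStalkOfMem_ι]
  refine ⟨u, ⟨hu2, (key u).mpr hu3⟩, ?_⟩
  rintro u' ⟨hu'1, hu'2⟩
  have hu'3 := (key u').mp hu'2
  haveI : IsDominant (X.fromSpecStalk (genericPoint X)) := by
    constructor
    rw [DenseRange, Scheme.range_fromSpecStalk, dense_iff_closure_eq, Set.eq_univ_iff_forall]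
    intro x
    exact closure_mono (Set.singleton_subset_iff.mpr (specializes_rfl : genericPoint X ⤳ genericPoint X))
      (specializes_iff_mem_closure.mp (genericPoint_specializes x))
  exact ext_of_isDominant_of_isSeparated (Y ↘ (Spec (CommRingCat.of k)))
    (by rw [hu'1, hu2]) (X.fromSpecStalk (genericPoint X)) (by rw [hu'3, hu3])

end Groth.Agent.S4445
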