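import Groth.Statements.S4448
import Groth.Agent.Lib.Helper13.Normalization

set_option autoImplicit false
universe u
open CategoryTheory CategoryTheory.Limits AlgebraicGeometry
open EGA2

namespace Groth.Agent.S4448

/-- Let X be an integral scheme with field of rational functions k(ξ), K a field extension of k(ξ) (an
embedding φ), and X' the integral closure of X relative to K, i.e. the normalization of X along the
morphism g : Spec K ⟶ X through the generic point. Then X' is integral and normal, the generic point
ξ' of X' is the only point over ξ, the canonical morphism Spec K ⟶ X' hits ξ', and the field of
rational functions of X' (the local ring at ξ') maps isomorphically onto the algebraic closure of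
k(ξ) in K. (The quasi-compactness and quasi-separatedness binders on g always hold; they are needed
only to form the normalization.) -/
theorem result (X : Scheme.{u}) [IsIntegral X] (K : Type u) [Field K]
    (φ : X.functionField →+* K) (g : Spec (CommRingCat.of K) ⟶ X)
    (hg : g = Spec.map (CommRingCat.ofHom φ) ≫ X.fromSpecStalk (genericPoint X)) [QuasiCompact g] [QuasiSeparated g] :
    ∃ (_ : IsIntegral g.normalization), Pi1.IsNormalScheme g.normalization ∧
      g.fromNormalization.base ⁻¹' {genericPoint X} = {genericPoint g.normalization} ∧
      g.toNormalization.base (IsLocalRing.closedPoint K) = genericPoint g.normalization ∧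
      Function.Injective (Scheme.stalkClosedPointTo g.toNormalization).hom ∧
      Set.range (Scheme.stalkClosedPointTo g.toNormalization).hom =
        {y : K | ∃ q : Polynomial X.functionField, q.Monic ∧ Polynomial.eval₂ φ y q = 0} := by
  have hK : IsField (CommRingCat.of K) := Field.toIsField K
  have hgη : ∀ pt, g pt = genericPoint X := fun pt => by
    rw [hg]; exact Lib.Helper13.Normalization.comp_fromSpecStalk_apply X K φ pt
  haveI := Lib.Helper13.Normalization.isIntegral_Spec hK
  have hint : IsIntegral g.normalization := inferInstance
  have hx₀η : g.toNormalization (IsLocalRing.closedPoint K) = genericPoint g.normalization :=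
    Lib.Helper13.Normalization.toNormalization_eq_genericPoint hK g _
  refine ⟨hint, fun x' => Lib.Helper13.Normalization.isNormal hK g hgη x', ?_, hx₀η, ?_, ?_⟩
  · ext x'
    simp only [Set.mem_preimage, Set.mem_singleton_iff]
    constructor
    · intro h
      exact Lib.Helper13.Normalization.eq_genericPoint_of_isIntegralHom g.fromNormalization x' h
    · rintro rfl
      exact Lib.Helper13.Normalization.fromNormalization_genericPoint hK g hgη
  · have key : ∀ (x' : g.normalization) (hx : x' = genericPoint g.normalization)
        (ρ : g.normalization.presheaf.stalk x' ⟶ CommRingCat.of K),
        Function.Injective ρ.hom := by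
      rintro _ rfl ρ
      letI : Field (g.normalization.presheaf.stalk (genericPoint g.normalization)) :=
        inferInstanceAs (Field g.normalization.functionField)
      exact RingHom.injective ρ.hom
    exact key _ hx₀η _
  · exact Lib.Helper13.Normalization.range_stalkClosedPointTo X K φ g hg

end Groth.Agent.S4448
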