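import Groth.Statements.S4453
import Groth.Agent.S4438
import Groth.Agent.S12416
import Groth.Agent.S9691
import Groth.Agent.Lib.Helper28.ProjAmple

set_option autoImplicit false
universe u
open CategoryTheory CategoryTheory.Limits AlgebraicGeometry
open EGA2

namespace Groth.Agent.S4453

/-- Let Y be a quasi-compact separated scheme or a scheme whose underlying space is Noetherian, f : X ⟶
Y a morphism of finite type and g : X' ⟶ X a finite surjective morphism such that the direct image
of O_{X'} is a finite locally free O_X-module. Then f is projective if and only if f ∘ g is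
projective. (The companion assertion, on quasi-projectivity, is the
existence-of-a-relatively-ample-module equivalence stated separately.) -/
theorem result {X X' Y : Scheme.{u}} (f : X ⟶ Y) [LocallyOfFiniteType f]
    [QuasiCompact f] (g : X' ⟶ X) [IsFinite g] [Surjective g]
    (hfree : FlatMod.IsFinLocFree ((Coh.push g).obj (Coh.structureModule X')))
    (hY : (CompactSpace Y ∧ Y.IsSeparated) ∨ TopologicalSpace.NoetherianSpace Y) :
    RelProj.IsProjective f ↔ RelProj.IsProjective (g ≫ f) := by
  classical
  have hYc : CompactSpace Y := by
    rcases hY with ⟨h1, -⟩ | h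
    · exact h1
    · infer_instance
  have hYq : QuasiSeparatedSpace Y := by
    rcases hY with ⟨-, h2⟩ | h
    · infer_instance
    · infer_instance
  constructor
  · intro hf
    have hprop : IsProper f := Groth.Agent.Lib.Helper28.ProjAmple.isProper_of_isProjective f hf
    obtain ⟨L, hLinv, -, hL⟩ := Groth.Agent.Lib.Helper28.ProjAmple.exists_isRelVeryAmple_of_isProjective f hf
    obtain ⟨L', -, hL'⟩ := (Groth.Agent.S4438.result f g hfree).1 ⟨L, hLinv, hL⟩
    have : IsProper (g ≫ f) := inferInstance
    exact Groth.Agent.S12416.result (g ≫ f) ⟨inferInstance, inferInstance, L', hL'⟩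
  · intro hgf
    have hprop : IsProper (g ≫ f) := Groth.Agent.Lib.Helper28.ProjAmple.isProper_of_isProjective (g ≫ f) hgf
    obtain ⟨L', hL'inv, -, hL'⟩ :=
      Groth.Agent.Lib.Helper28.ProjAmple.exists_isRelVeryAmple_of_isProjective (g ≫ f) hgf
    obtain ⟨L, -, hL⟩ := (Groth.Agent.S4438.result f g hfree).2 ⟨L', hL'inv, hL'⟩
    have hsep : IsSeparated f := Groth.Agent.S9691.result f L hL
    have huc : UniversallyClosed f := UniversallyClosed.of_comp_surjective g f
    have : IsProper f := { }
    exact Groth.Agent.S12416.result f ⟨inferInstance, inferInstance, L, hL⟩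

end Groth.Agent.S4453
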