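import Groth.Statements.S4456
import Groth.Agent.Lib.Helper17.RComp
import Mathlib
set_option backward.isDefEq.respectTransparency.types false

set_option autoImplicit false
universe u
open Coherent

namespace Groth.Agent.S4456
open CategoryTheory CategoryTheory.Limits Opposite TopologicalSpace AlgebraicGeometry
open Groth.Agent.Lib.Helper6 Groth.Agent.Lib.Helper17.RelAffine Groth.Agent.Lib.Helper17.RComp

attribute [local instance] HasDerivedCategory.standard


open AlgebraicGeometry CategoryTheory in
/-- Let f : X → Y be an affine morphism, g : Y → Z a morphism of schemes and F a quasi-coherent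
O_X-module. Then for every p ≥ 0 the higher direct image R^p g_*(f_* F) is isomorphic to R^p (g ∘
f)_* F (higher direct images of the underlying abelian sheaves). The source shows that the canonical
comparison map is an isomorphism; only the existence of an isomorphism is asserted here. -/
theorem result {X Y Z : Scheme.{u}} (f : X ⟶ Y) (g : Y ⟶ Z)
    [IsAffineHom f] (F : X.Modules) [Coh.IsQCoh F] (p : ℕ) :
    Nonempty ((Coh.RpushAb g p).obj (Coh.toAb ((Coh.push f).obj F)) ≅
      (Coh.RpushAb (f ≫ g) p).obj (Coh.toAb F)) := by
  haveI : F.IsQuasicoherent := ‹Coh.IsQCoh F›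
  have hF : RDAcyc.Acyc (CohTop.push f.base) ((SheafOfModules.toSheaf.{u} X.ringCatSheaf).obj F) :=
    (RDAcyc.acyc_iff_isZero_rightDerived (CohTop.push f.base) _).2
      (fun q => isZero_Rpush_of_isAffineHom f F q)
  obtain ⟨e⟩ := nonempty_Rpush_comp_iso_of_acyc f.base g.base _ hF p
  exact ⟨e.symm⟩

end Groth.Agent.S4456
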