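import Groth.Statements.S4459
import Mathlib

set_option autoImplicit false
universe u
open Coherent

namespace Groth.Agent.S4459

open AlgebraicGeometry CategoryTheory in
/-- Let A be a Noetherian ring which is separated and complete for the J-adic topology, and let f : X →
Spec A be a morphism of schemes which is a closed map on underlying spaces. Then every open subset
of X containing the inverse image of V(J) is all of X. (The published statement also assumes X of
finite type over A; that hypothesis is not used.) -/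
theorem result (A : Type u) [CommRing A] [IsNoetherianRing A]
    (J : Ideal A) [IsAdicComplete J A] {X : Scheme.{u}} (f : X ⟶ Spec (CommRingCat.of A))
    (hf : IsClosedMap f.base) (U : X.Opens)
    (hU : f.base ⁻¹' (PrimeSpectrum.zeroLocus (J : Set A)) ⊆ (U : Set X)) : U = ⊤ := by
  by_contra hne
  have hZne : ((U : Set X)ᶜ).Nonempty := by
    rw [Set.nonempty_compl]
    intro h
    apply hne
    exact TopologicalSpace.Opens.ext h
  have hZcl : IsClosed ((U : Set X)ᶜ) := U.isOpen.isClosed_compl
  have hcl : IsClosed (f.base '' (U : Set X)ᶜ) := hf _ hZcl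
  obtain ⟨I, hI⟩ := (PrimeSpectrum.isClosed_iff_zeroLocus_ideal
    (R := A) (f.base '' (U : Set X)ᶜ)).mp hcl
  have hIne : I ≠ ⊤ := by
    intro e
    rw [e] at hI
    obtain ⟨x, hx⟩ := hZne
    have h1 : f.base x ∈ f.base '' (U : Set X)ᶜ := ⟨x, hx, rfl⟩
    have h2 := (Set.ext_iff.mp hI (f.base x)).mp h1
    simp at h2
  obtain ⟨m, hm, hIm⟩ := Ideal.exists_le_maximal I hIne
  let pm : ↥(Spec (CommRingCat.of A)) := (⟨m, hm.isPrime⟩ : PrimeSpectrum A)
  have hpm0 : pm ∈ (PrimeSpectrum.zeroLocus (I : Set A) : Set ↥(Spec (CommRingCat.of A))) :=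
    (PrimeSpectrum.mem_zeroLocus (R := A) ⟨m, hm.isPrime⟩ _).mpr hIm
  have hpm : pm ∈ f.base '' (U : Set X)ᶜ := (Set.ext_iff.mp hI pm).mpr hpm0
  obtain ⟨x, hxZ, hx⟩ := hpm
  have hJm : J ≤ m := (IsAdicComplete.le_jacobson_bot J).trans (sInf_le ⟨bot_le, hm⟩)
  have hxJ : x ∈ f.base ⁻¹' (PrimeSpectrum.zeroLocus (J : Set A)) := by
    show f.base x ∈ PrimeSpectrum.zeroLocus (J : Set A)
    rw [hx]
    exact (PrimeSpectrum.mem_zeroLocus _ _).mpr hJm
  exact hxZ (hU hxJ)

end Groth.Agent.S4459
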