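import Groth.Statements.S4461
import Groth.Agent.Lib.Helper17.Rees7
import Mathlib
set_option backward.isDefEq.respectTransparency.types false

set_option autoImplicit false
universe u
open Coherent

namespace Groth.Agent.S4461

open AlgebraicGeometry CategoryTheory in
/-- Let A be a Noetherian ring, I an ideal of A, X a scheme proper over Spec A, M a coherent O_X-module
and p ≥ 0. Write R_k for the kernel of H^p(X, M) → H^p(X, M/I^(k+1)M). Then there is k₀ such that
R_(k+1) = I · R_k for all k ≥ k₀; together with the obvious inclusions I · R_k ⊆ R_(k+1) this says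
that (R_k) is an I-good filtration of H^p(X, M). -/
theorem result (A : Type u) [CommRing A] [IsNoetherianRing A]
    (I : Ideal A) (X : Scheme.{u}) [X.Over (Spec (CommRingCat.of A))]
    [IsProper (X ↘ Spec (CommRingCat.of A))] (M : X.Modules) (hM : Coh.IsCoh M) (p : ℕ) :
    ∃ k₀ : ℕ, ∀ k : ℕ, k₀ ≤ k →
      ((Formal.toHHmodPow I M p (k + 1)).ker : Set (Coh.HH X M p)) =
        ((I • Submodule.span A ((Formal.toHHmodPow I M p k).ker : Set (Coh.HH X M p)) :
          Submodule A (Coh.HH X M p)) : Set (Coh.HH X M p)) := by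
  open Groth.Agent.Lib.Helper17.Rees5 Groth.Agent.Lib.Helper17.Rees6 Groth.Agent.Lib.Helper17.Rees7 in
  obtain ⟨d, hd⟩ := rees_stable A I X M p hM (fun _ => ⊤) (fun _ _ _ _ _ => trivial)
  refine ⟨d, fun k hk => ?_⟩
  apply Set.Subset.antisymm
  · intro x hx
    have main : ∀ T : Submodule A (Coh.HH X M p),
        (∀ a ∈ I, ∀ v ∈ (Formal.toHHmodPow I M p k).ker, a • v ∈ T) → x ∈ T := by
      intro T hT
      have hx' : Hmap (Formal.modPowπ I (k + 1 + 1) M) p x = 0 := hx
      obtain ⟨w, hw⟩ := exists_of_modPowπ_eq_zero I (k + 1 + 1) M p x hx'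
      obtain ⟨r, hr⟩ : ∃ r : ℕ, r = 1 := ⟨1, rfl⟩
      have e1 : I ^ (k + 1 + 1) = I ^ r * I ^ (k + 1) := by rw [hr, ← pow_add, add_comm]
      have h1 := hd (k + 1) (by omega) r (castH A X M p e1 w) trivial
      have h2 := map_mem_of_mem_closure (Hmap (CohIII.idealMulι (I ^ r * I ^ (k + 1)) M) p) _ T (by
          rintro _ ⟨a, v, _, rfl⟩
          rw [Hmap_ι_HmulMap]
          have ha : (a : A) ∈ I := Ideal.pow_le_self (by omega) a.2
          exact hT _ ha _ (modPowπ_Hmap_ι I (I ^ (k + 1)) (k + 1) le_rfl M p v)) _ h1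
      rw [Hmap_ι_castH, hw] at h2
      exact h2
    exact SetLike.mem_coe.2
      (main _ (fun a ha v hv => Submodule.smul_mem_smul ha (Submodule.subset_span hv)))
  · intro y hy
    change y ∈ (Formal.toHHmodPow I M p (k + 1)).ker
    refine Submodule.smul_induction_on hy (fun a ha v hv => ?_) (fun x y hx hy => add_mem hx hy)
    have hv' : Hmap (Formal.modPowπ I (k + 1) M) p v = 0 := by
      have h3 : Submodule.span A ((Formal.toHHmodPow I M p k).ker : Set (Coh.HH X M p)) ≤
          LinearMap.ker (Canon.HHlin A (Formal.modPowπ I (k + 1) M) p) :=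
        Submodule.span_le.2 (fun z hz => hz)
      exact h3 hv
    obtain ⟨w, hw⟩ := exists_of_modPowπ_eq_zero I (k + 1) M p v hv'
    have e2 := Hmap_ι_HmulMap I (I ^ (k + 1)) M ⟨a, ha⟩ p w
    rw [hw] at e2
    change Hmap (Formal.modPowπ I (k + 1 + 1) M) p (a • v) = 0
    rw [← e2]
    exact modPowπ_Hmap_ι I (I * I ^ (k + 1)) (k + 1 + 1) (by rw [pow_succ' I (k + 1)]) M p _

end Groth.Agent.S4461
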