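import Groth.Statements.S4469
import Mathlib

set_option autoImplicit false
universe u
open CAlg

namespace Groth.Agent.S4469

theorem quasiFiniteAt_of_isMaximal_of_minimal_in_fibre {R S : Type u} [CommRing R] [CommRing S]
    [Algebra R S] [Algebra.FiniteType R S] (Q : PrimeSpectrum S) (hq : Q.asIdeal.IsMaximal)
    (hmin : ∀ q' : Ideal S, q'.IsPrime →
      q'.comap (algebraMap R S) = Q.asIdeal.comap (algebraMap R S) → q' ≤ Q.asIdeal →
        q' = Q.asIdeal) :
    Algebra.QuasiFiniteAt R Q.asIdeal := by
  refine Algebra.QuasiFiniteAt.of_isOpen_singleton_fiber Q ?_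
  have e := PrimeSpectrum.preimageHomeomorphFiber R S (Q.comap (algebraMap R S))
  haveI : IsNoetherianRing ((Q.comap (algebraMap R S)).asIdeal.Fiber S) :=
    Algebra.FiniteType.isNoetherianRing (Q.comap (algebraMap R S)).asIdeal.ResidueField _
  haveI : IsJacobsonRing ((Q.comap (algebraMap R S)).asIdeal.Fiber S) :=
    isJacobsonRing_of_finiteType (A := (Q.comap (algebraMap R S)).asIdeal.ResidueField)
  have h := (PrimeSpectrum.isOpen_singleton_tfae_of_isNoetherian_of_isJacobsonRing
    (e ⟨Q, rfl⟩)).out 0 2
  rw [← e.isOpen_image, Set.image_singleton, h]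
  constructor
  · rw [← Set.image_singleton, Homeomorph.isClosed_image]
    have h1 : IsClosed ({Q} : Set (PrimeSpectrum S)) :=
      (PrimeSpectrum.isClosed_singleton_iff_isMaximal _).mpr hq
    convert h1.preimage continuous_subtype_val
    ext x
    simp [Subtype.ext_iff]
  · intro x y hyx hx
    rw [Set.mem_singleton_iff] at hx ⊢
    subst hx
    obtain ⟨y', rfl⟩ := e.surjective y
    rw [e.isInducing.specializes_iff] at hyx
    have hyx' : y'.1 ⤳ Q := (Topology.IsInducing.subtypeVal.specializes_iff).mpr hyx
    rw [← PrimeSpectrum.le_iff_specializes] at hyx'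
    congr 1
    apply Subtype.ext
    apply PrimeSpectrum.ext
    exact hmin y'.1.asIdeal y'.1.isPrime (congrArg PrimeSpectrum.asIdeal y'.2) hyx'


/-- Let A be an integrally closed Noetherian local domain with field of fractions K, B an A-algebra of
finite type which is a domain with the same field of fractions (A → B → K compatible with A → K),
and 𝔫 a maximal ideal of B lying over the maximal ideal 𝔪 of A and minimal among the prime ideals of
B lying over 𝔪. Then B = A: the structure map A → B is bijective. -/
theorem result (A B K : Type u) [CommRing A]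
    [IsDomain A] [IsNoetherianRing A] [IsLocalRing A] [IsIntegrallyClosed A] [CommRing B] [IsDomain B]
    [Field K] [Algebra A B] [Algebra B K] [Algebra A K] [IsScalarTower A B K] [IsFractionRing A K]
    [IsFractionRing B K] [Algebra.FiniteType A B] (n : Ideal B) [n.IsMaximal]
    (hn : n.comap (algebraMap A B) = IsLocalRing.maximalIdeal A)
    (hmin : ∀ q : Ideal B, q.IsPrime → q.comap (algebraMap A B) = IsLocalRing.maximalIdeal A → q ≤ n → q = n) :
    Function.Bijective (algebraMap A B) := by
  haveI hnp : n.IsPrime := Ideal.IsMaximal.isPrime ‹_›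
  haveI hqf : Algebra.QuasiFiniteAt A n :=
    quasiFiniteAt_of_isMaximal_of_minimal_in_fibre (R := A) (⟨n, hnp⟩ : PrimeSpectrum B) ‹_›
      (fun q' hq' hc hle => hmin q' hq' (hc.trans hn) hle)
  obtain ⟨r, hrn, hrint, H⟩ :=
    Algebra.zariskisMainProperty_iff.mp (Algebra.ZariskisMainProperty.of_finiteType (R := A) n)
  -- integral elements come from A
  have key : ∀ b : B, IsIntegral A b → ∃ a : A, algebraMap A B a = b := by
    intro b hb
    have hb' : IsIntegral A (algebraMap B K b) := hb.map (IsScalarTower.toAlgHom A B K)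
    obtain ⟨a, ha⟩ := (IsIntegrallyClosed.isIntegral_iff (R := A) (K := K)).mp hb'
    refine ⟨a, IsFractionRing.injective B K ?_⟩
    rw [← IsScalarTower.algebraMap_apply, ha]
  have hinj : Function.Injective (algebraMap A B) := by
    have h1 : Function.Injective (algebraMap A K) := IsFractionRing.injective A K
    rw [IsScalarTower.algebraMap_eq A B K] at h1
    exact Function.Injective.of_comp h1
  refine ⟨hinj, fun x => ?_⟩
  obtain ⟨a₀, ha₀⟩ := key r hrint
  have ha₀m : a₀ ∉ IsLocalRing.maximalIdeal A := by
    intro hmem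
    rw [← hn, Ideal.mem_comap, ha₀] at hmem
    exact hrn hmem
  have hu : IsUnit a₀ := by
    by_contra hnu
    exact ha₀m ((IsLocalRing.mem_maximalIdeal a₀).mpr hnu)
  obtain ⟨v, hv⟩ := hu
  obtain ⟨m, hm⟩ := H x
  obtain ⟨a, ha⟩ := key _ hm
  refine ⟨((v⁻¹ : Aˣ) : A) ^ m * a, ?_⟩
  rw [map_mul, ha, ← ha₀, ← hv, ← mul_assoc, ← map_pow, ← map_mul, ← mul_pow]
  simp

end Groth.Agent.S4469
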