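import Groth.Statements.S4475
import Mathlib
import Groth.Agent.Lib.Helper16.Kos2
import Groth.Agent.Lib.Helper21.KosTop
import Groth.Agent.Lib.Helper21.KosPoly

set_option autoImplicit false
universe u
open Koszul3

namespace Groth.Agent.S4475

open CategoryTheory CategoryTheory.Limits
open Groth.Agent.Lib.Helper21 Groth.Agent.Lib.Helper21.KosTop

lemma free_aux (A : Type u) [CommRing A] (r : ℕ) (j : ℤ) (hj : j = 0) :
    Module.Free A (RestrictScalars A (MvPolynomial (Fin (r + 1)) A)
      (Module.DirectLimit
        (fun n : ℕ => ((CohIII.koszulCx (ModuleCat.of (MvPolynomial (Fin (r + 1)) A)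
          (MvPolynomial (Fin (r + 1)) A))
          ((List.ofFn (fun j : Fin (r + 1) =>
            (MvPolynomial.X j : MvPolynomial (Fin (r + 1)) A))).map (· ^ n))).homology j : Type u))
        (fun n m h => ModuleCat.Hom.hom (HomologicalComplex.homologyMap
          (CohIII.koszulTrans (ModuleCat.of (MvPolynomial (Fin (r + 1)) A)
            (MvPolynomial (Fin (r + 1)) A)) n m h
            (List.ofFn (fun j : Fin (r + 1) =>
              (MvPolynomial.X j : MvPolynomial (Fin (r + 1)) A)))) j)))) := by
  subst hj
  set S := MvPolynomial (Fin (r + 1)) A with hS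
  set M : ModuleCat.{u} S := ModuleCat.of S S with hM
  set fs : List S := List.ofFn (fun j : Fin (r + 1) => (MvPolynomial.X j : S)) with hfs
  have hlist : ∀ n : ℕ, fs.map (· ^ n) = List.ofFn (fun j : Fin (r + 1) =>
      (MvPolynomial.X j : S) ^ n) := by
    intro n
    rw [hfs, List.map_ofFn]
    rfl
  refine KosPoly.free_directLimit (σ := Fin (r + 1)) _ _
    (fun n => ModuleCat.Hom.hom (topMap M (fs.map (· ^ n))))
    (fun n => topMap_surjective M _) ?_ ?_
  · intro n y
    refine (topMap_eq_zero_iff M (fs.map (· ^ n)) y).trans ?_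
    show y ∈ Ideal.ofList (fs.map (· ^ n)) • (⊤ : Submodule S S) ↔ _
    rw [Ideal.smul_eq_mul, Ideal.mul_top, hlist, Ideal.ofList, Set.image_univ]
    have : {a | a ∈ List.ofFn (fun j : Fin (r + 1) => (MvPolynomial.X j : S) ^ n)} =
        Set.range (fun j : Fin (r + 1) => (MvPolynomial.X j : S) ^ n) := by
      ext a
      exact List.mem_ofFn
    rw [this]
  · intro n m h y
    have h1 := topMap_trans_apply M n m h fs y
    have h2 : fs.prod = ∏ j : Fin (r + 1), (MvPolynomial.X j : S) := by
      rw [hfs, List.prod_ofFn]
    rw [h2] at h1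
    exact h1


open CategoryTheory CategoryTheory.Limits in
/-- Let A be a ring, S = A[T_0, …, T_r] the polynomial ring and T = (T_0, …, T_r). Then the direct-limit
Koszul cohomology H^i((T), S), the colimit over n of the Koszul cohomologies H^i(T^n, S), vanishes
for every i ≠ r + 1, and H^(r+1)((T), S) is a free A-module (the source gives an explicit basis
indexed by the monomials with all exponents positive). -/
theorem result (A : Type u) [CommRing A] (r : ℕ) :
    (∀ i : ℕ, i ≠ r + 1 →
      Subsingleton (CohIII.koszulHLim (List.ofFn (fun j : Fin (r + 1) => (MvPolynomial.X j : MvPolynomial (Fin (r + 1)) A)))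
        (ModuleCat.of (MvPolynomial (Fin (r + 1)) A) (MvPolynomial (Fin (r + 1)) A)) i)) ∧
    Module.Free A (RestrictScalars A (MvPolynomial (Fin (r + 1)) A)
      (CohIII.koszulHLim (List.ofFn (fun j : Fin (r + 1) => (MvPolynomial.X j : MvPolynomial (Fin (r + 1)) A)))
        (ModuleCat.of (MvPolynomial (Fin (r + 1)) A) (MvPolynomial (Fin (r + 1)) A)) (r + 1))) := by
  refine ⟨?_, ?_⟩
  · intro i hi
    unfold CohIII.koszulHLim
    refine subsingleton_of_forall_eq 0 ?_
    · intro z
      obtain ⟨n, g, rfl⟩ := Module.DirectLimit.exists_of z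
      have hZ := Groth.Agent.Lib.Helper16.Kos.koszul_homology_isZero
        ((List.ofFn (fun j : Fin (r + 1) =>
          (MvPolynomial.X j : MvPolynomial (Fin (r + 1)) A))).map (· ^ n))
        (MvPolynomial (Fin (r + 1)) A) (KosPoly.isWeaklyRegular_X_pow r n)
        ((i : ℤ) - (List.ofFn (fun j : Fin (r + 1) =>
          (MvPolynomial.X j : MvPolynomial (Fin (r + 1)) A))).length)
        (by
          rw [List.length_ofFn]
          intro h0
          apply hi
          have : (i : ℤ) = ((r + 1 : ℕ) : ℤ) := by linarith
          exact_mod_cast this)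
      haveI := ModuleCat.subsingleton_of_isZero hZ
      rw [Subsingleton.elim g 0, map_zero]
  · exact free_aux A r _ (by rw [List.length_ofFn]; push_cast; ring)

end Groth.Agent.S4475
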