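import Groth.Statements.S4481
import Groth.Agent.Lib.Helper17.CechAffine
import Groth.Agent.Lib.Helper28.QCohGlobal

set_option autoImplicit false
universe u
open Coherent

namespace Groth.Agent.S4481

open AlgebraicGeometry CategoryTheory Opposite in
/-- Let X be a separated scheme, f_1, …, f_n global functions on X such that every open X_{f_i} is
quasi-compact, U the union of the X_{f_i}, and suppose there are sections g_1, …, g_n of O_X over U
with Σ g_i · (f_i|_U) = 1. Then for every quasi-coherent O_X-module G and every p > 0 the Čech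
cohomology group of G in degree p with respect to the family of opens (X_{f_i}) is zero. (The
published statement also covers a scheme whose underlying space is Noetherian, not necessarily
separated; this row treats separated X.) -/
theorem result (X : Scheme.{u}) [X.IsSeparated] (n : ℕ)
    (f : Fin n → Γ(X, ⊤)) (hqc : ∀ i, IsCompact (X.basicOpen (f i) : Set X))
    (g : Fin n → Γ(X, ⨆ i, X.basicOpen (f i)))
    (hg : (Finset.univ.sum fun i => g i *
      (X.presheaf.map (homOfLE (le_top : (⨆ i, X.basicOpen (f i)) ≤ ⊤)).op).hom (f i)) = 1)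
    (G : X.Modules) [Coh.IsQCoh G] (p : ℕ) (hp : 0 < p) :
    Limits.IsZero (CohB1.cechH (fun i : ULift.{u} (Fin n) => X.basicOpen (f i.down)) G p) := by
  classical
  open Groth.Agent.Lib.Helper17.CechAffine Groth.Agent.Lib.Helper17.CechElem
    Groth.Agent.Lib.Helper28.QCohLoc in
  obtain ⟨p, rfl⟩ : ∃ q, p = q + 1 := ⟨p - 1, by omega⟩
  let U : X.Opens := ⨆ i, X.basicOpen (f i)
  have hleU : ∀ i : Fin n, X.basicOpen (f i) ≤ U := fun i => le_iSup (fun i => X.basicOpen (f i)) i
  let r : ULift.{u} (Fin n) → Γ(X, U) := fun i => resO (le_top : U ≤ ⊤) (f i.down)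
  have hbo : ∀ i : ULift.{u} (Fin n), X.basicOpen (r i) = X.basicOpen (f i.down) := by
    intro i
    show X.basicOpen (resO (le_top : U ≤ ⊤) (f i.down)) = _
    rw [basicOpen_resO]
    exact inf_eq_right.2 (hleU i.down)
  have hr : (fun i : ULift.{u} (Fin n) => X.basicOpen (f i.down)) = fun i => X.basicOpen (r i) :=
    funext fun i => (hbo i).symm
  have hcov : Ideal.span (Set.range r) = ⊤ := by
    rw [Ideal.eq_top_iff_one, ← hg]
    refine Ideal.sum_mem _ fun i _ => ?_
    refine Ideal.mul_mem_left _ _ (Ideal.subset_span ⟨⟨i⟩, rfl⟩)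
  -- finite intersections of the basic opens are quasi-compact
  have hcompact : ∀ (m : ℕ) (V : Fin (m + 1) → X.Opens), (∀ a, IsCompact (V a : Set X)) →
      IsCompact ((⨅ a, V a : X.Opens) : Set X) := by
    intro m
    induction m with
    | zero =>
      intro V hV
      have : (⨅ a, V a) = V 0 := by
        apply le_antisymm (iInf_le V 0)
        refine le_iInf fun a => ?_
        have : a = 0 := Fin.ext (by have := a.2; simp only [Fin.val_zero]; omega)
        rw [this]
      rw [this]
      exact hV 0
    | succ m ih =>
      intro V hV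
      have : (⨅ a, V a) = V 0 ⊓ ⨅ a : Fin (m + 1), V a.succ := by
        apply le_antisymm
        · exact le_inf (iInf_le V 0) (le_iInf fun a => iInf_le V a.succ)
        · refine le_iInf fun a => ?_
          refine Fin.cases ?_ (fun b => ?_) a
          · exact inf_le_left
          · exact inf_le_right.trans (iInf_le (fun a : Fin (m + 1) => V a.succ) b)
      rw [this]
      exact QuasiSeparatedSpace.inter_isCompact _ _ (V 0).isOpen (hV 0) (TopologicalSpace.Opens.isOpen _)
        (ih (fun a => V a.succ) fun a => hV a.succ)
  have hloc : ∀ (m : ℕ) (x : Fin (m + 1) → ULift.{u} (Fin n)), IsLocOn G (W (bo r) x) := by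
    intro m x
    have hW : W (bo r) x = ⨅ a, X.basicOpen (r (x a)) := by
      apply le_antisymm
      · exact le_iInf fun a => W_le (bo r) x a
      · exact le_W (bo r) x _ fun a => iInf_le (fun a => X.basicOpen (r (x a))) a
    have hc : IsCompact ((W (bo r) x : X.Opens) : Set X) := by
      rw [hW]
      refine hcompact m _ fun a => ?_
      rw [hbo]
      exact hqc _
    have hqs : IsQuasiSeparated ((W (bo r) x : X.Opens) : Set X) :=
      (isQuasiSeparated_univ (α := X)).of_subset (Set.subset_univ _)
    exact ⟨fun a y => by
        obtain ⟨k, z, hz⟩ := exists_pow_smul_eq_res_of_qcqs G hc hqs a y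
        exact ⟨k, z, hz.symm⟩,
      fun a z hz => exists_pow_smul_eq_zero_of_isCompact G hc a z hz⟩
  unfold CohB1.cechH CohB1.cechHTop
  rw [hr]
  exact isZero_homology_succ (bo r) G.presheaf p fun α hα => exists_d_eq G r hloc hcov α hα


end Groth.Agent.S4481
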