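import Groth.Statements.S4486
import Groth.Agent.Lib.helper11.FlatUpTo

set_option autoImplicit false
universe u
open FlatCx

namespace Groth.Agent.S4486

open CategoryTheory CategoryTheory.Limits in
/-- For the homological functor T_p(M) = H_p(P ⊗_A M) of a chain complex P of flat modules over a
commutative ring A, which commutes with filtered colimits. Let A be a domain and suppose P_i = 0 for
i < i₀ and that every T_n(A) is a finitely presented A-module. Then for every integer N there is a
nonzero f ∈ A such that, for every p ≤ N, the functor of A_f-modules N ↦ H_p(P_f ⊗_{A_f} N), where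
P_f = P ⊗_A A_f, takes injections to injections and surjections to surjections. -/
theorem result {A : Type u} [CommRing A] [IsDomain A]
    (P : ChainComplex (ModuleCat.{u} A) ℤ) (hP : ∀ i, Module.Flat A (P.X i)) (i₀ : ℤ)
    (hb : ∀ i < i₀, IsZero (P.X i))
    (hfp : ∀ n : ℤ, Module.FinitePresentation A (CohIII.T P n (ModuleCat.of A A))) (N : ℤ) :
    ∃ f : A, f ≠ 0 ∧ ∀ p ≤ N,
      (CohIII.TFun (CohIII.bcCx (algebraMap A (Localization.Away f)) P) p).PreservesMonomorphisms ∧
        (CohIII.TFun (CohIII.bcCx (algebraMap A (Localization.Away f)) P) p).PreservesEpimorphisms := by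
  open Groth.Agent.Lib.helper11 PrimeSpectrum in
  classical
  have hfpH : ∀ n : ℤ, Module.FinitePresentation A (P.homology n) := fun n =>
    haveI := hfp n
    Module.FinitePresentation.of_equiv (DRankFlat.TAEquiv P n)
  -- a basic open neighbourhood of the generic point inside the free locus
  have hg : ∀ n : ℤ, ∃ g : A, g ≠ 0 ∧
      (basicOpen g : Set (PrimeSpectrum A)) ⊆ Module.freeLocus A (P.homology n) := by
    intro n
    haveI := hfpH n
    have hη := TFunBC2.bot_mem_freeLocus (A := A) (P.homology n)
    obtain ⟨v, ⟨g, rfl⟩, hηv, hv⟩ := isTopologicalBasis_basic_opens.exists_subset_of_mem_open hη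
      (Module.isOpen_freeLocus (R := A) (M := P.homology n))
    refine ⟨g, ?_, hv⟩
    intro h0
    rw [h0] at hηv
    simp at hηv
  choose g hg0 hgsub using hg
  refine ⟨∏ n ∈ Finset.Icc i₀ N, g n, Finset.prod_ne_zero_iff.mpr (fun n _ => hg0 n), ?_⟩
  set f := ∏ n ∈ Finset.Icc i₀ N, g n with hf
  set φ := algebraMap A (Localization.Away f) with hφ
  have hφflat : φ.Flat := RingHom.flat_algebraMap_iff.mpr inferInstance
  have hsub : ∀ n ≤ N, (basicOpen f : Set (PrimeSpectrum A)) ⊆
      Module.freeLocus A (P.homology n) := by
    intro n hn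
    by_cases h : n < i₀
    · have hz : IsZero (P.homology n) := ShortComplex.isZero_homology_of_isZero_X₂ _ (hb n h)
      haveI := ModuleCat.subsingleton_of_isZero hz
      intro x _
      rw [Module.mem_freeLocus]
      exact Module.Free.of_subsingleton _ _
    · have hmem : n ∈ Finset.Icc i₀ N := Finset.mem_Icc.mpr ⟨by omega, hn⟩
      have hdvd : g n ∣ f := Finset.dvd_prod_of_mem g hmem
      refine subset_trans ?_ (hgsub n)
      intro x hx
      rw [SetLike.mem_coe, mem_basicOpen] at hx ⊢
      intro hgx
      exact hx (Ideal.mem_of_dvd _ hdvd hgx)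
  have hH : ∀ n ≤ N, Module.Flat (Localization.Away f) ((CohIII.bcCx φ P).homology n) := by
    intro n hn
    apply FlatUpTo.flat_homology_bcCx φ hφflat P n
    rw [TFunBC.weird_eq]
    haveI := hfpH n
    have hproj : Module.Projective (Localization.Away f)
        (LocalizedModule.Away f (P.homology n)) :=
      Module.basicOpen_subset_freeLocus_iff.mp (hsub n hn)
    have hflat : Module.Flat (Localization.Away f) (LocalizedModule.Away f (P.homology n)) :=
      Module.Flat.of_projective
    exact Module.Flat.of_linearEquiv
      (LocalizedModule.equivTensorProduct (Submonoid.powers f) (P.homology n)).symm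
  exact FlatUpTo.exact_upTo (CohIII.bcCx φ P) (TFunBC.flat_bcCx φ P hP) i₀ N
    (fun i hi => Functor.map_isZero (ModuleCat.extendScalars φ) (hb i hi)) hH

end Groth.Agent.S4486
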