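import Groth.Statements.S4487
import Groth.Agent.Lib.helper11.DRankGeneric
import Groth.Agent.Lib.helper11.TFunFinite
import Groth.Agent.Lib.helper11.HomologyBCFinite

set_option autoImplicit false
universe u
open FlatCx

namespace Groth.Agent.S4487

open CategoryTheory CategoryTheory.Limits in
/-- The case of the homological functor T_p(M) = H_p(P ⊗_A M) of a chain complex P of flat modules over
a commutative ring A. Let A be Noetherian and suppose P_i = 0 for i < i₀ and that every T_n(A) is a
finitely generated A-module. Then for every integer N there is a dense open subset U of Spec A such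
that, for every p ≤ N, the function x ↦ dim_{k(x)} H_p(P ⊗_A k(x)) is locally constant on U. (The
published statement says constant on U; over the product of two fields, with P the projective module
supported on one factor placed in degree 0, the only dense open set is the whole two-point spectrum
and the ranks there are 1 and 0, so locally constant on U is what holds; the argument produces U as
a disjoint union of opens, one dense in each irreducible component, on each of which the functions
are constant.) -/
theorem result {A : Type u} [CommRing A] [IsNoetherianRing A]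
    (P : ChainComplex (ModuleCat.{u} A) ℤ) (hP : ∀ i, Module.Flat A (P.X i)) (i₀ : ℤ)
    (hb : ∀ i < i₀, IsZero (P.X i))
    (hfg : ∀ n : ℤ, Module.Finite A (CohIII.T P n (ModuleCat.of A A))) (N : ℤ) :
    ∃ U : Set (PrimeSpectrum A), IsOpen U ∧ Dense U ∧
      ∀ p ≤ N, IsLocallyConstant (fun x : U => CohIII.dRank P p x) := by
  open Groth.Agent.Lib.helper11 PrimeSpectrum in
  classical
  -- pass to the reduced quotient
  set φ : A →+* (A ⧸ nilradical A) := algebraMap A (A ⧸ nilradical A) with hφ
  haveI : IsReduced (A ⧸ nilradical A) :=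
    (Ideal.isRadical_iff_quotient_reduced _).mp (Ideal.radical_isRadical _)
  have hQ : ∀ i, Module.Flat (A ⧸ nilradical A) ((CohIII.bcCx φ P).X i) :=
    TFunBC.flat_bcCx φ P hP
  have hbQ : ∀ i < i₀, IsZero ((CohIII.bcCx φ P).X i) := fun i hi =>
    Functor.map_isZero (ModuleCat.extendScalars φ) (hb i hi)
  have hBfin : Module.Finite A (ModuleCat.of A (A ⧸ nilradical A)) :=
    inferInstanceAs (Module.Finite A (A ⧸ nilradical A))
  have hfinQ : ∀ n : ℤ, Module.Finite (A ⧸ nilradical A) ((CohIII.bcCx φ P).homology n) :=
    fun n => HomologyBCFinite.finite_homology_bcCx P n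
      (TFunFinite.finite_T P hP i₀ hb hfg n _ hBfin)
  have hfpQ : ∀ n : ℤ, Module.FinitePresentation (A ⧸ nilradical A)
      ((CohIII.bcCx φ P).homology n) := fun n =>
    haveI := hfinQ n
    Module.finitePresentation_of_finite _ _
  set U' : Set (PrimeSpectrum (A ⧸ nilradical A)) :=
    ⋂ n ∈ Finset.Icc i₀ N, Module.freeLocus (A ⧸ nilradical A) ((CohIII.bcCx φ P).homology n)
    with hU'
  have hU'open : IsOpen U' := by
    apply isOpen_biInter_finset
    intro n _
    haveI := hfpQ n
    exact Module.isOpen_freeLocus
  have hU'dense : Dense U' := by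
    apply DRankGeneric.dense_of_minimalPrimes_subset U' hU'open
    intro x hx
    rw [hU', Set.mem_iInter₂]
    intro n _
    exact DRankGeneric.mem_freeLocus_of_minimalPrimes _ x hx
  have hhomeo : IsHomeomorph (comap φ) := by
    apply PrimeSpectrum.isHomeomorph_comap φ
    · intro x
      obtain ⟨a, rfl⟩ := Ideal.Quotient.mk_surjective x
      exact ⟨1, Nat.one_pos, ⟨a, by simp [hφ]⟩⟩
    · intro a ha
      rw [RingHom.mem_ker, hφ, Ideal.Quotient.algebraMap_eq, Ideal.Quotient.eq_zero_iff_mem] at ha
      exact ha
  refine ⟨comap φ '' U', hhomeo.isOpenMap U' hU'open,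
    hhomeo.surjective.denseRange.dense_image hhomeo.continuous hU'dense, ?_⟩
  intro p hp
  rw [IsLocallyConstant.iff_exists_open]
  rintro ⟨_, ⟨x', hx'U', rfl⟩⟩
  have hx' : ∀ n : ℤ, i₀ ≤ n → n ≤ N →
      x' ∈ Module.freeLocus (A ⧸ nilradical A) ((CohIII.bcCx φ P).homology n) := by
    intro n h1 h2
    rw [hU', Set.mem_iInter₂] at hx'U'
    exact hx'U' n (Finset.mem_Icc.mpr ⟨h1, h2⟩)
  obtain ⟨W, hW, hx'W, hWc⟩ := DRankGeneric.exists_open_dRank_eq (CohIII.bcCx φ P) hQ i₀ N hbQ
    hfinQ x' hx' p hp
  refine ⟨Subtype.val ⁻¹' (comap φ '' W),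
    (hhomeo.isOpenMap W hW).preimage continuous_subtype_val, ⟨x', hx'W, rfl⟩, ?_⟩
  rintro ⟨_, _⟩ ⟨y', hy'W, rfl⟩
  change CohIII.dRank P p (comap φ y') = CohIII.dRank P p (comap φ x')
  rw [← DRankBC.dRank_bcCx φ P p y', ← DRankBC.dRank_bcCx φ P p x']
  exact hWc y' hy'W

end Groth.Agent.S4487
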