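import Groth.Statements.S4488
import Groth.Agent.Lib.helper11.DRankFlat3

set_option autoImplicit false
universe u
open FlatCx

namespace Groth.Agent.S4488

open CategoryTheory CategoryTheory.Limits in
/-- For the homological functor T_q(M) = H_q(P ⊗_A M) of a chain complex P of flat modules over a
commutative local ring A with residue field k. Suppose P_i = 0 for i < i₀ and that every T_n(A) is a
finitely presented A-module, and let p be an integer. If T_q takes injections to injections and
surjections to surjections for every q ≤ p, then dim_{k(x)} T_q(k(x)) = dim_k T_q(k) for every point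
x of Spec A and every q ≤ p. Conversely, if A is reduced and this equality holds at the generic
point of every irreducible component of Spec A (every minimal prime) for every q ≤ p, then T_q takes
injections to injections and surjections to surjections for every q ≤ p. No Noetherian hypothesis on
A. -/
theorem result {A : Type u} [CommRing A] [IsLocalRing A]
    (P : ChainComplex (ModuleCat.{u} A) ℤ) (hP : ∀ i, Module.Flat A (P.X i)) (i₀ : ℤ)
    (hb : ∀ i < i₀, IsZero (P.X i))
    (hfp : ∀ n : ℤ, Module.FinitePresentation A (CohIII.T P n (ModuleCat.of A A))) (p : ℤ) :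
    ((∀ q ≤ p, (CohIII.TFun P q).PreservesMonomorphisms ∧ (CohIII.TFun P q).PreservesEpimorphisms) →
        ∀ (x : PrimeSpectrum A), ∀ q ≤ p, CohIII.dRank P q x = CohIII.dRank P q (IsLocalRing.closedPoint A)) ∧
      (IsReduced A →
        (∀ x : PrimeSpectrum A, x.asIdeal ∈ minimalPrimes A →
          ∀ q ≤ p, CohIII.dRank P q x = CohIII.dRank P q (IsLocalRing.closedPoint A)) →
        ∀ q ≤ p, (CohIII.TFun P q).PreservesMonomorphisms ∧ (CohIII.TFun P q).PreservesEpimorphisms) := by
  have hrel : ∀ q : ℤ, (ComplexShape.down ℤ).Rel q (q - 1) := fun q => by
    change q - 1 + 1 = q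
    ring
  constructor
  · intro hex x q hq
    obtain ⟨U, hU, hxU, hc⟩ :=
      Groth.Agent.Lib.helper11.DRankFlat.dRank_const_of_exact_flat P hP q (q - 1) (hrel q)
        (hex q hq).1 (hex q hq).2 (hfp q) (IsLocalRing.closedPoint A)
    exact hc x ((IsLocalRing.specializes_closedPoint x).mem_open hU hxU)
  · intro hred hmin
    have key : ∀ n : ℕ, ∀ q ≤ p, q < i₀ + n →
        (CohIII.TFun P q).PreservesMonomorphisms ∧ (CohIII.TFun P q).PreservesEpimorphisms := by
      intro n
      induction n with
      | zero =>
        intro q _ hq0
        exact Groth.Agent.Lib.helper11.DRankFlat.exact_of_isZero P q (hb q (by simpa using hq0))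
      | succ n ih =>
        intro q hq hqn
        by_cases hlt : q < i₀ + n
        · exact ih q hq hlt
        · have hm := (ih (q - 1) (by omega) (by push_cast at hqn; omega)).1
          exact Groth.Agent.Lib.helper11.DRankFlat.exact_of_prev_mono P hP q (q - 1) (hrel q) hm
            (hfp q) (fun x hx => hmin x hx q hq)
    intro q hq
    exact key (q - i₀ + 1).toNat q hq (by omega)

end Groth.Agent.S4488
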