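import Groth.Statements.S4495
import Mathlib.Topology.Sheaves.CommRingCat
import Mathlib.Topology.Connected.Clopen
import Mathlib.Algebra.Category.Ring.Constructions
-- import your own Groth.Agent.* helpers here

set_option autoImplicit false
universe u
open FlatCx

namespace Groth.Agent.S4495

open CategoryTheory AlgebraicGeometry Opposite in
/-- A locally ringed space Z is connected, in the sense that it is not the disjoint union of two
nonempty open subsets (the empty space being allowed), if and only if every idempotent of the ring
of global sections Γ(Z, O_Z) is 0 or 1 (equivalently, Γ(Z, O_Z) is not isomorphic to a product of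
two nonzero rings). -/
theorem result (Z : LocallyRingedSpace.{u}) :
    PreconnectedSpace Z ↔
      ∀ e : Z.presheaf.obj (op ⊤), IsIdempotentElem e → e = 0 ∨ e = 1 := by
  open TopologicalSpace in
  constructor
  · intro hconn e he
    have hunit_one : ∀ a : Z.presheaf.obj (op ⊤), IsIdempotentElem a → IsUnit a → a = 1 := by
      intro a ha hu
      obtain ⟨b, hb⟩ := hu.exists_right_inv
      calc a = a * (a * b) := by rw [hb, mul_one]
        _ = (a * a) * b := by ring
        _ = 1 := by rw [ha.eq, hb]
    let D : Opens Z := Z.toRingedSpace.basicOpen e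
    let D' : Opens Z := Z.toRingedSpace.basicOpen (1 - e)
    have hdisj : D ⊓ D' = ⊥ := by
      rw [← RingedSpace.basicOpen_mul]
      have : e * (1 - e) = 0 := by rw [mul_sub, mul_one, he.eq, sub_self]
      rw [this]
      exact Z.basicOpen_zero _
    have hcov : ∀ x : Z, x ∈ D ∨ x ∈ D' := by
      intro x
      rw [RingedSpace.mem_top_basicOpen, RingedSpace.mem_top_basicOpen]
      have := IsLocalRing.isUnit_or_isUnit_one_sub_self
        (Z.presheaf.germ ⊤ x trivial e : Z.presheaf.stalk x)
      rwa [map_sub, map_one]
    have hcompl : (D : Set Z)ᶜ = (D' : Set Z) := by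
      ext x
      constructor
      · intro hx
        exact (hcov x).resolve_left hx
      · intro hx hx'
        have : x ∈ D ⊓ D' := ⟨hx', hx⟩
        rw [hdisj] at this
        exact this
    have hclopen : IsClopen (D : Set Z) := by
      refine ⟨?_, D.isOpen⟩
      rw [← isOpen_compl_iff, hcompl]
      exact D'.isOpen
    rcases isClopen_iff.mp hclopen with h | h
    · left
      have hD' : (D' : Set Z) = Set.univ := by rw [← hcompl, h, Set.compl_empty]
      have hu : IsUnit (1 - e) := by
        apply RingedSpace.isUnit_of_isUnit_germ
        intro x hx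
        have : x ∈ D' := by
          change x ∈ (D' : Set Z)
          rw [hD']; trivial
        exact (RingedSpace.mem_top_basicOpen _ _ _).mp this
      have := hunit_one (1 - e) he.one_sub hu
      rw [sub_eq_self] at this
      exact this
    · right
      have hu : IsUnit e := by
        apply RingedSpace.isUnit_of_isUnit_germ
        intro x hx
        have : x ∈ D := by
          change x ∈ (D : Set Z)
          rw [h]; trivial
        exact (RingedSpace.mem_top_basicOpen _ _ _).mp this
      exact hunit_one e he hu
  · intro h
    rw [preconnectedSpace_iff_clopen]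
    intro s hs
    let U : Opens Z := ⟨s, hs.isOpen⟩
    let V : Opens Z := ⟨sᶜ, hs.compl.isOpen⟩
    have hUV : U ⊓ V = ⊥ := by
      ext x
      simp [U, V]
    have hUVtop : U ⊔ V = ⊤ := by
      ext x
      simp [U, V]
    let F := Z.sheaf
    have hsub : Subsingleton (F.1.obj (op (U ⊓ V))) :=
      CommRingCat.subsingleton_of_isTerminal (F.isTerminalOfEqEmpty hUV)
    let x : RingHom.eqLocus
      (RingHom.comp (F.obj.map (homOfLE inf_le_left : U ⊓ V ⟶ U).op).hom
        (RingHom.fst (F.obj.obj <| op U) (F.obj.obj <| op V)))
      (RingHom.comp (F.obj.map (homOfLE inf_le_right : U ⊓ V ⟶ V).op).hom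
        (RingHom.snd (F.obj.obj <| op U) (F.obj.obj <| op V))) :=
      ⟨(1, 0), Subsingleton.elim _ _⟩
    have hx : x * x = x := by
      apply Subtype.ext
      simp [x]
    let e' := (F.objSupIsoProdEqLocus U V).inv x
    have he' : e' * e' = e' := by
      rw [← map_mul, hx]
    let e : Z.presheaf.obj (op ⊤) := F.1.map (eqToHom hUVtop.symm).op e'
    have he : IsIdempotentElem e := by
      have := congrArg (F.1.map (eqToHom hUVtop.symm).op).hom he'
      rw [map_mul] at this
      exact this
    have heU : F.1.map (homOfLE le_top : U ⟶ ⊤).op e = 1 := by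
      have := F.objSupIsoProdEqLocus_inv_fst U V x
      change F.1.map _ e' = 1 at this
      rw [← this]
      change (F.1.map _ ≫ F.1.map _) e' = _
      rw [← F.1.map_comp]
      rfl
    have heV : F.1.map (homOfLE le_top : V ⟶ ⊤).op e = 0 := by
      have := F.objSupIsoProdEqLocus_inv_snd U V x
      change F.1.map _ e' = 0 at this
      rw [← this]
      change (F.1.map _ ≫ F.1.map _) e' = _
      rw [← F.1.map_comp]
      rfl
    have hempty : ∀ W : Opens Z, (1 : Z.presheaf.obj (op W)) = 0 → (W : Set Z) = ∅ := by
      intro W hW
      rw [Set.eq_empty_iff_forall_notMem]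
      intro y hy
      have := congrArg (Z.presheaf.germ W y hy) hW
      rw [map_one, map_zero] at this
      exact one_ne_zero this
    rcases h e he with h0 | h1
    · left
      have h10 : (1 : Z.presheaf.obj (op U)) = 0 :=
        heU.symm.trans (by rw [h0]; exact map_zero (F.1.map (homOfLE le_top : U ⟶ ⊤).op).hom)
      exact hempty U h10
    · right
      have h10 : (1 : Z.presheaf.obj (op V)) = 0 :=
        Eq.trans (by rw [h1]; exact (map_one (F.1.map (homOfLE le_top : V ⟶ ⊤).op).hom).symm) heV
      have := hempty V h10
      simpa [V, Set.compl_empty_iff] using this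

end Groth.Agent.S4495
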