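import Groth.Statements.S4499
import Groth.Agent.Lib.helper11.TorKer
import Groth.Agent.Lib.helper11.KerTensor

set_option autoImplicit false
universe u
attribute [local instance] HasDerivedCategory.standard
open FlatCx

namespace Groth.Agent.S4499

/-- Let A be a Noetherian local ring with residue field k, and d : P₁ → P₀ an A-linear map between flat
A-modules, viewed as a two-term chain complex, so that H₁ = Ker d, H₀ = Coker d and H₁ of the
complex tensored with k is Ker(d ⊗ 1_k). Let α : (Ker d) ⊗_A k → P₁ ⊗_A k be the map induced by the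
inclusion Ker d → P₁; its image lies in Ker(d ⊗ 1_k). Then there is an exact sequence 0 →
Tor₂^A(Coker d, k) → (Ker d) ⊗_A k → Ker(d ⊗ 1_k) → Tor₁^A(Coker d, k) → 0 with middle map α, stated
here as: Ker α is isomorphic to Tor₂^A(Coker d, k), and the quotient of Ker(d ⊗ 1_k) by the image of
α is isomorphic to Tor₁^A(Coker d, k) (existence of A-linear isomorphisms only; Tor is Mathlib's,
left derived in the second variable). (In the published statement the cokernel is printed without
its prime, as the module of 0-cycles; the proof is about the cokernel of d.) -/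
theorem result {A : Type u} [CommRing A] [IsNoetherianRing A]
    [IsLocalRing A] {P₁ P₀ : Type u} [AddCommGroup P₁] [Module A P₁] [AddCommGroup P₀] [Module A P₀]
    [Module.Flat A P₁] [Module.Flat A P₀] (d : P₁ →ₗ[A] P₀) :
    Nonempty (LinearMap.ker ((LinearMap.ker d).subtype.rTensor (IsLocalRing.ResidueField A)) ≃ₗ[A]
        DRing.Tor A 2 (P₀ ⧸ LinearMap.range d) (IsLocalRing.ResidueField A)) ∧
      LinearMap.range ((LinearMap.ker d).subtype.rTensor (IsLocalRing.ResidueField A)) ≤
        LinearMap.ker (d.rTensor (IsLocalRing.ResidueField A)) ∧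
      Nonempty ((↥(LinearMap.ker (d.rTensor (IsLocalRing.ResidueField A))) ⧸
          Submodule.comap (LinearMap.ker (d.rTensor (IsLocalRing.ResidueField A))).subtype
            (LinearMap.range ((LinearMap.ker d).subtype.rTensor (IsLocalRing.ResidueField A)))) ≃ₗ[A]
        DRing.Tor A 1 (P₀ ⧸ LinearMap.range d) (IsLocalRing.ResidueField A)) := by
  open Groth.Agent.Lib.helper11 in
  have hex1 : Function.Exact (LinearMap.range d).subtype (LinearMap.range d).mkQ :=
    LinearMap.exact_subtype_mkQ _
  have hex2 : Function.Exact (LinearMap.ker d).subtype d.rangeRestrict := by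
    intro x
    constructor
    · intro h
      have h' : d x = 0 := congrArg Subtype.val h
      exact ⟨⟨x, h'⟩, rfl⟩
    · rintro ⟨y, rfl⟩
      exact Subtype.ext y.2
  obtain ⟨e1⟩ := TorKer.nonempty_tor_one_equiv_ker (LinearMap.range d).subtype
    (LinearMap.range d).mkQ (IsLocalRing.ResidueField A) (Submodule.injective_subtype _) hex1
    (Submodule.mkQ_surjective _)
  obtain ⟨e2⟩ := TorKer.nonempty_tor_shift (LinearMap.range d).subtype
    (LinearMap.range d).mkQ (IsLocalRing.ResidueField A) (Submodule.injective_subtype _) hex1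
    (Submodule.mkQ_surjective _) 0
  obtain ⟨e3⟩ := TorKer.nonempty_tor_one_equiv_ker (LinearMap.ker d).subtype
    d.rangeRestrict (IsLocalRing.ResidueField A) (Submodule.injective_subtype _) hex2
    d.surjective_rangeRestrict
  obtain ⟨e4⟩ := KerTensor.nonempty_quotEquiv d (IsLocalRing.ResidueField A)
  refine ⟨⟨e3.symm ≪≫ₗ e2.symm⟩, KerTensor.range_le_ker d _, ⟨e4 ≪≫ₗ e1.symm⟩⟩

end Groth.Agent.S4499
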