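import Groth.Statements.S4501
import Groth.Agent.Lib.helper11.TFunBC2

set_option autoImplicit false
universe u
open FlatCx

namespace Groth.Agent.S4501

open CategoryTheory CategoryTheory.Limits in
/-- The case of finitely generated flat terms. Let A be a Noetherian domain, P a chain complex of
finitely generated flat A-modules, and for a prime y of A let P_y be the base change of P to the
local ring A_y. Then the set U of points y of Spec A such that the functor N ↦ H_p(P_y ⊗_{A_y} N) on
A_y-modules takes injections to injections and surjections to surjections is open and nonempty (it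
contains the generic point). -/
theorem result {A : Type u} [CommRing A] [IsNoetherianRing A] [IsDomain A]
    (P : ChainComplex (ModuleCat.{u} A) ℤ) (hP : ∀ i, Module.Finite A (P.X i) ∧ Module.Flat A (P.X i))
    (p : ℤ) :
    IsOpen {y : PrimeSpectrum A |
        (CohIII.TFun (CohIII.bcCx (algebraMap A (Localization.AtPrime y.asIdeal)) P) p).PreservesMonomorphisms ∧
          (CohIII.TFun (CohIII.bcCx (algebraMap A (Localization.AtPrime y.asIdeal)) P) p).PreservesEpimorphisms} ∧
      {y : PrimeSpectrum A |
        (CohIII.TFun (CohIII.bcCx (algebraMap A (Localization.AtPrime y.asIdeal)) P) p).PreservesMonomorphisms ∧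
          (CohIII.TFun (CohIII.bcCx (algebraMap A (Localization.AtPrime y.asIdeal)) P) p).PreservesEpimorphisms}.Nonempty := by
  have hflat : ∀ i, Module.Flat A (P.X i) := fun i => (hP i).2
  have := (hP (p - 1)).1
  have := (hP p).1
  have := Groth.Agent.Lib.helper11.TFunBC2.finite_opcycles P (p - 1)
  have := Groth.Agent.Lib.helper11.TFunBC2.finite_opcycles P p
  have hfp : Module.FinitePresentation A (P.opcycles (p - 1)) :=
    Module.finitePresentation_of_finite A _
  have hfp' : Module.FinitePresentation A (P.opcycles p) :=
    Module.finitePresentation_of_finite A _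
  have hset : {y : PrimeSpectrum A |
      (CohIII.TFun (CohIII.bcCx (algebraMap A (Localization.AtPrime y.asIdeal)) P)
        p).PreservesMonomorphisms ∧
      (CohIII.TFun (CohIII.bcCx (algebraMap A (Localization.AtPrime y.asIdeal)) P)
        p).PreservesEpimorphisms} =
      Module.freeLocus A (P.opcycles p) ∩ Module.freeLocus A (P.opcycles (p - 1)) := by
    ext y
    rw [Set.mem_setOf_eq, Set.mem_inter_iff,
      Groth.Agent.Lib.helper11.TFunBC2.preservesEpi_localization_iff P hflat p (p - 1)
        (by change p - 1 + 1 = p; ring) y,
      Groth.Agent.Lib.helper11.TFunBC2.preservesMono_localization_iff P hflat p y]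
  rw [hset]
  refine ⟨Module.isOpen_freeLocus.inter Module.isOpen_freeLocus, ⟨⟨⊥, Ideal.isPrime_bot⟩, ?_, ?_⟩⟩
  · exact Groth.Agent.Lib.helper11.TFunBC2.bot_mem_freeLocus _
  · exact Groth.Agent.Lib.helper11.TFunBC2.bot_mem_freeLocus _

end Groth.Agent.S4501
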