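import Groth.Statements.S4506
import Groth.Agent.Lib.Helper2.GN2
import Groth.Agent.Lib.Helper2.GN3
import Groth.Agent.Lib.helper11.TFunAR

set_option autoImplicit false
universe u
attribute [local instance] HasDerivedCategory.standard
open Coherent

namespace Groth.Agent.S4506

open AlgebraicGeometry CategoryTheory in
/-- (a) ⇔ (c) (local criterion for the exchange property), for a complex reduced to one sheaf over a
local base. Let A be a Noetherian local ring with maximal ideal m and residue field k, X a proper
A-scheme with structure morphism f, F a coherent O_X-module flat over Spec A, and T^p(M) = H^p(X,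
f^*(M~) ⊗ F). Then T^p takes surjections to surjections if and only if, for every n, the map
T^p(A/m^(n+1)) → T^p(A/m) induced by the projection A/m^(n+1) → A/m = k is surjective. -/
theorem result (A : Type u) [CommRing A]
    [IsNoetherianRing A] [IsLocalRing A] (X : Scheme.{u}) [X.Over (Spec (CommRingCat.of A))]
    [IsProper (X ↘ Spec (CommRingCat.of A))] (F : X.Modules) (hF : Coh.IsCoh F)
    (hfl : FlatMod.IsFlatOver (X ↘ Spec (CommRingCat.of A)) F) (p : ℕ) :
    (CohIII.tensorAFunctor A F ⋙ CohIII.HAb X p).PreservesEpimorphisms ↔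
      ∀ n : ℕ, Function.Surjective ((CohIII.tensorAFunctor A F ⋙ CohIII.HAb X p).map (ModuleCat.ofHom
        (Ideal.Quotient.factorₐ A (Ideal.pow_le_self (I := IsLocalRing.maximalIdeal A)
          (Nat.succ_ne_zero n))).toLinearMap :
        ModuleCat.of A (A ⧸ IsLocalRing.maximalIdeal A ^ (n + 1)) ⟶
          ModuleCat.of A (A ⧸ IsLocalRing.maximalIdeal A))).hom := by
  open Groth.Agent.Lib.Helper2 Groth.Agent.Lib.helper11 in
  obtain ⟨L, t, hL1, hL2, hL3⟩ := GN2.exists_grothendieck_complex_natural A X F hF hfl
  obtain ⟨α⟩ := hL3 p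
  have hP : ∀ i, Module.Finite A (L.X i) ∧ Module.Flat A (L.X i) := fun i => by
    haveI := (hL1 i).2
    haveI := (hL1 i).1
    exact ⟨inferInstance, inferInstance⟩
  rw [GN3.preservesEpi_iff α]
  constructor
  · intro h n
    rw [GN3.surjective_map_iff α]
    have hepi : Epi (ModuleCat.ofHom
        (Ideal.Quotient.factorₐ A (Ideal.pow_le_self (I := IsLocalRing.maximalIdeal A)
          (Nat.succ_ne_zero n))).toLinearMap :
        ModuleCat.of A (A ⧸ IsLocalRing.maximalIdeal A ^ (n + 1)) ⟶
          ModuleCat.of A (A ⧸ IsLocalRing.maximalIdeal A)) := by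
      rw [ModuleCat.epi_iff_surjective]
      exact Ideal.Quotient.factor_surjective
        (Ideal.pow_le_self (I := IsLocalRing.maximalIdeal A) (Nat.succ_ne_zero n))
    exact (ModuleCat.epi_iff_surjective _).mp (h.preserves _)
  · intro H
    have H' : ∃ n₀ : ℕ, ∀ n : ℕ, n₀ ≤ n → Function.Surjective ((CohIII.TFun L (p : ℤ)).map
        (ModuleCat.ofHom
          (Ideal.Quotient.factorₐ A (Ideal.pow_le_self (I := IsLocalRing.maximalIdeal A)
            (Nat.succ_ne_zero n))).toLinearMap :
          ModuleCat.of A (A ⧸ IsLocalRing.maximalIdeal A ^ (n + 1)) ⟶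
            ModuleCat.of A (A ⧸ IsLocalRing.maximalIdeal A))).hom :=
      ⟨0, fun n _ => (GN3.surjective_map_iff α _).1 (H n)⟩
    have := (hP ((ComplexShape.up ℤ).next (p : ℤ))).1
    have h1 := TFunAR.surjective_map_mk_of_surjective_factor L (IsLocalRing.maximalIdeal A) (p : ℤ) H'
    exact TFunLocal.preservesEpi_of_surjective L hP (p : ℤ) ((p : ℤ) + 1) rfl h1

end Groth.Agent.S4506
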