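import Groth.Statements.S4511
import Groth.Agent.Lib.Helper12.CohenSqE

set_option autoImplicit false
universe u
open EGA41

namespace Groth.Agent.S4511

open IsLocalRing in
/-- Let A be a complete Noetherian local ring whose residue field has characteristic p (p = 0 allowed).
The following are equivalent: (a) A contains a field, i.e. there is a ring homomorphism from a field
into A; (b) p·1 = 0 in A; (c) A is isomorphic to a quotient of a power series ring K[[T_1, …, T_n]]
over a field K. Moreover, when they hold, the surjection in (c) may be chosen with kernel contained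
in the square of the maximal ideal of K[[T_1, …, T_n]]. -/
theorem result (A : Type u) [CommRing A] [IsLocalRing A] [IsNoetherianRing A]
    [IsAdicComplete (maximalIdeal A) A] (p : ℕ) [CharP (ResidueField A) p] :
    [∃ (K : Type u) (_ : Field K), Nonempty (K →+* A),
     (p : A) = 0,
     ∃ (K : Type u) (_ : Field K) (n : ℕ) (f : MvPowerSeries (Fin n) K →+* A), Function.Surjective f].TFAE ∧
    ((p : A) = 0 → ∃ (K : Type u) (_ : Field K) (n : ℕ) (f : MvPowerSeries (Fin n) K →+* A),
      Function.Surjective f ∧ RingHom.ker f ≤ maximalIdeal (MvPowerSeries (Fin n) K) ^ 2) := by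
  have key : ((p : ℕ) : A) = 0 → ∃ (K : Type u) (_ : Field K) (n : ℕ)
      (f : MvPowerSeries (Fin n) K →+* A),
      Function.Surjective f ∧ RingHom.ker f ≤ maximalIdeal (MvPowerSeries (Fin n) K) ^ 2 := by
    intro hp0
    rcases Groth.Agent.Lib.Helper12.CohenSq.exists_coeff_cases A with
      ⟨K, iK, σ, hσ⟩ | ⟨q, hq, Λ, i1, hdom, hdvr, v, hcomp, hmΛ, hv, hq0, hqm⟩
    · obtain ⟨n, f, h1, h2⟩ :=
        Groth.Agent.Lib.Helper12.CohenSq.exists_surjective_ker_le_sq A K σ hσ
      exact ⟨K, iK, n, f, h1, h2⟩
    · exfalso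
      have h1 : ((q : ℕ) : ResidueField A) = 0 := by
        have := (residue_eq_zero_iff _).mpr hqm
        rwa [map_natCast] at this
      have hdvd : p ∣ q := (CharP.cast_eq_zero_iff (ResidueField A) p q).mp h1
      have hp1 : p ≠ 1 := CharP.char_ne_one (ResidueField A) p
      have hpq : p = q := ((Nat.dvd_prime hq).mp hdvd).resolve_left hp1
      exact hq0 (hpq ▸ hp0)
  refine ⟨?_, key⟩
  tfae_have 1 → 2 := by
    rintro ⟨K, iK, ⟨g⟩⟩
    let h : K →+* ResidueField A := (residue A).comp g
    haveI : CharP K p := (RingHom.charP_iff h h.injective p).mpr inferInstance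
    have h0 : ((p : ℕ) : K) = 0 := CharP.cast_eq_zero K p
    have h1 : g ((p : ℕ) : K) = ((p : ℕ) : A) := map_natCast g p
    rw [← h1, h0, map_zero]
  tfae_have 2 → 3 := by
    intro h
    obtain ⟨K, iK, n, f, h1, _⟩ := key h
    exact ⟨K, iK, n, f, h1⟩
  tfae_have 3 → 1 := by
    rintro ⟨K, iK, n, f, _⟩
    exact ⟨K, iK, ⟨f.comp MvPowerSeries.C⟩⟩
  tfae_finish

end Groth.Agent.S4511
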