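import Groth.Statements.S4513
import Groth.Agent.Lib.Helper5.AdicSmoothDer
import Groth.Agent.Lib.Helper5.DerExtMod
import Groth.Agent.Lib.Helper5.SepCartier2

set_option autoImplicit false
universe u
open EGA41

namespace Groth.Agent.S4513

open IsLocalRing in
/-- Let A be a Noetherian local ring and k a field mapping to A such that A is formally smooth over k
for the adic topology of its maximal ideal (k discrete). Then every field K with k → K → A
(compatible ring maps) is a separable extension of k, i.e. K is geometrically reduced over k. -/
theorem result {k A K : Type u} [Field k] [CommRing A]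
    [IsLocalRing A] [IsNoetherianRing A] [Algebra k A] (h : CAlgX.IsAdicFormallySmooth k A (maximalIdeal A))
    [Field K] [Algebra k K] [Algebra K A] [IsScalarTower k K A] :
    Algebra.IsGeometricallyReduced k K := by
  haveI : IsScalarTower k K (ResidueField A) := IsScalarTower.of_algebraMap_eq (fun t => by
    rw [IsScalarTower.algebraMap_apply k A (ResidueField A),
      IsScalarTower.algebraMap_apply K A (ResidueField A), ← IsScalarTower.algebraMap_apply k K A])
  apply Lib.Helper5.SepCartier.geomReduced_of_mapBaseChange_injective
  apply Lib.Helper5.DerExtMod.mapBaseChange_injective_of_extends (L := ResidueField A)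
  intro D
  obtain ⟨D', hD'⟩ := Lib.Helper5.AdicSmoothDer.exists_derivation_extends (L := ResidueField A)
    (maximalIdeal A) h ⟨1, fun x hx => by
      rw [pow_one] at hx
      exact (IsLocalRing.residue_eq_zero_iff x).2 hx⟩ D
  refine ⟨D'.compAlgebraMap K, fun a => ?_⟩
  change D' (algebraMap K A (algebraMap k K a)) = D a
  rw [← IsScalarTower.algebraMap_apply, hD']

end Groth.Agent.S4513
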