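import Groth.Statements.S4514
import Groth.Agent.Lib.Helper5.FlatCohenK
import Mathlib.RingTheory.TensorProduct.Quotient
-- import your own Groth.Agent.* helpers here

set_option autoImplicit false
universe u
open EGA41

namespace Groth.Agent.S4514

open IsLocalRing TensorProduct in
/-- Let A be a Noetherian local ring with residue field k, and let B₀ be a k-algebra which is a complete
regular local ring. Then there exist a complete Noetherian local ring B and a local homomorphism A →
B making B a flat A-module, such that B₀ is k-isomorphic to k ⊗_A B = B/𝔪B. -/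
theorem result {A : Type u} [CommRing A] [IsLocalRing A] [IsNoetherianRing A]
    (B₀ : Type u) [CommRing B₀] [IsRegularLocalRing B₀] [IsAdicComplete (maximalIdeal B₀) B₀]
    [Algebra (ResidueField A) B₀] :
    ∃ (B : Type u) (_ : CommRing B) (_ : IsLocalRing B) (_ : IsNoetherianRing B) (_ : Algebra A B)
      (_ : IsLocalHom (algebraMap A B)),
      IsAdicComplete (maximalIdeal B) B ∧ Module.Flat A B ∧
        Nonempty (ResidueField A ⊗[A] B ≃ₐ[ResidueField A] B₀) := by
  let _ : Algebra A B₀ := Algebra.compHom B₀ (algebraMap A (ResidueField A))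
  have _ : IsScalarTower A (ResidueField A) B₀ := IsScalarTower.of_algebraMap_eq (fun a => rfl)
  have hkill : ∀ a ∈ maximalIdeal A, algebraMap A B₀ a = 0 := by
    intro a ha
    change algebraMap (ResidueField A) B₀ (IsLocalRing.residue A a) = 0
    rw [(IsLocalRing.residue_eq_zero_iff a).2 ha, map_zero]
  have _ : IsLocalHom (algebraMap A B₀) := by
    refine ((local_hom_TFAE _).out 0 2).2 ?_
    rw [Ideal.map_le_iff_le_comap]
    intro x hx
    rw [Ideal.mem_comap, hkill x hx]
    exact Ideal.zero_mem _
  obtain ⟨C, _, _, _, hNC, hcC, hlocC, hflatC, π, hπ, hkerπ⟩ :=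
    Lib.Helper5.FlatCohen.exists_flat_lift' (A := A) (B := B₀) hkill
  refine ⟨C, inferInstance, inferInstance, hNC, inferInstance, hlocC, hcC, hflatC, ⟨?_⟩⟩
  let f : ResidueField A ⊗[A] C →ₐ[ResidueField A] B₀ :=
    Algebra.TensorProduct.lift (Algebra.ofId (ResidueField A) B₀) π (fun _ _ => Commute.all _ _)
  have hf1 : ∀ c : C, f ((1 : ResidueField A) ⊗ₜ[A] c) = π c := by
    intro c
    simp [f]
  have hincl : Function.Surjective
      (Algebra.TensorProduct.includeRight : C →ₐ[A] ResidueField A ⊗[A] C) :=
    Algebra.TensorProduct.includeRight_surjective C IsLocalRing.residue_surjective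
  refine AlgEquiv.ofBijective f ⟨?_, ?_⟩
  · rw [injective_iff_map_eq_zero]
    intro x hx
    obtain ⟨c, rfl⟩ := hincl x
    change f ((1 : ResidueField A) ⊗ₜ[A] c) = 0 at hx
    rw [hf1] at hx
    have hc : c ∈ (maximalIdeal A).map (algebraMap A C) := by
      rw [← hkerπ]
      exact hx
    have h1 : (Algebra.TensorProduct.includeRight : C →ₐ[A] ResidueField A ⊗[A] C) c =
        Algebra.TensorProduct.quotIdealMapEquivQuotTensor C (maximalIdeal A)
          (Ideal.Quotient.mk ((maximalIdeal A).map (algebraMap A C)) c) := rfl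
    rw [h1, Ideal.Quotient.eq_zero_iff_mem.2 hc, map_zero]
    rfl
  · intro y
    obtain ⟨c, rfl⟩ := hπ y
    exact ⟨(1 : ResidueField A) ⊗ₜ[A] c, hf1 c⟩

end Groth.Agent.S4514
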