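import Groth.Statements.S4515
import Mathlib.RingTheory.AdicCompletion.Functoriality
import Mathlib.RingTheory.Flat.EquationalCriterion
-- import your own Groth.Agent.* helpers here

set_option autoImplicit false
universe u
open EGA41

namespace Groth.Agent.S4515

/-- Let A be a ring, J an ideal of A, and M, N two A-modules which are Hausdorff for the J-adic
topology; suppose moreover that N is J-adically complete and M is flat. Let u : N → M be A-linear.
If the induced map N/JN → M/JM is bijective (surjectivity and injectivity written out below), then u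
is bijective. -/
theorem result {A : Type u} [CommRing A] (J : Ideal A)
    {M N : Type u} [AddCommGroup M] [Module A M] [AddCommGroup N] [Module A N]
    [IsHausdorff J M] [IsAdicComplete J N] [Module.Flat A M] (u : N →ₗ[A] M)
    (hsurj : ∀ m : M, ∃ n : N, m - u n ∈ (J • ⊤ : Submodule A M))
    (hinj : ∀ n : N, u n ∈ (J • ⊤ : Submodule A M) → n ∈ (J • ⊤ : Submodule A N)) :
    Function.Bijective u := by
  classical
  have hsurj' : Function.Surjective u := by
    apply surjective_of_mkQ_comp_surjective (I := J)
    intro y
    obtain ⟨m, rfl⟩ := Submodule.mkQ_surjective _ y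
    obtain ⟨n, hn⟩ := hsurj m
    refine ⟨n, ?_⟩
    simp only [LinearMap.comp_apply, Submodule.mkQ_apply]
    exact ((Submodule.Quotient.eq _).mpr hn).symm
  refine ⟨?_, hsurj'⟩
  rw [← LinearMap.ker_eq_bot, LinearMap.ker_eq_bot']
  intro n hn
  -- show n ∈ J^k N for all k
  have key : ∀ k : ℕ, n ∈ (J ^ k • ⊤ : Submodule A N) := by
    intro k
    induction k with
    | zero => simp
    | succ k ih =>
      have h1 : n ∈ J ^ k • Submodule.span A (Set.range (id : N → N)) := by
        simpa using ih
      obtain ⟨a, ha, hsum⟩ := (Submodule.mem_ideal_smul_span_iff_exists_sum (J ^ k) id n).mp h1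
      have hrel : ∑ i : a.support, a i • u i = 0 := by
        rw [Finset.sum_coe_sort a.support (fun i => a i • u i), ← hn, ← hsum, Finsupp.sum, map_sum]
        simp only [map_smul, id_eq]
      obtain ⟨l, b, y, hy, hb⟩ := Module.Flat.isTrivialRelation_of_sum_smul_eq_zero hrel
      simp only at hy hb
      choose n' hn' using fun j => hsurj' (y j)
      have hdiff : ∀ i : a.support, (i : N) - ∑ j, b i j • n' j ∈ (J • ⊤ : Submodule A N) := by
        intro i
        apply hinj
        rw [map_sub, map_sum, hy i]
        simp [hn']
      have hn2 : n = ∑ i : a.support, a i • ((i : N) - ∑ j, b i j • n' j) := by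
        have : ∑ i : a.support, a i • ∑ j, b i j • n' j = 0 := by
          simp_rw [Finset.smul_sum, smul_smul]
          rw [Finset.sum_comm]
          simp_rw [← Finset.sum_smul, hb, zero_smul, Finset.sum_const_zero]
        simp_rw [smul_sub, Finset.sum_sub_distrib, this, sub_zero]
        rw [← hsum, Finsupp.sum, ← Finset.sum_coe_sort]
        rfl
      rw [hn2, pow_succ, mul_smul]
      exact Submodule.sum_mem _ fun i _ => Submodule.smul_mem_smul (ha i) (hdiff i)
  have hH : IsHausdorff J N := inferInstance
  apply hH.haus
  intro k
  rw [SModEq.zero]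
  exact key k

end Groth.Agent.S4515
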