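import Groth.Statements.S4516
import Mathlib

set_option autoImplicit false
universe u
open EGA41

namespace Groth.Agent.S4516

theorem D_eq_zero_of_mem (p : ℕ) [Fact p.Prime] {A B : Type u} [CommRing A] [CommRing B]
    [Algebra A B] [CharP B p]
    (b : B) (hb : b ∈ EGA41.pPowerSubalgebra p A B) : KaehlerDifferential.D A B b = 0 := by
  unfold EGA41.pPowerSubalgebra at hb
  induction hb using Algebra.adjoin_induction with
  | mem x hx =>
    obtain ⟨c, rfl⟩ := hx
    rw [Derivation.leibniz_pow, ← Nat.cast_smul_eq_nsmul B, CharP.cast_eq_zero, zero_smul]
  | algebraMap r => simp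
  | add x y _ _ hx hy => simp [hx, hy]
  | mul x y _ _ hx hy => simp [hx, hy]

theorem main (p : ℕ) [Fact p.Prime] {A B : Type u}
    [CommRing A] [CommRing B] [Algebra A B] [CharP B p] (A' : Subalgebra A B)
    (hA' : A' ≤ EGA41.pPowerSubalgebra p A B) :
    Function.Bijective (KaehlerDifferential.map A A' B B) := by
  refine ⟨?_, KaehlerDifferential.map_surjective A A' B⟩
  rw [← LinearMap.ker_eq_bot, ← KaehlerDifferential.range_mapBaseChange, LinearMap.range_eq_bot]
  refine LinearMap.ext fun x => ?_
  induction x using TensorProduct.induction_on with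
  | zero => simp
  | tmul b y =>
    rw [KaehlerDifferential.mapBaseChange_tmul]
    have : KaehlerDifferential.map A A A' B y = 0 := by
      have hy : y ∈ Submodule.span A' (Set.range (KaehlerDifferential.D A A')) := by
        rw [KaehlerDifferential.span_range_derivation]; trivial
      induction hy using Submodule.span_induction with
      | mem y hy =>
        obtain ⟨a, rfl⟩ := hy
        rw [KaehlerDifferential.map_D]
        exact D_eq_zero_of_mem p _ (hA' a.2)
      | zero => simp
      | add x y _ _ hx hy => simp [hx, hy]
      | smul a x _ hx => rw [map_smul, hx, smul_zero]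
    simp [this]
  | add x y hx hy => simp [hx, hy]


/-- Let p be a prime, B an A-algebra of characteristic p and A' an A-subalgebra of B contained in
A[B^p]. Then the canonical map between Ω_{B/A} and Ω_{B/A'} is bijective (every A-derivation of B
vanishes on A[B^p]). -/
theorem result (p : ℕ) [Fact p.Prime] {A B : Type u}
    [CommRing A] [CommRing B] [Algebra A B] [CharP B p] (A' : Subalgebra A B)
    (hA' : A' ≤ EGA41.pPowerSubalgebra p A B) :
    Function.Bijective (KaehlerDifferential.map A A' B B) := by
  exact main p A' hA'

end Groth.Agent.S4516
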