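import Groth.Statements.S4519
import Groth.Agent.Lib.Helper5.PBasisBase

set_option autoImplicit false
universe u
open EGA41

namespace Groth.Agent.S4519

/-- Let p be a prime, B a ring of characteristic p and A a subring of B with B^p ⊆ A (here: A → B
injective with every p-th power in its image; R → A → B with the image of R in B equal to the set of
p-th powers, so that R stands for B^p). If B admits a p-basis over A, then B is a formally smooth
A-algebra relative to R for the discrete topologies (square-zero liftings, as in the prelude's
relative notion). -/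
theorem result (p : ℕ) [Fact p.Prime] {R A B : Type u} [CommRing R] [CommRing A]
    [CommRing B] [Algebra R A] [Algebra A B] [Algebra R B] [IsScalarTower R A B] [CharP B p]
    (hinj : Function.Injective (algebraMap A B)) (hpow : ∀ b : B, b ^ p ∈ Set.range (algebraMap A B))
    (hR : Set.range (algebraMap R B) = Set.range fun b : B => b ^ p)
    {ι : Type u} (x : ι → B) (hx : EGA41.IsPBasis p A x) :
    EGA41.IsFormallySmoothRel R A B := by
  have hp : p.Prime := Fact.out
  have hli := Lib.Helper5.PBasis.li_base p x hinj hx.1
  have hsp := Lib.Helper5.PBasis.span_base p hpow x hx.2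
  choose c hc using fun i => hpow (x i)
  intro C _ _ _ _ J hJ u₀ hu
  obtain ⟨u, hu⟩ := hu
  have hzp : ∀ i, (u (x i)) ^ p = algebraMap A C (c i) := by
    intro i
    have hmem : x i ^ p ∈ Set.range (algebraMap R B) := by
      rw [hR]
      exact ⟨x i, rfl⟩
    obtain ⟨r, hr⟩ := hmem
    have hci : c i = algebraMap R A r :=
      hinj (by rw [hc i, ← hr, IsScalarTower.algebraMap_apply R A B])
    rw [← map_pow, ← hr, AlgHom.commutes, hci, ← IsScalarTower.algebraMap_apply R A C]
  let v₀ : B →+* C :=
    Lib.Helper5.PBasis.vhom p x c hc hli hsp (algebraMap A C) (fun i => u (x i)) hzp hp.pos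
  let v : B →ₐ[A] C :=
    { v₀ with
      commutes' := fun a =>
        Lib.Helper5.PBasis.vhom_algebraMap p x c hc hli hsp (algebraMap A C) (fun i => u (x i))
          hzp hp.pos a }
  refine ⟨v, ?_⟩
  have hring : ((Ideal.Quotient.mkₐ A J).comp v).toRingHom = u₀.toRingHom := by
    apply Lib.Helper5.PBasis.ringHom_ext_of_span p x hsp
    · intro a
      change (Ideal.Quotient.mkₐ A J).comp v (algebraMap A B a) = u₀ (algebraMap A B a)
      rw [AlgHom.commutes, AlgHom.commutes]
    · intro i
      change Ideal.Quotient.mk J (v₀ (x i)) = u₀ (x i)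
      rw [Lib.Helper5.PBasis.vhom_x p x c hc hli hsp (algebraMap A C) (fun i => u (x i)) hzp
        hp.pos i]
      exact AlgHom.congr_fun hu (x i)
  exact AlgHom.ext (fun b => RingHom.congr_fun hring b)

end Groth.Agent.S4519
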