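import Groth.Statements.S4522
import Groth.Agent.Lib.Helper5.DerExtFrob

set_option autoImplicit false
universe u
open EGA41

namespace Groth.Agent.S4522

/-- Let L be a field of characteristic p > 0 and K a subfield with L^p ⊆ K ⊆ L (here R → K → L with the
image of R in L the set of p-th powers and every p-th power of L in the image of K). Then the
canonical L-linear map L ⊗_K Ω_{K/L^p} → Ω_{L/L^p} is injective, so that 0 → Ω_{K/L^p} ⊗_K L →
Ω_{L/L^p} → Ω_{L/K} → 0 is exact: the imperfection module of L over K relative to L^p vanishes. -/
theorem result (p : ℕ) [Fact p.Prime] {R K L : Type u} [Field R] [Field K] [Field L]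
    [Algebra R K] [Algebra K L] [Algebra R L] [IsScalarTower R K L] [CharP L p]
    (hR : Set.range (algebraMap R L) = Set.range fun y : L => y ^ p)
    (hK : ∀ y : L, y ^ p ∈ Set.range (algebraMap K L)) :
    Function.Injective (KaehlerDifferential.mapBaseChange R K L) := by
  have hp : p.Prime := Fact.out
  apply Lib.Helper5.DerExt.mapBaseChange_injective_of_extends
  intro D
  apply Lib.Helper5.DerExt.exists_extends_of_pow_mem p hp hK D
  rintro a ⟨y, hy⟩
  have hmem : y ^ p ∈ Set.range (algebraMap R L) := by
    rw [hR]
    exact ⟨y, rfl⟩
  obtain ⟨r, hr⟩ := hmem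
  have ha : a = algebraMap R K r := by
    apply (algebraMap K L).injective
    rw [hy, ← hr, IsScalarTower.algebraMap_apply R K L]
  rw [ha, Derivation.map_algebraMap]

end Groth.Agent.S4522
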