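import Groth.Statements.S4523
import Groth.Agent.Lib.Helper5.DerExt
import Groth.Agent.Lib.Helper5.SepCartier2
import Groth.Agent.Lib.Helper5.SepSmooth

set_option autoImplicit false
universe u
open EGA41

namespace Groth.Agent.S4523

/-- Let k ⊆ K be fields. Then K is a separable extension of k if and only if the imperfection module
Υ_{K/k} vanishes, i.e. the canonical map Ω_{k/ℤ} ⊗_k K → Ω_{K/ℤ} is injective, and if and only if
every derivation of k into K extends to a derivation of K into itself. (No hypothesis on the
characteristic.) -/
theorem result {k K : Type u} [Field k] [Field K] [Algebra k K] :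
    (Algebra.IsGeometricallyReduced k K ↔ EGA41.imperfection ℤ k K = ⊥) ∧
    (Algebra.IsGeometricallyReduced k K ↔
      ∀ D : Derivation ℤ k K, ∃ D' : Derivation ℤ K K, ∀ a : k, D' (algebraMap k K a) = D a) := by
  have h1 : Algebra.IsGeometricallyReduced k K ↔
      Function.Injective (KaehlerDifferential.mapBaseChange ℤ k K) :=
    ⟨fun h => Lib.Helper5.SepSmooth.mapBaseChange_injective_of_geomReduced (k := k) (K := K) ℤ,
      fun h => Lib.Helper5.SepCartier.geomReduced_of_mapBaseChange_injective h⟩
  refine ⟨?_, ?_⟩
  · rw [h1, EGA41.imperfection, LinearMap.ker_eq_bot]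
  · rw [h1]
    exact ⟨fun hinj D => Lib.Helper5.DerExt.exists_extends_of_mapBaseChange_injective hinj D,
      fun h => Lib.Helper5.DerExt.mapBaseChange_injective_of_extends h⟩

end Groth.Agent.S4523
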