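import Groth.Statements.S4524
import Mathlib.RingTheory.Smooth.Field
import Mathlib.RingTheory.Etale.Kaehler
import Mathlib.RingTheory.Kaehler.Polynomial
import Mathlib.RingTheory.AlgebraicIndependent.TranscendenceBasis
-- import your own Groth.Agent.* helpers here

set_option autoImplicit false
universe u
open EGA41

namespace Groth.Agent.S4524

/-- Let k be a field of characteristic 0 and K an extension of k. Then Ω_{K/k} = 0 if and only if K is
an algebraic extension of k. -/
theorem result {k K : Type u} [Field k] [CharZero k] [Field K] [Algebra k K] :
    Subsingleton (Ω[K⁄k]) ↔ Algebra.IsAlgebraic k K := by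
  open scoped IntermediateField.algebraAdjoinAdjoin TensorProduct in
  constructor
  · intro hsub
    obtain ⟨ι, v, hv⟩ := exists_isTranscendenceBasis' (R := k) (A := K)
    rw [← hv.isEmpty_iff_isAlgebraic]
    have hb := hv.1
    let P := MvPolynomial ι k
    let S := Algebra.adjoin k (Set.range v)
    let F := IntermediateField.adjoin k (Set.range v)
    have : CharZero K := charZero_of_injective_algebraMap (algebraMap k K).injective
    have : CharZero F := charZero_of_injective_algebraMap (algebraMap k F).injective
    have : Algebra.IsAlgebraic F K := hv.isAlgebraic_field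
    have : Algebra.IsSeparable F K := inferInstance
    have : Algebra.FormallyEtale F K := Algebra.FormallyEtale.of_isSeparable F K
    have : Algebra.FormallyEtale S F := .of_isLocalization (nonZeroDivisors _)
    have : Algebra.FormallyEtale S K := .comp S F K
    let algPS : Algebra P S := hb.aevalEquiv.toAlgHom.toRingHom.toAlgebra
    have : IsScalarTower k P S := IsScalarTower.of_algebraMap_eq' (by
      ext x; simp [RingHom.algebraMap_toAlgebra])
    have : Algebra.FormallyEtale P S := by
      let e : P ≃ₐ[P] S := AlgEquiv.ofRingEquiv (f := hb.aevalEquiv.toRingEquiv) (fun x => rfl)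
      exact Algebra.FormallyEtale.of_equiv e
    let algPK : Algebra P K := ((algebraMap S K).comp (algebraMap P S)).toAlgebra
    have : IsScalarTower P S K := IsScalarTower.of_algebraMap_eq' rfl
    have : IsScalarTower k P K := IsScalarTower.of_algebraMap_eq' (by
      rw [IsScalarTower.algebraMap_eq P S K, RingHom.comp_assoc, ← IsScalarTower.algebraMap_eq k P S,
        ← IsScalarTower.algebraMap_eq k S K])
    have : Algebra.FormallyEtale P K := .comp P S K
    let e := KaehlerDifferential.tensorKaehlerEquivOfFormallyEtale k P K
    have hsub' : Subsingleton (K ⊗[P] Ω[P⁄k]) := e.toEquiv.subsingleton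
    let b := (KaehlerDifferential.mvPolynomialBasis k ι).baseChange K
    by_contra hne
    rw [not_isEmpty_iff] at hne
    obtain ⟨i⟩ := hne
    exact b.ne_zero i (Subsingleton.elim _ _)
  · intro halg
    have : CharZero K := charZero_of_injective_algebraMap (algebraMap k K).injective
    have : Algebra.IsSeparable k K := inferInstance
    have : Algebra.FormallyUnramified k K := Algebra.FormallyUnramified.of_isSeparable k K
    infer_instance

end Groth.Agent.S4524
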