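import Groth.Statements.S4525
import Groth.Agent.Lib.Helper5.CartierRel

set_option autoImplicit false
universe u
open EGA41

namespace Groth.Agent.S4525

/-- Let K be a field, L an extension of finite type of K and k a subfield of K. Then Ω_{L/K} and the
imperfection module Υ_{L/K/k} are finite-dimensional L-vector spaces and rank Ω_{L/K} − rank
Υ_{L/K/k} ≥ trdeg_K L. (The published statement also gives the equality rank Ω_{L/K} − rank
Υ_{L/K/k} = trdeg_K L + d(L/K, k) and an equality criterion; this row states only finiteness and the
inequality.) -/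
theorem result {k K L : Type u} [Field k] [Field K] [Field L]
    [Algebra k K] [Algebra K L] [Algebra k L] [IsScalarTower k K L] [Algebra.EssFiniteType K L] :
    Module.Finite L (Ω[L⁄K]) ∧ Module.Finite L (EGA41.imperfection k K L) ∧
      (Cardinal.toNat (Algebra.trdeg K L) : ℤ) ≤
        (Module.finrank L (Ω[L⁄K]) : ℤ) - Module.finrank L (EGA41.imperfection k K L) := by
  have h := Lib.Helper5.Cartier.cdata_of_essFiniteType K L
  haveI : Module.Finite L (EGA41.imperfection ℤ K L) := h.finKer
  have h1 : (Module.finrank L (Ω[L⁄K]) : ℤ) - Module.finrank L (EGA41.imperfection ℤ K L) =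
      Cardinal.toNat (Algebra.trdeg K L) := h.finrank_eq
  have h2 := Lib.Helper5.Cartier.finrank_imperfection_rel_le k K L
  refine ⟨h.finite_kaehler, Lib.Helper5.Cartier.finite_imperfection_rel k K L, ?_⟩
  have h3 : (Module.finrank L (EGA41.imperfection k K L) : ℤ) ≤
      Module.finrank L (EGA41.imperfection ℤ K L) := by exact_mod_cast h2
  linarith

end Groth.Agent.S4525
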