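import Groth.Statements.S4526
import Groth.Agent.Lib.Helper5.CartierRel2

set_option autoImplicit false
universe u
open EGA41

namespace Groth.Agent.S4526

/-- Let k ⊆ K ⊆ L be three fields with L an extension of finite type of k. Then Ω_{L/k} and Ω_{K/k} are
finite-dimensional and rank_L Ω_{L/k} − rank_K Ω_{K/k} ≥ trdeg_K L. (The published statement also
gives the exact value trdeg_K L + d(L/K, k) and an equality criterion; this row states only the
inequality.) -/
theorem result {k K L : Type u} [Field k] [Field K] [Field L]
    [Algebra k K] [Algebra K L] [Algebra k L] [IsScalarTower k K L] [Algebra.EssFiniteType k L] :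
    Module.Finite L (Ω[L⁄k]) ∧ Module.Finite K (Ω[K⁄k]) ∧
      (Cardinal.toNat (Algebra.trdeg K L) : ℤ) ≤ (Module.finrank L (Ω[L⁄k]) : ℤ) - Module.finrank K (Ω[K⁄k]) := by
  haveI : Algebra.EssFiniteType K L := Algebra.EssFiniteType.of_comp k K L
  have h := Lib.Helper5.Cartier.cdata_of_essFiniteType K L
  haveI : Module.Finite L (EGA41.imperfection ℤ K L) := h.finKer
  have h1 : (Module.finrank L (Ω[L⁄K]) : ℤ) - Module.finrank L (EGA41.imperfection ℤ K L) =
      Cardinal.toNat (Algebra.trdeg K L) := h.finrank_eq
  have h2 := Lib.Helper5.Cartier.finrank_imperfection_rel_le k K L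
  haveI := Lib.Helper5.Cartier.finite_imperfection_rel k K L
  haveI := Lib.Helper5.Cartier.finite_baseChange_kaehler k K L
  have h4 := Lib.Helper5.Cartier.finrank_rel k K L
  refine ⟨inferInstance, Lib.Helper5.Cartier.finite_kaehler_of_baseChange k K L, ?_⟩
  have h3 : (Module.finrank L (EGA41.imperfection k K L) : ℤ) ≤
      Module.finrank L (EGA41.imperfection ℤ K L) := by exact_mod_cast h2
  linarith

end Groth.Agent.S4526
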