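import Groth.Statements.S4529
import Mathlib.RingTheory.Nakayama
import Mathlib.RingTheory.FiniteType
import Mathlib.RingTheory.Nilpotent.Basic
-- import your own Groth.Agent.* helpers here

set_option autoImplicit false
universe u
open EGA41

namespace Groth.Agent.S4529

/-- Let A be a ring, M, N two A-modules with N projective, u : M → N a homomorphism and J an ideal of A;
suppose either (i) J is nilpotent, or (ii) J is contained in the Jacobson radical of A and M is of
finite type. Then u is left invertible if and only if the induced map u₀ : M/JM → N/JN is left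
invertible. (A left inverse of u₀ composed with N → N/JN is an A-linear map v : N → M/JM with v ∘ u
the projection, and conversely; the right-hand side is written in that form.) -/
theorem result {A : Type u} [CommRing A] {M N : Type u} [AddCommGroup M] [Module A M]
    [AddCommGroup N] [Module A N] [Module.Projective A N] (u : M →ₗ[A] N) (J : Ideal A)
    (hJ : IsNilpotent J ∨ (J ≤ (⊥ : Ideal A).jacobson ∧ Module.Finite A M)) :
    (∃ w : N →ₗ[A] M, w ∘ₗ u = LinearMap.id) ↔
      ∃ v : N →ₗ[A] M ⧸ (J • ⊤ : Submodule A M), v ∘ₗ u = (J • ⊤ : Submodule A M).mkQ := by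
  constructor
  · rintro ⟨w, hw⟩
    exact ⟨(J • ⊤ : Submodule A M).mkQ ∘ₗ w, by rw [LinearMap.comp_assoc, hw, LinearMap.comp_id]⟩
  · rintro ⟨v, hv⟩
    obtain ⟨w₀, hw₀⟩ := Module.projective_lifting_property (J • ⊤ : Submodule A M).mkQ v
      (Submodule.mkQ_surjective _)
    set φ : M →ₗ[A] M := w₀ ∘ₗ u with hφ
    have hφq : (J • ⊤ : Submodule A M).mkQ ∘ₗ φ = (J • ⊤ : Submodule A M).mkQ := by
      rw [hφ, ← LinearMap.comp_assoc, hw₀, hv]
    have hmem : ∀ m : M, φ m - m ∈ (J • ⊤ : Submodule A M) := fun m => by
      have := LinearMap.congr_fun hφq m
      simp only [LinearMap.comp_apply, Submodule.mkQ_apply] at this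
      exact (Submodule.Quotient.eq _).mp this
    suffices hbij : Function.Bijective φ by
      let e := LinearEquiv.ofBijective φ hbij
      refine ⟨e.symm.toLinearMap ∘ₗ w₀, ?_⟩
      ext m
      simp only [LinearMap.comp_apply, LinearEquiv.coe_coe, LinearMap.id_apply]
      exact e.symm_apply_apply m
    rcases hJ with hJ | ⟨hJ, hfin⟩
    · -- nilpotent case
      obtain ⟨k, hk⟩ := hJ
      set ε : Module.End A M := φ - 1 with hε
      have hεmem : ∀ (i : ℕ) (m : M), m ∈ (J ^ i • ⊤ : Submodule A M) →
          ε m ∈ (J ^ (i + 1) • ⊤ : Submodule A M) := by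
        intro i m hm
        refine Submodule.smul_induction_on hm ?_ ?_
        · intro r hr n _
          rw [map_smul, pow_succ, mul_smul]
          refine Submodule.smul_mem_smul hr ?_
          simpa [hε] using hmem n
        · intro x y hx hy
          rw [map_add]
          exact add_mem hx hy
      have hpow : ∀ (i : ℕ) (m : M), (ε ^ i) m ∈ (J ^ i • ⊤ : Submodule A M) := by
        intro i
        induction i with
        | zero => intro m; simp
        | succ i ih =>
          intro m
          rw [pow_succ' ε i, Module.End.mul_apply]
          exact hεmem i _ (ih m)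
      have hnil : IsNilpotent ε := by
        refine ⟨k, ?_⟩
        ext m
        have := hpow k m
        rw [hk] at this
        simpa using this
      have hunit : IsUnit φ := by
        have := hnil.isUnit_add_one
        simpa [hε] using this
      exact (Module.End.isUnit_iff φ).mp hunit
    · -- Nakayama case
      have hsurj : Function.Surjective φ := by
        apply LinearMap.surjective_of_surjective_comp_mkQ φ J hJ
        rw [hφq]
        exact Submodule.mkQ_surjective _
      exact OrzechProperty.bijective_of_surjective_endomorphism φ hsurj

end Groth.Agent.S4529
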