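import Groth.Statements.S4530
import Groth.Agent.Lib.Helper5.SplitLoc

set_option autoImplicit false
universe u
open EGA41

namespace Groth.Agent.S4530

open TensorProduct in
/-- Let A be a ring, M an A-module of finite type, N a projective A-module, u : M → N a homomorphism.
For a prime ideal 𝔭 the following are equivalent: (a) u_𝔭 : M_𝔭 → N_𝔭 is left invertible; (b) u ⊗ 1
: M ⊗ k(𝔭) → N ⊗ k(𝔭) is injective; (d) there is f ∉ 𝔭 with u_f : M_f → N_f left invertible.
Moreover the set of such 𝔭 is open in Spec A. (The published statement also has a determinant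
criterion (c); this row omits it.) -/
theorem result {A : Type u} [CommRing A] {M N : Type u} [AddCommGroup M] [Module A M]
    [Module.Finite A M] [AddCommGroup N] [Module A N] [Module.Projective A N] (u : M →ₗ[A] N) :
    (∀ p : PrimeSpectrum A,
      [∃ w : LocalizedModule p.asIdeal.primeCompl N →ₗ[A] LocalizedModule p.asIdeal.primeCompl M,
          w ∘ₗ LocalizedModule.map p.asIdeal.primeCompl u = LinearMap.id,
       Function.Injective (u.lTensor p.asIdeal.ResidueField),
       ∃ f : A, f ∉ p.asIdeal ∧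
          ∃ w : LocalizedModule (Submonoid.powers f) N →ₗ[A] LocalizedModule (Submonoid.powers f) M,
            w ∘ₗ LocalizedModule.map (Submonoid.powers f) u = LinearMap.id].TFAE) ∧
    IsOpen {p : PrimeSpectrum A |
      ∃ w : LocalizedModule p.asIdeal.primeCompl N →ₗ[A] LocalizedModule p.asIdeal.primeCompl M,
        w ∘ₗ LocalizedModule.map p.asIdeal.primeCompl u = LinearMap.id} := by
  have key : ∀ p : PrimeSpectrum A,
      (∃ w : LocalizedModule p.asIdeal.primeCompl N →ₗ[A] LocalizedModule p.asIdeal.primeCompl M,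
        w ∘ₗ LocalizedModule.map p.asIdeal.primeCompl u = LinearMap.id) ↔
      ∃ f ∈ Lib.Helper5.SplitLoc.splitIdeal u, f ∉ p.asIdeal := by
    intro p
    rw [Lib.Helper5.SplitLoc.leftInverse_iff u p.asIdeal.primeCompl]
    constructor
    · rintro ⟨f, hfS, hf⟩
      exact ⟨f, hf, hfS⟩
    · rintro ⟨f, hf, hfS⟩
      exact ⟨f, hfS, hf⟩
  refine ⟨fun p => ?_, ?_⟩
  · tfae_have 1 ↔ 2 := by
      rw [key p]
      constructor
      · rintro ⟨f, hf, hfp⟩
        exact Lib.Helper5.SplitLoc.injective_lTensor_of_mem u p.asIdeal hf hfp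
      · intro h
        exact Lib.Helper5.SplitLoc.exists_mem_of_injective_lTensor u p.asIdeal h
    tfae_have 1 ↔ 3 := by
      rw [key p]
      constructor
      · rintro ⟨f, hf, hfp⟩
        exact ⟨f, hfp, Lib.Helper5.SplitLoc.leftInverse_of_mem u (Submonoid.powers f)
          (Submonoid.mem_powers f) hf⟩
      · rintro ⟨f, hfp, hw⟩
        obtain ⟨f', ⟨k, rfl⟩, hf'⟩ :=
          Lib.Helper5.SplitLoc.exists_mem_of_leftInverse u (Submonoid.powers f) hw
        exact ⟨f ^ k, hf', fun h => hfp (p.isPrime.mem_of_pow_mem k h)⟩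
    tfae_finish
  · have : {p : PrimeSpectrum A |
        ∃ w : LocalizedModule p.asIdeal.primeCompl N →ₗ[A] LocalizedModule p.asIdeal.primeCompl M,
          w ∘ₗ LocalizedModule.map p.asIdeal.primeCompl u = LinearMap.id} =
        (PrimeSpectrum.zeroLocus (Lib.Helper5.SplitLoc.splitIdeal u : Set A))ᶜ := by
      ext p
      rw [Set.mem_ofPred_eq, key p, Set.mem_compl_iff, PrimeSpectrum.mem_zeroLocus, Set.not_subset]
      constructor
      · rintro ⟨f, hf, hfp⟩
        exact ⟨f, hf, hfp⟩
      · rintro ⟨f, hf, hfp⟩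
        exact ⟨f, hf, hfp⟩
    rw [this]
    exact (PrimeSpectrum.isClosed_zeroLocus _).isOpen_compl

end Groth.Agent.S4530
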