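import Groth.Statements.S4531
import Groth.Agent.Lib.Helper5.SplitField

set_option autoImplicit false
universe u
open EGA41

namespace Groth.Agent.S4531

open TensorProduct in
/-- Let A be a ring, M an A-module of finite type, N a projective A-module and u : M → N a homomorphism.
(i) u is left invertible if and only if u_𝔪 : M_𝔪 → N_𝔪 is left invertible for every maximal ideal 𝔪
of A. (ii) If A' is an A-algebra which is a faithfully flat A-module, u is left invertible if and
only if u ⊗ 1 : M ⊗_A A' → N ⊗_A A' is left invertible (as an A'-linear map). -/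
theorem result {A : Type u} [CommRing A] {M N : Type u} [AddCommGroup M] [Module A M]
    [Module.Finite A M] [AddCommGroup N] [Module A N] [Module.Projective A N] (u : M →ₗ[A] N) :
    ((∃ w : N →ₗ[A] M, w ∘ₗ u = LinearMap.id) ↔
      ∀ (m : Ideal A) [m.IsMaximal],
        ∃ w : LocalizedModule m.primeCompl N →ₗ[A] LocalizedModule m.primeCompl M,
          w ∘ₗ LocalizedModule.map m.primeCompl u = LinearMap.id) ∧
    ∀ (A' : Type u) [CommRing A'] [Algebra A A'] [Module.FaithfullyFlat A A'],
      (∃ w : N →ₗ[A] M, w ∘ₗ u = LinearMap.id) ↔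
        ∃ w : A' ⊗[A] N →ₗ[A'] A' ⊗[A] M, w ∘ₗ u.baseChange A' = LinearMap.id := by
  constructor
  · rw [← Lib.Helper5.SplitLoc.splitIdeal_eq_top_iff]
    constructor
    · intro h m _
      refine Lib.Helper5.SplitLoc.leftInverse_of_mem u m.primeCompl (f := 1)
        m.primeCompl.one_mem ?_
      rw [h]; trivial
    · intro h
      by_contra hne
      obtain ⟨m, hm, hle⟩ := Ideal.exists_le_maximal _ hne
      obtain ⟨f, hfS, hf⟩ := Lib.Helper5.SplitLoc.exists_mem_of_leftInverse u m.primeCompl (h m)
      exact hfS (hle hf)
  · intro A' _ _ _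
    constructor
    · rintro ⟨w, hw⟩
      exact ⟨w.baseChange A', by rw [← LinearMap.baseChange_comp, hw, LinearMap.baseChange_id]⟩
    · rintro ⟨W, hW⟩
      rw [← Lib.Helper5.SplitLoc.splitIdeal_eq_top_iff]
      by_contra hne
      obtain ⟨m, hm, hle⟩ := Ideal.exists_le_maximal _ hne
      have hmap : m.map (algebraMap A A') ≠ ⊤ := by
        intro htop
        have h1 := Ideal.comap_map_eq_self_of_faithfullyFlat (B := A') m
        rw [htop, Ideal.comap_top] at h1
        exact hm.ne_top h1.symm
      obtain ⟨m', hm', hle'⟩ := Ideal.exists_le_maximal _ hmap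
      let K := A' ⧸ m'
      let _ : Field K := Ideal.Quotient.field m'
      have hinj1 : Function.Injective ((u.baseChange A').lTensor K) := by
        have : (W.lTensor K) ∘ₗ ((u.baseChange A').lTensor K) = LinearMap.id := by
          rw [← LinearMap.lTensor_comp, hW, LinearMap.lTensor_id]
        exact Function.HasLeftInverse.injective ⟨_, LinearMap.congr_fun this⟩
      have hinj2 : Function.Injective (u.lTensor K) :=
        (Lib.Helper5.SplitLoc.lTensor_baseChange_injective_iff u).mp hinj1
      obtain ⟨f, hf, hfK⟩ := Lib.Helper5.SplitLoc.exists_mem_of_injective_lTensor_field u K hinj2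
      apply hfK
      rw [IsScalarTower.algebraMap_apply A A' K]
      change Ideal.Quotient.mk m' (algebraMap A A' f) = 0
      rw [Ideal.Quotient.eq_zero_iff_mem]
      exact hle' (Ideal.mem_map_of_mem _ (hle hf))

end Groth.Agent.S4531
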