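import Groth.Statements.S4534
import Mathlib

set_option autoImplicit false
universe u
open EGA41

namespace Groth.Agent.S4534

theorem main {A B C : Type u} [CommRing A] [CommRing B] [CommRing C] [Algebra A B] [Algebra B C]
    [Algebra A C] [IsScalarTower A B C] (𝔞 : Ideal A) (𝔟 : Ideal B) (𝔠 : Ideal C)
    (hBC : ∃ k : ℕ, (𝔟 ^ k).map (algebraMap B C) ≤ 𝔠)
    (hB : EGA41.IsFormallySmoothAdic A 𝔞 B 𝔟) (hC : EGA41.IsFormallySmoothAdic B 𝔟 C 𝔠) :
    EGA41.IsFormallySmoothAdic A 𝔞 C 𝔠 := by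
  intro D _ _ J hJ h𝔞 u hu
  obtain ⟨k', hk'⟩ := hBC
  obtain ⟨m, hm⟩ := hu
  let u₁ : B →ₐ[A] D ⧸ J := u.comp (IsScalarTower.toAlgHom A B C)
  have hu₁ : ∃ k, ∀ x ∈ 𝔟 ^ k, u₁ x = 0 := by
    refine ⟨k' * m, fun x hx => ?_⟩
    apply hm
    have : (𝔟 ^ (k' * m)).map (algebraMap B C) ≤ 𝔠 ^ m := by
      rw [pow_mul, Ideal.map_pow]; exact Ideal.pow_right_mono hk' m
    exact this (Ideal.mem_map_of_mem _ hx)
  obtain ⟨w, hw⟩ := hB D J hJ h𝔞 u₁ hu₁
  have hw' : ∀ b : B, Ideal.Quotient.mk J (w b) = u (algebraMap B C b) := fun b =>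
    congrArg (fun f => f b) hw
  let _ : Algebra B D := w.toRingHom.toAlgebra
  obtain ⟨N, hN⟩ := hJ
  have h𝔟 : ∃ k, (𝔟 ^ k).map (algebraMap B D) = ⊥ := by
    refine ⟨k' * m * N, ?_⟩
    rw [pow_mul, Ideal.map_pow, eq_bot_iff, ← Ideal.zero_eq_bot, ← hN]
    apply Ideal.pow_right_mono
    rw [Ideal.map_le_iff_le_comap]
    intro x hx
    have h0 : Ideal.Quotient.mk J (w x) = 0 := by
      rw [hw']
      apply hm
      have : (𝔟 ^ (k' * m)).map (algebraMap B C) ≤ 𝔠 ^ m := by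
        rw [pow_mul, Ideal.map_pow]; exact Ideal.pow_right_mono hk' m
      exact this (Ideal.mem_map_of_mem _ hx)
    exact (Ideal.Quotient.eq_zero_iff_mem (I := J) (a := w x)).mp h0
  let u' : C →ₐ[B] D ⧸ J :=
    { u.toRingHom with
      commutes' := fun b => (hw' b).symm }
  obtain ⟨v, hv⟩ := hC D J ⟨N, hN⟩ h𝔟 u' ⟨m, hm⟩
  have hv' : ∀ c : C, Ideal.Quotient.mk J (v c) = u c := fun c =>
    congrArg (fun f => f c) hv
  refine ⟨{ v.toRingHom with commutes' := fun a => ?_ }, ?_⟩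
  · change v (algebraMap A C a) = algebraMap A D a
    rw [IsScalarTower.algebraMap_apply A B C, v.commutes]
    exact w.commutes a
  · ext c
    exact hv' c


/-- Let A → B → C be continuous homomorphisms of adic rings (A with the 𝔞-adic, B the 𝔟-adic, C the
𝔠-adic topology; continuity: a power of 𝔞 maps into 𝔟 and a power of 𝔟 into 𝔠). If B is formally
smooth over A and C formally smooth over B, then C is formally smooth over A. -/
theorem result {A B C : Type u} [CommRing A] [CommRing B] [CommRing C] [Algebra A B] [Algebra B C]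
    [Algebra A C] [IsScalarTower A B C] (𝔞 : Ideal A) (𝔟 : Ideal B) (𝔠 : Ideal C)
    (hAB : ∃ k : ℕ, (𝔞 ^ k).map (algebraMap A B) ≤ 𝔟) (hBC : ∃ k : ℕ, (𝔟 ^ k).map (algebraMap B C) ≤ 𝔠)
    (hB : EGA41.IsFormallySmoothAdic A 𝔞 B 𝔟) (hC : EGA41.IsFormallySmoothAdic B 𝔟 C 𝔠) :
    EGA41.IsFormallySmoothAdic A 𝔞 C 𝔠 := by
  exact main 𝔞 𝔟 𝔠 hBC hB hC

end Groth.Agent.S4534
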