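import Groth.Statements.S4535
import Mathlib

set_option autoImplicit false
universe u
open EGA41

namespace Groth.Agent.S4535

section helpers
open TensorProduct

theorem main {A B A' : Type u} [CommRing A] [CommRing B] [CommRing A'] [Algebra A B] [Algebra A A']
    (𝔞 : Ideal A) (𝔟 : Ideal B) (𝔞' : Ideal A') (hAA' : ∃ k : ℕ, (𝔞 ^ k).map (algebraMap A A') ≤ 𝔞')
    (hB : EGA41.IsFormallySmoothAdic A 𝔞 B 𝔟) :
    EGA41.IsFormallySmoothAdic A' 𝔞' (A' ⊗[A] B)
      (𝔞'.map (algebraMap A' (A' ⊗[A] B)) ⊔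
        𝔟.map (Algebra.TensorProduct.includeRight : B →ₐ[A] A' ⊗[A] B).toRingHom) := by
  intro D _ _ J hJ h𝔞' u hu
  obtain ⟨k₀, hk₀⟩ := hAA'
  obtain ⟨k, hk⟩ := h𝔞'
  obtain ⟨m, hm⟩ := hu
  let _ : Algebra A D := ((algebraMap A' D).comp (algebraMap A A')).toAlgebra
  have : IsScalarTower A A' D := IsScalarTower.of_algebraMap_eq (fun _ => rfl)
  have h𝔞 : ∃ K : ℕ, (𝔞 ^ K).map (algebraMap A D) = ⊥ := by
    refine ⟨k₀ * k, ?_⟩
    rw [eq_bot_iff, ← hk, pow_mul, IsScalarTower.algebraMap_eq A A' D, ← Ideal.map_map,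
      Ideal.map_pow (algebraMap A A')]
    exact Ideal.map_mono (Ideal.pow_right_mono hk₀ k)
  let u₁ : B →ₐ[A] D ⧸ J :=
    { toRingHom := u.toRingHom.comp
        (Algebra.TensorProduct.includeRight : B →ₐ[A] A' ⊗[A] B).toRingHom
      commutes' := fun a => by
        change u ((1 : A') ⊗ₜ[A] (algebraMap A B a)) = algebraMap A (D ⧸ J) a
        have e : (1 : A') ⊗ₜ[A] (algebraMap A B a) =
            algebraMap A' (A' ⊗[A] B) (algebraMap A A' a) := by
          rw [Algebra.TensorProduct.algebraMap_apply, Algebra.algebraMap_eq_smul_one (A := B) a,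
            Algebra.algebraMap_eq_smul_one (A := A') a, TensorProduct.tmul_smul,
            TensorProduct.smul_tmul']
          rfl
        rw [e, u.commutes]
        rfl }
  have hu₁ : ∃ k, ∀ x ∈ 𝔟 ^ k, u₁ x = 0 := by
    refine ⟨m, fun x hx => ?_⟩
    apply hm
    have h1 : (𝔟 ^ m).map (Algebra.TensorProduct.includeRight : B →ₐ[A] A' ⊗[A] B).toRingHom ≤
        (𝔞'.map (algebraMap A' (A' ⊗[A] B)) ⊔
        𝔟.map (Algebra.TensorProduct.includeRight : B →ₐ[A] A' ⊗[A] B).toRingHom) ^ m := by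
      rw [Ideal.map_pow]; exact Ideal.pow_right_mono le_sup_right m
    exact h1 (Ideal.mem_map_of_mem _ hx)
  obtain ⟨w, hw⟩ := hB D J hJ h𝔞 u₁ hu₁
  have hw' : ∀ b : B, Ideal.Quotient.mk J (w b) = u ((1 : A') ⊗ₜ[A] b) := fun b =>
    congrArg (fun f => f b) hw
  have hcomm : ∀ (x : A') (y : B), Commute ((Algebra.ofId A' D) x) (w y) := fun _ _ => Commute.all _ _
  refine ⟨Algebra.TensorProduct.lift (Algebra.ofId A' D) w hcomm, ?_⟩
  apply Algebra.TensorProduct.ext'
  intro a' b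
  change Ideal.Quotient.mk J (Algebra.TensorProduct.lift (Algebra.ofId A' D) w hcomm (a' ⊗ₜ[A] b)) = _
  rw [Algebra.TensorProduct.lift_tmul, map_mul, hw']
  have : a' ⊗ₜ[A] b = a' • ((1 : A') ⊗ₜ[A] b) := by
    rw [TensorProduct.smul_tmul', smul_eq_mul, mul_one]
  rw [this, map_smul, Algebra.smul_def]
  rfl


end helpers


open TensorProduct in
/-- Let B (𝔟-adic) be formally smooth over A (𝔞-adic) and let A' (𝔞'-adic) be a topological A-algebra (a
power of 𝔞 maps into 𝔞'). Then the A'-algebra A' ⊗_A B, with the tensor product topology, i.e. the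
adic topology of the ideal generated by the images of 𝔞' and 𝔟, is formally smooth over A'. -/
theorem result {A B A' : Type u} [CommRing A] [CommRing B] [CommRing A'] [Algebra A B] [Algebra A A']
    (𝔞 : Ideal A) (𝔟 : Ideal B) (𝔞' : Ideal A') (hAA' : ∃ k : ℕ, (𝔞 ^ k).map (algebraMap A A') ≤ 𝔞')
    (hB : EGA41.IsFormallySmoothAdic A 𝔞 B 𝔟) :
    EGA41.IsFormallySmoothAdic A' 𝔞' (A' ⊗[A] B)
      (𝔞'.map (algebraMap A' (A' ⊗[A] B)) ⊔
        𝔟.map (Algebra.TensorProduct.includeRight : B →ₐ[A] A' ⊗[A] B).toRingHom) := by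
  exact main 𝔞 𝔟 𝔞' hAA' hB

end Groth.Agent.S4535
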