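import Groth.Statements.S4536
import Mathlib

set_option autoImplicit false
universe u
open EGA41

namespace Groth.Agent.S4536

theorem forward {A B : Type u} [CommRing A] [CommRing B] [Algebra A B]
    (𝔞 : Ideal A) (𝔟 : Ideal B) (hB : EGA41.IsFormallySmoothAdic A 𝔞 B 𝔟) (n : ℕ) :
    EGA41.IsFormallySmoothAdic (A ⧸ 𝔞 ^ n) ⊥ (B ⧸ (𝔞 ^ n).map (algebraMap A B))
        (𝔟.map (Ideal.Quotient.mk ((𝔞 ^ n).map (algebraMap A B)))) := by
  intro D _ _ J hJ _ u hu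
  obtain ⟨m, hm⟩ := hu
  let _ : Algebra A D := ((algebraMap (A ⧸ 𝔞 ^ n) D).comp (Ideal.Quotient.mk (𝔞 ^ n))).toAlgebra
  have hAD : ∀ a : A, algebraMap A D a = algebraMap (A ⧸ 𝔞 ^ n) D (Ideal.Quotient.mk (𝔞 ^ n) a) :=
    fun _ => rfl
  have h𝔞 : (𝔞 ^ n).map (algebraMap A D) = ⊥ := by
    rw [eq_bot_iff, Ideal.map_le_iff_le_comap]
    intro a ha
    rw [Ideal.mem_comap, hAD, Ideal.Quotient.eq_zero_iff_mem.mpr ha, map_zero]
    exact Ideal.zero_mem _
  let u₁ : B →ₐ[A] D ⧸ J :=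
    { toRingHom := u.toRingHom.comp (Ideal.Quotient.mk ((𝔞 ^ n).map (algebraMap A B)))
      commutes' := fun a => by
        change u (Ideal.Quotient.mk _ (algebraMap A B a)) = _
        rw [← Ideal.Quotient.algebraMap_quotient_map_quotient, u.commutes]
        rfl }
  have hu₁ : ∃ k, ∀ x ∈ 𝔟 ^ k, u₁ x = 0 := by
    refine ⟨m, fun x hx => ?_⟩
    apply hm
    rw [← Ideal.map_pow]
    exact Ideal.mem_map_of_mem _ hx
  obtain ⟨w, hw⟩ := hB D J hJ ⟨n, h𝔞⟩ u₁ hu₁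
  have hw' : ∀ b : B, Ideal.Quotient.mk J (w b) = u (Ideal.Quotient.mk _ b) := fun b =>
    congrArg (fun f => f b) hw
  have hwker : ∀ x ∈ (𝔞 ^ n).map (algebraMap A B), w.toRingHom x = 0 := by
    have : (𝔞 ^ n).map (algebraMap A B) ≤ RingHom.ker w.toRingHom := by
      rw [Ideal.map_le_iff_le_comap]
      intro a ha
      rw [Ideal.mem_comap, RingHom.mem_ker]
      change w (algebraMap A B a) = 0
      rw [w.commutes, hAD, Ideal.Quotient.eq_zero_iff_mem.mpr ha, map_zero]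
    exact fun x hx => this hx
  let v : (B ⧸ (𝔞 ^ n).map (algebraMap A B)) →ₐ[A ⧸ 𝔞 ^ n] D :=
    { Ideal.Quotient.lift _ w.toRingHom hwker with
      commutes' := fun r => by
        obtain ⟨a, rfl⟩ := Ideal.Quotient.mk_surjective r
        change Ideal.Quotient.lift _ w.toRingHom hwker (algebraMap _ _ (Ideal.Quotient.mk _ a)) = _
        rw [Ideal.Quotient.algebraMap_quotient_map_quotient, Ideal.Quotient.lift_mk]
        exact w.commutes a }
  refine ⟨v, ?_⟩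
  ext x
  obtain ⟨b, rfl⟩ := Ideal.Quotient.mk_surjective x
  exact hw' b

theorem backward {A B : Type u} [CommRing A] [CommRing B] [Algebra A B]
    (𝔞 : Ideal A) (𝔟 : Ideal B)
    (h : ∀ n : ℕ, EGA41.IsFormallySmoothAdic (A ⧸ 𝔞 ^ n) ⊥ (B ⧸ (𝔞 ^ n).map (algebraMap A B))
        (𝔟.map (Ideal.Quotient.mk ((𝔞 ^ n).map (algebraMap A B))))) :
    EGA41.IsFormallySmoothAdic A 𝔞 B 𝔟 := by
  intro D _ _ J hJ h𝔞 u hu
  obtain ⟨k, hk⟩ := h𝔞
  obtain ⟨m, hm⟩ := hu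
  have hk' : ∀ a ∈ 𝔞 ^ k, algebraMap A D a = 0 := by
    intro a ha
    have : algebraMap A D a ∈ (𝔞 ^ k).map (algebraMap A D) := Ideal.mem_map_of_mem _ ha
    rw [hk] at this
    exact this
  let _ : Algebra (A ⧸ 𝔞 ^ k) D := (Ideal.Quotient.lift (𝔞 ^ k) (algebraMap A D) hk').toAlgebra
  have hAD : ∀ a : A, algebraMap (A ⧸ 𝔞 ^ k) D (Ideal.Quotient.mk (𝔞 ^ k) a) = algebraMap A D a :=
    fun _ => rfl
  have huker : ∀ x ∈ (𝔞 ^ k).map (algebraMap A B), u.toRingHom x = 0 := by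
    have : (𝔞 ^ k).map (algebraMap A B) ≤ RingHom.ker u.toRingHom := by
      rw [Ideal.map_le_iff_le_comap]
      intro a ha
      rw [Ideal.mem_comap, RingHom.mem_ker]
      change u (algebraMap A B a) = 0
      rw [u.commutes]
      change Ideal.Quotient.mk J (algebraMap A D a) = 0
      rw [hk' a ha, map_zero]
    exact fun x hx => this hx
  let uk : (B ⧸ (𝔞 ^ k).map (algebraMap A B)) →ₐ[A ⧸ 𝔞 ^ k] D ⧸ J :=
    { Ideal.Quotient.lift _ u.toRingHom huker with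
      commutes' := fun r => by
        obtain ⟨a, rfl⟩ := Ideal.Quotient.mk_surjective r
        change Ideal.Quotient.lift _ u.toRingHom huker (algebraMap _ _ (Ideal.Quotient.mk _ a)) = _
        rw [Ideal.Quotient.algebraMap_quotient_map_quotient, Ideal.Quotient.lift_mk]
        exact u.commutes a }
  have huk : ∃ m, ∀ x ∈ (𝔟.map (Ideal.Quotient.mk ((𝔞 ^ k).map (algebraMap A B)))) ^ m, uk x = 0 := by
    refine ⟨m, fun x hx => ?_⟩
    rw [← Ideal.map_pow] at hx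
    obtain ⟨b, hb, rfl⟩ := (Ideal.mem_map_iff_of_surjective _ Ideal.Quotient.mk_surjective).mp hx
    exact hm b hb
  obtain ⟨vk, hvk⟩ := h k D J hJ ⟨1, by simp [Ideal.map_bot]⟩ uk huk
  have hvk' : ∀ b : B, Ideal.Quotient.mk J (vk (Ideal.Quotient.mk _ b)) = u b := fun b =>
    congrArg (fun f => f (Ideal.Quotient.mk _ b)) hvk
  refine ⟨{ toRingHom := vk.toRingHom.comp (Ideal.Quotient.mk ((𝔞 ^ k).map (algebraMap A B)))
            commutes' := fun a => ?_ }, ?_⟩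
  · change vk (Ideal.Quotient.mk _ (algebraMap A B a)) = _
    rw [← Ideal.Quotient.algebraMap_quotient_map_quotient, vk.commutes, hAD]
  · ext b
    exact hvk' b


/-- Let A carry the 𝔞-adic and B the 𝔟-adic topology, A → B being continuous (a power of 𝔞 maps into 𝔟).
Then B is formally smooth over A if and only if for every n the (A/𝔞ⁿ)-algebra B/𝔞ⁿB, with the adic
topology of the image of 𝔟, is formally smooth over the discrete ring A/𝔞ⁿ. -/
theorem result {A B : Type u} [CommRing A] [CommRing B] [Algebra A B]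
    (𝔞 : Ideal A) (𝔟 : Ideal B) (hAB : ∃ k : ℕ, (𝔞 ^ k).map (algebraMap A B) ≤ 𝔟) :
    EGA41.IsFormallySmoothAdic A 𝔞 B 𝔟 ↔
      ∀ n : ℕ, EGA41.IsFormallySmoothAdic (A ⧸ 𝔞 ^ n) ⊥ (B ⧸ (𝔞 ^ n).map (algebraMap A B))
        (𝔟.map (Ideal.Quotient.mk ((𝔞 ^ n).map (algebraMap A B)))) := by
  exact ⟨fun h n => forward 𝔞 𝔟 h n, backward 𝔞 𝔟⟩

end Groth.Agent.S4536
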