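import Groth.Statements.S4539
import Mathlib
import Groth.Agent.Lib.Helper22.GeomRed

set_option autoImplicit false
universe u
open EGA41

namespace Groth.Agent.S4539

open IsLocalRing in
theorem maxP (p : ℕ) [hp : (Ideal.span {(p : ℤ)}).IsPrime]
    {A : Type} [CommRing A]
    [Algebra (Localization.AtPrime (Ideal.span {(p : ℤ)})) A] :
    (maximalIdeal (Localization.AtPrime (Ideal.span {(p : ℤ)}))).map
      (algebraMap (Localization.AtPrime (Ideal.span {(p : ℤ)})) A) = Ideal.span {(p : A)} := by
  rw [← Localization.AtPrime.map_eq_maximalIdeal, Ideal.map_map, Ideal.map_span,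
    Set.image_singleton]
  congr 2
  simp

open IsLocalRing in
theorem charP_resP (p : ℕ) [hp : (Ideal.span {(p : ℤ)}).IsPrime] :
    CharP (ResidueField (Localization.AtPrime (Ideal.span {(p : ℤ)}))) p := by
  constructor
  intro n
  have h1 : ((n : ℕ) : ResidueField (Localization.AtPrime (Ideal.span {(p : ℤ)}))) =
      residue _ (algebraMap ℤ (Localization.AtPrime (Ideal.span {(p : ℤ)})) (n : ℤ)) := by
    simp
  have hc : Ideal.comap (algebraMap ℤ (Localization.AtPrime (Ideal.span {(p : ℤ)})))
      (maximalIdeal (Localization.AtPrime (Ideal.span {(p : ℤ)}))) = Ideal.span {(p : ℤ)} :=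
    IsLocalization.AtPrime.comap_maximalIdeal (Localization.AtPrime (Ideal.span {(p : ℤ)}))
      (Ideal.span {(p : ℤ)})
  rw [h1, residue_eq_zero_iff, ← Ideal.mem_comap, hc, Ideal.mem_span_singleton,
    Int.natCast_dvd_natCast]

open IsLocalRing in
theorem fwd (p : ℕ) [hp : (Ideal.span {(p : ℤ)}).IsPrime]
    {A : Type} [CommRing A] [IsLocalRing A] [CharP (ResidueField A) p]
    [Algebra (Localization.AtPrime (Ideal.span {(p : ℤ)})) A]
    [IsLocalHom (algebraMap (Localization.AtPrime (Ideal.span {(p : ℤ)})) A)]
    (h : EGA41.IsCohenAlgebra (Localization.AtPrime (Ideal.span {(p : ℤ)})) A) :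
    EGA41.IsCohenRingEGA A := by
  obtain ⟨-, hnA, hcompl, hflat, hm, -⟩ := h
  rw [maxP] at hm
  by_cases hp0 : p = 0
  · left
    have hbot : maximalIdeal A = ⊥ := by
      rw [← hm, hp0]; simp
    refine ⟨isField_iff_maximalIdeal_eq.mpr hbot, ?_⟩
    haveI : CharZero (ResidueField A) := by
      haveI : CharP (ResidueField A) 0 := hp0 ▸ inferInstance
      exact CharP.charP_to_charZero _
    exact (residue A).charZero
  · right
    -- p is a nonzerodivisor on A
    have hpP : (p : Localization.AtPrime (Ideal.span {(p : ℤ)})) ≠ 0 := by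
      intro h0
      have h1 : algebraMap ℤ (Localization.AtPrime (Ideal.span {(p : ℤ)})) (p : ℤ) = 0 := by
        simpa using h0
      have hinj := IsLocalization.injective (Localization.AtPrime (Ideal.span {(p : ℤ)}))
        (Ideal.primeCompl_le_nonZeroDivisors (Ideal.span {(p : ℤ)}))
      have := hinj (h1.trans (map_zero _).symm)
      exact hp0 (by exact_mod_cast this)
    have hreg : ∀ x : A, (p : A) * x = 0 → x = 0 := by
      intro x hx
      have ht : x ∈ Submodule.torsion (Localization.AtPrime (Ideal.span {(p : ℤ)})) A := by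
        rw [Submodule.mem_torsion_iff]
        refine ⟨⟨(p : Localization.AtPrime (Ideal.span {(p : ℤ)})),
          mem_nonZeroDivisors_of_ne_zero hpP⟩, ?_⟩
        show (p : Localization.AtPrime (Ideal.span {(p : ℤ)})) • x = 0
        rw [Algebra.smul_def, map_natCast]; exact hx
      rw [Module.Flat.torsion_eq_bot] at ht
      exact ht
    have hregpow : ∀ (n : ℕ) (x : A), (p : A) ^ n * x = 0 → x = 0 := by
      intro n
      induction n with
      | zero => intro x hx; simpa using hx
      | succ n ih =>
        intro x hx
        apply hreg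
        apply ih
        rw [← mul_assoc, ← pow_succ]; exact hx
    have hpm : (p : A) ∈ maximalIdeal A := by
      rw [← hm]; exact Ideal.mem_span_singleton_self _
    -- factorization
    have hfac : ∀ x : A, x ≠ 0 → ∃ (n : ℕ) (u : A), IsUnit u ∧ x = (p : A) ^ n * u := by
      intro x hx
      have hk := Ideal.iInf_pow_eq_bot_of_isLocalRing (maximalIdeal A)
        (Ideal.IsPrime.ne_top inferInstance)
      have hex : ∃ n, x ∉ maximalIdeal A ^ n := by
        by_contra hcon
        push_neg at hcon
        apply hx
        have : x ∈ ⨅ i, maximalIdeal A ^ i := by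
          rw [Ideal.mem_iInf]; exact hcon
        rw [hk] at this
        exact this
      classical
      obtain ⟨n, hn, hmin⟩ : ∃ n, x ∉ maximalIdeal A ^ n ∧
          ∀ m < n, ¬ x ∉ maximalIdeal A ^ m :=
        ⟨Nat.find hex, Nat.find_spec hex, fun m hm => Nat.find_min hex hm⟩
      have hn0 : n ≠ 0 := by
        intro h0
        rw [h0, pow_zero] at hn
        exact hn (by rw [Ideal.one_eq_top]; trivial)
      obtain ⟨m, rfl⟩ : ∃ m, n = m + 1 := ⟨n - 1, by omega⟩
      have hxm : x ∈ maximalIdeal A ^ m := by
        by_contra hc
        exact hmin m (by omega) hc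
      rw [← hm, Ideal.span_singleton_pow, Ideal.mem_span_singleton] at hxm
      obtain ⟨u, rfl⟩ := hxm
      refine ⟨m, u, ?_, rfl⟩
      by_contra hu
      have hum : u ∈ maximalIdeal A := (mem_maximalIdeal u).mpr hu
      apply hn
      rw [pow_succ]
      refine Ideal.mul_mem_mul ?_ hum
      rw [← hm, Ideal.span_singleton_pow]
      exact Ideal.mem_span_singleton_self _
    haveI hdom : IsDomain A := by
      haveI : NoZeroDivisors A := by
        constructor
        intro a b hab
        by_contra hcon
        push_neg at hcon
        obtain ⟨n, u, hu, rfl⟩ := hfac a hcon.1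
        obtain ⟨n', u', hu', rfl⟩ := hfac b hcon.2
        have h1 : (p : A) ^ (n + n') * (u * u') = 0 := by
          rw [pow_add]; rw [← hab]; ring
        have h2 := hregpow _ _ h1
        exact (hu.mul hu').ne_zero h2
      exact NoZeroDivisors.to_isDomain A
    have hpA : (p : A) ≠ 0 := by
      intro h0
      have := hreg 1 (by rw [h0, zero_mul])
      exact one_ne_zero this
    have hnf : ¬ IsField A := by
      rw [isField_iff_maximalIdeal_eq, ← hm]
      intro h0
      rw [Ideal.span_singleton_eq_bot] at h0
      exact hpA h0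
    have hdvr : IsDiscreteValuationRing A := by
      refine ((IsDiscreteValuationRing.TFAE A hnf).out 0 4).mpr ?_
      exact ⟨⟨(p : A), hm.symm⟩⟩
    have hprime : Nat.Prime p := by
      have h1 : Prime (p : ℤ) := by
        rw [← Ideal.span_singleton_prime (by exact_mod_cast hp0)]
        exact hp
      exact Nat.prime_iff_prime_int.mpr h1
    exact ⟨hdom, hdvr, hcompl, p, hprime, hm.symm⟩


open IsLocalRing in
theorem bwd_core (p : ℕ) [hp : (Ideal.span {(p : ℤ)}).IsPrime]
    {A : Type} [CommRing A] [IsLocalRing A] [CharP (ResidueField A) p]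
    [Algebra (Localization.AtPrime (Ideal.span {(p : ℤ)})) A]
    [IsLocalHom (algebraMap (Localization.AtPrime (Ideal.span {(p : ℤ)})) A)]
    [IsDomain A] [CharZero A] [IsNoetherianRing A]
    (hcompl : IsAdicComplete (maximalIdeal A) A)
    (hm : maximalIdeal A = Ideal.span {(p : A)}) :
    EGA41.IsCohenAlgebra (Localization.AtPrime (Ideal.span {(p : ℤ)})) A := by
  have hinj : Function.Injective (algebraMap (Localization.AtPrime (Ideal.span {(p : ℤ)})) A) := by
    rw [injective_iff_map_eq_zero]
    intro x hx
    obtain ⟨a, s, rfl⟩ := IsLocalization.exists_mk'_eq (Ideal.span {(p : ℤ)}).primeCompl x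
    have h1 : algebraMap (Localization.AtPrime (Ideal.span {(p : ℤ)})) A
        (algebraMap ℤ _ a) = 0 := by
      rw [← IsLocalization.mk'_spec (Localization.AtPrime (Ideal.span {(p : ℤ)})) a s, map_mul, hx,
        zero_mul]
    have h2 : ((a : ℤ) : A) = 0 := by
      rw [← h1]; simp
    have h3 : a = 0 := by exact_mod_cast h2
    rw [h3, IsLocalization.mk'_zero]
  haveI : IsDedekindDomain (Localization.AtPrime (Ideal.span {(p : ℤ)})) :=
    IsLocalization.isDedekindDomain ℤ (Ideal.primeCompl_le_nonZeroDivisors (Ideal.span {(p : ℤ)})) _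
  refine ⟨inferInstance, inferInstance, hcompl, ?_, ?_, ?_⟩
  · rw [IsDedekindDomain.flat_iff_torsion_eq_bot, eq_bot_iff]
    intro x hx
    rw [Submodule.mem_torsion_iff] at hx
    obtain ⟨a, ha⟩ := hx
    have h1 : algebraMap (Localization.AtPrime (Ideal.span {(p : ℤ)})) A a * x = 0 := by
      rw [← Algebra.smul_def]; exact ha
    rcases mul_eq_zero.mp h1 with h2 | h2
    · exfalso
      exact nonZeroDivisors.coe_ne_zero a (hinj (h2.trans (map_zero _).symm))
    · exact h2
  · rw [maxP, hm]
  · haveI : CharP (ResidueField (Localization.AtPrime (Ideal.span {(p : ℤ)}))) p := charP_resP p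
    haveI : PerfectField (ResidueField (Localization.AtPrime (Ideal.span {(p : ℤ)}))) := by
      by_cases hp0 : p = 0
      · haveI : CharZero (ResidueField (Localization.AtPrime (Ideal.span {(p : ℤ)}))) := by
          haveI : CharP (ResidueField (Localization.AtPrime (Ideal.span {(p : ℤ)}))) 0 :=
            hp0 ▸ charP_resP p
          exact CharP.charP_to_charZero _
        infer_instance
      · haveI hmax : (Ideal.span {(p : ℤ)}).IsMaximal :=
          hp.isMaximal (by simpa using hp0)
        haveI : NeZero p := ⟨hp0⟩
        haveI : Finite (ℤ ⧸ Ideal.span {(p : ℤ)}) :=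
          Finite.of_equiv _ (Int.quotientSpanNatEquivZMod p).symm.toEquiv
        haveI : Finite (ResidueField (Localization.AtPrime (Ideal.span {(p : ℤ)}))) :=
          Finite.of_surjective _
            (Ideal.bijective_algebraMap_quotient_residueField (Ideal.span {(p : ℤ)})).2
        infer_instance
    exact Groth.Agent.Lib.Helper22.GeomRed.isGeometricallyReduced_of_perfectField

open IsLocalRing in
theorem bwd (p : ℕ) [hp : (Ideal.span {(p : ℤ)}).IsPrime]
    {A : Type} [CommRing A] [IsLocalRing A] [CharP (ResidueField A) p]
    [Algebra (Localization.AtPrime (Ideal.span {(p : ℤ)})) A]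
    [IsLocalHom (algebraMap (Localization.AtPrime (Ideal.span {(p : ℤ)})) A)]
    (h : EGA41.IsCohenRingEGA A) :
    EGA41.IsCohenAlgebra (Localization.AtPrime (Ideal.span {(p : ℤ)})) A := by
  rcases h with ⟨hf, hc0⟩ | ⟨hdom, hdvr, hcompl, q, hq, hmq⟩
  · have hbot : maximalIdeal A = ⊥ := isField_iff_maximalIdeal_eq.mp hf
    haveI : IsDomain A := hf.isDomain
    haveI : CharZero (ResidueField A) := by
      refine charZero_of_injective_ringHom (f := residue A) ?_
      rw [injective_iff_map_eq_zero]
      intro x hx
      rw [residue_eq_zero_iff, hbot] at hx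
      exact hx
    have hp0 : p = 0 := CharP.eq (ResidueField A) inferInstance (CharP.ofCharZero _)
    haveI : IsNoetherianRing A := by
      letI := hf.toField
      infer_instance
    refine bwd_core p ?_ ?_
    · rw [hbot]; infer_instance
    · rw [hbot, hp0]; simp
  · -- q = p
    have hqm : (q : A) ∈ maximalIdeal A := by
      rw [hmq]; exact Ideal.mem_span_singleton_self _
    have hq0 : ((q : ℕ) : ResidueField A) = 0 := by
      have : residue A (q : A) = 0 := (residue_eq_zero_iff _).mpr hqm
      simpa using this
    have hpq : p ∣ q := (CharP.cast_eq_zero_iff (ResidueField A) p q).mp hq0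
    have hp1 : p ≠ 1 := CharP.char_ne_one (ResidueField A) p
    have hpq' : p = q := by
      rcases (Nat.dvd_prime hq).mp hpq with h | h
      · exact absurd h hp1
      · exact h
    subst hpq'
    have hpA : (p : A) ≠ 0 := by
      intro h0
      apply IsDiscreteValuationRing.not_a_field A
      rw [hmq, h0]; simp
    haveI : CharZero A := by
      refine charZero_of_inj_zero ?_
      intro n hn
      by_contra hn0
      -- minimal positive n with n = 0 in A must be p ... use prime factor
      obtain ⟨m, hm0, hmA, hmin⟩ : ∃ m : ℕ, m ≠ 0 ∧ (m : A) = 0 ∧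
          ∀ k : ℕ, k ≠ 0 → (k : A) = 0 → m ≤ k := by
        classical
        have hex : ∃ m : ℕ, m ≠ 0 ∧ (m : A) = 0 := ⟨n, hn0, hn⟩
        exact ⟨Nat.find hex, (Nat.find_spec hex).1, (Nat.find_spec hex).2,
          fun k hk0 hk => Nat.find_min' hex ⟨hk0, hk⟩⟩
      haveI : CharP A m := by
        constructor
        intro x
        constructor
        · intro hx
          have hmod : ((x % m : ℕ) : A) = 0 := by
            have h1 : (x : A) = ((x % m : ℕ) : A) + ((m * (x / m) : ℕ) : A) := by
              rw [← Nat.cast_add, Nat.mod_add_div]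
            rw [hx, Nat.cast_mul, hmA, zero_mul, add_zero] at h1
            exact h1.symm
          by_contra hdvd
          have hlt : x % m < m := Nat.mod_lt _ (Nat.pos_of_ne_zero hm0)
          have hne : x % m ≠ 0 := fun h => hdvd (Nat.dvd_of_mod_eq_zero h)
          have := hmin _ hne hmod
          omega
        · rintro ⟨c, rfl⟩
          rw [Nat.cast_mul, hmA, zero_mul]
      have hmp : m.Prime := (CharP.char_is_prime_or_zero A m).resolve_right hm0
      have hmres : ((m : ℕ) : ResidueField A) = 0 := by
        have h1 : residue A (m : A) = 0 := by rw [hmA, map_zero]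
        rw [map_natCast] at h1
        exact h1
      have hpm : p ∣ m := (CharP.cast_eq_zero_iff (ResidueField A) p m).mp hmres
      have : p = m := by
        rcases (Nat.dvd_prime hmp).mp hpm with h | h
        · exact absurd h hp1
        · exact h
      rw [← this] at hmA
      exact hpA hmA
    exact bwd_core p hcompl hmq

open IsLocalRing in
/-- Let A be a local ring with residue characteristic p (p = 0 or a prime), P the prime local ring ℤ_(p)
(ℚ if p = 0) and P → A its unique local homomorphism. Then A is a Cohen ring, i.e. a Cohen P-algebra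
— Noetherian and complete, flat over P, with pA its maximal ideal (and residue field separable over
the prime field) — if and only if A is a field of characteristic 0 or a complete discrete valuation
ring of residue characteristic > 0 whose maximal ideal is generated by p·1. -/
theorem result (p : ℕ) [hp : (Ideal.span {(p : ℤ)}).IsPrime]
    {A : Type} [CommRing A] [IsLocalRing A] [CharP (ResidueField A) p]
    [Algebra (Localization.AtPrime (Ideal.span {(p : ℤ)})) A]
    [IsLocalHom (algebraMap (Localization.AtPrime (Ideal.span {(p : ℤ)})) A)] :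
    EGA41.IsCohenAlgebra (Localization.AtPrime (Ideal.span {(p : ℤ)})) A ↔ EGA41.IsCohenRingEGA A := by
  exact ⟨fwd p, bwd p⟩

end Groth.Agent.S4539
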