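import Groth.Statements.S4544
import Groth.Agent.Lib.Helper5.AdicSmoothDer2
import Groth.Agent.Lib.Helper5.PBasisKaehler
import Groth.Agent.Lib.Helper5.ImperfTower
import Mathlib.Algebra.Module.Projective

set_option autoImplicit false
universe u
open EGA41

namespace Groth.Agent.S4544

open TensorProduct in
/-- Let B (𝔟-adic) be a formally smooth topological A-algebra over A (𝔞-adic), the structure map being
continuous (a power of 𝔞 maps into 𝔟); squares of open ideals of B are then open. For every open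
ideal 𝔄 of B (an ideal containing a power of 𝔟), Ω_{B/A} ⊗_B (B/𝔄) = Ω_{B/A}/𝔄Ω_{B/A} is a
projective (B/𝔄)-module. -/
theorem result {A B : Type u} [CommRing A] [CommRing B] [Algebra A B]
    (𝔞 : Ideal A) (𝔟 : Ideal B) (hAB : ∃ k : ℕ, (𝔞 ^ k).map (algebraMap A B) ≤ 𝔟)
    (h : EGA41.IsFormallySmoothAdic A 𝔞 B 𝔟) (𝔄 : Ideal B) (h𝔄 : ∃ n : ℕ, 𝔟 ^ n ≤ 𝔄) :
    Module.Projective (B ⧸ 𝔄) ((B ⧸ 𝔄) ⊗[B] Ω[B⁄A]) := by
  apply Module.Projective.of_lifting_property''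
  intro f hf
  have hE𝔞 : ∃ k : ℕ, (𝔞 ^ k).map (algebraMap A (B ⧸ 𝔄)) = ⊥ := by
    obtain ⟨k₁, hk₁⟩ := hAB
    obtain ⟨n, hn⟩ := h𝔄
    refine ⟨k₁ * n, ?_⟩
    have h1 : (𝔞 ^ (k₁ * n)).map (algebraMap A B) ≤ 𝔄 := by
      rw [pow_mul, Ideal.map_pow]
      exact (Ideal.pow_right_mono hk₁ n).trans hn
    rw [IsScalarTower.algebraMap_eq A B (B ⧸ 𝔄), ← Ideal.map_map, eq_bot_iff]
    refine (Ideal.map_mono h1).trans ?_
    rw [Ideal.Quotient.algebraMap_eq, Ideal.map_quotient_self]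
  have hE𝔟 : ∃ n : ℕ, ∀ x ∈ 𝔟 ^ n, algebraMap B (B ⧸ 𝔄) x = 0 := by
    obtain ⟨n, hn⟩ := h𝔄
    exact ⟨n, fun x hx => Ideal.Quotient.eq_zero_iff_mem.2 (hn hx)⟩
  let D : Derivation ℤ B ((B ⧸ 𝔄) ⊗[B] Ω[B⁄A]) :=
    (TensorProduct.mk B (B ⧸ 𝔄) (Ω[B⁄A]) 1).compDer
      (Lib.Helper5.PBasis.toIntDer (KaehlerDifferential.D A B))
  have hDapply : ∀ b, D b = (1 : B ⧸ 𝔄) ⊗ₜ[B] KaehlerDifferential.D A B b := fun _ => rfl
  have hD : ∀ a : A, D (algebraMap A B a) = 0 := by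
    intro a
    rw [hDapply, Derivation.map_algebraMap, TensorProduct.tmul_zero]
  obtain ⟨D', hD'A, hD'⟩ := Lib.Helper5.AdicSmoothDer2.exists_derivation_lift 𝔞 𝔟 h hE𝔞 hE𝔟 f hf D hD
  let D'A : Derivation A B (((B ⧸ 𝔄) ⊗[B] Ω[B⁄A]) →₀ (B ⧸ 𝔄)) :=
    Lib.Helper5.PBasis.toAlgDer D' hD'A
  refine ⟨LinearMap.liftBaseChange (B ⧸ 𝔄) D'A.liftKaehlerDifferential, ?_⟩
  apply Lib.Helper5.ImperfTower.ext_tensor_kaehler
  intro b
  rw [LinearMap.comp_apply, LinearMap.liftBaseChange_tmul, one_smul,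
    Derivation.liftKaehlerDifferential_comp_D, LinearMap.id_apply]
  change f (D' b) = _
  rw [hD', hDapply]

end Groth.Agent.S4544
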