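import Groth.Statements.S4547
import Groth.Agent.Lib.Helper5.SplitLocal

set_option autoImplicit false
universe u
open EGA41

namespace Groth.Agent.S4547

open IsLocalRing TensorProduct in
/-- Let A be a local ring with residue field k, M an A-module of finite type, N a projective A-module
and u : M → N a homomorphism. Then u is left invertible if and only if there is a finite system of
generators (x_i) of M such that the elements 1 ⊗ u(x_i) of k ⊗_A N are linearly independent over k;
and such a system (x_i) is then a basis of M. -/
theorem result {A : Type u} [CommRing A] [IsLocalRing A] {M N : Type u}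
    [AddCommGroup M] [Module A M] [Module.Finite A M] [AddCommGroup N] [Module A N] [Module.Projective A N]
    (u : M →ₗ[A] N) :
    ((∃ w : N →ₗ[A] M, w ∘ₗ u = LinearMap.id) ↔
      ∃ (m : ℕ) (x : Fin m → M), Submodule.span A (Set.range x) = ⊤ ∧
        LinearIndependent (ResidueField A) (fun i => (1 : ResidueField A) ⊗ₜ[A] u (x i))) ∧
    ∀ (m : ℕ) (x : Fin m → M), Submodule.span A (Set.range x) = ⊤ →
      LinearIndependent (ResidueField A) (fun i => (1 : ResidueField A) ⊗ₜ[A] u (x i)) →
        ∃ b : Module.Basis (Fin m) A M, ∀ i, b i = x i := by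
  have hproj : (∃ w : N →ₗ[A] M, w ∘ₗ u = LinearMap.id) → Module.Projective A M := by
    rintro ⟨w, hw⟩
    exact Module.Projective.of_split u w hw
  have hinj : (∃ w : N →ₗ[A] M, w ∘ₗ u = LinearMap.id) →
      Function.Injective (u.baseChange (ResidueField A)) := by
    rintro ⟨w, hw⟩
    have : (w.baseChange (ResidueField A)) ∘ₗ (u.baseChange (ResidueField A)) = LinearMap.id := by
      rw [← LinearMap.baseChange_comp, hw, LinearMap.baseChange_id]
    exact Function.HasLeftInverse.injective ⟨_, LinearMap.congr_fun this⟩
  have part2 : ∀ (m : ℕ) (x : Fin m → M), Submodule.span A (Set.range x) = ⊤ →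
      LinearIndependent (ResidueField A) (fun i => (1 : ResidueField A) ⊗ₜ[A] u (x i)) →
        (∃ w : N →ₗ[A] M, w ∘ₗ u = LinearMap.id) ∧
        ∃ b : Module.Basis (Fin m) A M, ∀ i, b i = x i := by
    intro m x hx hli
    have hinj' := Lib.Helper5.SplitLoc.injective_lTensor_of_linearIndependent u x hx hli
    have hw := Lib.Helper5.SplitLoc.leftInverse_of_injective_lTensor_local u hinj'
    refine ⟨hw, ?_⟩
    have := hproj hw
    have hli2 : LinearIndependent (ResidueField A)
        (TensorProduct.mk A (ResidueField A) M 1 ∘ x) := by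
      have h3 : (fun i => (1 : ResidueField A) ⊗ₜ[A] u (x i)) =
          (u.baseChange (ResidueField A)) ∘ (TensorProduct.mk A (ResidueField A) M 1 ∘ x) := by
        funext i
        simp
      rw [h3] at hli
      exact LinearIndependent.of_comp _ hli
    have hli3 : LinearIndependent A x := Module.IsLocalRing.linearIndependent_of_flat x hli2
    exact ⟨Module.Basis.mk hli3 hx.ge, fun i => Module.Basis.mk_apply hli3 hx.ge i⟩
  refine ⟨⟨fun hw => ?_, fun ⟨m, x, hx, hli⟩ => (part2 m x hx hli).1⟩,
    fun m x hx hli => (part2 m x hx hli).2⟩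
  have := hproj hw
  have hfree : Module.Free A M := Module.free_of_flat_of_isLocalRing
  let b := Module.finBasis A M
  refine ⟨Module.finrank A M, b, b.span_eq, ?_⟩
  have hb : LinearIndependent (ResidueField A)
      (fun i => (1 : ResidueField A) ⊗ₜ[A] b i) := by
    have := (b.baseChange (ResidueField A)).linearIndependent
    convert this using 1
    funext i
    simp
  have h4 : (fun i => (1 : ResidueField A) ⊗ₜ[A] u (b i)) =
      (u.baseChange (ResidueField A)) ∘ (fun i => (1 : ResidueField A) ⊗ₜ[A] b i) := by
    funext i
    simp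
  rw [h4]
  exact hb.map' _ (LinearMap.ker_eq_bot.mpr (hinj hw))

end Groth.Agent.S4547
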