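import Groth.Statements.S4548
import Groth.Agent.Lib.helper10.PBasisFamily
import Groth.Agent.Lib.helper10.PowSerFrob

set_option autoImplicit false
universe u
open EGA41

namespace Groth.Agent.S4548

/-- Let k be a field of characteristic p > 0, A = k[[T_1, …, T_r]] and K its field of fractions. Then
there is a decreasing filtered family (A_α) of Noetherian subrings of A (rendered: a nonempty
family, directed downwards for inclusion) such that A is a free A_α-module of finite type for every
α and, K_α denoting the subfield of K generated by A_α (its field of fractions inside K), ⋂_α K_α =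
K^p. -/
theorem result (p : ℕ) [Fact p.Prime] (k : Type u) [Field k] [CharP k p]
    (r : ℕ) :
    ∃ (ι : Type u) (_ : Nonempty ι) (S : ι → Subring (MvPowerSeries (Fin r) k)),
      (∀ a b : ι, ∃ c, S c ≤ S a ⊓ S b) ∧
      (∀ i, IsNoetherianRing (S i) ∧ Module.Free (S i) (MvPowerSeries (Fin r) k) ∧ Module.Finite (S i) (MvPowerSeries (Fin r) k)) ∧
      ((⨅ i, Subfield.closure (algebraMap (MvPowerSeries (Fin r) k) (FractionRing (MvPowerSeries (Fin r) k)) '' (S i)) :
          Set (FractionRing (MvPowerSeries (Fin r) k)))) =
        Set.range fun x : FractionRing (MvPowerSeries (Fin r) k) => x ^ p := by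
  classical
  obtain ⟨b, E, hanti, hpow, hfin, hinf⟩ :=
    Groth.Agent.Lib.helper10.PBasisFamily.exists_family p (k₀ := (⊥ : Subfield k)) (K := k)
  have hp0 : p ≠ 0 := (Fact.out : p.Prime).ne_zero
  let S : Finset b → Subring (MvPowerSeries (Fin r) k) := fun α =>
    Groth.Agent.Lib.helper10.PowSerFrob.S p (E α).toSubfield
  have hpowS : ∀ α (f : MvPowerSeries (Fin r) k), f ^ p ∈ S α := fun α f =>
    Groth.Agent.Lib.helper10.PowSerFrob.pow_mem_S p (E α).toSubfield (fun y => hpow α y) f
  refine ⟨Finset b, ⟨∅⟩, S, ?_, ?_, ?_⟩
  · intro α β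
    refine ⟨α ∪ β, le_inf ?_ ?_⟩
    · exact Groth.Agent.Lib.helper10.PowSerFrob.S_mono p
        (hanti α (α ∪ β) Finset.subset_union_left)
    · exact Groth.Agent.Lib.helper10.PowSerFrob.S_mono p
        (hanti β (α ∪ β) Finset.subset_union_right)
  · intro α
    have hfd : FiniteDimensional (E α).toSubfield k := hfin α
    obtain ⟨h1, h2⟩ := Groth.Agent.Lib.helper10.PowSerFrob.free_finite p (E α).toSubfield (r := r)
    exact ⟨inferInstance, h1, h2⟩
  · set A := MvPowerSeries (Fin r) k with hA
    set Kf := FractionRing A with hKf
    have halg : Function.Injective (algebraMap A Kf) := IsFractionRing.injective A Kf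
    ext x
    rw [Set.iInf_eq_iInter]
    simp only [Set.mem_iInter, SetLike.mem_coe, Set.mem_range]
    constructor
    · intro hx
      obtain ⟨a, c, hc, rfl⟩ := IsFractionRing.div_surjective (A := A) x
      have hc0 : c ≠ 0 := nonZeroDivisors.ne_zero hc
      have hcK : algebraMap A Kf c ≠ 0 := fun h0 => hc0 (halg (by rw [h0, map_zero]))
      set a' := a * c ^ (p - 1) with ha'
      have hcp : c ^ p = c ^ (p - 1) * c := by
        rw [← pow_succ, Nat.sub_add_cancel (Fact.out : p.Prime).pos]
      have hxa : algebraMap A Kf a / algebraMap A Kf c =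
          algebraMap A Kf a' / algebraMap A Kf (c ^ p) := by
        rw [ha', hcp, map_mul, map_mul]
        have hc1 : algebraMap A Kf (c ^ (p - 1)) ≠ 0 := by
          rw [map_pow]; exact pow_ne_zero _ hcK
        rw [mul_comm (algebraMap A Kf (c ^ (p - 1))) (algebraMap A Kf c), mul_div_mul_right _ _ hc1]
      have hmem : ∀ α, a' ∈ S α := by
        intro α
        have h1 := hx α
        have hset : algebraMap A Kf '' ((S α : Subring A) : Set A) =
            (((S α).map (algebraMap A Kf) : Subring Kf) : Set Kf) := by
          rw [Subring.coe_map]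
        rw [hset, Subfield.mem_closure_iff, Subring.closure_eq] at h1
        obtain ⟨_, ⟨s, hs, rfl⟩, _, ⟨t, ht, rfl⟩, hst⟩ := h1
        by_cases ht0 : t = 0
        · have hx0 : algebraMap A Kf a' = 0 := by
            have h2 : algebraMap A Kf a' / algebraMap A Kf (c ^ p) = 0 := by
              rw [← hxa, ← hst, ht0, map_zero, div_zero]
            have hcp0 : algebraMap A Kf (c ^ p) ≠ 0 := by
              rw [map_pow]; exact pow_ne_zero _ hcK
            rcases div_eq_zero_iff.1 h2 with h3 | h3
            · exact h3
            · exact absurd h3 hcp0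
          have : a' = 0 := halg (by rw [hx0, map_zero])
          rw [this]
          exact (S α).zero_mem
        · have htK : algebraMap A Kf t ≠ 0 := fun h0 => ht0 (halg (by rw [h0, map_zero]))
          have hcp0 : algebraMap A Kf (c ^ p) ≠ 0 := by
            rw [map_pow]; exact pow_ne_zero _ hcK
          have h2 : a' * t = s * c ^ p := by
            apply halg
            rw [map_mul (algebraMap A Kf) a' t, map_mul (algebraMap A Kf) s (c ^ p)]
            have h3 : algebraMap A Kf s / algebraMap A Kf t =
                algebraMap A Kf a' / algebraMap A Kf (c ^ p) := by rw [hst, hxa]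
            rw [div_eq_div_iff htK hcp0] at h3
            exact h3.symm
          apply Groth.Agent.Lib.helper10.PowSerFrob.mem_S_of_mul_mem p (E α).toSubfield a' t ht ht0
          rw [h2]
          exact (S α).mul_mem hs (hpowS α c)
      -- coefficients are p-th powers
      have hFr : a' ∈ Groth.Agent.Lib.helper10.PowSerFrob.S p (frobenius k p).fieldRange := by
        rw [Groth.Agent.Lib.helper10.PowSerFrob.mem_S_iff]
        refine ⟨fun n => ?_, ?_⟩
        · have h1 : MvPowerSeries.coeff n a' ∈ (⨅ α, E α : IntermediateField (⊥ : Subfield k) k) := by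
            rw [← SetLike.mem_coe, IntermediateField.coe_iInf, Set.mem_iInter]
            intro α
            exact ((Groth.Agent.Lib.helper10.PowSerFrob.mem_S_iff p _ _).1 (hmem α)).1 n
          rw [hinf] at h1
          let G : IntermediateField (⊥ : Subfield k) k :=
            Subfield.toIntermediateField (frobenius k p).fieldRange (fun x => by
              have : (⊥ : Subfield k) ≤ (frobenius k p).fieldRange := bot_le
              exact this x.2)
          have hle : IntermediateField.adjoin (⊥ : Subfield k) (Set.range fun y : k => y ^ p) ≤ G := by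
            rw [IntermediateField.adjoin_le_iff]
            rintro _ ⟨y, rfl⟩
            exact ⟨y, rfl⟩
          exact hle h1
        · exact ((Groth.Agent.Lib.helper10.PowSerFrob.mem_S_iff p _ _).1 (hmem ∅)).2
      obtain ⟨e, he⟩ := Groth.Agent.Lib.helper10.PowSerFrob.exists_pow_eq_of_mem_S p
        (frobenius k p).fieldRange (fun y hy => by
          obtain ⟨z, hz⟩ := hy
          exact ⟨z, hz⟩) a' hFr
      refine ⟨algebraMap A Kf e / algebraMap A Kf c, ?_⟩
      rw [hxa, div_pow, ← map_pow, ← map_pow, he]
    · rintro ⟨y, rfl⟩ α
      obtain ⟨a, c, hc, rfl⟩ := IsFractionRing.div_surjective (A := A) y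
      rw [div_pow, ← map_pow, ← map_pow]
      apply Subfield.div_mem
      · exact Subfield.subset_closure ⟨_, hpowS α a, rfl⟩
      · exact Subfield.subset_closure ⟨_, hpowS α c, rfl⟩

end Groth.Agent.S4548
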