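import Groth.Statements.S4552
-- import your own Groth.Agent.* helpers here

set_option autoImplicit false
universe u
open EGA41

namespace Groth.Agent.S4552

/-- For the 𝔞-adic topology on A and the deduced topology on M: the topological A-module M is formally
projective (for every open ideal 𝔞ⁿ, every pair of (A/𝔞ⁿ)-modules P, Q, every surjection P → Q and
every continuous A-linear map M → Q — here automatically continuous — there is a continuous A-linear
lift M → P) if and only if it is strictly formally projective, i.e. M/𝔞ⁿM is a projective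
(A/𝔞ⁿ)-module for every n. -/
theorem result {A : Type u} [CommRing A] (𝔞 : Ideal A) (M : Type u)
    [AddCommGroup M] [Module A M] :
    (∀ (n : ℕ) (P Q : Type u) [AddCommGroup P] [Module A P] [AddCommGroup Q] [Module A Q],
      (∀ a ∈ 𝔞 ^ n, ∀ y : P, a • y = 0) → (∀ a ∈ 𝔞 ^ n, ∀ y : Q, a • y = 0) →
      ∀ f : P →ₗ[A] Q, Function.Surjective f → ∀ v : M →ₗ[A] Q, ∃ w : M →ₗ[A] P, f ∘ₗ w = v) ↔
    ∀ n : ℕ, Module.Projective (A ⧸ 𝔞 ^ n) (M ⧸ (𝔞 ^ n • ⊤ : Submodule A M)) := by
  constructor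
  · intro H n
    apply Module.Projective.of_lifting_property''
    intro f hf
    have hsurj : Function.Surjective (algebraMap A (A ⧸ 𝔞 ^ n)) := Ideal.Quotient.mk_surjective
    have key : ∀ (X : Type u) [AddCommGroup X] [Module A X] [Module (A ⧸ 𝔞 ^ n) X]
        [IsScalarTower A (A ⧸ 𝔞 ^ n) X], ∀ a ∈ 𝔞 ^ n, ∀ y : X, a • y = 0 := by
      intro X _ _ _ _ a ha y
      rw [← algebraMap_smul (A ⧸ 𝔞 ^ n) a y, Ideal.Quotient.algebraMap_eq,
        Ideal.Quotient.eq_zero_iff_mem.mpr ha, zero_smul]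
    obtain ⟨w, hw⟩ := H n (M ⧸ (𝔞 ^ n • ⊤ : Submodule A M) →₀ A ⧸ 𝔞 ^ n)
      (M ⧸ (𝔞 ^ n • ⊤ : Submodule A M)) (key _) (key _) (f.restrictScalars A) hf (Submodule.mkQ _)
    have hw' : (𝔞 ^ n • ⊤ : Submodule A M) ≤ LinearMap.ker w := by
      rw [Submodule.smul_le]
      intro r hr m _
      rw [LinearMap.mem_ker, map_smul]
      exact key _ r hr _
    refine ⟨((𝔞 ^ n • ⊤ : Submodule A M).liftQ w hw').extendScalarsOfSurjective hsurj, ?_⟩
    ext x
    obtain ⟨m, rfl⟩ := Submodule.Quotient.mk_surjective _ x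
    simpa using congr($hw m)
  · intro H n P Q _ _ _ _ hP hQ f hf v
    have hsurj : Function.Surjective (algebraMap A (A ⧸ 𝔞 ^ n)) := Ideal.Quotient.mk_surjective
    have hP' : Module.IsTorsionBySet A P (𝔞 ^ n : Ideal A) := fun x a => hP a a.2 x
    have hQ' : Module.IsTorsionBySet A Q (𝔞 ^ n : Ideal A) := fun x a => hQ a a.2 x
    letI : Module (A ⧸ 𝔞 ^ n) P := hP'.module
    letI : Module (A ⧸ 𝔞 ^ n) Q := hQ'.module
    haveI : IsScalarTower A (A ⧸ 𝔞 ^ n) P := hP'.isScalarTower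
    haveI : IsScalarTower A (A ⧸ 𝔞 ^ n) Q := hQ'.isScalarTower
    have hv : (𝔞 ^ n • ⊤ : Submodule A M) ≤ LinearMap.ker v := by
      rw [Submodule.smul_le]
      intro r hr m _
      rw [LinearMap.mem_ker, map_smul]
      exact hQ r hr _
    obtain ⟨h, hh⟩ := Module.projective_lifting_property (f.extendScalarsOfSurjective hsurj)
      (((𝔞 ^ n • ⊤ : Submodule A M).liftQ v hv).extendScalarsOfSurjective hsurj) hf
    refine ⟨h.restrictScalars A ∘ₗ Submodule.mkQ _, ?_⟩
    ext m
    simpa using congr($hh (Submodule.Quotient.mk m))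

end Groth.Agent.S4552
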