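import Groth.Statements.S4555
import Groth.Agent.Lib.Helper5.PowSerEval

set_option autoImplicit false
universe u
open EGA41

namespace Groth.Agent.S4555

/-- Let A carry the 𝔞-adic topology, B = A[[T_1, …, T_n]] the product topology (the adic topology of 𝔞B
+ (T_1, …, T_n)), and let E be a discrete topological A-algebra (a power of 𝔞 kills E). (i) If f : B
→ E is a continuous A-algebra homomorphism then each f(T_i) is nilpotent. (ii) Conversely, for every
family (z_i) of nilpotent elements of E there is one and only one continuous A-algebra homomorphism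
g : B → E with g(T_i) = z_i for all i. -/
theorem result (A : Type u) [CommRing A] (𝔞 : Ideal A) (n : ℕ) (E : Type u) [CommRing E]
    [Algebra A E] (hE : ∃ k : ℕ, (𝔞 ^ k).map (algebraMap A E) = ⊥) :
    (∀ f : MvPowerSeries (Fin n) A →ₐ[A] E,
      (∃ m : ℕ, ∀ x ∈ (𝔞.map (MvPowerSeries.C : A →+* MvPowerSeries (Fin n) A) ⊔
        RingHom.ker (MvPowerSeries.constantCoeff : MvPowerSeries (Fin n) A →+* A)) ^ m, f x = 0) →
      ∀ i, IsNilpotent (f (MvPowerSeries.X i))) ∧
    ∀ z : Fin n → E, (∀ i, IsNilpotent (z i)) →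
      ∃! g : MvPowerSeries (Fin n) A →ₐ[A] E,
        (∃ m : ℕ, ∀ x ∈ (𝔞.map (MvPowerSeries.C : A →+* MvPowerSeries (Fin n) A) ⊔
          RingHom.ker (MvPowerSeries.constantCoeff : MvPowerSeries (Fin n) A →+* A)) ^ m, g x = 0) ∧
        ∀ i, g (MvPowerSeries.X i) = z i := by
  open Groth.Agent.Lib.Helper5.PowSer in
  have hXle : Ideal.span (Set.range (MvPowerSeries.X : Fin n → MvPowerSeries (Fin n) A)) ≤
      𝔞.map (MvPowerSeries.C : A →+* MvPowerSeries (Fin n) A) ⊔
        RingHom.ker (MvPowerSeries.constantCoeff : MvPowerSeries (Fin n) A →+* A) := by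
    rw [ker_constantCoeff_eq_span_X]
    exact le_sup_right
  constructor
  · rintro f ⟨m, hm⟩ i
    refine ⟨m, ?_⟩
    rw [← map_pow]
    apply hm
    exact Ideal.pow_mem_pow (hXle (Ideal.subset_span (Set.mem_range_self i))) m
  · intro z hz
    obtain ⟨k, hk⟩ := hE
    obtain ⟨N, hN⟩ := exists_pow_span_eq_bot z hz
    have hcont : ∀ x ∈ (𝔞.map (MvPowerSeries.C : A →+* MvPowerSeries (Fin n) A) ⊔
        RingHom.ker (MvPowerSeries.constantCoeff : MvPowerSeries (Fin n) A →+* A)) ^ (k + N),
        evalNil (R := A) z N hN x = 0 := by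
      intro x hx
      have h1 := Ideal.sup_pow_add_le_pow_sup_pow hx
      rw [ker_constantCoeff_eq_span_X] at h1
      obtain ⟨a, ha, b, hb, rfl⟩ := Submodule.mem_sup.mp h1
      rw [map_add, evalNil_kills z N hN b hb, add_zero]
      rw [← Ideal.map_pow] at ha
      have hle : (𝔞 ^ k).map (MvPowerSeries.C : A →+* MvPowerSeries (Fin n) A) ≤
          Ideal.comap (evalNil (R := A) z N hN).toRingHom ⊥ := by
        rw [Ideal.map_le_iff_le_comap]
        intro c hc
        rw [Ideal.mem_comap, Ideal.mem_comap, Ideal.mem_bot]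
        have h2 : (evalNil (R := A) z N hN) (MvPowerSeries.C c) = algebraMap A E c :=
          (evalNil (R := A) z N hN).commutes c
        change (evalNil (R := A) z N hN) (MvPowerSeries.C c) = 0
        rw [h2]
        have h3 : algebraMap A E c ∈ (𝔞 ^ k).map (algebraMap A E) := Ideal.mem_map_of_mem _ hc
        rwa [hk, Ideal.mem_bot] at h3
      exact hle ha
    refine ⟨evalNil z N hN, ⟨⟨k + N, hcont⟩, fun i => evalNil_X z N hN i⟩, ?_⟩
    rintro g ⟨⟨m, hm⟩, hgX⟩
    apply algHom_ext_of_kills _ _ (max m N)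
    · intro x hx
      apply hm
      exact Ideal.pow_right_mono hXle m (Ideal.pow_le_pow_right (le_max_left m N) hx)
    · intro x hx
      exact evalNil_kills z N hN x (Ideal.pow_le_pow_right (le_max_right m N) hx)
    · intro i
      rw [hgX, evalNil_X]

end Groth.Agent.S4555
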