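import Groth.Statements.S4556
-- import your own Groth.Agent.* helpers here

set_option autoImplicit false
universe u
open EGA41

namespace Groth.Agent.S4556

/-- Let B be a formally smooth A-algebra, E and E' two A-algebras, R (resp. R') a nilpotent ideal of E
(resp. E'), f : E → E' a surjective A-algebra homomorphism with f(R) = R', and f' : E/R → E'/R' the
induced homomorphism. Let u : B → E/R be an A-algebra homomorphism and v' : B → E' an A-algebra
homomorphism through which f' ∘ u factors (v' followed by E' → E'/R' equals f' ∘ u). Then there is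
an A-algebra homomorphism v : B → E with f ∘ v = v'. (The published statement assumes only f(R) ⊆
R'; in that form it fails for B = ℚ[x, x⁻¹], E = ℚ[t], E' = ℚ[t]/(t²), R = 0, R' = (t), u : x ↦ 1
and v' : x ↦ 1 + t, since any v sends x to a unit of ℚ[t], a constant; the argument identifies R'
with the image of R, and that equality is assumed here.) -/
theorem result {A B E E' : Type u} [CommRing A] [CommRing B] [Algebra A B]
    [Algebra.FormallySmooth A B] [CommRing E] [CommRing E'] [Algebra A E] [Algebra A E']
    (R : Ideal E) (R' : Ideal E') (hR : IsNilpotent R) (hR' : IsNilpotent R')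
    (f : E →ₐ[A] E') (hf : Function.Surjective f) (hfR : R.map f.toRingHom = R')
    (u : B →ₐ[A] E ⧸ R) (v' : B →ₐ[A] E')
    (huv : (Ideal.Quotient.mkₐ A R').comp v' =
      (Ideal.quotientMapₐ R' f (fun x hx => hfR.le (Ideal.mem_map_of_mem f.toRingHom hx))).comp u) :
    ∃ v : B →ₐ[A] E, f.comp v = v' := by
  set f' : (E ⧸ R) →ₐ[A] (E' ⧸ R') :=
    Ideal.quotientMapₐ R' f (fun x hx => hfR.le (Ideal.mem_map_of_mem f.toRingHom hx)) with hf'
  let F : Subalgebra A ((E ⧸ R) × E') :=
    AlgHom.equalizer (f'.comp (AlgHom.fst A (E ⧸ R) E'))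
      ((Ideal.Quotient.mkₐ A R').comp (AlgHom.snd A (E ⧸ R) E'))
  let g : E →ₐ[A] F := AlgHom.codRestrict (AlgHom.prod (Ideal.Quotient.mkₐ A R) f) F (by
    intro x
    simp [F, f', AlgHom.mem_equalizer])
  let h : B →ₐ[A] F := AlgHom.codRestrict (AlgHom.prod u v') F (by
    intro x
    have := congr($huv x)
    simp only [F, AlgHom.mem_equalizer, AlgHom.comp_apply, AlgHom.prod_apply, AlgHom.fst_apply,
      AlgHom.snd_apply]
    exact this.symm)
  have hg : Function.Surjective g := by
    rintro ⟨⟨a, b⟩, hab⟩
    obtain ⟨e, rfl⟩ := Ideal.Quotient.mk_surjective a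
    simp only [F, AlgHom.mem_equalizer, AlgHom.comp_apply, AlgHom.fst_apply,
      AlgHom.snd_apply, f'] at hab
    have h1 : f e - b ∈ R' := by
      rw [← Ideal.Quotient.eq]
      simpa using hab
    rw [← hfR] at h1
    obtain ⟨r, hr, hr'⟩ := (Ideal.mem_map_iff_of_surjective f.toRingHom hf).mp h1
    refine ⟨e - r, ?_⟩
    apply Subtype.ext
    have hr'' : f r = f e - b := hr'
    have h3 : (Ideal.Quotient.mk R) r = 0 := Ideal.Quotient.eq_zero_iff_mem.mpr hr
    simp [g, hr'', h3]
  have hker : IsNilpotent (RingHom.ker (g : E →+* F)) := by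
    obtain ⟨n, hn⟩ := hR
    refine ⟨n, ?_⟩
    rw [Ideal.zero_eq_bot, eq_bot_iff, ← Ideal.zero_eq_bot, ← hn]
    apply Ideal.pow_right_mono
    intro x hx
    rw [RingHom.mem_ker] at hx
    have : (g x : (E ⧸ R) × E').1 = 0 := by
      have := congr(($hx : (E ⧸ R) × E').1)
      simpa using this
    simpa [g, Ideal.Quotient.eq_zero_iff_mem] using this
  refine ⟨Algebra.FormallySmooth.liftOfSurjective h g hg hker, ?_⟩
  ext x
  have := Algebra.FormallySmooth.liftOfSurjective_apply h g hg hker x
  have h5 := congr(($this : (E ⧸ R) × E').2)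
  exact h5

end Groth.Agent.S4556
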