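import Groth.Statements.S4561
import Groth.Agent.Lib.helper10.PowSerSpan

set_option autoImplicit false
universe u
open EGA41

namespace Groth.Agent.S4561

/-- Let k₀ be a field of characteristic p > 0 with [k₀ : k₀^p] < ∞ and K₀ an extension of k₀. Inside
K₀((T_1, …, T_r)) one has (k₀(K₀^p))((T_1, …, T_r)) = k₀(K₀^p((T_1, …, T_r))); here, for a subfield
F of K₀, F((T)) denotes the subfield of the fraction field of K₀[[T]] generated by the power series
with all coefficients in F. -/
theorem result (p : ℕ) [Fact p.Prime] {k₀ K₀ : Type u} [Field k₀] [Field K₀] [Algebra k₀ K₀] [CharP k₀ p]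
    (hfin : Module.Finite (Subfield.closure (Set.range fun x : k₀ => x ^ p)) k₀) (r : ℕ) :
    Subfield.closure (algebraMap (MvPowerSeries (Fin r) K₀) (FractionRing (MvPowerSeries (Fin r) K₀)) ''
        {f | ∀ n, MvPowerSeries.coeff n f ∈
          Subfield.closure (Set.range (algebraMap k₀ K₀) ∪ Set.range fun y : K₀ => y ^ p)}) =
      Subfield.closure
        (Set.range (algebraMap k₀ (FractionRing (MvPowerSeries (Fin r) K₀))) ∪
          (Subfield.closure (algebraMap (MvPowerSeries (Fin r) K₀) (FractionRing (MvPowerSeries (Fin r) K₀)) ''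
            {f | ∀ n, MvPowerSeries.coeff n f ∈ Subfield.closure (Set.range fun y : K₀ => y ^ p)}) :
            Set (FractionRing (MvPowerSeries (Fin r) K₀)))) := by
  classical
  obtain ⟨m, b, hb⟩ := Module.Finite.exists_fin
    (R := Subfield.closure (Set.range fun x : k₀ => x ^ p)) (M := k₀)
  have hsc : ∀ c : k₀, algebraMap k₀ (FractionRing (MvPowerSeries (Fin r) K₀)) c =
      algebraMap (MvPowerSeries (Fin r) K₀) (FractionRing (MvPowerSeries (Fin r) K₀))
        (MvPowerSeries.C (algebraMap k₀ K₀ c)) := by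
    intro c
    rw [IsScalarTower.algebraMap_apply k₀ (MvPowerSeries (Fin r) K₀)
      (FractionRing (MvPowerSeries (Fin r) K₀)), MvPowerSeries.algebraMap_apply]
  apply le_antisymm
  · rw [Subfield.closure_le]
    rintro _ ⟨f, hf, rfl⟩
    have hex : ∀ n, ∃ c : Fin m → K₀,
        (∀ i, c i ∈ Subfield.closure (Set.range fun y : K₀ => y ^ p)) ∧
          MvPowerSeries.coeff n f = ∑ i, c i * algebraMap k₀ K₀ (b i) := fun n =>
      Groth.Agent.Lib.helper10.PowSerSpan.exists_coeffs b hb _ (hf n)
    choose c hc1 hc2 using hex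
    let g : Fin m → MvPowerSeries (Fin r) K₀ := fun i n => c n i
    have hfeq : f = ∑ i, MvPowerSeries.C (algebraMap k₀ K₀ (b i)) * g i := by
      ext n
      rw [hc2 n, map_sum]
      refine Finset.sum_congr rfl fun i _ => ?_
      rw [MvPowerSeries.coeff_C_mul, mul_comm]
      rfl
    rw [hfeq, map_sum]
    refine Subfield.sum_mem _ fun i _ => ?_
    rw [map_mul]
    refine Subfield.mul_mem _ ?_ ?_
    · rw [← hsc]
      exact Subfield.subset_closure (Or.inl ⟨b i, rfl⟩)
    · refine Subfield.subset_closure (Or.inr ?_)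
      exact Subfield.subset_closure ⟨g i, fun n => hc1 n i, rfl⟩
  · rw [Subfield.closure_le]
    rintro x (⟨c, rfl⟩ | hx)
    · rw [hsc]
      refine Subfield.subset_closure ⟨_, ?_, rfl⟩
      intro n
      rw [MvPowerSeries.coeff_C]
      split_ifs
      · exact Subfield.subset_closure (Or.inl ⟨c, rfl⟩)
      · exact Subfield.zero_mem _
    · refine Subfield.closure_mono ?_ hx
      rintro _ ⟨f, hf, rfl⟩
      refine ⟨f, fun n => ?_, rfl⟩
      exact Subfield.closure_mono Set.subset_union_right (hf n)

end Groth.Agent.S4561
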