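import Groth.Statements.S4569
-- import your own Groth.Agent.* helpers here

set_option autoImplicit false
universe u
open CAlg

namespace Groth.Agent.S4569

theorem key {A : Type u} [CommRing A] (x : A)
    (hx : x ∈ nonZeroDivisors A) [hp : (Ideal.span ({x} : Set A)).IsPrime] (n : ℕ) :
    ∀ (a c : A), c ∉ Ideal.span ({x} : Set A) → c * a ∈ Ideal.span ({x ^ n} : Set A) →
      a ∈ Ideal.span ({x ^ n} : Set A) := by
  induction n with
  | zero => intro a c _ _; simp
  | succ n ih =>
    intro a c hc hca
    rw [Ideal.mem_span_singleton'] at hca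
    obtain ⟨d, hd⟩ := hca
    have h1 : c * a ∈ Ideal.span ({x} : Set A) := by
      rw [Ideal.mem_span_singleton']
      exact ⟨d * x ^ n, by rw [← hd, pow_succ, mul_assoc]⟩
    have h2 : a ∈ Ideal.span ({x} : Set A) := (hp.mem_or_mem h1).resolve_left hc
    rw [Ideal.mem_span_singleton'] at h2
    obtain ⟨a', rfl⟩ := h2
    have h3 : c * a' ∈ Ideal.span ({x ^ n} : Set A) := by
      rw [Ideal.mem_span_singleton']
      refine ⟨d, ?_⟩
      have : (d * x ^ n) * x = (c * a') * x := by
        rw [mul_assoc, ← pow_succ, hd, mul_assoc]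
      exact (mul_cancel_right_mem_nonZeroDivisors hx).mp this
    have h4 := ih a' c hc h3
    rw [Ideal.mem_span_singleton'] at h4 ⊢
    obtain ⟨e, he⟩ := h4
    exact ⟨e, by rw [← he, pow_succ, mul_assoc]⟩

/-- Let A be a ring, x a non-zero-divisor of A with p = xA prime. For every n > 0 the inverse image in A
of x^n A_p is x^n A. -/
theorem result {A : Type u} [CommRing A] (x : A)
    (hx : x ∈ nonZeroDivisors A) [(Ideal.span ({x} : Set A)).IsPrime] (n : ℕ) (hn : 0 < n) :
    Ideal.comap (algebraMap A (Localization.AtPrime (Ideal.span ({x} : Set A))))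
      (Ideal.map (algebraMap A (Localization.AtPrime (Ideal.span ({x} : Set A)))) (Ideal.span ({x ^ n} : Set A))) =
      Ideal.span ({x ^ n} : Set A) := by
  apply le_antisymm
  · intro a ha
    rw [Ideal.mem_comap, IsLocalization.mem_map_algebraMap_iff (Ideal.span ({x} : Set A)).primeCompl] at ha
    obtain ⟨⟨i, s⟩, h⟩ := ha
    rw [← map_mul] at h
    obtain ⟨t, ht⟩ := (IsLocalization.eq_iff_exists (Ideal.span ({x} : Set A)).primeCompl _).mp h
    apply key x hx n a (t * s)
    · intro hts
      have := (Ideal.IsPrime.mem_or_mem ‹_› hts)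
      rcases this with h' | h'
      · exact t.2 h'
      · exact s.2 h'
    · have : (t : A) * s * a = t * i := by rw [← ht]; ring
      rw [this]
      exact Ideal.mul_mem_left _ _ i.2
  · exact Ideal.le_comap_map

end Groth.Agent.S4569
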