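import Groth.Statements.S4571
import Groth.Agent.Lib.Helper5.KahlerInjE
import Groth.Agent.S2451
import Groth.Agent.S4537
import Groth.Agent.Lib.helper10.AdicFwd
import Groth.Agent.Lib.helper10.AdicBwd

set_option autoImplicit false
universe u
open TensorProduct KaehlerDifferential IsLocalRing
open EGA41

namespace Groth.Agent.S4571

/-- For an arbitrary local algebra: let k be a field and A a local k-algebra with maximal ideal m and
residue field K. Then A is formally smooth over k for the m-adic topology if and only if the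
canonical maps Sym^n_K(m/m²) → m^n/m^(n+1) are bijective for n ≥ 1 and the canonical map Ω_{k/ℤ} ⊗_k
K → Ω_{A/ℤ} ⊗_A K is injective (absolute differentials, which agree with differentials over the
prime field). -/
theorem result {k A : Type u} [Field k] [CommRing A]
    [IsLocalRing A] [Algebra k A] :
    CAlgX.IsAdicFormallySmooth k A (maximalIdeal A) ↔
      (PP16.SymGrBijective A (maximalIdeal A) ∧
        Function.Injective ((mapBaseChange ℤ k A).lTensor (ResidueField A))) := by
  classical
  let _ : Algebra (Groth.Agent.Lib.Helper5.AdicReg.PF k) A :=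
    ((algebraMap k A).comp (algebraMap (Groth.Agent.Lib.Helper5.AdicReg.PF k) k)).toAlgebra
  have hst : IsScalarTower (Groth.Agent.Lib.Helper5.AdicReg.PF k) k A :=
    IsScalarTower.of_algebraMap_eq (fun _ => rfl)
  have hgr : Algebra.IsGeometricallyReduced (Groth.Agent.Lib.Helper5.AdicReg.PF k)
      (ResidueField A) := Groth.Agent.Lib.Helper5.CohenEqui.geomReduced_of_perfect _ _
  have hfs' : Algebra.FormallySmooth (Groth.Agent.Lib.Helper5.AdicReg.PF k) (ResidueField A) :=
    Groth.Agent.S2451.result.2 hgr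
  have hfs : Algebra.FormallySmooth (Groth.Agent.Lib.Helper5.AdicReg.PF k)
      (A ⧸ maximalIdeal A) := hfs'
  constructor
  · intro h
    have h1 : CAlgX.IsAdicFormallySmooth (Groth.Agent.Lib.Helper5.AdicReg.PF k) A
        (maximalIdeal A) := Groth.Agent.Lib.Helper5.AdicReg.adicSmooth_comp (S := k) _ h
    exact ⟨Groth.Agent.Lib.helper10.AdicFwd.symGrBijective (maximalIdeal A) h1,
      Groth.Agent.Lib.Helper5.KahlerInj.injective_of_adicSmooth h⟩
  · rintro ⟨hsym, hinj⟩
    have hproj' : Module.Projective (ResidueField A) (CotangentSpace A) := inferInstance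
    have hproj : Module.Projective (A ⧸ maximalIdeal A) (maximalIdeal A).Cotangent := hproj'
    obtain ⟨inn, hinn⟩ := Module.projective_def'.mp hproj
    have h0 : CAlgX.IsAdicFormallySmooth (Groth.Agent.Lib.Helper5.AdicReg.PF k) A
        (maximalIdeal A) :=
      Groth.Agent.Lib.helper10.AdicBwd.isAdicFormallySmooth_of (maximalIdeal A) inn hinn hsym
    have hsm := (Groth.Agent.S4537.result (maximalIdeal A)).1 h0
    intro C _ _ J hJ ψ hψ
    obtain ⟨n, hn⟩ := hψ
    let _ : Algebra (Groth.Agent.Lib.Helper5.AdicReg.PF k) C :=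
      ((algebraMap k C).comp (algebraMap (Groth.Agent.Lib.Helper5.AdicReg.PF k) k)).toAlgebra
    have hstC : IsScalarTower (Groth.Agent.Lib.Helper5.AdicReg.PF k) k C :=
      IsScalarTower.of_algebraMap_eq (fun _ => rfl)
    let ψ₀ : A →ₐ[Groth.Agent.Lib.Helper5.AdicReg.PF k] C ⧸ J :=
      ψ.restrictScalars (Groth.Agent.Lib.Helper5.AdicReg.PF k)
    obtain ⟨χ₀, hχ₀⟩ := h0 C J hJ ψ₀ ⟨n, hn⟩
    have hχ₀' : ∀ x : A, Ideal.Quotient.mk J (χ₀ x) = ψ x := fun x => AlgHom.congr_fun hχ₀ x
    let _ : Algebra A C := χ₀.toRingHom.toAlgebra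
    have halg : ∀ x : A, algebraMap A C x = χ₀ x := fun _ => rfl
    have hJJ : ∀ a b : C, a ∈ J → b ∈ J → a * b = 0 := by
      intro a b ha hb
      have : a * b ∈ J ^ 2 := by rw [pow_two]; exact Ideal.mul_mem_mul ha hb
      rwa [hJ, Ideal.mem_bot] at this
    have hdiff : ∀ t : k, χ₀ (algebraMap k A t) - algebraMap k C t ∈ J := by
      intro t
      rw [← Ideal.Quotient.eq_zero_iff_mem, map_sub, hχ₀', AlgHom.commutes, sub_eq_zero]
      rfl
    have hstJ : IsScalarTower k A J := by
      refine ⟨fun c a j => ?_⟩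
      apply Subtype.ext
      rw [Submodule.coe_smul_of_tower, Submodule.coe_smul_of_tower, Submodule.coe_smul_of_tower,
        Algebra.smul_def (c • a) (j : C), Algebra.smul_def c (a • (j : C)),
        Algebra.smul_def a (j : C), halg, halg, Algebra.smul_def c a, map_mul,
        mul_assoc, ← sub_eq_zero, ← sub_mul]
      exact hJJ _ _ (hdiff c) (J.mul_mem_left _ j.2)
    have hkill : ∀ x ∈ maximalIdeal A ^ n, ∀ y : J, x • y = 0 := by
      intro x hx y
      apply Subtype.ext
      rw [Submodule.coe_smul_of_tower, Algebra.smul_def, halg, Submodule.coe_zero]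
      refine hJJ _ _ ?_ y.2
      rw [← Ideal.Quotient.eq_zero_iff_mem, hχ₀']
      exact hn x hx
    let f₀ : k →ₐ[ℤ] C := ((χ₀ : A →+* C).comp (algebraMap k A)).toIntAlgHom
    have he : (Ideal.Quotient.mkₐ ℤ J).comp f₀ = IsScalarTower.toAlgHom ℤ k (C ⧸ J) := by
      ext t
      change Ideal.Quotient.mk J (χ₀ (algebraMap k A t)) = algebraMap k (C ⧸ J) t
      rw [hχ₀', AlgHom.commutes]
    let δ : Derivation ℤ k J := derivationToSquareZeroOfLift J hJ f₀ he
    have hδ : ∀ t, ((δ t : J) : C) = χ₀ (algebraMap k A t) - algebraMap k C t := fun t => rfl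
    obtain ⟨D, hD⟩ := Groth.Agent.Lib.Helper5.KahlerInj.ext_aux hsm hinj n J hkill δ
    let χ : A →ₐ[ℤ] C := liftOfDerivationToSquareZero J hJ (-D)
    have hχ : ∀ x : A, χ x = ((-D) x : J) + χ₀ x := fun x => rfl
    let χ' : A →ₐ[k] C :=
      { χ.toRingHom with
        commutes' := fun t => by
          change χ (algebraMap k A t) = algebraMap k C t
          rw [hχ, Derivation.neg_apply, hD, Submodule.coe_neg, hδ]
          ring }
    refine ⟨χ', ?_⟩
    ext x
    change Ideal.Quotient.mk J (χ x) = ψ x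
    rw [hχ, map_add, Ideal.Quotient.eq_zero_iff_mem.mpr ((-D) x).2, zero_add, hχ₀']

end Groth.Agent.S4571
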