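import Groth.Statements.S4575
import Mathlib
import Groth.Agent.Lib.helper19.RegularLocalQuot
import Groth.Agent.S0611

set_option autoImplicit false
universe u
open IsLocalRing
open EGA41

namespace Groth.Agent.S4575


/-- Let R be a regular local ring with maximal ideal m and n a proper ideal with R/n regular. Then
(n/n²) ⊗_R K → (m/m²) ⊗_R K is injective, K the residue field; stated in the equivalent form n ∩ m²
= m·n (the kernel of n/mn → m/m² is (n ∩ m²)/mn). -/
theorem result {R : Type u} [CommRing R] [IsRegularLocalRing R]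
    (n : Ideal R) (hn : n ≠ ⊤) (hreg : IsRegularRing (R ⧸ n)) :
    n ⊓ maximalIdeal R ^ 2 = maximalIdeal R * n := by
  have hloc : IsLocalRing (R ⧸ n) := Groth.Agent.Lib.helper19.isLocalRing_quotient n hn
  have hregl : IsRegularLocalRing (R ⧸ n) :=
    IsRegularLocalRing.of_isRegularRing_of_isLocalRing _
  have hsf := IsRegularLocalRing.spanFinrank_maximalIdeal (R := R)
  obtain ⟨d, hd⟩ : ∃ d : ℕ, ringKrullDim R = d := ⟨_, hsf.symm⟩
  obtain ⟨l₁, l₂, hlen, hspan, hI⟩ :=
    Groth.Agent.Lib.helper19.exists_lists_of_quotient_regular_aux d R n hd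
  have hsfd : (maximalIdeal R).spanFinrank = d := by
    rw [hd] at hsf; exact_mod_cast hsf
  apply le_antisymm
  · intro y hy
    obtain ⟨hyn, hym⟩ := hy
    by_contra hcon
    rw [hI] at hyn
    rw [hI, ← smul_eq_mul] at hcon
    obtain ⟨a, l₁', c, y', hp, hc, hy', hyeq⟩ :=
      Groth.Agent.S0611.exists_unit_coeff l₁ y hyn hcon
    -- a ∈ m² + ofList l₁'
    obtain ⟨c', hc'⟩ := hc.exists_left_inv
    have ha : a ∈ Ideal.ofList (l₁' ++ l₂) ⊔ maximalIdeal R • maximalIdeal R := by
      have : a = c' * y + (- c' * y') := by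
        rw [hyeq]; linear_combination (-a) * hc'
      rw [this]
      refine add_mem (Ideal.mem_sup_right ?_) (Ideal.mem_sup_left ?_)
      · rw [smul_eq_mul, ← pow_two]; exact Ideal.mul_mem_left _ _ hym
      · rw [Ideal.ofList_append]
        exact Ideal.mem_sup_left (Ideal.mul_mem_left _ _ hy')
    have hle : maximalIdeal R ≤ Ideal.ofList (l₁' ++ l₂) := by
      apply Submodule.le_of_le_smul_of_le_jacobson_bot (I := maximalIdeal R)
        (IsNoetherian.noetherian _) (IsLocalRing.maximalIdeal_le_jacobson _)
      conv_lhs => rw [← hspan, Groth.Agent.S0611.ofList_perm (List.Perm.append_right l₂ hp)]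
      rw [List.cons_append, Ideal.ofList_cons]
      refine sup_le ?_ le_sup_left
      rw [Ideal.span_singleton_le_iff_mem]
      exact ha
    have hge : Ideal.ofList (l₁' ++ l₂) ≤ maximalIdeal R := by
      rw [← hspan, Groth.Agent.S0611.ofList_perm (List.Perm.append_right l₂ hp),
        List.cons_append, Ideal.ofList_cons]
      exact le_sup_right
    have heq : maximalIdeal R = Ideal.ofList (l₁' ++ l₂) := le_antisymm hle hge
    have h1 := Groth.Agent.Lib.helper19.spanFinrank_ofList_le (l₁' ++ l₂)
    rw [← heq, hsfd] at h1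
    have h2 := hp.length_eq
    simp only [List.length_append, List.length_cons] at h1 h2
    omega
  · refine le_inf ?_ ?_
    · exact Ideal.mul_le_right
    · rw [pow_two]
      exact Ideal.mul_mono_right (le_maximalIdeal hn)

end Groth.Agent.S4575
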