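import Groth.Statements.S4576
import Groth.Agent.Lib.Helper5.SplitLoc

set_option autoImplicit false
universe u
open EGA41

namespace Groth.Agent.S4576

/-- Let B be a formally smooth A-algebra (discrete topologies), C = B/J a quotient with J/J² finitely
generated. Then the set of primes p of C with C_p formally smooth over A is open in Spec C. (The
equivalent variant with C_p formally smooth over A_q, q the contraction of p to A, is not stated.) -/
theorem result {A B C : Type u} [CommRing A] [CommRing B] [CommRing C]
    [Algebra A B] [Algebra B C] [Algebra A C] [IsScalarTower A B C] [Algebra.FormallySmooth A B]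
    (hsurj : Function.Surjective (algebraMap B C)) [Module.Finite B (RingHom.ker (algebraMap B C)).Cotangent] :
    IsOpen {p : PrimeSpectrum C | Algebra.FormallySmooth A (Localization.AtPrime p.asIdeal)} := by
  have : {p : PrimeSpectrum C | Algebra.FormallySmooth A (Localization.AtPrime p.asIdeal)} =
      (PrimeSpectrum.zeroLocus
        (Lib.Helper5.SplitLoc.splitIdeal (Lib.Helper5.SplitLoc.ext (A := A) hsurj).cotangentComplex :
          Set C))ᶜ := by
    ext p
    rw [Set.mem_ofPred_eq, Lib.Helper5.SplitLoc.formallySmooth_localization_iff hsurj
      p.asIdeal.primeCompl, Set.mem_compl_iff, PrimeSpectrum.mem_zeroLocus, Set.not_subset]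
    constructor
    · rintro ⟨f, hfS, hf⟩
      exact ⟨f, hf, hfS⟩
    · rintro ⟨f, hf, hfS⟩
      exact ⟨f, hfS, hf⟩
  rw [this]
  exact (PrimeSpectrum.isClosed_zeroLocus _).isOpen_compl

end Groth.Agent.S4576
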