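import Groth.Statements.S4581
import Groth.Agent.S3441
import Groth.Agent.Lib.Helper9.CompletedDerivation
import Mathlib.RingTheory.AdicCompletion.AsTensorProduct
import Mathlib.RingTheory.EssentialFiniteness

set_option autoImplicit false
universe u
open EGA41

namespace Groth.Agent.S4581

open TensorProduct AdicCompletion Groth.Agent.Lib.Helper9

/-- General form: `A` Noetherian with `Ω[A⁄A₀]` finite; then the `I`-adic completion of `A` is
formally smooth over `A` relative to `A₀`. -/
theorem isFormallySmoothRel_adicCompletion {A₀ A : Type u} [CommRing A₀] [CommRing A]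
    [Algebra A₀ A] [IsNoetherianRing A] [Module.Finite A Ω[A⁄A₀]] (I : Ideal A) :
    EGA41.IsFormallySmoothRel A₀ A (AdicCompletion I A) := by
  rw [← Groth.Agent.S3441.result]
  haveI : IsScalarTower A₀ (AdicCompletion I A) (AdicCompletion I Ω[A⁄A₀]) := by
    refine ⟨fun r x m => ?_⟩
    rw [← algebraMap_smul A r (x • m), ← algebraMap_smul A r x, smul_assoc]
  let e := ofTensorProductEquivOfFiniteNoetherian I Ω[A⁄A₀]
  let dh : Derivation A₀ (AdicCompletion I A) (AdicCompletion I Ω[A⁄A₀]) := dHat I
  refine ⟨e.symm.toLinearMap ∘ₗ dh.liftKaehlerDifferential, ?_⟩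
  have key : ((e.symm.toLinearMap ∘ₗ dh.liftKaehlerDifferential).restrictScalars A) ∘ₗ
      (KaehlerDifferential.map A₀ A₀ A (AdicCompletion I A)) =
      TensorProduct.mk A (AdicCompletion I A) Ω[A⁄A₀] 1 := by
    apply Derivation.liftKaehlerDifferential_unique
    ext b
    change e.symm (dh.liftKaehlerDifferential (KaehlerDifferential.map A₀ A₀ A (AdicCompletion I A)
      (KaehlerDifferential.D A₀ A b))) = (1 : AdicCompletion I A) ⊗ₜ[A] KaehlerDifferential.D A₀ A b
    rw [KaehlerDifferential.map_D, Derivation.liftKaehlerDifferential_comp_D,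
      AdicCompletion.algebraMap_apply]
    change e.symm (dHat I (of I A (algebraMap A A b))) = _
    rw [Algebra.algebraMap_self_apply, dHat_of]
    exact ofTensorProductEquivOfFiniteNoetherian_symm_of I Ω[A⁄A₀] _
  apply LinearMap.ext
  intro x
  induction x using TensorProduct.induction_on with
  | zero => simp
  | tmul c ω =>
    have := LinearMap.congr_fun key ω
    change (e.symm.toLinearMap ∘ₗ dh.liftKaehlerDifferential)
      (KaehlerDifferential.map A₀ A₀ A (AdicCompletion I A) ω) = (1 : AdicCompletion I A) ⊗ₜ[A] ω
      at this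
    change (e.symm.toLinearMap ∘ₗ dh.liftKaehlerDifferential)
      (KaehlerDifferential.mapBaseChange A₀ A (AdicCompletion I A) (c ⊗ₜ ω)) = c ⊗ₜ ω
    rw [KaehlerDifferential.mapBaseChange_tmul, map_smul, this, smul_tmul', smul_eq_mul, mul_one]
  | add x y hx hy =>
    rw [map_add, hx, hy]
    rfl

/-- Let A₀ be a semi-local Noetherian ring, A a module-finite A₀-algebra and Â the completion of A for
the adic topology of its Jacobson radical. For the discrete topologies, Â is a formally smooth
A-algebra relative to A₀. -/
theorem result {A₀ A : Type u} [CommRing A₀]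
    [IsNoetherianRing A₀] [Finite (MaximalSpectrum A₀)] [CommRing A] [Algebra A₀ A] [Module.Finite A₀ A] :
    EGA41.IsFormallySmoothRel A₀ A (AdicCompletion (Ideal.jacobson (⊥ : Ideal A)) A) := by
  haveI : IsNoetherianRing A := IsNoetherianRing.of_finite A₀ A
  exact isFormallySmoothRel_adicCompletion _

end Groth.Agent.S4581
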