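import Groth.Statements.S4583
import Mathlib
import Groth.Agent.Lib.Helper22.GRingK
import Groth.Agent.Lib.Helper5.ProjSpreadE
-- import your own Groth.Agent.* helpers here

set_option autoImplicit false
universe u
open IsLocalRing
open EGA41

namespace Groth.Agent.S4583

/-- Let A be a complete Noetherian local domain with fraction field K, p a prime of A, B = A_p, q a
prime of the completion B̂ of B with q ∩ B = 0. Then B̂_q is a K-algebra formally smooth over K for
the adic topology of its maximal ideal (the published statement adds that it is then geometrically
regular over K; that consequence is not stated). -/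
theorem result {A : Type u} [CommRing A]
    [IsDomain A] [IsLocalRing A] [IsNoetherianRing A] [IsAdicComplete (maximalIdeal A) A] (p : Ideal A) [p.IsPrime]
    (q : Ideal (AdicCompletion (maximalIdeal (Localization.AtPrime p)) (Localization.AtPrime p))) [q.IsPrime]
    (hq : q.comap (algebraMap (Localization.AtPrime p)
      (AdicCompletion (maximalIdeal (Localization.AtPrime p)) (Localization.AtPrime p))) = ⊥)
    [Algebra A (Localization.AtPrime q)]
    [IsScalarTower A (AdicCompletion (maximalIdeal (Localization.AtPrime p)) (Localization.AtPrime p))
      (Localization.AtPrime q)]
    [Algebra (FractionRing A) (Localization.AtPrime q)] [IsScalarTower A (FractionRing A) (Localization.AtPrime q)] :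
    CAlgX.IsAdicFormallySmooth (FractionRing A) (Localization.AtPrime q) (maximalIdeal (Localization.AtPrime q)) := by
  classical
  rename_i i1 i2 i3 i4
  clear i1
  haveI : IsNoetherianRing (Localization.AtPrime p) :=
    IsLocalization.isNoetherianRing p.primeCompl _ inferInstance
  haveI : IsNoetherianRing
      (AdicCompletion (maximalIdeal (Localization.AtPrime p)) (Localization.AtPrime p)) :=
    Groth.Agent.Lib.helper19.isNoetherianRing_adicCompletion _ _
  haveI : IsNoetherianRing (Localization.AtPrime q) :=
    IsLocalization.isNoetherianRing q.primeCompl _ inferInstance
  apply Groth.Agent.Lib.Helper5.ProjSpread.adicSmooth_of_geomRegular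
  intro K' _ _ hfin
  haveI := hfin
  letI algAK' : Algebra A K' :=
    ((algebraMap (FractionRing A) K').comp (algebraMap A (FractionRing A))).toAlgebra
  haveI : IsScalarTower A (FractionRing A) K' := IsScalarTower.of_algebraMap_eq' rfl
  have hinj : Function.Injective (algebraMap A K') :=
    (algebraMap (FractionRing A) K').injective.comp (IsFractionRing.injective A (FractionRing A))
  have hreg : IsRegularRing (TensorProduct A K'
      (AdicCompletion (maximalIdeal (Localization.AtPrime p)) (Localization.AtPrime p))) :=
    Groth.Agent.Lib.Helper22.GRing.isRegularRing_tensor_cpl_of_complete A p K' hinj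
  let M' : Submonoid (TensorProduct A K'
      (AdicCompletion (maximalIdeal (Localization.AtPrime p)) (Localization.AtPrime p))) :=
    q.primeCompl.map (Algebra.TensorProduct.includeRight (R := A) (A := K'))
  haveI : IsRegularRing (Localization M') :=
    Groth.Agent.Lib.Helper5.RegularProd.isRegularRing_of_isLocalization M' _
  let e₁ := IsLocalization.tensorProductEquivOfMapIncludeRight A K' q.primeCompl
    (Localization.AtPrime q) (Localization M')
  let e₂ : TensorProduct (FractionRing A) K' (Localization.AtPrime q) ≃ₐ[FractionRing A]
      TensorProduct A K' (Localization.AtPrime q) :=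
    IsLocalization.algebraTensorEquiv (nonZeroDivisors A) (FractionRing A) K'
      (Localization.AtPrime q)
  exact IsRegularRing.of_ringEquiv (R := Localization M') (e₂.toRingEquiv.trans e₁.toRingEquiv).symm

end Groth.Agent.S4583
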