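import Groth.Statements.S4584


set_option autoImplicit false
universe u
open AlgebraicGeometry CategoryTheory Topology
open EGA41

namespace Groth.Agent.S4584



/-- The locally closed piece `U \ ⋃ V_j`. -/
theorem sdiff_case (X : Scheme.{u}) [QuasiSeparatedSpace X] (U : X.affineOpens)
    (s : Set X.affineOpens) (hs : s.Finite) :
    ∃ (X' : Scheme.{u}) (f : X' ⟶ X), IsAffine X' ∧ LocallyOfFinitePresentation f ∧
      Set.range f.base = (U.1 : Set X) \ ⋃ j ∈ s, ((j : X.affineOpens).1 : Set X) := by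
  set A := Γ(X, U.1) with hA
  set φ : Spec A ⟶ X := U.2.fromSpec with hφ
  haveI : IsOpenImmersion φ := U.2.isOpenImmersion_fromSpec
  have hφemb : IsOpenEmbedding φ.base := φ.isOpenEmbedding
  set T : Set (Spec A) := φ.base ⁻¹' (⋃ j ∈ s, ((j : X.affineOpens).1 : Set X)) with hT
  have hTopen : IsOpen T := by
    refine IsOpen.preimage φ.base.hom.2 ?_
    exact isOpen_biUnion fun j _ => j.1.2
  have hTcpt : IsCompact T := by
    rw [hT, Set.preimage_iUnion₂]
    refine hs.isCompact_biUnion fun j _ => ?_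
    rw [hφemb.isInducing.isCompact_iff, Set.image_preimage_eq_inter_range, U.2.range_fromSpec]
    exact QuasiSeparatedSpace.inter_isCompact _ _ j.1.2 j.2.isCompact U.1.2 U.2.isCompact
  obtain ⟨I, hI, hIT⟩ := PrimeSpectrum.isCompact_isOpen_iff_ideal.mp ⟨hTcpt, hTopen⟩
  refine ⟨Spec (CommRingCat.of (A ⧸ I)),
    Spec.map (CommRingCat.ofHom (Ideal.Quotient.mk I)) ≫ φ, inferInstance, ?_, ?_⟩
  · have : LocallyOfFinitePresentation (Spec.map (CommRingCat.ofHom (Ideal.Quotient.mk I))) := by
      rw [HasRingHomProperty.Spec_iff (P := @LocallyOfFinitePresentation)]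
      refine RingHom.FinitePresentation.of_surjective _ Ideal.Quotient.mk_surjective ?_
      simpa [Ideal.mk_ker] using hI
    infer_instance
  · rw [Scheme.Hom.comp_base, TopCat.coe_comp, Set.range_comp]
    have h1 : Set.range (Spec.map (CommRingCat.ofHom (Ideal.Quotient.mk I))).base
        = PrimeSpectrum.zeroLocus (I : Set A) := by
      have := _root_.range_comap_of_surjective _ (Ideal.Quotient.mk I)
        Ideal.Quotient.mk_surjective
      rw [Ideal.mk_ker] at this
      rw [← this]
      rfl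
    rw [h1]
    have h2 : PrimeSpectrum.zeroLocus (I : Set A) = Tᶜ := by
      rw [← hIT]; exact (compl_compl _).symm
    rw [h2, hT, ← Set.preimage_compl, Set.image_preimage_eq_inter_range, U.2.range_fromSpec]
    ext x
    simp only [Set.mem_inter_iff, Set.mem_compl_iff, Set.mem_diff]
    tauto

theorem union_case (X : Scheme.{u}) (s t : Set X)
    (h1 : ∃ (X' : Scheme.{u}) (f : X' ⟶ X), IsAffine X' ∧ LocallyOfFinitePresentation f ∧
      Set.range f.base = s)
    (h2 : ∃ (X' : Scheme.{u}) (f : X' ⟶ X), IsAffine X' ∧ LocallyOfFinitePresentation f ∧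
      Set.range f.base = t) :
    ∃ (X' : Scheme.{u}) (f : X' ⟶ X), IsAffine X' ∧ LocallyOfFinitePresentation f ∧
      Set.range f.base = s ∪ t := by
  obtain ⟨X₁, f₁, hX₁, hf₁, hr₁⟩ := h1
  obtain ⟨X₂, f₂, hX₂, hf₂, hr₂⟩ := h2
  refine ⟨X₁ ⨿ X₂, Limits.coprod.desc f₁ f₂, inferInstance, ?_, ?_⟩
  · haveI : IsZariskiLocalAtSource @LocallyOfFinitePresentation.{u} :=
      HasRingHomProperty.instIsZariskiLocalAtSource (P := @LocallyOfFinitePresentation.{u})
    rw [IsZariskiLocalAtSource.iff_of_openCover (P := @LocallyOfFinitePresentation.{u})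
      (coprodOpenCover.{u, 0} X₁ X₂)]
    rintro (_ | _)
    · have : (coprodOpenCover.{u, 0} X₁ X₂).f (Sum.inl PUnit.unit) ≫ Limits.coprod.desc f₁ f₂ = f₁ :=
        Limits.coprod.inl_desc f₁ f₂
      rw [this]; exact hf₁
    · have : (coprodOpenCover.{u, 0} X₁ X₂).f (Sum.inr PUnit.unit) ≫ Limits.coprod.desc f₁ f₂ = f₂ :=
        Limits.coprod.inr_desc f₁ f₂
      rw [this]; exact hf₂
  · apply Set.Subset.antisymm
    · rintro _ ⟨x, rfl⟩
      obtain ⟨i, y, rfl⟩ := (coprodOpenCover.{u, 0} X₁ X₂).exists_eq x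
      rcases i with _ | _
      · left
        rw [← hr₁]
        refine ⟨y, ?_⟩
        have : (coprodOpenCover.{u, 0} X₁ X₂).f (Sum.inl PUnit.unit) ≫ Limits.coprod.desc f₁ f₂ = f₁ :=
          Limits.coprod.inl_desc f₁ f₂
        rw [← Scheme.Hom.comp_apply, this]
        rfl
      · right
        rw [← hr₂]
        refine ⟨y, ?_⟩
        have : (coprodOpenCover.{u, 0} X₁ X₂).f (Sum.inr PUnit.unit) ≫ Limits.coprod.desc f₁ f₂ = f₂ :=
          Limits.coprod.inr_desc f₁ f₂
        rw [← Scheme.Hom.comp_apply, this]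
        rfl
    · rintro x (hx | hx)
      · rw [← hr₁] at hx
        obtain ⟨y, rfl⟩ := hx
        refine ⟨(Limits.coprod.inl : X₁ ⟶ X₁ ⨿ X₂).base y, ?_⟩
        rw [← Scheme.Hom.comp_apply, Limits.coprod.inl_desc]
      · rw [← hr₂] at hx
        obtain ⟨y, rfl⟩ := hx
        refine ⟨(Limits.coprod.inr : X₂ ⟶ X₁ ⨿ X₂).base y, ?_⟩
        rw [← Scheme.Hom.comp_apply, Limits.coprod.inr_desc]

/-- Given a scheme X that is quasi-compact and quasi-separated, together with a constructible subset Z
of X, one can find an affine scheme X' with a morphism X' → X of finite presentation whose image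
equals Z. -/
theorem result (X : Scheme.{u}) [CompactSpace X]
    [QuasiSeparatedSpace X] (Z : Set X) (hZ : IsConstructible Z) :
    ∃ (X' : Scheme.{u}) (f : X' ⟶ X), IsAffine X' ∧ LocallyOfFinitePresentation f ∧ QuasiCompact f ∧
      QuasiSeparated f ∧ Set.range f.base = Z := by
  suffices h : ∃ (X' : Scheme.{u}) (f : X' ⟶ X), IsAffine X' ∧ LocallyOfFinitePresentation f ∧
      Set.range f.base = Z by
    obtain ⟨X', f, hX', hf, hr⟩ := h
    exact ⟨X', f, hX', hf, inferInstance, inferInstance, hr⟩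
  haveI : Nonempty X.affineOpens := ⟨⟨⊥, isAffineOpen_bot X⟩⟩
  refine IsConstructible.induction_of_isTopologicalBasis
    (P := fun Z _ => ∃ (X' : Scheme.{u}) (f : X' ⟶ X), IsAffine X' ∧
      LocallyOfFinitePresentation f ∧ Set.range f.base = Z)
    (fun U : X.affineOpens => (U.1 : Set X)) ?_ (fun U => U.2.isCompact) ?_ ?_ Z hZ
  · have := X.isBasis_affineOpens
    unfold TopologicalSpace.Opens.IsBasis at this
    rw [Set.image_eq_range] at this
    exact this
  · intro U s hs
    exact sdiff_case X U s hs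
  · intro s _ t _ h1 h2
    exact union_case X s t h1 h2

end Groth.Agent.S4584
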