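import Groth.Statements.S4586
import Groth.Agent.Lib.Helper25.ProConsScheme
-- import your own Groth.Agent.* helpers here

set_option autoImplicit false
universe u
open AlgebraicGeometry CategoryTheory Topology
open EGA41

namespace Groth.Agent.S4586

/-- Let f : X → Y be surjective and either quasi-compact or locally of finite presentation, E ⊆ Y. Then
E is locally constructible (resp. pro-constructible, resp. ind-constructible) if and only if f⁻¹(E)
is. -/
theorem result {X Y : Scheme.{u}} (f : X ⟶ Y) [Surjective f]
    (hf : QuasiCompact f ∨ LocallyOfFinitePresentation f) (E : Set Y) :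
    (IsLocallyConstructible E ↔ IsLocallyConstructible (f.base ⁻¹' E)) ∧
    (ProCons.IsProConstructible E ↔ ProCons.IsProConstructible (f.base ⁻¹' E)) ∧
    (ProCons.IsIndConstructible E ↔ ProCons.IsIndConstructible (f.base ⁻¹' E)) := by
  refine ⟨(Groth.Agent.Lib.Helper25.PC.isLocallyConstructible_preimage_iff f hf).symm, ?_, ?_⟩
  · rw [Groth.Agent.Lib.Helper25.PC.isPro_iff, Groth.Agent.Lib.Helper25.PC.isPro_iff]
    exact (Groth.Agent.Lib.Helper25.PC.proC_preimage_iff f hf).symm
  · rw [Groth.Agent.Lib.Helper25.PC.isInd_iff, Groth.Agent.Lib.Helper25.PC.isInd_iff]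
    exact (Groth.Agent.Lib.Helper25.PC.indC_preimage_iff f hf).symm

end Groth.Agent.S4586
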