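import Groth.Statements.S4587
import Mathlib.AlgebraicGeometry.Properties
import Mathlib.Topology.Sober
-- import your own Groth.Agent.* helpers here

set_option autoImplicit false
universe u
open AlgebraicGeometry CategoryTheory
open EGA41

namespace Groth.Agent.S4587

lemma top_aux {X Y : Type*} [TopologicalSpace X] [TopologicalSpace Y] [QuasiSober X]
    [QuasiSober Y] [T0Space Y] (f : X → Y) (hf : Continuous f) :
    GeneralizingMap f ↔
      ∀ Y' : Set Y, IsClosed Y' → IsIrreducible Y' →
        ∀ Z ∈ irreducibleComponents ↥(f ⁻¹' Y'), closure (f '' (Subtype.val '' Z)) = Y' := by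
  constructor
  · intro hg Y' hY' hY'i Z hZ
    have hW : IsClosed (f ⁻¹' Y') := hY'.preimage hf
    have : QuasiSober ↥(f ⁻¹' Y') := hW.isClosedEmbedding_subtypeVal.quasiSober
    obtain ⟨ξ, hξ⟩ := QuasiSober.sober hZ.1 (isClosed_of_mem_irreducibleComponents Z hZ)
    obtain ⟨η, hη⟩ := QuasiSober.sober hY'i hY'
    have h1 : η ⤳ f ξ.1 := by
      rw [specializes_iff_mem_closure, hη.def]
      exact ξ.2
    obtain ⟨ξ', hξ', hfξ'⟩ := hg h1
    have hηmem : η ∈ Y' := by
      rw [← hη.def]
      exact subset_closure rfl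
    have hξ'W : ξ' ∈ f ⁻¹' Y' := by
      change f ξ' ∈ Y'
      rw [hfξ']
      exact hηmem
    have h2 : (⟨ξ', hξ'W⟩ : ↥(f ⁻¹' Y')) ⤳ ξ := by
      rw [subtype_specializes_iff]
      exact hξ'
    have h3 : Z ⊆ closure {(⟨ξ', hξ'W⟩ : ↥(f ⁻¹' Y'))} := by
      rw [← hξ.def, ← specializes_iff_closure_subset]
      exact h2
    have h4 := hZ.2 (isIrreducible_singleton (x := (⟨ξ', hξ'W⟩ : ↥(f ⁻¹' Y')))).closure h3
    have h5 : (⟨ξ', hξ'W⟩ : ↥(f ⁻¹' Y')) ∈ Z := h4 (subset_closure rfl)
    apply Set.Subset.antisymm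
    · apply closure_minimal _ hY'
      rintro _ ⟨_, ⟨z, -, rfl⟩, rfl⟩
      exact z.2
    · refine hη.def.symm.subset.trans (closure_mono ?_)
      rw [Set.singleton_subset_iff]
      exact ⟨ξ', ⟨⟨ξ', hξ'W⟩, h5, rfl⟩, hfξ'⟩
  · intro H x y' hy'
    have hx : x ∈ f ⁻¹' (closure {y'}) := by
      change f x ∈ closure {y'}
      rwa [← specializes_iff_mem_closure]
    have hW : IsClosed (f ⁻¹' (closure {y'})) := isClosed_closure.preimage hf
    have : QuasiSober ↥(f ⁻¹' (closure {y'})) := hW.isClosedEmbedding_subtypeVal.quasiSober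
    have hZ := irreducibleComponent_mem_irreducibleComponents
      (⟨x, hx⟩ : ↥(f ⁻¹' (closure {y'})))
    have h1 := H (closure {y'}) isClosed_closure isIrreducible_singleton.closure _ hZ
    obtain ⟨ξ, hξ⟩ := QuasiSober.sober hZ.1 (isClosed_of_mem_irreducibleComponents _ hZ)
    have h2 : f '' (Subtype.val '' (irreducibleComponent
        (⟨x, hx⟩ : ↥(f ⁻¹' (closure {y'}))))) ⊆ closure {f ξ.1} := by
      rintro _ ⟨_, ⟨z, hz, rfl⟩, rfl⟩
      rw [← hξ.def, ← specializes_iff_mem_closure, subtype_specializes_iff] at hz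
      rw [← specializes_iff_mem_closure]
      exact hz.map hf
    have h3 : f ξ.1 ⤳ y' := by
      rw [specializes_iff_closure_subset]
      exact h1.symm.subset.trans (closure_minimal h2 isClosed_closure)
    have h4 : y' ⤳ f ξ.1 := by
      rw [specializes_iff_mem_closure]
      exact ξ.2
    refine ⟨ξ.1, ?_, (h3.antisymm h4).eq⟩
    have h5 : ξ ⤳ (⟨x, hx⟩ : ↥(f ⁻¹' (closure {y'}))) := by
      rw [specializes_iff_mem_closure, hξ.def]
      exact mem_irreducibleComponent
    exact (subtype_specializes_iff _ _).mp h5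

/-- A morphism of schemes f : X → Y is generizing if and only if, for every irreducible closed subset Y'
of Y, each irreducible component of f⁻¹(Y') has dense image in Y'. -/
theorem result {X Y : Scheme.{u}} (f : X ⟶ Y) :
    GeneralizingMap f.base ↔
      ∀ Y' : Set Y, IsClosed Y' → IsIrreducible Y' →
        ∀ Z ∈ irreducibleComponents ↥(f.base ⁻¹' Y'), closure (f.base '' (Subtype.val '' Z)) = Y' := by
  exact top_aux f.base f.continuous

end Groth.Agent.S4587
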