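import Groth.Statements.S4588
import Groth.Agent.Lib.Helper5.EisenE

set_option autoImplicit false
universe u
open IsLocalRing
open EGA41

namespace Groth.Agent.S4588

/-- Let A be a regular local ring with maximal ideal m and residue field K, and F_i(T_i) = T_i^{d_i} +
Σ_{k<d_i} c_{ik} T_i^k (1 ≤ i ≤ r) monic one-variable polynomials of degrees d_i ≥ 2 with all
non-leading coefficients in m; put A' = A[T_1, …, T_r]/(F_1, …, F_r). Then (i) A' is local with
residue field K, and (ii) A' is regular if and only if the classes in m/m² of the constant terms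
c_{i0} are linearly independent over K. -/
theorem result {A : Type u} [CommRing A]
    [IsRegularLocalRing A] {r : ℕ} (d : Fin r → ℕ) (hd : ∀ i, 2 ≤ d i) (c : Fin r → ℕ → A)
    (hc : ∀ i k, c i k ∈ maximalIdeal A) :
    let F : Fin r → MvPolynomial (Fin r) A := fun i =>
      MvPolynomial.X i ^ d i + (Finset.range (d i)).sum fun k => MvPolynomial.C (c i k) * MvPolynomial.X i ^ k
    IsLocalRing (MvPolynomial (Fin r) A ⧸ Ideal.span (Set.range F)) ∧
    (∀ (M : Ideal (MvPolynomial (Fin r) A ⧸ Ideal.span (Set.range F))) [M.IsMaximal],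
      Function.Surjective ((Ideal.Quotient.mk M).comp (algebraMap A _))) ∧
    (IsRegularRing (MvPolynomial (Fin r) A ⧸ Ideal.span (Set.range F)) ↔
      LinearIndependent (ResidueField A) (fun i => (maximalIdeal A).toCotangent ⟨c i 0, hc i 0⟩)) := by
  intro F
  have hF : F = Groth.Agent.Lib.Helper5.SepQuot.sepPoly
      (Groth.Agent.Lib.Helper5.SepQuot.eisPoly d c) := by
    funext i
    exact (Groth.Agent.Lib.Helper5.SepQuot.sepPoly_eisPoly d c i).symm
  clear_value F
  subst hF
  have h := Groth.Agent.Lib.Helper5.SepQuot.eisPoly_isEis d c hd hc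
  have hd2 : ∀ i, 2 ≤ (Groth.Agent.Lib.Helper5.SepQuot.eisPoly d c i).natDegree := by
    intro i
    rw [Groth.Agent.Lib.Helper5.SepQuot.eisPoly_natDegree]
    exact hd i
  change IsLocalRing (Groth.Agent.Lib.Helper5.SepQuot.Q
      (Groth.Agent.Lib.Helper5.SepQuot.eisPoly d c)) ∧
    (∀ (M : Ideal (Groth.Agent.Lib.Helper5.SepQuot.Q
      (Groth.Agent.Lib.Helper5.SepQuot.eisPoly d c))) [M.IsMaximal],
      Function.Surjective ((Ideal.Quotient.mk M).comp (algebraMap A _))) ∧
    (IsRegularRing (Groth.Agent.Lib.Helper5.SepQuot.Q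
      (Groth.Agent.Lib.Helper5.SepQuot.eisPoly d c)) ↔ _)
  have hloc := h.isLocalRing
  have hN := h.isNoetherianRing
  have hfam : (fun i => (maximalIdeal A).toCotangent ⟨c i 0, hc i 0⟩) =
      (fun i => (maximalIdeal A).toCotangent (h.cx i)) := by
    funext i
    congr 1
    apply Subtype.ext
    change c i 0 = (Groth.Agent.Lib.Helper5.SepQuot.eisPoly d c i).coeff 0
    rw [Groth.Agent.Lib.Helper5.SepQuot.eisPoly_coeff d c i 0 (by have := hd i; omega)]
  refine ⟨hloc, fun M _ => h.residue_surjective M, ?_⟩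
  rw [hfam]
  constructor
  · intro hreg
    have hreg' : IsRegularLocalRing (Groth.Agent.Lib.Helper5.SepQuot.Q
        (Groth.Agent.Lib.Helper5.SepQuot.eisPoly d c)) :=
      IsRegularLocalRing.of_isRegularRing_of_isLocalRing _
    exact h.linearIndependent_of_regular hd2 hreg'
  · intro hli
    obtain ⟨_, hreg⟩ := h.regular_of_linearIndependent hli
    exact Groth.Agent.Lib.Helper5.RegCompletion.isRegularRing_of_isRegularLocalRing _

end Groth.Agent.S4588
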