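import Groth.Statements.S4590
import Mathlib.RingTheory.Flat.TorsionFree
import Mathlib.RingTheory.Flat.FaithfullyFlat.Algebra
import Mathlib.RingTheory.Polynomial.ScaleRoots
import Mathlib.RingTheory.Finiteness.Ideal
import Mathlib.Algebra.Ring.GeomSum

set_option autoImplicit false
universe u
open CAlg

namespace Groth.Agent.S4590

open Polynomial

theorem pow_sup_le {S : Type*} [CommRing S] (U V : Ideal S) (k : ℕ) :
    (U ⊔ V) ^ (k + 1) ≤ U ^ (k + 1) ⊔ V * (U ⊔ V) ^ k := by
  induction k with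
  | zero => simp
  | succ k ih =>
    rw [pow_succ' (U ⊔ V) (k + 1), Ideal.sup_mul]
    refine sup_le ?_ le_sup_right
    calc U * (U ⊔ V) ^ (k + 1) ≤ U * (U ^ (k + 1) ⊔ V * (U ⊔ V) ^ k) := Ideal.mul_mono_right ih
      _ = U ^ (k + 1 + 1) ⊔ U * (V * (U ⊔ V) ^ k) := by rw [Ideal.mul_sup, ← pow_succ']
      _ ≤ U ^ (k + 1 + 1) ⊔ V * (U ⊔ V) ^ (k + 1) := by
        refine sup_le_sup_left ?_ _
        rw [← mul_assoc, mul_comm U V, mul_assoc, pow_succ' (U ⊔ V) k]
        exact Ideal.mul_mono_right (Ideal.mul_mono_left le_sup_left)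

theorem isIntegral_div_of_pow_mem {A : Type*} [CommRing A] [IsDomain A] (K : Type*) [Field K]
    [Algebra A K] [IsFractionRing A K] (a b : A) (hb : b ≠ 0) (k : ℕ)
    (h : a ^ (k + 1) ∈ Ideal.span {b} * (Ideal.span {a} ⊔ Ideal.span {b}) ^ k) :
    IsIntegral A (algebraMap A K a / algebraMap A K b) := by
  set 𝔟 : Ideal A := Ideal.span {a} ⊔ Ideal.span {b} with h𝔟
  have hbK : algebraMap A K b ≠ 0 := by
    rwa [Ne, IsFractionRing.to_map_eq_zero_iff]
  let N : Submodule A K := Submodule.map (Algebra.linearMap A K) (𝔟 ^ k)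
  have hle : 𝔟 ^ (k + 1) ≤ Ideal.span {b} * 𝔟 ^ k := by
    refine le_trans (pow_sup_le _ _ k) (sup_le ?_ le_rfl)
    rw [Ideal.span_singleton_pow, Ideal.span_singleton_le_iff_mem]
    exact h
  refine isIntegral_of_smul_mem_submodule N ?_ ?_ _ ?_
  · intro hN
    have hbk : algebraMap A K (b ^ k) ∈ N :=
      ⟨b ^ k, Ideal.pow_mem_pow (Ideal.mem_sup_right (Ideal.mem_span_singleton_self b)) k, rfl⟩
    rw [hN, Submodule.mem_bot, map_pow] at hbk
    exact hbK (eq_zero_of_pow_eq_zero hbk)
  · refine Submodule.FG.map _ ?_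
    have : 𝔟.FG := by
      rw [h𝔟]
      exact Submodule.FG.sup ⟨{a}, by simp⟩ ⟨{b}, by simp⟩
    exact this.pow
  · rintro _ ⟨y, hy, rfl⟩
    have hay : a * y ∈ Ideal.span {b} * 𝔟 ^ k := by
      apply hle
      rw [pow_succ']
      exact Ideal.mul_mem_mul (Ideal.mem_sup_left (Ideal.mem_span_singleton_self a)) hy
    obtain ⟨y', hy', hby⟩ := Ideal.mem_span_singleton_mul.1 hay
    refine ⟨y', hy', ?_⟩
    simp only [Algebra.linearMap_apply, smul_eq_mul]
    rw [div_mul_eq_mul_div, eq_div_iff hbK, ← map_mul, ← map_mul, mul_comm y' b, hby]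


theorem pow_mem_of_sub_nilpotent {S : Type*} [CommRing S] (a b y : S) (n N : ℕ)
    (hy : y ∈ Ideal.span {b} * (Ideal.span {a} ⊔ Ideal.span {b}) ^ n)
    (hnil : (a ^ (n + 1) - y) ^ (N + 1) = 0) :
    a ^ (n + (n + 1) * N + 1) ∈
      Ideal.span {b} * (Ideal.span {a} ⊔ Ideal.span {b}) ^ (n + (n + 1) * N) := by
  set 𝔟 : Ideal S := Ideal.span {a} ⊔ Ideal.span {b} with h𝔟
  have hx₁ : a ^ (n + 1) ∈ 𝔟 ^ (n + 1) :=
    Ideal.pow_mem_pow (Ideal.mem_sup_left (Ideal.mem_span_singleton_self a)) _
  have hy' : y ∈ 𝔟 ^ (n + 1) := by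
    rw [pow_succ']
    exact Ideal.mul_mono_left le_sup_right hy
  have hu : a ^ (n + 1) - y ∈ 𝔟 ^ (n + 1) := Ideal.sub_mem _ hx₁ hy'
  have hgeom := geom_sum₂_mul (a ^ (n + 1)) (a ^ (n + 1) - y) (N + 1)
  rw [hnil, sub_zero, sub_sub_cancel] at hgeom
  have hsum : ∑ i ∈ Finset.range (N + 1), (a ^ (n + 1)) ^ i * (a ^ (n + 1) - y) ^ (N + 1 - 1 - i) ∈
      𝔟 ^ ((n + 1) * N) := by
    refine Ideal.sum_mem _ fun i hi => ?_
    rw [Finset.mem_range] at hi
    have : (n + 1) * N = (n + 1) * i + (n + 1) * (N + 1 - 1 - i) := by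
      rw [← mul_add]; congr 1; omega
    rw [this, pow_add, pow_mul, pow_mul]
    exact Ideal.mul_mem_mul (Ideal.pow_mem_pow hx₁ _) (Ideal.pow_mem_pow hu _)
  have : a ^ (n + (n + 1) * N + 1) = (a ^ (n + 1)) ^ (N + 1) := by
    rw [← pow_mul]; congr 1; ring
  rw [this, ← hgeom]
  have h2 : 𝔟 ^ ((n + 1) * N) * (Ideal.span {b} * 𝔟 ^ n) = Ideal.span {b} * 𝔟 ^ (n + (n + 1) * N) := by
    rw [← mul_assoc, mul_comm _ (Ideal.span {b}), mul_assoc, ← pow_add, add_comm]
  rw [← h2]
  exact Ideal.mul_mem_mul hsum hy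


theorem part12 {A B : Type u} [CommRing A] [IsDomain A]
    [CommRing B] [Algebra A B] [Module.FaithfullyFlat A B] :
    Function.Injective (algebraMap A (B ⧸ nilradical B)) ∧
    (∀ a : A, a ≠ 0 → algebraMap A (B ⧸ nilradical B) a ∈ nonZeroDivisors (B ⧸ nilradical B)) := by
  have hinj : Function.Injective (algebraMap A B) := FaithfulSMul.algebraMap_injective A B
  constructor
  · rw [injective_iff_map_eq_zero]
    intro a ha
    have h1 : algebraMap A B a ∈ nilradical B := Ideal.Quotient.eq_zero_iff_mem.1 ha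
    obtain ⟨n, hn⟩ := mem_nilradical.1 h1
    rw [← map_pow, map_eq_zero_iff _ hinj] at hn
    exact eq_zero_of_pow_eq_zero hn
  · intro a ha
    rw [mem_nonZeroDivisors_iff_right]
    intro c hc
    obtain ⟨c, rfl⟩ := Ideal.Quotient.mk_surjective c
    have h1 : c * algebraMap A B a ∈ nilradical B := by
      rw [← Ideal.Quotient.eq_zero_iff_mem, map_mul]
      exact hc
    obtain ⟨N, hN⟩ := mem_nilradical.1 h1
    rw [mul_pow, ← map_pow] at hN
    have hreg : IsSMulRegular B (a ^ N) :=
      Module.Flat.isSMulRegular_of_nonZeroDivisors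
        (mem_nonZeroDivisors_of_ne_zero (pow_ne_zero N ha))
    have h2 : c ^ N = 0 := by
      apply hreg
      simp only [smul_zero]
      rw [Algebra.smul_def, mul_comm]
      exact hN
    rw [Ideal.Quotient.eq_zero_iff_mem]
    exact mem_nilradical.2 ⟨N, h2⟩

theorem part3 {A B : Type u} [CommRing A] [IsDomain A]
    [CommRing B] [Algebra A B] [Module.FaithfullyFlat A B]
    (R : Type u) [CommRing R] [Algebra (B ⧸ nilradical B) R] [IsFractionRing (B ⧸ nilradical B) R]
    [Algebra A R] [IsScalarTower A (B ⧸ nilradical B) R] [Algebra (FractionRing A) R]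
    [IsScalarTower A (FractionRing A) R] (x : FractionRing A)
    (hx : IsIntegral (B ⧸ nilradical B) (algebraMap (FractionRing A) R x)) : IsIntegral A x := by
  have hinjC : Function.Injective (algebraMap A (B ⧸ nilradical B)) := part12.1
  haveI : Nontrivial (B ⧸ nilradical B) := hinjC.nontrivial
  have hinjR : Function.Injective (algebraMap (B ⧸ nilradical B) R) :=
    IsFractionRing.injective _ _
  obtain ⟨a, b, hb, rfl⟩ := IsFractionRing.div_surjective (A := A) x
  have hb0 : b ≠ 0 := nonZeroDivisors.ne_zero hb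
  have hbK : algebraMap A (FractionRing A) b ≠ 0 := by
    rwa [Ne, IsFractionRing.to_map_eq_zero_iff]
  set xK := algebraMap A (FractionRing A) a / algebraMap A (FractionRing A) b with hxK
  obtain ⟨p, hpm, hp⟩ := hx
  -- normalise the degree
  have hp'm : (p * X).Monic := hpm.mul monic_X
  have hdeg : (p * X).natDegree = p.natDegree + 1 := by
    rw [hpm.natDegree_mul monic_X, natDegree_X]
  have hp' : aeval (algebraMap (FractionRing A) R xK) (p * X) = 0 := by
    rw [map_mul, aeval_def, hp, zero_mul]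
  set n := p.natDegree with hn
  set aC := algebraMap A (B ⧸ nilradical B) a with haC
  set bC := algebraMap A (B ⧸ nilradical B) b with hbC
  have hmulR : algebraMap (B ⧸ nilradical B) R bC * algebraMap (FractionRing A) R xK =
      algebraMap (B ⧸ nilradical B) R aC := by
    rw [hbC, haC, ← IsScalarTower.algebraMap_apply A (B ⧸ nilradical B) R,
      ← IsScalarTower.algebraMap_apply A (B ⧸ nilradical B) R,
      IsScalarTower.algebraMap_apply A (FractionRing A) R,
      IsScalarTower.algebraMap_apply A (FractionRing A) R, ← map_mul, hxK,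
      mul_div_cancel₀ _ hbK]
  have hq := scaleRoots_aeval_eq_zero (r := bC) hp'
  rw [hmulR, aeval_algebraMap_apply, map_eq_zero_iff _ hinjR, coe_aeval_eq_eval] at hq
  -- the relation in `C`
  have hrelC : aC ^ (n + 1) ∈ Ideal.span {bC} * (Ideal.span {aC} ⊔ Ideal.span {bC}) ^ n := by
    rw [eval_eq_sum_range, natDegree_scaleRoots, hdeg, Finset.sum_range_succ, coeff_scaleRoots,
      hdeg, Nat.sub_self, pow_zero, mul_one] at hq
    have hlc : (p * X).coeff (n + 1) = 1 := by
      rw [← hdeg]; exact hp'm.coeff_natDegree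
    rw [hlc, one_mul] at hq
    rw [eq_neg_of_add_eq_zero_right hq]
    refine Ideal.neg_mem_iff _ |>.2 (Ideal.sum_mem _ fun i hi => ?_)
    rw [Finset.mem_range] at hi
    rw [coeff_scaleRoots, hdeg]
    have h1 : n + 1 - i = (n - i) + 1 := by omega
    have h2 : bC ^ (n - i) * aC ^ i ∈ (Ideal.span {aC} ⊔ Ideal.span {bC}) ^ n := by
      have : n = (n - i) + i := by omega
      rw [this, pow_add]
      rw [← this]
      exact Ideal.mul_mem_mul
        (Ideal.pow_mem_pow (Ideal.mem_sup_right (Ideal.mem_span_singleton_self bC)) _)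
        (Ideal.pow_mem_pow (Ideal.mem_sup_left (Ideal.mem_span_singleton_self aC)) _)
    have h3 : (p * X).coeff i * bC ^ (n + 1 - i) * aC ^ i =
        (p * X).coeff i * (bC * (bC ^ (n - i) * aC ^ i)) := by
      rw [h1, pow_succ]; ring
    rw [h3]
    exact Ideal.mul_mem_left _ _ (Ideal.mul_mem_mul (Ideal.mem_span_singleton_self bC) h2)
  -- lift to `B`
  set aB := algebraMap A B a with haB
  set bB := algebraMap A B b with hbB
  have hmap : Ideal.map (Ideal.Quotient.mk (nilradical B))
      (Ideal.span {bB} * (Ideal.span {aB} ⊔ Ideal.span {bB}) ^ n) =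
      Ideal.span {bC} * (Ideal.span {aC} ⊔ Ideal.span {bC}) ^ n := by
    rw [Ideal.map_mul, Ideal.map_pow, Ideal.map_sup, Ideal.map_span, Ideal.map_span,
      Set.image_singleton, Set.image_singleton]
    rfl
  have haCB : aC ^ (n + 1) = Ideal.Quotient.mk (nilradical B) (aB ^ (n + 1)) := by
    rw [map_pow]; rfl
  rw [← hmap, haCB, Ideal.mem_map_iff_of_surjective _ Ideal.Quotient.mk_surjective] at hrelC
  obtain ⟨y, hy, hyeq⟩ := hrelC
  have hnil : aB ^ (n + 1) - y ∈ nilradical B := by
    rw [← Ideal.Quotient.eq_zero_iff_mem, map_sub, hyeq, sub_self]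
  obtain ⟨N, hN⟩ := mem_nilradical.1 hnil
  have hN' : (aB ^ (n + 1) - y) ^ (N + 1) = 0 := by rw [pow_succ, hN, zero_mul]
  have hB := pow_mem_of_sub_nilpotent aB bB y n N hy hN'
  -- descend to `A`
  set k := n + (n + 1) * N with hk
  have hmapA : Ideal.map (algebraMap A B)
      (Ideal.span {b} * (Ideal.span {a} ⊔ Ideal.span {b}) ^ k) =
      Ideal.span {bB} * (Ideal.span {aB} ⊔ Ideal.span {bB}) ^ k := by
    rw [Ideal.map_mul, Ideal.map_pow, Ideal.map_sup, Ideal.map_span, Ideal.map_span,
      Set.image_singleton, Set.image_singleton]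
  have hA : a ^ (k + 1) ∈ Ideal.span {b} * (Ideal.span {a} ⊔ Ideal.span {b}) ^ k := by
    rw [← Ideal.comap_map_eq_self_of_faithfullyFlat (B := B)
      (Ideal.span {b} * (Ideal.span {a} ⊔ Ideal.span {b}) ^ k), Ideal.mem_comap, hmapA, map_pow]
    exact hB
  exact isIntegral_div_of_pow_mem (FractionRing A) a b hb0 k hA


/-- Let A be a domain with fraction field K, B a faithfully flat A-algebra, C = B_red and R the total
ring of fractions of C. Then A → C is injective with nonzero elements going to non-zero-divisors, so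
that K embeds in R, and an element of K is integral over C in R if and only if it is integral over
A. -/
theorem result {A B : Type u} [CommRing A] [IsDomain A]
    [CommRing B] [Algebra A B] [Module.FaithfullyFlat A B] :
    Function.Injective (algebraMap A (B ⧸ nilradical B)) ∧
    (∀ a : A, a ≠ 0 → algebraMap A (B ⧸ nilradical B) a ∈ nonZeroDivisors (B ⧸ nilradical B)) ∧
    ∀ (R : Type u) [CommRing R] [Algebra (B ⧸ nilradical B) R] [IsFractionRing (B ⧸ nilradical B) R]
      [Algebra A R] [IsScalarTower A (B ⧸ nilradical B) R] [Algebra (FractionRing A) R]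
      [IsScalarTower A (FractionRing A) R] (x : FractionRing A),
      IsIntegral (B ⧸ nilradical B) (algebraMap (FractionRing A) R x) ↔ IsIntegral A x := by
  refine ⟨part12.1, part12.2, ?_⟩
  intro R _ _ _ _ _ _ _ x
  constructor
  · exact part3 R x
  · intro hx
    have h1 : IsIntegral A (algebraMap (FractionRing A) R x) :=
      hx.map (IsScalarTower.toAlgHom A (FractionRing A) R)
    exact h1.tower_top

end Groth.Agent.S4590
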