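import Groth.Statements.S4593
-- import your own Groth.Agent.* helpers here

set_option autoImplicit false
universe u
open CategoryTheory CategoryTheory.Limits AlgebraicGeometry
open EGA41

namespace Groth.Agent.S4593

section helpers
variable {I : Type u} [SmallCategory I] [IsFiltered I]
    (B : CommRingCat.{u}) (D : I ⥤ CommRingCat.{u}) (s : (Functor.const I).obj B ⟶ D) (c : Cocone D)

omit [IsFiltered I] in
theorem F1 {i j : I} (f : i ⟶ j) : (D.map f).hom.comp (s.app i).hom = (s.app j).hom := by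
  have := s.naturality f
  simp only [Functor.const_obj_obj, Functor.const_obj_map, Category.id_comp] at this
  rw [this]
  rfl

omit [IsFiltered I] in
theorem F2 {i j : I} (f : i ⟶ j) : (c.ι.app j).hom.comp (D.map f).hom = (c.ι.app i).hom := by
  rw [← c.w f]
  rfl

theorem F3 (i i₀ : I) : (c.ι.app i).hom.comp (s.app i).hom =
    (c.ι.app i₀).hom.comp (s.app i₀).hom := by
  rw [← F2 D c (IsFiltered.leftToMax i i₀), ← F2 D c (IsFiltered.rightToMax i i₀),
    RingHom.comp_assoc, RingHom.comp_assoc, F1 B D s, F1 B D s]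

theorem map_le {i j : I} (f : i ⟶ j) (p : Ideal B) (y : D.obj i) (hy : y ∈ p.map (s.app i).hom) :
    (D.map f).hom y ∈ p.map (s.app j).hom := by
  rw [← F1 B D s f, ← Ideal.map_map]
  exact Ideal.mem_map_of_mem _ hy

theorem key (hc : IsColimit c) (i₀ : I) (p : Ideal B) (y : c.pt)
    (hy : y ∈ p.map ((c.ι.app i₀).hom.comp (s.app i₀).hom)) :
    ∃ (i : I) (y' : D.obj i), y' ∈ p.map (s.app i).hom ∧ (c.ι.app i).hom y' = y := by
  induction hy using Submodule.span_induction with
  | mem y hy =>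
    obtain ⟨q, hq, rfl⟩ := hy
    exact ⟨i₀, (s.app i₀).hom q, Ideal.mem_map_of_mem _ hq, rfl⟩
  | zero => exact ⟨i₀, 0, Ideal.zero_mem _, map_zero _⟩
  | add y₁ y₂ _ _ h₁ h₂ =>
    obtain ⟨i₁, y₁', hy₁, rfl⟩ := h₁
    obtain ⟨i₂, y₂', hy₂, rfl⟩ := h₂
    refine ⟨IsFiltered.max i₁ i₂, (D.map (IsFiltered.leftToMax i₁ i₂)).hom y₁' +
      (D.map (IsFiltered.rightToMax i₁ i₂)).hom y₂',
      Ideal.add_mem _ (map_le B D s _ p _ hy₁) (map_le B D s _ p _ hy₂), ?_⟩
    rw [map_add, ← RingHom.comp_apply, ← RingHom.comp_apply, F2, F2]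
  | smul a y _ h =>
    obtain ⟨i₁, y', hy', rfl⟩ := h
    obtain ⟨i₂, a', rfl⟩ := Concrete.isColimit_exists_rep D hc a
    refine ⟨IsFiltered.max i₁ i₂, (D.map (IsFiltered.rightToMax i₁ i₂)).hom a' *
      (D.map (IsFiltered.leftToMax i₁ i₂)).hom y',
      Ideal.mul_mem_left _ _ (map_le B D s _ p _ hy'), ?_⟩
    rw [map_mul, ← RingHom.comp_apply, ← RingHom.comp_apply, F2, F2]
    rfl

end helpers

/-- Let B be a ring, (A_i) a filtered system of B-algebras with colimit A. The image of Spec A in Spec B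
is the intersection of the images of the Spec A_i. -/
theorem result {I : Type u} [SmallCategory I] [IsFiltered I]
    (B : CommRingCat.{u}) (D : I ⥤ CommRingCat.{u}) (s : (Functor.const I).obj B ⟶ D) (c : Cocone D)
    (hc : IsColimit c) (i₀ : I) :
    Set.range (Spec.map (s.app i₀ ≫ c.ι.app i₀)).base = ⋂ i : I, Set.range (Spec.map (s.app i)).base := by
  have hcomp : ∀ i, s.app i ≫ c.ι.app i = s.app i₀ ≫ c.ι.app i₀ := by
    intro i
    ext1
    exact F3 B D s c i i₀
  ext x
  simp only [Set.mem_iInter]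
  constructor
  · rintro ⟨y, rfl⟩ i
    refine ⟨(Spec.map (c.ι.app i)).base y, ?_⟩
    rw [← hcomp i, Spec.map_comp]
    rfl
  · intro h
    obtain ⟨x, rfl⟩ : ∃ p : PrimeSpectrum B, p = x := ⟨x, rfl⟩
    have h' : ∀ i, x ∈ Set.range (PrimeSpectrum.comap (s.app i).hom) := h
    change x ∈ Set.range (PrimeSpectrum.comap (s.app i₀ ≫ c.ι.app i₀).hom)
    rw [PrimeSpectrum.mem_range_comap_iff]
    refine le_antisymm ?_ Ideal.le_comap_map
    intro b hb
    rw [Ideal.mem_comap] at hb
    have hb' : (c.ι.app i₀).hom ((s.app i₀).hom b) ∈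
        x.asIdeal.map ((c.ι.app i₀).hom.comp (s.app i₀).hom) := hb
    obtain ⟨i, y', hy', hy⟩ := key B D s c hc i₀ x.asIdeal _ hb'
    have h1 : (c.ι.app i).hom y' = (c.ι.app i).hom ((s.app i).hom b) := by
      rw [hy, ← RingHom.comp_apply, ← RingHom.comp_apply, F3 B D s c i i₀]
    obtain ⟨k, f, g, hfg⟩ := Concrete.isColimit_exists_of_rep_eq D hc y' ((s.app i).hom b) h1
    have h2 : (D.map g).hom ((s.app i).hom b) = (s.app k).hom b := by
      rw [← RingHom.comp_apply, F1 B D s g]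
    have h3 : (s.app k).hom b ∈ x.asIdeal.map (s.app k).hom := by
      rw [← h2]
      change (D.map g) ((s.app i).hom b) ∈ _
      rw [← hfg]
      exact map_le B D s f x.asIdeal y' hy'
    have h4 := (PrimeSpectrum.mem_range_comap_iff (s.app k).hom).mp (h' k)
    rw [← h4]
    exact h3

end Groth.Agent.S4593
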