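import Groth.Statements.S4595
import Groth.Agent.Lib.Helper5.CotTensor
import Groth.Agent.Lib.Helper5.CotIndex
import Groth.Agent.Lib.Helper5.FrobQuotLocal
import Groth.Agent.Lib.Helper5.LinIndepBase

set_option autoImplicit false
universe u
open TensorProduct IsLocalRing
open EGA41

namespace Groth.Agent.S4595

open Groth.Agent.Lib.Helper5

attribute [local instance 100000] Ring.toIntAlgebra

section Aux

variable {A B' : Type u} [CommRing A] (p : ℕ) {r : ℕ} (f : Fin r → A) [CommRing B'] [Algebra A B']
  [Algebra (MvPolynomial (Fin r) A) B'] [IsScalarTower A (MvPolynomial (Fin r) A) B']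

lemma algebraMap_X_pow
    (hker : RingHom.ker (algebraMap (MvPolynomial (Fin r) A) B') =
      Ideal.span (Set.range fun i => MvPolynomial.X i ^ p - MvPolynomial.C (f i))) (i : Fin r) :
    (algebraMap (MvPolynomial (Fin r) A) B' (MvPolynomial.X i)) ^ p = algebraMap A B' (f i) := by
  have h1 : (MvPolynomial.X i ^ p - MvPolynomial.C (f i) : MvPolynomial (Fin r) A) ∈
      RingHom.ker (algebraMap (MvPolynomial (Fin r) A) B') := by
    rw [hker]
    exact Ideal.subset_span ⟨i, rfl⟩
  rw [RingHom.mem_ker, map_sub, sub_eq_zero, map_pow] at h1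
  rw [h1, ← MvPolynomial.algebraMap_eq, ← IsScalarTower.algebraMap_apply]

lemma adjoin_algebraMap_X (hsurj : Function.Surjective (algebraMap (MvPolynomial (Fin r) A) B')) :
    Algebra.adjoin A (Set.range fun i : Fin r =>
      algebraMap (MvPolynomial (Fin r) A) B' (MvPolynomial.X i)) = ⊤ := by
  have h1 : (Algebra.adjoin A (Set.range (MvPolynomial.X : Fin r → MvPolynomial (Fin r) A))).map
      (IsScalarTower.toAlgHom A (MvPolynomial (Fin r) A) B') = ⊤ := by
    rw [MvPolynomial.adjoin_range_X, Algebra.map_top, AlgHom.range_eq_top]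
    exact hsurj
  rw [AlgHom.map_adjoin, ← Set.range_comp] at h1
  exact h1

lemma nontrivial_of_ker [IsLocalRing A] [Fact p.Prime]
    (hker : RingHom.ker (algebraMap (MvPolynomial (Fin r) A) B') =
      Ideal.span (Set.range fun i => MvPolynomial.X i ^ p - MvPolynomial.C (f i))) :
    Nontrivial B' := by
  refine ⟨⟨0, 1, fun h => ?_⟩⟩
  have h1 : (1 : MvPolynomial (Fin r) A) ∈
      RingHom.ker (algebraMap (MvPolynomial (Fin r) A) B') := by
    rw [RingHom.mem_ker, map_one]
    exact h.symm
  rw [hker] at h1
  exact FrobQuotLocal.span_rel_ne_top p f ((Ideal.eq_top_iff_one _).2 h1)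

theorem result_aux [IsArtinianRing A] [IsLocalRing A] (hm : maximalIdeal A ^ 2 = ⊥) [Fact p.Prime]
    [CharP A p] (hsurj : Function.Surjective (algebraMap (MvPolynomial (Fin r) A) B'))
    (hker : RingHom.ker (algebraMap (MvPolynomial (Fin r) A) B') =
      Ideal.span (Set.range fun i => MvPolynomial.X i ^ p - MvPolynomial.C (f i))) :
    ∃ _ : IsLocalRing B',
      (Module.finrank (ResidueField A) (CotangentSpace A) =
        Module.finrank (ResidueField B') (CotangentSpace B') ↔
        LinearIndependent (ResidueField A)
          (fun i => (1 : ResidueField A) ⊗ₜ[A] KaehlerDifferential.D ℤ A (f i))) := by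
  have hp : 0 < p := (Fact.out : p.Prime).pos
  have hnt : Nontrivial B' := nontrivial_of_ker p f hker
  have hpow : ∀ b : B', ∃ a : A, b ^ p = algebraMap A B' a :=
    FrobQuotLocal.exists_pow_eq p f
      (fun i => algebraMap (MvPolynomial (Fin r) A) B' (MvPolynomial.X i))
      (algebraMap_X_pow p f hker) (adjoin_algebraMap_X hsurj)
  have hloc : IsLocalRing B' := FrobQuotLocal.isLocalRing hm p hp hpow
  refine ⟨hloc, ?_⟩
  have hlh : IsLocalHom (algebraMap A B') := FrobQuotLocal.isLocalHom hm
  have hint : Algebra.IsIntegral A B' := FrobQuotLocal.isIntegral p hp hpow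
  have hft : Algebra.FiniteType A B' :=
    Algebra.FiniteType.of_surjective (IsScalarTower.toAlgHom A (MvPolynomial (Fin r) A) B') hsurj
  have hfin : Module.Finite A B' := Algebra.IsIntegral.finite
  have hnoeth : IsNoetherianRing B' := isNoetherianRing_of_surjective _ _ _ hsurj
  let _ : Algebra (ZMod p) A := ZMod.algebra A p
  let _ : Algebra (ZMod p) B' := ((algebraMap A B').comp (algebraMap (ZMod p) A)).toAlgebra
  obtain ⟨eA⟩ := CotTensor.nonempty_cotangentSpace_equiv p A
  obtain ⟨eB⟩ := CotTensor.nonempty_cotangentSpace_equiv p B'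
  have _ : FiniteDimensional (ResidueField A)
      (LinearMap.ker (KaehlerDifferential.mapBaseChange ℤ A (ResidueField A))) :=
    Module.Finite.equiv eA
  have _ : FiniteDimensional (ResidueField B')
      (LinearMap.ker (KaehlerDifferential.mapBaseChange ℤ B' (ResidueField B'))) :=
    Module.Finite.equiv eB
  have hpK' : (p : ResidueField B') = 0 := by
    have : (p : ResidueField B') = algebraMap A (ResidueField B') (p : A) := by rw [map_natCast]
    rw [this, CharP.cast_eq_zero, map_zero]
  have hmain := CotIndex.main (A := A) (K := ResidueField A) (B := B') (K' := ResidueField B')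
    p hpK' f IsLocalRing.residue_surjective hsurj IsLocalRing.residue_surjective hker
  rw [eA.finrank_eq, eB.finrank_eq]
  have hLI : LinearIndependent (ResidueField A)
      (fun i => (1 : ResidueField A) ⊗ₜ[A] KaehlerDifferential.D ℤ A (f i)) ↔
      LinearIndependent (ResidueField B')
        (fun i => (1 : ResidueField B') ⊗ₜ[A] KaehlerDifferential.D ℤ A (f i)) := by
    rw [← LinIndepBase.linearIndependent_tmul_iff (K' := ResidueField B')]
    set e' := TensorProduct.AlgebraTensorModule.cancelBaseChange A (ResidueField A)
      (ResidueField B') (ResidueField B') Ω[A⁄ℤ] with he'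
    rw [← LinearMap.linearIndependent_iff e'.toLinearMap e'.ker]
    have : (⇑e'.toLinearMap ∘ fun i => (1 : ResidueField B') ⊗ₜ[ResidueField A]
        ((1 : ResidueField A) ⊗ₜ[A] KaehlerDifferential.D ℤ A (f i))) =
        fun i => (1 : ResidueField B') ⊗ₜ[A] KaehlerDifferential.D ℤ A (f i) := by
      funext i
      rw [Function.comp_apply, LinearEquiv.coe_coe, he',
        TensorProduct.AlgebraTensorModule.cancelBaseChange_tmul, one_smul]
    rw [this]
  rw [hLI, linearIndependent_iff_card_eq_finrank_span, Set.finrank, Fintype.card_fin]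
  rw [Fintype.card_fin] at hmain
  constructor
  · intro h
    rw [h] at hmain
    have : (Module.finrank (ResidueField B') (Submodule.span (ResidueField B')
        (Set.range fun i => (1 : ResidueField B') ⊗ₜ[A] KaehlerDifferential.D ℤ A (f i))) : ℤ) =
        r := by linarith
    exact_mod_cast this.symm
  · intro h
    rw [← h] at hmain
    have : (Module.finrank (ResidueField B') (LinearMap.ker
        (KaehlerDifferential.mapBaseChange ℤ B' (ResidueField B'))) : ℤ) =
        Module.finrank (ResidueField A) (LinearMap.ker
        (KaehlerDifferential.mapBaseChange ℤ A (ResidueField A))) := by linarith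
    exact_mod_cast this.symm

end Aux

/-- Let A be an Artinian local ring of characteristic p > 0 with maximal ideal m of square zero and
residue field K, f_1, …, f_r ∈ A, and B = A[T_1, …, T_r]/(T_1^p − f_1, …, T_r^p − f_r). Then B is
local, and dim_K m = dim_{K'}(m'/m'²) (m', K' the maximal ideal and residue field of B) if and only
if the d f_i ⊗ 1 are linearly independent in Ω_A ⊗_A K. -/
theorem result {A : Type u} [CommRing A]
    [IsArtinianRing A] [IsLocalRing A] (hm : maximalIdeal A ^ 2 = ⊥) (p : ℕ) [Fact p.Prime] [CharP A p]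
    {r : ℕ} (f : Fin r → A) :
    let B := MvPolynomial (Fin r) A ⧸ Ideal.span (Set.range fun i => MvPolynomial.X i ^ p - MvPolynomial.C (f i))
    ∃ _ : IsLocalRing B,
      (Module.finrank (ResidueField A) (CotangentSpace A) = Module.finrank (ResidueField B) (CotangentSpace B) ↔
        LinearIndependent (ResidueField A) (fun i => (1 : ResidueField A) ⊗ₜ[A] KaehlerDifferential.D ℤ A (f i))) := by
  intro B
  have hker : RingHom.ker (algebraMap (MvPolynomial (Fin r) A)
      (MvPolynomial (Fin r) A ⧸ Ideal.span (Set.range fun i =>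
        (MvPolynomial.X i : MvPolynomial (Fin r) A) ^ p - MvPolynomial.C (f i)))) =
      Ideal.span (Set.range fun i => MvPolynomial.X i ^ p - MvPolynomial.C (f i)) := by
    rw [Ideal.Quotient.algebraMap_eq, Ideal.mk_ker]
  exact result_aux p f hm Ideal.Quotient.mk_surjective hker

end Groth.Agent.S4595
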