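import Groth.Statements.S4597
import Mathlib.AlgebraicGeometry.PullbackCarrier
-- import your own Groth.Agent.* helpers here

set_option autoImplicit false
universe u
open AlgebraicGeometry CategoryTheory CategoryTheory.Limits
open EGA41

namespace Groth.Agent.S4597

/-- Let f : X → Y, g : Y' → Y and f' : X ×_Y Y' → Y' the base change. If g is quasi-compact surjective
and f' quasi-compact, f is quasi-compact; if g is surjective and f' dominant, f is dominant. -/
theorem result {X Y Y' : Scheme.{u}} (f : X ⟶ Y)
    (g : Y' ⟶ Y) [Surjective g] :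
    (QuasiCompact g → QuasiCompact (pullback.snd f g) → QuasiCompact f) ∧
    (IsDominant (pullback.snd f g) → IsDominant f) := by
  refine ⟨fun hg hf' ↦ ⟨fun U hU hUc ↦ ?_⟩, fun hd ↦ ⟨?_⟩⟩
  · have hfst : Function.Surjective (pullback.fst f g) := (pullback.fst f g).surjective
    have h1 : IsCompact (g ⁻¹' U) := hg.isCompact_preimage U hU hUc
    have h1o : IsOpen (g ⁻¹' U) := hU.preimage g.continuous
    have h2 : IsCompact ((pullback.snd f g) ⁻¹' (g ⁻¹' U)) := hf'.isCompact_preimage _ h1o h1
    have h3 : f ⁻¹' U = (pullback.fst f g) '' ((pullback.snd f g) ⁻¹' (g ⁻¹' U)) := by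
      have h4 : (pullback.snd f g) ⁻¹' (g ⁻¹' U) = (pullback.fst f g) ⁻¹' (f ⁻¹' U) := by
        rw [← Set.preimage_comp, ← Set.preimage_comp, ← TopCat.coe_comp, ← TopCat.coe_comp,
          ← Scheme.Hom.comp_base, ← Scheme.Hom.comp_base, pullback.condition]
      rw [h4, Set.image_preimage_eq _ hfst]
    rw [h3]
    exact h2.image (pullback.fst f g).continuous
  · have h1 : DenseRange (pullback.snd f g ≫ g) := by
      rw [Scheme.Hom.comp_base]
      exact (g.surjective.denseRange).comp hd.denseRange g.continuous
    rw [← pullback.condition] at h1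
    exact h1.mono (Set.range_comp_subset_range _ _)

end Groth.Agent.S4597
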