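import Groth.Statements.S4598
import Mathlib.AlgebraicGeometry.PullbackCarrier
import Mathlib.CategoryTheory.MorphismProperty.Descent
-- import your own Groth.Agent.* helpers here

set_option autoImplicit false
universe u
open AlgebraicGeometry CategoryTheory CategoryTheory.Limits
open EGA41

namespace Groth.Agent.S4598

/-- If g : Y' → Y is quasi-compact and surjective and the base change X ×_Y Y' → Y' of f : X → Y is
quasi-separated, then f is quasi-separated. -/
theorem result {X Y Y' : Scheme.{u}} (f : X ⟶ Y)
    (g : Y' ⟶ Y) [QuasiCompact g] [Surjective g] [QuasiSeparated (pullback.snd f g)] :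
    QuasiSeparated f := by
  have h : MorphismProperty.DescendsAlong @QuasiCompact (@Surjective ⊓ @QuasiCompact) := by
    apply MorphismProperty.DescendsAlong.mk'
    intro X Y Z f g _ ⟨hs, hq⟩ hfst
    refine ⟨fun U hU hUc ↦ ?_⟩
    have hsnd : Function.Surjective (pullback.snd f g) := by
      have := hs
      exact (pullback.snd f g).surjective
    have h1 : IsCompact (f ⁻¹' U) := hq.isCompact_preimage U hU hUc
    have h1o : IsOpen (f ⁻¹' U) := hU.preimage f.continuous
    have h2 : IsCompact ((pullback.fst f g) ⁻¹' (f ⁻¹' U)) := hfst.isCompact_preimage _ h1o h1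
    have h4 : (pullback.fst f g) ⁻¹' (f ⁻¹' U) = (pullback.snd f g) ⁻¹' (g ⁻¹' U) := by
      rw [← Set.preimage_comp, ← Set.preimage_comp, ← TopCat.coe_comp, ← TopCat.coe_comp,
        ← Scheme.Hom.comp_base, ← Scheme.Hom.comp_base, pullback.condition]
    have h3 : g ⁻¹' U = (pullback.snd f g) '' ((pullback.fst f g) ⁻¹' (f ⁻¹' U)) := by
      rw [h4, Set.image_preimage_eq _ hsnd]
    rw [h3]
    exact h2.image (pullback.snd f g).continuous
  have h2 : MorphismProperty.DescendsAlong (MorphismProperty.diagonal @QuasiCompact)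
      (@Surjective ⊓ @QuasiCompact) := inferInstance
  rw [quasiSeparated_eq_diagonal_is_quasiCompact] at *
  exact MorphismProperty.of_pullback_snd_of_descendsAlong
    (P := MorphismProperty.diagonal @QuasiCompact) (Q := @Surjective ⊓ @QuasiCompact)
    ⟨‹_›, ‹_›⟩ ‹_›

end Groth.Agent.S4598
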