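import Groth.Statements.S4600
import Mathlib.CategoryTheory.Limits.ConcreteCategory.Basic
import Mathlib.RingTheory.Extension.Presentation.Basic
-- import your own Groth.Agent.* helpers here

set_option autoImplicit false
universe u
open CategoryTheory CategoryTheory.Limits TensorProduct
open EGA41

namespace Groth.Agent.S4600

lemma map_comp_w {I : Type u} [SmallCategory I] (D : I ⥤ CommRingCat.{u}) (c : Cocone D)
    {σ : Type*} {i k : I} (f : i ⟶ k) (q : MvPolynomial σ (D.obj i)) :
    MvPolynomial.map (c.ι.app k).hom (MvPolynomial.map (D.map f).hom q) =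
      MvPolynomial.map (c.ι.app i).hom q := by
  rw [MvPolynomial.map_map, ← CommRingCat.hom_comp, c.w f]

lemma exists_lift {I : Type u} [SmallCategory I] [IsFiltered I]
    (D : I ⥤ CommRingCat.{u}) (c : Cocone D) (hc : IsColimit c) {σ : Type*}
    (p : MvPolynomial σ c.pt) :
    ∃ (i : I) (q : MvPolynomial σ (D.obj i)), MvPolynomial.map (c.ι.app i).hom q = p := by
  induction p using MvPolynomial.induction_on with
  | C a =>
    obtain ⟨i, a', rfl⟩ := Concrete.isColimit_exists_rep D hc a
    exact ⟨i, MvPolynomial.C a', by simp⟩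
  | add p p' hp hp' =>
    obtain ⟨i, q, rfl⟩ := hp
    obtain ⟨j, q', rfl⟩ := hp'
    refine ⟨IsFiltered.max i j, MvPolynomial.map (D.map (IsFiltered.leftToMax i j)).hom q +
      MvPolynomial.map (D.map (IsFiltered.rightToMax i j)).hom q', ?_⟩
    rw [map_add, map_comp_w, map_comp_w]
  | mul_X p x hp =>
    obtain ⟨i, q, rfl⟩ := hp
    exact ⟨i, q * MvPolynomial.X x, by simp⟩

/-- Let (A_i) be a filtered system of rings with colimit A and B a finitely presented A-algebra. Then
some stage A_i carries a finitely presented algebra B_i with B isomorphic to A ⊗_{A_i} B_i as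
A-algebras (existence of an isomorphism; the base change is along the colimit map A_i → A). -/
theorem result {I : Type u} [SmallCategory I] [IsFiltered I]
    (D : I ⥤ CommRingCat.{u}) (c : Cocone D) (hc : IsColimit c) (B : Type u) [CommRing B] [Algebra c.pt B]
    [Algebra.FinitePresentation c.pt B] :
    ∃ (i : I) (Bi : Type u) (_ : CommRing Bi) (_ : Algebra (D.obj i) Bi),
      Algebra.FinitePresentation (D.obj i) Bi ∧
      (letI : Algebra (D.obj i) c.pt := (c.ι.app i).hom.toAlgebra
       Nonempty (B ≃ₐ[c.pt] (c.pt ⊗[D.obj i] Bi))) := by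
  classical
  obtain ⟨n, m, ⟨P⟩⟩ := Algebra.Presentation.exists_presentation_fin c.pt B
  choose ι q hq using fun j : Fin m ↦ exists_lift D c hc (P.relation j)
  obtain ⟨S, hS⟩ := IsFiltered.sup_objs_exists (Finset.univ.image ι)
  have hS' : ∀ j : Fin m, Nonempty (ι j ⟶ S) := fun j ↦
    hS (Finset.mem_image_of_mem ι (Finset.mem_univ j))
  have f : ∀ j : Fin m, ι j ⟶ S := fun j ↦ (hS' j).some
  let g : Fin m → MvPolynomial (Fin n) (D.obj S) := fun j ↦
    MvPolynomial.map (D.map (f j)).hom (q j)
  have hg : ∀ j, MvPolynomial.map (c.ι.app S).hom (g j) = P.relation j := fun j ↦ by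
    rw [map_comp_w, hq]
  refine ⟨S, MvPolynomial (Fin n) (D.obj S) ⧸ Ideal.span (Set.range g), inferInstance,
    inferInstance, ?_, ?_⟩
  · exact (Algebra.Presentation.naive (v := g)).finitePresentation_of_isFinite
  · letI : Algebra (D.obj S) c.pt := (c.ι.app S).hom.toAlgebra
    let Q := (Algebra.Presentation.naive (v := g)).baseChange c.pt
    have hker : P.ker = Q.ker := by
      rw [← P.span_range_relation_eq_ker, ← Q.span_range_relation_eq_ker]
      congr 2
      funext j
      exact (hg j).symm
    exact ⟨(P.quotientEquiv.restrictScalars c.pt).symm.trans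
      ((Ideal.quotientEquivAlgOfEq c.pt hker).trans (Q.quotientEquiv.restrictScalars c.pt))⟩

end Groth.Agent.S4600
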