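import Groth.Statements.S4601
import Mathlib.LinearAlgebra.TensorProduct.RightExactness
import Mathlib.RingTheory.Flat.Localization
import Mathlib.RingTheory.Flat.Stability
import Mathlib.LinearAlgebra.Basis.VectorSpace
-- import your own Groth.Agent.* helpers here

set_option autoImplicit false
universe u
open TensorProduct
open CAlg

namespace Groth.Agent.S4601

/-- Let A be a domain with fraction field K, B a Noetherian A-algebra which is flat over A, K' an
extension field of K, B₁ = B_red and R its total ring of fractions. For every sub-A-algebra A' of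
K', the map (A' ⊗_A B)_red → (K' ⊗_A R)_red is injective, i.e. an element of A' ⊗_A B with nilpotent
image in K' ⊗_A R is nilpotent. -/
theorem result {A B K' R : Type u} [CommRing A]
    [IsDomain A] [CommRing B] [Algebra A B] [IsNoetherianRing B] [Module.Flat A B]
    [Field K'] [Algebra A K'] [Algebra (FractionRing A) K'] [IsScalarTower A (FractionRing A) K']
    [CommRing R] [Algebra (B ⧸ nilradical B) R] [IsFractionRing (B ⧸ nilradical B) R]
    [Algebra B R] [IsScalarTower B (B ⧸ nilradical B) R] [Algebra A R] [IsScalarTower A B R]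
    (A' : Subalgebra A K') (x : ↥A' ⊗[A] B)
    (hx : IsNilpotent (Algebra.TensorProduct.map A'.val (IsScalarTower.toAlgHom A B R) x)) :
    IsNilpotent x := by
  have hst : IsScalarTower A (B ⧸ nilradical B) R := IsScalarTower.of_algebraMap_eq (fun a ↦ by
    rw [IsScalarTower.algebraMap_apply A B R, IsScalarTower.algebraMap_apply B (B ⧸ nilradical B) R,
      ← IsScalarTower.algebraMap_apply A B (B ⧸ nilradical B)])
  let f1 : ↥A' ⊗[A] B →ₐ[A] K' ⊗[A] B := Algebra.TensorProduct.map A'.val (AlgHom.id A B)
  let f2 : K' ⊗[A] B →ₐ[A] K' ⊗[A] (B ⧸ nilradical B) :=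
    Algebra.TensorProduct.map (AlgHom.id A K') (IsScalarTower.toAlgHom A B (B ⧸ nilradical B))
  let f3 : K' ⊗[A] (B ⧸ nilradical B) →ₐ[A] K' ⊗[A] R :=
    Algebra.TensorProduct.map (AlgHom.id A K') (IsScalarTower.toAlgHom A (B ⧸ nilradical B) R)
  have hcomp : ∀ y, Algebra.TensorProduct.map A'.val (IsScalarTower.toAlgHom A B R) y =
      f3 (f2 (f1 y)) := by
    intro y
    induction y using TensorProduct.induction_on with
    | zero => simp
    | tmul a b =>
      simp only [f1, f2, f3, Algebra.TensorProduct.map_tmul, AlgHom.coe_id, id_eq,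
        IsScalarTower.coe_toAlgHom']
      rw [← IsScalarTower.algebraMap_apply B (B ⧸ nilradical B) R]
    | add y z hy hz => simp only [map_add, hy, hz]
  have hfree : Module.Free (FractionRing A) K' := Module.Free.of_divisionRing _ _
  have hflat : Module.Flat A K' := Module.Flat.trans A (FractionRing A) K'
  have h1 : Function.Injective f1 :=
    Module.Flat.rTensor_preserves_injective_linearMap (M := B) A'.val.toLinearMap
      Subtype.val_injective
  have h3 : Function.Injective f3 :=
    Module.Flat.lTensor_preserves_injective_linearMap (M := K')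
      (IsScalarTower.toAlgHom A (B ⧸ nilradical B) R).toLinearMap
      (IsFractionRing.injective (B ⧸ nilradical B) R)
  rw [hcomp, IsNilpotent.map_iff h3] at hx
  rw [← IsNilpotent.map_iff h1]
  obtain ⟨n, hn⟩ := hx
  rw [← map_pow] at hn
  have hker : (f1 x) ^ n ∈ RingHom.ker f2 := hn
  have hsurj : Function.Surjective (IsScalarTower.toAlgHom A B (B ⧸ nilradical B)) :=
    Ideal.Quotient.mk_surjective
  rw [Algebra.TensorProduct.lTensor_ker _ hsurj] at hker
  have hle : (RingHom.ker (IsScalarTower.toAlgHom A B (B ⧸ nilradical B))).map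
      (Algebra.TensorProduct.includeRight : B →ₐ[A] K' ⊗[A] B) ≤ nilradical (K' ⊗[A] B) := by
    rw [Ideal.map_le_iff_le_comap]
    intro b hb
    have hb' : b ∈ nilradical B := by
      have : Ideal.Quotient.mk (nilradical B) b = 0 := hb
      rwa [Ideal.Quotient.eq_zero_iff_mem] at this
    exact (mem_nilradical.mp hb').map _
  exact (mem_nilradical.mp (hle hker)).of_pow

end Groth.Agent.S4601
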