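import Groth.Statements.S4603
import Mathlib.AlgebraicGeometry.Properties
-- import your own Groth.Agent.* helpers here

set_option autoImplicit false
universe u
open AlgebraicGeometry CategoryTheory
open EGA41

namespace Groth.Agent.S4603

lemma exists_maximal_generization {α : Type*} [TopologicalSpace α] [QuasiSober α] [T0Space α]
    (x : α) : ∃ η : α, η ⤳ x ∧ ∀ η' : α, η' ⤳ η → η' = η := by
  obtain ⟨η, hη⟩ := QuasiSober.sober (isIrreducible_irreducibleComponent (x := x))
    isClosed_irreducibleComponent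
  refine ⟨η, ?_, fun η' h ↦ ?_⟩
  · rw [specializes_iff_mem_closure, hη.def]
    exact mem_irreducibleComponent
  · have h1 : closure {η} ⊆ closure {η'} := by
      rw [← specializes_iff_closure_subset]
      exact h
    rw [hη.def] at h1
    have h2 := eq_irreducibleComponent (isIrreducible_singleton (x := η')).closure.isPreirreducible h1
    have h3 : η ⤳ η' := by
      rw [specializes_iff_mem_closure, hη.def, ← h2]
      exact subset_closure rfl
    exact (h.antisymm h3).eq

lemma mem_range_of_maximal {X Y : Scheme.{u}} (f : X ⟶ Y) [QuasiCompact f] [IsDominant f]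
    (y : Y) (hy : ∀ y' : Y, y' ⤳ y → y' = y) : y ∈ Set.range f := by
  wlog hY : ∃ R, Y = Spec R
  · obtain ⟨i, y₀, rfl⟩ := Y.affineCover.exists_eq y
    have _ : QuasiCompact (Y.affineCover.pullbackHom f i) := MorphismProperty.pullback_snd _ _ ‹_›
    have _ : IsDominant (Y.affineCover.pullbackHom f i) :=
      IsZariskiLocalAtTarget.of_isPullback (P := @IsDominant) (.of_hasPullback _ _) ‹_›
    obtain ⟨z, hz⟩ := this (Y.affineCover.pullbackHom f i) y₀ (fun y' hy' ↦
      (Y.affineCover.f i).isOpenEmbedding.injective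
        (hy _ (hy'.map (Y.affineCover.f i).continuous))) ⟨_, rfl⟩
    refine ⟨(Limits.pullback.fst f (Y.affineCover.f i)) z, ?_⟩
    rw [← hz, ← Scheme.Hom.comp_apply, ← Scheme.Hom.comp_apply]
    have hc : Limits.pullback.fst f (Y.affineCover.f i) ≫ f =
        Y.affineCover.pullbackHom f i ≫ Y.affineCover.f i := Limits.pullback.condition
    rw [hc]
    rfl
  obtain ⟨S, rfl⟩ := hY
  wlog hX : ∃ R, X = Spec R
  · obtain ⟨R, g, hg⟩ := compactSpace_iff_exists.mp (QuasiCompact.compactSpace_of_compactSpace f)
    have inst : QuasiCompact (g ≫ f) := HasAffineProperty.iff_of_isAffine.mpr (by infer_instance)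
    have hgs : Surjective g := ⟨hg⟩
    have hgd : IsDominant (g ≫ f) := inferInstance
    obtain ⟨z, hz⟩ := this _ (g ≫ f) y hy ⟨_, rfl⟩
    exact ⟨g z, by simpa using hz⟩
  obtain ⟨R, rfl⟩ := hX
  obtain ⟨φ, rfl⟩ := Spec.map_surjective f
  have hd : DenseRange (PrimeSpectrum.comap φ.hom) := IsDominant.denseRange (f := Spec.map φ)
  have hmin : y.asIdeal ∈ minimalPrimes S := by
    refine ⟨⟨y.isPrime, bot_le⟩, fun q hq hqy ↦ ?_⟩
    have := hy ⟨q, hq.1⟩ ((PrimeSpectrum.le_iff_specializes _ _).mp hqy)
    rw [← this]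
  exact (PrimeSpectrum.denseRange_comap_iff_minimalPrimes φ.hom).mp hd y.asIdeal hmin

/-- Let f : X → Y be quasi-compact. The following are equivalent: f is dominant; the fibre of f over
every maximal point of Y (a point with no proper generization, i.e. the generic point of an
irreducible component) is nonempty; every maximal point of Y is the image of a maximal point of X. -/
theorem result {X Y : Scheme.{u}} (f : X ⟶ Y) [QuasiCompact f] :
    [IsDominant f,
     ∀ y : Y, (∀ y' : Y, y' ⤳ y → y' = y) → y ∈ Set.range f.base,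
     ∀ y : Y, (∀ y' : Y, y' ⤳ y → y' = y) → ∃ x : X, (∀ x' : X, x' ⤳ x → x' = x) ∧ f.base x = y].TFAE := by
  tfae_have 1 → 2 := fun h y hy ↦ mem_range_of_maximal f y hy
  tfae_have 2 → 1 := by
    intro h
    refine ⟨fun y ↦ ?_⟩
    obtain ⟨η, hη, hmax⟩ := exists_maximal_generization y
    exact hη.mem_closed isClosed_closure (subset_closure (h η hmax))
  tfae_have 3 → 2 := by
    intro h y hy
    obtain ⟨x, -, hx⟩ := h y hy
    exact ⟨x, hx⟩
  tfae_have 2 → 3 := by
    intro h y hy
    obtain ⟨x, rfl⟩ := h y hy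
    obtain ⟨η, hη, hmax⟩ := exists_maximal_generization x
    exact ⟨η, hmax, hy _ (hη.map f.continuous)⟩
  tfae_finish

end Groth.Agent.S4603
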