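import Groth.Statements.S4606
import Groth.Agent.S2463
import Groth.Agent.Lib.Helper5.LocalCrit
import Groth.Agent.Lib.Helper5.AdicBase
import Mathlib.RingTheory.RingHom.Surjective

set_option autoImplicit false
universe u
open TensorProduct KaehlerDifferential IsLocalRing
open EGA41

namespace Groth.Agent.S4606

/-- Let B be a Noetherian A-algebra formally smooth for the discrete topologies, B → C a surjection with
kernel J, p a prime of C and q its contraction to A. Then C_p is formally smooth over A_q (A_q
discrete, C_p with the adic topology of its maximal ideal) if and only if κ(p) ⊗ J/J² → κ(p) ⊗ (C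
⊗_B Ω_{B/A}) is injective. (The equivalent variant with the q-adic topology on A_q is not stated.) -/
theorem result {A B C : Type u} [CommRing A]
    [CommRing B] [CommRing C] [Algebra A B] [Algebra B C] [Algebra A C] [IsScalarTower A B C] [IsNoetherianRing B]
    [Algebra.FormallySmooth A B] (hsurj : Function.Surjective (algebraMap B C)) (p : Ideal C) [p.IsPrime]
    [Algebra (Localization.AtPrime (p.comap (algebraMap A C))) (Localization.AtPrime p)]
    [IsScalarTower A (Localization.AtPrime (p.comap (algebraMap A C))) (Localization.AtPrime p)] :
    CAlgX.IsAdicFormallySmooth (Localization.AtPrime (p.comap (algebraMap A C))) (Localization.AtPrime p)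
        (maximalIdeal (Localization.AtPrime p)) ↔
      Function.Injective ((kerCotangentToTensor A B C).lTensor p.ResidueField) := by
  have hfinJ : Module.Finite B (RingHom.ker (algebraMap B C)) :=
    Module.Finite.iff_fg.2 (IsNoetherian.noetherian _)
  have _ : Module.Finite B (RingHom.ker (algebraMap B C)).Cotangent :=
    Module.Finite.of_surjective (RingHom.ker (algebraMap B C)).toCotangent
      (Ideal.toCotangent_surjective _)
  have htfae := Groth.Agent.S2463.result (A := A) hsurj p
  have h12 : Algebra.FormallySmooth A (Localization.AtPrime p) ↔
      Function.Injective ((kerCotangentToTensor A B C).lTensor p.ResidueField) := htfae.out 0 1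
  rw [← h12]
  constructor
  · intro hadic
    have hadicA : CAlgX.IsAdicFormallySmooth A (Localization.AtPrime p)
        (maximalIdeal (Localization.AtPrime p)) :=
      Lib.Helper5.AdicBase.adic_restrictBase (p.comap (algebraMap A C)).primeCompl _ hadic
    let P : Ideal B := p.comap (algebraMap B C)
    let φ : Localization.AtPrime P →+* Localization.AtPrime p :=
      Localization.localRingHom P p (algebraMap B C) rfl
    have hφsurj : Function.Surjective φ :=
      RingHom.surjective_localRingHom_of_surjective (algebraMap B C) hsurj p
    let _ : Algebra (Localization.AtPrime P) (Localization.AtPrime p) := φ.toAlgebra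
    have _ : IsScalarTower A (Localization.AtPrime P) (Localization.AtPrime p) := by
      refine IsScalarTower.of_algebraMap_eq (fun a => ?_)
      change _ = φ (algebraMap A (Localization.AtPrime P) a)
      rw [IsScalarTower.algebraMap_apply A B (Localization.AtPrime P),
        Localization.localRingHom_to_map, ← IsScalarTower.algebraMap_apply A B C,
        ← IsScalarTower.algebraMap_apply A C (Localization.AtPrime p)]
    have hmax : (maximalIdeal (Localization.AtPrime P)).map
        (algebraMap (Localization.AtPrime P) (Localization.AtPrime p)) =
        maximalIdeal (Localization.AtPrime p) :=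
      Lib.Helper5.AdicBase.map_maximalIdeal_of_surjective φ hφsurj
    rw [← hmax] at hadicA
    exact Lib.Helper5.LocalCrit.formallySmooth_of_adic (A := A)
      (R := Localization.AtPrime P) hφsurj hadicA
  · intro hfs
    have _ : Algebra.FormallySmooth (Localization.AtPrime (p.comap (algebraMap A C)))
        (Localization.AtPrime p) :=
      Algebra.FormallySmooth.localization_base (R := A) (p.comap (algebraMap A C)).primeCompl
    exact Lib.Helper5.AdicBase.adic_of_formallySmooth _

end Groth.Agent.S4606
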