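import Groth.Statements.S4608
-- import your own Groth.Agent.* helpers here

set_option autoImplicit false
universe u
open AlgebraicGeometry CategoryTheory CategoryTheory.Limits
open EGA41

namespace Groth.Agent.S4608

theorem isClosedEmbedding_inl (X' X'' : Scheme.{u}) :
    Topology.IsClosedEmbedding (coprod.inl : X' ⟶ X' ⨿ X'') := by
  refine ⟨(coprod.inl : X' ⟶ X' ⨿ X'').isOpenEmbedding.isEmbedding, ?_⟩
  rw [← isOpen_compl_iff, (isCompl_range_inl_inr X' X'').compl_eq]
  exact (coprod.inr : X'' ⟶ X' ⨿ X'').isOpenEmbedding.isOpen_range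

theorem isClosedEmbedding_inr (X' X'' : Scheme.{u}) :
    Topology.IsClosedEmbedding (coprod.inr : X'' ⟶ X' ⨿ X'') := by
  refine ⟨(coprod.inr : X'' ⟶ X' ⨿ X'').isOpenEmbedding.isEmbedding, ?_⟩
  rw [← isOpen_compl_iff, (isCompl_range_inl_inr X' X'').symm.compl_eq]
  exact (coprod.inl : X' ⟶ X' ⨿ X'').isOpenEmbedding.isOpen_range

/-- A morphism from a disjoint union X' ⨿ X'' → Y is quasi-compact if and only if its two components
are. -/
theorem result {X' X'' Y : Scheme.{u}} (f' : X' ⟶ Y) (f'' : X'' ⟶ Y) :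
    QuasiCompact (coprod.desc f' f'') ↔ QuasiCompact f' ∧ QuasiCompact f'' := by
  constructor
  · intro h
    refine ⟨⟨fun U hU hc => ?_⟩, ⟨fun U hU hc => ?_⟩⟩
    · have := (isClosedEmbedding_inl X' X'').isCompact_preimage (h.1 U hU hc)
      rw [← Set.preimage_comp] at this
      convert this using 2
      rw [← TopCat.coe_comp, ← Scheme.Hom.comp_base, coprod.inl_desc]
    · have := (isClosedEmbedding_inr X' X'').isCompact_preimage (h.1 U hU hc)
      rw [← Set.preimage_comp] at this
      convert this using 2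
      rw [← TopCat.coe_comp, ← Scheme.Hom.comp_base, coprod.inr_desc]
  · rintro ⟨h', h''⟩
    refine ⟨fun U hU hc => ?_⟩
    have key : (coprod.desc f' f'') ⁻¹' U =
        (coprod.inl : X' ⟶ X' ⨿ X'') '' (f' ⁻¹' U) ∪ (coprod.inr : X'' ⟶ X' ⨿ X'') '' (f'' ⁻¹' U) := by
      ext x
      obtain ⟨y, rfl⟩ := (coprodMk X' X'').surjective x
      cases y with
      | inl y =>
        simp only [coprodMk_inl, Set.mem_preimage, Set.mem_union, Set.mem_image]
        rw [← Scheme.Hom.comp_apply, coprod.inl_desc]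
        constructor
        · intro hy; exact Or.inl ⟨y, hy, rfl⟩
        · rintro (⟨z, hz, e⟩ | ⟨z, hz, e⟩)
          · rwa [← (coprod.inl : X' ⟶ X' ⨿ X'').isOpenEmbedding.injective e]
          · exact absurd e (inr_ne_inl _ _ _ _)
      | inr y =>
        simp only [coprodMk_inr, Set.mem_preimage, Set.mem_union, Set.mem_image]
        rw [← Scheme.Hom.comp_apply, coprod.inr_desc]
        constructor
        · intro hy; exact Or.inr ⟨y, hy, rfl⟩
        · rintro (⟨z, hz, e⟩ | ⟨z, hz, e⟩)
          · exact absurd e (inl_ne_inr _ _ _ _)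
          · rwa [← (coprod.inr : X'' ⟶ X' ⨿ X'').isOpenEmbedding.injective e]
    rw [key]
    exact ((h'.1 U hU hc).image (coprod.inl : X' ⟶ X' ⨿ X'').continuous).union
      ((h''.1 U hU hc).image (coprod.inr : X'' ⟶ X' ⨿ X'').continuous)

end Groth.Agent.S4608
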