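import Groth.Statements.S4609
-- import your own Groth.Agent.* helpers here

set_option autoImplicit false
universe u
open AlgebraicGeometry CategoryTheory CategoryTheory.Limits
open EGA41

namespace Groth.Agent.S4609

theorem isQuasiSeparated_of_clopen {α : Type*} [TopologicalSpace α] {s C : Set α}
    (hC : IsClopen C) (h1 : IsQuasiSeparated (s ∩ C)) (h2 : IsQuasiSeparated (s ∩ Cᶜ)) :
    IsQuasiSeparated s := by
  intro U V hU hUo hUc hV hVo hVc
  have e : U ∩ V = ((U ∩ C) ∩ (V ∩ C)) ∪ ((U ∩ Cᶜ) ∩ (V ∩ Cᶜ)) := by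
    ext x
    by_cases hx : x ∈ C <;> simp [hx]
  rw [e]
  refine (h1 _ _ (Set.inter_subset_inter_left _ hU) (hUo.inter hC.isOpen)
    (hUc.inter_right hC.isClosed) (Set.inter_subset_inter_left _ hV) (hVo.inter hC.isOpen)
    (hVc.inter_right hC.isClosed)).union
    (h2 _ _ (Set.inter_subset_inter_left _ hU) (hUo.inter hC.compl.isOpen)
    (hUc.inter_right hC.compl.isClosed) (Set.inter_subset_inter_left _ hV)
    (hVo.inter hC.compl.isOpen) (hVc.inter_right hC.compl.isClosed))

theorem quasiSeparated_iff_forall_isQuasiSeparated {X Y : Scheme.{u}} (f : X ⟶ Y) :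
    QuasiSeparated f ↔ ∀ U : Y.affineOpens, IsQuasiSeparated (f ⁻¹' (U : Set Y)) := by
  rw [HasAffineProperty.eq_targetAffineLocally (P := @QuasiSeparated)]
  refine forall_congr' fun U => ?_
  exact (isQuasiSeparated_iff_quasiSeparatedSpace _ (f ⁻¹ᵁ U.1).2).symm

/-- A morphism from a disjoint union X' ⨿ X'' → Y is quasi-separated if and only if its two components
are. -/
theorem result {X' X'' Y : Scheme.{u}} (f' : X' ⟶ Y) (f'' : X'' ⟶ Y) :
    QuasiSeparated (coprod.desc f' f'') ↔ QuasiSeparated f' ∧ QuasiSeparated f'' := by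
  constructor
  · intro h
    constructor
    · rw [← coprod.inl_desc f' f'']; infer_instance
    · rw [← coprod.inr_desc f' f'']; infer_instance
  · rintro ⟨h', h''⟩
    rw [quasiSeparated_iff_forall_isQuasiSeparated] at h' h'' ⊢
    intro U
    have hC : IsClopen (Set.range (coprod.inl : X' ⟶ X' ⨿ X'')) := by
      refine ⟨?_, (coprod.inl : X' ⟶ X' ⨿ X'').isOpenEmbedding.isOpen_range⟩
      rw [← isOpen_compl_iff, (isCompl_range_inl_inr X' X'').compl_eq]
      exact (coprod.inr : X'' ⟶ X' ⨿ X'').isOpenEmbedding.isOpen_range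
    refine isQuasiSeparated_of_clopen hC ?_ ?_
    · have : (coprod.desc f' f'') ⁻¹' (U : Set Y) ∩ Set.range (coprod.inl : X' ⟶ X' ⨿ X'') =
          (coprod.inl : X' ⟶ X' ⨿ X'') '' (f' ⁻¹' (U : Set Y)) := by
        ext x
        constructor
        · rintro ⟨hx, y, rfl⟩
          refine ⟨y, ?_, rfl⟩
          simp only [Set.mem_preimage] at hx ⊢
          rwa [← Scheme.Hom.comp_apply, coprod.inl_desc] at hx
        · rintro ⟨y, hy, rfl⟩
          refine ⟨?_, y, rfl⟩
          simp only [Set.mem_preimage] at hy ⊢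
          rwa [← Scheme.Hom.comp_apply, coprod.inl_desc]
      rw [this]
      exact (h' U).image_of_isEmbedding (coprod.inl : X' ⟶ X' ⨿ X'').isOpenEmbedding.isEmbedding
    · rw [(isCompl_range_inl_inr X' X'').compl_eq]
      have : (coprod.desc f' f'') ⁻¹' (U : Set Y) ∩ Set.range (coprod.inr : X'' ⟶ X' ⨿ X'') =
          (coprod.inr : X'' ⟶ X' ⨿ X'') '' (f'' ⁻¹' (U : Set Y)) := by
        ext x
        constructor
        · rintro ⟨hx, y, rfl⟩
          refine ⟨y, ?_, rfl⟩
          simp only [Set.mem_preimage] at hx ⊢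
          rwa [← Scheme.Hom.comp_apply, coprod.inr_desc] at hx
        · rintro ⟨y, hy, rfl⟩
          refine ⟨?_, y, rfl⟩
          simp only [Set.mem_preimage] at hy ⊢
          rwa [← Scheme.Hom.comp_apply, coprod.inr_desc]
      rw [this]
      exact (h'' U).image_of_isEmbedding (coprod.inr : X'' ⟶ X' ⨿ X'').isOpenEmbedding.isEmbedding

end Groth.Agent.S4609
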