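import Groth.Statements.S4610
-- import your own Groth.Agent.* helpers here
import Mathlib.RingTheory.PiTensorProduct
import Mathlib.LinearAlgebra.PiTensorProduct.Basis
import Mathlib.RingTheory.AdjoinRoot

set_option autoImplicit false
universe u
open EGA41

namespace Groth.Agent.S4610

open PiTensorProduct
open scoped TensorProduct

section
variable {A : Type u} [CommRing A] {r : ℕ} (F : Fin r → Polynomial A)

noncomputable abbrev II : Ideal (MvPolynomial (Fin r) A) :=
  Ideal.span (Set.range fun i => Polynomial.aeval (MvPolynomial.X i : MvPolynomial (Fin r) A) (F i))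

abbrev TT := ⨂[A] i, AdjoinRoot (F i)

noncomputable def ff : MvPolynomial (Fin r) A →ₐ[A] TT F :=
  MvPolynomial.aeval (fun i => singleAlgHom (R := A) (A := fun i => AdjoinRoot (F i)) i
    (AdjoinRoot.root (F i)))

lemma ff_gen (i : Fin r) :
    ff F (Polynomial.aeval (MvPolynomial.X i : MvPolynomial (Fin r) A) (F i)) = 0 := by
  rw [← Polynomial.aeval_algHom_apply, ff, MvPolynomial.aeval_X, Polynomial.aeval_algHom_apply,
    AdjoinRoot.aeval_eq, AdjoinRoot.mk_self, map_zero]

lemma ff_mem (a : MvPolynomial (Fin r) A) (ha : a ∈ II F) : ff F a = 0 := by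
  have : II F ≤ RingHom.ker (ff F).toRingHom := by
    rw [Ideal.span_le]
    rintro _ ⟨i, rfl⟩
    exact ff_gen F i
  exact this ha

noncomputable def fbar : (MvPolynomial (Fin r) A ⧸ II F) →ₐ[A] TT F :=
  Ideal.Quotient.liftₐ (II F) (ff F) (ff_mem F)

lemma gi_aux (i : Fin r) :
    (F i).eval₂ (Algebra.ofId A (MvPolynomial (Fin r) A ⧸ II F))
      (Ideal.Quotient.mk (II F) (MvPolynomial.X i)) = 0 := by
  have : (F i).eval₂ (Algebra.ofId A (MvPolynomial (Fin r) A ⧸ II F))
      (Ideal.Quotient.mk (II F) (MvPolynomial.X i)) =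
      Polynomial.aeval (Ideal.Quotient.mk (II F) (MvPolynomial.X i)) (F i) := rfl
  rw [this]
  have h2 : Polynomial.aeval (Ideal.Quotient.mk (II F) (MvPolynomial.X i)) (F i) =
      Ideal.Quotient.mkₐ A (II F) (Polynomial.aeval (MvPolynomial.X i) (F i)) := by
    rw [← Polynomial.aeval_algHom_apply]; rfl
  rw [h2]
  exact Ideal.Quotient.eq_zero_iff_mem.mpr (Ideal.subset_span ⟨i, rfl⟩)

noncomputable def gi (i : Fin r) : AdjoinRoot (F i) →ₐ[A] (MvPolynomial (Fin r) A ⧸ II F) :=
  AdjoinRoot.liftAlgHom (F i) (Algebra.ofId A _) (Ideal.Quotient.mk (II F) (MvPolynomial.X i))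
    (gi_aux F i)

noncomputable def gg : TT F →ₐ[A] (MvPolynomial (Fin r) A ⧸ II F) :=
  liftAlgHom ((MultilinearMap.mkPiAlgebra A (Fin r) (MvPolynomial (Fin r) A ⧸ II F)).compLinearMap
    (fun i => (gi F i).toLinearMap)) (by simp) (by
      intro x y
      simp [Finset.prod_mul_distrib])

lemma gg_single (i : Fin r) (b : AdjoinRoot (F i)) :
    gg F (singleAlgHom (R := A) (A := fun i => AdjoinRoot (F i)) i b) = gi F i b := by
  simp only [gg, singleAlgHom_apply, liftAlgHom_apply, lift.tprod,
    MultilinearMap.compLinearMap_apply, MultilinearMap.mkPiAlgebra_apply, AlgHom.toLinearMap_apply]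
  rw [Finset.prod_eq_single i]
  · simp
  · intro j _ hj
    simp [MonoidHom.mulSingle_apply, Pi.mulSingle_eq_of_ne hj]
  · simp

lemma gg_fbar : (gg F).comp (fbar F) = AlgHom.id A _ := by
  apply Ideal.Quotient.algHom_ext
  apply MvPolynomial.algHom_ext
  intro i
  simp only [AlgHom.coe_comp, Function.comp_apply, Ideal.Quotient.mkₐ_eq_mk, AlgHom.coe_id, id_eq]
  change gg F (fbar F (Ideal.Quotient.mk (II F) (MvPolynomial.X i))) = _
  rw [fbar, Ideal.Quotient.liftₐ_apply, Ideal.Quotient.lift_mk]
  change gg F (ff F (MvPolynomial.X i)) = _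
  rw [ff, MvPolynomial.aeval_X, gg_single, gi, AdjoinRoot.liftAlgHom_root]

lemma fbar_gg : (fbar F).comp (gg F) = AlgHom.id A _ := by
  apply PiTensorProduct.algHom_ext
  intro i
  apply AdjoinRoot.algHom_ext
  simp only [AlgHom.coe_comp, Function.comp_apply, AlgHom.coe_id, id_eq]
  rw [gg_single, gi, AdjoinRoot.liftAlgHom_root, fbar, Ideal.Quotient.liftₐ_apply,
    Ideal.Quotient.lift_mk]
  change ff F (MvPolynomial.X i) = _
  rw [ff, MvPolynomial.aeval_X]

noncomputable def ee : (MvPolynomial (Fin r) A ⧸ II F) ≃ₐ[A] TT F :=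
  AlgEquiv.ofAlgHom (fbar F) (gg F) (fbar_gg F) (gg_fbar F)

end

/-- Let A be a nonzero ring and F_1, …, F_r monic one-variable polynomials of degrees d_1, …, d_r; then
A[T_1, …, T_r]/(F_1(T_1), …, F_r(T_r)) is a free A-module of rank ∏ d_i. (The published statement
assumes A local with maximal ideal of square zero and A' local, which this assertion does not use;
its bound [K' : K] ≤ d and part (ii) are not stated.) -/
theorem result {A : Type u} [CommRing A] [Nontrivial A]
    {r : ℕ} (F : Fin r → Polynomial A) (hF : ∀ i, (F i).Monic) :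
    Module.Free A (MvPolynomial (Fin r) A ⧸ Ideal.span (Set.range fun i => Polynomial.aeval (MvPolynomial.X i : MvPolynomial (Fin r) A) (F i))) ∧
      Module.finrank A (MvPolynomial (Fin r) A ⧸ Ideal.span (Set.range fun i => Polynomial.aeval (MvPolynomial.X i : MvPolynomial (Fin r) A) (F i))) =
        Finset.univ.prod fun i => (F i).natDegree := by
  let b : Module.Basis (Π i, Fin (F i).natDegree) A (TT F) :=
    Basis.piTensorProduct (fun i => (AdjoinRoot.powerBasis' (hF i)).basis)
  have hfree : Module.Free A (TT F) := Module.Free.of_basis b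
  refine ⟨Module.Free.of_equiv (ee F).symm.toLinearEquiv, ?_⟩
  rw [(ee F).toLinearEquiv.finrank_eq, Module.finrank_eq_card_basis b]
  simp

end Groth.Agent.S4610
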