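import Groth.Statements.S4614
import Mathlib
import Groth.Agent.Lib.Helper12.RedTensorD

set_option autoImplicit false
universe u
open TensorProduct AlgebraicGeometry
open CAlg

namespace Groth.Agent.S4614

/-- Let A be a domain with fraction field K, B a Noetherian flat A-algebra with B/q Japanese for every
minimal prime q, K' a finite extension of K, and consider the sub-A-algebras C of K' finite over A
with fraction field K' (a filtered family with union the integral closure A' of A in K'). (i) Some
member C_α is such that for every member C ⊇ C_α the map (C_α ⊗_A B)_red → (C ⊗_A B)_red is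
bijective. (ii) If B is faithfully flat over A then Spec A' → Spec C_α is radicial. -/
theorem result {A B K' : Type u} [CommRing A]
    [IsDomain A] [CommRing B] [Algebra A B] [IsNoetherianRing B] [Module.Flat A B]
    (hJ : ∀ (q : Ideal B) [q.IsPrime], q ∈ minimalPrimes B → CAlg.IsN2 (B ⧸ q))
    [Field K'] [Algebra A K'] [Algebra (FractionRing A) K'] [IsScalarTower A (FractionRing A) K']
    [FiniteDimensional (FractionRing A) K'] :
    let P : Subalgebra A K' → Prop := fun C : Subalgebra A K' => Module.Finite A C ∧ ∀ x : K', ∃ a b : C, (b : K') ≠ 0 ∧ x * b = a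
    ∃ Cα : Subalgebra A K', P Cα ∧
      (∀ C : Subalgebra A K', P C → ∀ hle : Cα ≤ C,
        (∀ x : ↥Cα ⊗[A] B, IsNilpotent (Algebra.TensorProduct.map (Subalgebra.inclusion hle) (AlgHom.id A B) x) →
          IsNilpotent x) ∧
        (∀ y : ↥C ⊗[A] B, ∃ x : ↥Cα ⊗[A] B,
          IsNilpotent (Algebra.TensorProduct.map (Subalgebra.inclusion hle) (AlgHom.id A B) x - y))) ∧
      (Module.FaithfullyFlat A B → ∀ hint : Cα ≤ integralClosure A K',
        UniversallyInjective (Spec.map (CommRingCat.ofHom (Subalgebra.inclusion hint).toRingHom))) := by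
  intro P
  obtain ⟨Cα, hCα, hstab⟩ := Groth.Agent.Lib.Helper12.RedTensor.exists_stable (A := A) (B := B) (K' := K') hJ
  refine ⟨Cα, hCα, ?_, ?_⟩
  · intro C hC hle
    refine ⟨fun x hx => ?_, fun y => hstab C hC hle y⟩
    refine Groth.Agent.Lib.Helper12.RedTensor.isNilpotent_of_jMap Cα x ?_
    rw [← Groth.Agent.Lib.Helper12.RedTensor.jMap_inclusion hle]
    exact hx.map (Groth.Agent.Lib.Helper12.RedTensor.jMap B C)
  · intro hff hint
    haveI := hff
    exact Groth.Agent.Lib.Helper12.RedTensor.universallyInjective_of_hom_ext _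
      (fun Ω _ φ ψ h =>
        Groth.Agent.Lib.Helper12.RedTensor.hom_ext_of_stable Cα hCα hstab hint Ω φ ψ h)

end Groth.Agent.S4614
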