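import Groth.Statements.S4616
import Groth.Agent.S4570
import Groth.Agent.S4571
import Groth.Agent.Lib.helper10.SubfieldInj

set_option autoImplicit false
universe u
open TensorProduct KaehlerDifferential IsLocalRing
open EGA41

namespace Groth.Agent.S4616

/-- Let k be a field of characteristic p > 0, A a local k-algebra with maximal ideal m and residue field
K, (k_α) a decreasing directed family of subfields of k with ⋂ k_α(k^p) = k^p. Then A is formally
smooth over k for the m-adic topology if and only if the maps Sym^n_K(m/m²) → m^n/m^(n+1) are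
bijective (n ≥ 1) and, for all large α, Ω_{k/k_α} ⊗_k K → Ω_{A/k_α} ⊗_A K is injective. -/
theorem result {k A : Type u}
    [Field k] (p : ℕ) [Fact p.Prime] [CharP k p] [CommRing A] [IsLocalRing A] [Algebra k A]
    {ι : Type u} [Preorder ι] [IsDirected ι (fun a b => a ≤ b)] [Nonempty ι] (kα : ι → Subfield k)
    (hanti : Antitone kα) (hint : ⨅ α, (kα α ⊔ (frobenius k p).fieldRange) = (frobenius k p).fieldRange) :
    CAlgX.IsAdicFormallySmooth k A (maximalIdeal A) ↔
      (PP16.SymGrBijective A (maximalIdeal A) ∧ ∃ α₀ : ι, ∀ α : ι, α₀ ≤ α →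
        Function.Injective ((mapBaseChange (kα α) k A).lTensor (ResidueField A))) := by
  classical
  constructor
  · intro h
    refine ⟨(Groth.Agent.S4571.result.1 h).1, Classical.arbitrary ι, fun α _ => ?_⟩
    exact Groth.Agent.Lib.helper10.AdicJac.lTensor_mapBaseChange_injective (Λ := kα α)
      (maximalIdeal A) h
  · rintro ⟨hsym, α₀, hα₀⟩
    let _ : Algebra (Groth.Agent.Lib.Helper5.AdicReg.PF k) A :=
      ((algebraMap k A).comp (algebraMap (Groth.Agent.Lib.Helper5.AdicReg.PF k) k)).toAlgebra
    have hst : IsScalarTower (Groth.Agent.Lib.Helper5.AdicReg.PF k) k A := IsScalarTower.of_algebraMap_eq (fun _ => rfl)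
    have hgr : Algebra.IsGeometricallyReduced (Groth.Agent.Lib.Helper5.AdicReg.PF k) (ResidueField A) :=
      Groth.Agent.Lib.Helper5.CohenEqui.geomReduced_of_perfect _ _
    have hfs' : Algebra.FormallySmooth (Groth.Agent.Lib.Helper5.AdicReg.PF k) (ResidueField A) :=
      Groth.Agent.S2451.result.2 hgr
    have hfs : Algebra.FormallySmooth (Groth.Agent.Lib.Helper5.AdicReg.PF k) (A ⧸ maximalIdeal A) := hfs'
    have hproj' : Module.Projective (ResidueField A) (CotangentSpace A) := inferInstance
    have hproj : Module.Projective (A ⧸ maximalIdeal A) (maximalIdeal A).Cotangent := hproj'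
    have hprojΩ' : Module.Projective (ResidueField A) (ResidueField A ⊗[A] (Ω[A⁄k])) :=
      inferInstance
    have hprojΩ : Module.Projective (A ⧸ maximalIdeal A) ((A ⧸ maximalIdeal A) ⊗[A] (Ω[A⁄k])) :=
      hprojΩ'
    have hmem : ∀ (S : Subfield k) (x : Groth.Agent.Lib.Helper5.AdicReg.PF k),
        algebraMap (Groth.Agent.Lib.Helper5.AdicReg.PF k) k x ∈ S := by
      intro S x
      exact (bot_le : (⊥ : Subfield k) ≤ S) (Subtype.property (p := fun y => y ∈ (⊥ : Subfield k)) x)
    -- the restricted index set
    let ι' : Type u := {α : ι // α₀ ≤ α}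
    haveI : Nonempty ι' := ⟨⟨α₀, le_refl _⟩⟩
    haveI : IsDirected ι' (· ≤ ·) := ⟨fun a b => by
      obtain ⟨c, hac, hbc⟩ := directed_of (· ≤ ·) a.1 b.1
      exact ⟨⟨c, le_trans a.2 hac⟩, hac, hbc⟩⟩
    let E : ι' → IntermediateField (Groth.Agent.Lib.Helper5.AdicReg.PF k) k := fun i =>
      (kα i.1).toIntermediateField (hmem (kα i.1))
    have hE : Antitone E := fun i j hij x hx => hanti hij hx
    have heq : (⨅ i, E i ⊔ IntermediateField.adjoin (Groth.Agent.Lib.Helper5.AdicReg.PF k) (Set.range fun y : k => y ^ p)) =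
        IntermediateField.adjoin (Groth.Agent.Lib.Helper5.AdicReg.PF k) (Set.range fun y : k => y ^ p) := by
      apply le_antisymm
      · intro y hy
        have hy' : y ∈ ⨅ α, (kα α ⊔ (frobenius k p).fieldRange) := by
          rw [Subfield.mem_iInf]
          intro α
          obtain ⟨β, hαβ, hα₀β⟩ := directed_of (· ≤ ·) α α₀
          let G : IntermediateField (Groth.Agent.Lib.Helper5.AdicReg.PF k) k :=
            (kα α ⊔ (frobenius k p).fieldRange).toIntermediateField (hmem _)
          have hle : E ⟨β, hα₀β⟩ ⊔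
              IntermediateField.adjoin (Groth.Agent.Lib.Helper5.AdicReg.PF k) (Set.range fun y : k => y ^ p) ≤ G := by
            refine sup_le ?_ ?_
            · intro x hx
              exact (le_sup_left : kα α ≤ kα α ⊔ (frobenius k p).fieldRange) (hanti hαβ hx)
            · rw [IntermediateField.adjoin_le_iff]
              rintro _ ⟨z, rfl⟩
              exact (le_sup_right : (frobenius k p).fieldRange ≤ kα α ⊔ _) ⟨z, rfl⟩
          have hy2 : y ∈ ((⨅ i, E i ⊔ IntermediateField.adjoin (Groth.Agent.Lib.Helper5.AdicReg.PF k)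
              (Set.range fun y : k => y ^ p) : IntermediateField (Groth.Agent.Lib.Helper5.AdicReg.PF k) k) : Set k) := hy
          rw [IntermediateField.coe_iInf] at hy2
          exact hle (Set.mem_iInter.1 hy2 ⟨β, hα₀β⟩)
        rw [hint] at hy'
        obtain ⟨z, rfl⟩ := hy'
        exact IntermediateField.subset_adjoin (Groth.Agent.Lib.Helper5.AdicReg.PF k) _ ⟨z, rfl⟩
      · exact le_iInf fun i => le_sup_right
    have hinj : Function.Injective ((mapBaseChange (Groth.Agent.Lib.Helper5.AdicReg.PF k) k A).lTensor (ResidueField A)) :=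
      Groth.Agent.Lib.helper10.SubfieldInj.injective_of_family p E hE heq
        (fun i => hα₀ i.1 i.2)
    exact (Groth.Agent.S4570.result (Λ := Groth.Agent.Lib.Helper5.AdicReg.PF k) (A := k) (B := A) (maximalIdeal A)).1
      ⟨hproj, hsym, hinj, hprojΩ⟩

end Groth.Agent.S4616
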