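import Groth.Statements.S4618
import Mathlib
import Groth.Agent.Lib.Helper22.SchBC
-- import your own Groth.Agent.* helpers here

set_option autoImplicit false
open CategoryTheory AlgebraicGeometry
universe u
open FBase

namespace Groth.Agent.S4618

/-- Let X be a scheme over a field k, K any extension field of k and Ω an algebraically closed extension
field of k. Then the set of connected components of X ⊗_k K has cardinality at most that of the set
of connected components of X ⊗_k Ω. In particular the cardinality of the set of connected components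
of X ⊗_k Ω does not depend on the algebraically closed extension Ω. -/
theorem result {k K Ω : Type u} [Field k] [Field K] [Algebra k K]
    [Field Ω] [Algebra k Ω] [IsAlgClosed Ω] {X : Scheme.{u}} (f : X ⟶ Spec (CommRingCat.of k)) :
    Cardinal.mk (_root_.ConnectedComponents ↥(FBase.bc f K)) ≤ Cardinal.mk (_root_.ConnectedComponents ↥(FBase.bc f Ω)) := by
  obtain ⟨Ω', hF, hAC, a, b, hab⟩ := Groth.Agent.Lib.Helper22.SchBC.exists_common_algClosed k K Ω
  letI := hF
  haveI := hAC
  letI : Algebra K Ω' := a.toAlgebra
  letI : Algebra Ω Ω' := b.toAlgebra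
  letI : Algebra k Ω' := (a.comp (algebraMap k K)).toAlgebra
  haveI : IsScalarTower k K Ω' := IsScalarTower.of_algebraMap_eq (fun _ => rfl)
  haveI : IsScalarTower k Ω Ω' := IsScalarTower.of_algebraMap_eq (fun x => by
    change (a.comp (algebraMap k K)) x = b (algebraMap k Ω x)
    rw [hab]; rfl)
  haveI := Groth.Agent.Lib.Helper22.SchBC.geometricallyConnected_bcMap f Ω Ω'
  haveI := Groth.Agent.Lib.Helper22.SchBC.universallyOpen_bcMap f Ω Ω'
  have e := Scheme.Hom.connectedComponentsHomeomorph
    (Groth.Agent.Lib.Helper22.SchBC.bcMap f Ω Ω') (Scheme.Hom.isOpenMap _)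
  have hs := (Groth.Agent.Lib.Helper22.SchBC.surjective_bcMap f K Ω').surj
  let g : _root_.ConnectedComponents ↥(FBase.bc f Ω') → _root_.ConnectedComponents ↥(FBase.bc f K) :=
    Continuous.connectedComponentsMap (Groth.Agent.Lib.Helper22.SchBC.bcMap f K Ω').continuous
  have hg : Function.Surjective g := by
    intro c
    obtain ⟨x, rfl⟩ := ConnectedComponents.surjective_coe c
    obtain ⟨y, rfl⟩ := hs x
    exact ⟨ConnectedComponents.mk y, rfl⟩
  calc Cardinal.mk (_root_.ConnectedComponents ↥(FBase.bc f K))
      ≤ Cardinal.mk (_root_.ConnectedComponents ↥(FBase.bc f Ω')) := Cardinal.mk_le_of_surjective hg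
    _ = Cardinal.mk (_root_.ConnectedComponents ↥(FBase.bc f Ω)) := Cardinal.mk_congr e.toEquiv

end Groth.Agent.S4618
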