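import Groth.Statements.S4622
import Groth.Agent.Lib.Helper9.UnivHomeoRing3
import Mathlib.FieldTheory.IsSepClosed
import Mathlib.FieldTheory.PurelyInseparable.Basic

set_option autoImplicit false
open CategoryTheory AlgebraicGeometry
universe u
open FBase

namespace Groth.Agent.S4622

/-- Let k be a separably closed field, k' an algebraic closure of k and X a scheme over k. Then the
projection X ⊗_k k' → X is a universal homeomorphism. -/
theorem result {k k' : Type u} [Field k] [IsSepClosed k] [Field k'] [Algebra k k']
    [IsAlgClosure k k'] {X : Scheme.{u}} (f : X ⟶ Spec (CommRingCat.of k)) :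
    FlatMor.IsUnivHomeo (FBase.bcπ f k') := by
  haveI : Algebra.IsAlgebraic k k' := IsAlgClosure.isAlgebraic
  haveI : IsPurelyInseparable k k' := inferInstance
  have hU : FlatMor.IsUnivHomeo (Spec.map (CommRingCat.ofHom (algebraMap k k'))) := by
    rw [Groth.Agent.Lib.Helper9.UnivHomeoRing.isUnivHomeo_SpecMap_iff']
    have hint : (algebraMap k k').IsIntegral := Algebra.IsIntegral.isIntegral
    refine ⟨hint, ?_, ?_⟩
    · intro c
      haveI : Algebra.IsIntegral k k' := ⟨hint⟩
      have hker : (⊥ : Ideal k').comap (algebraMap k k') ≤ c.asIdeal := by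
        intro x hx
        have h0 : algebraMap k k' x = 0 := hx
        rw [(algebraMap k k').injective (h0.trans (map_zero _).symm)]
        exact c.asIdeal.zero_mem
      obtain ⟨q, -, hq_prime, hq⟩ :=
        Ideal.exists_ideal_over_prime_of_isIntegral c.asIdeal (⊥ : Ideal k') hker
      exact ⟨⟨q, hq_prime⟩, PrimeSpectrum.ext hq⟩
    · intro K _ g₁ g₂ h12
      exact IsPurelyInseparable.injective_comp_algebraMap k k' K h12
  unfold FBase.bcπ
  haveI : MorphismProperty.IsStableUnderBaseChange FlatMor.IsUnivHomeo.{u} := by
    unfold FlatMor.IsUnivHomeo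
    infer_instance
  exact MorphismProperty.pullback_fst (P := FlatMor.IsUnivHomeo) _ _ hU

end Groth.Agent.S4622
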