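import Groth.Statements.S4623
-- import your own Groth.Agent.* helpers here

set_option autoImplicit false
open CategoryTheory AlgebraicGeometry
universe u
open FBase

namespace Groth.Agent.S4623

/-- Let h : X → Y be a surjective morphism of schemes over a field k. If X is geometrically irreducible
over k, then Y is geometrically irreducible over k. -/
theorem result {k : Type u} [Field k] {X Y : Scheme.{u}}
    (f : X ⟶ Spec (CommRingCat.of k)) (g : Y ⟶ Spec (CommRingCat.of k)) (h : X ⟶ Y) (w : h ≫ g = f)
    [Surjective h] [GeometricallyIrreducible f] : GeometricallyIrreducible g := by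
  subst w
  refine ⟨geometrically_iff_of_isClosedUnderIsomorphisms.mpr fun K _ y ↦ ?_⟩
  have h1 : IrreducibleSpace ↥(Limits.pullback (h ≫ g) y) :=
    pullback_of_geometrically
      (GeometricallyIrreducible.geometrically_irreducibleSpace (f := h ≫ g)) K y
  let i : Limits.pullback (h ≫ g) y ⟶ Limits.pullback g y :=
    (Limits.pullbackRightPullbackFstIso g y h).inv ≫ Limits.pullback.snd h (Limits.pullback.fst g y)
  have hi : Function.Surjective i := i.surjective
  have := (IrreducibleSpace.isIrreducible_univ ↥(Limits.pullback (h ≫ g) y)).image i
    i.continuous.continuousOn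
  rw [Set.image_univ, hi.range_eq] at this
  exact (irreducibleSpace_def _).mpr this

end Groth.Agent.S4623
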