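import Groth.Statements.S4638
import Groth.Agent.Lib.Helper29.QCohStalk2

set_option autoImplicit false
open CategoryTheory AlgebraicGeometry
universe u
open AssSch

namespace Groth.Agent.S4638

open TopologicalSpace
open Groth.Agent.Lib.Helper29.QCohStalk Groth.Agent.Lib.Helper28.QCohLoc


/-- Let X be a locally Noetherian scheme, F a quasi-coherent O_X-module and f a global section of O_X.
Then f is F-regular, i.e. multiplication by the germ of f is injective on every stalk of F, if and
only if every associated point of F lies in the open subset X_f where f does not vanish. -/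
theorem result {X : Scheme.{u}} [IsLocallyNoetherian X] (F : X.Modules)
    (hF : Coh.IsQCoh F) (f : Γ(X, ⊤)) :
    (∀ x : X, IsSMulRegular ↑(F.presheaf.stalk x) (X.presheaf.germ ⊤ x trivial f)) ↔
      AssSch.Ass F ⊆ (X.basicOpen f : Set ↥X) := by
  haveI : F.IsQuasicoherent := hF
  constructor
  · intro hreg x hx
    have hwa := (isAssPoint_iff_isWeakAssPoint F x).1 hx
    rw [isWeakAssPoint_def] at hwa
    obtain ⟨μ, hμ⟩ := hwa
    by_contra hxf
    have hnu : ¬ IsUnit (X.presheaf.germ ⊤ x trivial f) := fun hu =>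
      hxf ((Scheme.mem_basicOpen X f x (show x ∈ (⊤ : X.Opens) from trivial)).2 hu)
    have hmem : X.presheaf.germ ⊤ x trivial f ∈ (ann (R := X.presheaf.stalk x) μ).radical := by
      rw [hμ, IsLocalRing.mem_maximalIdeal, mem_nonunits_iff]
      exact hnu
    obtain ⟨n, hn⟩ := hmem
    rw [mem_ann] at hn
    have hμ0 : μ = 0 := ((hreg x).pow n).right_eq_zero_of_smul hn
    have h1 : (1 : X.presheaf.stalk x) ∈ (ann (R := X.presheaf.stalk x) μ).radical :=
      Ideal.le_radical ((mem_ann _ _).2 (by rw [hμ0, smul_zero]))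
    rw [hμ] at h1
    exact (IsLocalRing.maximalIdeal.isMaximal _).ne_top ((Ideal.eq_top_iff_one _).2 h1)
  · intro hsub x
    rw [isSMulRegular_iff_right_eq_zero_of_smul]
    intro μ hμ
    obtain ⟨_, ⟨U, (hU : IsAffineOpen U), rfl⟩, hxU, -⟩ := X.isBasis_affineOpens.exists_subset_of_mem_open
      (show x ∈ (⊤ : X.Opens) from trivial) (⊤ : X.Opens).2
    have hloc := isLocOn_of_isQuasicoherent F hU
    obtain ⟨s, m, hs, hsm⟩ := exists_germ_smul_eq F hU hloc x hxU μ
    set fU : Γ(X, U) := resO (le_top : U ≤ ⊤) f with hfU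
    have hgf : X.presheaf.germ U x hxU fU = X.presheaf.germ ⊤ x trivial f := germ_resO _ x hxU f
    have h0 : gm F U x hxU (fU • m) = 0 := by
      rw [gm_smul, ← hsm, hgf, smul_comm, hμ, smul_zero]
    obtain ⟨t, ht, htm⟩ := (gm_eq_zero_iff hU hloc x hxU _).1 h0
    have hm' : t • m = 0 := by
      by_contra hne
      obtain ⟨⟨p, hp⟩⟩ := Ideal.nonempty_minimalPrimes (ann_ne_top (R := Γ(X, U)) (t • m) hne)
      let P : PrimeSpectrum Γ(X, U) := ⟨p, hp.1.1⟩
      have hwa := isWeakAssPoint_fromSpec hU hloc P (t • m) hp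
      have hzf : hU.fromSpec P ∈ X.basicOpen f := hsub ((isAssPoint_iff_isWeakAssPoint F _).2 hwa)
      have hzU : hU.fromSpec P ∈ U := fromSpec_mem hU P
      have hzfU : hU.fromSpec P ∈ X.basicOpen fU := by
        rw [hfU, basicOpen_resO]
        exact ⟨hzU, hzf⟩
      rw [fromSpec_mem_basicOpen_iff] at hzfU
      apply hzfU
      apply hp.1.2
      rw [mem_ann, smul_comm]
      exact htm
    have h1 : gm F U x hxU m = 0 := by
      rw [gm_eq_zero_iff hU hloc]
      exact ⟨t, ht, hm'⟩
    rw [h1] at hsm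
    exact eq_zero_of_isUnit_smul hs hsm

end Groth.Agent.S4638
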