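import Groth.Statements.S4640
-- import your own Groth.Agent.* helpers here
import Mathlib.RingTheory.Flat.TorsionFree
import Mathlib.RingTheory.Localization.BaseChange

set_option autoImplicit false
universe u
open FDesc

namespace Groth.Agent.S4640

open TensorProduct in
theorem mem_ker_phi {A K : Type u} [CommRing A] [Field K]
    [Algebra A K] {M : Type u} [AddCommGroup M] [Module A M]
    (P' : Submodule K (K ⊗[A] M)) (m : M) :
    m ∈ LinearMap.ker ((P'.restrictScalars A).mkQ ∘ₗ TensorProduct.mk A K M 1) ↔
      (1 : K) ⊗ₜ[A] m ∈ P' := by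
  rw [LinearMap.mem_ker, LinearMap.comp_apply, Submodule.mkQ_apply, Submodule.Quotient.mk_eq_zero]
  simp

open TensorProduct in
theorem smul_mem_iff' {A K : Type u} [CommRing A] [IsDomain A] [Field K]
    [Algebra A K] [IsFractionRing A K] {M : Type u} [AddCommGroup M] [Module A M]
    (P' : Submodule K (K ⊗[A] M)) (s : A) (hs : s ∈ nonZeroDivisors A) (x : K ⊗[A] M) :
    s • x ∈ P' ↔ x ∈ P' := by
  have hs0 : algebraMap A K s ≠ 0 :=
    IsFractionRing.to_map_ne_zero_of_mem_nonZeroDivisors hs
  rw [← algebraMap_smul K s x]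
  exact P'.smul_mem_iff hs0

open TensorProduct in
/-- Let A be a Dedekind domain with fraction field K, M an A-module and P' a K-submodule of K ⊗_A M. Let
φ : M → (K ⊗_A M)/P' be m ↦ class of 1 ⊗ m. Then a submodule Q of M equals ker φ if and only if M/Q
is a flat A-module and the kernel of the induced surjection K ⊗_A M → K ⊗_A (M/Q) is P'. Thus M/ker
φ is the unique flat quotient of M with generic fibre (K ⊗_A M)/P'. (The published statement takes A
Noetherian, regular and of dimension 1; a field is allowed here, where the statement is immediate.) -/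
theorem result {A K : Type u} [CommRing A] [IsDedekindDomain A] [Field K]
    [Algebra A K] [IsFractionRing A K] {M : Type u} [AddCommGroup M] [Module A M]
    (P' : Submodule K (K ⊗[A] M)) (Q : Submodule A M) :
    Q = LinearMap.ker ((P'.restrictScalars A).mkQ ∘ₗ TensorProduct.mk A K M 1) ↔
      (Module.Flat A (M ⧸ Q) ∧ LinearMap.ker (Q.mkQ.baseChange K) = P') := by
  have hfaith : FaithfulSMul A K := (faithfulSMul_iff_algebraMap_injective A K).mpr
    (IsFractionRing.injective A K)
  constructor
  · intro hQ
    have hflat : Module.Flat A (M ⧸ Q) := by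
      rw [IsDedekindDomain.flat_iff_torsion_eq_bot, Submodule.eq_bot_iff]
      intro x hx
      obtain ⟨m, rfl⟩ := Q.mkQ_surjective x
      rw [Submodule.mem_torsion_iff] at hx
      obtain ⟨⟨a, ha⟩, hax⟩ := hx
      change a • Q.mkQ m = 0 at hax
      rw [← map_smul, Submodule.mkQ_apply, Submodule.Quotient.mk_eq_zero, hQ, mem_ker_phi,
        TensorProduct.tmul_smul, smul_mem_iff' P' a ha, ← mem_ker_phi, ← hQ] at hax
      rwa [Submodule.mkQ_apply, Submodule.Quotient.mk_eq_zero]
    refine ⟨hflat, ?_⟩
    ext x
    obtain ⟨⟨m, s⟩, hsx⟩ := IsLocalizedModule.surj (nonZeroDivisors A) (TensorProduct.mk A K M 1) x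
    change s.1 • x = 1 ⊗ₜ m at hsx
    rw [LinearMap.mem_ker, ← smul_mem_iff' P' s.1 s.2 x, hsx, ← mem_ker_phi, ← hQ,
      ← Submodule.Quotient.mk_eq_zero, ← Submodule.mkQ_apply]
    have h1 : (Q.mkQ.baseChange K) x = 0 ↔ s.1 • (Q.mkQ.baseChange K) x = 0 := by
      have hs0 : algebraMap A K s.1 ≠ 0 :=
        IsFractionRing.to_map_ne_zero_of_mem_nonZeroDivisors s.2
      rw [← algebraMap_smul K s.1, smul_eq_zero_iff_right hs0]
    have h2 : s.1 • (Q.mkQ.baseChange K) x = 1 ⊗ₜ (Q.mkQ m) := by
      rw [← algebraMap_smul K s.1, ← map_smul, algebraMap_smul, hsx]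
      simp
    rw [h1, h2]
    constructor
    · intro h
      have := Module.Flat.tensorProduct_mk_injective A (M ⧸ Q) K
      apply this
      simpa using h
    · intro h; rw [h]; simp
  · rintro ⟨hflat, hker⟩
    ext m
    rw [mem_ker_phi, ← hker, LinearMap.mem_ker]
    simp only [LinearMap.baseChange_tmul, Submodule.mkQ_apply]
    constructor
    · intro h
      rw [(Submodule.Quotient.mk_eq_zero Q).mpr h]; simp
    · intro h
      have := Module.Flat.tensorProduct_mk_injective A (M ⧸ Q) K
      rw [← Submodule.Quotient.mk_eq_zero]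
      apply this
      simpa using h

end Groth.Agent.S4640
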