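import Groth.Statements.S4641
import Groth.Agent.S2510

set_option autoImplicit false
open CategoryTheory AlgebraicGeometry
universe u
open AssSch

namespace Groth.Agent.S4641

open TopologicalSpace
open Groth.Agent.Lib.Helper29.QCohStalk Groth.Agent.Lib.Helper28.QCohLoc

/-- In a Noetherian local ring whose maximal ideal is not an associated prime, the maximal ideal contains a
nonzerodivisor. -/
theorem exists_nzd_mem_maximalIdeal {B : Type*} [CommRing B] [IsLocalRing B] [IsNoetherianRing B]
    (h : IsLocalRing.maximalIdeal B ∉ associatedPrimes B B) :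
    ∃ b ∈ IsLocalRing.maximalIdeal B, b ∈ nonZeroDivisors B := by
  by_contra hcon
  push Not at hcon
  have fin := associatedPrimes.finite B B
  have hsub : ((IsLocalRing.maximalIdeal B : Ideal B) : Set B) ⊆ ⋃ p ∈ associatedPrimes B B, (id p : Set B) := by
    simp_rw [id, biUnion_associatedPrimes_eq_compl_nonZeroDivisors]
    intro b hb hb'
    exact hcon b hb hb'
  obtain ⟨P, hP, hle⟩ := ((IsLocalRing.maximalIdeal B).subset_union_prime_finite fin (f := id) 0 0
    fun _ h _ _ ↦ h.isPrime).1 hsub
  have : IsLocalRing.maximalIdeal B = P :=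
    (IsLocalRing.maximalIdeal.isMaximal B).eq_of_le hP.isPrime.ne_top hle
  exact h (this ▸ hP)

/-- an element of the local ring at `s` whose annihilator has radical the maximal ideal shows that `s` is a weakly
associated point of the structure sheaf -/
theorem isWeakAssPoint_structureModule_of_stalk {Y : Scheme.{u}} (s : Y) (β : Y.presheaf.stalk s)
    (hβ : (ann (R := Y.presheaf.stalk s) β).radical = IsLocalRing.maximalIdeal (Y.presheaf.stalk s)) :
    Curv2.IsWeakAssPoint (Coh.structureModule Y) s := by
  obtain ⟨V, hV, hsV, -⟩ := (Opens.isBasis_iff_nbhd.1 Y.isBasis_affineOpens) (show s ∈ (⊤ : Y.Opens) from trivial)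
  have hV' : IsAffineOpen V := hV
  obtain ⟨r, t, ht, hrt⟩ := stalk_affine_surj hV' s hsV β
  have hloc := isLocOn_structureModule hV'
  refine isWeakAssPoint_of_mem_minimalPrimes hV' hloc s hsV (toSM r) ?_
  rw [ann_toSM]
  have hann : ann (R := Y.presheaf.stalk s) (Y.presheaf.germ V s hsV r) = ann (R := Y.presheaf.stalk s) β := by
    rw [← hrt, mul_comm, ← smul_eq_mul]
    exact ann_unit_smul β _ ht
  have hrad : (ann (R := Y.presheaf.stalk s) (Y.presheaf.germ V s hsV r)).radical =
      IsLocalRing.maximalIdeal (Y.presheaf.stalk s) := by rw [hann, hβ]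
  refine ⟨⟨inferInstance, ?_⟩, ?_⟩
  · intro c hc
    by_contra hcP
    have hu := (notMem_germPrime_iff V s hsV c).1 hcP
    have h0 : Y.presheaf.germ V s hsV c • Y.presheaf.germ V s hsV r = 0 := by
      rw [smul_eq_mul, ← map_mul]
      have : c * r = 0 := by
        have := (mem_ann r c).1 hc
        rwa [smul_eq_mul] at this
      rw [this, map_zero]
    have hr0 : Y.presheaf.germ V s hsV r = 0 := eq_zero_of_isUnit_smul hu h0
    have htop : ann (R := Y.presheaf.stalk s) (Y.presheaf.germ V s hsV r) = ⊤ := by
      rw [hr0, eq_top_iff]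
      intro z _
      rw [mem_ann, smul_zero]
    rw [htop, Ideal.radical_top] at hrad
    exact (IsLocalRing.maximalIdeal.isMaximal (Y.presheaf.stalk s)).ne_top hrad.symm
  · rintro q' ⟨hq', hle⟩ hq'P a ha
    have hga : Y.presheaf.germ V s hsV a ∈ IsLocalRing.maximalIdeal (Y.presheaf.stalk s) := by
      rw [IsLocalRing.mem_maximalIdeal, mem_nonunits_iff]
      exact (mem_germPrime_iff V s hsV a).1 ha
    rw [← hrad] at hga
    obtain ⟨k, hk⟩ := hga
    rw [mem_ann, smul_eq_mul, ← map_pow, ← map_mul] at hk
    obtain ⟨g, hg, hg0⟩ := stalk_affine_eq_zero hV' s hsV _ hk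
    have hmem : g * a ^ k ∈ ann (R := Γ(Y, V)) r := by
      rw [mem_ann, smul_eq_mul, mul_assoc]
      exact hg0
    have hq'mem := hle hmem
    rcases hq'.mem_or_mem hq'mem with h1 | h1
    · exfalso
      have := hq'P h1
      exact ((mem_germPrime_iff V s hsV g).1 this) hg
    · exact hq'.mem_of_pow_mem k h1

/-- Let f : X → Y be a morphism of locally Noetherian schemes such that Y has no embedded associated
points, and let F be a quasi-coherent O_X-module which is flat over Y. Then for every associated
point x of F, f(x) is a maximal point of Y (every point of Y specialising to f(x) equals f(x)). (The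
published statement assumes only Y locally Noetherian; X is taken locally Noetherian here so that
associated points are those whose maximal ideal is an annihilator.) -/
theorem result {X Y : Scheme.{u}} (f : X ⟶ Y) [IsLocallyNoetherian X]
    [IsLocallyNoetherian Y] (hY : AssSch.NoEmbedded (Coh.structureModule Y)) (F : X.Modules) (hF : Coh.IsQCoh F)
    (hfl : FlatMod.IsFlatOver f F) (x : X) (hx : x ∈ AssSch.Ass F) (y : Y) (hy : y ⤳ f x) : y = f x := by
  -- Step 1: `f x` is an associated point of the structure sheaf of `Y`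
  have hsAss : Curv2.IsWeakAssPoint (Coh.structureModule Y) (f x) := by
    by_contra hnot
    have hmB : IsLocalRing.maximalIdeal (Y.presheaf.stalk (f x)) ∉
        associatedPrimes (Y.presheaf.stalk (f x)) (Y.presheaf.stalk (f x)) := by
      intro hmem
      apply hnot
      rw [AssociatedPrimes.mem_iff] at hmem
      obtain ⟨-, β, hβ⟩ := hmem
      refine isWeakAssPoint_structureModule_of_stalk (f x) β ?_
      rw [hβ]
      congr 1
      ext r
      rw [LinearMap.mem_ker, LinearMap.toSpanSingleton_apply, Submodule.mem_colon_singleton, Submodule.mem_bot]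
    obtain ⟨b, hbm, hbnzd⟩ := exists_nzd_mem_maximalIdeal hmB
    -- `b` acts injectively on the flat module `F_x`
    letI := FlatMod.moduleStalkOver f F x
    haveI : Module.Flat (Y.presheaf.stalk (f x)) (F.presheaf.stalk x) := hfl x
    have hreg : IsSMulRegular (F.presheaf.stalk x) b := Module.Flat.isSMulRegular_of_nonZeroDivisors hbnzd
    obtain ⟨ξ, hξ⟩ := (isAssPoint_iff_isWeakAssPoint F x).1 hx
    have hφb : (f.stalkMap x).hom b ∈ IsLocalRing.maximalIdeal (X.presheaf.stalk x) := by
      rw [IsLocalRing.mem_maximalIdeal, mem_nonunits_iff] at hbm ⊢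
      intro hu
      exact hbm (isUnit_of_map_unit (f.stalkMap x).hom b hu)
    rw [← hξ] at hφb
    obtain ⟨k, hk⟩ := hφb
    have hk' : ((f.stalkMap x).hom b) ^ k • ξ = 0 := (mem_ann ξ _).1 hk
    have hξ0 : ξ = 0 := by
      have hregk : IsSMulRegular (F.presheaf.stalk x) (b ^ k) := hreg.pow k
      apply hregk
      change b ^ k • ξ = b ^ k • (0 : F.presheaf.stalk x)
      rw [smul_zero]
      have : b ^ k • ξ = ((f.stalkMap x).hom (b ^ k)) • ξ := rfl
      rw [this, map_pow]
      exact hk'
    have htop : ann (R := X.presheaf.stalk x) ξ = ⊤ := by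
      rw [hξ0, eq_top_iff]
      intro z _
      rw [mem_ann, smul_zero]
    have hξ' : (ann (R := X.presheaf.stalk x) ξ).radical = IsLocalRing.maximalIdeal (X.presheaf.stalk x) := hξ
    rw [htop, Ideal.radical_top] at hξ'
    exact (IsLocalRing.maximalIdeal.isMaximal (X.presheaf.stalk x)).ne_top hξ'.symm
  -- Step 2: a minimal prime below `y` gives an associated point `y0 ⤳ y ⤳ f x`
  obtain ⟨V, hV, hsV, -⟩ := (Opens.isBasis_iff_nbhd.1 Y.isBasis_affineOpens) (show f x ∈ (⊤ : Y.Opens) from trivial)
  have hV' : IsAffineOpen V := hV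
  have hyV : y ∈ V := hy.mem_open V.2 hsV
  obtain ⟨q, hq, hqy⟩ := Ideal.exists_minimalPrimes_le (bot_le : (⊥ : Ideal Γ(Y, V)) ≤ germPrime V y hyV)
  let Q : PrimeSpectrum Γ(Y, V) := ⟨q, hq.1.1⟩
  have hwaQ := Groth.Agent.S2510.isWeakAssPoint_structureModule_of_minimalPrimes hV' Q hq
  have hQV := fromSpec_mem hV' Q
  have hspec0 : hV'.fromSpec Q ⤳ y := by
    refine specializes_of_germPrime_le hV' _ _ hQV hyV ?_
    rw [germPrime_fromSpec]
    exact hqy
  have heq := hY (f x) ((isAssPoint_iff_isWeakAssPoint _ _).2 hsAss) (hV'.fromSpec Q)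
    ((isAssPoint_iff_isWeakAssPoint _ _).2 hwaQ) (hspec0.trans hy)
  rw [← heq] at hspec0
  exact (hy.antisymm hspec0).eq

end Groth.Agent.S4641
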