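import Groth.Statements.S4647
import Mathlib
import Groth.Agent.Lib.Helper22.TowerPts
import Groth.Agent.Lib.Helper13.IntegralNhd
-- import your own Groth.Agent.* helpers here

set_option autoImplicit false
open CategoryTheory AlgebraicGeometry
universe u
open FDesc

namespace Groth.Agent.S4647

/-- Let f : X → Y be a faithfully flat (flat and surjective) morphism. If all local rings of X are
domains (in particular if X is locally integral) and the underlying space of Y is locally
Noetherian, then Y is locally integral: every point of Y has an open neighbourhood which is an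
integral scheme. -/
theorem result {X Y : Scheme.{u}} (f : X ⟶ Y) [Flat f] [Surjective f]
    (hX : ∀ x : X, IsDomain ↑(X.presheaf.stalk x))
    (hY : ∀ y : Y, ∃ U : Y.Opens, y ∈ U ∧ TopologicalSpace.NoetherianSpace ↥U) (y : Y) :
    ∃ U : Y.Opens, y ∈ U ∧ IsIntegral (U : Scheme.{u}) := by
  have hYdom : ∀ y : Y, IsDomain ↑(Y.presheaf.stalk y) := by
    intro y
    obtain ⟨x, rfl⟩ := f.surjective y
    haveI := hX x
    exact (Groth.Agent.Lib.Helper22.TowerPts.stalkMap_injective_of_flat f x).isDomain _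
  obtain ⟨U, hyU, hU⟩ := hY y
  haveI : TopologicalSpace.NoetherianSpace ↥(U : Scheme.{u}) := hU
  have hUdom : ∀ u : ↥(U : Scheme.{u}), IsDomain ↑((U : Scheme.{u}).presheaf.stalk u) := by
    intro u
    haveI := hYdom u.1
    exact (U.stalkIso u).commRingCatIsoToRingEquiv.toMulEquiv.isDomain _
  haveI : ∀ u : ↥(U : Scheme.{u}), _root_.IsReduced ↑((U : Scheme.{u}).presheaf.stalk u) :=
    fun u => by haveI := hUdom u; infer_instance
  haveI : AlgebraicGeometry.IsReduced (U : Scheme.{u}) := isReduced_of_isReduced_stalk _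
  let y₁ : ↥(U : Scheme.{u}) := ⟨y, hyU⟩
  haveI := hUdom y₁
  obtain ⟨T₀, hyT₀, hT₀⟩ :=
    Groth.Agent.Lib.Helper13.IntegralNhd.exists_isIntegral_of_isReduced
      (TopologicalSpace.NoetherianSpace.finite_irreducibleComponents (α := ↥(U : Scheme.{u}))) y₁
  haveI := hT₀
  refine ⟨U.ι ''ᵁ T₀, ⟨y₁, hyT₀, rfl⟩, ?_⟩
  haveI : Nonempty ↥((U.ι ''ᵁ T₀ : Y.Opens) : Scheme.{u}) := ⟨⟨y, ⟨y₁, hyT₀, rfl⟩⟩⟩
  exact isIntegral_of_isOpenImmersion (U.ι.isoImage T₀).inv

end Groth.Agent.S4647
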