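import Groth.Statements.S4650
import Mathlib.AlgebraicGeometry.Properties
-- import your own Groth.Agent.* helpers here

set_option autoImplicit false
open CategoryTheory AlgebraicGeometry
universe u
open FDesc

namespace Groth.Agent.S4650

/-- Let f : X → Y be a morphism of schemes along which generizations lift (this holds for flat,
quasi-flat or open morphisms). Then every irreducible component of X dominates an irreducible
component of Y: the closure of its image is an irreducible component of Y. -/
theorem result {X Y : Scheme.{u}} (f : X ⟶ Y)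
    (hf : GeneralizingMap ⇑f) (T : Set ↥X) (hT : T ∈ irreducibleComponents ↥X) :
    closure (⇑f '' T) ∈ irreducibleComponents ↥Y := by
  have hTirr : IsIrreducible T := hT.1
  have hTcl : IsClosed T := isClosed_of_mem_irreducibleComponents T hT
  obtain ⟨ξ, hξ⟩ := QuasiSober.sober hTirr hTcl
  have hfξ : IsGenericPoint (f ξ) (closure (f '' T)) := hξ.image f.continuous
  refine ⟨hfξ.isIrreducible, ?_⟩
  intro Z hZ hle
  -- closure of Z is irreducible closed, has generic point η
  obtain ⟨η, hη⟩ := QuasiSober.sober hZ.closure isClosed_closure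
  have h1 : η ⤳ f ξ := hη.specializes (subset_closure (hle hfξ.mem))
  obtain ⟨ξ', hξ'ξ, hfξ'⟩ := hf h1
  -- closure {ξ'} ⊇ T irreducible so equal
  have h2 : T ≤ closure {ξ'} := by
    rw [← hξ.def]
    exact closure_minimal (Set.singleton_subset_iff.2 hξ'ξ.mem_closure) isClosed_closure
  have h3 : closure {ξ'} ≤ T := hT.2 isIrreducible_singleton.closure h2
  have h4 : ξ ⤳ ξ' := hξ.specializes (h3 (subset_closure rfl))
  have h5 : ξ = ξ' := (h4.antisymm hξ'ξ).eq
  subst h5
  rw [hfξ'] at hfξ
  intro z hz
  rw [← hfξ.def]
  rw [hη.def]
  exact subset_closure hz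

end Groth.Agent.S4650
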