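import Groth.Statements.S4651
import Mathlib.AlgebraicGeometry.Properties
import Groth.Agent.S4650
-- import your own Groth.Agent.* helpers here

set_option autoImplicit false
open CategoryTheory AlgebraicGeometry
universe u
open FDesc

namespace Groth.Agent.S4651

/-- Let Y be a scheme whose family of irreducible components is locally finite (every point has an open
neighbourhood meeting only finitely many irreducible components), and let f : X → Y be a morphism
along which generizations lift (e.g. flat, quasi-flat or open) such that every fibre f⁻¹(y) is a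
finite set (e.g. f quasi-finite or radicial). Then the family of irreducible components of X is
locally finite. -/
theorem result {X Y : Scheme.{u}} (f : X ⟶ Y)
    (hY : ∀ y : Y, ∃ U : Set ↥Y, IsOpen U ∧ y ∈ U ∧ {Z ∈ irreducibleComponents ↥Y | (Z ∩ U).Nonempty}.Finite)
    (hf : GeneralizingMap ⇑f) (hfin : ∀ y : Y, (⇑f ⁻¹' {y}).Finite) (x : X) :
    ∃ U : Set ↥X, IsOpen U ∧ x ∈ U ∧ {T ∈ irreducibleComponents ↥X | (T ∩ U).Nonempty}.Finite := by
  obtain ⟨U, hUo, hyU, hUfin⟩ := hY (f x)
  refine ⟨f ⁻¹' U, hUo.preimage f.continuous, hyU, ?_⟩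
  set FZ := {Z ∈ irreducibleComponents ↥Y | (Z ∩ U).Nonempty} with hFZ
  set W : Set X := {ξ | ∃ Z ∈ FZ, IsGenericPoint (f ξ) Z} with hW
  have hWfin : W.Finite := by
    have : W = ⋃ Z ∈ FZ, {ξ | IsGenericPoint (f ξ) Z} := by
      ext ξ; simp [hW]
    rw [this]
    refine Set.Finite.biUnion hUfin fun Z _ => ?_
    by_cases h : ∃ ξ₀, IsGenericPoint (f ξ₀) Z
    · obtain ⟨ξ₀, hξ₀⟩ := h
      refine (hfin (f ξ₀)).subset fun ξ hξ => ?_
      exact IsGenericPoint.eq hξ hξ₀
    · push Not at h
      convert Set.finite_empty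
      ext ξ; simp [h ξ]
  refine (hWfin.image fun ξ => closure {ξ}).subset ?_
  rintro T ⟨hT, hTV⟩
  have hTirr : IsIrreducible T := hT.1
  have hTcl : IsClosed T := isClosed_of_mem_irreducibleComponents T hT
  obtain ⟨ξ, hξ⟩ := QuasiSober.sober hTirr hTcl
  refine ⟨ξ, ⟨closure (f '' T), ⟨Groth.Agent.S4650.result f hf T hT, ?_⟩, hξ.image f.continuous⟩, hξ.def⟩
  obtain ⟨t, htT, htV⟩ := hTV
  exact ⟨f t, subset_closure ⟨t, htT, rfl⟩, htV⟩

end Groth.Agent.S4651
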