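import Groth.Statements.S4652
import Groth.Agent.Lib.Helper29.FPFree
import Groth.Agent.Lib.Helper16.RS3

set_option autoImplicit false
open CategoryTheory AlgebraicGeometry
universe u
open FDesc

namespace Groth.Agent.S4652

open Groth.Agent.Lib.Helper29.FPFree Groth.Agent.Lib.Helper29.FreeIso Groth.Agent.Lib.Helper16.RS

/-- a trivialization of `(F|_U)|_V` gives one of `F` over the image of `V` in `X` -/
theorem nonempty_iso_image {X : Scheme.{u}} (F : X.Modules) (U : X.Opens) (V : (U : Scheme.{u}).Opens) (n : ℕ)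
    (e : (F.restrict U.ι).restrict V.ι ≅ FlatMod.freeMod (↑V) n) :
    Nonempty (F.restrict (U.ι ''ᵁ V).ι ≅ FlatMod.freeMod (↑(U.ι ''ᵁ V)) n) := by
  let k := U.ι.isoImage V
  have hk : k.inv ≫ V.ι ≫ U.ι = (U.ι ''ᵁ V).ι := Scheme.Hom.isoImage_inv_ι U.ι V
  exact ⟨(Scheme.Modules.restrictFunctorCongr hk.symm).app F ≪≫
    (Scheme.Modules.restrictFunctorComp k.inv (V.ι ≫ U.ι)).app F ≪≫
    (Scheme.Modules.restrictFunctor k.inv).mapIso ((Scheme.Modules.restrictFunctorComp V.ι U.ι).app F) ≪≫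
    (Scheme.Modules.restrictFunctor k.inv).mapIso e ≪≫ restrictFreeModIso k.inv n⟩

/-- Let X be a scheme, F a finitely presented O_X-module and x a point of X. Then F_x is a flat module
over the local ring O_{X,x} if and only if x has an open neighbourhood U such that the restriction
of F to U is finite locally free. -/
theorem result {X : Scheme.{u}} (F : X.Modules) (hF : CohB1.IsFP F) (x : X) :
    FlatMod.IsFlatAt F x ↔ ∃ U : X.Opens, x ∈ U ∧ FlatMod.IsFinLocFree ((Scheme.Modules.pullback U.ι).obj F) := by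
  haveI : SheafOfModules.IsFinitePresentation.{u} (R := X.ringCatSheaf) F := hF
  constructor
  · intro h
    obtain ⟨U, hU, hxU, -⟩ := (TopologicalSpace.Opens.isBasis_iff_nbhd.1 X.isBasis_affineOpens)
      (show x ∈ (⊤ : X.Opens) from trivial)
    obtain ⟨g, n, τ, hxg, hτ⟩ := exists_isBasisOn_of_free_stalk F hU x hxU (free_stalk_of_isFlatAt F x h)
    obtain ⟨e⟩ := hτ.nonempty_iso
    refine ⟨X.basicOpen g, hxg, ?_⟩
    exact isFinLocFree_of_iso
      (e.symm ≪≫ (Scheme.Modules.restrictFunctorIsoPullback (X.basicOpen g).ι).app F)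
      (isFinLocFree_freeMod n)
  · rintro ⟨U, hxU, h⟩
    have h1 : FlatMod.IsFinLocFree (F.restrict U.ι) :=
      isFinLocFree_of_iso ((Scheme.Modules.restrictFunctorIsoPullback U.ι).app F).symm h
    obtain ⟨V, n, hxV, ⟨e⟩⟩ := h1 ⟨x, hxU⟩
    obtain ⟨e'⟩ := nonempty_iso_image F U V n e
    have hxW : x ∈ U.ι ''ᵁ V := ⟨⟨x, hxU⟩, hxV, rfl⟩
    obtain ⟨τ, hτ, -⟩ := exists_isBasisOn_of_iso' F (U.ι ''ᵁ V) n e'
    haveI := hτ.free_stalk x hxW
    exact (inferInstance : Module.Flat (X.presheaf.stalk x) (F.presheaf.stalk x))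



end Groth.Agent.S4652
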