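import Groth.Statements.S4654
import Groth.Agent.Lib.Helper17.StalkExact
import Groth.Agent.Lib.Helper29.FlatExt
import Mathlib
set_option backward.isDefEq.respectTransparency.types false

set_option autoImplicit false
open CategoryTheory AlgebraicGeometry
universe u
open FDesc

namespace Groth.Agent.S4654
open Groth.Agent.Lib.Helper17.StalkExact Groth.Agent.Lib.Helper29.FlatExt


/-- Let f : X → Y be a morphism of schemes and 0 → F' → F → F'' → 0 a short exact sequence of
quasi-coherent O_X-modules such that F'' is flat over Y. Then F is flat over Y if and only if F' is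
flat over Y. -/
theorem result {X Y : Scheme.{u}} (f : X ⟶ Y) (S : ShortComplex X.Modules)
    (hS : S.ShortExact) (h₁ : Coh.IsQCoh S.X₁) (h₂ : Coh.IsQCoh S.X₂) (h₃ : Coh.IsQCoh S.X₃)
    (hflat : FlatMod.IsFlatOver f S.X₃) :
    FlatMod.IsFlatOver f S.X₂ ↔ FlatMod.IsFlatOver f S.X₁ := by
  haveI := hS.mono_f
  haveI := hS.epi_g
  have key : ∀ x : X, FlatMod.IsFlatOverAt f S.X₂ x ↔ FlatMod.IsFlatOverAt f S.X₁ x := by
    intro x
    have h3 := hflat x
    unfold FlatMod.IsFlatOverAt at h3 ⊢
    letI := FlatMod.moduleStalkOver f S.X₁ x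
    letI := FlatMod.moduleStalkOver f S.X₂ x
    letI := FlatMod.moduleStalkOver f S.X₃ x
    have hg : Function.Injective (stalkLinearOver f S.f x) := stalkHom_injective_of_mono S.f x
    have hf : Function.Surjective (stalkLinearOver f S.g x) := stalkHom_surjective_of_epi S.g x
    have H : Function.Exact (stalkLinearOver f S.f x) (stalkLinearOver f S.g x) :=
      stalkHom_exact_of_exact S hS.exact x
    haveI : Module.Flat (Y.presheaf.stalk (f x)) (S.X₃.presheaf.stalk x) := h3
    constructor
    · intro h2
      haveI : Module.Flat (Y.presheaf.stalk (f x)) (S.X₂.presheaf.stalk x) := h2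
      exact flat_of_exact_left (stalkLinearOver f S.f x) (stalkLinearOver f S.g x) hg hf H
    · intro h1
      haveI : Module.Flat (Y.presheaf.stalk (f x)) (S.X₁.presheaf.stalk x) := h1
      exact flat_of_exact_middle (stalkLinearOver f S.f x) (stalkLinearOver f S.g x) hg hf H
  exact ⟨fun h x => (key x).1 (h x), fun h x => (key x).2 (h x)⟩

end Groth.Agent.S4654
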