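import Groth.Statements.S4658
import Groth.Agent.Lib.Helper21.AssMono2

set_option autoImplicit false
open CategoryTheory AlgebraicGeometry
universe u
open AssSch

namespace Groth.Agent.S4658

/-- Let X be a locally Noetherian scheme, F a quasi-coherent O_X-module and x a point of X; let Z be the
reduced closed subscheme of X whose underlying space is the closure of x, and O_Z its structure
sheaf viewed as an O_X-module. Then x is an associated point of F if and only if x has an open
neighbourhood U over which there is a monomorphism of O_U-modules O_Z|_U → F|_U. -/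
theorem result {X : Scheme.{u}} [IsLocallyNoetherian X] (F : X.Modules)
    (hF : Coh.IsQCoh F) (x : X) :
    x ∈ AssSch.Ass F ↔ ∃ (U : X.Opens), x ∈ U ∧
      ∃ φ : (Scheme.Modules.pullback U.ι).obj
              ((Scheme.Modules.pushforward (Scheme.IdealSheafData.vanishingIdeal ⟨closure {x}, isClosed_closure⟩).subschemeι).obj
                (Coh.structureModule (Scheme.IdealSheafData.vanishingIdeal ⟨closure {x}, isClosed_closure⟩).subscheme)) ⟶
            (Scheme.Modules.pullback U.ι).obj F, Mono φ := by
  haveI : F.IsQuasicoherent := hF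
  have hI := fun (W : X.Opens) (hW : IsAffineOpen W) (hx : x ∈ W) =>
    Groth.Agent.Lib.Helper21.AssMono.vanishingIdeal_closure_ideal x hW hx
  constructor
  · intro hx
    have hw : Curv2.IsWeakAssPoint F x :=
      (Groth.Agent.Lib.Helper29.QCohStalk.isAssPoint_iff_isWeakAssPoint F x).1 hx
    obtain ⟨U, hxU, ψ, hψ⟩ :=
      Groth.Agent.Lib.Helper21.AssMono.exists_mono_of_isWeakAssPoint _ x hI F hw
    haveI := hψ
    refine ⟨U, hxU, (Scheme.Modules.restrictFunctorIsoPullback U.ι).inv.app _ ≫ ψ ≫
      (Scheme.Modules.restrictFunctorIsoPullback U.ι).hom.app _, ?_⟩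
    infer_instance
  · rintro ⟨U, hxU, φ, hφ⟩
    haveI := hφ
    have hw := Groth.Agent.Lib.Helper21.AssMono.isWeakAssPoint_of_mono _ x hI F U hxU
      ((Scheme.Modules.restrictFunctorIsoPullback U.ι).hom.app _ ≫ φ ≫
        (Scheme.Modules.restrictFunctorIsoPullback U.ι).inv.app _)
    exact (Groth.Agent.Lib.Helper29.QCohStalk.isAssPoint_iff_isWeakAssPoint F x).2 hw

end Groth.Agent.S4658
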