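import Groth.Statements.S4666
import Groth.Agent.Lib.Helper12.FlatKer
-- import your own Groth.Agent.* helpers here

set_option autoImplicit false
open CategoryTheory AlgebraicGeometry
universe u
open FDesc

namespace Groth.Agent.S4666

/-- Let f : X → Y be a flat and surjective morphism of schemes. Then the map sending a quasi-coherent
sheaf of ideals of O_Y (a closed subscheme of Y) to its inverse image in X is injective. -/
theorem result {X Y : Scheme.{u}} (f : X ⟶ Y) [Flat f] [Surjective f] :
    Function.Injective fun J : Y.IdealSheafData => J.comap f := by
  have key : ∀ J : Y.IdealSheafData, (J.comap f).map f = J := by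
    intro J
    have h1 : (J.comap f).subschemeι = (J.comapIso f).hom ≫ Limits.pullback.fst f J.subschemeι :=
      (Scheme.IdealSheafData.comapIso_hom_fst J f).symm
    rw [Scheme.IdealSheafData.map, h1, Category.assoc, Scheme.Hom.ker_comp_of_isIso,
      Limits.pullback.condition, Scheme.Hom.ker_comp,
      Groth.Agent.Lib.Helper12.ker_eq_bot_of_flat_of_surjective, Scheme.IdealSheafData.map_bot,
      Scheme.IdealSheafData.ker_subschemeι]
  intro J₁ J₂ h
  have := congrArg (fun I : X.IdealSheafData => I.map f) h
  simpa [key] using this

end Groth.Agent.S4666
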