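import Groth.Statements.S4667
import Mathlib.AlgebraicGeometry.Morphisms.SchemeTheoreticallyDominant
import Mathlib.AlgebraicGeometry.IdealSheaf.Functorial
-- import your own Groth.Agent.* helpers here

set_option autoImplicit false
open CategoryTheory AlgebraicGeometry
universe u
open FDesc

namespace Groth.Agent.S4667


open CategoryTheory.Limits in
theorem toImage_ker_eq_bot {X Y : Scheme.{u}} (f : X ⟶ Y) [QuasiCompact f] :
    f.toImage.ker = ⊥ := by
  refine Scheme.IdealSheafData.ext_of_iSup_eq_top
    (fun V : Y.affineOpens => ⟨f.imageι ⁻¹ᵁ V.1, V.2.preimage f.imageι⟩) ?_ ?_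
  · have h1 : (⨆ V : Y.affineOpens, f.imageι ⁻¹ᵁ V.1) = f.imageι ⁻¹ᵁ (⨆ V : Y.affineOpens, V.1) := by
      ext x
      simp
    show (⨆ V : Y.affineOpens, f.imageι ⁻¹ᵁ V.1) = ⊤
    rw [h1, iSup_affineOpens_eq_top]
    rfl
  · intro V
    rw [Scheme.Hom.ker_apply, Scheme.IdealSheafData.ideal_bot]
    exact (RingHom.injective_iff_ker_eq_bot _).1 (f.toImage_app_injective V)

open CategoryTheory.Limits in
theorem ker_snd_aux {X Z Y Y' : Scheme.{u}} (f : X ⟶ Y) (t : X ⟶ Z) (i : Z ⟶ Y) (hf : t ≫ i = f)
    (g : Y' ⟶ Y) [IsClosedImmersion i] [QuasiCompact t] (ht : t.ker = ⊥) [Flat g] :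
    (pullback.snd f g).ker = i.ker.comap g := by
  subst hf
  have : IsSchemeTheoreticallyDominant t := ⟨ht⟩
  have h1 : (pullback.snd t (pullback.fst i g)).ker = ⊥ :=
    (IsSchemeTheoreticallyDominant.pullbackSnd t (pullback.fst i g)).ker_eq_bot
  rw [← Scheme.Hom.ker_comp_of_isIso (pullbackRightPullbackFstIso i g t).hom,
    pullbackRightPullbackFstIso_hom_snd, Scheme.Hom.ker_comp, h1, Scheme.IdealSheafData.map_bot,
    ← pullbackSymmetry_hom_comp_fst, Scheme.Hom.ker_comp_of_isIso,
    Scheme.IdealSheafData.ker_fst_of_isClosedImmersion]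

open CategoryTheory.Limits in
/-- Let f : X → Y be a quasi-compact morphism of schemes and g : Y' → Y a flat morphism, and let f' : X
×_Y Y' → Y' be the base change of f. Then the scheme-theoretic image of f' is the inverse image
under g of the scheme-theoretic image of f: the quasi-coherent ideal sheaf cutting out the former is
the pull-back along g of the one cutting out the latter. (One published statement is phrased for a
quasi-compact and quasi-separated S-morphism f and a flat base change S′ → S, which reduces to this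
case; quasi-compactness of f suffices.) -/
theorem result {X Y Y' : Scheme.{u}} (f : X ⟶ Y) (g : Y' ⟶ Y)
    [QuasiCompact f] [Flat g] :
    (pullback.snd f g).ker = f.ker.comap g := by
  have := ker_snd_aux f f.toImage f.imageι f.toImage_imageι g (toImage_ker_eq_bot f)
  rw [this, Scheme.IdealSheafData.ker_subschemeι]

end Groth.Agent.S4667
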