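import Groth.Statements.S4674
import Mathlib.RingTheory.Flat.Equalizer
-- import your own Groth.Agent.* helpers here

set_option autoImplicit false
open scoped TensorProduct
universe u v w
open FDesc

namespace Groth.Agent.S4674

/-- Let B be a flat A-algebra and M a finitely presented A-module. Then the annihilator of the B-module
B ⊗_A M is the ideal of B generated by the image of the annihilator of M. -/
theorem result {A : Type u} {B : Type v} [CommRing A] [CommRing B] [Algebra A B]
    [Module.Flat A B] (M : Type w) [AddCommGroup M] [Module A M] [Module.FinitePresentation A M] :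
    Module.annihilator B (B ⊗[A] M) = (Module.annihilator A M).map (algebraMap A B) := by
  classical
  have hfin : Module.Finite A M := inferInstance
  obtain ⟨s, hs⟩ := hfin.fg_top
  apply le_antisymm
  · intro b hb
    rw [Module.mem_annihilator] at hb
    -- φ : A → (s → M)
    let φ : A →ₗ[A] (s → M) := LinearMap.pi fun i => LinearMap.toSpanSingleton A M i.1
    have hker : ∀ a : A, a ∈ LinearMap.ker φ → a ∈ Module.annihilator A M := by
      intro a ha
      rw [LinearMap.mem_ker] at ha
      rw [Module.mem_annihilator]
      intro m
      have hm : m ∈ Submodule.span A (s : Set M) := by rw [hs]; trivial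
      induction hm using Submodule.span_induction with
      | mem x hx =>
        have := congr_fun ha ⟨x, hx⟩
        simpa [φ] using this
      | zero => simp
      | add x y _ _ hx hy => rw [smul_add, hx, hy, add_zero]
      | smul c x _ hx => rw [smul_comm, hx, smul_zero]
    have h1 : (b ⊗ₜ[A] (1 : A)) ∈ LinearMap.ker (TensorProduct.AlgebraTensorModule.lTensor B B φ) := by
      rw [LinearMap.mem_ker, TensorProduct.AlgebraTensorModule.lTensor_tmul]
      have h2 : φ 1 = ∑ i : s, LinearMap.single A (fun _ : s => M) i i.1 := by
        ext j
        simp [φ, Finset.sum_apply, Pi.single_apply]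
      rw [h2, TensorProduct.tmul_sum]
      refine Finset.sum_eq_zero fun i _ => ?_
      have h3 : b ⊗ₜ[A] (LinearMap.single A (fun _ : s => M) i i.1) =
          (LinearMap.single A (fun _ : s => M) i).lTensor B (b ⊗ₜ[A] i.1) := by
        simp
      rw [h3]
      have h4 : b ⊗ₜ[A] (i.1 : M) = b • ((1 : B) ⊗ₜ[A] (i.1 : M)) := by
        rw [TensorProduct.smul_tmul', smul_eq_mul, mul_one]
      rw [h4, hb, map_zero]
    rw [Module.Flat.ker_lTensor_eq] at h1
    obtain ⟨y, hy⟩ := h1
    have key : ∀ y : B ⊗[A] (LinearMap.ker φ),
        TensorProduct.AlgebraTensorModule.rid A B B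
          (TensorProduct.AlgebraTensorModule.lTensor B B (LinearMap.ker φ).subtype y) ∈
          (Module.annihilator A M).map (algebraMap A B) := by
      intro y
      induction y using TensorProduct.induction_on with
      | zero => simp
      | tmul b' a =>
        rw [TensorProduct.AlgebraTensorModule.lTensor_tmul, TensorProduct.AlgebraTensorModule.rid_tmul]
        rw [Algebra.smul_def]
        exact Ideal.mul_mem_right _ _ (Ideal.mem_map_of_mem _ (hker _ a.2))
      | add x y hx hy =>
        rw [map_add, map_add]
        exact Ideal.add_mem _ hx hy
    have := key y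
    rw [hy, TensorProduct.AlgebraTensorModule.rid_tmul, one_smul] at this
    exact this
  · rw [Ideal.map_le_iff_le_comap]
    intro a ha
    rw [Module.mem_annihilator] at ha
    rw [Ideal.mem_comap, Module.mem_annihilator]
    intro x
    induction x using TensorProduct.induction_on with
    | zero => simp
    | tmul b m =>
      rw [algebraMap_smul, TensorProduct.smul_tmul', TensorProduct.smul_tmul, ha, TensorProduct.tmul_zero]
    | add x y hx hy => rw [smul_add, hx, hy, add_zero]

end Groth.Agent.S4674
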