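import Groth.Statements.S4675
import Mathlib.Algebra.Module.Submodule.Equiv
-- import your own Groth.Agent.* helpers here

set_option autoImplicit false
universe u v
open FDesc

namespace Groth.Agent.S4675

/-- Let B be a ring, not necessarily commutative, and V, W two left B-modules which are isomorphic. For
a B-linear map u : V → W the following are equivalent: every B-linear map V → W can be written
uniquely as u ∘ c with c a B-linear endomorphism of V (that is, u is a basis of Hom_B(V, W) for its
right module structure over End_B(V)); u is bijective. -/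
theorem result {B : Type u} [Ring B] {V W : Type v} [AddCommGroup V] [AddCommGroup W]
    [Module B V] [Module B W] (e : V ≃ₗ[B] W) (u : V →ₗ[B] W) :
    (∀ v : V →ₗ[B] W, ∃! c : V →ₗ[B] V, v = u ∘ₗ c) ↔ Function.Bijective u := by
  constructor
  · intro h
    obtain ⟨c₀, hc₀, -⟩ := h e.toLinearMap
    have hsurj : Function.Surjective u := by
      intro w
      refine ⟨c₀ (e.symm w), ?_⟩
      have := LinearMap.congr_fun hc₀ (e.symm w)
      simpa using this.symm
    refine ⟨?_, hsurj⟩
    -- p = id - c₀ ∘ e.symm ∘ u satisfies u ∘ p = 0
    obtain ⟨c, -, hc⟩ := h 0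
    have h0 : (0 : V →ₗ[B] V) = c := hc 0 (by simp)
    have hp : LinearMap.id - c₀ ∘ₗ e.symm.toLinearMap ∘ₗ u = c := by
      apply hc
      ext x
      have := LinearMap.congr_fun hc₀ (e.symm (u x))
      simp only [LinearEquiv.coe_coe, LinearEquiv.apply_symm_apply, LinearMap.comp_apply] at this
      simp [this.symm]
    rw [← h0] at hp
    intro x y hxy
    have hx := LinearMap.congr_fun hp x
    have hy := LinearMap.congr_fun hp y
    simp only [LinearMap.sub_apply, LinearMap.id_apply, LinearMap.comp_apply, LinearEquiv.coe_coe,
      LinearMap.zero_apply, sub_eq_zero] at hx hy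
    rw [hx, hy, hxy]
  · intro hu
    let eu := LinearEquiv.ofBijective u hu
    intro v
    refine ⟨eu.symm.toLinearMap ∘ₗ v, ?_, ?_⟩
    · ext x
      simp only [LinearMap.comp_apply, LinearEquiv.coe_coe]
      exact (eu.apply_symm_apply (v x)).symm
    · intro c hc
      ext x
      simp only [LinearMap.comp_apply, LinearEquiv.coe_coe, hc]
      exact (eu.symm_apply_apply (c x)).symm

end Groth.Agent.S4675
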