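import Groth.Statements.S4677
import Mathlib
import Groth.Agent.Lib.Helper22.GeomRed3
-- import your own Groth.Agent.* helpers here

set_option autoImplicit false
open scoped TensorProduct
universe u
open FBase

namespace Groth.Agent.S4677

/-- Let K be a finitely generated extension field of a field k. Then there exists a finite purely
inseparable extension k' of k such that, for every maximal ideal m of the ring k' ⊗_k K, the residue
field (k' ⊗_k K)/m is geometrically reduced over k' (a separable, not necessarily algebraic,
extension of k'). -/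
theorem result {k K : Type u} [Field k] [Field K] [Algebra k K]
    [Algebra.EssFiniteType k K] :
    ∃ (k' : Type u) (_ : Field k') (_ : Algebra k k'), FiniteDimensional k k' ∧ IsPurelyInseparable k k' ∧
      ∀ (m : Ideal (k' ⊗[k] K)), m.IsMaximal → Algebra.IsGeometricallyReduced k' ((k' ⊗[k] K) ⧸ m) := by
  obtain ⟨P, hPf, hPa, hPi, hPp⟩ := Groth.Agent.Lib.Helper22.GeomRed2.exists_perfect_purelyInseparable k
  letI := hPf
  letI := hPa
  haveI := hPi
  haveI := hPp
  haveI : Algebra.EssFiniteType P (P ⊗[k] K) := inferInstance
  haveI : IsNoetherianRing (P ⊗[k] K) := Algebra.EssFiniteType.isNoetherianRing P _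
  obtain ⟨k', hF, hA, h1, h2, h3⟩ :=
    Groth.Agent.Lib.Helper22.GeomRed3.exists_finite_geomReduced K P
      (IsNoetherian.noetherian (nilradical (P ⊗[k] K)))
  refine ⟨k', hF, hA, h1, h2, ?_⟩
  letI := hF
  letI := hA
  haveI := h2
  intro m hm
  have hhom := PrimeSpectrum.isHomeomorph_comap_of_isPurelyInseparable k k' K
  have hsub : Subsingleton (PrimeSpectrum (K ⊗[k] k')) := by
    constructor
    intro a b
    exact hhom.injective (Subsingleton.elim _ _)
  have hsub' : Subsingleton (PrimeSpectrum (k' ⊗[k] K)) := by
    constructor
    intro a b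
    have := (PrimeSpectrum.comapEquiv (Algebra.TensorProduct.comm k k' K).toRingEquiv).injective
    exact this (Subsingleton.elim _ _)
  have hmeq : m = nilradical (k' ⊗[k] K) := by
    rw [nilradical_eq_sInf]
    apply le_antisymm
    · apply le_sInf
      intro J hJ
      have : (⟨J, hJ⟩ : PrimeSpectrum (k' ⊗[k] K)) = ⟨m, hm.isPrime⟩ := Subsingleton.elim _ _
      rw [PrimeSpectrum.ext_iff] at this
      exact this.ge
    · exact sInf_le hm.isPrime
  subst hmeq
  exact h3

end Groth.Agent.S4677
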