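import Groth.Statements.S4681
import Groth.Agent.Lib.Helper17.FD1
import Mathlib
set_option backward.isDefEq.respectTransparency.types false

set_option autoImplicit false
open CategoryTheory AlgebraicGeometry
universe u
open FDesc

namespace Groth.Agent.S4681

/-- Let f : X → Y and g : Y → Z be morphisms of schemes and F a quasi-coherent O_X-module which is
faithfully flat relative to Y: flat over Y, and for every point y of Y there is a point x over y
with F_x ⊗ κ(y) ≠ 0. Then g is flat and surjective (faithfully flat) if and only if F is faithfully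
flat relative to Z for the morphism f followed by g: flat over Z, and for every point z of Z there
is a point x of X over z with F_x ⊗ κ(z) ≠ 0. -/
theorem result {X Y Z : Scheme.{u}} (f : X ⟶ Y) (g : Y ⟶ Z)
    (F : X.Modules) (hF : Coh.IsQCoh F) (hFfl : FlatMod.IsFlatOver f F)
    (hFff : (∀ y : ↥Y, ∃ x : ↥X, f x = y ∧
      letI := FlatMod.moduleStalkOver f F x
      IsLocalRing.maximalIdeal (Y.presheaf.stalk (f x)) • (⊤ : Submodule (Y.presheaf.stalk (f x)) (F.presheaf.stalk x)) ≠ ⊤)) :
    (Flat g ∧ Surjective g) ↔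
      (FlatMod.IsFlatOver (f ≫ g) F ∧
        (∀ z : ↥Z, ∃ x : ↥X, (f ≫ g) x = z ∧
      letI := FlatMod.moduleStalkOver (f ≫ g) F x
      IsLocalRing.maximalIdeal (Z.presheaf.stalk ((f ≫ g) x)) • (⊤ : Submodule (Z.presheaf.stalk ((f ≫ g) x)) (F.presheaf.stalk x)) ≠ ⊤)) := by
  constructor
  · rintro ⟨hfl, hsurj⟩
    refine ⟨fun x => ?_, fun z => ?_⟩
    · exact Groth.Agent.Lib.Helper17.FD1.isFlatOverAt_comp f g F x (hFfl x)
        ((AlgebraicGeometry.Flat.iff_flat_stalkMap g).1 hfl (f x))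
    · obtain ⟨y, rfl⟩ := hsurj.surj z
      obtain ⟨x, rfl, hx⟩ := hFff y
      exact ⟨x, rfl, Groth.Agent.Lib.Helper17.FD1.fibre_ne_top_comp f g F x hx⟩
  · rintro ⟨hfl, hne⟩
    refine ⟨?_, ⟨fun z => ?_⟩⟩
    · rw [AlgebraicGeometry.Flat.iff_flat_stalkMap]
      intro y
      obtain ⟨x, rfl, hx⟩ := hFff y
      exact Groth.Agent.Lib.Helper17.FD1.flat_stalkMap_of_isFlatOverAt_comp f g F x (hFfl x) hx (hfl x)
    · obtain ⟨x, hx, _⟩ := hne z
      exact ⟨f x, hx⟩

end Groth.Agent.S4681
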