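import Groth.Statements.S4689
import Groth.Agent.Lib.lead.DimFormulaEq
import Mathlib

set_option autoImplicit false
universe u
open EGA4

namespace Groth.Agent.S4689

/-- Let A be a universally catenary Noetherian local domain and B a domain containing A which is a
finite A-algebra. Then for every maximal ideal n of B the local ring B_n has the same Krull
dimension as A. -/
theorem result (A B : Type u) [CommRing A] [IsDomain A]
    [IsNoetherianRing A] [IsLocalRing A] (hA : CAlg.IsUniversallyCatenary A) [CommRing B] [IsDomain B]
    [Algebra A B] [FaithfulSMul A B] [Module.Finite A B] (n : Ideal B) [n.IsMaximal] :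
    ringKrullDim (Localization.AtPrime n) = ringKrullDim A := by
  have hint : Algebra.IsIntegral A B := inferInstance
  have hm : (n.under A).IsMaximal := Ideal.isMaximal_comap_of_isIntegral_of_isMaximal n
  have hmeq : n.under A = IsLocalRing.maximalIdeal A := IsLocalRing.eq_maximalIdeal hm
  haveI : n.LiesOver (n.under A) := ⟨rfl⟩
  have key := Groth.Agent.Lib.lead.DimFormulaEq.dim_eq A hA B (n.under A) n
  have h1 : Algebra.trdeg A B = 0 := _root_.trdeg_eq_zero
  have h2 : Algebra.trdeg (A ⧸ n.under A) (B ⧸ n) = 0 := _root_.trdeg_eq_zero
  rw [h1, h2, add_zero, add_zero] at key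
  have hh : n.height = (n.under A).height := by exact_mod_cast key
  rw [IsLocalization.AtPrime.ringKrullDim_eq_height n, hh, hmeq,
    IsLocalRing.maximalIdeal_height_eq_ringKrullDim]

end Groth.Agent.S4689
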