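import Groth.Statements.S4693
import Mathlib
import Groth.Agent.Lib.Helper21.FlatLocal5

set_option autoImplicit false
universe u
open EGA4

namespace Groth.Agent.S4693

open Groth.Agent.Lib.Helper21 TensorProduct IsLocalRing

theorem supportDim_fibre_self (A B : Type u) [CommRing A] [CommRing B]
    [IsLocalRing A] [Algebra A B] :
    Module.supportDim B (FlatLocal.fibre A B B) = ringKrullDim (EGA4.FibRing A B) := by
  have heq : ((maximalIdeal A).map (algebraMap A B) • (⊤ : Submodule B B)) =
      (maximalIdeal A).map (algebraMap A B) := by
    rw [smul_eq_mul, Ideal.mul_top]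
  rw [Module.supportDim_eq_of_equiv (Submodule.quotEquivOfEq _ _ heq)]
  exact Module.supportDim_quotient_eq_ringKrullDim _


/-- Let A → B be a local homomorphism of Noetherian local rings such that the closed fibre ring B/m_A B
has Krull dimension 0 (that is, m_A B is an ideal of definition of B). Then dim B ≤ dim A. If
moreover some finite B-module which is flat over A has support equal to all of Spec B (for instance
if B is flat over A), then dim B = dim A. -/
theorem result (A B : Type u) [CommRing A] [CommRing B] [IsNoetherianRing A]
    [IsNoetherianRing B] [IsLocalRing A] [IsLocalRing B] [Algebra A B] [IsLocalHom (algebraMap A B)]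
    (h0 : ringKrullDim (EGA4.FibRing A B) = 0) :
    ringKrullDim B ≤ ringKrullDim A ∧
      (∀ (N : Type u) [AddCommGroup N] [Module B N] [Module A N] [IsScalarTower A B N] [Module.Finite B N]
          [Module.Flat A N], Module.support B N = Set.univ → ringKrullDim B = ringKrullDim A) := by
  obtain ⟨r, hr⟩ := DepthKit.exists_nat_supportDim (A := A) (M := A)
  have hle : ringKrullDim B ≤ ringKrullDim A := by
    have h1 := FlatLocal.supportDim_tensor_le (R := A) (S := B) B r A hr.le
    rw [Module.supportDim_eq_of_equiv (TensorProduct.AlgebraTensorModule.rid A B B),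
      supportDim_fibre_self, h0, add_zero, ← hr, Module.supportDim_self_eq_ringKrullDim,
      Module.supportDim_self_eq_ringKrullDim] at h1
    exact h1
  refine ⟨hle, ?_⟩
  intro N _ _ _ _ _ _ hN
  haveI : Nontrivial N := by
    have hne : (Module.support B N).Nonempty := by
      rw [hN]
      exact ⟨closedPoint B, trivial⟩
    exact Module.nonempty_support_iff.1 hne
  apply le_antisymm hle
  have h1 := FlatLocal.supportDim_tensor (R := A) (S := B) N A
  rw [Module.supportDim_eq_of_equiv (TensorProduct.AlgebraTensorModule.rid A B N),
    Module.supportDim_self_eq_ringKrullDim] at h1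
  have h2 : Module.supportDim B N ≤ ringKrullDim B := Module.supportDim_le_ringKrullDim B N
  haveI : Nontrivial (FlatLocal.fibre A B N) := FlatLocal.nontrivial_fibre (R := A) (S := B) N
  obtain ⟨s, hs⟩ := DepthKit.exists_nat_supportDim (A := B) (M := FlatLocal.fibre A B N)
  rw [hs] at h1
  refine le_trans ?_ h2
  rw [h1]
  exact le_add_of_nonneg_right (by exact_mod_cast Nat.zero_le s)

end Groth.Agent.S4693
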