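import Groth.Statements.S4694
import Mathlib
import Groth.Agent.Lib.Helper21.FlatLocal4
import Groth.Agent.Lib.Helper7.SupportDimParams

set_option autoImplicit false
universe u
open EGA4

namespace Groth.Agent.S4694

open TensorProduct in
/-- Let A → B be a local homomorphism of Noetherian local rings, M a finite A-module and N a nonzero
finite B-module, flat over A, whose closed-fibre module N/m_A N has finite length. Then the depth of
the B-module N ⊗_A M equals the depth of the A-module M. (The companion equality of codepths in the
published item is not restated.) -/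
theorem result {A B M N : Type u} [CommRing A] [CommRing B]
    [IsNoetherianRing A] [IsNoetherianRing B] [IsLocalRing A] [IsLocalRing B] [Algebra A B]
    [IsLocalHom (algebraMap A B)] [AddCommGroup M] [Module A M] [Module.Finite A M]
    [AddCommGroup N] [Module B N] [Module A N] [IsScalarTower A B N] [Module.Finite B N] [Nontrivial N]
    [Module.Flat A N] (hN : IsFiniteLength B (EGA4.FibMod A B N)) :
    LocCoh.depth B (N ⊗[A] M) = LocCoh.depth A M := by
  rw [Groth.Agent.Lib.Helper21.FlatLocal.depth_tensor N M]
  haveI : Nontrivial (EGA4.FibMod A B N) :=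
    Groth.Agent.Lib.Helper21.FlatLocal.nontrivial_fibre (R := A) (S := B) N
  have h1 := Groth.Agent.Lib.Helper7.SuppDimParams.supportDim_le_zero_of_isFiniteLength hN
  have h2 := Groth.Agent.Lib.Helper21.DepthKit.depth_le_supportDim (A := B)
    (M := EGA4.FibMod A B N)
  have h3 : LocCoh.depth B (EGA4.FibMod A B N) = 0 := by
    have h4 := h2.trans h1
    have h5 : ((LocCoh.depth B (EGA4.FibMod A B N) : ℕ∞) : WithBot ℕ∞) ≤ ((0 : ℕ∞) : WithBot ℕ∞) :=
      h4
    rw [WithBot.coe_le_coe] at h5
    exact le_antisymm h5 zero_le
  show _ + LocCoh.depth B (EGA4.FibMod A B N) = _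
  rw [h3, add_zero]

end Groth.Agent.S4694
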