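import Groth.Statements.S4695
import Groth.Agent.Lib.Helper5.RegHomBC
import Groth.Agent.S4996

set_option autoImplicit false
universe u
open EGA4

namespace Groth.Agent.S4695

open TensorProduct in
/-- Case of regular morphisms, affine form: let A → B be a homomorphism of Noetherian rings and A' a
Noetherian A-algebra, and assume that B or A' is of finite type over A. If A → B is regular then the
base change A' → A' ⊗_A B is regular; the converse holds when A' is faithfully flat over A. -/
theorem result (A B A' : Type u) [CommRing A] [CommRing B] [CommRing A']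
    [IsNoetherianRing A] [IsNoetherianRing B] [IsNoetherianRing A'] [Algebra A B] [Algebra A A']
    (hft : Algebra.FiniteType A B ∨ Algebra.FiniteType A A') :
    (CAlg.IsRegularHom A B → CAlg.IsRegularHom A' (A' ⊗[A] B)) ∧
      (Module.FaithfullyFlat A A' → CAlg.IsRegularHom A' (A' ⊗[A] B) → CAlg.IsRegularHom A B) := by
  refine ⟨fun h => ?_, fun hff h => ?_⟩
  · rcases hft with hB | hA'
    · have hfp : Algebra.FinitePresentation A B := Algebra.FinitePresentation.of_finiteType.mp hB
      have hsm : Algebra.Smooth A B :=
        (Groth.Agent.S4996.result A B).mpr ⟨h.1, fun p _ => (h.2 p).2⟩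
      have hsm' : Algebra.Smooth A' (A' ⊗[A] B) := inferInstance
      have h1 := (Groth.Agent.S4996.result A' (A' ⊗[A] B)).mp hsm'
      refine ⟨h1.1, fun p' _ => ⟨?_, h1.2 p'⟩⟩
      have : IsRegularRing (p'.Fiber (A' ⊗[A] B)) :=
        Lib.Helper5.RegHom.isRegularRing_of_geomRegular _ _ (h1.2 p')
      infer_instance
    · exact Lib.Helper5.RegHom.isRegularHom_baseChange A B A' h
  · exact Lib.Helper5.RegHom.isRegularHom_of_baseChange_faithfullyFlat A B A' h

end Groth.Agent.S4695
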