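import Groth.Statements.S4708
import Mathlib
import Groth.Agent.Lib.Helper22.GRingZ
import Groth.Agent.S2038
-- import your own Groth.Agent.* helpers here

set_option autoImplicit false
universe u
open EGA4

namespace Groth.Agent.S4708

/-- Let A → B be a local homomorphism of Noetherian local rings making B a flat A-module, such that the
residue field of B is a finite extension of the residue field k of A, and such that the formal
fibres of A are geometrically regular (the completion map A → Â is regular). If the k-algebra k ⊗_A
B̂, where B̂ is the completion of B, is geometrically regular over k, then every fibre of A → B is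
geometrically regular, that is, A → B is a regular homomorphism. -/
theorem result (A B : Type u) [CommRing A] [CommRing B]
    [IsNoetherianRing A] [IsNoetherianRing B] [IsLocalRing A] [IsLocalRing B] [Algebra A B]
    [IsLocalHom (algebraMap A B)] [Module.Flat A B]
    [Module.Finite (IsLocalRing.ResidueField A) (IsLocalRing.ResidueField B)]
    (hA : CAlg.IsRegularHom A (EGA4.Cpl A))
    (h : CAlg.IsGeometricallyRegular (IsLocalRing.maximalIdeal A).ResidueField
      ((IsLocalRing.maximalIdeal A).Fiber (EGA4.Cpl B))) :
    CAlg.IsRegularHom A B := by
  haveI hNB : IsNoetherianRing (AdicCompletion (IsLocalRing.maximalIdeal B) B) :=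
    Groth.Agent.Lib.helper19.isNoetherianRing_adicCompletion B _
  haveI : Module.FaithfullyFlat B (AdicCompletion (IsLocalRing.maximalIdeal B) B) :=
    Groth.Agent.Lib.Helper12.AnUnram.faithfullyFlat_cpl B
  haveI : IsScalarTower A B (AdicCompletion (IsLocalRing.maximalIdeal B) B) :=
    IsScalarTower.of_algebraMap_eq (fun _ => rfl)
  haveI : Module.Flat A (AdicCompletion (IsLocalRing.maximalIdeal B) B) :=
    Module.Flat.trans A B _
  haveI : IsLocalHom (algebraMap A (AdicCompletion (IsLocalRing.maximalIdeal B) B)) := by
    refine ((IsLocalRing.local_hom_TFAE _).out 0 2).2 ?_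
    rw [Ideal.map_le_iff_le_comap]
    intro a ha
    rw [Ideal.mem_comap]
    have h1 : algebraMap A (AdicCompletion (IsLocalRing.maximalIdeal B) B) a =
        algebraMap B (AdicCompletion (IsLocalRing.maximalIdeal B) B) (algebraMap A B a) := rfl
    rw [h1, AdicCompletion.maximalIdeal_eq_map]
    apply Ideal.mem_map_of_mem
    exact map_nonunit (algebraMap A B) a ha
  have h1 := (Groth.Agent.S2038.result (A := A)
    (B := AdicCompletion (IsLocalRing.maximalIdeal B) B)).1 ⟨inferInstance, h⟩
  exact Groth.Agent.Lib.Helper22.GRing.isRegularHom_of_adicSmooth_cpl A B hA h1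

end Groth.Agent.S4708
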