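import Groth.Statements.S4716
import Groth.Agent.Lib.Helper4.DimSurj
import Groth.Agent.Lib.Helper4.OpenGeneralizing

set_option autoImplicit false
universe u
open EGA4

namespace Groth.Agent.S4716

open AlgebraicGeometry CategoryTheory in
/-- Consider locally Noetherian schemes X and Y and a morphism f : X → Y that is surjective and whose
underlying map is either open or closed. Then dim X ≥ dim Y. -/
theorem result {X Y : Scheme.{u}} (f : X ⟶ Y) [IsLocallyNoetherian X]
    [IsLocallyNoetherian Y] (hs : Function.Surjective f.base) (h : IsOpenMap f.base ∨ IsClosedMap f.base) :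
    topologicalKrullDim Y ≤ topologicalKrullDim X := by
  apply Groth.Agent.Lib.Helper4.DimSurj.main f.base f.continuous hs
  rcases h with h | h
  · exact Or.inr (Groth.Agent.Lib.Helper4.OpenGeneralizing.main f h)
  · exact Or.inl h.specializingMap

end Groth.Agent.S4716
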