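import Groth.Statements.S4718
import Mathlib
import Groth.Agent.Lib.Helper21.FinResKit
import Groth.Agent.Lib.Helper21.FinResKit2

set_option autoImplicit false
universe u
open EGA4

namespace Groth.Agent.S4718

open Groth.Agent.Lib.Helper21.FinResKit Groth.Agent.Lib.Helper21.DepthKit IsLocalRing

section
variable {A : Type u} [CommRing A] [IsNoetherianRing A] [IsLocalRing A]
variable {M : Type u} [AddCommGroup M] [Module A M] [Module.Finite A M]

theorem depth_eq_localization :
    LocCoh.depth A M = LocCoh.depth (Localization.AtPrime (maximalIdeal A))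
      (LocalizedModule (maximalIdeal A).primeCompl M) := by
  unfold LocCoh.depth
  rw [idealDepth_eq_iInf_depth_localization (maximalIdeal A) (M := M)]
  apply le_antisymm
  · exact iInf₂_le (f := fun (P : PrimeSpectrum A) _ =>
      LocCoh.depth (Localization.AtPrime P.asIdeal) (LocalizedModule P.asIdeal.primeCompl M))
      ⟨maximalIdeal A, inferInstance⟩ le_rfl
  · refine le_iInf₂ fun P hP => ?_
    obtain rfl : P = ⟨maximalIdeal A, inferInstance⟩ := by
      ext1
      exact le_antisymm (le_maximalIdeal P.isPrime.ne_top) hP
    exact le_rfl

omit [IsNoetherianRing A] [Module.Finite A M] in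
theorem supportDim_eq_localization :
    Module.supportDim A M = Module.supportDim (Localization.AtPrime (maximalIdeal A))
      (LocalizedModule (maximalIdeal A).primeCompl M) := by
  rw [supportDim_localization_eq]
  unfold Module.supportDim
  apply le_antisymm
  · exact Order.krullDim_le_of_strictMono
      (fun P' => ⟨P'.1, P'.2, le_maximalIdeal P'.1.isPrime.ne_top⟩) (fun _ _ h => h)
  · exact Order.krullDim_le_of_strictMono (fun P' => ⟨P'.1, P'.2.1⟩) (fun _ _ h => h)

end



/-- Let A be a Noetherian local ring, B a Noetherian ring, A → B a ring homomorphism and M a nonzero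
B-module which is finite as an A-module. Then M is a Cohen–Macaulay A-module if and only if, for all
primes q of B lying over the maximal ideal of A and belonging to the support of M, the B_q-module
M_q is Cohen–Macaulay and all these modules M_q have the same dimension. -/
theorem result (A B : Type u) [CommRing A] [CommRing B]
    [IsNoetherianRing A] [IsLocalRing A] [IsNoetherianRing B] [Algebra A B]
    (M : Type u) [AddCommGroup M] [Module B M] [Module A M] [IsScalarTower A B M] [Module.Finite A M]
    [Nontrivial M] :
    LocCoh.IsCohenMacaulayModule A M ↔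
      (∀ q ∈ {q : PrimeSpectrum B | q.asIdeal.comap (algebraMap A B) = IsLocalRing.maximalIdeal A ∧
          q ∈ Module.support B M},
        LocCoh.IsCohenMacaulayModule (Localization.AtPrime q.asIdeal) (LocalizedModule q.asIdeal.primeCompl M)) ∧
      (∀ q ∈ {q : PrimeSpectrum B | q.asIdeal.comap (algebraMap A B) = IsLocalRing.maximalIdeal A ∧
          q ∈ Module.support B M},
        ∀ q' ∈ {q : PrimeSpectrum B | q.asIdeal.comap (algebraMap A B) = IsLocalRing.maximalIdeal A ∧
          q ∈ Module.support B M},
          Module.supportDim (Localization.AtPrime q.asIdeal) (LocalizedModule q.asIdeal.primeCompl M) =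
            Module.supportDim (Localization.AtPrime q'.asIdeal) (LocalizedModule q'.asIdeal.primeCompl M)) := by
  haveI : Module.Finite B M := Module.Finite.of_restrictScalars_finite A B M
  have hdim := supportDim_eq_iSup (B := B) (maximalIdeal A) M
  have hdep := depth_eq_iInf (B := B) (maximalIdeal A) M
  rw [← supportDim_eq_localization] at hdim
  rw [← depth_eq_localization] at hdep
  set Q := {q : PrimeSpectrum B | q.asIdeal.comap (algebraMap A B) = IsLocalRing.maximalIdeal A ∧
          q ∈ Module.support B M} with hQ
  have hle : ∀ q ∈ Q, ((LocCoh.depth (Localization.AtPrime q.asIdeal)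
      (LocalizedModule q.asIdeal.primeCompl M) : ℕ∞) : WithBot ℕ∞) ≤
      Module.supportDim (Localization.AtPrime q.asIdeal)
        (LocalizedModule q.asIdeal.primeCompl M) := by
    intro q hq
    haveI : Nontrivial (LocalizedModule q.asIdeal.primeCompl M) := hq.2
    exact depth_le_supportDim
  unfold LocCoh.IsCohenMacaulayModule
  rw [hdim, hdep]
  constructor
  · intro h
    have key : ∀ q ∈ Q, Module.supportDim (Localization.AtPrime q.asIdeal)
        (LocalizedModule q.asIdeal.primeCompl M) =
        ⨆ q ∈ Q, Module.supportDim (Localization.AtPrime q.asIdeal)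
          (LocalizedModule q.asIdeal.primeCompl M) ∧
        Module.supportDim (Localization.AtPrime q.asIdeal)
          (LocalizedModule q.asIdeal.primeCompl M) =
        ((LocCoh.depth (Localization.AtPrime q.asIdeal)
          (LocalizedModule q.asIdeal.primeCompl M) : ℕ∞) : WithBot ℕ∞) := by
      intro q hq
      have h1 : Module.supportDim (Localization.AtPrime q.asIdeal)
          (LocalizedModule q.asIdeal.primeCompl M) ≤
          ⨆ q ∈ Q, Module.supportDim (Localization.AtPrime q.asIdeal)
            (LocalizedModule q.asIdeal.primeCompl M) :=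
        le_iSup₂ (f := fun (q : PrimeSpectrum B) _ =>
          Module.supportDim (Localization.AtPrime q.asIdeal)
            (LocalizedModule q.asIdeal.primeCompl M)) q hq
      have h2 : ((⨅ q ∈ Q, LocCoh.depth (Localization.AtPrime q.asIdeal)
          (LocalizedModule q.asIdeal.primeCompl M) : ℕ∞) : WithBot ℕ∞) ≤
          ((LocCoh.depth (Localization.AtPrime q.asIdeal)
            (LocalizedModule q.asIdeal.primeCompl M) : ℕ∞) : WithBot ℕ∞) :=
        WithBot.coe_le_coe.mpr (iInf₂_le (f := fun (q : PrimeSpectrum B) _ =>
          LocCoh.depth (Localization.AtPrime q.asIdeal)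
            (LocalizedModule q.asIdeal.primeCompl M)) q hq)
      have h3 := hle q hq
      rw [← h] at h2
      exact ⟨le_antisymm h1 (h2.trans h3), le_antisymm (h1.trans h2) h3⟩
    exact ⟨fun q hq => (key q hq).2, fun q hq q' hq' => (key q hq).1.trans (key q' hq').1.symm⟩
  · rintro ⟨hCM, heq⟩
    have hne : ∃ q, q ∈ Q := by
      by_contra hcon
      push Not at hcon
      have hbot : (⨆ q ∈ Q, Module.supportDim (Localization.AtPrime q.asIdeal)
          (LocalizedModule q.asIdeal.primeCompl M)) = ⊥ := by
        rw [eq_bot_iff]
        exact iSup₂_le fun q hq => absurd hq (hcon q)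
      rw [hbot] at hdim
      exact Module.supportDim_ne_bot_of_nontrivial A M hdim
    obtain ⟨q0, hq0⟩ := hne
    have h1 : (⨆ q ∈ Q, Module.supportDim (Localization.AtPrime q.asIdeal)
        (LocalizedModule q.asIdeal.primeCompl M)) =
        Module.supportDim (Localization.AtPrime q0.asIdeal)
          (LocalizedModule q0.asIdeal.primeCompl M) := by
      apply le_antisymm
      · exact iSup₂_le fun q hq => (heq q hq q0 hq0).le
      · exact le_iSup₂ (f := fun (q : PrimeSpectrum B) _ =>
          Module.supportDim (Localization.AtPrime q.asIdeal)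
            (LocalizedModule q.asIdeal.primeCompl M)) q0 hq0
    have h2 : (⨅ q ∈ Q, LocCoh.depth (Localization.AtPrime q.asIdeal)
        (LocalizedModule q.asIdeal.primeCompl M)) =
        LocCoh.depth (Localization.AtPrime q0.asIdeal)
          (LocalizedModule q0.asIdeal.primeCompl M) := by
      apply le_antisymm
      · exact iInf₂_le (f := fun (q : PrimeSpectrum B) _ =>
          LocCoh.depth (Localization.AtPrime q.asIdeal)
            (LocalizedModule q.asIdeal.primeCompl M)) q0 hq0
      · refine le_iInf₂ fun q hq => ?_
        have h3 := (hCM q hq).symm.trans ((heq q hq q0 hq0).trans (hCM q0 hq0))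
        exact (WithBot.coe_inj.mp h3).ge
    rw [h1, h2]
    exact hCM q0 hq0

end Groth.Agent.S4718
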