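import Groth.Statements.S4719
import Mathlib
import Groth.Agent.Lib.Helper21.FinResKit
import Groth.Agent.Lib.Helper21.FinResKit2

set_option autoImplicit false
universe u
open EGA4

namespace Groth.Agent.S4719

open Groth.Agent.Lib.Helper21.FinResKit


/-- Let A → B be a homomorphism of Noetherian rings and M a B-module which is finite as an A-module. (i)
If M satisfies (S_k) as an A-module, it satisfies (S_k) as a B-module. (ii) If for every two primes
q, q' of B in the support of M having the same contraction to A the modules M_q and M_{q'} have the
same dimension, then (S_k) for M as a B-module implies (S_k) for M as an A-module. (The published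
statement asks the equal-dimension condition for all pairs of primes of B with the same contraction;
this row asks it only for primes in the support of M, which is all its proof uses.) -/
theorem result (k : ℕ) (A B : Type u) [CommRing A] [CommRing B] [IsNoetherianRing A]
    [IsNoetherianRing B] [Algebra A B] (M : Type u) [AddCommGroup M] [Module B M] [Module A M]
    [IsScalarTower A B M] [Module.Finite A M] :
    (LocCoh.HasSk k A M → LocCoh.HasSk k B M) ∧
      ((∀ q ∈ Module.support B M, ∀ q' ∈ Module.support B M,
          q.asIdeal.comap (algebraMap A B) = q'.asIdeal.comap (algebraMap A B) →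
            Module.supportDim (Localization.AtPrime q.asIdeal) (LocalizedModule q.asIdeal.primeCompl M) =
              Module.supportDim (Localization.AtPrime q'.asIdeal) (LocalizedModule q'.asIdeal.primeCompl M)) →
        LocCoh.HasSk k B M → LocCoh.HasSk k A M) := by
  constructor
  · intro hA q hq
    by_cases hqs : (⟨q, hq⟩ : PrimeSpectrum B) ∈ Module.support B M
    swap
    · rw [Module.notMem_support_iff] at hqs
      rw [Module.supportDim_eq_bot_of_subsingleton]
      simp
    · set p := q.comap (algebraMap A B) with hp
      have hmem : (⟨q, hq⟩ : PrimeSpectrum B) ∈ {q : PrimeSpectrum B |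
          q.asIdeal.comap (algebraMap A B) = p ∧ q ∈ Module.support B M} := ⟨rfl, hqs⟩
      have h1 := hA p
      rw [supportDim_eq_iSup (B := B) p M, depth_eq_iInf (B := B) p M] at h1
      refine le_trans (min_le_min le_rfl ?_) (le_trans h1 ?_)
      · exact le_iSup₂ (f := fun (q : PrimeSpectrum B) _ =>
          Module.supportDim (Localization.AtPrime q.asIdeal)
            (LocalizedModule q.asIdeal.primeCompl M)) ⟨q, hq⟩ hmem
      · exact WithBot.coe_le_coe.mpr (iInf₂_le (f := fun (q : PrimeSpectrum B) _ =>
          LocCoh.depth (Localization.AtPrime q.asIdeal)
            (LocalizedModule q.asIdeal.primeCompl M)) ⟨q, hq⟩ hmem)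
  · intro heq hB p hp
    rw [depth_eq_iInf (B := B) p M]
    -- reduce to each q
    generalize hx : min (k : WithBot ℕ∞)
      (Module.supportDim (Localization.AtPrime p) (LocalizedModule p.primeCompl M)) = x
    induction x using WithBot.recBotCoe with
    | bot => exact bot_le
    | coe y =>
      rw [WithBot.coe_le_coe]
      refine le_iInf₂ fun q hq => ?_
      rw [← WithBot.coe_le_coe, ← hx]
      have h1 := hB q.asIdeal
      refine le_trans (min_le_min le_rfl ?_) h1
      rw [supportDim_eq_iSup (B := B) p M]
      refine iSup₂_le fun q' hq' => ?_
      exact (heq q' hq'.2 q hq.2 (by rw [hq'.1, hq.1])).le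

end Groth.Agent.S4719
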