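import Groth.Statements.S4721
import Groth.Agent.Lib.Helper7.CodimConn

set_option autoImplicit false
universe u
open EGA4

namespace Groth.Agent.S4721

/-- a `ReflTransGen` path gives a `Fin`-indexed chain -/
theorem exists_fin_chain {α : Type*} (r : α → α → Prop) {a b : α}
    (hab : Relation.ReflTransGen r a b) :
    ∃ (n : ℕ) (c : Fin (n + 1) → α), c 0 = a ∧ c (Fin.last n) = b ∧
      ∀ i : Fin n, r (c i.castSucc) (c i.succ) := by
  refine Relation.ReflTransGen.head_induction_on hab ?_ ?_
  · exact ⟨0, fun _ => b, rfl, rfl, fun i => i.elim0⟩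
  · intro x y hxy _ ih
    obtain ⟨n, c, hc0, hcl, hc⟩ := ih
    have e0 : (Fin.cons x c : Fin (n + 1 + 1) → α) 0 = x := Fin.cons_zero (α := fun _ => α) x c
    have es : ∀ j : Fin (n + 1), (Fin.cons x c : Fin (n + 1 + 1) → α) j.succ = c j :=
      fun j => Fin.cons_succ (α := fun _ => α) x c j
    refine ⟨n + 1, (Fin.cons x c : Fin (n + 1 + 1) → α), e0, ?_, ?_⟩
    · rw [← Fin.succ_last, es]
      exact hcl
    · intro i
      refine Fin.cases ?_ (fun j => ?_) i
      · rw [Fin.castSucc_zero, e0, es, hc0]
        exact hxy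
      · rw [← Fin.succ_castSucc, es, es]
        exact hc j

/-- Let A be a Noetherian ring whose spectrum is connected and d a natural number such that for every
prime p of height at least d the local ring A_p has depth at least 2. Then for any two distinct
minimal primes p', p'' of A there is a finite chain of minimal primes starting at p' and ending at
p'' such that any two consecutive members are both contained in a prime ideal of height at most d −
1 (the spectrum is connected in codimension at most d − 1). -/
theorem result (A : Type u) [CommRing A] [IsNoetherianRing A]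
    [ConnectedSpace (PrimeSpectrum A)] (d : ℕ)
    (h : ∀ (p : Ideal A) [p.IsPrime], (d : ℕ∞) ≤ p.height →
      (2 : ℕ∞) ≤ LocCoh.depth (Localization.AtPrime p) (Localization.AtPrime p))
    (p' p'' : Ideal A) (hp' : p' ∈ minimalPrimes A) (hp'' : p'' ∈ minimalPrimes A) (hne : p' ≠ p'') :
    ∃ (n : ℕ) (c : Fin (n + 1) → Ideal A), c 0 = p' ∧ c (Fin.last n) = p'' ∧ (∀ i, c i ∈ minimalPrimes A) ∧
      ∀ i : Fin n, ∃ (q : Ideal A) (_ : q.IsPrime),
        c i.castSucc ≤ q ∧ c i.succ ≤ q ∧ q.height + 1 ≤ (d : ℕ∞) := by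
  obtain ⟨n, c, hc0, hcl, hc⟩ := exists_fin_chain _
    (Groth.Agent.Lib.Helper7.CodimConn.reflTransGen_link A d h p' p'' hp' hp'')
  refine ⟨n, c, hc0, hcl, ?_, fun i => (hc i).2⟩
  intro i
  refine Fin.cases ?_ (fun j => ?_) i
  · rw [hc0]; exact hp'
  · exact (hc j).1

end Groth.Agent.S4721
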