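import Groth.Statements.S4723
import Groth.Agent.Lib.Helper2.SectFin
import Groth.Agent.S2666
import Groth.Agent.Lib.lead.DimFormulaEq

set_option autoImplicit false
universe u
open EGA4

namespace Groth.Agent.S4723

/-- Let A be a Noetherian ring which is either a quotient of a regular Noetherian ring or universally
catenary and universally Japanese. Then for every prime q of A, writing B = A/q with fraction field
K, and every ideal J of B of height at least 2, the subring of K consisting of the elements lying in
B_p for every prime p of B not containing J (the ring of sections of the structure sheaf of Spec B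
over the open complement of V(J)) is a finite B-algebra (some B-subalgebra of K with exactly this
underlying set is a finitely generated B-module). -/
theorem result (A : Type u) [CommRing A] [IsNoetherianRing A]
    (hA : (∃ (R : Type u) (_ : CommRing R), IsNoetherianRing R ∧ IsRegularRing R ∧
        ∃ f : R →+* A, Function.Surjective f) ∨
      (CAlg.IsUniversallyCatenary A ∧ CAlg.IsUniversallyJapanese A))
    (q : Ideal A) [q.IsPrime] (J : Ideal (A ⧸ q)) (hJ2 : (2 : ℕ∞) ≤ J.height) :
    ∃ B' : Subalgebra (A ⧸ q) (FractionRing (A ⧸ q)),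
      (B' : Set (FractionRing (A ⧸ q))) =
          {x | ∀ (p : Ideal (A ⧸ q)) [p.IsPrime], ¬ J ≤ p →
            ∃ s : A ⧸ q, s ∉ p ∧ ∃ a : A ⧸ q,
              algebraMap (A ⧸ q) (FractionRing (A ⧸ q)) a = algebraMap (A ⧸ q) (FractionRing (A ⧸ q)) s * x} ∧
        Module.Finite (A ⧸ q) B' := by
  haveI : IsDomain (A ⧸ q) := Ideal.Quotient.isDomain q
  rcases hA with ⟨R, hR, hRn, hRreg, f, hf⟩ | ⟨hUC, hUJ⟩
  · haveI := hRreg
    exact Groth.Agent.Lib.Helper2.SectFin.finite_sect_of_regular (B := A ⧸ q) J R
      ((Ideal.Quotient.mk q).comp f)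
      (Ideal.Quotient.mk_surjective.comp hf) hJ2
  · haveI : Algebra.FiniteType A (A ⧸ q) := inferInstance
    have hUCB : CAlg.IsUniversallyCatenary (A ⧸ q) :=
      Groth.Agent.Lib.lead.DimFormulaEq.univCat_of_finiteType A hUC (A ⧸ q)
    have hN2 : CAlg.IsN2 (A ⧸ q) := hUJ (A ⧸ q) inferInstance
    have hint : Module.Finite (A ⧸ q) (integralClosure (A ⧸ q) (FractionRing (A ⧸ q))) :=
      hN2 (FractionRing (A ⧸ q)) inferInstance
    obtain ⟨B₁, hB₁, hfinB₁⟩ := Groth.Agent.S2666.result (A ⧸ q) hUCB hint
    refine Groth.Agent.Lib.Helper2.SectFin.exists_of_le_fg J (Subalgebra.toSubmodule B₁) ?_ ?_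
    · haveI := hfinB₁
      exact (Module.Finite.iff_fg).1 (Module.Finite.equiv (Subalgebra.toSubmoduleEquiv B₁).symm)
    · intro x hx
      change x ∈ (B₁ : Set (FractionRing (A ⧸ q)))
      rw [hB₁]
      intro p hpp hp1
      refine hx p (fun hJp => ?_)
      have h1 : (2 : ℕ∞) ≤ 1 := by
        rw [← hp1]
        exact hJ2.trans (Ideal.height_mono hJp)
      exact absurd h1 (by norm_num)

end Groth.Agent.S4723
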