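import Groth.Statements.S4726
import Mathlib.RingTheory.TensorProduct.IsBaseChangePi
import Mathlib.RingTheory.TensorProduct.IsBaseChangeRightExact

set_option autoImplicit false
universe u
open EGA4

namespace Groth.Agent.S4726

open TensorProduct

theorem exists_stage {ι : Type u} [Preorder ι] [Nonempty ι] [IsDirectedOrder ι]
    (G : ι → Type u) [∀ i, CommRing (G i)] (f : ∀ i j, i ≤ j → G i →+* G j)
    [DirectedSystem G (fun i j h ↦ f i j h)] {κ : Type*} [Finite κ]
    (z : κ → Ring.DirectLimit G (fun i j h ↦ f i j h)) :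
    ∃ (i : ι) (x : κ → G i), ∀ k, Ring.DirectLimit.of G (fun i j h ↦ f i j h) i (x k) = z k := by
  classical
  cases nonempty_fintype κ
  choose ik xk hxk using fun k => Ring.DirectLimit.exists_of (z k)
  obtain ⟨i, hi⟩ := Finset.exists_le (Finset.univ.image ik)
  have hle : ∀ k, ik k ≤ i := fun k => hi _ (Finset.mem_image_of_mem _ (Finset.mem_univ k))
  refine ⟨i, fun k => f (ik k) i (hle k) (xk k), fun k => ?_⟩
  rw [Ring.DirectLimit.of_f, hxk]


open TensorProduct in
/-- Let (A_i) be a directed system of commutative rings with direct limit A and M a finitely presented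
A-module. Then there exist an index i and a finitely presented A_i-module M_i such that M is
isomorphic, as an A-module, to A ⊗_{A_i} M_i (A being an A_i-algebra through the canonical map). -/
theorem result (ι : Type u) [Preorder ι] [Nonempty ι] [IsDirectedOrder ι]
    (G : ι → Type u) [∀ i, CommRing (G i)] (f : ∀ i j, i ≤ j → G i →+* G j)
    [DirectedSystem G (fun i j h ↦ f i j h)] (M : Type u) [AddCommGroup M]
    [Module (Ring.DirectLimit G (fun i j h ↦ f i j h)) M]
    [Module.FinitePresentation (Ring.DirectLimit G (fun i j h ↦ f i j h)) M] :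
    ∃ (i : ι) (Mi : Type u) (_ : AddCommGroup Mi) (_ : Module (G i) Mi), Module.FinitePresentation (G i) Mi ∧
      letI : Algebra (G i) (Ring.DirectLimit G (fun i j h ↦ f i j h)) :=
        (Ring.DirectLimit.of G (fun i j h ↦ f i j h) i).toAlgebra
      Nonempty (M ≃ₗ[Ring.DirectLimit G (fun i j h ↦ f i j h)] (Ring.DirectLimit G (fun i j h ↦ f i j h)) ⊗[G i] Mi) := by
  classical
  obtain ⟨n, m, fM, g, hfM, hex⟩ := Module.FinitePresentation.exists_fin' (Ring.DirectLimit G (fun i j h ↦ f i j h)) M
  obtain ⟨i, x, hx⟩ := exists_stage G f (κ := Fin m × Fin n) (fun jk => g (Pi.single jk.1 1) jk.2)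
  letI : Algebra (G i) (Ring.DirectLimit G (fun i j h ↦ f i j h)) :=
        (Ring.DirectLimit.of G (fun i j h ↦ f i j h) i).toAlgebra
  letI : Module (G i) M := Module.compHom M (Ring.DirectLimit.of G (fun i j h ↦ f i j h) i)
  haveI : IsScalarTower (G i) (Ring.DirectLimit G (fun i j h ↦ f i j h)) M :=
    IsScalarTower.of_algebraMap_smul (fun r x => rfl)
  -- the stage map
  let gi : (Fin m → G i) →ₗ[G i] (Fin n → G i) := Fintype.linearCombination (G i) (fun j k => x (j, k))
  let h₁ : (Fin m → G i) →ₗ[G i] (Fin m → Ring.DirectLimit G (fun i j h ↦ f i j h)) :=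
    (Algebra.linearMap (G i) (Ring.DirectLimit G (fun i j h ↦ f i j h))).compLeft (Fin m)
  let h₂ : (Fin n → G i) →ₗ[G i] (Fin n → Ring.DirectLimit G (fun i j h ↦ f i j h)) :=
    (Algebra.linearMap (G i) (Ring.DirectLimit G (fun i j h ↦ f i j h))).compLeft (Fin n)
  have hb₁ : IsBaseChange (Ring.DirectLimit G (fun i j h ↦ f i j h)) h₁ :=
    IsBaseChange.finitePow (Fin m) (IsBaseChange.linearMap _ _)
  have hb₂ : IsBaseChange (Ring.DirectLimit G (fun i j h ↦ f i j h)) h₂ :=
    IsBaseChange.finitePow (Fin n) (IsBaseChange.linearMap _ _)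
  have comm₁ : h₂.comp gi = (g.restrictScalars (G i)).comp h₁ := by
    apply LinearMap.pi_ext'
    intro j
    ext k
    simp only [LinearMap.coe_comp, LinearMap.coe_single, Function.comp_apply, LinearMap.coe_restrictScalars]
    have e1 : gi (Pi.single j 1) = fun k => x (j, k) := by
      simp only [gi]
      rw [Fintype.linearCombination_apply_single, one_smul]
    have e2 : h₁ (Pi.single j 1) = Pi.single j 1 := by
      funext j'
      simp only [h₁, LinearMap.compLeft_apply, Function.comp_apply, Algebra.linearMap_apply]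
      by_cases hj : j' = j
      · subst hj; simp
      · simp [Pi.single_eq_of_ne hj]
    rw [e1, e2]
    simp only [h₂, LinearMap.compLeft_apply, Function.comp_apply, Algebra.linearMap_apply]
    exact hx (j, k)
  -- the quotient
  let Mi := (Fin n → G i) ⧸ LinearMap.range gi
  have hzero : LinearMap.range gi ≤ LinearMap.ker ((fM.restrictScalars (G i)).comp h₂) := by
    rintro _ ⟨v, rfl⟩
    rw [LinearMap.mem_ker, LinearMap.comp_apply]
    have := LinearMap.congr_fun comm₁ v
    rw [LinearMap.comp_apply] at this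
    rw [this, LinearMap.comp_apply, LinearMap.coe_restrictScalars, LinearMap.coe_restrictScalars]
    exact hex.apply_apply_eq_zero _
  let h₃ : Mi →ₗ[G i] M := (LinearMap.range gi).liftQ ((fM.restrictScalars (G i)).comp h₂) hzero
  have comm₂ : h₃.comp (LinearMap.range gi).mkQ = (fM.restrictScalars (G i)).comp h₂ :=
    Submodule.liftQ_mkQ _ _ _
  have hb₃ : IsBaseChange (Ring.DirectLimit G (fun i j h ↦ f i j h)) h₃ :=
    IsBaseChange.of_right_exact (Ring.DirectLimit G (fun i j h ↦ f i j h)) h₁ h₂ h₃ comm₁ comm₂ hb₁ hb₂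
      (LinearMap.exact_map_mkQ_range gi) (Submodule.mkQ_surjective _) hex hfM
  refine ⟨i, Mi, inferInstance, inferInstance, ?_, ⟨hb₃.equiv.symm⟩⟩
  have hfg : (LinearMap.ker (LinearMap.range gi).mkQ).FG := by
    rw [Submodule.ker_mkQ, LinearMap.range_eq_map]
    exact Submodule.FG.map _ (Module.Finite.fg_top)
  exact Module.finitePresentation_of_free_of_surjective (LinearMap.range gi).mkQ (Submodule.mkQ_surjective _) hfg

end Groth.Agent.S4726
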