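import Groth.Statements.S4729
import Mathlib.RingTheory.Spectrum.Prime.Module
import Mathlib.RingTheory.Localization.AtPrime.Basic

set_option autoImplicit false
universe u
open EGA4

namespace Groth.Agent.S4729

section Helpers

variable {A : Type u} [CommRing A] {M : Type u} [AddCommGroup M] [Module A M]

lemma comap_le (q : Ideal A) [q.IsPrime] (Q : PrimeSpectrum (Localization.AtPrime q)) :
    (PrimeSpectrum.comap (algebraMap A (Localization.AtPrime q)) Q).asIdeal ≤ q := by
  have h1 : Q.asIdeal ≤ IsLocalRing.maximalIdeal (Localization.AtPrime q) :=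
    IsLocalRing.le_maximalIdeal Q.isPrime.ne_top
  have h2 := Ideal.comap_mono (f := algebraMap A (Localization.AtPrime q)) h1
  rwa [show Ideal.comap (algebraMap A (Localization.AtPrime q))
      (IsLocalRing.maximalIdeal (Localization.AtPrime q)) = q from
      Localization.AtPrime.under_maximalIdeal] at h2

lemma mem_support_localized_iff (q : Ideal A) [q.IsPrime]
    (Q : PrimeSpectrum (Localization.AtPrime q)) :
    Q ∈ Module.support (Localization.AtPrime q) (LocalizedModule q.primeCompl M) ↔
      PrimeSpectrum.comap (algebraMap A (Localization.AtPrime q)) Q ∈ Module.support A M := by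
  constructor
  · intro hQ
    have h1 := Module.support_subset_preimage_comap (R := A) (A := Localization.AtPrime q)
      (M := LocalizedModule q.primeCompl M) hQ
    rw [Set.mem_preimage, Module.mem_support_iff'] at h1
    obtain ⟨x, hx⟩ := h1
    obtain ⟨⟨m, s⟩, rfl⟩ := Quotient.exists_rep x
    rw [Module.mem_support_iff']
    refine ⟨m, fun r hr hrm => hx r hr ?_⟩
    change r • LocalizedModule.mk m s = 0
    rw [LocalizedModule.smul'_mk, hrm, LocalizedModule.zero_mk]
  · intro hP
    rw [Module.mem_support_iff'] at hP ⊢
    obtain ⟨m, hm⟩ := hP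
    refine ⟨LocalizedModule.mk m 1, fun x hx hxm => ?_⟩
    obtain ⟨a, s, rfl⟩ := IsLocalization.exists_mk'_eq q.primeCompl x
    have ha : a ∉ (PrimeSpectrum.comap (algebraMap A (Localization.AtPrime q)) Q).asIdeal := by
      intro ha
      apply hx
      rw [IsLocalization.mk'_mem_iff]
      exact ha
    rw [← Localization.mk_eq_mk', LocalizedModule.mk_smul_mk, ← LocalizedModule.zero_mk (s * 1),
      LocalizedModule.mk_eq] at hxm
    obtain ⟨u, hu⟩ := hxm
    have hu' : (u.1 * (s.1 * a)) • m = 0 := by
      simpa [mul_smul, Submonoid.smul_def] using hu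
    refine hm (u.1 * (s.1 * a)) ?_ hu'
    intro hmem
    rcases (PrimeSpectrum.comap (algebraMap A (Localization.AtPrime q)) Q).isPrime.mem_or_mem hmem
      with h | h
    · exact u.2 (comap_le q Q h)
    · rcases (PrimeSpectrum.comap (algebraMap A (Localization.AtPrime q)) Q).isPrime.mem_or_mem h
        with h' | h'
      · exact s.2 (comap_le q Q h')
      · exact ha h'

end Helpers


/-- Let A be a commutative ring, M a finite A-module and p ⊆ q prime ideals of A (so that p is a
generization of q). Then the dimension of the A_p-module M_p is at most the dimension of the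
A_q-module M_q. -/
theorem result (A : Type u) [CommRing A] (M : Type u) [AddCommGroup M] [Module A M]
    [Module.Finite A M] (p q : Ideal A) [p.IsPrime] [q.IsPrime] (hpq : p ≤ q) :
    Module.supportDim (Localization.AtPrime p) (LocalizedModule p.primeCompl M) ≤
      Module.supportDim (Localization.AtPrime q) (LocalizedModule q.primeCompl M) := by
  unfold Module.supportDim
  let ep := IsLocalization.AtPrime.primeSpectrumOrderIso (Localization.AtPrime p) p
  let eq := IsLocalization.AtPrime.primeSpectrumOrderIso (Localization.AtPrime q) q
  let incl : Set.Iic (⟨p, inferInstance⟩ : PrimeSpectrum A) →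
      Set.Iic (⟨q, inferInstance⟩ : PrimeSpectrum A) := fun x => ⟨x.1, le_trans x.2 hpq⟩
  have hincl : StrictMono incl := fun a b hab => hab
  let F : PrimeSpectrum (Localization.AtPrime p) → PrimeSpectrum (Localization.AtPrime q) :=
    fun P' => eq.symm (incl (ep P'))
  have hF : StrictMono F := eq.symm.strictMono.comp (hincl.comp ep.strictMono)
  have hcomap : ∀ P', PrimeSpectrum.comap (algebraMap A (Localization.AtPrime q)) (F P') =
      PrimeSpectrum.comap (algebraMap A (Localization.AtPrime p)) P' := by
    intro P'
    have h1 : eq (F P') = incl (ep P') := eq.apply_symm_apply _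
    have h2 := congrArg (fun x => x.1) h1
    exact h2
  refine Order.krullDim_le_of_strictMono
    (fun P' => ⟨F P'.1, (mem_support_localized_iff q _).mpr ?_⟩) (fun a b hab => hF hab)
  rw [hcomap]
  exact (mem_support_localized_iff p _).mp P'.2

end Groth.Agent.S4729
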