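import Groth.Statements.S4731

set_option autoImplicit false
universe u
open EGA4

namespace Groth.Agent.S4731

theorem noeth_of_surj {S Q M : Type*} [CommRing S] [CommRing Q] [Algebra S Q] [AddCommGroup M] [Module S M]
    [Module Q M] [IsScalarTower S Q M] (hsurj : Function.Surjective (algebraMap S Q)) [IsNoetherian Q M] :
    IsNoetherian S M := by
  rw [isNoetherian_def]
  intro N
  let N' : Submodule Q M :=
    { carrier := N
      add_mem' := N.add_mem
      zero_mem' := N.zero_mem
      smul_mem' := by
        intro q x hx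
        obtain ⟨s, rfl⟩ := hsurj q
        rw [algebraMap_smul]
        exact N.smul_mem s hx }
  have h1 : N'.FG := (isNoetherian_def.mp inferInstance) N'
  have h2 := Submodule.FG.restrictScalars_of_surjective (R := S) h1 hsurj
  have : N'.restrictScalars S = N := by
    ext x; rfl
  rw [this] at h2
  exact h2

theorem noeth_of_kill {S M : Type*} [CommRing S] (c : Ideal S) [IsNoetherianRing (S ⧸ c)] [AddCommGroup M] [Module S M]
    [Module.Finite S M] (hkill : ∀ s ∈ c, ∀ m : M, s • m = 0) : IsNoetherian S M := by
  have hM : Module.IsTorsionBySet S M c := by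
    rw [Module.isTorsionBySet_iff_subset_annihilator]
    intro s hs
    rw [SetLike.mem_coe, Module.mem_annihilator]
    exact hkill s hs
  letI := hM.module
  haveI : IsScalarTower S (S ⧸ c) M := hM.isScalarTower
  haveI : Module.Finite (S ⧸ c) M := Module.Finite.of_restrictScalars_finite S (S ⧸ c) M
  haveI : IsNoetherian (S ⧸ c) M := isNoetherian_of_isNoetherianRing_of_finite _ _
  exact noeth_of_surj (Q := S ⧸ c) Ideal.Quotient.mk_surjective


/-- Let S → R be an injective homomorphism of commutative rings making R a finite S-module, with R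
Noetherian; let c be the conductor of S in R, the ideal of those s in S with s R contained in (the
image of) S. If S/c is Noetherian, then every increasing sequence of ideals of S contained in c is
eventually constant. -/
theorem result (S R : Type u) [CommRing S] [CommRing R] [Algebra S R]
    [FaithfulSMul S R] [IsNoetherianRing R] [Module.Finite S R] (c : Ideal S)
    (hc : ∀ s : S, s ∈ c ↔ ∀ r : R, ∃ s' : S, algebraMap S R s' = algebraMap S R s * r)
    [IsNoetherianRing (S ⧸ c)] (a : ℕ →o Ideal S) (ha : ∀ n, a n ≤ c) :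
    ∃ N : ℕ, ∀ n, N ≤ n → a n = a N := by
  classical
  have hinj : Function.Injective (algebraMap S R) := FaithfulSMul.algebraMap_injective S R
  -- F1
  have F1 : ∀ s ∈ c, ∀ r : R, ∃ s' ∈ c, algebraMap S R s' = algebraMap S R s * r := by
    intro s hs r
    obtain ⟨s', hs'⟩ := (hc s).mp hs r
    refine ⟨s', ?_, hs'⟩
    rw [hc]
    intro r'
    obtain ⟨s'', hs''⟩ := (hc s).mp hs (r * r')
    exact ⟨s'', by rw [hs'', hs', mul_assoc]⟩
  -- the R-ideals
  let A : ℕ →o Ideal R := ⟨fun n => Ideal.map (algebraMap S R) (a n), fun m n h => Ideal.map_mono (a.monotone h)⟩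
  obtain ⟨N₁, hN₁⟩ := monotone_stabilizes_iff_noetherian.mpr (inferInstance : IsNoetherian R R) A
  set b : Ideal R := A N₁ with hb
  set bS : Submodule S R := b.restrictScalars S with hbS
  let T : ℕ → Submodule S R := fun n => Submodule.map (Algebra.linearMap S R) (a n)
  have hTmono : Monotone T := fun m n h => Submodule.map_mono (a.monotone h)
  have hTle : ∀ n, N₁ ≤ n → T n ≤ bS := by
    intro n hn x hx
    obtain ⟨y, hy, rfl⟩ := hx
    rw [hbS, Submodule.restrictScalars_mem, hN₁ n hn]
    exact Ideal.mem_map_of_mem _ hy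
  -- F3
  have F3 : ∀ n, N₁ ≤ n → c • bS ≤ T n := by
    intro n hn
    rw [Submodule.smul_le]
    intro s hs x hx
    rw [hbS, Submodule.restrictScalars_mem, hN₁ n hn] at hx
    have key : ∀ x ∈ A n, ∀ s ∈ c, algebraMap S R s * x ∈ T n := by
      intro x hx
      change x ∈ Ideal.map (algebraMap S R) (a n) at hx
      unfold Ideal.map at hx
      induction hx using Submodule.span_induction with
      | mem x hx =>
        obtain ⟨a0, ha0, rfl⟩ := hx
        intro s hs
        rw [← map_mul]
        exact ⟨s * a0, Ideal.mul_mem_left _ _ ha0, rfl⟩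
      | zero => intro s hs; rw [mul_zero]; exact (T n).zero_mem
      | add x y _ _ hx hy => intro s hs; rw [mul_add]; exact (T n).add_mem (hx s hs) (hy s hs)
      | smul r y _ hy =>
        intro s hs
        obtain ⟨s', hs'c, hs'⟩ := F1 s hs r
        rw [smul_eq_mul, ← mul_assoc, ← hs']
        exact hy s' hs'c
    rw [Algebra.smul_def]
    exact key x hx s hs
  -- Noetherian quotient
  haveI : Module.Finite R b := Module.IsNoetherian.finite R b
  haveI : Module.Finite S bS := by
    have : Module.Finite S b := Module.Finite.trans R b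
    exact this
  set Q := ↥bS ⧸ (c • (⊤ : Submodule S ↥bS)) with hQ
  haveI : IsNoetherian S Q := by
    apply noeth_of_kill c
    intro s hs m
    obtain ⟨m', rfl⟩ := Submodule.Quotient.mk_surjective _ m
    rw [← Submodule.Quotient.mk_smul, Submodule.Quotient.mk_eq_zero]
    exact Submodule.smul_mem_smul hs Submodule.mem_top
  let U : ℕ →o Submodule S Q := ⟨fun n => Submodule.map (Submodule.mkQ _) (Submodule.comap bS.subtype (T n)),
    fun m n h => Submodule.map_mono (Submodule.comap_mono (hTmono h))⟩
  obtain ⟨N₂, hN₂⟩ := monotone_stabilizes_iff_noetherian.mpr (inferInstance : IsNoetherian S Q) U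
  refine ⟨max N₁ N₂, ?_⟩
  intro n hn
  have hn1 : N₁ ≤ n := (le_max_left _ _).trans hn
  have hn2 : N₂ ≤ n := (le_max_right _ _).trans hn
  have hU : U n = U (max N₁ N₂) := by rw [← hN₂ n hn2, ← hN₂ (max N₁ N₂) (le_max_right _ _)]
  have hT : T n ≤ T (max N₁ N₂) := by
    intro x hx
    have hxb : x ∈ bS := hTle n hn1 hx
    have h1 : Submodule.mkQ _ (⟨x, hxb⟩ : ↥bS) ∈ U n := ⟨⟨x, hxb⟩, hx, rfl⟩
    rw [hU] at h1
    obtain ⟨y', hy', hyx⟩ := h1
    have h2 : (⟨x, hxb⟩ : ↥bS) - y' ∈ c • (⊤ : Submodule S ↥bS) := by
      rw [← Submodule.Quotient.mk_eq_zero, Submodule.Quotient.mk_sub, sub_eq_zero]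
      exact hyx.symm
    have h3 : x - (y' : R) ∈ c • bS := by
      have := Submodule.mem_map_of_mem (f := bS.subtype) h2
      rw [Submodule.map_smul'', Submodule.map_top, Submodule.range_subtype] at this
      simpa using this
    have h4 := F3 (max N₁ N₂) (le_max_left _ _) h3
    have h5 : (y' : R) ∈ T (max N₁ N₂) := hy'
    have := (T (max N₁ N₂)).add_mem h4 h5
    simpa using this
  have hTeq : T n = T (max N₁ N₂) := le_antisymm hT (hTmono hn)
  have hcomap : ∀ m, a m = Submodule.comap (Algebra.linearMap S R) (T m) := by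
    intro m
    exact (Submodule.comap_map_eq_of_injective (f := Algebra.linearMap S R) hinj (a m)).symm
  rw [hcomap n, hcomap (max N₁ N₂), hTeq]

end Groth.Agent.S4731
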