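import Groth.Statements.S4733
import Groth.Agent.Lib.Helper5.RegHomLoc
import Groth.Agent.Lib.Helper5.RegHomSmooth
import Groth.Agent.Lib.Helper5.SepSmooth
import Groth.Agent.Lib.Helper22.TowerPts3
-- import your own Groth.Agent.* helpers here

set_option autoImplicit false
universe u
open EGA4

namespace Groth.Agent.S4733

open TensorProduct in
/-- For the property 'regular' (affine form): let k be a field, S a Noetherian k-algebra and k' an
extension field of k such that S is of finite type over k or k' is essentially of finite type over
k; let q' be a prime of S ⊗_k k' and q its contraction to S. If (S ⊗_k k')_{q'} is a regular local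
ring then so is S_q; conversely, if k' is separable over k (geometrically reduced) and S_q is
regular, then (S ⊗_k k')_{q'} is regular. -/
theorem result (k S k' : Type u) [Field k] [CommRing S] [Algebra k S]
    [IsNoetherianRing S] [Field k'] [Algebra k k'] (hft : Algebra.FiniteType k S ∨ Algebra.EssFiniteType k k')
    [IsNoetherianRing (S ⊗[k] k')] (q' : Ideal (S ⊗[k] k')) [q'.IsPrime] :
    (IsRegularLocalRing (Localization.AtPrime q') →
        IsRegularLocalRing (Localization.AtPrime (q'.comap (algebraMap S (S ⊗[k] k'))))) ∧
      (Algebra.IsGeometricallyReduced k k' →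
        IsRegularLocalRing (Localization.AtPrime (q'.comap (algebraMap S (S ⊗[k] k')))) →
          IsRegularLocalRing (Localization.AtPrime q')) := by
  refine ⟨fun hreg => ?_, fun hsep hreg => ?_⟩
  · have hflat : (algebraMap S (S ⊗[k] k')).Flat :=
      RingHom.flat_algebraMap_iff.2 inferInstance
    have h1 := hflat.localRingHom q' (q'.comap (algebraMap S (S ⊗[k] k'))) rfl
    have _ : IsLocalHom (Localization.localRingHom (q'.comap (algebraMap S (S ⊗[k] k'))) q'
        (algebraMap S (S ⊗[k] k')) rfl) :=
      Localization.isLocalHom_localRingHom _ _ _ rfl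
    exact Lib.Helper22.TowerPts.isRegularLocalRing_of_flat_isLocalHom _ _ _ h1 hreg
  · have _ : Algebra.FormallySmooth k k' := Lib.Helper5.SepSmooth.formallySmooth_of_geomReduced
    have h1 : CAlg.IsRegularHom S (S ⊗[k] k') :=
      Lib.Helper5.RegHomSmooth.isRegularHom_of_formallySmooth S (S ⊗[k] k')
    exact Lib.Helper5.RegHom.regular_localization_of_isRegularHom S (S ⊗[k] k') h1 q' hreg

end Groth.Agent.S4733
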