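import Groth.Statements.S4734
import Groth.Agent.S2612
import Groth.Agent.Lib.Helper7.GrLoc
import Groth.Agent.Lib.Helper21.DepthKit15

set_option autoImplicit false
universe u
open EGA4

namespace Groth.Agent.S4734

open Groth.Agent.Lib.Helper7.GrLoc

theorem key (A : Type u) [CommRing A] [IsNoetherianRing A]
    (I : Ideal A) (hI : IsNilpotent I) (M : Type u) [AddCommGroup M] [Module A M] [Module.Finite A M]
    (hM : EGA4.IsNormallyFlat I M) (q : Ideal A) [q.IsPrime]
    (hq : Nontrivial (LocalizedModule q.primeCompl M)) :
    Module.supportDim (Localization.AtPrime q) (LocalizedModule q.primeCompl M) =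
        ringKrullDim (Localization.AtPrime q ⧸ I.map (algebraMap A (Localization.AtPrime q))) ∧
      LocCoh.depth (Localization.AtPrime q) (LocalizedModule q.primeCompl M) =
        LocCoh.depth (Localization.AtPrime q)
          (Localization.AtPrime q ⧸ I.map (algebraMap A (Localization.AtPrime q))) := by
  have hI' : IsNilpotent (I.map (algebraMap A (Localization.AtPrime q))) := by
    obtain ⟨k, hk⟩ := hI
    exact ⟨k, by rw [← Ideal.map_pow, hk, Ideal.zero_eq_bot, Ideal.map_bot]; rfl⟩
  exact Groth.Agent.S2612.result (Localization.AtPrime q) _ hI' (LocalizedModule q.primeCompl M)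
    (isNormallyFlat_of_isLocalizedModule q.primeCompl
      (LocalizedModule.mkLinearMap q.primeCompl M) I hM)

theorem key2 (A : Type u) [CommRing A] [IsNoetherianRing A]
    (I : Ideal A) (hI : IsNilpotent I) (M : Type u) [AddCommGroup M] [Module A M] [Module.Finite A M]
    (hsupp : Module.support A M = Set.univ) (hM : EGA4.IsNormallyFlat I M) (q : Ideal A) [q.IsPrime] :
    Module.supportDim (Localization.AtPrime q) (LocalizedModule q.primeCompl M) =
        Module.supportDim (Localization.AtPrime q) (LocalizedModule q.primeCompl (A ⧸ I)) ∧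
      LocCoh.depth (Localization.AtPrime q) (LocalizedModule q.primeCompl M) =
        LocCoh.depth (Localization.AtPrime q) (LocalizedModule q.primeCompl (A ⧸ I)) := by
  have h1 : Nontrivial (LocalizedModule q.primeCompl M) := by
    have : (⟨q, inferInstance⟩ : PrimeSpectrum A) ∈ Module.support A M := by
      rw [hsupp]; trivial
    exact Module.mem_support_iff.1 this
  have hIq : I ≤ q := by
    intro x hx
    obtain ⟨k, hk⟩ := hI
    have : x ^ k ∈ I ^ k := Ideal.pow_mem_pow hx k
    rw [hk] at this
    have h0 : x ^ k = 0 := this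
    exact Ideal.IsPrime.mem_of_pow_mem inferInstance k (h0 ▸ q.zero_mem)
  have h2 : Nontrivial (LocalizedModule q.primeCompl (A ⧸ I)) := by
    have : (⟨q, inferInstance⟩ : PrimeSpectrum A) ∈ Module.support A (A ⧸ I) := by
      rw [Module.support_eq_zeroLocus, Ideal.annihilator_quotient]
      exact hIq
    exact Module.mem_support_iff.1 this
  obtain ⟨a1, a2⟩ := key A I hI M hM q h1
  obtain ⟨b1, b2⟩ := key A I hI (A ⧸ I) (isNormallyFlat_quotient_self I) q h2
  exact ⟨a1.trans b1.symm, a2.trans b2.symm⟩

/-- Let A be a Noetherian ring, I a nilpotent ideal of A and M a finite A-module whose support is all of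
Spec A and which is normally flat along I. Then for every prime p of A: M satisfies Serre's
condition (S_n) at p if and only if the A-module A/I does; and the codepth of M_p is at most n if
and only if the codepth of the A_p-module (A/I)_p is at most n (codepth written additively as dim ≤
depth + n). -/
theorem result (n : ℕ) (A : Type u) [CommRing A] [IsNoetherianRing A]
    (I : Ideal A) (hI : IsNilpotent I) (M : Type u) [AddCommGroup M] [Module A M] [Module.Finite A M]
    (hsupp : Module.support A M = Set.univ) (hM : EGA4.IsNormallyFlat I M) (p : Ideal A) [p.IsPrime] :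
    (EGA4.HasSkAt n A M p ↔ EGA4.HasSkAt n A (A ⧸ I) p) ∧
      (Module.supportDim (Localization.AtPrime p) (LocalizedModule p.primeCompl M) ≤
          ((LocCoh.depth (Localization.AtPrime p) (LocalizedModule p.primeCompl M) : ℕ∞) : WithBot ℕ∞) + n ↔
        Module.supportDim (Localization.AtPrime p) (LocalizedModule p.primeCompl (A ⧸ I)) ≤
          ((LocCoh.depth (Localization.AtPrime p) (LocalizedModule p.primeCompl (A ⧸ I)) : ℕ∞) : WithBot ℕ∞) + n) := by
  constructor
  · rw [Groth.Agent.Lib.Helper21.DepthKit.hasSkAt_iff, Groth.Agent.Lib.Helper21.DepthKit.hasSkAt_iff]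
    refine forall_congr' fun q => forall_congr' fun hq => ?_
    haveI := hq
    obtain ⟨e1, e2⟩ := key2 A I hI M hsupp hM q
    rw [e1, e2]
  · obtain ⟨e1, e2⟩ := key2 A I hI M hsupp hM p
    rw [e1, e2]

end Groth.Agent.S4734
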