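import Groth.Statements.S4742
import Mathlib
import Groth.Agent.S2660

set_option autoImplicit false
universe u
open EGA4

namespace Groth.Agent.S4742

open IsLocalRing

/-- If `t` avoids every minimal prime, heights drop by at least one in `A/tA`. -/
theorem height_map_add_one_le {A : Type u} [CommRing A] [IsNoetherianRing A] (t : A)
    (hmin : ∀ P ∈ minimalPrimes A, t ∉ P) (q : Ideal A) [hq : q.IsPrime] (htq : t ∈ q) :
    (q.map (Ideal.Quotient.mk (Ideal.span {t}))).height + 1 ≤ q.height := by
  set I : Ideal A := Ideal.span {t} with hI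
  have hIq : I ≤ q := (Ideal.span_singleton_le_iff_mem _).2 htq
  have hsurj : Function.Surjective (Ideal.Quotient.mk I) := Ideal.Quotient.mk_surjective
  haveI hq' : (q.map (Ideal.Quotient.mk I)).IsPrime :=
    Ideal.map_isPrime_of_surjective hsurj (by rwa [Ideal.mk_ker])
  have hcomap : (q.map (Ideal.Quotient.mk I)).comap (Ideal.Quotient.mk I) = q := by
    rw [Ideal.comap_map_of_surjective _ hsurj, ← RingHom.ker_eq_comap_bot, Ideal.mk_ker]
    exact sup_eq_left.2 hIq
  have hfin : (q.map (Ideal.Quotient.mk I)).height ≠ ⊤ := Ideal.height_ne_top hq'.ne_top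
  obtain ⟨n, hn⟩ := ENat.ne_top_iff_exists.1 hfin
  rw [← hn]
  have hn' : (n : ℕ∞) ≤ Order.height (⟨q.map (Ideal.Quotient.mk I), hq'⟩ : PrimeSpectrum (A ⧸ I)) := by
    rw [← PrimeSpectrum.height_eq_orderHeight, hn]
  obtain ⟨s, hs1, hs2⟩ := Order.exists_series_of_le_height _ hn'
  -- map the series to `Spec A`
  let c : PrimeSpectrum (A ⧸ I) → PrimeSpectrum A := PrimeSpectrum.comap (Ideal.Quotient.mk I)
  have hc : StrictMono c := by
    intro x y hxy
    refine lt_of_le_of_ne ?_ ?_
    · exact Ideal.comap_mono hxy.le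
    · intro h
      exact hxy.ne (PrimeSpectrum.comap_injective_of_surjective _ hsurj h)
  let s' : LTSeries (PrimeSpectrum A) := s.map c hc
  have hs'last : s'.last = ⟨q, hq⟩ := by
    rw [LTSeries.last_map, hs1]
    exact PrimeSpectrum.ext hcomap
  have hthead : t ∈ (s'.head).asIdeal := by
    rw [LTSeries.head_map]
    change (Ideal.Quotient.mk I) t ∈ s.head.asIdeal
    rw [Ideal.Quotient.eq_zero_iff_mem.2 (Ideal.mem_span_singleton_self t)]
    exact zero_mem _
  obtain ⟨P, hP, hPle⟩ := Ideal.exists_minimalPrimes_le (bot_le : (⊥ : Ideal A) ≤ (s'.head).asIdeal)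
  have hP' : P ∈ minimalPrimes A := hP
  haveI hPp : P.IsPrime := hP.1.1
  have hlt : (⟨P, hPp⟩ : PrimeSpectrum A) < s'.head :=
    lt_of_le_of_ne hPle (fun h => hmin P hP' (by
      have : P = (s'.head).asIdeal := congrArg PrimeSpectrum.asIdeal h
      rw [this]; exact hthead))
  have hlen := Order.length_le_height_last (p := s'.cons ⟨P, hPp⟩ hlt)
  rw [RelSeries.last_cons, hs'last, ← PrimeSpectrum.height_eq_orderHeight] at hlen
  have hl : (s'.cons ⟨P, hPp⟩ hlt).length = n + 1 := by
    rw [RelSeries.cons_length, LTSeries.map_length, hs2]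
  rw [hl] at hlen
  exact_mod_cast hlen

/-- `t` is not in any minimal prime. -/
theorem not_mem_minimalPrimes {A : Type u} [CommRing A] [IsNoetherianRing A] [IsLocalRing A]
    (hA : EGA4.IsEquidim A) (t : A)
    (ht : ringKrullDim (A ⧸ Ideal.span {t}) + 1 = ringKrullDim A) :
    ∀ P ∈ minimalPrimes A, t ∉ P := by
  intro P hP htP
  have h1 := hA P hP
  have hle : ringKrullDim (A ⧸ P) ≤ ringKrullDim (A ⧸ Ideal.span {t}) :=
    ringKrullDim_le_of_surjective (Ideal.Quotient.factor ((Ideal.span_singleton_le_iff_mem _).2 htP))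
      (Ideal.Quotient.factor_surjective _)
  rw [h1, ← ht] at hle
  have hfin : ringKrullDim A < ⊤ := ringKrullDim_lt_top
  have h0 : 0 ≤ ringKrullDim A := ringKrullDim_nonneg_of_nontrivial
  rw [← ht] at hfin h0
  generalize ringKrullDim (A ⧸ Ideal.span {t}) = x at *
  induction x using WithBot.recBotCoe with
  | bot => simp at h0
  | coe x =>
    induction x using ENat.recTopCoe with
    | top =>
      exact absurd hfin (not_lt.2 (le_add_of_le_of_nonneg (le_of_eq WithBot.coe_top.symm) zero_le_one))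
    | coe n =>
      have : ((n + 1 : ℕ) : WithBot ℕ∞) ≤ (n : ℕ) := by exact_mod_cast hle
      have h' : n + 1 ≤ n := by exact_mod_cast this
      omega

theorem mem_maximalIdeal {A : Type u} [CommRing A] [IsNoetherianRing A] [IsLocalRing A] (t : A)
    (ht : ringKrullDim (A ⧸ Ideal.span {t}) + 1 = ringKrullDim A) : t ∈ maximalIdeal A := by
  by_contra h
  have hu : IsUnit t := by
    by_contra h'
    exact h ((IsLocalRing.mem_maximalIdeal t).2 h')
  have htop : Ideal.span {t} = ⊤ := Ideal.span_singleton_eq_top.2 hu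
  have hsub : Subsingleton (A ⧸ Ideal.span {t}) := Ideal.Quotient.subsingleton_iff.2 htop
  have hbot : ringKrullDim (A ⧸ Ideal.span {t}) = ⊥ := ringKrullDim_eq_bot_of_subsingleton
  rw [hbot] at ht
  have h0 : 0 ≤ ringKrullDim A := ringKrullDim_nonneg_of_nontrivial
  rw [← ht] at h0
  simp at h0

/-- Let A be a Noetherian local ring which is equidimensional and catenary, t an element of A belonging
to a system of parameters (dim A/tA + 1 = dim A), and Z a set of prime ideals of A stable under
specialization. Write X = Spec A, X₀ = V(t), X₁ = X ∖ X₀ and Z₀ = Z ∩ X₀, Z₁ = Z ∩ X₁. Then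
codim(Z₀, X₀) ≤ codim(Z, X) ≤ codim(Z₁, X₁), where each codimension is the infimum of the heights of
the primes concerned, heights for Z₀ being taken in A/tA. -/
theorem result (A : Type u) [CommRing A] [IsNoetherianRing A] [IsLocalRing A]
    (hA : EGA4.IsEquidim A) (hA' : CAlg.IsCatenary A) (t : A)
    (ht : ringKrullDim (A ⧸ Ideal.span {t}) + 1 = ringKrullDim A) (Z : Set (PrimeSpectrum A))
    (hZ : StableUnderSpecialization Z) :
    (⨅ p ∈ {p ∈ Z | t ∈ p.asIdeal}, (p.asIdeal.map (Ideal.Quotient.mk (Ideal.span {t}))).height) ≤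
        ⨅ p ∈ Z, p.asIdeal.height ∧
      (⨅ p ∈ Z, p.asIdeal.height) ≤ ⨅ p ∈ {p ∈ Z | t ∉ p.asIdeal}, p.asIdeal.height := by
  classical
  have hmin := not_mem_minimalPrimes hA t ht
  have htm := mem_maximalIdeal t ht
  refine ⟨?_, ?_⟩
  · refine le_iInf₂ fun p hp => ?_
    by_cases htp : t ∈ p.asIdeal
    · refine iInf₂_le_of_le p ⟨hp, htp⟩ ?_
      haveI := p.2
      exact le_self_add.trans (height_map_add_one_le t hmin p.asIdeal htp)
    · haveI := p.2
      obtain ⟨q, hq, hqmin, hpq, htq, hcov⟩ := Groth.Agent.S2660.exists_cover t htm p.asIdeal htp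
      have hqZ : (⟨q, hq⟩ : PrimeSpectrum A) ∈ Z := by
        refine hZ ?_ hp
        rw [← PrimeSpectrum.le_iff_specializes]
        exact hpq
      refine iInf₂_le_of_le ⟨q, hq⟩ ⟨hqZ, htq⟩ ?_
      have h1 := height_map_add_one_le t hmin q htq
      have h2 := Groth.Agent.S2660.height_le_of_covBy hA' hA ⟨p.asIdeal, p.2⟩ ⟨q, hq⟩ hcov
      have h3 := h1.trans h2
      exact (ENat.add_le_add_iff_right (by simp)).1 h3
  · exact le_iInf₂ fun p hp => iInf₂_le p hp.1

end Groth.Agent.S4742
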