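import Groth.Statements.S4750
import Mathlib
import Groth.Agent.Lib.Helper21.FlatLocal10

set_option autoImplicit false
universe u
open EGA4

namespace Groth.Agent.S4750

open Groth.Agent.Lib.Helper21


/-- Let A → B → C be homomorphisms of Noetherian rings, both flat and with (S_n) fibres. Then the
composite A → C is flat with (S_n) fibres. -/
theorem result (n : ℕ) (A B C : Type u) [CommRing A] [CommRing B] [CommRing C] [IsNoetherianRing A]
    [IsNoetherianRing B] [IsNoetherianRing C] [Algebra A B] [Algebra B C] [Algebra A C] [IsScalarTower A B C]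
    [Module.Flat A B] [Module.Flat B C]
    (hAB : ∀ (p : Ideal A) [p.IsPrime], LocCoh.HasSk n (p.Fiber B) (p.Fiber B))
    (hBC : ∀ (q : Ideal B) [q.IsPrime], LocCoh.HasSk n (q.Fiber C) (q.Fiber C)) :
    Module.Flat A C ∧ ∀ (p : Ideal A) [p.IsPrime], LocCoh.HasSk n (p.Fiber C) (p.Fiber C) := by
  refine ⟨Module.Flat.trans A B C, ?_⟩
  intro p hp Q hQ
  set r := Q.comap (Algebra.TensorProduct.includeRight : C →ₐ[A] p.Fiber C) with hr
  rw [FlatLocal.supportDim_fiber_loc p Q r rfl, FlatLocal.depth_fiber_loc p Q r rfl]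
  have hrp : r.under A = p := by
    haveI := FlatLocal.comap_includeRight_liesOver p Q
    exact (Ideal.over_def r p).symm
  apply FlatLocal.sk_ineq_comp (A := A) (B := B) n r
  · obtain ⟨QC, hQC, hQCr⟩ := FlatLocal.exists_fiber_prime (r.under B) r rfl
    exact FlatLocal.sk_ineq_fibLocMod_of_fiber (r.under B) QC n (hBC (r.under B)) r hQCr
  · have hqp : (r.under B).under A = p := by
      rw [FlatLocal.under_under_eq]
      exact hrp
    obtain ⟨QB, hQB, hQBq⟩ := FlatLocal.exists_fiber_prime p (r.under B) hqp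
    exact FlatLocal.sk_ineq_fibLocMod_of_fiber p QB n (hAB p) (r.under B) hQBq

end Groth.Agent.S4750
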