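import Groth.Statements.S4751
import Mathlib
import Groth.Agent.Lib.Helper21.FlatLocal12

set_option autoImplicit false
universe u
open EGA4

namespace Groth.Agent.S4751

open Groth.Agent.Lib.Helper21


/-- Let A → B → C be homomorphisms of Noetherian rings such that B → C is faithfully flat with (S_n)
fibres and the composite A → C is flat with (S_n) fibres. Then A → B is flat with (S_n) fibres. -/
theorem result (n : ℕ) (A B C : Type u) [CommRing A] [CommRing B] [CommRing C]
    [IsNoetherianRing A] [IsNoetherianRing B] [IsNoetherianRing C] [Algebra A B] [Algebra B C] [Algebra A C]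
    [IsScalarTower A B C] [Module.FaithfullyFlat B C] [Module.Flat A C]
    (hBC : ∀ (q : Ideal B) [q.IsPrime], LocCoh.HasSk n (q.Fiber C) (q.Fiber C))
    (hAC : ∀ (p : Ideal A) [p.IsPrime], LocCoh.HasSk n (p.Fiber C) (p.Fiber C)) :
    Module.Flat A B ∧ ∀ (p : Ideal A) [p.IsPrime], LocCoh.HasSk n (p.Fiber B) (p.Fiber B) := by
  refine ⟨FlatLocal.flat_of_faithfullyFlat_comp A B C, ?_⟩
  intro p hp Q hQ
  set q := Q.comap (Algebra.TensorProduct.includeRight : B →ₐ[A] p.Fiber B) with hq
  rw [FlatLocal.supportDim_fiber_loc p Q q rfl, FlatLocal.depth_fiber_loc p Q q rfl]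
  obtain ⟨r, hr, hrq, hmin⟩ := FlatLocal.exists_good_prime (C := C) q
  rw [← hrq] at hmin
  have key : ∀ (q' : Ideal B) [q'.IsPrime], q' = r.under B →
      min (n : WithBot ℕ∞) (Module.supportDim (Localization.AtPrime q') (EGA4.FibLocMod A B q' B)) ≤
      ((LocCoh.depth (Localization.AtPrime q') (EGA4.FibLocMod A B q' B) : ℕ∞) : WithBot ℕ∞) := by
    intro q' _ h
    subst h
    rw [← FlatLocal.depth_descent (A := A) r hmin, ← FlatLocal.supportDim_descent (A := A) r hmin]
    obtain ⟨QC, hQC, hQCr⟩ := FlatLocal.exists_fiber_prime (r.under A) r rfl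
    exact FlatLocal.sk_ineq_fibLocMod_of_fiber (r.under A) QC n (hAC _) r hQCr
  exact key q hrq.symm

end Groth.Agent.S4751
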