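import Groth.Statements.S4753
import Mathlib
import Groth.Agent.Lib.Helper21.FlatLocal12

set_option autoImplicit false
universe u
open EGA4

namespace Groth.Agent.S4753

open Groth.Agent.Lib.Helper21 TensorProduct

/-- base change of a faithfully flat `B → C` along any `A`-module stays injective. -/
theorem rTensor_injective_of_faithfullyFlat (A B C : Type u) [CommRing A] [CommRing B] [CommRing C]
    [Algebra A B] [Algebra B C] [Algebra A C] [IsScalarTower A B C] [Module.FaithfullyFlat B C]
    (N : Type u) [AddCommGroup N] [Module A N] :
    Function.Injective (LinearMap.rTensor N (IsScalarTower.toAlgHom A B C).toLinearMap) := by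
  have h1 : Function.Injective (TensorProduct.mk B C (B ⊗[A] N) 1) :=
    Module.FaithfullyFlat.tensorProduct_mk_injective (A := B) (B := C) (B ⊗[A] N)
  have h2 : ∀ x : B ⊗[A] N, LinearMap.rTensor N (IsScalarTower.toAlgHom A B C).toLinearMap x =
      AlgebraTensorModule.cancelBaseChange A B C C N (TensorProduct.mk B C (B ⊗[A] N) 1 x) := by
    intro x
    induction x using TensorProduct.induction_on with
    | zero => simp
    | tmul b n =>
      simp [Algebra.smul_def]
    | add x y hx hy =>
      rw [map_add, map_add, map_add, hx, hy]
  intro x y hxy
  rw [h2, h2] at hxy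
  exact h1 ((AlgebraTensorModule.cancelBaseChange A B C C N).injective hxy)

theorem lTensor_injective_of_faithfullyFlat (A B C : Type u) [CommRing A] [CommRing B] [CommRing C]
    [Algebra A B] [Algebra B C] [Algebra A C] [IsScalarTower A B C] [Module.FaithfullyFlat B C]
    (N : Type u) [AddCommGroup N] [Module A N] :
    Function.Injective (LinearMap.lTensor N (IsScalarTower.toAlgHom A B C).toLinearMap) := by
  rw [LinearMap.lTensor_inj_iff_rTensor_inj]
  exact rTensor_injective_of_faithfullyFlat A B C N


/-- Case of reduced morphisms, affine form: let A → B → C be homomorphisms of Noetherian rings such that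
B → C is faithfully flat with geometrically reduced fibres and the composite A → C is flat with
geometrically reduced fibres. Then A → B is flat with geometrically reduced fibres. -/
theorem result (A B C : Type u) [CommRing A] [CommRing B] [CommRing C]
    [IsNoetherianRing A] [IsNoetherianRing B] [IsNoetherianRing C] [Algebra A B] [Algebra B C] [Algebra A C]
    [IsScalarTower A B C] [Module.FaithfullyFlat B C] [Module.Flat A C]
    (hBC : ∀ (q : Ideal B) [q.IsPrime], Algebra.IsGeometricallyReduced q.ResidueField (q.Fiber C))
    (hAC : ∀ (p : Ideal A) [p.IsPrime], Algebra.IsGeometricallyReduced p.ResidueField (p.Fiber C)) :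
    Module.Flat A B ∧ ∀ (p : Ideal A) [p.IsPrime], Algebra.IsGeometricallyReduced p.ResidueField (p.Fiber B) := by
  refine ⟨FlatLocal.flat_of_faithfullyFlat_comp A B C, ?_⟩
  intro p hp
  haveI := hAC p
  let f : p.Fiber B →ₐ[p.ResidueField] p.Fiber C :=
    Algebra.TensorProduct.map (AlgHom.id p.ResidueField p.ResidueField) (IsScalarTower.toAlgHom A B C)
  have hf : Function.Injective f := by
    have := lTensor_injective_of_faithfullyFlat A B C p.ResidueField
    intro x y hxy
    apply this
    exact hxy
  exact Algebra.IsGeometricallyReduced.of_injective f hf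

end Groth.Agent.S4753
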