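import Groth.Statements.S4755
import Mathlib
import Groth.Agent.Lib.Helper21.CMKit
import Groth.Agent.Lib.Helper21.FlatLocal11
import Groth.Agent.Lib.Helper22.FormalFibQuot

set_option autoImplicit false
universe u
open EGA4

namespace Groth.Agent.S4755

open Groth.Agent.Lib.Helper21 Groth.Agent.Lib.Helper21.CMKit
open TensorProduct


/-- For the property 'Cohen–Macaulay', case of a local ring: if the formal fibres of a Noetherian local
ring A are Cohen–Macaulay, then so are the formal fibres of A/I for every proper ideal I of A. -/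
theorem result (A : Type u) [CommRing A] [IsNoetherianRing A] [IsLocalRing A]
    (hA : EGA4.HasCMFormalFibres A) (I : Ideal A) [Nontrivial (A ⧸ I)] :
    EGA4.HasCMFormalFibres (A ⧸ I) := by
  intro P hP
  haveI : IsNoetherianRing (EGA4.Cpl A) :=
    Groth.Agent.Lib.helper19.isNoetherianRing_adicCompletion A (IsLocalRing.maximalIdeal A)
  haveI : IsNoetherianRing (EGA4.Cpl (A ⧸ I)) :=
    Groth.Agent.Lib.helper19.isNoetherianRing_adicCompletion (A ⧸ I) (IsLocalRing.maximalIdeal (A ⧸ I))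
  obtain ⟨e⟩ := Groth.Agent.Lib.Helper22.FormalFibQuot.nonempty_tensor_cpl_algEquiv A I
  set p : Ideal A := P.comap (Ideal.Quotient.mk I) with hp
  haveI : p.IsPrime := Ideal.comap_isPrime _ _
  -- the residue fields agree
  let f : p.ResidueField →ₐ[A] P.ResidueField :=
    Ideal.ResidueField.mapₐ p P (Ideal.Quotient.mkₐ A I) rfl
  have hf : Function.Bijective f :=
    RingHom.SurjectiveOnStalks.residueFieldMap_bijective
      (RingHom.surjectiveOnStalks_of_surjective Ideal.Quotient.mk_surjective) p P rfl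
  let ef : p.ResidueField ≃ₐ[A] P.ResidueField := AlgEquiv.ofBijective f hf
  let e1 : P.ResidueField ⊗[A ⧸ I] EGA4.Cpl (A ⧸ I) ≃ₐ[A ⧸ I]
      P.ResidueField ⊗[A ⧸ I] ((A ⧸ I) ⊗[A] EGA4.Cpl A) :=
    Algebra.TensorProduct.congr AlgEquiv.refl e.symm
  let e2 : P.ResidueField ⊗[A ⧸ I] ((A ⧸ I) ⊗[A] EGA4.Cpl A) ≃ₐ[P.ResidueField]
      P.ResidueField ⊗[A] EGA4.Cpl A :=
    Algebra.TensorProduct.cancelBaseChange A (A ⧸ I) P.ResidueField P.ResidueField (EGA4.Cpl A)
  let e3 : p.ResidueField ⊗[A] EGA4.Cpl A ≃ₐ[A] P.ResidueField ⊗[A] EGA4.Cpl A :=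
    Algebra.TensorProduct.congr ef AlgEquiv.refl
  let E : p.Fiber (EGA4.Cpl A) ≃+* P.Fiber (EGA4.Cpl (A ⧸ I)) :=
    e3.toRingEquiv.trans (e2.symm.toRingEquiv.trans e1.symm.toRingEquiv)
  haveI := FlatLocal.isNoetherianRing_fiber (R := A) (S := EGA4.Cpl A) p
  haveI := FlatLocal.isNoetherianRing_fiber (R := A ⧸ I) (S := EGA4.Cpl (A ⧸ I)) P
  exact isCM_of_ringEquiv E (hA p)

end Groth.Agent.S4755
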