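import Groth.Statements.S4758
import Mathlib.AlgebraicGeometry.PullbackCarrier
import Mathlib.AlgebraicGeometry.ResidueField
-- import your own Groth.Agent.* helpers here

set_option autoImplicit false
universe u
open CategoryTheory AlgebraicGeometry
open Lim8

namespace Groth.Agent.S4758

/-- Let S = lim S_i be a cofiltered limit of schemes with affine transition maps and let i be an index.
The canonical projection S ⟶ S_i is surjective if and only if every transition map S_j ⟶ S_i is
surjective. -/
theorem result {I : Type u} [SmallCategory I] [IsCofiltered I]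
    (D : I ⥤ Scheme.{u}) (c : Limits.Cone D) (hc : Limits.IsLimit c)
    [∀ (i j : I) (f : i ⟶ j), IsAffineHom (D.map f)] (i : I) :
    Surjective (c.π.app i) ↔ ∀ (j : I) (φ : j ⟶ i), Surjective (D.map φ) := by
  constructor
  · intro h j φ
    have : Surjective (c.π.app j ≫ D.map φ) := by rw [c.w]; exact h
    exact Surjective.of_comp (c.π.app j) (D.map φ)
  · intro h
    refine ⟨fun s => ?_⟩
    let g := (D.obj i).fromSpecResidueField s
    let F : Over i ⥤ Scheme := Over.post D ⋙ Over.pullback g ⋙ Over.forget _
    let c' : Limits.Cone F :=
      (Over.pullback g ⋙ Over.forget _).mapCone ((Over.conePost _ _).obj c)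
    have hc' : Limits.IsLimit c' :=
      Limits.isLimitOfPreserves (Over.pullback g ⋙ Over.forget _) (Over.isLimitConePost _ hc)
    have hAff : ∀ j, IsAffine (F.obj j) := by
      intro j
      change IsAffine (Limits.pullback (D.map j.hom) g)
      have : IsAffineHom (Limits.pullback.snd (D.map j.hom) g) :=
        MorphismProperty.pullback_snd _ _ inferInstance
      exact isAffine_of_isAffineHom (Limits.pullback.snd (D.map j.hom) g)
    have hNe : ∀ j, Nonempty (F.obj j) := by
      intro j
      have := h j.left j.hom
      obtain ⟨x, hx⟩ := this.surj s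
      obtain ⟨y, hy⟩ : ∃ y, g y = s := ⟨Classical.arbitrary _, by simp [g]⟩
      obtain ⟨z, -⟩ := Scheme.Pullback.exists_preimage_pullback (f := D.map j.hom) (g := g) x y
        (hx.trans hy.symm)
      exact ⟨z⟩
    have hAffHom : ∀ {j k} (f : j ⟶ k), IsAffineHom (F.map f) := by
      intro j k f
      infer_instance
    have hCpt : ∀ j, CompactSpace (F.obj j) := by
      intro j
      infer_instance
    obtain ⟨z⟩ := Scheme.nonempty_of_isLimit F c' hc'
    refine ⟨(Limits.pullback.fst (c.π.app i) g) z, ?_⟩
    have := Limits.pullback.condition (f := c.π.app i) (g := g)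
    have h2 := congrArg (fun φ => φ z) this
    simp only [Scheme.Hom.comp_apply] at h2
    rw [h2]
    simp [g]

end Groth.Agent.S4758
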