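import Groth.Statements.S4760
import Mathlib.AlgebraicGeometry.Morphisms.FinitePresentation
-- import your own Groth.Agent.* helpers here

set_option autoImplicit false
universe u
open CategoryTheory AlgebraicGeometry
open Lim8

namespace Groth.Agent.S4760


theorem isCompact_of_isConstructible (X : Scheme.{u}) [CompactSpace X] [QuasiSeparatedSpace X]
    (Z : Set X) (hZ : Topology.IsConstructible Z) : IsCompact Z := by
  have hb : TopologicalSpace.IsTopologicalBasis
      (Set.range (fun U : X.affineOpens => ((U : X.Opens) : Set X))) := by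
    have := X.isBasis_affineOpens
    rw [TopologicalSpace.Opens.IsBasis, Set.image_eq_range] at this
    convert this using 2
  have : Nonempty X.affineOpens := ⟨⟨⊥, isAffineOpen_bot X⟩⟩
  induction Z, hZ using Topology.IsConstructible.induction_of_isTopologicalBasis
      _ hb with
  | isCompact_basis i => exact i.2.isCompact
  | sdiff i s hs =>
    exact IsCompact.diff i.2.isCompact (isOpen_biUnion fun j _ => j.1.2)
  | union s hs t ht Hs Ht => exact Hs.union Ht

theorem exists_compact_opens (X : Scheme.{u}) [CompactSpace X] [QuasiSeparatedSpace X]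
    (Z : Set X) (hZ : Topology.IsConstructible Z) (hZ' : IsLocallyClosed Z) :
    ∃ U V : X.Opens, IsCompact (U : Set X) ∧ IsCompact (V : Set X) ∧ Z = (U : Set X) \ (V : Set X) := by
  obtain ⟨U₀, C, hU₀, hC, rfl⟩ := hZ'
  have hZc := isCompact_of_isConstructible X _ hZ
  have hex : ∀ z ∈ U₀ ∩ C, ∃ W : X.Opens, IsCompact (W : Set X) ∧ z ∈ W ∧ (W : Set X) ⊆ U₀ := by
    intro z hz
    obtain ⟨W, hW, hzW, hWU⟩ := TopologicalSpace.Opens.isBasis_iff_nbhd.mp X.isBasis_affineOpens
      (U := ⟨U₀, hU₀⟩) hz.1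
    exact ⟨W, IsAffineOpen.isCompact hW, hzW, hWU⟩
  choose W hWc hzW hWU using hex
  obtain ⟨t, ht⟩ := hZc.elim_nhds_subcover' (fun z hz => (W z hz : Set X))
    (fun z hz => (W z hz).2.mem_nhds (hzW z hz))
  let U' : X.Opens := ⟨⋃ x ∈ t, (W x.1 x.2 : Set X), isOpen_biUnion fun x _ => (W x.1 x.2).2⟩
  have hU'c : IsCompact (U' : Set X) := t.isCompact_biUnion fun x _ => hWc x.1 x.2
  have hU'U : (U' : Set X) ⊆ U₀ := Set.iUnion₂_subset fun x _ => hWU x.1 x.2
  have hZU' : U₀ ∩ C ⊆ (U' : Set X) := ht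
  have hZeq : U₀ ∩ C = (U' : Set X) ∩ C :=
    Set.Subset.antisymm (fun x hx => ⟨hZU' hx, hx.2⟩) (fun x hx => ⟨hU'U hx.1, hx.2⟩)
  let V : X.Opens := ⟨(U' : Set X) ∩ Cᶜ, U'.2.inter hC.isOpen_compl⟩
  have hVc : IsCompact (V : Set X) := by
    apply isCompact_of_isConstructible
    have h1 : Topology.IsConstructible (U' : Set X) := hU'c.isConstructible U'.2
    have : (V : Set X) = (U' : Set X) \ (U₀ ∩ C) := by
      rw [hZeq]
      ext x
      simp [V]
    rw [this]
    exact h1.sdiff hZ
  refine ⟨U', V, hU'c, hVc, ?_⟩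
  rw [hZeq]
  ext x
  simp only [Set.mem_inter_iff, SetLike.mem_coe, Set.mem_sdiff, V, TopologicalSpace.Opens.coe_mk,
    Set.mem_compl_iff, not_and, not_not]
  tauto

/-- Let S = lim S_i be a cofiltered limit of schemes with affine transition maps, some stage S_{i₀}
being quasi-compact and quasi-separated. Then every subset Z of S that is both locally closed and
constructible is the preimage under the projection S ⟶ S_i of a locally closed constructible subset
of S_i, for some index i over i₀. -/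
theorem result {I : Type u} [SmallCategory I] [IsCofiltered I]
    (D : I ⥤ Scheme.{u}) (c : Limits.Cone D) (hc : Limits.IsLimit c)
    [∀ (i j : I) (f : i ⟶ j), IsAffineHom (D.map f)] (i₀ : I)
    [CompactSpace (D.obj i₀)] [QuasiSeparatedSpace (D.obj i₀)] (Z : Set c.pt)
    (hZ : Topology.IsConstructible Z) (hZ' : IsLocallyClosed Z) :
    ∃ (i : I) (_ : i ⟶ i₀) (Zi : Set (D.obj i)),
      Topology.IsConstructible Zi ∧ IsLocallyClosed Zi ∧ (⇑(c.π.app i) ⁻¹' Zi : Set c.pt) = Z := by
  have hπ := isAffineHom_π_app D c hc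
  have : CompactSpace c.pt := QuasiCompact.compactSpace_of_compactSpace (c.π.app i₀)
  have : QuasiSeparatedSpace c.pt := quasiSeparatedSpace_of_quasiSeparated (c.π.app i₀)
  obtain ⟨U, V, hU, hV, rfl⟩ := exists_compact_opens c.pt Z hZ hZ'
  obtain ⟨i, Ui, hUi, hUiU⟩ := exists_preimage_eq D c hc U hU
  obtain ⟨j, Vj, hVj, hVjV⟩ := exists_preimage_eq D c hc V hV
  let k' := IsCofiltered.min i j
  let k := IsCofiltered.min k' i₀
  let a : k ⟶ i := IsCofiltered.minToLeft k' i₀ ≫ IsCofiltered.minToLeft i j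
  let b : k ⟶ j := IsCofiltered.minToLeft k' i₀ ≫ IsCofiltered.minToRight i j
  let e : k ⟶ i₀ := IsCofiltered.minToRight k' i₀
  have : QuasiSeparatedSpace (D.obj k) := quasiSeparatedSpace_of_quasiSeparated (D.map e)
  have hUo : IsOpen ((D.map a) ⁻¹' (Ui : Set (D.obj i))) := Ui.2.preimage (D.map a).continuous
  have hVo : IsOpen ((D.map b) ⁻¹' (Vj : Set (D.obj j))) := Vj.2.preimage (D.map b).continuous
  refine ⟨k, e, (D.map a) ⁻¹' Ui \ (D.map b) ⁻¹' Vj, ?_, ?_, ?_⟩
  · exact (IsCompact.isConstructible (QuasiCompact.isCompact_preimage _ Ui.2 hUi) hUo).sdiff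
      (IsCompact.isConstructible (QuasiCompact.isCompact_preimage _ Vj.2 hVj) hVo)
  · exact hUo.isLocallyClosed.inter hVo.isClosed_compl.isLocallyClosed
  · have h1 : (c.π.app k ≫ D.map a) = c.π.app i := c.w a
    have h2 : (c.π.app k ≫ D.map b) = c.π.app j := c.w b
    have h3 := congrArg (fun W : c.pt.Opens => (W : Set c.pt)) hUiU
    have h4 := congrArg (fun W : c.pt.Opens => (W : Set c.pt)) hVjV
    simp only [TopologicalSpace.Opens.map_coe] at h3 h4
    rw [← h3, ← h4, ← h1, ← h2]
    rfl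

end Groth.Agent.S4760
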