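import Groth.Statements.S4765
-- import your own Groth.Agent.* helpers here

set_option autoImplicit false
universe u
open CategoryTheory AlgebraicGeometry
open Lim8

namespace Groth.Agent.S4765

/-- Let S = lim S_i be a cofiltered limit of schemes with affine transition maps and let i be an index
such that the projection S ⟶ S_j is surjective for every j over i. Then the projection S ⟶ S_i is an
open map if and only if every transition map S_j ⟶ S_i is an open map. This is the case of open
morphisms. -/
theorem result {I : Type u} [SmallCategory I] [IsCofiltered I]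
    (D : I ⥤ Scheme.{u}) (c : Limits.Cone D) (hc : Limits.IsLimit c)
    [∀ (i j : I) (f : i ⟶ j), IsAffineHom (D.map f)] (i : I)
    (hs : ∀ (j : I) (φ : j ⟶ i), Surjective (c.π.app j)) :
    IsOpenMap ⇑(c.π.app i) ↔ ∀ (j : I) (φ : j ⟶ i), IsOpenMap ⇑(D.map φ) := by
  constructor
  · intro h j φ V hV
    have hsurj : Function.Surjective (c.π.app j) := (hs j φ).surj
    have e : ⇑(D.map φ) '' V = ⇑(c.π.app i) '' (⇑(c.π.app j) ⁻¹' V) := by
      ext y
      constructor
      · rintro ⟨v, hv, rfl⟩
        obtain ⟨s, rfl⟩ := hsurj v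
        refine ⟨s, hv, ?_⟩
        rw [← c.w φ]
        rfl
      · rintro ⟨s, hs', rfl⟩
        refine ⟨c.π.app j s, hs', ?_⟩
        rw [← c.w φ]
        rfl
    rw [e]
    exact h _ (hV.preimage (c.π.app j).continuous)
  · intro h W hW
    rw [isOpen_iff_forall_mem_open]
    rintro _ ⟨x, hxW, rfl⟩
    obtain ⟨_, ⟨_, ⟨j, V, hV, rfl⟩, rfl⟩, hxV, hVW⟩ :=
      (isBasis_preimage_isAffineOpen D c hc).exists_subset_of_mem_open hxW hW
    obtain ⟨k, a, b⟩ : ∃ (k : I) (_ : k ⟶ j), Nonempty (k ⟶ i) :=
      ⟨IsCofiltered.min j i, IsCofiltered.minToLeft j i, ⟨IsCofiltered.minToRight j i⟩⟩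
    obtain ⟨b⟩ := b
    have hsurj : Function.Surjective (c.π.app k) := (hs k b).surj
    refine ⟨⇑(D.map b) '' (⇑(D.map a) ⁻¹' (V : Set (D.obj j))), ?_,
      h k b _ (V.2.preimage (D.map a).continuous), ?_⟩
    · rintro _ ⟨v, hv, rfl⟩
      obtain ⟨s, rfl⟩ := hsurj v
      refine ⟨s, hVW ?_, ?_⟩
      · change c.π.app j s ∈ V
        rw [← c.w a]
        exact hv
      · rw [← c.w b]
        rfl
    · refine ⟨c.π.app k x, ?_, ?_⟩
      · change D.map a (c.π.app k x) ∈ V
        have : c.π.app j x ∈ V := hxV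
        rw [← c.w a] at this
        exact this
      · rw [← c.w b]
        rfl

end Groth.Agent.S4765
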