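import Groth.Statements.S4766
import Groth.Agent.S4765
import Groth.Agent.Lib.Helper22.LimBaseChange

set_option autoImplicit false
universe u
open CategoryTheory AlgebraicGeometry
open Lim8

namespace Groth.Agent.S4766

section aux

open CategoryTheory.Limits

theorem surj_aux {P Pj S Sj Si T : Scheme.{u}} (fst : P ⟶ S) (snd : P ⟶ T) (π : S ⟶ Si)
    (a : T ⟶ Si) (πj : S ⟶ Sj) (t : Sj ⟶ Si) (fstj : Pj ⟶ Sj) (sndj : Pj ⟶ T) (q : P ⟶ Pj)
    (h : IsPullback fst snd π a) (hj : IsPullback fstj sndj t a) (hπ : πj ≫ t = π)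
    (h1 : q ≫ fstj = fst ≫ πj) (h2 : q ≫ sndj = snd) [Surjective πj] : Surjective q := by
  have hbig : IsPullback fst (q ≫ sndj) (πj ≫ t) a := by
    rw [h2, hπ]; exact h
  have hleft : IsPullback fst q πj fstj := IsPullback.of_bot hbig h1.symm hj
  exact MorphismProperty.of_isPullback (P := @Surjective) hleft inferInstance

theorem open_aux {X' P Q Y' : Scheme.{u}} (f' : X' ⟶ Y') (u : X' ⟶ P) (q : P ⟶ Q) (s : Q ⟶ Y')
    (sP : P ⟶ Y') [IsIso u] [IsIso s] (h1 : q ≫ s = sP) (h2 : u ≫ sP = f')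
    (hq : IsOpenMap ⇑q) : IsOpenMap ⇑f' := by
  subst h1 h2
  exact (s.homeomorph.isOpenMap.comp hq).comp u.homeomorph.isOpenMap

theorem open_aux2 {Q Qj Y' : Scheme.{u}} (m : Qj ⟶ Q) (s : Q ⟶ Y') (sj : Qj ⟶ Y') [IsIso s]
    (h : m ≫ s = sj) (hsj : IsOpenMap ⇑sj) : IsOpenMap ⇑m := by
  have h2 : m = sj ≫ inv s := by
    rw [← h, Category.assoc, IsIso.hom_inv_id, Category.comp_id]
  rw [h2]
  exact ((inv s).homeomorph.isOpenMap).comp hsj

end aux

/-- Let S = lim S_i be a cofiltered limit of schemes with affine transition maps and let i be an index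
such that the projection S ⟶ S_j is surjective for every j over i. Then the projection S ⟶ S_i is
universally open if and only if every transition map S_j ⟶ S_i is universally open. This is the case
of universally open morphisms. -/
theorem result {I : Type u} [SmallCategory I] [IsCofiltered I]
    (D : I ⥤ Scheme.{u}) (c : Limits.Cone D) (hc : Limits.IsLimit c)
    [∀ (i j : I) (f : i ⟶ j), IsAffineHom (D.map f)] (i : I)
    (hs : ∀ (j : I) (φ : j ⟶ i), Surjective (c.π.app j)) :
    UniversallyOpen (c.π.app i) ↔ ∀ (j : I) (φ : j ⟶ i), UniversallyOpen (D.map φ) := by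
  constructor
  · intro hU j φ
    rw [universallyOpen_iff]
    intro X' Y' i₁ i₂ f' hsq
    -- hsq : IsPullback f' i₁ i₂ (D.map φ)
    haveI := hs j φ
    have hbig : IsPullback (Limits.pullback.snd (c.π.app j) i₁ ≫ f') (Limits.pullback.fst (c.π.app j) i₁)
        i₂ (c.π.app j ≫ D.map φ) :=
      (IsPullback.of_hasPullback (c.π.app j) i₁).flip.paste_horiz hsq
    rw [c.w φ] at hbig
    have hopen : IsOpenMap ⇑(Limits.pullback.snd (c.π.app j) i₁ ≫ f') :=
      hU.universally_isOpenMap _ _ _ hbig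
    haveI : Surjective (Limits.pullback.snd (c.π.app j) i₁) :=
      MorphismProperty.pullback_snd (P := @Surjective) _ _ inferInstance
    intro U hUo
    have : ⇑f' '' U = ⇑(Limits.pullback.snd (c.π.app j) i₁ ≫ f') ''
        (⇑(Limits.pullback.snd (c.π.app j) i₁) ⁻¹' U) := by
      rw [Scheme.Hom.comp_base, TopCat.coe_comp, Set.image_comp,
        Set.image_preimage_eq _ (Limits.pullback.snd (c.π.app j) i₁).surjective]
    rw [this]
    exact hopen _ (hUo.preimage (Limits.pullback.snd (c.π.app j) i₁).continuous)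
  · intro hU
    rw [universallyOpen_iff]
    intro X' Y' i₁ i₂ f' hsq
    -- hsq : IsPullback f' i₁ i₂ (c.π.app i)
    have he : Limits.IsLimit (Lib.Helper22.bcCone D c i i₂) := Lib.Helper22.bcIsLimit D hc i i₂
    have hsurj : ∀ (j : Over i) (φ : j ⟶ Over.mk (𝟙 i)),
        Surjective ((Lib.Helper22.bcCone D c i i₂).π.app j) := by
      intro j _
      haveI := hs j.left j.hom
      exact surj_aux _ _ _ _ _ _ _ _ _ (IsPullback.of_hasPullback (c.π.app i) i₂)
        (IsPullback.of_hasPullback (D.map j.hom) i₂) (c.w j.hom)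
        (Lib.Helper22.bcCone_π_fst D c i i₂ j) (Lib.Helper22.bcCone_π_snd D c i i₂ j)
    haveI : IsIso (D.map (𝟙 i)) := by
      rw [D.map_id]; infer_instance
    have hiso : IsIso (Limits.pullback.snd (D.map (𝟙 i)) i₂) := inferInstance
    have key := (Groth.Agent.S4765.result (Lib.Helper22.bcDiag D i i₂)
      (Lib.Helper22.bcCone D c i i₂) he (Over.mk (𝟙 i)) hsurj).mpr ?_
    · exact @open_aux _ _ _ _ f' hsq.flip.isoPullback.hom _ (Limits.pullback.snd (D.map (𝟙 i)) i₂)
        (Limits.pullback.snd (c.π.app i) i₂) inferInstance hiso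
        (Lib.Helper22.bcCone_π_snd D c i i₂ (Over.mk (𝟙 i))) hsq.flip.isoPullback_hom_snd key
    · intro j φ
      haveI : UniversallyOpen (D.map j.hom) := hU j.left j.hom
      exact @open_aux2 _ _ _ _ (Limits.pullback.snd (D.map (𝟙 i)) i₂)
        (Limits.pullback.snd (D.map j.hom) i₂) hiso (Lib.Helper22.bcDiag_map_snd D i i₂ φ)
        (Limits.pullback.snd (D.map j.hom) i₂).isOpenMap

end Groth.Agent.S4766
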