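import Groth.Statements.S4767
import Groth.Agent.Lib.Helper5.LimIrr

set_option autoImplicit false
universe u
open CategoryTheory AlgebraicGeometry
open Lim8

namespace Groth.Agent.S4767

/-- Let S = lim S_i be a cofiltered limit of schemes with affine transition maps, some stage S_{i₀}
being quasi-compact and quasi-separated, and assume that the underlying topological space of S is
Noetherian. If S is not irreducible, then there is an index i over i₀ such that S_j is not
irreducible for every index j over i. -/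
theorem result {I : Type u} [SmallCategory I] [IsCofiltered I]
    (D : I ⥤ Scheme.{u}) (c : Limits.Cone D) (hc : Limits.IsLimit c)
    [∀ (i j : I) (f : i ⟶ j), IsAffineHom (D.map f)] (i₀ : I)
    [CompactSpace (D.obj i₀)] [QuasiSeparatedSpace (D.obj i₀)]
    [TopologicalSpace.NoetherianSpace c.pt] (h : ¬ IrreducibleSpace c.pt) :
    ∃ (i : I) (_ : i ⟶ i₀), ∀ (j : I) (_ : j ⟶ i), ¬ IrreducibleSpace (D.obj j) := by
  by_cases hne : Nonempty c.pt
  · have hpre : ¬ PreirreducibleSpace c.pt := fun hp => h { toNonempty := hne }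
    obtain ⟨k, a, V₁, V₂, hV₁, hV₂, h₁, h₂, hinf⟩ :=
      Groth.Agent.Lib.Helper5.exists_disjoint_opens_of_not_preirreducibleSpace D c hc i₀ hpre
    have : QuasiSeparatedSpace (D.obj k) := quasiSeparatedSpace_of_quasiSeparated (D.map a)
    have hc12 : IsCompact ((V₁ ⊓ V₂ : (D.obj k).Opens) : Set (D.obj k)) :=
      hV₁.inter_of_isOpen hV₂ V₁.2 V₂.2
    obtain ⟨l, b, hl⟩ := Groth.Agent.Lib.Helper5.exists_forall_map_preimage_le D c hc
      (U := V₁ ⊓ V₂) (V := ⊥) hc12 (by rw [hinf]; exact bot_le)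
    refine ⟨l, b ≫ a, fun m g => ?_⟩
    exact Groth.Agent.Lib.Helper5.not_irreducibleSpace_of_disjoint_opens D c (g ≫ b) V₁ V₂ h₁ h₂
      (le_bot_iff.mp ((hl m g).trans (by simp)))
  · have H : c.π.app i₀ ⁻¹ᵁ ⊤ ≤ c.π.app i₀ ⁻¹ᵁ ⊥ := fun x _ => (hne ⟨x⟩).elim
    obtain ⟨l, b, hl⟩ := Groth.Agent.Lib.Helper5.exists_forall_map_preimage_le D c hc
      (U := ⊤) (V := ⊥) isCompact_univ H
    refine ⟨l, b, fun m g hirr => ?_⟩
    obtain ⟨x⟩ := hirr.toNonempty
    exact hl m g (show x ∈ D.map (g ≫ b) ⁻¹ᵁ ⊤ from trivial)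

end Groth.Agent.S4767
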