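import Groth.Statements.S4771
import Groth.Agent.Lib.Helper5.LimIrr
import Groth.Agent.S4763

set_option autoImplicit false
universe u
open CategoryTheory AlgebraicGeometry
open Lim8

namespace Groth.Agent.S4771

/-- Let S = lim S_i be a cofiltered limit of schemes whose transition maps are affine and dominant, some
stage S_{i₀} being quasi-compact, and assume that the underlying topological space of S is
Noetherian. Then S is irreducible if and only if there is an index i over i₀ such that S_j is
irreducible for every j over i. -/
theorem result {I : Type u} [SmallCategory I] [IsCofiltered I]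
    (D : I ⥤ Scheme.{u}) (c : Limits.Cone D) (hc : Limits.IsLimit c)
    [∀ (i j : I) (f : i ⟶ j), IsAffineHom (D.map f)] (i₀ : I)
    [CompactSpace (D.obj i₀)] [TopologicalSpace.NoetherianSpace c.pt]
    (hd : ∀ (i j : I) (φ : i ⟶ j), IsDominant (D.map φ)) :
    IrreducibleSpace c.pt ↔ ∃ (i : I) (_ : i ⟶ i₀), ∀ (j : I) (_ : j ⟶ i), IrreducibleSpace (D.obj j) := by
  have hdom : ∀ j : I, IsDominant (c.π.app j) := fun j =>
    (Groth.Agent.S4763.result D c hc j).mpr (fun j' φ => hd j' j φ)
  constructor
  · intro hirr
    refine ⟨i₀, 𝟙 i₀, fun j _ => ?_⟩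
    let f : c.pt ⟶ D.obj j := c.π.app j
    have : IsDominant f := hdom j
    rw [irreducibleSpace_def]
    have h1 : IsIrreducible (closure (Set.range f)) := by
      rw [← Set.image_univ]
      exact ((irreducibleSpace_def _).mp hirr |>.image f f.continuous.continuousOn).closure
    rwa [f.denseRange.closure_range] at h1
  · rintro ⟨i, a, hirr⟩
    have hcpt : CompactSpace (D.obj i) := Groth.Agent.Lib.Helper5.compactSpace_obj_of_hom D a
    have hne : Nonempty c.pt := by
      have := Groth.Agent.Lib.Helper5.nonempty_preimage_of_forall_nonempty D c hc i ⊤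
        isCompact_univ (fun j φ => by
          have := (hirr j φ).toNonempty
          obtain ⟨x⟩ := this
          exact ⟨x, trivial⟩)
      obtain ⟨x, -⟩ := this
      exact ⟨x⟩
    have hpre : PreirreducibleSpace c.pt := by
      by_contra h
      obtain ⟨k, b, V₁, V₂, hV₁, hV₂, h₁, h₂, hinf⟩ :=
        Groth.Agent.Lib.Helper5.exists_disjoint_opens_of_not_preirreducibleSpace D c hc i h
      have := hdom k
      have h0 : V₁ ⊓ V₂ = ⊥ := Groth.Agent.Lib.Helper5.eq_bot_of_preimage_eq_bot _ _ hinf
      refine Groth.Agent.Lib.Helper5.not_irreducibleSpace_of_disjoint_opens D c (𝟙 k) V₁ V₂ h₁ h₂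
        ?_ (hirr k b)
      rw [h0]
      rfl
    exact { toPreirreducibleSpace := hpre, toNonempty := hne }

end Groth.Agent.S4771
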