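import Groth.Statements.S4772
import Groth.Agent.Lib.Helper5.LimConn
import Groth.Agent.S4763

set_option autoImplicit false
universe u
open CategoryTheory AlgebraicGeometry
open Lim8

namespace Groth.Agent.S4772

/-- Let S = lim S_i be a cofiltered limit of schemes whose transition maps are affine and dominant, some
stage S_{i₀} being quasi-compact. Then S is connected (in particular nonempty) if and only if there
is an index i over i₀ such that S_j is connected for every j over i. -/
theorem result {I : Type u} [SmallCategory I] [IsCofiltered I]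
    (D : I ⥤ Scheme.{u}) (c : Limits.Cone D) (hc : Limits.IsLimit c)
    [∀ (i j : I) (f : i ⟶ j), IsAffineHom (D.map f)] (i₀ : I)
    [CompactSpace (D.obj i₀)] (hd : ∀ (i j : I) (φ : i ⟶ j), IsDominant (D.map φ)) :
    ConnectedSpace c.pt ↔ ∃ (i : I) (_ : i ⟶ i₀), ∀ (j : I) (_ : j ⟶ i), ConnectedSpace (D.obj j) := by
  have hdom : ∀ j : I, IsDominant (c.π.app j) := fun j =>
    (Groth.Agent.S4763.result D c hc j).mpr (fun j' φ => hd j' j φ)
  constructor
  · intro hconn
    refine ⟨i₀, 𝟙 i₀, fun j _ => ?_⟩
    let f : c.pt ⟶ D.obj j := c.π.app j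
    have : IsDominant f := hdom j
    have hpre : PreconnectedSpace (D.obj j) :=
      f.denseRange.preconnectedSpace f.continuous
    have hne : Nonempty (D.obj j) := Nonempty.map f hconn.toNonempty
    exact { toPreconnectedSpace := hpre, toNonempty := hne }
  · rintro ⟨i, a, hconn⟩
    have hcpt : CompactSpace (D.obj i) := Groth.Agent.Lib.Helper5.compactSpace_obj_of_hom D a
    have hne : Nonempty c.pt := by
      have := Groth.Agent.Lib.Helper5.nonempty_preimage_of_forall_nonempty D c hc i ⊤
        isCompact_univ (fun j φ => by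
          have := (hconn j φ).toNonempty
          obtain ⟨x⟩ := this
          exact ⟨x, trivial⟩)
      obtain ⟨x, -⟩ := this
      exact ⟨x⟩
    have hpre : PreconnectedSpace c.pt := by
      by_contra h
      obtain ⟨k, b, V₁, V₂, hV₁, hV₂, h₁, h₂, hinf, hsup⟩ :=
        Groth.Agent.Lib.Helper5.exists_disconnection_of_not_preconnectedSpace D c hc i h
      have := hdom k
      have h0 : V₁ ⊓ V₂ = ⊥ := Groth.Agent.Lib.Helper5.eq_bot_of_preimage_eq_bot _ _ hinf
      refine Groth.Agent.Lib.Helper5.not_preconnectedSpace_of_disconnection D c (𝟙 k) V₁ V₂ h₁ h₂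
        ?_ (hsup k (𝟙 k)) (hconn k b).toPreconnectedSpace
      rw [h0]
      rfl
    exact { toPreconnectedSpace := hpre, toNonempty := hne }

end Groth.Agent.S4772
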