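import Groth.Statements.S9183
import Mathlib.Tactic

set_option autoImplicit false
universe u
open CategoryTheory CategoryTheory.Limits
open CAlg

namespace Groth.Agent.S9183

section
variable (R A : Type u) [CommRing R] [CommRing A] [Algebra R A]

/-- evaluation of the polynomial ring on a finite subset -/
noncomputable def ev (S : Finset A) : MvPolynomial S R →ₐ[R] A := MvPolynomial.aeval (fun s : S => s.1)

omit [CommRing R] [CommRing A] [Algebra R A] in
/-- inclusion of variables -/
def incl {A : Type u} {S S' : Finset A} (h : S ⊆ S') : S → S' := fun s => ⟨s.1, h s.2⟩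

/-- the index: a finite subset and a f.g. ideal of relations -/
structure Idx where
  S : Finset A
  K : Ideal (MvPolynomial S R)
  fg : K.FG
  le : K ≤ RingHom.ker (ev R A S).toRingHom

variable {R A}

lemma ev_rename {S S' : Finset A} (h : S ⊆ S') (f : MvPolynomial S R) :
    ev R A S' (MvPolynomial.rename (incl h) f) = ev R A S f := by
  simp only [ev, MvPolynomial.aeval_rename]
  rfl

instance : Preorder (Idx R A) where
  le i j := i.S ⊆ j.S ∧ ∀ (h : i.S ⊆ j.S), ∀ f ∈ i.K, MvPolynomial.rename (incl h) f ∈ j.K
  le_refl i := by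
    refine ⟨subset_rfl, fun h f hf => ?_⟩
    have : incl h = id := by funext s; rfl
    rw [this, MvPolynomial.rename_id]
    exact hf
  le_trans i j k hij hjk := by
    refine ⟨hij.1.trans hjk.1, fun h f hf => ?_⟩
    have h1 := hij.2 hij.1 f hf
    have h2 := hjk.2 hjk.1 _ h1
    rw [MvPolynomial.rename_rename] at h2
    exact h2


lemma map_le_ker {S S' : Finset A} (h : S ⊆ S') (K : Ideal (MvPolynomial S R))
    (hK : K ≤ RingHom.ker (ev R A S).toRingHom) :
    K.map (MvPolynomial.rename (incl h)).toRingHom ≤ RingHom.ker (ev R A S').toRingHom := by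
  rw [Ideal.map_le_iff_le_comap]
  intro f hf
  rw [Ideal.mem_comap, RingHom.mem_ker]
  change ev R A S' (MvPolynomial.rename (incl h) f) = 0
  rw [ev_rename]
  exact hK hf

/-- upper bound of two indices -/
noncomputable def sup (i j : Idx R A) : Idx R A := by
  classical
  exact
  { S := i.S ∪ j.S
    K := i.K.map (MvPolynomial.rename (incl (Finset.subset_union_left (s₁ := i.S) (s₂ := j.S)))).toRingHom ⊔
      j.K.map (MvPolynomial.rename (incl (Finset.subset_union_right (s₁ := i.S) (s₂ := j.S)))).toRingHom
    fg := Submodule.FG.sup (Ideal.FG.map i.fg _) (Ideal.FG.map j.fg _)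
    le := sup_le (map_le_ker _ _ i.le) (map_le_ker _ _ j.le) }

instance : IsDirected (Idx R A) (· ≤ ·) :=
  ⟨fun i j => ⟨sup i j,
    ⟨by classical exact Finset.subset_union_left, fun h f hf =>
      Ideal.mem_sup_left (Ideal.mem_map_of_mem _ hf)⟩,
    ⟨by classical exact Finset.subset_union_right, fun h f hf =>
      Ideal.mem_sup_right (Ideal.mem_map_of_mem _ hf)⟩⟩⟩

instance : Nonempty (Idx R A) := ⟨⟨∅, ⊥, Submodule.fg_bot, bot_le⟩⟩


/-- transition maps -/
noncomputable def tr (i j : Idx R A) (h : i ≤ j) :
    (MvPolynomial i.S R ⧸ i.K) →+* (MvPolynomial j.S R ⧸ j.K) :=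
  Ideal.Quotient.lift i.K ((Ideal.Quotient.mk j.K).comp (MvPolynomial.rename (incl h.1)).toRingHom)
    (fun f hf => Ideal.Quotient.eq_zero_iff_mem.mpr (h.2 h.1 f hf))

lemma tr_mk (i j : Idx R A) (h : i ≤ j) (f : MvPolynomial i.S R) :
    tr i j h (Ideal.Quotient.mk i.K f) = Ideal.Quotient.mk j.K (MvPolynomial.rename (incl h.1) f) :=
  rfl

/-- the diagram -/
noncomputable def D : Idx R A ⥤ Under (CommRingCat.of R) where
  obj i := Under.mk (CommRingCat.ofHom (algebraMap R (MvPolynomial i.S R ⧸ i.K)))
  map {i j} f := Under.homMk (CommRingCat.ofHom (tr i j (leOfHom f)))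
    (by
      ext r
      change tr i j (leOfHom f) (algebraMap R (MvPolynomial i.S R ⧸ i.K) r) =
        algebraMap R (MvPolynomial j.S R ⧸ j.K) r
      have h1 : algebraMap R (MvPolynomial i.S R ⧸ i.K) r =
          Ideal.Quotient.mk i.K (algebraMap R (MvPolynomial i.S R) r) := rfl
      rw [h1, tr_mk, AlgHom.commutes]
      rfl)
  map_id i := by
    ext x
    obtain ⟨f, rfl⟩ := Ideal.Quotient.mk_surjective x
    change tr i i (leOfHom (𝟙 i)) (Ideal.Quotient.mk i.K f) = Ideal.Quotient.mk i.K f
    rw [tr_mk]
    have : incl (leOfHom (𝟙 i)).1 = id := by funext s; rfl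
    rw [this, MvPolynomial.rename_id]
    rfl
  map_comp {i j k} f g := by
    ext x
    obtain ⟨p, rfl⟩ := Ideal.Quotient.mk_surjective x
    change tr i k (leOfHom (f ≫ g)) (Ideal.Quotient.mk i.K p) =
      tr j k (leOfHom g) (tr i j (leOfHom f) (Ideal.Quotient.mk i.K p))
    rw [tr_mk, tr_mk, tr_mk, MvPolynomial.rename_rename]
    rfl


/-- the map `P_S ⧸ K → A` -/
noncomputable def π (i : Idx R A) : (MvPolynomial i.S R ⧸ i.K) →+* A :=
  Ideal.Quotient.lift i.K (ev R A i.S).toRingHom (fun f hf => RingHom.mem_ker.mp (i.le hf))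

lemma π_mk (i : Idx R A) (f : MvPolynomial i.S R) : π i (Ideal.Quotient.mk i.K f) = ev R A i.S f :=
  rfl

/-- the cocone with point `A` -/
noncomputable def cocone : Cocone (D (R := R) (A := A)) where
  pt := Under.mk (CommRingCat.ofHom (algebraMap R A))
  ι :=
  { app := fun i => Under.homMk (CommRingCat.ofHom (π i))
      (by
        ext r
        change π i (algebraMap R (MvPolynomial i.S R ⧸ i.K) r) = algebraMap R A r
        have h1 : algebraMap R (MvPolynomial i.S R ⧸ i.K) r =
          Ideal.Quotient.mk i.K (algebraMap R (MvPolynomial i.S R) r) := rfl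
        rw [h1, π_mk, AlgHom.commutes])
    naturality := by
      intro i j f
      ext x
      obtain ⟨p, rfl⟩ := Ideal.Quotient.mk_surjective x
      change π j (tr i j (leOfHom f) (Ideal.Quotient.mk i.K p)) = π i (Ideal.Quotient.mk i.K p)
      rw [tr_mk, π_mk, π_mk, ev_rename] }

variable (c : Cocone (D (R := R) (A := A)))

/-- the structure maps of a cocone as ring homs -/
noncomputable def φ (i : Idx R A) : (MvPolynomial i.S R ⧸ i.K) →+* c.pt.right := (c.ι.app i).right.hom

lemma φ_algebraMap (i : Idx R A) (r : R) :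
    φ c i (Ideal.Quotient.mk i.K (MvPolynomial.C r)) = c.pt.hom.hom r := by
  have hw := Under.w (c.ι.app i)
  have h2 := congrArg (fun ψ => ψ.hom r) hw
  exact h2

lemma φ_tr (i j : Idx R A) (h : i ≤ j) (x : MvPolynomial i.S R ⧸ i.K) :
    φ c j (tr i j h x) = φ c i x := by
  have hw := c.w (homOfLE h)
  have h2 := congrArg (fun ψ => ψ.right.hom x) hw
  exact h2

/-- singleton index -/
noncomputable def single (a : A) : Idx R A := ⟨{a}, ⊥, Submodule.fg_bot, bot_le⟩

/-- the descent function -/
noncomputable def d (a : A) : c.pt.right :=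
  φ c (single a) (Ideal.Quotient.mk _ (MvPolynomial.X ⟨a, Finset.mem_singleton_self a⟩))

lemma single_le (i : Idx R A) (a : A) (ha : a ∈ i.S) : single a ≤ i := by
  refine ⟨Finset.singleton_subset_iff.mpr ha, fun h f hf => ?_⟩
  have : f = 0 := hf
  rw [this, map_zero]
  exact Ideal.zero_mem _

lemma φ_X (i : Idx R A) (a : A) (ha : a ∈ i.S) :
    φ c i (Ideal.Quotient.mk i.K (MvPolynomial.X ⟨a, ha⟩)) = d c a := by
  rw [d, ← φ_tr c (single a) i (single_le i a ha), tr_mk, MvPolynomial.rename_X]
  rfl

lemma φ_eq_eval₂ (i : Idx R A) (p : MvPolynomial i.S R) :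
    φ c i (Ideal.Quotient.mk i.K p) =
      MvPolynomial.eval₂ c.pt.hom.hom (fun s : i.S => d c s.1) p := by
  have : (φ c i).comp (Ideal.Quotient.mk i.K) =
      MvPolynomial.eval₂Hom c.pt.hom.hom (fun s : i.S => d c s.1) := by
    apply MvPolynomial.ringHom_ext
    · intro r
      simp only [RingHom.comp_apply, MvPolynomial.coe_eval₂Hom, MvPolynomial.eval₂_C]
      exact φ_algebraMap c i r
    · intro s
      simp only [RingHom.comp_apply, MvPolynomial.coe_eval₂Hom, MvPolynomial.eval₂_X]
      exact φ_X c i s.1 s.2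
  exact congrArg (fun ψ => ψ p) this

/-- every polynomial relation holding in `A` holds for `d` -/
lemma rel (S : Finset A) (p : MvPolynomial S R) (hp : ev R A S p = 0) :
    MvPolynomial.eval₂ c.pt.hom.hom (fun s : S => d c s.1) p = 0 := by
  let i : Idx R A := ⟨S, Ideal.span {p}, ⟨{p}, by simp⟩, by
    rw [Ideal.span_le]
    intro q hq
    rw [Set.mem_singleton_iff] at hq
    rw [hq]
    exact RingHom.mem_ker.mpr hp⟩
  have h1 := φ_eq_eval₂ c i p
  have h2 : Ideal.Quotient.mk i.K p = 0 :=
    Ideal.Quotient.eq_zero_iff_mem.mpr (Ideal.subset_span rfl)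
  rw [h2, map_zero] at h1
  exact h1.symm


lemma d_add (a b : A) : d c (a + b) = d c a + d c b := by
  classical
  have ha : a ∈ ({a, b, a + b} : Finset A) := by simp
  have hb : b ∈ ({a, b, a + b} : Finset A) := by simp
  have hab : a + b ∈ ({a, b, a + b} : Finset A) := by simp
  have h := rel c {a, b, a + b}
    (MvPolynomial.X ⟨a, ha⟩ + MvPolynomial.X ⟨b, hb⟩ - MvPolynomial.X ⟨a + b, hab⟩)
    (by simp [ev])
  simp only [MvPolynomial.eval₂_sub, MvPolynomial.eval₂_add, MvPolynomial.eval₂_X] at h
  exact (sub_eq_zero.mp h).symm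

lemma d_mul (a b : A) : d c (a * b) = d c a * d c b := by
  classical
  have ha : a ∈ ({a, b, a * b} : Finset A) := by simp
  have hb : b ∈ ({a, b, a * b} : Finset A) := by simp
  have hab : a * b ∈ ({a, b, a * b} : Finset A) := by simp
  have h := rel c {a, b, a * b}
    (MvPolynomial.X ⟨a, ha⟩ * MvPolynomial.X ⟨b, hb⟩ - MvPolynomial.X ⟨a * b, hab⟩)
    (by simp [ev])
  simp only [MvPolynomial.eval₂_sub, MvPolynomial.eval₂_mul, MvPolynomial.eval₂_X] at h
  exact (sub_eq_zero.mp h).symm

lemma d_algebraMap (r : R) : d c (algebraMap R A r) = c.pt.hom.hom r := by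
  have ha : algebraMap R A r ∈ ({algebraMap R A r} : Finset A) := by simp
  have h := rel c {algebraMap R A r}
    (MvPolynomial.X ⟨algebraMap R A r, ha⟩ - MvPolynomial.C r)
    (by simp [ev])
  simp only [MvPolynomial.eval₂_sub, MvPolynomial.eval₂_C, MvPolynomial.eval₂_X] at h
  exact sub_eq_zero.mp h

/-- the descent ring hom -/
noncomputable def dHom : A →+* c.pt.right where
  toFun := d c
  map_one' := by
    have := d_algebraMap c (1 : R)
    rwa [map_one, map_one] at this
  map_mul' := d_mul c
  map_zero' := by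
    have := d_algebraMap c (0 : R)
    rwa [map_zero, map_zero] at this
  map_add' := d_add c

lemma dHom_ev (S : Finset A) (p : MvPolynomial S R) :
    dHom c (ev R A S p) = MvPolynomial.eval₂ c.pt.hom.hom (fun s : S => d c s.1) p := by
  have : (dHom c).comp (ev R A S).toRingHom =
      MvPolynomial.eval₂Hom c.pt.hom.hom (fun s : S => d c s.1) := by
    apply MvPolynomial.ringHom_ext
    · intro r
      simp only [RingHom.comp_apply, MvPolynomial.coe_eval₂Hom, MvPolynomial.eval₂_C]
      change d c (ev R A S (MvPolynomial.C r)) = _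
      rw [← MvPolynomial.algebraMap_eq, AlgHom.commutes]
      exact d_algebraMap c r
    · intro s
      simp only [RingHom.comp_apply, MvPolynomial.coe_eval₂Hom, MvPolynomial.eval₂_X]
      change d c (ev R A S (MvPolynomial.X s)) = _
      simp [ev]
  exact congrArg (fun ψ => ψ p) this

/-- the descent morphism -/
noncomputable def desc : (cocone (R := R) (A := A)).pt ⟶ c.pt :=
  Under.homMk (CommRingCat.ofHom (dHom c))
    (by
      ext r
      change d c (algebraMap R A r) = c.pt.hom.hom r
      exact d_algebraMap c r)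


lemma uniq_aux (m : (cocone (R := R) (A := A)).pt ⟶ c.pt)
    (hm : ∀ i, (cocone (R := R) (A := A)).ι.app i ≫ m = c.ι.app i) (a : A) :
    m.right.hom a = d c a := by
  have h1 := hm (single a)
  have h3 : π (single (R := R) a)
      (Ideal.Quotient.mk (single (R := R) a).K
        (MvPolynomial.X ⟨a, Finset.mem_singleton_self a⟩)) = a := by
    rw [π_mk]; simp [ev]
  have h2 : m.right.hom (π (single (R := R) a)
      (Ideal.Quotient.mk (single (R := R) a).K
        (MvPolynomial.X ⟨a, Finset.mem_singleton_self a⟩))) = d c a :=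
    congrArg (fun ψ => ψ.right.hom (Ideal.Quotient.mk (single (R := R) a).K
        (MvPolynomial.X ⟨a, Finset.mem_singleton_self a⟩))) h1
  rw [h3] at h2
  exact h2

end

/-- the cocone is a colimit -/
noncomputable def isColimit {R A : Type u} [CommRing R] [CommRing A] [Algebra R A] :
    IsColimit (cocone (R := R) (A := A)) where
  desc c := desc c
  fac c i := by
    ext x
    obtain ⟨p, rfl⟩ := Ideal.Quotient.mk_surjective x
    change dHom c (π i (Ideal.Quotient.mk i.K p)) = φ c i (Ideal.Quotient.mk i.K p)
    rw [π_mk, dHom_ev, φ_eq_eval₂]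
  uniq c m hm := by
    apply Under.UnderMorphism.ext
    apply CommRingCat.hom_ext
    apply RingHom.ext
    intro a
    exact uniq_aux c m hm a


/-- Every R-algebra A, with no finiteness assumption, is the colimit of a filtered system of finitely
presented R-algebras. (The published statement asserts that the category of all finitely presented
R-algebras with a map to A is filtered with colimit A; this row states that some small filtered
system of finitely presented R-algebras has colimit A.) -/
theorem result (R A : Type u) [CommRing R] [CommRing A] [Algebra R A] :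
    ∃ (I : Type u) (_ : SmallCategory I) (_ : IsFiltered I) (D : I ⥤ Under (CommRingCat.of R))
      (c : Cocone D) (_ : IsColimit c),
      (∀ i, (D.obj i).hom.hom.FinitePresentation) ∧
      Nonempty (c.pt ≅ Under.mk (CommRingCat.ofHom (algebraMap R A))) := by
  refine ⟨Idx R A, inferInstance, inferInstance, D, cocone, isColimit, ?_, ⟨Iso.refl _⟩⟩
  intro i
  change (algebraMap R (MvPolynomial i.S R ⧸ i.K)).FinitePresentation
  rw [RingHom.finitePresentation_algebraMap]
  exact Algebra.FinitePresentation.quotient i.fg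

end Groth.Agent.S9183
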