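import Groth.Statements.S4777
import Groth.Agent.S9183
import Mathlib.Tactic

set_option autoImplicit false
universe u
open CategoryTheory
open Lim8

namespace Groth.Agent.S4777

open CategoryTheory.Limits

/-- a retract of a finitely presented algebra is finitely presented -/
lemma fp_of_retract {R C B : Type u} [CommRing R] [CommRing C] [CommRing B] [Algebra R C] [Algebra R B]
    [Algebra.FinitePresentation R C] (π : C →ₐ[R] B) (s : B →ₐ[R] C) (hs : ∀ b, π (s b) = b) :
    Algebra.FinitePresentation R B := by
  classical
  have hsurj : Function.Surjective π := fun b => ⟨s b, hs b⟩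
  obtain ⟨S, hS⟩ := (inferInstance : Algebra.FiniteType R C).out
  let K : Ideal C := Ideal.span ((fun x => x - s (π x)) '' (S : Set C))
  have hmem : ∀ c : C, c - s (π c) ∈ K := by
    intro c
    have hc : c ∈ Algebra.adjoin R (S : Set C) := by rw [hS]; trivial
    induction hc using Algebra.adjoin_induction with
    | mem x hx => exact Ideal.subset_span ⟨x, hx, rfl⟩
    | algebraMap r =>
      rw [AlgHom.commutes, AlgHom.commutes, sub_self]
      exact Ideal.zero_mem _
    | add x y _ _ hx hy =>
      have : x + y - s (π (x + y)) = (x - s (π x)) + (y - s (π y)) := by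
        rw [map_add, map_add]; ring
      rw [this]
      exact Ideal.add_mem _ hx hy
    | mul x y _ _ hx hy =>
      have : x * y - s (π (x * y)) = x * (y - s (π y)) + (x - s (π x)) * s (π y) := by
        rw [map_mul, map_mul]; ring
      rw [this]
      exact Ideal.add_mem _ (Ideal.mul_mem_left _ _ hy) (Ideal.mul_mem_right _ _ hx)
  have hker : RingHom.ker π.toRingHom = K := by
    apply le_antisymm
    · intro c hc
      have h0 : π c = 0 := hc
      have := hmem c
      rwa [h0, map_zero, sub_zero] at this
    · rw [Ideal.span_le]
      rintro _ ⟨x, _, rfl⟩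
      change π (x - s (π x)) = 0
      rw [map_sub, hs, sub_self]
  refine Algebra.FinitePresentation.of_surjective (f := π) hsurj ?_
  rw [hker]
  exact ⟨S.image (fun x => x - s (π x)), by rw [Finset.coe_image]⟩


/-- Let B be an algebra over a commutative ring A. If, for every inductive system (C_λ) of A-algebras
indexed by a nonempty directed preordered set, the canonical map colim Hom_A(B, C_λ) → Hom_A(B,
colim C_λ) is bijective (that is, Hom_A(B, -) preserves the colimit of the system), then B is an
A-algebra of finite presentation. (This is the necessity half of the characterization of algebras of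
finite presentation by this property; the converse is standard.) -/
theorem result {A B : CommRingCat.{u}} (f : A ⟶ B)
    (h : ∀ (J : Type u) [Preorder J] [IsDirected J (· ≤ ·)] [Nonempty J] (F : J ⥤ Under A),
      Limits.PreservesColimit F (coyoneda.obj (Opposite.op (Under.mk f)))) :
    f.hom.FinitePresentation := by
  letI : Algebra A B := f.hom.toAlgebra
  let D : Groth.Agent.S9183.Idx A B ⥤ Under A := Groth.Agent.S9183.D (R := A) (A := B)
  haveI hpres := h (Groth.Agent.S9183.Idx A B) D
  let G := coyoneda.obj (Opposite.op (Under.mk f))
  let c : Cocone D := Groth.Agent.S9183.cocone (R := A) (A := B)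
  have hc : IsColimit c := Groth.Agent.S9183.isColimit (R := A) (A := B)
  have hcol : IsColimit (G.mapCocone c) := isColimitOfPreserves G hc
  obtain ⟨i, s, hs⟩ := Types.jointly_surjective_of_isColimit hcol
    (𝟙 (Under.mk f) : Under.mk f ⟶ Under.mk f)
  have hs' : s ≫ c.ι.app i = 𝟙 (Under.mk f) := hs
  -- the algebra maps
  let π' : (MvPolynomial i.S A ⧸ i.K) →ₐ[A] B :=
    { toRingHom := Groth.Agent.S9183.π i
      commutes' := fun r => by
        have h1 : algebraMap A (MvPolynomial i.S A ⧸ i.K) r =
          Ideal.Quotient.mk i.K (algebraMap A (MvPolynomial i.S A) r) := rfl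
        change Groth.Agent.S9183.π i (algebraMap A (MvPolynomial i.S A ⧸ i.K) r) = _
        rw [h1, Groth.Agent.S9183.π_mk, AlgHom.commutes] }
  let s' : B →ₐ[A] (MvPolynomial i.S A ⧸ i.K) :=
    { toRingHom := s.right.hom
      commutes' := fun r => by
        have hw := Under.w s
        have h2 := congrArg (fun ψ => ψ.hom r) hw
        exact h2 }
  have hret : ∀ b : B, π' (s' b) = b := by
    intro b
    have h2 := congrArg (fun ψ => ψ.right.hom b) hs'
    exact h2
  haveI : Algebra.FinitePresentation A (MvPolynomial i.S A ⧸ i.K) :=
    Algebra.FinitePresentation.quotient i.fg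
  have hfp : Algebra.FinitePresentation A B := fp_of_retract π' s' hret
  exact RingHom.finitePresentation_algebraMap.mpr hfp

end Groth.Agent.S4777
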