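import Groth.Statements.S4803
import Mathlib
import Groth.Agent.Lib.Helper25.FibLocus
import Groth.Agent.S2592
import Groth.Agent.Lib.Helper26.QuasiAffine
-- import your own Groth.Agent.* helpers here

set_option autoImplicit false
set_option linter.unusedSectionVars false
set_option linter.style.haveILetI false
set_option linter.unusedVariables false
set_option linter.deprecated false
open CategoryTheory AlgebraicGeometry
universe u
open Cons9

namespace Groth.Agent.S4803

open Groth.Agent.Lib.Helper25.ConsPair Groth.Agent.Lib.Helper25.FibLocus

/-- the property of being quasi-affine -/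
def QAff : MorphismProperty Scheme.{u} := fun _ _ f => MoreMor.IsQuasiAffineHom f

theorem qAff_eq : QAff.{u} = Groth.Agent.Lib.Helper26.QuasiAffine.IsQAHom.{u} := by
  ext X Y f
  exact (Groth.Agent.Lib.Helper26.QuasiAffine.isQAHom_iff f).symm

instance : MorphismProperty.IsStableUnderBaseChange QAff.{u} := by
  rw [qAff_eq]; infer_instance

theorem descends_prop : Descends.{u} QAff.{u} := by
  intro I _ _ D c hc _ i₀ _ X₀ Y₀ f₀ g₀ _ _ _ _ _ _ _ _ _ _ _ X Y f g qY qX hY hX hf
  exact Groth.Agent.S2592.result D c hc i₀ f₀ g₀ f g qY qX hY hX hf

open CategoryTheory.Limits in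
/-- Let g : Y ⟶ S and f : X ⟶ Y be such that X and Y are of finite presentation over S (locally of
finite presentation, quasi-compact and quasi-separated). For each point s of S let f_s be the
induced morphism from the fibre of f ≫ g over s to the fibre of g over s. Then the set of s for
which f_s is a quasi-affine morphism is ind-constructible in S. -/
theorem result {X Y S : Scheme.{u}} (f : X ⟶ Y) (g : Y ⟶ S)
    [LocallyOfFinitePresentation g] [QuasiCompact g] [QuasiSeparated g]
    [LocallyOfFinitePresentation (f ≫ g)] [QuasiCompact (f ≫ g)] [QuasiSeparated (f ≫ g)] :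
    ProCons.IsIndConstructible {s : S |
      MoreMor.IsQuasiAffineHom (pullback.lift (pullback.fst (f ≫ g) (S.fromSpecResidueField s) ≫ f) (pullback.snd (f ≫ g) (S.fromSpecResidueField s))
          ((Category.assoc _ _ _).trans pullback.condition) :
        pullback (f ≫ g) (S.fromSpecResidueField s) ⟶ pullback g (S.fromSpecResidueField s))} := by
  exact isIndConstructible_setOf_fibre QAff.{u} descends_prop f g

end Groth.Agent.S4803
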