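import Groth.Statements.S4804
import Groth.Agent.Lib.Helper13.LimDescendBase

set_option autoImplicit false
universe u
open CategoryTheory AlgebraicGeometry
open Lim8

namespace Groth.Agent.S4804

/-- Let S = lim S_i be a cofiltered limit of schemes with affine transition maps, let f₀ : X₀ ⟶ Y₀ be a
morphism of schemes over a stage S_{i₀}, with Y₀ quasi-compact and f₀ of finite type and
quasi-separated, and let f : X ⟶ Y be the base change of f₀ along S ⟶ S_{i₀} (base changes are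
expressed by pullback squares). Then f is separated if and only if, for some index j over i₀, the
base change f_j : X_j ⟶ Y_j of f₀ along S_j ⟶ S_{i₀} is separated. -/
theorem result {I : Type u} [SmallCategory I] [IsCofiltered I]
    (D : I ⥤ Scheme.{u}) (c : Limits.Cone D) (hc : Limits.IsLimit c)
    [∀ (i j : I) (f : i ⟶ j), IsAffineHom (D.map f)] (i₀ : I)
    {X₀ Y₀ : Scheme.{u}} (f₀ : X₀ ⟶ Y₀) (g₀ : Y₀ ⟶ D.obj i₀) [CompactSpace Y₀]
    [LocallyOfFiniteType f₀] [QuasiCompact f₀] [QuasiSeparated f₀]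
    {X Y : Scheme.{u}} (f : X ⟶ Y) (g : Y ⟶ c.pt) (qY : Y ⟶ Y₀) (qX : X ⟶ X₀)
    (hY : IsPullback qY g g₀ (c.π.app i₀)) (hX : IsPullback qX f f₀ qY) :
    IsSeparated f ↔
      ∃ (j : I) (φ : j ⟶ i₀) (Xj Yj : Scheme.{u}) (fj : Xj ⟶ Yj) (gj : Yj ⟶ D.obj j) (pY : Yj ⟶ Y₀)
        (pX : Xj ⟶ X₀), IsPullback pY gj g₀ (D.map φ) ∧ IsPullback pX fj f₀ pY ∧ IsSeparated fj := by
  constructor
  · intro hf
    refine Lib.Helper13.LimDescend.descend_of_core D c @IsSeparated
      i₀ f₀ g₀ ?_ f g qY qX hY hX hf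
    intro a ha hP
    haveI : ∀ (j k : Over i₀) (φ : j ⟶ k),
        IsAffineHom ((Lib.Helper22.bcDiag D i₀ g₀).map φ) := fun _ _ φ => inferInstance
    obtain ⟨s, hs, rfl⟩ := Lib.Helper13.LimDescend.exists_iso_eq_comp D i₀ f₀ g₀ a ha
    refine Lib.Helper13.LimDescend.core_of_affine (Lib.Helper22.bcDiag D i₀ g₀)
      (Lib.Helper22.bcCone D c i₀ g₀) (Lib.Helper22.bcIsLimit D hc i₀ g₀) @IsSeparated
      (@LocallyOfFiniteType ⊓ @QuasiCompact ⊓ @QuasiSeparated) ?_
      (Lib.Helper13.LimDescend.top i₀) (f₀ ≫ s)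
      ⟨⟨inferInstance, inferInstance⟩, inferInstance⟩ hP
    intro K _ _ E' e' he' _ k₀ _ X' a' hQ hP'
    haveI : LocallyOfFiniteType a' := hQ.1.1
    haveI : QuasiCompact a' := hQ.1.2
    haveI : QuasiSeparated a' := hQ.2
    haveI : CompactSpace X' := QuasiCompact.compactSpace_of_compactSpace a'
    haveI : QuasiSeparatedSpace X' := quasiSeparatedSpace_of_quasiSeparated a'
    exact Lib.Helper13.LimDescend.core_isSeparated E' e' he' k₀ a' hP'
  · rintro ⟨j, φ, Xj, Yj, fj, gj, pY, pX, h1, h2, h3⟩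
    exact Lib.Helper13.LimDescend.ascend_of_isPullback D c @IsSeparated hY hX φ h1 h2 h3

end Groth.Agent.S4804
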