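import Groth.Statements.S4806
import Groth.Agent.S10861

set_option autoImplicit false
universe u
open CategoryTheory AlgebraicGeometry
open Lim8

namespace Groth.Agent.S4806

/-- Let f : X ⟶ Y be a proper morphism of finite presentation. Then f is a closed immersion if and only
if, for every point y of Y, the scheme-theoretic fibre of f at y is empty or its structure morphism
to Spec κ(y) is an isomorphism. -/
theorem result {X Y : Scheme.{u}} (f : X ⟶ Y) [IsProper f]
    [LocallyOfFinitePresentation f] :
    IsClosedImmersion f ↔ ∀ y : Y, IsEmpty (f.fiber y) ∨ IsIso (f.fiberToSpecResidueField y) := by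
  constructor
  · intro hf y
    haveI : IsClosedImmersion (f.fiberToSpecResidueField y) :=
      MorphismProperty.pullback_snd (P := @IsClosedImmersion) _ _ hf
    by_cases he : IsEmpty (f.fiber y)
    · exact Or.inl he
    · right
      rw [not_isEmpty_iff] at he
      obtain ⟨x⟩ := he
      haveI : Surjective (f.fiberToSpecResidueField y) := by
        constructor
        intro z
        exact ⟨x, Subsingleton.elim (α := PrimeSpectrum _) _ _⟩
      exact isIso_of_isClosedImmersion_of_surjective _
  · intro h
    apply IsZariskiLocalAtTarget.of_forall_exists_morphismRestrict (P := @IsClosedImmersion)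
    intro y
    have H : IsPullback (f.fiberι y) (f.fiberToSpecResidueField y) f (Y.fromSpecResidueField y) :=
      IsPullback.of_hasPullback _ _
    haveI : IsClosedImmersion (f.fiberToSpecResidueField y) := by
      rcases h y with h1 | h1
      · infer_instance
      · infer_instance
    obtain ⟨W, hW, hcl⟩ := Groth.Agent.S10861.exists_open_isClosedImmersion H
      (IsLocalRing.closedPoint (Y.residueField y))
    refine ⟨W, ?_, hcl⟩
    rwa [Scheme.fromSpecResidueField_apply] at hW

end Groth.Agent.S4806
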