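import Groth.Statements.S4815
import Groth.Agent.Lib.Helper13.LimModelMain
import Groth.Agent.Lib.Helper13.LimDescendImm

set_option autoImplicit false
universe u
open CategoryTheory AlgebraicGeometry
open Lim8

namespace Groth.Agent.S4815

/-- Let S = lim S_i be a cofiltered limit of schemes with affine transition maps and S_{i₀} a
quasi-compact quasi-separated stage. Then every subscheme of finite presentation of S, that is every
immersion ι : Z ⟶ S which is locally of finite presentation and quasi-compact, is the base change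
along S ⟶ S_j of an immersion of finite presentation Z_j ⟶ S_j, for some index j over i₀ (the base
change is expressed by a pullback square). -/
theorem result {I : Type u} [SmallCategory I] [IsCofiltered I]
    (D : I ⥤ Scheme.{u}) (c : Limits.Cone D) (hc : Limits.IsLimit c)
    [∀ (i j : I) (f : i ⟶ j), IsAffineHom (D.map f)] (i₀ : I)
    [CompactSpace (D.obj i₀)] [QuasiSeparatedSpace (D.obj i₀)]
    {Z : Scheme.{u}} (ι : Z ⟶ c.pt) [IsImmersion ι] [LocallyOfFinitePresentation ι] [QuasiCompact ι] :
    ∃ (j : I) (_ : j ⟶ i₀) (Zj : Scheme.{u}) (ιj : Zj ⟶ D.obj j) (q : Z ⟶ Zj),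
      IsImmersion ιj ∧ LocallyOfFinitePresentation ιj ∧ QuasiCompact ιj ∧ IsPullback q ι ιj (c.π.app j) := by
  classical
  -- restrict to the indices over `i₀`, where all stages are quasi-compact quasi-separated
  let D' : Over i₀ ⥤ Scheme.{u} := Over.forget i₀ ⋙ D
  let c' : Limits.Cone D' := c.whisker (Over.forget i₀)
  have hc' : Limits.IsLimit c' := (Functor.Initial.isLimitWhiskerEquiv (Over.forget i₀) c).symm hc
  haveI hcs : ∀ k : Over i₀, CompactSpace (D'.obj k) := fun k => by
    change CompactSpace (D.obj k.left)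
    exact QuasiCompact.compactSpace_of_compactSpace (D.map k.hom)
  haveI hqs : ∀ k : Over i₀, QuasiSeparatedSpace (D'.obj k) := fun k => by
    change QuasiSeparatedSpace (D.obj k.left)
    exact quasiSeparatedSpace_of_quasiSeparated (D.map k.hom)
  haveI : ∀ (k k' : Over i₀) (φ : k ⟶ k'), IsAffineHom (D'.map φ) := fun k k' φ => by
    change IsAffineHom (D.map φ.left)
    infer_instance
  haveI : IsAffineHom (c.π.app i₀) := isAffineHom_π_app D c hc i₀
  haveI : QuasiSeparatedSpace c.pt := quasiSeparatedSpace_of_quasiSeparated (c.π.app i₀)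
  haveI : QuasiSeparated ι := inferInstance
  obtain ⟨k, ⟨M⟩⟩ := Lib.Helper13.LimModel.hasModel_of_finitePresentation (D := D') (c := c') hc' ι
  let ιk : M.Z₀ ⟶ D.obj k.left := M.h₀
  have hpb : IsPullback M.g ι ιk (c.π.app k.left) := M.pb
  haveI : LocallyOfFinitePresentation ιk := M.lfp
  haveI : QuasiCompact ιk := M.qc
  haveI : QuasiSeparated ιk := M.qs
  haveI : CompactSpace (D.obj k.left) := hcs k
  haveI : QuasiSeparatedSpace (D.obj k.left) := hqs k
  haveI : CompactSpace M.Z₀ := QuasiCompact.compactSpace_of_compactSpace ιk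
  haveI : QuasiSeparatedSpace M.Z₀ := quasiSeparatedSpace_of_quasiSeparated ιk
  have h1 : IsImmersion (Limits.pullback.fst (c.π.app k.left) ιk) :=
    (Lib.Helper13.LimDescend.prop_iff_of_isPullback @IsImmersion hpb.flip
      (IsPullback.of_hasPullback (c.π.app k.left) ιk)).mp inferInstance
  obtain ⟨j, ψ, hj⟩ := Lib.Helper13.LimDescend.core_isImmersion D c hc k.left ιk h1
  refine ⟨j, ψ ≫ k.hom, Limits.pullback (D.map ψ) ιk, Limits.pullback.fst (D.map ψ) ιk,
    Limits.pullback.lift (ι ≫ c.π.app j) M.g (by rw [Category.assoc, c.w ψ, hpb.w]), hj,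
    inferInstance, inferInstance, ?_⟩
  refine IsPullback.of_right ?_ (Limits.pullback.lift_fst _ _ _)
    (IsPullback.of_hasPullback (D.map ψ) ιk).flip
  rw [Limits.pullback.lift_snd, c.w ψ]
  exact hpb

end Groth.Agent.S4815
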