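import Groth.Statements.S4816
import Groth.Agent.Lib.Helper13.LimDescendBase
import Groth.Agent.S4805

set_option autoImplicit false
universe u
open CategoryTheory AlgebraicGeometry
open Lim8

namespace Groth.Agent.S4816

section aux

open CategoryTheory.Limits

variable {C : Type*} [Category C] [HasPullbacks C]

theorem exists_fac_iff_isIso {A B T : C} (m₁ : A ⟶ T) (m₂ : B ⟶ T) [Mono m₂] :
    (∃ k : A ⟶ B, k ≫ m₂ = m₁) ↔ IsIso (pullback.fst m₁ m₂) := by
  constructor
  · rintro ⟨k, hk⟩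
    refine ⟨pullback.lift (𝟙 A) k (by rw [Category.id_comp, hk]), ?_, pullback.lift_fst _ _ _⟩
    apply pullback.hom_ext
    · rw [Category.assoc, pullback.lift_fst, Category.comp_id, Category.id_comp]
    · rw [Category.assoc, pullback.lift_snd, Category.id_comp, ← cancel_mono m₂, Category.assoc, hk,
        pullback.condition]
  · intro h
    exact ⟨inv (pullback.fst m₁ m₂) ≫ pullback.snd m₁ m₂, by
      rw [Category.assoc, ← pullback.condition, IsIso.inv_hom_id_assoc]⟩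

theorem isIso_fst_iff {Z₁ Z₂ S T : C} (ι₁ : Z₁ ⟶ S) (ι₂ : Z₂ ⟶ S) (v : T ⟶ S) :
    IsIso (pullback.fst (pullback.snd ι₁ v) (pullback.snd ι₂ v)) ↔
      IsIso (pullback.fst (pullback.fst ι₁ v) (pullback.fst ι₁ ι₂)) := by
  have h1 : IsPullback (pullback.fst (pullback.snd ι₁ v) (pullback.snd ι₂ v))
      (pullback.snd (pullback.snd ι₁ v) (pullback.snd ι₂ v) ≫ pullback.fst ι₂ v)
      (pullback.snd ι₁ v ≫ v) ι₂ :=
    (IsPullback.of_hasPullback (pullback.snd ι₁ v) (pullback.snd ι₂ v)).paste_vert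
      (IsPullback.of_hasPullback ι₂ v).flip
  have h2 : IsPullback (pullback.fst (pullback.fst ι₁ v) (pullback.fst ι₁ ι₂))
      (pullback.snd (pullback.fst ι₁ v) (pullback.fst ι₁ ι₂) ≫ pullback.snd ι₁ ι₂)
      (pullback.fst ι₁ v ≫ ι₁) ι₂ :=
    (IsPullback.of_hasPullback (pullback.fst ι₁ v) (pullback.fst ι₁ ι₂)).paste_vert
      (IsPullback.of_hasPullback ι₁ ι₂)
  rw [← pullback.condition] at h1
  exact Lib.Helper13.LimDescend.prop_iff_of_isPullback (MorphismProperty.isomorphisms C) h1 h2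

end aux

open CategoryTheory.Limits in
/-- Let S = lim S_i be a cofiltered limit of schemes with affine transition maps and S_{i₀} a
quasi-compact stage; let ι₁ : Z₁ ⟶ S_{i₀} and ι₂ : Z₂ ⟶ S_{i₀} be two subschemes of finite
presentation of S_{i₀} (immersions which are locally of finite presentation and quasi-compact), with
base changes Z₁ ×_{S_{i₀}} T ⟶ T to T = S and to T = S_j. Then Z₁ ×_{S_{i₀}} S is a subscheme of Z₂
×_{S_{i₀}} S (its immersion into S factors through that of Z₂ ×_{S_{i₀}} S) if and only if, for some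
index j over i₀, Z₁ ×_{S_{i₀}} S_j is a subscheme of Z₂ ×_{S_{i₀}} S_j. -/
theorem result {I : Type u} [SmallCategory I] [IsCofiltered I]
    (D : I ⥤ Scheme.{u}) (c : Limits.Cone D) (hc : Limits.IsLimit c)
    [∀ (i j : I) (f : i ⟶ j), IsAffineHom (D.map f)] (i₀ : I) [CompactSpace (D.obj i₀)]
    {Z₁ Z₂ : Scheme.{u}} (ι₁ : Z₁ ⟶ D.obj i₀) (ι₂ : Z₂ ⟶ D.obj i₀)
    [IsImmersion ι₁] [LocallyOfFinitePresentation ι₁] [QuasiCompact ι₁]
    [IsImmersion ι₂] [LocallyOfFinitePresentation ι₂] [QuasiCompact ι₂] :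
    (∃ k : pullback ι₁ (c.π.app i₀) ⟶ pullback ι₂ (c.π.app i₀),
        k ≫ pullback.snd ι₂ (c.π.app i₀) = pullback.snd ι₁ (c.π.app i₀)) ↔
      ∃ (j : I) (φ : j ⟶ i₀) (k : pullback ι₁ (D.map φ) ⟶ pullback ι₂ (D.map φ)),
        k ≫ pullback.snd ι₂ (D.map φ) = pullback.snd ι₁ (D.map φ) := by
  constructor
  · intro hk
    have hiso : IsIso (pullback.fst (pullback.fst ι₁ (c.π.app i₀)) (pullback.fst ι₁ ι₂)) :=
      (isIso_fst_iff ι₁ ι₂ (c.π.app i₀)).mp ((exists_fac_iff_isIso _ _).mp hk)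
    haveI : LocallyOfFinitePresentation (pullback.fst ι₁ ι₂) :=
      MorphismProperty.pullback_fst (P := @LocallyOfFinitePresentation) _ _ inferInstance
    haveI : QuasiCompact (pullback.fst ι₁ ι₂) :=
      MorphismProperty.pullback_fst (P := @QuasiCompact) _ _ inferInstance
    haveI : IsImmersion (pullback.fst ι₁ ι₂) :=
      MorphismProperty.pullback_fst (P := @IsImmersion) _ _ inferInstance
    obtain ⟨j, φ, Xj, Yj, fj, gj, pY, pX, h1, h2, h3⟩ :=
      Groth.Agent.S4805.result D c hc i₀ (pullback.fst ι₁ ι₂) ι₁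
        (pullback.fst (pullback.fst ι₁ (c.π.app i₀)) (pullback.fst ι₁ ι₂))
        (pullback.snd ι₁ (c.π.app i₀)) (pullback.fst ι₁ (c.π.app i₀))
        (pullback.snd (pullback.fst ι₁ (c.π.app i₀)) (pullback.fst ι₁ ι₂))
        (IsPullback.of_hasPullback ι₁ (c.π.app i₀))
        (IsPullback.of_hasPullback (pullback.fst ι₁ (c.π.app i₀)) (pullback.fst ι₁ ι₂)).flip
    refine ⟨j, φ, pullback.lift (h1.isoPullback.inv ≫ inv fj ≫ pX ≫ pullback.snd ι₁ ι₂)
      (pullback.snd ι₁ (D.map φ)) ?_, pullback.lift_snd _ _ _⟩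
    have e1 : pX ≫ pullback.snd ι₁ ι₂ ≫ ι₂ = fj ≫ gj ≫ D.map φ := by
      rw [← pullback.condition, ← Category.assoc, h2.w, Category.assoc, h1.w]
    rw [Category.assoc, Category.assoc, Category.assoc, e1, IsIso.inv_hom_id_assoc,
      ← Category.assoc, h1.isoPullback_inv_snd]
  · rintro ⟨j, φ, k, hk⟩
    let w : pullback ι₁ (c.π.app i₀) ⟶ pullback ι₁ (D.map φ) :=
      pullback.lift (pullback.fst ι₁ (c.π.app i₀)) (pullback.snd ι₁ (c.π.app i₀) ≫ c.π.app j)
        (by rw [Category.assoc, c.w φ, pullback.condition])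
    refine ⟨pullback.lift (w ≫ k ≫ pullback.fst ι₂ (D.map φ)) (pullback.snd ι₁ (c.π.app i₀)) ?_,
      pullback.lift_snd _ _ _⟩
    rw [Category.assoc, Category.assoc, pullback.condition, ← Category.assoc k, hk,
      ← Category.assoc, pullback.lift_snd, Category.assoc, c.w φ]

end Groth.Agent.S4816
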