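import Groth.Statements.S4817
import Groth.Agent.Lib.Helper13.LimDescendBase

set_option autoImplicit false
universe u
open CategoryTheory AlgebraicGeometry
open Lim8

namespace Groth.Agent.S4817

open CategoryTheory.Limits in
/-- Let S = lim S_i be a cofiltered limit of schemes with affine transition maps and S_{i₀} a
quasi-compact stage; let ι₀ : Z₀ ⟶ S_{i₀} be a subscheme of finite presentation (an immersion which
is locally of finite presentation and quasi-compact). Then the base change Z₀ ×_{S_{i₀}} S ⟶ S of ι₀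
is an open immersion if and only if, for some index j over i₀, the base change Z₀ ×_{S_{i₀}} S_j ⟶
S_j is an open immersion. This is the case of open subschemes. -/
theorem result {I : Type u} [SmallCategory I] [IsCofiltered I]
    (D : I ⥤ Scheme.{u}) (c : Limits.Cone D) (hc : Limits.IsLimit c)
    [∀ (i j : I) (f : i ⟶ j), IsAffineHom (D.map f)] (i₀ : I) [CompactSpace (D.obj i₀)]
    {Z₀ : Scheme.{u}} (ι₀ : Z₀ ⟶ D.obj i₀) [IsImmersion ι₀] [LocallyOfFinitePresentation ι₀] [QuasiCompact ι₀] :
    IsOpenImmersion (pullback.snd ι₀ (c.π.app i₀)) ↔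
      ∃ (j : I) (φ : j ⟶ i₀), IsOpenImmersion (pullback.snd ι₀ (D.map φ)) := by
  refine Lib.Helper13.LimDescend.snd_iff_eventually D c @IsOpenImmersion i₀ ι₀ ?_
  intro h
  refine Lib.Helper13.LimDescend.core_of_affine D c hc @IsOpenImmersion
    (@IsImmersion ⊓ @LocallyOfFinitePresentation ⊓ @QuasiCompact) ?_ i₀ ι₀
    ⟨⟨inferInstance, inferInstance⟩, inferInstance⟩ h
  intro K _ _ E' e' he' _ k₀ _ X' a' hQ hP
  haveI : IsImmersion a' := hQ.1.1
  haveI : LocallyOfFinitePresentation a' := hQ.1.2
  haveI : QuasiCompact a' := hQ.2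
  haveI : CompactSpace X' := QuasiCompact.compactSpace_of_compactSpace a'
  haveI : QuasiSeparatedSpace X' := quasiSeparatedSpace_of_quasiSeparated a'
  exact Lib.Helper13.LimDescend.core_isOpenImmersion E' e' he' k₀ a' hP

end Groth.Agent.S4817
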