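import Groth.Statements.S4821
import Mathlib.RingTheory.MvPolynomial.Localization
import Mathlib.LinearAlgebra.Finsupp.LinearCombination
-- import your own Groth.Agent.* helpers here

set_option autoImplicit false
universe u
open Cons9

namespace Groth.Agent.S4821

/-- Let A be an integral domain with fraction field K, and (P_i) a finite family of polynomials in
A[T_1, …, T_m], generating an ideal 𝔞; for a point s of Spec A write 𝔞_s for the ideal of κ(s)[T_1,
…, T_m] generated by the images of the P_i. If the zero locus of 𝔞_η in affine m-space over K = κ(η)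
is empty, that is if 𝔞_η is the unit ideal, then there is an open neighbourhood D(f) (f ≠ 0) of the
generic point such that 𝔞_s is the unit ideal (its zero locus is empty) for every s in D(f). -/
theorem result {A : Type u} [CommRing A] [IsDomain A] {m : ℕ}
    (P : Finset (MvPolynomial (Fin m) A))
    (hη : Ideal.span ((MvPolynomial.map (algebraMap A (FractionRing A))) '' (P : Set (MvPolynomial (Fin m) A))) = ⊤) :
    ∃ f : A, f ≠ 0 ∧ ∀ p : PrimeSpectrum A, f ∉ p.asIdeal →
      Ideal.span ((MvPolynomial.map (algebraMap A p.asIdeal.ResidueField)) '' (P : Set (MvPolynomial (Fin m) A))) = ⊤ := by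
  classical
  have h1 : (1 : MvPolynomial (Fin m) (FractionRing A)) ∈ Ideal.span
      ((MvPolynomial.map (algebraMap A (FractionRing A))) '' (P : Set (MvPolynomial (Fin m) A))) := by
    rw [hη]; trivial
  rw [Ideal.span, Submodule.mem_span_image_finset_iff_exists_fun'] at h1
  obtain ⟨c, hc⟩ := h1
  letI := MvPolynomial.algebraMvPolynomial (σ := Fin m) (R := A) (S := FractionRing A)
  obtain ⟨⟨b, hb⟩, hb'⟩ := IsLocalization.exist_integer_multiples
    ((nonZeroDivisors A).map (MvPolynomial.C (σ := Fin m))) P c
  obtain ⟨a, ha, rfl⟩ := hb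
  choose! c' hc' using hb'
  have key : ∑ q ∈ P, c' q * q = MvPolynomial.C a := by
    apply MvPolynomial.map_injective _ (IsFractionRing.injective A (FractionRing A))
    rw [map_sum, MvPolynomial.map_C]
    have : ∀ q ∈ P, MvPolynomial.map (algebraMap A (FractionRing A)) (c' q * q) =
        MvPolynomial.C (algebraMap A (FractionRing A) a) *
          (c q • MvPolynomial.map (algebraMap A (FractionRing A)) q) := by
      intro q hq
      have := hc' q hq
      simp only [MvPolynomial.algebraMap_def, Algebra.smul_def, MvPolynomial.map_C] at this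
      rw [map_mul, this, smul_eq_mul, mul_assoc]
    rw [Finset.sum_congr rfl this, ← Finset.mul_sum, hc, mul_one]
  refine ⟨a, nonZeroDivisors.ne_zero ha, fun p hp => ?_⟩
  rw [Ideal.eq_top_iff_one]
  have hu : IsUnit (MvPolynomial.C (σ := Fin m) (algebraMap A p.asIdeal.ResidueField a)) := by
    apply IsUnit.map
    rw [isUnit_iff_ne_zero, ne_eq, Ideal.algebraMap_residueField_eq_zero]
    exact hp
  have hmem : MvPolynomial.C (σ := Fin m) (algebraMap A p.asIdeal.ResidueField a) ∈ Ideal.span
      ((MvPolynomial.map (algebraMap A p.asIdeal.ResidueField)) '' (P : Set (MvPolynomial (Fin m) A))) := by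
    rw [← MvPolynomial.map_C, ← key, map_sum]
    refine Submodule.sum_mem _ fun q hq => ?_
    rw [map_mul]
    exact Ideal.mul_mem_left _ _ (Ideal.subset_span ⟨q, hq, rfl⟩)
  exact (Ideal.eq_top_of_isUnit_mem _ hmem hu) ▸ Submodule.mem_top

end Groth.Agent.S4821
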