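import Groth.Statements.S4833
import Groth.Agent.Lib.Helper5.FlatBCPt
import Groth.Agent.Lib.Helper7.GenericFlat
import Groth.Agent.Lib.lead.ChevB
import Groth.Agent.Lib.Helper23.ConstrClosure

set_option autoImplicit false
open CategoryTheory AlgebraicGeometry
universe u
open Cons9

namespace Groth.Agent.S4833

open CategoryTheory.Limits in
/-- Let S be an integral Noetherian scheme with generic point η, let g : X ⟶ Y be an S-morphism between
schemes of finite type over S (structure morphisms h : Y ⟶ S and g ≫ h), and let F be a coherent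
O_X-module. For s in S write g_s : X_s ⟶ Y_s for the morphism induced on the fibres over s and F_s
for the pullback of F to X_s. If F_η is not flat relative to g_η (not flat over O_{Y_η, g_η(x)} at
some point x of X_η), then there is an open neighbourhood U of η such that for every s in U the
module F_s is not flat relative to g_s. -/
theorem result {X Y S : Scheme.{u}} [IsIntegral S] [IsNoetherian S]
    (g : X ⟶ Y) (h : Y ⟶ S) [LocallyOfFiniteType h] [QuasiCompact h]
    [LocallyOfFiniteType (g ≫ h)] [QuasiCompact (g ≫ h)]
    (F : X.Modules) [Coh.IsQCoh F] (hF : CohB1.IsFP F)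
    (hη : ¬ FlatMod.IsFlatOver
      (pullback.lift (pullback.fst (g ≫ h) (S.fromSpecResidueField (genericPoint S)) ≫ g)
          (pullback.snd (g ≫ h) (S.fromSpecResidueField (genericPoint S)))
          ((Category.assoc _ _ _).trans pullback.condition) :
        pullback (g ≫ h) (S.fromSpecResidueField (genericPoint S)) ⟶ pullback h (S.fromSpecResidueField (genericPoint S)))
      ((Scheme.Modules.pullback (pullback.fst (g ≫ h) (S.fromSpecResidueField (genericPoint S)))).obj F)) :
    ∃ U : S.Opens, genericPoint S ∈ U ∧ ∀ s ∈ U, ¬ FlatMod.IsFlatOver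
      (pullback.lift (pullback.fst (g ≫ h) (S.fromSpecResidueField s) ≫ g) (pullback.snd (g ≫ h) (S.fromSpecResidueField s))
          ((Category.assoc _ _ _).trans pullback.condition) :
        pullback (g ≫ h) (S.fromSpecResidueField s) ⟶ pullback h (S.fromSpecResidueField s))
      ((Scheme.Modules.pullback (pullback.fst (g ≫ h) (S.fromSpecResidueField s))).obj F) := by
  classical
  haveI : SheafOfModules.IsFinitePresentation.{u} (R := X.ringCatSheaf) F := hF
  haveI : F.IsQuasicoherent :=
    Groth.Agent.Lib.Helper29.FPDict.isQuasicoherent_of_isFinitePresentation F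
  haveI : IsLocallyNoetherian S := inferInstance
  haveI : IsLocallyNoetherian Y := LocallyOfFiniteType.isLocallyNoetherian h
  haveI : LocallyOfFinitePresentation (g ≫ h) :=
    Groth.Agent.Lib.lead.ChevB.lfp_of_lft_of_isLocallyNoetherian _
  haveI : LocallyOfFiniteType g := locallyOfFiniteType_of_comp g h
  haveI : LocallyOfFinitePresentation g :=
    Groth.Agent.Lib.lead.ChevB.lfp_of_lft_of_isLocallyNoetherian _
  -- generic flatness
  obtain ⟨U₀, hU₀ne, hU₀⟩ := Groth.Agent.Lib.Helper7.GenericFlat.exists_open_flat (g ≫ h) F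
  have hηU₀ : genericPoint S ∈ U₀ := by
    obtain ⟨s, hs⟩ := hU₀ne
    exact ((genericPoint_spec S).specializes (Set.mem_univ s)).mem_open U₀.2 hs
  -- the closed non-flat locus
  have hopen : IsOpen {x : X | FlatMod.IsFlatOverAt g F x} :=
    Groth.Agent.Lib.Helper21.FlatDesc.isOpen_isFlatOverAt g F
  haveI : IsLocallyNoetherian X := LocallyOfFiniteType.isLocallyNoetherian (g ≫ h)
  haveI : CompactSpace X := QuasiCompact.compactSpace_of_compactSpace (g ≫ h)
  haveI : IsNoetherian X := {}
  have hflatcons : Topology.IsConstructible {x : X | FlatMod.IsFlatOverAt g F x} :=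
    (TopologicalSpace.NoetherianSpace.isCompact _).isConstructible hopen
  have hZcons : Topology.IsConstructible {x : X | ¬ FlatMod.IsFlatOverAt g F x} :=
    Topology.isConstructible_compl.mpr hflatcons
  have himg : Topology.IsConstructible ((g ≫ h) '' {x : X | ¬ FlatMod.IsFlatOverAt g F x}) :=
    (g ≫ h).isConstructible_image hZcons
  -- pullback squares for the fibres
  have hsq : ∀ s : S,
      IsPullback (pullback.fst (g ≫ h) (S.fromSpecResidueField s))
        ((pullback.lift (pullback.fst (g ≫ h) (S.fromSpecResidueField s) ≫ g)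
          (pullback.snd (g ≫ h) (S.fromSpecResidueField s))
          ((Category.assoc _ _ _).trans pullback.condition) :
          pullback (g ≫ h) (S.fromSpecResidueField s) ⟶ pullback h (S.fromSpecResidueField s)) ≫
          pullback.snd h (S.fromSpecResidueField s)) (g ≫ h) (S.fromSpecResidueField s) := by
    intro s
    rw [pullback.lift_snd]
    exact IsPullback.of_hasPullback _ _
  have hw : ∀ s : S, pullback.fst (g ≫ h) (S.fromSpecResidueField s) ≫ g =
      (pullback.lift (pullback.fst (g ≫ h) (S.fromSpecResidueField s) ≫ g)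
          (pullback.snd (g ≫ h) (S.fromSpecResidueField s))
          ((Category.assoc _ _ _).trans pullback.condition) :
          pullback (g ≫ h) (S.fromSpecResidueField s) ⟶ pullback h (S.fromSpecResidueField s)) ≫
        pullback.fst h (S.fromSpecResidueField s) := fun s => (pullback.lift_fst _ _ _).symm
  -- the generic point is in the image of the non-flat locus
  have hηimg : genericPoint S ∈ (g ≫ h) '' {x : X | ¬ FlatMod.IsFlatOverAt g F x} := by
    unfold FlatMod.IsFlatOver at hη
    push_neg at hη
    obtain ⟨z, hz⟩ := hη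
    refine ⟨pullback.fst (g ≫ h) (S.fromSpecResidueField (genericPoint S)) z, ?_, ?_⟩
    · intro hfl
      exact hz (Groth.Agent.Lib.Helper17.FibreStalk.isFlatOverAt_baseChange g _ _ _
        (Groth.Agent.Lib.Helper21.FlatBC.isPullback_left (IsPullback.of_hasPullback h _)
          (hsq (genericPoint S)) (hw (genericPoint S))) F z hfl)
    · have h1 := congrArg (fun k => k z) (pullback.condition (f := g ≫ h)
        (g := S.fromSpecResidueField (genericPoint S)))
      simp only [Scheme.Hom.comp_apply] at h1 ⊢
      rw [h1]
      exact Scheme.fromSpecResidueField_apply _ _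
  -- open neighbourhood of the generic point inside the image
  have hηnot : genericPoint S ∉
      closure (((g ≫ h) '' {x : X | ¬ FlatMod.IsFlatOverAt g F x})ᶜ) :=
    Groth.Agent.Lib.Helper23.ConstrClosure.genericPoint_notMem_closure
      (Topology.isConstructible_compl.mpr himg) (fun hc => hc hηimg)
  let U₁ : S.Opens := ⟨(closure (((g ≫ h) '' {x : X | ¬ FlatMod.IsFlatOverAt g F x})ᶜ))ᶜ,
    isClosed_closure.isOpen_compl⟩
  refine ⟨U₀ ⊓ U₁, ⟨hηU₀, hηnot⟩, ?_⟩
  rintro s ⟨hs₀, hs₁⟩ hflat
  have hsimg : s ∈ (g ≫ h) '' {x : X | ¬ FlatMod.IsFlatOverAt g F x} := by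
    by_contra hc
    exact hs₁ (subset_closure hc)
  obtain ⟨x, hxZ, rfl⟩ := hsimg
  apply hxZ
  have hz : pullback.fst (g ≫ h) (S.fromSpecResidueField ((g ≫ h) x)) ((g ≫ h).asFiber x) = x :=
    (g ≫ h).fiberι_asFiber x
  have key := Groth.Agent.Lib.Helper5.FlatBCPt.isFlatOverAt_of_baseChange_pt g h F inferInstance hF
    (S.fromSpecResidueField ((g ≫ h) x)) (pullback.fst h _) (pullback.snd h _)
    (IsPullback.of_hasPullback h _) (pullback.fst (g ≫ h) _) _ (hsq _) (hw _)
    ((g ≫ h).asFiber x) (by rw [hz]; exact hU₀ x hs₀) (hflat _)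
  rw [hz] at key
  exact key

end Groth.Agent.S4833
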