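import Groth.Statements.S4834
import Mathlib.Tactic
import Mathlib.Algebra.Category.ModuleCat.FilteredColimits

set_option autoImplicit false
open CategoryTheory CategoryTheory.Limits
universe u
open Lim8

namespace Groth.Agent.S4834

section
variable {A : Type u} [CommRing A] (M : ModuleCat.{u} A)
  {J : Type u} [Preorder J] [IsDirected J (· ≤ ·)] [Nonempty J] (N : J ⥤ ModuleCat.{u} A)

/-- two maps into stages with equal images in the colimit agree at a later stage on a given element -/
lemma stage_eq (i j : J) (f : M ⟶ N.obj i) (g : M ⟶ N.obj j)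
    (h : f ≫ colimit.ι N i = g ≫ colimit.ι N j) (m : M) :
    ∃ (k : J) (a : i ⟶ k) (b : j ⟶ k), (N.map a).hom (f.hom m) = (N.map b).hom (g.hom m) := by
  have h1 : (colimit.ι N i).hom (f.hom m) = (colimit.ι N j).hom (g.hom m) := by
    have := congrArg (fun φ => φ.hom m) h
    exact this
  exact Concrete.colimit_exists_of_rep_eq N (f.hom m) (g.hom m) h1


/-- with `M` finite, the two maps agree at a common later stage -/
lemma stage_eq_all [Module.Finite A M] (i j : J) (f : M ⟶ N.obj i) (g : M ⟶ N.obj j)
    (h : f ≫ colimit.ι N i = g ≫ colimit.ι N j) :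
    ∃ (k : J) (a : i ⟶ k) (b : j ⟶ k), f ≫ N.map a = g ≫ N.map b := by
  classical
  obtain ⟨S, hS⟩ := (Module.Finite.fg_top : (⊤ : Submodule A M).FG)
  choose k a b hk using fun m : M => stage_eq M N i j f g h m
  obtain ⟨K0, hK0⟩ := Finset.exists_le (S.image k)
  obtain ⟨K1, hK1i, hK1j⟩ := directed_of (· ≤ ·) i j
  obtain ⟨K, hKK0, hKK1⟩ := directed_of (· ≤ ·) K0 K1
  refine ⟨K, homOfLE (hK1i.trans hKK1), homOfLE (hK1j.trans hKK1), ?_⟩
  apply ModuleCat.hom_ext
  apply LinearMap.ext_on_range (v := fun m : S => (m : M))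
  · rw [Subtype.range_coe_subtype]
    simpa using hS
  · intro m
    have hmK : k m.1 ≤ K := (hK0 _ (Finset.mem_image_of_mem k m.2)).trans hKK0
    have e1 : homOfLE (hK1i.trans hKK1) = a m.1 ≫ homOfLE hmK := Subsingleton.elim _ _
    have e2 : homOfLE (hK1j.trans hKK1) = b m.1 ≫ homOfLE hmK := Subsingleton.elim _ _
    change (N.map (homOfLE (hK1i.trans hKK1))).hom (f.hom m.1) =
      (N.map (homOfLE (hK1j.trans hKK1))).hom (g.hom m.1)
    rw [e1, e2, N.map_comp, N.map_comp]
    change (N.map (homOfLE hmK)).hom ((N.map (a m.1)).hom (f.hom m.1)) =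
      (N.map (homOfLE hmK)).hom ((N.map (b m.1)).hom (g.hom m.1))
    rw [hk m.1]

end


/-- Let A be a commutative ring, M an A-module of finite type and (N_λ) an inductive system of A-modules
indexed by a nonempty directed preordered set. Then the canonical map colim_λ Hom_A(M, N_λ) →
Hom_A(M, colim_λ N_λ), sending a compatible system of homomorphisms to its inductive limit, is
injective. This is the finite type case, in the form its proof gives. -/
theorem result {A : Type u} [CommRing A] (M : ModuleCat.{u} A)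
    [Module.Finite A M] {J : Type u} [Preorder J] [IsDirected J (· ≤ ·)] [Nonempty J]
    (N : J ⥤ ModuleCat.{u} A) :
    Function.Injective (colimit.post N (coyoneda.obj (Opposite.op M))) := by
  intro x y hxy
  let G := coyoneda.obj (Opposite.op M)
  obtain ⟨i, f, rfl⟩ := Types.jointly_surjective' x
  obtain ⟨j, g, rfl⟩ := Types.jointly_surjective' y
  have hpost : ∀ (l : J) (w : (N ⋙ G).obj l),
      colimit.post N G (colimit.ι (N ⋙ G) l w) = G.map (colimit.ι N l) w := fun l w =>
    ConcreteCategory.congr_hom (colimit.ι_post N G l) w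
  rw [hpost, hpost] at hxy
  have h : f ≫ colimit.ι N i = g ≫ colimit.ι N j := hxy
  obtain ⟨k, a, b, hab⟩ := stage_eq_all M N i j f g h
  exact (Types.FilteredColimit.colimit_eq_iff (N ⋙ G)).mpr ⟨k, a, b, hab⟩

end Groth.Agent.S4834
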