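import Groth.Statements.S4835
import Groth.Agent.S4834
import Mathlib.Tactic
import Mathlib.Algebra.Category.ModuleCat.FilteredColimits

set_option autoImplicit false
open CategoryTheory CategoryTheory.Limits
universe u
open Lim8

namespace Groth.Agent.S4835

section
variable {A : Type u} [CommRing A]
  {J : Type u} [Preorder J] [IsDirected J (· ≤ ·)] [Nonempty J] (N : J ⥤ ModuleCat.{u} A)

/-- a finite family of elements of the colimit comes from a common stage -/
lemma exists_stage {n : ℕ} (x : Fin n → (colimit N : ModuleCat.{u} A)) :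
    ∃ (k : J) (y : Fin n → N.obj k), ∀ t, (colimit.ι N k).hom (y t) = x t := by
  classical
  choose i y hy using fun t => Concrete.colimit_exists_rep N (x t)
  obtain ⟨k, hk⟩ := Finset.exists_le (Finset.univ.image i)
  have hik : ∀ t, i t ≤ k := fun t => hk _ (Finset.mem_image_of_mem i (Finset.mem_univ t))
  refine ⟨k, fun t => (N.map (homOfLE (hik t))).hom (y t), fun t => ?_⟩
  have hw := colimit.w N (homOfLE (hik t))
  have := congrArg (fun φ => φ.hom (y t)) hw
  simp only [ModuleCat.hom_comp, LinearMap.comp_apply] at this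
  rw [this]
  exact hy t

/-- an element of a stage that dies in the colimit dies at a later stage -/
lemma exists_stage_zero (k : J) (z : N.obj k) (hz : (colimit.ι N k).hom z = 0) :
    ∃ (l : J) (a : k ⟶ l), (N.map a).hom z = 0 := by
  have h1 : (colimit.ι N k).hom z = (colimit.ι N k).hom (0 : N.obj k) := by rw [hz, map_zero]
  obtain ⟨l, a, b, hab⟩ := Concrete.colimit_exists_of_rep_eq N z (0 : N.obj k) h1
  refine ⟨l, a, ?_⟩
  have : (N.map b).hom (0 : N.obj k) = 0 := map_zero _
  rw [← this]
  exact hab

end


/-- Let A be a commutative ring, M an A-module of finite presentation and (N_λ) an inductive system of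
A-modules indexed by a nonempty directed preordered set. Then the canonical map colim_λ Hom_A(M,
N_λ) → Hom_A(M, colim_λ N_λ), sending a compatible system of homomorphisms to its inductive limit,
is bijective. This is the form established in the source's proof (finite presentation case). -/
theorem result {A : Type u} [CommRing A] (M : ModuleCat.{u} A)
    [Module.FinitePresentation A M] {J : Type u} [Preorder J] [IsDirected J (· ≤ ·)] [Nonempty J]
    (N : J ⥤ ModuleCat.{u} A) :
    Function.Bijective (colimit.post N (coyoneda.obj (Opposite.op M))) := by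
  classical
  have hfin : Module.Finite A M := inferInstance
  refine ⟨Groth.Agent.S4834.result M N, ?_⟩
  intro φ
  let G := coyoneda.obj (Opposite.op M)
  let φ' : M ⟶ colimit N := φ
  obtain ⟨n, π, hπ⟩ := Module.Finite.exists_fin' A M
  have hK : (LinearMap.ker π).FG := Module.FinitePresentation.fg_ker π hπ
  obtain ⟨T, hT⟩ := hK
  obtain ⟨k, y, hy⟩ := exists_stage N (fun t => φ'.hom (π (Pi.single t 1)))
  let ψ : (Fin n → A) →ₗ[A] N.obj k := Fintype.linearCombination A y
  have hψ : ∀ v, (colimit.ι N k).hom (ψ v) = φ'.hom (π v) := by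
    intro v
    have : (colimit.ι N k).hom ∘ₗ ψ = φ'.hom ∘ₗ π := by
      apply LinearMap.pi_ext
      intro t a
      simp only [LinearMap.comp_apply, ψ, Fintype.linearCombination_apply_single, map_smul]
      rw [hy t]
      rw [← map_smul, ← map_smul, ← Pi.single_smul, smul_eq_mul, mul_one]
    exact congrArg (fun f => f v) this
  have hzero : ∀ r ∈ T, (colimit.ι N k).hom (ψ r) = 0 := by
    intro r hr
    rw [hψ r]
    have : r ∈ LinearMap.ker π := hT ▸ Submodule.subset_span hr
    rw [LinearMap.mem_ker.mp this, map_zero]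
  choose! l a ha using fun (r : Fin n → A) (hr : r ∈ T) =>
    exists_stage_zero N k (ψ r) (hzero r hr)
  obtain ⟨K0, hK0⟩ := Finset.exists_le (T.image l)
  obtain ⟨K, hK0K, hkK⟩ := directed_of (· ≤ ·) K0 k
  let ψ' : (Fin n → A) →ₗ[A] N.obj K := (N.map (homOfLE hkK)).hom ∘ₗ ψ
  have hle : LinearMap.ker π ≤ LinearMap.ker ψ' := by
    rw [← hT, Submodule.span_le]
    intro r hr
    rw [SetLike.mem_coe, LinearMap.mem_ker]
    have hlK : l r ≤ K := (hK0 _ (Finset.mem_image_of_mem l hr)).trans hK0K
    have e1 : homOfLE hkK = a r hr ≫ homOfLE hlK := Subsingleton.elim _ _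
    change (N.map (homOfLE hkK)).hom (ψ r) = 0
    rw [e1, N.map_comp]
    change (N.map (homOfLE hlK)).hom ((N.map (a r hr)).hom (ψ r)) = 0
    rw [ha r hr, map_zero]
  let e := π.quotKerEquivOfSurjective hπ
  let ψbar : M →ₗ[A] N.obj K := (Submodule.liftQ (LinearMap.ker π) ψ' hle) ∘ₗ e.symm.toLinearMap
  have hψbar : ∀ v, ψbar (π v) = ψ' v := by
    intro v
    have : e.symm (π v) = Submodule.Quotient.mk v := by
      rw [LinearEquiv.symm_apply_eq]
      rfl
    change (Submodule.liftQ (LinearMap.ker π) ψ' hle) (e.symm (π v)) = _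
    rw [this, Submodule.liftQ_apply]
  refine ⟨colimit.ι (N ⋙ G) K (ModuleCat.ofHom ψbar), ?_⟩
  have hpost : colimit.post N G (colimit.ι (N ⋙ G) K (ModuleCat.ofHom ψbar)) =
      G.map (colimit.ι N K) (ModuleCat.ofHom ψbar) :=
    ConcreteCategory.congr_hom (colimit.ι_post N G K) (ModuleCat.ofHom ψbar)
  rw [hpost]
  change ModuleCat.ofHom ψbar ≫ colimit.ι N K = φ
  apply ModuleCat.hom_ext
  apply LinearMap.ext
  intro m
  obtain ⟨v, rfl⟩ := hπ m
  change (colimit.ι N K).hom (ψbar (π v)) = φ'.hom (π v)
  rw [hψbar, ← hψ v]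
  have hw := colimit.w N (homOfLE hkK)
  have := congrArg (fun f => f.hom (ψ v)) hw
  exact this

end Groth.Agent.S4835
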