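import Groth.Statements.S4852
import Groth.Agent.Lib.Helper2.NilpFree2
import Groth.Agent.Lib.Helper2.SemiLocal
import Mathlib.RingTheory.Ideal.Over
import Mathlib.RingTheory.Jacobson.Radical
import Mathlib.RingTheory.Spectrum.Maximal.Basic

set_option autoImplicit false
universe u
open TensorProduct
open EGA43

namespace Groth.Agent.S4852

open Lib.Helper2 in
theorem flat_quotient_of_forall_flat_baseChange {A : Type u} [CommRing A] (I : Ideal A) (q : A)
    (hq : ∀ x ∈ I, q * x = 0) (hq1 : 1 - q ∈ I)
    {ι : Type*} (B : ι → Type u) [∀ i, CommRing (B i)] [∀ i, Algebra A (B i)]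
    (hB : ∀ a : A, (∀ i, algebraMap A (B i) a = 0) → a = 0)
    (M : Type u) [AddCommGroup M] [Module A M]
    (J : Ideal (A ⧸ I)) (hJ : IsNilpotent J)
    (hfree : Module.Free ((A ⧸ I) ⧸ J) (((A ⧸ I) ⧸ J) ⊗[A ⧸ I] ((A ⧸ I) ⊗[A] M)))
    (h : ∀ i, Module.Flat (B i) (B i ⊗[A] M)) :
    Module.Flat (A ⧸ I) ((A ⧸ I) ⊗[A] M) := by
  obtain ⟨R₀, hR₀⟩ := NilpFree2.exists_ideal_forall_free_iff ((A ⧸ I) ⊗[A] M) J hJ hfree
  have hbot : R₀ = ⊥ := by
    rw [eq_bot_iff]
    intro a ha
    obtain ⟨x, rfl⟩ := Ideal.Quotient.mk_surjective a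
    rw [Ideal.mem_bot, Ideal.Quotient.eq_zero_iff_mem]
    have hi : ∀ i, algebraMap A (B i) (q * x) = 0 := by
      intro i
      have hflat : Module.Flat (B i ⧸ I.map (algebraMap A (B i)))
          ((B i ⧸ I.map (algebraMap A (B i))) ⊗[A ⧸ I] ((A ⧸ I) ⊗[A] M)) :=
        (SemiLocal.flat_tensor_tensor_iff M).mpr
          (SemiLocal.flat_baseChange_of_flat_baseChange (B := B i) M (h i))
      have hmap := ((hR₀ (B i ⧸ I.map (algebraMap A (B i)))).2).mp hflat
      have h0 : algebraMap (A ⧸ I) (B i ⧸ I.map (algebraMap A (B i))) (Ideal.Quotient.mk I x) = 0 := by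
        have : algebraMap (A ⧸ I) (B i ⧸ I.map (algebraMap A (B i))) (Ideal.Quotient.mk I x) ∈
            Ideal.map (algebraMap (A ⧸ I) (B i ⧸ I.map (algebraMap A (B i)))) R₀ :=
          Ideal.mem_map_of_mem _ ha
        rw [hmap] at this
        exact this
      rw [Ideal.Quotient.algebraMap_quotient_map_quotient, Ideal.Quotient.eq_zero_iff_mem] at h0
      have key : ∀ y ∈ I.map (algebraMap A (B i)), algebraMap A (B i) q * y = 0 := by
        intro y hy
        refine Submodule.span_induction ?_ ?_ ?_ ?_ hy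
        · rintro _ ⟨z, hz, rfl⟩
          rw [← map_mul, hq z hz, map_zero]
        · exact mul_zero _
        · intro y z _ _ hy hz
          rw [mul_add, hy, hz, add_zero]
        · intro b y _ hy
          rw [smul_eq_mul, mul_left_comm, hy, mul_zero]
      rw [map_mul]
      exact key _ h0
    have hqx : q * x = 0 := hB _ hi
    have : x = (1 - q) * x := by rw [sub_mul, one_mul, hqx, sub_zero]
    rw [this]
    exact I.mul_mem_right _ hq1
  have := ((hR₀ (A ⧸ I)).2).mpr (by rw [hbot, Ideal.map_bot])
  exact (Module.Flat.equiv_iff (TensorProduct.lid (A ⧸ I) ((A ⧸ I) ⊗[A] M))).mp this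

/-- Let A be a semi-local ring (finitely many maximal ideals) whose Jacobson radical is nilpotent, for
instance an Artinian ring, and let (u_i : A → B_i) be a family of ring homomorphisms whose kernels
have zero intersection. Then an A-module M is flat if and only if, for every i, the B_i-module B_i
⊗_A M is flat. -/
theorem result {A : Type u} [CommRing A]
    [Finite (MaximalSpectrum A)] (hnil : IsNilpotent (Ring.jacobson A))
    {ι : Type u} (B : ι → Type u) [∀ i, CommRing (B i)] [∀ i, Algebra A (B i)]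
    (hB : ∀ a : A, (∀ i, algebraMap A (B i) a = 0) → a = 0)
    (M : Type u) [AddCommGroup M] [Module A M] :
    Module.Flat A M ↔ ∀ i, Module.Flat (B i) (B i ⊗[A] M) := by
  constructor
  · intro hM i
    exact Module.Flat.baseChange A (B i) M
  · intro h
    classical
    obtain ⟨n, hn⟩ := hnil
    have hn1 : Ring.jacobson A ^ (n + 1) = ⊥ := by
      rw [pow_succ, hn, Ideal.zero_eq_bot, Ideal.bot_mul]
    cases nonempty_fintype (MaximalSpectrum A)
    let I : MaximalSpectrum A → Ideal A := fun m => m.asIdeal ^ (n + 1)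
    have hI : Pairwise (Function.onFun IsCoprime I) :=
      fun m m' hne => (MaximalSpectrum.isCoprime_of_ne hne).pow
    have hjac : Ring.jacobson A = ⨅ m : MaximalSpectrum A, m.asIdeal := by
      rw [Ring.jacobson_eq_sInf_isMaximal]
      apply le_antisymm
      · exact le_iInf fun m => sInf_le m.isMaximal
      · exact le_sInf fun P hP => iInf_le_of_le ⟨P, hP⟩ le_rfl
    have hbot : ⨅ m, I m = ⊥ := by
      have h1 : ∏ m : MaximalSpectrum A, I m = ⨅ m ∈ (Finset.univ : Finset (MaximalSpectrum A)), I m :=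
        Ideal.prod_eq_iInf_of_pairwise_isCoprime (fun m _ m' _ hne => hI hne)
      have h2 : ∏ m : MaximalSpectrum A, m.asIdeal =
          ⨅ m ∈ (Finset.univ : Finset (MaximalSpectrum A)), m.asIdeal :=
        Ideal.prod_eq_iInf_of_pairwise_isCoprime
          (fun m _ m' _ hne => MaximalSpectrum.isCoprime_of_ne hne)
      simp only [Finset.mem_univ, iInf_pos] at h1 h2
      rw [← h1]
      show ∏ m : MaximalSpectrum A, m.asIdeal ^ (n + 1) = ⊥
      rw [Finset.prod_pow, h2, ← hjac, hn1]
    refine Lib.Helper2.SemiLocal.flat_of_forall_flat_quotient_of_coprime I hI hbot M fun m => ?_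
    obtain ⟨q, hq⟩ := Ideal.pi_quotient_surjective hI (Pi.single m 1)
    have hqm : 1 - q ∈ I m := by
      have := hq m
      rw [Pi.single_eq_same] at this
      rw [← Ideal.Quotient.eq_zero_iff_mem, map_sub, map_one, this, sub_self]
    have hq0 : ∀ x ∈ I m, q * x = 0 := by
      intro x hx
      have hmem : q * x ∈ ⨅ m, I m := by
        rw [Ideal.mem_iInf]
        intro m'
        by_cases hm' : m' = m
        · subst hm'
          exact Ideal.mul_mem_left _ _ hx
        · have := hq m'
          rw [Pi.single_eq_of_ne hm'] at this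
          exact Ideal.mul_mem_right _ _ (Ideal.Quotient.eq_zero_iff_mem.mp this)
      rwa [hbot] at hmem
    haveI := m.isMaximal
    have hker : RingHom.ker (Ideal.Quotient.mk (I m)) ≤ m.asIdeal := by
      rw [Ideal.mk_ker]
      exact Ideal.pow_le_self (Nat.succ_ne_zero n)
    haveI hmax : (m.asIdeal.map (Ideal.Quotient.mk (I m))).IsMaximal :=
      Ideal.IsMaximal.map_of_surjective_of_ker_le Ideal.Quotient.mk_surjective hker
    refine flat_quotient_of_forall_flat_baseChange (I m) q hq0 hqm B hB M
      (m.asIdeal.map (Ideal.Quotient.mk (I m))) ⟨n + 1, ?_⟩ ?_ h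
    · rw [← Ideal.map_pow, Ideal.zero_eq_bot]
      exact Ideal.map_quotient_self _
    · letI := Ideal.Quotient.field (m.asIdeal.map (Ideal.Quotient.mk (I m)))
      exact Module.Free.of_divisionRing _ _

end Groth.Agent.S4852
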