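import Groth.Statements.S4860
import Mathlib.RingTheory.Jacobson.Ring
import Mathlib.RingTheory.Localization.Integral

set_option autoImplicit false
set_option linter.style.haveILetI false
universe u
open EGA43

namespace Groth.Agent.S4860

section aux
variable (B : Type u) [CommRing B] [IsDomain B]

private theorem lemC (K : Type u) [Field K] [Algebra B K] (hinj : Function.Injective (algebraMap B K))
    [hft : Algebra.FiniteType B K] : ∃ f : B, f ≠ 0 ∧ IsField (Localization.Away f) := by
  classical
  let F := FractionRing B
  letI : Algebra F K := (IsFractionRing.lift hinj).toAlgebra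
  haveI : IsScalarTower B F K :=
    IsScalarTower.of_algebraMap_eq (fun x => (IsFractionRing.lift_algebraMap hinj x).symm)
  haveI : Algebra.FiniteType F K := Algebra.FiniteType.of_restrictScalars_finiteType B F K
  haveI : Module.Finite F K := finite_of_finite_type_of_isJacobsonRing F K
  haveI : Algebra.IsIntegral F K := inferInstance
  obtain ⟨s, hs⟩ := hft.out
  have hmul : ∀ x : K, ∃ b : nonZeroDivisors B, IsIntegral B (b • x) := fun x =>
    IsIntegral.exists_multiple_integral_of_isLocalization (nonZeroDivisors B) (Rₘ := F) x
      (Algebra.IsIntegral.isIntegral x)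
  choose b hb using hmul
  let f : B := ∏ x ∈ s, (b x : B)
  have hf : f ≠ 0 := Finset.prod_ne_zero_iff.2 fun x _ => nonZeroDivisors.coe_ne_zero _
  refine ⟨f, hf, ?_⟩
  have hfu : IsUnit (algebraMap B K f) :=
    isUnit_iff_ne_zero.2 (by rwa [Ne, map_eq_zero_iff _ hinj])
  letI : Algebra (Localization.Away f) K := (IsLocalization.Away.lift f hfu).toAlgebra
  haveI : IsScalarTower B (Localization.Away f) K :=
    IsScalarTower.of_algebraMap_eq (fun x => (IsLocalization.Away.lift_eq f hfu x).symm)
  have hinj' : Function.Injective (algebraMap (Localization.Away f) K) := by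
    change Function.Injective (IsLocalization.Away.lift f hfu)
    unfold IsLocalization.Away.lift
    rw [IsLocalization.lift_injective_iff]
    intro x y
    constructor
    · intro h
      have := IsLocalization.injective (Localization.Away f)
        (powers_le_nonZeroDivisors_of_noZeroDivisors hf) h
      rw [this]
    · intro h
      rw [hinj h]
  haveI : Algebra.IsIntegral (Localization.Away f) K := by
    refine ⟨fun z => ?_⟩
    have hz : z ∈ Algebra.adjoin B (s : Set K) := by rw [hs]; trivial
    induction hz using Algebra.adjoin_induction with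
    | mem x hx =>
      have hdvd : (b x : B) ∣ f := Finset.dvd_prod_of_mem _ hx
      obtain ⟨c, hc⟩ := hdvd
      let w : Localization.Away f :=
        algebraMap B _ c * IsLocalization.mk' _ 1 (⟨f, Submonoid.mem_powers f⟩ : Submonoid.powers f)
      have hw : algebraMap B (Localization.Away f) (b x : B) * w = 1 := by
        show algebraMap B (Localization.Away f) (b x : B) * (algebraMap B _ c * _) = 1
        rw [← mul_assoc, ← map_mul, ← hc, IsLocalization.mul_mk'_eq_mk'_of_mul, mul_one]
        exact IsLocalization.mk'_self _ _
      have hx' : x = w • ((b x) • x) := by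
        rw [Algebra.smul_def, Submonoid.smul_def, Algebra.smul_def, ← mul_assoc]
        have : algebraMap (Localization.Away f) K w * algebraMap B K (b x : B) = 1 := by
          rw [IsScalarTower.algebraMap_apply B (Localization.Away f) K, ← map_mul, mul_comm, hw, map_one]
        rw [this, one_mul]
      rw [hx']
      exact IsIntegral.smul _ ((hb x).tower_top)
    | algebraMap r =>
      rw [IsScalarTower.algebraMap_apply B (Localization.Away f) K]
      exact isIntegral_algebraMap
    | add x y _ _ hx hy => exact hx.add hy
    | mul x y _ _ hx hy => exact hx.mul hy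
  exact isField_of_isIntegral_of_isField hinj' (Field.toIsField K)

private theorem lemA (f : B) (hf : f ≠ 0) (hF : IsField (Localization.Away f)) :
    Algebra.FiniteType B (FractionRing B) := by
  refine ⟨⟨{(algebraMap B (FractionRing B) f)⁻¹}, ?_⟩⟩
  rw [eq_top_iff]
  intro z _
  obtain ⟨a, b, hb, rfl⟩ := IsFractionRing.div_surjective (A := B) z
  have hb0 : b ≠ 0 := nonZeroDivisors.ne_zero hb
  have hinj : Function.Injective (algebraMap B (Localization.Away f)) :=
    IsLocalization.injective (Localization.Away f) (powers_le_nonZeroDivisors_of_noZeroDivisors hf)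
  have hb1 : algebraMap B (Localization.Away f) b ≠ 0 := by
    rwa [Ne, map_eq_zero_iff _ hinj]
  obtain ⟨w, hw⟩ := hF.mul_inv_cancel hb1
  obtain ⟨c, ⟨_, n, rfl⟩, rfl⟩ := IsLocalization.exists_mk'_eq (Submonoid.powers f) w
  rw [IsLocalization.mul_mk'_eq_mk'_of_mul, IsLocalization.mk'_eq_iff_eq_mul, one_mul] at hw
  have hbc : b * c = f ^ n := hinj hw
  have hfF : algebraMap B (FractionRing B) f ≠ 0 := by
    rwa [Ne, map_eq_zero_iff _ (IsFractionRing.injective B (FractionRing B))]
  have hbF : algebraMap B (FractionRing B) b ≠ 0 := by
    rwa [Ne, map_eq_zero_iff _ (IsFractionRing.injective B (FractionRing B))]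
  have key : algebraMap B (FractionRing B) a / algebraMap B (FractionRing B) b =
      algebraMap B (FractionRing B) a * algebraMap B (FractionRing B) c *
        ((algebraMap B (FractionRing B) f)⁻¹) ^ n := by
    have h2 : algebraMap B (FractionRing B) b * algebraMap B (FractionRing B) c =
        (algebraMap B (FractionRing B) f) ^ n := by rw [← map_mul, hbc, map_pow]
    rw [div_eq_iff hbF]
    have e : algebraMap B (FractionRing B) a * algebraMap B (FractionRing B) c *
        ((algebraMap B (FractionRing B) f)⁻¹) ^ n * algebraMap B (FractionRing B) b =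
        algebraMap B (FractionRing B) a * (algebraMap B (FractionRing B) b * algebraMap B (FractionRing B) c) *
        ((algebraMap B (FractionRing B) f)⁻¹) ^ n := by ring
    rw [e, h2, mul_assoc, ← mul_pow, mul_inv_cancel₀ hfF, one_pow, mul_one]
  rw [key]
  refine Subalgebra.mul_mem _ (Subalgebra.mul_mem _ (Subalgebra.algebraMap_mem _ _)
    (Subalgebra.algebraMap_mem _ _)) (Subalgebra.pow_mem _ (Algebra.subset_adjoin ?_) _)
  simp

private theorem lemAD (f : B) (hf : f ≠ 0) (hF : IsField (Localization.Away f)) :
    IsOpen ({⟨⊥, Ideal.bot_prime⟩} : Set (PrimeSpectrum B)) := by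
  have hinj : Function.Injective (algebraMap B (Localization.Away f)) :=
    IsLocalization.injective (Localization.Away f) (powers_le_nonZeroDivisors_of_noZeroDivisors hf)
  have : ({⟨⊥, Ideal.bot_prime⟩} : Set (PrimeSpectrum B)) = (PrimeSpectrum.basicOpen f : Set _) := by
    ext p
    simp only [Set.mem_singleton_iff, SetLike.mem_coe, PrimeSpectrum.mem_basicOpen]
    constructor
    · rintro rfl
      simpa using hf
    · intro hfp
      apply PrimeSpectrum.ext
      show p.asIdeal = ⊥
      have hdisj : Disjoint (Submonoid.powers f : Set B) (p.asIdeal : Set B) := by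
        rw [Set.disjoint_left]
        rintro x ⟨n, rfl⟩ hx
        exact hfp (p.2.mem_of_pow_mem n hx)
      have h1 : Ideal.comap (algebraMap B (Localization.Away f))
          (Ideal.map (algebraMap B (Localization.Away f)) p.asIdeal) = p.asIdeal :=
        IsLocalization.under_map_of_isPrime_disjoint (Submonoid.powers f)
          (Localization.Away f) p.2 hdisj
      letI := hF.toField
      rcases Ideal.eq_bot_or_top (Ideal.map (algebraMap B (Localization.Away f)) p.asIdeal) with h | h
      · rw [h] at h1
        rw [← h1]
        exact (RingHom.injective_iff_ker_eq_bot _).1 hinj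
      · rw [h, Ideal.comap_top] at h1
        exact absurd h1.symm p.2.ne_top
  rw [this]
  exact (PrimeSpectrum.basicOpen f).isOpen

private theorem lemDA (h : IsOpen ({⟨⊥, Ideal.bot_prime⟩} : Set (PrimeSpectrum B))) :
    ∃ f : B, f ≠ 0 ∧ IsField (Localization.Away f) := by
  obtain ⟨v, ⟨f, rfl⟩, hgv, hv⟩ := PrimeSpectrum.isTopologicalBasis_basic_opens.exists_subset_of_mem_open
    (Set.mem_singleton (⟨⊥, Ideal.bot_prime⟩ : PrimeSpectrum B)) h
  have hf : f ≠ 0 := by
    intro h0
    have : f ∉ (⊥ : Ideal B) := hgv
    exact this (by rw [h0]; exact Ideal.zero_mem _)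
  refine ⟨f, hf, ?_⟩
  haveI : IsDomain (Localization.Away f) :=
    IsLocalization.isDomain_localization (powers_le_nonZeroDivisors_of_noZeroDivisors hf)
  by_contra hnf
  obtain ⟨P, hP0, hP⟩ := Ring.not_isField_iff_exists_prime.1 hnf
  have hQ : (Ideal.comap (algebraMap B (Localization.Away f)) P).IsPrime := Ideal.comap_isPrime _ _
  have hfQ : f ∉ Ideal.comap (algebraMap B (Localization.Away f)) P := by
    intro hmem
    rw [Ideal.mem_comap] at hmem
    exact hP.ne_top (Ideal.eq_top_of_isUnit_mem _ hmem (IsLocalization.Away.algebraMap_isUnit f))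
  have hmem : (⟨_, hQ⟩ : PrimeSpectrum B) ∈ ({⟨⊥, Ideal.bot_prime⟩} : Set (PrimeSpectrum B)) := hv hfQ
  rw [Set.mem_singleton_iff] at hmem
  have hQ0 : Ideal.comap (algebraMap B (Localization.Away f)) P = ⊥ := congrArg PrimeSpectrum.asIdeal hmem
  apply hP0
  have hmc : Ideal.map (algebraMap B (Localization.Away f))
      (Ideal.comap (algebraMap B (Localization.Away f)) P) = P :=
    IsLocalization.map_under (Submonoid.powers f) (Localization.Away f) P
  rw [← hmc, hQ0, Ideal.map_bot]

end aux

/-- For an integral domain B the following are equivalent: a) the localization B_f is a field for some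
nonzero f; b) the fraction field of B is a finitely generated B-algebra; c) there is a field
containing B (an injective algebra map from B) which is a finitely generated B-algebra; d) the
generic point of Spec B is open. -/
theorem result (B : Type u) [CommRing B] [IsDomain B] :
    [∃ f : B, f ≠ 0 ∧ IsField (Localization.Away f),
      Algebra.FiniteType B (FractionRing B),
      ∃ (K : Type u) (_ : Field K) (_ : Algebra B K), Function.Injective (algebraMap B K) ∧ Algebra.FiniteType B K,
      IsOpen ({⟨⊥, Ideal.bot_prime⟩} : Set (PrimeSpectrum B))].TFAE := by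
  tfae_have 1 → 2 := by
    rintro ⟨f, hf, hF⟩
    exact lemA B f hf hF
  tfae_have 2 → 3 := by
    intro h
    exact ⟨FractionRing B, inferInstance, inferInstance, IsFractionRing.injective B (FractionRing B), h⟩
  tfae_have 3 → 1 := by
    rintro ⟨K, hK, hA, hinj, hft⟩
    exact lemC B K hinj
  tfae_have 1 → 4 := by
    rintro ⟨f, hf, hF⟩
    exact lemAD B f hf hF
  tfae_have 4 → 1 := lemDA B
  tfae_finish

end Groth.Agent.S4860
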