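import Groth.Statements.S4861
import Mathlib

set_option autoImplicit false
universe u
open EGA43

namespace Groth.Agent.S4861

variable (B : Type u) [CommRing B] [IsDomain B]

/-- if `B_f` is a field, every nonzero prime contains `f` -/
lemma mem_of_isField {f : B} (hfield : IsField (Localization.Away f))
    (p : Ideal B) [hp : p.IsPrime] (hne : p ≠ ⊥) : f ∈ p := by
  by_contra hf
  have hd : Disjoint (Submonoid.powers f : Set B) (p : Set B) := by
    rw [Set.disjoint_left]
    rintro x ⟨n, rfl⟩ hx
    exact hf (hp.mem_of_pow_mem n hx)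
  have hprime := IsLocalization.isPrime_of_isPrime_disjoint (Submonoid.powers f)
    (Localization.Away f) p hp hd
  let _ := hfield.toField
  have hbot : Ideal.map (algebraMap B (Localization.Away f)) p = ⊥ := by
    rcases Ideal.eq_bot_or_top (Ideal.map (algebraMap B (Localization.Away f)) p) with h | h
    · exact h
    · exact absurd h hprime.ne_top
  apply hne
  rw [eq_bot_iff]
  intro x hx
  have : algebraMap B (Localization.Away f) x ∈ Ideal.map (algebraMap B (Localization.Away f)) p :=
    Ideal.mem_map_of_mem _ hx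
  rw [hbot, Ideal.mem_bot] at this
  have hf0 : f ≠ 0 := by
    rintro rfl
    exact hf (Ideal.zero_mem p)
  have hinj : Function.Injective (algebraMap B (Localization.Away f)) :=
    IsLocalization.injective (Localization.Away f)
      (powers_le_nonZeroDivisors_of_noZeroDivisors hf0)
  exact (Ideal.mem_bot).mpr (hinj (by rw [this, map_zero]))


/-- key: if every nonzero prime contains `f ≠ 0` then every nonzero prime is minimal over `(f)` -/
lemma mem_minimalPrimes_of_forall_mem [IsNoetherianRing B] {f : B} (hf0 : f ≠ 0)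
    (hall : ∀ (p : Ideal B) [p.IsPrime], p ≠ ⊥ → f ∈ p)
    (p : Ideal B) [hp : p.IsPrime] (hne : p ≠ ⊥) : p ∈ (Ideal.span {f}).minimalPrimes := by
  classical
  have hfp : Ideal.span {f} ≤ p := by
    rw [Ideal.span_le, Set.singleton_subset_iff]; exact hall p hne
  obtain ⟨q, hq, hqp⟩ := Ideal.exists_minimalPrimes_le hfp
  by_contra hpm
  have hfin : ((Ideal.span {f}).minimalPrimes).Finite :=
    Ideal.finite_minimalPrimes_of_isNoetherianRing B _
  -- prime avoidance
  have hnot : ¬ ((p : Set B) ⊆ ⋃ i ∈ (↑hfin.toFinset : Set (Ideal B)), ((i : Ideal B) : Set B)) := by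
    intro hsub
    rw [Ideal.subset_union_prime (f := fun i : Ideal B => i) ⊥ ⊥ (fun i hi _ _ =>
      ((Set.Finite.mem_toFinset hfin).mp hi).isPrime)] at hsub
    obtain ⟨q', hq', hpq'⟩ := hsub
    have hq'm := (Set.Finite.mem_toFinset hfin).mp hq'
    have : p = q' := le_antisymm hpq' (hq'm.2 ⟨hp, hfp⟩ hpq')
    exact hpm (this ▸ hq'm)
  rw [Set.not_subset] at hnot
  obtain ⟨x, hxp, hxn⟩ := hnot
  have hx0 : x ≠ 0 := by
    rintro rfl
    apply hxn
    simp only [Set.mem_iUnion]
    exact ⟨q, by simpa using hq, Ideal.zero_mem q⟩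
  have hxp' : Ideal.span {x} ≤ p := by
    rw [Ideal.span_le, Set.singleton_subset_iff]; exact hxp
  obtain ⟨q₂, hq₂, hq₂p⟩ := Ideal.exists_minimalPrimes_le hxp'
  have hq₂prime := hq₂.isPrime
  have hxq₂ : x ∈ q₂ := hq₂.1.2 (Ideal.subset_span rfl)
  have hq₂ne : q₂ ≠ ⊥ := by
    rintro rfl
    exact hx0 ((Ideal.mem_bot).mp hxq₂)
  have hht : q₂.height ≤ 1 := Ideal.height_le_one_of_isPrincipal_of_mem_minimalPrimes _ q₂ hq₂
  have hfq₂ : Ideal.span {f} ≤ q₂ := by
    rw [Ideal.span_le, Set.singleton_subset_iff]; exact hall q₂ hq₂ne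
  obtain ⟨q₃, hq₃, hq₃q₂⟩ := Ideal.exists_minimalPrimes_le hfq₂
  have hq₃prime := hq₃.isPrime
  have hq₃ne : q₃ ≠ ⊥ := by
    rintro rfl
    have : f ∈ (⊥ : Ideal B) := hq₃.1.2 (Ideal.subset_span rfl)
    exact hf0 ((Ideal.mem_bot).mp this)
  have heq : q₃ = q₂ := by
    by_contra hne'
    have hlt : q₃ < q₂ := lt_of_le_of_ne hq₃q₂ hne'
    have h1 : q₃.height < q₂.height := Ideal.height_strict_mono_of_isPrime hlt
    have h0 : q₃.height ≠ 0 := by
      rw [Ne, Ideal.height_eq_zero_iff_eq_bot]; exact hq₃ne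
    have : (1 : ℕ∞) ≤ q₃.height := Order.one_le_iff_pos.mpr (pos_iff_ne_zero.mpr h0)
    exact absurd (lt_of_le_of_lt this h1) (not_lt.mpr hht)
  apply hxn
  simp only [Set.mem_iUnion]
  exact ⟨q₂, by simpa [← heq] using hq₃, hxq₂⟩



/-- For a Noetherian integral domain B the following are equivalent (and hence equivalent to: the
fraction field of B is a finitely generated B-algebra; the generic point of Spec B is open): a) the
localization B_f is a field for some nonzero f; e) Spec B is finite; f) B is semi-local (finitely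
many maximal ideals) of Krull dimension at most 1. -/
theorem result (B : Type u) [CommRing B] [IsDomain B]
    [IsNoetherianRing B] :
    [∃ f : B, f ≠ 0 ∧ IsField (Localization.Away f),
      Finite (PrimeSpectrum B),
      Finite (MaximalSpectrum B) ∧ ringKrullDim B ≤ 1].TFAE := by
  classical
  tfae_have 1 → 3 := by
    rintro ⟨f, hf0, hfield⟩
    have hall : ∀ (p : Ideal B) [p.IsPrime], p ≠ ⊥ → f ∈ p := fun p _ hne =>
      mem_of_isField B hfield p hne
    have hmin := fun (p : Ideal B) (hp : p.IsPrime) (hne : p ≠ ⊥) =>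
      @mem_minimalPrimes_of_forall_mem B _ _ _ f hf0 hall p hp hne
    have hfin : ((Ideal.span {f}).minimalPrimes).Finite :=
      Ideal.finite_minimalPrimes_of_isNoetherianRing B _
    constructor
    · have : Finite ↥((Ideal.span {f}).minimalPrimes ∪ {⊥}) :=
        (hfin.union (Set.finite_singleton _)).to_subtype
      have hmem : ∀ m : MaximalSpectrum B, m.asIdeal ∈ (Ideal.span {f}).minimalPrimes ∪ {⊥} := by
        intro m
        by_cases h : m.asIdeal = ⊥
        · right; exact h
        · left; exact hmin _ m.isMaximal.isPrime h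
      refine Finite.of_injective (fun m : MaximalSpectrum B =>
        (⟨m.asIdeal, hmem m⟩ : ↥((Ideal.span {f}).minimalPrimes ∪ {⊥}))) ?_
      intro m m' h
      ext1
      exact congrArg Subtype.val h
    · have : Ring.KrullDimLE 1 B := by
        refine Ring.KrullDimLE.mk₁' (fun I hI hIp => ?_)
        obtain ⟨m, hm, hIm⟩ := Ideal.exists_le_maximal I hIp.ne_top
        have hmne : m ≠ ⊥ := fun h => hI (le_bot_iff.mp (h ▸ hIm))
        have hm_min := hmin m hm.isPrime hmne
        have hI_min := hmin I hIp hI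
        have hle : m ≤ I := hm_min.2 ⟨hIp, hI_min.1.2⟩ hIm
        have : I = m := le_antisymm hIm hle
        rw [this]; exact hm
      exact Ring.krullDimLE_iff.mp this
  tfae_have 3 → 2 := by
    rintro ⟨hfin, hdim⟩
    have : Ring.KrullDimLE 1 B := Ring.krullDimLE_iff.mpr hdim
    refine Finite.of_injective (fun p : PrimeSpectrum B =>
      (if h : p.asIdeal = ⊥ then none
        else some ⟨p.asIdeal, Ideal.IsPrime.isMaximal_of_ne_bot p.isPrime h⟩ :
        Option (MaximalSpectrum B))) ?_
    intro p q hpq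
    by_cases hp : p.asIdeal = ⊥ <;> by_cases hq : q.asIdeal = ⊥
    · ext1; rw [hp, hq]
    · simp [hp, hq] at hpq
    · simp [hp, hq] at hpq
    · simp only [hp, hq, dite_false, Option.some.injEq] at hpq
      ext1; exact congrArg MaximalSpectrum.asIdeal hpq
  tfae_have 2 → 1 := by
    intro hfin
    have := Fintype.ofFinite (PrimeSpectrum B)
    have hex : ∀ p : PrimeSpectrum B, ∃ g : B, g ≠ 0 ∧ (p.asIdeal ≠ ⊥ → g ∈ p.asIdeal) := by
      intro p
      by_cases h : p.asIdeal = ⊥
      · exact ⟨1, one_ne_zero, fun h' => absurd h h'⟩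
      · obtain ⟨g, hg, hg0⟩ := Submodule.exists_mem_ne_zero_of_ne_bot h
        exact ⟨g, hg0, fun _ => hg⟩
    choose g hg0 hg using hex
    have hf0 : (∏ p, g p) ≠ 0 := Finset.prod_ne_zero_iff.mpr fun p _ => hg0 p
    refine ⟨∏ p, g p, hf0, ?_⟩
    have hdom : IsDomain (Localization.Away (∏ p, g p)) :=
      IsLocalization.isDomain_localization (powers_le_nonZeroDivisors_of_noZeroDivisors hf0)
    by_contra hnf
    obtain ⟨P, hPne, hPprime⟩ := Ring.not_isField_iff_exists_prime.mp hnf
    have hqprime : (P.comap (algebraMap B (Localization.Away (∏ p, g p)))).IsPrime :=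
      Ideal.IsPrime.comap _
    have hqne : P.comap (algebraMap B (Localization.Away (∏ p, g p))) ≠ ⊥ := by
      intro h
      apply hPne
      rw [← IsLocalization.map_under (Submonoid.powers (∏ p, g p)) _ P]
      change Ideal.map _ (Ideal.comap (algebraMap B (Localization.Away (∏ p, g p))) P) = ⊥
      rw [h, Ideal.map_bot]
    have hmem := hg ⟨_, hqprime⟩ hqne
    have hf : (∏ p, g p) ∈ P.comap (algebraMap B (Localization.Away (∏ p, g p))) :=
      Ideal.mem_of_dvd _ (Finset.dvd_prod_of_mem g (Finset.mem_univ _)) hmem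
    rw [Ideal.mem_comap] at hf
    apply hPprime.ne_top
    exact Ideal.eq_top_of_isUnit_mem _ hf
      (IsLocalization.map_units _ (⟨_, Submonoid.mem_powers _⟩ : Submonoid.powers (∏ p, g p)))
  tfae_finish

end Groth.Agent.S4861
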