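import Groth.Statements.S4862
import Mathlib.RingTheory.Localization.InvSubmonoid
import Mathlib.RingTheory.IntegralClosure.IsIntegralClosure.Basic
import Mathlib.Order.Zorn
import Mathlib.RingTheory.Ideal.Maximal

set_option autoImplicit false
universe u
open EGA43

namespace Groth.Agent.S4862


section aux

variable {A : Type u} [CommRing A]

/-- (b') ⇒ (b) -/
private lemma b'_to_b
    (h : ∀ (K : Type u) [Field K] [Algebra A K], Algebra.FiniteType A K → Module.Finite A K)
    (p : Ideal A) [p.IsPrime] (hp : ¬ p.IsMaximal) (f : A ⧸ p) (hf : f ≠ 0) :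
    ¬ IsField (Localization.Away f) := by
  intro hF
  letI : Field (Localization.Away f) := hF.toField
  have hft1 : Algebra.FiniteType (A ⧸ p) (Localization.Away f) :=
    IsLocalization.finiteType_of_monoid_fg (Submonoid.powers f) _
  have hft0 : Algebra.FiniteType A (A ⧸ p) :=
    Algebra.FiniteType.of_surjective (Ideal.Quotient.mkₐ A p) (Ideal.Quotient.mkₐ_surjective A p)
  have hft : Algebra.FiniteType A (Localization.Away f) := Algebra.FiniteType.trans hft0 hft1
  have hfin : Module.Finite A (Localization.Away f) := h _ hft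
  have hfin' : Module.Finite (A ⧸ p) (Localization.Away f) :=
    Module.Finite.of_restrictScalars_finite A (A ⧸ p) (Localization.Away f)
  have hint : Algebra.IsIntegral (A ⧸ p) (Localization.Away f) := Algebra.IsIntegral.of_finite _ _
  have hinj : Function.Injective (algebraMap (A ⧸ p) (Localization.Away f)) := by
    apply IsLocalization.injective (M := Submonoid.powers f)
    exact powers_le_nonZeroDivisors_of_noZeroDivisors hf
  have hfield : IsField (A ⧸ p) := isField_of_isIntegral_of_isField hinj hF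
  exact hp (Ideal.Quotient.maximal_of_isField p hfield)

/-- (b) ⇒ (a) -/
private lemma b_to_a
    (h : ∀ (p : Ideal A) [p.IsPrime], ¬ p.IsMaximal → ∀ f : A ⧸ p, f ≠ 0 →
      ¬ IsField (Localization.Away f)) : IsJacobsonRing A := by
  rw [isJacobsonRing_iff_prime_eq]
  intro P hP
  refine le_antisymm ?_ Ideal.le_jacobson
  intro f hfJ
  by_contra hfP
  -- Zorn
  let s : Set (Ideal A) := {J | P ≤ J ∧ ∀ n : ℕ, f ^ n ∉ J}
  have hPs : P ∈ s := ⟨le_rfl, fun n hn => hfP (hP.mem_of_pow_mem n hn)⟩
  obtain ⟨Q, hPQ, hQs, hQmax⟩ := zorn_le_nonempty₀ s (by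
    intro c hcs hc y hy
    refine ⟨sSup c, ⟨le_trans (hcs hy).1 (le_sSup hy), fun n hn => ?_⟩, fun z hz => le_sSup hz⟩
    obtain ⟨J, hJc, hJ⟩ := (Submodule.mem_sSup_of_directed ⟨y, hy⟩ hc.directedOn).1 hn
    exact (hcs hJc).2 n hJ) P hPs
  have hQdisj : Disjoint (Q : Set A) (Submonoid.powers f : Set A) := by
    rw [Set.disjoint_left]
    rintro x hxQ ⟨n, rfl⟩
    exact hQs.2 n hxQ
  have hQmax' : ∀ J : Ideal A, Q < J → ∃ n : ℕ, f ^ n ∈ J := by
    intro J hJ
    by_contra hcon
    push Not at hcon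
    have hJs : J ∈ s := ⟨le_trans hQs.1 hJ.le, hcon⟩
    exact hJ.not_ge (hQmax hJs hJ.le)
  haveI hQprime : Q.IsPrime := by
    refine Ideal.isPrime_of_maximally_disjoint Q (Submonoid.powers f) hQdisj ?_
    intro J hJ hdis
    obtain ⟨n, hn⟩ := hQmax' J hJ
    exact (Set.disjoint_left.1 hdis) hn ⟨n, rfl⟩
  have hQnm : ¬ Q.IsMaximal := by
    intro hm
    have : f ∈ Q := by
      rw [Ideal.jacobson, Ideal.mem_sInf] at hfJ
      exact hfJ ⟨hQs.1, hm⟩
    exact hQs.2 1 (by rwa [pow_one])
  set g : A ⧸ Q := Ideal.Quotient.mk Q f with hg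
  have hg0 : g ≠ 0 := by
    rw [hg, Ne, Ideal.Quotient.eq_zero_iff_mem]
    intro hf'
    exact hQs.2 1 (by rwa [pow_one])
  refine h Q hQnm g hg0 ?_
  have hinj : Function.Injective (algebraMap (A ⧸ Q) (Localization.Away g)) := by
    apply IsLocalization.injective (M := Submonoid.powers g)
    exact powers_le_nonZeroDivisors_of_noZeroDivisors hg0
  haveI : Nontrivial (Localization.Away g) := hinj.nontrivial
  refine ⟨⟨0, 1, zero_ne_one⟩, mul_comm, ?_⟩
  intro a ha
  obtain ⟨⟨x, t⟩, hxt⟩ := IsLocalization.surj (Submonoid.powers g) a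
  -- a * algebraMap t = algebraMap x
  have hx0 : x ≠ 0 := by
    rintro rfl
    rw [map_zero] at hxt
    have htu : IsUnit (algebraMap (A ⧸ Q) (Localization.Away g) (t : A ⧸ Q)) :=
      IsLocalization.map_units _ t
    exact ha ((htu.mul_left_eq_zero).1 hxt)
  obtain ⟨x', rfl⟩ := Ideal.Quotient.mk_surjective x
  have hx'Q : x' ∉ Q := fun hx' => hx0 (Ideal.Quotient.eq_zero_iff_mem.2 hx')
  have hlt : Q < Q ⊔ Ideal.span {x'} := by
    refine lt_of_le_of_ne le_sup_left (fun heq => hx'Q ?_)
    rw [heq]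
    exact Ideal.mem_sup_right (Ideal.subset_span rfl)
  obtain ⟨n, hn⟩ := hQmax' _ hlt
  obtain ⟨q, hq, y, hy, hqy⟩ := Submodule.mem_sup.1 hn
  obtain ⟨c, rfl⟩ := Ideal.mem_span_singleton'.1 hy
  have hgn : g ^ n = Ideal.Quotient.mk Q c * Ideal.Quotient.mk Q x' := by
    rw [hg, ← map_pow, ← hqy, map_add, map_mul, Ideal.Quotient.eq_zero_iff_mem.2 hq, zero_add]
  have hux : IsUnit (algebraMap (A ⧸ Q) (Localization.Away g) (Ideal.Quotient.mk Q x')) := by
    have hu : IsUnit (algebraMap (A ⧸ Q) (Localization.Away g) (g ^ n)) :=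
      IsLocalization.map_units _ (⟨g ^ n, n, rfl⟩ : Submonoid.powers g)
    rw [hgn, map_mul] at hu
    exact isUnit_of_mul_isUnit_right hu
  have hua : IsUnit a := by
    have : IsUnit (a * algebraMap (A ⧸ Q) (Localization.Away g) (t : A ⧸ Q)) := by rw [hxt]; exact hux
    exact isUnit_of_mul_isUnit_left this
  obtain ⟨u, rfl⟩ := hua
  exact ⟨↑u⁻¹, Units.mul_inv u⟩

end aux

/-- For a commutative ring A the following are equivalent: a) A is a Jacobson ring; b) for every prime
ideal p of A which is not maximal and every nonzero f of B = A/p, the localization B_f is not a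
field; b′) every finitely generated A-algebra which is a field is a finite A-module. -/
theorem result (A : Type u) [CommRing A] :
    [IsJacobsonRing A,
      ∀ (p : Ideal A) [p.IsPrime], ¬ p.IsMaximal → ∀ f : A ⧸ p, f ≠ 0 → ¬ IsField (Localization.Away f),
      ∀ (K : Type u) [Field K] [Algebra A K], Algebra.FiniteType A K → Module.Finite A K].TFAE := by
  tfae_have 1 → 3 := by
    intro hJ K _ _ hft
    exact finite_of_finite_type_of_isJacobsonRing A K
  tfae_have 3 → 2 := by
    intro h p _ hp f hf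
    exact b'_to_b h p hp f hf
  tfae_have 2 → 1 := by
    intro h
    exact b_to_a h
  tfae_finish

end Groth.Agent.S4862
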