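import Groth.Statements.S4866
import Groth.Agent.Lib.Helper7.FibreRegScheme

set_option autoImplicit false
universe u
open EGA43

namespace Groth.Agent.S4866

open AlgebraicGeometry CategoryTheory Limits in
/-- Let Y be a locally Noetherian scheme, f : X ⟶ Y locally of finite type, F a coherent f-flat
O_X-module and g₁, …, gₙ sections of O_X over X. Then the set of points x of X, with y = f x, such
that the germs (gᵢ)_x form a weakly regular sequence on the fibre module F_x / m_y F_x (each gᵢ is a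
non-zero-divisor on the quotient by the preceding ones; the quotient by all of them may be zero) is
open in X. -/
theorem result {X Y : Scheme.{u}} [IsLocallyNoetherian Y] (f : X ⟶ Y)
    [LocallyOfFiniteType f] (F : X.Modules) (hF : Coh.IsCoh F) (hflat : FlatMod.IsFlatOver f F)
    (n : ℕ) (g : Fin n → Γ(X, ⊤)) :
    IsOpen {x : X |
      RingTheory.Sequence.IsWeaklyRegular
        (↑(F.presheaf.stalk x) ⧸ (Ideal.map (f.stalkMap x).hom (IsLocalRing.maximalIdeal ↑(Y.presheaf.stalk (f x))) •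
          (⊤ : Submodule ↑(X.presheaf.stalk x) ↑(F.presheaf.stalk x))))
        (List.ofFn fun i => (X.presheaf.germ ⊤ x trivial) (g i))} := by
  classical
  haveI : F.IsQuasicoherent := hF.1
  haveI : SheafOfModules.IsFiniteType.{u} (R := X.ringCatSheaf) F := hF.2
  rw [isOpen_iff_forall_mem_open]
  intro x₀ hx₀
  obtain ⟨V, hV', hyV, -⟩ := (TopologicalSpace.Opens.isBasis_iff_nbhd.1 Y.isBasis_affineOpens)
    (show f x₀ ∈ (⊤ : Y.Opens) from trivial)
  have hV : IsAffineOpen V := hV'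
  obtain ⟨U, hU', hxU, hUV⟩ := (TopologicalSpace.Opens.isBasis_iff_nbhd.1 X.isBasis_affineOpens)
    (show x₀ ∈ f ⁻¹ᵁ V from hyV)
  have hU : IsAffineOpen U := hU'
  have e : U ≤ f ⁻¹ᵁ V := hUV
  have hloc := Groth.Agent.Lib.Helper28.QCohLoc.isLocOn_of_isQuasicoherent F hU
  letI := Groth.Agent.Lib.Helper7.FibreRegScheme.algAB f e
  letI := Groth.Agent.Lib.Helper7.FibreRegScheme.modAM f F e
  haveI := Groth.Agent.Lib.Helper7.FibreRegScheme.towerABM f F e
  haveI : IsNoetherianRing Γ(Y, V) := IsLocallyNoetherian.component_noetherian ⟨V, hV⟩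
  haveI : Algebra.FiniteType Γ(Y, V) Γ(X, U) :=
    HasRingHomProperty.appLE (P := @LocallyOfFiniteType) f inferInstance ⟨V, hV⟩ ⟨U, hU⟩ e
  haveI : Module.Finite Γ(X, U) Γ(F, U) :=
    Groth.Agent.Lib.Helper28.FinType.finite_of_isAffineOpen F hU
  let gs : List Γ(X, U) :=
    List.ofFn fun i => X.presheaf.map (homOfLE (le_top : U ≤ ⊤)).op (g i)
  have hlist : ∀ (x : X) (hx : x ∈ U),
      (List.ofFn fun i => (X.presheaf.germ ⊤ x trivial) (g i)) =
        gs.map (X.presheaf.germ U x hx).hom := by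
    intro x hx
    rw [List.map_ofFn]
    congr 1
    funext i
    exact (X.presheaf.germ_res_apply (homOfLE le_top) x hx (g i)).symm
  have h0 := (Groth.Agent.Lib.Helper7.FibreRegScheme.fib_iff f F hU hV e hloc x₀ hxU gs).1
    (by rw [← hlist x₀ hxU]; exact hx₀)
  have hfl0 := Groth.Agent.Lib.Helper7.FibreRegScheme.flat_of_isFlatOverAt f F hU hV e hloc x₀ hxU
    (hflat x₀)
  obtain ⟨h, hh, H⟩ := Groth.Agent.Lib.Helper7.FibreRegSpread.spread gs Γ(F, U)
    (hU.primeIdealOf ⟨x₀, hxU⟩).asIdeal hfl0 h0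
  refine ⟨X.basicOpen h, ?_, (X.basicOpen h).isOpen, ?_⟩
  · intro x hxW
    have hxU' : x ∈ U := X.basicOpen_le h hxW
    let q : PrimeSpectrum Γ(X, U) := hU.primeIdealOf ⟨x, hxU'⟩
    have hq : hU.fromSpec q = x := hU.fromSpec_primeIdealOf ⟨x, hxU'⟩
    have h1 : h ∉ q.asIdeal := by
      rw [← Groth.Agent.Lib.Helper29.QCohStalk.fromSpec_mem_basicOpen_iff hU q h, hq]
      exact hxW
    obtain ⟨-, hreg⟩ := H q.asIdeal h1
    show RingTheory.Sequence.IsWeaklyRegular _ _
    rw [hlist x hxU']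
    exact (Groth.Agent.Lib.Helper7.FibreRegScheme.fib_iff f F hU hV e hloc x hxU' gs).2 hreg
  · let q : PrimeSpectrum Γ(X, U) := hU.primeIdealOf ⟨x₀, hxU⟩
    have hq : hU.fromSpec q = x₀ := hU.fromSpec_primeIdealOf ⟨x₀, hxU⟩
    show x₀ ∈ X.basicOpen h
    rw [← hq, Groth.Agent.Lib.Helper29.QCohStalk.fromSpec_mem_basicOpen_iff]
    exact hh

end Groth.Agent.S4866
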