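import Groth.Statements.S4870
import Groth.Agent.Lib.Helper7.GrSymLocal2

set_option autoImplicit false
universe u
open EGA43

namespace Groth.Agent.S4870

/-- Let A be a commutative ring, B a finitely presented A-algebra, J a finitely generated ideal of B and
M a finitely presented B-module. If the associated graded module gr_J(M) is flat over A, that is
every J^k M / J^{k+1} M is a flat A-module, then M is flat over A at every point of V(J): for every
prime ideal q of B containing J, the localization M_q is a flat A-module. -/
theorem result {A B : Type u} [CommRing A] [CommRing B] [Algebra A B]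
    [Algebra.FinitePresentation A B] (J : Ideal B) (hJ : J.FG)
    (M : Type u) [AddCommGroup M] [Module B M] [Module A M] [IsScalarTower A B M] [Module.FinitePresentation B M]
    (hgr : ∀ k : ℕ, Module.Flat A
      (↥(J ^ k • (⊤ : Submodule B M)) ⧸ Submodule.comap (J ^ k • (⊤ : Submodule B M)).subtype (J ^ (k + 1) • ⊤)))
    (q : Ideal B) [q.IsPrime] (hq : J ≤ q) :
    Module.Flat A (LocalizedModule q.primeCompl M) := by
  have h := Groth.Agent.Lib.Helper7.GrSym.flat_quot_of_gr_flat (A := A) (C := B) (M := M) J hgr
  obtain ⟨n, f₀, hf, hkerf⟩ := Algebra.FinitePresentation.out (R := A) (A := B)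
  letI : Algebra (MvPolynomial (Fin n) A) B := f₀.toRingHom.toAlgebra
  letI : Module (MvPolynomial (Fin n) A) M := Module.compHom M f₀.toRingHom
  haveI : IsScalarTower (MvPolynomial (Fin n) A) B M :=
    IsScalarTower.of_algebraMap_smul fun _ _ => rfl
  haveI : IsScalarTower A (MvPolynomial (Fin n) A) B :=
    IsScalarTower.of_algebraMap_eq fun r => (f₀.commutes r).symm
  haveI : IsScalarTower A (MvPolynomial (Fin n) A) M := ⟨fun r p m => by
    show f₀ (r • p) • m = r • (f₀ p • m)
    rw [map_smul, smul_assoc]⟩
  haveI : Module.FinitePresentation (MvPolynomial (Fin n) A) B := by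
    refine Module.finitePresentation_of_surjective
      (Algebra.linearMap (MvPolynomial (Fin n) A) B) hf ?_
    have : LinearMap.ker (Algebra.linearMap (MvPolynomial (Fin n) A) B) =
        RingHom.ker f₀.toRingHom := by
      ext x; rfl
    rw [this]; exact hkerf
  haveI : Module.FinitePresentation (MvPolynomial (Fin n) A) M :=
    Module.FinitePresentation.trans (MvPolynomial (Fin n) A) M B
  have hsurj : Function.Surjective (algebraMap (MvPolynomial (Fin n) A) B) := hf
  rw [Groth.Agent.Lib.Helper21.FlatDesc.flat_localized_comap_iff (R := A)
    (P := MvPolynomial (Fin n) A) (S := B) (M := M) hsurj q]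
  exact Groth.Agent.Lib.Helper7.GrSym.flat_localized_of_quot_flat_pol n f₀ hf J hJ M
    (fun _ _ => rfl) h (q.comap (algebraMap (MvPolynomial (Fin n) A) B))
    (Ideal.comap_mono hq)

end Groth.Agent.S4870
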