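import Groth.Statements.S4873
-- import your own Groth.Agent.* helpers here

set_option autoImplicit false
universe u
open CategoryTheory AlgebraicGeometry
open EGA43

namespace Groth.Agent.S4873

/-- Let (f_i : Z_i ⟶ X) be a family of morphisms. If the family is schematically dominant, i.e. a
section of O_X over an open V whose pullback to every f_i⁻¹(V) vanishes is zero, then the union of
the images f_i(Z_i) is dense in X. Conversely, if X is reduced and this union is dense, the family
is schematically dominant. -/
theorem result {X : Scheme.{u}} {ι : Type u} (Z : ι → Scheme.{u})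
    (f : ∀ i, Z i ⟶ X) :
    ((∀ (V : (X).Opens) (t : Γ(X, V)), (∀ i, (f i).app V t = 0) → t = 0) → Dense (⋃ i, Set.range (f i))) ∧
    (IsReduced X → Dense (⋃ i, Set.range (f i)) → (∀ (V : (X).Opens) (t : Γ(X, V)), (∀ i, (f i).app V t = 0) → t = 0)) := by
  constructor
  · intro h
    rw [dense_iff_inter_open]
    intro U hU hUne
    by_contra hcon
    rw [Set.not_nonempty_iff_eq_empty] at hcon
    let V : X.Opens := ⟨U, hU⟩
    have hpre : ∀ i, (f i) ⁻¹ᵁ V = ⊥ := by
      intro i
      ext z
      simp only [TopologicalSpace.Opens.coe_bot, Set.mem_empty_iff_false, iff_false]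
      intro hz
      have : (f i) z ∈ U ∩ ⋃ i, Set.range (f i) := ⟨hz, Set.mem_iUnion.2 ⟨i, z, rfl⟩⟩
      rw [hcon] at this
      exact this
    have h1 : (1 : Γ(X, V)) = 0 := by
      apply h V 1
      intro i
      have : Subsingleton Γ(Z i, (f i) ⁻¹ᵁ V) := by
        rw [hpre i]; infer_instance
      exact Subsingleton.elim _ _
    have h2 : V = ⊥ := by
      rw [← X.basicOpen_of_isUnit (isUnit_one : IsUnit (1 : Γ(X, V))), h1, Scheme.basicOpen_zero]
    obtain ⟨x, hx⟩ := hUne
    have : x ∈ V := hx
    rw [h2] at this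
    exact this
  · intro hred hdense V t ht
    rw [← basicOpen_eq_bot_iff]
    by_contra hne
    have hne' : (X.basicOpen t : Set X).Nonempty := by
      rw [Set.nonempty_iff_ne_empty]
      intro h
      exact hne (TopologicalSpace.Opens.ext h)
    obtain ⟨x, hxt, hx⟩ := (dense_iff_inter_open.1 hdense) _ (X.basicOpen t).isOpen hne'
    obtain ⟨i, z, rfl⟩ := Set.mem_iUnion.1 hx
    have hz : z ∈ (f i) ⁻¹ᵁ X.basicOpen t := hxt
    rw [Scheme.preimage_basicOpen, ht i, Scheme.basicOpen_zero] at hz
    exact hz

end Groth.Agent.S4873
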