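import Groth.Statements.S4874
-- import your own Groth.Agent.* helpers here

set_option autoImplicit false
universe u
open CategoryTheory AlgebraicGeometry
open EGA43

namespace Groth.Agent.S4874

lemma appLE_congr_hom {P X : Scheme.{u}} (a b : P ⟶ X) (hab : a = b) (V : X.Opens) (W : P.Opens)
    (h1 : W ≤ a ⁻¹ᵁ V) (h2 : W ≤ b ⁻¹ᵁ V) : a.appLE V W h1 = b.appLE V W h2 := by
  subst hab; rfl

/-- Let (f_i : Z_i ⟶ X) be a family of morphisms, g : X' ⟶ X a faithfully flat morphism and f'_i : Z_i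
×_X X' ⟶ X' the base changes. If the family (f'_i) is schematically dominant, then so is the family
(f_i). (Schematically dominant: a section of the structure sheaf over an open whose pullback along
every member of the family vanishes is zero.) -/
theorem result {X X' : Scheme.{u}} {ι : Type u} (Z : ι → Scheme.{u})
    (f : ∀ i, Z i ⟶ X) (g : X' ⟶ X) [Flat g] [Surjective g]
    (h : (∀ (V : (X').Opens) (t : Γ(X', V)), (∀ i, (Limits.pullback.snd (f i) g).app V t = 0) → t = 0)) :
    (∀ (V : (X).Opens) (t : Γ(X, V)), (∀ i, (f i).app V t = 0) → t = 0) := by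
  intro V t ht
  -- Step A : the pullback of `t` to `X'` vanishes
  have hA : g.app V t = 0 := by
    apply h (g ⁻¹ᵁ V) (g.app V t)
    intro i
    have hcond : Limits.pullback.fst (f i) g ≫ f i = Limits.pullback.snd (f i) g ≫ g :=
      Limits.pullback.condition
    have hW : (Limits.pullback.snd (f i) g) ⁻¹ᵁ (g ⁻¹ᵁ V) ≤
        (Limits.pullback.fst (f i) g) ⁻¹ᵁ ((f i) ⁻¹ᵁ V) := by
      rw [← Scheme.Hom.comp_preimage, ← Scheme.Hom.comp_preimage, hcond]
    have e1 : (Limits.pullback.snd (f i) g ≫ g).appLE V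
        ((Limits.pullback.snd (f i) g) ⁻¹ᵁ (g ⁻¹ᵁ V)) le_rfl =
        g.app V ≫ (Limits.pullback.snd (f i) g).app (g ⁻¹ᵁ V) := by
      rw [Scheme.Hom.comp_appLE, ← Scheme.Hom.app_eq_appLE]
    have e2 : (Limits.pullback.fst (f i) g ≫ f i).appLE V
        ((Limits.pullback.snd (f i) g) ⁻¹ᵁ (g ⁻¹ᵁ V)) hW =
        (f i).app V ≫ (Limits.pullback.fst (f i) g).appLE ((f i) ⁻¹ᵁ V)
          ((Limits.pullback.snd (f i) g) ⁻¹ᵁ (g ⁻¹ᵁ V)) hW :=
      Scheme.Hom.comp_appLE ..
    have e3 := appLE_congr_hom _ _ hcond.symm V ((Limits.pullback.snd (f i) g) ⁻¹ᵁ (g ⁻¹ᵁ V))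
      le_rfl hW
    calc (Limits.pullback.snd (f i) g).app (g ⁻¹ᵁ V) (g.app V t)
        = (g.app V ≫ (Limits.pullback.snd (f i) g).app (g ⁻¹ᵁ V)) t := rfl
      _ = ((f i).app V ≫ (Limits.pullback.fst (f i) g).appLE ((f i) ⁻¹ᵁ V)
          ((Limits.pullback.snd (f i) g) ⁻¹ᵁ (g ⁻¹ᵁ V)) hW) t := by rw [← e1, e3, e2]
      _ = (Limits.pullback.fst (f i) g).appLE ((f i) ⁻¹ᵁ V)
          ((Limits.pullback.snd (f i) g) ⁻¹ᵁ (g ⁻¹ᵁ V)) hW ((f i).app V t) := rfl
      _ = 0 := by rw [ht i, map_zero]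
  -- Step B : injectivity on sections for a faithfully flat map, through stalks
  apply TopCat.Presheaf.section_ext X.sheaf V
  intro x hx
  obtain ⟨x', rfl⟩ := ‹Surjective g›.surj x
  have hinj : Function.Injective (g.stalkMap x').hom := by
    algebraize [(g.stalkMap x').hom]
    have : Module.FaithfullyFlat (X.presheaf.stalk (g x')) (X'.presheaf.stalk x') :=
      @Module.FaithfullyFlat.of_flat_of_isLocalHom _ _ _ _ _ _ _
        (Flat.stalkMap g x') (g.toLRSHom.prop x')
    exact ‹RingHom.FaithfullyFlat _›.injective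
  change X.presheaf.germ V (g x') hx t = X.presheaf.germ V (g x') hx 0
  apply hinj
  have h5 := Scheme.Hom.germ_stalkMap_apply g V x' hx t
  rw [hA, map_zero] at h5
  rw [map_zero, map_zero]
  exact h5

end Groth.Agent.S4874
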