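import Groth.Statements.S4881
import Groth.Agent.Lib.Helper7.ComponentOpen

set_option autoImplicit false
universe u
open CategoryTheory AlgebraicGeometry
open EGA43

namespace Groth.Agent.S4881

/-- Let X be a locally Noetherian scheme which is Jacobson, whose local rings are universally catenary,
and whose irreducible components X' are equidimensional in the sense that for every closed point x
of X' the dimension of X' equals the dimension of the set of generizations of x in X'. Then for
every dense open subset U of X, dim U = dim X. -/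
theorem result (X : Scheme.{u}) [IsLocallyNoetherian X] [JacobsonSpace X]
    (h2 : ∀ x : X, CAlg.IsUniversallyCatenary (X.presheaf.stalk x))
    (h3 : ∀ X' ∈ irreducibleComponents (X : Type u), ∀ x ∈ X', IsClosed ({x} : Set X) →
      topologicalKrullDim (↥X' : Type u) = topologicalKrullDim ↥{t : X | t ∈ X' ∧ t ⤳ x})
    (U : Set X) (hU : IsOpen U) (hd : Dense U) :
    topologicalKrullDim ↥U = topologicalKrullDim X := by
  classical
  apply le_antisymm (topologicalKrullDim_subspace_le X U)
  apply Groth.Agent.Lib.Helper7.TopDimComp.topologicalKrullDim_le_of_forall_component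
  intro X' hX'
  obtain ⟨V, hVo, hVne, hVsub⟩ :=
    Groth.Agent.Lib.Helper7.TopDimComp.exists_isOpen_subset_component X X' hX'
  obtain ⟨z, hzV, hzU⟩ := hd.inter_open_nonempty V hVo hVne
  obtain ⟨x, ⟨hxX', hxU⟩, hxc⟩ :=
    Groth.Agent.Lib.Helper7.TopDimComp.exists_isClosed_singleton_mem_of_isOpen_inter
      (isClosed_of_mem_irreducibleComponents X' hX') hU ⟨z, hVsub hzV, hzU⟩
  rw [h3 X' hX' x hxX' hxc]
  -- the generizations of x in X' all lie in U
  have hsub : {t : X | t ∈ X' ∧ t ⤳ x} ⊆ U := fun t ht => ht.2.mem_open hU hxU
  let ι : ↥{t : X | t ∈ X' ∧ t ⤳ x} → ↥U := fun t => ⟨t.1, hsub t.2⟩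
  have hι : Topology.IsInducing ι := by
    have h1 : Topology.IsInducing ((Subtype.val : ↥U → X) ∘ ι) := Topology.IsInducing.subtypeVal
    exact Topology.IsInducing.of_comp (Continuous.subtype_mk continuous_subtype_val _)
      continuous_subtype_val h1
  exact hι.topologicalKrullDim_le

end Groth.Agent.S4881
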