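import Groth.Statements.S4882
-- import your own Groth.Agent.* helpers here

set_option autoImplicit false
universe u
open EGA43

namespace Groth.Agent.S4882

/-- Let X be a Jacobson space and Z a locally quasi-constructible subset of X, i.e. every point of X has
an open neighbourhood U such that U ∩ Z is a finite union of locally closed subsets of X. Then the
subspace Z is a Jacobson space, and a point of Z is closed in Z if and only if it is closed in X. -/
theorem result {X : Type u} [TopologicalSpace X] [JacobsonSpace X]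
    (Z : Set X)
    (hZ : ∀ x : X, ∃ U : Set X, IsOpen U ∧ x ∈ U ∧
      ∃ T : Set (Set X), T.Finite ∧ (∀ t ∈ T, IsLocallyClosed t) ∧ U ∩ Z = ⋃₀ T) :
    JacobsonSpace ↥Z ∧ ∀ z : ↥Z, IsClosed ({z} : Set ↥Z) ↔ IsClosed ({(z : X)} : Set X) := by
  -- closed points of `Z` are closed in `X`
  have hcl : ∀ z : ↥Z, IsClosed ({z} : Set ↥Z) ↔ IsClosed ({(z : X)} : Set X) := by
    intro z
    constructor
    · intro hz
      apply isClosed_singleton_of_isLocallyClosed_singleton
      obtain ⟨U, hU, hzU, T, hTfin, hT, hUZ⟩ := hZ z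
      have hzmem : (z : X) ∈ ⋃₀ T := by rw [← hUZ]; exact ⟨hzU, z.2⟩
      obtain ⟨t, htT, hzt⟩ := hzmem
      obtain ⟨F, hF, hFz⟩ := isClosed_induced_iff.1 hz
      have htZ : t ⊆ Z := fun y hy => ((hUZ ▸ (Set.subset_sUnion_of_mem htT hy) : y ∈ U ∩ Z)).2
      have : ({(z : X)} : Set X) = t ∩ F := by
        ext y
        constructor
        · rintro rfl
          refine ⟨hzt, ?_⟩
          have : z ∈ Subtype.val ⁻¹' F := by rw [hFz]; rfl
          exact this
        · rintro ⟨hyt, hyF⟩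
          have hyZ : y ∈ Z := htZ hyt
          have : (⟨y, hyZ⟩ : ↥Z) ∈ Subtype.val ⁻¹' F := hyF
          rw [hFz] at this
          exact congrArg Subtype.val this
      rw [this]
      exact (hT t htT).inter hF.isLocallyClosed
    · intro hz
      have : ({z} : Set ↥Z) = Subtype.val ⁻¹' ({(z : X)} : Set X) := by
        ext y; simp [Subtype.ext_iff]
      rw [this]
      exact hz.preimage continuous_subtype_val
  refine ⟨?_, hcl⟩
  rw [jacobsonSpace_iff_locallyClosed]
  rintro W ⟨w, hw⟩ hW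
  obtain ⟨W', hW', rfl⟩ := (Topology.IsInducing.subtypeVal).isLocallyClosed_iff.1 hW
  obtain ⟨U, hU, hwU, T, hTfin, hT, hUZ⟩ := hZ w
  have hwmem : (w : X) ∈ ⋃₀ T := by rw [← hUZ]; exact ⟨hwU, w.2⟩
  obtain ⟨t, htT, hwt⟩ := hwmem
  have htZ : t ⊆ Z := fun y hy => ((hUZ ▸ (Set.subset_sUnion_of_mem htT hy) : y ∈ U ∩ Z)).2
  obtain ⟨y, ⟨hyW', hyt⟩, hy⟩ := nonempty_inter_closedPoints (Z := W' ∩ t) ⟨w, hw, hwt⟩
    (hW'.inter (hT t htT))
  refine ⟨⟨y, htZ hyt⟩, hyW', ?_⟩
  exact (hcl ⟨y, htZ hyt⟩).2 hy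

end Groth.Agent.S4882
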