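import Groth.Statements.S4898
import Groth.Agent.Lib.Helper25.FlatIdealGen
import Groth.Agent.Lib.Helper25.FlatPullChart
import Groth.Agent.Lib.Helper29.FPDict

set_option autoImplicit false
universe u
open CategoryTheory AlgebraicGeometry
open EGA43

namespace Groth.Agent.S4898

open CategoryTheory.Limits in
/-- Over an affine irreducible base, tested on affine base changes, to which the general statement
reduces: let A be a commutative ring whose spectrum is irreducible, f : X ⟶ Spec A a morphism of
finite presentation and F a quasi-coherent O_X-module of finite presentation. Then there are an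
element h of A which is not nilpotent (so that U = Spec A_h is a nonempty open subset of Spec A) and
a finitely generated ideal J of A_h contained in the nilradical (so that the closed subscheme Z =
V(J) of U, of finite presentation over U, has the same underlying space as U) such that for every
A_h-algebra A' the pullback of F to X ×_{Spec A} Spec A' is flat over Spec A' if and only if J
generates the zero ideal of A', i.e. if and only if Spec A' ⟶ U factors through Z. (The published
statement also asserts that, for a finite affine open cover (W_i) of X, U can be chosen so that the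
sections of the pullback of F over each W_i ×_{Spec A} Spec A' form a free A'-module whenever Spec
A' ⟶ U factors through Z; this row omits that assertion.) -/
theorem result {A : Type u} [CommRing A] [IrreducibleSpace (PrimeSpectrum A)]
    {X : Scheme.{u}} (f : X ⟶ Spec (CommRingCat.of A))
    [LocallyOfFinitePresentation f] [QuasiCompact f] [QuasiSeparated f]
    (F : X.Modules) [Coh.IsQCoh F] (hF : CohB1.IsFP F) :
    ∃ (h : A) (_ : ¬ IsNilpotent h) (J : Ideal (Localization.Away h)) (_ : J.FG)
      (_ : J ≤ nilradical (Localization.Away h)),
      ∀ (A' : Type u) [CommRing A'] [Algebra (Localization.Away h) A'],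
        letI g : Spec (CommRingCat.of A') ⟶ Spec (CommRingCat.of A) :=
          Spec.map (CommRingCat.ofHom ((algebraMap (Localization.Away h) A').comp (algebraMap A (Localization.Away h))))
        (FlatMod.IsFlatOver (pullback.snd f g) ((Scheme.Modules.pullback (pullback.fst f g)).obj F) ↔
          Ideal.map (algebraMap (Localization.Away h) A') J = ⊥) := by
  classical
  have hA : (nilradical A).IsPrime :=
    PrimeSpectrum.irreducibleSpace_iff_isPrime_nilradical.1 inferInstance
  haveI : F.IsQuasicoherent := ‹Coh.IsQCoh F›
  haveI : SheafOfModules.IsFinitePresentation.{u} (R := X.ringCatSheaf) F := hF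
  haveI : CompactSpace X := QuasiCompact.compactSpace_of_compactSpace f
  -- a finite affine cover
  obtain ⟨t, ht⟩ := isCompact_univ.elim_finite_subcover
    (fun U : X.affineOpens => ((U.1 : X.Opens) : Set X)) (fun U => U.1.2) (by
      intro x _
      have hx : x ∈ (⨆ U : X.affineOpens, (U : X.Opens)) := by
        rw [iSup_affineOpens_eq_top]; trivial
      obtain ⟨U, hU⟩ := TopologicalSpace.Opens.mem_iSup.1 hx
      exact Set.mem_iUnion.2 ⟨U, hU⟩)
  -- the family of charts
  letI algB : ∀ i : ↥t, Algebra A Γ(X, i.1.1) := fun i =>
    Groth.Agent.Lib.Helper25.FlatPullChart.algSec f i.1.1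
  letI modM : ∀ i : ↥t, Module A Γ(F, i.1.1) := fun i =>
    Groth.Agent.Lib.Helper25.FlatPullChart.modSec f F i.1.1
  haveI : ∀ i : ↥t, IsScalarTower A Γ(X, i.1.1) Γ(F, i.1.1) := fun i =>
    IsScalarTower.of_algebraMap_smul fun _ _ => rfl
  haveI : ∀ i : ↥t, Algebra.FinitePresentation A Γ(X, i.1.1) := fun i => by
    have h1 : (f.appLE ⊤ i.1.1 le_top).hom.FinitePresentation :=
      LocallyOfFinitePresentation.finitePresentation_appLE f (isAffineOpen_top _) i.1.2 le_top
    have h2 : (Scheme.ΓSpecIso (CommRingCat.of A)).inv.hom.FinitePresentation :=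
      RingHom.FinitePresentation.of_bijective
        (ConcreteCategory.bijective_of_isIso (Scheme.ΓSpecIso (CommRingCat.of A)).inv)
    exact h1.comp h2
  haveI : ∀ i : ↥t, Module.FinitePresentation Γ(X, i.1.1) Γ(F, i.1.1) := fun i =>
    Groth.Agent.Lib.Helper29.FPDict.fp_of_isAffineOpen F i.1.2
  obtain ⟨h, J, hh, hJfg, hJnil, hprop⟩ :=
    Groth.Agent.Lib.Helper25.FlatIdealGen.exists_flattening_ideal_family hA
      (fun i : ↥t => Γ(X, i.1.1)) (fun i : ↥t => Γ(F, i.1.1))
  refine ⟨h, hh, J.map (algebraMap A (Localization.Away h)), hJfg.map _, ?_, ?_⟩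
  · rw [Ideal.map_le_iff_le_comap]
    intro x hx
    rw [Ideal.mem_comap, mem_nilradical]
    exact (mem_nilradical.1 (hJnil hx)).map _
  · intro A' _ _
    letI : Algebra A A' :=
      ((algebraMap (Localization.Away h) A').comp (algebraMap A (Localization.Away h))).toAlgebra
    haveI : IsScalarTower A (Localization.Away h) A' := IsScalarTower.of_algebraMap_eq fun _ => rfl
    have hunit : IsUnit (algebraMap A A' h) := by
      rw [IsScalarTower.algebraMap_apply A (Localization.Away h) A']
      exact (IsLocalization.Away.algebraMap_isUnit h).map _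
    rw [Ideal.map_map]
    have h3 := hprop A' hunit
    change _ ↔ Ideal.map (algebraMap A A') J = ⊥
    rw [← h3]
    constructor
    · intro hfl i
      exact (Groth.Agent.Lib.Helper25.FlatPullChart.flat_chart_iff f F i.1.2 A').1
        (fun x' _ => hfl x')
    · intro hfl x'
      have hx : pullback.fst f (Spec.map (CommRingCat.ofHom (algebraMap A A'))) x' ∈
          ⋃ i ∈ t, ((i.1 : X.Opens) : Set X) := ht (Set.mem_univ _)
      obtain ⟨i, hi⟩ := Set.mem_iUnion.1 hx
      obtain ⟨hit, hxi⟩ := Set.mem_iUnion.1 hi
      exact (Groth.Agent.Lib.Helper25.FlatPullChart.flat_chart_iff f F i.2 A').2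
        (hfl ⟨i, hit⟩) x' hxi

end Groth.Agent.S4898
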