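import Groth.Statements.S4899
import Groth.Agent.Lib.Helper7.FlatChartTestPrimary
import Groth.Agent.Lib.Helper7.ResiduePrimaryChart
import Groth.Agent.Lib.Helper7.FlatTestLocal2
import Groth.Agent.Lib.Helper28.FinType

set_option autoImplicit false
universe u
open CategoryTheory AlgebraicGeometry
open EGA43

namespace Groth.Agent.S4899

open Groth.Agent.Lib.Helper7.FlatChart Groth.Agent.Lib.Helper7.FlatTestLocal Groth.Agent.Lib.Helper7.AffPts
  Groth.Agent.Lib.lead.StalkDimIneq Groth.Agent.Lib.Helper7.ResiduePrimaryChart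

open CategoryTheory.Limits in
/-- Let A be an Artinian local ring, f : X ⟶ Spec A locally of finite type, F a coherent O_X-module and
x a point of X; let (u_i : A → A_i) be a family of ring homomorphisms into local rings such that an
element of A killed by every u_i is zero. Assume (ii) that the residue field k(x) is a primary
extension of the residue field of the base (every element of k(x) which is separable algebraic over
it already lies in it; automatic when that field is separably closed), and (iii) that for every i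
there is a point x' of X_i = X ×_{Spec A} Spec A_i above x and above the closed point of Spec A_i at
which the pullback of F is flat over Spec A_i. Then F is f-flat at x. -/
theorem result {A : Type u} [CommRing A]
    [IsArtinianRing A] [IsLocalRing A] {X : Scheme.{u}} (f : X ⟶ Spec (CommRingCat.of A))
    [LocallyOfFiniteType f] (F : X.Modules) (hF : Coh.IsCoh F) (x : X)
    {ι : Type u} (A' : ι → Type u) [∀ i, CommRing (A' i)] [∀ i, IsLocalRing (A' i)] (u : ∀ i, A →+* A' i)
    (hu : ∀ a : A, (∀ i, u i a = 0) → a = 0)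
    (hprim : letI := (f.residueFieldMap x).hom.toAlgebra
      ∀ a : ↑(X.residueField x), IsSeparable ↑((Spec (CommRingCat.of A)).residueField (f x)) a →
        a ∈ (f.residueFieldMap x).hom.range)
    (hflat : ∀ i : ι, ∃ x' : ↥(pullback f (Spec.map (CommRingCat.ofHom (u i)))),
      pullback.fst f (Spec.map (CommRingCat.ofHom (u i))) x' = x ∧
      pullback.snd f (Spec.map (CommRingCat.ofHom (u i))) x' = IsLocalRing.closedPoint (A' i) ∧
      FlatMod.IsFlatOverAt (pullback.snd f (Spec.map (CommRingCat.ofHom (u i))))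
        ((Scheme.Modules.pullback (pullback.fst f (Spec.map (CommRingCat.ofHom (u i))))).obj F) x') :
    FlatMod.IsFlatOverAt f F x := by
  classical
  haveI : F.IsQuasicoherent := hF.1
  haveI : SheafOfModules.IsFiniteType.{u} (R := X.ringCatSheaf) F := hF.2
  obtain ⟨UX, hUX', hxUX, -⟩ := (TopologicalSpace.Opens.isBasis_iff_nbhd.1 X.isBasis_affineOpens)
    (show x ∈ (⊤ : X.Opens) from trivial)
  have hUX : IsAffineOpen UX := hUX'
  have hUS : IsAffineOpen (⊤ : (Spec (CommRingCat.of A)).Opens) := isAffineOpen_top _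
  have hUSX : UX ≤ f ⁻¹ᵁ ⊤ := fun _ _ => trivial
  -- the base ring
  let eA : Γ(Spec (CommRingCat.of A), ⊤) ≃+* A :=
    (Scheme.ΓSpecIso (CommRingCat.of A)).commRingCatIsoToRingEquiv
  haveI : IsLocalRing Γ(Spec (CommRingCat.of A), ⊤) := eA.symm.isLocalRing
  haveI : IsArtinianRing Γ(Spec (CommRingCat.of A), ⊤) := eA.symm.isArtinianRing
  haveI : IsNoetherianRing Γ(Spec (CommRingCat.of A), ⊤) := inferInstance
  have hnil : IsNilpotent (IsLocalRing.maximalIdeal Γ(Spec (CommRingCat.of A), ⊤)) := by
    rw [← IsLocalRing.jacobson_eq_maximalIdeal ⊥ bot_ne_top]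
    exact IsArtinianRing.isNilpotent_jacobson_bot
  letI algRA : Algebra Γ(Spec (CommRingCat.of A), ⊤) Γ(X, UX) := (f.appLE ⊤ UX hUSX).hom.toAlgebra
  haveI : Algebra.FiniteType Γ(Spec (CommRingCat.of A), ⊤) Γ(X, UX) :=
    LocallyOfFiniteType.finiteType_appLE f hUS hUX hUSX
  haveI : IsNoetherianRing Γ(X, UX) :=
    Algebra.FiniteType.isNoetherianRing Γ(Spec (CommRingCat.of A), ⊤) Γ(X, UX)
  haveI : Module.Finite Γ(X, UX) Γ(F, UX) :=
    Groth.Agent.Lib.Helper28.FinType.finite_of_isAffineOpen F hUX
  letI mR : Module Γ(Spec (CommRingCat.of A), ⊤) Γ(F, UX) :=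
    Module.compHom _ (algebraMap Γ(Spec (CommRingCat.of A), ⊤) Γ(X, UX))
  haveI : IsScalarTower Γ(Spec (CommRingCat.of A), ⊤) Γ(X, UX) Γ(F, UX) :=
    IsScalarTower.of_compHom _ _ _
  rw [isFlatOverAt_iff_flat_localizedModule f F hUX hUS hUSX x hxUX rfl]
  letI algT : ∀ i, Algebra Γ(Spec (CommRingCat.of A), ⊤) Γ(Spec (CommRingCat.of (A' i)), ⊤) :=
    fun i => ((Spec.map (CommRingCat.ofHom (u i))).appLE ⊤ ⊤ le_top).hom.toAlgebra
  refine flat_of_family_flat hnil _ (fun i => Γ(Spec (CommRingCat.of (A' i)), ⊤)) ?_ ?_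
  · intro a ha
    have h1 : ∀ i, u i (eA a) = 0 := by
      intro i
      have hnat := Scheme.ΓSpecIso_naturality (CommRingCat.ofHom (u i))
      have h2 := ConcreteCategory.congr_hom hnat a
      have h3 : (Spec.map (CommRingCat.ofHom (u i))).appTop a = 0 := ha i
      rw [CategoryTheory.comp_apply, CategoryTheory.comp_apply] at h2
      rw [h3, map_zero] at h2
      exact h2.symm
    have := hu (eA a) h1
    exact (map_eq_zero_iff eA eA.injective).1 this
  · intro i
    have hUT : IsAffineOpen (⊤ : (Spec (CommRingCat.of (A' i))).Opens) := isAffineOpen_top _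
    have hUST : (⊤ : (Spec (CommRingCat.of (A' i))).Opens) ≤
        (Spec.map (CommRingCat.ofHom (u i))) ⁻¹ᵁ ⊤ := le_top
    let eT : Γ(Spec (CommRingCat.of (A' i)), ⊤) ≃+* A' i :=
      (Scheme.ΓSpecIso (CommRingCat.of (A' i))).commRingCatIsoToRingEquiv
    haveI : IsLocalRing Γ(Spec (CommRingCat.of (A' i)), ⊤) := eT.symm.isLocalRing
    obtain ⟨x', h1, h2, h3⟩ := hflat i
    have hx' : pullback.snd f (Spec.map (CommRingCat.ofHom (u i))) x' ∈
        (⊤ : (Spec (CommRingCat.of (A' i))).Opens) := trivial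
    have hsnd : (hUT.primeIdealOf ⟨pullback.snd f (Spec.map (CommRingCat.ofHom (u i))) x', hx'⟩).asIdeal =
        IsLocalRing.maximalIdeal Γ(Spec (CommRingCat.of (A' i)), ⊤) := by
      obtain ⟨z, hz, hzeq⟩ := exists_point_of_prime hUT
        (IsLocalRing.maximalIdeal Γ(Spec (CommRingCat.of (A' i)), ⊤))
      have hsp : z ⤳ (IsLocalRing.closedPoint (A' i) : ↥(Spec (CommRingCat.of (A' i)))) :=
        IsLocalRing.specializes_closedPoint _
      have hle := (primeIdealOf_le_iff hUT ⟨z, hz⟩
        ⟨(IsLocalRing.closedPoint (A' i) : ↥(Spec (CommRingCat.of (A' i)))), trivial⟩).2 hsp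
      have hle' : (hUT.primeIdealOf ⟨z, hz⟩).asIdeal ≤
          (hUT.primeIdealOf ⟨(IsLocalRing.closedPoint (A' i) : ↥(Spec (CommRingCat.of (A' i)))),
            trivial⟩).asIdeal := hle
      rw [hzeq] at hle'
      have hmax : (IsLocalRing.maximalIdeal Γ(Spec (CommRingCat.of (A' i)), ⊤)).IsMaximal :=
        IsLocalRing.maximalIdeal.isMaximal _
      have heq := hmax.eq_of_le (Ideal.IsPrime.ne_top inferInstance) hle'
      rw [heq]
      congr 2
      exact Subtype.ext h2
    refine flat_tensor_localized_of_exists_isFlatOverAt f (Spec.map (CommRingCat.ofHom (u i))) F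
      hUX hUS hUT hUSX hUST hnil x hxUX rfl rfl ?_ x' h1 hx' hsnd h3
    intro c d hcd hd
    exact isNilpotent_of_mul_eq_zero_chart f hUX hUS hUSX x hxUX hnil rfl hprim
      Γ(Spec (CommRingCat.of (A' i)), ⊤) c d hcd hd

end Groth.Agent.S4899
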