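import Groth.Statements.S4900
import Groth.Agent.Lib.Helper25.LimFlatTower
import Groth.Agent.Lib.Helper13.LimDescendCore
import Groth.Agent.Lib.Helper13.BiratOverFP
import Groth.Agent.Lib.Helper17.FibreStalk
-- import your own Groth.Agent.* helpers here

set_option autoImplicit false
universe u
open CategoryTheory AlgebraicGeometry
open EGA43

namespace Groth.Agent.S4900

open CategoryTheory.Limits Groth.Agent.Lib.Helper22 Groth.Agent.Lib.Helper25.LimFlatTower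
  Groth.Agent.Lib.Helper7.FlatChart Groth.Agent.Lib.Helper17.FibreStalk
  Groth.Agent.Lib.Helper13.LimDescend

/-- the `⇐` direction: flatness at a stage gives flatness in the limit (base change). -/
theorem backward {X₀ Y₀ : Scheme.{u}} (f₀ : X₀ ⟶ Y₀)
    (F₀ : X₀.Modules) [F₀.IsQuasicoherent]
    {X Y : Scheme.{u}} (f : X ⟶ Y) (qY : Y ⟶ Y₀) (qX : X ⟶ X₀)
    (hX : IsPullback qX f f₀ qY) (x : X)
    {Xi Yi : Scheme.{u}} (fi : Xi ⟶ Yi) (pY : Yi ⟶ Y₀) (pX : Xi ⟶ X₀) (vY : Y ⟶ Yi) (vX : X ⟶ Xi)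
    (h2 : IsPullback pX fi f₀ pY) (e1 : vY ≫ pY = qY) (e3 : vX ≫ pX = qX) (e4 : vX ≫ fi = f ≫ vY)
    (hfl : FlatMod.IsFlatOverAt fi ((Scheme.Modules.pullback pX).obj F₀) (vX x)) :
    FlatMod.IsFlatOverAt f ((Scheme.Modules.pullback qX).obj F₀) x := by
  have sq : IsPullback vX f fi vY := IsPullback.of_right (by rw [e3, e1]; exact hX) e4 h2
  have h1 := isFlatOverAt_baseChange fi f vX vY sq ((Scheme.Modules.pullback pX).obj F₀) x hfl
  let eiso : (Scheme.Modules.pullback vX).obj ((Scheme.Modules.pullback pX).obj F₀) ≅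
      (Scheme.Modules.pullback qX).obj F₀ :=
    (Scheme.Modules.pullbackComp vX pX).app F₀ ≪≫ (Scheme.Modules.pullbackCongr e3).app F₀
  exact isFlatOverAt_of_iso _ eiso x h1


/-- the `⇒` direction. -/
theorem forward {I : Type u} [SmallCategory I] [IsCofiltered I]
    (D : I ⥤ Scheme.{u}) (c : Limits.Cone D) (hc : Limits.IsLimit c)
    [∀ (i j : I) (φ : i ⟶ j), IsAffineHom (D.map φ)] (i₀ : I)
    {X₀ Y₀ : Scheme.{u}} (f₀ : X₀ ⟶ Y₀) (g₀ : Y₀ ⟶ D.obj i₀) [LocallyOfFinitePresentation f₀]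
    (F₀ : X₀.Modules) [SheafOfModules.IsFinitePresentation.{u} (R := X₀.ringCatSheaf) F₀]
    {X Y : Scheme.{u}} (f : X ⟶ Y) (g : Y ⟶ c.pt) (qY : Y ⟶ Y₀) (qX : X ⟶ X₀)
    (hY : IsPullback qY g g₀ (c.π.app i₀)) (hX : IsPullback qX f f₀ qY) (x : X)
    (h : FlatMod.IsFlatOverAt f ((Scheme.Modules.pullback qX).obj F₀) x) :
    ∃ (i : I) (φ : i ⟶ i₀) (Xi Yi : Scheme.{u}) (fi : Xi ⟶ Yi) (gi : Yi ⟶ D.obj i)
        (pY : Yi ⟶ Y₀) (pX : Xi ⟶ X₀) (vY : Y ⟶ Yi) (vX : X ⟶ Xi),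
        IsPullback pY gi g₀ (D.map φ) ∧ IsPullback pX fi f₀ pY ∧
          vY ≫ pY = qY ∧ vY ≫ gi = g ≫ c.π.app i ∧ vX ≫ pX = qX ∧ vX ≫ fi = f ≫ vY ∧
          FlatMod.IsFlatOverAt fi ((Scheme.Modules.pullback pX).obj F₀) (vX x) := by
  haveI : F₀.IsQuasicoherent :=
    Groth.Agent.Lib.Helper29.FPDict.isQuasicoherent_of_isFinitePresentation F₀
  haveI hE : ∀ (j k : Over i₀) (φ : j ⟶ k), IsAffineHom ((bcDiag D i₀ g₀).map φ) :=
    fun _ _ φ => inferInstance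
  let σ : (bcDiag D i₀ g₀).obj (top i₀) ⟶ Y₀ := pullback.snd (D.map (top i₀).hom) g₀
  haveI hσiso : IsIso σ := isIso_snd_top D i₀ g₀
  let fk : X₀ ⟶ (bcDiag D i₀ g₀).obj (top i₀) := f₀ ≫ inv σ
  have hfkσ : fk ≫ σ = f₀ := by simp [fk]
  haveI : LocallyOfFinitePresentation fk := inferInstance
  let ιY : Y ≅ pullback (c.π.app i₀) g₀ := hY.flip.isoPullback
  have hιY1 : ιY.hom ≫ pullback.fst (c.π.app i₀) g₀ = g := hY.flip.isoPullback_hom_fst
  have hιY2 : ιY.hom ≫ pullback.snd (c.π.app i₀) g₀ = qY := hY.flip.isoPullback_hom_snd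
  let π₀ : pullback (c.π.app i₀) g₀ ⟶ (bcDiag D i₀ g₀).obj (top i₀) :=
    (bcCone D c i₀ g₀).π.app (top i₀)
  have hπ₀ : π₀ ≫ σ = pullback.snd (c.π.app i₀) g₀ := bcCone_π_snd D c i₀ g₀ (top i₀)
  have pb1 : IsPullback qX (f ≫ ιY.hom) fk π₀ := by
    refine IsPullback.of_iso hX (Iso.refl _) (Iso.refl _) ιY (asIso σ).symm (by simp) (by simp)
      (by simp [fk]) ?_
    change qY ≫ inv σ = ιY.hom ≫ π₀
    rw [IsIso.comp_inv_eq, Category.assoc, hπ₀, hιY2]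
  let ιX : X ≅ pullback π₀ fk := pb1.flip.isoPullback
  have hιX1 : ιX.hom ≫ pullback.fst π₀ fk = f ≫ ιY.hom := pb1.flip.isoPullback_hom_fst
  have hιX2 : ιX.hom ≫ pullback.snd π₀ fk = qX := pb1.flip.isoPullback_hom_snd
  -- transfer flatness to the model of `X`
  have sq : IsPullback ιX.inv (pullback.fst π₀ fk) f ιY.inv :=
    IsPullback.of_horiz_isIso ⟨by rw [Iso.inv_comp_eq, ← Category.assoc, hιX1,
      Category.assoc, Iso.hom_inv_id, Category.comp_id]⟩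
  have hx : ιX.inv (ιX.hom x) = x := by
    rw [← Scheme.Hom.comp_apply, Iso.hom_inv_id]; rfl
  have h1 := isFlatOverAt_baseChange f (pullback.fst π₀ fk) ιX.inv ιY.inv sq
    ((Scheme.Modules.pullback qX).obj F₀) (ιX.hom x) (by rw [hx]; exact h)
  have hinvq : ιX.inv ≫ qX = pullback.snd π₀ fk := by rw [Iso.inv_comp_eq, hιX2]
  let eiso : (Scheme.Modules.pullback ιX.inv).obj ((Scheme.Modules.pullback qX).obj F₀) ≅
      (Scheme.Modules.pullback (pullback.snd π₀ fk)).obj F₀ :=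
    (Scheme.Modules.pullbackComp ιX.inv qX).app F₀ ≪≫ (Scheme.Modules.pullbackCongr hinvq).app F₀
  have h2 : FlatMod.IsFlatOverAt (pullback.fst π₀ fk)
      ((Scheme.Modules.pullback (pullback.snd π₀ fk)).obj F₀) (ιX.hom x) :=
    isFlatOverAt_of_iso _ eiso _ h1
  obtain ⟨l, a, hl⟩ := exists_stage_flatAt (bcDiag D i₀ g₀) (bcCone D c i₀ g₀) (top i₀) fk
    (bcIsLimit D hc i₀ g₀) F₀ (ιX.hom x) h2
  -- the stage data
  have hmapσ : (bcDiag D i₀ g₀).map a ≫ σ = pullback.snd (D.map l.hom) g₀ :=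
    bcDiag_map_snd D i₀ g₀ a
  have hsq : IsPullback (pullback.snd ((bcDiag D i₀ g₀).map a) fk)
      (pullback.fst ((bcDiag D i₀ g₀).map a) fk) f₀ (pullback.snd (D.map l.hom) g₀) := by
    refine IsPullback.of_iso (IsPullback.of_hasPullback ((bcDiag D i₀ g₀).map a) fk).flip
      (Iso.refl _) (Iso.refl _) (Iso.refl _) (asIso σ) (by simp) (by simp) (by simp [hfkσ])
      (by erw [Category.id_comp]; exact hmapσ)
  have hv1 : (ιY.hom ≫ (bcCone D c i₀ g₀).π.app l) ≫ pullback.snd (D.map l.hom) g₀ = qY :=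
    (Category.assoc _ _ _).trans
      ((congrArg (fun t => ιY.hom ≫ t) (bcCone_π_snd D c i₀ g₀ l)).trans hιY2)
  have hv2 : (ιY.hom ≫ (bcCone D c i₀ g₀).π.app l) ≫ pullback.fst (D.map l.hom) g₀ =
      g ≫ c.π.app l.left :=
    (Category.assoc _ _ _).trans
      ((congrArg (fun t => ιY.hom ≫ t) (bcCone_π_fst D c i₀ g₀ l)).trans
        ((Category.assoc _ _ _).symm.trans (congrArg (fun t => t ≫ c.π.app l.left) hιY1)))
  have hv3 : (ιX.hom ≫ proj (bcDiag D i₀ g₀) (bcCone D c i₀ g₀) (top i₀) fk (Over.mk a)) ≫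
      pullback.snd ((bcDiag D i₀ g₀).map a) fk = qX :=
    (Category.assoc _ _ _).trans
      ((congrArg (fun t => ιX.hom ≫ t)
        (proj_mk_snd (bcDiag D i₀ g₀) (bcCone D c i₀ g₀) (top i₀) fk a)).trans hιX2)
  have hv4 : (ιX.hom ≫ proj (bcDiag D i₀ g₀) (bcCone D c i₀ g₀) (top i₀) fk (Over.mk a)) ≫
      pullback.fst ((bcDiag D i₀ g₀).map a) fk = f ≫ (ιY.hom ≫ (bcCone D c i₀ g₀).π.app l) :=
    (Category.assoc _ _ _).trans
      ((congrArg (fun t => ιX.hom ≫ t)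
        (proj_mk_fst (bcDiag D i₀ g₀) (bcCone D c i₀ g₀) (top i₀) fk a)).trans
        ((Category.assoc _ _ _).symm.trans
          ((congrArg (fun t => t ≫ (bcCone D c i₀ g₀).π.app l) hιX1).trans
            (Category.assoc _ _ _))))
  exact ⟨l.left, l.hom, pullback ((bcDiag D i₀ g₀).map a) fk, pullback (D.map l.hom) g₀,
    pullback.fst ((bcDiag D i₀ g₀).map a) fk, pullback.fst (D.map l.hom) g₀,
    pullback.snd (D.map l.hom) g₀, pullback.snd ((bcDiag D i₀ g₀).map a) fk,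
    ιY.hom ≫ (bcCone D c i₀ g₀).π.app l,
    ιX.hom ≫ proj (bcDiag D i₀ g₀) (bcCone D c i₀ g₀) (top i₀) fk (Over.mk a),
    (IsPullback.of_hasPullback (D.map l.hom) g₀).flip, hsq, hv1, hv2, hv3, hv4, hl⟩

/-- Let S be the limit of a cofiltered system (S_i) of schemes with affine transition morphisms, S_{i₀}
a quasi-compact stage, f₀ : X₀ ⟶ Y₀ an S_{i₀}-morphism between schemes of finite presentation over
S_{i₀}, F₀ a quasi-coherent O_{X₀}-module of finite presentation, f : X ⟶ Y and F the base changes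
to S, and x a point of X. Then F is f-flat at x if and only if there are an index i over i₀ and base
changes f_i : X_i ⟶ Y_i, F_i of f₀, F₀ to S_i (pullback squares, with the induced compatible
morphisms X ⟶ X_i, Y ⟶ Y_i) such that F_i is f_i-flat at the image x_i of x in X_i. -/
theorem result {I : Type u} [SmallCategory I] [IsCofiltered I]
    (D : I ⥤ Scheme.{u}) (c : Limits.Cone D) (hc : Limits.IsLimit c)
    [∀ (i j : I) (φ : i ⟶ j), IsAffineHom (D.map φ)] (i₀ : I) [CompactSpace (D.obj i₀)]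
    {X₀ Y₀ : Scheme.{u}} (f₀ : X₀ ⟶ Y₀) (g₀ : Y₀ ⟶ D.obj i₀)
    [LocallyOfFinitePresentation g₀] [QuasiCompact g₀] [QuasiSeparated g₀]
    [LocallyOfFinitePresentation (f₀ ≫ g₀)] [QuasiCompact (f₀ ≫ g₀)] [QuasiSeparated (f₀ ≫ g₀)]
    (F₀ : X₀.Modules) [Coh.IsQCoh F₀] (hF₀ : CohB1.IsFP F₀)
    {X Y : Scheme.{u}} (f : X ⟶ Y) (g : Y ⟶ c.pt) (qY : Y ⟶ Y₀) (qX : X ⟶ X₀)
    (hY : IsPullback qY g g₀ (c.π.app i₀)) (hX : IsPullback qX f f₀ qY) (x : X) :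
    FlatMod.IsFlatOverAt f ((Scheme.Modules.pullback qX).obj F₀) x ↔
      ∃ (i : I) (φ : i ⟶ i₀) (Xi Yi : Scheme.{u}) (fi : Xi ⟶ Yi) (gi : Yi ⟶ D.obj i)
        (pY : Yi ⟶ Y₀) (pX : Xi ⟶ X₀) (vY : Y ⟶ Yi) (vX : X ⟶ Xi),
        IsPullback pY gi g₀ (D.map φ) ∧ IsPullback pX fi f₀ pY ∧
          vY ≫ pY = qY ∧ vY ≫ gi = g ≫ c.π.app i ∧ vX ≫ pX = qX ∧ vX ≫ fi = f ≫ vY ∧
          FlatMod.IsFlatOverAt fi ((Scheme.Modules.pullback pX).obj F₀) (vX x) := by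
  haveI : SheafOfModules.IsFinitePresentation.{u} (R := X₀.ringCatSheaf) F₀ := hF₀
  haveI : F₀.IsQuasicoherent :=
    Groth.Agent.Lib.Helper29.FPDict.isQuasicoherent_of_isFinitePresentation F₀
  constructor
  · intro h
    haveI : LocallyOfFinitePresentation f₀ :=
      Groth.Agent.Lib.Helper13.BiratOverFP.locallyOfFinitePresentation_of_comp f₀ g₀
    exact forward D c hc i₀ f₀ g₀ F₀ f g qY qX hY hX x h
  · rintro ⟨i, φ, Xi, Yi, fi, gi, pY, pX, vY, vX, h1, h2, e1, e2, e3, e4, hfl⟩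
    exact backward f₀ F₀ f qY qX hX x fi pY pX vY vX h2 e1 e3 e4 hfl

end Groth.Agent.S4900
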