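import Groth.Statements.S4902
import Groth.Agent.Lib.Helper7.FlatAdicSchemePrimary
import Groth.Agent.Lib.Helper17.TensorSupp

set_option autoImplicit false
set_option maxHeartbeats 1600000
universe u
open CategoryTheory AlgebraicGeometry
open EGA43

namespace Groth.Agent.S4902

open Groth.Agent.Lib.Helper7.FlatChart Groth.Agent.Lib.Helper7.ResiduePrimaryChart CategoryTheory.Limits

open CategoryTheory.Limits in
/-- Let Y be a locally Noetherian scheme, f : X ⟶ Y locally of finite type, F a coherent O_X-module and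
x a point of X with y = f x, such that k(x) is a primary extension of k(y) (every element of k(x)
separable algebraic over k(y) lies in k(y)). Let (φ_i : O_{Y,y} → A_i) be a family of local
homomorphisms into local rings such that, for every N, some finite intersection of the ideals
φ_i⁻¹(m_{A_i}^n) is contained in m_y^N; let Y_i = Spec A_i ⟶ Y be the induced Y-schemes and X_i = X
×_Y Y_i. If for every i there is a point of X_i above x and above the closed point of Y_i at which
the pullback of F is flat over Y_i, then F is f-flat at x. -/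
theorem result {X Y : Scheme.{u}} [IsLocallyNoetherian Y]
    (f : X ⟶ Y) [LocallyOfFiniteType f] (F : X.Modules) (hF : Coh.IsCoh F) (x : X)
    (hprim : letI := (f.residueFieldMap x).hom.toAlgebra
      ∀ a : ↑(X.residueField x), IsSeparable ↑(Y.residueField (f x)) a → a ∈ (f.residueFieldMap x).hom.range)
    {ι : Type u} (A : ι → Type u) [∀ i, CommRing (A i)] [∀ i, IsLocalRing (A i)]
    (φ : ∀ i, (Y.presheaf.stalk (f x) : Type u) →+* A i) [∀ i, IsLocalHom (φ i)]
    (htop : ∀ N : ℕ, ∃ s : Finset (ι × ℕ),
      ⨅ p ∈ s, Ideal.comap (φ p.1) (IsLocalRing.maximalIdeal (A p.1) ^ p.2) ≤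
        IsLocalRing.maximalIdeal ↑(Y.presheaf.stalk (f x)) ^ N) :
    letI g : ∀ i, Spec (CommRingCat.of (A i)) ⟶ Y :=
      fun i => Spec.map (CommRingCat.ofHom (φ i)) ≫ Y.fromSpecStalk (f x)
    (∀ i : ι, ∃ x' : ↥(pullback f (g i)), pullback.fst f (g i) x' = x ∧
      pullback.snd f (g i) x' = IsLocalRing.closedPoint (A i) ∧
      FlatMod.IsFlatOverAt (pullback.snd f (g i)) ((Scheme.Modules.pullback (pullback.fst f (g i))).obj F) x') →
    FlatMod.IsFlatOverAt f F x := by
  intro hflat
  beta_reduce at hflat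
  classical
  haveI : F.IsQuasicoherent := hF.1
  haveI : SheafOfModules.IsFiniteType.{u} (R := X.ringCatSheaf) F := hF.2
  obtain ⟨x₁, hx₁, hx₁'⟩ := exists_point_over_stalk f x
  have hinj : Function.Injective (pullback.fst f (Y.fromSpecStalk (f x))) :=
    (Scheme.Hom.isEmbedding (pullback.fst f (Y.fromSpecStalk (f x)))).injective
  have hprim' : ∀ z : X, z = x →
      (letI := (f.residueFieldMap z).hom.toAlgebra
       ∀ a : ↑(X.residueField z), IsSeparable ↑(Y.residueField (f z)) a →
        a ∈ (f.residueFieldMap z).hom.range) := by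
    rintro z rfl
    exact hprim
  have hprim₁ := primary_pullback_of_isPreimmersion f (Y.fromSpecStalk (f x)) x₁ (hprim' _ hx₁)
  rw [← hx₁]
  refine isFlatOverAt_of_localBase f F hF.1 (f x) x₁ ?_
  haveI : IsNoetherianRing (Y.presheaf.stalk (f x)) := inferInstance
  have hcoh : Coh.IsCoh ((Scheme.Modules.pullback (pullback.fst f (Y.fromSpecStalk (f x)))).obj F) :=
    ⟨inferInstance, Groth.Agent.Lib.Helper17.TensorSupp.isFiniteType_pullback _ F⟩
  refine isFlatOverAt_of_adic_family_local_primary (O := Y.presheaf.stalk (f x))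
    (pullback.snd f (Y.fromSpecStalk (f x))) _ hcoh x₁ hx₁' hprim₁ A φ htop
    (fun i => CommRingCat.ofHom (φ i)) (fun i => rfl) ?_
  intro i
  obtain ⟨x', hx'1, hx'2, hx'flat⟩ := hflat i
  set e := pullbackLeftPullbackSndIso f (Y.fromSpecStalk (f x))
    (Spec.map (CommRingCat.ofHom (φ i))) with he
  have hinvhom : e.hom (e.inv x') = x' := by
    rw [← Scheme.Hom.comp_apply e.inv e.hom x', e.inv_hom_id]
    rfl
  refine ⟨e.inv x', ?_, ?_, ?_⟩
  · apply hinj
    have h1 := pullbackLeftPullbackSndIso_hom_fst_apply f (Y.fromSpecStalk (f x))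
      (Spec.map (CommRingCat.ofHom (φ i))) (e.inv x')
    rw [← he, hinvhom] at h1
    exact h1.symm.trans (hx'1.trans hx₁.symm)
  · have h2 := pullbackLeftPullbackSndIso_hom_snd_apply f (Y.fromSpecStalk (f x))
      (Spec.map (CommRingCat.ofHom (φ i))) (e.inv x')
    rw [← he, hinvhom] at h2
    exact h2.symm.trans hx'2
  · apply isFlatOverAt_pullback_snd f (Y.fromSpecStalk (f x)) (Spec.map (CommRingCat.ofHom (φ i))) F
      (e.inv x')
    rw [← he, hinvhom]
    exact hx'flat

end Groth.Agent.S4902
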