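import Groth.Statements.S4909
import Groth.Agent.Lib.Helper25.SepDict
import Groth.Agent.Lib.Helper25.SepFlat

set_option autoImplicit false
set_option linter.style.haveILetI false
universe u
open CategoryTheory AlgebraicGeometry
open EGA43

namespace Groth.Agent.S4909

open Groth.Agent.Lib.Helper25.SepFamily Groth.Agent.Lib.Helper25.SepDict Groth.Agent.Lib.Helper25.SepFlat

/-- Case Z_λ = X: let X be a scheme, u_i : F ⟶ G_i a separating family of homomorphisms of
quasi-coherent O_X-modules (a section of F over an open subset killed by every u_i is zero) and g :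
X' ⟶ X a flat morphism locally of finite presentation. Then the family (g^*u_i : g^*F ⟶ g^*G_i) is
separating. (The published statement allows homomorphisms into direct images (f_λ)_*G_λ; this row is
the case Z_λ = X, to which the general case reduces.) -/
theorem result {X X' : Scheme.{u}} (F : X.Modules) [Coh.IsQCoh F] {ι : Type u}
    (G : ι → X.Modules) [∀ i, Coh.IsQCoh (G i)] (u : ∀ i, F ⟶ G i) (g : X' ⟶ X) [Flat g] [LocallyOfFinitePresentation g]
    (h : (∀ (V : (X).Opens) (t : ↑((F).presheaf.obj (Opposite.op V))), (∀ i, (Scheme.Modules.Hom.mapPresheaf (u i)).app (Opposite.op V) t = 0) → t = 0)) :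
    (∀ (V : (X').Opens) (t : ↑(((Scheme.Modules.pullback g).obj F).presheaf.obj (Opposite.op V))), (∀ i, (Scheme.Modules.Hom.mapPresheaf ((Scheme.Modules.pullback g).map (u i))).app (Opposite.op V) t = 0) → t = 0) := by
  have hsep : IsSep u := h
  refine isSep_pullback_of_basis g u
    (fun U' => IsAffineOpen U' ∧ ∃ U : X.Opens, IsAffineOpen U ∧ U' ≤ g ⁻¹ᵁ U) ?_ ?_
  · intro V' x hx
    obtain ⟨U, hU, hxU, -⟩ := exists_isAffineOpen_mem_and_subset (TopologicalSpace.Opens.mem_top (g x))
    have hx' : x ∈ V' ⊓ g ⁻¹ᵁ U := ⟨hx, hxU⟩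
    obtain ⟨U', hU', hxU', hU'V⟩ := exists_isAffineOpen_mem_and_subset hx'
    exact ⟨U', ⟨hU', U, hU, hU'V.trans inf_le_right⟩, hxU', hU'V.trans inf_le_left⟩
  · rintro U' ⟨hU', U, hU, e⟩
    refine ⟨hU', U, hU, e, ?_⟩
    letI := (g.appLE U U' e).hom.toAlgebra
    haveI : Module.Flat Γ(X, U) Γ(X', U') :=
      HasRingHomProperty.appLE (P := @Flat) g inferInstance ⟨U, hU⟩ ⟨U', hU'⟩ e
    haveI : Algebra.FinitePresentation Γ(X, U) Γ(X', U') :=
      HasRingHomProperty.appLE (P := @LocallyOfFinitePresentation) g inferInstance ⟨U, hU⟩ ⟨U', hU'⟩ e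
    intro τ hτ
    exact baseChange_sep_of_flat_fp (fun i => Groth.Agent.Lib.Helper7.FPKer.appLinear (u i) U)
      (sepAlg_of_isSep u hsep hU) τ hτ

end Groth.Agent.S4909
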