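import Groth.Statements.S4911
import Groth.Agent.Lib.Helper25.SepDict
import Groth.Agent.Lib.Helper25.SepBC
import Groth.Agent.Lib.Helper25.FibProdAff

set_option autoImplicit false
set_option linter.style.haveILetI false
universe u
open CategoryTheory AlgebraicGeometry
open EGA43

namespace Groth.Agent.S4911

open Groth.Agent.Lib.Helper25.SepFamily Groth.Agent.Lib.Helper25.SepDict Groth.Agent.Lib.Helper25.SepBC
  Groth.Agent.Lib.Helper25.FibProdAff Limits

open CategoryTheory.Limits in
/-- Case Z_λ = X: let k be a field, X a k-scheme, u_i : F ⟶ G_i a separating family of homomorphisms of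
quasi-coherent O_X-modules (a section of F over an open subset killed by every u_i is zero) and S'
an arbitrary k-scheme. Then the family pulled back to X ×_k S' is separating. (The published
statement allows homomorphisms into direct images (f_λ)_*G_λ; this row is the case Z_λ = X.) -/
theorem result {k : Type u} [Field k] {X S' : Scheme.{u}}
    (p : X ⟶ Spec (CommRingCat.of k)) (q : S' ⟶ Spec (CommRingCat.of k))
    (F : X.Modules) [Coh.IsQCoh F] {ι : Type u} (G : ι → X.Modules) [∀ i, Coh.IsQCoh (G i)] (u : ∀ i, F ⟶ G i)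
    (h : (∀ (V : (X).Opens) (t : ↑((F).presheaf.obj (Opposite.op V))), (∀ i, (Scheme.Modules.Hom.mapPresheaf (u i)).app (Opposite.op V) t = 0) → t = 0)) :
    (∀ (V : (pullback p q).Opens) (t : ↑(((Scheme.Modules.pullback (pullback.fst p q)).obj F).presheaf.obj (Opposite.op V))), (∀ i, (Scheme.Modules.Hom.mapPresheaf ((Scheme.Modules.pullback (pullback.fst p q)).map (u i))).app (Opposite.op V) t = 0) → t = 0) := by
  have hsep : IsSep u := h
  have hK : IsField Γ(Spec (CommRingCat.of k), ⊤) :=
    MulEquiv.isField (Field.toIsField k)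
      (Scheme.ΓSpecIso (CommRingCat.of k)).commRingCatIsoToRingEquiv.toMulEquiv
  refine isSep_pullback_of_cover (pullback.fst p q) u
    (fun U' => ∃ (UX : X.Opens) (UT : S'.Opens), IsAffineOpen UX ∧ IsAffineOpen UT ∧
      U' = pullback.fst p q ⁻¹ᵁ UX ⊓ pullback.snd p q ⁻¹ᵁ UT) ?_ ?_
  · intro x
    obtain ⟨UX, hUX, hxUX, -⟩ :=
      exists_isAffineOpen_mem_and_subset (TopologicalSpace.Opens.mem_top (pullback.fst p q x))
    obtain ⟨UT, hUT, hxUT, -⟩ :=
      exists_isAffineOpen_mem_and_subset (TopologicalSpace.Opens.mem_top (pullback.snd p q x))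
    exact ⟨_, ⟨UX, UT, hUX, hUT, rfl⟩, ⟨hxUX, hxUT⟩⟩
  · rintro U' ⟨UX, UT, hUX, hUT, rfl⟩
    obtain ⟨hUY, hpo⟩ := pullback_affine p q (US := ⊤) (isAffineOpen_top _) hUX hUT
      (fun _ _ => trivial) (fun _ _ => trivial)
    exact ⟨hUY, UX, hUX, inf_le_left,
      sepAlg_baseChange_of_isPushout_field hK _ _ _ _ hpo _ (sepAlg_of_isSep u hsep hUX)⟩

end Groth.Agent.S4911
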