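import Groth.Statements.S4914
-- import your own Groth.Agent.* helpers here

set_option autoImplicit false
open CategoryTheory AlgebraicGeometry
universe u v w
open EGA43

namespace Groth.Agent.S4914

/-- Let ψ : X → Y be a continuous map, x a point of X, and (Y_i) a locally finite covering of Y by
closed subsets. If for every index i with ψ x ∈ Y_i the restriction ψ⁻¹(Y_i) → Y_i of ψ is open at
x, then ψ is open at x. -/
theorem result {α : Type u} {β : Type v} {ι : Type w} [TopologicalSpace α]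
    [TopologicalSpace β] (ψ : α → β) (hψ : Continuous ψ) (x : α) (Y : ι → Set β) (hY : LocallyFinite Y)
    (hcl : ∀ i, IsClosed (Y i)) (hcov : ⋃ i, Y i = Set.univ)
    (h : ∀ i, ∀ hi : ψ x ∈ Y i, EGA43.IsOpenAt ((Y i).restrictPreimage ψ) ⟨x, hi⟩) :
    EGA43.IsOpenAt ψ x := by
  classical
  intro U hU
  obtain ⟨W, hW, hWfin⟩ := hY (ψ x)
  set F := hWfin.toFinset with hF
  -- neighbourhoods from each index containing ψ x
  have hVi : ∀ i, ψ x ∈ Y i → ∃ V ∈ nhds (ψ x), V ∩ Y i ⊆ ψ '' U := by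
    intro i hi
    have hU' : (Subtype.val ⁻¹' U : Set ↥(ψ ⁻¹' (Y i))) ∈ nhds (⟨x, hi⟩ : ↥(ψ ⁻¹' (Y i))) :=
      continuous_subtype_val.continuousAt.preimage_mem_nhds hU
    have := h i hi _ hU'
    obtain ⟨V, hV, hVsub⟩ := (mem_nhds_subtype _ _ _).mp this
    refine ⟨V, hV, ?_⟩
    rintro z ⟨hzV, hzY⟩
    obtain ⟨⟨a, ha⟩, haU, haz⟩ := hVsub (show (⟨z, hzY⟩ : ↥(Y i)) ∈ Subtype.val ⁻¹' V from hzV)
    refine ⟨a, haU, ?_⟩
    exact congrArg Subtype.val haz
  choose! V hV hVsub using hVi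
  -- the good neighbourhood
  have hN : (W ∩ (⋂ i ∈ F, if ψ x ∈ Y i then V i else (Y i)ᶜ)) ∈ nhds (ψ x) := by
    refine Filter.inter_mem hW ?_
    rw [Filter.biInter_finset_mem]
    intro i _
    split_ifs with hi
    · exact hV i hi
    · exact (hcl i).isOpen_compl.mem_nhds hi
  refine Filter.mem_of_superset hN ?_
  rintro z ⟨hzW, hzI⟩
  have hz : z ∈ ⋃ i, Y i := by rw [hcov]; trivial
  obtain ⟨i, hzi⟩ := Set.mem_iUnion.mp hz
  have hiF : i ∈ F := by
    rw [hF, Set.Finite.mem_toFinset]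
    exact ⟨z, hzi, hzW⟩
  have := Set.mem_iInter₂.mp hzI i hiF
  split_ifs at this with hi
  · exact hVsub i hi ⟨this, hzi⟩
  · exact absurd hzi this

end Groth.Agent.S4914
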