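import Groth.Statements.S4916
-- import your own Groth.Agent.* helpers here

set_option autoImplicit false
open CategoryTheory AlgebraicGeometry
universe u v w
open EGA43

namespace Groth.Agent.S4916

/-- Let ψ : X → Y be a continuous map of topological spaces and y a point of Y. The set of points x of
the fibre ψ⁻¹(y) at which ψ is open is a closed subset of ψ⁻¹(y). -/
theorem result {α : Type u} {β : Type v} [TopologicalSpace α] [TopologicalSpace β]
    (ψ : α → β) (hψ : Continuous ψ) (y : β) :
    IsClosed {x : ↥(ψ ⁻¹' {y}) | EGA43.IsOpenAt ψ x.1} := by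
  refine isClosed_of_closure_subset fun x hx => ?_
  intro U hU
  have hU' : (Subtype.val ⁻¹' (interior U) : Set ↥(ψ ⁻¹' {y})) ∈ nhds x :=
    continuous_subtype_val.continuousAt.preimage_mem_nhds
      (isOpen_interior.mem_nhds (mem_interior_iff_mem_nhds.mpr hU))
  obtain ⟨x₁, hx₁U, hx₁E⟩ := mem_closure_iff_nhds.mp hx _ hU'
  have hU₁ : U ∈ nhds x₁.1 := mem_interior_iff_mem_nhds.mp hx₁U
  have := hx₁E U hU₁
  have e1 : ψ x₁.1 = y := x₁.2
  have e2 : ψ x.1 = y := x.2
  rw [e1] at this
  rw [e2]
  exact this

end Groth.Agent.S4916
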