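import Groth.Statements.S4947
import Mathlib
import Groth.Agent.Lib.Helper21.OrdVal
import Groth.Agent.Lib.helper19.RegularLocalSeq

set_option autoImplicit false
universe u
open EGA43

namespace Groth.Agent.S4947

section helpers
open Groth.Agent.Lib.Helper21.OrdVal Groth.Agent.Lib.Helper21.QuasiReg IsLocalRing

theorem exists_setup (A : Type u) [CommRing A] [IsRegularLocalRing A] (hA : ¬ IsField A) :
    ∃ S : Setup A, S.J = maximalIdeal A := by
  classical
  have fg : (maximalIdeal A).FG := IsNoetherian.noetherian _
  obtain ⟨s, hcard, hspan⟩ := Submodule.FG.exists_span_finset_card_eq_spanFinrank fg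
  have hl : Ideal.ofList s.toList = maximalIdeal A := by
    rw [← hspan]
    unfold Ideal.ofList
    congr 1
    ext r
    simp
  have hdim : ringKrullDim A = (s.toList.length : ℕ) := by
    rw [Finset.length_toList, hcard]
    exact (IsRegularLocalRing.spanFinrank_maximalIdeal (R := A)).symm
  have reg := Groth.Agent.Lib.helper19.isRegular_of_ofList_eq_maximalIdeal A s.toList hl hdim
  have hne : s.toList.length ≠ 0 := by
    intro h0
    rw [List.length_eq_zero_iff] at h0
    rw [h0, Ideal.ofList_nil] at hl
    exact hA (IsLocalRing.isField_iff_maximalIdeal_eq.mpr hl.symm)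
  obtain ⟨n, hn⟩ := Nat.exists_eq_succ_of_ne_zero hne
  let x : Fin (n + 1) → A := fun i => s.toList.get (Fin.cast hn.symm i)
  have hx : List.ofFn x = s.toList := by
    have h1 := List.ofFn_congr hn s.toList.get
    rw [List.ofFn_get] at h1
    exact h1.symm
  have hJ : Ideal.span (Set.range x) = maximalIdeal A := by
    rw [← hl, ← hx, ofList_ofFn]
  refine ⟨{ n := n, x := x, hqr := ?_, hprime := ?_, hsep := ?_ }, hJ⟩
  · apply qr_of_isWeaklyRegular
    rw [hx]
    exact reg.toIsWeaklyRegular
  · rw [hJ]; infer_instance
  · intro a ha
    rw [hJ]
    have h1 := Ideal.iInf_pow_eq_bot_of_isLocalRing (maximalIdeal A) Ideal.IsPrime.ne_top'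
    by_contra hcon
    push Not at hcon
    apply ha
    have : a ∈ ⨅ i, maximalIdeal A ^ i := by
      rw [Ideal.mem_iInf]
      intro i
      rcases i with _ | i
      · simp
      · exact hcon i
    rwa [h1] at this

end helpers


/-- Let A be a regular local ring which is not a field, K its fraction field and k its residue field.
Then there is a discrete valuation ring V between A and K, with fraction field K, dominating A,
whose residue field is a purely transcendental extension of k: for some ring map from k compatible
with A → V there is an algebraically independent family generating the residue field of V as a field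
over k. -/
theorem result (A : Type u) [CommRing A] [IsRegularLocalRing A]
    (hA : ¬ IsField A) :
    ∃ (V : Subalgebra A (FractionRing A)) (_ : IsDomain V) (_ : IsDiscreteValuationRing V), IsFractionRing V (FractionRing A) ∧
      (IsLocalRing.maximalIdeal V).comap (algebraMap A V) = IsLocalRing.maximalIdeal A ∧
      ∃ (φ : IsLocalRing.ResidueField A →+* IsLocalRing.ResidueField V),
        φ.comp (IsLocalRing.residue A) = (IsLocalRing.residue V).comp (algebraMap A V) ∧
        letI := φ.toAlgebra
        ∃ (ι : Type u) (t : ι → IsLocalRing.ResidueField V), AlgebraicIndependent (IsLocalRing.ResidueField A) t ∧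
          IntermediateField.adjoin (IsLocalRing.ResidueField A) (Set.range t) = ⊤ := by
  open Groth.Agent.Lib.Helper21.OrdVal in
  haveI : IsDomain A := Groth.Agent.Lib.helper19.isDomain_of_isRegularLocalRing A
  obtain ⟨S, hJ⟩ := exists_setup A hA
  haveI := S.isDiscreteValuationRing (FractionRing A)
  refine ⟨S.V (FractionRing A), inferInstance, S.isDiscreteValuationRing (FractionRing A),
    S.isFractionRing (FractionRing A), ?_, ?_⟩
  · rw [S.comap_maximalIdeal, hJ]
  · exact S.residue_purely_transcendental (FractionRing A) hJ

end Groth.Agent.S4947
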