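import Groth.Statements.S4959
import Mathlib.AlgebraicGeometry.Morphisms.Proper
import Mathlib.AlgebraicGeometry.Morphisms.Flat
import Mathlib.AlgebraicGeometry.PullbackCarrier

set_option autoImplicit false
open CategoryTheory AlgebraicGeometry
universe u v w
open EGA43

namespace Groth.Agent.S4959

open CategoryTheory.Limits MorphismProperty

abbrev UQ : MorphismProperty Scheme.{u} :=
  MorphismProperty.universally (topologically @Topology.IsQuotientMap)

theorem uq_of_comp {W X Y : Scheme.{u}} (p : W ⟶ X) (f : X ⟶ Y) (h : UQ (p ≫ f)) : UQ f := by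
  intro X' Y' i₁ i₂ f' sq
  have top := (IsPullback.of_hasPullback i₁ p).flip
  have bot := sq.flip
  have big := (top.paste_vert bot).flip
  have hq : Topology.IsQuotientMap (pullback.fst i₁ p ≫ f').base := h _ _ _ big
  show Topology.IsQuotientMap f'.base
  have : (pullback.fst i₁ p ≫ f').base = f'.base ∘ (pullback.fst i₁ p).base := rfl
  rw [this] at hq
  exact Topology.IsQuotientMap.of_comp (Scheme.Hom.continuous _) (Scheme.Hom.continuous _) hq

theorem uq_comp {W X Y : Scheme.{u}} (p : W ⟶ X) (f : X ⟶ Y) (hp : UQ p) (hf : UQ f) :
    UQ (p ≫ f) := by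
  intro X' Y' i₁ i₂ f' sq
  -- factor the pullback square through the base change of f
  have sqf := IsPullback.of_hasPullback i₂ f
  -- lift
  let l : X' ⟶ pullback i₂ f := pullback.lift f' (i₁ ≫ p) (by rw [Category.assoc]; exact sq.w)
  have hl1 : l ≫ pullback.fst i₂ f = f' := pullback.lift_fst _ _ _
  have hl2 : l ≫ pullback.snd i₂ f = i₁ ≫ p := pullback.lift_snd _ _ _
  have sqp : IsPullback l i₁ (pullback.snd i₂ f) p := by
    refine IsPullback.of_right ?_ hl2 sqf
    rw [hl1]
    exact sq
  have h1 : Topology.IsQuotientMap l.base := hp _ _ _ sqp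
  have h2 : Topology.IsQuotientMap (pullback.fst i₂ f).base := hf _ _ _ sqf
  show Topology.IsQuotientMap f'.base
  have h3 : f'.base = (pullback.fst i₂ f).base ∘ l.base := by
    rw [← hl1]; rfl
  rw [h3]
  exact h2.comp h1

theorem uq_of_proper_surjective {X Y : Scheme.{u}} (g : X ⟶ Y) [IsProper g] [Surjective g] :
    UQ g := by
  intro X' Y' i₁ i₂ f' sq
  have h1 : IsProper f' := MorphismProperty.of_isPullback sq.flip inferInstance
  have h2 : Surjective f' := MorphismProperty.of_isPullback sq.flip inferInstance
  exact (f'.isClosedMap).isQuotientMap f'.continuous f'.surjective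

theorem uq_of_fpqc {X Y : Scheme.{u}} (g : X ⟶ Y) [Flat g] [QuasiCompact g] [Surjective g] :
    UQ g := by
  intro X' Y' i₁ i₂ f' sq
  have h1 : Flat f' := MorphismProperty.of_isPullback sq.flip inferInstance
  have h2 : Surjective f' := MorphismProperty.of_isPullback sq.flip inferInstance
  have h3 : QuasiCompact f' := MorphismProperty.of_isPullback sq.flip inferInstance
  exact Flat.isQuotientMap_of_surjective f'

open CategoryTheory.Limits in
/-- Let f : X ⟶ Y be a morphism of schemes and g : Y' ⟶ Y a surjective morphism which is either proper,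
or flat and quasi-compact. If the base change f' : X ×_Y Y' ⟶ Y' is universally submersive (all of
its base changes are topological quotient maps), then f is universally submersive. -/
theorem result {X Y Y' : Scheme.{u}} (f : X ⟶ Y) (g : Y' ⟶ Y) [Surjective g]
    (hg : IsProper g ∨ (Flat g ∧ QuasiCompact g))
    (h : MorphismProperty.universally (topologically @Topology.IsQuotientMap) (pullback.snd f g)) :
    MorphismProperty.universally (topologically @Topology.IsQuotientMap) f := by
  have hgq : UQ g := by
    rcases hg with hg | ⟨hg1, hg2⟩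
    · exact uq_of_proper_surjective g
    · exact uq_of_fpqc g
  have h1 : UQ (pullback.snd f g ≫ g) := uq_comp _ _ h hgq
  rw [← pullback.condition] at h1
  exact uq_of_comp _ _ h1

end Groth.Agent.S4959
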