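import Groth.Statements.S4970
import Groth.Agent.Lib.Helper15.FibreFree
import Groth.Agent.Lib.Helper21.FlatLocal6
-- import your own Groth.Agent.* helpers here

set_option autoImplicit false
universe u
open TensorProduct
open EGA43

namespace Groth.Agent.S4970

section H
namespace W1
open Groth.Agent.Lib.Helper15 Groth.Agent.Lib.Helper21.FlatLocal IsLocalRing

/-- If `N` is the base change of `M` along `B → D`, `B → C → D` is a tower, and `C ⊗[B] M` is flat
over `C`, then `N` is flat over `D`. -/
theorem flat_of_isBaseChange_tower {B C D M N : Type u} [CommRing B] [CommRing C] [CommRing D]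
    [Algebra B C] [Algebra C D] [Algebra B D] [IsScalarTower B C D] [AddCommGroup M] [Module B M]
    [AddCommGroup N] [Module B N] [Module D N] [IsScalarTower B D N] (f : M →ₗ[B] N)
    (hf : IsBaseChange D f) [Module.Flat C (C ⊗[B] M)] : Module.Flat D N := by
  letI : Module C N := Module.compHom N (algebraMap C D)
  haveI : IsScalarTower C D N := IsScalarTower.of_algebraMap_smul fun _ _ => rfl
  haveI : IsScalarTower B C N := IsScalarTower.of_algebraMap_smul fun b x => by
    show (algebraMap C D (algebraMap B C b)) • x = b • x
    rw [← IsScalarTower.algebraMap_apply B C D, algebraMap_smul]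
  let g : C ⊗[B] M →ₗ[C] N := (TensorProduct.isBaseChange B M C).lift f
  have hg : IsBaseChange D g := by
    refine IsBaseChange.of_comp (TensorProduct.isBaseChange B M C) ?_
    have : (g.restrictScalars B) ∘ₗ (TensorProduct.mk B C M 1) = f :=
      (TensorProduct.isBaseChange B M C).lift_comp f
    rw [this]
    exact hf
  exact Module.Flat.isBaseChange C D (C ⊗[B] M) N hg

theorem forward (A B M : Type u) [CommRing A] [CommRing B] [Algebra A B]
    [AddCommGroup M] [Module B M] [Module.FinitePresentation B M] [Module.Flat B M]
    (p : Ideal A) [p.IsPrime] :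
      Module.Projective (B ⊗[A] p.ResidueField) ((B ⊗[A] p.ResidueField) ⊗[B] M) := by
  haveI : Module.Projective B M := Module.Flat.projective_of_finitePresentation
  infer_instance

attribute [local instance] Localization.AtPrime.algebraOfLiesOver
attribute [local instance] moduleLoc

section
variable (A B M : Type u) [CommRing A] [CommRing B] [Algebra A B]
    [AddCommGroup M] [Module B M] [Module A M] [IsScalarTower A B M]
    (q : Ideal B) [q.IsPrime] (p : Ideal A) [p.IsPrime] [q.LiesOver p]

local notation "Rp" => Localization.AtPrime p
local notation "Bq" => Localization.AtPrime q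
local notation "Mq" => LocalizedModule q.primeCompl M
local notation "Ip" => Ideal.map (algebraMap (Localization.AtPrime p) (Localization.AtPrime q)) (maximalIdeal (Localization.AtPrime p))

/-- the ring map `B ⊗[A] κ(p) → B_q / 𝔪_p B_q`. -/
noncomputable def phi : (B ⊗[A] p.ResidueField) →ₐ[A] (Bq ⧸ Ip) :=
  Algebra.TensorProduct.lift (IsScalarTower.toAlgHom A B (Bq ⧸ Ip))
    (Ideal.quotientMapₐ Ip (IsScalarTower.toAlgHom A Rp Bq) Ideal.le_comap_map)
    (fun _ _ => Commute.all _ _)

theorem phi_tmul_one (b : B) : phi A B q p (b ⊗ₜ 1) = algebraMap B (Bq ⧸ Ip) b := by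
  refine (Algebra.TensorProduct.lift_tmul _ _ _ b 1).trans ?_
  refine (congrArg (_ * ·) (map_one _)).trans ?_
  exact mul_one _

omit [Module A M] [IsScalarTower A B M] in
/-- `M → M_q → M_q / Ip M_q` is a base change along `B → B_q / Ip`. -/
theorem isBaseChange_quot :
    IsBaseChange (Bq ⧸ Ip) (((Ip • (⊤ : Submodule Bq Mq)).mkQ.restrictScalars B) ∘ₗ
      (LocalizedModule.mkLinearMap q.primeCompl M)) := by
  refine IsBaseChange.comp (IsLocalizedModule.isBaseChange q.primeCompl Bq
    (LocalizedModule.mkLinearMap q.primeCompl M)) ?_
  refine IsBaseChange.of_equiv ((TensorProduct.quotTensorEquivQuotSMul Mq Ip).extendScalarsOfSurjective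
      Ideal.Quotient.mk_surjective) ?_
  intro x
  simp


theorem backward_local [Module.FinitePresentation B M] [Module.Flat A M]
    (h : Module.Flat (B ⊗[A] p.ResidueField) ((B ⊗[A] p.ResidueField) ⊗[B] M)) :
    Module.Flat Bq Mq := by
  haveI : Module.Flat Rp Mq := flat_loc p q M
  haveI : IsLocalHom (algebraMap Rp Bq) := isLocalHom_loc p q
  haveI : Module.FinitePresentation Bq Mq := inferInstance
  haveI : Module.Free Bq Mq := by
    refine FibreFree.free_of_flat_of_fibre_flat (R := Rp) (A := Bq) (M := Mq) ?_
    letI : Algebra (B ⊗[A] p.ResidueField) (Bq ⧸ Ip) := (phi A B q p).toRingHom.toAlgebra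
    haveI : IsScalarTower B (B ⊗[A] p.ResidueField) (Bq ⧸ Ip) :=
      IsScalarTower.of_algebraMap_eq fun b => (phi_tmul_one A B q p b).symm
    exact flat_of_isBaseChange_tower (B := B) (C := B ⊗[A] p.ResidueField) (D := Bq ⧸ Ip) (M := M)
      _ (isBaseChange_quot A B M q p)
  infer_instance

end

theorem main (A B M : Type u) [CommRing A] [CommRing B] [Algebra A B]
    [AddCommGroup M] [Module B M] [Module A M]
    [IsScalarTower A B M] [Module.FinitePresentation B M] [Module.Flat A M] :
    Module.Flat B M ↔ ∀ (p : Ideal A) [p.IsPrime],
      Module.Projective (B ⊗[A] p.ResidueField) ((B ⊗[A] p.ResidueField) ⊗[B] M) := by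
  constructor
  · intro h p _
    exact forward A B M p
  · intro h
    refine Module.flat_of_localized_maximal _ fun q hq => ?_
    haveI : q.IsPrime := hq.isPrime
    haveI : q.LiesOver (q.comap (algebraMap A B)) := ⟨rfl⟩
    have hp := h (q.comap (algebraMap A B))
    exact (Module.flat_iff_of_isLocalization (Localization.AtPrime q) q.primeCompl _).1
      (backward_local A B M q (q.comap (algebraMap A B)) (@Module.Flat.of_projective _ _ _ _ _ hp))

end W1
end H


/-- Let A be a commutative ring, B a finitely presented A-algebra which is flat as an A-module, and M a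
finitely presented B-module which is flat as an A-module. Then M is a flat B-module if and only if,
for every prime ideal p of A with residue field κ(p), the module (B ⊗_A κ(p)) ⊗_B M is projective
over the ring B ⊗_A κ(p). (Condition a) of the source, M projective over B, is equivalent to b) for
finitely presented modules.) -/
theorem result (A B M : Type u) [CommRing A] [CommRing B] [Algebra A B]
    [Algebra.FinitePresentation A B] [Module.Flat A B] [AddCommGroup M] [Module B M] [Module A M]
    [IsScalarTower A B M] [Module.FinitePresentation B M] [Module.Flat A M] :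
    Module.Flat B M ↔ ∀ (p : Ideal A) [p.IsPrime],
      Module.Projective (B ⊗[A] p.ResidueField) ((B ⊗[A] p.ResidueField) ⊗[B] M) := by
  exact W1.main A B M

end Groth.Agent.S4970
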