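import Groth.Statements.S4971
import Mathlib.RingTheory.Filtration

set_option autoImplicit false
universe u
open EGA43

namespace Groth.Agent.S4971

/-- Let B be a Noetherian local ring, M, N, P three B-modules with N finitely generated, u : M → N and v
: N → P linear maps with v ∘ u = 0, and t an element of the maximal ideal of B which is P-regular.
If the induced sequence M/tM → N/tN → P/tP is exact, then M → N → P is exact. -/
theorem result {B : Type u} [CommRing B] [IsNoetherianRing B] [IsLocalRing B]
    {M N P : Type u} [AddCommGroup M] [Module B M] [AddCommGroup N] [Module B N] [Module.Finite B N]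
    [AddCommGroup P] [Module B P] (u : M →ₗ[B] N) (v : N →ₗ[B] P) (huv : v ∘ₗ u = 0) (t : B)
    (ht : t ∈ IsLocalRing.maximalIdeal B) (hreg : IsSMulRegular P t)
    (hu : (Ideal.span {t} • ⊤ : Submodule B M) ≤ (Ideal.span {t} • ⊤ : Submodule B N).comap u)
    (hv : (Ideal.span {t} • ⊤ : Submodule B N) ≤ (Ideal.span {t} • ⊤ : Submodule B P).comap v)
    (hex : LinearMap.ker ((Ideal.span {t} • ⊤ : Submodule B N).mapQ (Ideal.span {t} • ⊤ : Submodule B P) v hv) ≤
      LinearMap.range ((Ideal.span {t} • ⊤ : Submodule B M).mapQ (Ideal.span {t} • ⊤ : Submodule B N) u hu)) :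
    LinearMap.ker v ≤ LinearMap.range u := by
  classical
  -- one step
  have step : ∀ n ∈ LinearMap.ker v, ∃ m : M, ∃ n' ∈ LinearMap.ker v, n = u m + t • n' := by
    intro n hn
    have h1 : Submodule.Quotient.mk n ∈ LinearMap.ker
        ((Ideal.span {t} • ⊤ : Submodule B N).mapQ (Ideal.span {t} • ⊤ : Submodule B P) v hv) := by
      rw [LinearMap.mem_ker, Submodule.mapQ_apply, LinearMap.mem_ker.mp hn, Submodule.Quotient.mk_zero]
    obtain ⟨mbar, hm⟩ := hex h1
    obtain ⟨m, rfl⟩ := Submodule.Quotient.mk_surjective _ mbar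
    rw [Submodule.mapQ_apply] at hm
    have h2 : n - u m ∈ (Ideal.span {t} • ⊤ : Submodule B N) := by
      rw [← Submodule.Quotient.mk_eq_zero, Submodule.Quotient.mk_sub, hm, sub_self]
    rw [Submodule.ideal_span_singleton_smul, Submodule.mem_smul_pointwise_iff_exists] at h2
    obtain ⟨n', -, hn'⟩ := h2
    refine ⟨m, n', ?_, ?_⟩
    · rw [LinearMap.mem_ker]
      apply hreg
      change t • v n' = t • 0
      rw [smul_zero, ← map_smul, hn', map_sub, LinearMap.mem_ker.mp hn]
      have : v (u m) = 0 := by rw [← LinearMap.comp_apply, huv, LinearMap.zero_apply]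
      rw [this, sub_zero]
    · rw [hn', add_sub_cancel]
  have iter : ∀ k : ℕ, ∀ n ∈ LinearMap.ker v, ∃ m : M, ∃ n' ∈ LinearMap.ker v,
      n = u m + t ^ k • n' := by
    intro k
    induction k with
    | zero => exact fun n hn => ⟨0, n, hn, by simp⟩
    | succ k ih =>
      intro n hn
      obtain ⟨m, n', hn', rfl⟩ := ih n hn
      obtain ⟨m', n'', hn'', rfl⟩ := step n' hn'
      refine ⟨m + t ^ k • m', n'', hn'', ?_⟩
      rw [map_add, map_smul, smul_add, smul_smul, pow_succ, add_assoc]
  intro n hn
  have hI : Ideal.span {t} ≠ (⊤ : Ideal B) := by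
    intro h
    have : Ideal.span {t} ≤ IsLocalRing.maximalIdeal B :=
      (Ideal.span_singleton_le_iff_mem _).mpr ht
    rw [h] at this
    exact (IsLocalRing.maximalIdeal.isMaximal B).ne_top (top_le_iff.mp this)
  have hkrull := Ideal.iInf_pow_smul_eq_bot_of_isLocalRing (R := B)
    (M := N ⧸ LinearMap.range u) (Ideal.span {t}) hI
  have hmem : (LinearMap.range u).mkQ n ∈
      (⨅ i : ℕ, Ideal.span {t} ^ i • ⊤ : Submodule B (N ⧸ LinearMap.range u)) := by
    rw [Submodule.mem_iInf]
    intro k
    obtain ⟨m, n', -, rfl⟩ := iter k n hn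
    rw [map_add, map_smul]
    have : (LinearMap.range u).mkQ (u m) = 0 := by
      rw [Submodule.mkQ_apply, Submodule.Quotient.mk_eq_zero]; exact ⟨m, rfl⟩
    rw [this, zero_add]
    exact Submodule.smul_mem_smul (Ideal.pow_mem_pow (Ideal.mem_span_singleton_self t) k)
      Submodule.mem_top
  rw [hkrull, Submodule.mem_bot, Submodule.mkQ_apply, Submodule.Quotient.mk_eq_zero] at hmem
  exact hmem

end Groth.Agent.S4971
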