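import Groth.Statements.S4978
import Mathlib
import Groth.Agent.Lib.Helper13.StalkSpread
import Groth.Agent.Lib.Helper13.DvrAtMax
import Groth.Agent.Lib.Helper13.RedLift
import Groth.Agent.Lib.Helper9.ProperOver2

set_option autoImplicit false
open CategoryTheory AlgebraicGeometry
universe u v w
open EGA43

namespace Groth.Agent.S4978

section helpers
set_option linter.unusedSectionVars false
set_option linter.unusedVariables false
set_option linter.style.haveILetI false
open CategoryTheory CategoryTheory.Limits AlgebraicGeometry TopologicalSpace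


open Groth.Agent.Lib.Helper13.StalkSpread Groth.Agent.Lib.Helper13.DvrAtMax
  Groth.Agent.Lib.Helper13.KPoint Groth.Agent.Lib.Helper13.RedLift
  Groth.Agent.Lib.Helper9.ProperOver

theorem flat_fromSpecStalk (X : Scheme.{u}) (x : X) : Flat (X.fromSpecStalk x) := by
  obtain ⟨_, ⟨U, hU : IsAffineOpen U, rfl⟩, hxU, -⟩ :=
    X.isBasis_affineOpens.exists_subset_of_mem_open (Set.mem_univ x) isOpen_univ
  rw [← hU.fromSpecStalk_eq_fromSpecStalk hxU]
  dsimp [IsAffineOpen.fromSpecStalk]
  have : Flat (Spec.map (X.presheaf.germ U x hxU)) := by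
    rw [Flat.SpecMap_iff]
    let : Algebra Γ(X, U) (X.presheaf.stalk x) := (X.presheaf.germ U x hxU).hom.toAlgebra
    have := hU.isLocalization_stalk ⟨x, hxU⟩
    exact IsLocalization.flat (X.presheaf.stalk x) (hU.primeIdealOf ⟨x, hxU⟩).asIdeal.primeCompl
  infer_instance

theorem baseChange_comp (P : MorphismProperty Scheme.{u}) [P.IsStableUnderBaseChange]
    {X Y Z W : Scheme.{u}} (f : X ⟶ Y) (r : Z ⟶ Y) (a : W ⟶ Z) (r' : W ⟶ Y) (hr : r' = a ≫ r)
    (h : P (pullback.snd f r)) : P (pullback.snd f r') := by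
  subst hr
  let l : pullback f (a ≫ r) ⟶ pullback f r :=
    pullback.lift (pullback.fst f (a ≫ r)) (pullback.snd f (a ≫ r) ≫ a)
      (by rw [Category.assoc]; exact pullback.condition)
  have hl1 : l ≫ pullback.fst f r = pullback.fst f (a ≫ r) := pullback.lift_fst _ _ _
  have hl2 : l ≫ pullback.snd f r = pullback.snd f (a ≫ r) ≫ a := pullback.lift_snd _ _ _
  have big : IsPullback (l ≫ pullback.fst f r) (pullback.snd f (a ≫ r)) f (a ≫ r) := by
    rw [hl1]; exact IsPullback.of_hasPullback _ _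
  have sq : IsPullback l (pullback.snd f (a ≫ r)) (pullback.snd f r) a :=
    IsPullback.of_right big hl2 (IsPullback.of_hasPullback f r)
  exact MorphismProperty.of_isPullback sq h

/-- the generic `K`-point of `Spec A` hits the generic point -/
theorem gen_closedPoint (A : Type u) [CommRing A] [IsDomain A] :
    (Spec.map (CommRingCat.ofHom (algebraMap A (FractionRing A)))).base
      (IsLocalRing.closedPoint (FractionRing A)) = genericPoint (Spec (CommRingCat.of A)) := by
  rw [genericPoint_eq_bot_of_affine]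
  apply PrimeSpectrum.ext
  show Ideal.comap (algebraMap A (FractionRing A)) (IsLocalRing.maximalIdeal (FractionRing A)) = ⊥
  rw [IsLocalRing.maximalIdeal_eq_bot, ← RingHom.ker_eq_comap_bot,
    (RingHom.injective_iff_ker_eq_bot _).mp (IsFractionRing.injective A (FractionRing A))]

set_option maxHeartbeats 3200000 in
theorem dvrAtMax_of_sections {X Y : Scheme.{u}} [IsLocallyNoetherian Y] (f : X ⟶ Y) (Z : Set X)
    (hZ : ∀ z ∈ closure Z, (∀ z' ∈ closure Z, z ∈ closure {z'} → z' = z) → z ∈ Z) (y : Y)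
    (H : ∀ (A' : Type u) [CommRing A'] [IsDomain A'] [IsDiscreteValuationRing A']
        (g : Spec (CommRingCat.of A') ⟶ Y),
        g.base (IsLocalRing.closedPoint A') = y →
        ∀ x' : ↥(pullback f g), (pullback.fst f g).base x' ∈ Z →
          (pullback.snd f g).base x' = genericPoint (Spec (CommRingCat.of A')) →
          Function.Bijective ((pullback.snd f g).residueFieldMap x').hom →
          ∃ s : Spec (CommRingCat.of A') ⟶ pullback f g, s ≫ pullback.snd f g = 𝟙 _ ∧
            x' ∈ Set.range s.base) :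
    DvrAtMax (pullback.snd ((Scheme.IdealSheafData.vanishingIdeal
      (⟨closure Z, isClosed_closure⟩ : Closeds X)).subschemeι ≫ f) (Y.fromSpecStalk y))
      (IsLocalRing.closedPoint (Y.presheaf.stalk y)) := by
  intro A _ _ _ hA x hcl hmax hx
  let T : Closeds X := ⟨closure Z, isClosed_closure⟩
  let IT := Scheme.IdealSheafData.vanishingIdeal T
  let ιT : IT.subscheme ⟶ X := IT.subschemeι
  have hrange : Set.range ιT.base = closure Z := range_redι (closure Z) isClosed_closure
  let fss := Y.fromSpecStalk y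
  let fT := ιT ≫ f
  let q := pullback.fst fT fss
  let gen := Spec.map (CommRingCat.ofHom (algebraMap A (FractionRing A)))
  let pt : ↥(Spec (CommRingCat.of (FractionRing A))) := IsLocalRing.closedPoint (FractionRing A)
  let g := hA ≫ fss
  have hg : g.base (IsLocalRing.closedPoint A) = y :=
    (congrArg fss.base hcl).trans (Y.fromSpecStalk_closedPoint (x := y))
  let x₀ : Spec (CommRingCat.of (FractionRing A)) ⟶ X := x ≫ q ≫ ιT
  have hcond : q ≫ fT = pullback.snd fT fss ≫ fss := pullback.condition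
  have hx₀ : x₀ ≫ f = gen ≫ g :=
    calc x₀ ≫ f = x ≫ (q ≫ fT) := by simp only [x₀, fT, Category.assoc]
      _ = (x ≫ pullback.snd fT fss) ≫ fss := by rw [hcond, Category.assoc]
      _ = gen ≫ g := by rw [hx, Category.assoc]
  let σ : Spec (CommRingCat.of (FractionRing A)) ⟶ pullback f g := pullback.lift x₀ gen hx₀
  have hσ1 : σ ≫ pullback.fst f g = x₀ := pullback.lift_fst _ _ _
  have hσ2 : σ ≫ pullback.snd f g = gen := pullback.lift_snd _ _ _
  -- the point `q (x pt)` is maximal
  have hqmax : IsMaxPt (q.base (x.base pt)) := by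
    haveI : Flat fss := flat_fromSpecStalk Y y
    haveI : Flat q := inferInstance
    intro t₁ ht₁
    obtain ⟨t', ht', rfl⟩ := (Flat.generalizingMap q) ht₁
    rw [hmax t' ht']
  have hZmem : (pullback.fst f g).base (σ.base pt) ∈ Z := by
    have h1 : (pullback.fst f g).base (σ.base pt) = ιT.base (q.base (x.base pt)) :=
      congrArg (fun φ : Spec (CommRingCat.of (FractionRing A)) ⟶ X => φ.base pt) hσ1
    rw [h1]
    apply hZ
    · exact hrange.subset ⟨_, rfl⟩
    · intro z' hz' hcl'
      obtain ⟨t', rfl⟩ := hrange.symm.subset hz'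
      have : t' ⤳ q.base (x.base pt) := by
        rw [← ιT.isClosedEmbedding.isInducing.specializes_iff, specializes_iff_mem_closure]
        exact hcl'
      rw [hqmax t' this]
  have hgenpt : (pullback.snd f g).base (σ.base pt) = genericPoint (Spec (CommRingCat.of A)) := by
    have h1 : (pullback.snd f g).base (σ.base pt) = gen.base pt :=
      congrArg (fun φ : Spec (CommRingCat.of (FractionRing A)) ⟶ Spec (CommRingCat.of A) =>
        φ.base pt) hσ2
    rw [h1]; exact gen_closedPoint A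
  have hsurj := residueFieldMap_surjective_of_comp_eq (pullback.snd f g) σ hσ2
  obtain ⟨s, hs1, a, ha⟩ := H A g hg (σ.base pt) hZmem hgenpt ⟨RingHom.injective _, hsurj⟩
  -- the section restricts to `σ`
  have hsσ : gen ≫ s = σ := by
    refine eq_of_residueFieldMap_surjective (pullback.snd f g) (gen ≫ s) σ (σ.base pt) ?_ rfl ?_
      hsurj
    · have h2 : a = gen.base pt := by
        have h3 : (pullback.snd f g).base (s.base a) = a :=
          congrArg (fun φ : Spec (CommRingCat.of A) ⟶ Spec (CommRingCat.of A) => φ.base a) hs1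
        rw [ha] at h3
        rw [← h3]
        exact congrArg (fun φ : Spec (CommRingCat.of (FractionRing A)) ⟶ Spec (CommRingCat.of A) =>
          φ.base pt) hσ2
      rw [← ha, h2]; rfl
    · rw [Category.assoc, hs1, Category.comp_id, hσ2]
  -- the induced morphism to `X` factors through the reduced closure
  let l₀ : Spec (CommRingCat.of A) ⟶ X := s ≫ pullback.fst f g
  have hl₀gen : gen ≫ l₀ = x₀ := by
    simp only [l₀]; rw [← Category.assoc, hsσ, hσ1]
  have hl₀range : Set.range l₀.base ⊆ (T : Set X) := by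
    rintro _ ⟨b, rfl⟩
    have h1 : genericPoint (Spec (CommRingCat.of A)) ⤳ b := genericPoint_specializes b
    have h2 := h1.map l₀.continuous
    rw [← gen_closedPoint A] at h2
    have h3 : l₀.base (gen.base pt) = ιT.base (q.base (x.base pt)) :=
      congrArg (fun φ : Spec (CommRingCat.of (FractionRing A)) ⟶ X => φ.base pt) hl₀gen
    have h4 : l₀.base (gen.base pt) ∈ closure Z := by rw [h3]; exact hrange.subset ⟨_, rfl⟩
    exact h2.mem_closed isClosed_closure h4
  obtain ⟨lT, hlT⟩ := exists_lift_vanishingIdeal l₀ T hl₀range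
  have hlTf : lT ≫ fT = hA ≫ fss := by
    simp only [fT]
    rw [← Category.assoc, hlT]
    simp only [l₀]
    rw [Category.assoc, pullback.condition, ← Category.assoc, hs1, Category.id_comp]
  refine ⟨pullback.lift lT hA hlTf, pullback.lift_snd _ _ _, ?_⟩
  apply pullback.hom_ext
  · rw [Category.assoc, pullback.lift_fst, ← cancel_mono ιT, Category.assoc, hlT, hl₀gen]
    rfl
  · rw [Category.assoc, pullback.lift_snd]
    exact hx.symm

theorem range_morphismRestrict {X Y : Scheme.{u}} (g : X ⟶ Y) (V : Y.Opens) :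
    Set.range (g ∣_ V).base = V.ι.base ⁻¹' Set.range g.base := by
  have hcomp : ∀ a : (g ⁻¹ᵁ V).toScheme, V.ι.base ((g ∣_ V).base a) = g.base ((g ⁻¹ᵁ V).ι.base a) := by
    intro a
    exact congrArg (fun φ : (g ⁻¹ᵁ V).toScheme ⟶ Y => φ.base a) (morphismRestrict_ι g V)
  ext a
  constructor
  · rintro ⟨b, rfl⟩
    exact ⟨(g ⁻¹ᵁ V).ι.base b, (hcomp b).symm⟩
  · rintro ⟨t, ht⟩
    have htV : t ∈ g ⁻¹ᵁ V := by
      show g.base t ∈ V
      rw [ht, ← SetLike.mem_coe, ← Scheme.Opens.range_ι]; exact ⟨a, rfl⟩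
    obtain ⟨b, hb⟩ : ∃ b : (g ⁻¹ᵁ V).toScheme, (g ⁻¹ᵁ V).ι.base b = t := by
      have : t ∈ Set.range (g ⁻¹ᵁ V).ι.base := by rw [Scheme.Opens.range_ι]; exact htV
      exact this
    refine ⟨b, V.ι.isOpenEmbedding.injective ?_⟩
    rw [hcomp, hb, ht]

set_option maxHeartbeats 1600000 in
theorem main_mpr {X Y : Scheme.{u}} [IsNoetherian Y] (f : X ⟶ Y) [IsSeparated f]
    [LocallyOfFiniteType f] [QuasiCompact f] (Z : Set X)
    (hZ : ∀ z ∈ closure Z, (∀ z' ∈ closure Z, z ∈ closure {z'} → z' = z) → z ∈ Z) (y : Y)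
    (H : ∀ (A' : Type u) [CommRing A'] [IsDomain A'] [IsDiscreteValuationRing A']
        (g : Spec (CommRingCat.of A') ⟶ Y),
        g.base (IsLocalRing.closedPoint A') = y →
        ∀ x' : ↥(pullback f g), (pullback.fst f g).base x' ∈ Z →
          (pullback.snd f g).base x' = genericPoint (Spec (CommRingCat.of A')) →
          Function.Bijective ((pullback.snd f g).residueFieldMap x').hom →
          ∃ s : Spec (CommRingCat.of A') ⟶ pullback f g, s ≫ pullback.snd f g = 𝟙 _ ∧
            x' ∈ Set.range s.base) :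
    ∃ U : Y.Opens, y ∈ U ∧ ∃ hC : IsClosed ((f ⁻¹ᵁ U).ι.base ⁻¹' closure Z),
      IsProper ((Scheme.IdealSheafData.vanishingIdeal
        (⟨(f ⁻¹ᵁ U).ι.base ⁻¹' closure Z, hC⟩ : TopologicalSpace.Closeds ↥(f ⁻¹ᵁ U))).subschemeι ≫
          (f ∣_ U)) := by
  let T : Closeds X := ⟨closure Z, isClosed_closure⟩
  let IT := Scheme.IdealSheafData.vanishingIdeal T
  let ιT : IT.subscheme ⟶ X := IT.subschemeι
  have hrangeT : Set.range ιT.base = closure Z := range_redι (closure Z) isClosed_closure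
  let fT := ιT ≫ f
  let fss := Y.fromSpecStalk y
  have hD := dvrAtMax_of_sections f Z hZ y H
  have hproper : IsProper (pullback.snd fT fss) := by
    refine isProper_of_dvrAtMax (pullback.snd fT fss)
      (IsLocalRing.closedPoint (Y.presheaf.stalk y)) ?_ hD
    intro F hF hne
    by_contra hb
    have h1 : (⟨Fᶜ, hF.isOpen_compl⟩ : TopologicalSpace.Opens (PrimeSpectrum (Y.presheaf.stalk y)))
        = ⊤ := (IsLocalRing.closedPoint_mem_iff (U := ⟨Fᶜ, hF.isOpen_compl⟩)).mp hb
    obtain ⟨z, hz⟩ := hne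
    have h2 : z ∈ (⟨Fᶜ, hF.isOpen_compl⟩ : TopologicalSpace.Opens
      (PrimeSpectrum (Y.presheaf.stalk y))) := by rw [h1]; trivial
    exact h2 hz
  have hP : IsProper (pullback.snd fT (pullback.fst (𝟙 Y) fss)) :=
    baseChange_comp @IsProper fT fss (pullback.snd (𝟙 Y) fss) _
      (by rw [← pullback.condition, Category.comp_id]) hproper
  obtain ⟨W, hW, hPW⟩ := exists_nhd_of_stalk @IsProper descends_isProper Y fT (𝟙 Y) y hP
  have hPW' : IsProper (fT ∣_ W) := hPW
  have hC : IsClosed ((f ⁻¹ᵁ W).ι.base ⁻¹' closure Z) :=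
    isClosed_closure.preimage (f ⁻¹ᵁ W).ι.continuous
  refine ⟨W, hW, hC, ?_⟩
  let i := ιT ∣_ (f ⁻¹ᵁ W)
  haveI : IsClosedImmersion i := inferInstance
  have hi : i ≫ (f ∣_ W) = fT ∣_ W := (morphismRestrict_comp ιT f W).symm
  have hrange : Set.range i.base = (f ⁻¹ᵁ W).ι.base ⁻¹' closure Z := by
    rw [range_morphismRestrict, hrangeT]
  refine (isProper_iff_of_range_eq (f ∣_ W) i _ hC hrange).mp ?_
  rw [hi]
  exact hPW'

set_option maxHeartbeats 1600000 in
theorem main_mp {X Y : Scheme.{u}} (f : X ⟶ Y) (Z : Set X) (y : Y)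
    (U : Y.Opens) (hyU : y ∈ U) (hC : IsClosed ((f ⁻¹ᵁ U).ι.base ⁻¹' closure Z))
    (hprop : IsProper ((Scheme.IdealSheafData.vanishingIdeal
        (⟨(f ⁻¹ᵁ U).ι.base ⁻¹' closure Z, hC⟩ : TopologicalSpace.Closeds ↥(f ⁻¹ᵁ U))).subschemeι ≫
          (f ∣_ U)))
    (A' : Type u) [CommRing A'] [IsDomain A'] [IsDiscreteValuationRing A']
    (g : Spec (CommRingCat.of A') ⟶ Y) (hg : g.base (IsLocalRing.closedPoint A') = y)
    (x' : ↥(pullback f g)) (hx'Z : (pullback.fst f g).base x' ∈ Z)
    (hx'η : (pullback.snd f g).base x' = genericPoint (Spec (CommRingCat.of A')))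
    (hbij : Function.Bijective ((pullback.snd f g).residueFieldMap x').hom) :
    ∃ s : Spec (CommRingCat.of A') ⟶ pullback f g, s ≫ pullback.snd f g = 𝟙 _ ∧
      x' ∈ Set.range s.base := by
  let gen := Spec.map (CommRingCat.ofHom (algebraMap A' (FractionRing A')))
  let pt : ↥(Spec (CommRingCat.of (FractionRing A'))) := IsLocalRing.closedPoint (FractionRing A')
  let red : (f ⁻¹ᵁ U).toScheme.IdealSheafData :=
    Scheme.IdealSheafData.vanishingIdeal (X := (f ⁻¹ᵁ U).toScheme)
      (⟨(f ⁻¹ᵁ U).ι.base ⁻¹' closure Z, hC⟩ : TopologicalSpace.Closeds ↥(f ⁻¹ᵁ U))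
  let ρ : red.subscheme ⟶ (f ⁻¹ᵁ U).toScheme := red.subschemeι
  -- `g` factors through `U`
  have hgU : Set.range g.base ⊆ Set.range U.ι.base := by
    rintro _ ⟨a, rfl⟩
    rw [Scheme.Opens.range_ι]
    have h1 : a ⤳ IsLocalRing.closedPoint A' := IsLocalRing.specializes_closedPoint a
    have h2 := h1.map g.continuous
    rw [hg] at h2
    exact h2.mem_open U.2 hyU
  let gU : Spec (CommRingCat.of A') ⟶ U.toScheme := IsOpenImmersion.lift U.ι g hgU
  have hgU' : gU ≫ U.ι = g := IsOpenImmersion.lift_fac _ _ _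
  -- the `K`-point
  obtain ⟨σ, hσpt, hσ⟩ := exists_kpoint_of_bijective (K := FractionRing A') (pullback.snd f g) x'
    ((gen_closedPoint A').trans hx'η.symm) hbij
  let σX := σ ≫ pullback.fst f g
  have hσXf : σX ≫ f = gen ≫ g := by
    simp only [σX]; rw [Category.assoc, pullback.condition, ← Category.assoc, hσ]
  have hσXU : Set.range σX.base ⊆ Set.range (f ⁻¹ᵁ U).ι.base := by
    rintro _ ⟨a, rfl⟩
    rw [Scheme.Opens.range_ι]
    show f.base (σX.base a) ∈ U
    have : f.base (σX.base a) = g.base (gen.base a) :=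
      congrArg (fun φ : Spec (CommRingCat.of (FractionRing A')) ⟶ Y => φ.base a) hσXf
    rw [this, ← SetLike.mem_coe, ← Scheme.Opens.range_ι]
    exact hgU ⟨_, rfl⟩
  let σU : Spec (CommRingCat.of (FractionRing A')) ⟶ (f ⁻¹ᵁ U).toScheme :=
    IsOpenImmersion.lift (f ⁻¹ᵁ U).ι σX hσXU
  have hσU : σU ≫ (f ⁻¹ᵁ U).ι = σX := IsOpenImmersion.lift_fac _ _ _
  have hσUrange : Set.range σU.base ⊆ (f ⁻¹ᵁ U).ι.base ⁻¹' closure Z := by
    rintro _ ⟨a, rfl⟩
    show (f ⁻¹ᵁ U).ι.base (σU.base a) ∈ closure Z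
    have h1 : (f ⁻¹ᵁ U).ι.base (σU.base a) = σX.base a :=
      congrArg (fun φ : Spec (CommRingCat.of (FractionRing A')) ⟶ X => φ.base a) hσU
    have h2 : a = pt := Subsingleton.elim _ _
    rw [h1, h2]
    apply subset_closure
    have h3 : σX.base pt = (pullback.fst f g).base (σ.base pt) := rfl
    rw [h3, hσpt]
    exact hx'Z
  obtain ⟨i₁, hi₁⟩ := exists_lift_vanishingIdeal (X := (f ⁻¹ᵁ U).toScheme) σU
    (⟨(f ⁻¹ᵁ U).ι.base ⁻¹' closure Z, hC⟩ : TopologicalSpace.Closeds ↥(f ⁻¹ᵁ U)) hσUrange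
  -- the valuative square
  have hsq : i₁ ≫ (ρ ≫ (f ∣_ U)) = gen ≫ gU := by
    rw [← cancel_mono U.ι, Category.assoc, Category.assoc, morphismRestrict_ι, ← Category.assoc,
      ← Category.assoc, hi₁, hσU, hσXf, Category.assoc, hgU']
  have hE : ValuativeCriterion.Existence (ρ ≫ (f ∣_ U)) := by
    have : UniversallyClosed (ρ ≫ (f ∣_ U)) := inferInstance
    rw [UniversallyClosed.eq_valuativeCriterion] at this
    exact this.1
  let S₁ : ValuativeCommSq (ρ ≫ (f ∣_ U)) :=
    { R := A', K := FractionRing A', i₁ := i₁, i₂ := gU, commSq := ⟨hsq⟩ }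
  obtain ⟨⟨l, hl1, hl2⟩⟩ := hE S₁
  let lX : Spec (CommRingCat.of A') ⟶ X := l ≫ ρ ≫ (f ⁻¹ᵁ U).ι
  have hlXf : lX ≫ f = 𝟙 _ ≫ g := by
    simp only [lX, Category.assoc]
    rw [← morphismRestrict_ι, ← Category.assoc, ← Category.assoc, Category.assoc l, hl2, hgU',
      Category.id_comp]
  refine ⟨pullback.lift lX (𝟙 _) hlXf, pullback.lift_snd _ _ _, ?_⟩
  have hgens : gen ≫ pullback.lift lX (𝟙 _) hlXf = σ := by
    apply pullback.hom_ext
    · rw [Category.assoc, pullback.lift_fst]
      simp only [lX]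
      rw [← Category.assoc, hl1, ← Category.assoc, hi₁, hσU]
    · rw [Category.assoc, pullback.lift_snd, Category.comp_id, hσ]
  rw [← hσpt, ← hgens]
  exact ⟨gen.base pt, rfl⟩

theorem main {X Y : Scheme.{u}} [IsNoetherian Y] (f : X ⟶ Y) [IsSeparated f]
    [LocallyOfFiniteType f] [QuasiCompact f] (Z : Set X)
    (hZ : ∀ z ∈ closure Z, (∀ z' ∈ closure Z, z ∈ closure {z'} → z' = z) → z ∈ Z) (y : Y) :
    (∃ U : Y.Opens, y ∈ U ∧ ∃ hC : IsClosed ((f ⁻¹ᵁ U).ι.base ⁻¹' closure Z),
      IsProper ((Scheme.IdealSheafData.vanishingIdeal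
        (⟨(f ⁻¹ᵁ U).ι.base ⁻¹' closure Z, hC⟩ : TopologicalSpace.Closeds ↥(f ⁻¹ᵁ U))).subschemeι ≫ (f ∣_ U))) ↔
      ∀ (A' : Type u) [CommRing A'] [IsDomain A'] [IsDiscreteValuationRing A'] (g : Spec (CommRingCat.of A') ⟶ Y),
        g.base (IsLocalRing.closedPoint A') = y →
        ∀ x' : ↥(pullback f g), (pullback.fst f g).base x' ∈ Z →
          (pullback.snd f g).base x' = genericPoint (Spec (CommRingCat.of A')) →
          Function.Bijective ((pullback.snd f g).residueFieldMap x').hom →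
          ∃ s : Spec (CommRingCat.of A') ⟶ pullback f g, s ≫ pullback.snd f g = 𝟙 _ ∧ x' ∈ Set.range s.base :=
  ⟨fun ⟨U, hyU, hC, hprop⟩ A' _ _ _ g hg x' h1 h2 h3 =>
      main_mp f Z y U hyU hC hprop A' g hg x' h1 h2 h3,
    fun H => main_mpr f Z hZ y H⟩


end helpers

open CategoryTheory.Limits in
/-- Let Y be a Noetherian scheme, f : X ⟶ Y a separated morphism of finite type, Z a subset of X such
that every maximal point of the closure of Z belongs to Z, and y a point of Y. Then the closure of Z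
is proper over Y at y (for some open U ∋ y, its trace on f⁻¹(U) is proper over U with the reduced
structure) if and only if: for every discrete valuation ring A' and every morphism g : Spec A' ⟶ Y
mapping the closed point to y, every point x' of X' = X ×_Y Spec A' which projects into Z, lies over
the generic point η' of Spec A' and is rational over κ(η') is in the image of some section of X' ⟶
Spec A'. -/
theorem result {X Y : Scheme.{u}} [IsNoetherian Y] (f : X ⟶ Y) [IsSeparated f]
    [LocallyOfFiniteType f] [QuasiCompact f] (Z : Set X)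
    (hZ : ∀ z ∈ closure Z, (∀ z' ∈ closure Z, z ∈ closure {z'} → z' = z) → z ∈ Z) (y : Y) :
    (∃ U : Y.Opens, y ∈ U ∧ ∃ hC : IsClosed ((f ⁻¹ᵁ U).ι.base ⁻¹' closure Z),
      IsProper ((Scheme.IdealSheafData.vanishingIdeal
        (⟨(f ⁻¹ᵁ U).ι.base ⁻¹' closure Z, hC⟩ : TopologicalSpace.Closeds ↥(f ⁻¹ᵁ U))).subschemeι ≫ (f ∣_ U))) ↔
      ∀ (A' : Type u) [CommRing A'] [IsDomain A'] [IsDiscreteValuationRing A'] (g : Spec (CommRingCat.of A') ⟶ Y),
        g.base (IsLocalRing.closedPoint A') = y →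
        ∀ x' : ↥(pullback f g), (pullback.fst f g).base x' ∈ Z →
          (pullback.snd f g).base x' = genericPoint (Spec (CommRingCat.of A')) →
          Function.Bijective ((pullback.snd f g).residueFieldMap x').hom →
          ∃ s : Spec (CommRingCat.of A') ⟶ pullback f g, s ≫ pullback.snd f g = 𝟙 _ ∧ x' ∈ Set.range s.base := by
  exact main f Z hZ y

end Groth.Agent.S4978
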