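import Groth.Statements.S4987
-- import your own Groth.Agent.* helpers here

set_option autoImplicit false
universe u
open CategoryTheory CategoryTheory.Limits AlgebraicGeometry TopologicalSpace
open Unram17

namespace Groth.Agent.S4987

/-- The open locus where two morphisms into an unramified scheme agree. -/
noncomputable def eqLocus {X Y S : Scheme.{u}} (h : Y ⟶ S)
    [FormallyUnramified h] [LocallyOfFiniteType h] (f g : X ⟶ Y) (w : g ≫ h = f ≫ h) : X.Opens :=
  (pullback.lift f g w.symm) ⁻¹ᵁ (pullback.diagonal h).opensRange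

lemma eqLocus_ι_comp {X Y S : Scheme.{u}} (h : Y ⟶ S)
    [FormallyUnramified h] [LocallyOfFiniteType h] (f g : X ⟶ Y) (w : g ≫ h = f ≫ h) :
    (eqLocus h f g w).ι ≫ f = (eqLocus h f g w).ι ≫ g := by
  let E := eqLocus h f g w
  let p := pullback.lift f g w.symm
  let l : (E : Scheme) ⟶ Y := IsOpenImmersion.lift (pullback.diagonal h) (E.ι ≫ p) (by
    rintro _ ⟨e, rfl⟩
    rw [Scheme.Hom.comp_apply]
    exact e.2)
  have hl : l ≫ pullback.diagonal h = E.ι ≫ p := IsOpenImmersion.lift_fac _ _ _
  have h1 : E.ι ≫ f = l := by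
    have := congrArg (· ≫ pullback.fst h h) hl
    simp only [Category.assoc, pullback.diagonal_fst, Category.comp_id, p, pullback.lift_fst] at this
    exact this.symm
  have h2 : E.ι ≫ g = l := by
    have := congrArg (· ≫ pullback.snd h h) hl
    simp only [Category.assoc, pullback.diagonal_snd, Category.comp_id, p, pullback.lift_snd] at this
    exact this.symm
  exact h1.trans h2.symm

lemma mem_eqLocus_of_fiber {X Y S : Scheme.{u}} (h : Y ⟶ S)
    [FormallyUnramified h] [LocallyOfFiniteType h] (f g : X ⟶ Y) (w : g ≫ h = f ≫ h) (s : ↥S)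
    (hs : (f ≫ h).fiberι s ≫ f = (f ≫ h).fiberι s ≫ g) (x : X) (hx : (f ≫ h) x = s) :
    x ∈ eqLocus h f g w := by
  have hx' : x ∈ Set.range ((f ≫ h).fiberι s) := by
    rw [Scheme.Hom.range_fiberι]; exact hx
  obtain ⟨z, rfl⟩ := hx'
  have hp : (f ≫ h).fiberι s ≫ pullback.lift f g w.symm =
      ((f ≫ h).fiberι s ≫ f) ≫ pullback.diagonal h := by
    apply pullback.hom_ext
    · rw [Category.assoc, pullback.lift_fst, Category.assoc, pullback.diagonal_fst,
        Category.comp_id]
    · rw [Category.assoc, pullback.lift_snd, Category.assoc, pullback.diagonal_snd,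
        Category.comp_id, hs]
  change (pullback.lift f g w.symm) ((f ≫ h).fiberι s z) ∈ Set.range (pullback.diagonal h)
  rw [← Scheme.Hom.comp_apply, hp, Scheme.Hom.comp_apply]
  exact ⟨_, rfl⟩

lemma eq_on_preimage_of_le {X Y S : Scheme.{u}} (h : Y ⟶ S)
    [FormallyUnramified h] [LocallyOfFiniteType h] (f g : X ⟶ Y) (w : g ≫ h = f ≫ h)
    (W : X.Opens) (hW : W ≤ eqLocus h f g w) : W.ι ≫ f = W.ι ≫ g := by
  rw [← X.homOfLE_ι hW, Category.assoc, Category.assoc, eqLocus_ι_comp]

/-- Let h : Y ⟶ S be formally unramified and locally of finite type, let f, g : X ⟶ Y be two morphisms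
over S whose common composite X ⟶ S is closed as a map of topological spaces, and let s be a point
of S such that f and g have the same restriction to the scheme-theoretic fibre of X over s. Then
there is an open neighbourhood V of s such that f and g agree on the preimage of V. -/
theorem result {X Y S : Scheme.{u}} (h : Y ⟶ S)
    [FormallyUnramified h] [LocallyOfFiniteType h] (f g : X ⟶ Y) (w : g ≫ h = f ≫ h)
    (hc : IsClosedMap (f ≫ h).base) (s : ↥S)
    (hs : (f ≫ h).fiberι s ≫ f = (f ≫ h).fiberι s ≫ g) :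
    ∃ V : S.Opens, s ∈ V ∧ ((f ≫ h) ⁻¹ᵁ V).ι ≫ f = ((f ≫ h) ⁻¹ᵁ V).ι ≫ g := by
  let E := eqLocus h f g w
  let C : Set S := (f ≫ h) '' (E : Set X)ᶜ
  have hC : IsClosed C := hc _ E.isOpen.isClosed_compl
  have hsC : s ∉ C := by
    rintro ⟨x, hxE, hx⟩
    exact hxE (mem_eqLocus_of_fiber h f g w s hs x hx)
  refine ⟨⟨Cᶜ, hC.isOpen_compl⟩, hsC, ?_⟩
  apply eq_on_preimage_of_le h f g w
  intro x hx
  by_contra hxE
  exact hx ⟨x, hxE, rfl⟩

end Groth.Agent.S4987
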