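import Groth.Statements.S4988
-- import your own Groth.Agent.* helpers here
import Groth.Agent.S4987

set_option autoImplicit false
universe u
open CategoryTheory CategoryTheory.Limits AlgebraicGeometry TopologicalSpace
open Unram17

namespace Groth.Agent.S4988

/-- Let h : Y ⟶ S be formally unramified, locally of finite type and separated, let f, g : X ⟶ Y be
morphisms over S whose common composite X ⟶ S is both open and closed as a map of topological
spaces, and let s be a point of S. If f and g have the same restriction to the scheme-theoretic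
fibre of X over s, then there is an open and closed subset V of S containing s such that f and g
agree on the preimage of V; in particular f = g when S is connected. -/
theorem result {X Y S : Scheme.{u}} (h : Y ⟶ S)
    [FormallyUnramified h] [LocallyOfFiniteType h] [IsSeparated h]
    (f g : X ⟶ Y) (w : g ≫ h = f ≫ h)
    (ho : IsOpenMap (f ≫ h).base) (hc : IsClosedMap (f ≫ h).base) (s : ↥S)
    (hs : (f ≫ h).fiberι s ≫ f = (f ≫ h).fiberι s ≫ g) :
    ∃ V : S.Opens, IsClosed (V : Set ↥S) ∧ s ∈ V ∧
      ((f ≫ h) ⁻¹ᵁ V).ι ≫ f = ((f ≫ h) ⁻¹ᵁ V).ι ≫ g := by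
  let E := Groth.Agent.S4987.eqLocus h f g w
  have hEclosed : IsClosed (E : Set X) := by
    have hr : IsClosed (Set.range (pullback.diagonal h)) :=
      (pullback.diagonal h).isClosedEmbedding.isClosed_range
    exact hr.preimage (pullback.lift f g w.symm).continuous
  let C : Set S := (f ≫ h) '' (E : Set X)ᶜ
  have hC : IsClosed C := hc _ E.isOpen.isClosed_compl
  have hCo : IsOpen C := ho _ hEclosed.isOpen_compl
  have hsC : s ∉ C := by
    rintro ⟨x, hxE, hx⟩
    exact hxE (Groth.Agent.S4987.mem_eqLocus_of_fiber h f g w s hs x hx)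
  refine ⟨⟨Cᶜ, hC.isOpen_compl⟩, hCo.isClosed_compl, hsC, ?_⟩
  apply Groth.Agent.S4987.eq_on_preimage_of_le h f g w
  intro x hx
  by_contra hxE
  exact hx ⟨x, hxE, rfl⟩

end Groth.Agent.S4988
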