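import Groth.Statements.S4989
import Mathlib
import Groth.Agent.Lib.Helper22.SmoothStalk
-- import your own Groth.Agent.* helpers here

set_option autoImplicit false
universe u
open CategoryTheory CategoryTheory.Limits AlgebraicGeometry TopologicalSpace
open Unram17

namespace Groth.Agent.S4989

/-- Let f : X ⟶ Y be locally of finite presentation and smooth at a point x with image y. Then the local
ring of X at x is reduced if and only if the local ring of Y at y is reduced, and it is an
integrally closed domain if and only if the local ring of Y at y is one. (The published statement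
also covers geometrically unibranch local rings; this row states only the reduced and the integrally
closed cases.) -/
theorem result {X Y : Scheme.{u}} (f : X ⟶ Y)
    [LocallyOfFinitePresentation f] (x : ↥X) (hx : x ∈ f.smoothLocus) :
    (IsReduced ↑(X.presheaf.stalk x) ↔ IsReduced ↑(Y.presheaf.stalk (f.base x))) ∧
    ((IsDomain ↑(X.presheaf.stalk x) ∧ IsIntegrallyClosed ↑(X.presheaf.stalk x)) ↔
      (IsDomain ↑(Y.presheaf.stalk (f.base x)) ∧ IsIntegrallyClosed ↑(Y.presheaf.stalk (f.base x)))) := by
  obtain ⟨U, hU, V, hV, hVU, hxV, H⟩ :=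
    AlgebraicGeometry.exists_smooth_of_formallySmooth_stalk f x hx
  algebraize [(f.appLE U V hVU).hom]
  haveI : Algebra.Smooth Γ(Y, U) Γ(X, V) := RingHom.smooth_algebraMap.mp H
  let algR := Y.presheaf.algebra_section_stalk ⟨f x, hVU hxV⟩
  have hlocR := hU.isLocalization_stalk ⟨f x, hVU hxV⟩
  let algS := X.presheaf.algebra_section_stalk ⟨x, hxV⟩
  have hlocS := hV.isLocalization_stalk ⟨x, hxV⟩
  exact Groth.Agent.Lib.Helper22.SmoothStalk.main_alg (A := Γ(Y, U)) (C := Γ(X, V))
    (hU.primeIdealOf ⟨f x, hVU hxV⟩).asIdeal (Y.presheaf.stalk (f x))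
    (hV.primeIdealOf ⟨x, hxV⟩).asIdeal
    congr($(IsAffineOpen.comap_primeIdealOf_appLE U hU V hV hVU hxV).1) (X.presheaf.stalk x)

end Groth.Agent.S4989
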