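import Groth.Statements.S4998
import Mathlib.RingTheory.Etale.Field
import Mathlib.RingTheory.Unramified.Finite
import Mathlib.RingTheory.Artinian.Module
import Mathlib.Algebra.Squarefree.Basic
import Mathlib.RingTheory.PrincipalIdealDomain

set_option autoImplicit false
universe u
open Unram17

namespace Groth.Agent.S4998

open Polynomial in
theorem isSeparable_pi {k : Type u} [Field k] {I : Type u} [Finite I] (Ai : I → Type u)
    [∀ i, Field (Ai i)] [∀ i, Algebra k (Ai i)] (h : ∀ i, Algebra.IsSeparable k (Ai i)) :
    Algebra.IsSeparable k (∀ i, Ai i) := by
  classical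
  cases nonempty_fintype I
  refine ⟨fun a => ?_⟩
  let S : Finset k[X] := Finset.univ.image (fun i => minpoly k (a i))
  have hint : ∀ i, IsIntegral k (a i) := fun i => Algebra.IsSeparable.isIntegral k (a i)
  have hsep : (∏ p ∈ S, p).Separable := by
    apply Polynomial.separable_prod' (f := fun p : k[X] => p)
    · intro p hp q hq hpq
      simp only [S, Finset.mem_image, Finset.mem_univ, true_and] at hp hq
      obtain ⟨i, rfl⟩ := hp
      obtain ⟨j, rfl⟩ := hq
      have hi := minpoly.irreducible (hint i)
      have hj := minpoly.irreducible (hint j)
      rcases hi.isCoprime_or_dvd (minpoly k (a j)) with h | h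
      · exact h
      · exfalso
        apply hpq
        exact Polynomial.eq_of_monic_of_associated (minpoly.monic (hint i))
          (minpoly.monic (hint j)) (hi.associated_of_dvd hj h)
    · intro p hp
      simp only [S, Finset.mem_image, Finset.mem_univ, true_and] at hp
      obtain ⟨i, rfl⟩ := hp
      exact Algebra.IsSeparable.isSeparable k (a i)
  have hzero : Polynomial.aeval a (∏ p ∈ S, p) = 0 := by
    funext i
    have h1 : (Polynomial.aeval a (∏ p ∈ S, p)) i =
        Polynomial.aeval (a i) (∏ p ∈ S, p) := by
      have := Polynomial.aeval_algHom_apply (Pi.evalAlgHom k Ai i) a (∏ p ∈ S, p)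
      simpa using this.symm
    rw [h1, Pi.zero_apply]
    have hmem : minpoly k (a i) ∈ S := Finset.mem_image_of_mem _ (Finset.mem_univ i)
    exact Polynomial.aeval_eq_zero_of_dvd_aeval_eq_zero (Finset.dvd_prod_of_mem _ hmem)
      (minpoly.aeval k (a i))
  exact hsep.of_dvd (minpoly.dvd k a hzero)

/-- Let A be an algebra of finite type over a field k. Then A is formally unramified over k if and only
if A is finite over k and every element of A has separable minimal polynomial over k (equivalently,
A is a finite product of finite separable extensions of k). -/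
theorem result (k A : Type u) [Field k] [CommRing A]
    [Algebra k A] [Algebra.FiniteType k A] :
    Algebra.FormallyUnramified k A ↔ Module.Finite k A ∧ Algebra.IsSeparable k A := by
  constructor
  · intro h
    have hfin : Module.Finite k A := Algebra.FormallyUnramified.finite_of_free k A
    refine ⟨hfin, ?_⟩
    have het : Algebra.FormallyEtale k A := Algebra.FormallyEtale.of_formallyUnramified_of_field k A
    obtain ⟨I, _, Ai, _, _, e, hsep⟩ := (Algebra.FormallyEtale.iff_exists_algEquiv_prod k A).mp het
    have := isSeparable_pi Ai hsep
    exact AlgEquiv.Algebra.isSeparable e.symm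
  · rintro ⟨hfin, hsep⟩
    have hart : IsArtinianRing A := .of_finite k A
    have hred : IsReduced A := by
      constructor
      rintro x ⟨n, hn⟩
      have hsq : Squarefree (minpoly k x) := (Algebra.IsSeparable.isSeparable k x).squarefree
      have hdvd : minpoly k x ∣ Polynomial.X ^ n := minpoly.dvd k x (by simp [hn])
      rcases Nat.eq_zero_or_pos n with rfl | hpos
      · have : Subsingleton A := subsingleton_of_zero_eq_one (by simpa using hn.symm)
        exact Subsingleton.elim _ _
      · have hX := (hsq.dvd_pow_iff_dvd hpos.ne').mp hdvd
        have h0 : Polynomial.aeval x (Polynomial.X : Polynomial k) = 0 :=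
          Polynomial.aeval_eq_zero_of_dvd_aeval_eq_zero hX (minpoly.aeval k x)
        simpa using h0
    have hq : ∀ m : MaximalSpectrum A, Algebra.FormallyEtale k (A ⧸ m.asIdeal) := by
      intro m
      let _ := Ideal.Quotient.field m.asIdeal
      have : Algebra.IsSeparable k (A ⧸ m.asIdeal) := by
        refine ⟨fun y => ?_⟩
        obtain ⟨x, rfl⟩ := Ideal.Quotient.mk_surjective y
        have hx := Algebra.IsSeparable.isSeparable k x
        refine Polynomial.Separable.of_dvd hx (minpoly.dvd k _ ?_)
        have := Polynomial.aeval_algHom_apply (Ideal.Quotient.mkₐ k m.asIdeal) x (minpoly k x)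
        rw [minpoly.aeval, map_zero] at this
        exact this
      exact Algebra.FormallyEtale.of_isSeparable k _
    have : Algebra.FormallyEtale k A :=
      .of_equiv ((IsArtinianRing.equivPi A).restrictScalars k).symm
    infer_instance

end Groth.Agent.S4998
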