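import Groth.Statements.S4999
import Groth.Agent.Lib.Helper5.JacLocF

set_option autoImplicit false
universe u
open Unram17

namespace Groth.Agent.S4999

/-- Let A be an algebra of finite type over a field k. Then A is smooth over k if and only if the module
of differentials of A over k is projective (locally free) and, at every minimal prime p of A, the
local ring A_p is geometrically reduced over k, which for this Artinian local ring says that A_p is
a field and a separable (not necessarily algebraic) extension of k. -/
theorem result (k A : Type u) [Field k] [CommRing A]
    [Algebra k A] [Algebra.FiniteType k A] :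
    Algebra.Smooth k A ↔
      Module.Projective A (KaehlerDifferential k A) ∧
        ∀ (p : Ideal A) [p.IsPrime], p ∈ minimalPrimes A →
          Algebra.IsGeometricallyReduced k (Localization.AtPrime p) := by
  have hnoeth : IsNoetherianRing A := Algebra.FiniteType.isNoetherianRing k A
  constructor
  · intro hsm
    have hfs : Algebra.FormallySmooth k A := inferInstance
    refine ⟨((Algebra.formallySmooth_iff k A).1 hfs).1, ?_⟩
    intro p hp hpmin
    have hdim : Ring.KrullDimLE 0 (Localization.AtPrime p) :=
      Ring.KrullDimLE.of_isLocalization p hpmin _
    have hess1 : Algebra.EssFiniteType A (Localization.AtPrime p) :=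
      Algebra.EssFiniteType.of_isLocalization _ p.primeCompl
    have hess : Algebra.EssFiniteType k (Localization.AtPrime p) :=
      Algebra.EssFiniteType.comp k A (Localization.AtPrime p)
    have hfe : Algebra.FormallyEtale A (Localization.AtPrime p) :=
      .of_isLocalization p.primeCompl
    have hfsp : Algebra.FormallySmooth k (Localization.AtPrime p) := .comp k A _
    have hdom : IsDomain (Localization.AtPrime p) :=
      Groth.Agent.Lib.Helper5.JacLoc.isDomain_of_formallySmooth (k := k)
    have hF : IsField (Localization.AtPrime p) := Ring.KrullDimLE.isField_of_isReduced
    let _ : Field (Localization.AtPrime p) := hF.toField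
    exact Groth.Agent.Lib.Helper5.JacLoc.geomReduced_of_formallySmooth_field
  · rintro ⟨hproj, hgen⟩
    apply Groth.Agent.Lib.Helper5.JacLoc.smooth_of_projective_kaehler k A
    intro p hp hpmin
    have hgr := hgen p hpmin
    have hred : IsReduced (Localization.AtPrime p) :=
      Algebra.isReduced_of_isGeometricallyReduced k
    have hdim : Ring.KrullDimLE 0 (Localization.AtPrime p) :=
      Ring.KrullDimLE.of_isLocalization p hpmin _
    have hF : IsField (Localization.AtPrime p) := Ring.KrullDimLE.isField_of_isReduced
    let _ : Field (Localization.AtPrime p) := hF.toField
    exact Groth.Agent.Lib.Helper5.SepSmooth.formallySmooth_of_geomReduced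

end Groth.Agent.S4999
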