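import Groth.Statements.S5002
import Mathlib.RingTheory.FiniteStability
import Mathlib.RingTheory.IntegralClosure.IsIntegralClosure.Basic
-- import your own Groth.Agent.* helpers here

set_option autoImplicit false
universe u
open PP16

namespace Groth.Agent.S5002

/-- Suppose A is a commutative ring and B is a finite-type A-algebra. For each n, the ring of principal
parts of order n of B over A is then finitely generated as a B-module, where B acts via the first
factor. -/
theorem result (n : ℕ) (A B : Type u) [CommRing A] [CommRing B] [Algebra A B]
    [Algebra.FiniteType A B] : Module.Finite B (PP16.P n A B) := by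
  have : Algebra.FiniteType B (TensorProduct A B B) := inferInstance
  have : Algebra.FiniteType B (PP16.P n A B) := inferInstance
  have : Algebra.IsIntegral B (PP16.P n A B) := by
    refine ⟨fun x => ?_⟩
    obtain ⟨r, rfl⟩ := Ideal.Quotient.mk_surjective x
    set b : B := Algebra.TensorProduct.lmul' A r with hb
    have hmem : r - algebraMap B (TensorProduct A B B) b ∈ KaehlerDifferential.ideal A B := by
      rw [RingHom.mem_ker, map_sub, Algebra.TensorProduct.algebraMap_apply]
      simp [hb]
    have hnil : IsNilpotent (Ideal.Quotient.mk ((KaehlerDifferential.ideal A B) ^ (n + 1))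
        (r - algebraMap B (TensorProduct A B B) b)) := by
      refine ⟨n + 1, ?_⟩
      rw [← map_pow, Ideal.Quotient.eq_zero_iff_mem]
      exact Ideal.pow_mem_pow hmem _
    have h1 : IsIntegral B (Ideal.Quotient.mk ((KaehlerDifferential.ideal A B) ^ (n + 1))
        (r - algebraMap B (TensorProduct A B B) b)) := by
      obtain ⟨m, hm⟩ := hnil
      by_cases hm0 : m = 0
      · subst hm0
        rw [pow_zero] at hm
        have : Subsingleton (PP16.P n A B) := subsingleton_of_zero_eq_one hm.symm
        rw [Subsingleton.elim (Ideal.Quotient.mk _ _) (0 : PP16.P n A B)]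
        exact isIntegral_zero
      · exact IsIntegral.of_pow (Nat.pos_of_ne_zero hm0) (hm ▸ isIntegral_zero)
    have h2 : IsIntegral B (algebraMap B (PP16.P n A B) b) := isIntegral_algebraMap
    have h3 := h1.add h2
    have e : Ideal.Quotient.mk ((KaehlerDifferential.ideal A B) ^ (n + 1)) r =
        Ideal.Quotient.mk ((KaehlerDifferential.ideal A B) ^ (n + 1))
          (r - algebraMap B (TensorProduct A B B) b) + algebraMap B (PP16.P n A B) b := by
      have e2 : algebraMap B (PP16.P n A B) b =
          Ideal.Quotient.mk ((KaehlerDifferential.ideal A B) ^ (n + 1))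
            (algebraMap B (TensorProduct A B B) b) := rfl
      rw [e2, ← map_add, sub_add_cancel]
    rw [e]
    exact h3
  exact Algebra.IsIntegral.finite

end Groth.Agent.S5002
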