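import Groth.Statements.S5004
import Groth.Agent.Lib.Helper7.QRegSpread

set_option autoImplicit false
universe u
open CategoryTheory CategoryTheory.Limits AlgebraicGeometry TopologicalSpace
open Nrm16

namespace Groth.Agent.S5004

/-- On a locally Noetherian scheme, every quasi-regular (quasi-coherent) ideal sheaf is a regular ideal
sheaf. -/
theorem result {X : Scheme.{u}} [IsLocallyNoetherian X] (I : X.IdealSheafData)
    (h : RegImm.IsRegularIdeal RegImm.Kind.quasi I) : RegImm.IsRegularIdeal RegImm.Kind.regular I := by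
  intro x hx
  obtain ⟨U, hxU, rs, hrs, hI⟩ := h x hx
  have hN : IsNoetherianRing Γ(X, U.1) := IsLocallyNoetherian.component_noetherian U
  have hrs' : CAlgX.IsQuasiRegular rs.get := hrs
  have hmemP : ∀ f : Γ(X, U.1), x ∈ X.basicOpen f ↔ f ∉ (U.2.primeIdealOf ⟨x, hxU⟩).asIdeal := by
    intro f
    have h1 := Groth.Agent.Lib.Helper5.RegDesc.mem_basicOpen_fromSpec_iff U.2
      (U.2.primeIdealOf ⟨x, hxU⟩) f
    rwa [U.2.fromSpec_primeIdealOf ⟨x, hxU⟩] at h1
  have hsupp : ∀ (V : X.affineOpens), x ∈ V.1 → ∀ f ∈ I.ideal V, x ∉ X.basicOpen f := by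
    intro V hxV f hf
    have h1 := (Scheme.IdealSheafData.mem_support_iff_of_mem (I := I) hxV).1 hx
    rw [Scheme.mem_zeroLocus_iff] at h1
    exact h1 f hf
  have hle : Ideal.ofList rs ≤ (U.2.primeIdealOf ⟨x, hxU⟩).asIdeal := by
    rw [← hI]
    intro f hf
    by_contra hfP
    exact hsupp U hxU f hf ((hmemP f).2 hfP)
  obtain ⟨g, hg, hS⟩ := Groth.Agent.Lib.Helper7.QRegSpread.exists_away_weaklyRegular_of_qr
    (U.2.primeIdealOf ⟨x, hxU⟩).asIdeal rs hrs' hle
  have hxg : x ∈ X.basicOpen g := (hmemP g).2 hg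
  have hloc : IsLocalization.Away g Γ(X, X.basicOpen g) := U.2.isLocalization_basicOpen g
  have hmap : I.ideal (X.affineBasicOpen g) =
      Ideal.ofList (rs.map (algebraMap Γ(X, U.1) Γ(X, X.basicOpen g))) := by
    rw [← I.map_ideal_basicOpen U g, hI, Ideal.map_ofList]
    rfl
  refine ⟨X.affineBasicOpen g, hxg, rs.map (algebraMap Γ(X, U.1) Γ(X, X.basicOpen g)), ?_, hmap⟩
  have hreg : RingTheory.Sequence.IsRegular Γ(X, X.basicOpen g)
      (rs.map (algebraMap Γ(X, U.1) Γ(X, X.basicOpen g))) := by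
    refine Groth.Agent.Lib.Helper5.RegComp.isRegular_of_weaklyRegular_of_ne_top
      (hS Γ(X, X.basicOpen g)) ?_
    intro htop
    have htop' : I.ideal (X.affineBasicOpen g) = ⊤ := hmap.trans htop
    have h1 := hsupp (X.affineBasicOpen g) hxg (1 : Γ(X, (X.affineBasicOpen g).1))
      (by rw [htop']; exact Submodule.mem_top)
    apply h1
    rw [X.basicOpen_of_isUnit isUnit_one]
    exact hxg
  exact hreg

end Groth.Agent.S5004
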