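import Groth.Statements.S5006
import Mathlib.RingTheory.Noetherian.Nilpotent
import Mathlib.RingTheory.Nakayama
import Mathlib.RingTheory.Nilpotent.Lemmas
import Mathlib.RingTheory.Localization.AtPrime.Basic
import Mathlib.RingTheory.Jacobson.Ideal

set_option autoImplicit false
universe u
open Nrm16

namespace Groth.Agent.S5006

/-- Let A be a commutative ring, I a finitely generated ideal and p a prime ideal containing I. Then
some basic open neighbourhood of p in Spec A is contained in the closed set V(I) (so that V(I) ⟶
Spec A is a local homeomorphism onto an open set near p) if and only if there is an integer n > 0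
with I^n A_p = I^(n+1) A_p in the local ring at p. Affine form. -/
theorem result (A : Type u) [CommRing A] (I : Ideal A) (hI : I.FG)
    (p : Ideal A) [p.IsPrime] (hp : I ≤ p) :
    (∃ f : A, f ∉ p ∧ ∀ q : Ideal A, q.IsPrime → f ∉ q → I ≤ q) ↔
      ∃ n : ℕ, 0 < n ∧
        (I ^ n).map (algebraMap A (Localization.AtPrime p)) =
          (I ^ (n + 1)).map (algebraMap A (Localization.AtPrime p)) := by
  classical
  constructor
  · rintro ⟨f, hfp, hf⟩
    have hnil : ∀ x ∈ I, IsNilpotent (f * x) := by
      intro x hx
      rw [nilpotent_iff_mem_prime]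
      intro q hq
      by_cases hfq : f ∈ q
      · exact q.mul_mem_right _ hfq
      · exact q.mul_mem_left _ (hf q hq hfq hx)
    have hunit : IsUnit (algebraMap A (Localization.AtPrime p) f) :=
      IsLocalization.map_units (Localization.AtPrime p) (⟨f, hfp⟩ : p.primeCompl)
    have hle : I.map (algebraMap A (Localization.AtPrime p)) ≤
        nilradical (Localization.AtPrime p) := by
      rw [Ideal.map_le_iff_le_comap]
      intro x hx
      rw [Ideal.mem_comap, mem_nilradical]
      obtain ⟨m, hm⟩ := hnil x hx
      refine ⟨m, ?_⟩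
      have : (algebraMap A (Localization.AtPrime p) f) ^ m *
          (algebraMap A (Localization.AtPrime p) x) ^ m = 0 := by
        rw [← mul_pow, ← map_mul, ← map_pow, hm, map_zero]
      exact (hunit.pow m).mul_right_eq_zero.mp this
    obtain ⟨n, hn⟩ := ((hI.map (algebraMap A (Localization.AtPrime p))).isNilpotent_iff_le_nilradical).mpr hle
    refine ⟨n + 1, Nat.succ_pos _, ?_⟩
    have hn' : I.map (algebraMap A (Localization.AtPrime p)) ^ n = ⊥ := hn
    rw [Ideal.map_pow, Ideal.map_pow, pow_succ, pow_succ, pow_succ, hn']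
    simp
  · rintro ⟨n, hn0, hn⟩
    set J := I.map (algebraMap A (Localization.AtPrime p)) with hJ
    rw [Ideal.map_pow, Ideal.map_pow, ← hJ] at hn
    have hJle : J ≤ IsLocalRing.maximalIdeal (Localization.AtPrime p) := by
      rw [← Localization.AtPrime.map_eq_maximalIdeal]
      exact Ideal.map_mono hp
    have hbot : J ^ n = ⊥ := by
      refine Submodule.eq_bot_of_le_smul_of_le_jacobson_bot J (J ^ n)
        ((hI.map _).pow) ?_ ?_
      · rw [smul_eq_mul, ← pow_succ', ← hn]
      · rw [IsLocalRing.jacobson_eq_maximalIdeal ⊥ bot_ne_top]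
        exact hJle
    have hkill : ∀ x ∈ I ^ n, ∃ s : A, s ∉ p ∧ s * x = 0 := by
      intro x hx
      have : algebraMap A (Localization.AtPrime p) x = 0 := by
        have : algebraMap A (Localization.AtPrime p) x ∈ J ^ n := by
          rw [hJ, ← Ideal.map_pow]
          exact Ideal.mem_map_of_mem _ hx
        rwa [hbot] at this
      obtain ⟨m, hm⟩ := (IsLocalization.map_eq_zero_iff p.primeCompl _ x).mp this
      exact ⟨m.1, m.2, hm⟩
    obtain ⟨S, hS⟩ := (hI.pow (n := n))
    choose! s hs using hkill
    refine ⟨∏ x ∈ S, s x, ?_, ?_⟩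
    · rw [Ideal.IsPrime.prod_mem_iff]
      rintro ⟨x, hxS, hx⟩
      exact (hs x (hS ▸ Ideal.subset_span hxS)).1 hx
    · intro q hq hfq
      apply Ideal.IsPrime.le_of_pow_le (n := n)
      rw [← hS, Ideal.span_le]
      intro x hxS
      have hx : x ∈ I ^ n := hS ▸ Ideal.subset_span hxS
      have h0 : (∏ y ∈ S, s y) * x = 0 := by
        rw [← Finset.mul_prod_erase S s hxS, mul_right_comm, (hs x hx).2, zero_mul]
      have : (∏ y ∈ S, s y) * x ∈ q := by rw [h0]; exact q.zero_mem
      exact (hq.mem_or_mem this).resolve_left hfq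

end Groth.Agent.S5006
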