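import Groth.Statements.S5007
import Groth.Agent.S9697

set_option autoImplicit false
universe u
open CategoryTheory CategoryTheory.Limits AlgebraicGeometry TopologicalSpace
open Unram17

namespace Groth.Agent.S5007

/-- Let g : Y ⟶ S and h : X ⟶ S be locally of finite presentation and f : X ⟶ Y a morphism over S. Then
f is (formally) unramified if and only if for every point s of S the base change of f along the
fibre Y_s ⟶ Y, which is the fibre map X_s ⟶ Y_s, is (formally) unramified. -/
theorem result {X Y S : Scheme.{u}} (g : Y ⟶ S) (h : X ⟶ S)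
    [LocallyOfFinitePresentation g] [LocallyOfFinitePresentation h] (f : X ⟶ Y) (w : f ≫ g = h) :
    FormallyUnramified f ↔ ∀ s : ↥S, FormallyUnramified (pullback.snd f (g.fiberι s)) := by
  constructor
  · intro hf s
    exact MorphismProperty.pullback_snd (P := @FormallyUnramified) _ _ hf
  · intro H
    haveI : LocallyOfFiniteType (f ≫ g) := by rw [w]; infer_instance
    haveI : LocallyOfFiniteType f := locallyOfFiniteType_of_comp f g
    have key : ∀ x : X, ∃ U : X.Opens, x ∈ U ∧ FormallyUnramified (U.ι ≫ f) := by
      intro x
      -- a point of the fibre of `g` over `g (f x)` mapping to `f x`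
      have hy : f x ∈ Set.range (g.fiberι (g (f x))) := by
        rw [Scheme.Hom.range_fiberι]
        rfl
      obtain ⟨y', hy'⟩ := hy
      obtain ⟨x', hx'1, -⟩ := Scheme.Pullback.exists_preimage_pullback (f := f)
        (g := g.fiberι (g (f x))) x y' hy'.symm
      have h1 := (Groth.Agent.S9697.result f (g.fiberι (g (f x))) x').mp
        ⟨⊤, trivial, by
          haveI := H (g (f x))
          exact MorphismProperty.comp_mem (W := @FormallyUnramified) _ _ inferInstance
            (H (g (f x)))⟩
      obtain ⟨U, hxU, hU⟩ := h1
      exact ⟨U, hx'1 ▸ hxU, hU⟩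
    choose U hxU hU using key
    refine IsZariskiLocalAtSource.of_iSup_eq_top (P := @FormallyUnramified) U ?_ hU
    rw [eq_top_iff]
    intro x _
    rw [TopologicalSpace.Opens.mem_iSup]
    exact ⟨x, hxU x⟩

end Groth.Agent.S5007
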