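import Groth.Statements.S5010
import Groth.Agent.S3807
import Mathlib.RingTheory.MvPolynomial.Ideal

set_option autoImplicit false
universe u
open PP16

namespace Groth.Agent.S5010

open scoped TensorProduct
attribute [local instance] PP16.mapAlgebra PP16.isScalarTower_mapAlgebra

section gen

variable (n : ℕ) (A B : Type u) [CommRing A] [CommRing B] [Algebra A B]

theorem augIdeal_pow : (augIdeal n A B) ^ (n + 1) = ⊥ := by
  unfold augIdeal
  rw [← Ideal.map_pow, Ideal.map_quotient_self]

theorem dn_sub_mem (b : B) : dn n A B b - algebraMap B (P n A B) b ∈ augIdeal n A B := by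
  change Ideal.Quotient.mk _ ((1 : B) ⊗ₜ[A] b) - Ideal.Quotient.mk _ (b ⊗ₜ[A] (1 : B)) ∈ _
  rw [← map_sub]
  exact Ideal.mem_map_of_mem _ (KaehlerDifferential.one_smul_sub_smul_one_mem_ideal A b)

end gen

section aux

variable (k : Type u) [Field k] (r n : ℕ)

local notation "B" => MvPolynomial (Fin r) k
local notation "K" => FractionRing (MvPolynomial (Fin r) k)
local notation "KU" => MvPolynomial (Fin r) (FractionRing (MvPolynomial (Fin r) k))

/-- the ideal (U) -/
noncomputable abbrev JU : Ideal KU := Ideal.span (Set.range (MvPolynomial.X : Fin r → KU))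

noncomputable abbrev Q : Type u := KU ⧸ (JU k r) ^ (n + 1)

lemma ker_constantCoeff_eq :
    RingHom.ker (MvPolynomial.constantCoeff : KU →+* K) = JU k r := by
  ext p
  have h := MvPolynomial.mem_pow_idealOfVars_iff (σ := Fin r) (R := K) 1 p
  rw [pow_one] at h
  rw [JU, h, RingHom.mem_ker, MvPolynomial.constantCoeff_eq]
  constructor
  · intro h0 x hx
    by_contra hlt
    have hx0 : x = 0 := by
      have : Finsupp.degree x = 0 := by omega
      exact (Finsupp.degree_eq_zero_iff x).mp this
    rw [hx0, MvPolynomial.mem_support_iff] at hx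
    exact hx h0
  · intro h
    by_contra h0
    have := h 0 (MvPolynomial.mem_support_iff.mpr h0)
    simp at this

/-- Taylor map `c ↦ c(T+U)` -/
noncomputable def tay : B →ₐ[k] KU :=
  MvPolynomial.aeval (fun i => MvPolynomial.C (algebraMap B K (MvPolynomial.X i)) + MvPolynomial.X i)

/-- constants -/
noncomputable def cst : B →ₐ[k] KU :=
  (IsScalarTower.toAlgHom k K KU).comp (IsScalarTower.toAlgHom k B K)

lemma cst_apply (b : B) : cst k r b = MvPolynomial.C (algebraMap B K b) := rfl

lemma constantCoeff_tay (c : B) : MvPolynomial.constantCoeff (tay k r c) = algebraMap B K c := by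
  have : ((MvPolynomial.constantCoeff : KU →+* K).comp (tay k r : B →+* KU)) = algebraMap B K := by
    apply MvPolynomial.ringHom_ext
    · intro a
      simp [tay, IsScalarTower.algebraMap_apply k K KU]
      rw [IsScalarTower.algebraMap_apply k B K a, MvPolynomial.algebraMap_eq]
    · intro i
      simp [tay]
  exact RingHom.congr_fun this c

noncomputable def gT : B ⊗[k] B →ₐ[k] KU :=
  Algebra.TensorProduct.lift (cst k r) (tay k r) (fun _ _ => Commute.all _ _)

lemma gT_map_le : (KaehlerDifferential.ideal k B).map (gT k r) ≤ JU k r := by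
  rw [← KaehlerDifferential.span_range_eq_ideal, Ideal.map_span, Ideal.span_le]
  rintro _ ⟨_, ⟨c, rfl⟩, rfl⟩
  rw [SetLike.mem_coe, ← ker_constantCoeff_eq, RingHom.mem_ker]
  simp [gT, constantCoeff_tay, cst_apply]

lemma gT_kills (x : B ⊗[k] B) (hx : x ∈ (KaehlerDifferential.ideal k B) ^ (n + 1)) :
    Ideal.Quotient.mk ((JU k r) ^ (n + 1)) (gT k r x) = 0 := by
  rw [Ideal.Quotient.eq_zero_iff_mem]
  have h := Ideal.pow_right_mono (gT_map_le k r) (n + 1)
  rw [← Ideal.map_pow] at h
  exact h (Ideal.mem_map_of_mem _ hx)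

noncomputable def g : P n k B →+* Q k r n :=
  Ideal.Quotient.lift _ ((Ideal.Quotient.mk ((JU k r) ^ (n + 1))).comp (gT k r : B ⊗[k] B →+* KU))
    (fun x hx => gT_kills k r n x hx)

lemma g_algebraMap (b : B) :
    g k r n (algebraMap B (P n k B) b) = Ideal.Quotient.mk _ (MvPolynomial.C (algebraMap B K b)) := by
  change g k r n (Ideal.Quotient.mk _ (b ⊗ₜ[k] (1 : B))) = _
  simp [g, gT, cst_apply]

lemma g_dn (c : B) :
    g k r n (dn n k B c) = Ideal.Quotient.mk _ (tay k r c) := by
  change g k r n (Ideal.Quotient.mk _ ((1 : B) ⊗ₜ[k] c)) = _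
  simp [g, gT]

end aux


/-- Let k be a field and K the field of fractions of the polynomial ring k[T_1, ..., T_r]. For every n,
the K-algebra map from the polynomial ring K[U_1, ..., U_r] to the ring of principal parts of order
n of K over k (a K-algebra through the first factor) that sends U_i to d^n(T_i) − T_i · 1 is
surjective, and its kernel is the (n+1)-st power of the ideal generated by the U_i. -/
theorem result (k : Type u) [Field k] (r n : ℕ) :
    Function.Surjective
        (MvPolynomial.aeval (R := FractionRing (MvPolynomial (Fin r) k))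
          (S₁ := PP16.P n k (FractionRing (MvPolynomial (Fin r) k)))
          (fun i : Fin r =>
            PP16.dn n k (FractionRing (MvPolynomial (Fin r) k))
                (algebraMap (MvPolynomial (Fin r) k) (FractionRing (MvPolynomial (Fin r) k)) (MvPolynomial.X i)) -
              algebraMap (FractionRing (MvPolynomial (Fin r) k)) (PP16.P n k (FractionRing (MvPolynomial (Fin r) k)))
                (algebraMap (MvPolynomial (Fin r) k) (FractionRing (MvPolynomial (Fin r) k)) (MvPolynomial.X i)))) ∧
      RingHom.ker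
          (MvPolynomial.aeval (R := FractionRing (MvPolynomial (Fin r) k))
            (S₁ := PP16.P n k (FractionRing (MvPolynomial (Fin r) k)))
            (fun i : Fin r =>
              PP16.dn n k (FractionRing (MvPolynomial (Fin r) k))
                  (algebraMap (MvPolynomial (Fin r) k) (FractionRing (MvPolynomial (Fin r) k)) (MvPolynomial.X i)) -
                algebraMap (FractionRing (MvPolynomial (Fin r) k)) (PP16.P n k (FractionRing (MvPolynomial (Fin r) k)))
                  (algebraMap (MvPolynomial (Fin r) k) (FractionRing (MvPolynomial (Fin r) k)) (MvPolynomial.X i)))).toRingHom =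
        (Ideal.span (Set.range (MvPolynomial.X : Fin r → MvPolynomial (Fin r) (FractionRing (MvPolynomial (Fin r) k))))) ^ (n + 1) := by
  classical
  set Bk := MvPolynomial (Fin r) k with hBk
  set K := FractionRing (MvPolynomial (Fin r) k) with hK
  set φ : MvPolynomial (Fin r) K →ₐ[K] PP16.P n k K := MvPolynomial.aeval (R := K)
          (S₁ := PP16.P n k K)
          (fun i : Fin r =>
            PP16.dn n k K (algebraMap Bk K (MvPolynomial.X i)) -
              algebraMap K (PP16.P n k K) (algebraMap Bk K (MvPolynomial.X i))) with hφ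
  have hφX : ∀ i, φ (MvPolynomial.X i) = PP16.dn n k K (algebraMap Bk K (MvPolynomial.X i)) -
              algebraMap K (PP16.P n k K) (algebraMap Bk K (MvPolynomial.X i)) := by
    intro i; simp [hφ]
  have hφC : ∀ x : K, φ (MvPolynomial.C x) = algebraMap K (PP16.P n k K) x := by
    intro x; simp [hφ]
  -- localization structure
  have hloc : IsLocalization ((nonZeroDivisors Bk).map (algebraMap Bk (PP16.P n k Bk))) (PP16.P n k K) :=
    Groth.Agent.S3807.result n k Bk K (nonZeroDivisors Bk)
  -- algebraMap compat
  have hmapalg : ∀ b : Bk, algebraMap (PP16.P n k Bk) (PP16.P n k K) (algebraMap Bk (PP16.P n k Bk) b) =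
      algebraMap K (PP16.P n k K) (algebraMap Bk K b) := fun b => map_algebraMap n k Bk k K b
  have hmapdn : ∀ b : Bk, algebraMap (PP16.P n k Bk) (PP16.P n k K) (dn n k Bk b) =
      dn n k K (algebraMap Bk K b) := fun b => map_dn n k Bk k K b
  -- φ ∘ tay = dn ∘ algebraMap
  have hφtay : ∀ c : Bk, φ (tay k r c) = dn n k K (algebraMap Bk K c) := by
    intro c
    have : ((φ.restrictScalars k).comp (tay k r)) =
        (dn n k K).comp (IsScalarTower.toAlgHom k Bk K) := by
      apply MvPolynomial.algHom_ext
      intro i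
      simp only [tay, AlgHom.comp_apply, MvPolynomial.aeval_X, AlgHom.restrictScalars_apply, map_add, hφC, hφX]
      rw [add_sub_cancel]
      rfl
    exact AlgHom.congr_fun this c
  have himg : ∀ x : PP16.P n k Bk, ∃ q, φ q = algebraMap (PP16.P n k Bk) (PP16.P n k K) x := by
    intro x
    obtain ⟨t, rfl⟩ := Ideal.Quotient.mk_surjective x
    induction t using TensorProduct.induction_on with
    | zero => exact ⟨0, by simp⟩
    | tmul b c =>
      refine ⟨MvPolynomial.C (algebraMap Bk K b) * tay k r c, ?_⟩
      have : (Ideal.Quotient.mk ((KaehlerDifferential.ideal k Bk) ^ (n + 1)) (b ⊗ₜ[k] c)) =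
          algebraMap Bk (P n k Bk) b * dn n k Bk c := by
        change _ = Ideal.Quotient.mk _ (b ⊗ₜ[k] (1 : Bk)) * Ideal.Quotient.mk _ ((1 : Bk) ⊗ₜ[k] c)
        rw [← map_mul, Algebra.TensorProduct.tmul_mul_tmul, mul_one, one_mul]
      rw [this, map_mul, map_mul, hφC, hφtay, hmapalg, hmapdn]
    | add x y hx hy =>
      obtain ⟨q1, h1⟩ := hx
      obtain ⟨q2, h2⟩ := hy
      exact ⟨q1 + q2, by rw [map_add, h1, h2, map_add, map_add]⟩
  refine ⟨?_, ?_⟩
  · -- surjective
    intro z
    obtain ⟨⟨x, s⟩, hxs⟩ := IsLocalization.surj ((nonZeroDivisors Bk).map (algebraMap Bk (PP16.P n k Bk))) z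
    obtain ⟨_, ⟨s0, hs0, rfl⟩⟩ := s
    simp only at hxs
    -- x in the image
    obtain ⟨q, hq⟩ := himg x
    have hs0' : algebraMap Bk K s0 ≠ 0 := by
      intro h0
      have := (IsFractionRing.injective Bk K) (h0.trans (map_zero _).symm)
      exact (nonZeroDivisors.ne_zero hs0) this
    refine ⟨q * MvPolynomial.C ((algebraMap Bk K s0)⁻¹), ?_⟩
    rw [map_mul, hq, ← hxs, hφC, hmapalg, mul_assoc, ← map_mul, mul_inv_cancel₀ hs0', map_one, mul_one]
  · -- kernel
    -- units
    have hgunit : ∀ y : ((nonZeroDivisors Bk).map (algebraMap Bk (PP16.P n k Bk))), IsUnit (g k r n y) := by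
      rintro ⟨_, ⟨s0, hs0, rfl⟩⟩
      simp only
      rw [g_algebraMap]
      have hs0' : algebraMap Bk K s0 ≠ 0 := by
        intro h0
        have := (IsFractionRing.injective Bk K) (h0.trans (map_zero _).symm)
        exact (nonZeroDivisors.ne_zero hs0) this
      exact ((IsUnit.mk0 _ hs0').map MvPolynomial.C).map (Ideal.Quotient.mk _)
    set ψ : PP16.P n k K →+* Q k r n := @IsLocalization.lift (PP16.P n k Bk) _ ((nonZeroDivisors Bk).map (algebraMap Bk (PP16.P n k Bk)))
      (PP16.P n k K) _ _ (Q k r n) _ hloc (g k r n) hgunit with hψ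
    have hψalg : ∀ x : PP16.P n k Bk, ψ (algebraMap (PP16.P n k Bk) (PP16.P n k K) x) = g k r n x := by
      intro x; rw [hψ, IsLocalization.lift_eq]
    have hψφ : ψ.comp (φ : MvPolynomial (Fin r) K →+* PP16.P n k K) = Ideal.Quotient.mk ((JU k r) ^ (n + 1)) := by
      apply MvPolynomial.ringHom_ext
      · intro x
        have : (ψ.comp (algebraMap K (PP16.P n k K))) = (Ideal.Quotient.mk ((JU k r) ^ (n + 1))).comp (MvPolynomial.C) := by
          apply IsLocalization.ringHom_ext (nonZeroDivisors Bk)
          refine RingHom.ext (fun b => ?_)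
          simp only [RingHom.comp_apply]
          rw [← hmapalg, hψalg, g_algebraMap]
        simp only [RingHom.comp_apply, RingHom.coe_coe, hφC]
        exact RingHom.congr_fun this x
      · intro i
        simp only [RingHom.comp_apply, RingHom.coe_coe, hφX, map_sub]
        rw [← hmapalg, ← hmapdn, hψalg, hψalg, g_algebraMap, g_dn, ← map_sub]
        simp [tay]
    apply le_antisymm
    · intro p hp
      rw [RingHom.mem_ker] at hp
      have h1 : Ideal.Quotient.mk ((JU k r) ^ (n + 1)) p = 0 := by
        rw [← hψφ]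
        simp only [RingHom.comp_apply]
        have : φ p = 0 := hp
        rw [RingHom.coe_coe, this, map_zero]
      exact Ideal.Quotient.eq_zero_iff_mem.mp h1
    · -- (U)^(n+1) ≤ ker φ
      have haug : (augIdeal n k K) ^ (n + 1) = ⊥ := augIdeal_pow n k K
      have hle : (JU k r).map (φ : MvPolynomial (Fin r) K →+* PP16.P n k K) ≤ augIdeal n k K := by
        rw [JU, Ideal.map_span, Ideal.span_le]
        rintro _ ⟨_, ⟨i, rfl⟩, rfl⟩
        rw [SetLike.mem_coe, RingHom.coe_coe, hφX]
        exact dn_sub_mem n k K _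
      intro p hp
      rw [RingHom.mem_ker]
      have h2 := Ideal.pow_right_mono hle (n + 1)
      rw [← Ideal.map_pow, haug] at h2
      exact (Ideal.mem_bot).1 (h2 (Ideal.mem_map_of_mem _ hp))

end Groth.Agent.S5010
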