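import Groth.Statements.S5014
import Mathlib.RingTheory.Kaehler.JacobiZariski
import Mathlib.RingTheory.Etale.Kaehler
import Mathlib.RingTheory.Kaehler.Polynomial
import Mathlib.LinearAlgebra.TensorProduct.Basis
import Groth.Agent.S2789

set_option autoImplicit false
universe u
open Unram17

namespace Groth.Agent.S5014

/-- Let C be a smooth algebra over a commutative ring A, equipped with an A-algebra map from the
polynomial ring in r variables (images s_i of the variables), and let q be a prime of C. Then C is
etale at q over the polynomial ring if and only if the differentials of the s_i are linearly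
independent and generate the module of differentials of the local ring C_q over A, i.e. form a basis
of it. -/
theorem bij_iff {R M N ι : Type*} [CommRing R] [AddCommGroup M] [AddCommGroup N]
    [Module R M] [Module R N] (b : Module.Basis ι R M) (φ : M →ₗ[R] N) :
    Function.Bijective φ ↔
      LinearIndependent R (φ ∘ b) ∧ Submodule.span R (Set.range (φ ∘ b)) = ⊤ := by
  constructor
  · intro h
    refine ⟨b.linearIndependent.map' φ (LinearMap.ker_eq_bot.mpr h.1), ?_⟩
    rw [Set.range_comp, ← Submodule.map_span, b.span_eq, Submodule.map_top,
      LinearMap.range_eq_top.mpr h.2]
  · rintro ⟨h1, h2⟩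
    constructor
    · intro x y hxy
      have hx := b.linearCombination_repr x
      have hy := b.linearCombination_repr y
      have h1' : Function.Injective (Finsupp.linearCombination R (φ ∘ b)) := h1
      have : b.repr x = b.repr y := by
        apply h1'
        rw [← Finsupp.apply_linearCombination, ← Finsupp.apply_linearCombination, hx, hy, hxy]
      rw [← hx, ← hy, this]
    · apply LinearMap.range_eq_top.mp
      rw [← Submodule.map_top, ← b.span_eq, Submodule.map_span, ← Set.range_comp]
      exact h2

theorem result (A C : Type u) [CommRing A] [CommRing C]
    [Algebra A C] [Algebra.Smooth A C] (r : ℕ) [Algebra (MvPolynomial (Fin r) A) C]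
    [IsScalarTower A (MvPolynomial (Fin r) A) C] (q : Ideal C) [q.IsPrime] :
    Algebra.IsEtaleAt (MvPolynomial (Fin r) A) q ↔
      LinearIndependent (Localization.AtPrime q)
          (fun i : Fin r => KaehlerDifferential.D A (Localization.AtPrime q)
            (algebraMap C (Localization.AtPrime q) (algebraMap (MvPolynomial (Fin r) A) C (MvPolynomial.X i)))) ∧
        Submodule.span (Localization.AtPrime q)
          (Set.range fun i : Fin r => KaehlerDifferential.D A (Localization.AtPrime q)
            (algebraMap C (Localization.AtPrime q) (algebraMap (MvPolynomial (Fin r) A) C (MvPolynomial.X i)))) = ⊤ := by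
  have hsm : Algebra.FormallySmooth A (Localization.AtPrime q) := inferInstance
  have h1 : Algebra.IsEtaleAt (MvPolynomial (Fin r) A) q ↔
      Function.Bijective (KaehlerDifferential.mapBaseChange A (MvPolynomial (Fin r) A)
        (Localization.AtPrime q)) := by
    constructor
    · intro h
      have : Algebra.FormallyEtale (MvPolynomial (Fin r) A) (Localization.AtPrime q) := h
      exact (KaehlerDifferential.tensorKaehlerEquivOfFormallyEtale A (MvPolynomial (Fin r) A)
        (Localization.AtPrime q)).bijective
    · intro h
      exact Groth.Agent.S2789.etale_of_bijective A (MvPolynomial (Fin r) A)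
        (Localization.AtPrime q) h
  rw [h1, bij_iff ((KaehlerDifferential.mvPolynomialBasis A (Fin r)).baseChange
    (Localization.AtPrime q))]
  have h2 : (KaehlerDifferential.mapBaseChange A (MvPolynomial (Fin r) A)
        (Localization.AtPrime q)) ∘ ((KaehlerDifferential.mvPolynomialBasis A (Fin r)).baseChange
          (Localization.AtPrime q)) =
      fun i : Fin r => KaehlerDifferential.D A (Localization.AtPrime q)
            (algebraMap C (Localization.AtPrime q)
              (algebraMap (MvPolynomial (Fin r) A) C (MvPolynomial.X i))) := by
    funext i
    simp only [Function.comp_apply, Module.Basis.baseChange_apply,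
      KaehlerDifferential.mvPolynomialBasis_apply, KaehlerDifferential.mapBaseChange_tmul,
      KaehlerDifferential.map_D, one_smul]
    rw [← IsScalarTower.algebraMap_apply]
  rw [h2]

end Groth.Agent.S5014
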