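import Groth.Statements.S5033
import Groth.Agent.Lib.helper11.RegularCounting
import Groth.Agent.Lib.helper19.RegularLocalSeq

set_option autoImplicit false
universe u
open CInt

namespace Groth.Agent.S5033

/-- Let A be a Noetherian local ring and J an ideal such that A/J is a regular local ring. Then A is a
regular local ring if and only if J is generated by a regular sequence of A. -/
theorem result (A : Type u) [CommRing A] [IsNoetherianRing A]
    [IsLocalRing A] (J : Ideal A) [IsRegularLocalRing (A ⧸ J)] :
    IsRegularLocalRing A ↔ CInt.IsRegularIdeal J := by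
  constructor
  · intro hA
    have hsp := IsRegularLocalRing.spanFinrank_maximalIdeal (R := A)
    obtain ⟨l₁, l₂, hlen, hspan, hJ⟩ :=
      Groth.Agent.Lib.helper19.exists_lists_of_quotient_regular_aux
        (IsLocalRing.maximalIdeal A).spanFinrank A J hsp.symm
    have hreg := Groth.Agent.Lib.helper19.isRegular_of_ofList_eq_maximalIdeal A (l₁ ++ l₂) hspan
      (by rw [← hsp, List.length_append, hlen])
    have hw := ((RingTheory.Sequence.isWeaklyRegular_append_iff A l₁ l₂).mp hreg.toIsWeaklyRegular).1
    refine ⟨l₁, ?_, hJ.symm⟩
    rw [IsLocalRing.isRegular_iff_isWeaklyRegular_of_subset_maximalIdeal]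
    · exact hw
    · intro r hr
      rw [← hspan]
      exact Ideal.subset_span (by simp [hr])
  · rintro ⟨rs, hreg, rfl⟩
    have h1 := Groth.Agent.Lib.helper11.RegularCounting.spanFinrank_maximalIdeal_le_add
      (Ideal.ofList rs)
    have h2 := ringKrullDim_add_length_eq_ringKrullDim_of_isRegular rs hreg
    have h3 : ((IsLocalRing.maximalIdeal (A ⧸ Ideal.ofList rs)).spanFinrank : WithBot ℕ∞) =
        ringKrullDim (A ⧸ Ideal.ofList rs) :=
      IsRegularLocalRing.spanFinrank_maximalIdeal
    have h4 := Groth.Agent.Lib.helper19.spanFinrank_ofList_le rs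
    apply IsRegularLocalRing.of_spanFinrank_maximalIdeal_le
    rw [← h2, ← h3]
    have h5 : (IsLocalRing.maximalIdeal A).spanFinrank ≤
        (IsLocalRing.maximalIdeal (A ⧸ Ideal.ofList rs)).spanFinrank + rs.length := by omega
    exact_mod_cast h5

end Groth.Agent.S5033
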