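import Groth.Statements.S5036
import Groth.Agent.Lib.lead.HensSectC

set_option autoImplicit false
open CategoryTheory CategoryTheory.Limits AlgebraicGeometry
universe u
open Hensel

namespace Groth.Agent.S5036

/-- a) implies b): let S be a quasi-compact quasi-separated scheme and i : S₀ ⟶ S a closed immersion.
Suppose that for every finite morphism g : S' ⟶ S, every open-closed subset of S' ×_S S₀ is the
inverse image under the first projection of exactly one open-closed subset of S'. Then for every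
étale separated morphism g : S' ⟶ S and every section u₀ of S' ×_S S₀ ⟶ S₀ there is exactly one
section u of g whose restriction to S₀ is u₀ (that is, i ≫ u = u₀ followed by the first projection). -/
theorem result {S S₀ : Scheme.{u}} (i : S₀ ⟶ S) [IsClosedImmersion i]
    [CompactSpace ↥S] [QuasiSeparatedSpace ↥S]
    (ha : ∀ (S' : Scheme.{u}) (g : S' ⟶ S), IsFinite g →
      ∀ V : Set ↥(pullback g i), IsClopen V → ∃! U : Set ↥S', IsClopen U ∧ (pullback.fst g i).base ⁻¹' U = V)
    {S' : Scheme.{u}} (g : S' ⟶ S) [Etale g] [IsSeparated g]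
    (u₀ : S₀ ⟶ pullback g i) (hu₀ : u₀ ≫ pullback.snd g i = 𝟙 S₀) :
    ∃! u : S ⟶ S', u ≫ g = 𝟙 S ∧ i ≫ u = u₀ ≫ pullback.fst g i := by
  classical
  have hcond : (u₀ ≫ pullback.fst g i) ≫ g = i := by
    rw [Category.assoc, pullback.condition, ← Category.assoc, hu₀, Category.id_comp]
  -- a compact open neighbourhood `W` of the image of `S₀` in `S'`
  haveI : CompactSpace ↥S₀ := QuasiCompact.compactSpace_of_compactSpace i
  have hK : IsCompact (Set.range (u₀ ≫ pullback.fst g i)) :=
    isCompact_range (u₀ ≫ pullback.fst g i).continuous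
  obtain ⟨W₁, hW₁c, hW₁o, hKW, -⟩ :=
    PrespectralSpace.exists_isCompact_and_isOpen_between hK isOpen_univ (Set.subset_univ _)
  let W : S'.Opens := ⟨W₁, hW₁o⟩
  haveI : CompactSpace ↥W.toScheme := isCompact_iff_compactSpace.mp hW₁c
  haveI : QuasiCompact (W.ι ≫ g) := inferInstance
  let v₀ : S₀ ⟶ W.toScheme := IsOpenImmersion.lift W.ι (u₀ ≫ pullback.fst g i) (by
    rw [Scheme.Opens.range_ι]
    exact hKW)
  have hv₀ : v₀ ≫ W.ι = u₀ ≫ pullback.fst g i := IsOpenImmersion.lift_fac _ _ _
  have hv₀g : v₀ ≫ (W.ι ≫ g) = i := by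
    rw [← Category.assoc, hv₀, hcond]
  obtain ⟨u', hu'1, hu'2⟩ :=
    Groth.Agent.Lib.lead.HensSect.exists_section_of_quasiCompact i ha (W.ι ≫ g) v₀ hv₀g
  refine ⟨u' ≫ W.ι, ⟨?_, ?_⟩, ?_⟩
  · rw [Category.assoc, hu'1]
  · rw [← Category.assoc, hu'2, hv₀]
  · rintro u ⟨hu1, hu2⟩
    refine Groth.Agent.Lib.lead.HensSect.section_ext i ha g u (u' ≫ W.ι) hu1
      (by rw [Category.assoc, hu'1]) ?_
    rw [hu2, ← Category.assoc, hu'2, hv₀]

end Groth.Agent.S5036
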