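import Groth.Statements.S5037
import Mathlib
import Groth.Agent.Lib.Helper13.WeilSm
import Groth.Agent.Lib.Helper13.ClopenSec

set_option autoImplicit false
open CategoryTheory CategoryTheory.Limits AlgebraicGeometry
universe u
open Hensel

namespace Groth.Agent.S5037

section helpers

open CategoryTheory CategoryTheory.Limits AlgebraicGeometry Opposite


open Groth.Agent.Lib.Helper13 Groth.Agent.Lib.Helper13.ClopenSec

variable {S : Scheme.{u}} {S' : Scheme.{u}} (g : S' ⟶ S)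

theorem preimage_comp {X Y Z : Scheme.{u}} (f : X ⟶ Y) (h : Y ⟶ Z) (U : Set Z) :
    (f ≫ h) ⁻¹' U = f ⁻¹' (h ⁻¹' U) := rfl

theorem preimage_id {X : Scheme.{u}} (U : Set X) : (𝟙 X : X ⟶ X) ⁻¹' U = U := rfl

/-- the clopen set attached to a section of `morS g (fold S)` -/
def cl (T : Over S) (b : (Flatn.morS g (fold S)).obj (op T)) : Set ↥(pullback T.hom g) :=
  (show pullback T.hom g ⟶ S ⨿ S from b.left) ⁻¹' Set.range (coprod.inl : S ⟶ S ⨿ S)

theorem cl_isClopen (T : Over S) (b : (Flatn.morS g (fold S)).obj (op T)) :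
    IsClopen (cl g T b) :=
  (isClopen_range_inl S).preimage (show pullback T.hom g ⟶ S ⨿ S from b.left).continuous

theorem w_left (T : Over S) (b : (Flatn.morS g (fold S)).obj (op T)) :
    (show pullback T.hom g ⟶ S ⨿ S from b.left) ≫ fold S = pullback.snd T.hom g ≫ g :=
  Over.w b

theorem cl_injective (T : Over S) (b b' : (Flatn.morS g (fold S)).obj (op T))
    (h : cl g T b = cl g T b') : b = b' :=
  Over.OverMorphism.ext (sec_ext (pullback.snd T.hom g ≫ g) _ _ (w_left g T b) (w_left g T b') h)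

theorem cl_surjective (T : Over S) (V : Set ↥(pullback T.hom g)) (hV : IsClopen V) :
    ∃ b : (Flatn.morS g (fold S)).obj (op T), cl g T b = V := by
  obtain ⟨φ, hφ, hφV⟩ := exists_sec (pullback.snd T.hom g ≫ g) V hV
  exact ⟨Over.homMk φ hφ, hφV⟩

theorem cl_map {T T' : Over S} (φ : T' ⟶ T) (b : (Flatn.morS g (fold S)).obj (op T)) :
    cl g T' ((Flatn.morS g (fold S)).map φ.op b) =
      ((Over.pullback g).map φ).left ⁻¹' (cl g T b) := rfl

section key

variable {S₀ : Scheme.{u}} (i : S₀ ⟶ S)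
  (hb : ∀ (S' : Scheme.{u}) (g : S' ⟶ S), Etale g → IsSeparated g →
      ∀ u₀ : S₀ ⟶ pullback g i, u₀ ≫ pullback.snd g i = 𝟙 S₀ →
        ∃! u : S ⟶ S', u ≫ g = 𝟙 S ∧ i ≫ u = u₀ ≫ pullback.fst g i)

/-- the inclusion `S₀ ⟶ S` as a morphism of `S`-schemes -/
def inc : Over.mk i ⟶ Over.mk (𝟙 S) := Over.homMk i (by simp)

include hb in
theorem key (hg : Mor2.IsFinLocFree g) (V₀ : Set ↥(pullback i g)) (hV₀ : IsClopen V₀) :
    ∃! U₁ : Set ↥(pullback (𝟙 S) g), IsClopen U₁ ∧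
      ((Over.pullback g).map (inc i)).left ⁻¹' U₁ = V₀ := by
  obtain ⟨W, hWaff, ⟨rep⟩, -, -, -, hWet⟩ := WeilSm.main g (fold S) hg
  have hEt : Etale W.hom := hWet inferInstance
  have hSep : IsSeparated W.hom := inferInstance
  obtain ⟨b₀, hb₀⟩ := cl_surjective g (Over.mk i) V₀ hV₀
  obtain ⟨t₀, ht₀⟩ : ∃ t₀ : Over.mk i ⟶ W, rep.homEquiv t₀ = b₀ :=
    ⟨rep.homEquiv.symm b₀, Equiv.apply_symm_apply _ _⟩
  have ht₀w : t₀.left ≫ W.hom = i := Over.w t₀
  obtain ⟨u₀, hu₀⟩ : ∃ u₀ : S₀ ⟶ pullback W.hom i, u₀ ≫ pullback.fst W.hom i = t₀.left ∧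
      u₀ ≫ pullback.snd W.hom i = 𝟙 S₀ :=
    ⟨pullback.lift t₀.left (𝟙 S₀) (by rw [ht₀w, Category.id_comp]),
      pullback.lift_fst _ _ _, pullback.lift_snd _ _ _⟩
  obtain ⟨u, ⟨hu1, hu2⟩, huniq⟩ := hb W.left W.hom hEt hSep u₀ hu₀.2
  rw [hu₀.1] at hu2
  obtain ⟨ū, hū⟩ : ∃ ū : Over.mk (𝟙 S) ⟶ W, ū.left = u := ⟨Over.homMk u hu1, rfl⟩
  have hι : inc i ≫ ū = t₀ := Over.OverMorphism.ext (by
    change i ≫ ū.left = t₀.left
    rw [hū, hu2])
  refine ⟨cl g _ (rep.homEquiv ū), ⟨cl_isClopen g _ _, ?_⟩, ?_⟩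
  · rw [← cl_map, ← rep.homEquiv_comp, hι, ht₀, hb₀]
  · rintro U₁' ⟨hU₁', hpre⟩
    obtain ⟨b', hb'⟩ := cl_surjective g (Over.mk (𝟙 S)) U₁' hU₁'
    obtain ⟨ū', hū'⟩ : ∃ ū' : Over.mk (𝟙 S) ⟶ W, rep.homEquiv ū' = b' :=
      ⟨rep.homEquiv.symm b', Equiv.apply_symm_apply _ _⟩
    have h1 : ū'.left ≫ W.hom = 𝟙 S := Over.w ū'
    have h3 : inc i ≫ ū' = t₀ := by
      apply rep.homEquiv.injective
      rw [rep.homEquiv_comp, hū', ht₀]
      apply cl_injective
      rw [cl_map, hb', hpre, hb₀]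
    have h2 : i ≫ ū'.left = u₀ ≫ pullback.fst W.hom i := by
      rw [hu₀.1, ← h3]
      rfl
    have h4 : ū'.left = u := huniq ū'.left ⟨h1, h2⟩
    have h5 : ū' = ū := Over.OverMorphism.ext (h4.trans hū.symm)
    rw [← hb', ← hū', h5]

end key

section final

variable {S₀ : Scheme.{u}} (i : S₀ ⟶ S)
  (hb : ∀ (S' : Scheme.{u}) (g : S' ⟶ S), Etale g → IsSeparated g →
      ∀ u₀ : S₀ ⟶ pullback g i, u₀ ≫ pullback.snd g i = 𝟙 S₀ →
        ∃! u : S ⟶ S', u ≫ g = 𝟙 S ∧ i ≫ u = u₀ ≫ pullback.fst g i)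

theorem fst_eq : pullback.fst g i = (pullbackSymmetry g i).hom ≫
    ((Over.pullback g).map (inc i)).left ≫ pullback.snd (𝟙 S) g := by
  have h1 : ((Over.pullback g).map (inc i)).left ≫ pullback.snd (𝟙 S) g = pullback.snd i g :=
    Over.w ((Over.pullback g).map (inc i))
  rw [h1, pullbackSymmetry_hom_comp_snd]

include hb in
theorem main [IsFinite g] [Flat g] [LocallyOfFinitePresentation g]
    (V : Set ↥(pullback g i)) (hV : IsClopen V) :
    ∃! U : Set ↥S', IsClopen U ∧ (pullback.fst g i).base ⁻¹' U = V := by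
  have hg : Mor2.IsFinLocFree g := ⟨inferInstance, inferInstance, inferInstance⟩
  obtain ⟨U₁, ⟨hU₁, hU₁V⟩, huniq⟩ := key g i hb hg ((pullbackSymmetry g i).inv ⁻¹' V)
    (hV.preimage (pullbackSymmetry g i).inv.continuous)
  have hsnd : inv (pullback.snd (𝟙 S) g) ≫ pullback.snd (𝟙 S) g = 𝟙 _ := IsIso.inv_hom_id _
  have hsnd' : pullback.snd (𝟙 S) g ≫ inv (pullback.snd (𝟙 S) g) = 𝟙 _ := IsIso.hom_inv_id _
  have hkey : ∀ U : Set ↥S', (pullback.fst g i) ⁻¹' U =
      (pullbackSymmetry g i).hom ⁻¹' (((Over.pullback g).map (inc i)).left ⁻¹'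
        (pullback.snd (𝟙 S) g ⁻¹' U)) := by
    intro U
    rw [fst_eq g i]
    rfl
  refine ⟨inv (pullback.snd (𝟙 S) g) ⁻¹' U₁, ⟨hU₁.preimage (inv (pullback.snd (𝟙 S) g)).continuous, ?_⟩, ?_⟩
  · skip
    rw [hkey, ← preimage_comp (pullback.snd (𝟙 S) g), hsnd', preimage_id, hU₁V,
      ← preimage_comp, Iso.hom_inv_id, preimage_id]
  · rintro U' ⟨hU', hU'V⟩
    change (pullback.fst g i) ⁻¹' U' = V at hU'V
    have h1 := huniq (pullback.snd (𝟙 S) g ⁻¹' U')
      ⟨hU'.preimage (pullback.snd (𝟙 S) g).continuous, by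
        rw [← hU'V, hkey, ← preimage_comp (pullbackSymmetry g i).inv, Iso.inv_hom_id, preimage_id]⟩
    rw [← h1, ← preimage_comp, hsnd, preimage_id]

end final


end helpers

/-- b) implies a'): let i : S₀ ⟶ S be a closed immersion. Suppose that for every étale separated
morphism g : S' ⟶ S and every section u₀ of S' ×_S S₀ ⟶ S₀ there is exactly one section u of g with
i ≫ u = u₀ followed by the first projection. Then for every finite locally free morphism g : S' ⟶ S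
(finite, flat and locally of finite presentation), every open-closed subset of S' ×_S S₀ is the
inverse image under the first projection of exactly one open-closed subset of S'. -/
theorem result {S S₀ : Scheme.{u}} (i : S₀ ⟶ S) [IsClosedImmersion i]
    (hb : ∀ (S' : Scheme.{u}) (g : S' ⟶ S), Etale g → IsSeparated g →
      ∀ u₀ : S₀ ⟶ pullback g i, u₀ ≫ pullback.snd g i = 𝟙 S₀ →
        ∃! u : S ⟶ S', u ≫ g = 𝟙 S ∧ i ≫ u = u₀ ≫ pullback.fst g i)
    {S' : Scheme.{u}} (g : S' ⟶ S) [IsFinite g] [Flat g] [LocallyOfFinitePresentation g]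
    (V : Set ↥(pullback g i)) (hV : IsClopen V) :
    ∃! U : Set ↥S', IsClopen U ∧ (pullback.fst g i).base ⁻¹' U = V := by
  exact main g i hb V hV

end Groth.Agent.S5037
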