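import Groth.Statements.S5043
import Mathlib
import Groth.Agent.Lib.Helper12.AssFlatB
import Groth.Agent.Lib.Helper12.HensFibre
import Groth.Agent.Lib.Helper12.HenselizationFlat

set_option autoImplicit false
universe u
open Hensel

namespace Groth.Agent.S5043

/-- Let R be a Noetherian local ring with henselization S. A prime ideal P of S is an associated prime
of S if and only if its inverse image in R is an associated prime of R. -/
theorem result (R S : Type u) [CommRing R] [IsLocalRing R] [IsNoetherianRing R]
    [CommRing S] [IsLocalRing S] [Algebra R S] [IsLocalHom (algebraMap R S)] [Hensel.IsHenselization R S]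
    (P : Ideal S) [P.IsPrime] :
    P ∈ associatedPrimes S S ↔ P.comap (algebraMap R S) ∈ associatedPrimes R R := by
  haveI : IsNoetherianRing S :=
    Groth.Agent.Lib.Helper12.HensFibre.isNoetherianRing_of_isHenselization R S
  haveI : Module.Flat R S := by
    obtain ⟨e⟩ := Groth.Agent.Lib.Helper12.Henselization.nonempty_algEquiv (A := R) S
    exact Module.Flat.of_linearEquiv e.toLinearEquiv
  exact Groth.Agent.Lib.Helper12.AssFlat.mem_associatedPrimes_iff R S
    (fun p _ => Groth.Agent.Lib.Helper12.IndEtaleFibre.krullDimLE_zero_tensor (κ := p.ResidueField)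
      (Groth.Agent.Lib.Helper12.HensFibre.isIndEssEtale_of_isHenselization R S)) P

end Groth.Agent.S5043
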