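import Groth.Statements.S5050
import Mathlib.RingTheory.Filtration
-- import your own Groth.Agent.* helpers here

set_option autoImplicit false
universe u v
open CInt

namespace Groth.Agent.S5050

/-- Let A be a Noetherian ring, N a finitely generated A-module, E and F submodules of N and Q an ideal
of A. For every natural number k there is h > 0 with E ⊓ (F ⊔ Q^h N) ≤ (E ⊓ F) ⊔ Q^k N. -/
theorem result {A : Type u} [CommRing A] [IsNoetherianRing A] {N : Type v} [AddCommGroup N]
    [Module A N] [Module.Finite A N] (E F : Submodule A N) (Q : Ideal A) (k : ℕ) :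
    ∃ h : ℕ, 0 < h ∧ E ⊓ (F ⊔ Q ^ h • (⊤ : Submodule A N)) ≤ (E ⊓ F) ⊔ Q ^ k • (⊤ : Submodule A N) := by
  obtain ⟨c, hc⟩ := Ideal.exists_pow_inf_eq_pow_smul Q (E.map F.mkQ)
  refine ⟨k + c + 1, by omega, ?_⟩
  rintro e ⟨heE, heFQ⟩
  obtain ⟨f, hf, q, hq, rfl⟩ := Submodule.mem_sup.mp heFQ
  have h1 : F.mkQ (f + q) ∈ Q ^ (k + c + 1) • (⊤ : Submodule A (N ⧸ F)) := by
    have : F.mkQ (f + q) = F.mkQ q := by
      simp [(Submodule.Quotient.mk_eq_zero F).mpr hf]
    rw [this]
    have := Submodule.mem_map_of_mem (f := F.mkQ) hq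
    rw [Submodule.map_smul''] at this
    exact Submodule.smul_mono le_rfl le_top this
  have h2 : F.mkQ (f + q) ∈ E.map F.mkQ := Submodule.mem_map_of_mem heE
  have h3 : F.mkQ (f + q) ∈ Q ^ (k + c + 1 - c) • (Q ^ c • ⊤ ⊓ E.map F.mkQ) := by
    rw [← hc (k + c + 1) (by omega)]; exact ⟨h1, h2⟩
  have h4 : F.mkQ (f + q) ∈ (Q ^ k • E).map F.mkQ := by
    rw [Submodule.map_smul'']
    have : k + c + 1 - c = k + 1 := by omega
    rw [this] at h3
    exact Submodule.smul_mono (Ideal.pow_le_pow_right (Nat.le_succ k)) inf_le_right h3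
  obtain ⟨e', he', he'eq⟩ := h4
  have h5 : (f + q) - e' ∈ F := by
    rw [← Submodule.ker_mkQ F, LinearMap.mem_ker, map_sub, he'eq, sub_self]
  have he'E : e' ∈ E := Submodule.smul_le_right he'
  have : f + q = ((f + q) - e') + e' := by abel
  rw [this]
  exact Submodule.add_mem_sup ⟨E.sub_mem heE he'E, h5⟩ (Submodule.smul_mono le_rfl le_top he')

end Groth.Agent.S5050
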