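import Groth.Statements.S5057
import Mathlib.AlgebraicGeometry.IdealSheaf.Subscheme
-- import your own Groth.Agent.* helpers here

set_option autoImplicit false
open CategoryTheory CategoryTheory.Limits AlgebraicGeometry
universe u
open Hensel

namespace Groth.Agent.S5057

/-- Let i : S₀ ⟶ S be a closed immersion such that for every finite morphism g : S' ⟶ S every
open-closed subset of S' ×_S S₀ is the inverse image under the first projection of exactly one
open-closed subset of S'. Then for every finite morphism g : S' ⟶ S, every open subset of S'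
containing the image of S' ×_S S₀ is all of S'. -/
theorem result {S S₀ : Scheme.{u}} (i : S₀ ⟶ S) [IsClosedImmersion i]
    (ha : ∀ (S' : Scheme.{u}) (g : S' ⟶ S), IsFinite g →
      ∀ V : Set ↥(pullback g i), IsClopen V → ∃! U : Set ↥S', IsClopen U ∧ (pullback.fst g i).base ⁻¹' U = V)
    {S' : Scheme.{u}} (g : S' ⟶ S) [IsFinite g] (U : Set ↥S') (hU : IsOpen U)
    (hU₀ : Set.range (pullback.fst g i).base ⊆ U) : U = Set.univ := by
  by_contra hne
  let Zc : TopologicalSpace.Closeds S' := ⟨Uᶜ, hU.isClosed_compl⟩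
  let 𝓘 := Scheme.IdealSheafData.vanishingIdeal Zc
  let ι := 𝓘.subschemeι
  have hrange : Set.range ι = Uᶜ := by
    rw [Scheme.IdealSheafData.range_subschemeι,
      Scheme.IdealSheafData.coe_support_vanishingIdeal]
    rfl
  have hfin : IsFinite (ι ≫ g) := inferInstance
  let m : pullback (ι ≫ g) i ⟶ pullback g i :=
    pullback.lift (pullback.fst (ι ≫ g) i ≫ ι) (pullback.snd (ι ≫ g) i)
      (by rw [Category.assoc, pullback.condition])
  have hempty : IsEmpty ↥(pullback (ι ≫ g) i) := by
    constructor
    intro w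
    have h1 : ι (pullback.fst (ι ≫ g) i w) ∈ U := by
      apply hU₀
      refine ⟨m w, ?_⟩
      have hm : m ≫ pullback.fst g i = pullback.fst (ι ≫ g) i ≫ ι := pullback.lift_fst _ _ _
      rw [← Scheme.Hom.comp_apply, hm, Scheme.Hom.comp_apply]
    have h2 : ι (pullback.fst (ι ≫ g) i w) ∈ Uᶜ := by rw [← hrange]; exact ⟨_, rfl⟩
    exact h2 h1
  obtain ⟨W, hW, huniq⟩ := ha _ (ι ≫ g) hfin ∅ isClopen_empty
  have e1 := huniq ∅ ⟨isClopen_empty, Set.preimage_empty⟩
  have e2 := huniq Set.univ ⟨isClopen_univ, by ext w; exact (hempty.false w).elim⟩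
  have e3 : (∅ : Set 𝓘.subscheme) = Set.univ := e1.trans e2.symm
  have e4 : Uᶜ = ∅ := by
    rw [← hrange, Set.range_eq_empty_iff]
    constructor
    intro z
    have : z ∈ (∅ : Set 𝓘.subscheme) := e3 ▸ Set.mem_univ z
    exact this
  exact hne (Set.compl_empty_iff.mp e4)

end Groth.Agent.S5057
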