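import Groth.Statements.S5058
import Groth.Agent.Lib.lead.HensKC
import Groth.Agent.Lib.Helper12.PairLocal
import Groth.Agent.Lib.Helper12.PairNoethB
import Groth.Agent.S0591

set_option autoImplicit false
open CategoryTheory CategoryTheory.Limits AlgebraicGeometry
universe u
open Hensel

namespace Groth.Agent.S5058

/-- Let A be a henselian local ring and f : X ⟶ Spec A a morphism of finite presentation. Then there
exist a Noetherian henselian local ring A₀, a local ring homomorphism φ : A₀ → A, a morphism of
finite type f₀ : X₀ ⟶ Spec A₀ and a cartesian square exhibiting X as the base change of X₀ along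
Spec φ. -/
theorem result (A : Type u) [CommRing A] [HenselianLocalRing A]
    {X : Scheme.{u}} (f : X ⟶ Spec (CommRingCat.of A)) [LocallyOfFinitePresentation f] [QuasiCompact f] [QuasiSeparated f] :
    ∃ (A₀ : Type u) (_ : CommRing A₀) (_ : HenselianLocalRing A₀) (_ : IsNoetherianRing A₀) (φ : A₀ →+* A) (_ : IsLocalHom φ)
      (X₀ : Scheme.{u}) (f₀ : X₀ ⟶ Spec (CommRingCat.of A₀)) (g : X ⟶ X₀),
      LocallyOfFiniteType f₀ ∧ QuasiCompact f₀ ∧ IsPullback g f f₀ (Spec.map (CommRingCat.ofHom φ)) := by
  classical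
  open Groth.Agent.Lib.lead.HensK Groth.Agent.Lib.Helper12 in
  -- Step 1: descend to a finitely generated subring
  have hf1 : LocallyOfFinitePresentation f := inferInstance
  have hf2 : QuasiCompact f := inferInstance
  have hf3 : QuasiSeparated f := inferInstance
  obtain ⟨i, XT, fT, g, hfp, hqc, hqs, hpb⟩ :=
    @Groth.Agent.S0591.result (Finset A)ᵒᵖ _ _ (fgDiag A) (fgCone A) (fgIsLimit A) _
      (fun _ => inferInstance) (fun _ => inferInstance) X f hf1 hf2 hf3
  let T : Subring A := fgSub A i.unop
  let fT' : XT ⟶ Spec (CommRingCat.of T) := fT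
  haveI : LocallyOfFinitePresentation fT' := hfp
  haveI : QuasiCompact fT' := hqc
  have hpb' : IsPullback g f fT' (Spec.map (CommRingCat.ofHom T.subtype)) := hpb
  -- Step 2: localize at the contraction of the maximal ideal
  let p : Ideal T := (IsLocalRing.maximalIdeal A).comap T.subtype
  haveI : p.IsPrime := Ideal.comap_isPrime _ _
  let R := Localization.AtPrime p
  have hunits : ∀ y : p.primeCompl, IsUnit (T.subtype y) := by
    intro y
    have hy : (y : T) ∉ p := y.2
    by_contra hnu
    exact hy ((IsLocalRing.mem_maximalIdeal _).mpr hnu)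
  let ρ : R →+* A := IsLocalization.lift (M := p.primeCompl) (S := R) hunits
  have hρ : ρ.comp (algebraMap T R) = T.subtype := IsLocalization.lift_comp _
  have hρm : (IsLocalRing.maximalIdeal R).map ρ ≤ IsLocalRing.maximalIdeal A := by
    rw [← Localization.AtPrime.map_eq_maximalIdeal, Ideal.map_map, hρ,
      Ideal.map_le_iff_le_comap]
  -- Step 3: henselize
  have hne : IsLocalRing.maximalIdeal R ≠ ⊤ := (IsLocalRing.maximalIdeal.isMaximal R).ne_top
  let B := PairNbhd.Lim R (IsLocalRing.maximalIdeal R)
  haveI : IsLocalRing B := PairNbhd.Lim.isLocalRing hne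
  have hB : Hens2.IsPairHenselization R (IsLocalRing.maximalIdeal R) B :=
    PairNbhd.Lim.isPairHenselization R (IsLocalRing.maximalIdeal R)
  have hmax : (IsLocalRing.maximalIdeal R).map (algebraMap R B) = IsLocalRing.maximalIdeal B :=
    PairUnique.map_maximalIdeal_eq hB
  haveI : HenselianLocalRing B := by
    apply PairUnique.henselianLocalRing_of_henselianRing
    rw [← hmax]
    exact hB.1
  haveI : IsNoetherianRing B := PairNbhd.Lim.isNoetherianRing
  obtain ⟨σ, hσ, -⟩ := hB.2 A (IsLocalRing.maximalIdeal A) ρ inferInstance hρm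
  have hσ : σ.comp (algebraMap R B) = ρ := hσ
  have hσloc : IsLocalHom σ := by
    constructor
    intro b hb
    by_contra hnb
    have hbm : b ∈ IsLocalRing.maximalIdeal B := (IsLocalRing.mem_maximalIdeal _).mpr hnb
    rw [← hmax] at hbm
    have h1 : σ b ∈ ((IsLocalRing.maximalIdeal R).map (algebraMap R B)).map σ :=
      Ideal.mem_map_of_mem σ hbm
    rw [Ideal.map_map, hσ] at h1
    exact (IsLocalRing.mem_maximalIdeal _).mp (hρm h1) hb
  -- Step 4: the model over `B`
  let τ : T →+* B := (algebraMap R B).comp (algebraMap T R)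
  have hστ : σ.comp τ = T.subtype := by
    rw [← RingHom.comp_assoc, hσ, hρ]
  let β : Spec (CommRingCat.of B) ⟶ Spec (CommRingCat.of T) := Spec.map (CommRingCat.ofHom τ)
  have hbot : Spec.map (CommRingCat.ofHom σ) ≫ β = Spec.map (CommRingCat.ofHom T.subtype) := by
    rw [← Spec.map_comp, ← CommRingCat.ofHom_comp, hστ]
  have hcomm : g ≫ fT' = (f ≫ Spec.map (CommRingCat.ofHom σ)) ≫ β := by
    rw [Category.assoc, hbot]; exact hpb'.w
  let g₀ : X ⟶ pullback fT' β := pullback.lift g (f ≫ Spec.map (CommRingCat.ofHom σ)) hcomm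
  have hg₀1 : g₀ ≫ pullback.fst fT' β = g := pullback.lift_fst _ _ _
  have hg₀2 : g₀ ≫ pullback.snd fT' β = f ≫ Spec.map (CommRingCat.ofHom σ) :=
    pullback.lift_snd _ _ _
  refine ⟨B, inferInstance, inferInstance, inferInstance, σ, hσloc, pullback fT' β,
    pullback.snd fT' β, g₀, inferInstance, inferInstance, ?_⟩
  have hbig : IsPullback (g₀ ≫ pullback.fst fT' β) f fT' (Spec.map (CommRingCat.ofHom σ) ≫ β) := by
    rw [hg₀1, hbot]; exact hpb'
  exact IsPullback.of_right hbig hg₀2 (IsPullback.of_hasPullback fT' β)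

end Groth.Agent.S5058
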