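import Groth.Statements.S5059
import Mathlib
import Groth.Agent.Lib.Helper21.NFlatKit5

set_option autoImplicit false
universe u
open CInt

namespace Groth.Agent.S5059

open Groth.Agent.Lib.Helper21.NFlatKit

/-- `(X/RX)/Q(X/RX) ≅ X/QX` for `R ≤ Q`. -/
noncomputable def quotQuotEquiv {A : Type u} [CommRing A] (X : Type u) [AddCommGroup X] [Module A X]
    {R Q : Ideal A} (h : R ≤ Q) :
    ((X ⧸ (R • ⊤ : Submodule A X)) ⧸ (Q • ⊤ : Submodule A (X ⧸ (R • ⊤ : Submodule A X)))) ≃ₗ[A]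
      X ⧸ (Q • ⊤ : Submodule A X) :=
  (Submodule.quotEquivOfEq _ _ (by
    rw [Submodule.map_smul'', Submodule.map_top, Submodule.range_mkQ])) ≪≫ₗ
    Submodule.quotientQuotientEquivQuotientSup (R • ⊤ : Submodule A X) (Q • ⊤ : Submodule A X) ≪≫ₗ
    Submodule.quotEquivOfEq _ _ (by rw [← Submodule.sup_smul, sup_eq_right.2 h])

theorem flat_quot_quot_iff {A : Type u} [CommRing A] (X : Type u) [AddCommGroup X] [Module A X]
    {R Q : Ideal A} (h : R ≤ Q) :
    Module.Flat (A ⧸ Q)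
        ((X ⧸ (R • ⊤ : Submodule A X)) ⧸ (Q • ⊤ : Submodule A (X ⧸ (R • ⊤ : Submodule A X)))) ↔
      Module.Flat (A ⧸ Q) (X ⧸ (Q • ⊤ : Submodule A X)) :=
  Module.Flat.equiv_iff
    ((quotQuotEquiv X h).extendScalarsOfSurjective Ideal.Quotient.mk_surjective)


/-- a) iff c) in the Noetherian case: let A be a Noetherian ring, R an ideal of A, f_1, …, f_n elements
of the Jacobson radical of A whose images form a regular sequence on A/R, Q = R + (f_1, …, f_n), and
M a finitely generated A-module. Then every graded piece R^k M / R^(k+1) M is flat over A/R if and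
only if, for every k, (R^k M / R^(k+1) M) ⊗ A/Q is flat over A/Q and f_1, …, f_n is a regular
sequence on R^k M / R^(k+1) M. -/
theorem result (A : Type u) [CommRing A] [IsNoetherianRing A]
    (R : Ideal A) {n : ℕ} (f : Fin n → A) (hrad : ∀ i, f i ∈ (⊥ : Ideal A).jacobson)
    (hreg : RingTheory.Sequence.IsWeaklyRegular (A ⧸ R) (List.ofFn f))
    (M : Type u) [AddCommGroup M] [Module A M] [Module.Finite A M] :
    EGA4.IsNormallyFlat R M ↔
      ∀ k : ℕ, Module.Flat (A ⧸ (R ⊔ Ideal.span (Set.range f))) ((↥(R ^ k • (⊤ : Submodule A M)) ⧸ (R • (⊤ : Submodule A ↥(R ^ k • (⊤ : Submodule A M))))) ⧸ ((R ⊔ Ideal.span (Set.range f)) • (⊤ : Submodule A (↥(R ^ k • (⊤ : Submodule A M)) ⧸ (R • (⊤ : Submodule A ↥(R ^ k • (⊤ : Submodule A M)))))))) ∧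
        RingTheory.Sequence.IsWeaklyRegular (↥(R ^ k • (⊤ : Submodule A M)) ⧸ (R • (⊤ : Submodule A ↥(R ^ k • (⊤ : Submodule A M))))) (List.ofFn f) := by
  unfold EGA4.IsNormallyFlat
  apply forall_congr'
  intro k
  haveI : IsNoetherian A M := isNoetherian_of_isNoetherianRing_of_finite A M
  haveI : Module.Finite A ↥(R ^ k • (⊤ : Submodule A M)) := Module.IsNoetherian.finite A _
  have hfs : ∀ g ∈ List.ofFn f, g ∈ Ideal.jacobson (⊥ : Ideal A) := by
    intro g hg
    obtain ⟨i, rfl⟩ := (List.mem_ofFn' f g).1 hg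
    exact hrad i
  have hQ : R ⊔ Ideal.span (Set.range f) = R ⊔ Ideal.ofList (List.ofFn f) := by
    congr 1
    unfold Ideal.ofList
    congr 1
    ext x
    simp [List.mem_ofFn']
  rw [flat_quot_iff (List.ofFn f) hfs ↥(R ^ k • (⊤ : Submodule A M)) R
    (R ⊔ Ideal.span (Set.range f)) hQ hreg,
    flat_quot_quot_iff ↥(R ^ k • (⊤ : Submodule A M)) (le_sup_left : R ≤ R ⊔ Ideal.span (Set.range f))]

end Groth.Agent.S5059
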