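import Groth.Statements.S5061
import Mathlib
import Groth.Agent.Lib.Helper22.GeomRed4
-- import your own Groth.Agent.* helpers here

set_option autoImplicit false
open scoped TensorProduct
universe u
open EGA418

namespace Groth.Agent.S5061

/-- a) iff c): let k be a field of characteristic p > 0, P a perfect closure of k (a perfect field
purely inseparable over k) and K an extension field of k. Then the ring K ⊗_k P is Artinian if and
only if there exists a finite purely inseparable extension k' of k such that (k' ⊗_k K) modulo its
nilradical is geometrically reduced over k'. -/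
theorem result (p : ℕ) [Fact p.Prime]
    (k K : Type u) [Field k] [CharP k p] [Field K] [Algebra k K]
    (P : Type u) [Field P] [Algebra k P] [PerfectRing P p] [IsPRadical (algebraMap k P) p] :
    IsArtinianRing (K ⊗[k] P) ↔
      ∃ (k' : Type u) (_ : Field k') (_ : Algebra k k'), Module.Finite k k' ∧ IsPurelyInseparable k k' ∧
        Algebra.IsGeometricallyReduced k' ((k' ⊗[k] K) ⧸ nilradical (k' ⊗[k] K)) := by
  haveI : ExpChar k p := ExpChar.prime Fact.out
  haveI : CharP P p := charP_of_injective_algebraMap (algebraMap k P).injective p
  haveI : ExpChar P p := ExpChar.prime Fact.out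
  haveI : PerfectField P := PerfectRing.toPerfectField P p
  haveI : IsPurelyInseparable k P := IsPRadical.isPurelyInseparable k P p
  constructor
  · intro hArt
    haveI : IsArtinianRing (P ⊗[k] K) :=
      (Algebra.TensorProduct.comm k K P).toRingEquiv.isArtinianRing
    haveI : IsNoetherianRing (P ⊗[k] K) := inferInstance
    obtain ⟨k', hF, hA, h1, h2, h3⟩ :=
      Groth.Agent.Lib.Helper22.GeomRed3.exists_finite_geomReduced K P
        (IsNoetherian.noetherian (nilradical (P ⊗[k] K)))
    exact ⟨k', hF, hA, h1, h2, h3⟩
  · rintro ⟨k', hF, hA, h1, h2, h3⟩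
    letI := hF
    letI := hA
    haveI := h1
    haveI := h2
    haveI : CharP k' p := charP_of_injective_algebraMap (algebraMap k k').injective p
    haveI : ExpChar k' p := ExpChar.prime Fact.out
    let f : k' →+* P := PerfectRing.lift (algebraMap k k') (algebraMap k P) p
    have hf : f.comp (algebraMap k k') = algebraMap k P := PerfectRing.lift_comp _ _ p
    letI : Algebra k' P := f.toAlgebra
    haveI : IsScalarTower k k' P := IsScalarTower.of_algebraMap_eq (fun x => by
      rw [← hf]; rfl)
    haveI : IsPurelyInseparable k' P := IsPurelyInseparable.tower_top k k' P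
    haveI : IsArtinianRing (P ⊗[k'] (k' ⊗[k] K)) :=
      Groth.Agent.Lib.Helper22.GeomRed4.isArtinianRing_tensor_of_geomReduced h3
    haveI : IsArtinianRing (P ⊗[k] K) :=
      (Algebra.TensorProduct.cancelBaseChange k k' k' P K).toRingEquiv.isArtinianRing
    exact (Algebra.TensorProduct.comm k P K).toRingEquiv.isArtinianRing

end Groth.Agent.S5061
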