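import Groth.Statements.S5065
import Mathlib
import Groth.Agent.Lib.Helper12.CompositumEtale

set_option autoImplicit false
universe u
open Unram

namespace Groth.Agent.S5065

open TensorProduct in
theorem aux (A A' L L₁ : Type u) [CommRing A] [IsDomain A]
    [IsIntegrallyClosed A] [CommRing A'] [IsDomain A'] [IsIntegrallyClosed A'] [Algebra A A']
    [Field L] [Algebra A L] [Algebra.IsAlgebraic A L] (hinj : Function.Injective (algebraMap A L))
    [Algebra.Etale A ↥(integralClosure A L)]
    [Field L₁] [Algebra A' L₁] [Algebra L L₁] [Algebra A L₁] [IsScalarTower A A' L₁] [IsScalarTower A L L₁]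
    (hinj' : Function.Injective (algebraMap A' L₁))
    (hgen : Subfield.closure (Set.range (algebraMap A' L₁) ∪ Set.range (algebraMap L L₁)) = ⊤) :
    Algebra.Etale A' ↥(integralClosure A' L₁) ∧
      integralClosure A' L₁ = Algebra.adjoin A' ((algebraMap L L₁) '' {x : L | IsIntegral A x}) := by
  classical
  haveI : Algebra.IsIntegral A ↥(integralClosure A L) := inferInstance
  haveI : Algebra.FiniteType A ↥(integralClosure A L) := inferInstance
  haveI : Module.Finite A ↥(integralClosure A L) := Algebra.IsIntegral.finite
  -- the map `A' ⊗ C → L₁`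
  let g : ↥(integralClosure A L) →ₐ[A] L₁ :=
    (IsScalarTower.toAlgHom A L L₁).comp (integralClosure A L).val
  let μ : A' ⊗[A] ↥(integralClosure A L) →ₐ[A'] L₁ :=
    Algebra.TensorProduct.lift (Algebra.ofId A' L₁) g (fun _ _ => Commute.all _ _)
  have hμ : ∀ (a' : A') (c : ↥(integralClosure A L)),
      μ (a' ⊗ₜ[A] c) = algebraMap A' L₁ a' * algebraMap L L₁ (c : L) := fun a' c =>
    Algebra.TensorProduct.lift_tmul _ _ _ a' c
  have hinjAL₁ : Function.Injective (algebraMap A L₁) := by
    rw [IsScalarTower.algebraMap_eq A L L₁]
    exact (algebraMap L L₁).injective.comp hinj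
  have hgen' : Subfield.closure (Set.range μ) = ⊤ := by
    rw [eq_top_iff, ← hgen, Subfield.closure_le]
    rintro x (⟨a', rfl⟩ | ⟨l, rfl⟩)
    · apply Subfield.subset_closure
      exact ⟨a' ⊗ₜ[A] 1, by rw [hμ]; simp⟩
    · obtain ⟨a, ha, hal⟩ := (Algebra.IsAlgebraic.isAlgebraic (R := A) l).exists_integral_multiple
      have h1 : algebraMap L L₁ (a • l) ∈ Subfield.closure (Set.range μ) := by
        apply Subfield.subset_closure
        exact ⟨1 ⊗ₜ[A] ⟨a • l, hal⟩, by rw [hμ]; simp⟩
      have h2 : algebraMap A L₁ a ∈ Subfield.closure (Set.range μ) := by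
        apply Subfield.subset_closure
        refine ⟨algebraMap A A' a ⊗ₜ[A] 1, ?_⟩
        rw [hμ, ← IsScalarTower.algebraMap_apply A A' L₁]
        simp
      have h3 : algebraMap A L₁ a ≠ 0 := fun h0 => ha (hinjAL₁ (by rw [h0, map_zero]))
      have h4 : algebraMap L L₁ l = algebraMap L L₁ (a • l) / algebraMap A L₁ a := by
        rw [Algebra.smul_def, map_mul, ← IsScalarTower.algebraMap_apply A L L₁]
        field_simp
      show algebraMap L L₁ l ∈ Subfield.closure (Set.range μ)
      rw [h4]
      exact Subfield.div_mem _ h1 h2
  obtain ⟨⟨e, hee, hker⟩, hsurj⟩ :=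
    Groth.Agent.Lib.Helper12.CompositumEtale.exists_idem_and_range hinj' μ hgen'
  have hint : ∀ y, IsIntegral A' (μ y) := fun y =>
    (Algebra.IsIntegral.isIntegral (R := A') y).map μ
  constructor
  · let μ' : A' ⊗[A] ↥(integralClosure A L) →ₐ[A'] ↥(integralClosure A' L₁) :=
      μ.codRestrict (integralClosure A' L₁) hint
    letI : Algebra (A' ⊗[A] ↥(integralClosure A L)) ↥(integralClosure A' L₁) :=
      μ'.toRingHom.toAlgebra
    haveI : IsScalarTower A' (A' ⊗[A] ↥(integralClosure A L)) ↥(integralClosure A' L₁) :=
      IsScalarTower.of_algebraMap_eq (fun a' => (μ'.commutes a').symm)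
    haveI : IsLocalization.Away e ↥(integralClosure A' L₁) := by
      apply IsLocalization.away_of_isIdempotentElem hee
      · rw [← hker]
        ext x
        rw [RingHom.mem_ker, RingHom.mem_ker]
        constructor
        · intro h
          exact congrArg Subtype.val h
        · intro h
          exact Subtype.ext h
      · rintro ⟨x, hx⟩
        obtain ⟨y, hy⟩ := hsurj x hx
        exact ⟨y, Subtype.ext hy⟩
    haveI : Algebra.Etale (A' ⊗[A] ↥(integralClosure A L)) ↥(integralClosure A' L₁) :=
      Algebra.Etale.of_isLocalizationAway e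
    exact Algebra.Etale.comp A' (A' ⊗[A] ↥(integralClosure A L)) ↥(integralClosure A' L₁)
  · apply le_antisymm
    · intro x hx
      obtain ⟨y, rfl⟩ := hsurj x hx
      induction y using TensorProduct.induction_on with
      | zero => rw [map_zero]; exact zero_mem _
      | tmul a' c =>
        rw [hμ, ← Algebra.smul_def]
        have hc : algebraMap L L₁ (c : L) ∈ (algebraMap L L₁) '' {x : L | IsIntegral A x} :=
          ⟨(c : L), c.2, rfl⟩
        exact Subalgebra.smul_mem _ (Algebra.subset_adjoin hc) a'
      | add y z hy hz =>
        rw [map_add]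
        exact add_mem (hy (hint y)) (hz (hint z))
    · apply Algebra.adjoin_le
      rintro _ ⟨l, hl, rfl⟩
      have h1 : IsIntegral A (algebraMap L L₁ l) := hl.map (IsScalarTower.toAlgHom A L L₁)
      exact IsIntegral.tower_top h1


/-- Let A ⊆ A' be integrally closed domains, L a field algebraic over the fraction field of A in which A
embeds and whose integral closure C over A is an étale A-algebra, and L₁ a field in which A' and L
both embed, compatibly over A, and which is generated as a field by the images of A' and L (a
compositum of L with the fraction field of A'; the map A' → L₁ is injective, so that the fraction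
field of A' is a subfield of L₁). Then the integral closure of A' in L₁ is an étale A'-algebra and
coincides with the A'-subalgebra generated by the image of C. -/
theorem result (A A' L L₁ : Type u) [CommRing A] [IsDomain A]
    [IsIntegrallyClosed A] [CommRing A'] [IsDomain A'] [IsIntegrallyClosed A'] [Algebra A A']
    [Field L] [Algebra A L] [Algebra.IsAlgebraic A L] (hinj : Function.Injective (algebraMap A L))
    [Algebra.Etale A ↥(integralClosure A L)]
    [Field L₁] [Algebra A' L₁] [Algebra L L₁] [Algebra A L₁] [IsScalarTower A A' L₁] [IsScalarTower A L L₁]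
    (hinj' : Function.Injective (algebraMap A' L₁))
    (hgen : Subfield.closure (Set.range (algebraMap A' L₁) ∪ Set.range (algebraMap L L₁)) = ⊤) :
    Algebra.Etale A' ↥(integralClosure A' L₁) ∧
      integralClosure A' L₁ = Algebra.adjoin A' ((algebraMap L L₁) '' {x : L | IsIntegral A x}) := by
  exact aux A A' L L₁ hinj hinj' hgen

end Groth.Agent.S5065
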