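import Groth.Statements.S5066
import Groth.Agent.Lib.Helper12.FiniteEtaleHom
import Groth.Agent.Lib.Helper12.EtaleLiftConverse

set_option autoImplicit false
universe u
open Hensel

namespace Groth.Agent.S5066

/-- Case of a local ring, affine étale schemes: a local ring A with maximal ideal m is henselian if and
only if, for every finite A-algebra C and every étale A-algebra E, composing with the projection C →
C/mC is a bijection from the set of A-algebra homomorphisms E → C onto the set of A-algebra
homomorphisms E → C/mC. -/
theorem result (A : Type u) [CommRing A] [IsLocalRing A] :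
    HenselianLocalRing A ↔
      ∀ (C : Type u) [CommRing C] [Algebra A C] [Module.Finite A C] (E : Type u) [CommRing E] [Algebra A E] [Algebra.Etale A E],
        Function.Bijective (fun φ : E →ₐ[A] C =>
          (Ideal.Quotient.mkₐ A (Ideal.map (algebraMap A C) (IsLocalRing.maximalIdeal A))).comp φ) := by
  constructor
  · intro hA C _ _ _ E _ _ _
    haveI := hA
    have hJ : (IsLocalRing.maximalIdeal A).map (algebraMap A C) ≤ Ideal.jacobson ⊥ :=
      Groth.Agent.Lib.Helper12.map_le_jacobson_of_isIntegral
        (HenselianRing.jac (I := IsLocalRing.maximalIdeal A)) C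
    constructor
    · intro φ φ' h
      apply Groth.Agent.Lib.Helper12.algHom_eq_of_sub_mem_of_unramified hJ
      intro x
      rw [← Ideal.Quotient.eq]
      exact AlgHom.congr_fun h x
    · intro g
      obtain ⟨φ, hφ⟩ := Groth.Agent.Lib.Helper12.exists_algHom_lift_of_etale_of_isIntegral A
        (IsLocalRing.maximalIdeal A) E C g
      exact ⟨φ, AlgHom.ext hφ⟩
  · intro H
    have hpair : HenselianRing A (IsLocalRing.maximalIdeal A) := by
      apply Groth.Agent.Lib.Helper12.henselianRing_of_etale_lift
      intro A' _ _ _ σ
      have heq : IsLocalRing.maximalIdeal A =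
          (IsLocalRing.maximalIdeal A).map (algebraMap A A) := by
        rw [Algebra.algebraMap_self, Ideal.map_id]
      let ι := Ideal.quotientEquivAlgOfEq A heq
      obtain ⟨φ, hφ⟩ := (H A A').surjective (ι.toAlgHom.comp σ)
      refine ⟨φ, ?_⟩
      ext x
      apply ι.injective
      have := AlgHom.congr_fun hφ x
      exact this
    refine { is_henselian := ?_ }
    intro f hf a₀ h0 h1
    exact hpair.is_henselian f hf a₀ h0 (h1.map _)

end Groth.Agent.S5066
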