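import Groth.Statements.S5067
-- import your own Groth.Agent.* helpers here
import Mathlib.AlgebraicGeometry.Morphisms.FlatMono
import Mathlib.AlgebraicGeometry.Morphisms.UniversallyOpen
import Mathlib.AlgebraicGeometry.PullbackCarrier

set_option autoImplicit false
open CategoryTheory AlgebraicGeometry
universe u
open Unram

namespace Groth.Agent.S5067

open CategoryTheory.Limits Scheme.Pullback

theorem subsingleton_tensor {X Y S : Scheme.{u}} {f : X ⟶ S} {g : Y ⟶ S} (T : Triplet f g)
    (h : IsIso (f.residueFieldMap T.x)) : Subsingleton (Spec T.tensor) := by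
  have h1 : IsIso ((S.residueFieldCongr T.hx).inv ≫ f.residueFieldMap T.x) := inferInstance
  have h2 : IsIso (T.tensorInr) := by
    unfold Triplet.tensorInr
    exact pushout_inr_iso_of_left_iso _ _
  have h3 : IsIso (Spec.map T.tensorInr) := inferInstance
  have : Subsingleton (Spec (Y.residueField T.y)) :=
    inferInstanceAs (Subsingleton (PrimeSpectrum (Y.residueField T.y)))
  exact (asIso (Spec.map T.tensorInr)).hom.homeomorph.toEquiv.subsingleton

theorem stepA {X Y : Scheme.{u}} (f : X ⟶ Y) (η : X) (hiso : IsIso (f.residueFieldMap η))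
    (ξ₁ ξ₂ : ↥(pullback f f)) (h₁ : pullback.fst f f ξ₁ = η) (h₁' : pullback.fst f f ξ₂ = η)
    (h₂ : pullback.snd f f ξ₁ = pullback.snd f f ξ₂) : ξ₁ = ξ₂ := by
  apply carrierEquiv.injective
  rw [carrierEquiv_eq_iff]
  have hx : ∀ x : X, x = η → IsIso (f.residueFieldMap x) := by
    rintro x rfl; exact hiso
  have : Subsingleton (Spec (carrierEquiv ξ₂).1.tensor) :=
    subsingleton_tensor _ (hx _ h₁')
  exact ⟨Triplet.ext (h₁.trans h₁'.symm) h₂, Subsingleton.elim _ _⟩


/-- Let f : X ⟶ Y be an étale separated morphism of integral schemes which maps the generic point of X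
to the generic point of Y and induces a bijection between the residue fields of the generic points
(f is birational). Then f is an open immersion. -/
theorem result {X Y : Scheme.{u}} [IsIntegral X] [IsIntegral Y]
    (f : X ⟶ Y) [Etale f] [IsSeparated f] (hgen : f.base (genericPoint X) = genericPoint Y)
    (hbir : Function.Bijective (f.residueFieldMap (genericPoint X)).hom) : IsOpenImmersion f := by
  have hiso : IsIso (f.residueFieldMap (genericPoint X)) :=
    (ConcreteCategory.isIso_iff_bijective _).mpr hbir
  have hfl : Flat f := inferInstance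
  have hlfp : LocallyOfFinitePresentation f := inferInstance
  set η := genericPoint X with hη
  set δ := pullback.diagonal f η with hδ
  have hδ1 : pullback.fst f f δ = η := by
    rw [hδ, ← Scheme.Hom.comp_apply, pullback.diagonal_fst]; rfl
  have hδ2 : pullback.snd f f δ = η := by
    rw [hδ, ← Scheme.Hom.comp_apply, pullback.diagonal_snd]; rfl
  have hgenη : ∀ x : X, η ⤳ x := fun x ↦ genericPoint_specializes x
  have hsurj : Function.Surjective (pullback.diagonal f) := by
    intro ξ
    obtain ⟨ξ', hξ', h1⟩ := Flat.generalizingMap (pullback.fst f f) (hgenη (pullback.fst f f ξ))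
    obtain ⟨ξ'', hξ'', h2⟩ := Flat.generalizingMap (pullback.snd f f) (hgenη (pullback.snd f f ξ'))
    have h3 : pullback.fst f f ξ'' = η := by
      have := hξ''.map (pullback.fst f f).continuous
      rw [h1] at this
      exact (this.antisymm (hgenη _)).eq
    have h4 : ξ'' = δ := stepA f η hiso ξ'' δ h3 hδ1 (h2.trans hδ2.symm)
    have h5 : δ ⤳ ξ := h4 ▸ hξ''.trans hξ'
    have hcl : IsClosed (Set.range (pullback.diagonal f)) :=
      (pullback.diagonal f).isClosedEmbedding.isClosed_range
    exact h5.mem_closed hcl ⟨η, rfl⟩
  have hepi : Epi (pullback.diagonal f).base := (TopCat.epi_iff_surjective _).mpr hsurj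
  have hisoΔ : IsIso (pullback.diagonal f) := IsOpenImmersion.isIso _
  have hmono : Mono f := (pullback.isIso_diagonal_iff f).mp hisoΔ
  exact IsOpenImmersion.of_flat_of_mono f

end Groth.Agent.S5067
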