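import Groth.Statements.S5072
import Groth.Agent.Lib.Helper12.StrictTensorC
import Groth.Agent.Lib.Helper12.StrictTensorG
import Groth.Agent.S9459

set_option autoImplicit false
open scoped TensorProduct
universe u
open Hensel

namespace Groth.Agent.S5072

/-- Case of a local ring A and a local finite A-algebra B: let S be a strict henselization of A and T a
strict henselization of B. Then there is a maximal ideal q of B ⊗_A S such that T is isomorphic, as
a B-algebra, to the local ring (B ⊗_A S)_q. -/
theorem result (A B S T : Type u) [CommRing A] [IsLocalRing A]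
    [CommRing B] [IsLocalRing B] [Algebra A B] [Module.Finite A B]
    [CommRing S] [IsLocalRing S] [Algebra A S] [IsLocalHom (algebraMap A S)] [Hensel.IsStrictHenselization A S]
    [CommRing T] [IsLocalRing T] [Algebra B T] [IsLocalHom (algebraMap B T)] [Hensel.IsStrictHenselization B T] :
    ∃ (q : Ideal (B ⊗[A] S)) (_ : q.IsMaximal), Nonempty (Localization.AtPrime q ≃ₐ[B] T) := by
  classical
  open IsLocalRing Groth.Agent.Lib.Helper12 Groth.Agent.Lib.Helper12.StrictTensor in
  haveI : HenselianLocalRing S := IsStrictHenselization.henselian (R := A)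
  haveI : HenselianLocalRing T := IsStrictHenselization.henselian (R := B)
  haveI : IsSepClosed (ResidueField S) :=
    (IsStrictHenselization.isSepClosure (R := A) (S := S)).sep_closed
  haveI : IsSepClosed (ResidueField T) :=
    (IsStrictHenselization.isSepClosure (R := B) (S := T)).sep_closed
  haveI hABloc : IsLocalHom (algebraMap A B) := by
    have hmax : ((maximalIdeal B).comap (algebraMap A B)).IsMaximal :=
      Ideal.isMaximal_comap_of_isIntegral_of_isMaximal _
    exact ((local_hom_TFAE _).out 0 4).mpr (eq_maximalIdeal hmax)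
  let f : A →+* T := (algebraMap B T).comp (algebraMap A B)
  haveI hfloc : IsLocalHom f := RingHom.isLocalHom_comp _ _
  letI : Algebra A T := f.toAlgebra
  haveI : IsScalarTower A B T := IsScalarTower.of_algebraMap_eq (fun _ => rfl)
  haveI : IsLocalHom (algebraMap A T) := hfloc
  haveI : Algebra.IsSeparable (ResidueField A) (ResidueField S) :=
    (IsStrictHenselization.isSepClosure (R := A) (S := S)).separable
  let τa : ResidueField S →ₐ[ResidueField A] ResidueField T := IsSepClosed.lift
  obtain ⟨σ, ⟨hσ1, hσ2⟩, -⟩ := IsStrictHenselization.universal (R := A) (S := S) T f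
    τa.toRingHom (by refine RingHom.ext fun x => ?_; exact τa.commutes x)
  haveI hσloc : IsLocalHom σ := by
    constructor
    intro x hx
    rw [← residue_ne_zero_iff_isUnit] at hx ⊢
    intro h0
    apply hx
    rw [hσ2, h0, map_zero]
  let σA : S →ₐ[A] T := { toRingHom := σ, commutes' := fun a => RingHom.congr_fun hσ1 a }
  let Ψ : B ⊗[A] S →ₐ[B] T :=
    Algebra.TensorProduct.lift (Algebra.ofId B T) σA (fun _ _ => Commute.all _ _)
  have hΨtmul : ∀ (b : B) (s : S), Ψ (b ⊗ₜ[A] s) = algebraMap B T b * σ s := fun b s => by
    simp [Ψ, σA, Algebra.ofId_apply]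
  letI : Algebra S (B ⊗[A] S) := Algebra.TensorProduct.rightAlgebra
  haveI : Algebra.IsIntegral S (B ⊗[A] S) := isIntegral_rightAlgebra A B S
  set q : Ideal (B ⊗[A] S) := (maximalIdeal T).comap (Ψ : B ⊗[A] S →+* T) with hq
  haveI hqprime : q.IsPrime := Ideal.comap_isPrime _ _
  have hΨS : (Ψ : B ⊗[A] S →+* T).comp (algebraMap S (B ⊗[A] S)) = σ := by
    refine RingHom.ext fun s => ?_
    show Ψ ((1 : B) ⊗ₜ[A] s) = σ s
    rw [hΨtmul, map_one, one_mul]
  have hqmax : q.IsMaximal := by
    apply Ideal.isMaximal_of_isIntegral_of_isMaximal_comap (R := S)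
    have h1 : q.comap (algebraMap S (B ⊗[A] S)) = maximalIdeal S := by
      rw [hq, Ideal.comap_comap, hΨS, IsLocalRing.maximalIdeal_comap]
    rw [h1]
    exact maximalIdeal.isMaximal S
  refine ⟨q, hqmax, ?_⟩
  obtain ⟨ΨL, hΨL, hΨLloc⟩ := Groth.Agent.S9459.exists_lift_local q
    (Ψ : B ⊗[A] S →+* T) rfl
  haveI := hΨLloc
  have hΨL' : ∀ z, ΨL (algebraMap (B ⊗[A] S) (Localization.AtPrime q) z) = Ψ z := fun z =>
    RingHom.congr_fun hΨL z
  have hsurj := surjective_algebraMap_localization_of_isIntegral S (B ⊗[A] S) q
  haveI : Algebra.IsIntegral S (Localization.AtPrime q) :=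
    Algebra.IsIntegral.of_surjective
      (IsScalarTower.toAlgHom S (B ⊗[A] S) (Localization.AtPrime q)) hsurj
  haveI : HenselianLocalRing (Localization.AtPrime q) :=
    henselianLocalRing_of_isIntegral S (Localization.AtPrime q)
  have hjS : ∀ s : S, ΨL (algebraMap S (Localization.AtPrime q) s) = σ s := fun s => by
    rw [IsScalarTower.algebraMap_apply S (B ⊗[A] S) (Localization.AtPrime q), hΨL']
    exact RingHom.congr_fun hΨS s
  haveI hjloc : IsLocalHom (algebraMap S (Localization.AtPrime q)) := by
    constructor
    intro s hs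
    have h1 : IsUnit (ΨL (algebraMap S (Localization.AtPrime q) s)) := hs.map ΨL
    rw [hjS] at h1
    exact isUnit_of_map_unit σ s h1
  haveI : Algebra.IsAlgebraic (ResidueField S) (ResidueField (Localization.AtPrime q)) :=
    isAlgebraic_residueField S (Localization.AtPrime q)
  haveI : IsSepClosed (ResidueField (Localization.AtPrime q)) :=
    Algebra.IsAlgebraic.isSepClosed (F := ResidueField S)
      (E := ResidueField (Localization.AtPrime q))
  have hcomp : ΨL.comp (algebraMap B (Localization.AtPrime q)) = algebraMap B T := by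
    refine RingHom.ext fun b => ?_
    show ΨL (algebraMap B (Localization.AtPrime q) b) = algebraMap B T b
    rw [IsScalarTower.algebraMap_apply B (B ⊗[A] S) (Localization.AtPrime q), hΨL']
    exact Ψ.commutes b
  haveI hθ₀loc : IsLocalHom (algebraMap B (Localization.AtPrime q)) := by
    constructor
    intro b hb
    have h1 : IsUnit (ΨL (algebraMap B (Localization.AtPrime q) b)) := hb.map ΨL
    rw [show ΨL (algebraMap B (Localization.AtPrime q) b) = algebraMap B T b from
      RingHom.congr_fun hcomp b] at h1
    exact isUnit_of_map_unit (algebraMap B T) b h1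
  obtain ⟨θ, hθ1, hθ2, hθ3⟩ := exists_section B T (Localization.AtPrime q)
    (algebraMap B (Localization.AtPrime q)) ΨL hcomp
  have hθ1' : ∀ b, θ (algebraMap B T b) = algebraMap B (Localization.AtPrime q) b := fun b =>
    RingHom.congr_fun hθ1 b
  -- θ ∘ σ = j
  have hθσ : ∀ s, θ (σ s) = algebraMap S (Localization.AtPrime q) s := by
    haveI : IsLocalHom ((algebraMap S (Localization.AtPrime q)).comp (algebraMap A S)) :=
      RingHom.isLocalHom_comp _ _
    obtain ⟨k, -, hkuniq⟩ := IsStrictHenselization.universal (R := A) (S := S)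
      (Localization.AtPrime q) ((algebraMap S (Localization.AtPrime q)).comp (algebraMap A S))
      (ResidueField.map (algebraMap S (Localization.AtPrime q)))
      (by rw [← ResidueField.map_comp])
    have e1 : θ.comp σ = k := by
      apply hkuniq
      refine ⟨?_, fun x => ?_⟩
      · refine RingHom.ext fun a => ?_
        show θ (σ (algebraMap A S a)) = algebraMap S (Localization.AtPrime q) (algebraMap A S a)
        have h1 : σ (algebraMap A S a) = algebraMap B T (algebraMap A B a) :=
          RingHom.congr_fun hσ1 a
        rw [h1, hθ1', IsScalarTower.algebraMap_apply B (B ⊗[A] S) (Localization.AtPrime q),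
          IsScalarTower.algebraMap_apply S (B ⊗[A] S) (Localization.AtPrime q)]
        congr 1
        show (algebraMap A B a) ⊗ₜ[A] (1 : S) = (1 : B) ⊗ₜ[A] (algebraMap A S a)
        rw [Algebra.algebraMap_eq_smul_one, Algebra.algebraMap_eq_smul_one,
          TensorProduct.smul_tmul]
      · show residue _ (θ (σ x)) =
          ResidueField.map (algebraMap S (Localization.AtPrime q)) (residue S x)
        apply (ResidueField.map ΨL).injective
        rw [hθ3, ResidueField.map_residue, ResidueField.map_residue, hjS]
    have e2 : algebraMap S (Localization.AtPrime q) = k := hkuniq _ ⟨rfl, fun x => rfl⟩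
    intro s
    exact RingHom.congr_fun (e1.trans e2.symm) s
  have key : ∀ z : B ⊗[A] S, θ (Ψ z) = algebraMap (B ⊗[A] S) (Localization.AtPrime q) z := by
    intro z
    induction z using TensorProduct.induction_on with
    | zero => rw [map_zero, map_zero, map_zero]
    | add x y hx hy => rw [map_add, map_add, map_add, hx, hy]
    | tmul b s =>
      have h1 : b ⊗ₜ[A] s = (b ⊗ₜ[A] (1 : S)) * ((1 : B) ⊗ₜ[A] s) := by
        rw [Algebra.TensorProduct.tmul_mul_tmul, mul_one, one_mul]
      rw [hΨtmul, map_mul, hθ1', hθσ, h1, map_mul,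
        IsScalarTower.algebraMap_apply B (B ⊗[A] S) (Localization.AtPrime q),
        IsScalarTower.algebraMap_apply S (B ⊗[A] S) (Localization.AtPrime q)]
      rfl
  have hθΨ : ∀ y, θ (ΨL y) = y := by
    intro y
    obtain ⟨z, rfl⟩ := hsurj y
    rw [hΨL', key]
  let ΨLalg : Localization.AtPrime q →ₐ[B] T :=
    { toRingHom := ΨL, commutes' := fun b => RingHom.congr_fun hcomp b }
  exact ⟨AlgEquiv.ofBijective ΨLalg
    ⟨Function.LeftInverse.injective hθΨ,
      Function.RightInverse.surjective (fun y => RingHom.congr_fun hθ2 y)⟩⟩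

end Groth.Agent.S5072
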