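import Groth.Statements.S5073
import Mathlib.RingTheory.Ideal.MinimalPrime.Localization
import Mathlib.RingTheory.Ideal.MinimalPrime.Noetherian
-- import your own Groth.Agent.* helpers here

set_option autoImplicit false
universe u
open EGA418

namespace Groth.Agent.S5073

/-- Let A be a Noetherian local ring, p a prime ideal and x an element of A. Then there is an element x'
of A whose image in A_p equals that of x and which belongs to no minimal prime ideal of A not
contained in p. -/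
theorem result (A : Type u) [CommRing A] [IsNoetherianRing A] [IsLocalRing A]
    (p : Ideal A) [p.IsPrime] (x : A) :
    ∃ x' : A, algebraMap A (Localization.AtPrime p) x' = algebraMap A (Localization.AtPrime p) x ∧
      ∀ q ∈ minimalPrimes A, ¬ q ≤ p → x' ∉ q := by
  classical
  set Ap := Localization.AtPrime p
  set J := RingHom.ker (algebraMap A Ap) with hJ
  have hfin : (minimalPrimes A).Finite := minimalPrimes.finite_of_isNoetherianRing A
  have key : ∀ q ∈ minimalPrimes A, ¬ q ≤ p → ¬ J ≤ q := by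
    intro q hq hqp hJq
    have hqprime : q.IsPrime := hq.1.1
    obtain ⟨q₁, hq₁, hq₁q⟩ := Ideal.exists_minimalPrimes_le hJq
    rw [hJ, RingHom.ker_eq_comap_bot, IsLocalization.minimalPrimes_comap p.primeCompl Ap ⊥] at hq₁
    obtain ⟨P, hP, rfl⟩ := hq₁
    have hPprime : P.IsPrime := hP.1.1
    have h1 : P.comap (algebraMap A Ap) ≤ p := by
      conv_rhs => rw [← Localization.AtPrime.comap_maximalIdeal (I := p)]
      exact Ideal.comap_mono (IsLocalRing.le_maximalIdeal hPprime.ne_top)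
    have h2 : q ≤ P.comap (algebraMap A Ap) := hq.2 ⟨inferInstance, bot_le⟩ hq₁q
    exact hqp (h2.trans h1)
  set S := hfin.toFinset.filter (fun q => ¬ q ≤ p) with hS
  set T := S.filter (fun q => x ∈ q) with hT
  set T' := S.filter (fun q => x ∉ q) with hT'
  set K := J * ∏ q ∈ T', q with hK
  have hSmin : ∀ q ∈ S, q ∈ minimalPrimes A := fun q hq =>
    hfin.mem_toFinset.mp (Finset.mem_filter.mp hq).1
  have hnot : ¬ ((K : Set A) ⊆ ⋃ q ∈ (↑T : Set (Ideal A)), (q : Set A)) := by
    intro hsub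
    obtain ⟨q₀, hq₀T, hKq₀⟩ := (Ideal.subset_union_prime (f := fun q : Ideal A => q) ⊥ ⊥
      (fun q hq _ _ => (hSmin q (Finset.mem_filter.mp hq).1).1.1)).mp hsub
    have hq₀S : q₀ ∈ S := (Finset.mem_filter.mp hq₀T).1
    have hq₀min : q₀ ∈ minimalPrimes A := hSmin q₀ hq₀S
    have hq₀p : ¬ q₀ ≤ p := (Finset.mem_filter.mp hq₀S).2
    have hq₀prime : q₀.IsPrime := hq₀min.1.1
    rcases (Ideal.IsPrime.mul_le hq₀prime).mp hKq₀ with h | h
    · exact key q₀ hq₀min hq₀p h
    · obtain ⟨q, hqT', hqq₀⟩ := (Ideal.IsPrime.prod_le hq₀prime).mp h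
      have hqS := (Finset.mem_filter.mp hqT').1
      have hqmin : q ∈ minimalPrimes A := hSmin q hqS
      have h3 : q₀ ≤ q := hq₀min.2 ⟨hqmin.1.1, bot_le⟩ hqq₀
      have h4 : q = q₀ := le_antisymm hqq₀ h3
      subst h4
      exact (Finset.mem_filter.mp hqT').2 (Finset.mem_filter.mp hq₀T).2
  obtain ⟨j, hjK, hj⟩ := Set.not_subset.mp hnot
  have hjJ : j ∈ J := Ideal.mul_le_left hjK
  have hjT' : ∀ q ∈ T', j ∈ q := fun q hq =>
    (Ideal.mul_le_right.trans (Ideal.prod_le_inf.trans (Finset.inf_le hq))) hjK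
  have hjT : ∀ q ∈ T, j ∉ q := fun q hq hjq => hj (Set.mem_biUnion hq hjq)
  refine ⟨x + j, ?_, ?_⟩
  · rw [map_add, (RingHom.mem_ker).mp hjJ, add_zero]
  · intro q hq hqp hxj
    have hqS : q ∈ S := Finset.mem_filter.mpr ⟨hfin.mem_toFinset.mpr hq, hqp⟩
    by_cases hxq : x ∈ q
    · have : q ∈ T := Finset.mem_filter.mpr ⟨hqS, hxq⟩
      exact hjT q this ((Ideal.add_mem_iff_right q hxq).mp hxj)
    · have : q ∈ T' := Finset.mem_filter.mpr ⟨hqS, hxq⟩
      exact hxq ((Ideal.add_mem_iff_left q (hjT' q this)).mp hxj)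

end Groth.Agent.S5073
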