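import Groth.Statements.S5078
import Mathlib.RingTheory.AdicCompletion.Functoriality
import Mathlib.RingTheory.Finiteness.Cardinality

set_option autoImplicit false
universe u v
open Hensel

namespace Groth.Agent.S5078

/-- Let A be a ring, I an ideal such that A is I-adically separated and complete, and M a finitely
generated projective A-module. Then M is I-adically separated and complete. -/
theorem result {A : Type u} [CommRing A] (I : Ideal A) [IsAdicComplete I A]
    (M : Type v) [AddCommGroup M] [Module A M] [Module.Finite A M] [Module.Projective A M] :
    IsAdicComplete I M := by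
  obtain ⟨n, f, hf⟩ := Module.Finite.exists_fin' A M
  obtain ⟨g, hg⟩ := Module.projective_lifting_property f LinearMap.id hf
  have hpi : Function.Bijective (AdicCompletion.of I (Fin n → A)) := by
    have h1 : Function.Bijective (fun (x : Fin n → A) (j : Fin n) ↦ AdicCompletion.of I A (x j)) := by
      have hb := AdicCompletion.of_bijective I A
      constructor
      · intro x y hxy
        funext j
        exact hb.1 (congrFun hxy j)
      · intro y
        choose x hx using fun j ↦ hb.2 (y j)
        exact ⟨x, funext hx⟩
    have h2 : (fun (x : Fin n → A) (j : Fin n) ↦ AdicCompletion.of I A (x j)) =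
        (AdicCompletion.piEquivFin I n) ∘ (AdicCompletion.of I (Fin n → A)) := by
      funext x j
      rw [Function.comp_apply, AdicCompletion.piEquivFin_apply]
      ext k
      rw [AdicCompletion.pi_apply_coe]
      simp only [AdicCompletion.of_apply, smul_eq_mul]
      erw [LinearMap.reduceModIdeal_apply]
      rfl
    rw [h2] at h1
    exact (Function.Bijective.of_comp_iff' (AdicCompletion.piEquivFin I n).bijective _).mp h1
  rw [← AdicCompletion.of_bijective_iff]
  have hfg : ∀ x, f (g x) = x := fun x ↦ by
    have := LinearMap.congr_fun hg x
    simpa using this
  constructor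
  · intro x y hxy
    have : AdicCompletion.of I _ (g x) = AdicCompletion.of I _ (g y) := by
      rw [← AdicCompletion.map_of, ← AdicCompletion.map_of, hxy]
    have := hpi.1 this
    rw [← hfg x, ← hfg y, this]
  · intro y
    obtain ⟨z, hz⟩ := hpi.2 (AdicCompletion.map I g y)
    refine ⟨f z, ?_⟩
    rw [← AdicCompletion.map_of, hz, AdicCompletion.map_comp_apply, hg, AdicCompletion.map_id]
    rfl

end Groth.Agent.S5078
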