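import Groth.Statements.S5081
import Mathlib.RingTheory.Derivation.Basic
import Mathlib.RingTheory.Ideal.Quotient.Operations

set_option autoImplicit false
universe u
open Unram

namespace Groth.Agent.S5081

open Polynomial

section
variable {A B : Type u} [CommRing A] [CommRing B] [Algebra A B] (u : B)

theorem surj_aeval (hu : Algebra.adjoin A ({u} : Set B) = ⊤) :
    Function.Surjective (Polynomial.aeval u : Polynomial A →ₐ[A] B) := by
  intro b
  have hb : b ∈ Algebra.adjoin A ({u} : Set B) := hu ▸ Algebra.mem_top
  rw [Algebra.adjoin_singleton_eq_range_aeval] at hb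
  exact hb

theorem first_part (hu : Algebra.adjoin A ({u} : Set B) = ⊤) (F : Polynomial A)
    (hF : Polynomial.aeval u F = 0) :
    Ideal.span {Polynomial.aeval u (Polynomial.derivative F)} ≤
      Module.annihilator B (KaehlerDifferential A B) := by
  rw [Ideal.span_le, Set.singleton_subset_iff, SetLike.mem_coe, Module.mem_annihilator]
  have key : aeval u (derivative F) • KaehlerDifferential.D A B u = 0 := by
    rw [← Derivation.map_aeval, hF, map_zero]
  intro m
  have hm : m ∈ Submodule.span B (Set.range (KaehlerDifferential.D A B)) := by
    rw [KaehlerDifferential.span_range_derivation]; trivial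
  induction hm using Submodule.span_induction with
  | mem x hx =>
    obtain ⟨b, rfl⟩ := hx
    obtain ⟨p, rfl⟩ := surj_aeval u hu b
    rw [Derivation.map_aeval, smul_smul, mul_comm, ← smul_smul, key, smul_zero]
  | zero => simp
  | add x y _ _ hx hy => rw [smul_add, hx, hy, add_zero]
  | smul a x _ hx => rw [smul_comm, hx, smul_zero]

variable (F : Polynomial A)

/-- well-definedness -/
theorem wd (hker : RingHom.ker (Polynomial.aeval u : Polynomial A →ₐ[A] B) = Ideal.span {F})
    (p q : Polynomial A) (hpq : aeval u p = aeval u q) :
    Ideal.Quotient.mk (Ideal.span {aeval u (derivative F)}) (aeval u (derivative p)) =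
    Ideal.Quotient.mk (Ideal.span {aeval u (derivative F)}) (aeval u (derivative q)) := by
  have hF : aeval u F = 0 := by
    have : F ∈ RingHom.ker (Polynomial.aeval u : Polynomial A →ₐ[A] B) := by
      rw [hker]; exact Ideal.mem_span_singleton_self F
    exact this
  have h1 : p - q ∈ RingHom.ker (Polynomial.aeval u : Polynomial A →ₐ[A] B) := by
    rw [RingHom.mem_ker, map_sub, hpq, sub_self]
  rw [hker, Ideal.mem_span_singleton] at h1
  obtain ⟨r, hr⟩ := h1
  rw [Ideal.Quotient.eq, ← map_sub, ← map_sub, hr, derivative_mul, map_add, map_mul, map_mul, hF,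
    zero_mul, add_zero, Ideal.mem_span_singleton]
  exact Dvd.intro _ rfl


noncomputable def δfun (hu : Algebra.adjoin A ({u} : Set B) = ⊤) (b : B) :
    B ⧸ Ideal.span {aeval u (derivative F)} :=
  Ideal.Quotient.mk _ (aeval u (derivative (Function.surjInv (surj_aeval u hu) b)))

theorem δfun_spec (hu : Algebra.adjoin A ({u} : Set B) = ⊤)
    (hker : RingHom.ker (Polynomial.aeval u : Polynomial A →ₐ[A] B) = Ideal.span {F})
    (p : Polynomial A) :
    δfun u F hu (aeval u p) = Ideal.Quotient.mk _ (aeval u (derivative p)) :=
  wd u F hker _ _ (Function.surjInv_eq (surj_aeval u hu) _)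

noncomputable def δ (hu : Algebra.adjoin A ({u} : Set B) = ⊤)
    (hker : RingHom.ker (Polynomial.aeval u : Polynomial A →ₐ[A] B) = Ideal.span {F}) :
    Derivation A B (B ⧸ Ideal.span {aeval u (derivative F)}) :=
  Derivation.mk'
    { toFun := δfun u F hu
      map_add' := by
        intro b₁ b₂
        obtain ⟨p₁, rfl⟩ := surj_aeval u hu b₁
        obtain ⟨p₂, rfl⟩ := surj_aeval u hu b₂
        rw [← map_add, δfun_spec u F hu hker, δfun_spec u F hu hker, δfun_spec u F hu hker,
          derivative_add, map_add, map_add]
      map_smul' := by
        intro a b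
        obtain ⟨p, rfl⟩ := surj_aeval u hu b
        rw [← map_smul, δfun_spec u F hu hker, δfun_spec u F hu hker, derivative_smul, map_smul,
          RingHom.id_apply]
        rfl }
    (by
      intro b₁ b₂
      obtain ⟨p₁, rfl⟩ := surj_aeval u hu b₁
      obtain ⟨p₂, rfl⟩ := surj_aeval u hu b₂
      change δfun u F hu _ = _ • δfun u F hu _ + _ • δfun u F hu _
      rw [← map_mul, δfun_spec u F hu hker, δfun_spec u F hu hker, δfun_spec u F hu hker,
        derivative_mul, map_add, map_mul, map_mul, map_add, map_mul, map_mul]
      simp only [Algebra.smul_def, Ideal.Quotient.algebraMap_eq]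
      ring)

theorem second_part (hu : Algebra.adjoin A ({u} : Set B) = ⊤)
    (hker : RingHom.ker (Polynomial.aeval u : Polynomial A →ₐ[A] B) = Ideal.span {F}) :
    Module.annihilator B (KaehlerDifferential A B) ≤
      Ideal.span {aeval u (derivative F)} := by
  intro b hb
  rw [Module.mem_annihilator] at hb
  have h1 := hb (KaehlerDifferential.D A B u)
  have h2 := congrArg (δ u F hu hker).liftKaehlerDifferential h1
  rw [map_smul, Derivation.liftKaehlerDifferential_comp_D, map_zero] at h2
  have h3 : δ u F hu hker u = 1 := by
    change δfun u F hu u = 1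
    have := δfun_spec u F hu hker X
    rw [aeval_X, derivative_X, map_one, map_one] at this
    exact this
  rw [h3, Algebra.smul_def, mul_one, Ideal.Quotient.algebraMap_eq,
    Ideal.Quotient.eq_zero_iff_mem] at h2
  exact h2

end


/-- Let B be a finite A-algebra generated by a single element u and F a polynomial with coefficients in
A such that F(u) = 0. Then the ideal generated by F'(u) is contained in the annihilator of the
module of differentials of B over A, and equals it when the kernel of the surjection A[T] → B
sending T to u is generated by F. -/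
theorem result (A B : Type u) [CommRing A] [CommRing B] [Algebra A B]
    [Module.Finite A B] (u : B) (hu : Algebra.adjoin A ({u} : Set B) = ⊤) (F : Polynomial A) (hF : Polynomial.aeval u F = 0) :
    Ideal.span {Polynomial.aeval u (Polynomial.derivative F)} ≤ Module.annihilator B (KaehlerDifferential A B) ∧
      (RingHom.ker (Polynomial.aeval u : Polynomial A →ₐ[A] B) = Ideal.span {F} →
        Module.annihilator B (KaehlerDifferential A B) = Ideal.span {Polynomial.aeval u (Polynomial.derivative F)}) := by
  exact ⟨first_part u hu F hF, fun hker ↦ le_antisymm (second_part u F hu hker) (first_part u hu F hF)⟩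

end Groth.Agent.S5081
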