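import Groth.Statements.S5082
import Groth.Agent.Lib.Helper29.MeroDiv2
import Groth.Agent.Lib.Helper21.DepthKit2

set_option autoImplicit false
universe u
open CategoryTheory CategoryTheory.Limits AlgebraicGeometry TopologicalSpace
open Mero

namespace Groth.Agent.S5082



section Helpers

open Groth.Agent.Lib.Helper29.MeroDiv

variable (A : Type u) [CommRing A] [IsLocalRing A]

/-- the closed point of `Spec A` -/
noncomputable def cpt : ↥(Spec (CommRingCat.of A)) := IsLocalRing.closedPoint A

theorem specializes_cpt (y : ↥(Spec (CommRingCat.of A))) : y ⤳ cpt A :=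
  IsLocalRing.specializes_closedPoint y

/-- `A → O_{Spec A, closed point}` is bijective -/
theorem toStalk_bijective :
    Function.Bijective (StructureSheaf.toStalk A (IsLocalRing.closedPoint A)) := by
  have h := IsLocalization.atUnits A (IsLocalRing.closedPoint A).asIdeal.primeCompl
    (S := (Spec.structureSheaf A).presheaf.stalk (IsLocalRing.closedPoint A)) (fun t ht => by
      by_contra hu
      exact ht ((IsLocalRing.mem_maximalIdeal t).2 hu))
  have h2 : ∀ a : A, h a = StructureSheaf.toStalk A (IsLocalRing.closedPoint A) a := fun a => by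
    rw [← mul_one a, ← smul_eq_mul, map_smul, map_one, Algebra.smul_def, mul_one, smul_eq_mul, mul_one]
    rfl
  have h3 : (⇑(ConcreteCategory.hom (StructureSheaf.toStalk A (IsLocalRing.closedPoint A))) : A → _) = ⇑h :=
    funext fun a => (h2 a).symm
  rw [h3]
  exact h.bijective

/-- in depth zero, nonzerodivisors are units -/
theorem isUnit_of_nzd_of_depth_zero [IsNoetherianRing A] (h : LocCoh.depth A A = 0) (t : A)
    (ht : t ∈ nonZeroDivisors A) : IsUnit t := by
  by_contra hu
  have hm : t ∈ IsLocalRing.maximalIdeal A := (IsLocalRing.mem_maximalIdeal t).2 hu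
  have hass : IsLocalRing.maximalIdeal A ∈ associatedPrimes A A :=
    (Groth.Agent.S5752.result A A).1 h
  have h1 : t ∈ ⋃ p ∈ associatedPrimes A A, (p : Set A) :=
    Set.mem_biUnion hass hm
  rw [biUnion_associatedPrimes_eq_compl_nonZeroDivisors] at h1
  exact h1 ht

theorem isUnit_of_nzd_stalk [IsNoetherianRing A] (h : LocCoh.depth A A = 0)
    (τ : (Spec (CommRingCat.of A)).presheaf.stalk (cpt A))
    (hτ : τ ∈ nonZeroDivisors ((Spec (CommRingCat.of A)).presheaf.stalk (cpt A))) : IsUnit τ := by
  obtain ⟨a, rfl⟩ := (toStalk_bijective A).2 τ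
  have ha : a ∈ nonZeroDivisors A := by
    rw [mem_nonZeroDivisors_iff_right]
    intro c hc
    apply (toStalk_bijective A).1
    rw [map_zero]
    apply (mem_nonZeroDivisors_iff_right.1 hτ)
    have := congrArg (StructureSheaf.toStalk A (IsLocalRing.closedPoint A)) hc
    rw [map_mul, map_zero] at this
    exact this
  exact (isUnit_of_nzd_of_depth_zero A h a ha).map _

end Helpers

/-- Let A be a Noetherian local ring. Then the group of divisors of Spec A is trivial (every divisor
equals the unit divisor, divisors being written multiplicatively) if and only if A has depth 0, that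
is, if and only if every element of the maximal ideal of A is a zero-divisor. -/
theorem result (A : Type u) [CommRing A] [IsNoetherianRing A] [IsLocalRing A] :
    (∀ D : Mero.Divisor (Spec (CommRingCat.of A)), D = 1) ↔ LocCoh.depth A A = 0 := by
  constructor
  · intro hall
    by_contra h0
    have h1 : 1 ≤ LocCoh.depth A A := Order.one_le_iff_pos.2 (pos_iff_ne_zero.2 h0)
    obtain ⟨t, htm, htreg⟩ :=
      Groth.Agent.Lib.Helper21.DepthKit.exists_regular_of_one_le_depth (A := A) (M := A) h1
    set X := Spec (CommRingCat.of A) with hX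
    set t' : Γ(X, ⊤) := (Scheme.ΓSpecIso (CommRingCat.of A)).inv t with ht'
    have hnzd : t' ∈ nonZeroDivisors Γ(X, ⊤) := by
      rw [mem_nonZeroDivisors_iff_right]
      intro c hc
      have h2 : (Scheme.ΓSpecIso (CommRingCat.of A)).hom c * t = 0 := by
        have := congrArg (Scheme.ΓSpecIso (CommRingCat.of A)).hom hc
        rw [map_mul, map_zero, ht', Iso.inv_hom_id_apply] at this
        exact this
      have h3 : (Scheme.ΓSpecIso (CommRingCat.of A)).hom c = 0 := by
        apply htreg
        simp only [smul_eq_mul, mul_zero]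
        rw [mul_comm]
        exact h2
      have := congrArg (Scheme.ΓSpecIso (CommRingCat.of A)).inv h3
      rw [Iso.hom_inv_id_apply, map_zero] at this
      exact this
    have hreg : t' ∈ regSub X ⊤ := by
      rw [Groth.Agent.S12513.result X ⊤ (isAffineOpen_top X)]
      exact hnzd
    have h4 := hall (Mero.div (Groth.Agent.Lib.Helper29.MeroDiv.regUnit ⟨t', hreg⟩))
    have h5 : germOf (Groth.Agent.Lib.Helper29.MeroDiv.regUnit ⟨t', hreg⟩)
        ⟨cpt A, Opens.mem_top _⟩ = 1 :=
      congrArg (fun D : Mero.Divisor X => D.1 (cpt A)) h4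
    rw [Groth.Agent.Lib.Helper29.MeroDiv.germOf_regUnit_eq_one_iff] at h5
    have h6 : cpt A ∈ X.basicOpen t' := (Scheme.mem_basicOpen_top X t' (cpt A)).2 h5
    rw [ht', basicOpen_eq_of_affine] at h6
    exact h6 htm
  · intro h D
    refine Subtype.ext (funext fun y => ?_)
    exact Groth.Agent.Lib.Helper29.MeroDiv.eq_one_of_specializes D (cpt A)
      (isUnit_of_nzd_stalk A h) y (specializes_cpt A y)



end Groth.Agent.S5082
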