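import Groth.Statements.S5083
import Groth.Agent.Lib.Helper29.MeroHom

set_option autoImplicit false
universe u
open CategoryTheory CategoryTheory.Limits AlgebraicGeometry TopologicalSpace
open Mero

namespace Groth.Agent.S5083



section Helpers

variable {X : Scheme.{u}}

/-- multiplication by a unit of `K_{X,x}` -/
noncomputable def mulEquiv (x : X) (c : (KStalk X x)ˣ) :
    KStalk X x ≃ₗ[X.presheaf.stalk x] KStalk X x where
  toFun t := t * c
  invFun t := t * (c⁻¹ : (KStalk X x)ˣ)
  map_add' := fun a b => add_mul a b _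
  map_smul' r t := by
    simp only [Algebra.smul_def, RingHom.id_apply, mul_assoc]
  left_inv t := by simp [mul_assoc]
  right_inv t := by simp [mul_assoc]

theorem mulEquiv_apply (x : X) (c : (KStalk X x)ˣ) (t : KStalk X x) : mulEquiv x c t = t * c := rfl

theorem mulEquiv_symm_apply (x : X) (c : (KStalk X x)ˣ) (t : KStalk X x) :
    (mulEquiv x c).symm t = t * (c⁻¹ : (KStalk X x)ˣ) := rfl

/-- the value of a unit of `Γ(⊤, K_X)` at a point, as a unit -/
noncomputable def valUnit (f : (Γ(kmod X, ⊤))ˣ) (x : X) : (KStalk X x)ˣ :=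
  Units.map (evalK X ⊤ ⟨x, Opens.mem_top x⟩).toMonoidHom f

theorem valUnit_val (f : (Γ(kmod X, ⊤))ˣ) (x : X) :
    ((valUnit f x : (KStalk X x)ˣ) : KStalk X x) = (f : Γ(kmod X, ⊤)).1 ⟨x, Opens.mem_top x⟩ := rfl

theorem valUnit_inv (f : (Γ(kmod X, ⊤))ˣ) (x : X) :
    (((valUnit f x)⁻¹ : (KStalk X x)ˣ) : KStalk X x) =
      ((f⁻¹ : (Γ(kmod X, ⊤))ˣ) : Γ(kmod X, ⊤)).1 ⟨x, Opens.mem_top x⟩ := rfl

/-- multiplying a section of `K_X` over `U` by a global section -/
theorem kLoc_mul_global (g : Γ(kmod X, ⊤)) (U : X.Opens) (t : ∀ x : U, KStalk X x.1)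
    (ht : (kLoc X).pred t) :
    (kLoc X).pred (fun x : U => t x * g.1 ⟨x.1, Opens.mem_top x.1⟩) := by
  have hg : (kLoc X).pred (fun x : U => g.1 ⟨x.1, Opens.mem_top x.1⟩) :=
    (kLoc X).res (homOfLE le_top : U ⟶ ⊤) g.1 g.2
  exact kLoc_mul X U t _ ht hg

end Helpers

/-- Let X be a scheme and D, D' divisors on X (global sections of the sheaf of units of K_X modulo units
of O_X, written multiplicatively). If D and D' are linearly equivalent, i.e. D · D'⁻¹ is the divisor
of a unit of the ring of global sections of K_X, then the O_X-modules O_X(D) and O_X(D') are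
isomorphic. (The published statement is an equivalence: O_X(D) and O_X(D') are isomorphic if and
only if D and D' are linearly equivalent; this row states only that linearly equivalent divisors
have isomorphic modules.) -/
theorem result (X : Scheme.{u}) (D D' : Mero.Divisor X) (h : Mero.LinEquiv D D') :
    Nonempty (Mero.divMod D ≅ Mero.divMod D') := by
  obtain ⟨f, hf⟩ := h
  have hD : ∀ x : X, D.1 x = QuotientGroup.mk (valUnit f x) * D'.1 x := by
    intro x
    have := congrArg (fun E : Mero.Divisor X => E.1 x) hf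
    change D.1 x * (D'.1 x)⁻¹ = QuotientGroup.mk (valUnit f x) at this
    exact eq_mul_of_mul_inv_eq this
  refine ⟨Groth.Agent.Lib.Helper29.MeroDiv.modOfIso (divLoc X D) (divLoc X D')
    (fun x => mulEquiv x (valUnit f x)) ?_ ?_⟩
  · rintro U t ⟨ht1, ht2⟩
    refine ⟨kLoc_mul_global (f : Γ(kmod X, ⊤)) U t ht1, fun x g' hg' => ?_⟩
    change t x * (valUnit f x.1 : KStalk X x.1) * g' ∈ _
    have h1 := ht2 x (valUnit f x.1 * g') (by rw [hD, hg', QuotientGroup.mk_mul])
    rw [Units.val_mul, ← mul_assoc] at h1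
    exact h1
  · rintro U t ⟨ht1, ht2⟩
    refine ⟨kLoc_mul_global ((f⁻¹ : (Γ(kmod X, ⊤))ˣ) : Γ(kmod X, ⊤)) U t ht1, fun x g hg => ?_⟩
    change t x * ((valUnit f x.1)⁻¹ : (KStalk X x.1)ˣ) * g ∈ _
    have h1 := ht2 x ((valUnit f x.1)⁻¹ * g) (by
      rw [QuotientGroup.mk_mul, QuotientGroup.mk_inv, ← hg]
      exact eq_inv_mul_of_mul_eq (hD x.1).symm)
    rw [Units.val_mul, ← mul_assoc] at h1
    exact h1



end Groth.Agent.S5083
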