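import Groth.Statements.S5084
import Groth.Agent.Lib.Helper29.MeroDiv2
import Groth.Agent.Lib.Helper29.QCohStalk2
import Groth.Agent.Lib.Helper29.QCohExact
import Groth.Agent.Lib.Helper29.ZClosLib

set_option autoImplicit false
universe u
open CategoryTheory CategoryTheory.Limits AlgebraicGeometry TopologicalSpace
open Mero

namespace Groth.Agent.S5084



section Helpers

open Groth.Agent.Lib.Helper29.QCohStalk Groth.Agent.Lib.Helper28.QCohLoc

variable {X : Scheme.{u}}

theorem toMer_app_apply (F : X.Modules) (U : X.Opens) (m : Γ(F, U)) (y : U) :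
    ((Mero.toMer F).app U m).1 y = LocalizedModule.mk (F.presheaf.germ U y.1 y.2 m) 1 := rfl

/-- in a Noetherian local ring whose maximal ideal is not associated there is a nonzerodivisor in the
maximal ideal -/
theorem exists_nzd_mem_maximalIdeal {A : Type u} [CommRing A] [IsLocalRing A] [IsNoetherianRing A]
    (h : ¬ IsAssociatedPrime (IsLocalRing.maximalIdeal A) A) :
    ∃ t ∈ IsLocalRing.maximalIdeal A, t ∈ nonZeroDivisors A := by
  by_contra hcon
  push Not at hcon
  have hI : ((IsLocalRing.maximalIdeal A : Ideal A) : Set A) ⊆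
      ⋃ p ∈ associatedPrimes A A, (p : Set A) := by
    rw [biUnion_associatedPrimes_eq_compl_nonZeroDivisors]
    exact fun t ht => hcon t ht
  have hfin : (associatedPrimes A A).Finite := associatedPrimes.finite _ _
  have h1 : ((IsLocalRing.maximalIdeal A : Ideal A) : Set A) ⊆
      ⋃ i ∈ (↑hfin.toFinset : Set (Ideal A)), ((id i : Ideal _) : Set _) := by
    intro b hb
    have := hI hb
    simp only [Set.mem_iUnion, exists_prop] at this ⊢
    obtain ⟨q, hq, hbq⟩ := this
    exact ⟨q, by simpa using hq, hbq⟩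
  obtain ⟨P, hP, hle⟩ := (Ideal.subset_union_prime (s := hfin.toFinset) (f := id) ⊥ ⊥
    (fun i hi _ _ => (hfin.mem_toFinset.1 hi).isPrime)).1 h1
  have hP' : IsAssociatedPrime P A := hfin.mem_toFinset.1 hP
  have : P = IsLocalRing.maximalIdeal A :=
    ((IsLocalRing.maximalIdeal.isMaximal A).eq_of_le hP'.isPrime.ne_top hle).symm
  exact h (this ▸ hP')

end Helpers

/-- Let X be a locally Noetherian scheme and F a quasi-coherent O_X-module. Then F is torsion-free — the
canonical map from F to its sheaf of meromorphic sections K_X(F), m ↦ m/1, is a monomorphism, i.e.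
at every point no germ of a regular function kills a nonzero element of the stalk of F — if and only
if every associated point of F is an associated point of the structure sheaf (a point x such that
the maximal ideal of O_{X,x} is an associated prime of O_{X,x}). -/
theorem result (X : Scheme.{u}) [IsLocallyNoetherian X]
    (F : X.Modules) (hF : Coh.IsQCoh F) :
    Mono (Mero.toMer F) ↔
      ∀ x : ↥X, Curv2.IsAssPoint F x →
        IsAssociatedPrime (IsLocalRing.maximalIdeal ↑(X.presheaf.stalk x)) ↑(X.presheaf.stalk x) := by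
  haveI : F.IsQuasicoherent := hF
  constructor
  · intro hmono x hx
    by_contra hnot
    obtain ⟨t, htm, htnzd⟩ := exists_nzd_mem_maximalIdeal hnot
    have hx' : IsAssociatedPrime (IsLocalRing.maximalIdeal (X.presheaf.stalk x))
        (F.presheaf.stalk x) := hx
    rw [isAssociatedPrime_iff] at hx'
    obtain ⟨-, ξ, hξ⟩ := hx'
    have htξ : t • ξ = 0 := by
      have h0 : t ∈ (⊥ : Submodule (X.presheaf.stalk x) (F.presheaf.stalk x)).colon {ξ} := hξ ▸ htm
      rwa [Submodule.mem_colon_singleton, Submodule.mem_bot] at h0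
    have hξ0 : ξ ≠ 0 := by
      rintro rfl
      have h0 : (1 : X.presheaf.stalk x) ∈ IsLocalRing.maximalIdeal (X.presheaf.stalk x) := by
        rw [hξ, Submodule.mem_colon_singleton]; simp
      exact (IsLocalRing.maximalIdeal.isMaximal _).ne_top ((Ideal.eq_top_iff_one _).2 h0)
    have htreg : t ∈ regStalk X x := by rw [Groth.Agent.S8863.result X x]; exact htnzd
    obtain ⟨V, hxV, b, hb, hbt⟩ := htreg
    obtain ⟨V', hxV', m, hmξ⟩ := TopCat.Presheaf.exists_germ_eq F.presheaf ξ
    have h2 : Groth.Agent.Lib.Helper29.QCohStalk.gm F (V ⊓ V') x ⟨hxV, hxV'⟩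
        (Groth.Agent.Lib.Helper28.QCohLoc.resO (inf_le_left : V ⊓ V' ≤ V) b •
          Groth.Agent.Lib.Helper28.QCohLoc.res F (inf_le_right : V ⊓ V' ≤ V') m) =
        Groth.Agent.Lib.Helper29.QCohStalk.gm F (V ⊓ V') x ⟨hxV, hxV'⟩ 0 := by
      rw [Groth.Agent.Lib.Helper29.QCohStalk.gm_smul, Groth.Agent.Lib.Helper29.QCohStalk.gm_res,
        Groth.Agent.Lib.Helper29.QCohStalk.germ_resO, Groth.Agent.Lib.Helper29.QCohStalk.gm_zero, hbt]
      change t • F.presheaf.germ V' x hxV' m = 0
      rw [hmξ]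
      exact htξ
    obtain ⟨V₃, hxV₃, iU, iV, hres⟩ := TopCat.Presheaf.germ_eq F.presheaf x _ _ _ _ h2
    have hV₃V : V₃ ≤ V := iU.le.trans inf_le_left
    have hV₃V' : V₃ ≤ V' := iU.le.trans inf_le_right
    set m₃ := Groth.Agent.Lib.Helper28.QCohLoc.res F hV₃V' m with hm₃
    set b₃ := Groth.Agent.Lib.Helper28.QCohLoc.resO hV₃V b with hb₃
    have hbm : b₃ • m₃ = 0 := by
      have h4 : F.presheaf.map iV.op (0 : Γ(F, V ⊓ V')) = 0 := map_zero _
      rw [h4] at hres
      change Groth.Agent.Lib.Helper28.QCohLoc.res F iU.le _ = 0 at hres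
      rw [Groth.Agent.Lib.Helper28.QCohLoc.res_smul,
        Groth.Agent.Lib.Helper28.QCohLoc.res_res, Groth.Agent.Lib.Helper28.QCohLoc.resO_resO] at hres
      exact hres
    have h3 : (Mero.toMer F).app V₃ m₃ = 0 := by
      refine Subtype.ext (funext fun y => ?_)
      rw [toMer_app_apply]
      change _ = (0 : MStalk F y.1)
      rw [← LocalizedModule.zero_mk (1 : regStalk X y.1), LocalizedModule.mk_eq]
      refine ⟨regGerm y ⟨b₃, regSub_res _ hb⟩, ?_⟩
      simp only [one_smul, smul_zero]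
      change X.presheaf.germ V₃ y.1 y.2 b₃ • Groth.Agent.Lib.Helper29.QCohStalk.gm F V₃ y.1 y.2 m₃ = 0
      rw [← Groth.Agent.Lib.Helper29.QCohStalk.gm_smul, hbm, Groth.Agent.Lib.Helper29.QCohStalk.gm_zero]
    have h4 : m₃ = 0 :=
      Groth.Agent.Lib.Helper29.QCohStalk.injective_app_of_mono (Mero.toMer F) hmono V₃
        (h3.trans (map_zero _).symm)
    apply hξ0
    rw [← hmξ]
    have := Groth.Agent.Lib.Helper29.QCohStalk.gm_res F hV₃V' x hxV₃ m
    rw [← hm₃, h4, Groth.Agent.Lib.Helper29.QCohStalk.gm_zero] at this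
    exact this.symm
  · intro hass
    apply Groth.Agent.Lib.Helper29.ZClosLib.mono_of_injective
    intro U
    rw [← AddMonoidHom.coe_coe, injective_iff_map_eq_zero]
    intro m hm
    apply Groth.Agent.Lib.Helper29.QCohStalk.eq_zero_of_forall_gm_eq_zero U m
    intro y hy
    by_contra hne
    have h1 : (LocalizedModule.mk (Groth.Agent.Lib.Helper29.QCohStalk.gm F U y hy m)
        (1 : regStalk X y) : MStalk F y) = 0 := by
      have := congrArg (fun t : Γ(merMod F, U) => t.1 ⟨y, hy⟩) hm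
      exact this
    rw [← LocalizedModule.zero_mk (1 : regStalk X y), LocalizedModule.mk_eq] at h1
    obtain ⟨c, hc⟩ := h1
    simp only [one_smul, smul_zero] at hc
    obtain ⟨V, hyV, b, hb, hbc⟩ := c.2
    have hc' : X.presheaf.germ V y hyV b • Groth.Agent.Lib.Helper29.QCohStalk.gm F U y hy m = 0 := by
      rw [hbc]; exact hc
    -- spread out
    have h2 : Groth.Agent.Lib.Helper29.QCohStalk.gm F (V ⊓ U) y ⟨hyV, hy⟩
        (Groth.Agent.Lib.Helper28.QCohLoc.resO (inf_le_left : V ⊓ U ≤ V) b •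
          Groth.Agent.Lib.Helper28.QCohLoc.res F (inf_le_right : V ⊓ U ≤ U) m) =
        Groth.Agent.Lib.Helper29.QCohStalk.gm F (V ⊓ U) y ⟨hyV, hy⟩ 0 := by
      rw [Groth.Agent.Lib.Helper29.QCohStalk.gm_smul, Groth.Agent.Lib.Helper29.QCohStalk.gm_res,
        Groth.Agent.Lib.Helper29.QCohStalk.germ_resO, Groth.Agent.Lib.Helper29.QCohStalk.gm_zero]
      exact hc'
    obtain ⟨V₃, hyV₃, iU, iV, hres⟩ := TopCat.Presheaf.germ_eq F.presheaf y _ _ _ _ h2
    obtain ⟨_, ⟨W, hW, rfl⟩, hyW, hWV₃⟩ := X.isBasis_affineOpens.exists_subset_of_mem_open hyV₃ V₃.2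
    have hWV₃' : W ≤ V₃ := hWV₃
    have hWVU : W ≤ V ⊓ U := hWV₃'.trans iU.le
    have hWU : W ≤ U := hWVU.trans inf_le_right
    have hWV : W ≤ V := hWVU.trans inf_le_left
    set m' := Groth.Agent.Lib.Helper28.QCohLoc.res F hWU m with hm'
    set b' := Groth.Agent.Lib.Helper28.QCohLoc.resO hWV b with hb'
    have hloc := Groth.Agent.Lib.Helper28.QCohLoc.isLocOn_of_isQuasicoherent F hW
    have hbm : b' • m' = 0 := by
      have h3 := congrArg (Groth.Agent.Lib.Helper28.QCohLoc.res F hWV₃') hres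
      have h4 : F.presheaf.map iV.op (0 : Γ(F, V ⊓ U)) = 0 := map_zero _
      rw [h4, Groth.Agent.Lib.Helper28.QCohLoc.res_zero] at h3
      change Groth.Agent.Lib.Helper28.QCohLoc.res F hWV₃' (Groth.Agent.Lib.Helper28.QCohLoc.res F iU.le _) = 0 at h3
      rw [Groth.Agent.Lib.Helper28.QCohLoc.res_res, Groth.Agent.Lib.Helper28.QCohLoc.res_smul,
        Groth.Agent.Lib.Helper28.QCohLoc.res_res, Groth.Agent.Lib.Helper28.QCohLoc.resO_resO] at h3
      exact h3
    have hm'ne : m' ≠ 0 := by
      intro h0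
      apply hne
      have := Groth.Agent.Lib.Helper29.QCohStalk.gm_res F hWU y hyW m
      rw [← this, ← hm', h0, Groth.Agent.Lib.Helper29.QCohStalk.gm_zero]
    obtain ⟨z, hzW, hzass, hzne⟩ :=
      Groth.Agent.Lib.Helper29.QCohStalk.exists_isWeakAssPoint_of_ne_zero hW hloc m' hm'ne
    have hz := hass z ((Groth.Agent.Lib.Helper29.QCohStalk.isAssPoint_iff_isWeakAssPoint F z).2 hzass)
    have h5 : X.presheaf.germ W z hzW b' • Groth.Agent.Lib.Helper29.QCohStalk.gm F W z hzW m' = 0 := by
      rw [← Groth.Agent.Lib.Helper29.QCohStalk.gm_smul, hbm, Groth.Agent.Lib.Helper29.QCohStalk.gm_zero]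
    have h6 : ¬ IsUnit (X.presheaf.germ W z hzW b') := fun hu =>
      hzne (Groth.Agent.Lib.Helper29.QCohStalk.eq_zero_of_isUnit_smul hu h5)
    have h7 : X.presheaf.germ W z hzW b' ∈ IsLocalRing.maximalIdeal (X.presheaf.stalk z) :=
      (IsLocalRing.mem_maximalIdeal _).2 h6
    have h8 : X.presheaf.germ W z hzW b' ∈
        ⋃ p ∈ associatedPrimes (X.presheaf.stalk z) (X.presheaf.stalk z), (p : Set _) :=
      Set.mem_biUnion hz h7
    rw [biUnion_associatedPrimes_eq_compl_nonZeroDivisors] at h8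
    apply h8
    have := hb ⟨z, hWV hzW⟩
    rw [hb', Groth.Agent.Lib.Helper29.QCohStalk.germ_resO]
    exact this



end Groth.Agent.S5084
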