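import Groth.Statements.S5092
import Groth.Agent.Lib.Helper29.MeroAss

set_option autoImplicit false
universe u
open CategoryTheory CategoryTheory.Limits AlgebraicGeometry TopologicalSpace
open Mero

namespace Groth.Agent.S5092




/-- Suppose X and Y are schemes, both locally Noetherian, and f : X → Y is a morphism carrying each
associated point of O_X (that is, a point whose local ring has its maximal ideal among its
associated primes) to an associated point of O_Y. Then, given any open subset U of Y and any regular
function s on U (one whose germ at each point of U is a non-zero-divisor), the function on f⁻¹(U)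
obtained by pulling s back along f is again regular; as a result, every meromorphic function and
every divisor on Y admits a well-defined pullback along f. -/
theorem result {X Y : Scheme.{u}} [IsLocallyNoetherian X] [IsLocallyNoetherian Y]
    (f : X ⟶ Y)
    (hf : ∀ x : ↥X, IsAssociatedPrime (IsLocalRing.maximalIdeal ↑(X.presheaf.stalk x)) ↑(X.presheaf.stalk x) →
      IsAssociatedPrime (IsLocalRing.maximalIdeal ↑(Y.presheaf.stalk (f x))) ↑(Y.presheaf.stalk (f x))) :
    ∀ (U : Y.Opens) (s : Γ(Y, U)), s ∈ Mero.regSub Y U → f.app U s ∈ Mero.regSub X (f ⁻¹ᵁ U) := by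
  intro U s hs x
  by_contra hx
  obtain ⟨z, hzx, hass, hnu⟩ :=
    Groth.Agent.Lib.Helper29.MeroDiv.exists_assPoint_of_not_nzd (f.app U s) x.1 x.2 hx
  have hzU : z ∈ f ⁻¹ᵁ U := hzx.mem_open (f ⁻¹ᵁ U).2 x.2
  have hfz : f z ∈ U := hzU
  have hass' := hf z hass
  have h1 : f.stalkMap z (Y.presheaf.germ U (f z) hfz s) =
      X.presheaf.germ (f ⁻¹ᵁ U) z hzU (f.app U s) := Scheme.Hom.germ_stalkMap_apply f U z hfz s
  have h2 : ¬ IsUnit (Y.presheaf.germ U (f z) hfz s) := by
    intro hu
    apply hnu
    rw [← h1]
    exact hu.map _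
  have h3 : Y.presheaf.germ U (f z) hfz s ∈ IsLocalRing.maximalIdeal (Y.presheaf.stalk (f z)) :=
    (IsLocalRing.mem_maximalIdeal _).2 h2
  haveI : IsNoetherianRing (Y.presheaf.stalk (f z)) := inferInstance
  have h4 : Y.presheaf.germ U (f z) hfz s ∈
      ⋃ p ∈ associatedPrimes (Y.presheaf.stalk (f z)) (Y.presheaf.stalk (f z)), (p : Set _) :=
    Set.mem_biUnion hass' h3
  rw [biUnion_associatedPrimes_eq_compl_nonZeroDivisors] at h4
  exact h4 (hs ⟨f z, hfz⟩)



end Groth.Agent.S5092
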