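import Groth.Statements.S5093
import Groth.Agent.Lib.Helper29.MeroRed

set_option autoImplicit false
universe u
open CategoryTheory CategoryTheory.Limits AlgebraicGeometry TopologicalSpace
open Mero

namespace Groth.Agent.S5093




/-- Let f : X → Y be a morphism of schemes such that the set of irreducible components of Y is locally
finite, X is reduced, and every irreducible component of X dominates an irreducible component of Y
(f sends every maximal point of X, i.e. every point with no proper generization, to a maximal point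
of Y). Then for every open subset U of Y and every regular function s on U (germ a non-zero-divisor
at every point of U), the pulled-back function on f⁻¹(U) is regular; consequently the pullback along
f of every meromorphic function and of every divisor on Y is defined. -/
theorem result {X Y : Scheme.{u}} [IsReduced X] (f : X ⟶ Y)
    (hY : ∀ y : ↥Y, ∃ W : Y.Opens, y ∈ W ∧
      {Z : Set ↥Y | Z ∈ irreducibleComponents ↥Y ∧ (Z ∩ (W : Set ↥Y)).Nonempty}.Finite)
    (hf : ∀ ξ : ↥X, (∀ z : ↥X, z ⤳ ξ → z = ξ) → ∀ z : ↥Y, z ⤳ f ξ → z = f ξ) :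
    ∀ (U : Y.Opens) (s : Γ(Y, U)), s ∈ Mero.regSub Y U → f.app U s ∈ Mero.regSub X (f ⁻¹ᵁ U) := by
  intro U s hs x
  by_contra hx
  obtain ⟨z, hzx, hmax, hnu⟩ :=
    Groth.Agent.Lib.Helper29.MeroDiv.exists_maxPoint_of_not_nzd (f.app U s) x.1 x.2 hx
  have hzU : z ∈ f ⁻¹ᵁ U := hzx.mem_open (f ⁻¹ᵁ U).2 x.2
  have hfz : f z ∈ U := hzU
  have hmax' := hf z hmax
  have h1 : f.stalkMap z (Y.presheaf.germ U (f z) hfz s) =
      X.presheaf.germ (f ⁻¹ᵁ U) z hzU (f.app U s) := Scheme.Hom.germ_stalkMap_apply f U z hfz s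
  have h2 : ¬ IsUnit (Y.presheaf.germ U (f z) hfz s) := by
    intro hu
    apply hnu
    rw [← h1]
    exact hu.map _
  obtain ⟨n, hn⟩ := Groth.Agent.Lib.Helper29.MeroDiv.isNilpotent_of_maxPoint (f z) hmax' _ h2
  have h3 : Y.presheaf.germ U (f z) hfz s ^ n ∈ nonZeroDivisors (Y.presheaf.stalk (f z)) :=
    pow_mem (hs ⟨f z, hfz⟩) n
  rw [hn] at h3
  exact zero_notMem_nonZeroDivisors h3



end Groth.Agent.S5093
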