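import Groth.Statements.S5097
import Groth.Agent.Lib.Helper29.MeroDiv3

set_option autoImplicit false
universe u
open CategoryTheory CategoryTheory.Limits AlgebraicGeometry TopologicalSpace
open Mero

namespace Groth.Agent.S5097




/-- Injectivity of the canonical homomorphism from divisors to invertible fractional ideals: let X be a
scheme and D, D' two divisors on X such that, over every open subset U, a section t of the sheaf of
meromorphic functions lies in O_X(D) (t_x · g ∈ O_{X,x} for a representative g of the germ of D at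
x, for all x in U) if and only if it lies in O_X(D'). Then D = D'. -/
theorem result (X : Scheme.{u}) (D D' : Mero.Divisor X)
    (h : ∀ (U : X.Opens) (t : Γ(Mero.kmod X, U)),
      (∀ x : ↥U, Mero.DivCond D x.1 (t.1 x)) ↔ (∀ x : ↥U, Mero.DivCond D' x.1 (t.1 x))) :
    D = D' := by
  refine Subtype.ext (funext fun x => ?_)
  obtain ⟨V, hxV, f, f', hf, hf'⟩ := Groth.Agent.Lib.Helper29.MeroDiv.exists_common_unit D D' x
  -- `f⁻¹` is a section of `O_X(D)`, hence of `O_X(D')`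
  have h1 : ∀ y : V, Mero.DivCond D' y.1 (((f⁻¹ : (Γ(kmod X, V))ˣ) : Γ(kmod X, V)).1 y) := by
    refine (h V _).1 fun y => ?_
    rw [Groth.Agent.Lib.Helper29.MeroDiv.divCond_iff f D y (hf y), mul_comm,
      Groth.Agent.Lib.Helper29.MeroDiv.kmod_units_mul_inv]
    exact one_mem _
  have h2 : ∀ y : V, Mero.DivCond D y.1 (((f'⁻¹ : (Γ(kmod X, V))ˣ) : Γ(kmod X, V)).1 y) := by
    refine (h V _).2 fun y => ?_
    rw [Groth.Agent.Lib.Helper29.MeroDiv.divCond_iff f' D' y (hf' y), mul_comm,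
      Groth.Agent.Lib.Helper29.MeroDiv.kmod_units_mul_inv]
    exact one_mem _
  have h3 := h1 ⟨x, hxV⟩
  have h4 := h2 ⟨x, hxV⟩
  rw [Groth.Agent.Lib.Helper29.MeroDiv.divCond_iff f' D' _ (hf' _)] at h3
  rw [Groth.Agent.Lib.Helper29.MeroDiv.divCond_iff f D _ (hf _)] at h4
  obtain ⟨r, hr⟩ := h3
  obtain ⟨r', hr'⟩ := h4
  have e1 := Groth.Agent.Lib.Helper29.MeroDiv.kmod_units_mul_inv f ⟨x, hxV⟩
  have e2 := Groth.Agent.Lib.Helper29.MeroDiv.kmod_units_mul_inv f' ⟨x, hxV⟩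
  have hrr' : r * r' = 1 := by
    apply algebraMap_KStalk_injective x
    rw [map_mul, map_one, hr, hr']
    calc _ = ((f : Γ(kmod X, V)).1 ⟨x, hxV⟩ * ((f⁻¹ : (Γ(kmod X, V))ˣ) : Γ(kmod X, V)).1 ⟨x, hxV⟩) *
          ((f' : Γ(kmod X, V)).1 ⟨x, hxV⟩ * ((f'⁻¹ : (Γ(kmod X, V))ˣ) : Γ(kmod X, V)).1 ⟨x, hxV⟩) := by
            ring
      _ = 1 := by rw [e1, e2, one_mul]
  have hD := hf ⟨x, hxV⟩
  have hD' := hf' ⟨x, hxV⟩
  change D.1 x = _ at hD
  change D'.1 x = _ at hD'
  rw [hD, hD', germOf, germOf, QuotientGroup.eq]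
  refine ⟨⟨r, r', hrr', by rw [mul_comm]; exact hrr'⟩, Units.ext ?_⟩
  change algebraMap _ _ r = _
  rw [hr]
  rfl



end Groth.Agent.S5097
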