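import Groth.Statements.S5102
import Groth.Agent.Lib.Helper29.MeroInv
import Groth.Agent.Lib.Helper29.QCohExact

set_option autoImplicit false
universe u
open CategoryTheory CategoryTheory.Limits AlgebraicGeometry TopologicalSpace
open Mero

namespace Groth.Agent.S5102



section Helpers
open Opposite Groth.Agent.Lib.Helper29.MeroDiv Groth.Agent.Lib.Helper28.QCohLoc
  Groth.Agent.Lib.Helper29.FreeIso

variable {X : Scheme.{u}}

theorem app_smul_apply (J : X.Modules) (ι : J ⟶ Mero.kmod X) (V : X.Opens) (r : Γ(X, V))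
    (m : Γ(J, V)) (y : V) :
    (ι.val.app (op V) (r • m)).1 y =
      algebraMap (X.presheaf.stalk y.1) (KStalk X y.1) (X.presheaf.germ V y.1 y.2 r) *
        (ι.val.app (op V) m).1 y := by
  have h1 : ι.val.app (op V) (r • m) = r • ι.val.app (op V) m := (ι.val.app (op V)).hom.map_smul r m
  rw [h1, ← Algebra.smul_def]
  rfl

theorem app_res_apply (J : X.Modules) (ι : J ⟶ Mero.kmod X) {U V : X.Opens} (h : V ≤ U)
    (m : Γ(J, U)) (y : V) :
    (ι.val.app (op V) (res J h m)).1 y = (ι.val.app (op U) m).1 ⟨y.1, h y.2⟩ := by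
  have h1 := PresheafOfModules.naturality_apply ι.val (homOfLE h).op m
  have h2 : ι.val.app (op V) (res J h m) = (Mero.kmod X).val.map (homOfLE h).op (ι.val.app (op U) m) := h1
  rw [h2]
  rfl

theorem app_smul_res_apply (J : X.Modules) (ι : J ⟶ Mero.kmod X) {U V : X.Opens} (h : V ≤ U)
    (r : Γ(X, V)) (m : Γ(J, U)) (y : V) :
    (ι.val.app (op V) (r • res J h m)).1 y =
      algebraMap (X.presheaf.stalk y.1) (KStalk X y.1) (X.presheaf.germ V y.1 y.2 r) *
        (ι.val.app (op U) m).1 ⟨y.1, h y.2⟩ := by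
  rw [app_smul_apply, app_res_apply]

theorem unit_apply_mul_inv {U : X.Opens} (f : (Γ(Mero.kmod X, U))ˣ) (y : U) :
    (f : Γ(Mero.kmod X, U)).1 y * ((f⁻¹ : (Γ(Mero.kmod X, U))ˣ) : Γ(Mero.kmod X, U)).1 y = 1 := by
  have := congrArg (fun z : Γ(Mero.kmod X, U) => z.1 y) f.mul_inv
  exact this

theorem app_injective (J : X.Modules) (ι : J ⟶ Mero.kmod X) [Mono ι] (V : X.Opens) :
    Function.Injective (ι.val.app (op V)) :=
  Groth.Agent.Lib.Helper29.QCohStalk.injective_app_of_mono ι inferInstance V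

/-- `J|_U = O_U f` with `f` a unit gives a basis of `J` over `U` -/
theorem exists_isBasisOn_of_eq (J : X.Modules) (ι : J ⟶ Mero.kmod X) [Mono ι] (U : X.Opens)
    (f : (Γ(Mero.kmod X, U))ˣ)
    (hJ : ∀ (V : X.Opens) (hV : V ≤ U),
        Set.range ⇑(ι.val.app (Opposite.op V)) =
          {t : Γ(Mero.kmod X, V) | ∃ r : Γ(X, V),
            t = Mero.toK X V r * (Mero.kmod X).presheaf.map (homOfLE hV).op (f : Γ(Mero.kmod X, U))}) :
    ∃ τ : Fin 1 → Γ(J, U), IsBasisOn J U τ := by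
  have h0 : (f : Γ(Mero.kmod X, U)) ∈ Set.range ⇑(ι.val.app (Opposite.op U)) := by
    rw [hJ U le_rfl]
    refine ⟨1, ?_⟩
    rw [map_one, one_mul]
    rfl
  obtain ⟨τ₀, hτ₀⟩ := h0
  refine ⟨fun _ => τ₀, ?_, ?_⟩
  · intro T hT c hc j
    obtain rfl : j = 0 := Subsingleton.elim _ _
    rw [Fin.sum_univ_one] at hc
    apply TopCat.Presheaf.section_ext X.sheaf T (c 0) 0
    intro y hy
    change X.presheaf.germ T y hy (c 0) = X.presheaf.germ T y hy 0
    rw [map_zero]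
    have h1 := app_smul_res_apply J ι hT (c 0) τ₀ ⟨y, hy⟩
    have hc' : (c 0 • res J hT τ₀ : Γ(J, T)) = 0 := hc
    have h00 : ι.val.app (op T) (0 : Γ(J, T)) = 0 := (ι.val.app (op T)).hom.map_zero
    rw [hc', h00, hτ₀] at h1
    have h1' : (0 : KStalk X y) = algebraMap (X.presheaf.stalk y) (KStalk X y)
        (X.presheaf.germ T y hy (c 0)) * (f : Γ(Mero.kmod X, U)).1 ⟨y, hT hy⟩ := h1
    have h3 := congrArg (fun z => z * ((f⁻¹ : (Γ(Mero.kmod X, U))ˣ) : Γ(Mero.kmod X, U)).1 ⟨y, hT hy⟩) h1'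
    simp only [] at h3
    rw [mul_assoc, unit_apply_mul_inv f ⟨y, hT hy⟩, mul_one, zero_mul] at h3
    have h4 : algebraMap (X.presheaf.stalk y) (KStalk X y) (X.presheaf.germ T y hy (c 0)) =
        algebraMap (X.presheaf.stalk y) (KStalk X y) 0 := by
      rw [map_zero, ← h3]
    exact algebraMap_KStalk_injective y h4
  · intro T hT t pt hpt
    have h1 : ι.val.app (op T) t ∈ Set.range ⇑(ι.val.app (Opposite.op T)) := ⟨t, rfl⟩
    rw [hJ T hT] at h1
    obtain ⟨r, hr⟩ := h1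
    refine ⟨T, le_rfl, hpt, fun _ => r, ?_⟩
    rw [Fin.sum_univ_one]
    apply app_injective J ι T
    refine Subtype.ext (funext fun y => ?_)
    rw [app_smul_res_apply, app_res_apply, hτ₀, hr, kmod_mul_apply, toK_val_apply]
    rfl

/-- a basis `τ` of `J` over `U` maps to a unit of `K_X` near every point of `U` -/
theorem exists_unit_of_isBasisOn (J : X.Modules) (ι : J ⟶ Mero.kmod X) [Mono ι] (U : X.Opens)
    (τ : Fin 1 → Γ(J, U)) (hτ : IsBasisOn J U τ)
    (hgen : ∀ (T : X.Opens) (hT : T ≤ U) (t : Γ(J, T)), ∃ c : Fin 1 → Γ(X, T),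
      t = ∑ j, c j • res J hT (τ j)) (x : X) (hx : x ∈ U) :
    ∃ (W : X.Opens) (_ : x ∈ W) (f : (Γ(Mero.kmod X, W))ˣ),
      ∀ (V : X.Opens) (hV : V ≤ W),
        Set.range ⇑(ι.val.app (Opposite.op V)) =
          {t : Γ(Mero.kmod X, V) | ∃ r : Γ(X, V),
            t = Mero.toK X V r * (Mero.kmod X).presheaf.map (homOfLE hV).op (f : Γ(Mero.kmod X, W))} := by
  set f₀ : Γ(Mero.kmod X, U) := ι.val.app (op U) (τ 0) with hf₀
  obtain ⟨W₀, hxW₀, i, a, b, hab⟩ := f₀.2 ⟨x, hx⟩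
  have hWU : W₀ ≤ U := i.le
  have hab' : ∀ y : W₀, f₀.1 ⟨y.1, hWU y.2⟩ =
      LocalizedModule.mk (X.presheaf.germ W₀ y.1 y.2 a) (regGerm y b) := hab
  -- `a` is regular
  have ha : a ∈ regSub X W₀ := by
    intro y
    rw [mem_nonZeroDivisors_iff_right]
    intro ry hry
    obtain ⟨V, hyV, r, hr⟩ := TopCat.Presheaf.exists_germ_eq X.presheaf ry
    have h3 : X.presheaf.germ (V ⊓ W₀) y.1 ⟨hyV, y.2⟩
        (X.presheaf.map (homOfLE inf_le_left).op r * X.presheaf.map (homOfLE inf_le_right).op a) =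
        X.presheaf.germ (V ⊓ W₀) y.1 ⟨hyV, y.2⟩ 0 := by
      rw [map_mul, TopCat.Presheaf.germ_res_apply, TopCat.Presheaf.germ_res_apply, hr, map_zero]
      exact hry
    obtain ⟨V₁, hyV₁, j₁, j₂, h4⟩ := TopCat.Presheaf.germ_eq X.presheaf y.1 _ _ _ _ h3
    have hV₁W : V₁ ≤ W₀ := j₁.le.trans inf_le_right
    have hV₁V : V₁ ≤ V := j₁.le.trans inf_le_left
    set r₁ : Γ(X, V₁) := X.presheaf.map (homOfLE hV₁V).op r with hr₁
    have h5 : (r₁ • res J (hV₁W.trans hWU) (τ 0) : Γ(J, V₁)) = 0 := by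
      apply app_injective J ι V₁
      have h00 : ι.val.app (op V₁) (0 : Γ(J, V₁)) = 0 := (ι.val.app (op V₁)).hom.map_zero
      rw [h00]
      refine Subtype.ext (funext fun z => ?_)
      rw [app_smul_res_apply]
      have h6 := hab' ⟨z.1, hV₁W z.2⟩
      have h6' : (ι.val.app (op U) (τ 0)).1 ⟨z.1, (hV₁W.trans hWU) z.2⟩ =
        LocalizedModule.mk (X.presheaf.germ W₀ z.1 (hV₁W z.2) a) (regGerm ⟨z.1, hV₁W z.2⟩ b) := h6
      rw [h6', algebraMap_mul_mk]
      have h7 := congrArg (X.presheaf.germ V₁ z.1 z.2) h4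
      rw [map_zero, map_zero, TopCat.Presheaf.germ_res_apply, map_mul,
        TopCat.Presheaf.germ_res_apply, TopCat.Presheaf.germ_res_apply] at h7
      have h8 : X.presheaf.germ V₁ z.1 z.2 r₁ * X.presheaf.germ W₀ z.1 (hV₁W z.2) a = 0 := by
        rw [hr₁, TopCat.Presheaf.germ_res_apply]
        exact h7
      rw [h8, LocalizedModule.zero_mk]
      rfl
    have h9 := hτ.1 V₁ (hV₁W.trans hWU) (fun _ => r₁) (by rw [Fin.sum_univ_one]; exact h5) 0
    have h10 : X.presheaf.germ V₁ y.1 hyV₁ r₁ = 0 := by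
      have h9' : r₁ = 0 := h9
      rw [h9', map_zero]
    rw [hr₁, TopCat.Presheaf.germ_res_apply, hr] at h10
    exact h10
  let u : (Γ(Mero.kmod X, W₀))ˣ := regUnit ⟨a, ha⟩ * (regUnit b)⁻¹
  have hu : ∀ y : W₀, (u : Γ(Mero.kmod X, W₀)).1 y = f₀.1 ⟨y.1, hWU y.2⟩ := by
    intro y
    rw [hab' y]
    change (toK X W₀ a).1 y * (invReg b).1 y = _
    rw [toK_apply, invReg_apply, mk_mul_mk, mul_one, one_mul]
  refine ⟨W₀, hxW₀, u, fun V hV => ?_⟩
  ext t
  constructor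
  · rintro ⟨m, rfl⟩
    obtain ⟨c, hc⟩ := hgen V (hV.trans hWU) m
    rw [Fin.sum_univ_one] at hc
    refine ⟨c 0, Subtype.ext (funext fun y => ?_)⟩
    have hc' : m = (c 0 • res J (hV.trans hWU) (τ 0) : Γ(J, V)) := hc
    rw [hc', app_smul_res_apply, kmod_mul_apply, toK_val_apply]
    congr 1
    exact (hu ⟨y.1, hV y.2⟩).symm
  · rintro ⟨r, rfl⟩
    refine ⟨(r • res J (hV.trans hWU) (τ 0) : Γ(J, V)), Subtype.ext (funext fun y => ?_)⟩
    rw [app_smul_res_apply, kmod_mul_apply, toK_val_apply]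
    congr 1
    exact (hu ⟨y.1, hV y.2⟩).symm

end Helpers

/-- Let X be a scheme and J a fractional ideal, i.e. a sub-O_X-module of the sheaf of meromorphic
functions K_X (given by a monomorphism J → K_X). Then J is an invertible O_X-module if and only if
every point of X has an open neighbourhood U together with a unit f of the ring Γ(U, K_X) such that
J|_U = O_U · f: over every open subset V of U, the sections of J are exactly the r · f|_V with r a
function on V. -/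
theorem result (X : Scheme.{u}) (J : X.Modules)
    (ι : J ⟶ Mero.kmod X) [Mono ι] :
    PicF.IsInvertible J ↔ ∀ x : ↥X, ∃ (U : X.Opens) (_ : x ∈ U) (f : (Γ(Mero.kmod X, U))ˣ),
      ∀ (V : X.Opens) (hV : V ≤ U),
        Set.range ⇑(ι.val.app (Opposite.op V)) =
          {t : Γ(Mero.kmod X, V) | ∃ r : Γ(X, V),
            t = Mero.toK X V r * (Mero.kmod X).presheaf.map (homOfLE hV).op (f : Γ(Mero.kmod X, U))} := by
  constructor
  · intro hJ x
    obtain ⟨U, hxU, ⟨e⟩⟩ := hJ x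
    obtain ⟨τ, hτ, hgen⟩ := Groth.Agent.Lib.Helper29.FreeIso.exists_isBasisOn_of_iso' J U 1
      (e ≪≫ (coproductUniqueIso (fun _ : Fin 1 => Coh.structureModule (↑U))).symm)
    exact exists_unit_of_isBasisOn J ι U τ hτ hgen x hxU
  · intro h x
    obtain ⟨U, hxU, f, hf⟩ := h x
    obtain ⟨τ, hτ⟩ := exists_isBasisOn_of_eq J ι U f hf
    obtain ⟨e⟩ := hτ.nonempty_iso
    exact ⟨U, hxU, ⟨e ≪≫ coproductUniqueIso _⟩⟩



end Groth.Agent.S5102
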