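import Groth.Statements.S5104
import Mathlib
-- import your own Groth.Agent.* helpers here

set_option autoImplicit false
set_option linter.unusedSectionVars false
set_option linter.style.haveILetI false
set_option linter.unusedVariables false
set_option linter.deprecated false
universe u
open CategoryTheory CategoryTheory.Limits AlgebraicGeometry TopologicalSpace
open Rat20

namespace Groth.Agent.S5104

theorem hom_ext_of_locally {T Y : Scheme.{u}} (f g : T ⟶ Y)
    (H : ∀ p : T, ∃ M : T.Opens, p ∈ M ∧ M.ι ≫ f = M.ι ≫ g) : f = g := by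
  choose M hM1 hM2 using H
  have hcov : IsOpenCover M := by
    apply IsOpenCover.mk
    rw [eq_top_iff]
    intro p _
    exact Opens.mem_iSup.mpr ⟨p, hM1 p⟩
  exact Scheme.Cover.hom_ext (T.openCoverOfIsOpenCover M hcov) _ _ fun p => hM2 p

/-- In a Noetherian quasi-sober space, if an open `A` contains all generizations of `x` lying in the open `O`,
then `O ∩ V ⊆ A` for some open neighbourhood `V` of `x`. -/
theorem exists_nhd_of_generizations {T : Type*} [TopologicalSpace T] [NoetherianSpace T] [QuasiSober T]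
    (x : T) (O A : Set T) (hO : IsOpen O) (hA : IsOpen A)
    (hgen : ∀ u ∈ O, u ⤳ x → u ∈ A) :
    ∃ V : Set T, IsOpen V ∧ x ∈ V ∧ O ∩ V ⊆ A := by
  set F : Set T := O \ A with hF
  have key : ∀ G : Closeds T, x ∉ closure (F ∩ (G : Set T)) := by
    intro G
    induction G using (wellFounded_lt (α := Closeds T)).induction with
    | _ G ih =>
      by_cases hx : x ∈ (G : Set T)
      swap
      · intro h
        exact hx (closure_minimal Set.inter_subset_right G.isClosed h)
      by_cases hirr : IsPreirreducible (G : Set T)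
      · have hGirr : IsIrreducible (G : Set T) := ⟨⟨x, hx⟩, hirr⟩
        obtain ⟨η, hη⟩ := QuasiSober.sober hGirr G.isClosed
        have hηx : η ⤳ x := by
          rw [specializes_iff_mem_closure, hη.def]
          exact hx
        by_cases hηO : η ∈ O
        · have hηA : η ∈ A := hgen η hηO hηx
          let G' : Closeds T := ⟨(G : Set T) \ A, G.isClosed.sdiff hA⟩
          have hlt : G' < G := by
            refine lt_of_le_of_ne (fun y hy => hy.1) ?_
            intro heq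
            have : η ∈ (G' : Set T) := by
              rw [heq]; exact hη.mem
            exact this.2 hηA
          have := ih G' hlt
          have heq : F ∩ (G : Set T) = F ∩ (G' : Set T) := by
            ext y
            simp only [hF, Set.mem_inter_iff, Set.mem_diff, G', Closeds.coe_mk]
            tauto
          rw [heq]; exact this
        · have hempty : F ∩ (G : Set T) = ∅ := by
            ext y
            simp only [hF, Set.mem_inter_iff, Set.mem_diff, Set.mem_empty_iff_false, iff_false]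
            rintro ⟨⟨hyO, _⟩, hyG⟩
            apply hηO
            have : y ∈ closure {η} := by rw [hη.def]; exact hyG
            have hs : η ⤳ y := specializes_iff_mem_closure.mpr this
            exact hs.mem_open hO hyO
          rw [hempty, closure_empty]
          exact Set.notMem_empty x
      · rw [isPreirreducible_iff_isClosed_union_isClosed] at hirr
        push Not at hirr
        obtain ⟨z₁, z₂, hz₁, hz₂, hsub, hn1, hn2⟩ := hirr
        let G₁ : Closeds T := ⟨(G : Set T) ∩ z₁, G.isClosed.inter hz₁⟩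
        let G₂ : Closeds T := ⟨(G : Set T) ∩ z₂, G.isClosed.inter hz₂⟩
        have hlt1 : G₁ < G := by
          refine lt_of_le_of_ne (fun y hy => hy.1) ?_
          intro heq
          apply hn1
          intro y hy
          have : y ∈ (G₁ : Set T) := by rw [heq]; exact hy
          exact this.2
        have hlt2 : G₂ < G := by
          refine lt_of_le_of_ne (fun y hy => hy.1) ?_
          intro heq
          apply hn2
          intro y hy
          have : y ∈ (G₂ : Set T) := by rw [heq]; exact hy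
          exact this.2
        have i1 := ih G₁ hlt1
        have i2 := ih G₂ hlt2
        have heq : F ∩ (G : Set T) = (F ∩ (G₁ : Set T)) ∪ (F ∩ (G₂ : Set T)) := by
          ext y
          simp only [Set.mem_inter_iff, Set.mem_union, G₁, G₂, Closeds.coe_mk]
          constructor
          · rintro ⟨h1, h2⟩
            rcases hsub h2 with h | h
            · exact Or.inl ⟨h1, h2, h⟩
            · exact Or.inr ⟨h1, h2, h⟩
          · rintro (⟨h1, h2, _⟩ | ⟨h1, h2, _⟩) <;> exact ⟨h1, h2⟩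
        rw [heq, closure_union]
        rintro (h | h)
        · exact i1 h
        · exact i2 h
  have hx := key ⊤
  simp only [Closeds.coe_top, Set.inter_univ] at hx
  refine ⟨(closure F)ᶜ, isClosed_closure.isOpen_compl, hx, ?_⟩
  rintro y ⟨hyO, hyV⟩
  by_contra hyA
  exact hyV (subset_closure ⟨hyO, hyA⟩)


theorem isGermInjectiveAt_of_reduced {X : Scheme.{u}} [IsReduced X] (x : X)
    (W : X.Opens) (hxW : x ∈ W)
    (hfin : {Z : Set ↥X | Z ∈ irreducibleComponents ↥X ∧ (Z ∩ (W : Set ↥X)).Nonempty}.Finite) :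
    X.IsGermInjectiveAt x := by
  classical
  set 𝒵 : Set (Set X) := {Z : Set ↥X | Z ∈ irreducibleComponents ↥X ∧ (Z ∩ (W : Set ↥X)).Nonempty} with h𝒵
  set 𝒵' : Set (Set X) := {Z ∈ 𝒵 | x ∉ Z} with h𝒵'
  have hfin' : 𝒵'.Finite := hfin.subset (fun Z hZ => hZ.1)
  have hBcl : IsClosed (⋃₀ 𝒵') := by
    rw [Set.sUnion_eq_biUnion]
    apply hfin'.isClosed_biUnion
    intro Z hZ
    exact isClosed_of_mem_irreducibleComponents Z hZ.1.1
  let W₁ : X.Opens := W ⊓ ⟨(⋃₀ 𝒵')ᶜ, hBcl.isOpen_compl⟩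
  have hxW₁ : x ∈ W₁ := by
    refine ⟨hxW, ?_⟩
    show x ∈ (⋃₀ 𝒵')ᶜ
    rw [Set.mem_compl_iff, Set.mem_sUnion]
    rintro ⟨Z, hZ, hxZ⟩
    exact hZ.2 hxZ
  obtain ⟨_, ⟨W₂ : X.Opens, hW₂, rfl⟩, hxW₂, hW₂₁⟩ :=
    X.isBasis_affineOpens.exists_subset_of_mem_open hxW₁ W₁.2
  refine ⟨⟨W₂, hxW₂, hW₂, ?_⟩⟩
  rw [injective_iff_map_eq_zero]
  intro s hs
  have h0 : X.presheaf.germ W₂ x hxW₂ s = X.presheaf.germ W₂ x hxW₂ 0 := by rw [hs, map_zero]
  obtain ⟨N, hxN, iU, iV, hres⟩ := X.presheaf.germ_eq x hxW₂ hxW₂ s 0 h0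
  rw [map_zero] at hres
  rw [← basicOpen_eq_bot_iff]
  rw [eq_bot_iff]
  intro y hy
  exfalso
  have hyW₂ : y ∈ W₂ := X.basicOpen_le s hy
  have hyW₁ : y ∈ W₁ := hW₂₁ hyW₂
  have hZmem : irreducibleComponent y ∈ irreducibleComponents X := irreducibleComponent_mem_irreducibleComponents y
  have hyZ : y ∈ irreducibleComponent y := mem_irreducibleComponent
  have hZ𝒵 : irreducibleComponent y ∈ 𝒵 := ⟨hZmem, ⟨y, hyZ, hyW₁.1⟩⟩
  have hxZ : x ∈ irreducibleComponent y := by
    by_contra hxZ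
    have : y ∈ ⋃₀ 𝒵' := Set.mem_sUnion.mpr ⟨_, ⟨hZ𝒵, hxZ⟩, hyZ⟩
    exact hyW₁.2 this
  have hirr : IsPreirreducible (irreducibleComponent y) := isIrreducible_irreducibleComponent.2
  obtain ⟨z, hzZ, hzN, hzs⟩ := hirr (N : Set X) (X.basicOpen s : Set X) N.2 (X.basicOpen s).2
    ⟨x, hxZ, hxN⟩ ⟨y, hyZ, hy⟩
  have hz : z ∈ X.basicOpen (X.presheaf.map iU.op s) := by
    rw [Scheme.basicOpen_res]
    exact ⟨hzN, hzs⟩
  rw [hres, Scheme.basicOpen_zero] at hz
  exact hz

section Agree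

variable {X Y : Scheme.{u}} {Z : X.Opens} (a b : (Z : Scheme.{u}) ⟶ Y)

/-- the set of points of `X` (inside `Z`) near which `a` and `b` agree -/
def agreeSet : Set X :=
  {y | ∃ (hy : y ∈ Z) (N : (Z : Scheme.{u}).Opens), (⟨y, hy⟩ : Z) ∈ N ∧ N.ι ≫ a = N.ι ≫ b}

theorem isOpen_agreeSet : IsOpen (agreeSet a b) := by
  rw [isOpen_iff_forall_mem_open]
  rintro y ⟨hy, N, hyN, hN⟩
  refine ⟨(Z.ι ''ᵁ N : X.Opens), ?_, (Z.ι ''ᵁ N).2, ⟨⟨y, hy⟩, hyN, rfl⟩⟩
  rintro _ ⟨q, hq, rfl⟩
  exact ⟨q.2, N, hq, hN⟩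

theorem agreeSet_subset : agreeSet a b ⊆ (Z : Set X) := fun y hy => hy.1

/-- agreement on any open inside the agreement set -/
theorem agree_of_le (G : X.Opens) (hGZ : G ≤ Z) (hG : (G : Set X) ⊆ agreeSet a b) :
    X.homOfLE hGZ ≫ a = X.homOfLE hGZ ≫ b := by
  apply hom_ext_of_locally
  intro p
  obtain ⟨hy, N, hyN, hN⟩ := hG p.2
  refine ⟨X.homOfLE hGZ ⁻¹ᵁ N, ?_, ?_⟩
  · show (X.homOfLE hGZ) p ∈ N
    have : (X.homOfLE hGZ) p = ⟨p.1, hy⟩ := by
      apply Subtype.ext
      have := congr($(X.homOfLE_ι hGZ) p)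
      exact this
    rw [this]
    exact hyN
  · rw [← Category.assoc, ← Category.assoc, ← morphismRestrict_ι, Category.assoc, Category.assoc, hN]

end Agree

theorem claim1 {X Y : Scheme.{u}} (U V₀ : X.Opens) (x : X) (hxV₀ : x ∈ V₀)
    (h : (U : Scheme.{u}) ⟶ Y) (v₀ : (V₀ : Scheme.{u}) ⟶ Y)
    (hwh : pullback.fst (X.fromSpecStalk x) U.ι ≫ V₀.fromSpecStalkOfMem x hxV₀ ≫ v₀ =
       pullback.snd (X.fromSpecStalk x) U.ι ≫ h)
    (u : X) (hu : u ∈ U ⊓ V₀) (hux : u ⤳ x) [hgi : X.IsGermInjectiveAt u] :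
    u ∈ agreeSet (Z := U ⊓ V₀) (X.homOfLE inf_le_right ≫ v₀) (X.homOfLE inf_le_left ≫ h) := by
  set Z : X.Opens := U ⊓ V₀ with hZ
  let u' : (Z : Scheme.{u}) := ⟨u, hu⟩
  have hgi' : (Z : Scheme.{u}).IsGermInjectiveAt u' := by
    have : X.IsGermInjectiveAt (Z.ι u') := hgi
    exact isGermInjectiveAt_iff_of_isOpenImmersion.mp this
  have hux' : Z.ι u' ⤳ x := hux
  let t : Spec ((Z : Scheme.{u}).presheaf.stalk u') ⟶ Spec (X.presheaf.stalk x) :=
    Spec.map (Z.ι.stalkMap u') ≫ Spec.map (X.presheaf.stalkSpecializes hux')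
  have ht : t ≫ X.fromSpecStalk x = (Z : Scheme.{u}).fromSpecStalk u' ≫ Z.ι := by
    simp only [t, Category.assoc]
    rw [Scheme.SpecMap_stalkSpecializes_fromSpecStalk hux']
    exact Scheme.SpecMap_stalkMap_fromSpecStalk Z.ι (x := u')
  let s : Spec ((Z : Scheme.{u}).presheaf.stalk u') ⟶ (U : Scheme.{u}) :=
    (Z : Scheme.{u}).fromSpecStalk u' ≫ X.homOfLE inf_le_left
  have hs : s ≫ U.ι = (Z : Scheme.{u}).fromSpecStalk u' ≫ Z.ι := by
    simp only [s, Category.assoc, Scheme.homOfLE_ι]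
  let q : Spec ((Z : Scheme.{u}).presheaf.stalk u') ⟶ pullback (X.fromSpecStalk x) U.ι :=
    pullback.lift t s (ht.trans hs.symm)
  have e : (Z : Scheme.{u}).fromSpecStalk u' ≫ (X.homOfLE inf_le_right ≫ v₀) =
      (Z : Scheme.{u}).fromSpecStalk u' ≫ (X.homOfLE inf_le_left ≫ h) := by
    have h1 : (Z : Scheme.{u}).fromSpecStalk u' ≫ X.homOfLE (inf_le_right : U ⊓ V₀ ≤ V₀) =
        t ≫ V₀.fromSpecStalkOfMem x hxV₀ := by
      rw [← cancel_mono V₀.ι]
      simp only [Category.assoc, Scheme.homOfLE_ι, Scheme.Opens.fromSpecStalkOfMem_ι]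
      exact ht.symm
    have h2 : (Z : Scheme.{u}).fromSpecStalk u' ≫ X.homOfLE (inf_le_left : U ⊓ V₀ ≤ U) ≫ h =
        q ≫ pullback.snd _ _ ≫ h := by
      rw [← Category.assoc q, pullback.lift_snd]
      simp only [s, Category.assoc]
    rw [h2, ← hwh, ← Category.assoc q, pullback.lift_fst, ← Category.assoc, h1, Category.assoc]
  obtain ⟨N, hN1, hN2⟩ := spread_out_unique_of_isGermInjective' (x := u') _ _ e
  exact ⟨hu, N, hN1, hN2⟩

/-- Let X be an S-scheme which is locally Noetherian, or reduced with locally finite set of irreducible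
components; let Y be separated and locally of finite presentation over S, U a schematically dense
open subset of X, h : U → Y an S-morphism (a pseudo-S-morphism ω of X into Y) and x a point of X.
Then ω is defined at x — some S-morphism from an open neighbourhood V of x to Y agrees with h on U ∩
V — if and only if the restriction of ω to Spec O_{X,x} is everywhere defined — some S-morphism Spec
O_{X,x} → Y agrees with h after pulling back to Spec O_{X,x} ×_X U. (The published statement does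
not assume Y separated over S and compares morphisms only on some schematically dense open; this row
assumes Y separated over S, where the two readings agree.) -/
theorem result {X Y S : Scheme.{u}} (pX : X ⟶ S) (pY : Y ⟶ S)
    [IsSeparated pY] [LocallyOfFinitePresentation pY]
    (hX : IsLocallyNoetherian X ∨ (IsReduced X ∧ ∀ x : ↥X, ∃ W : X.Opens, x ∈ W ∧
      {Z : Set ↥X | Z ∈ irreducibleComponents ↥X ∧ (Z ∩ (W : Set ↥X)).Nonempty}.Finite))
    (U : X.Opens) (hU : CInt.IsSchematicallyDense U) (h : (U : Scheme.{u}) ⟶ Y) (hh : h ≫ pY = U.ι ≫ pX)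
    (x : ↥X) :
    (∃ (V : X.Opens) (v : (V : Scheme.{u}) ⟶ Y), x ∈ V ∧ v ≫ pY = V.ι ≫ pX ∧
        X.homOfLE (inf_le_right : U ⊓ V ≤ V) ≫ v = X.homOfLE (inf_le_left : U ⊓ V ≤ U) ≫ h) ↔
      ∃ w : Spec (X.presheaf.stalk x) ⟶ Y, w ≫ pY = X.fromSpecStalk x ≫ pX ∧
        pullback.fst (X.fromSpecStalk x) U.ι ≫ w = pullback.snd (X.fromSpecStalk x) U.ι ≫ h := by
  constructor
  · rintro ⟨V, v, hxV, hv, hagree⟩
    refine ⟨V.fromSpecStalkOfMem x hxV ≫ v, ?_, ?_⟩
    · rw [Category.assoc, hv, ← Category.assoc, Scheme.Opens.fromSpecStalkOfMem_ι]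
    · have hrange : Set.range (pullback.snd (X.fromSpecStalk x) U.ι ≫ U.ι) ⊆ Set.range (U ⊓ V).ι := by
        rintro _ ⟨p, rfl⟩
        rw [Scheme.Opens.range_ι]
        refine ⟨?_, ?_⟩
        · rw [Scheme.Hom.comp_apply]
          exact (pullback.snd (X.fromSpecStalk x) U.ι p).2
        · have key : pullback.snd (X.fromSpecStalk x) U.ι ≫ U.ι =
              (pullback.fst (X.fromSpecStalk x) U.ι ≫ V.fromSpecStalkOfMem x hxV) ≫ V.ι := by
            rw [Category.assoc, Scheme.Opens.fromSpecStalkOfMem_ι, pullback.condition]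
          rw [key, Scheme.Hom.comp_apply]
          exact ((pullback.fst (X.fromSpecStalk x) U.ι ≫ V.fromSpecStalkOfMem x hxV) p).2
      let l := IsOpenImmersion.lift (U ⊓ V).ι (pullback.snd (X.fromSpecStalk x) U.ι ≫ U.ι) hrange
      have hl : l ≫ (U ⊓ V).ι = pullback.snd (X.fromSpecStalk x) U.ι ≫ U.ι :=
        IsOpenImmersion.lift_fac _ _ _
      have hl1 : l ≫ X.homOfLE (inf_le_left : U ⊓ V ≤ U) = pullback.snd (X.fromSpecStalk x) U.ι := by
        rw [← cancel_mono U.ι, Category.assoc, Scheme.homOfLE_ι, hl]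
      have hl2 : l ≫ X.homOfLE (inf_le_right : U ⊓ V ≤ V) =
          pullback.fst (X.fromSpecStalk x) U.ι ≫ V.fromSpecStalkOfMem x hxV := by
        rw [← cancel_mono V.ι, Category.assoc, Scheme.homOfLE_ι, hl, Category.assoc,
          Scheme.Opens.fromSpecStalkOfMem_ι, pullback.condition]
      rw [← Category.assoc, ← hl2, Category.assoc, hagree, ← Category.assoc, hl1]
  · rintro ⟨w, hw, hwh⟩
    have hgi : X.IsGermInjective := by
      rcases hX with hN | ⟨hred, hfin⟩
      · intro y; infer_instance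
      · intro y
        obtain ⟨W, hyW, hWfin⟩ := hfin y
        exact isGermInjectiveAt_of_reduced y W hyW hWfin
    obtain ⟨V₀, hxV₀, v₀, hwv₀, hv₀⟩ := spread_out_of_isGermInjective' pX pY w hw
    subst hwv₀
    set a : ((U ⊓ V₀ : X.Opens) : Scheme.{u}) ⟶ Y := X.homOfLE inf_le_right ≫ v₀ with ha
    set b : ((U ⊓ V₀ : X.Opens) : Scheme.{u}) ⟶ Y := X.homOfLE inf_le_left ≫ h with hb
    have hgen : ∀ u : X, u ∈ U ⊓ V₀ → u ⤳ x → u ∈ agreeSet a b := fun u hu hux =>
      claim1 U V₀ x hxV₀ h v₀ hwh u hu hux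
    -- it suffices to find a neighbourhood `V` of `x` inside `V₀` with `U ⊓ V` agreeing
    suffices hsuff : ∃ V : X.Opens, x ∈ V ∧ ∃ hVV₀ : V ≤ V₀,
        X.homOfLE (inf_le_inf_left U hVV₀) ≫ a = X.homOfLE (inf_le_inf_left U hVV₀) ≫ b by
      obtain ⟨V, hxV, hVV₀, hag⟩ := hsuff
      refine ⟨V, X.homOfLE hVV₀ ≫ v₀, hxV, ?_, ?_⟩
      · rw [Category.assoc, hv₀, ← Category.assoc, Scheme.homOfLE_ι]
      · simp only [ha, hb, ← Category.assoc, Scheme.homOfLE_homOfLE] at hag
        simp only [← Category.assoc, Scheme.homOfLE_homOfLE]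
        exact hag
    rcases hX with hN | ⟨hred, hfin⟩
    · -- Noetherian case
      obtain ⟨_, ⟨V₁ : X.Opens, hV₁, rfl⟩, hxV₁, hV₁₀⟩ :=
        X.isBasis_affineOpens.exists_subset_of_mem_open hxV₀ V₀.2
      haveI : IsNoetherianRing Γ(X, V₁) := IsLocallyNoetherian.component_noetherian ⟨V₁, hV₁⟩
      have hNS : NoetherianSpace (V₁ : Scheme.{u}) := noetherianSpace_of_isAffineOpen V₁ hV₁
      have hQS : QuasiSober (V₁ : Scheme.{u}) := inferInstance
      obtain ⟨V', hV'o, hxV', hV'⟩ := @exists_nhd_of_generizations (V₁ : Scheme.{u}) _ hNS hQS ⟨x, hxV₁⟩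
        (V₁.ι ⁻¹' (U : Set X)) (V₁.ι ⁻¹' (agreeSet a b))
        (U.2.preimage V₁.ι.continuous) ((isOpen_agreeSet a b).preimage V₁.ι.continuous)
        (by
          intro u huU hux
          have hux' : V₁.ι u ⤳ x := hux.map V₁.ι.continuous
          exact hgen (V₁.ι u) ⟨huU, hV₁₀ u.2⟩ hux')
      refine ⟨V₁.ι ''ᵁ ⟨V', hV'o⟩, ⟨⟨x, hxV₁⟩, hxV', rfl⟩, ?_, ?_⟩
      · rintro _ ⟨q, _, rfl⟩
        exact hV₁₀ q.2
      · apply agree_of_le
        rintro y ⟨hyU, q, hq, rfl⟩
        exact hV' ⟨hyU, hq⟩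
    · -- reduced case
      haveI := hred
      obtain ⟨W, hxW, hWfin⟩ := hfin x
      set 𝒵 : Set (Set X) := {Z : Set ↥X | Z ∈ irreducibleComponents ↥X ∧ (Z ∩ (W : Set ↥X)).Nonempty} with h𝒵
      set 𝒵' : Set (Set X) := {Z ∈ 𝒵 | x ∉ Z} with h𝒵'
      have hfin' : 𝒵'.Finite := hWfin.subset (fun Z hZ => hZ.1)
      have hBcl : IsClosed (⋃₀ 𝒵') := by
        rw [Set.sUnion_eq_biUnion]
        apply hfin'.isClosed_biUnion
        intro Z hZ
        exact isClosed_of_mem_irreducibleComponents Z hZ.1.1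
      let V : X.Opens := V₀ ⊓ (W ⊓ ⟨(⋃₀ 𝒵')ᶜ, hBcl.isOpen_compl⟩)
      have hxV : x ∈ V := by
        refine ⟨hxV₀, hxW, ?_⟩
        show x ∈ (⋃₀ 𝒵')ᶜ
        rw [Set.mem_compl_iff, Set.mem_sUnion]
        rintro ⟨Z, hZ, hxZ⟩
        exact hZ.2 hxZ
      have hVV₀ : V ≤ V₀ := inf_le_left
      refine ⟨V, hxV, hVV₀, ?_⟩
      let G : X.Opens := (U ⊓ V) ⊓ ⟨agreeSet a b, isOpen_agreeSet a b⟩
      have hGle : G ≤ U ⊓ V := inf_le_left
      have hGZ : G ≤ U ⊓ V₀ := hGle.trans (inf_le_inf_left U hVV₀)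
      have hGag := agree_of_le a b G hGZ (fun y hy => hy.2)
      have hdom : IsDominant (X.homOfLE hGle) := by
        constructor
        intro p
        rw [mem_closure_iff]
        intro o ho hpo
        -- the image of `o` in `X`
        have hoX : IsOpen ((U ⊓ V).ι '' o) := (U ⊓ V).ι.isOpenEmbedding.isOpenMap o ho
        set y : X := (U ⊓ V).ι p with hy
        have hyo : y ∈ (U ⊓ V).ι '' o := ⟨p, hpo, rfl⟩
        have hyUV : y ∈ U ⊓ V := p.2
        have hZmem : irreducibleComponent y ∈ irreducibleComponents X :=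
          irreducibleComponent_mem_irreducibleComponents y
        have hyZ : y ∈ irreducibleComponent y := mem_irreducibleComponent
        have hZ𝒵 : irreducibleComponent y ∈ 𝒵 := ⟨hZmem, ⟨y, hyZ, hyUV.2.2.1⟩⟩
        have hxZ : x ∈ irreducibleComponent y := by
          by_contra hxZ
          have : y ∈ ⋃₀ 𝒵' := Set.mem_sUnion.mpr ⟨_, ⟨hZ𝒵, hxZ⟩, hyZ⟩
          exact hyUV.2.2.2 this
        obtain ⟨η, hη⟩ := QuasiSober.sober (isIrreducible_irreducibleComponent (x := y))
          isClosed_irreducibleComponent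
        have hηy : η ⤳ y := by
          rw [specializes_iff_mem_closure, hη.def]; exact hyZ
        have hηx : η ⤳ x := by
          rw [specializes_iff_mem_closure, hη.def]; exact hxZ
        have hηo : η ∈ (U ⊓ V).ι '' o := hηy.mem_open hoX hyo
        obtain ⟨q, hqo, hqη⟩ := hηo
        have hηUV : η ∈ U ⊓ V := hqη ▸ q.2
        have hηA : η ∈ agreeSet a b := hgen η ⟨hηUV.1, hVV₀ hηUV.2⟩ hηx
        have hηG : η ∈ G := ⟨hηUV, hηA⟩
        refine ⟨q, hqo, ⟨⟨η, hηG⟩, ?_⟩⟩
        apply (U ⊓ V).ι.isOpenEmbedding.injective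
        have e1 : (U ⊓ V).ι ((X.homOfLE hGle) ⟨η, hηG⟩) = η := congr($(X.homOfLE_ι hGle) ⟨η, hηG⟩)
        rw [e1, hqη]
      have hover : (X.homOfLE (inf_le_inf_left U hVV₀) ≫ a) ≫ pY =
          (X.homOfLE (inf_le_inf_left U hVV₀) ≫ b) ≫ pY := by
        simp only [ha, hb, Category.assoc, hv₀, hh]
        simp only [← Category.assoc, Scheme.homOfLE_ι]
      refine ext_of_isDominant_of_isSeparated pY hover (X.homOfLE hGle) ?_
      simp only [← Category.assoc, Scheme.homOfLE_homOfLE]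
      exact hGag

end Groth.Agent.S5104
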