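import Groth.Statements.S5118
import Mathlib.RingTheory.Etale.StandardEtale
import Mathlib.Algebra.TrivSqZeroExt.Ideal
import Mathlib.RingTheory.AdjoinRoot

set_option autoImplicit false
universe u
open SGA1t

namespace Groth.Agent.S5118

open Polynomial

/-- the standard etale pair (X^n - 1, 1) when n is a unit. -/
noncomputable def pair (A : Type u) [CommRing A] (n : ℕ) (hn : 1 ≤ n) (u : A) (hu : (n : A) * u = 1) :
    StandardEtalePair A where
  f := (X : A[X]) ^ n - 1
  monic_f := by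
    have := monic_X_pow_sub_C (1 : A) (show n ≠ 0 by omega)
    simpa using this
  g := 1
  cond := by
    refine ⟨C u * X, -1, 0, ?_⟩
    obtain ⟨m, rfl⟩ : ∃ m, n = m + 1 := ⟨n - 1, by omega⟩
    simp only [derivative_sub, derivative_X_pow, derivative_one, sub_zero, pow_zero,
      Nat.add_sub_cancel]
    have : (C ((m + 1 : ℕ) : A) : A[X]) * C u = 1 := by rw [← C_mul, hu, C_1]
    linear_combination (X ^ (m+1) : A[X]) * this

theorem etale_of_isUnit (A : Type u) [CommRing A] (n : ℕ) (hn : 1 ≤ n) (h : IsUnit ((n : ℕ) : A)) :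
    Algebra.Etale A (AdjoinRoot ((X : A[X]) ^ n - 1)) := by
  obtain ⟨u, hu⟩ := h.exists_right_inv
  set P := pair A n hn u hu with hP
  have hroot : P.HasMap (AdjoinRoot.root ((X : A[X]) ^ n - 1)) := by
    refine ⟨?_, ?_⟩
    · show aeval _ ((X : A[X]) ^ n - 1) = 0
      rw [AdjoinRoot.aeval_eq, AdjoinRoot.mk_self]
    · show IsUnit (aeval _ (1 : A[X]))
      simp
  let φ : P.Ring →ₐ[A] AdjoinRoot ((X : A[X]) ^ n - 1) := P.lift _ hroot
  have hψ : eval₂ (Algebra.ofId A P.Ring : A →+* P.Ring) P.X ((X : A[X]) ^ n - 1) = 0 := by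
    have := P.hasMap_X.1
    rw [aeval_def] at this
    exact this
  let ψ : AdjoinRoot ((X : A[X]) ^ n - 1) →ₐ[A] P.Ring :=
    AdjoinRoot.liftAlgHom _ (Algebra.ofId A P.Ring) P.X hψ
  have hψr : ψ (AdjoinRoot.root _) = P.X := AdjoinRoot.liftAlgHom_root _ _ _ _
  have hφX : φ P.X = AdjoinRoot.root _ := P.lift_X _ hroot
  have e : P.Ring ≃ₐ[A] AdjoinRoot ((X : A[X]) ^ n - 1) :=
    AlgEquiv.ofAlgHom φ ψ (by
      apply AdjoinRoot.algHom_ext
      show φ (ψ (AdjoinRoot.root _)) = AdjoinRoot.root _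
      rw [hψr, hφX]) (by
      apply P.hom_ext
      show ψ (φ P.X) = P.X
      rw [hφX, hψr])
  exact Algebra.Etale.of_equiv e

theorem isUnit_of_etale (A : Type u) [CommRing A] (n : ℕ) (hn : 1 ≤ n)
    (h : Algebra.Etale A (AdjoinRoot ((X : A[X]) ^ n - 1))) : IsUnit ((n : ℕ) : A) := by
  set Q := A ⧸ Ideal.span {((n : ℕ) : A)} with hQ
  have hnQ : ((n : ℕ) : Q) = 0 := by
    have : ((n : ℕ) : Q) = Ideal.Quotient.mk _ ((n : ℕ) : A) := by simp
    rw [this, Ideal.Quotient.eq_zero_iff_mem]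
    exact Ideal.subset_span rfl
  set T := TrivSqZeroExt Q Q
  have h1 : eval₂ (Algebra.ofId A T : A →+* T) (1 : T) ((X : A[X]) ^ n - 1) = 0 := by
    simp
  set t₂ : T := TrivSqZeroExt.inl 1 + TrivSqZeroExt.inr 1 with ht₂
  have h2 : eval₂ (Algebra.ofId A T : A →+* T) t₂ ((X : A[X]) ^ n - 1) = 0 := by
    simp only [eval₂_sub, eval₂_pow, eval₂_X, eval₂_one]
    rw [sub_eq_zero]
    ext
    · rw [TrivSqZeroExt.fst_pow, ht₂, TrivSqZeroExt.fst_add, TrivSqZeroExt.fst_inl,
        TrivSqZeroExt.fst_inr, add_zero, one_pow]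
      rfl
    · rw [TrivSqZeroExt.snd_pow, ht₂, TrivSqZeroExt.fst_add, TrivSqZeroExt.fst_inl,
        TrivSqZeroExt.fst_inr, add_zero, one_pow, TrivSqZeroExt.snd_add, TrivSqZeroExt.snd_inl,
        TrivSqZeroExt.snd_inr, zero_add, one_smul, nsmul_eq_mul, mul_one, hnQ]
      rfl
  let g₁ : AdjoinRoot ((X : A[X]) ^ n - 1) →ₐ[A] T := AdjoinRoot.liftAlgHom _ (Algebra.ofId A T) 1 h1
  let g₂ : AdjoinRoot ((X : A[X]) ^ n - 1) →ₐ[A] T := AdjoinRoot.liftAlgHom _ (Algebra.ofId A T) t₂ h2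
  have hunr : Algebra.FormallyUnramified A (AdjoinRoot ((X : A[X]) ^ n - 1)) := inferInstance
  have hnil : IsNilpotent (RingHom.ker ((TrivSqZeroExt.fstHom A Q Q : T →ₐ[A] Q) : T →+* Q)) := by
    refine ⟨2, ?_⟩
    have e : RingHom.ker ((TrivSqZeroExt.fstHom A Q Q : T →ₐ[A] Q) : T →+* Q) =
        TrivSqZeroExt.kerIdeal Q Q := by
      ext x
      exact Iff.rfl
    rw [e, Ideal.zero_eq_bot]
    exact TrivSqZeroExt.kerIdeal_sq Q Q
  have e1 : g₁ (AdjoinRoot.root _) = 1 := AdjoinRoot.liftAlgHom_root _ _ _ _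
  have e2 : g₂ (AdjoinRoot.root _) = t₂ := AdjoinRoot.liftAlgHom_root _ _ _ _
  have heq : g₁ = g₂ := by
    apply Algebra.FormallyUnramified.lift_unique' (TrivSqZeroExt.fstHom A Q Q) hnil
    apply AdjoinRoot.algHom_ext
    show TrivSqZeroExt.fst (g₁ (AdjoinRoot.root _)) = TrivSqZeroExt.fst (g₂ (AdjoinRoot.root _))
    rw [e1, e2, ht₂, TrivSqZeroExt.fst_add, TrivSqZeroExt.fst_inl, TrivSqZeroExt.fst_inr, add_zero,
      TrivSqZeroExt.fst_one]
  have : (1 : T) = t₂ := by
    have := congrArg (fun g => g (AdjoinRoot.root _)) heq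
    simp only [e1, e2] at this
    exact this
  have h01 : (0 : Q) = 1 := by
    have := congrArg TrivSqZeroExt.snd this
    rw [ht₂, TrivSqZeroExt.snd_add, TrivSqZeroExt.snd_inl, TrivSqZeroExt.snd_inr, zero_add,
      TrivSqZeroExt.snd_one] at this
    exact this
  have : (1 : A) ∈ Ideal.span {((n : ℕ) : A)} := by
    rw [← Ideal.Quotient.eq_zero_iff_mem]
    exact h01.symm
  rw [Ideal.mem_span_singleton'] at this
  obtain ⟨a, ha⟩ := this
  exact IsUnit.of_mul_eq_one a (by rw [mul_comm]; exact ha)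


open Polynomial in
/-- The etaleness criterion for the Kummer group scheme: Let A be a commutative ring and n ≥ 1. The
group scheme μ_n over Spec A is the spectrum of A[t]/(t^n − 1), a free A-module of rank n; it is
etale over A if and only if n is a unit of A (equivalently, n is prime to the characteristic of the
residue field at every point of Spec A). -/
theorem result (A : Type u) [CommRing A] (n : ℕ) (hn : 1 ≤ n) :
    Algebra.Etale A (AdjoinRoot ((X : A[X]) ^ n - 1)) ↔ IsUnit ((n : ℕ) : A) := by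
  exact ⟨isUnit_of_etale A n hn, etale_of_isUnit A n hn⟩

end Groth.Agent.S5118
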