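import Groth.Statements.S5119
-- import your own Groth.Agent.* helpers here

set_option autoImplicit false
universe u
open scoped LaurentPolynomial
open SGA1t

namespace Groth.Agent.S5119

theorem key (A : Type u) [CommRing A] (n : ℕ) (hn : 1 ≤ n) (c : Fin n → A[T;T⁻¹]) (m : ℤ) (j : Fin n) :
    (∑ i : Fin n, (AddMonoidAlgebra.mapDomainRingHom A (AddMonoidHom.mulLeft (n : ℤ)) :
      A[T;T⁻¹] →+* A[T;T⁻¹]) (c i) * LaurentPolynomial.T (i : ℤ)).coeff ((n : ℤ) * m + (j : ℕ)) =
      (c j).coeff m := by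
  have hinj : Function.Injective (AddMonoidHom.mulLeft (n : ℤ)) := by
    intro a b hab
    simp only [AddMonoidHom.coe_mulLeft] at hab
    exact mul_left_cancel₀ (by exact_mod_cast (show n ≠ 0 by omega)) hab
  rw [AddMonoidAlgebra.coeff_sum, Finset.sum_apply']
  rw [Finset.sum_eq_single j]
  · rw [LaurentPolynomial.T, AddMonoidAlgebra.coeff_mul_single_apply, mul_one]
    show (Finsupp.mapDomain (AddMonoidHom.mulLeft (n : ℤ)) (c j).coeff) _ = _
    have : (n : ℤ) * m + (j : ℕ) + -((j : ℕ) : ℤ) = AddMonoidHom.mulLeft (n : ℤ) m := by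
      simp
    rw [this, Finsupp.mapDomain_apply hinj]
  · intro i _ hij
    rw [LaurentPolynomial.T, AddMonoidAlgebra.coeff_mul_single_apply, mul_one]
    show (Finsupp.mapDomain (AddMonoidHom.mulLeft (n : ℤ)) (c i).coeff) _ = _
    apply Finsupp.mapDomain_notin_range
    rintro ⟨k, hk⟩
    simp only [AddMonoidHom.coe_mulLeft] at hk
    have hdvd : (n : ℤ) ∣ ((j : ℕ) : ℤ) - ((i : ℕ) : ℤ) := ⟨k - m, by linear_combination -hk⟩
    have habs : |((j : ℕ) : ℤ) - ((i : ℕ) : ℤ)| < (n : ℤ) := by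
      have hi := i.isLt
      have hj := j.isLt
      rw [abs_lt]; constructor <;> omega
    have := Int.eq_zero_of_abs_lt_dvd hdvd habs
    apply hij
    ext
    omega
  · intro h; exact absurd (Finset.mem_univ j) h


/-- The computation behind the exactness of the Kummer sequence 0 → μ_n → G_m → G_m → 0, i.e. faithful
flatness of the n-th power map u_n of G_m: Let A be a commutative ring and n ≥ 1, and let u_n be the
ring endomorphism of A[t, t⁻¹] with u_n(t) = t^n (on monomials, t^k ↦ t^{nk}). Then A[t, t⁻¹] is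
free of rank n over itself via u_n, with basis 1, t, …, t^{n−1}: every Laurent polynomial q can be
written in exactly one way as Σ_{i<n} u_n(c_i) t^i. -/
theorem result (A : Type u) [CommRing A] (n : ℕ) (hn : 1 ≤ n) (q : A[T;T⁻¹]) :
    ∃! c : Fin n → A[T;T⁻¹],
      q = ∑ i : Fin n, (AddMonoidAlgebra.mapDomainRingHom A (AddMonoidHom.mulLeft (n : ℤ)) : A[T;T⁻¹] →+* A[T;T⁻¹]) (c i) *
        LaurentPolynomial.T (i : ℤ) := by
  have hn0 : (n : ℤ) ≠ 0 := by exact_mod_cast (show n ≠ 0 by omega)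
  have hinj : ∀ j : Fin n, Function.Injective (fun m : ℤ => (n : ℤ) * m + ((j : ℕ) : ℤ)) := by
    intro j a b hab
    simp only [add_left_inj] at hab
    exact mul_left_cancel₀ hn0 hab
  let c : Fin n → A[T;T⁻¹] := fun j =>
    AddMonoidAlgebra.ofCoeff (Finsupp.comapDomain (fun m : ℤ => (n : ℤ) * m + ((j : ℕ) : ℤ)) q.coeff
      (hinj j).injOn)
  have hc : ∀ j m, (c j).coeff m = q.coeff ((n : ℤ) * m + ((j : ℕ) : ℤ)) := by
    intro j m
    simp [c, Finsupp.comapDomain_apply]
  refine ⟨c, ?_, ?_⟩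
  · apply AddMonoidAlgebra.ext
    apply Finsupp.ext
    intro k
    have hpos : (0 : ℤ) < n := by exact_mod_cast hn
    have hmod_nonneg := Int.emod_nonneg k hn0
    have hmod_lt := Int.emod_lt_of_pos k hpos
    set j : Fin n := ⟨(k % n).toNat, by omega⟩ with hj
    have hk : k = (n : ℤ) * (k / n) + ((j : ℕ) : ℤ) := by
      have := Int.mul_ediv_add_emod k n
      simp only [hj]
      rw [Int.toNat_of_nonneg hmod_nonneg]
      omega
    conv_rhs => rw [hk]
    rw [key A n hn c (k / n) j, hc, ← hk]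
  · intro c' hc'
    funext j
    apply AddMonoidAlgebra.ext
    apply Finsupp.ext
    intro m
    rw [hc, hc', key A n hn c' m j]

end Groth.Agent.S5119
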