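import Groth.Statements.S5128
import Mathlib.Tactic
import Mathlib.AlgebraicGeometry.Morphisms.FlatMono
import Mathlib.AlgebraicGeometry.Morphisms.Etale
import Mathlib.AlgebraicGeometry.Morphisms.UniversallyInjective
-- import your own Groth.Agent.* helpers here

set_option autoImplicit false
universe u
open SGA1

namespace Groth.Agent.S5128

open AlgebraicGeometry CategoryTheory CategoryTheory.Limits

set_option backward.isDefEq.respectTransparency false in
theorem graph_isOpenImmersion {S X Y : Scheme.{u}} (q : Y ⟶ S) [Etale q] (f : X ⟶ Y) :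
    IsOpenImmersion (pullback.lift (𝟙 X) f (by simp) : X ⟶ pullback (f ≫ q) q) := by
  have h := pullback_lift_diagonal_isPullback f q
  exact MorphismProperty.of_isPullback (P := @IsOpenImmersion) h inferInstance

theorem graph_isOpenImmersion' {S X Y : Scheme.{u}} (p : X ⟶ S) (q : Y ⟶ S) [Etale q] (f : X ⟶ Y)
    (hf : f ≫ q = p) :
    IsOpenImmersion (pullback.lift (𝟙 X) f ((Category.id_comp p).trans hf.symm) : X ⟶ pullback p q) := by
  subst hf
  exact graph_isOpenImmersion q f

theorem isIso_of_etale_univInj_surj {X Y : Scheme.{u}} (π : X ⟶ Y) [Etale π] [UniversallyInjective π]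
    [Surjective π] : IsIso π := by
  have h1 : Surjective (pullback.diagonal π) := (UniversallyInjective.iff_diagonal π).mp inferInstance
  have h2 : IsOpenImmersion (pullback.diagonal π) := inferInstance
  have h3 : IsIso (pullback.diagonal π) := by
    have : Epi (pullback.diagonal π).base := by
      rw [TopCat.epi_iff_surjective]
      exact h1.surj
    exact IsOpenImmersion.isIso _
  have h4 : Mono π := (pullback.isIso_diagonal_iff π).mp h3
  have h5 : IsOpenImmersion π := IsOpenImmersion.of_flat_of_mono π
  have : Epi π.base := by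
    rw [TopCat.epi_iff_surjective]
    exact (inferInstance : Surjective π).surj
  exact IsOpenImmersion.isIso _


open AlgebraicGeometry CategoryTheory CategoryTheory.Limits in
/-- Let X and Y be S-schemes with Y etale over S. The map f ↦ Γ_f sending an S-morphism f : X ⟶ Y to the
subset of X ×_S Y underlying its graph is a bijection from Hom_S(X, Y) onto the set of open subsets
Γ of X ×_S Y for which the restriction Γ → X of the first projection is radicial (universally
injective) and surjective. Stated as: the graph of every S-morphism is an open immersion, and every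
such open Γ is the image of the graph of exactly one S-morphism. -/
theorem result {S X Y : Scheme.{u}} (p : X ⟶ S)
    (q : Y ⟶ S) [Etale q] :
    (∀ f : {f : X ⟶ Y // f ≫ q = p},
      IsOpenImmersion (pullback.lift (𝟙 X) f.1 ((Category.id_comp p).trans f.2.symm) : X ⟶ pullback p q)) ∧
    ∀ Γ : (pullback p q).Opens, UniversallyInjective (Γ.ι ≫ pullback.fst p q) → Surjective (Γ.ι ≫ pullback.fst p q) →
      ∃! f : {f : X ⟶ Y // f ≫ q = p},
        Set.range (pullback.lift (𝟙 X) f.1 ((Category.id_comp p).trans f.2.symm) : X ⟶ pullback p q).base =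
          (Γ : Set ↥(pullback p q)) := by
  refine ⟨fun f => graph_isOpenImmersion' p q f.1 f.2, ?_⟩
  intro Γ hinj hsurj
  have : Etale (Γ.ι ≫ pullback.fst p q) := inferInstance
  have hiso : IsIso (Γ.ι ≫ pullback.fst p q) := isIso_of_etale_univInj_surj _
  set π := Γ.ι ≫ pullback.fst p q with hπ
  let f0 : X ⟶ Y := inv π ≫ Γ.ι ≫ pullback.snd p q
  have hf0 : f0 ≫ q = p := by
    simp only [f0, Category.assoc, ← pullback.condition]
    rw [← Category.assoc Γ.ι, ← hπ, IsIso.inv_hom_id_assoc]
  have hgraph : (pullback.lift (𝟙 X) f0 ((Category.id_comp p).trans hf0.symm) : X ⟶ pullback p q)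
      = inv π ≫ Γ.ι := by
    apply pullback.hom_ext
    · rw [pullback.lift_fst, Category.assoc, ← hπ, IsIso.inv_hom_id]
    · rw [pullback.lift_snd, Category.assoc]
  refine ⟨⟨f0, hf0⟩, ?_, ?_⟩
  · change Set.range (pullback.lift (𝟙 X) f0 _ : X ⟶ pullback p q).base = _
    rw [hgraph, Scheme.Hom.comp_base, TopCat.coe_comp, Set.range_comp, Set.range_eq_univ.mpr, Set.image_univ]
    · exact Γ.range_ι
    · exact (inferInstance : Surjective (inv π)).surj
  · rintro ⟨f', hf'⟩ hrange
    apply Subtype.ext
    change f' = f0
    change Set.range (pullback.lift (𝟙 X) f' _ : X ⟶ pullback p q).base = _ at hrange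
    set gr := (pullback.lift (𝟙 X) f' ((Category.id_comp p).trans hf'.symm) : X ⟶ pullback p q) with hgr
    have hopen : IsOpenImmersion gr := graph_isOpenImmersion' p q f' hf'
    have hle : Set.range gr.base ⊆ Set.range Γ.ι.base := by
      rw [hrange, Γ.range_ι]
    let j : X ⟶ Γ := IsOpenImmersion.lift Γ.ι gr hle
    have hj : j ≫ Γ.ι = gr := IsOpenImmersion.lift_fac _ _ _
    have hjπ : j ≫ π = 𝟙 X := by
      rw [hπ, ← Category.assoc, hj, hgr, pullback.lift_fst]
    have hj' : j = inv π := by
      rw [← cancel_mono π, hjπ, IsIso.inv_hom_id]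
    have : f' = gr ≫ pullback.snd p q := by rw [hgr, pullback.lift_snd]
    rw [this, ← hj, hj']
    simp only [f0, Category.assoc]

end Groth.Agent.S5128
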