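import Groth.Statements.S5144
import Mathlib.CategoryTheory.FiberedCategory.Cocartesian

set_option autoImplicit false
open CategoryTheory
universe u v u₂ v₂
open FibCat

namespace Groth.Agent.S5144

open CategoryTheory Functor

variable {𝒮 : Type*} {𝒳 : Type*} [Category 𝒮] [Category 𝒳]

theorem cocart_comp (q : 𝒳 ⥤ 𝒮) [q.IsFibered] {R S T : 𝒮} (f : R ⟶ S) (g : S ⟶ T) {a b c : 𝒳}
    (φ : a ⟶ b) (ψ : b ⟶ c) [q.IsCocartesian f φ] [q.IsCocartesian g ψ] :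
    q.IsCocartesian (f ≫ g) (φ ≫ ψ) := by
  refine { toIsHomLift := inferInstance, universal_property := ?_ }
  intro c' θ hθ
  have hc' : q.obj c' = T := IsHomLift.codomain_eq q (f ≫ g) θ
  obtain ⟨b', γ, hγ⟩ := IsPreFibered.exists_isCartesian q hc' g
  have hγs : q.IsStronglyCartesian g γ := inferInstance
  let θ' := IsStronglyCartesian.map q g γ (f' := f ≫ g) rfl θ
  have hθ' : θ' ≫ γ = θ := IsStronglyCartesian.fac q g γ rfl θ
  let χ₁ := IsCocartesian.map q f φ θ'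
  have hχ₁ : φ ≫ χ₁ = θ' := IsCocartesian.fac q f φ θ'
  have h1 : q.IsHomLift g (χ₁ ≫ γ) := by
    have : q.IsHomLift (𝟙 S ≫ g) (χ₁ ≫ γ) := inferInstance
    simpa using this
  let χ := IsCocartesian.map q g ψ (χ₁ ≫ γ)
  have hχ : ψ ≫ χ = χ₁ ≫ γ := IsCocartesian.fac q g ψ (χ₁ ≫ γ)
  refine ⟨χ, ⟨inferInstance, ?_⟩, ?_⟩
  · rw [Category.assoc, hχ, ← Category.assoc, hχ₁, hθ']
  · rintro χ' ⟨hχ', hχ'eq⟩
    have h2 : q.IsHomLift g (ψ ≫ χ') := by
      have : q.IsHomLift (g ≫ 𝟙 T) (ψ ≫ χ') := inferInstance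
      simpa using this
    let β := IsCartesian.map q g γ (ψ ≫ χ')
    have hβ : β ≫ γ = ψ ≫ χ' := IsCartesian.fac q g γ (ψ ≫ χ')
    have h3 : q.IsHomLift f (φ ≫ β) := by
      have : q.IsHomLift (f ≫ 𝟙 S) (φ ≫ β) := inferInstance
      simpa using this
    have h4 : φ ≫ β = θ' := by
      apply IsStronglyCartesian.map_uniq q g γ rfl θ
      rw [Category.assoc, hβ, ← Category.assoc, hχ'eq]
    have h5 : β = χ₁ := IsCocartesian.map_uniq q f φ θ' β h4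
    apply IsCocartesian.map_uniq q g ψ (χ₁ ≫ γ) χ'
    rw [← hβ, h5]

theorem isHomLift_op (p : 𝒳 ⥤ 𝒮) {R S : 𝒮} {a b : 𝒳} (f : R ⟶ S) (φ : a ⟶ b)
    (h : p.IsHomLift f φ) : p.op.IsHomLift f.op φ.op := by
  cases h
  exact IsHomLift.map p.op φ.op

theorem isHomLift_unop (p : 𝒳 ⥤ 𝒮) {R S : 𝒮ᵒᵖ} {a b : 𝒳ᵒᵖ} (f : R ⟶ S) (φ : a ⟶ b)
    (h : p.op.IsHomLift f φ) : p.IsHomLift f.unop φ.unop := by
  cases h
  exact IsHomLift.map p φ.unop

theorem isCartesian_op_iff (p : 𝒳 ⥤ 𝒮) {R S : 𝒮ᵒᵖ} {a b : 𝒳ᵒᵖ} (f : R ⟶ S) (φ : a ⟶ b) :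
    p.op.IsCartesian f φ ↔ p.IsCocartesian f.unop φ.unop := by
  constructor
  · intro h
    refine { toIsHomLift := isHomLift_unop p f φ inferInstance, universal_property := ?_ }
    intro b' φ' hφ'
    have : p.op.IsHomLift f φ'.op := isHomLift_op p f.unop φ' hφ'
    obtain ⟨χ, ⟨hχ1, hχ2⟩, hχ3⟩ := h.universal_property φ'.op
    refine ⟨χ.unop, ⟨isHomLift_unop p (𝟙 R) χ hχ1, ?_⟩, ?_⟩
    · rw [← unop_comp, hχ2]; rfl
    · rintro χ' ⟨h1, h2⟩
      have := hχ3 χ'.op ⟨isHomLift_op p (𝟙 R.unop) χ' h1, by rw [← h2]; rfl⟩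
      rw [← this]; rfl
  · intro h
    refine { toIsHomLift := isHomLift_op p f.unop φ.unop inferInstance, universal_property := ?_ }
    intro a' φ' hφ'
    have : p.IsHomLift f.unop φ'.unop := isHomLift_unop p f φ' hφ'
    obtain ⟨χ, ⟨hχ1, hχ2⟩, hχ3⟩ := h.universal_property φ'.unop
    refine ⟨χ.op, ⟨isHomLift_op p (𝟙 R.unop) χ hχ1, ?_⟩, ?_⟩
    · apply Quiver.Hom.unop_inj
      rw [unop_comp]; exact hχ2
    · rintro χ' ⟨h1, h2⟩
      have := hχ3 χ'.unop ⟨isHomLift_unop p (𝟙 R) χ' h1, by rw [← h2]; rfl⟩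
      rw [← this]; rfl

theorem isCocartesian_op_iff (p : 𝒳 ⥤ 𝒮) {R S : 𝒮} {a b : 𝒳} (f : R ⟶ S) (φ : a ⟶ b) :
    p.op.IsCocartesian f.op φ.op ↔ p.IsCartesian f φ := by
  constructor
  · intro h
    refine { toIsHomLift := isHomLift_unop p f.op φ.op inferInstance, universal_property := ?_ }
    intro a' φ' hφ'
    have : p.op.IsHomLift f.op φ'.op := isHomLift_op p f φ' hφ'
    obtain ⟨χ, ⟨hχ1, hχ2⟩, hχ3⟩ := h.universal_property φ'.op
    refine ⟨χ.unop, ⟨isHomLift_unop p (𝟙 (Opposite.op R)) χ hχ1, ?_⟩, ?_⟩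
    · rw [← Quiver.Hom.unop_op φ, ← unop_comp, hχ2]; rfl
    · rintro χ' ⟨h1, h2⟩
      have := hχ3 χ'.op ⟨isHomLift_op p (𝟙 R) χ' h1, by rw [← h2]; rfl⟩
      rw [← this]; rfl
  · intro h
    refine { toIsHomLift := isHomLift_op p f φ inferInstance, universal_property := ?_ }
    intro b' φ' hφ'
    have : p.IsHomLift f φ'.unop := isHomLift_unop p f.op φ' hφ'
    obtain ⟨χ, ⟨hχ1, hχ2⟩, hχ3⟩ := h.universal_property φ'.unop
    refine ⟨χ.op, ⟨isHomLift_op p (𝟙 R) χ hχ1, ?_⟩, ?_⟩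
    · apply Quiver.Hom.unop_inj
      rw [unop_comp]; exact hχ2
    · rintro χ' ⟨h1, h2⟩
      have := hχ3 χ'.unop ⟨isHomLift_unop p (𝟙 (Opposite.op R)) χ' h1, by rw [← h2]; rfl⟩
      rw [← this]; rfl


/-- If p : 𝒳 ⥤ C is both prefibred and co-prefibred (its opposite functor is prefibred), then p is
fibred if and only if it is co-fibred (its opposite functor is fibred). Prefibred and fibred are
Mathlib's notions, which are the source's. -/
theorem result {C : Type u} [Category.{v} C] {𝒳 : Type u₂} [Category.{v₂} 𝒳]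
    (p : 𝒳 ⥤ C) [p.IsPreFibered] [p.op.IsPreFibered] : p.IsFibered ↔ p.op.IsFibered := by
  constructor
  · intro h
    refine { comp := ?_ }
    intro R S T f g a b c φ ψ hφ hψ
    rw [isCartesian_op_iff] at hφ hψ ⊢
    exact cocart_comp p g.unop f.unop ψ.unop φ.unop
  · intro h
    refine { comp := ?_ }
    intro R S T f g a b c φ ψ hφ hψ
    rw [← isCocartesian_op_iff] at hφ hψ ⊢
    exact cocart_comp p.op g.op f.op ψ.op φ.op

end Groth.Agent.S5144
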