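import Groth.Statements.S5158
-- import your own Groth.Agent.* helpers here
import Mathlib.RingTheory.AdicCompletion.Completeness
import Mathlib.RingTheory.AdicCompletion.Algebra

set_option autoImplicit false
universe u
open scoped TensorProduct
open Matlis

namespace Groth.Agent.S5158

/-- Let A be a Noetherian local ring, Â its m-adic completion and I an m-power torsion A-module (a union
of submodules of finite length). Then x ↦ 1 ⊗ x is a bijection I → Â ⊗_A I. -/
theorem result (A : Type u) [CommRing A] [IsLocalRing A] [IsNoetherianRing A] (I : Type u) [AddCommGroup I] [Module A I] (hI : LocCoh.IsPowerTorsion (IsLocalRing.maximalIdeal A) I) : Function.Bijective (TensorProduct.mk A (AdicCompletion (IsLocalRing.maximalIdeal A) A) I 1) := by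
  classical
  set m := IsLocalRing.maximalIdeal A with hm
  have hfg : m.FG := IsNoetherian.noetherian m
  have hrep : ∀ (â : AdicCompletion m A) (n : ℕ), ∃ r : A,
      (Submodule.mkQ (m ^ n • ⊤ : Submodule A A)) r = AdicCompletion.eval m A n â :=
    fun â n => Submodule.mkQ_surjective _ _
  choose rep hrepspec using hrep
  have hmem : ∀ (n : ℕ) (r : A), r ∈ (m ^ n • ⊤ : Submodule A A) ↔ r ∈ m ^ n := by
    intro n r
    rw [smul_eq_mul, Ideal.mul_top]
  -- comparison of representatives at different levels
  have key1 : ∀ (â : AdicCompletion m A) (x : I) (n N : ℕ) (r r' : A), n ≤ N →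
      (∀ a ∈ m ^ n, a • x = 0) →
      (Submodule.mkQ (m ^ n • ⊤ : Submodule A A)) r = AdicCompletion.eval m A n â →
      (Submodule.mkQ (m ^ N • ⊤ : Submodule A A)) r' = AdicCompletion.eval m A N â →
      r • x = r' • x := by
    intro â x n N r r' hnN hx hr hr'
    have h1 : AdicCompletion.transitionMap m A hnN (AdicCompletion.eval m A N â)
        = AdicCompletion.eval m A n â := by
      rw [AdicCompletion.eval_apply, AdicCompletion.eval_apply]
      exact AdicCompletion.transitionMap_comp_eval_apply m A hnN â
    rw [← hr', ← hr] at h1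
    have h2 : AdicCompletion.transitionMap m A hnN ((Submodule.mkQ (m ^ N • ⊤ : Submodule A A)) r')
        = (Submodule.mkQ (m ^ n • ⊤ : Submodule A A)) r' := Submodule.factor_mk _ _
    rw [h2, Submodule.mkQ_apply, Submodule.mkQ_apply, Submodule.Quotient.eq, hmem] at h1
    have := hx _ h1
    rw [sub_smul, sub_eq_zero] at this
    exact this.symm
  have key : ∀ (â : AdicCompletion m A) (x : I) (n n' : ℕ) (r r' : A),
      (∀ a ∈ m ^ n, a • x = 0) → (∀ a ∈ m ^ n', a • x = 0) →
      (Submodule.mkQ (m ^ n • ⊤ : Submodule A A)) r = AdicCompletion.eval m A n â →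
      (Submodule.mkQ (m ^ n' • ⊤ : Submodule A A)) r' = AdicCompletion.eval m A n' â →
      r • x = r' • x := by
    intro â x n n' r r' hx hx' hr hr'
    rw [key1 â x n (max n n') r (rep â (max n n')) (le_max_left _ _) hx hr (hrepspec _ _),
      key1 â x n' (max n n') r' (rep â (max n n')) (le_max_right _ _) hx' hr' (hrepspec _ _)]
  have mono : ∀ (x : I) (k n : ℕ), k ≤ n → (∀ a ∈ m ^ k, a • x = 0) → (∀ a ∈ m ^ n, a • x = 0) :=
    fun x k n hkn h a ha => h a (Ideal.pow_le_pow_right hkn ha)
  -- the action
  let act : AdicCompletion m A → I → I := fun â x => rep â (Nat.find (hI x)) • x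
  have act_spec : ∀ (â : AdicCompletion m A) (x : I) (n : ℕ) (r : A), (∀ a ∈ m ^ n, a • x = 0) →
      (Submodule.mkQ (m ^ n • ⊤ : Submodule A A)) r = AdicCompletion.eval m A n â →
      act â x = r • x := fun â x n r hx hr =>
    key â x _ n _ r (Nat.find_spec (hI x)) hx (hrepspec _ _) hr
  have act_add_right : ∀ â x y, act â (x + y) = act â x + act â y := by
    intro â x y
    obtain ⟨n₁, h₁⟩ := hI x
    obtain ⟨n₂, h₂⟩ := hI y
    set n := max n₁ n₂
    have hx := mono x n₁ n (le_max_left _ _) h₁
    have hy := mono y n₂ n (le_max_right _ _) h₂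
    have hxy : ∀ a ∈ m ^ n, a • (x + y) = 0 := fun a ha => by rw [smul_add, hx a ha, hy a ha, add_zero]
    rw [act_spec â x n _ hx (hrepspec â n), act_spec â y n _ hy (hrepspec â n),
      act_spec â (x + y) n _ hxy (hrepspec â n), smul_add]
  have act_smul_right : ∀ â (c : A) x, act â (c • x) = c • act â x := by
    intro â c x
    obtain ⟨n, hx⟩ := hI x
    have hcx : ∀ a ∈ m ^ n, a • (c • x) = 0 := fun a ha => by rw [smul_comm, hx a ha, smul_zero]
    rw [act_spec â x n _ hx (hrepspec â n), act_spec â (c • x) n _ hcx (hrepspec â n), smul_comm]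
  have act_add_left : ∀ â b' x, act (â + b') x = act â x + act b' x := by
    intro â b' x
    obtain ⟨n, hx⟩ := hI x
    rw [act_spec â x n _ hx (hrepspec â n), act_spec b' x n _ hx (hrepspec b' n),
      act_spec (â + b') x n (rep â n + rep b' n) hx (by rw [map_add, map_add, hrepspec, hrepspec]),
      add_smul]
  have act_smul_left : ∀ (c : A) â x, act (c • â) x = c • act â x := by
    intro c â x
    obtain ⟨n, hx⟩ := hI x
    rw [act_spec â x n _ hx (hrepspec â n),
      act_spec (c • â) x n (c • rep â n) hx (by rw [map_smul, map_smul, hrepspec]), smul_assoc]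
  let ρ₀ : AdicCompletion m A →ₗ[A] I →ₗ[A] I :=
    { toFun := fun â =>
        { toFun := act â
          map_add' := act_add_right â
          map_smul' := fun c x => act_smul_right â c x }
      map_add' := fun â b' => LinearMap.ext fun x => act_add_left â b' x
      map_smul' := fun c â => LinearMap.ext fun x => act_smul_left c â x }
  let ρ : TensorProduct A (AdicCompletion m A) I →ₗ[A] I := TensorProduct.lift ρ₀
  have hone : ∀ x : I, act 1 x = x := by
    intro x
    obtain ⟨n, hx⟩ := hI x
    rw [act_spec 1 x n 1 hx (by rw [AdicCompletion.eval_apply, AdicCompletion.val_one]; rfl),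
      one_smul]
  constructor
  · intro x y hxy
    have := congrArg ρ hxy
    simpa [ρ, ρ₀, hone] using this
  · intro z
    induction z using TensorProduct.induction_on with
    | zero => exact ⟨0, by simp⟩
    | add z w hz hw =>
      obtain ⟨x, rfl⟩ := hz
      obtain ⟨y, rfl⟩ := hw
      exact ⟨x + y, by rw [map_add]⟩
    | tmul â x =>
      obtain ⟨n, hx⟩ := hI x
      refine ⟨rep â n • x, ?_⟩
      have h1 : â - rep â n • (1 : AdicCompletion m A) ∈ (m ^ n • ⊤ : Submodule A (AdicCompletion m A)) := by
        rw [AdicCompletion.pow_smul_top_eq_ker_eval hfg, LinearMap.mem_ker, map_sub, map_smul,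
          ← hrepspec â n, sub_eq_zero]
        rw [AdicCompletion.eval_apply, AdicCompletion.val_one]
        show _ = rep â n • Submodule.Quotient.mk (1 : A)
        rw [← Submodule.Quotient.mk_smul]
        have : rep â n • (1 : A) = rep â n := by rw [smul_eq_mul, mul_one]
        rw [this]; rfl
      have h2 : ∀ y ∈ (m ^ n • ⊤ : Submodule A (AdicCompletion m A)), y ⊗ₜ[A] x = 0 := by
        intro y hy
        refine Submodule.smul_induction_on hy ?_ ?_
        · intro a ha b _
          rw [TensorProduct.smul_tmul, hx a ha, TensorProduct.tmul_zero]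
        · intro y y' h h'
          rw [TensorProduct.add_tmul, h, h', add_zero]
      have h3 := h2 _ h1
      rw [TensorProduct.sub_tmul, sub_eq_zero] at h3
      rw [h3, TensorProduct.smul_tmul]
      rfl

end Groth.Agent.S5158
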