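import Groth.Statements.S5159
import Mathlib
import Groth.Agent.S0342
import Groth.Agent.Lib.helper11.ExtBridge
import Groth.Agent.Lib.helper11.GorensteinLocal
import Groth.Agent.Lib.helper11.ExtRegular
import Groth.Agent.Lib.helper11.ExtKoszul
import Groth.Agent.Lib.helper11.InjDimKappa
import Groth.Agent.Lib.helper19.RegularLocalSeq

set_option autoImplicit false
universe u
open CategoryTheory Opposite
open Dual

namespace Groth.Agent.S5159

open Abelian

section

variable {A : Type u} [CommRing A]

/-- `Ext` along an isomorphism in the first variable. -/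
noncomputable def extCongrLeft {X X' : ModuleCat.{u} A} (φ : X ≅ X') (Y : ModuleCat.{u} A) (n : ℕ) :
    Ext X' Y n ≃ₗ[A] Ext X Y n :=
  LinearEquiv.ofLinear (Ext.precompOfLinear (Ext.mk₀ φ.hom) A Y (zero_add n))
    (Ext.precompOfLinear (Ext.mk₀ φ.inv) A Y (zero_add n))
    (by
      refine LinearMap.ext fun e => ?_
      show (Ext.mk₀ φ.hom).comp ((Ext.mk₀ φ.inv).comp e (zero_add n)) (zero_add n) = e
      rw [Ext.mk₀_comp_mk₀_assoc, φ.hom_inv_id, Ext.mk₀_id_comp])
    (by
      refine LinearMap.ext fun e => ?_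
      show (Ext.mk₀ φ.inv).comp ((Ext.mk₀ φ.hom).comp e (zero_add n)) (zero_add n) = e
      rw [Ext.mk₀_comp_mk₀_assoc, φ.inv_hom_id, Ext.mk₀_id_comp])

/-- Additivity of the length of `Ext^n(-, Y)` on a short exact sequence with vanishing neighbours. -/
lemma length_ext_mid {S : ShortComplex (ModuleCat.{u} A)} (hS : S.ShortExact) (Y : ModuleCat.{u} A)
    (n : ℕ) (h1 : ∀ n', n' + 1 = n → Subsingleton (Ext S.X₁ Y n'))
    (h3 : Subsingleton (Ext S.X₃ Y (n + 1))) :
    Module.length A (Ext S.X₂ Y n) =
      Module.length A (Ext S.X₃ Y n) + Module.length A (Ext S.X₁ Y n) := by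
  refine Module.length_eq_add_of_exact (Ext.precompOfLinear (Ext.mk₀ S.g) A Y (zero_add n))
    (Ext.precompOfLinear (Ext.mk₀ S.f) A Y (zero_add n)) ?_ ?_ ?_
  · -- injectivity
    rw [injective_iff_map_eq_zero]
    intro x hx
    have hx' : (Ext.mk₀ S.g).comp x (zero_add n) = 0 := hx
    rcases n with _ | n'
    · haveI := hS.epi_g
      exact Ext.precomp_mk₀_injective_of_epi Y S.g (by simpa using hx')
    · obtain ⟨x₁, hx₁⟩ := Ext.contravariant_sequence_exact₃ hS Y x hx' (add_comm 1 n')
      haveI := h1 n' rfl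
      rw [← hx₁, Subsingleton.elim x₁ 0, Ext.comp_zero]
  · -- surjectivity
    intro x₁
    have h0 : hS.extClass.comp x₁ (add_comm 1 n) = 0 := Subsingleton.elim _ _
    obtain ⟨x₂, hx₂⟩ := Ext.contravariant_sequence_exact₁ hS Y x₁ (add_comm 1 n) h0
    exact ⟨x₂, hx₂⟩
  · -- exactness
    intro x₂
    constructor
    · intro hx₂
      obtain ⟨x₃, hx₃⟩ := Ext.contravariant_sequence_exact₂ hS Y x₂ hx₂
      exact ⟨x₃, hx₃⟩
    · rintro ⟨x₃, rfl⟩
      show (Ext.mk₀ S.f).comp ((Ext.mk₀ S.g).comp x₃ (zero_add n)) (zero_add n) = 0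
      rw [Ext.mk₀_comp_mk₀_assoc, S.zero, Ext.mk₀_zero, Ext.zero_comp]

end

section Main

variable {A : Type u} [CommRing A] [IsRegularLocalRing A] {n : ℕ} (hn : ringKrullDim A = n)

include hn in
lemma exists_regular_seq : ∃ xs : List A, Ideal.ofList xs = IsLocalRing.maximalIdeal A ∧
    xs.length = n ∧ RingTheory.Sequence.IsRegular A xs := by
  classical
  obtain ⟨s, hs1, hs2⟩ := Submodule.FG.exists_span_finset_card_eq_spanFinrank
    (IsNoetherian.noetherian (IsLocalRing.maximalIdeal A))
  have hspan : Ideal.ofList s.toList = IsLocalRing.maximalIdeal A := by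
    rw [← hs2]
    unfold Ideal.ofList
    congr 1
    ext y
    simp
  have hdim : ringKrullDim A = (s.toList.length : ℕ) := by
    rw [Finset.length_toList, hs1]
    exact (IsRegularLocalRing.spanFinrank_maximalIdeal (R := A)).symm
  have hreg := Groth.Agent.Lib.helper19.isRegular_of_ofList_eq_maximalIdeal A s.toList hspan hdim
  refine ⟨s.toList, hspan, ?_, hreg⟩
  rw [hdim] at hn
  exact_mod_cast hn

include hn in
lemma ext_lt (X : Type u) [AddCommGroup X] [Module A X] (k : ℕ)
    (hX : (IsLocalRing.maximalIdeal A ^ k) • (⊤ : Submodule A X) = ⊥) (i : ℕ) (hi : i < n) :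
    Subsingleton (Ext (ModuleCat.of A X) (ModuleCat.of A A) i) := by
  obtain ⟨xs, hspan, hlen, hreg⟩ := exists_regular_seq hn
  refine ⟨fun a b => ?_⟩
  have key := Groth.Agent.Lib.helper11.ExtRegular.ext_eq_zero_of_regular A X
    (IsLocalRing.maximalIdeal A) k hX xs A hreg.toIsWeaklyRegular
    (fun r hr => by rw [← hspan]; exact Ideal.subset_span hr) i (by omega)
  rw [key a, key b]

include hn in
lemma ext_gt (X : ModuleCat.{u} A) (i : ℕ) (hi : n < i) :
    Subsingleton (Ext X (ModuleCat.of A A) i) := by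
  have hG := Groth.Agent.S0342.result A
  have h := (Groth.Agent.Lib.helper11.GorensteinLocal.gorenstein_main
    hG.exists_hasInjectiveDimensionLT n hn).1
  exact HasInjectiveDimensionLT.subsingleton (ModuleCat.of A A) (n + 1) i (by omega) X

include hn in
lemma length_ext_residue :
    Module.length A (Ext (ModuleCat.of A (A ⧸ IsLocalRing.maximalIdeal A)) (ModuleCat.of A A) n)
      = 1 := by
  obtain ⟨xs, hspan, hlen, hreg⟩ := exists_regular_seq hn
  have hclaim := Groth.Agent.Lib.helper11.ExtKoszul.claim_ofList A xs hreg.toIsWeaklyRegular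
  rw [hspan, hlen] at hclaim
  obtain ⟨e⟩ := hclaim.2 A
  have e2 : (A ⧸ (IsLocalRing.maximalIdeal A • ⊤ : Submodule A A)) ≃ₗ[A]
      (A ⧸ IsLocalRing.maximalIdeal A) :=
    Submodule.quotEquivOfEq _ _ (by rw [smul_eq_mul, Ideal.mul_top])
  rw [(e ≪≫ₗ e2).length_eq]
  haveI : IsSimpleModule A (A ⧸ IsLocalRing.maximalIdeal A) :=
    isSimpleModule_iff_quot_maximal.2 ⟨_, inferInstance, ⟨LinearEquiv.refl A _⟩⟩
  exact Module.length_eq_one A _

include hn in
theorem key : ∀ (M : Type u) [AddCommGroup M] [Module A M], IsFiniteLength A M →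
    (∃ k, (IsLocalRing.maximalIdeal A ^ k) • (⊤ : Submodule A M) = ⊥) ∧
    Module.length A (Ext (ModuleCat.of A M) (ModuleCat.of A A) n) = Module.length A M := by
  intro M _ _ hM
  induction hM with
  | of_subsingleton =>
    rename_i M _ _ _
    refine ⟨⟨0, ?_⟩, ?_⟩
    · rw [eq_bot_iff]
      intro x _
      rw [Subsingleton.elim x 0]
      exact zero_mem _
    · have hz : Limits.IsZero (ModuleCat.of A M) := ModuleCat.isZero_of_subsingleton _
      haveI : Subsingleton (Ext (ModuleCat.of A M) (ModuleCat.of A A) n) :=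
        ⟨fun a b => by
          rw [Groth.Agent.Lib.helper11.InjDimKappa.ext_eq_zero_of_isZero hz a,
            Groth.Agent.Lib.helper11.InjDimKappa.ext_eq_zero_of_isZero hz b]⟩
      rw [Module.length_eq_zero, Module.length_eq_zero]
  | of_simple_quotient h ih =>
    rename_i M _ _ N hsimple
    obtain ⟨⟨k, hk⟩, hlen⟩ := ih
    obtain ⟨I, hI, ⟨eQ⟩⟩ := isSimpleModule_iff_quot_maximal.1 hsimple
    have hIm : I = IsLocalRing.maximalIdeal A := IsLocalRing.eq_maximalIdeal hI
    subst hIm
    -- `m` kills the quotient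
    have hQ : ∀ a ∈ IsLocalRing.maximalIdeal A, ∀ x : M, a • x ∈ N := by
      intro a ha x
      rw [← Submodule.Quotient.mk_eq_zero, Submodule.Quotient.mk_smul]
      apply eQ.injective
      rw [map_smul, map_zero]
      obtain ⟨b, hb⟩ := Ideal.Quotient.mk_surjective (eQ (Submodule.Quotient.mk x))
      rw [← hb]
      have h1 : a • Ideal.Quotient.mk (IsLocalRing.maximalIdeal A) b =
          Ideal.Quotient.mk (IsLocalRing.maximalIdeal A) (a * b) := rfl
      rw [h1, Ideal.Quotient.eq_zero_iff_mem]
      exact Ideal.mul_mem_right _ _ ha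
    have hkN : ∀ b ∈ IsLocalRing.maximalIdeal A ^ k, ∀ y : N, b • y = 0 := by
      intro b hb y
      have : b • y ∈ (IsLocalRing.maximalIdeal A ^ k) • (⊤ : Submodule A N) :=
        Submodule.smul_mem_smul hb Submodule.mem_top
      rw [hk] at this
      exact (Submodule.mem_bot A).1 this
    have hkM : (IsLocalRing.maximalIdeal A ^ (k + 1)) • (⊤ : Submodule A M) = ⊥ := by
      rw [eq_bot_iff, Submodule.smul_le]
      intro c hc x _
      rw [Submodule.mem_bot]
      rw [pow_succ] at hc
      refine Submodule.mul_induction_on hc ?_ ?_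
      · intro b hb a ha
        rw [mul_smul]
        have := hkN b hb ⟨a • x, hQ a ha x⟩
        exact congrArg Subtype.val this
      · intro c₁ c₂ h1 h2
        rw [add_smul, h1, h2, add_zero]
    refine ⟨⟨k + 1, hkM⟩, ?_⟩
    -- the short exact sequence
    have hS : (ShortComplex.mk (ModuleCat.ofHom N.subtype) (ModuleCat.ofHom N.mkQ)
        (by
          refine ModuleCat.hom_ext (LinearMap.ext fun y => ?_)
          exact (Submodule.Quotient.mk_eq_zero N).2 y.2) :
        ShortComplex (ModuleCat.{u} A)).ShortExact :=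
      ModuleCat.shortComplex_shortExact _ (LinearMap.exact_subtype_mkQ N)
        (Submodule.injective_subtype N) (Submodule.mkQ_surjective N)
    have hmid := length_ext_mid hS (ModuleCat.of A A) n
      (fun n' hn' => ext_lt hn N k hk n' (by omega))
      (ext_gt hn _ (n + 1) (by omega))
    have hQlen : Module.length A (Ext (ModuleCat.of A (M ⧸ N)) (ModuleCat.of A A) n) = 1 := by
      rw [← length_ext_residue hn]
      exact (extCongrLeft eQ.toModuleIso (ModuleCat.of A A) n).length_eq.symm
    have hMlen := Module.length_eq_add_of_exact N.subtype N.mkQ (Submodule.injective_subtype N)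
      (Submodule.mkQ_surjective N) (LinearMap.exact_subtype_mkQ N)
    have hQ1 : Module.length A (M ⧸ N) = 1 := Module.length_eq_one A _
    show Module.length A (Ext (ModuleCat.of A M) (ModuleCat.of A A) n) = Module.length A M
    rw [hMlen, hQ1]
    have hmid' : Module.length A (Ext (ModuleCat.of A M) (ModuleCat.of A A) n) =
        Module.length A (Ext (ModuleCat.of A (M ⧸ N)) (ModuleCat.of A A) n) +
        Module.length A (Ext (ModuleCat.of A N) (ModuleCat.of A A) n) := hmid
    rw [hmid', hQlen, hlen, add_comm]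

end Main


/-- Let A be a regular local ring of dimension n and M an A-module of finite length. Then Ext^i_A(M, A)
= 0 for i ≠ n and length Ext^n_A(M, A) = length M (the functor Ext^n_A(−, A) is dualizing). -/
theorem result (A : Type u) [CommRing A] [IsRegularLocalRing A] (n : ℕ) (hn : ringKrullDim A = n) (M : Type u) [AddCommGroup M] [Module A M] (hM : IsFiniteLength A M) : (∀ i : ℕ, i ≠ n → Subsingleton (((Ext A (ModuleCat.{u} A) i).obj (op (ModuleCat.of A M))).obj (ModuleCat.of A A))) ∧ Module.length A (((Ext A (ModuleCat.{u} A) n).obj (op (ModuleCat.of A M))).obj (ModuleCat.of A A)) = Module.length A M := by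
  obtain ⟨⟨k, hk⟩, hlen⟩ := key hn M hM
  refine ⟨fun i hi => ?_, ?_⟩
  · have e := Groth.Agent.Lib.helper11.ExtBridge.extBridge (ModuleCat.of A M) (ModuleCat.of A A) i
    rw [e.toEquiv.subsingleton_congr]
    rcases Nat.lt_or_gt_of_ne hi with h | h
    · exact ext_lt hn M k hk i h
    · exact ext_gt hn _ i h
  · have e := Groth.Agent.Lib.helper11.ExtBridge.extBridge (ModuleCat.of A M) (ModuleCat.of A A) n
    rw [e.length_eq, hlen]

end Groth.Agent.S5159
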