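import Groth.Statements.S5162
import Mathlib
import Groth.Agent.Lib.helper11.LCTorsion
import Groth.Agent.Lib.helper11.LCVanish
import Groth.Agent.S0299
import Groth.Agent.S5163

set_option autoImplicit false
universe u
open CategoryTheory
open LocCoh

namespace Groth.Agent.S5162

open Groth.Agent.Lib.helper11.LCKit Abelian

variable {A : Type u} [CommRing A] [IsNoetherianRing A] (J : Ideal A)

/-- A finite module with support in `V(J)` is killed by a power of `J`. -/
lemma exists_pow_le_annihilator (F : Type u) [AddCommGroup F] [Module A F] [Module.Finite A F]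
    (h : Module.support A F ⊆ PrimeSpectrum.zeroLocus (J : Set A)) :
    ∃ k : ℕ, J ^ k ≤ Module.annihilator A F := by
  rw [Module.support_eq_zeroLocus, PrimeSpectrum.zeroLocus_subset_zeroLocus_iff] at h
  exact Ideal.exists_pow_le_of_le_radical_of_fg h (IsNoetherian.noetherian J)

lemma hom_eq_zero (F G : Type u) [AddCommGroup F] [Module A F] [Module.Finite A F]
    [AddCommGroup G] [Module A G]
    (h : Module.support A F ⊆ PrimeSpectrum.zeroLocus (J : Set A)) (hG : IsTorsFree J G)
    (f : F →ₗ[A] G) : f = 0 := by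
  obtain ⟨k, hk⟩ := exists_pow_le_annihilator J F h
  ext x
  apply hG
  refine ⟨k, fun a ha => ?_⟩
  rw [← map_smul, Module.mem_annihilator.1 (hk ha) x, map_zero]

lemma subsingleton_ext_zero (F : Type u) [AddCommGroup F] [Module A F] [Module.Finite A F]
    (G : ModuleCat.{u} A)
    (h : Module.support A F ⊆ PrimeSpectrum.zeroLocus (J : Set A)) (hG : IsTorsFree J G) :
    Subsingleton (Ext (ModuleCat.of A F) G 0) := by
  refine subsingleton_of_forall_eq 0 (fun e => ?_)
  obtain ⟨g, rfl⟩ := (Ext.linearEquiv₀ (R := A)).symm.surjective e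
  have : g = 0 := by
    apply ModuleCat.hom_ext
    exact hom_eq_zero J F G h hG g.hom
  rw [this]
  exact map_zero _

lemma subsingleton_H0 (M : ModuleCat.{u} A) (h : IsTorsFree J M) :
    Subsingleton ((localCohomology J 0).obj M) := by
  refine subsingleton_of_forall_eq 0 (fun x => ?_)
  apply ev_injective J M
  rw [map_zero]
  exact h _ ((mem_range_ev_iff J M _).1 ⟨x, rfl⟩)

lemma isTorsFree_of_subsingleton_H0 (M : ModuleCat.{u} A)
    (h : Subsingleton ((localCohomology J 0).obj M)) : IsTorsFree J M := by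
  intro m hm
  obtain ⟨x, rfl⟩ := (mem_range_ev_iff J M m).2 hm
  rw [h.elim x 0, map_zero]


/-- The injective hull of a `J`-torsion-free module is `J`-torsion-free. -/
lemma exists_ses (G : Type u) [AddCommGroup G] [Module A G] (hG : IsTorsFree J G) :
    ∃ (E : Type u) (_ : AddCommGroup E) (_ : Module A E) (f : G →ₗ[A] E),
      Function.Injective f ∧ Module.Injective A E ∧ IsTorsFree J E := by
  obtain ⟨E, _, _, f, hf⟩ := Groth.Agent.S0299.result A G
  refine ⟨E, inferInstance, inferInstance, f, hf.injective, hf.isInjective, ?_⟩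
  intro e he
  by_contra hne
  have hN : Submodule.span A {e} ≠ ⊥ := by
    rw [Ne, Submodule.span_singleton_eq_bot]
    exact hne
  have := hf.essential _ hN
  rw [Ne, Submodule.eq_bot_iff] at this
  push_neg at this
  obtain ⟨x, ⟨hx1, hx2⟩, hx0⟩ := this
  obtain ⟨a, rfl⟩ := Submodule.mem_span_singleton.1 hx1
  obtain ⟨g, hg⟩ := hx2
  obtain ⟨k, hk⟩ := he
  have hg0 : g = 0 := by
    apply hG
    refine ⟨k, fun b hb => ?_⟩
    apply hf.injective
    rw [map_smul, hg, smul_comm, hk b hb, smul_zero, map_zero]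
  apply hx0
  rw [← hg, hg0, map_zero]

section steps

variable {S : ShortComplex (ModuleCat.{u} A)} (hS : S.ShortExact)

include hS in
lemma isTorsFree_X₁ (h₂ : IsTorsFree J S.X₂) : IsTorsFree J S.X₁ := by
  intro m ⟨k, hk⟩
  have hinj : Function.Injective S.f.hom := (ModuleCat.mono_iff_injective S.f).1 hS.mono_f
  apply hinj
  rw [map_zero]
  apply h₂
  exact ⟨k, fun a ha => by rw [← map_smul, hk a ha, map_zero]⟩

include hS in
lemma subsingleton_H_X₂ [Injective S.X₂] (h₂ : IsTorsFree J S.X₂) (i : ℕ) :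
    Subsingleton ((localCohomology J i).obj S.X₂) := by
  rcases Nat.eq_zero_or_pos i with rfl | hi
  · exact subsingleton_H0 J _ h₂
  · exact subsingleton_of_injective J i S.X₂ hi

include hS in
lemma step1 [Injective S.X₂] (h₂ : IsTorsFree J S.X₂) (n : ℕ)
    (h : ∀ i : ℕ, i < n → Subsingleton ((localCohomology J i).obj S.X₃)) :
    ∀ i : ℕ, i < n + 1 → Subsingleton ((localCohomology J i).obj S.X₁) := by
  intro i hi
  rcases Nat.eq_zero_or_pos i with rfl | hpos
  · exact subsingleton_H0 J _ (isTorsFree_X₁ J hS h₂)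
  · obtain ⟨j, rfl⟩ : ∃ j, i = j + 1 := ⟨i - 1, by omega⟩
    refine subsingleton_of_forall_eq 0 (fun x₁ => ?_)
    have h0 : ((localCohomology J (j + 1)).map S.f).hom x₁ = 0 :=
      (subsingleton_H_X₂ J hS h₂ (j + 1)).elim _ _
    obtain ⟨x₃, rfl⟩ := exact₁ J j hS x₁ h0
    rw [(h j (by omega)).elim x₃ 0, map_zero]

include hS in
lemma step2 [Injective S.X₂] (h₂ : IsTorsFree J S.X₂) (n : ℕ)
    (h : ∀ i : ℕ, i < n + 1 → Subsingleton ((localCohomology J i).obj S.X₁)) :
    ∀ i : ℕ, i < n → Subsingleton ((localCohomology J i).obj S.X₃) := by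
  intro i hi
  refine subsingleton_of_forall_eq 0 (fun x₃ => ?_)
  have h0 : (δ J i hS).hom x₃ = 0 := (h (i + 1) (by omega)).elim _ _
  obtain ⟨x₂, rfl⟩ := exact₃ J i hS x₃ h0
  rw [(subsingleton_H_X₂ J hS h₂ i).elim x₂ 0, map_zero]

include hS in
lemma subsingleton_ext_X₂ [Injective S.X₂] (h₂ : IsTorsFree J S.X₂)
    (F : Type u) [AddCommGroup F] [Module A F] [Module.Finite A F]
    (hF : Module.support A F ⊆ PrimeSpectrum.zeroLocus (J : Set A)) (i : ℕ) :
    Subsingleton (Ext (ModuleCat.of A F) S.X₂ i) := by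
  rcases Nat.eq_zero_or_pos i with rfl | hi
  · exact subsingleton_ext_zero J F _ hF h₂
  · obtain ⟨j, rfl⟩ : ∃ j, i = j + 1 := ⟨i - 1, by omega⟩
    exact subsingleton_of_forall_eq 0 (fun e => Ext.eq_zero_of_injective e)

include hS in
lemma step3 [Injective S.X₂] (h₂ : IsTorsFree J S.X₂)
    (F : Type u) [AddCommGroup F] [Module A F] [Module.Finite A F]
    (hF : Module.support A F ⊆ PrimeSpectrum.zeroLocus (J : Set A)) (n : ℕ)
    (h : ∀ i : ℕ, i < n → Subsingleton (Ext (ModuleCat.of A F) S.X₃ i)) :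
    ∀ i : ℕ, i < n + 1 → Subsingleton (Ext (ModuleCat.of A F) S.X₁ i) := by
  intro i hi
  rcases Nat.eq_zero_or_pos i with rfl | hpos
  · exact subsingleton_ext_zero J F _ hF (isTorsFree_X₁ J hS h₂)
  · obtain ⟨j, rfl⟩ : ∃ j, i = j + 1 := ⟨i - 1, by omega⟩
    refine subsingleton_of_forall_eq 0 (fun x₁ => ?_)
    have h0 : x₁.comp (Ext.mk₀ S.f) (add_zero (j + 1)) = 0 :=
      (subsingleton_ext_X₂ J hS h₂ F hF (j + 1)).elim _ _
    obtain ⟨x₃, rfl⟩ := Ext.covariant_sequence_exact₁ (ModuleCat.of A F) hS x₁ h0 rfl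
    rw [(h j (by omega)).elim x₃ 0, Ext.zero_comp]

include hS in
lemma step4 [Injective S.X₂] (h₂ : IsTorsFree J S.X₂)
    (F : Type u) [AddCommGroup F] [Module A F] [Module.Finite A F]
    (hF : Module.support A F ⊆ PrimeSpectrum.zeroLocus (J : Set A)) (n : ℕ)
    (h : ∀ i : ℕ, i < n + 1 → Subsingleton (Ext (ModuleCat.of A F) S.X₁ i)) :
    ∀ i : ℕ, i < n → Subsingleton (Ext (ModuleCat.of A F) S.X₃ i) := by
  intro i hi
  refine subsingleton_of_forall_eq 0 (fun x₃ => ?_)
  have h0 : x₃.comp hS.extClass (rfl : i + 1 = i + 1) = 0 := (h (i + 1) (by omega)).elim _ _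
  obtain ⟨x₂, rfl⟩ := Ext.covariant_sequence_exact₃ (ModuleCat.of A F) hS x₃ rfl h0
  rw [(subsingleton_ext_X₂ J hS h₂ F hF i).elim x₂ 0, Ext.zero_comp]

end steps

/-- The short complex `0 → G → E → E/G → 0`. -/
noncomputable abbrev ses {G E : Type u} [AddCommGroup G] [Module A G] [AddCommGroup E] [Module A E]
    (f : G →ₗ[A] E) : ShortComplex (ModuleCat.{u} A) :=
  ModuleCat.shortComplexOfCompEqZero f (LinearMap.range f).mkQ (by
    ext x
    simp)

lemma ses_shortExact {G E : Type u} [AddCommGroup G] [Module A G] [AddCommGroup E] [Module A E]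
    (f : G →ₗ[A] E) (hf : Function.Injective f) : (ses f).ShortExact := by
  apply ModuleCat.shortComplex_shortExact
  · intro t
    show (LinearMap.range f).mkQ t = 0 ↔ t ∈ Set.range f
    rw [Submodule.mkQ_apply, Submodule.Quotient.mk_eq_zero]
    rfl
  · exact hf
  · exact Submodule.mkQ_surjective _

lemma support_quotient_ideal (I : Ideal A) :
    Module.support A (A ⧸ I) = PrimeSpectrum.zeroLocus (I : Set A) := by
  rw [Module.support_eq_zeroLocus, Ideal.annihilator_quotient]

lemma support_Q_subset (k : ℕ) :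
    Module.support A (A ⧸ J ^ k) ⊆ PrimeSpectrum.zeroLocus (J : Set A) := by
  rw [support_quotient_ideal]
  rcases Nat.eq_zero_or_pos k with rfl | hk
  · rw [pow_zero, Ideal.one_eq_top]
    intro p hp
    have h0 : PrimeSpectrum.zeroLocus ((⊤ : Ideal A) : Set A) = ∅ :=
      PrimeSpectrum.zeroLocus_empty_iff_eq_top.2 rfl
    rw [h0] at hp
    exact absurd hp (Set.notMem_empty p)
  · rw [PrimeSpectrum.zeroLocus_pow J hk.ne']

/-- Torsion-freeness from the vanishing of `Hom(F, G)` for one `F` with `Supp F = V(J)`. -/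
lemma isTorsFree_of_hom (F G : Type u) [AddCommGroup F] [Module A F] [Module.Finite A F]
    [AddCommGroup G] [Module A G]
    (hF : Module.support A F = PrimeSpectrum.zeroLocus (J : Set A))
    (h : Subsingleton (F →ₗ[A] G)) : IsTorsFree J G := by
  have hsub : Subsingleton (gam J G) := by
    apply Groth.Agent.S5163.result A F (gam J G)
    · intro p hp
      rw [hF]
      obtain ⟨t, ht⟩ := Module.mem_support_iff_exists_annihilator.1 hp
      obtain ⟨k, hk⟩ := t.2
      have h1 : J ^ k ≤ p.asIdeal := by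
        refine le_trans ?_ ht
        intro a ha
        rw [Submodule.mem_annihilator_span_singleton]
        exact Subtype.ext (hk a ha)
      exact (PrimeSpectrum.mem_zeroLocus _ _).2 (p.2.le_of_pow_le h1)
    · refine subsingleton_of_forall_eq 0 (fun φ => ?_)
      have := h.elim ((gam J G).subtype.comp φ) 0
      ext x
      have h2 := LinearMap.congr_fun this x
      exact h2
  intro m hm
  have := hsub.elim ⟨m, hm⟩ 0
  exact congrArg Subtype.val this

theorem PQ (n : ℕ) : ∀ (G : Type u) [AddCommGroup G] [Module A G],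
    (∀ i : ℕ, i < n → Subsingleton (LocCoh.H J i G)) →
    ∀ (F : Type u) [AddCommGroup F] [Module A F], Module.Finite A F →
      Module.support A F ⊆ PrimeSpectrum.zeroLocus (J : Set A) →
      ∀ i : ℕ, i < n → Subsingleton (Ext (ModuleCat.of A F) (ModuleCat.of A G) i) := by
  induction n with
  | zero => intro G _ _ _ F _ _ _ _ i hi; omega
  | succ n ih =>
    intro G _ _ hP F _ _ hFfin hF
    have hG : IsTorsFree J G :=
      isTorsFree_of_subsingleton_H0 J (ModuleCat.of A G) (hP 0 (by omega))
    obtain ⟨E, _, _, f, hf, hE, hEtf⟩ := exists_ses J G hG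
    have hS : (ses f).ShortExact := ses_shortExact f hf
    haveI : Injective (ses f).X₂ := Module.injective_object_of_injective_module A E
    have hP3 := step2 J hS hEtf n hP
    have hQ3 := ih (E ⧸ LinearMap.range f) hP3 F hFfin hF
    exact step3 J hS hEtf F hF n hQ3

theorem RP (n : ℕ) : ∀ (G : Type u) [AddCommGroup G] [Module A G]
    (F : Type u) [AddCommGroup F] [Module A F], Module.Finite A F →
    Module.support A F = PrimeSpectrum.zeroLocus (J : Set A) →
    (∀ i : ℕ, i < n → Subsingleton (Ext (ModuleCat.of A F) (ModuleCat.of A G) i)) →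
    ∀ i : ℕ, i < n → Subsingleton (LocCoh.H J i G) := by
  induction n with
  | zero => intro G _ _ F _ _ _ _ _ i hi; omega
  | succ n ih =>
    intro G _ _ F _ _ hFfin hF hR
    have hG : IsTorsFree J G := by
      apply isTorsFree_of_hom J F G hF
      have h0 := hR 0 (by omega)
      refine subsingleton_of_forall_eq 0 (fun φ => ?_)
      have := h0.elim (Ext.mk₀ (ModuleCat.ofHom φ)) 0
      rw [Ext.mk₀_eq_zero_iff] at this
      have h2 := congrArg ModuleCat.Hom.hom this
      exact h2
    obtain ⟨E, _, _, f, hf, hE, hEtf⟩ := exists_ses J G hG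
    have hS : (ses f).ShortExact := ses_shortExact f hf
    haveI : Injective (ses f).X₂ := Module.injective_object_of_injective_module A E
    have hR3 := step4 J hS hEtf F hF.le n hR
    have hP3 := ih (E ⧸ LinearMap.range f) F hFfin hF hR3
    exact step1 J hS hEtf n hP3

theorem QP (n : ℕ) (G : Type u) [AddCommGroup G] [Module A G]
    (hQ : ∀ (F : Type u) [AddCommGroup F] [Module A F], Module.Finite A F →
      Module.support A F ⊆ PrimeSpectrum.zeroLocus (J : Set A) →
      ∀ i : ℕ, i < n → Subsingleton (Ext (ModuleCat.of A F) (ModuleCat.of A G) i)) :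
    ∀ i : ℕ, i < n → Subsingleton (LocCoh.H J i G) := by
  intro i hi
  apply subsingleton_of_forall_ext
  intro k
  exact hQ (A ⧸ J ^ k) inferInstance (support_Q_subset J k) i hi


/-- The affine case. Let A be a Noetherian ring, J an ideal, G any A-module and n ≥ 0. Then: H^i_J(G) =
0 for all i < n iff Ext^i_A(F, G) = 0 for all i < n and all finite A-modules F with Supp F ⊆ V(J),
iff Ext^i_A(F, G) = 0 for all i < n for one finite F with Supp F = V(J). (G is not assumed finitely
generated.) -/
theorem result (A : Type u) [CommRing A] [IsNoetherianRing A] (J : Ideal A) (G : Type u) [AddCommGroup G] [Module A G] (n : ℕ) : ((∀ i : ℕ, i < n → Subsingleton (LocCoh.H J i G)) ↔ ∀ (F : Type u) [AddCommGroup F] [Module A F], Module.Finite A F → Module.support A F ⊆ PrimeSpectrum.zeroLocus (J : Set A) → ∀ i : ℕ, i < n → Subsingleton (Abelian.Ext (ModuleCat.of A F) (ModuleCat.of A G) i)) ∧ ((∀ i : ℕ, i < n → Subsingleton (LocCoh.H J i G)) ↔ ∃ (F : Type u) (_ : AddCommGroup F) (_ : Module A F), Module.Finite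 A F ∧ Module.support A F = PrimeSpectrum.zeroLocus (J : Set A) ∧ ∀ i : ℕ, i < n → Subsingleton (Abelian.Ext (ModuleCat.of A F) (ModuleCat.of A G) i)) := by
  refine ⟨⟨fun hP => PQ J n G hP, fun hQ => QP J n G hQ⟩, ⟨fun hP => ?_, ?_⟩⟩
  · refine ⟨A ⧸ J, inferInstance, inferInstance, inferInstance, support_quotient_ideal J, ?_⟩
    refine PQ J n G hP (A ⧸ J) inferInstance ?_
    rw [support_quotient_ideal]
  · rintro ⟨F, _, _, hFfin, hF, hR⟩
    exact RP J n G F hFfin hF hR

end Groth.Agent.S5162
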