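import Groth.Statements.S5164
import Groth.Agent.Lib.helper11.GorDualGlobal
import Groth.Agent.Lib.helper11.RelCodimOne
import Groth.Agent.Lib.Helper2.Caten

set_option autoImplicit false
universe u
open LocCoh

namespace Groth.Agent.S5164

/-- Affine form. Let A be a Noetherian ring which is a quotient of a regular ring, I an ideal, M a
finite A-module and i ≥ 0; c(p) denotes the codimension of V(p) ∩ V(I) in V(p). Then the hypothesis
of the finiteness criterion — H^{i−c(p)}_{pA_p}(M_p) = 0 for all primes p ⊉ I — is equivalent to its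
codimension-one case: H^{i−1}_{pA_p}(M_p) = 0 for all primes p ⊉ I with c(p) = 1. -/
theorem result (R : Type u) [CommRing R] [IsRegularRing R] (A : Type u) [CommRing A] [IsNoetherianRing A] (π : R →+* A) (hπ : Function.Surjective π) (I : Ideal A) (M : Type u) [AddCommGroup M] [Module A M] [Module.Finite A M] (i : ℕ) : (∀ p : PrimeSpectrum A, ¬ I ≤ p.asIdeal → ∀ (c j : ℕ), SGA2.relCodim I p = c → j + c = i → Subsingleton (LocCoh.H (IsLocalRing.maximalIdeal (Localization.AtPrime p.asIdeal)) j (LocalizedModule p.asIdeal.primeCompl M))) ↔ (∀ p : PrimeSpectrum A, ¬ I ≤ p.asIdeal → SGA2.relCodim I p = 1 → ∀ j : ℕ, j + 1 = i → Subsingleton (LocCoh.H (IsLocalRing.maximalIdeal (Localization.AtPrime p.asIdeal)) j (LocalizedModule p.asIdeal.primeCompl M))) := by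
  classical
  letI : Algebra R A := π.toAlgebra
  have hsurj : Function.Surjective (algebraMap R A) := hπ
  letI : Module R M := Module.compHom M π
  haveI : IsScalarTower R A M := IsScalarTower.of_algebraMap_smul (fun r m => rfl)
  haveI := Groth.Agent.Lib.helper11.GorDual.isGorensteinRing_of_isRegularRing R
  constructor
  · intro h p hp hc j hj
    exact h p hp 1 j (by rw [hc]; rfl) hj
  · intro h p hp c j hc hj
    obtain ⟨k, q', hpq', rfl, hIq', hq'1, hk⟩ :=
      Groth.Agent.Lib.helper11.RelCodimOne.exists_codim_one I p hp c hc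
    have hvan := h q' hIq' hq'1 (j + k) (by omega)
    haveI := p.isPrime
    haveI := q'.isPrime
    have hpq'' : p.asIdeal ≤ q'.asIdeal := hpq'
    obtain ⟨h0, hh0⟩ := ENat.ne_top_iff_exists.mp
      (Ideal.height_ne_top (Ideal.IsPrime.ne_top
        (Ideal.comap_isPrime (algebraMap R A) p.asIdeal)))
    have hker : RingHom.ker (algebraMap R A) ≤ p.asIdeal.comap (algebraMap R A) := by
      rw [RingHom.ker_eq_comap_bot]
      exact Ideal.comap_mono bot_le
    have h1 := Groth.Agent.Lib.Helper2.Falt.height_eq_of_surjective hsurj q'.asIdeal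
      (p.asIdeal.comap (algebraMap R A)) hker
    rw [Ideal.map_comap_of_surjective _ hsurj] at h1
    rw [sup_eq_left.2 hpq'', sup_eq_left.2 (Ideal.comap_mono hpq'')] at h1
    have h2 := Groth.Agent.Lib.Helper2.Caten.height_eq_add_relHt
      (p.asIdeal.comap (algebraMap R A)) (q'.asIdeal.comap (algebraMap R A))
      (Ideal.comap_mono hpq'')
    have h3 : Groth.Agent.Lib.Helper2.FinDim.relHt p.asIdeal q'.asIdeal = k := by
      rw [Groth.Agent.Lib.Helper2.FinDim.relHt_eq_orderHeight p.asIdeal q'.asIdeal hpq'']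
      exact hk
    have h4 : (q'.asIdeal.comap (algebraMap R A)).height = ((h0 + k : ℕ) : ℕ∞) := by
      rw [h2, ← hh0]
      unfold Groth.Agent.Lib.Helper2.FinDim.relHt at h3 ⊢
      rw [← h1, h3]
      push_cast
      rfl
    exact Groth.Agent.Lib.helper11.GorDual.subsingleton_H_of_specialization hsurj M
      p.asIdeal q'.asIdeal hpq'' h0 k hh0.symm h4 j hvan

end Groth.Agent.S5164
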