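import Groth.Statements.S5166
import Groth.Agent.Lib.Helper7.AffineChain

set_option autoImplicit false
universe u
open LocCoh

namespace Groth.Agent.S5166

/-- In its local form at a point y ∈ Y (A = O_{X,y}). Let A be a Noetherian local ring and I ≠ A an
ideal contained in no minimal prime of A. Then some prime p ⊉ I has dim A/p = 1. -/
theorem result (A : Type u) [CommRing A] [IsLocalRing A] [IsNoetherianRing A] (I : Ideal A) (hI : I ≠ ⊤) (hdense : ∀ q ∈ minimalPrimes A, ¬ I ≤ q) : ∃ p : PrimeSpectrum A, ¬ I ≤ p.asIdeal ∧ ringKrullDim (A ⧸ p.asIdeal) = 1 := by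
  classical
  -- a prime maximal among those not containing `I`
  obtain ⟨q0, hq0⟩ : ∃ q0, q0 ∈ minimalPrimes A := by
    obtain ⟨q, hq, -⟩ := Ideal.exists_minimalPrimes_le
      (bot_le : (⊥ : Ideal A) ≤ IsLocalRing.maximalIdeal A)
    exact ⟨q, hq⟩
  let S : Set (Ideal A) := {q | q.IsPrime ∧ ¬ I ≤ q}
  have hSne : S.Nonempty := ⟨q0, hq0.1.1, hdense q0 hq0⟩
  obtain ⟨p, hpS, hpmax⟩ := (IsWellFounded.wf (α := Ideal A) (r := (· > ·))).has_min S hSne
  haveI hpprime : p.IsPrime := hpS.1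
  have hmax : ∀ q : Ideal A, q.IsPrime → p < q → I ≤ q := by
    intro q hq hpq
    by_contra hIq
    exact hpmax q ⟨hq, hIq⟩ hpq
  refine ⟨⟨p, hpprime⟩, hpS.2, ?_⟩
  -- work in the local domain `B = A ⧸ p`
  set B := A ⧸ p with hB
  haveI : IsDomain B := Ideal.Quotient.isDomain p
  haveI : IsLocalRing B := IsLocalRing.of_surjective' (Ideal.Quotient.mk p) Ideal.Quotient.mk_surjective
  obtain ⟨i0, hi0I, hi0p⟩ := SetLike.not_le_iff_exists.1 hpS.2
  set x : B := Ideal.Quotient.mk p i0 with hx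
  have hx0 : x ≠ 0 := by
    rw [hx, Ne, Ideal.Quotient.eq_zero_iff_mem]
    exact hi0p
  -- every nonzero prime of `B` contains `x`
  have hxall : ∀ Q : Ideal B, Q.IsPrime → Q ≠ ⊥ → x ∈ Q := by
    intro Q hQ hQ0
    have hq : (Q.comap (Ideal.Quotient.mk p)).IsPrime := Ideal.IsPrime.comap _
    have hpq : p < Q.comap (Ideal.Quotient.mk p) := by
      refine lt_of_le_of_ne ?_ ?_
      · intro r hr
        rw [Ideal.mem_comap, Ideal.Quotient.eq_zero_iff_mem.2 hr]
        exact Q.zero_mem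
      · intro heq
        apply hQ0
        rw [eq_bot_iff]
        intro b hb
        obtain ⟨r, rfl⟩ := Ideal.Quotient.mk_surjective b
        have : r ∈ Q.comap (Ideal.Quotient.mk p) := hb
        rw [← heq] at this
        rw [Ideal.mem_bot, Ideal.Quotient.eq_zero_iff_mem]
        exact this
    exact hmax _ hq hpq hi0I
  have hxm : x ∈ IsLocalRing.maximalIdeal B := by
    rw [hx]
    have h1 : i0 ∈ IsLocalRing.maximalIdeal A := IsLocalRing.le_maximalIdeal hI hi0I
    intro hunit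
    obtain ⟨c, hc⟩ := hunit.exists_right_inv
    obtain ⟨c', rfl⟩ := Ideal.Quotient.mk_surjective c
    rw [← map_mul, ← map_one (Ideal.Quotient.mk p), Ideal.Quotient.eq] at hc
    have h2 : i0 * c' - 1 ∈ IsLocalRing.maximalIdeal A := IsLocalRing.le_maximalIdeal hpprime.ne_top hc
    have h3 : (1 : A) ∈ IsLocalRing.maximalIdeal A := by
      have := (IsLocalRing.maximalIdeal A).sub_mem ((IsLocalRing.maximalIdeal A).mul_mem_right c' h1) h2
      simpa using this
    exact (IsLocalRing.maximalIdeal.isMaximal A).ne_top ((Ideal.eq_top_iff_one _).2 h3)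
  have hmB0 : IsLocalRing.maximalIdeal B ≠ ⊥ := fun h => hx0 (by rw [h] at hxm; exact hxm)
  -- dimension of `B`
  have hdim : ringKrullDim B = ((IsLocalRing.maximalIdeal B).height : WithBot ℕ∞) :=
    (IsLocalRing.maximalIdeal_height_eq_ringKrullDim (R := B)).symm
  have hht1 : (1 : ℕ∞) ≤ (IsLocalRing.maximalIdeal B).height := by
    rw [Order.one_le_iff_pos, pos_iff_ne_zero, Ne, Ideal.height_eq_zero_iff,
      IsDomain.minimalPrimes_eq_singleton_bot, Set.mem_singleton_iff]
    exact hmB0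
  suffices hle : (IsLocalRing.maximalIdeal B).height ≤ 1 by
    rw [hdim, le_antisymm hle hht1]
    rfl
  by_contra hgt
  rw [not_le] at hgt
  -- minimal primes over `(x)`
  have hfin := Ideal.finite_minimalPrimes_of_isNoetherianRing B (Ideal.span {x})
  have havoid : ¬ ((IsLocalRing.maximalIdeal B : Set B) ⊆
      ⋃ Q ∈ (hfin.toFinset : Set (Ideal B)), (Q : Set B)) := by
    intro hsub
    obtain ⟨Q, hQ, hmQ⟩ := (Ideal.subset_union_prime (f := fun Q : Ideal B => Q) ⊥ ⊥
      (fun Q hQ _ _ => (hfin.mem_toFinset.1 hQ).1.1)).1 hsub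
    have hQmin := hfin.mem_toFinset.1 hQ
    haveI := hQmin.1.1
    have h1 : Q.height ≤ 1 :=
      Ideal.height_le_one_of_isPrincipal_of_mem_minimalPrimes (Ideal.span {x}) Q hQmin
    have h2 := Ideal.height_mono hmQ
    exact absurd (lt_of_lt_of_le hgt (h2.trans h1)) (lt_irrefl _)
  obtain ⟨y, hym, hyQ⟩ := Set.not_subset.1 havoid
  have hyne : Ideal.span {y} ≠ ⊤ := by
    intro h
    have : (1 : B) ∈ Ideal.span {y} := by rw [h]; trivial
    have h2 : Ideal.span {y} ≤ IsLocalRing.maximalIdeal B :=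
      (Ideal.span_singleton_le_iff_mem _).2 hym
    exact (IsLocalRing.maximalIdeal.isMaximal B).ne_top ((Ideal.eq_top_iff_one _).2 (h2 this))
  obtain ⟨Q, hQmin, -⟩ := Ideal.exists_minimalPrimes_le
    ((Ideal.span_singleton_le_iff_mem _).2 hym : Ideal.span {y} ≤ IsLocalRing.maximalIdeal B)
  haveI := hQmin.1.1
  have hyQ' : y ∈ Q := hQmin.1.2 (Ideal.mem_span_singleton_self y)
  have hQht : Q.height ≤ 1 :=
    Ideal.height_le_one_of_isPrincipal_of_mem_minimalPrimes (Ideal.span {y}) Q hQmin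
  have hQ0 : Q ≠ ⊥ := by
    intro h
    apply hyQ
    rw [h, Ideal.mem_bot] at hyQ'
    -- `y = 0` lies in every minimal prime over `(x)`, and there is one
    obtain ⟨Q1, hQ1, -⟩ := Ideal.exists_minimalPrimes_le
      ((Ideal.span_singleton_le_iff_mem _).2 hxm : Ideal.span {x} ≤ IsLocalRing.maximalIdeal B)
    simp only [Set.mem_iUnion]
    exact ⟨Q1, by simpa using hQ1, by rw [hyQ']; exact Q1.zero_mem⟩
  have hxQ := hxall Q hQmin.1.1 hQ0
  obtain ⟨Q1, hQ1, hQ1Q⟩ := Ideal.exists_minimalPrimes_le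
    ((Ideal.span_singleton_le_iff_mem _).2 hxQ : Ideal.span {x} ≤ Q)
  haveI := hQ1.1.1
  have hQ1eq : Q1 = Q := by
    by_contra hne
    have hlt : Q1 < Q := lt_of_le_of_ne hQ1Q hne
    have h1 : Q1.height < Q.height := Ideal.height_strict_mono_of_isPrime_of_isPrime hlt
    have h2 : Q1.height = 0 := by
      have : Q1.height < 1 := lt_of_lt_of_le h1 hQht
      exact Order.lt_one_iff.1 this
    rw [Ideal.height_eq_zero_iff, IsDomain.minimalPrimes_eq_singleton_bot,
      Set.mem_singleton_iff] at h2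
    have hxQ1 : x ∈ Q1 := hQ1.1.2 (Ideal.mem_span_singleton_self x)
    rw [h2, Ideal.mem_bot] at hxQ1
    exact hx0 hxQ1
  apply hyQ
  simp only [Set.mem_iUnion]
  exact ⟨Q1, by simpa using hQ1, by rw [hQ1eq]; exact hyQ'⟩

end Groth.Agent.S5166
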