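import Groth.Statements.S5167
import Groth.Agent.Lib.Helper2.GrothFin
import Groth.Agent.Lib.helper11.LCArtinian
import Groth.Agent.Lib.Helper5.SerreLoc
import Groth.Agent.Lib.helper19.RegularLocal

set_option autoImplicit false
universe u
open LocCoh

namespace Groth.Agent.S5167

/-- Let A be a Noetherian local ring which is a quotient of a regular local ring, m its maximal ideal, M
a finite A-module and n ≥ 0. Then H^i_m(M) is of finite length for all i ≤ n if and only if
depth(M_p) > n − dim(A/p) for every prime p ≠ m. -/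
theorem result (R : Type u) [CommRing R] [IsRegularLocalRing R] (A : Type u) [CommRing A] [IsLocalRing A] [IsNoetherianRing A] (π : R →+* A) (hπ : Function.Surjective π) (M : Type u) [AddCommGroup M] [Module A M] [Module.Finite A M] (n : ℕ) : (∀ i : ℕ, i ≤ n → IsFiniteLength A (LocCoh.H (IsLocalRing.maximalIdeal A) i M)) ↔ ∀ p : PrimeSpectrum A, p.asIdeal ≠ IsLocalRing.maximalIdeal A → ∀ e : ℕ, ringKrullDim (A ⧸ p.asIdeal) = e → (n : ℕ∞) < LocCoh.depth (Localization.AtPrime p.asIdeal) (LocalizedModule p.asIdeal.primeCompl M) + e := by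
  haveI : IsRegularRing R :=
    isRegularRing_iff.2 (fun p _ => Groth.Agent.Lib.Helper5.SerreLoc.localization_regular R p)
  have hfl : ∀ i : ℕ, IsFiniteLength A (LocCoh.H (IsLocalRing.maximalIdeal A) i M) ↔
      Module.Finite A (LocCoh.H (IsLocalRing.maximalIdeal A) i M) := by
    intro i
    rw [isFiniteLength_iff_isNoetherian_isArtinian]
    constructor
    · rintro ⟨h, -⟩
      exact Module.IsNoetherian.finite A _
    · intro h
      exact ⟨isNoetherian_of_isNoetherianRing_of_finite A _,
        Groth.Agent.Lib.helper11.LCKit.isArtinian_localCohomology i M⟩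
  have hGF := Groth.Agent.Lib.Helper2.GrothFin.finite_below_iff R A π hπ
    (IsLocalRing.maximalIdeal A) M n
  have hht : ∀ p : PrimeSpectrum A,
      ((((IsLocalRing.maximalIdeal A ⊔ p.asIdeal).map (Ideal.Quotient.mk p.asIdeal)).height : ℕ∞) :
        WithBot ℕ∞) = ringKrullDim (A ⧸ p.asIdeal) := by
    intro p
    haveI := p.isPrime
    haveI : IsLocalRing (A ⧸ p.asIdeal) :=
      Groth.Agent.Lib.helper19.isLocalRing_quotient p.asIdeal p.isPrime.ne_top
    have hmp : (IsLocalRing.maximalIdeal A ⊔ p.asIdeal) = IsLocalRing.maximalIdeal A :=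
      sup_eq_left.mpr (IsLocalRing.le_maximalIdeal p.isPrime.ne_top)
    rw [hmp, ← Groth.Agent.Lib.helper19.maximalIdeal_quotient,
      IsLocalRing.maximalIdeal_height_eq_ringKrullDim]
  have hne : ∀ p : PrimeSpectrum A, ¬ IsLocalRing.maximalIdeal A ≤ p.asIdeal ↔
      p.asIdeal ≠ IsLocalRing.maximalIdeal A := by
    intro p
    constructor
    · intro h he
      exact h he.ge
    · intro h hle
      exact h (le_antisymm (IsLocalRing.le_maximalIdeal p.isPrime.ne_top) hle)
  constructor
  · intro h p hp e he
    have h1 := hGF.1 (fun i hi => (hfl i).1 (h i hi)) p ((hne p).2 hp)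
    unfold LocCoh.adjDepth at h1
    have h2 := (hht p).trans he
    have h3 : ((IsLocalRing.maximalIdeal A ⊔ p.asIdeal).map (Ideal.Quotient.mk p.asIdeal)).height =
        (e : ℕ∞) := by exact_mod_cast h2
    rw [h3] at h1
    exact h1
  · intro h i hi
    refine (hfl i).2 (hGF.2 (fun p hp => ?_) i hi)
    unfold LocCoh.adjDepth
    by_cases htop : ((IsLocalRing.maximalIdeal A ⊔ p.asIdeal).map
        (Ideal.Quotient.mk p.asIdeal)).height = ⊤
    · rw [htop, add_top]
      exact ENat.coe_lt_top n
    · obtain ⟨e, he⟩ := ENat.ne_top_iff_exists.1 htop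
      have h2 : ringKrullDim (A ⧸ p.asIdeal) = e := by
        rw [← hht p, ← he]
        rfl
      have h1 := h p ((hne p).1 hp) e h2
      rw [← he]
      exact h1

end Groth.Agent.S5167
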