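import Groth.Statements.S5171
import Groth.Agent.S0318
import Groth.Agent.Lib.Helper21.DepthKit8
import Groth.Agent.Lib.helper11.LCLoc

set_option autoImplicit false
universe u
open LocCoh

namespace Groth.Agent.S5171

/-- Let A be a Noetherian ring, J an ideal, n ≥ 0 and G a finite Cohen–Macaulay A-module (each
localization G_p is zero or Cohen–Macaulay). Then H^i_J(G) = 0 for i < n if and only if codim(V(J) ∩
Supp G, Supp G) ≥ n, i.e. dim Supp(G_p) ≥ n for every p ∈ V(J) ∩ Supp G. -/
theorem result (A : Type u) [CommRing A] [IsNoetherianRing A] (J : Ideal A) (G : Type u) [AddCommGroup G] [Module A G] [Module.Finite A G] (hCM : ∀ p : PrimeSpectrum A, Subsingleton (LocalizedModule p.asIdeal.primeCompl G) ∨ LocCoh.IsCohenMacaulayModule (Localization.AtPrime p.asIdeal) (LocalizedModule p.asIdeal.primeCompl G)) (n : ℕ) : (∀ i : ℕ, i < n → Subsingleton (LocCoh.H J i G)) ↔ ∀ p : PrimeSpectrum A, J ≤ p.asIdeal → p ∈ Module.support A G → (n : WithBot ℕ∞) ≤ Module.supportDim (Localization.AtPrime p.asIdeal) (LocalizedModule p.asIdeal.primeCompl G) := by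
  open CategoryTheory Groth.Agent.Lib.helper11.LCKit Groth.Agent.Lib.Helper21.DepthKit in
  exact (by
  by_cases hJG : J • (⊤ : Submodule A G) = ⊤
  · -- degenerate case
    constructor
    · intro _ p hJp hp
      exact absurd hJG (smul_top_ne_top_of_mem_support J p hJp hp)
    · intro _ i _
      obtain ⟨r, hrJ, hr⟩ := Submodule.exists_mem_and_smul_eq_self_of_fg_of_le_smul J
        (⊤ : Submodule A G) Module.Finite.fg_top (by rw [hJG])
      apply subsingleton_of_leftInverse_smul J i (ModuleCat.of A G) r hrJ (𝟙 _)
      ext g
      exact hr g Submodule.mem_top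
  · obtain ⟨d, hd⟩ := exists_nat_idealDepth (A := A) J hJG (M := G)
    have hS := (Groth.Agent.S0318.result A J G hJG d).1 hd
    -- LHS ↔ n ≤ d
    have hL : (∀ i : ℕ, i < n → Subsingleton (LocCoh.H J i G)) ↔ n ≤ d := by
      constructor
      · intro h
        by_contra hlt
        rw [not_le] at hlt
        exact absurd (h d hlt) (not_subsingleton_iff_nontrivial.mpr hS.2)
      · intro h i hi
        exact hS.1 i (lt_of_lt_of_le hi h)
    rw [hL]
    have hinf := idealDepth_eq_iInf_depth_localization (A := A) J (M := G)
    rw [hd] at hinf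
    constructor
    · intro hnd p hJp hp
      have h1 : (d : ℕ∞) ≤ LocCoh.depth (Localization.AtPrime p.asIdeal)
          (LocalizedModule p.asIdeal.primeCompl G) := by
        rw [hinf]
        exact iInf₂_le p hJp
      rcases hCM p with hsub | hcm
      · exact absurd hsub (not_subsingleton_iff_nontrivial.mpr (Module.mem_support_iff.1 hp))
      · rw [hcm]
        have : ((n : ℕ∞)) ≤ LocCoh.depth (Localization.AtPrime p.asIdeal)
            (LocalizedModule p.asIdeal.primeCompl G) :=
          le_trans (by exact_mod_cast hnd) h1
        exact_mod_cast WithBot.coe_le_coe.2 this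
    · intro h
      have h2 : (n : ℕ∞) ≤ (d : ℕ∞) := by
        rw [hinf]
        refine le_iInf₂ (fun p hJp => ?_)
        rcases hCM p with hsub | hcm
        · haveI := hsub
          rw [depth_of_subsingleton]
          exact le_top
        · have hp : p ∈ Module.support A G := by
            rw [Module.mem_support_iff]
            by_contra hnt
            rw [not_nontrivial_iff_subsingleton] at hnt
            haveI := hnt
            have h3 : Module.supportDim (Localization.AtPrime p.asIdeal)
                (LocalizedModule p.asIdeal.primeCompl G) = ⊥ :=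
              Module.supportDim_eq_bot_of_subsingleton _ _
            rw [hcm] at h3
            exact WithBot.coe_ne_bot h3
          have h4 := h p hJp hp
          rw [hcm] at h4
          have h5 : ((n : ℕ∞) : WithBot ℕ∞) ≤ ((LocCoh.depth (Localization.AtPrime p.asIdeal)
              (LocalizedModule p.asIdeal.primeCompl G) : ℕ∞) : WithBot ℕ∞) := by
            exact_mod_cast h4
          exact WithBot.coe_le_coe.1 h5
      exact_mod_cast h2)

end Groth.Agent.S5171
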