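import Groth.Statements.S5172
import Groth.Agent.Lib.helper11.BassDepth

set_option autoImplicit false
universe u
open LocCoh

namespace Groth.Agent.S5172

section aux

variable {A : Type u} [CommRing A]

/-- height of `s/p` in `A/p` is the height of `s` in the poset of primes above `p` -/
theorem height_map_eq (p s : PrimeSpectrum A) (hps : p ≤ s) :
    (s.asIdeal.map (Ideal.Quotient.mk p.asIdeal)).height =
      Order.height (⟨s, hps⟩ : Set.Ici p) := by
  have hset : PrimeSpectrum.zeroLocus (p.asIdeal : Set A) = Set.Ici p := by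
    ext x
    rw [PrimeSpectrum.mem_zeroLocus, Set.mem_Ici]
    rfl
  let e1 := p.asIdeal.primeSpectrumQuotientOrderIsoZeroLocus
  let e2 := OrderIso.setCongr _ _ hset
  have hs : s ∈ PrimeSpectrum.zeroLocus (p.asIdeal : Set A) := by rw [hset]; exact hps
  have h1 : Order.height (e1.symm ⟨s, hs⟩) = Order.height (⟨s, hs⟩ :
      PrimeSpectrum.zeroLocus (p.asIdeal : Set A)) := Order.height_orderIso e1.symm _
  have h2 : Order.height (e2 ⟨s, hs⟩) = Order.height (⟨s, hs⟩ :
      PrimeSpectrum.zeroLocus (p.asIdeal : Set A)) := Order.height_orderIso e2 _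
  have h3 : e2 ⟨s, hs⟩ = (⟨s, hps⟩ : Set.Ici p) := rfl
  have h4 : (e1.symm ⟨s, hs⟩).asIdeal = s.asIdeal.map (Ideal.Quotient.mk p.asIdeal) := rfl
  rw [← h3, h2, ← h1, ← PrimeSpectrum.height_eq_orderHeight, h4]

/-- superadditivity of heights along `p ≤ p' ≤ q` -/
theorem height_add_le (p p' q : PrimeSpectrum A) (hpp' : p ≤ p') (hp'q : p' ≤ q) :
    Order.height (⟨p', hpp'⟩ : Set.Ici p) + Order.height (⟨q, hp'q⟩ : Set.Ici p') ≤
      Order.height (⟨q, hpp'.trans hp'q⟩ : Set.Ici p) := by
  let f : Set.Ici p' → Set.Ici p := fun x => ⟨x.1, hpp'.trans x.2⟩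
  have hf : StrictMono f := fun a b hab => hab
  have key : ∀ (c : LTSeries (Set.Ici p')), c.last = ⟨q, hp'q⟩ →
      Order.height (⟨p', hpp'⟩ : Set.Ici p) + (c.length : ℕ∞) ≤
        Order.height (⟨q, hpp'.trans hp'q⟩ : Set.Ici p) := by
    intro c hc
    have key : ∀ (i : ℕ) (hi : i < c.length + 1),
        Order.height (⟨p', hpp'⟩ : Set.Ici p) + (i : ℕ∞) ≤ Order.height (f (c ⟨i, hi⟩)) := by
      intro i
      induction i with
      | zero =>
        intro hi
        simp only [Nat.cast_zero, add_zero]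
        apply Order.height_mono
        exact (c ⟨0, hi⟩).2
      | succ j ih =>
        intro hi
        have h1 := ih (by omega)
        have hlt : f (c ⟨j, by omega⟩) < f (c ⟨j + 1, hi⟩) :=
          hf (c.strictMono (by simp [Fin.lt_def]))
        have h2 := Order.height_add_one_le hlt
        calc Order.height (⟨p', hpp'⟩ : Set.Ici p) + ((j + 1 : ℕ) : ℕ∞)
            = Order.height (⟨p', hpp'⟩ : Set.Ici p) + (j : ℕ∞) + 1 := by push_cast; ring
          _ ≤ Order.height (f (c ⟨j, by omega⟩)) + 1 := by gcongr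
          _ ≤ _ := h2
    have hlast := key c.length (by omega)
    have : f (c ⟨c.length, by omega⟩) = ⟨q, hpp'.trans hp'q⟩ := by
      have : c ⟨c.length, by omega⟩ = c.last := rfl
      rw [this, hc]
    rw [this] at hlast
    exact hlast
  by_cases hH : Order.height (⟨q, hpp'.trans hp'q⟩ : Set.Ici p) = ⊤
  · rw [hH]; exact le_top
  obtain ⟨H', hH'⟩ := ENat.ne_top_iff_exists.1 hH
  have hmono : Order.height (⟨p', hpp'⟩ : Set.Ici p) ≤
      Order.height (⟨q, hpp'.trans hp'q⟩ : Set.Ici p) := Order.height_mono hp'q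
  have hh : Order.height (⟨p', hpp'⟩ : Set.Ici p) ≠ ⊤ := by
    intro h
    rw [h, top_le_iff] at hmono
    exact hH hmono
  obtain ⟨h', hh'⟩ := ENat.ne_top_iff_exists.1 hh
  rw [← hH', ← hh'] at hmono ⊢
  have hle : h' ≤ H' := by exact_mod_cast hmono
  have h2 : Order.height (⟨q, hp'q⟩ : Set.Ici p') ≤ ((H' - h' : ℕ) : ℕ∞) := by
    apply Order.height_le
    intro c hc
    have := key c hc
    rw [← hH', ← hh'] at this
    have : h' + c.length ≤ H' := by exact_mod_cast this
    have : c.length ≤ H' - h' := by omega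
    exact_mod_cast this
  calc (h' : ℕ∞) + Order.height (⟨q, hp'q⟩ : Set.Ici p') ≤ (h' : ℕ∞) + ((H' - h' : ℕ) : ℕ∞) := by
        gcongr
    _ = (H' : ℕ∞) := by
        have : h' + (H' - h') = H' := by omega
        exact_mod_cast this

end aux

/-- Let A be a Noetherian ring which is a quotient of a regular ring, I an ideal, M a finite A-module
and n ≥ 0; c(p) = codim(V(p) ∩ V(I), V(p)). Then depth M_p > n − c(p) for all primes p ⊉ I if and
only if depth M_p ≥ n for all primes p ⊉ I with c(p) = 1. -/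
theorem result (R : Type u) [CommRing R] [IsRegularRing R] (A : Type u) [CommRing A] [IsNoetherianRing A] (π : R →+* A) (hπ : Function.Surjective π) (I : Ideal A) (M : Type u) [AddCommGroup M] [Module A M] [Module.Finite A M] (n : ℕ) : (∀ p : PrimeSpectrum A, ¬ I ≤ p.asIdeal → (n : ℕ∞) < LocCoh.depth (Localization.AtPrime p.asIdeal) (LocalizedModule p.asIdeal.primeCompl M) + SGA2.relCodim I p) ↔ (∀ p : PrimeSpectrum A, ¬ I ≤ p.asIdeal → SGA2.relCodim I p = 1 → (n : ℕ∞) ≤ LocCoh.depth (Localization.AtPrime p.asIdeal) (LocalizedModule p.asIdeal.primeCompl M)) := by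
  constructor
  · intro h p hIp hc
    have h1 := h p hIp
    rw [hc] at h1
    by_cases htop : LocCoh.depth (Localization.AtPrime p.asIdeal)
        (LocalizedModule p.asIdeal.primeCompl M) = ⊤
    · rw [htop]; exact le_top
    · obtain ⟨d, hd⟩ := ENat.ne_top_iff_exists.1 htop
      rw [← hd] at h1 ⊢
      have : n < d + 1 := by exact_mod_cast h1
      exact_mod_cast Nat.lt_succ_iff.1 this
  · intro h p hIp
    by_cases hctop : SGA2.relCodim I p = ⊤
    · rw [hctop, add_top]; exact ENat.coe_lt_top n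
    by_cases htop : LocCoh.depth (Localization.AtPrime p.asIdeal)
        (LocalizedModule p.asIdeal.primeCompl M) = ⊤
    · rw [htop, top_add]; exact ENat.coe_lt_top n
    obtain ⟨c', hc'⟩ := ENat.ne_top_iff_exists.1 hctop
    -- the index type is nonempty
    haveI hne : Nonempty {q : PrimeSpectrum A // p ≤ q ∧ I ≤ q.asIdeal} := by
      by_contra hempty
      rw [not_nonempty_iff] at hempty
      apply hctop
      unfold SGA2.relCodim
      exact iInf_of_empty _
    obtain ⟨⟨q, hpq, hIq⟩, hq⟩ := ENat.exists_eq_iInf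
      (fun q : {q : PrimeSpectrum A // p ≤ q ∧ I ≤ q.asIdeal} =>
        Order.height (⟨q.1, q.2.1⟩ : Set.Ici p))
    have hqc : Order.height (⟨q, hpq⟩ : Set.Ici p) = c' := by
      rw [hc']; exact hq
    -- c' ≥ 1
    have hc1 : 1 ≤ c' := by
      by_contra hlt
      have h0 : c' = 0 := by omega
      rw [h0] at hqc
      have hmin : IsMin (⟨q, hpq⟩ : Set.Ici p) := Order.height_eq_zero.1 (by exact_mod_cast hqc)
      have : (⟨q, hpq⟩ : Set.Ici p) ≤ ⟨p, Set.self_mem_Ici⟩ :=
        hmin (show (⟨p, Set.self_mem_Ici⟩ : Set.Ici p) ≤ ⟨q, hpq⟩ from hpq)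
      exact hIp (hIq.trans this)
    obtain ⟨ser, hlast, hlen⟩ := Order.exists_series_of_height_eq_coe (⟨q, hpq⟩ : Set.Ici p) hqc
    have hidx : c' - 1 < ser.length + 1 := by omega
    set p'' : Set.Ici p := ser ⟨c' - 1, hidx⟩ with hp''
    have hheight : Order.height p'' = ((c' - 1 : ℕ) : ℕ∞) := by
      have := Order.height_eq_index_of_length_eq_height_last (p := ser)
        (by rw [hlast, hqc, hlen]) ⟨c' - 1, hidx⟩
      exact this
    have hp''q : p'' < ⟨q, hpq⟩ := by
      rw [← hlast]
      apply ser.strictMono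
      rw [Fin.lt_def]
      simp only [Fin.val_last]
      omega
    obtain ⟨p', hpp'⟩ := p''
    have hp'q : p' ≤ q := hp''q.le
    -- p' does not contain I
    have hIp' : ¬ I ≤ p'.asIdeal := by
      intro hcon
      have hle : SGA2.relCodim I p ≤ Order.height (⟨p', hpp'⟩ : Set.Ici p) :=
        iInf_le (fun q : {q : PrimeSpectrum A // p ≤ q ∧ I ≤ q.asIdeal} =>
          Order.height (⟨q.1, q.2.1⟩ : Set.Ici p)) ⟨p', hpp', hcon⟩
      rw [hheight, ← hc'] at hle
      have : c' ≤ c' - 1 := by exact_mod_cast hle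
      omega
    -- relCodim I p' = 1
    have hrel : SGA2.relCodim I p' = 1 := by
      apply le_antisymm
      · have hle : SGA2.relCodim I p' ≤ Order.height (⟨q, hp'q⟩ : Set.Ici p') :=
          iInf_le (fun q : {q : PrimeSpectrum A // p' ≤ q ∧ I ≤ q.asIdeal} =>
            Order.height (⟨q.1, q.2.1⟩ : Set.Ici p')) ⟨q, hp'q, hIq⟩
        refine hle.trans ?_
        have hadd := height_add_le p p' q hpp' hp'q
        rw [hheight, hqc] at hadd
        by_contra hgt
        rw [not_le] at hgt
        have h2 : (2 : ℕ∞) ≤ Order.height (⟨q, hp'q⟩ : Set.Ici p') := by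
          have := Order.add_one_le_of_lt hgt
          exact_mod_cast this
        have : ((c' - 1 : ℕ) : ℕ∞) + 2 ≤ c' := (add_le_add_right h2 _).trans hadd
        have : (c' - 1) + 2 ≤ c' := by exact_mod_cast this
        omega
      · unfold SGA2.relCodim
        apply le_iInf
        rintro ⟨q', hp'q', hIq'⟩
        rw [Order.one_le_iff_pos, Order.height_pos]
        intro hmin
        have : (⟨q', hp'q'⟩ : Set.Ici p') ≤ ⟨p', Set.self_mem_Ici⟩ :=
          hmin (show (⟨p', Set.self_mem_Ici⟩ : Set.Ici p') ≤ ⟨q', hp'q'⟩ from hp'q')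
        exact hIp' (hIq'.trans this)
    have hn := h p' hIp' hrel
    haveI := p.isPrime
    haveI := p'.isPrime
    have hdl := Groth.Agent.Lib.helper11.BassDepth.depth_localization_le M p.asIdeal p'.asIdeal hpp'
    rw [height_map_eq p p' hpp', hheight] at hdl
    obtain ⟨d, hd⟩ := ENat.ne_top_iff_exists.1 htop
    rw [← hd] at hdl ⊢
    rw [← hc']
    have h3 : (n : ℕ∞) ≤ (d : ℕ∞) + ((c' - 1 : ℕ) : ℕ∞) := hn.trans hdl
    have h4 : n ≤ d + (c' - 1) := by exact_mod_cast h3
    have h5 : n < d + c' := by omega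
    exact_mod_cast h5

end Groth.Agent.S5172
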