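import Groth.Statements.S5175
-- import your own Groth.Agent.* helpers here
import Groth.Agent.S5155
import Groth.Agent.S0301
import Mathlib.Algebra.Category.ModuleCat.ChangeOfRings
import Mathlib.Algebra.Category.ModuleCat.Injective
import Mathlib.RingTheory.SimpleModule.InjectiveProjective
import Mathlib.CategoryTheory.Preadditive.Injective.Basic
import Mathlib.LinearAlgebra.Dual.Lemmas
import Mathlib.LinearAlgebra.FiniteDimensional.Lemmas
import Mathlib.Algebra.Algebra.Bilinear

set_option autoImplicit false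
universe u
open Matlis

namespace Groth.Agent.S5175

open CategoryTheory

theorem exists_mul_of_ne_zero {k₀ V : Type*} [Field k₀] [CommRing V] [Algebra k₀ V]
    [Module.Finite k₀ V] (hV : ∀ c : V, c ≠ 0 → ∃ d, c * d = 1)
    (l₁ : V →ₗ[k₀] k₀) (h₁ : l₁ ≠ 0) (l : V →ₗ[k₀] k₀) : ∃ c : V, ∀ x, l x = l₁ (c * x) := by
  let T : V →ₗ[k₀] Module.Dual k₀ V := (LinearMap.mul k₀ V).compr₂ l₁
  have hT : ∀ c x, T c x = l₁ (c * x) := fun c x => rfl
  have hinj : Function.Injective T := by
    rw [injective_iff_map_eq_zero]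
    intro c hc
    by_contra hc0
    obtain ⟨d, hd⟩ := hV c hc0
    apply h₁
    ext y
    have := LinearMap.congr_fun hc (d * y)
    rw [hT, ← mul_assoc, hd, one_mul] at this
    simpa using this
  have hsurj : Function.Surjective T :=
    (LinearMap.injective_iff_surjective_of_finrank_eq_finrank
      (Subspace.dual_finrank_eq (K := k₀) (V := V)).symm).mp hinj
  obtain ⟨c, hc⟩ := hsurj l
  exact ⟨c, fun x => by rw [← hT, hc]⟩

section Main

variable (k₀ : Type u) [Field k₀] (A : Type u) [CommRing A] [IsLocalRing A] [Algebra k₀ A]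

theorem injQ :
    Module.Injective A ((ModuleCat.coextendScalars (algebraMap k₀ A)).obj (ModuleCat.of k₀ k₀)) := by
  have : Module.Injective k₀ k₀ := Module.injective_of_isSemisimpleRing _ _
  have : Injective (ModuleCat.of k₀ k₀) := Module.injective_object_of_injective_module k₀ k₀
  have := Injective.injective_of_adjoint (ModuleCat.restrictCoextendScalarsAdj (algebraMap k₀ A))
    (ModuleCat.of k₀ k₀)
  exact Module.injective_module_of_injective_object A _

/-- the coextended module `Hom_{k₀}(A, k₀)` -/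
noncomputable abbrev Q : ModuleCat A := (ModuleCat.coextendScalars (algebraMap k₀ A)).obj (ModuleCat.of k₀ k₀)

/-- its power torsion part -/
noncomputable abbrev E : Submodule A (Q k₀ A) :=
  ⨆ n : ℕ, Submodule.torsionBySet A (Q k₀ A) ((IsLocalRing.maximalIdeal A ^ n : Ideal A) : Set A)

variable {k₀ A}

/-- evaluation -/
noncomputable def ev (φ : Q k₀ A) (a : A) : k₀ := ModuleCat.CoextendScalars.equiv (algebraMap k₀ A) _ φ a

theorem ev_add (φ ψ : Q k₀ A) (a : A) : ev (φ + ψ) a = ev φ a + ev ψ a := rfl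

theorem ev_zero (a : A) : ev (0 : Q k₀ A) a = 0 := rfl

theorem ev_smul (s : A) (φ : Q k₀ A) (a : A) : ev (s • φ) a = ev φ (a * s) := rfl

theorem ev_map_add (φ : Q k₀ A) (a b : A) : ev φ (a + b) = ev φ a + ev φ b :=
  (ModuleCat.CoextendScalars.equiv (algebraMap k₀ A) _ φ).map_add a b

theorem ev_map_smul (φ : Q k₀ A) (c : k₀) (a : A) : ev φ (c • a) = c * ev φ a := by
  have := (ModuleCat.CoextendScalars.equiv (algebraMap k₀ A) _ φ).map_smul c a
  rw [Algebra.smul_def]
  exact this

theorem ev_ext {φ ψ : Q k₀ A} (h : ∀ a, ev φ a = ev ψ a) : φ = ψ := by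
  apply ModuleCat.CoextendScalars.ext
  apply LinearMap.ext
  intro a
  exact h a

/-- the element of `Q` attached to a linear form on `A` -/
noncomputable def ofForm (l : A →ₗ[k₀] k₀) : Q k₀ A :=
  (ModuleCat.CoextendScalars.equiv (algebraMap k₀ A) (ModuleCat.of k₀ k₀)).symm
    { toFun := fun a => l a
      map_add' := fun a b => l.map_add a b
      map_smul' := fun c a => by
        let a' : A := a
        have h : l (c • a') = c • l a' := l.map_smul c a'
        rw [Algebra.smul_def] at h
        exact h }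

theorem ev_ofForm (l : A →ₗ[k₀] k₀) (a : A) : ev (ofForm l) a = l a := rfl

theorem res_eq_smul_one (a : A) :
    IsLocalRing.residue A a = a • (1 : IsLocalRing.ResidueField A) := by
  rw [Algebra.smul_def, mul_one]
  rfl

theorem linearMap_ext_one {M : Type*} [AddCommGroup M] [Module A M]
    {g g' : IsLocalRing.ResidueField A →ₗ[A] M} (h : g 1 = g' 1) : g = g' := by
  apply LinearMap.ext
  intro x
  obtain ⟨a, rfl⟩ := IsLocalRing.residue_surjective x
  rw [res_eq_smul_one, map_smul, map_smul, h]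

theorem smul_ofForm_eq_zero (l : (A ⧸ IsLocalRing.maximalIdeal A) →ₗ[k₀] k₀) (a : A)
    (ha : a ∈ IsLocalRing.maximalIdeal A) :
    a • ofForm (l ∘ₗ (Ideal.Quotient.mkₐ k₀ (IsLocalRing.maximalIdeal A)).toLinearMap) = 0 := by
  apply ev_ext
  intro x
  rw [ev_smul, ev_ofForm, ev_zero, LinearMap.comp_apply, AlgHom.toLinearMap_apply]
  have : Ideal.Quotient.mkₐ k₀ (IsLocalRing.maximalIdeal A) (x * a) = 0 :=
    Ideal.Quotient.eq_zero_iff_mem.mpr (Ideal.mul_mem_left _ _ ha)
  rw [this, map_zero]

/-- the element of `E` attached to a linear form on the residue field -/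
noncomputable def elemOf (l : (A ⧸ IsLocalRing.maximalIdeal A) →ₗ[k₀] k₀) : E k₀ A :=
  ⟨ofForm (l ∘ₗ (Ideal.Quotient.mkₐ k₀ (IsLocalRing.maximalIdeal A)).toLinearMap), by
    apply Submodule.mem_iSup_of_mem 1
    rw [Submodule.mem_torsionBySet_iff]
    rintro ⟨a, ha⟩
    rw [pow_one] at ha
    exact smul_ofForm_eq_zero l a ha⟩

theorem ev_elemOf (l : (A ⧸ IsLocalRing.maximalIdeal A) →ₗ[k₀] k₀) (a : A) :
    ev (elemOf l).1 a = l (Ideal.Quotient.mk _ a) := rfl

theorem ev_apply_one_of_mem (g : IsLocalRing.ResidueField A →ₗ[A] E k₀ A) (a : A)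
    (ha : a ∈ IsLocalRing.maximalIdeal A) : ev (g 1).1 a = 0 := by
  have h1 : a • g 1 = 0 := by
    rw [← map_smul, ← res_eq_smul_one, (IsLocalRing.residue_eq_zero_iff a).mpr ha, map_zero]
  have h2 : a • (g 1).1 = 0 := by
    rw [← Submodule.coe_smul, h1]; rfl
  have h3 : ev (a • (g 1).1) 1 = 0 := by rw [h2, ev_zero]
  rwa [ev_smul, one_mul] at h3

/-- the linear form on the residue field attached to a map `k → E` -/
noncomputable def formOf (g : IsLocalRing.ResidueField A →ₗ[A] E k₀ A) :
    (A ⧸ IsLocalRing.maximalIdeal A) →ₗ[k₀] k₀ :=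
  (Submodule.liftQ ((IsLocalRing.maximalIdeal A).restrictScalars k₀)
    ({ toFun := fun a => ev (g 1).1 a
       map_add' := ev_map_add _
       map_smul' := fun c a => by simpa using ev_map_smul (g 1).1 c a } : A →ₗ[k₀] k₀)
    (fun a ha => ev_apply_one_of_mem g a ha)).comp
  (Submodule.Quotient.restrictScalarsEquiv k₀ (IsLocalRing.maximalIdeal A)).symm.toLinearMap

theorem formOf_mk (g : IsLocalRing.ResidueField A →ₗ[A] E k₀ A) (a : A) :
    formOf g (Ideal.Quotient.mk _ a) = ev (g 1).1 a := by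
  change formOf g (Submodule.Quotient.mk a) = _
  rw [formOf, LinearMap.comp_apply, LinearEquiv.coe_coe,
    Submodule.Quotient.restrictScalarsEquiv_symm_mk, Submodule.liftQ_apply]
  rfl

theorem simple [Module.Finite k₀ (A ⧸ IsLocalRing.maximalIdeal A)] :
    IsSimpleModule A (IsLocalRing.ResidueField A →ₗ[A] E k₀ A) := by
  rw [isSimpleModule_iff_toSpanSingleton_surjective]
  have hV : ∀ c : A ⧸ IsLocalRing.maximalIdeal A, c ≠ 0 → ∃ d, c * d = 1 := by
    have hF : IsField (A ⧸ IsLocalRing.maximalIdeal A) :=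
      (Ideal.Quotient.maximal_ideal_iff_isField_quotient _).mp
        (IsLocalRing.maximalIdeal.isMaximal A)
    exact fun c hc => hF.mul_inv_cancel hc
  refine ⟨?_, ?_⟩
  · -- nontrivial
    have h1 : (1 : A ⧸ IsLocalRing.maximalIdeal A) ≠ 0 := one_ne_zero
    obtain ⟨l₀, hl₀⟩ : ∃ l₀ : Module.Dual k₀ (A ⧸ IsLocalRing.maximalIdeal A), l₀ 1 ≠ 0 := by
      by_contra hno
      push_neg at hno
      exact h1 ((Module.forall_dual_apply_eq_zero_iff k₀ _).mp hno)
    let g₀ : IsLocalRing.ResidueField A →ₗ[A] E k₀ A :=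
      Submodule.liftQ (IsLocalRing.maximalIdeal A) (LinearMap.toSpanSingleton A (E k₀ A) (elemOf l₀))
        (fun a ha => by
          rw [LinearMap.mem_ker, LinearMap.toSpanSingleton_apply]
          exact Subtype.ext (smul_ofForm_eq_zero l₀ a ha))
    refine ⟨⟨g₀, 0, ?_⟩⟩
    intro h0
    have h2 : g₀ 1 = elemOf l₀ := by
      change Submodule.liftQ _ _ _ (Submodule.Quotient.mk 1) = _
      rw [Submodule.liftQ_apply, LinearMap.toSpanSingleton_apply, one_smul]
    rw [h0, LinearMap.zero_apply] at h2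
    apply hl₀
    have h3 := ev_elemOf l₀ 1
    rw [← h2] at h3
    rw [map_one] at h3
    rw [← h3]
    rfl
  · intro g₁ hg₁ g
    have hl₁ : formOf g₁ ≠ 0 := by
      intro h0
      apply hg₁
      apply linearMap_ext_one
      rw [LinearMap.zero_apply]
      apply Subtype.ext
      apply ev_ext
      intro a
      rw [← formOf_mk, h0, LinearMap.zero_apply]
      rfl
    obtain ⟨c, hc⟩ := exists_mul_of_ne_zero hV (formOf g₁) hl₁ (formOf g)
    obtain ⟨a, rfl⟩ := Ideal.Quotient.mk_surjective c
    refine ⟨a, ?_⟩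
    rw [LinearMap.toSpanSingleton_apply]
    apply linearMap_ext_one
    rw [LinearMap.smul_apply]
    apply Subtype.ext
    apply ev_ext
    intro x
    rw [Submodule.coe_smul, ev_smul, ← formOf_mk, ← formOf_mk, hc, map_mul, mul_comm]

theorem powerTorsion : LocCoh.IsPowerTorsion (IsLocalRing.maximalIdeal A) (E k₀ A) := by
  intro x
  have hdir : Directed (· ≤ ·) (fun n : ℕ => Submodule.torsionBySet A (Q k₀ A)
      ((IsLocalRing.maximalIdeal A ^ n : Ideal A) : Set A)) := by
    apply Monotone.directed_le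
    intro n n' hnn' y hy
    rw [Submodule.mem_torsionBySet_iff] at hy ⊢
    rintro ⟨a, ha⟩
    exact hy ⟨a, Ideal.pow_le_pow_right hnn' ha⟩
  obtain ⟨n, hn⟩ := (Submodule.mem_iSup_of_directed _ hdir).mp x.2
  refine ⟨n, fun a ha => ?_⟩
  apply Subtype.ext
  rw [Submodule.mem_torsionBySet_iff] at hn
  exact hn ⟨a, ha⟩

end Main


/-- Let k₀ be a field and A a Noetherian local k₀-algebra with [k : k₀] finite, k the residue field.
Then the topological dual A' = colim_n Hom_{k₀}(A/m^n, k₀), i.e. the submodule of Hom_{k₀}(A, k₀) of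
forms killing some power of m (A acting through the source), is an injective hull of k (it is the
dualizing module of A). -/
theorem result (k₀ : Type u) [Field k₀] (A : Type u) [CommRing A] [IsLocalRing A] [IsNoetherianRing A] [Algebra k₀ A] [Module.Finite k₀ (A ⧸ IsLocalRing.maximalIdeal A)] : ∃ f : IsLocalRing.ResidueField A →ₗ[A] ↥(⨆ n : ℕ, Submodule.torsionBySet A ((ModuleCat.coextendScalars (algebraMap k₀ A)).obj (ModuleCat.of k₀ k₀)) ((IsLocalRing.maximalIdeal A ^ n : Ideal A) : Set A)), InjHull.IsInjectiveHull f := by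
  exact (Groth.Agent.S5155.result A (E k₀ A)).mpr
    ⟨Groth.Agent.S0301.result A (Q k₀ A) (injQ k₀ A) (IsLocalRing.maximalIdeal A),
      powerTorsion, simple⟩

end Groth.Agent.S5175
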