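import Groth.Statements.S5189
import Groth.Agent.Lib.Helper6.HomologyCmp
import Groth.Agent.S6658

set_option autoImplicit false
universe u
open CategoryTheory CategoryTheory.Limits AlgebraicGeometry Opposite
open EtDepth

namespace Groth.Agent.S5189

open CategoryTheory CategoryTheory.Limits AlgebraicGeometry Opposite in
open Groth.Agent.Lib.Helper23 in
/-- sections with support of an injective abelian etale sheaf form an injective sheaf (a retract of it) -/
lemma injective_secSupp {X U : Scheme.{u}} (j : U ⟶ X) [IsOpenImmersion j] (I : EtCoh.Ab X)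
    [Injective I] : Injective ((EtDual.secSupp j).obj I) := by
  haveI := Groth.Agent.S0651.isIso_counit_restrPush j
  obtain ⟨r, hr⟩ := UnitSplitEpi.exists_section_unit (EtShriek.extZeroAdj j) (EtRestr.restrPushAdj j)
      (fun M => Groth.Agent.S6658.mono_counit j M) (fun F => EtRecoll.isIso_restr_counit j F) I
  have h := Adjunction.unit_leftAdjointUniq_hom_app (EtCoh.pullPushAdj j)
    (EtRestr.restrPushAdj j) I
  have h2 : (EtCoh.pullPushAdj j).unit.app I = (EtRestr.restrPushAdj j).unit.app I ≫
      (EtCoh.push j).map ((EtRestr.pullIsoRestr j).inv.app I) := by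
    rw [← h, Category.assoc, ← Functor.map_comp]
    change _ = _ ≫ (EtCoh.push j).map ((EtRestr.pullIsoRestr j).hom.app I ≫
      (EtRestr.pullIsoRestr j).inv.app I)
    rw [Iso.hom_inv_id_app, CategoryTheory.Functor.map_id, Category.comp_id]
  -- a section of the unit of `pull ⊣ push`
  let r' : (EtCoh.push j).obj ((EtCoh.pull j).obj I) ⟶ I :=
    (EtCoh.push j).map ((EtRestr.pullIsoRestr j).hom.app I) ≫ r
  have hr' : r' ≫ EtDual.unitApp j I = 𝟙 _ := by
    show ((EtCoh.push j).map ((EtRestr.pullIsoRestr j).hom.app I) ≫ r) ≫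
      (EtCoh.pullPushAdj j).unit.app I = 𝟙 _
    rw [h2, Category.assoc, reassoc_of% hr, ← Functor.map_comp, Iso.hom_inv_id_app,
      CategoryTheory.Functor.map_id]
  -- the projection onto the kernel
  let p : I ⟶ I := 𝟙 I - EtDual.unitApp j I ≫ r'
  have hp : p ≫ EtDual.unitApp j I = 0 := by
    simp only [p, Preadditive.sub_comp, Category.id_comp, Category.assoc, hr', Category.comp_id, sub_self]
  let q : I ⟶ kernel (EtDual.unitApp j I) := kernel.lift _ p hp
  have hq : kernel.ι (EtDual.unitApp j I) ≫ q = 𝟙 _ := by
    rw [← cancel_mono (kernel.ι (EtDual.unitApp j I)), Category.assoc, kernel.lift_ι, Category.id_comp]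
    simp only [p, Preadditive.comp_sub, Category.comp_id, kernel.condition_assoc, zero_comp, sub_zero]
  exact (Retract.mk (kernel.ι (EtDual.unitApp j I)) q hq).injective

/-- For an abelian sheaf. Let X be a scheme, j : U → X an open immersion with closed complement Y, F an
abelian sheaf on the small étale site of X and n ≥ 0, and suppose the Y-étale depth of F is ≥ n (the
local cohomology sheaves H^p_Y(F) vanish for p < n). Then the edge homomorphism H^n_Y(X, F) → H^0(X,
H^n_Y(F)) of the spectral sequence of the composite functor Γ(X, −) ∘ Γ_Y, from the n-th local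
cohomology group to the group of global sections of the n-th local cohomology sheaf, is an
isomorphism. -/
theorem result {X U : Scheme.{u}} (j : U ⟶ X) [IsOpenImmersion j] [EtCoh.BCCont j] (F : EtCoh.Ab X) (n : ℕ) (h : EtDepth.DepthGE j F n) : IsIso (RDer.edgeOut (EtDual.secSupp j) (sheafToPresheaf X.smallEtaleTopology AddCommGrpCat.{u+1} ⋙ (evaluation X.Etaleᵒᵖ AddCommGrpCat.{u+1}).obj (op (EtCoh.top X))) n F) := by
  refine Groth.Agent.Lib.Helper6.HomologyCmp.isIso_edgeOut (EtDual.secSupp j) _ n F ?_ ?_
  · intro J hJ
    haveI := hJ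
    have hinj : Injective ((EtDual.secSupp j).obj J) := injective_secSupp j J
    intro a
    exact Functor.isZero_rightDerived_obj_injective_succ _ a _
  · intro i hi
    exact Groth.Agent.Lib.Helper6.HomologyCmp.acyc_of_isZero (h i hi)

end Groth.Agent.S5189
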