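import Groth.Statements.S5204
-- import your own Groth.Agent.* helpers here

set_option autoImplicit false
open CategoryTheory CategoryTheory.Limits
universe w v₁ u₁
open DescCat

namespace Groth.Agent.S5204

/-- In a category with pullbacks: if `u` and `v` are effective epimorphisms and `v` is a universal
epimorphism (all its base changes are epimorphisms), then the composite `v ≫ u` is an effective
epimorphism. -/
theorem result {C : Type u₁} [Category.{v₁} C] [HasPullbacks C]
    {U T S : C} (v : U ⟶ T) (u : T ⟶ S) [EffectiveEpi u] [EffectiveEpi v]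
    (hv : MorphismProperty.universally (MorphismProperty.epimorphisms C) v) :
    EffectiveEpi (v ≫ u) := by
  have hepi : ∀ {Z : C} (h : Z ⟶ T), Epi (pullback.fst h v) := fun h ↦
    hv (pullback.snd h v) h (pullback.fst h v) (IsPullback.of_hasPullback h v)
  have key : ∀ {W : C} (e : U ⟶ W),
      (∀ {Z : C} (g₁ g₂ : Z ⟶ U), g₁ ≫ v ≫ u = g₂ ≫ v ≫ u → g₁ ≫ e = g₂ ≫ e) →
      ∃ (h₀ : ∀ {Z : C} (g₁ g₂ : Z ⟶ U), g₁ ≫ v = g₂ ≫ v → g₁ ≫ e = g₂ ≫ e),
      ∀ {Z : C} (h₁ h₂ : Z ⟶ T), h₁ ≫ u = h₂ ≫ u →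
        h₁ ≫ EffectiveEpi.desc v e h₀ = h₂ ≫ EffectiveEpi.desc v e h₀ := by
    intro W e he
    have h₀ : ∀ {Z : C} (g₁ g₂ : Z ⟶ U), g₁ ≫ v = g₂ ≫ v → g₁ ≫ e = g₂ ≫ e := by
      intro Z g₁ g₂ hg
      apply he
      rw [← Category.assoc, hg, Category.assoc]
    refine ⟨h₀, ?_⟩
    intro Z h₁ h₂ hh
    have e1 : Epi (pullback.fst h₁ v) := hepi h₁
    have e2 : Epi (pullback.fst (pullback.fst h₁ v ≫ h₂) v) := hepi _
    have e3 : Epi (pullback.fst (pullback.fst h₁ v ≫ h₂) v ≫ pullback.fst h₁ v) := epi_comp _ _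
    rw [← cancel_epi (pullback.fst (pullback.fst h₁ v ≫ h₂) v ≫ pullback.fst h₁ v)]
    have c1 : (pullback.fst (pullback.fst h₁ v ≫ h₂) v ≫ pullback.fst h₁ v) ≫ h₁ =
        (pullback.fst (pullback.fst h₁ v ≫ h₂) v ≫ pullback.snd h₁ v) ≫ v := by
      rw [Category.assoc, Category.assoc, pullback.condition]
    have c2 : (pullback.fst (pullback.fst h₁ v ≫ h₂) v ≫ pullback.fst h₁ v) ≫ h₂ =
        pullback.snd (pullback.fst h₁ v ≫ h₂) v ≫ v := by
      rw [Category.assoc, pullback.condition]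
    rw [← Category.assoc, ← Category.assoc, c1, c2]
    simp only [Category.assoc, EffectiveEpi.fac]
    have := he (pullback.fst (pullback.fst h₁ v ≫ h₂) v ≫ pullback.snd h₁ v)
      (pullback.snd (pullback.fst h₁ v ≫ h₂) v) (by
        rw [← Category.assoc, ← Category.assoc, ← c1, ← c2]
        simp only [Category.assoc, hh])
    simpa only [Category.assoc] using this
  refine ⟨⟨{
    desc := fun {W} e he ↦ EffectiveEpi.desc u (EffectiveEpi.desc v e (key e he).1) (key e he).2
    fac := fun {W} e he ↦ by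
      rw [Category.assoc, EffectiveEpi.fac, EffectiveEpi.fac]
    uniq := fun {W} e he m hm ↦ by
      apply EffectiveEpi.uniq
      apply EffectiveEpi.uniq
      rw [← Category.assoc, hm] }⟩⟩

end Groth.Agent.S5204
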