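import Groth.Statements.S5207
import Groth.Agent.Lib.Helper16.UnivEffEpi
-- import your own Groth.Agent.* helpers here

set_option autoImplicit false
open CategoryTheory CategoryTheory.Limits
universe w v₁ u₁
open DescCat

namespace Groth.Agent.S5207

/-- In a category with pullbacks: being a universal effective epimorphism can be checked after base
change along a universal effective epimorphism `g : S' ⟶ S`. -/
theorem result {C : Type u₁} [Category.{v₁} C] [HasPullbacks C]
    {S' S T : C} (g : S' ⟶ S) (hg : (MorphismProperty.universally (fun (A B : C) (p : A ⟶ B) => EffectiveEpi p)) g) (u : T ⟶ S) :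
    (MorphismProperty.universally (fun (A B : C) (p : A ⟶ B) => EffectiveEpi p)) u ↔ (MorphismProperty.universally (fun (A B : C) (p : A ⟶ B) => EffectiveEpi p)) (pullback.snd u g) := by
  constructor
  · intro hu
    exact Groth.Agent.Lib.Helper16.UEE.snd u g hu
  · intro h
    have h1 := Groth.Agent.Lib.Helper16.UEE.comp h hg
    rw [← pullback.condition] at h1
    exact Groth.Agent.Lib.Helper16.UEE.of_comp _ _ h1

end Groth.Agent.S5207
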