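import Groth.Statements.S5211
import Groth.Agent.Lib.Helper16.UnivEffEpiDescent
-- import your own Groth.Agent.* helpers here

set_option autoImplicit false
open CategoryTheory CategoryTheory.Limits
universe w v₁ u₁
open DescCat

namespace Groth.Agent.S5211

/-- In a category with pullbacks: if `f : S' ⟶ S` is a universal effective epimorphism and the canonical
map `S' ×_S S' ⟶ S' ×_T S'` induced by `g : S ⟶ T` is an isomorphism, then `g` is a monomorphism. -/
theorem result {C : Type u₁} [Category.{v₁} C] [HasPullbacks C]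
    {S' S T : C} (f : S' ⟶ S) (hf : (MorphismProperty.universally (fun (A B : C) (p : A ⟶ B) => EffectiveEpi p)) f) (g : S ⟶ T)
    [IsIso (pullback.mapDesc f f g)] : Mono g := by
  constructor
  intro Z a b hab
  obtain ⟨Z', π, k₁, k₂, hπ, hk₁, hk₂⟩ := Groth.Agent.Lib.Helper16.exists_epi_lifts f hf a b
  have hk : k₁ ≫ f ≫ g = k₂ ≫ f ≫ g := by
    rw [reassoc_of% hk₁, reassoc_of% hk₂, hab]
  let l : Z' ⟶ pullback (f ≫ g) (f ≫ g) := pullback.lift k₁ k₂ hk
  let l' : Z' ⟶ pullback f f := l ≫ inv (pullback.mapDesc f f g)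
  have e1 : pullback.mapDesc f f g ≫ pullback.fst (f ≫ g) (f ≫ g) = pullback.fst f f := by
    refine (pullback.lift_fst _ _ _).trans (Category.comp_id _)
  have e2 : pullback.mapDesc f f g ≫ pullback.snd (f ≫ g) (f ≫ g) = pullback.snd f f := by
    refine (pullback.lift_snd _ _ _).trans (Category.comp_id _)
  have h1 : l' ≫ pullback.fst f f = k₁ := by
    rw [← e1, Category.assoc, IsIso.inv_hom_id_assoc]
    exact pullback.lift_fst _ _ _
  have h2 : l' ≫ pullback.snd f f = k₂ := by
    rw [← e2, Category.assoc, IsIso.inv_hom_id_assoc]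
    exact pullback.lift_snd _ _ _
  have h3 : k₁ ≫ f = k₂ ≫ f := by
    have := congrArg (l' ≫ ·) (pullback.condition (f := f) (g := f))
    simp only [← Category.assoc] at this
    rwa [h1, h2] at this
  rw [hk₁, hk₂] at h3
  exact (cancel_epi π).1 h3

end Groth.Agent.S5211
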