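import Groth.Statements.S5212
import Mathlib.LinearAlgebra.Charpoly.BaseChange
import Mathlib.RingTheory.Ideal.GoingUp
-- import your own Groth.Agent.* helpers here

set_option autoImplicit false
universe u
open GrpQ

namespace Groth.Agent.S5212

open Polynomial in
theorem algebraMap_norm_mem_span {A A' : Type u} [CommRing A] [CommRing A'] [Algebra A A']
    [Module.Free A A'] [Module.Finite A A'] (a : A') :
    algebraMap A A' (Algebra.norm A a) ∈ Ideal.span {a} := by
  set P := (Algebra.lmul A A' a).charpoly with hP
  have h0 : aeval a P = 0 := by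
    have h1 := LinearMap.aeval_self_charpoly (Algebra.lmul A A' a)
    rw [← hP, Polynomial.aeval_algHom_apply] at h1
    have h2 := congrArg (fun f : Module.End A A' => f 1) h1
    simpa using h2
  have h3 : a ∣ aeval a P - algebraMap A A' (P.coeff 0) := by
    have := map_dvd (aeval a) (X_dvd_sub_C (p := P))
    simpa using this
  rw [h0, zero_sub, dvd_neg] at h3
  rw [Algebra.norm_apply, LinearMap.det_eq_sign_charpoly_coeff, ← hP, map_mul]
  exact Ideal.mul_mem_left _ _ (Ideal.mem_span_singleton.2 h3)

/-- For `A'` finite and free as an `A`-module, a prime `p` of `A` and `a ∈ A'`, the element `a` belongs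
to some prime of `A'` lying over `p` if and only if its norm belongs to `p`. (The published
statement allows `A'` projective of constant rank over `A`; this row takes `A'` free, where the norm
is the determinant of multiplication.) -/
theorem result {A A' : Type u} [CommRing A] [CommRing A'] [Algebra A A']
    [Module.Free A A'] [Module.Finite A A'] (p : Ideal A) [p.IsPrime] (a : A') :
    (∃ q : Ideal A', q.IsPrime ∧ q.LiesOver p ∧ a ∈ q) ↔ Algebra.norm A a ∈ p := by
  constructor
  · rintro ⟨q, hq, hqp, haq⟩
    have h := algebraMap_norm_mem_span (A := A) a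
    have h2 : algebraMap A A' (Algebra.norm A a) ∈ q :=
      (Ideal.span_singleton_le_iff_mem (I := q)).2 haq h
    rw [hqp.over]
    exact h2
  · intro hN
    have hIP : (Ideal.span {a}).comap (algebraMap A A') ≤ p := by
      intro r hr
      rw [Ideal.mem_comap, Ideal.mem_span_singleton'] at hr
      obtain ⟨c, hc⟩ := hr
      have h1 := congrArg (Algebra.norm A) hc
      rw [map_mul, Algebra.norm_algebraMap] at h1
      have h2 : r ^ Module.finrank A A' ∈ p := by
        rw [← h1]
        exact Ideal.mul_mem_left _ _ hN
      exact Ideal.IsPrime.mem_of_pow_mem inferInstance _ h2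
    obtain ⟨Q, hQ, hQp, hQc⟩ := Ideal.exists_ideal_over_prime_of_isIntegral p (Ideal.span {a}) hIP
    exact ⟨Q, hQp, ⟨hQc.symm⟩, hQ (Ideal.mem_span_singleton_self a)⟩

end Groth.Agent.S5212
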