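import Groth.Statements.S5214
import Groth.Agent.Lib.Helper16.UnivEffEpi
-- import your own Groth.Agent.* helpers here

set_option autoImplicit false
open CategoryTheory CategoryTheory.Limits
universe w v₁ u₁
open DescCat

namespace Groth.Agent.S5214

set_option backward.isDefEq.respectTransparency false in
theorem isPullback_prod_snd {C : Type u₁} [Category.{v₁} C] [HasBinaryProducts C]
    (Y : C) {X' Y' : C} (u' : X' ⟶ Y') :
    IsPullback (prod.map (𝟙 Y) u') prod.snd prod.snd u' := by
  refine IsPullback.mk' (prod.map_snd _ _) ?_ ?_
  · intro T φ φ' h1 h2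
    apply Limits.prod.hom_ext
    · have := congrArg (· ≫ prod.fst) h1
      simpa using this
    · exact h2
  · intro T a b hab
    refine ⟨prod.lift (a ≫ prod.fst) b, ?_, ?_⟩
    · apply Limits.prod.hom_ext
      · simp
      · simp [hab]
    · simp

/-- In a category with pullbacks and binary products: the product `u × u'` of two universal effective
epimorphisms (morphisms all of whose base changes are effective epimorphisms) is a universal
effective epimorphism. -/
theorem result {C : Type u₁} [Category.{v₁} C] [HasPullbacks C] [HasBinaryProducts C]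
    {X Y X' Y' : C} (u : X ⟶ Y) (u' : X' ⟶ Y')
    (hu : (MorphismProperty.universally (fun (A B : C) (p : A ⟶ B) => EffectiveEpi p)) u) (hu' : (MorphismProperty.universally (fun (A B : C) (p : A ⟶ B) => EffectiveEpi p)) u') :
    (MorphismProperty.universally (fun (A B : C) (p : A ⟶ B) => EffectiveEpi p)) (prod.map u u') := by
  have h1 : Groth.Agent.Lib.Helper16.UEE (prod.map u (𝟙 X')) :=
    Groth.Agent.Lib.Helper16.UEE.of_isPullback (IsPullback.of_prod_fst_with_id u X').flip hu
  have h2 : Groth.Agent.Lib.Helper16.UEE (prod.map (𝟙 Y) u') :=
    Groth.Agent.Lib.Helper16.UEE.of_isPullback (isPullback_prod_snd Y u') hu'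
  have := Groth.Agent.Lib.Helper16.UEE.comp h1 h2
  rwa [prod.map_map, Category.comp_id, Category.id_comp] at this

end Groth.Agent.S5214
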