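import Groth.Statements.S5215
import Groth.Agent.Lib.Helper16.UnivEffEpi
-- import your own Groth.Agent.* helpers here

set_option autoImplicit false
open CategoryTheory CategoryTheory.Limits
universe w v₁ u₁
open DescCat

namespace Groth.Agent.S5215

/-- In a category with pullbacks: for a universally effective equivalence relation `p₁, p₂ : R ⇉ X` with
quotient map `π : X ⟶ X/R` and a morphism `g` out of the quotient, `g` is a monomorphism if and only
if `R` is the kernel pair of `π ≫ g`. -/
theorem result {C : Type u₁} [Category.{v₁} C] [HasPullbacks C]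
    {R X Z : C} {p₁ p₂ : R ⟶ X} (e : UniversallyEffectiveEquivalenceRelation p₁ p₂)
    (f : X ⟶ Z) (g : e.B ⟶ Z) (hg : e.π ≫ g = f) :
    Mono g ↔ IsKernelPair f p₁ p₂ := by
  constructor
  · intro hmono
    rw [← hg]
    exact e.isKernelPair.comp_of_mono
  · intro hk
    constructor
    intro W a b hab
    obtain ⟨W', π', k₁, k₂, hπ', hk₁, hk₂⟩ :=
      Groth.Agent.Lib.Helper16.exists_epi_lifts e.π e.universally_effectiveEpi_π a b
    have hkf : k₁ ≫ f = k₂ ≫ f := by
      rw [← hg, reassoc_of% hk₁, reassoc_of% hk₂, hab]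
    have h1 : hk.lift k₁ k₂ hkf ≫ p₁ = k₁ := hk.lift_fst _ _ _
    have h2 : hk.lift k₁ k₂ hkf ≫ p₂ = k₂ := hk.lift_snd _ _ _
    have h3 : k₁ ≫ e.π = k₂ ≫ e.π := by
      have := congrArg (hk.lift k₁ k₂ hkf ≫ ·) e.isKernelPair.w
      simp only [← Category.assoc] at this
      rwa [h1, h2] at this
    rw [hk₁, hk₂] at h3
    exact (cancel_epi π').1 h3

end Groth.Agent.S5215
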