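import Groth.Statements.S5221
import Groth.Agent.S5220

set_option autoImplicit false
open CategoryTheory CategoryTheory.Limits
universe w v₁ u₁
open GrpQ

namespace Groth.Agent.S5221

/-- Existence part: in a category with pullbacks: with `d₀ d₁ : X₁ ⇉ X₀` admitting a common section and
`f₀ : Y₀ ⟶ X₀` an effective and universal epimorphism, the pair `(d₀, d₁)` has a coequalizer if and
only if its inverse-image pair on `Y₀` has one. -/
theorem result {C : Type u₁} [Category.{v₁} C] [HasPullbacks C]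
    {X₁ X₀ Y₀ : C} (d₀ d₁ : X₁ ⟶ X₀) (s : X₀ ⟶ X₁) (hs₀ : s ≫ d₀ = 𝟙 X₀) (hs₁ : s ≫ d₁ = 𝟙 X₀)
    (f₀ : Y₀ ⟶ X₀) [EffectiveEpi f₀]
    (hf : MorphismProperty.universally (MorphismProperty.epimorphisms C) f₀) :
    HasCoequalizer d₁ d₀ ↔
      HasCoequalizer (pullback.fst (pullback.snd f₀ d₁ ≫ d₀) f₀ ≫ pullback.fst f₀ d₁)
        (pullback.snd (pullback.snd f₀ d₁ ≫ d₀) f₀) := by
  have hq1 : (pullback.fst (pullback.snd f₀ d₁ ≫ d₀) f₀ ≫ pullback.fst f₀ d₁) ≫ f₀ =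
      (pullback.fst (pullback.snd f₀ d₁ ≫ d₀) f₀ ≫ pullback.snd f₀ d₁) ≫ d₁ := by
    rw [Category.assoc, Category.assoc, pullback.condition]
  have hq0 : pullback.snd (pullback.snd f₀ d₁ ≫ d₀) f₀ ≫ f₀ =
      (pullback.fst (pullback.snd f₀ d₁ ≫ d₀) f₀ ≫ pullback.snd f₀ d₁) ≫ d₀ := by
    rw [Category.assoc, ← pullback.condition]
  have hcoeq : ∀ {T : C} (h : X₀ ⟶ T), d₁ ≫ h = d₀ ≫ h →
      (pullback.fst (pullback.snd f₀ d₁ ≫ d₀) f₀ ≫ pullback.fst f₀ d₁) ≫ f₀ ≫ h =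
        pullback.snd (pullback.snd f₀ d₁ ≫ d₀) f₀ ≫ f₀ ≫ h := by
    intro T h hh
    have h1 := congrArg (fun φ => φ ≫ h) hq1
    have h0 := congrArg (fun φ => φ ≫ h) hq0
    simp only [Category.assoc] at h1 h0 ⊢
    rw [h1, h0, hh]
  constructor
  · intro H
    have hπ : d₁ ≫ coequalizer.π d₁ d₀ = d₀ ≫ coequalizer.π d₁ d₀ := coequalizer.condition d₁ d₀
    let t : Cofork (pullback.fst (pullback.snd f₀ d₁ ≫ d₀) f₀ ≫ pullback.fst f₀ d₁)
        (pullback.snd (pullback.snd f₀ d₁ ≫ d₀) f₀) :=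
      Cofork.ofπ (f₀ ≫ coequalizer.π d₁ d₀) (hcoeq _ hπ)
    have key : ∀ c : Cofork (pullback.fst (pullback.snd f₀ d₁ ≫ d₀) f₀ ≫ pullback.fst f₀ d₁)
        (pullback.snd (pullback.snd f₀ d₁ ≫ d₀) f₀),
        ∃! h : X₀ ⟶ c.pt, d₁ ≫ h = d₀ ≫ h ∧ f₀ ≫ h = c.π :=
      fun c => Groth.Agent.S5220.result d₀ d₁ s hs₀ hs₁ f₀ hf c.π c.condition
    refine ⟨⟨⟨t, Cofork.IsColimit.mk t
      (fun c => coequalizer.desc (key c).choose (key c).choose_spec.1.1) ?_ ?_⟩⟩⟩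
    · intro c
      change (f₀ ≫ coequalizer.π d₁ d₀) ≫ _ = _
      rw [Category.assoc, coequalizer.π_desc]
      exact (key c).choose_spec.1.2
    · intro c m hm
      change (f₀ ≫ coequalizer.π d₁ d₀) ≫ m = _ at hm
      rw [← cancel_epi (coequalizer.π d₁ d₀), coequalizer.π_desc]
      apply (key c).choose_spec.2
      refine ⟨?_, ?_⟩
      · rw [reassoc_of% hπ]
      · rw [← hm, Category.assoc]
  · intro H
    have hρ := coequalizer.condition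
      (pullback.fst (pullback.snd f₀ d₁ ≫ d₀) f₀ ≫ pullback.fst f₀ d₁)
      (pullback.snd (pullback.snd f₀ d₁ ≫ d₀) f₀)
    obtain ⟨π, ⟨hπ1, hπ2⟩, -⟩ := Groth.Agent.S5220.result d₀ d₁ s hs₀ hs₁ f₀ hf _ hρ
    have : Epi f₀ := inferInstance
    refine ⟨⟨⟨Cofork.ofπ π hπ1, Cofork.IsColimit.mk _
      (fun c => coequalizer.desc (f₀ ≫ c.π) (hcoeq c.π c.condition)) ?_ ?_⟩⟩⟩
    · intro c
      change π ≫ _ = _
      rw [← cancel_epi f₀, ← Category.assoc, hπ2, coequalizer.π_desc]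
    · intro c m hm
      change π ≫ m = _ at hm
      rw [← cancel_epi (coequalizer.π
        (pullback.fst (pullback.snd f₀ d₁ ≫ d₀) f₀ ≫ pullback.fst f₀ d₁)
        (pullback.snd (pullback.snd f₀ d₁ ≫ d₀) f₀)), coequalizer.π_desc, ← hm, ← Category.assoc,
        hπ2]

end Groth.Agent.S5221
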