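import Groth.Statements.S5222
import Mathlib.CategoryTheory.Monoidal.Cartesian.Grp
-- import your own Groth.Agent.* helpers here

set_option autoImplicit false
open CategoryTheory CategoryTheory.Limits MonoidalCategory
universe v₁ u₁
open DescCat

namespace Groth.Agent.S5222

open MonObj CartesianMonoidalCategory SemiCartesianMonoidalCategory in
/-- In a cartesian monoidal category with pullbacks: for a homomorphism `f : G ⟶ G'` of group objects
with kernel `K = G ×_{G'} e`, the pair `G × K ⇉ G` given by the projection and by multiplication is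
the kernel pair of `f`. -/
theorem result {C : Type u₁} [Category.{v₁} C]
    [CartesianMonoidalCategory C] [HasPullbacks C]
    {G G' : C} [GrpObj G] [GrpObj G'] (f : G ⟶ G') [IsMonHom f] :
    IsKernelPair f (fst G (pullback f η[G']))
      ((G ◁ pullback.fst f η[G']) ≫ μ[G]) := by
  have hk : pullback.fst f η[G'] ≫ f = 1 := by
    rw [pullback.condition, Hom.one_def]
    congr 1
    exact toUnit_unique _ _
  have hm : (G ◁ pullback.fst f η[G']) ≫ μ[G] =
      fst G (pullback f η[G']) * (snd G (pullback f η[G']) ≫ pullback.fst f η[G']) := by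
    rw [MonObj.mul_eq_mul, MonObj.comp_mul, whiskerLeft_fst, whiskerLeft_snd]
  rw [hm]
  have w : fst G (pullback f η[G']) ≫ f =
      (fst G (pullback f η[G']) * (snd G (pullback f η[G']) ≫ pullback.fst f η[G'])) ≫ f := by
    rw [MonObj.mul_comp, Category.assoc, hk, MonObj.comp_one, _root_.mul_one]
  have hκ : ∀ {T : C} (a b : T ⟶ G), a ≫ f = b ≫ f → (a⁻¹ * b) ≫ f = toUnit T ≫ η[G'] := by
    intro T a b hab
    rw [MonObj.mul_comp, GrpObj.inv_comp, hab, _root_.inv_mul_cancel, Hom.one_def]
  refine ⟨⟨w⟩, ⟨PullbackCone.IsLimit.mk w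
    (fun s => lift s.fst (pullback.lift (s.fst⁻¹ * s.snd) (toUnit _) (hκ _ _ s.condition)))
    ?_ ?_ ?_⟩⟩
  · intro s
    rw [lift_fst]
  · intro s
    rw [MonObj.comp_mul, lift_fst, lift_snd_assoc, pullback.lift_fst, _root_.mul_inv_cancel_left]
  · intro s m hm1 hm2
    apply CartesianMonoidalCategory.hom_ext
    · rw [lift_fst, hm1]
    · rw [lift_snd]
      apply pullback.hom_ext
      · rw [pullback.lift_fst, ← hm1, ← hm2, MonObj.comp_mul, _root_.inv_mul_cancel_left, Category.assoc]
      · exact toUnit_unique _ _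

end Groth.Agent.S5222
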