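import Groth.Statements.S5223
import Groth.Agent.Lib.Helper17.FibreStalk
import Groth.Agent.Lib.Helper17.FlatTensor
import Mathlib
set_option backward.isDefEq.respectTransparency.types false

set_option autoImplicit false
open CategoryTheory CategoryTheory.Limits AlgebraicGeometry
universe u
open GrpQ

namespace Groth.Agent.S5223
open TensorProduct

/-- `C → B → A` with `A` faithfully flat over `B` and flat over `C`: then `B` is flat over `C`. -/
theorem flat_of_faithfullyFlat_of_flat_comp (C B A : Type u) [CommRing C] [CommRing B] [CommRing A]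
    [Algebra C B] [Algebra B A] [Algebra C A] [IsScalarTower C B A] [Module.FaithfullyFlat B A]
    (hA : Module.Flat C A) : Module.Flat C B := by
  apply Groth.Agent.Lib.Helper17.FlatTensor.flat_of_flat_tensor (C := C) (B := B) (A := A) B
  let e : A ⊗[B] B ≃ₗ[C] A :=
    { (TensorProduct.rid B A).toAddEquiv with
      map_smul' := fun c z => by
        change (TensorProduct.rid B A) (c • z) = c • (TensorProduct.rid B A) z
        induction z using TensorProduct.induction_on with
        | zero => simp
        | tmul a b =>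
          rw [TensorProduct.smul_tmul']
          simp only [TensorProduct.rid_tmul]
          rw [smul_comm]
        | add z w hz hw => rw [smul_add, map_add, map_add, smul_add, hz, hw] }
  exact Module.Flat.of_linearEquiv e


/-- In a cartesian square of schemes `F₂ = F₁ ×_{X₀} X₁` whose bottom map `u : X₁ ⟶ X₀` is flat, the
base-changed map `d' : F₂ ⟶ X₁` is flat at a point `x` if and only if `d : F₁ ⟶ X₀` is flat at the
image of `x` in `F₁`. -/
theorem result {F₂ F₁ X₁ X₀ : Scheme.{u}}
    {v : F₂ ⟶ F₁} {d' : F₂ ⟶ X₁} {d : F₁ ⟶ X₀} {u : X₁ ⟶ X₀}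
    (h : IsPullback v d' d u) [Flat u] (x : F₂) :
    (d'.stalkMap x).hom.Flat ↔ (d.stalkMap (v.base x)).hom.Flat := by
  constructor
  · intro hd'
    -- v is flat at x
    have hv : (v.stalkMap x).hom.Flat :=
      Groth.Agent.Lib.Helper17.FibreStalk.flat_stalkMap_baseChange d d' v u h x (Flat.stalkMap u (d' x))
    -- composite flat
    have hcomp : ((d' ≫ u).stalkMap x).hom.Flat := by
      rw [Scheme.Hom.stalkMap_comp]
      exact RingHom.Flat.comp (Flat.stalkMap u (d' x)) hd'
    have hw : ((v ≫ d).stalkMap x).hom.Flat := by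
      have := h.w
      rw [this]; exact hcomp
    rw [Scheme.Hom.stalkMap_comp] at hw
    letI algCB : Algebra (X₀.presheaf.stalk (d (v x))) (F₁.presheaf.stalk (v x)) := (d.stalkMap (v x)).hom.toAlgebra
    letI algBA : Algebra (F₁.presheaf.stalk (v x)) (F₂.presheaf.stalk x) := (v.stalkMap x).hom.toAlgebra
    letI algCA : Algebra (X₀.presheaf.stalk (d (v x))) (F₂.presheaf.stalk x) :=
      ((d.stalkMap (v x)) ≫ (v.stalkMap x)).hom.toAlgebra
    haveI : IsScalarTower (X₀.presheaf.stalk (d (v x))) (F₁.presheaf.stalk (v x)) (F₂.presheaf.stalk x) :=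
      IsScalarTower.of_algebraMap_eq (fun c => rfl)
    haveI : Module.Flat (F₁.presheaf.stalk (v x)) (F₂.presheaf.stalk x) := hv
    haveI : IsLocalHom (algebraMap (F₁.presheaf.stalk (v x)) (F₂.presheaf.stalk x)) :=
      inferInstanceAs (IsLocalHom (v.stalkMap x).hom)
    haveI : Module.FaithfullyFlat (F₁.presheaf.stalk (v x)) (F₂.presheaf.stalk x) :=
      Module.FaithfullyFlat.of_flat_of_isLocalHom
    exact flat_of_faithfullyFlat_of_flat_comp (X₀.presheaf.stalk (d (v x))) (F₁.presheaf.stalk (v x))
      (F₂.presheaf.stalk x) hw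
  · intro hd
    exact Groth.Agent.Lib.Helper17.FibreStalk.flat_stalkMap_baseChange u v d' d h.flip x hd

end Groth.Agent.S5223
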