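import Groth.Statements.S5226
import Mathlib.CategoryTheory.Sites.RegularEpi
import Mathlib.CategoryTheory.Sites.Subsheaf
import Mathlib.CategoryTheory.Limits.Shapes.KernelPair
-- import your own Groth.Agent.* helpers here

set_option autoImplicit false
open CategoryTheory CategoryTheory.Limits
universe w v₁ u₁
open ShfCat

namespace Groth.Agent.S5226


theorem isKernelPair_inducedRel {D : Type*} [Category D] [HasPullbacks D]
    {R X Y B : D} {p₁ p₂ : R ⟶ X} {π : X ⟶ B} (hk : IsKernelPair π p₁ p₂) (ι : Y ⟶ X) :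
    IsKernelPair (ι ≫ π)
      (pullback.fst (pullback.fst p₁ ι ≫ p₂) ι ≫ pullback.snd p₁ ι)
      (pullback.snd (pullback.fst p₁ ι ≫ p₂) ι) := by
  have w : (pullback.fst (pullback.fst p₁ ι ≫ p₂) ι ≫ pullback.snd p₁ ι) ≫ ι ≫ π =
      pullback.snd (pullback.fst p₁ ι ≫ p₂) ι ≫ ι ≫ π := by
    have c1 := pullback.condition (f := p₁) (g := ι)
    have c2 := pullback.condition (f := pullback.fst p₁ ι ≫ p₂) (g := ι)
    rw [Category.assoc, ← reassoc_of% c1, hk.w, ← reassoc_of% c2]
  have hr : ∀ s : PullbackCone (ι ≫ π) (ι ≫ π), (s.fst ≫ ι) ≫ π = (s.snd ≫ ι) ≫ π := by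
    intro s
    rw [Category.assoc, Category.assoc, s.condition]
  have hu : ∀ s : PullbackCone (ι ≫ π) (ι ≫ π),
      hk.lift (s.fst ≫ ι) (s.snd ≫ ι) (hr s) ≫ p₁ = s.fst ≫ ι := fun s => hk.lift_fst _ _ _
  have hv : ∀ s : PullbackCone (ι ≫ π) (ι ≫ π),
      pullback.lift (hk.lift (s.fst ≫ ι) (s.snd ≫ ι) (hr s)) s.fst (hu s) ≫
        pullback.fst p₁ ι ≫ p₂ = s.snd ≫ ι := by
    intro s
    rw [pullback.lift_fst_assoc]
    exact hk.lift_snd _ _ _
  refine ⟨⟨w⟩, ⟨PullbackCone.IsLimit.mk w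
    (fun s => pullback.lift
      (pullback.lift (hk.lift (s.fst ≫ ι) (s.snd ≫ ι) (hr s)) s.fst (hu s)) s.snd (hv s))
    ?_ ?_ ?_⟩⟩
  · intro s
    rw [pullback.lift_fst_assoc, pullback.lift_snd]
  · intro s
    rw [pullback.lift_snd]
  · intro s m hm1 hm2
    apply pullback.hom_ext
    · rw [pullback.lift_fst]
      apply pullback.hom_ext
      · rw [pullback.lift_fst]
        apply hk.hom_ext
        · rw [IsKernelPair.lift_fst, Category.assoc, Category.assoc, pullback.condition, ← hm1,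
            Category.assoc, Category.assoc]
        · rw [IsKernelPair.lift_snd, Category.assoc, Category.assoc, pullback.condition, ← hm2,
            Category.assoc]
      · rw [pullback.lift_snd, ← hm1, Category.assoc]
    · rw [pullback.lift_snd, hm2]

/-- For sheaves of sets on a site with sheafification: if `R ⇉ X` is an equivalence relation with
(universally effective) quotient `X/R` and `Y ⊆ X` is a subsheaf with induced relation `R_Y`, then
the canonical map `Y/R_Y ⟶ X/R` is a monomorphism. Here `R_Y` is built as the iterated pullback of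
`R` along `Y ⟶ X` on both sides. -/
theorem result {C : Type u₁} [Category.{v₁} C]
    (J : GrothendieckTopology C) [HasSheafify J (Type w)]
    {R X Y : Sheaf J (Type w)} {p₁ p₂ : R ⟶ X} (e : UniversallyEffectiveEquivalenceRelation p₁ p₂)
    (ι : Y ⟶ X) [Mono ι]
    [HasCoequalizer (pullback.fst (pullback.fst p₁ ι ≫ p₂) ι ≫ pullback.snd p₁ ι)
      (pullback.snd (pullback.fst p₁ ι ≫ p₂) ι)]
    (g : coequalizer (pullback.fst (pullback.fst p₁ ι ≫ p₂) ι ≫ pullback.snd p₁ ι)
      (pullback.snd (pullback.fst p₁ ι ≫ p₂) ι) ⟶ e.B)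
    (hg : coequalizer.π _ _ ≫ g = ι ≫ e.π) :
    Mono g := by
  have hk := isKernelPair_inducedRel e.isKernelPair ι
  have hfac : Sheaf.toImage (ι ≫ e.π) ≫ Sheaf.imageι (ι ≫ e.π) = ι ≫ e.π := Sheaf.toImage_ι _
  rw [← hfac] at hk
  have hk' := hk.cancel_right_of_mono
  have : IsRegularEpi (Sheaf.toImage (ι ≫ e.π)) := IsRegularEpiCategory.regularEpiOfEpi _
  have hcolim := hk'.toCoequalizer'
  let u := (coequalizerIsCoequalizer
    (pullback.fst (pullback.fst p₁ ι ≫ p₂) ι ≫ pullback.snd p₁ ι)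
    (pullback.snd (pullback.fst p₁ ι ≫ p₂) ι)).coconePointUniqueUpToIso hcolim
  have hu : coequalizer.π _ _ ≫ u.hom = Sheaf.toImage (ι ≫ e.π) :=
    IsColimit.comp_coconePointUniqueUpToIso_hom _ hcolim WalkingParallelPair.one
  have hg' : g = u.hom ≫ Sheaf.imageι (ι ≫ e.π) := by
    apply coequalizer.hom_ext
    rw [hg, reassoc_of% hu, hfac]
  rw [hg']
  infer_instance

end Groth.Agent.S5226
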