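import Groth.Statements.S5227
import Groth.Agent.Lib.Helper14.ShfSubgrp

set_option autoImplicit false
open CategoryTheory CategoryTheory.Limits
universe w v₁ u₁
open ShfCat

namespace Groth.Agent.S5227

open Groth.Agent.Lib.Helper14.ShfQuot


/-- For sheaves of sets on a site with sheafification: for an equivalence relation `R ⇉ X` with
(universally effective) quotient `π : X ⟶ X/R`, inverse image along `π` is a bijection from the
subsheaves of `X/R` onto the subsheaves of `X` stable under `R` (those whose two inverse images in
`R` agree). -/
theorem result {C : Type u₁} [Category.{v₁} C]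
    (J : GrothendieckTopology C) [HasSheafify J (Type w)]
    {R X : Sheaf J (Type w)} {p₁ p₂ : R ⟶ X} (e : UniversallyEffectiveEquivalenceRelation p₁ p₂) :
    Function.Injective (Subobject.pullback e.π).obj ∧
      Set.range (Subobject.pullback e.π).obj =
        {Y : Subobject X | (Subobject.pullback p₁).obj Y = (Subobject.pullback p₂).obj Y} := by
  haveI : Epi e.π := inferInstance
  refine ⟨pullback_injective_of_epi e.π, ?_⟩
  ext Y
  constructor
  · rintro ⟨S, rfl⟩
    change (Subobject.pullback p₁).obj _ = (Subobject.pullback p₂).obj _
    rw [← Subobject.pullback_comp, ← Subobject.pullback_comp, e.isKernelPair.w]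
  · intro hY
    change (Subobject.pullback p₁).obj Y = (Subobject.pullback p₂).obj Y at hY
    obtain ⟨I, e', m, he', hm, hem⟩ :=
      QuotDescent.exists_image (Y.arrow ≫ e.π)
    refine ⟨Subobject.mk m, ?_⟩
    apply le_antisymm
    · apply Subobject.le_of_factors
      have h1 : (Subobject.mk m).Factors
          (((Subobject.pullback e.π).obj (Subobject.mk m)).arrow ≫ e.π) := by
        rw [← Limits.pullback_factors_iff]
        exact Subobject.factors_self _
      obtain ⟨t, ht⟩ := (mk_factors_iff' m _).1 h1
      obtain ⟨Z', c, hc, b, hb⟩ := QuotDescent.exists_lift e' t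
      have h2 : (b ≫ Y.arrow) ≫ e.π =
          (c ≫ ((Subobject.pullback e.π).obj (Subobject.mk m)).arrow) ≫ e.π := by
        rw [Category.assoc, ← hem, ← Category.assoc, hb, Category.assoc, ht, Category.assoc]
      have h3 : ((Subobject.pullback p₁).obj Y).Factors (e.isKernelPair.lift _ _ h2) := by
        rw [Limits.pullback_factors_iff, e.isKernelPair.lift_fst]
        exact Y.factors_comp_arrow _
      rw [hY, Limits.pullback_factors_iff, e.isKernelPair.lift_snd] at h3
      exact factors_of_epi_comp Y c _ h3
    · apply Subobject.le_of_factors
      rw [Limits.pullback_factors_iff, ← hem, mk_factors_iff']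
      exact ⟨e', rfl⟩

end Groth.Agent.S5227
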