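import Groth.Statements.S5228
import Groth.Agent.Lib.Helper20.ComodBasis
import Mathlib.LinearAlgebra.Projection
open Groth.Agent.Lib.Helper20
-- import your own Groth.Agent.* helpers here

set_option autoImplicit false
universe w u
open HopfRep

namespace Groth.Agent.S5228

/-- Over an affine base, in comodule form: for a representation `V` of a diagonalizable group `D(M)`
over a commutative ring `k` (a `k[M]`-comodule), every sub-representation which is a direct summand
as a `k`-module is a direct summand as a representation. (The published statement: a short exact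
sequence of quasi-coherent `D(M)`-modules that splits as a sequence of modules splits
equivariantly.) -/
theorem result {k : Type u} [CommRing k] {M : Type u} [CommGroup M]
    (V : Type w) [AddCommGroup V] [Module k V] [HopfRep.Comod k (MonoidAlgebra k M) V]
    (W : Submodule k V) (hW : HopfRep.IsSubcomod (k := k) (A := MonoidAlgebra k M) W)
    (hsplit : ∃ W' : Submodule k V, IsCompl W W') :
    ∃ W'' : Submodule k V, HopfRep.IsSubcomod (k := k) (A := MonoidAlgebra k M) W'' ∧ IsCompl W W'' := by
  classical
  obtain ⟨W', hW'⟩ := hsplit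
  let b : Module.Basis M k (MonoidAlgebra k M) := MonoidAlgebra.basis M k
  have hb : ∀ i, CoalgebraStruct.comul (R := k) (b i) = b i ⊗ₜ[k] b i := by
    intro i
    change CoalgebraStruct.comul (R := k) (MonoidAlgebra.single i (1 : k)) = _
    rw [MonoidAlgebra.comul_single, CommSemiring.comul_apply, TensorProduct.map_tmul]
    rfl
  have hε : ∀ i, CoalgebraStruct.counit (R := k) (b i) = 1 := by
    intro i
    change CoalgebraStruct.counit (R := k) (MonoidAlgebra.single i (1 : k)) = _
    rw [MonoidAlgebra.counit_single, CommSemiring.counit_apply]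
  -- projection onto W along W'
  let p : V →ₗ[k] V := W.projection W' hW'
  have hpW : ∀ v, p v ∈ W := fun v => Submodule.projection_apply_mem hW' v
  have hpid : ∀ w ∈ W, p w = w := by
    intro w hw
    exact Submodule.projection_apply_left hW' ⟨w, hw⟩
  let D : V →ₗ[k] (M →₀ V) := (TensorProduct.equivFinsuppOfBasisRight b).toLinearMap ∘ₗ
    HopfRep.Comod.coact (k := k) (A := MonoidAlgebra k M) (V := V)
  have hD : ∀ v m, D v m = CB.proj b m v := fun v m => CB.equiv_apply b _ m
  let L : (M →₀ V) →ₗ[k] V := Finsupp.lsum k (fun m => CB.proj b m ∘ₗ p)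
  let p' : V →ₗ[k] V := L ∘ₗ D
  have hp' : ∀ v, p' v = ∑ m ∈ (D v).support, CB.proj b m (p (CB.proj b m v)) := by
    intro v
    change L (D v) = _
    rw [Finsupp.lsum_apply, Finsupp.sum]
    apply Finset.sum_congr rfl
    intro m _
    rw [LinearMap.comp_apply, hD]
  have hπp : ∀ m v, CB.proj b m (p' v) = CB.proj b m (p (CB.proj b m v)) := by
    intro m v
    rw [hp', map_sum]
    simp only [CB.proj_proj b hb]
    by_cases hm : m ∈ (D v).support
    · rw [Finset.sum_eq_single m]
      · rw [if_pos rfl]
      · intro m' _ hne
        rw [if_neg hne]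
      · intro h; exact absurd hm h
    · rw [Finset.sum_eq_zero]
      · rw [Finsupp.notMem_support_iff, hD] at hm
        rw [hm, map_zero, map_zero]
      · intro m' hm'
        have : m' ≠ m := fun h => hm (h ▸ hm')
        rw [if_neg this]
  have hp'W : ∀ v, p' v ∈ W := by
    intro v
    rw [hp']
    apply Submodule.sum_mem
    intro m _
    exact CB.proj_mem_of_isSubcomod b W hW m (hpW _)
  have hp'id : ∀ w ∈ W, p' w = w := by
    intro w hw
    apply CB.ext_proj b hb hε
    intro m
    rw [hπp, hpid _ (CB.proj_mem_of_isSubcomod b W hW m hw), CB.proj_proj b hb, if_pos rfl]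
  refine ⟨LinearMap.ker p', ?_, ?_⟩
  · intro x hx
    have hx0 : p' x = 0 := hx
    have hmem : ∀ m, CB.proj b m x ∈ LinearMap.ker p' := by
      intro m
      rw [LinearMap.mem_ker]
      apply CB.ext_proj b hb hε
      intro m'
      rw [hπp, CB.proj_proj b hb m m' x, map_zero]
      by_cases h : m = m'
      · subst h
        rw [if_pos rfl, ← hπp, hx0, map_zero]
      · rw [if_neg h, map_zero, map_zero]
    rw [CB.expand b (HopfRep.Comod.coact (k := k) (A := MonoidAlgebra k M) (V := V) x)]
    apply Submodule.sum_mem
    intro m _
    exact ⟨(⟨_, hmem m⟩ : LinearMap.ker p') ⊗ₜ[k] b m, rfl⟩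
  · have := LinearMap.isCompl_of_proj (f := p'.codRestrict W hp'W)
      (fun x => Subtype.ext (hp'id x x.2))
    rwa [LinearMap.ker_codRestrict] at this

end Groth.Agent.S5228
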