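import Groth.Statements.S5231
-- import your own Groth.Agent.* helpers here

set_option autoImplicit false
open CategoryTheory
universe w v₁ u₁
open ShfCat

namespace Groth.Agent.S5231


theorem hom_eq_of_locally_eq {C : Type u₁} [Category.{v₁} C]
    (J : GrothendieckTopology C) {Z W : Sheaf J (Type w)} (a b : Z ⟶ W)
    (H : ∀ S : C, ∃ R : Sieve S, R ∈ J S ∧ ∀ ⦃T : C⦄ (g : T ⟶ S), R g →
      (J.overPullback (Type w) T).map a = (J.overPullback (Type w) T).map b) : a = b := by
  ext S z
  obtain ⟨R, hR, h⟩ := H S.unop
  apply (((isSheaf_iff_isSheaf_of_type _ _).1 W.2).isSeparated _ hR).ext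
  intro T g hg
  have h1 := h g hg
  have h2 : a.hom.app (Opposite.op T) = b.hom.app (Opposite.op T) :=
    congrArg (fun φ : (J.overPullback (Type w) T).obj Z ⟶ (J.overPullback (Type w) T).obj W =>
      φ.hom.app (Opposite.op (Over.mk (𝟙 T)))) h1
  have h3 := ConcreteCategory.congr_hom (a.hom.naturality g.op) z
  have h4 := ConcreteCategory.congr_hom (b.hom.naturality g.op) z
  simp only [ConcreteCategory.comp_apply] at h3 h4
  change (ConcreteCategory.hom (W.obj.map g.op)) ((ConcreteCategory.hom (a.hom.app S)) z) =
    (ConcreteCategory.hom (W.obj.map g.op)) ((ConcreteCategory.hom (b.hom.app S)) z)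
  rw [← h3, ← h4, h2]

/-- (iii) ⇒ (i): a morphism `f` of sheaves of sets on a site is a monomorphism (resp. an epimorphism) as
soon as, for every object `S`, the morphisms `T ⟶ S` over which the restriction of `f` to the
induced site `C/T` is a monomorphism (resp. an epimorphism) form a covering sieve. No sheafification
is assumed. (The published statement also treats isomorphisms in the same way; that case is left out
here.) -/
theorem result {C : Type u₁} [Category.{v₁} C]
    (J : GrothendieckTopology C) {F G : Sheaf J (Type w)} (f : F ⟶ G) :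
    ((∀ S : C, ∃ R : Sieve S, R ∈ J S ∧ ∀ ⦃T : C⦄ (g : T ⟶ S), R g →
        Mono ((J.overPullback (Type w) T).map f)) → Mono f) ∧
    ((∀ S : C, ∃ R : Sieve S, R ∈ J S ∧ ∀ ⦃T : C⦄ (g : T ⟶ S), R g →
        Epi ((J.overPullback (Type w) T).map f)) → Epi f) := by
  constructor
  · intro H
    constructor
    intro Z a b hab
    apply hom_eq_of_locally_eq
    intro S
    obtain ⟨R, hR, h⟩ := H S
    refine ⟨R, hR, fun T g hg => ?_⟩
    have := h g hg
    rw [← cancel_mono ((J.overPullback (Type w) T).map f), ← Functor.map_comp,
      ← Functor.map_comp, hab]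
  · intro H
    constructor
    intro Z a b hab
    apply hom_eq_of_locally_eq
    intro S
    obtain ⟨R, hR, h⟩ := H S
    refine ⟨R, hR, fun T g hg => ?_⟩
    have := h g hg
    rw [← cancel_epi ((J.overPullback (Type w) T).map f), ← Functor.map_comp,
      ← Functor.map_comp, hab]

end Groth.Agent.S5231
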