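import Groth.Statements.S5235
import Mathlib.AlgebraicGeometry.PullbackCarrier

set_option autoImplicit false
open CategoryTheory CategoryTheory.Limits AlgebraicGeometry
universe u
open GrpQ

namespace Groth.Agent.S5235

lemma range_pullback_arrow {X Z : Scheme.{u}} (f : X ⟶ Z) (Y : Subobject Z) :
    Set.range ((Subobject.pullback f).obj Y).arrow = f ⁻¹' Set.range Y.arrow := by
  have h := Subobject.isPullback f Y
  ext x
  constructor
  · rintro ⟨a, rfl⟩
    refine ⟨Subobject.pullbackπ f Y a, ?_⟩
    rw [← Scheme.Hom.comp_apply, ← Scheme.Hom.comp_apply, h.w]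
  · rintro ⟨y, hy⟩
    obtain ⟨z, hz1, hz2⟩ := Scheme.Pullback.exists_preimage_pullback (f := Y.arrow) (g := f) y x hy
    refine ⟨h.isoPullback.inv z, ?_⟩
    rw [← Scheme.Hom.comp_apply, h.isoPullback_inv_snd, hz2]

lemma le_of_range_subset {X : Scheme.{u}} (Y1 Y2 : Subobject X) [IsOpenImmersion Y2.arrow]
    (h : Set.range Y1.arrow ⊆ Set.range Y2.arrow) : Y1 ≤ Y2 :=
  Subobject.le_of_comm (IsOpenImmersion.lift Y2.arrow Y1.arrow h)
    (IsOpenImmersion.lift_fac _ _ _)

lemma eq_of_range_eq {X : Scheme.{u}} (Y1 Y2 : Subobject X) [IsOpenImmersion Y1.arrow]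
    [IsOpenImmersion Y2.arrow]
    (h : Set.range Y1.arrow = Set.range Y2.arrow) : Y1 = Y2 :=
  le_antisymm (le_of_range_subset _ _ h.le) (le_of_range_subset _ _ h.ge)

/-- For schemes, with (M) the faithfully flat quasi-compact morphisms and (N) the open immersions: if `π
: X ⟶ X'` is flat, surjective and quasi-compact, then `Y' ↦ π⁻¹(Y')` is a bijection from open
subschemes of `X'` onto the open subschemes of `X` stable under the kernel pair of `π`. -/
theorem result {X X' : Scheme.{u}} (π : X ⟶ X')
    [Flat π] [Surjective π] [QuasiCompact π] :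
    Set.BijOn (Subobject.pullback π).obj
      {Y' : Subobject X' | IsOpenImmersion Y'.arrow}
      {Y : Subobject X | IsOpenImmersion Y.arrow ∧
        (Subobject.pullback (pullback.fst π π)).obj Y = (Subobject.pullback (pullback.snd π π)).obj Y} := by
  refine ⟨?_, ?_, ?_⟩
  · intro Y' (hY' : IsOpenImmersion Y'.arrow)
    refine ⟨MorphismProperty.of_isPullback (P := @IsOpenImmersion) (Subobject.isPullback π Y') hY', ?_⟩
    rw [← Subobject.pullback_comp, ← Subobject.pullback_comp, pullback.condition]
  · intro Y1 (h1 : IsOpenImmersion Y1.arrow) Y2 (h2 : IsOpenImmersion Y2.arrow) h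
    apply eq_of_range_eq
    have := congrArg (fun Y : Subobject X => Set.range Y.arrow) h
    simp only [range_pullback_arrow] at this
    exact Set.preimage_injective.2 π.surjective this
  · rintro Y ⟨hY, hst⟩
    set U : Set X := Set.range Y.arrow with hU
    have hUo : IsOpen U := Y.arrow.isOpenEmbedding.isOpen_range
    have hsat : π ⁻¹' (π '' U) = U := by
      refine le_antisymm ?_ (Set.subset_preimage_image _ _)
      rintro x ⟨u, hu, hux⟩
      obtain ⟨z, hz1, hz2⟩ := Scheme.Pullback.exists_preimage_pullback (f := π) (g := π) u x hux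
      have := congrArg (fun Y : Subobject (pullback π π) => Set.range Y.arrow) hst
      simp only [range_pullback_arrow] at this
      have hz : z ∈ (pullback.fst π π) ⁻¹' U := by
        show pullback.fst π π z ∈ U
        rw [hz1]; exact hu
      rw [this] at hz
      have : pullback.snd π π z ∈ U := hz
      rwa [hz2] at this
    have hVo : IsOpen (π '' U) := by
      rw [← (Flat.isQuotientMap_of_surjective π).isOpen_preimage, hsat]
      exact hUo
    let V : X'.Opens := ⟨π '' U, hVo⟩
    have hV : IsOpenImmersion (Subobject.mk V.ι).arrow := by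
      rw [← Subobject.underlyingIso_hom_comp_eq_mk]
      infer_instance
    have hrV : Set.range (Subobject.mk V.ι).arrow = π '' U := by
      rw [← Subobject.underlyingIso_hom_comp_eq_mk, Scheme.Hom.comp_base, TopCat.coe_comp,
        Set.range_comp, Set.range_eq_univ.2 (Subobject.underlyingIso V.ι).hom.surjective,
        Set.image_univ]
      exact V.range_ι
    refine ⟨Subobject.mk V.ι, hV, ?_⟩
    have := MorphismProperty.of_isPullback (P := @IsOpenImmersion)
      (Subobject.isPullback π (Subobject.mk V.ι)) hV
    apply eq_of_range_eq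
    rw [range_pullback_arrow, hrV, hsat]

end Groth.Agent.S5235
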