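import Groth.Statements.S5236
import Mathlib
import Groth.Agent.Lib.Helper4.RedQuotDesc
import Groth.Prelude.Def_RedSub

set_option autoImplicit false
open CategoryTheory CategoryTheory.Limits AlgebraicGeometry MonoidalCategory
universe u
open RedSub

namespace Groth.Agent.S5236

section helpers
set_option linter.unusedSectionVars false
open CategoryTheory MonoidalCategory CartesianMonoidalCategory MonObj GrpObj AlgebraicGeometry Limits
open Groth.Agent.Lib.Helper4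


variable {S : Scheme.{u}} {H G Q : Over S} [GrpObj H] [hG : GrpObj G]

/-- points equivalent under `q` differ by a point of `H` -/
theorem rel (i : H ⟶ G) (q : G ⟶ Q)
    (hpb : IsPullback (fst G H) ((G ◁ i) ≫ μ[G]) q q) {W : Over S} (u v : W ⟶ G)
    (huv : u ≫ q = v ≫ q) : ∃ h : W ⟶ H, v = u * (h ≫ i) := by
  obtain ⟨l, hl⟩ : ∃ l, l = hpb.lift u v huv := ⟨_, rfl⟩
  have e1 : l ≫ fst G H = u := by rw [hl]; exact hpb.lift_fst _ _ _
  have e2 : l ≫ (G ◁ i) ≫ μ[G] = v := by rw [hl]; exact hpb.lift_snd _ _ _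
  refine ⟨l ≫ snd G H, ?_⟩
  rw [← e2, ← e1, Hom.mul_def, ← Category.assoc]
  congr 1
  apply CartesianMonoidalCategory.hom_ext <;> simp

theorem key (i : H ⟶ G) (q : G ⟶ Q)
    (hpb : IsPullback (fst G H) ((G ◁ i) ≫ μ[G]) q q) {W : Over S} (x : W ⟶ G) (h : W ⟶ H) :
    (x * (h ≫ i)) ≫ q = x ≫ q := by
  have hw := hpb.w
  have := congrArg (fun φ => lift x h ≫ φ) hw
  simp only [lift_fst_assoc] at this
  rw [this, Hom.mul_def]
  simp only [← Category.assoc]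
  congr 2
  apply CartesianMonoidalCategory.hom_ext <;> simp

/-- the multiplication of `G` is compatible with the equivalence relation -/
theorem mul_compat (i : H ⟶ G) [IsMonHom i] (hn : AlgGrp.IsNormalHom i) (q : G ⟶ Q)
    (hpb : IsPullback (fst G H) ((G ◁ i) ≫ μ[G]) q q) {W : Over S} (a₁ a₂ b₁ b₂ : W ⟶ G)
    (h₁ : a₁ ≫ q = b₁ ≫ q) (h₂ : a₂ ≫ q = b₂ ≫ q) :
    (a₁ * a₂) ≫ q = (b₁ * b₂) ≫ q := by
  obtain ⟨k₁, rfl⟩ := rel i q hpb a₁ b₁ h₁
  obtain ⟨k₂, rfl⟩ := rel i q hpb a₂ b₂ h₂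
  obtain ⟨k', hk'⟩ := hn W a₂⁻¹ k₁
  have : a₁ * (k₁ ≫ i) * (a₂ * (k₂ ≫ i)) = (a₁ * a₂) * ((k' * k₂) ≫ i) := by
    rw [MonObj.mul_comp, ← hk']
    group
  rw [this, key i q hpb]

theorem inv_compat (i : H ⟶ G) [IsMonHom i] (hn : AlgGrp.IsNormalHom i) (q : G ⟶ Q)
    (hpb : IsPullback (fst G H) ((G ◁ i) ≫ μ[G]) q q) {W : Over S} (a b : W ⟶ G)
    (h : a ≫ q = b ≫ q) : a⁻¹ ≫ q = b⁻¹ ≫ q := by
  obtain ⟨k, rfl⟩ := rel i q hpb a b h
  obtain ⟨k', hk'⟩ := hn W a k⁻¹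
  have : (a * (k ≫ i))⁻¹ = a⁻¹ * (k' ≫ i) := by
    rw [← hk', GrpObj.inv_comp]
    group
  rw [this, key i q hpb]

/-- The monoid structure on the quotient. -/
@[reducible] noncomputable def monQ (q : G ⟶ Q) (hepi : Epi q) (hepi3 : Epi ((q ⊗ₘ q) ⊗ₘ q))
    (m : Q ⊗ Q ⟶ Q) (hm : (q ⊗ₘ q) ≫ m = μ[G] ≫ q) : MonObj Q where
  one := η[G] ≫ q
  mul := m
  one_mul := by
    have e1 : 𝟙_ (Over S) ◁ q = (λ_ G).hom ≫ q ≫ (λ_ Q).inv := by
      rw [← Category.assoc, ← leftUnitor_naturality]; simp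
    haveI : Epi (𝟙_ (Over S) ◁ q) := by rw [e1]; infer_instance
    rw [← cancel_epi (𝟙_ (Over S) ◁ q)]
    calc 𝟙_ (Over S) ◁ q ≫ (η[G] ≫ q) ▷ Q ≫ m = (η[G] ▷ G) ≫ (q ⊗ₘ q) ≫ m := by
          simp only [← Category.assoc]
          congr 1
          simp only [← tensorHom_id, ← id_tensorHom, tensorHom_comp_tensorHom, Category.id_comp,
            Category.comp_id]
      _ = (η[G] ▷ G ≫ μ[G]) ≫ q := by rw [hm, Category.assoc]
      _ = (λ_ G).hom ≫ q := by rw [MonObj.one_mul]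
      _ = 𝟙_ (Over S) ◁ q ≫ (λ_ Q).hom := (leftUnitor_naturality q).symm
  mul_one := by
    have e1 : q ▷ 𝟙_ (Over S) = (ρ_ G).hom ≫ q ≫ (ρ_ Q).inv := by
      rw [← Category.assoc, ← rightUnitor_naturality]; simp
    haveI : Epi (q ▷ 𝟙_ (Over S)) := by rw [e1]; infer_instance
    rw [← cancel_epi (q ▷ 𝟙_ (Over S))]
    calc q ▷ 𝟙_ (Over S) ≫ Q ◁ (η[G] ≫ q) ≫ m = (G ◁ η[G]) ≫ (q ⊗ₘ q) ≫ m := by
          simp only [← Category.assoc]
          congr 1
          simp only [← tensorHom_id, ← id_tensorHom, tensorHom_comp_tensorHom, Category.id_comp,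
            Category.comp_id]
      _ = (G ◁ η[G] ≫ μ[G]) ≫ q := by rw [hm, Category.assoc]
      _ = (ρ_ G).hom ≫ q := by rw [MonObj.mul_one]
      _ = q ▷ 𝟙_ (Over S) ≫ (ρ_ Q).hom := (rightUnitor_naturality q).symm
  mul_assoc := by
    rw [← cancel_epi ((q ⊗ₘ q) ⊗ₘ q)]
    calc ((q ⊗ₘ q) ⊗ₘ q) ≫ m ▷ Q ≫ m = (μ[G] ▷ G) ≫ (q ⊗ₘ q) ≫ m := by
          simp only [← Category.assoc]
          congr 1
          simp only [← tensorHom_id, tensorHom_comp_tensorHom, Category.id_comp,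
            Category.comp_id, hm]
      _ = (μ[G] ▷ G ≫ μ[G]) ≫ q := by rw [hm, Category.assoc]
      _ = ((α_ G G G).hom ≫ (G ◁ μ[G]) ≫ μ[G]) ≫ q := by rw [MonObj.mul_assoc]
      _ = (α_ G G G).hom ≫ (G ◁ μ[G]) ≫ (q ⊗ₘ q) ≫ m := by rw [hm]; simp
      _ = (α_ G G G).hom ≫ (q ⊗ₘ (q ⊗ₘ q)) ≫ Q ◁ m ≫ m := by
          congr 1
          simp only [← Category.assoc]
          congr 1
          simp only [← id_tensorHom, tensorHom_comp_tensorHom, Category.id_comp,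
            Category.comp_id, hm]
      _ = ((q ⊗ₘ q) ⊗ₘ q) ≫ (α_ Q Q Q).hom ≫ Q ◁ m ≫ m := by
          rw [← Category.assoc, ← associator_naturality, Category.assoc]


/-- The group structure on the quotient. -/
@[reducible] noncomputable def grpQ (q : G ⟶ Q) (hepi : Epi q) (hepi3 : Epi ((q ⊗ₘ q) ⊗ₘ q))
    (m : Q ⊗ Q ⟶ Q) (hm : (q ⊗ₘ q) ≫ m = μ[G] ≫ q) (iv : Q ⟶ Q) (hiv : q ≫ iv = ι[G] ≫ q) :
    GrpObj Q :=
  letI := monQ q hepi hepi3 m hm
  { inv := iv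
    left_inv := by
      rw [← cancel_epi q]
      change q ≫ lift iv (𝟙 Q) ≫ m = q ≫ toUnit Q ≫ η[G] ≫ q
      calc q ≫ lift iv (𝟙 Q) ≫ m = lift ι[G] (𝟙 G) ≫ (q ⊗ₘ q) ≫ m := by
            simp only [← Category.assoc]
            congr 1
            apply CartesianMonoidalCategory.hom_ext <;> simp [hiv]
        _ = (lift ι[G] (𝟙 G) ≫ μ[G]) ≫ q := by rw [hm, Category.assoc]
        _ = (toUnit G ≫ η[G]) ≫ q := by rw [GrpObj.left_inv]
        _ = q ≫ toUnit Q ≫ η[G] ≫ q := by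
            rw [Category.assoc, ← Category.assoc q]
            congr 1
            exact toUnit_unique _ _
    right_inv := by
      rw [← cancel_epi q]
      change q ≫ lift (𝟙 Q) iv ≫ m = q ≫ toUnit Q ≫ η[G] ≫ q
      calc q ≫ lift (𝟙 Q) iv ≫ m = lift (𝟙 G) ι[G] ≫ (q ⊗ₘ q) ≫ m := by
            simp only [← Category.assoc]
            congr 1
            apply CartesianMonoidalCategory.hom_ext <;> simp [hiv]
        _ = (lift (𝟙 G) ι[G] ≫ μ[G]) ≫ q := by rw [hm, Category.assoc]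
        _ = (toUnit G ≫ η[G]) ≫ q := by rw [GrpObj.right_inv]
        _ = q ≫ toUnit Q ≫ η[G] ≫ q := by
            rw [Category.assoc, ← Category.assoc q]
            congr 1
            exact toUnit_unique _ _ }

theorem main (i : H ⟶ G) [IsMonHom i] [Mono i] (hn : AlgGrp.IsNormalHom i)
    (q : G ⟶ Q) (hq : RedSub.IsQuotient i q) :
    ∃! s : GrpObj Q, @IsMonHom (Over S) _ _ G Q hG.toMonObj s.toMonObj q := by
  obtain ⟨h1, h2, h3, hpb⟩ := hq
  have hc : CovSieve.CovMor q.left := RedQuotDesc.covMor_of_fppf q.left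
  have hee : EffectiveEpi q.left := hc.effectiveEpi
  have hepi : Epi q := Over.epi_of_epi_left _
  have hc2 : CovSieve.CovMor (q ⊗ₘ q).left := CovSieve.covMor_tensorHom q q hc hc
  have hee2 : EffectiveEpi (q ⊗ₘ q).left := hc2.effectiveEpi
  have hepi2 : Epi (q ⊗ₘ q) := Over.epi_of_epi_left _
  have hc3 : CovSieve.CovMor ((q ⊗ₘ q) ⊗ₘ q).left := CovSieve.covMor_tensorHom _ q hc2 hc
  have hee3 : EffectiveEpi ((q ⊗ₘ q) ⊗ₘ q).left := hc3.effectiveEpi
  have hepi3 : Epi ((q ⊗ₘ q) ⊗ₘ q) := Over.epi_of_epi_left _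
  -- multiplication
  obtain ⟨m, hm⟩ := FpqcDesc.exists_desc (q ⊗ₘ q) (μ[G] ≫ q) (by
    intro W a b hab
    have h₁ : (a ≫ fst G G) ≫ q = (b ≫ fst G G) ≫ q := by
      have := congrArg (fun φ => φ ≫ fst Q Q) hab
      simpa using this
    have h₂ : (a ≫ snd G G) ≫ q = (b ≫ snd G G) ≫ q := by
      have := congrArg (fun φ => φ ≫ snd Q Q) hab
      simpa using this
    have := mul_compat i hn q hpb _ _ _ _ h₁ h₂
    rw [Hom.mul_def, Hom.mul_def] at this
    simpa using this)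
  -- inverse
  obtain ⟨iv, hiv⟩ := FpqcDesc.exists_desc q (ι[G] ≫ q) (by
    intro W a b hab
    have := inv_compat i hn q hpb a b hab
    rw [Hom.inv_def, Hom.inv_def] at this
    simpa using this)
  refine ⟨grpQ q hepi hepi3 m hm iv hiv, ?_, ?_⟩
  · exact @IsMonHom.mk (Over S) _ _ G Q hG.toMonObj (monQ q hepi hepi3 m hm) q rfl hm.symm
  · intro s hs
    apply GrpObj.ext
    apply MonObj.ext
    change s.mul = m
    rw [← cancel_epi (q ⊗ₘ q), hm]
    exact (@IsMonHom.mul_hom (Over S) _ _ G Q hG.toMonObj s.toMonObj q hs).symm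


end helpers

/-- For group schemes and the fppf topology: if `i : H ⟶ G` is a normal monomorphism of `S`-group
schemes and `q : G ⟶ Q` exhibits `Q` as the fppf quotient `G/H`, then there is exactly one
group-scheme structure on `Q` over `S` making `q` a homomorphism. -/
theorem result {S : Scheme.{u}} {H G Q : Over S} [GrpObj H] [hG : GrpObj G]
    (i : H ⟶ G) [IsMonHom i] [Mono i] (hn : AlgGrp.IsNormalHom i)
    (q : G ⟶ Q) (hq : RedSub.IsQuotient i q) :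
    ∃! s : GrpObj Q, @IsMonHom (Over S) _ _ G Q hG.toMonObj s.toMonObj q := by
  exact main i hn q hq

end Groth.Agent.S5236
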