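import Groth.Statements.S5238
import Groth.Agent.Lib.Helper21.LqfCover

set_option autoImplicit false
open CategoryTheory AlgebraicGeometry
universe w u
open GrpQ

namespace Groth.Agent.S5238

open Limits

instance : MorphismProperty.IsMultiplicative @LocallyOfFinitePresentation.{u} where
  id_mem _ := inferInstance

theorem fppfPrecoverage_eq :
    Scheme.fppfPrecoverage.{u} =
      Scheme.propQCPrecoverage (@Flat ⊓ @LocallyOfFinitePresentation) := by
  apply le_antisymm
  · rw [Scheme.propQCPrecoverage, le_inf_iff]
    refine ⟨?_, le_rfl⟩
    exact Scheme.precoverage_le_qcPrecoverage_of_isOpenMap fun X Y f ⟨_, _⟩ ↦ f.isOpenMap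
  · exact inf_le_right

theorem fppfTopology_eq :
    Scheme.fppfTopology.{u} =
      Scheme.propQCTopology (@Flat ⊓ @LocallyOfFinitePresentation) := by
  unfold Scheme.fppfTopology Scheme.propQCTopology
  rw [fppfPrecoverage_eq]

variable (F : Scheme.{u}ᵒᵖ ⥤ Type w)

theorem isSheafFor_of_isAffineHom (hzar : Presieve.IsSheaf Scheme.zariskiTopology F)
    (hyp : ∀ (T S : Scheme.{u}) [IsAffine T] [IsAffine S] (f : T ⟶ S)
      [Flat f] [Surjective f] [LocallyOfFinitePresentation f] [LocallyQuasiFinite f],
      Presieve.IsSheafFor F (Presieve.singleton f))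
    {T Y : Scheme.{u}} (g : T ⟶ Y) [IsAffineHom g] [Flat g] [Surjective g]
    [LocallyOfFinitePresentation g] [LocallyQuasiFinite g] :
    Presieve.IsSheafFor F (Presieve.singleton g) := by
  refine Y.affineOneHypercover.isSheafFor_of_pullback hzar (fun i => ?_) (fun i j k => ?_)
  · rw [← Sieve.pullbackArrows_comm, Presieve.pullback_singleton,
      ← Presieve.isSheafFor_iff_generate]
    haveI : IsAffine (Y.affineOneHypercover.X i) := inferInstanceAs (IsAffine (Spec _))
    haveI : IsAffine (pullback g (Y.affineOneHypercover.f i)) :=
      isAffine_of_isAffineHom (pullback.snd g (Y.affineOneHypercover.f i))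
    exact hyp _ _ (pullback.snd g (Y.affineOneHypercover.f i))
  · rw [← Sieve.pullbackArrows_comm, Presieve.pullback_singleton,
      ← Presieve.isSeparatedFor_iff_generate]
    haveI : IsAffine (Y.affineOneHypercover.Y k) := inferInstanceAs (IsAffine (Spec _))
    haveI : IsAffine (pullback g (Y.affineOneHypercover.p₁ k ≫ Y.affineOneHypercover.f i)) :=
      isAffine_of_isAffineHom (pullback.snd g _)
    exact (hyp _ _ (pullback.snd g _)).isSeparatedFor


/-- A presheaf of sets on schemes is a sheaf for the fppf topology (the topology generated by jointly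
surjective families of flat morphisms locally of finite presentation) if and only if it is a Zariski
sheaf and satisfies the sheaf condition for every single morphism of affine schemes `T ⟶ S` which is
flat, surjective, locally of finite presentation and locally quasi-finite. (Between affine schemes
such a morphism is faithfully flat, of finite presentation and quasi-finite; that these quasi-finite
covers suffice rests on the existence of quasi-finite flat quasi-sections of flat surjective
morphisms locally of finite presentation.) -/
theorem result (F : Scheme.{u}ᵒᵖ ⥤ Type w) :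
    Presheaf.IsSheaf Scheme.fppfTopology F ↔
      Presheaf.IsSheaf Scheme.zariskiTopology F ∧
        ∀ (T S : Scheme.{u}) [IsAffine T] [IsAffine S] (f : T ⟶ S)
          [Flat f] [Surjective f] [LocallyOfFinitePresentation f] [LocallyQuasiFinite f],
          Presieve.IsSheafFor F (Presieve.singleton f) := by
  rw [isSheaf_iff_isSheaf_of_type, isSheaf_iff_isSheaf_of_type, fppfTopology_eq]
  constructor
  · intro hF
    refine ⟨Presieve.isSheaf_of_le _ Scheme.zariskiTopology_le_propQCTopology hF, ?_⟩
    intro T S _ _ f _ _ _ _
    apply hF.isSheafFor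
    exact f.generate_singleton_mem_propQCTopology ⟨inferInstance, inferInstance⟩
  · rintro ⟨hzar, hyp⟩
    rw [isSheaf_type_propQCTopology_iff]
    refine ⟨hzar, ?_⟩
    intro R S f hP hsurj
    haveI : Flat (Spec.map f) := hP.1
    haveI : LocallyOfFinitePresentation (Spec.map f) := hP.2
    haveI := hsurj
    obtain ⟨T, h, h1, h2, h3, h4, h5⟩ :=
      Groth.Agent.Lib.Helper21.LqfCover.exists_lqf_flat_cover (Spec.map f)
    haveI : IsAffine T := h5 inferInstance
    rw [Presieve.isSheafFor_iff_generate]
    refine Presieve.isSheafFor_subsieve_aux F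
      (S := Sieve.generate (Presieve.singleton (h ≫ Spec.map f))) ?_ ?_ ?_
    · have hle : Sieve.generate (Presieve.singleton (h ≫ Spec.map f)) ≤
          Sieve.generate (Presieve.singleton (Spec.map f)) := by
        rw [Sieve.generate_le_iff]
        rintro _ _ ⟨⟩
        exact ⟨_, h, Spec.map f, Presieve.singleton.mk, rfl⟩
      exact hle
    · rw [← Presieve.isSheafFor_iff_generate]
      exact hyp T (Spec R) (h ≫ Spec.map f)
    · intro Y f' _
      rw [← Sieve.pullbackArrows_comm, Presieve.pullback_singleton,
        ← Presieve.isSeparatedFor_iff_generate]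
      haveI : IsAffineHom (pullback.snd (h ≫ Spec.map f) f') :=
        MorphismProperty.pullback_snd _ _ (inferInstance : IsAffineHom (h ≫ Spec.map f))
      exact (isSheafFor_of_isAffineHom F hzar hyp (pullback.snd (h ≫ Spec.map f) f')).isSeparatedFor

end Groth.Agent.S5238
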