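import Groth.Statements.S5244
import Groth.Agent.Lib.Helper25.DiagBC
-- import your own Groth.Agent.* helpers here

set_option autoImplicit false
universe u
open TensorProduct SGA3b
open SGA3b

namespace Groth.Agent.S5244

open Groth.Agent.Lib.Helper25.DiagBC

/-- a field-like base: faithful flatness of a field over a localization of a field at a unit -/
theorem faithfullyFlat_of_unit (k : Type u) [Field k] (f : k) (hf : f ≠ 0) (K : Type u) [Field K]
    [Algebra (Localization.Away f) K] :
    Module.FaithfullyFlat (Localization.Away f) K := by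
  set L := Localization.Away f
  have hle : Submonoid.powers f ≤ IsUnit.submonoid k := by
    rintro x ⟨n, rfl⟩
    exact (IsUnit.mk0 f hf).pow n
  let e : k ≃ₐ[k] L := IsLocalization.atUnits k (Submonoid.powers f) hle
  letI : Algebra k K := ((algebraMap L K).comp (algebraMap k L)).toAlgebra
  haveI : IsScalarTower k L K := IsScalarTower.of_algebraMap_eq (fun _ => rfl)
  let b := Module.Free.chooseBasis k K
  have hb : ∀ (c : k) (x : K), e.toRingEquiv c • x = c • x := by
    intro c x
    have : e.toRingEquiv c = algebraMap k L c := by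
      show e c = _
      rw [← e.commutes c]; rfl
    rw [this, algebraMap_smul]
  haveI : Module.Free L K := Module.Free.of_basis (b.mapCoeffs e.toRingEquiv hb)
  infer_instance

theorem main1 (k L R' K A : Type u) [Field k] [CommRing L] [Algebra k L] [CommRing R']
    [Algebra L R'] [Field K] [Algebra L K] [Algebra R' K] [IsScalarTower L R' K] [CommRing A]
    [HopfAlgebra k A] (M : Type u) [CommGroup M]
    (e : R' ⊗[L] (L ⊗[k] A) ≃ₐc[R'] MonoidAlgebra R' M) :
    GLSpan K (K ⊗[L] (L ⊗[k] A)) := by
  have h1 : GLSpan R' (R' ⊗[L] (L ⊗[k] A)) := glSpan_of_bialgEquiv e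
  exact glSpan_bc h1

theorem main2 (k L K A : Type u) [Field k] [CommRing L] [Algebra k L]
    [Field K] [Algebra L K] [CommRing A] [HopfAlgebra k A]
    (J : Ideal A) [J.IsHopfIdeal k] (h2 : GLSpan K (K ⊗[L] (L ⊗[k] A))) :
    GLSpan K (K ⊗[L] (L ⊗[k] (A ⧸ J))) := by
  let π : A →ₐc[k] A ⧸ J := Bialgebra.Quotient.mkBialgHom J
  let πL : L ⊗[k] A →ₐc[L] L ⊗[k] (A ⧸ J) :=
    Bialgebra.TensorProduct.map (BialgHom.id L L) π
  let πK : K ⊗[L] (L ⊗[k] A) →ₐc[K] K ⊗[L] (L ⊗[k] (A ⧸ J)) :=
    Bialgebra.TensorProduct.map (BialgHom.id K K) πL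
  have hπ : Function.Surjective π := Ideal.Quotient.mk_surjective
  have hπL : Function.Surjective πL := by
    show Function.Surjective (TensorProduct.map (LinearMap.id : L →ₗ[k] L) (π : A →ₗ[k] A ⧸ J))
    exact TensorProduct.map_surjective Function.surjective_id hπ
  have hπK : Function.Surjective πK := by
    show Function.Surjective (TensorProduct.map (LinearMap.id : K →ₗ[L] K)
      ((πL : L ⊗[k] A →ₗ[L] L ⊗[k] (A ⧸ J))))
    exact TensorProduct.map_surjective Function.surjective_id hπL
  exact glSpan_of_surjective (K := K) (C := K ⊗[L] (L ⊗[k] A))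
    (C' := K ⊗[L] (L ⊗[k] (A ⧸ J))) πK hπK h2

theorem main (k L R' K A : Type u) [Field k] [CommRing L] [Algebra k L] [CommRing R']
    [Algebra L R'] [Field K] [Algebra L K] [Algebra R' K] [IsScalarTower L R' K] [CommRing A]
    [HopfAlgebra k A] (J : Ideal A) [J.IsHopfIdeal k] (M : Type u) [CommGroup M]
    (e : R' ⊗[L] (L ⊗[k] A) ≃ₐc[R'] MonoidAlgebra R' M) :
    IsDiag K (K ⊗[L] (L ⊗[k] (A ⧸ J))) :=
  exists_bialgEquiv_of_glSpan (K := K) (C := K ⊗[L] (L ⊗[k] (A ⧸ J)))
    (main2 k L K A J (main1 k L R' K A M e))

/-- Case of a group of multiplicative type, assertion on the subgroup; G is taken of finite type, the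
case the printed proof treats in full before a limit argument: Let k be a field, G = Spec A a
k-group of multiplicative type and of finite type, and H = Spec (A/J) a closed subgroup scheme of G
(J a Hopf ideal). Then H is of multiplicative type. (Affine group schemes over an affine base are
taken in Hopf-algebra form; base change is the tensor product; a homomorphism of groups Spec A ⟶
Spec C is a bialgebra map C → A.) -/
theorem result (k : Type u) [Field k] (A : Type u) [CommRing A] [HopfAlgebra k A]
    (hft : Algebra.FiniteType k A) (h : IsMultType k A) (J : Ideal A) [J.IsHopfIdeal k] :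
    IsMultType k (A ⧸ J) := by
  obtain ⟨s, hs, hall⟩ := h
  -- a nonzero member of the cover
  obtain ⟨f, hfs, hf⟩ : ∃ f ∈ s, f ≠ 0 := by
    by_contra hcon
    push Not at hcon
    have : Ideal.span s ≤ (⊥ : Ideal k) := by
      rw [Ideal.span_le]
      intro x hx
      rw [hcon x hx]; exact Submodule.zero_mem _
    rw [hs] at this
    exact absurd (this (Submodule.mem_top (x := (1 : k)))) (by simp)
  obtain ⟨R', _, _, hff, M, _, ⟨e⟩⟩ := hall f hfs
  -- nontriviality
  have hle : Submonoid.powers f ≤ IsUnit.submonoid k := by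
    rintro x ⟨n, rfl⟩
    exact (IsUnit.mk0 f hf).pow n
  haveI : Nontrivial (Localization.Away f) :=
    (IsLocalization.atUnits k (Submonoid.powers f) (S := Localization.Away f) hle).injective.nontrivial
  haveI : Nontrivial R' := (TensorProduct.lid (Localization.Away f) R').symm.toEquiv.nontrivial
  obtain ⟨m, hm⟩ := Ideal.exists_maximal R'
  letI : Field (R' ⧸ m) := Ideal.Quotient.field m
  refine ⟨{f}, ?_, ?_⟩
  · rw [Ideal.span_singleton_eq_top]; exact IsUnit.mk0 f hf
  · intro f' hf'
    rw [Set.mem_singleton_iff] at hf'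
    subst hf'
    exact ⟨R' ⧸ m, inferInstance, inferInstance, faithfullyFlat_of_unit k f' hf (R' ⧸ m),
      main k (Localization.Away f') R' (R' ⧸ m) A J M e⟩

end Groth.Agent.S5244
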