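import Groth.Statements.S5249
import Groth.Agent.Lib.Helper14.MTFix4

set_option autoImplicit false
open CategoryTheory MonoidalCategory CartesianMonoidalCategory MonObj GrpObj AlgebraicGeometry
universe u
open SGA3x

namespace Groth.Agent.S5249

open Groth.Agent.Lib.Helper14 in


/-- Let G be an S-group smooth and affine over S, i : H ⟶ G a subgroup scheme of multiplicative type (H
of multiplicative type and of finite type), j : Z ⟶ G the centralizer and k : N ⟶ G the normalizer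
of H in G. Then Z ⟶ G factors through N by a morphism which is an open and closed immersion: the
centralizer is an open and closed subgroup scheme of the normalizer. -/
theorem result {S : Scheme.{u}} (H G Z N : Over S) [GrpObj H] [GrpObj G] [GrpObj Z] [GrpObj N]
    (hH : SGA3x.IsMultTypeFT H) (hG : Smooth G.hom) (hGa : IsAffineHom G.hom) (i : H ⟶ G) [IsMonHom i] [Mono i]
    (j : Z ⟶ G) (k : N ⟶ G) (hj : Red.IsCentralizerOf i j) (hk : Red.IsNormalizerOf i k) :
    ∃ f : Z ⟶ N, f ≫ k = j ∧ IsOpenImmersion f.left ∧ IsClosedImmersion f.left := by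
  obtain ⟨hjm, hjmono, hjc⟩ := hj
  obtain ⟨hkm, hkmono, hkc⟩ := hk
  haveI := hjm
  haveI := hjmono
  haveI := hkm
  haveI := hkmono
  have hcomm : ∀ (X' : Over S) (x : X' ⟶ Z) (h : X' ⟶ H),
      (x ≫ j) * (h ≫ i) = (h ≫ i) * (x ≫ j) :=
    (hjc Z j).mp ⟨𝟙 Z, Category.id_comp j⟩
  obtain ⟨f, hf⟩ : ∃ f : Z ⟶ N, f ≫ k = j := by
    rw [hkc Z j]
    intro X' x h
    refine ⟨⟨h, ?_⟩, ⟨h, ?_⟩⟩
    · rw [hcomm, mul_inv_cancel_right]
    · rw [_root_.mul_assoc, ← hcomm, inv_mul_cancel_left]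
  obtain ⟨n', hn'⟩ : ∃ n' : N ⊗ H ⟶ H,
      (fst N H ≫ k) * (snd N H ≫ i) * (fst N H ≫ k)⁻¹ = n' ≫ i := by
    have h1 := ((hkc N k).mp ⟨𝟙 N, Category.id_comp k⟩ (N ⊗ H) (fst N H) (snd N H)).1
    obtain ⟨h', hh'⟩ := h1
    exact ⟨h', hh'⟩
  have key : ∀ (Y : Over S) (n : Y ⟶ N) (h : Y ⟶ H),
      (lift n h ≫ n') ≫ i = (n ≫ k) * (h ≫ i) * (n ≫ k)⁻¹ := by
    intro Y n h
    rw [Category.assoc, ← hn', MonObj.comp_mul, MonObj.comp_mul, GrpObj.comp_inv, lift_fst_assoc,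
      lift_snd_assoc]
  have hmul : ∀ (Y : Over S) (n : Y ⟶ N) (h h' : Y ⟶ H),
      lift n (h * h') ≫ n' = (lift n h ≫ n') * (lift n h' ≫ n') := by
    intro Y n h h'
    rw [← cancel_mono i, key, MonObj.mul_comp, MonObj.mul_comp, key, key]
    simp only [_root_.mul_assoc, inv_mul_cancel_left]
  obtain ⟨W, hWc, hW⟩ := MTFix4.exists_fixOpens n' hmul hH
  have hA3 : ∀ (X : Over S) (n : X ⟶ N), MTFix2.TrivS n' n ↔ ∃ z : X ⟶ Z, z ≫ f = n := by
    intro X n
    constructor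
    · intro h
      have h0 : ∃ z : X ⟶ Z, z ≫ j = n ≫ k := by
        rw [hjc X (n ≫ k)]
        intro X' x h'
        have h1 := key X' (x ≫ n) h'
        rw [h X' x h', Category.assoc] at h1
        have h2 : (x ≫ n ≫ k) * (h' ≫ i) * (x ≫ n ≫ k)⁻¹ * (x ≫ n ≫ k) =
            (h' ≫ i) * (x ≫ n ≫ k) := by rw [← h1]
        rwa [inv_mul_cancel_right] at h2
      obtain ⟨z, hz⟩ := h0
      exact ⟨z, by rw [← cancel_mono k, Category.assoc, hf, hz]⟩
    · rintro ⟨z, rfl⟩ X' x h'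
      rw [← cancel_mono i, key]
      have h1 := hcomm X' (x ≫ z) h'
      have h2 : (x ≫ z ≫ f) ≫ k = (x ≫ z) ≫ j := by
        simp only [Category.assoc, hf]
      rw [h2, h1, mul_inv_cancel_right]
  have hfW : Set.range f.left ⊆ (W : Set N.left) :=
    (hW Z f).mp ((hA3 Z f).mpr ⟨𝟙 Z, Category.id_comp f⟩)
  let NW : Over S := Over.mk (W.ι ≫ N.hom)
  let ιW : NW ⟶ N := Over.homMk W.ι rfl
  have hιW : MTFix2.TrivS n' ιW := by
    rw [hW NW ιW]
    show Set.range W.ι ⊆ _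
    rw [Scheme.Opens.range_ι]
  obtain ⟨g, hg⟩ := (hA3 NW ιW).mp hιW
  have hrange : Set.range f.left ⊆ Set.range W.ι := by
    rw [Scheme.Opens.range_ι]
    exact hfW
  let f₀ : Z.left ⟶ (W : Scheme.{u}) := IsOpenImmersion.lift W.ι f.left hrange
  have hf₀ : f₀ ≫ W.ι = f.left := IsOpenImmersion.lift_fac _ _ _
  have hgl : g.left ≫ f.left = W.ι := congrArg (fun m => m.left) hg
  have h1 : g.left ≫ f₀ = 𝟙 _ := by
    rw [← cancel_mono W.ι, Category.assoc, hf₀, hgl, Category.id_comp]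
  haveI : Mono (f ≫ k) := by
    rw [hf]
    infer_instance
  haveI : Mono f := mono_of_mono f k
  haveI : Mono f.left := inferInstance
  have h2 : f₀ ≫ g.left = 𝟙 _ := by
    rw [← cancel_mono f.left, Category.assoc, hgl, hf₀, Category.id_comp]
  haveI : IsIso f₀ := ⟨⟨g.left, h2, h1⟩⟩
  have hopen : IsOpenImmersion f.left := by
    rw [← hf₀]
    infer_instance
  refine ⟨f, hf, hopen, ?_⟩
  have hr : Set.range f.left = (W : Set N.left) := by
    apply Set.Subset.antisymm hfW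
    intro y hy
    have h5 := congrArg (fun m : (W : Scheme.{u}) ⟶ N.left => m ⟨y, hy⟩) hgl
    exact ⟨g.left ⟨y, hy⟩, h5⟩
  haveI := hopen
  exact IsClosedImmersion.of_isPreimmersion f.left (hr ▸ hWc)

end Groth.Agent.S5249
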