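import Groth.Statements.S5270
import Mathlib.RingTheory.Flat.FaithfullyFlat.Algebra
import Mathlib.RingTheory.AdicCompletion.Noetherian
import Mathlib.LinearAlgebra.TensorProduct.Quotient

set_option autoImplicit false
universe u
open TensorProduct SGA3b
open SGA3b

namespace Groth.Agent.S5270

/-- Injectivity of the map to formal homomorphisms. Let A be a Noetherian ring, separated and complete
for the I-adic topology, H = Spec B an isotrivial A-group of multiplicative type and G = Spec C an
affine A-group. If two homomorphisms H ⟶ G, given by bialgebra maps φ, ψ : C → B, have the same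
reduction modulo I^(n+1) for every n ≥ 0, then φ = ψ. (Affine group schemes over an affine base are
taken in Hopf-algebra form; base change is the tensor product; a homomorphism of groups Spec A ⟶
Spec C is a bialgebra map C → A.) -/
theorem result (A : Type u) [CommRing A] [IsNoetherianRing A] (I : Ideal A) [IsAdicComplete I A]
    (B : Type u) [CommRing B] [HopfAlgebra A B] (hH : IsIsotrivial A B)
    (C : Type u) [CommRing C] [HopfAlgebra A C] (φ ψ : C →ₐc[A] B)
    (h : ∀ (n : ℕ) (c : C), (1 : A ⧸ I ^ (n + 1)) ⊗ₜ[A] (φ c) = (1 : A ⧸ I ^ (n + 1)) ⊗ₜ[A] (ψ c)) :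
    φ = ψ := by
  classical
  obtain ⟨R', _, _, _hetale, hfin, hff, M, _, ⟨e⟩⟩ := hH
  -- R' is I-adically separated
  have hR'haus : IsHausdorff I R' := IsHausdorff.of_le_jacobson I R' (IsAdicComplete.le_jacobson_bot I)
  -- the A-linear map B → R'[M]
  let L : B →ₗ[A] MonoidAlgebra R' M :=
    ((e.toCoalgEquiv.toLinearEquiv : (R' ⊗[A] B) →ₗ[R'] MonoidAlgebra R' M).restrictScalars A) ∘ₗ
      (TensorProduct.mk A R' B 1)
  have hLinj : Function.Injective L := by
    intro x y hxy
    have h1 : e ((1 : R') ⊗ₜ[A] x) = e ((1 : R') ⊗ₜ[A] y) := hxy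
    exact Module.FaithfullyFlat.tensorProduct_mk_injective (A := A) (B := R') B (e.injective h1)
  -- coefficient maps
  have hcoef : ∀ (n : ℕ) (x : MonoidAlgebra R' M),
      x ∈ (I ^ n • ⊤ : Submodule A (MonoidAlgebra R' M)) →
      ∀ m : M, x.coeff m ∈ (I ^ n • ⊤ : Submodule A R') := by
    intro n x hx m
    refine Submodule.smul_induction_on (p := fun x : MonoidAlgebra R' M =>
      x.coeff m ∈ (I ^ n • ⊤ : Submodule A R')) hx ?_ ?_
    · intro a ha y _
      rw [MonoidAlgebra.coeff_smul_apply]
      exact Submodule.smul_mem_smul ha Submodule.mem_top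
    · intro y z hy hz
      rw [MonoidAlgebra.coeff_add, Finsupp.add_apply]
      exact Submodule.add_mem _ hy hz
  apply DFunLike.ext
  intro c
  rw [← sub_eq_zero]
  apply hLinj
  rw [map_zero]
  apply MonoidAlgebra.coeff_injective
  ext m
  rw [MonoidAlgebra.coeff_zero, Finsupp.zero_apply]
  apply IsHausdorff.haus hR'haus
  intro n
  rw [SModEq.zero]
  apply hcoef
  -- φ c - ψ c ∈ I^n B
  have hmem : φ c - ψ c ∈ (I ^ (n + 1) • ⊤ : Submodule A B) := by
    have h1 := h n c
    have h2 : (1 : A ⧸ I ^ (n + 1)) ⊗ₜ[A] (φ c - ψ c) = 0 := by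
      rw [TensorProduct.tmul_sub, h1, sub_self]
    have h3 := congrArg (TensorProduct.quotTensorEquivQuotSMul B (I ^ (n + 1))) h2
    rw [← map_one (Ideal.Quotient.mk (I ^ (n + 1))),
      TensorProduct.quotTensorEquivQuotSMul_mk_tmul, map_zero, one_smul,
      Submodule.Quotient.mk_eq_zero] at h3
    exact h3
  have hmem' : φ c - ψ c ∈ (I ^ n • ⊤ : Submodule A B) :=
    Submodule.smul_mono_left (Ideal.pow_le_pow_right (Nat.le_succ n)) hmem
  exact Submodule.smul_top_le_comap_smul_top (I ^ n) L hmem'

end Groth.Agent.S5270
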