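import Groth.Statements.S5278
import Mathlib

set_option autoImplicit false
open CategoryTheory AlgebraicGeometry
universe u
open SGA3x

namespace Groth.Agent.S5278

section Aux

/-- topological core (argument of helper6's `P1Fin.exists_mem_connectedComponent`) -/
theorem exists_mem_connectedComponent_of_open_closed {A B : Type*} [TopologicalSpace A]
    [TopologicalSpace B] [PreconnectedSpace B] (f : A → B) (hopen : IsOpenMap f)
    (hclosed : IsClosedMap f) (p : B) (hfin : (f ⁻¹' {p}).Finite) (x : A) :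
    ∃ y ∈ connectedComponent x, f y = p := by
  classical
  -- nonempty clopen subsets surject
  have hsurj : ∀ W : Set A, IsClopen W → W.Nonempty → ∃ y ∈ W, f y = p := by
    intro W hW hne
    have h1 : IsClopen (f '' W) := ⟨hclosed _ hW.isClosed, hopen _ hW.isOpen⟩
    have h2 : f '' W = Set.univ := h1.eq_univ (hne.image _)
    have h3 : p ∈ f '' W := by rw [h2]; trivial
    obtain ⟨y, hy, hyp⟩ := h3
    exact ⟨y, hy, hyp⟩
  -- a clopen neighbourhood of `x` meeting the fibre over `p` in as few points as possible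
  let n : Set A → ℕ := fun W => (W ∩ f ⁻¹' {p}).ncard
  have hex : ∃ k, ∃ W : Set A, IsClopen W ∧ x ∈ W ∧ n W = k := ⟨_, Set.univ, isClopen_univ, trivial, rfl⟩
  obtain ⟨W₀, hW₀, hxW₀, hnW₀⟩ := Nat.find_spec hex
  have hmin : ∀ W : Set A, IsClopen W → x ∈ W → n W₀ ≤ n W := by
    intro W hW hxW
    rw [hnW₀]
    exact Nat.find_min' hex ⟨W, hW, hxW, rfl⟩
  -- splitting off a clopen piece not containing `x` is impossible
  have key : ∀ W' W'' : Set A, IsClopen W' → IsClopen W'' → W' ⊆ W₀ → W'' ⊆ W₀ → Disjoint W' W'' →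
      x ∈ W' → W'' = ∅ := by
    intro W' W'' hW' hW'' h1 h2 hdisj hxW'
    by_contra hne
    obtain ⟨y, hyW'', hyp⟩ := hsurj W'' hW'' (Set.nonempty_iff_ne_empty.2 hne)
    have hlt : n W' < n W₀ := by
      refine Set.ncard_lt_ncard ⟨Set.inter_subset_inter_left _ h1, fun hsub => ?_⟩
        (hfin.subset Set.inter_subset_right)
      have hy' : y ∈ W' ∩ f ⁻¹' {p} := hsub ⟨h2 hyW'', hyp⟩
      exact Set.disjoint_left.1 hdisj hy'.1 hyW''
    exact absurd (hmin W' hW' hxW') (not_le.2 hlt)
  have hpre : _root_.IsPreconnected W₀ := by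
    rw [isPreconnected_iff_subset_of_disjoint]
    intro u v hu hv huv hdisj
    have hc1 : IsClopen (W₀ ∩ u) := by
      refine ⟨?_, hW₀.isOpen.inter hu⟩
      have : W₀ ∩ u = W₀ ∩ vᶜ := by
        ext z
        constructor
        · rintro ⟨hz, hzu⟩
          exact ⟨hz, fun hzv => (Set.eq_empty_iff_forall_notMem.1 hdisj z) ⟨hz, hzu, hzv⟩⟩
        · rintro ⟨hz, hzv⟩
          exact ⟨hz, (huv hz).resolve_right hzv⟩
      rw [this]
      exact hW₀.isClosed.inter hv.isClosed_compl
    have hc2 : IsClopen (W₀ ∩ v) := by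
      refine ⟨?_, hW₀.isOpen.inter hv⟩
      have : W₀ ∩ v = W₀ ∩ uᶜ := by
        ext z
        constructor
        · rintro ⟨hz, hzv⟩
          exact ⟨hz, fun hzu => (Set.eq_empty_iff_forall_notMem.1 hdisj z) ⟨hz, hzu, hzv⟩⟩
        · rintro ⟨hz, hzu⟩
          exact ⟨hz, (huv hz).resolve_left hzu⟩
      rw [this]
      exact hW₀.isClosed.inter hu.isClosed_compl
    have hd : Disjoint (W₀ ∩ u) (W₀ ∩ v) := by
      rw [Set.disjoint_left]
      rintro z ⟨hz, hzu⟩ ⟨-, hzv⟩
      exact (Set.eq_empty_iff_forall_notMem.1 hdisj z) ⟨hz, hzu, hzv⟩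
    rcases huv hxW₀ with hxu | hxv
    · left
      have h0 := key (W₀ ∩ u) (W₀ ∩ v) hc1 hc2 Set.inter_subset_left Set.inter_subset_left hd ⟨hxW₀, hxu⟩
      intro z hz
      rcases huv hz with hzu | hzv
      · exact hzu
      · exact absurd (show z ∈ W₀ ∩ v from ⟨hz, hzv⟩) (by rw [h0]; exact Set.notMem_empty z)
    · right
      have h0 := key (W₀ ∩ v) (W₀ ∩ u) hc2 hc1 Set.inter_subset_left Set.inter_subset_left hd.symm
        ⟨hxW₀, hxv⟩
      intro z hz
      rcases huv hz with hzu | hzv
      · exact absurd (show z ∈ W₀ ∩ u from ⟨hz, hzu⟩) (by rw [h0]; exact Set.notMem_empty z)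
      · exact hzv
  obtain ⟨y, hyW₀, hyp⟩ := hsurj W₀ hW₀ ⟨x, hxW₀⟩
  exact ⟨y, hpre.subset_connectedComponent hxW₀ hyW₀, hyp⟩


theorem main {X X' : Scheme.{u}} [ConnectedSpace X] (f : X' ⟶ X)
    [IsFinite f] [Etale f] (x : X) (c : X') :
    ∃ x' : X', f.base x' = x ∧ x' ∈ connectedComponent c := by
  obtain ⟨y, hy, hyx⟩ := exists_mem_connectedComponent_of_open_closed (fun z : X' => f z)
    f.isOpenMap f.isClosedMap x (f.finite_preimage_singleton x) c
  exact ⟨y, hyx, hy⟩

end Aux

/-- Let X be a connected scheme, f : X' ⟶ X a finite etale morphism and x a point of X. Then every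
connected component of X' meets the fibre of f over x; equivalently the map from the connected
components of the fibre (or of the geometric fibre) to those of X' is surjective. -/
theorem result {X X' : Scheme.{u}} [ConnectedSpace X] (f : X' ⟶ X)
    [IsFinite f] [Etale f] (x : X) (c : X') :
    ∃ x' : X', f.base x' = x ∧ x' ∈ connectedComponent c := by
  exact main f x c

end Groth.Agent.S5278
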