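import Groth.Statements.S5290
import Groth.Agent.Lib.Helper14.NilSubB

set_option autoImplicit false
open CategoryTheory MonoidalCategory CartesianMonoidalCategory MonObj GrpObj AlgebraicGeometry
universe u
open SGA3x

namespace Groth.Agent.S5290

open Groth.Agent.Lib.Helper14

/-- a factorization of the base changes to a subscheme gives a pointwise factorization -/
theorem h0_of_bc {S S₀ : Scheme.{u}} (i₀ : S₀ ⟶ S) {H H' G : Over S} (i : H ⟶ G) (i' : H' ⟶ G)
    (ψ : Red.bc i₀ H ⟶ Red.bc i₀ H')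
    (hψ : ψ ≫ (Over.pullback i₀).map i' = (Over.pullback i₀).map i)
    (Y : Over S) (p : Y ⟶ Over.mk i₀) (h : Y ⟶ H) : ∃ h' : Y ⟶ H', h' ≫ i' = h ≫ i := by
  let Y₀ : Over S₀ := Over.mk p.left
  let e : (Over.map i₀).obj Y₀ ≅ Y := Over.isoMk (Iso.refl _) (by
    simp only [Iso.refl_hom, Category.id_comp]
    exact (Over.w p).symm)
  let adj := Over.mapPullbackAdj i₀
  let v : Y₀ ⟶ Red.bc i₀ H := adj.homEquiv _ _ (e.hom ≫ h)
  have hv : MTTransport.ψ adj v = e.hom ≫ h := (adj.homEquiv _ _).symm_apply_apply _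
  refine ⟨e.inv ≫ MTTransport.ψ adj (v ≫ ψ), ?_⟩
  rw [Category.assoc, ← MTTransport.ψ_comp_map, Category.assoc, hψ, MTTransport.ψ_comp_map, hv,
    Category.assoc, Iso.inv_hom_id_assoc]

theorem locTriv_of_locally {S : Scheme.{u}} (H : Over S) [GrpObj H]
    (hH : TwC.Locally S TwC.Topology.fpqc (fun S' f => ∃ (M : Type) (_ : AddCommGroup M),
      Nonempty (Grp.mk (Red.bc f H) ≅ Grp.mk (Red.DS S' M)))) :
    MTHom5.LocTriv H (fun _ _ => True) := by
  obtain ⟨S', f, hfl, hsj, hcov, hloc⟩ := hH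
  refine ⟨S', f, hfl, hsj, hcov, fun s' => ?_⟩
  obtain ⟨U, hU, M, iM, hM⟩ := hloc s'
  exact ⟨U, hU, M, iM, trivial, hM⟩


/-- Let S = Spec R be affine, J a nilpotent ideal of R and S₀ = Spec (R/J); let G be an arbitrary
S-group and i : H ⟶ G, i' : H' ⟶ G two sub-group-schemes (homomorphisms which are immersions) of
multiplicative type (fpqc-locally on S isomorphic, as groups, to diagonalisable groups D(M), M
allowed to vary and taken in Type 0), with H central in G (every point of G commutes with every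
point of H). If H ×_S S₀ and H' ×_S S₀ coincide as subgroups of G ×_S S₀, then H = H' as subgroups
of G: there is an isomorphism H ≅ H' compatible with i and i'. -/
theorem result {R : Type u} [CommRing R] (J : Ideal R) (hJ : IsNilpotent J)
    (G H H' : Over (Spec (CommRingCat.of R))) [GrpObj G] [GrpObj H] [GrpObj H']
    (hH : TwC.Locally (Spec (CommRingCat.of R)) TwC.Topology.fpqc (fun S' f => ∃ (M : Type) (_ : AddCommGroup M), Nonempty (Grp.mk (Red.bc f H) ≅ Grp.mk (Red.DS S' M))))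
    (hH' : TwC.Locally (Spec (CommRingCat.of R)) TwC.Topology.fpqc (fun S' f => ∃ (M : Type) (_ : AddCommGroup M), Nonempty (Grp.mk (Red.bc f H') ≅ Grp.mk (Red.DS S' M))))
    (i : H ⟶ G) [IsMonHom i] [IsImmersion i.left] (i' : H' ⟶ G) [IsMonHom i'] [IsImmersion i'.left]
    (hc : ∀ (X : Over (Spec (CommRingCat.of R))) (g : X ⟶ G) (h : X ⟶ H), g * (h ≫ i) = (h ≫ i) * g)
    (h0 : ∃ ψ : Red.bc (Spec.map (CommRingCat.ofHom (Ideal.Quotient.mk J))) H ≅ Red.bc (Spec.map (CommRingCat.ofHom (Ideal.Quotient.mk J))) H',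
      ψ.hom ≫ (Over.pullback (Spec.map (CommRingCat.ofHom (Ideal.Quotient.mk J)))).map i' = (Over.pullback (Spec.map (CommRingCat.ofHom (Ideal.Quotient.mk J)))).map i) :
    ∃ φ : H ≅ H', φ.hom ≫ i' = i := by
  obtain ⟨ψ, hψ⟩ := h0
  have hL := locTriv_of_locally H hH
  have hL' := locTriv_of_locally H' hH'
  haveI : Mono i.left := inferInstance
  haveI : Mono i'.left := inferInstance
  haveI : Mono i := Over.mono_of_mono_left i
  haveI : Mono i' := Over.mono_of_mono_left i'
  have hψ' : ψ.inv ≫ (Over.pullback (Spec.map (CommRingCat.ofHom (Ideal.Quotient.mk J)))).map i =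
      (Over.pullback (Spec.map (CommRingCat.ofHom (Ideal.Quotient.mk J)))).map i' := by
    rw [← hψ, Iso.inv_hom_id_assoc]
  obtain ⟨φ, hφ⟩ := NilSubB.factor J hJ G H H' i i' (Or.inl hc)
    (fun Y p h => h0_of_bc _ i i' ψ.hom hψ Y p h) hL hL'
  obtain ⟨φ', hφ'⟩ := NilSubB.factor J hJ G H' H i' i (Or.inr hc)
    (fun Y p h => h0_of_bc _ i' i ψ.inv hψ' Y p h) hL' hL
  refine ⟨⟨φ, φ', ?_, ?_⟩, hφ⟩
  · rw [← cancel_mono i, Category.assoc, hφ', hφ, Category.id_comp]
  · rw [← cancel_mono i', Category.assoc, hφ, hφ', Category.id_comp]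

end Groth.Agent.S5290
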