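import Groth.Statements.S5307
import Groth.Agent.Lib.Helper14.KL6

set_option backward.isDefEq.respectTransparency false
set_option maxHeartbeats 800000
set_option synthInstance.maxHeartbeats 400000

set_option autoImplicit false
open CategoryTheory MonoidalCategory CartesianMonoidalCategory MonObj GrpObj AlgebraicGeometry
universe u
open SGA3x

namespace Groth.Agent.S5307




/-- The case of an fpqc covering. Let G be an S-group separated and of finite presentation over S
(locally of finite presentation, quasi-compact, quasi-separated), π : S' ⟶ S a flat surjective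
morphism which is an fpqc covering (every affine open of S is the image of a quasi-compact open of
S') with geometrically connected fibres, and j' : H' ⟶ G ×_S S' a central sub-group-scheme (a
homomorphism which is an immersion, every point of G ×_S S' commuting with every point of H') of
multiplicative type and of finite type. Then there is a sub-group-scheme j : H ⟶ G of multiplicative
type and of finite type with H ×_S S' = H' as subgroups of G ×_S S' (an isomorphism compatible with
the inclusions), and any two such subgroups of G coincide (are isomorphic compatibly with their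
inclusions). -/
theorem result {S S' : Scheme.{u}} (G : Over S) [GrpObj G]
    [IsSeparated G.hom] [LocallyOfFinitePresentation G.hom] [QuasiCompact G.hom] [QuasiSeparated G.hom]
    (π : S' ⟶ S) [Flat π] [Surjective π]
    (hcov : ∀ V : S.Opens, IsAffineOpen V → ∃ W : S'.Opens, IsCompact (W : Set S') ∧ π.base '' (W : Set S') = (V : Set S))
    (hconn : ∀ s : S, ConnectedSpace ↥(Limits.pullback π (Red.geomPt s)))
    (H' : Over S') [GrpObj H'] (hH' : SGA3x.IsMultTypeFT H') (j' : H' ⟶ Red.bc π G) [IsMonHom j'] [IsImmersion j'.left]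
    (hc : ∀ (X : Over S') (g : X ⟶ Red.bc π G) (h : X ⟶ H'), g * (h ≫ j') = (h ≫ j') * g) :
    (∃ (H : Over S) (_ : GrpObj H) (j : H ⟶ G), IsMonHom j ∧ IsImmersion j.left ∧ SGA3x.IsMultTypeFT H ∧
      ∃ φ : Red.bc π H ≅ H', φ.hom ≫ j' = (Over.pullback π).map j) ∧
    (∀ (H₁ H₂ : Over S) [GrpObj H₁] [GrpObj H₂] (j₁ : H₁ ⟶ G) (j₂ : H₂ ⟶ G) [IsMonHom j₁] [IsMonHom j₂]
      [IsImmersion j₁.left] [IsImmersion j₂.left],
      (∃ φ₁ : Red.bc π H₁ ≅ H', φ₁.hom ≫ j' = (Over.pullback π).map j₁) →
      (∃ φ₂ : Red.bc π H₂ ≅ H', φ₂.hom ≫ j' = (Over.pullback π).map j₂) →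
      ∃ ψ : H₁ ≅ H₂, ψ.hom ≫ j₂ = j₁) := by
  haveI hgc : GeometricallyConnected π :=
    Groth.Agent.Lib.Helper14.CentDescA.geomConn_of_geomFibres π hconn
  haveI hmono : Mono j' := by
    haveI : Mono j'.left := inferInstance
    exact Over.mono_of_mono_left j'
  have hπ : Groth.Agent.Lib.Helper4.FpqcCov.IsCov π := ⟨inferInstance, inferInstance, hcov⟩
  constructor
  · have hT := fun (T : Scheme.{u}) (x₀ x₁ : T ⟶ S') (h : x₀ ≫ π = x₁ ≫ π) (v : T ⟶ H'.left)
        (hv : v ≫ H'.hom = x₀) =>
      Groth.Agent.Lib.Helper14.KL6.exists_transport G π H' hH' j' hc x₀ x₁ h v hv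
    obtain ⟨Z₀, z, e, he⟩ := Groth.Agent.Lib.Helper14.KL6.exists_descent π G H' j' hT hcov hH'
    have hf := Groth.Agent.Lib.Helper9.RC.mem_fpqc_of_cov π hcov
    haveI hmz : Mono z := Groth.Agent.Lib.Helper9.RC.mono_z π G H' j' Z₀ z e he
    have hmul := Groth.Agent.Lib.Helper9.RC.hmul π G H' j' Z₀ z e he hf
    have hone := Groth.Agent.Lib.Helper9.RC.hone π G H' j' Z₀ z e he hf
    have hinv := Groth.Agent.Lib.Helper9.RC.hinv π G H' j' Z₀ z e he hf
    letI iZ₀ : GrpObj Z₀ := Groth.Agent.Lib.Helper9.RC.grpObj z hmul hone hinv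
    haveI hmz' : IsMonHom z := Groth.Agent.Lib.Helper9.RC.isMonHom_z z hmul hone hinv
    haveI : IsAffineHom H'.hom := Groth.Agent.Lib.Helper14.MTGlueB.isAffineHom_of_locTriv H' _ hH'
    haveI : QuasiCompact j'.left := by
      haveI : QuasiCompact (j'.left ≫ (Red.bc π G).hom) := by
        rw [Over.w j']; infer_instance
      haveI : QuasiSeparated (Red.bc π G).hom :=
        inferInstanceAs (QuasiSeparated (Limits.pullback.snd G.hom π))
      exact QuasiCompact.of_comp j'.left (Red.bc π G).hom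
    exact ⟨Z₀, iZ₀, z, hmz', Groth.Agent.Lib.Helper14.KL6.isImmersion_desc π hπ G Z₀ z H' j' e he,
      Groth.Agent.Lib.Helper9.RC.multType_Z₀ π hcov G H' j' Z₀ z e he hH', e, he⟩
  · intro H₁ H₂ _ _ j₁ j₂ _ _ _ _ h1 h2
    obtain ⟨φ₁, h₁⟩ := h1
    obtain ⟨φ₂, h₂⟩ := h2
    haveI : Mono j₁ := by
      haveI : Mono j₁.left := inferInstance
      exact Over.mono_of_mono_left j₁
    haveI : Mono j₂ := by
      haveI : Mono j₂.left := inferInstance
      exact Over.mono_of_mono_left j₂
    obtain ⟨p, hp⟩ := Groth.Agent.Lib.Helper14.NilSubB.fac_of_cov π hπ j₁ j₂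
      ⟨φ₁.hom ≫ φ₂.inv, by rw [Category.assoc, ← h₂, Iso.inv_hom_id_assoc, h₁]⟩
    obtain ⟨q, hq⟩ := Groth.Agent.Lib.Helper14.NilSubB.fac_of_cov π hπ j₂ j₁
      ⟨φ₂.hom ≫ φ₁.inv, by rw [Category.assoc, ← h₁, Iso.inv_hom_id_assoc, h₂]⟩
    exact Groth.Agent.Lib.Helper14.KL4.iso_of_fac j₁ j₂ p q hp hq

end Groth.Agent.S5307
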