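import Groth.Statements.S5308
import Groth.Agent.Lib.Helper14.TwCFin

set_option autoImplicit false
open CategoryTheory MonoidalCategory CartesianMonoidalCategory MonObj GrpObj AlgebraicGeometry
universe u
open SGA3x

namespace Groth.Agent.S5308

open CategoryTheory.Limits

lemma quasiCompact_of_comp_surj {X Y Z : Scheme.{u}} (p : X ⟶ Y) (g : Y ⟶ Z)
    (hp : Function.Surjective p) [QuasiCompact (p ≫ g)] : QuasiCompact g := by
  constructor
  intro U hU hUc
  have h1 : IsCompact ((p ≫ g) ⁻¹' U) := QuasiCompact.isCompact_preimage (f := p ≫ g) U hU hUc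
  have h2 : g ⁻¹' U = p '' ((p ≫ g) ⁻¹' U) := by
    ext y
    constructor
    · intro hy
      obtain ⟨x, rfl⟩ := hp y
      exact ⟨x, by simpa using hy, rfl⟩
    · rintro ⟨x, hx, rfl⟩
      simpa using hx
  rw [h2]
  exact h1.image p.continuous

lemma isClosed_range_sigmaι {I : Type u} (X : I → Scheme.{u}) (i : I) :
    IsClosed (Set.range (Sigma.ι X i)) := by
  rw [← isOpen_compl_iff]
  have : (Set.range (Sigma.ι X i))ᶜ = ⋃ j ∈ {j : I | j ≠ i}, Set.range (Sigma.ι X j) := by
    ext y
    simp only [Set.mem_compl_iff, Set.mem_iUnion, Set.mem_setOf_eq]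
    constructor
    · intro hy
      obtain ⟨j, z, hz⟩ := (sigmaOpenCover X).exists_eq y
      refine ⟨j, ?_, z, hz⟩
      rintro rfl
      exact hy ⟨z, hz⟩
    · rintro ⟨j, hj, z, hz⟩ ⟨z', hz'⟩
      have := disjoint_opensRange_sigmaι X j i hj
      rw [disjoint_iff] at this
      have hm : y ∈ ((Sigma.ι X j).opensRange ⊓ (Sigma.ι X i).opensRange : (∐ X).Opens) :=
        ⟨⟨z, hz⟩, ⟨z', hz'⟩⟩
      rw [this] at hm
      exact hm
  rw [this]
  exact isOpen_biUnion fun j _ => (Sigma.ι X j).isOpenEmbedding.isOpen_range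


/-- (i) ⇒ (ii). Let R be a commutative twisted constant S-group which is isotrivial (it becomes a
constant group over the open and closed pieces of one finite etale surjective S' ⟶ S). Then R is a
union of open and closed subschemes which are quasi-compact, indeed finite, over S: every point of R
has an open and closed neighbourhood U in R with U ⟶ S finite. -/
theorem result {S : Scheme.{u}} (R : Over S) [GrpObj R]
    (hcomm : ∀ (X : Over S) (a b : X ⟶ R), a * b = b * a) (hR : TwC.IsTwConstGrp TwC.Topology.finiteEtale R) (x : R.left) :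
    ∃ U : R.left.Opens, x ∈ U ∧ IsClosed (U : Set R.left) ∧ IsFinite (U.ι ≫ R.hom) := by
  obtain ⟨S', f, hfin, het, hsj, hloc⟩ := hR
  have hfpqc : TwC.IsTwConst TwC.Topology.fpqc R := by
    refine ⟨S', f, inferInstance, hsj, ?_, ?_⟩
    · intro V hV
      refine ⟨f ⁻¹ᵁ V, QuasiCompact.isCompact_preimage (f := f) _ V.isOpen hV.isCompact, ?_⟩
      exact Set.image_preimage_eq _ hsj.surj
    · intro s'
      obtain ⟨U, hU, -, M, _, e, -⟩ := hloc s'
      exact ⟨U, hU, M, ⟨e⟩⟩
  obtain ⟨s', hs'⟩ := hsj.surj (R.hom x)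
  obtain ⟨U, hs'U, hUcl, M, _, e, -⟩ := hloc s'
  obtain ⟨k, hk⟩ : ∃ k : (U : Scheme.{u}) ⟶ S, k = U.ι ≫ f := ⟨_, rfl⟩
  haveI : IsClosedImmersion U.ι := IsClosedImmersion.of_isPreimmersion _ (by
    rw [Scheme.Opens.range_ι]; exact hUcl)
  haveI : IsFinite k := by rw [hk]; infer_instance
  haveI : Etale k := by rw [hk]; infer_instance
  rw [← hk] at e
  obtain ⟨y, hy1, hy2⟩ := Scheme.Pullback.exists_preimage_pullback (f := R.hom) (g := k) x
    ⟨s', hs'U⟩ (by rw [hk]; exact hs'.symm)
  obtain ⟨m, u, hu⟩ := (sigmaOpenCover (fun _ : M => (U : Scheme.{u}))).exists_eq (e.hom.left y)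
  haveI : IsClosedImmersion (Sigma.ι (fun _ : M => (U : Scheme.{u})) m) :=
    IsClosedImmersion.of_isPreimmersion _ (isClosed_range_sigmaι _ m)
  haveI : IsIso e.inv.left := (Over.forget _).map_isIso e.inv
  let j : (U : Scheme.{u}) ⟶ (Red.bc k R).left :=
    Sigma.ι (fun _ : M => (U : Scheme.{u})) m ≫ e.inv.left
  let q : (Red.bc k R).left ⟶ R.left := pullback.fst R.hom k
  haveI : IsFinite q := inferInstanceAs (IsFinite (pullback.fst R.hom k))
  haveI : Etale q := inferInstanceAs (Etale (pullback.fst R.hom k))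
  let g : (U : Scheme.{u}) ⟶ R.left := j ≫ q
  haveI : IsFinite g := inferInstanceAs (IsFinite ((Sigma.ι (fun _ : M => (U : Scheme.{u})) m ≫ e.inv.left) ≫ q))
  haveI : Etale g := inferInstanceAs (Etale ((Sigma.ι (fun _ : M => (U : Scheme.{u})) m ≫ e.inv.left) ≫ q))
  have hjw : j ≫ (Red.bc k R).hom = 𝟙 _ := by
    show (Sigma.ι (fun _ : M => (U : Scheme.{u})) m ≫ e.inv.left) ≫ (Red.bc k R).hom = 𝟙 _
    rw [Category.assoc, Over.w e.inv]
    exact Sigma.ι_desc _ _
  have hgk : g ≫ R.hom = k := by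
    show (j ≫ pullback.fst R.hom k) ≫ R.hom = k
    rw [Category.assoc, pullback.condition, ← Category.assoc]
    have : j ≫ pullback.snd R.hom k = 𝟙 _ := hjw
    rw [this, Category.id_comp]
  let D : R.left.Opens := ⟨Set.range g, g.isOpenMap.isOpen_range⟩
  have hDcl : IsClosed (D : Set R.left) := g.isClosedMap.isClosed_range
  have hxD : x ∈ D := by
    refine ⟨u, ?_⟩
    show q (e.inv.left (Sigma.ι (fun _ : M => (U : Scheme.{u})) m u)) = x
    have hu' : Sigma.ι (fun _ : M => (U : Scheme.{u})) m u = e.hom.left y := hu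
    rw [hu']
    have : e.inv.left (e.hom.left y) = y := by
      have h := congrArg (fun t => t.left) e.hom_inv_id
      simp only [Over.comp_left, Over.id_left] at h
      have h' := congrArg (fun t : (Red.bc k R).left ⟶ (Red.bc k R).left => t y) h
      exact h'
    rw [this]
    exact hy1
  refine ⟨D, hxD, hDcl, ?_⟩
  haveI : IsClosedImmersion D.ι := IsClosedImmersion.of_isPreimmersion _ (by
    rw [Scheme.Opens.range_ι]; exact hDcl)
  have hrange : Set.range g ⊆ Set.range D.ι := by
    rw [Scheme.Opens.range_ι]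
    exact subset_rfl
  let g' : (U : Scheme.{u}) ⟶ (D : Scheme.{u}) := IsOpenImmersion.lift D.ι g hrange
  have hg' : g' ≫ D.ι = g := IsOpenImmersion.lift_fac _ _ _
  have hsurj : Function.Surjective g' := by
    rintro ⟨d, a, rfl⟩
    refine ⟨a, ?_⟩
    apply D.ι.injective
    have := congrArg (fun t : (U : Scheme.{u}) ⟶ R.left => t a) hg'
    simpa using this
  haveI : QuasiCompact (g' ≫ D.ι ≫ R.hom) := by
    rw [← Category.assoc, hg', hgk]
    infer_instance
  haveI : QuasiCompact (D.ι ≫ R.hom) := quasiCompact_of_comp_surj g' _ hsurj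
  exact Groth.Agent.Lib.Helper14.TwCFin.main R hfpqc D.ι

end Groth.Agent.S5308
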