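import Groth.Statements.S5324
import Groth.Agent.Lib.Helper24.NFT.Sep
import Groth.Agent.Lib.Helper24.NFT.Neutral

set_option autoImplicit false
universe u
open CategoryTheory CategoryTheory.Limits MonoidalCategory CartesianMonoidalCategory MonObj GrpObj AlgebraicGeometry
open SGA3

namespace Groth.Agent.S5324

/-- Let G be an S-group scheme whose fibres G_s are locally of finite type over κ(s) and connected. Then
G is quasi-compact over S. -/
theorem result (S : Scheme.{u}) (G : Over S) [GrpObj G]
    (hG : ∀ s : S, LocallyOfFiniteType (G.hom.fiberToSpecResidueField s))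
    (hconn : ∀ s : S, _root_.IsConnected (G.hom.base ⁻¹' {s})) : QuasiCompact G.hom := by
  have hΦ := Groth.Agent.Lib.Helper24.NFT.surjective_selfAct G
  have hirr : ∀ s : S, IsPreirreducible (G.hom.base ⁻¹' {s}) := by
    intro s
    refine Groth.Agent.Lib.Helper24.NFT.isPreirreducible_fibre_of_quasiSeparated
      (Groth.Agent.Lib.Helper4.ActShear2.selfAct G) hΦ s ?_ (hconn s).isPreconnected
    haveI : QuasiSeparatedSpace ↥(Groth.Agent.Lib.Helper24.NFT.fib G s).left :=
      Groth.Agent.Lib.Helper24.NFT.quasiSeparatedSpace_grp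
    exact (quasiSeparatedSpace_congr (G.hom.fiberHomeo s)).1 this
  rw [quasiCompact_iff_forall_isAffineOpen]
  intro S' hS'
  obtain ⟨W, hWc, hWS, hWe⟩ :=
    Groth.Agent.Lib.Helper24.NFT.exists_compact_open_unit (G := G) S' hS'
  refine Groth.Agent.Lib.Helper24.NFT.isCompact_preimage_of_fibres
    (Groth.Agent.Lib.Helper4.ActShear2.selfAct G) hΦ S' hS' (fun x _ => hirr _) W hWc hWS ?_
  intro x hx
  obtain ⟨p, hp⟩ := Groth.Agent.Lib.Helper24.NFT.exists_unit_point (S := S) (G.hom.base x)
  refine ⟨η[G].left.base p, hWe p (by rw [hp]; exact hx), ?_⟩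
  change G.hom.base (η[G].left.base p) = G.hom.base x
  rw [← Scheme.Hom.comp_apply, Over.w η[G], hp]

end Groth.Agent.S5324
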