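import Groth.Statements.S5335
import Mathlib
import Groth.Agent.S1308

set_option autoImplicit false
universe u
open CategoryTheory CategoryTheory.Limits MonoidalCategory CartesianMonoidalCategory MonObj GrpObj AlgebraicGeometry
open SGA3

namespace Groth.Agent.S5335

section helpers
open AlgebraicGeometry CategoryTheory Limits MonoidalCategory


lemma subsingleton_primeSpectrum (A : Type u) [CommRing A] [IsArtinianRing A] [IsLocalRing A] :
    Subsingleton (PrimeSpectrum A) := by
  refine ⟨fun p q => ?_⟩
  have hp : p.asIdeal.IsMaximal := IsArtinianRing.isMaximal_of_isPrime p.asIdeal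
  have hq : q.asIdeal.IsMaximal := IsArtinianRing.isMaximal_of_isPrime q.asIdeal
  exact PrimeSpectrum.ext ((IsLocalRing.eq_maximalIdeal hp).trans (IsLocalRing.eq_maximalIdeal hq).symm)

lemma universallyOpen_of_artinian (A : Type u) [CommRing A] [IsArtinianRing A] [IsLocalRing A]
    {Y : Scheme.{u}} (h : Y ⟶ Spec (CommRingCat.of A)) : UniversallyOpen h := by
  let k := IsLocalRing.ResidueField A
  let iS : Spec (CommRingCat.of k) ⟶ Spec (CommRingCat.of A) :=
    Spec.map (CommRingCat.ofHom (IsLocalRing.residue A))
  have hcl : IsClosedImmersion iS :=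
    IsClosedImmersion.spec_of_surjective _ IsLocalRing.residue_surjective
  have hsub : Subsingleton (Spec (CommRingCat.of A)) := subsingleton_primeSpectrum A
  have hsurj : Surjective iS := by
    refine ⟨fun y => ?_⟩
    have : Nonempty (Spec (CommRingCat.of k)) := inferInstance
    obtain ⟨x⟩ := this
    exact ⟨x, Subsingleton.elim _ _⟩
  have hS : MoreMor.IsThickening iS := ⟨hcl, hsurj⟩
  have hX : MoreMor.IsThickening (pullback.fst h iS) :=
    ⟨inferInstance, inferInstance⟩
  have : UniversallyOpen (pullback.snd h iS) := inferInstance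
  exact (Groth.Agent.S1308.result (pullback.fst h iS) iS (pullback.snd h iS) h hX hS
    pullback.condition).mp this

/-- dominance is preserved by base change along an open map (in an arbitrary pullback square). -/
lemma denseRange_of_isPullback {X' X Z W : Scheme.{u}} {f : X' ⟶ X} {p : Z ⟶ X}
    {a : W ⟶ X'} {b : W ⟶ Z} (sq : IsPullback a b f p) (hf : DenseRange f)
    (hp : IsOpenMap p) : DenseRange b := by
  rw [DenseRange, dense_iff_inter_open]
  intro U hU hne
  have hUo : IsOpen (p '' U) := hp U hU
  have hUne : (p '' U).Nonempty := hne.image _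
  obtain ⟨_, ⟨z, hzU, rfl⟩, ⟨x', hx'⟩⟩ := hf.inter_open_nonempty _ hUo hUne
  obtain ⟨w, hw1, hw2⟩ := Scheme.Pullback.exists_preimage_pullback (f := f) (g := p) x' z hx'
  refine ⟨z, hzU, sq.isoPullback.inv w, ?_⟩
  rw [← Scheme.Hom.comp_apply, sq.isoPullback_inv_snd, hw2]

end helpers


/-- Let A be a local artinian ring and f : X' → X, g : Y' → Y two quasi-compact dominant morphisms of
schemes over A. Then the product morphism f ×_A g : X' ×_A Y' → X ×_A Y is dominant (and
quasi-compact). -/
theorem result (A : Type u) [CommRing A] [IsArtinianRing A] [IsLocalRing A] (X X' Y Y' : Over (Spec (CommRingCat.of A)))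
    (f : X' ⟶ X) (g : Y' ⟶ Y) [QuasiCompact f.left] [QuasiCompact g.left]
    (hf : DenseRange f.left.base) (hg : DenseRange g.left.base) :
    DenseRange (f ⊗ₘ g).left.base ∧ QuasiCompact (f ⊗ₘ g).left := by
  -- the two pullback squares
  have sq1 : IsPullback (f ▷ Y').left (pullback.fst X'.hom Y'.hom) (pullback.fst X.hom Y'.hom)
      f.left := by
    refine IsPullback.of_right (h₁₂ := pullback.snd X.hom Y'.hom) (v₁₃ := Y'.hom) (h₂₂ := X.hom)
      ?_ ?_ (IsPullback.of_hasPullback X.hom Y'.hom).flip
    · rw [Over.whiskerRight_left_snd, Over.w f]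
      exact (IsPullback.of_hasPullback X'.hom Y'.hom).flip
    · exact Over.whiskerRight_left_fst f
  have sq2 : IsPullback (X ◁ g).left (pullback.snd X.hom Y'.hom) (pullback.snd X.hom Y.hom)
      g.left := by
    refine IsPullback.of_right (h₁₂ := pullback.fst X.hom Y.hom) (v₁₃ := X.hom) (h₂₂ := Y.hom)
      ?_ ?_ (IsPullback.of_hasPullback X.hom Y.hom)
    · rw [Over.whiskerLeft_left_fst, Over.w g]
      exact (IsPullback.of_hasPullback X.hom Y'.hom)
    · exact Over.whiskerLeft_left_snd g
  have hU1 : UniversallyOpen (pullback.fst X.hom Y'.hom) := by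
    have := universallyOpen_of_artinian A Y'.hom
    infer_instance
  have hU2 : UniversallyOpen (pullback.snd X.hom Y.hom) := by
    have := universallyOpen_of_artinian A X.hom
    infer_instance
  have d1 : DenseRange (f ▷ Y').left := denseRange_of_isPullback sq1.flip hf
    (pullback.fst X.hom Y'.hom).isOpenMap
  have d2 : DenseRange (X ◁ g).left := denseRange_of_isPullback sq2.flip hg
    (pullback.snd X.hom Y.hom).isOpenMap
  have q1 : QuasiCompact (f ▷ Y').left := MorphismProperty.of_isPullback sq1.flip ‹_›
  have q2 : QuasiCompact (X ◁ g).left := MorphismProperty.of_isPullback sq2.flip ‹_›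
  have hfac : (f ⊗ₘ g) = (f ▷ Y') ≫ (X ◁ g) := tensorHom_def f g
  rw [hfac]
  constructor
  · show DenseRange ((f ▷ Y').left ≫ (X ◁ g).left)
    have : ⇑((f ▷ Y').left ≫ (X ◁ g).left) = ⇑(X ◁ g).left ∘ ⇑(f ▷ Y').left := by
      ext x; simp
    rw [this]
    exact d2.comp d1 (X ◁ g).left.continuous
  · show QuasiCompact ((f ▷ Y').left ≫ (X ◁ g).left)
    infer_instance

end Groth.Agent.S5335
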