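import Groth.Statements.S5343
import Mathlib

set_option autoImplicit false
universe u
open CategoryTheory CategoryTheory.Limits MonoidalCategory CartesianMonoidalCategory MonObj GrpObj AlgebraicGeometry
open SGA3

namespace Groth.Agent.S5343

section helpers
open PrimeSpectrum

variable {R B : Type u} [CommRing R] [CommRing B] [Algebra R B]

lemma coef_mem (s : B →ₗ[R] B →₀ R) (𝔞 : Ideal R) (y : B)
    (hy : y ∈ 𝔞.map (algebraMap R B)) (b' : B) : s y b' ∈ 𝔞 := by
  have hy' : y ∈ 𝔞 • (⊤ : Submodule R B) := by
    rw [Ideal.smul_top_eq_map]; exact hy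
  refine Submodule.smul_induction_on (p := fun y => s y b' ∈ 𝔞) hy' ?_ ?_
  · intro a ha c _
    show s (a • c) b' ∈ 𝔞
    rw [map_smul, Finsupp.smul_apply, smul_eq_mul]
    exact 𝔞.mul_mem_right _ ha
  · intro y z hy hz
    show s (y + z) b' ∈ 𝔞
    rw [map_add, Finsupp.add_apply]
    exact 𝔞.add_mem hy hz

lemma one_eq_sum (s : B →ₗ[R] B →₀ R) (hs : Finsupp.linearCombination R id ∘ₗ s = .id) :
    (1 : B) = ∑ b ∈ (s 1).support, (s 1 b) • b := by
  have := LinearMap.congr_fun hs 1
  simp only [LinearMap.coe_comp, Function.comp_apply, LinearMap.id_coe, id_eq] at this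
  rw [Finsupp.linearCombination_apply, Finsupp.sum] at this
  exact this.symm

lemma key (s : B →ₗ[R] B →₀ R) (hs : Finsupp.linearCombination R id ∘ₗ s = .id) (𝔞 : Ideal R)
    (h1 : (1 : B) ∈ 𝔞.map (algebraMap R B)) : ∃ d : R, algebraMap R B d = 0 ∧ d - 1 ∈ 𝔞 := by
  classical
  have hcoef : ∀ b b' : B, s b b' ∈ 𝔞 := fun b b' =>
    coef_mem s 𝔞 b (by simpa using Ideal.mul_mem_left _ b h1) b'
  set x := s 1 with hx
  let S := x.support
  let v : S → R := fun b => x b
  let A : Matrix S S R := Matrix.of fun b b' => s b b'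
  have hv : Matrix.vecMul v A = v := by
    ext b'
    simp only [Matrix.vecMul, dotProduct, v, A]
    have h2 : (s (∑ b ∈ S, x b • b)) b' = x b' := by
      rw [← one_eq_sum s hs]
    rw [← h2, map_sum, Finsupp.finsetSum_apply, ← Finset.sum_coe_sort S]
    refine Finset.sum_congr rfl fun b _ => ?_
    rw [map_smul, Finsupp.smul_apply, smul_eq_mul, Matrix.of_apply]
  let M : Matrix S S R := 1 - A
  have hvM : Matrix.vecMul v M = 0 := by
    simp only [M, Matrix.vecMul_sub, Matrix.vecMul_one, hv, sub_self]
  have hdv : M.det • v = 0 := by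
    have := congrArg (fun w => Matrix.vecMul w M.adjugate) hvM
    simp only [Matrix.vecMul_vecMul, Matrix.mul_adjugate, Matrix.zero_vecMul] at this
    rw [Matrix.vecMul_smul, Matrix.vecMul_one] at this
    exact this
  refine ⟨M.det, ?_, ?_⟩
  · have hdx : M.det • x = 0 := by
      ext b
      by_cases hb : b ∈ S
      · have := congrFun hdv ⟨b, hb⟩
        simpa [v] using this
      · have : x b = 0 := Finsupp.notMem_support_iff.mp hb
        simp [this]
    rw [Algebra.algebraMap_eq_smul_one]
    have h3 : (1 : B) = Finsupp.linearCombination R id x := by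
      have := LinearMap.congr_fun hs 1
      simpa using this.symm
    rw [h3, ← map_smul, hdx, map_zero]
  · rw [← Ideal.Quotient.eq_zero_iff_mem, map_sub, map_one, RingHom.map_det]
    have : (Ideal.Quotient.mk 𝔞).mapMatrix M = 1 := by
      ext i j
      simp only [M, RingHom.mapMatrix_apply, Matrix.map_apply, Matrix.sub_apply, map_sub, A,
        Matrix.of_apply]
      rw [Ideal.Quotient.eq_zero_iff_mem.mpr (hcoef _ _), sub_zero]
      by_cases hij : i = j <;> simp [Matrix.one_apply, hij]
    rw [this, Matrix.det_one, sub_self]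

end helpers

open PrimeSpectrum in

/-- Let R be a commutative ring and B a commutative R-algebra which is projective as an R-module. Then
the image of Spec B → Spec R is an open and closed subset of Spec R. (The published statement
concerns a quasi-coherent algebra on any scheme which is a direct summand of a free module; this row
is the affine case.) -/
theorem result (R B : Type u) [CommRing R] [CommRing B] [Algebra R B] [Module.Projective R B] :
    IsClopen (Set.range (PrimeSpectrum.comap (algebraMap R B))) := by
  classical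
  obtain ⟨s, hs⟩ := (Module.projective_def' (R := R) (P := B)).mp inferInstance
  set I := RingHom.ker (algebraMap R B) with hI
  -- the trace-like ideal
  let τ : Ideal R := Ideal.span {r | ∃ b b' : B, s b b' = r}
  have hτ : ∀ b b' : B, s b b' ∈ τ := fun b b' => Ideal.subset_span ⟨b, b', rfl⟩
  have hIτ : ∀ r ∈ I, ∀ t ∈ τ, r * t = 0 := by
    intro r hr t ht
    induction ht using Submodule.span_induction with
    | mem t ht =>
      obtain ⟨b, b', rfl⟩ := ht
      have : s (r • b) b' = 0 := by
        rw [Algebra.smul_def, (RingHom.mem_ker).mp hr, zero_mul, map_zero, Finsupp.zero_apply]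
      rw [map_smul, Finsupp.smul_apply, smul_eq_mul] at this
      exact this
    | zero => exact mul_zero r
    | add x y _ _ hx hy => rw [mul_add, hx, hy, add_zero]
    | smul a x _ hx => rw [smul_eq_mul, mul_left_comm, hx, mul_zero]
  have h1of : ∀ 𝔞 : Ideal R, (∀ b, s 1 b ∈ 𝔞) → (1 : B) ∈ 𝔞.map (algebraMap R B) := by
    intro 𝔞 h𝔞
    rw [one_eq_sum s hs]
    refine Ideal.sum_mem _ fun b _ => ?_
    rw [Algebra.smul_def]
    exact Ideal.mul_mem_right _ _ (Ideal.mem_map_of_mem _ (h𝔞 b))
  obtain ⟨d, hd0, hd1⟩ := key s hs τ (h1of τ fun b => hτ 1 b)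
  -- range = zeroLocus I
  have hrange : Set.range (PrimeSpectrum.comap (algebraMap R B)) = zeroLocus (I : Set R) := by
    apply Set.Subset.antisymm
    · rw [← closure_range_comap]; exact subset_closure
    · intro p hp
      have hIp : I ≤ p.asIdeal := hp
      rw [PrimeSpectrum.mem_range_comap_iff]
      refine le_antisymm ?_ Ideal.le_comap_map
      intro r hr
      by_contra hrp
      have hr' : algebraMap R B r ∈ p.asIdeal.map (algebraMap R B) := hr
      have hx : ∀ b, s 1 b ∈ p.asIdeal := by
        intro b
        have := coef_mem s p.asIdeal _ hr' b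
        rw [Algebra.algebraMap_eq_smul_one, map_smul, Finsupp.smul_apply, smul_eq_mul] at this
        exact (p.2.mem_or_mem this).resolve_left hrp
      obtain ⟨d', hd'0, hd'1⟩ := key s hs p.asIdeal (h1of _ hx)
      have hd'p : d' ∈ p.asIdeal := hIp ((RingHom.mem_ker).mpr hd'0)
      have : (1 : R) ∈ p.asIdeal := by
        have := p.asIdeal.sub_mem hd'p hd'1
        simpa using this
      exact p.2.ne_top ((Ideal.eq_top_iff_one _).mpr this)
  rw [hrange]
  refine ⟨isClosed_zeroLocus _, ?_⟩
  have : zeroLocus (I : Set R) = (zeroLocus (τ : Set R))ᶜ := by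
    ext p
    simp only [Set.mem_compl_iff, mem_zeroLocus, SetLike.coe_subset_coe]
    constructor
    · intro hIp hτp
      have hdp : d ∈ p.asIdeal := hIp ((RingHom.mem_ker).mpr hd0)
      have : (1 : R) ∈ p.asIdeal := by
        have := p.asIdeal.sub_mem hdp (hτp hd1)
        simpa using this
      exact p.2.ne_top ((Ideal.eq_top_iff_one _).mpr this)
    · intro hτp r hr
      obtain ⟨t, ht, htp⟩ := SetLike.not_le_iff_exists.mp hτp
      have : r * t ∈ p.asIdeal := by rw [hIτ r hr t ht]; exact zero_mem _
      exact (p.2.mem_or_mem this).resolve_right htp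
  rw [this]
  exact (isClosed_zeroLocus _).isOpen_compl

end Groth.Agent.S5343
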