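import Groth.Statements.S5357
import Mathlib
import Groth.Agent.Lib.Helper13.WeilClosedOver
import Groth.Agent.Lib.Helper4.GrpFieldSep
import Groth.Prelude.Def_AlgGrp

set_option autoImplicit false
universe u
open CategoryTheory CategoryTheory.Limits MonoidalCategory CartesianMonoidalCategory MonObj GrpObj AlgebraicGeometry
open SGA3

namespace Groth.Agent.S5357

section helpers

open CategoryTheory CategoryTheory.Limits MonoidalCategory CartesianMonoidalCategory MonObj GrpObj AlgebraicGeometry


theorem main (k : Type u) [Field k] (G X : Over (Spec (CommRingCat.of k))) [GrpObj G]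
    (u v : X ⟶ G) :
    ∃ (T : Over (Spec (CommRingCat.of k))) (t : T ⟶ G), IsClosedImmersion t.left ∧
      ∀ (S' : Over (Spec (CommRingCat.of k))) (g : S' ⟶ G), (∃ z : S' ⟶ T, z ≫ t = g) ↔
        ∀ (S'' : Over (Spec (CommRingCat.of k))) (s : S'' ⟶ S') (x : S'' ⟶ X), (s ≫ g) * (x ≫ u) * (s ≫ g)⁻¹ = x ≫ v := by
  haveI : IsSeparated G.hom := Groth.Agent.Lib.Helper4.GrpFieldSep.isSeparated_of_field k G
  obtain ⟨Z, j, hj, hZ⟩ := Groth.Agent.Lib.Helper13.WeilClosedOver.exists_closed_eq k G X G
    (fst G X * (snd G X ≫ u) * (fst G X)⁻¹) (snd G X ≫ v)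
  refine ⟨Z, j, hj, ?_⟩
  intro S' g
  rw [hZ]
  have h1 : (g ▷ X) ≫ (fst G X * (snd G X ≫ u) * (fst G X)⁻¹) =
      (fst S' X ≫ g) * (snd S' X ≫ u) * (fst S' X ≫ g)⁻¹ := by
    rw [MonObj.comp_mul, MonObj.comp_mul, GrpObj.comp_inv, whiskerRight_fst, whiskerRight_snd_assoc]
  have h2 : (g ▷ X) ≫ snd G X ≫ v = snd S' X ≫ v := by
    rw [whiskerRight_snd_assoc]
  rw [h1, h2]
  constructor
  · intro h S'' s x
    have := congrArg (fun m => lift s x ≫ m) h
    simp only [MonObj.comp_mul, GrpObj.comp_inv, lift_fst_assoc, lift_snd_assoc] at this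
    exact this
  · intro h
    exact h (S' ⊗ X) (fst S' X) (snd S' X)


end helpers

/-- Let G be a group scheme over a field k, X a k-scheme and u, v : X → G two morphisms of k-schemes.
Then the transporter of u into v, the subfunctor of G whose points with values in S' are the g such
that g u(x) g⁻¹ = v(x) for every S'' → S' and every point x of X with values in S'', is represented
by a closed subscheme of G. (For u = v this says that the centralizer of u is represented by a
closed subscheme of G; that it is a subgroup scheme is not stated here.) -/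
theorem result (k : Type u) [Field k] (G X : Over (Spec (CommRingCat.of k))) [GrpObj G]
    (u v : X ⟶ G) :
    ∃ (T : Over (Spec (CommRingCat.of k))) (t : T ⟶ G), IsClosedImmersion t.left ∧
      ∀ (S' : Over (Spec (CommRingCat.of k))) (g : S' ⟶ G), (∃ z : S' ⟶ T, z ≫ t = g) ↔
        ∀ (S'' : Over (Spec (CommRingCat.of k))) (s : S'' ⟶ S') (x : S'' ⟶ X), (s ≫ g) * (x ≫ u) * (s ≫ g)⁻¹ = x ≫ v := by
  exact main k G X u v

end Groth.Agent.S5357
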