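import Groth.Statements.S5384
import Groth.Agent.Lib.Helper4.GrpdLC
import Groth.Agent.Lib.Helper4.UOBase
import Groth.Agent.Lib.Helper4.GrpToGrpd

set_option autoImplicit false
universe u
open CategoryTheory CategoryTheory.Limits MonoidalCategory CartesianMonoidalCategory MonObj GrpObj AlgebraicGeometry
open SGA3

namespace Groth.Agent.S5384

/-- Let A be a local artinian ring, G an A-group scheme and u : H → G a homomorphism of A-group schemes
which is an immersion (a subgroup scheme; no finiteness is assumed). Then u is a closed immersion. -/
theorem result (A : Type u) [CommRing A] [IsArtinianRing A] [IsLocalRing A] (G H : Over (Spec (CommRingCat.of A))) [GrpObj G] [GrpObj H]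
    (u : H ⟶ G) [IsMonHom u] [IsImmersion u.left] : IsClosedImmersion u.left := by
  have hcl : IsClosed (Set.range ⇑u.left) :=
    Groth.Agent.Lib.Helper4.GrpdLC.main (Groth.Agent.Lib.Helper4.GrpToGrpd.homOfMonHom H G u)
      (fun f => Groth.Agent.Lib.Helper4.UOBase.universallyOpen_of_artinianLocal A f)
      u.left.isLocallyClosed_range
  exact IsClosedImmersion.of_isPreimmersion u.left hcl

end Groth.Agent.S5384
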