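import Groth.Statements.S5358
import Mathlib
import Groth.Agent.Lib.Helper13.WeilTransporter
import Groth.Agent.Lib.Helper3.SubGrpMono
import Groth.Agent.S5384
import Groth.Prelude.Def_AlgGrp
import Groth.Prelude.Def_Red2

set_option autoImplicit false
universe u
open CategoryTheory CategoryTheory.Limits MonoidalCategory CartesianMonoidalCategory MonObj GrpObj AlgebraicGeometry
open SGA3

namespace Groth.Agent.S5358

section helpers

open CategoryTheory CategoryTheory.Limits MonoidalCategory CartesianMonoidalCategory MonObj GrpObj AlgebraicGeometry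


open Groth.Agent.Lib.Helper13.WeilTransporter

section
variable (k : Type u) [Field k] (G : Over (Spec (CommRingCat.of k))) [GrpObj G]

/-- the transporter of `y'` into closed `y` -/
theorem transporter (Y Y' : Over (Spec (CommRingCat.of k))) (y : Y ⟶ G) [IsClosedImmersion y.left]
    (y' : Y' ⟶ G) :
    ∃ (T : Over (Spec (CommRingCat.of k))) (t : T ⟶ G), IsClosedImmersion t.left ∧
      ∀ (S' : Over (Spec (CommRingCat.of k))) (g : S' ⟶ G), (∃ z : S' ⟶ T, z ≫ t = g) ↔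
        ∀ (S'' : Over (Spec (CommRingCat.of k))) (s : S'' ⟶ S') (x : S'' ⟶ Y'),
          ∃ x' : S'' ⟶ Y, (s ≫ g) * (x ≫ y') * (s ≫ g)⁻¹ = x' ≫ y := by
  obtain ⟨T, t, ht, hT⟩ := exists_closed_transporter k G Y' G Y
    (fst G Y' * (snd G Y' ≫ y') * (fst G Y')⁻¹) y
  refine ⟨T, t, ht, ?_⟩
  intro S' g
  rw [hT]
  have h1 : (g ▷ Y') ≫ (fst G Y' * (snd G Y' ≫ y') * (fst G Y')⁻¹) =
      (fst S' Y' ≫ g) * (snd S' Y' ≫ y') * (fst S' Y' ≫ g)⁻¹ := by
    rw [MonObj.comp_mul, MonObj.comp_mul, GrpObj.comp_inv, whiskerRight_fst, whiskerRight_snd_assoc]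
  rw [h1]
  constructor
  · rintro ⟨ψ, hψ⟩ S'' s x
    refine ⟨lift s x ≫ ψ, ?_⟩
    rw [Category.assoc, hψ, MonObj.comp_mul, MonObj.comp_mul, GrpObj.comp_inv, lift_fst_assoc,
      lift_snd_assoc]
  · intro h
    obtain ⟨x', hx'⟩ := h (S' ⊗ Y') (fst S' Y') (snd S' Y')
    exact ⟨x', hx'.symm⟩

/-- the inverse transporter of `y` into closed `y'` -/
theorem transporter_inv (Y Y' : Over (Spec (CommRingCat.of k))) (y : Y ⟶ G)
    (y' : Y' ⟶ G) [IsClosedImmersion y'.left] :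
    ∃ (T : Over (Spec (CommRingCat.of k))) (t : T ⟶ G), IsClosedImmersion t.left ∧
      ∀ (S' : Over (Spec (CommRingCat.of k))) (g : S' ⟶ G), (∃ z : S' ⟶ T, z ≫ t = g) ↔
        ∀ (S'' : Over (Spec (CommRingCat.of k))) (s : S'' ⟶ S') (x' : S'' ⟶ Y),
          ∃ x : S'' ⟶ Y', (s ≫ g)⁻¹ * (x' ≫ y) * (s ≫ g) = x ≫ y' := by
  obtain ⟨T, t, ht, hT⟩ := exists_closed_transporter k G Y G Y'
    ((fst G Y)⁻¹ * (snd G Y ≫ y) * (fst G Y)) y'
  refine ⟨T, t, ht, ?_⟩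
  intro S' g
  rw [hT]
  have h1 : (g ▷ Y) ≫ ((fst G Y)⁻¹ * (snd G Y ≫ y) * (fst G Y)) =
      (fst S' Y ≫ g)⁻¹ * (snd S' Y ≫ y) * (fst S' Y ≫ g) := by
    rw [MonObj.comp_mul, MonObj.comp_mul, GrpObj.comp_inv, whiskerRight_fst, whiskerRight_snd_assoc]
  rw [h1]
  constructor
  · rintro ⟨ψ, hψ⟩ S'' s x
    refine ⟨lift s x ≫ ψ, ?_⟩
    rw [Category.assoc, hψ, MonObj.comp_mul, MonObj.comp_mul, GrpObj.comp_inv, lift_fst_assoc,
      lift_snd_assoc]
  · intro h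
    obtain ⟨x', hx'⟩ := h (S' ⊗ Y) (fst S' Y) (snd S' Y)
    exact ⟨x', hx'.symm⟩

/-- the strict transporter -/
theorem strict (Y Y' : Over (Spec (CommRingCat.of k))) (y : Y ⟶ G) [IsClosedImmersion y.left]
    (y' : Y' ⟶ G) [IsClosedImmersion y'.left] :
    ∃ (T : Over (Spec (CommRingCat.of k))) (t : T ⟶ G), IsClosedImmersion t.left ∧
      ∀ (S' : Over (Spec (CommRingCat.of k))) (g : S' ⟶ G), (∃ z : S' ⟶ T, z ≫ t = g) ↔
        ((∀ (S'' : Over (Spec (CommRingCat.of k))) (s : S'' ⟶ S') (x : S'' ⟶ Y'),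
          ∃ x' : S'' ⟶ Y, (s ≫ g) * (x ≫ y') * (s ≫ g)⁻¹ = x' ≫ y) ∧
        (∀ (S'' : Over (Spec (CommRingCat.of k))) (s : S'' ⟶ S') (x' : S'' ⟶ Y),
          ∃ x : S'' ⟶ Y', (s ≫ g)⁻¹ * (x' ≫ y) * (s ≫ g) = x ≫ y')) := by
  obtain ⟨T₁, t₁, ht₁, hT₁⟩ := transporter k G Y Y' y y'
  obtain ⟨T₂, t₂, ht₂, hT₂⟩ := transporter_inv k G Y Y' y y'
  obtain ⟨T, t, ht, hT⟩ := exists_closed_inter t₁ t₂
  refine ⟨T, t, ht, ?_⟩
  intro S' g
  rw [hT, hT₁, hT₂]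

end

section normalizer
variable {S : Scheme.{u}} {G H : Over S} [GrpObj G] (h : H ⟶ G)

/-- the normalizing condition on a point -/
def Norm (X : Over S) (g : X ⟶ G) : Prop :=
  ∀ (X' : Over S) (x : X' ⟶ X) (h₀ : X' ⟶ H),
      (∃ h' : X' ⟶ H, (x ≫ g) * (h₀ ≫ h) * (x ≫ g)⁻¹ = h' ≫ h) ∧
      (∃ h' : X' ⟶ H, (x ≫ g)⁻¹ * (h₀ ≫ h) * (x ≫ g) = h' ≫ h)

lemma norm_comp {X X₁ : Over S} (u : X₁ ⟶ X) (g : X ⟶ G) (hg : Norm h X g) :
    Norm h X₁ (u ≫ g) := by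
  intro X' x h₀
  have := hg X' (x ≫ u) h₀
  simpa only [Category.assoc] using this

lemma norm_one (X : Over S) : Norm h X (1 : X ⟶ G) := by
  intro X' x h₀
  rw [MonObj.comp_one]
  refine ⟨⟨h₀, by group⟩, ⟨h₀, by group⟩⟩

lemma norm_mul {X : Over S} (g₁ g₂ : X ⟶ G) (h1 : Norm h X g₁) (h2 : Norm h X g₂) :
    Norm h X (g₁ * g₂) := by
  intro X' x h₀
  rw [MonObj.comp_mul]
  constructor
  · obtain ⟨h', e'⟩ := (h2 X' x h₀).1
    obtain ⟨h'', e''⟩ := (h1 X' x h').1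
    refine ⟨h'', ?_⟩
    rw [← e'', ← e']; group
  · obtain ⟨h', e'⟩ := (h1 X' x h₀).2
    obtain ⟨h'', e''⟩ := (h2 X' x h').2
    refine ⟨h'', ?_⟩
    rw [← e'', ← e']; group

lemma norm_inv {X : Over S} (g : X ⟶ G) (h1 : Norm h X g) : Norm h X g⁻¹ := by
  intro X' x h₀
  rw [GrpObj.comp_inv]
  refine ⟨?_, ?_⟩
  · obtain ⟨h', e'⟩ := (h1 X' x h₀).2
    exact ⟨h', by rw [← e']; group⟩
  · obtain ⟨h', e'⟩ := (h1 X' x h₀).1
    exact ⟨h', by rw [← e']; group⟩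

end normalizer

theorem normalizer (k : Type u) [Field k] (G H : Over (Spec (CommRingCat.of k))) [GrpObj G]
    [GrpObj H] (h : H ⟶ G) [IsMonHom h] [IsImmersion h.left] :
    ∃ (N : Over (Spec (CommRingCat.of k))) (_ : GrpObj N) (n : N ⟶ G), IsClosedImmersion n.left ∧
        Red.IsNormalizerOf h n := by
  haveI : IsClosedImmersion h.left := Groth.Agent.S5384.result k G H h
  obtain ⟨N, n, hn, hN⟩ := strict k G H H h h
  have hN' : ∀ (X : Over (Spec (CommRingCat.of k))) (g : X ⟶ G),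
      (∃ z : X ⟶ N, z ≫ n = g) ↔ Norm h X g := by
    intro X g
    rw [hN]
    constructor
    · rintro ⟨ha, hb⟩ X' x h₀
      exact ⟨ha X' x h₀, hb X' x h₀⟩
    · intro hg
      exact ⟨fun X' x h₀ => (hg X' x h₀).1, fun X' x h₀ => (hg X' x h₀).2⟩
  haveI : Mono n.left := inferInstance
  haveI : Mono n := Over.mono_of_mono_left n
  have hnn : Norm h N n := (hN' N n).mp ⟨𝟙 _, Category.id_comp _⟩
  obtain ⟨e, he⟩ := (hN' _ η[G]).mpr (by
    have := norm_one h (𝟙_ (Over (Spec (CommRingCat.of k))))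
    rwa [Hom.one_def, toUnit_unique (toUnit _) (𝟙 _), Category.id_comp] at this)
  obtain ⟨m, hm⟩ := (hN' _ ((n ⊗ₘ n) ≫ μ[G])).mpr (by
    have := norm_mul h _ _ (norm_comp h (fst N N) n hnn) (norm_comp h (snd N N) n hnn)
    rwa [Hom.mul_def, lift_fst_comp_snd_comp] at this)
  obtain ⟨v, hv⟩ := (hN' _ (n ≫ ι[G])).mpr (norm_inv h n hnn)
  obtain ⟨inst, hmon⟩ := Groth.Agent.Lib.Helper3.SubGrp.exists_grpObj_of_mono n e he m hm v hv
  refine ⟨N, inst, n, hn, hmon, ‹Mono n›, ?_⟩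
  intro X g
  exact hN' X g

theorem main (k : Type u) [Field k] (G Y Y' : Over (Spec (CommRingCat.of k))) [GrpObj G]
    (y : Y ⟶ G) [IsClosedImmersion y.left] (y' : Y' ⟶ G) [IsImmersion y'.left] :
    (∃ (T : Over (Spec (CommRingCat.of k))) (t : T ⟶ G), IsClosedImmersion t.left ∧
      ∀ (S' : Over (Spec (CommRingCat.of k))) (g : S' ⟶ G), (∃ z : S' ⟶ T, z ≫ t = g) ↔
        ∀ (S'' : Over (Spec (CommRingCat.of k))) (s : S'' ⟶ S') (x : S'' ⟶ Y'),
          ∃ x' : S'' ⟶ Y, (s ≫ g) * (x ≫ y') * (s ≫ g)⁻¹ = x' ≫ y) ∧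
    (IsClosedImmersion y'.left →
      ∃ (T : Over (Spec (CommRingCat.of k))) (t : T ⟶ G), IsClosedImmersion t.left ∧
      ∀ (S' : Over (Spec (CommRingCat.of k))) (g : S' ⟶ G), (∃ z : S' ⟶ T, z ≫ t = g) ↔
        ((∀ (S'' : Over (Spec (CommRingCat.of k))) (s : S'' ⟶ S') (x : S'' ⟶ Y'),
          ∃ x' : S'' ⟶ Y, (s ≫ g) * (x ≫ y') * (s ≫ g)⁻¹ = x' ≫ y) ∧
        (∀ (S'' : Over (Spec (CommRingCat.of k))) (s : S'' ⟶ S') (x' : S'' ⟶ Y),
          ∃ x : S'' ⟶ Y', (s ≫ g)⁻¹ * (x' ≫ y) * (s ≫ g) = x ≫ y'))) ∧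
    (∀ (H : Over (Spec (CommRingCat.of k))) [GrpObj H] (h : H ⟶ G) [IsMonHom h] [IsImmersion h.left],
      ∃ (N : Over (Spec (CommRingCat.of k))) (_ : GrpObj N) (n : N ⟶ G), IsClosedImmersion n.left ∧
        Red.IsNormalizerOf h n) := by
  refine ⟨transporter k G Y Y' y y', ?_, ?_⟩
  · intro hy'
    exact strict k G Y Y' y y'
  · intro H _ h _ _
    exact normalizer k G H h


end helpers

/-- Let G be a group scheme over a field k, y' : Y' → G an immersion and y : Y → G a closed immersion.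
(ii) The transporter of Y' into Y, whose points with values in S' are the g such that conjugation by
g carries every point of Y' (after any base change S'' → S') into Y, is represented by a closed
subscheme of G; if y' is also a closed immersion, so is the strict transporter (g Y' g⁻¹ = Y
functorially). (iii) For every subgroup scheme h : H → G (a homomorphism which is an immersion), the
normalizer of H in G is represented by a closed subscheme of G. -/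
theorem result (k : Type u) [Field k] (G Y Y' : Over (Spec (CommRingCat.of k))) [GrpObj G]
    (y : Y ⟶ G) [IsClosedImmersion y.left] (y' : Y' ⟶ G) [IsImmersion y'.left] :
    (∃ (T : Over (Spec (CommRingCat.of k))) (t : T ⟶ G), IsClosedImmersion t.left ∧
      ∀ (S' : Over (Spec (CommRingCat.of k))) (g : S' ⟶ G), (∃ z : S' ⟶ T, z ≫ t = g) ↔
        ∀ (S'' : Over (Spec (CommRingCat.of k))) (s : S'' ⟶ S') (x : S'' ⟶ Y'),
          ∃ x' : S'' ⟶ Y, (s ≫ g) * (x ≫ y') * (s ≫ g)⁻¹ = x' ≫ y) ∧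
    (IsClosedImmersion y'.left →
      ∃ (T : Over (Spec (CommRingCat.of k))) (t : T ⟶ G), IsClosedImmersion t.left ∧
      ∀ (S' : Over (Spec (CommRingCat.of k))) (g : S' ⟶ G), (∃ z : S' ⟶ T, z ≫ t = g) ↔
        ((∀ (S'' : Over (Spec (CommRingCat.of k))) (s : S'' ⟶ S') (x : S'' ⟶ Y'),
          ∃ x' : S'' ⟶ Y, (s ≫ g) * (x ≫ y') * (s ≫ g)⁻¹ = x' ≫ y) ∧
        (∀ (S'' : Over (Spec (CommRingCat.of k))) (s : S'' ⟶ S') (x' : S'' ⟶ Y),
          ∃ x : S'' ⟶ Y', (s ≫ g)⁻¹ * (x' ≫ y) * (s ≫ g) = x ≫ y'))) ∧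
    (∀ (H : Over (Spec (CommRingCat.of k))) [GrpObj H] (h : H ⟶ G) [IsMonHom h] [IsImmersion h.left],
      ∃ (N : Over (Spec (CommRingCat.of k))) (_ : GrpObj N) (n : N ⟶ G), IsClosedImmersion n.left ∧
        Red.IsNormalizerOf h n) := by
  exact main k G Y Y' y y'

end Groth.Agent.S5358
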