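import Groth.Statements.S5363
import Mathlib
import Groth.Agent.Lib.Helper13.WeilSubgroups
import Groth.Prelude.Def_AlgGrp

set_option autoImplicit false
universe u
open CategoryTheory CategoryTheory.Limits MonoidalCategory CartesianMonoidalCategory MonObj GrpObj AlgebraicGeometry
open SGA3

namespace Groth.Agent.S5363

section helpers

open CategoryTheory CategoryTheory.Limits MonoidalCategory CartesianMonoidalCategory MonObj GrpObj AlgebraicGeometry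


open Groth.Agent.Lib.Helper13.WeilSubgroups

theorem main (k : Type u) [Field k] (G : Over (Spec (CommRingCat.of k))) [GrpObj G]
    (g : 𝟙_ (Over (Spec (CommRingCat.of k))) ⟶ G) (Γ : Over (Spec (CommRingCat.of k))) [GrpObj Γ] (i : Γ ⟶ G) [IsMonHom i] [IsClosedImmersion i.left]
    (hmin : ∀ (Γ' : Over (Spec (CommRingCat.of k))) (_ : GrpObj Γ') (i' : Γ' ⟶ G), IsMonHom i' → IsClosedImmersion i'.left →
        (∃ f'' : 𝟙_ (Over (Spec (CommRingCat.of k))) ⟶ Γ', f'' ≫ i' = g) → ∃ j : Γ ⟶ Γ', j ≫ i' = i) :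
    IsCommMonObj Γ := by
  haveI : Mono i.left := inferInstance
  haveI : Mono i := Over.mono_of_mono_left i
  -- the centralizer of `g`
  obtain ⟨Z₁, inst₁, z₁, hm₁, hc₁, hZ₁⟩ := exists_centralizer k G _ g
  have hg₁ : ∃ f'' : 𝟙_ (Over (Spec (CommRingCat.of k))) ⟶ Z₁, f'' ≫ z₁ = g := by
    rw [hZ₁]
    intro X' s y
    rw [toUnit_unique s y]
  obtain ⟨j₁, hj₁⟩ := hmin Z₁ inst₁ z₁ hm₁ hc₁ hg₁
  have h1 := (hZ₁ Γ i).mp ⟨j₁, hj₁⟩
  -- the centralizer of `Γ`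
  obtain ⟨Z₂, inst₂, z₂, hm₂, hc₂, hZ₂⟩ := exists_centralizer k G Γ i
  have hg₂ : ∃ f'' : 𝟙_ (Over (Spec (CommRingCat.of k))) ⟶ Z₂, f'' ≫ z₂ = g := by
    rw [hZ₂]
    intro X' s y
    exact (h1 X' y s).symm
  obtain ⟨j₂, hj₂⟩ := hmin Z₂ inst₂ z₂ hm₂ hc₂ hg₂
  have h2 := (hZ₂ Γ i).mp ⟨j₂, hj₂⟩
  have h3 := h2 (Γ ⊗ Γ) (fst Γ Γ) (snd Γ Γ)
  rw [← MonObj.mul_comp, ← MonObj.mul_comp, cancel_mono] at h3
  refine ⟨?_⟩
  have h4 : fst Γ Γ * snd Γ Γ = μ[Γ] := by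
    rw [Hom.mul_def, lift_fst_snd, Category.id_comp]
  have h5 : snd Γ Γ * fst Γ Γ = (β_ Γ Γ).hom ≫ μ[Γ] := by
    rw [Hom.mul_def, lift_snd_fst]
  rw [← h5, ← h3, h4]


end helpers

/-- Let G be a group scheme over a field k and g a k-rational point of G. Then the smallest closed
subgroup scheme Γ of G through which g factors (the closed subgroup generated by g) is commutative. -/
theorem result (k : Type u) [Field k] (G : Over (Spec (CommRingCat.of k))) [GrpObj G]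
    (g : 𝟙_ (Over (Spec (CommRingCat.of k))) ⟶ G) (Γ : Over (Spec (CommRingCat.of k))) [GrpObj Γ] (i : Γ ⟶ G) [IsMonHom i] [IsClosedImmersion i.left]
    (hf : ∃ f' : 𝟙_ (Over (Spec (CommRingCat.of k))) ⟶ Γ, f' ≫ i = g)
    (hmin : ∀ (Γ' : Over (Spec (CommRingCat.of k))) (_ : GrpObj Γ') (i' : Γ' ⟶ G), IsMonHom i' → IsClosedImmersion i'.left →
        (∃ f'' : 𝟙_ (Over (Spec (CommRingCat.of k))) ⟶ Γ', f'' ≫ i' = g) → ∃ j : Γ ⟶ Γ', j ≫ i' = i) :
    IsCommMonObj Γ := by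
  exact main k G g Γ i hmin

end Groth.Agent.S5363
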