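import Groth.Statements.S5364
import Mathlib
import Groth.Agent.Lib.Helper13.WeilTransporter
import Groth.Agent.Lib.Helper3.SubGrpMono
import Groth.Prelude.Def_AlgGrp

set_option autoImplicit false
universe u
open CategoryTheory CategoryTheory.Limits MonoidalCategory CartesianMonoidalCategory MonObj GrpObj AlgebraicGeometry
open SGA3

namespace Groth.Agent.S5364

section helpers

open CategoryTheory CategoryTheory.Limits MonoidalCategory CartesianMonoidalCategory MonObj GrpObj AlgebraicGeometry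


open Groth.Agent.Lib.Helper13.WeilTransporter

section core
variable {S : Scheme.{u}} {G Γ : Over S} [GrpObj G] [GrpObj Γ] (i : Γ ⟶ G) [IsMonHom i]

/-- all conjugates of the point lie in `Γ` -/
def AllConj (X : Over S) (x : X ⟶ G) : Prop :=
  ∀ (X' : Over S) (s : X' ⟶ X) (g : X' ⟶ G), ∃ w : X' ⟶ Γ, g * (s ≫ x) * g⁻¹ = w ≫ i

omit [GrpObj Γ] [IsMonHom i] in
lemma allConj_comp {X X₁ : Over S} (u : X₁ ⟶ X) (x : X ⟶ G) (hx : AllConj i X x) :
    AllConj i X₁ (u ≫ x) := by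
  intro X' s g
  have := hx X' (s ≫ u) g
  simpa only [Category.assoc] using this

lemma allConj_one (X : Over S) : AllConj i X (1 : X ⟶ G) := by
  intro X' s g
  refine ⟨1, ?_⟩
  rw [MonObj.comp_one, MonObj.one_comp]
  group

lemma allConj_mul {X : Over S} (x₁ x₂ : X ⟶ G) (h1 : AllConj i X x₁) (h2 : AllConj i X x₂) :
    AllConj i X (x₁ * x₂) := by
  intro X' s g
  obtain ⟨w₁, e₁⟩ := h1 X' s g
  obtain ⟨w₂, e₂⟩ := h2 X' s g
  refine ⟨w₁ * w₂, ?_⟩
  rw [MonObj.comp_mul, MonObj.mul_comp, ← e₁, ← e₂]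
  group

lemma allConj_inv {X : Over S} (x : X ⟶ G) (h1 : AllConj i X x) : AllConj i X x⁻¹ := by
  intro X' s g
  obtain ⟨w₁, e₁⟩ := h1 X' s g
  refine ⟨w₁⁻¹, ?_⟩
  rw [GrpObj.comp_inv, GrpObj.inv_comp, ← e₁]
  group

end core

theorem main (k : Type u) [Field k] (G A B : Over (Spec (CommRingCat.of k))) [GrpObj G] [GrpObj A] [GrpObj B]
    (a : A ⟶ G) [IsMonHom a] (b : B ⟶ G) [IsMonHom b]
    (hA : AlgGrp.IsNormalHom a) (hB : AlgGrp.IsNormalHom b)
    (Γ : Over (Spec (CommRingCat.of k))) [GrpObj Γ] (i : Γ ⟶ G) [IsMonHom i] [IsClosedImmersion i.left]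
    (hf : ∃ f' : A ⊗ B ⟶ Γ, f' ≫ i = (((fst A B) ≫ a) * ((snd A B) ≫ b) * ((fst A B) ≫ a)⁻¹ * ((snd A B) ≫ b)⁻¹))
    (hmin : ∀ (Γ' : Over (Spec (CommRingCat.of k))) (_ : GrpObj Γ') (i' : Γ' ⟶ G), IsMonHom i' → IsClosedImmersion i'.left →
        (∃ f'' : A ⊗ B ⟶ Γ', f'' ≫ i' = (((fst A B) ≫ a) * ((snd A B) ≫ b) * ((fst A B) ≫ a)⁻¹ * ((snd A B) ≫ b)⁻¹)) → ∃ j : Γ ⟶ Γ', j ≫ i' = i) :
    AlgGrp.IsNormalHom i := by
  obtain ⟨N, n, hn, hN⟩ := exists_closed_transporter k G G G Γ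
    (snd G G * fst G G * (snd G G)⁻¹) i
  have hN' : ∀ (X : Over (Spec (CommRingCat.of k))) (x : X ⟶ G),
      (∃ z : X ⟶ N, z ≫ n = x) ↔ AllConj i X x := by
    intro X x
    rw [hN]
    have h1 : (x ▷ G) ≫ (snd G G * fst G G * (snd G G)⁻¹) =
        snd X G * (fst X G ≫ x) * (snd X G)⁻¹ := by
      rw [MonObj.comp_mul, MonObj.comp_mul, GrpObj.comp_inv, whiskerRight_fst, whiskerRight_snd]
    rw [h1]
    constructor
    · rintro ⟨ψ, hψ⟩ X' s g
      refine ⟨lift s g ≫ ψ, ?_⟩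
      rw [Category.assoc, hψ, MonObj.comp_mul, MonObj.comp_mul, GrpObj.comp_inv, lift_fst_assoc,
        lift_snd]
    · intro h
      obtain ⟨w, hw⟩ := h (X ⊗ G) (fst X G) (snd X G)
      exact ⟨w, hw.symm⟩
  haveI : Mono n.left := inferInstance
  haveI : Mono n := Over.mono_of_mono_left n
  have hnn : AllConj i N n := (hN' N n).mp ⟨𝟙 _, Category.id_comp _⟩
  obtain ⟨e, he⟩ := (hN' _ η[G]).mpr (by
    have := allConj_one i (𝟙_ (Over (Spec (CommRingCat.of k))))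
    rwa [Hom.one_def, toUnit_unique (toUnit _) (𝟙 _), Category.id_comp] at this)
  obtain ⟨m, hm⟩ := (hN' _ ((n ⊗ₘ n) ≫ μ[G])).mpr (by
    have := allConj_mul i _ _ (allConj_comp i (fst N N) n hnn) (allConj_comp i (snd N N) n hnn)
    rwa [Hom.mul_def, lift_fst_comp_snd_comp] at this)
  obtain ⟨v, hv⟩ := (hN' _ (n ≫ ι[G])).mpr (allConj_inv i n hnn)
  obtain ⟨inst, hmon⟩ := Groth.Agent.Lib.Helper3.SubGrp.exists_grpObj_of_mono n e he m hm v hv
  -- the commutator map factors through `N`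
  obtain ⟨f', hf'⟩ := hf
  have hc : AllConj i (A ⊗ B)
      (((fst A B) ≫ a) * ((snd A B) ≫ b) * ((fst A B) ≫ a)⁻¹ * ((snd A B) ≫ b)⁻¹) := by
    intro X' s g
    obtain ⟨x', hx'⟩ := hA X' g (s ≫ fst A B)
    obtain ⟨y', hy'⟩ := hB X' g (s ≫ snd A B)
    refine ⟨lift x' y' ≫ f', ?_⟩
    rw [Category.assoc, hf']
    simp only [MonObj.comp_mul, GrpObj.comp_inv, lift_fst_assoc, lift_snd_assoc]
    rw [← hx', ← hy']
    simp only [Category.assoc]
    group
  obtain ⟨f'', hf''⟩ := (hN' _ _).mpr hc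
  obtain ⟨j, hj⟩ := hmin N inst n hmon hn ⟨f'', hf''⟩
  intro T g w
  have h1 : AllConj i T (w ≫ i) := (hN' T (w ≫ i)).mp ⟨w ≫ j, by rw [Category.assoc, hj]⟩
  obtain ⟨w', hw'⟩ := h1 T (𝟙 _) g
  exact ⟨w', by rw [← hw', Category.id_comp]⟩


end helpers

/-- Let G be a group scheme over a field k and a : A → G, b : B → G two closed subgroup schemes which
are geometrically reduced over k and normal in G. Let i : Γ → G be the commutator subgroup scheme
(A, B): the smallest closed subgroup scheme of G through which the morphism A ×_k B → G, (x, y) ↦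
a(x) b(y) a(x)⁻¹ b(y)⁻¹, factors. Then Γ is normal in G. (The published statement also covers
characteristic subgroups; this row states the case of normal subgroups only.) -/
theorem result (k : Type u) [Field k] (G A B : Over (Spec (CommRingCat.of k))) [GrpObj G] [GrpObj A] [GrpObj B]
    (a : A ⟶ G) [IsMonHom a] [IsClosedImmersion a.left] (b : B ⟶ G) [IsMonHom b] [IsClosedImmersion b.left]
    [GeometricallyReduced A.hom] [GeometricallyReduced B.hom] (hA : AlgGrp.IsNormalHom a) (hB : AlgGrp.IsNormalHom b)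
    (Γ : Over (Spec (CommRingCat.of k))) [GrpObj Γ] (i : Γ ⟶ G) [IsMonHom i] [IsClosedImmersion i.left]
    (hf : ∃ f' : A ⊗ B ⟶ Γ, f' ≫ i = (((fst A B) ≫ a) * ((snd A B) ≫ b) * ((fst A B) ≫ a)⁻¹ * ((snd A B) ≫ b)⁻¹))
    (hmin : ∀ (Γ' : Over (Spec (CommRingCat.of k))) (_ : GrpObj Γ') (i' : Γ' ⟶ G), IsMonHom i' → IsClosedImmersion i'.left →
        (∃ f'' : A ⊗ B ⟶ Γ', f'' ≫ i' = (((fst A B) ≫ a) * ((snd A B) ≫ b) * ((fst A B) ≫ a)⁻¹ * ((snd A B) ≫ b)⁻¹)) → ∃ j : Γ ⟶ Γ', j ≫ i' = i) :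
    AlgGrp.IsNormalHom i := by
  exact main k G A B a b hA hB Γ i hf hmin

end Groth.Agent.S5364
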