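import Groth.Statements.S5374
import Mathlib
import Groth.Agent.Lib.Helper13.GenSpread
import Groth.Agent.Lib.Helper13.GenFreeChart
import Groth.Agent.Lib.Helper4.GrpFieldSep
import Groth.Prelude.Def_Red

set_option autoImplicit false
universe u
open CategoryTheory CategoryTheory.Limits MonoidalCategory CartesianMonoidalCategory MonObj GrpObj AlgebraicGeometry
open SGA3

namespace Groth.Agent.S5374

section helpers
set_option linter.style.haveILetI false
open CategoryTheory CategoryTheory.Limits MonoidalCategory CartesianMonoidalCategory MonObj GrpObj AlgebraicGeometry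


open Groth.Agent.Lib.Helper13.GenSpread Groth.Agent.Lib.Helper13.GenFreeChart
open Groth.Agent.Lib.Helper13.GenChart Groth.Agent.Lib.Helper13.WeilOver
open Groth.Agent.Lib.Helper25.ConsPair

/-- generic separatedness of a finitely presented group scheme over an integral base -/
theorem exists_open_isSeparated (S : Scheme.{u}) [IsIntegral S] (G : Over S) [GrpObj G]
    [LocallyOfFinitePresentation G.hom] [QuasiCompact G.hom] [QuasiSeparated G.hom] :
    ∃ V : S.Opens, (V : Set S).Nonempty ∧ IsSeparated (pullback.snd G.hom V.ι) := by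
  apply spread_obj @IsSeparated descends_isSeparated G
  exact Groth.Agent.Lib.Helper4.GrpFieldSep.isSeparated_of_field (S.residueField (genericPoint S))
    (Red.bc (S.fromSpecResidueField (genericPoint S)) G)

/-- transporter of two morphisms, given `WeilGood` and separatedness -/
theorem transporter {S : Scheme.{u}} (G Y : Over S) [GrpObj G] (hgood : WeilGood G Y)
    [IsSeparated G.hom] (u v : Y ⟶ G) :
    ∃ (T : Over S) (t : T ⟶ G), IsClosedImmersion t.left ∧
      (LocallyOfFiniteType G.hom → LocallyOfFinitePresentation t.left) ∧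
      ∀ (S' : Over S) (g : S' ⟶ G), (∃ z : S' ⟶ T, z ≫ t = g) ↔
        ∀ (S'' : Over S) (s : S'' ⟶ S') (y : S'' ⟶ Y),
          (s ≫ g) * (y ≫ u) * (s ≫ g)⁻¹ = y ≫ v := by
  obtain ⟨Z, j, hj, hfp, hZ⟩ := closed_eq G Y G hgood
    (fst G Y * (snd G Y ≫ u) * (fst G Y)⁻¹) (snd G Y ≫ v)
  refine ⟨Z, j, hj, hfp, ?_⟩
  intro S' g
  rw [hZ]
  have h1 : (g ▷ Y) ≫ (fst G Y * (snd G Y ≫ u) * (fst G Y)⁻¹) =
      (fst S' Y ≫ g) * (snd S' Y ≫ u) * (fst S' Y ≫ g)⁻¹ := by
    rw [MonObj.comp_mul, MonObj.comp_mul, GrpObj.comp_inv, whiskerRight_fst, whiskerRight_snd_assoc]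
  have h2 : (g ▷ Y) ≫ (snd G Y ≫ v) = snd S' Y ≫ v := by
    rw [whiskerRight_snd_assoc]
  rw [h1, h2]
  constructor
  · intro h S'' s y
    have := congrArg (fun φ => lift s y ≫ φ) h
    simp only [MonObj.comp_mul, GrpObj.comp_inv, lift_fst_assoc, lift_snd_assoc] at this
    exact this
  · intro h
    exact h (S' ⊗ Y) (fst S' Y) (snd S' Y)

theorem main (S : Scheme.{u}) [IsIntegral S] (G Y : Over S) [GrpObj G]
    [LocallyOfFinitePresentation G.hom] [QuasiCompact G.hom] [QuasiSeparated G.hom]
    [LocallyOfFinitePresentation Y.hom] [QuasiCompact Y.hom] [QuasiSeparated Y.hom] (u v : Y ⟶ G) :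
    ∃ U : S.Opens, (U : Set S).Nonempty ∧
      ∃ (T : Over (U : Scheme.{u})) (t : T ⟶ Red.bc U.ι G), IsClosedImmersion t.left ∧
        LocallyOfFinitePresentation T.hom ∧ QuasiCompact T.hom ∧ QuasiSeparated T.hom ∧
        ∀ (S' : Over (U : Scheme.{u})) (g : S' ⟶ Red.bc U.ι G), (∃ z : S' ⟶ T, z ≫ t = g) ↔
          ∀ (S'' : Over (U : Scheme.{u})) (s : S'' ⟶ S') (y : S'' ⟶ Red.bc U.ι Y),
            (s ≫ g) * (y ≫ (Over.pullback U.ι).map u) * (s ≫ g)⁻¹ = y ≫ (Over.pullback U.ι).map v := by
  obtain ⟨U₁, hU₁ne, hU₁sep⟩ := exists_open_isSeparated S G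
  obtain ⟨U, hUne, hUU₁, hU, J, _, V, hV, hcov, hproj⟩ := exists_free_charts Y U₁ hU₁ne
  haveI : IsAffine (U : Scheme.{u}) := hU
  haveI : IsSeparated (Red.bc U.ι G).hom := snd_of_le @IsSeparated G.hom hUU₁ hU₁sep
  have hgood : WeilGood (Red.bc U.ι G) (Red.bc U.ι Y) :=
    weilGood_of_affineCharts (Red.bc U.ι G) (Red.bc U.ι Y) V hV hcov hproj
  obtain ⟨T, t, ht, hfp, hT⟩ := transporter (Red.bc U.ι G) (Red.bc U.ι Y) hgood
    ((Over.pullback U.ι).map u) ((Over.pullback U.ι).map v)
  haveI := ht
  haveI : LocallyOfFinitePresentation (Red.bc U.ι G).hom :=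
    inferInstanceAs (LocallyOfFinitePresentation (pullback.snd G.hom U.ι))
  haveI : QuasiCompact (Red.bc U.ι G).hom :=
    inferInstanceAs (QuasiCompact (pullback.snd G.hom U.ι))
  haveI : QuasiSeparated (Red.bc U.ι G).hom :=
    inferInstanceAs (QuasiSeparated (pullback.snd G.hom U.ι))
  haveI : LocallyOfFinitePresentation t.left := hfp inferInstance
  refine ⟨U, hUne, T, t, ht, ?_, ?_, ?_, hT⟩
  · rw [← Over.w t]; infer_instance
  · rw [← Over.w t]; infer_instance
  · rw [← Over.w t]; infer_instance


end helpers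

/-- The transporter of two morphisms; the centralizer of a morphism is the case u = v: let S be an
integral scheme, G an S-group scheme of finite presentation, Y an S-scheme of finite presentation
and u, v : Y → G two morphisms of S-schemes. Then there is a nonempty open subscheme S' of S such
that, after base change to S', the transporter of u into v (points g with g u(y) g⁻¹ = v(y) for all
points y of Y after any base change) is represented by a closed subscheme of G_{S'} of finite
presentation over S'. (The published statement also treats, over the same open, the transporter and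
the strict transporter of two subschemes and the normalizer of a subscheme; this row treats the
transporter of two morphisms only.) -/
theorem result (S : Scheme.{u}) [IsIntegral S] (G Y : Over S) [GrpObj G]
    [LocallyOfFinitePresentation G.hom] [QuasiCompact G.hom] [QuasiSeparated G.hom]
    [LocallyOfFinitePresentation Y.hom] [QuasiCompact Y.hom] [QuasiSeparated Y.hom] (u v : Y ⟶ G) :
    ∃ U : S.Opens, (U : Set S).Nonempty ∧
      ∃ (T : Over (U : Scheme.{u})) (t : T ⟶ Red.bc U.ι G), IsClosedImmersion t.left ∧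
        LocallyOfFinitePresentation T.hom ∧ QuasiCompact T.hom ∧ QuasiSeparated T.hom ∧
        ∀ (S' : Over (U : Scheme.{u})) (g : S' ⟶ Red.bc U.ι G), (∃ z : S' ⟶ T, z ≫ t = g) ↔
          ∀ (S'' : Over (U : Scheme.{u})) (s : S'' ⟶ S') (y : S'' ⟶ Red.bc U.ι Y),
            (s ≫ g) * (y ≫ (Over.pullback U.ι).map u) * (s ≫ g)⁻¹ = y ≫ (Over.pullback U.ι).map v := by
  exact main S G Y u v

end Groth.Agent.S5374
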