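import Groth.Statements.S5376
-- import your own Groth.Agent.* helpers here
import Groth.Agent.Lib.Helper26.ComodFin
import Groth.Agent.Lib.Helper26.GLinOrbit
import Mathlib.LinearAlgebra.Dual.Lemmas

set_option autoImplicit false
universe u
open CategoryTheory CategoryTheory.Limits MonoidalCategory CartesianMonoidalCategory MonObj GrpObj AlgebraicGeometry
open SGA3

namespace Groth.Agent.S5376

/-- Let k be an algebraically closed field, A a finitely generated commutative Hopf algebra over k which
is reduced (a reduced affine algebraic k-group G), V a finite-dimensional A-comodule and v a vector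
of V. Let E be the k-subspace of V spanned by the vectors g·v for g running over the k-points of G
(algebra maps A → k). Then E is a subcomodule of V containing v, and it is the smallest one. -/
theorem result (k : Type u) [Field k] [IsAlgClosed k] (A : Type u) [CommRing A] [HopfAlgebra k A]
    [Algebra.FiniteType k A] [IsReduced A] (V : Type u) [AddCommGroup V] [Module k V] [HopfRep.Comod k A V]
    [Module.Finite k V] (v : V) :
    letI E : Submodule k V := Submodule.span k (Set.range fun g : A →ₐ[k] k => HopfRep.Comod.act k A V g v)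
    HopfRep.IsSubcomod (k := k) (A := A) E ∧ v ∈ E ∧
      ∀ W : Submodule k V, HopfRep.IsSubcomod (k := k) (A := A) W → v ∈ W → E ≤ W := by
  classical
  set E : Submodule k V := Submodule.span k
    (Set.range fun g : A →ₐ[k] k => HopfRep.Comod.act k A V g v) with hEdef
  have hact : ∀ g : A →ₐ[k] k, HopfRep.Comod.act k A V g v =
      Groth.Agent.Lib.Helper26.Comod.T g.toLinearMap v := fun g => rfl
  -- E ≤ gen v
  have hEle : E ≤ Groth.Agent.Lib.Helper26.Comod.gen k A v := by
    apply Submodule.span_le.mpr
    rintro _ ⟨g, rfl⟩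
    exact ⟨g.toLinearMap, rfl⟩
  -- gen v ≤ E
  have hgenle : Groth.Agent.Lib.Helper26.Comod.gen k A v ≤ E := by
    rintro _ ⟨φ, rfl⟩
    by_contra hnot
    obtain ⟨ℓ, hℓ, hℓE⟩ := Submodule.exists_dual_map_eq_bot_of_notMem hnot inferInstance
    -- c = (ℓ ⊗ id)(ρ v)
    let c : A := TensorProduct.lid k A (ℓ.rTensor A (HopfRep.Comod.coact (k := k) (A := A) v))
    have hc : ∀ ψ : A →ₗ[k] k, ℓ (Groth.Agent.Lib.Helper26.Comod.T ψ v) = ψ c := by
      intro ψ
      rw [Groth.Agent.Lib.Helper26.Comod.T_apply]
      change _ = ψ (TensorProduct.lid k A (ℓ.rTensor A (HopfRep.Comod.coact (k := k) (A := A) v)))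
      generalize HopfRep.Comod.coact (k := k) (A := A) v = y
      induction y using TensorProduct.induction_on with
      | zero => simp
      | tmul u a => simp [mul_comm]
      | add y y' hy hy' => simp only [map_add, hy, hy']
    have hgc : ∀ g : A →ₐ[k] k, g c = 0 := by
      intro g
      have h1 : ℓ (HopfRep.Comod.act k A V g v) ∈ E.map ℓ :=
        Submodule.mem_map_of_mem (Submodule.subset_span ⟨g, rfl⟩)
      rw [hℓE, Submodule.mem_bot, hact, hc] at h1
      exact h1
    -- c lies in every maximal ideal, hence is zero
    have hc0 : c = 0 := by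
      have hJR : IsJacobsonRing A := isJacobsonRing_of_finiteType (A := k)
      have hjac : (⊥ : Ideal A).jacobson = ⊥ := by
        rw [← Ideal.radical_eq_jacobson]
        exact nilradical_eq_zero A
      have : c ∈ (⊥ : Ideal A).jacobson := by
        rw [Ideal.jacobson, Ideal.mem_sInf]
        rintro m ⟨-, hm⟩
        obtain ⟨g, hg⟩ := Groth.Agent.Lib.Helper26.Comod.exists_point_of_ne_top (k := k) m hm.ne_top
        have hker : RingHom.ker g ≠ ⊤ := by
          intro h
          have : (1 : A) ∈ RingHom.ker g := h ▸ Submodule.mem_top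
          rw [RingHom.mem_ker, map_one] at this
          exact one_ne_zero this
        rw [hm.eq_of_le hker hg]
        exact hgc g
      rwa [hjac, Ideal.mem_bot] at this
    exact hℓ (by rw [Groth.Agent.Lib.Helper26.Comod.Tlin_apply, hc, hc0, map_zero])
  have hE : E = Groth.Agent.Lib.Helper26.Comod.gen k A v := le_antisymm hEle hgenle
  refine ⟨?_, ?_, ?_⟩
  · rw [hE]; exact Groth.Agent.Lib.Helper26.Comod.isSubcomod_gen v
  · rw [hE]; exact Groth.Agent.Lib.Helper26.Comod.mem_gen v
  · intro W hW hvW
    rw [hE]
    exact Groth.Agent.Lib.Helper26.Comod.gen_le_of_mem hW hvW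

end Groth.Agent.S5376
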