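import Groth.Statements.S5377
-- (no extra imports)

set_option autoImplicit false
universe u
open CategoryTheory CategoryTheory.Limits MonoidalCategory CartesianMonoidalCategory MonObj GrpObj AlgebraicGeometry
open SGA3

namespace Groth.Agent.S5377

section abstract

/-- Lift a finite family to a common stage. -/
theorem exists_lift_family {J : Type*} [Category J] [IsFiltered J]
    {B : J → Type*} [∀ j, CommRing (B j)]
    (bmap : ∀ {j k : J}, (j ⟶ k) → B j →+* B k) {T : Type*} [CommRing T]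
    (inc : ∀ j, B j →+* T)
    (hinc : ∀ {j k : J} (f : j ⟶ k) (b : B j), inc k (bmap f b) = inc j b)
    (surj : ∀ t : T, ∃ j b, inc j b = t) {l : ℕ} (x : Fin l → T) (j₀ : J) :
    ∃ (k : J) (_ : j₀ ⟶ k) (x' : Fin l → B k), ∀ i, inc k (x' i) = x i := by
  classical
  choose j b hb using surj
  obtain ⟨k, hk⟩ := IsFiltered.sup_objs_exists (insert j₀ (Finset.univ.image fun i => j (x i)))
  have h0 : Nonempty (j₀ ⟶ k) := hk (Finset.mem_insert_self _ _)
  have hi : ∀ i, Nonempty (j (x i) ⟶ k) := fun i =>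
    hk (Finset.mem_insert_of_mem (Finset.mem_image_of_mem _ (Finset.mem_univ i)))
  refine ⟨k, h0.some, fun i => bmap (hi i).some (b (x i)), fun i => ?_⟩
  rw [hinc, hb]

variable {J : Type*} [Category J] [IsFiltered J]
  {C A : J → Type*} [∀ j, CommRing (C j)] [∀ j, CommRing (A j)]
  (cmap : ∀ {j k : J}, (j ⟶ k) → C j →+* C k) (amap : ∀ {j k : J}, (j ⟶ k) → A j →+* A k)
  (φ : ∀ j, C j →+* A j)
  {R S : Type*} [CommRing R] [CommRing S] (Φ : R →+* S)
  (incC : ∀ j, C j →+* R) (incA : ∀ j, A j →+* S)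
  (nat : ∀ {j k : J} (f : j ⟶ k) (c : C j), φ k (cmap f c) = amap f (φ j c))
  (hincC : ∀ {j k : J} (f : j ⟶ k) (c : C j), incC k (cmap f c) = incC j c)
  (hincA : ∀ {j k : J} (f : j ⟶ k) (a : A j), incA k (amap f a) = incA j a)
  (hΦ : ∀ j (c : C j), Φ (incC j c) = incA j (φ j c))
  (surjC : ∀ r : R, ∃ j c, incC j c = r) (surjA : ∀ s : S, ∃ j a, incA j a = s)
  (injA : ∀ j (a a' : A j), incA j a = incA j a' → ∃ (k : J) (f : j ⟶ k), amap f a = amap f a')

include nat hincC hincA hΦ surjC surjA injA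

/-- common stage for two families and a relation -/
theorem exists_stage {l : ℕ} (f : Fin l → R) (x : Fin l → S) (s₀ : S) (a₀ : ∀ j, A j)
    (ha₀ : ∀ j, incA j (a₀ j) = s₀) (ha₀' : ∀ {j k : J} (g : j ⟶ k), amap g (a₀ j) = a₀ k)
    (hrel : ∑ i, Φ (f i) * x i = s₀) :
    ∃ (k : J) (f' : Fin l → C k) (x' : Fin l → A k), (∀ i, incC k (f' i) = f i) ∧
      (∀ i, incA k (x' i) = x i) ∧ ∑ i, φ k (f' i) * x' i = a₀ k := by
  obtain ⟨j₀⟩ : Nonempty J := IsFiltered.nonempty
  obtain ⟨j₁, -, f₁, hf₁⟩ := exists_lift_family cmap incC hincC surjC f j₀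
  obtain ⟨j₂, g₂, x₂, hx₂⟩ := exists_lift_family amap incA hincA surjA x j₁
  have h1 : incA j₂ (∑ i, φ j₂ (cmap g₂ (f₁ i)) * x₂ i) = incA j₂ (a₀ j₂) := by
    rw [map_sum, ha₀, ← hrel]
    refine Finset.sum_congr rfl fun i _ => ?_
    rw [map_mul, ← hΦ, hincC, hf₁, hx₂]
  obtain ⟨k, g, hk⟩ := injA _ _ _ h1
  refine ⟨k, fun i => cmap g (cmap g₂ (f₁ i)), fun i => amap g (x₂ i), fun i => ?_, fun i => ?_, ?_⟩
  · rw [hincC, hincC, hf₁]
  · rw [hincA, hx₂]
  · rw [ha₀'] at hk
    rw [← hk, map_sum]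
    refine Finset.sum_congr rfl fun i _ => ?_
    rw [map_mul, nat]

theorem flat_of_stages (h : ∀ j, (φ j).Flat) : Φ.Flat := by
  algebraize [Φ]
  show Module.Flat R S
  refine Module.Flat.of_forall_isTrivialRelation fun {l f x} hrel => ?_
  obtain ⟨k, f', x', hf', hx', hk⟩ := exists_stage cmap amap φ Φ incC incA nat hincC hincA hΦ surjC surjA
    injA f x 0 (fun _ => 0) (fun _ => map_zero _) (fun _ => map_zero _)
    (by simpa [Algebra.smul_def, RingHom.algebraMap_toAlgebra] using hrel)
  have hfl := h k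
  algebraize [φ k]
  have hfl' : Module.Flat (C k) (A k) := hfl
  have hrel' : ∑ i, f' i • x' i = 0 := by
    simpa [Algebra.smul_def, RingHom.algebraMap_toAlgebra] using hk
  obtain ⟨κ, a, y, h1, h2⟩ := Module.Flat.isTrivialRelation_of_sum_smul_eq_zero hrel'
  refine ⟨κ, fun i j => incC k (a i j), fun j => incA k (y j), fun i => ?_, fun j => ?_⟩
  · rw [← hx', h1, map_sum]
    refine Finset.sum_congr rfl fun j _ => ?_
    rw [Algebra.smul_def, Algebra.smul_def, RingHom.algebraMap_toAlgebra,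
      RingHom.algebraMap_toAlgebra, map_mul, hΦ]
  · rw [← map_zero (incC k), ← h2 j, map_sum]
    refine Finset.sum_congr rfl fun i _ => ?_
    rw [map_mul, hf']

theorem faithfullyFlat_of_stages (h : ∀ j, (φ j).FaithfullyFlat) : Φ.FaithfullyFlat := by
  have hflat : Φ.Flat := flat_of_stages cmap amap φ Φ incC incA nat hincC hincA hΦ surjC surjA injA
    fun j => (h j).flat
  algebraize [Φ]
  show Module.FaithfullyFlat R S
  rw [Module.FaithfullyFlat.iff_flat_and_ideal_smul_eq_top]
  refine ⟨hflat, fun I hI => ?_⟩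
  have h1 : (1 : S) ∈ I • (⊤ : Submodule R S) := by rw [hI]; trivial
  have h1' : (1 : S) ∈ Ideal.map Φ I := by
    have : (I • (⊤ : Submodule R S)) = (Ideal.map (algebraMap R S) I).restrictScalars R :=
      Ideal.smul_top_eq_map I
    rw [this] at h1
    exact h1
  rw [Ideal.map, Ideal.span, Submodule.mem_span_set'] at h1'
  obtain ⟨l, s, g, hsum⟩ := h1'
  choose m hmI hm using fun i => (g i).2
  have hrel : ∑ i, Φ (m i) * s i = 1 := by
    rw [← hsum]
    refine Finset.sum_congr rfl fun i _ => ?_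
    rw [hm, smul_eq_mul, mul_comm]
  obtain ⟨k, m', s', hm', hs', hk⟩ := exists_stage cmap amap φ Φ incC incA nat hincC hincA hΦ surjC surjA
    injA m s 1 (fun _ => 1) (fun _ => map_one _) (fun _ => map_one _) hrel
  have hff := h k
  algebraize [φ k]
  have hff' : Module.FaithfullyFlat (C k) (A k) := hff
  have htop : Ideal.span (Set.range m') = ⊤ := by
    refine (Module.FaithfullyFlat.iff_flat_and_ideal_smul_eq_top (C k) (A k)).1 hff' |>.2 _ ?_
    rw [Ideal.smul_top_eq_map]
    have h1 : (1 : A k) ∈ Ideal.map (algebraMap (C k) (A k)) (Ideal.span (Set.range m')) := by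
      have : (1 : A k) = ∑ i, algebraMap (C k) (A k) (m' i) * s' i := by
        rw [← hk]
        refine Finset.sum_congr rfl fun i _ => ?_
        rw [RingHom.algebraMap_toAlgebra]
      rw [this]
      exact Ideal.sum_mem _ fun i _ => Ideal.mul_mem_right _ _
        (Ideal.mem_map_of_mem _ (Ideal.subset_span ⟨i, rfl⟩))
    rw [(Ideal.eq_top_iff_one _).2 h1]
    rfl
  have h1k : (1 : C k) ∈ Ideal.span (Set.range m') := by rw [htop]; trivial
  rw [Ideal.span, Submodule.mem_span_range_iff_exists_fun] at h1k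
  obtain ⟨c, hc⟩ := h1k
  rw [Ideal.eq_top_iff_one, ← map_one (incC k), ← hc, map_sum]
  refine Ideal.sum_mem _ fun i _ => ?_
  rw [smul_eq_mul, map_mul, hm']
  exact Ideal.mul_mem_left _ _ (hmI i)

end abstract


/-- Let (C_i → A_i)_i be a filtered direct system of homomorphisms of commutative rings, each of which
is faithfully flat. Then the induced homomorphism colim C_i → colim A_i is faithfully flat. -/
theorem result (J : Type u) [SmallCategory J] [IsFiltered J]
    (C A : J ⥤ CommRingCat.{u}) (φ : C ⟶ A) (h : ∀ j : J, (φ.app j).hom.FaithfullyFlat) :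
    (colimMap φ).hom.FaithfullyFlat := by
  refine faithfullyFlat_of_stages (C := fun j => C.obj j) (A := fun j => A.obj j)
    (fun f => (C.map f).hom) (fun f => (A.map f).hom) (fun j => (φ.app j).hom)
    (colimMap φ).hom (fun j => (colimit.ι C j).hom) (fun j => (colimit.ι A j).hom)
    ?_ ?_ ?_ ?_ ?_ ?_ ?_ h
  · intro j k f c
    have := φ.naturality f
    exact congrArg (fun g => g.hom c) this
  · intro j k f c
    exact congrArg (fun g => g.hom c) (colimit.w C f)
  · intro j k f c
    exact congrArg (fun g => g.hom c) (colimit.w A f)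
  · intro j c
    exact congrArg (fun g => g.hom c) (ι_colimMap φ j)
  · intro r
    exact Concrete.colimit_exists_rep C r
  · intro s
    exact Concrete.colimit_exists_rep A s
  · intro j a a' haa
    exact (IsColimit.eq_iff' (colimit.isColimit A) a a').1 haa

end Groth.Agent.S5377
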