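import Groth.Statements.S5380
import Groth.Agent.Lib.Helper2.TorKill

set_option autoImplicit false
universe u
open CategoryTheory CategoryTheory.Limits MonoidalCategory CartesianMonoidalCategory MonObj GrpObj AlgebraicGeometry
open SGA3

namespace Groth.Agent.S5380

open TensorProduct

/-- general lemma: `a` regular on `A` and `M`, `M/aM` flat over `A/a`, `M_a` flat over `A`
then `M` flat over `A`. -/
theorem flat_of_regular {A : Type u} [CommRing A] (a : A) (M : Type u) [AddCommGroup M] [Module A M]
    (haA : ∀ x : A, a * x = 0 → x = 0) (haM : ∀ m : M, a • m = 0 → m = 0)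
    [Module.Flat (A ⧸ Ideal.span {a}) ((A ⧸ Ideal.span {a}) ⊗[A] M)]
    (h2 : Module.Flat A (LocalizedModule (Submonoid.powers a) M)) :
    Module.Flat A M := by
  set I : Ideal A := Ideal.span {a} with hI
  have haI : a ∈ I := Ideal.subset_span rfl
  -- Step B
  have hB : Function.Injective (I.subtype.lTensor M) := by
    have hform : ∀ x : M ⊗[A] I, ∃ m : M, x = m ⊗ₜ[A] (⟨a, haI⟩ : I) := by
      intro x
      induction x using TensorProduct.induction_on with
      | zero => exact ⟨0, by simp⟩
      | tmul m i =>
        obtain ⟨r, hr⟩ := Ideal.mem_span_singleton'.mp i.2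
        refine ⟨r • m, ?_⟩
        rw [TensorProduct.smul_tmul]
        congr 1
        ext
        simp [← hr]
      | add x y hx hy =>
        obtain ⟨m, rfl⟩ := hx
        obtain ⟨m', rfl⟩ := hy
        exact ⟨m + m', by rw [TensorProduct.add_tmul]⟩
    rw [injective_iff_map_eq_zero]
    intro x hx
    obtain ⟨m, rfl⟩ := hform x
    have h3 : (TensorProduct.rid A M) (I.subtype.lTensor M (m ⊗ₜ[A] (⟨a, haI⟩ : I))) = a • m := by
      simp
    rw [hx, map_zero] at h3
    rw [haM m h3.symm, TensorProduct.zero_tmul]
  -- Step D
  have haAn : ∀ (n : ℕ) (x : A), a ^ n * x = 0 → x = 0 := by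
    intro n
    induction n with
    | zero => intro x hx; simpa using hx
    | succ n ih =>
      intro x hx
      apply ih
      apply haA
      rw [← _root_.mul_assoc, ← pow_succ']
      exact hx
  have hD : ∀ (J : Ideal A) (n : ℕ) (x : M ⊗[A] J), a ^ n • x = 0 → x = 0 := by
    intro J n x hx
    let mu : J →ₗ[A] J := (a ^ n) • LinearMap.id
    let N' : Submodule A J := LinearMap.range mu
    have hle : I ^ n • (⊤ : Submodule A J) ≤ N' := by
      rw [hI, Ideal.span_singleton_pow, Submodule.smul_le]
      intro r hr y _
      obtain ⟨s, rfl⟩ := Ideal.mem_span_singleton'.mp hr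
      refine ⟨s • y, ?_⟩
      simp only [mu, LinearMap.smul_apply, LinearMap.id_apply]
      rw [smul_smul, mul_comm]
    have hinj : Function.Injective (N'.subtype.lTensor M) :=
      Groth.Agent.Lib.Helper2.TorKill.lTensor_subtype_injective_of_pow I hB n J N' hle
    have hmuinj : Function.Injective mu := by
      rw [injective_iff_map_eq_zero]
      intro y hy
      have : a ^ n * (y : A) = 0 := by
        have := congrArg Subtype.val hy
        simpa [mu] using this
      exact Subtype.ext (haAn n _ this)
    let e : J ≃ₗ[A] N' := LinearEquiv.ofInjective mu hmuinj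
    have hcomp : mu = N'.subtype ∘ₗ e.toLinearMap := by
      ext y; rfl
    have hmuM : Function.Injective (mu.lTensor M) := by
      rw [hcomp, LinearMap.lTensor_comp, LinearMap.coe_comp]
      exact hinj.comp (LinearEquiv.lTensor M e).injective
    apply hmuM
    rw [map_zero]
    have : mu.lTensor M = (a ^ n) • LinearMap.id := by
      simp only [mu, LinearMap.lTensor_smul, LinearMap.lTensor_id]
    rw [this, LinearMap.smul_apply, LinearMap.id_apply, hx]
  -- Step E
  rw [Module.Flat.iff_lTensor_injective]
  intro J _
  rw [injective_iff_map_eq_zero]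
  intro x hx
  let S := Submonoid.powers a
  let f : M →ₗ[A] LocalizedModule S M := LocalizedModule.mkLinearMap S M
  have hnat : (J.subtype.lTensor (LocalizedModule S M)) ∘ₗ (f.rTensor J) =
      (f.rTensor A) ∘ₗ (J.subtype.lTensor M) := by
    ext m j
    simp
  have h0 : f.rTensor J x = 0 := by
    have hinj : Function.Injective (J.subtype.lTensor (LocalizedModule S M)) :=
      Module.Flat.lTensor_preserves_injective_linearMap _ J.injective_subtype
    apply hinj
    rw [map_zero, ← LinearMap.comp_apply, hnat, LinearMap.comp_apply, hx, map_zero]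
  have hloc : IsLocalizedModule S (TensorProduct.AlgebraTensorModule.rTensor A J f) :=
    inferInstance
  have h0' : (TensorProduct.AlgebraTensorModule.rTensor A J f) x = 0 := h0
  obtain ⟨c, hc⟩ := (IsLocalizedModule.eq_zero_iff S _).mp h0'
  obtain ⟨n, hn⟩ := c.2
  apply hD J n x
  have hn' : a ^ n = (c : A) := hn
  rw [hn']
  exact hc


/-- Let R be a discrete valuation ring with uniformizer π, A a flat commutative R-algebra and M an
A-module which is flat over R. Suppose that M/πM is a flat module over A/πA and that M ⊗_R K is a
flat module over A ⊗_R K, K the fraction field of R (equivalently, M[1/π] is flat over A[1/π], the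
form used here). Then M is a flat A-module. -/
theorem result (R : Type u) [CommRing R] [IsDomain R] [IsDiscreteValuationRing R]
    (π : R) (hπ : Irreducible π) (A : Type u) [CommRing A] [Algebra R A] [Module.Flat R A]
    (M : Type u) [AddCommGroup M] [Module A M] [Module R M] [IsScalarTower R A M] [Module.Flat R M]
    (h1 : Module.Flat (A ⧸ Ideal.span {algebraMap R A π}) (M ⧸ (Ideal.span {algebraMap R A π} • (⊤ : Submodule A M))))
    (h2 : Module.Flat (Localization.Away (algebraMap R A π)) (LocalizedModule (Submonoid.powers (algebraMap R A π)) M)) :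
    Module.Flat A M := by
  have hπ0 : π ∈ nonZeroDivisors R := mem_nonZeroDivisors_of_ne_zero hπ.ne_zero
  have hregA : IsSMulRegular A π := Module.Flat.isSMulRegular_of_nonZeroDivisors hπ0
  have hregM : IsSMulRegular M π := Module.Flat.isSMulRegular_of_nonZeroDivisors hπ0
  set a : A := algebraMap R A π with ha
  have haA : ∀ x : A, a * x = 0 → x = 0 := by
    intro x hx
    apply hregA
    simp only [smul_zero]
    rw [Algebra.smul_def]
    exact hx
  have haM : ∀ m : M, a • m = 0 → m = 0 := by
    intro m hm
    apply hregM
    simp only [smul_zero]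
    rw [← algebraMap_smul A π m]
    exact hm
  let e : ((A ⧸ Ideal.span {a}) ⊗[A] M) ≃ₗ[A ⧸ Ideal.span {a}] (M ⧸ (Ideal.span {a} • (⊤ : Submodule A M))) :=
    (TensorProduct.quotTensorEquivQuotSMul M (Ideal.span {a})).extendScalarsOfSurjective
      Ideal.Quotient.mk_surjective
  haveI : Module.Flat (A ⧸ Ideal.span {a}) ((A ⧸ Ideal.span {a}) ⊗[A] M) :=
    Module.Flat.of_linearEquiv e
  have h2' : Module.Flat A (LocalizedModule (Submonoid.powers a) M) :=
    Module.Flat.trans A (Localization.Away a) _
  exact flat_of_regular a M haA haM h2'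

end Groth.Agent.S5380
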