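import Groth.Statements.S5381
import Mathlib

set_option autoImplicit false
universe u
open CategoryTheory CategoryTheory.Limits MonoidalCategory CartesianMonoidalCategory MonObj GrpObj AlgebraicGeometry
open SGA3

namespace Groth.Agent.S5381

/-- For S the spectrum of a Dedekind domain R: let X be a scheme which is flat, quasi-compact and
quasi-separated over R. Then the ring of global sections Γ(X, O_X) is a flat R-module. (The
published remark takes S locally noetherian and regular of dimension 1 and also observes, when S is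
local with closed point s and uniformizer π, that Γ(X, O_X)/πΓ(X, O_X) → Γ(X_s, O_{X_s}) is
injective; this row takes S the spectrum of a Dedekind domain and omits the injectivity.) -/
theorem result (R : Type u) [CommRing R] [IsDedekindDomain R]
    (X : Scheme.{u}) (f : X ⟶ Spec (CommRingCat.of R)) [Flat f] [QuasiCompact f] [QuasiSeparated f] :
    letI := ((Scheme.ΓSpecIso (CommRingCat.of R)).inv ≫ f.appTop).hom.toAlgebra
    Module.Flat R Γ(X, ⊤) := by
  let alg := ((Scheme.ΓSpecIso (CommRingCat.of R)).inv ≫ f.appTop).hom.toAlgebra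
  rw [IsDedekindDomain.flat_iff_torsion_eq_bot, eq_bot_iff]
  rintro s ⟨⟨r, hr⟩, h⟩
  rw [Submodule.mem_bot]
  have h' : ((Scheme.ΓSpecIso (CommRingCat.of R)).inv ≫ f.appTop).hom r * s = 0 := h
  apply X.sheaf.eq_of_locally_eq' (fun i : X.affineOpens => (i : X.Opens)) ⊤ (fun i => homOfLE le_top)
    (by rw [iSup_affineOpens_eq_top])
  intro V
  change (X.presheaf.map (homOfLE (le_top : V.1 ≤ ⊤)).op).hom s = (X.presheaf.map (homOfLE (le_top : V.1 ≤ ⊤)).op).hom 0
  rw [map_zero]
  -- flatness of the local map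
  have hfl : (f.appLE ⊤ V.1 (by simp)).hom.Flat := Flat.flat_appLE f (isAffineOpen_top _) V.2 _
  have hiso : ((Scheme.ΓSpecIso (CommRingCat.of R)).inv).hom.Flat :=
    RingHom.Flat.of_bijective (ConcreteCategory.bijective_of_isIso (Scheme.ΓSpecIso (CommRingCat.of R)).inv)
  have hfl2 : ((Scheme.ΓSpecIso (CommRingCat.of R)).inv ≫ f.appLE ⊤ V.1 (by simp)).hom.Flat := by
    rw [CommRingCat.hom_comp]
    exact RingHom.Flat.comp hiso hfl
  have hcomp : f.appLE ⊤ V.1 (by simp) = f.appTop ≫ X.presheaf.map (homOfLE (le_top : V.1 ≤ ⊤)).op := rfl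
  set ψ := ((Scheme.ΓSpecIso (CommRingCat.of R)).inv ≫ f.appLE ⊤ V.1 (by simp)).hom with hψ
  have hreg : IsSMulRegular Γ(X, V.1) (ψ r) := by
    letI := ψ.toAlgebra
    have : Module.Flat R Γ(X, V.1) := hfl2
    have h1 : IsSMulRegular R r := by
      rw [isSMulRegular_iff_right_eq_zero_of_smul]
      intro x hx
      exact (mem_nonZeroDivisors_iff.mp hr).1 x (by simpa [mul_comm] using hx)
    exact IsSMulRegular.of_flat h1
  apply hreg
  change ψ r * _ = ψ r * 0
  rw [mul_zero]
  have : ψ r = (X.presheaf.map (homOfLE (le_top : V.1 ≤ ⊤)).op).hom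
      (((Scheme.ΓSpecIso (CommRingCat.of R)).inv ≫ f.appTop).hom r) := by
    rw [hψ, hcomp]; rfl
  rw [this, ← map_mul, h', map_zero]

end Groth.Agent.S5381
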