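import Groth.Statements.S5397
import Groth.Agent.Lib.Helper24.NFT.Sep

set_option autoImplicit false
universe u
open CategoryTheory CategoryTheory.Limits MonoidalCategory CartesianMonoidalCategory MonObj GrpObj AlgebraicGeometry
open SGA3

namespace Groth.Agent.S5397

/-- Let G be an S-group scheme locally of finite presentation over S and universally open over S on some
open containing the unit section, acting on an S-scheme X so that G ×_S X → X ×_S X, (g, x) ↦ (gx,
x), is surjective, and suppose every fibre X_s is a quasi-separated and connected space. Then X is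
separated over S; and if there is an open subscheme V of X, quasi-compact over S, meeting every
nonempty fibre X_s, then X is quasi-compact over S. (The published statement concludes that X is
quasi-compact over S without the open V; for a local scheme S whose punctured spectrum is not
quasi-compact, the trivial group acting on the disjoint union of the closed point and the punctured
spectrum satisfies every hypothesis and is not quasi-compact over S, so the open V is required
here.) -/
theorem result (S : Scheme.{u}) (G X : Over S) [GrpObj G]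
    [LocallyOfFinitePresentation G.hom]
    (hGo : ∃ W : G.left.Opens, (∀ p : ↥(𝟙_ (Over S)).left, η[G].left.base p ∈ W) ∧ UniversallyOpen (W.ι ≫ G.hom))
    (a : AlgGrp.Action G X) (hΦ : Surjective (lift a.act (snd G X)).left)
    (hqs : ∀ s : S, QuasiSeparatedSpace ↥(X.hom.base ⁻¹' {s}))
    (hconn : ∀ s : S, _root_.IsPreconnected (X.hom.base ⁻¹' {s})) :
    IsSeparated X.hom ∧
    ((∃ V : X.left.Opens, QuasiCompact (V.ι ≫ X.hom) ∧
        ∀ s : S, (X.hom.base ⁻¹' {s}).Nonempty → ((V : Set X.left) ∩ X.hom.base ⁻¹' {s}).Nonempty) →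
      QuasiCompact X.hom) := by
  have hirr : ∀ s : S, IsPreirreducible (X.hom.base ⁻¹' {s}) := fun s =>
    Groth.Agent.Lib.Helper24.NFT.isPreirreducible_fibre_of_quasiSeparated a hΦ s (hqs s) (hconn s)
  refine ⟨Groth.Agent.Lib.Helper24.NFT.isSeparated_of_irreducible_fibres a hGo hΦ hirr, ?_⟩
  rintro ⟨V, hVqc, hVm⟩
  rw [quasiCompact_iff_forall_isAffineOpen]
  intro S' hS'
  let V' : X.left.Opens := V ⊓ X.hom ⁻¹ᵁ S'
  have hV'c : IsCompact (V' : Set X.left) := by
    have h1 : IsCompact (((V.ι ≫ X.hom) ⁻¹ᵁ S' : V.toScheme.Opens) : Set V.toScheme) :=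
      (quasiCompact_iff_forall_isAffineOpen.1 hVqc) S' hS'
    have h2 := h1.image V.ι.continuous
    have h3 : V.ι.base '' (((V.ι ≫ X.hom) ⁻¹ᵁ S' : V.toScheme.Opens) : Set V.toScheme) =
        (V' : Set X.left) := by
      change V.ι.base '' (V.ι.base ⁻¹' (X.hom.base ⁻¹' (S' : Set S))) = _
      rw [Set.image_preimage_eq_inter_range, V.range_ι, Set.inter_comm]
      rfl
    rwa [h3] at h2
  refine Groth.Agent.Lib.Helper24.NFT.isCompact_preimage_of_fibres a hΦ S' hS'
    (fun x _ => hirr _) V' hV'c (fun v hv => hv.2) ?_
  intro x hx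
  obtain ⟨v, hvV, hvs⟩ := hVm (X.hom.base x) ⟨x, rfl⟩
  refine ⟨v, ⟨hvV, ?_⟩, hvs⟩
  change X.hom.base v ∈ S'
  rw [show X.hom.base v = X.hom.base x from hvs]
  exact hx

end Groth.Agent.S5397
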