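import Groth.Statements.S5421
import Groth.Agent.S19140
import Groth.Agent.S16611
import Groth.Agent.S16614
import Groth.Agent.Lib.Helper14.MTSplitA

set_option autoImplicit false
universe u
open CategoryTheory MonoidalCategory CartesianMonoidalCategory MonObj GrpObj AlgebraicGeometry CategoryTheory.Limits
open Red

namespace Groth.Agent.S5421

open Groth.Agent.Lib.Helper14 GrpBridge TensorProduct

section chart

variable {S : Scheme.{u}} {G H : Over S} [GrpObj G] [GrpObj H] (u : G ⟶ H) [IsMonHom u]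

lemma specHom_id (B HN : Type u) [CommRing B] [CommRing HN] [Algebra B HN] :
    specHom B HN (AlgHom.id B HN) = 𝟙 _ := by
  ext1
  rw [specHom_left]
  exact Spec.map_id _

open scoped Obj in
/-- on a chart: the fibre is faithfully flat iff the homomorphism of character groups is
injective, and trivial iff the latter is zero -/
theorem chart_both {B : Type u} [CommRing B] (k : Spec (CommRingCat.of B) ⟶ S)
    {HM HN : Type u} [CommRing HM] [CommRing HN] [Bialgebra B HM] [Bialgebra B HN]
    {M N : Type} [AddCommGroup M] [AddCommGroup N]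
    (GM : MTHom1.GLB B HM M) (GN : MTHom1.GLB B HN N) (f : HN →ₐc[B] HM)
    (εG : Red.bc k G ≅ (Spec (.of HM)).asOver (Spec (.of B))) [IsMonHom εG.hom]
    (εH : Red.bc k H ≅ (Spec (.of HN)).asOver (Spec (.of B))) [IsMonHom εH.hom]
    (hf : εG.inv ≫ (Over.pullback k).map u ≫ εH.hom = specHom B HN (f : HN →ₐ[B] HM))
    (t : Spec (CommRingCat.of B)) :
    ((@Flat ⊓ @Surjective : MorphismProperty Scheme.{u})
        ((Over.pullback (S.fromSpecResidueField (k t))).map u).left ↔
      Function.Injective (MTHom1.φP f GM GN t)) ∧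
    ((Over.pullback (S.fromSpecResidueField (k t))).map u = 1 ↔ MTHom1.φP f GM GN t = 0) := by
  haveI := Groth.Agent.S19140.sbFS.{u}
  haveI := Groth.Agent.S19140.daFS.{u}
  constructor
  · refine MTHom4.fibre_iff (@Flat ⊓ @Surjective : MorphismProperty Scheme.{u}) u k GM GN f
      (fun φ => Function.Injective φ) (fun R' _ _ φ₀ hconst => ?_) t
    have h1 := Groth.Agent.S19140.chartHyp_ff B HM HN M N GM GN f R' φ₀ hconst
    rw [MTHom3.transfer u k εG εH (f : HN →ₐ[B] HM) hf (@Flat ⊓ @Surjective : MorphismProperty Scheme.{u}) R']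
    exact h1
  · have hJ : εH.inv ≫ (Over.pullback k).map (𝟙 H) ≫ εH.hom =
        specHom B HN (AlgHom.id B HN) := by
      rw [CategoryTheory.Functor.map_id, Category.id_comp, Iso.inv_hom_id, specHom_id]
    have h := MTSplitA.fibre_triv_iff u (𝟙 H) k GM GN GN εG εH εH f hf (AddMonoidHom.id N)
      (AlgHom.id B HN) (fun x => rfl) hJ t
    rw [Category.comp_id] at h
    rw [h]
    constructor
    · intro h0
      ext x
      exact h0 x
    · intro h0 x
      rw [h0]
      rfl

open scoped Obj in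
theorem chart_both_diag (K R : Type u) [CommRing K] [CommRing R] [Algebra K R]
    (k : Spec (CommRingCat.of R) ⟶ S) (M N : Type) [AddCommGroup M] [AddCommGroup N]
    (eG : Red.bc k G ≅ Red.bc (Spec.map (CommRingCat.ofHom (algebraMap K R))) (Red.diag K M))
    [IsMonHom eG.hom]
    (eH : Red.bc k H ≅ Red.bc (Spec.map (CommRingCat.ofHom (algebraMap K R))) (Red.diag K N))
    [IsMonHom eH.hom] :
    ∃ φ : Spec (CommRingCat.of R) → (N →+ M), ∀ t,
      ((@Flat ⊓ @Surjective : MorphismProperty Scheme.{u})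
        ((Over.pullback (S.fromSpecResidueField (k t))).map u).left ↔
        Function.Injective (φ t)) ∧
      ((Over.pullback (S.fromSpecResidueField (k t))).map u = 1 ↔ φ t = 0) := by
  obtain ⟨κG, hκG⟩ := MTAffine.exists_bc_spec_iso K R (MonoidAlgebra K (Multiplicative M))
  obtain ⟨κH, hκH⟩ := MTAffine.exists_bc_spec_iso K R (MonoidAlgebra K (Multiplicative N))
  obtain ⟨εG, hεG⟩ : ∃ ε : Red.bc k G ≅ (Spec (.of (R ⊗[K]
      MonoidAlgebra K (Multiplicative M)))).asOver (Spec (.of R)), IsMonHom ε.hom := by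
    refine ⟨eG ≪≫ κG, ?_⟩
    dsimp only [Iso.trans_hom]
    infer_instance
  obtain ⟨εH, hεH⟩ : ∃ ε : Red.bc k H ≅ (Spec (.of (R ⊗[K]
      MonoidAlgebra K (Multiplicative N)))).asOver (Spec (.of R)), IsMonHom ε.hom := by
    refine ⟨eH ≪≫ κH, ?_⟩
    dsimp only [Iso.trans_hom]
    infer_instance
  haveI : IsMonHom εG.inv := inferInstance
  obtain ⟨f, hf⟩ := GrpBridge.exists_bialgHom R _ _ (εG.inv ≫ (Over.pullback k).map u ≫ εH.hom)
  obtain ⟨GM⟩ := MTHom4.exists_glb K R M
  obtain ⟨GN⟩ := MTHom4.exists_glb K R N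
  exact ⟨fun t => MTHom1.φP f GM GN t, fun t => chart_both u k GM GN f εG εH hf t⟩

open scoped Obj in
theorem chart_both_DS (R : Type u) [CommRing R]
    (k : Spec (CommRingCat.of R) ⟶ S) (M N : Type) [AddCommGroup M] [AddCommGroup N]
    (eG : Red.bc k G ≅ Red.DS (Spec (CommRingCat.of R)) M) [IsMonHom eG.hom]
    (eH : Red.bc k H ≅ Red.DS (Spec (CommRingCat.of R)) N) [IsMonHom eH.hom] :
    ∃ φ : Spec (CommRingCat.of R) → (N →+ M), ∀ t,
      ((@Flat ⊓ @Surjective : MorphismProperty Scheme.{u})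
        ((Over.pullback (S.fromSpecResidueField (k t))).map u).left ↔
        Function.Injective (φ t)) ∧
      ((Over.pullback (S.fromSpecResidueField (k t))).map u = 1 ↔ φ t = 0) := by
  letI : Algebra (ULift.{u} ℤ) R :=
    RingHom.toAlgebra ((Int.castRingHom R).comp (ULift.ringEquiv : ULift.{u} ℤ ≃+* ℤ).toRingHom)
  have hterm : Limits.IsTerminal.from specULiftZIsTerminal (Spec (CommRingCat.of R)) =
      Spec.map (CommRingCat.ofHom (algebraMap (ULift.{u} ℤ) R)) :=
    specULiftZIsTerminal.hom_ext _ _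
  obtain ⟨cG, hcG⟩ := MTHom4.exists_bc_congr _ _ hterm (Red.diag (ULift.{u} ℤ) M)
  obtain ⟨cH, hcH⟩ := MTHom4.exists_bc_congr _ _ hterm (Red.diag (ULift.{u} ℤ) N)
  haveI : IsMonHom (eG ≪≫ cG).hom := by
    dsimp only [Iso.trans_hom]
    infer_instance
  haveI : IsMonHom (eH ≪≫ cH).hom := by
    dsimp only [Iso.trans_hom]
    infer_instance
  exact chart_both_diag u (ULift.{u} ℤ) R k M N (eG ≪≫ cG) (eH ≪≫ cH)

end chart

section alg

lemma inj_iff_ne_zero {M N : Type} [AddCommGroup M] [AddCommGroup N] (e : N ≃+ ℤ)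
    (hM : ∀ (n : ℤ) (m : M), n • m = 0 → n = 0 ∨ m = 0) (φ : N →+ M) :
    Function.Injective φ ↔ φ ≠ 0 := by
  have hgen : ∀ x : N, x = (e x) • e.symm 1 := by
    intro x
    apply e.injective
    rw [map_zsmul, e.apply_symm_apply, smul_eq_mul, _root_.mul_one]
  constructor
  · intro h h0
    have h1 : φ (e.symm 1) = φ 0 := by rw [h0]; rfl
    have h2 := h h1
    have h3 : e (e.symm 1) = e 0 := by rw [h2]
    rw [e.apply_symm_apply, map_zero] at h3
    exact one_ne_zero h3
  · intro h
    rw [injective_iff_map_eq_zero]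
    intro z hz
    rw [hgen z, map_zsmul] at hz
    rcases hM _ _ hz with h1 | h1
    · rw [hgen z, h1, zero_smul]
    · exfalso
      apply h
      ext x
      rw [hgen x, map_zsmul, h1, smul_zero]
      rfl

end alg

section global

variable {S : Scheme.{u}} {G H : Over S} [GrpObj G] [GrpObj H] (u : G ⟶ H) [IsMonHom u]

theorem fibre_ff_iff_ne_one
    (hG : MTHom5.LocTriv G (fun M _ => ∀ (n : ℤ) (m : M), n • m = 0 → n = 0 ∨ m = 0))
    (hH : MTHom5.LocTriv H (fun N _ => Nonempty (N ≃+ ℤ))) (s : S) :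
    (@Flat ⊓ @Surjective : MorphismProperty Scheme.{u})
        ((Over.pullback (S.fromSpecResidueField s)).map u).left ↔
      (Over.pullback (S.fromSpecResidueField s)).map u ≠ 1 := by
  obtain ⟨S'', p, hp, hcharts⟩ := MTHom5.exists_common G H _ _ hG hH
  obtain ⟨x, hx⟩ := hp.1.surj s
  obtain ⟨R, j, hj, hxj, M, iM, N, iN, hPM, ⟨e⟩, ⟨eG, heG⟩, ⟨eH, heH⟩⟩ := hcharts x
  obtain ⟨t, ht⟩ := hxj
  obtain ⟨φ, hφ⟩ := chart_both_DS u R (j ≫ p) M N eG eH
  have hs : (j ≫ p) t = s := by
    rw [← hx, ← ht]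
    rfl
  subst hs
  rw [(hφ t).1, inj_iff_ne_zero e hPM, ne_eq, ne_eq, (hφ t).2]

end global

section main

variable {S : Scheme.{u}}

lemma locTriv_torus (T : Over S) [GrpObj T] (hT : Red.IsTorus T) :
    MTHom5.LocTriv T (fun M _ => ∀ (n : ℤ) (m : M), n • m = 0 → n = 0 ∨ m = 0) := by
  obtain ⟨S', f, h1, h2, h3, h4⟩ := hT
  refine ⟨S', f, h1, h2, h3, fun s' => ?_⟩
  obtain ⟨U, hU, r, hM⟩ := h4 s'
  exact ⟨U, hU, Fin r → ℤ, inferInstance, fun n m h => smul_eq_zero.mp h, hM⟩

lemma locTriv_Gm (PN : ∀ (N : Type) [AddCommGroup N], Prop) (hPN : PN ℤ) :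
    MTHom5.LocTriv (Red.Gm S) PN := by
  refine ⟨S, 𝟙 S, inferInstance, inferInstance, fun V hV => ⟨V, hV.isCompact, by simp⟩,
    fun s' => ⟨⊤, trivial, ℤ, inferInstance, hPN, ?_⟩⟩
  haveI : IsMonHom (Iso.refl (Red.DS S ℤ)).hom := by
    dsimp only [Iso.refl_hom]
    infer_instance
  obtain ⟨e', he'⟩ := Groth.Agent.S16614.triv_of_global (Red.Gm S) ℤ (Iso.refl _)
    ((⊤ : S.Opens).ι ≫ 𝟙 S)
  exact ⟨Grp.mkIso' e'⟩

lemma ffield (s : S) : Flat (Spec.map (CommRingCat.ofHom (algebraMap (S.residueField s)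
      (AlgebraicClosure (S.residueField s))))) ∧
    Surjective (Spec.map (CommRingCat.ofHom (algebraMap (S.residueField s)
      (AlgebraicClosure (S.residueField s))))) := by
  rw [flat_and_surjective_SpecMap_iff]
  exact (RingHom.faithfullyFlat_algebraMap_iff).mpr inferInstance

lemma geom_iff {X Y : Over S} [GrpObj Y] (w : X ⟶ Y) (s : S) :
    (Over.pullback (Red.geomPt s)).map w = 1 ↔
      (Over.pullback (S.fromSpecResidueField s)).map w = 1 := by
  haveI := (ffield s).1
  haveI := (ffield s).2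
  exact MTSplitA.bc_eq_one_iff w _ (S.fromSpecResidueField s)

end main


/-- Let T be an S-torus and α : T → G_{m,S} a character. The following are equivalent: (i) for every
point s of S the character induced on the geometric fibre at s is not the trivial character; (ii)
for every morphism S' → S with S' non-empty the base change of α is not the trivial character; (iii)
α is faithfully flat (flat and surjective). -/
theorem result (S : Scheme.{u}) (T : Over S) [GrpObj T] (hT : Red.IsTorus T) (α : T ⟶ Red.Gm S) [IsMonHom α] :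
    ((∀ s : S, (Over.pullback (Red.geomPt s)).map α ≠ 1) ↔
      (∀ (S' : Scheme.{u}) (g : S' ⟶ S), Nonempty ↥S' → (Over.pullback g).map α ≠ 1)) ∧
    ((∀ s : S, (Over.pullback (Red.geomPt s)).map α ≠ 1) ↔ (Flat α.left ∧ Surjective α.left)) := by
  haveI := Groth.Agent.S19140.zlFS.{u}
  haveI := Groth.Agent.S19140.sbFS.{u}
  haveI := Groth.Agent.S19140.daFS.{u}
  have hB : ∀ s : S, (@Flat ⊓ @Surjective : MorphismProperty Scheme.{u})
      ((Over.pullback (S.fromSpecResidueField s)).map α).left ↔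
      (Over.pullback (Red.geomPt s)).map α ≠ 1 := by
    intro s
    rw [fibre_ff_iff_ne_one α (locTriv_torus T hT) (locTriv_Gm _ ⟨AddEquiv.refl ℤ⟩) s, ne_eq,
      ne_eq, geom_iff]
  refine ⟨⟨fun h S' g hne h1 => ?_, fun h s => ?_⟩, ⟨fun h => ?_, fun h s => ?_⟩⟩
  · obtain ⟨s'⟩ := hne
    apply h (g s')
    rw [geom_iff]
    have h2 := MTSplitA.bc_eq_one_of α (S'.fromSpecResidueField s') g h1
    rw [← Scheme.Hom.SpecMap_residueFieldMap_fromSpecResidueField] at h2
    have hfs : Flat (Spec.map (g.residueFieldMap s')) ∧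
        Surjective (Spec.map (g.residueFieldMap s')) := by
      rw [flat_and_surjective_SpecMap_iff]
      letI : Algebra (S.residueField (g s')) (S'.residueField s') :=
        (g.residueFieldMap s').hom.toAlgebra
      exact (RingHom.faithfullyFlat_algebraMap_iff).mpr inferInstance
    haveI := hfs.1
    haveI := hfs.2
    exact (MTSplitA.bc_eq_one_iff α _ _).mp h2
  · exact h _ (Red.geomPt s) ⟨default⟩
  · obtain ⟨U, -, hUiff, hUff⟩ := MTHom5.main
      (@Flat ⊓ @Surjective : MorphismProperty Scheme.{u}) _ α Groth.Agent.S19140.chartHyp_ff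
      (Groth.Agent.S16611.locTriv_true T (Groth.Agent.S16611.locTriv_of_isTorus T hT))
      (locTriv_Gm _ (Module.Finite.iff_addGroup_fg.mp inferInstance))
    have hall : ∀ s : S, s ∈ U := fun s => (hUiff s).mpr ((hB s).mpr (h s))
    have hU : U = ⊤ := by
      ext s
      simp [hall s]
    subst hU
    haveI : IsIso (⊤ : S.Opens).ι := by
      rw [← Scheme.topIso_hom]
      infer_instance
    have sq := Groth.Agent.Lib.Helper24.HomogSep.isPullback_pullback_map (⊤ : S.Opens).ι α
    have h1 : α.left = inv (pullback.fst T.hom (⊤ : S.Opens).ι) ≫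
        ((Over.pullback (⊤ : S.Opens).ι).map α).left ≫
          pullback.fst (Red.Gm S).hom (⊤ : S.Opens).ι := by
      rw [IsIso.eq_inv_comp]
      exact sq.w.symm
    have h2 : (@Flat ⊓ @Surjective : MorphismProperty Scheme.{u}) α.left := by
      rw [h1, (@Flat ⊓ @Surjective : MorphismProperty Scheme.{u}).cancel_left_of_respectsIso,
        (@Flat ⊓ @Surjective : MorphismProperty Scheme.{u}).cancel_right_of_respectsIso]
      exact hUff
    exact h2
  · rw [← hB s]
    exact MTHom4.map_of_map _ α _ h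

end Groth.Agent.S5421
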