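import Groth.Statements.S5435
import Mathlib
import Groth.Agent.Lib.Helper4.RedQuotDesc
import Groth.Agent.Lib.Helper4.ActShear2
import Groth.Prelude.Def_CInt
import Groth.Prelude.Def_AlgGrp
import Groth.Prelude.Def_Red

set_option autoImplicit false
universe u
open CategoryTheory MonoidalCategory CartesianMonoidalCategory MonObj GrpObj AlgebraicGeometry CategoryTheory.Limits
open SGA3x

namespace Groth.Agent.S5435

section helpers
set_option linter.unusedSectionVars false
open CategoryTheory MonoidalCategory CartesianMonoidalCategory MonObj GrpObj AlgebraicGeometry Limits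
open Groth.Agent.Lib.Helper4


theorem dense_of_schematicallyDense {X : Scheme.{u}} (U : X.Opens)
    (h : CInt.IsSchematicallyDense U) : Dense (U : Set X) := by
  rw [dense_iff_inter_open]
  intro V hV hne
  by_contra hcon
  rw [Set.not_nonempty_iff_eq_empty] at hcon
  let V' : X.Opens := ⟨V, hV⟩
  have hbot : V' ⊓ U = ⊥ := by
    ext x
    simp only [TopologicalSpace.Opens.coe_inf, TopologicalSpace.Opens.coe_bot]
    exact Set.ext_iff.mp hcon x
  have hinj := h V'
  have : Nonempty V' := by
    obtain ⟨x, hx⟩ := hne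
    exact ⟨⟨x, hx⟩⟩
  have hnt : Nontrivial Γ(X, V') := inferInstance
  have hss : Subsingleton Γ(X, V' ⊓ U) := by rw [hbot]; infer_instance
  obtain ⟨a, b, hab⟩ := hnt
  exact hab (hinj (Subsingleton.elim _ _))

variable {S : Scheme.{u}} {G H : Over S} [GrpObj G] [GrpObj H]

theorem flat_mul [Flat G.hom] : Flat μ[G].left :=
  ActShear.of_base_change (ActShear2.selfAct G) @Flat inferInstance

theorem lfp_mul [LocallyOfFinitePresentation G.hom] : LocallyOfFinitePresentation μ[G].left :=
  ActShear.of_base_change (ActShear2.selfAct G) @LocallyOfFinitePresentation inferInstance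


variable (U : G.left.Opens)

/-- `U` as an object over `S` -/
noncomputable abbrev UO : Over S := Over.mk (U.ι ≫ G.hom)

noncomputable abbrev jU : UO U ⟶ G := Over.homMk U.ι rfl

/-- the multiplication map `U × U → G` -/
noncomputable abbrev mU : UO U ⊗ UO U ⟶ G := (jU U ⊗ₘ jU U) ≫ μ[G]

/-- a point of `G` with values in a field factors through `U` if it lands in `U` -/
theorem exists_factor {K : Type u} [Field K] (W : Over S) (_hW : W.left = Spec (CommRingCat.of K))
    (v : W ⟶ G) (hv : ∀ z : W.left, v.left z ∈ U) : ∃ v' : W ⟶ UO U, v' ≫ jU U = v := by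
  have hr : Set.range v.left.base ⊆ Set.range U.ι.base := by
    rintro _ ⟨z, rfl⟩
    rw [Scheme.Opens.range_ι]
    exact hv z
  refine ⟨Over.homMk (IsOpenImmersion.lift U.ι v.left hr) ?_, ?_⟩
  · simp only [Over.mk_hom, Over.mk_left]
    rw [← Category.assoc, IsOpenImmersion.lift_fac]
    exact Over.w v
  · ext
    simp [IsOpenImmersion.lift_fac]

theorem mem_range
    (hU : ∀ (S' : Scheme.{u}) (g : S' ⟶ S),
      CInt.IsSchematicallyDense ((pullback.fst G.hom g) ⁻¹ᵁ U)) (x : G.left) :
    x ∈ Set.range (mU U).left.base := by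
  -- `T = Spec κ(x)` over `S`
  let T : Over S := Over.mk (G.left.fromSpecResidueField x ≫ G.hom)
  let xt : T ⟶ G := Over.homMk (G.left.fromSpecResidueField x) rfl
  let φ : G ⊗ T ⟶ G ⊗ T := lift ((snd G T ≫ xt) * (fst G T)⁻¹) (snd G T)
  let ψ : G ⊗ T ⟶ G ⊗ T := lift ((fst G T)⁻¹ * (snd G T ≫ xt)) (snd G T)
  have hφ1 : φ ≫ fst G T = (snd G T ≫ xt) * (fst G T)⁻¹ := lift_fst _ _
  have hφ2 : φ ≫ snd G T = snd G T := lift_snd _ _
  have hψ1 : ψ ≫ fst G T = (fst G T)⁻¹ * (snd G T ≫ xt) := lift_fst _ _
  have hψ2 : ψ ≫ snd G T = snd G T := lift_snd _ _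
  have hφψ : φ ≫ ψ = 𝟙 _ := by
    apply CartesianMonoidalCategory.hom_ext
    · rw [Category.assoc, hψ1, MonObj.comp_mul, GrpObj.comp_inv, hφ1, ← Category.assoc, hφ2,
        Category.id_comp]
      group
    · rw [Category.assoc, hψ2, hφ2, Category.id_comp]
  have hψφ : ψ ≫ φ = 𝟙 _ := by
    apply CartesianMonoidalCategory.hom_ext
    · rw [Category.assoc, hφ1, MonObj.comp_mul, GrpObj.comp_inv, hψ1, ← Category.assoc, hψ2,
        Category.id_comp]
      group
    · rw [Category.assoc, hφ2, hψ2, Category.id_comp]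
  haveI : IsIso φ := ⟨ψ, hφψ, hψφ⟩
  haveI : IsIso φ.left := inferInstanceAs (IsIso ((Over.forget S).map φ))
  -- the dense opens
  let UT : (G ⊗ T).left.Opens := (fst G T).left ⁻¹ᵁ U
  have hUT : Dense (UT : Set (G ⊗ T).left) := dense_of_schematicallyDense _ (hU T.left T.hom)
  let V : (G ⊗ T).left.Opens := φ.left ⁻¹ᵁ UT
  have hV : Dense (V : Set (G ⊗ T).left) :=
    hUT.preimage φ.left.homeomorph.isOpenMap
  haveI : Nonempty (G ⊗ T).left := by
    haveI : Nonempty T.left := inferInstanceAs (Nonempty (Spec (G.left.residueField x)))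
    exact ⟨(lift xt (𝟙 T)).left (Classical.arbitrary _)⟩
  obtain ⟨y, hy1, hy2⟩ := (hUT.inter_of_isOpen_left hV UT.2).nonempty
  -- the point `y` with values in its residue field
  let W : Over S := Over.mk ((G ⊗ T).left.fromSpecResidueField y ≫ (G ⊗ T).hom)
  let yt : W ⟶ G ⊗ T := Over.homMk ((G ⊗ T).left.fromSpecResidueField y) rfl
  have hyt : ∀ z : W.left, yt.left z = y := fun z => Scheme.fromSpecResidueField_apply _ _
  obtain ⟨v', hv'⟩ := exists_factor U (K := (G ⊗ T).left.residueField y) W rfl (yt ≫ fst G T) (by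
    intro z
    rw [Over.comp_left, Scheme.Hom.comp_apply, hyt]
    exact hy1)
  obtain ⟨u', hu'⟩ := exists_factor U (K := (G ⊗ T).left.residueField y) W rfl
    (yt ≫ φ ≫ fst G T) (by
    intro z
    rw [Over.comp_left, Over.comp_left, Scheme.Hom.comp_apply, Scheme.Hom.comp_apply, hyt]
    exact hy2)
  have hprod : lift u' v' ≫ mU U = yt ≫ snd G T ≫ xt := by
    have h1 : lift u' v' ≫ mU U = (u' ≫ jU U) * (v' ≫ jU U) := by
      rw [Hom.mul_def, ← Category.assoc]
      congr 1
      apply CartesianMonoidalCategory.hom_ext <;> simp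
    rw [h1, hu', hv', hφ1, ← MonObj.comp_mul]
    congr 1
    group
  haveI : Nonempty W.left := inferInstanceAs (Nonempty (Spec ((G ⊗ T).left.residueField y)))
  refine ⟨(lift u' v').left (Classical.arbitrary _), ?_⟩
  rw [← Scheme.Hom.comp_apply, ← Over.comp_left, hprod]
  simp only [Over.comp_left, Scheme.Hom.comp_apply]
  exact Scheme.fromSpecResidueField_apply _ _


theorem main (S : Scheme.{u}) (G H : Over S) [GrpObj G] [GrpObj H] [Flat G.hom]
    [LocallyOfFinitePresentation G.hom] (U : G.left.Opens)
    (hU : ∀ (S' : Scheme.{u}) (g : S' ⟶ S),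
      CInt.IsSchematicallyDense ((pullback.fst G.hom g) ⁻¹ᵁ U))
    (f g : G ⟶ H) [IsMonHom f] [IsMonHom g] (h : U.ι ≫ f.left = U.ι ≫ g.left) : f = g := by
  have hj : jU U ≫ f = jU U ≫ g := by ext; exact h
  haveI : IsOpenImmersion (jU U).left := inferInstanceAs (IsOpenImmersion U.ι)
  haveI : IsOpenImmersion (jU U ⊗ₘ jU U).left := by
    rw [Over.tensorHom_left]
    exact MorphismProperty.pullbackMap (P := @IsOpenImmersion)
      (inferInstanceAs (IsOpenImmersion U.ι)) (inferInstanceAs (IsOpenImmersion U.ι))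
      (by simp) (by simp)
  haveI := flat_mul (G := G)
  haveI := lfp_mul (G := G)
  haveI : Surjective (mU U).left := ⟨fun x => mem_range U hU x⟩
  haveI : Flat (mU U).left := by rw [Over.comp_left]; infer_instance
  haveI : LocallyOfFinitePresentation (mU U).left := by rw [Over.comp_left]; infer_instance
  haveI : Epi (mU U) := Over.epi_of_epi_left _
  rw [← cancel_epi (mU U)]
  rw [Category.assoc, Category.assoc, IsMonHom.mul_hom, IsMonHom.mul_hom, ← Category.assoc,
    ← Category.assoc, tensorHom_comp_tensorHom, tensorHom_comp_tensorHom, hj]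


end helpers

/-- Let G be an S-group scheme, flat and locally of finite presentation over S, U an open subscheme of G
schematically dense in G relative to S (after every base change), and H an S-group scheme. Then a
homomorphism G → H is determined by its restriction to U: two homomorphisms f, g : G → H with the
same restriction to U are equal. (No separatedness of H is needed. The published statement allows H
to be any sheaf of groups for the fppf topology; this row takes H a group scheme.) -/
theorem result (S : Scheme.{u}) (G H : Over S) [GrpObj G] [GrpObj H] [Flat G.hom] [LocallyOfFinitePresentation G.hom]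
    (U : G.left.Opens) (hU : (∀ (S' : Scheme.{u}) (g : S' ⟶ S), CInt.IsSchematicallyDense ((pullback.fst G.hom g) ⁻¹ᵁ U)))
    (f g : G ⟶ H) [IsMonHom f] [IsMonHom g] (h : U.ι ≫ f.left = U.ι ≫ g.left) : f = g := by
  exact main S G H U hU f g h

end Groth.Agent.S5435
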