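import Groth.Statements.S5449
import Mathlib
import Groth.Agent.Lib.Helper4.RootD

set_option autoImplicit false
open RootD

namespace Groth.Agent.S5449

/-- For a system of simple roots Δ, the roots that are non-negative integer combinations of Δ form a
system of positive roots; and a system of positive roots S contains Δ if and only if S is that set. -/
theorem result {ι M N : Type*} [AddCommGroup M] [AddCommGroup N]
    (P : RootPairing ι ℤ M N) [Finite ι] (Δ : Set ι) (hΔ : RootD.IsSimpleSys P Δ)
    (S : Set ι) (hS : RootD.IsPosSys P S) :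
    RootD.IsPosSys P (RootD.posOf P Δ) ∧ (Δ ⊆ S ↔ S = RootD.posOf P Δ) := by
  open Groth.Agent.Lib.Helper4.RD in
  classical
  have hΔsub : Δ ⊆ RootD.posOf P Δ := fun i hi => AddSubmonoid.subset_closure ⟨i, hi, rfl⟩
  have hnat : RootD.natSpan P (RootD.posOf P Δ) ≤ RootD.natSpan P Δ := by
    refine AddSubmonoid.closure_le.mpr ?_
    rintro _ ⟨k, hk, rfl⟩
    exact hk
  have hpos : RootD.IsPosSys P (RootD.posOf P Δ) := by
    refine ⟨fun k hk hk' => ?_, fun k => ?_, fun k n hn hk => ?_⟩
    · -- disjoint
      have h1 := (mem_posOf_iff hΔ k).mp hk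
      have h2 := (mem_posOf_iff hΔ _).mp hk'
      rw [coef_neg hΔ k] at h2
      apply coef_ne_zero hΔ k
      ext l
      have a := h1 l
      have b := h2 l
      simp only [Finsupp.neg_apply] at b
      simp only [Finsupp.zero_apply]
      omega
    · -- cover
      rcases coef_sign hΔ k with h | h
      · exact Or.inl ((mem_posOf_iff hΔ k).mpr h)
      · refine Or.inr ((mem_posOf_iff hΔ _).mpr fun l => ?_)
        rw [coef_neg hΔ k, Finsupp.neg_apply]
        have := h l
        omega
    · -- saturated
      have hk' := hnat hk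
      obtain ⟨c, hc, e⟩ := (mem_natSpan_iff P Δ _).mp hk'
      have e' : lc P Δ ((n : ℤ) • coef hΔ k) = lc P Δ c := by
        rw [map_smul, lc_coef, e, natCast_zsmul]
      have := lc_injective P hΔ.linInd e'
      rw [mem_posOf_iff hΔ]
      intro l
      have hl := DFunLike.congr_fun this l
      simp only [Finsupp.smul_apply, smul_eq_mul] at hl
      have hcl := hc l
      have hn' : (0 : ℤ) < n := by exact_mod_cast hn
      by_contra hneg
      push_neg at hneg
      have : (n : ℤ) * coef hΔ k l < 0 := mul_neg_of_pos_of_neg hn' hneg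
      omega
  refine ⟨hpos, ⟨fun hsub => ?_, fun h => h ▸ hΔsub⟩⟩
  have hle : RootD.posOf P Δ ⊆ S := by
    intro k hk
    have hk' : P.root k ∈ RootD.natSpan P S :=
      (AddSubmonoid.closure_mono (Set.image_mono hsub)) hk
    exact hS.sat 1 one_pos (by simpa using hk')
  apply Set.Subset.antisymm _ hle
  intro k hk
  rcases hpos.cover k with h | h
  · exact h
  · exact absurd (hle h) (hS.disjoint hk)

end Groth.Agent.S5449
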