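import Groth.Statements.S5451
import Mathlib
import Groth.Agent.S5489

set_option autoImplicit false
open RootD

namespace Groth.Agent.S5451

/-- generalised version without positivity of the multiplicities -/
theorem aux {ι M N : Type*} [AddCommGroup M] [AddCommGroup N]
    (P : RootPairing ι ℤ M N) [Finite ι] {n : ℕ} (a : Fin n → ι) :
    ∀ (T : ℕ) (m : Fin n → ℕ) (k : ι), ∑ i, m i = T → P.root k = ∑ i, m i • P.root (a i) →
    ∃ (l : ℕ) (b : Fin l → Fin n), 0 < l ∧
      (∀ p : Fin l, ∃ j : ι, P.root j =
        ∑ q ∈ Finset.univ.filter (fun q : Fin l => q.val ≤ p.val), P.root (a (b q))) ∧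
      P.root k = ∑ q, P.root (a (b q)) := by
  classical
  intro T
  induction T using Nat.strong_induction_on with
  | _ T ih =>
    intro m k hT hk
    by_cases hex : ∃ i, a i = k
    · obtain ⟨i, hi⟩ := hex
      refine ⟨1, fun _ => i, one_pos, fun p => ⟨k, ?_⟩, ?_⟩
      · have : Finset.univ.filter (fun q : Fin 1 => q.val ≤ p.val) = Finset.univ := by
          ext q
          simp only [Finset.mem_filter, Finset.mem_univ, true_and, iff_true]
          omega
        rw [this]
        simp [hi]
      · simp [hi]
    · push Not at hex
      obtain ⟨l₀, hl₀, -, k', hk'⟩ := Groth.Agent.S5489.result P a m k hex 1 one_pos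
        (by simpa using hk)
      -- new multiplicities
      let m' : Fin n → ℕ := fun i => if i = l₀ then m i - 1 else m i
      have hmm' : ∀ i, m i = m' i + (if i = l₀ then 1 else 0) := by
        intro i
        by_cases h : i = l₀
        · subst h
          simp only [m', if_true]
          omega
        · simp [m', h]
      have hsum : ∑ i, m i = ∑ i, m' i + 1 := by
        rw [Finset.sum_congr rfl fun i _ => hmm' i, Finset.sum_add_distrib]
        simp
      have hroot : ∑ i, m i • P.root (a i) = ∑ i, m' i • P.root (a i) + P.root (a l₀) := by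
        rw [Finset.sum_congr rfl fun i _ => by rw [hmm' i, add_smul], Finset.sum_add_distrib]
        congr 1
        simp [ite_smul]
      have hk'' : P.root k' = ∑ i, m' i • P.root (a i) := by
        rw [hk', hk, hroot]
        abel
      obtain ⟨l', b', -, hpart, htot⟩ := ih (∑ i, m' i) (by omega) m' k' rfl hk''
      refine ⟨l' + 1, Fin.snoc b' l₀, Nat.succ_pos _, ?_, ?_⟩
      · intro p
        refine Fin.lastCases ?_ (fun p' => ?_) p
        · refine ⟨k, ?_⟩
          have : Finset.univ.filter (fun q : Fin (l' + 1) => q.val ≤ (Fin.last l').val) =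
              Finset.univ := by
            ext q
            simp only [Finset.mem_filter, Finset.mem_univ, true_and, iff_true, Fin.val_last]
            omega
          rw [this, Fin.sum_univ_castSucc]
          simp only [Fin.snoc_castSucc, Fin.snoc_last]
          rw [← htot, hk']
          abel
        · obtain ⟨j, hj⟩ := hpart p'
          refine ⟨j, ?_⟩
          rw [hj, Finset.sum_filter, Finset.sum_filter, Fin.sum_univ_castSucc]
          simp only [Fin.snoc_castSucc, Fin.val_castSucc, Fin.val_last]
          have : ¬ l' ≤ p'.val := by omega
          rw [if_neg this, add_zero]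
      · rw [Fin.sum_univ_castSucc]
        simp only [Fin.snoc_castSucc, Fin.snoc_last]
        rw [← htot, hk']
        abel


/-- If a root is a positive integer combination of roots α_i, then it can be reached from 0 by
successively adding roots taken among the α_i in such a way that every partial sum is a root. -/
theorem result {ι M N : Type*} [AddCommGroup M] [AddCommGroup N]
    (P : RootPairing ι ℤ M N) [Finite ι] {n : ℕ} (a : Fin n → ι) (m : Fin n → ℕ)
    (hm : ∀ i, 0 < m i) (k : ι) (hk : P.root k = ∑ i, m i • P.root (a i)) :
    ∃ (l : ℕ) (b : Fin l → Fin n), 0 < l ∧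
      (∀ p : Fin l, ∃ j : ι, P.root j = ∑ q ∈ Finset.univ.filter (fun q : Fin l => q.val ≤ p.val), P.root (a (b q))) ∧
      P.root k = ∑ q, P.root (a (b q)) := by
  exact aux P a _ m k rfl hk

end Groth.Agent.S5451
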