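import Groth.Statements.S5466
import Mathlib
import Groth.Agent.Lib.Helper4.RootD

set_option autoImplicit false
open RootD

namespace Groth.Agent.S5466

/-- The reflection in a simple root β maps every positive root not proportional to β to a positive root. -/
theorem result {ι M N : Type*} [AddCommGroup M] [AddCommGroup N]
    (P : RootPairing ι ℤ M N) [Finite ι] (Δ : Set ι) (hΔ : RootD.IsSimpleSys P Δ)
    (k i : ι) (hk : k ∈ RootD.posOf P Δ) (hi : i ∈ Δ)
    (hli : LinearIndependent ℤ ![P.root k, P.root i]) :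
    P.reflectionPerm i k ∈ RootD.posOf P Δ := by
  open Groth.Agent.Lib.Helper4.RD in
  classical
  have hpos := (mem_posOf_iff hΔ k).mp hk
  -- some coefficient away from i is nonzero
  have hex : ∃ l : Δ, l ≠ ⟨i, hi⟩ ∧ coef hΔ k l ≠ 0 := by
    by_contra hcon
    push_neg at hcon
    have hck : coef hΔ k = Finsupp.single ⟨i, hi⟩ (coef hΔ k ⟨i, hi⟩) := by
      ext l
      by_cases hl : l = ⟨i, hi⟩
      · subst hl; simp
      · rw [hcon l hl, Finsupp.single_apply, if_neg (Ne.symm hl)]
    have hroot : P.root k = (coef hΔ k ⟨i, hi⟩) • P.root i := by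
      rw [← lc_coef hΔ k, hck, lc_single]; simp
    have := hli
    rw [LinearIndependent.pair_iff] at this
    have h0 := this 1 (-(coef hΔ k ⟨i, hi⟩)) (by rw [one_smul, neg_smul, hroot]; abel)
    exact one_ne_zero h0.1
  obtain ⟨l, hl, hl0⟩ := hex
  apply mem_posOf_of_pos hΔ _ l
  rw [coef_reflectionPerm hΔ ⟨i, hi⟩ k, Finsupp.sub_apply, Finsupp.single_apply,
    if_neg (Ne.symm hl), sub_zero]
  exact lt_of_le_of_ne (hpos l) (Ne.symm hl0)

end Groth.Agent.S5466
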