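import Groth.Statements.S5468
import Mathlib

set_option autoImplicit false
open RootD

namespace Groth.Agent.S5468

/-- Two roots whose reflections are distinct and commute are orthogonal. -/
theorem result {ι M N : Type*} [AddCommGroup M] [AddCommGroup N]
    (P : RootPairing ι ℤ M N) [Finite ι] (i j : ι)
    (hne : P.reflection i ≠ P.reflection j) (hc : Commute (P.reflection i) (P.reflection j)) :
    P.IsOrthogonal i j := by
  have hpji : P.coroot' i (P.root j) = P.pairing j i := rfl
  have hpij : P.coroot' j (P.root i) = P.pairing i j := rfl
  have key : ∀ x : M, (P.coroot' j x * P.pairing j i) • P.root i =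
      (P.coroot' i x * P.pairing i j) • P.root j := by
    intro x
    have h := congrArg (fun g : M ≃ₗ[ℤ] M => g x) hc.eq
    simp only [LinearEquiv.mul_apply] at h
    rw [P.reflection_apply, P.reflection_apply, P.reflection_apply, P.reflection_apply] at h
    simp only [map_sub, map_smul, smul_eq_mul, hpji, hpij] at h
    rw [← sub_eq_zero] at h ⊢
    rw [← h]
    module
  have tf : ∀ u : M, (4 : ℤ) • u = 0 → u = 0 := by
    intro u hu
    have hinj := (LinearMap.IsPerfPair.bijective_left P.toLinearMap).1
    apply hinj
    rw [map_zero]
    ext n
    have := congrArg (fun v => P.toLinearMap v n) hu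
    simp only [map_smul, LinearMap.smul_apply, smul_eq_mul, map_zero, LinearMap.zero_apply] at this
    simp only [LinearMap.zero_apply]
    omega
  set p := P.pairing j i with hp
  set q := P.pairing i j with hq
  have hjj : P.coroot' j (P.root j) = 2 := P.root_coroot_two j
  have hii : P.coroot' i (P.root i) = 2 := P.root_coroot_two i
  have star : (2 * p) • P.root i = (p * q) • P.root j := by
    have := key (P.root j)
    rwa [hjj, hpji] at this
  have h1 : p * (4 - p * q) = 0 := by
    have := congrArg (P.coroot' i) star
    simp only [map_smul, smul_eq_mul, hii, hpji] at this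
    linear_combination this
  rcases mul_eq_zero.mp h1 with h0 | h0
  · exact ⟨(P.pairing_eq_zero_iff' (i := j) (j := i)).mp h0, h0⟩
  · exfalso
    have hpq : p * q = 4 := by omega
    apply hne
    ext x
    rw [P.reflection_apply, P.reflection_apply]
    set a := P.coroot' j x with ha
    set b := P.coroot' i x with hb
    have kx : (a * p) • P.root i = (b * q) • P.root j := key x
    have star' : (2 * p) • P.root i = (4 : ℤ) • P.root j := by rw [star, hpq]
    -- 2a = bq
    have h2 : 2 * a = b * q := by
      have e1 : (4 * a) • P.root j = (2 * (b * q)) • P.root j := by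
        calc (4 * a) • P.root j = a • ((4 : ℤ) • P.root j) := by module
          _ = a • ((2 * p) • P.root i) := by rw [star']
          _ = (2 : ℤ) • ((a * p) • P.root i) := by module
          _ = (2 : ℤ) • ((b * q) • P.root j) := by rw [kx]
          _ = (2 * (b * q)) • P.root j := by module
      have := congrArg (P.coroot' j) e1
      simp only [map_smul, smul_eq_mul, hjj] at this
      omega
    have h3 : (4 : ℤ) • (b • P.root i - a • P.root j) = 0 := by
      have e2 : (4 : ℤ) • (a • P.root j) = (4 : ℤ) • (b • P.root i) := by
        calc (4 : ℤ) • (a • P.root j) = a • ((4 : ℤ) • P.root j) := by module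
          _ = a • ((2 * p) • P.root i) := by rw [star']
          _ = ((2 * a) * p) • P.root i := by module
          _ = ((b * q) * p) • P.root i := by rw [h2]
          _ = (b * (p * q)) • P.root i := by module
          _ = (4 : ℤ) • (b • P.root i) := by rw [hpq]; module
      rw [smul_sub, e2, sub_self]
    have := tf _ h3
    rw [sub_eq_zero] at this
    rw [this]

end Groth.Agent.S5468
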