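import Groth.Statements.S5469
import Mathlib

set_option autoImplicit false
open RootPairing
open scoped Pointwise
open RootD

namespace Groth.Agent.S5469

/-- Two non-orthogonal roots of equal length (for the canonical form ℓ(x) = Σ_{u ∈ R^v} (u, x)²) are
conjugate under the Weyl group. -/
theorem result {ι M N : Type*} [AddCommGroup M] [AddCommGroup N]
    (P : RootPairing ι ℤ M N) [Finite ι] [Fintype ι] (i j : ι) (hno : ¬ P.IsOrthogonal i j)
    (hl : P.RootForm (P.root i) (P.root i) = P.RootForm (P.root j) (P.root j)) :
    ∃ g : P.Aut, g ∈ P.weylGroup ∧ g • i = j := by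
  open RootPairing in
  have hp : ∀ a b : ι, P.pairingIn ℤ a b = P.pairing a b := fun a b => by
    have := P.algebraMap_pairingIn ℤ a b
    simpa using this
  have hmem := P.pairingIn_pairingIn_mem_set_of_length_eq (B := P.toInvariantForm)
    (i := i) (j := j) hl
  have hmem' := P.pairingIn_pairingIn_mem_set_of_length_eq_of_ne (B := P.toInvariantForm)
    (i := i) (j := j) hl
  rw [hp, hp] at hmem hmem'
  have hidx : ∀ (g : P.Aut), g • P.root i = P.root j → g • i = j := by
    intro g hg
    apply P.root.injective
    rw [← hg]
    exact Equiv.root_indexEquiv_eq_smul P i g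
  simp only [Set.mem_insert_iff, Set.mem_singleton_iff, Prod.mk.injEq] at hmem hmem'
  rcases hmem with ⟨h1, h2⟩ | ⟨h1, h2⟩ | ⟨h1, h2⟩ | ⟨h1, h2⟩ | ⟨h1, h2⟩
  · exact absurd ⟨h1, h2⟩ hno
  · refine ⟨Equiv.reflection P j * Equiv.reflection P i * Equiv.reflection P j,
      mul_mem (mul_mem (P.reflection_mem_weylGroup j) (P.reflection_mem_weylGroup i))
        (P.reflection_mem_weylGroup j), hidx _ ?_⟩
    simp only [mul_smul, Equiv.reflection_smul, P.reflection_apply_root,
      map_sub, map_smul, h1, h2, P.pairing_same]
    module
  · refine ⟨Equiv.reflection P i * Equiv.reflection P j,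
      mul_mem (P.reflection_mem_weylGroup i) (P.reflection_mem_weylGroup j), hidx _ ?_⟩
    simp only [mul_smul, Equiv.reflection_smul, P.reflection_apply_root,
      map_sub, map_smul, h1, h2, P.pairing_same]
    module
  · -- (2,2)
    by_cases hij : i = j
    · exact ⟨1, one_mem _, by rw [one_smul, hij]⟩
    · exfalso
      by_cases hneg : P.root i = - P.root j
      · have : P.pairing i j = -2 := by
          have : P.pairing i j = P.coroot' j (P.root i) := rfl
          rw [this, hneg, map_neg]
          have : P.coroot' j (P.root j) = 2 := P.root_coroot_two j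
          rw [this]
        omega
      · have := hmem' hij hneg
        omega
  · -- (-2,-2)
    by_cases hij : i = j
    · exfalso
      subst hij
      have := P.pairing_same i
      omega
    · have hneg : P.root i = - P.root j := by
        by_contra hneg
        have := hmem' hij hneg
        omega
      refine ⟨Equiv.reflection P i, P.reflection_mem_weylGroup i, hidx _ ?_⟩
      rw [Equiv.reflection_smul, P.reflection_apply_self, hneg, neg_neg]

end Groth.Agent.S5469
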