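import Groth.Statements.S5472
import Groth.Agent.Lib.lead.RootDZ

set_option autoImplicit false
open RootPairing
open scoped Pointwise
open RootD

namespace Groth.Agent.S5472

/-- Let Δ be a system of simple roots (root-only sense), γ a positive root and α, β simple roots with
(γ, α^v) > 0 and (γ, β^v) ≥ 0 (equivalently: the order of s_α(γ) along Δ is smaller than that of γ,
and the order of s_β(γ) is at most that of γ). Then for every w in the group generated by s_α and
s_β the order of w(γ) along Δ is at most that of γ, and strictly smaller unless w ∈ {1, s_β}. The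
order is the sum of the coefficients along Δ; the conclusion is stated for the coefficient vector c
of γ - w(γ) along Δ: its coefficient sum is ≥ 0, and > 0 unless w = 1 or w = s_β. -/
theorem result {ι M N : Type*} [AddCommGroup M] [AddCommGroup N]
    (P : RootPairing ι ℤ M N) [Finite ι] (Δ : Set ι) (hΔ : RootD.IsSimpleSys P Δ)
    (k i j : ι) (hk : k ∈ RootD.posOf P Δ) (hi : i ∈ Δ) (hj : j ∈ Δ)
    (hα : 0 < P.pairing k i) (hβ : 0 ≤ P.pairing k j)
    (g : P.Aut) (hg : g ∈ Subgroup.closure {Equiv.reflection P i, Equiv.reflection P j})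
    (c : ι →₀ ℤ) (hc : ↑c.support ⊆ Δ)
    (hck : Finsupp.linearCombination ℤ P.root c = P.root k - P.root (g • k)) :
    0 ≤ c.sum (fun _ a => a) ∧ (g ≠ 1 → g ≠ Equiv.reflection P j → 0 < c.sum (fun _ a => a)) := by
  classical
  open Groth.Agent.RootDL Groth.Agent.S2953 in
  set J : Set ι := {i, j} with hJdef
  have hJ : J ⊆ Δ := by
    intro a ha
    rcases ha with rfl | rfl
    · exact hi
    · exact hj
  have hg' : g ∈ Subgroup.closure ((fun a => RootPairing.Equiv.reflection P a) '' J) := by
    rw [hJdef, Set.image_pair]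
    exact hg
  obtain ⟨L, hL, hLg⟩ := Groth.Agent.RootDL.exists_word_of_mem_closure J hg'
  obtain ⟨L₀, hmin, hpr⟩ := Groth.Agent.RootDL.exists_JMin (P := P) J hL
  have hgL₀ : Groth.Agent.S2953.pr P L₀ = g := hpr.trans hLg
  have hx : ∀ r ∈ J, 0 ≤ P.coroot' r (P.root k) := by
    intro r hr
    rw [RootPairing.root_coroot'_eq_pairing]
    rcases hr with rfl | rfl
    · exact hα.le
    · exact hβ
  obtain ⟨h1, h2⟩ := hmin.sub_smul_mem hΔ hJ hx
  rw [hgL₀, ← Groth.Agent.RootDL.root_smul] at h1 h2
  obtain ⟨c', hc's, hc'nn, hc'⟩ := (Groth.Agent.RootDL.mem_natSpan_iff_finsupp Δ _).mp h1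
  have hcc' : c = c' := by
    have h0 := linearIndepOn_iff.mp hΔ.linInd (c - c')
      (by
        rw [Finsupp.mem_supported]
        intro l hl
        by_contra hlΔ
        have e1 : c l = 0 := by
          by_contra hne
          exact hlΔ (hc (Finsupp.mem_support_iff.mpr hne))
        have e2 : c' l = 0 := by
          by_contra hne
          exact hlΔ (hc's (Finsupp.mem_support_iff.mpr hne))
        have := Finsupp.mem_support_iff.mp hl
        simp [e1, e2] at this)
      (by rw [map_sub, hck, hc', sub_self])
    exact sub_eq_zero.mp h0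
  subst hcc'
  refine ⟨Finset.sum_nonneg (fun l _ => hc'nn l), fun hg1 hgj => ?_⟩
  -- the letter `i` occurs in the minimal word
  have hiL : i ∈ L₀ := by
    by_contra hiL
    have hall : ∀ a ∈ L₀, a = j := by
      intro a ha
      rcases hmin.1 a ha with rfl | rfl
      · exact absurd ha hiL
      · rfl
    match L₀, hmin, hgL₀, hall with
    | [], _, hgL₀, _ => exact hg1 (by rw [← hgL₀]; rfl)
    | [a], _, hgL₀, hall =>
      have : a = j := hall a (by simp)
      subst this
      apply hgj
      rw [← hgL₀, Groth.Agent.S2953.pr_cons, Groth.Agent.S2953.pr_nil, mul_one]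
    | a :: b :: L2, hmin, _, hall =>
      have ha : a = j := hall a (by simp)
      have hb : b = j := hall b (by simp)
      subst ha
      subst hb
      have hlen := hmin.2 L2 (fun x hx => hmin.1 x (by simp [hx])) (by
        rw [Groth.Agent.S2953.pr_cons, Groth.Agent.S2953.pr_cons, ← mul_assoc,
          Groth.Agent.S2953.refl_mul_self, one_mul])
      simp at hlen
  have hne := h2 ⟨i, hiL, by rw [RootPairing.root_coroot'_eq_pairing]; exact hα⟩
  have hc0 : c ≠ 0 := by
    intro h0
    apply hne
    rw [← hc', h0, map_zero]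
  obtain ⟨l, hl⟩ := Finsupp.support_nonempty_iff.mpr hc0
  refine Finset.sum_pos' (fun l _ => hc'nn l) ⟨l, hl, ?_⟩
  exact lt_of_le_of_ne (hc'nn l) (Ne.symm (Finsupp.mem_support_iff.mp hl))

end Groth.Agent.S5472
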