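import Groth.Statements.S5473
import Groth.Agent.Lib.lead.RootDQ

set_option autoImplicit false
open RootD

namespace Groth.Agent.S5473

/-- If a linear map f and its transpose g induce bijections from the roots of R' onto the roots of R and
from the coroots of R onto the coroots of R' respectively (a morphism of root data in the
two-bijection sense), then the two bijections correspond: the coroot of α' is g applied to the
coroot of f(α'). -/
theorem result {ι M N ι' M' N' : Type*} [AddCommGroup M] [AddCommGroup N] [AddCommGroup M'] [AddCommGroup N']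
    (P : RootPairing ι ℤ M N) (P' : RootPairing ι' ℤ M' N') [Finite ι] [Finite ι']
    (f : M' →ₗ[ℤ] M) (g : N →ₗ[ℤ] N') (hfg : ∀ (m' : M') (n : N), P.toLinearMap (f m') n = P'.toLinearMap m' (g n))
    (e : ι' ≃ ι) (he : ∀ i' : ι', f (P'.root i') = P.root (e i'))
    (e' : ι ≃ ι') (he' : ∀ i : ι, g (P.coroot i) = P'.coroot (e' i)) :
    ∀ i' : ι', g (P.coroot (e i')) = P'.coroot i' := by
  have hσ : ∀ i', (e.trans e') i' = i' := by
    apply Groth.Agent.RootDL.perm_eq_refl_of_pairing_eq_two (P := P') (e.trans e')
    intro i'
    change P'.toLinearMap (P'.root i') (P'.coroot (e' (e i'))) = 2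
    rw [← he', ← hfg, he]
    exact P.root_coroot_two (e i')
  intro i'
  rw [he']
  exact congrArg P'.coroot (hσ i')

end Groth.Agent.S5473
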