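import Groth.Statements.S5474
import Groth.Agent.Lib.lead.RootDD

set_option autoImplicit false
open RootD

namespace Groth.Agent.S5474

/-- Every morphism between semisimple root data is an isogeny (injective on weight lattices with finite
cokernel). -/
theorem result {ι M N ι' M' N' : Type*} [AddCommGroup M] [AddCommGroup N] [AddCommGroup M'] [AddCommGroup N']
    (P : RootPairing ι ℤ M N) (P' : RootPairing ι' ℤ M' N') [Finite ι] [Finite ι']
    [Module.Finite ℤ M] [Module.Finite ℤ N] [Module.Finite ℤ M'] [Module.Finite ℤ N']
    (hss : Module.finrank ℤ (Submodule.span ℤ (Set.range P.root)) = Module.finrank ℤ M)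
    (hss' : Module.finrank ℤ (Submodule.span ℤ (Set.range P'.root)) = Module.finrank ℤ M')
    (f : RootPairing.Hom P' P) :
    Function.Injective f.weightMap ∧ Finite (M ⧸ LinearMap.range f.weightMap) := by
  classical
  haveI : Fintype ι := Fintype.ofFinite ι
  haveI : Fintype ι' := Fintype.ofFinite ι'
  have htfM : IsAddTorsionFree M := Groth.Agent.RootDL.torsionFree (P := P)
  have htfM' : IsAddTorsionFree M' := Groth.Agent.RootDL.torsionFree (P := P')
  haveI : Module.IsReflexive ℤ M := .of_isPerfPair P.toLinearMap
  haveI : Module.IsReflexive ℤ M' := .of_isPerfPair P'.toLinearMap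
  haveI : Module.Free ℤ M := inferInstance
  haveI : Module.Free ℤ M' := inferInstance
  -- finite quotients by root spans
  have hfin : Finite (M ⧸ Submodule.span ℤ (Set.range P.root)) :=
    Submodule.finiteQuotientOfFreeOfRankEq _ hss
  have hfin' : Finite (M' ⧸ Submodule.span ℤ (Set.range P'.root)) :=
    Submodule.finiteQuotientOfFreeOfRankEq _ hss'
  constructor
  · -- injectivity
    rw [injective_iff_map_eq_zero]
    intro y hy
    -- y pairs to zero with every coroot of P'
    have hpair : ∀ i' : ι', P'.toLinearMap y (P'.coroot i') = 0 := by
      intro i'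
      have h1 := RootPairing.Hom.weight_coweight_transpose_apply P' P (P.coroot (f.indexEquiv i')) f
      have h2 := RootPairing.Hom.coroot_coweightMap_apply P' P (f.indexEquiv i') f
      have h3 := congrArg (fun φ => φ y) h1
      simp only [LinearMap.dualMap_apply, hy, map_zero] at h3
      rw [h2, Equiv.symm_apply_apply] at h3
      exact h3.symm
    have hform : P'.RootForm y y = 0 := by
      rw [RootPairing.rootForm_apply_apply]
      exact Finset.sum_eq_zero (fun i _ => by simp [hpair i])
    -- some multiple of y lies in the root span
    set n := Nat.card (M' ⧸ Submodule.span ℤ (Set.range P'.root)) with hn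
    have hn0 : n ≠ 0 := Nat.card_ne_zero.mpr ⟨inferInstance, hfin'⟩
    have hmem : n • y ∈ P'.rootSpan ℤ := by
      have := AddSubgroup.nsmul_index_mem (Submodule.span ℤ (Set.range P'.root)).toAddSubgroup y
      exact this
    have hform' : P'.RootForm (n • y) (n • y) = 0 := by
      simp [hform]
    have := P'.eq_zero_of_mem_rootSpan_of_rootForm_self_eq_zero hmem hform'
    exact (smul_eq_zero_iff_right hn0).mp this
  · -- finite cokernel
    have hle : Submodule.span ℤ (Set.range P.root) ≤ LinearMap.range f.weightMap := by
      rw [Submodule.span_le]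
      rintro _ ⟨i, rfl⟩
      refine ⟨P'.root (f.indexEquiv.symm i), ?_⟩
      rw [RootPairing.Hom.root_weightMap_apply, Equiv.apply_symm_apply]
    exact Finite.of_surjective (Submodule.factor hle) (Submodule.factor_surjective hle)

end Groth.Agent.S5474
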