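import Groth.Statements.S5476
import Mathlib.LinearAlgebra.RootSystem.Finite.Nondegenerate
-- import your own Groth.Agent.* helpers here

set_option autoImplicit false
open RootD

namespace Groth.Agent.S5476

section Helpers

open Module

variable {ι M N : Type*} [AddCommGroup M] [AddCommGroup N]
  (P : RootPairing ι ℤ M N) [Fintype ι]

lemma iInf_ker_eq : (⨅ i : ι, LinearMap.ker (P.coroot' i) : Submodule ℤ M) =
    LinearMap.ker P.Polarization := by
  ext x
  simp only [Submodule.mem_iInf, LinearMap.mem_ker]
  constructor
  · intro h
    rw [RootPairing.Polarization_apply]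
    exact Finset.sum_eq_zero fun i _ => by rw [h i, zero_smul]
  · intro h i
    have h1 : P.RootForm x = 0 := (P.polarization_apply_eq_zero_iff x).mp h
    have h2 : P.RootForm x x = 0 := by rw [h1]; rfl
    rw [P.rootForm_apply_apply] at h2
    have h3 := (Finset.sum_eq_zero_iff_of_nonneg
      (fun i _ => mul_self_nonneg (P.coroot' i x))).mp h2 i (Finset.mem_univ i)
    exact mul_self_eq_zero.mp h3

lemma finrank_range_polarization [Module.Finite ℤ M] [Module.Finite ℤ N] :
    finrank ℤ (LinearMap.range P.Polarization) = finrank ℤ (P.rootSpan ℤ) := by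
  have hR : Module.IsReflexive ℤ N := .of_isPerfPair P.flip.toLinearMap
  rw [← P.finrank_corootSpan_eq']
  apply le_antisymm
  · apply Submodule.finrank_mono
    rintro _ ⟨x, rfl⟩
    rw [RootPairing.Polarization_apply]
    exact Submodule.sum_mem _ fun i _ => Submodule.smul_mem _ _
      (Submodule.subset_span (Set.mem_range_self i))
  · rw [← P.finrank_rootSpan_map_polarization_eq_finrank_corootSpan]
    apply Submodule.finrank_mono
    rintro _ ⟨x, _, rfl⟩
    exact ⟨x, rfl⟩

lemma main_a [Module.Finite ℤ M] [Module.Finite ℤ N] :
    finrank ℤ (⨅ i : ι, LinearMap.ker (P.coroot' i) : Submodule ℤ M) +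
      finrank ℤ (Submodule.span ℤ (Set.range P.root)) = finrank ℤ M := by
  rw [iInf_ker_eq]
  have h1 := (LinearMap.ker P.Polarization).finrank_quotient_add_finrank
  rw [LinearEquiv.finrank_eq P.Polarization.quotKerEquivRange, finrank_range_polarization] at h1
  rw [add_comm]
  exact h1

end Helpers

/-- The lattice of the coradical (weights killed by every coroot) and the lattice of the radical
(coweights killed by every root) both have rank rgred - rgss, the rank of the weight lattice minus
the rank of the lattice generated by the roots; and the datum is semisimple (the roots span a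
sublattice of full rank) if and only if the coradical lattice vanishes, if and only if the radical
lattice vanishes. -/
theorem result {ι M N : Type*} [AddCommGroup M] [AddCommGroup N]
    (P : RootPairing ι ℤ M N) [Finite ι] [Module.Finite ℤ M] [Module.Finite ℤ N] :
    (Module.finrank ℤ (⨅ i : ι, LinearMap.ker (P.coroot' i) : Submodule ℤ M) +
        Module.finrank ℤ (Submodule.span ℤ (Set.range P.root)) = Module.finrank ℤ M) ∧
      (Module.finrank ℤ (⨅ i : ι, LinearMap.ker (P.root' i) : Submodule ℤ N) +
        Module.finrank ℤ (Submodule.span ℤ (Set.range P.root)) = Module.finrank ℤ M) ∧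
      (Module.finrank ℤ (Submodule.span ℤ (Set.range P.root)) = Module.finrank ℤ M ↔
        (⨅ i : ι, LinearMap.ker (P.coroot' i) : Submodule ℤ M) = ⊥) ∧
      (Module.finrank ℤ (Submodule.span ℤ (Set.range P.root)) = Module.finrank ℤ M ↔
        (⨅ i : ι, LinearMap.ker (P.root' i) : Submodule ℤ N) = ⊥) := by
  classical
  haveI : Fintype ι := Fintype.ofFinite ι
  have hRM : Module.IsReflexive ℤ M := .of_isPerfPair P.toLinearMap
  have hRN : Module.IsReflexive ℤ N := .of_isPerfPair P.flip.toLinearMap
  have ha := main_a P
  have hb := main_a P.flip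
  have hco : Module.finrank ℤ (P.corootSpan ℤ) = Module.finrank ℤ (P.rootSpan ℤ) :=
    P.finrank_corootSpan_eq'
  have hMN : Module.finrank ℤ M = Module.finrank ℤ N := Module.finrank_of_isPerfPair P.toLinearMap
  have hb' : Module.finrank ℤ (⨅ i : ι, LinearMap.ker (P.root' i) : Submodule ℤ N) +
        Module.finrank ℤ (Submodule.span ℤ (Set.range P.root)) = Module.finrank ℤ M := by
    rw [hMN]
    have : Module.finrank ℤ (Submodule.span ℤ (Set.range P.root)) =
        Module.finrank ℤ (Submodule.span ℤ (Set.range P.flip.root)) := hco.symm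
    rw [this]
    exact hb
  refine ⟨ha, hb', ?_, ?_⟩
  · rw [← Submodule.finrank_eq_zero]
    omega
  · rw [← Submodule.finrank_eq_zero]
    omega

end Groth.Agent.S5476
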