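import Groth.Statements.S5477
import Mathlib.LinearAlgebra.RootSystem.Finite.Nondegenerate
import Mathlib.LinearAlgebra.RootSystem.Hom
-- import your own Groth.Agent.* helpers here

set_option autoImplicit false
open RootPairing
open scoped Pointwise
open RootD

namespace Groth.Agent.S5477

/-- An automorphism of a root datum acting trivially on the radical (u(m) - m in the rational span of
the roots for all m) is determined by its action on the roots: if it fixes every root it is the
identity. -/
theorem result {ι M N : Type*} [AddCommGroup M] [AddCommGroup N]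
    (P : RootPairing ι ℤ M N) [Finite ι] (u : P.Aut)
    (hs : ∀ m : M, ∃ n : ℕ, 0 < n ∧ n • (u • m - m) ∈ Submodule.span ℤ (Set.range P.root))
    (hfix : ∀ i : ι, u • i = i) : u = 1 := by
  classical
  have : Fintype ι := Fintype.ofFinite ι
  have hR : Module.IsReflexive ℤ M := .of_isPerfPair P.toLinearMap
  have hTF : IsAddTorsionFree M := .of_isTorsionFree ℤ M
  apply RootPairing.Equiv.weightHom_injective P
  ext m
  show u • m = m
  have hidx : ∀ i, u.indexEquiv i = i := hfix
  have hco : ∀ i, u.coweightMap (P.coroot i) = P.coroot i := by
    intro i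
    rw [RootPairing.Hom.coroot_coweightMap_apply P P i u.toHom]
    congr 1
    rw [Equiv.symm_apply_eq]
    exact (hidx i).symm
  have hpair : ∀ i x, P.coroot' i (u • x) = P.coroot' i x := by
    intro i x
    have h1 := RootPairing.Hom.weight_coweight_transpose_apply P P (P.coroot i) u.toHom
    have h2 := LinearMap.congr_fun h1 x
    rw [hco] at h2
    exact h2
  obtain ⟨n, hn, hmem⟩ := hs m
  have hw : ∀ i, P.coroot' i (n • (u • m - m)) = 0 := by
    intro i
    simp [hpair, map_nsmul, map_sub]
  have hform : P.RootForm (n • (u • m - m)) (n • (u • m - m)) = 0 := by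
    rw [RootPairing.rootForm_apply_apply]
    simp [hw]
  have hw0 : n • (u • m - m) = 0 :=
    P.eq_zero_of_mem_rootSpan_of_rootForm_self_eq_zero hmem hform
  have h3 : u • m - m = 0 := nsmul_right_injective hn.ne' (hw0.trans (nsmul_zero n).symm)
  exact sub_eq_zero.mp h3

end Groth.Agent.S5477
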