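import Groth.Statements.S5478
import Groth.Agent.S5477

set_option autoImplicit false
open RootPairing
open scoped Pointwise
open RootD

namespace Groth.Agent.S5478

lemma smul_mem_span {ι M N : Type*} [AddCommGroup M] [AddCommGroup N]
    (P : RootPairing ι ℤ M N) (g : P.Aut) (x : M)
    (hx : x ∈ Submodule.span ℤ (Set.range P.root)) :
    g • x ∈ Submodule.span ℤ (Set.range P.root) := by
  induction hx using Submodule.span_induction with
  | mem x hx =>
    obtain ⟨i, rfl⟩ := hx
    rw [← RootPairing.Equiv.root_indexEquiv_eq_smul]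
    exact Submodule.subset_span ⟨_, rfl⟩
  | zero => simp
  | add x y _ _ hx hy => rw [smul_add]; exact add_mem hx hy
  | smul z x _ hx => rw [smul_comm]; exact Submodule.smul_mem _ _ hx


/-- The group of automorphisms of a root datum that act trivially on the radical is finite. -/
theorem result {ι M N : Type*} [AddCommGroup M] [AddCommGroup N]
    (P : RootPairing ι ℤ M N) [Finite ι] :
    Set.Finite {u : P.Aut | ∀ m : M, ∃ n : ℕ, 0 < n ∧ n • (u • m - m) ∈ Submodule.span ℤ (Set.range P.root)} := by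
  refine Set.Finite.of_finite_image (f := fun u : P.Aut => u.indexEquiv) (Set.toFinite _) ?_
  intro u hu u' hu' hidx
  have hidx' : ∀ i, u.indexEquiv i = u'.indexEquiv i := fun i => congrFun (congrArg DFunLike.coe hidx) i
  have hw : u'⁻¹ * u = 1 := by
    refine Groth.Agent.S5477.result P (u'⁻¹ * u) ?_ ?_
    · intro m
      obtain ⟨n₁, hn₁, h₁⟩ := hu m
      obtain ⟨n₂, hn₂, h₂⟩ := hu' (u'⁻¹ • m)
      refine ⟨n₂ * n₁, Nat.mul_pos hn₂ hn₁, ?_⟩
      have e : (u'⁻¹ * u) • m - m =
          u'⁻¹ • (u • m - m) - (u' • (u'⁻¹ • m) - u'⁻¹ • m) := by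
        rw [mul_smul, smul_sub, smul_inv_smul]
        abel
      rw [e, smul_sub]
      refine sub_mem ?_ ?_
      · have e2 : (n₂ * n₁) • u'⁻¹ • (u • m - m) = n₂ • u'⁻¹ • n₁ • (u • m - m) := by
          rw [mul_smul, smul_comm n₁ u'⁻¹]
        rw [e2]
        exact Submodule.smul_of_tower_mem _ n₂ (smul_mem_span P u'⁻¹ _ h₁)
      · rw [mul_comm, mul_smul]
        exact Submodule.smul_of_tower_mem _ n₁ h₂
    · intro i
      rw [mul_smul]
      show u'⁻¹ • (u.indexEquiv i) = i
      rw [hidx' i]
      exact inv_smul_smul u' i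
  calc u = u' * (u'⁻¹ * u) := by group
    _ = u' := by rw [hw, mul_one]

end Groth.Agent.S5478
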