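import Groth.Statements.S5488
import Mathlib.LinearAlgebra.RootSystem.Reduced
import Mathlib.LinearAlgebra.RootSystem.WeylGroup
-- import your own Groth.Agent.* helpers here

set_option autoImplicit false
open RootPairing
open scoped Pointwise
open RootD

namespace Groth.Agent.S5488

lemma refl_eq {ι M N : Type*} [AddCommGroup M] [AddCommGroup N]
    (P : RootPairing ι ℤ M N) [Finite ι] (i j : ι) (h : (2 : ℤ) • P.root j = P.root i) :
    RootPairing.Equiv.reflection P i = RootPairing.Equiv.reflection P j := by
  have hR : Module.IsReflexive ℤ M := .of_isPerfPair P.toLinearMap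
  have hR' : Module.IsReflexive ℤ N := .of_isPerfPair P.flip.toLinearMap
  have h14 := (P.pairing_one_four_iff j i).mpr h.symm
  have hco : P.coroot j = (2 : ℤ) • P.coroot i := by
    have := (P.flip.pairing_one_four_iff i j).mp ⟨by simpa using h14.1, by simpa using h14.2⟩
    simpa using this
  refine RootPairing.Equiv.ext ?_ ?_ ?_
  · ext x
    show P.reflection i x = P.reflection j x
    rw [RootPairing.reflection_apply, RootPairing.reflection_apply, ← h]
    simp [RootPairing.coroot', hco, smul_smul, mul_comm]
  · ext y
    show P.coreflection i y = P.coreflection j y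
    rw [RootPairing.coreflection_apply, RootPairing.coreflection_apply, hco]
    simp [RootPairing.root', ← h, smul_smul, mul_comm]
  · ext k
    show P.reflectionPerm i k = P.reflectionPerm j k
    apply P.root.injective
    rw [RootPairing.root_reflectionPerm, RootPairing.root_reflectionPerm,
      RootPairing.reflection_apply, RootPairing.reflection_apply, ← h]
    simp [RootPairing.coroot', hco, smul_smul, mul_comm]

lemma indiv_of_half {ι M N : Type*} [AddCommGroup M] [AddCommGroup N]
    (P : RootPairing ι ℤ M N) [Finite ι] (i j : ι) (h : (2 : ℤ) • P.root j = P.root i) :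
    RootD.IsIndiv P j := by
  intro j' hj'
  have h4 : P.root i = (4 : ℤ) • P.root j' := by
    rw [← h, ← hj', smul_smul]
    norm_num
  have := congrArg (P.coroot' i) h4
  simp at this
  omega


/-- The reduced datum of indivisible roots has the same Weyl group: the reflections in indivisible roots
generate W. -/
theorem result {ι M N : Type*} [AddCommGroup M] [AddCommGroup N]
    (P : RootPairing ι ℤ M N) [Finite ι] :
    Subgroup.closure ((fun i : ι => Equiv.reflection P i) '' {i : ι | RootD.IsIndiv P i}) = P.weylGroup := by
  apply le_antisymm
  · exact Subgroup.closure_mono (Set.image_subset_range _ _)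
  · rw [RootPairing.weylGroup, Subgroup.closure_le]
    rintro _ ⟨i, rfl⟩
    by_cases hi : RootD.IsIndiv P i
    · exact Subgroup.subset_closure ⟨i, hi, rfl⟩
    · unfold RootD.IsIndiv at hi
      push Not at hi
      obtain ⟨j, hj⟩ := hi
      rw [refl_eq P i j hj]
      exact Subgroup.subset_closure ⟨j, indiv_of_half P i j hj, rfl⟩

end Groth.Agent.S5488
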