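import Groth.Statements.S5491
import Mathlib.LinearAlgebra.RootSystem.Base
-- import your own Groth.Agent.* helpers here

set_option autoImplicit false
open RootD

namespace Groth.Agent.S5491

section Helpers

open Classical

variable {ι M N : Type*} [AddCommGroup M] [AddCommGroup N]
  (P : RootPairing ι ℤ M N) [Finite ι] [Fintype ι] [P.IsReduced] (b : P.Base)

/-- pairing against the sum of the positive coroots -/
noncomputable def f (i : ι) : ℤ := ∑ j, if b.IsPos j then P.pairing i j else 0

lemma f_add {i j k : ι} (hk : P.root k = P.root i + P.root j) : f P b k = f P b i + f P b j := by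
  unfold f
  rw [← Finset.sum_add_distrib]
  refine Finset.sum_congr rfl fun l _ => ?_
  split_ifs
  · exact RootPairing.pairing_eq_add_of_root_eq_add hk
  · simp

lemma f_neg (i : ι) : f P b (P.reflectionPerm i i) = - f P b i := by
  unfold f
  rw [← Finset.sum_neg_distrib]
  refine Finset.sum_congr rfl fun l _ => ?_
  split_ifs
  · exact P.pairing_reflectionPerm_self_left i l
  · simp

lemma f_simple {s : ι} (hs : s ∈ b.support) : f P b s = 2 := by
  have hspos : b.IsPos s := b.isPos_of_mem_support hs
  have hnegs : ¬ b.IsPos (P.reflectionPerm s s) := by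
    have := (RootPairing.Base.IsPos.neg_iff_not b s).mp
    intro h
    exact this h hspos
  let g : ι → ℤ := fun j => if b.IsPos j ∧ j ≠ s then P.pairing s j else 0
  have hsplit : f P b s = P.pairing s s + ∑ j, g j := by
    unfold f
    rw [← Finset.add_sum_erase Finset.univ _ (Finset.mem_univ s), if_pos hspos]
    congr 1
    rw [← Finset.sum_erase_add Finset.univ g (Finset.mem_univ s)]
    have : g s = 0 := by simp [g]
    rw [this, add_zero]
    refine Finset.sum_congr rfl fun j hj => ?_
    have hjs : j ≠ s := (Finset.mem_erase.mp hj).1
    simp [g, hjs]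
  have hstab : ∀ j, (b.IsPos j ∧ j ≠ s) → (b.IsPos (P.reflectionPerm s j) ∧ P.reflectionPerm s j ≠ s) := by
    rintro j ⟨hj, hjs⟩
    refine ⟨hj.reflectionPerm hs hjs, fun h => ?_⟩
    have : j = P.reflectionPerm s s := by
      have h0 := P.reflectionPerm_self s j
      rw [h] at h0
      exact h0.symm
    exact hnegs (this ▸ hj)
  have hg : ∀ j, g (P.reflectionPerm s j) = - g j := by
    intro j
    by_cases hj : b.IsPos j ∧ j ≠ s
    · have h2 := hstab j hj
      simp only [g, if_pos hj, if_pos h2]
      rw [RootPairing.pairing_reflectionPerm, RootPairing.pairing_reflectionPerm_self_left]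
    · have h2 : ¬ (b.IsPos (P.reflectionPerm s j) ∧ P.reflectionPerm s j ≠ s) := by
        intro h
        apply hj
        have := hstab _ h
        rwa [RootPairing.reflectionPerm_self] at this
      simp only [g, if_neg hj, if_neg h2, neg_zero]
  have hsum : ∑ j, g j = - ∑ j, g j := by
    rw [← Finset.sum_neg_distrib]
    rw [← Equiv.sum_comp (P.reflectionPerm s) g]
    exact Finset.sum_congr rfl fun j _ => hg j
  rw [hsplit, P.pairing_same]
  omega

end Helpers


open Classical in
/-- With ρ^v the half-sum of the positive coroots, the order (height) of any root α relative to the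
simple system equals (ρ^v, α); equivalently 2·height(α) = Σ_{β > 0} (β^v, α). -/
theorem result {ι M N : Type*} [AddCommGroup M] [AddCommGroup N]
    (P : RootPairing ι ℤ M N) [Finite ι] [Fintype ι] [P.IsReduced] (b : P.Base) (i : ι) :
    2 * b.height i = ∑ j, if b.IsPos j then P.pairing i j else 0 := by
  have key : ∀ i, b.IsPos i → f P b i = 2 * b.height i := by
    intro i hi
    refine hi.induction_on_add (p := fun k => f P b k = 2 * b.height k) ?_ ?_
    · intro s hs
      rw [f_simple P b hs, RootPairing.Base.height_one_of_mem_support hs]
      rfl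
    · intro i j k hk hpi hj
      rw [f_add P b hk, hpi, f_simple P b hj, b.height_add hk,
        RootPairing.Base.height_one_of_mem_support hj]
      ring
  show 2 * b.height i = f P b i
  rcases RootPairing.Base.IsPos.or_neg b i with hi | hi
  · exact (key i hi).symm
  · have h1 := key _ hi
    have h2 : f P b (P.reflectionPerm i i) = - f P b i := f_neg P b i
    have h3 : b.height (P.reflectionPerm i i) = - b.height i := b.height_reflectionPerm_self i
    have h1' : f P b (P.reflectionPerm i i) = 2 * b.height (P.reflectionPerm i i) := h1
    rw [h2, h3] at h1'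
    omega

end Groth.Agent.S5491
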