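import Groth.Statements.S5493
import Mathlib

set_option autoImplicit false
open RootD

namespace Groth.Agent.S5493

open Set Function Module RootPairing Submodule

/-- version of `IsRootSystem.ext` only needing the roots to span -/
lemma ext_of_span {ι M N : Type*} [AddCommGroup M] [AddCommGroup N] [Finite ι]
    {P₁ P₂ : RootPairing ι ℤ M N}
    (hsp : span ℤ (range P₁.root) = ⊤)
    (he : P₁.toLinearMap = P₂.toLinearMap) (hr : P₁.root = P₂.root) : P₁ = P₂ := by
  have : Module.IsReflexive ℤ M := .of_isPerfPair P₁.toLinearMap
  suffices ∀ (P₁ P₂ : RootPairing ι ℤ M N), span ℤ (range P₁.root) = ⊤ →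
      P₁.toLinearMap = P₂.toLinearMap → P₁.root = P₂.root → range P₁.coroot ⊆ range P₂.coroot by
    have h₁ := this P₁ P₂ hsp he hr
    have h₂ := this P₂ P₁ (hr ▸ hsp) he.symm hr.symm
    exact RootPairing.ext he hr (le_antisymm h₁ h₂)
  intro P₁ P₂ hsp he hr
  rintro - ⟨i, rfl⟩
  use i
  apply P₁.flip.toPerfPair.injective
  apply Dual.eq_of_preReflection_mapsTo (finite_range P₁.root) hsp
  · exact hr ▸ he ▸ P₂.coroot_root_two i
  · change MapsTo (preReflection _ (P₁.toLinearMap.flip.toPerfPair _)) _ _
    simp_rw [hr, he]
    exact P₂.mapsTo_reflection_root i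
  · exact P₁.coroot_root_two i
  · exact P₁.mapsTo_reflection_root i


set_option backward.isDefEq.respectTransparency false in
/-- version of `Equiv.mk'` only needing the roots of the target to span -/
noncomputable def mkEquiv {ι ι₂ M N M₂ N₂ : Type*} [AddCommGroup M] [AddCommGroup N]
    [AddCommGroup M₂] [AddCommGroup N₂] [Finite ι] [Finite ι₂]
    (P : RootPairing ι ℤ M N) (Q : RootPairing ι₂ ℤ M₂ N₂) (hQ : span ℤ (range Q.root) = ⊤)
    (f : M ≃ₗ[ℤ] M₂) (e : ι ≃ ι₂) (hf : ∀ i, f (P.root i) = Q.root (e i)) : P.Equiv Q where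
  weightMap := f
  coweightMap := Q.flip.toPerfPair.trans (f.dualMap.trans P.flip.toPerfPair.symm)
  indexEquiv := e
  weight_coweight_transpose := by ext; simp
  root_weightMap := by ext; simp [hf]
  coroot_coweightMap := by
    let g : N ≃ₗ[ℤ] N₂ := P.flip.toPerfPair.trans <| f.symm.dualMap.trans Q.flip.toPerfPair.symm
    suffices Q = P.map e f g by
      ext i
      rw [LinearEquiv.coe_coe, comp_apply, ← LinearEquiv.eq_symm_apply]
      conv_lhs => rw [this]
      rfl
    apply ext_of_span hQ <;> ext
    · simp [RootPairing.map, RootPairing.map, g]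
    · simp [hf, RootPairing.map, RootPairing.map]
  bijective_weightMap := LinearEquiv.bijective _
  bijective_coweightMap := LinearEquiv.bijective _


section
variable {ι M N ι' M' N' : Type*} [AddCommGroup M] [AddCommGroup N] [AddCommGroup M'] [AddCommGroup N']
    (P : RootPairing ι ℤ M N) (P' : RootPairing ι' ℤ M' N')

/-- ℤ-basis of M from a base when roots span -/
noncomputable def basisOf (b : P.Base) (had : span ℤ (range P.root) = ⊤) : Basis b.support ℤ M :=
  Basis.mk b.linearIndepOn_root (by
    change ⊤ ≤ span ℤ (range (P.root ∘ ((↑) : b.support → ι)))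
    rw [range_comp, Subtype.range_coe]
    have := b.span_int_root_support
    rw [this, had])

lemma basisOf_apply (b : P.Base) (had : span ℤ (range P.root) = ⊤) (i : b.support) :
    basisOf P b had i = P.root i := by
  simp [basisOf]

lemma apply_mem_range_root [Finite ι] [P.IsReduced] (had : span ℤ (range P.root) = ⊤)
    (b : P.Base) (b' : P'.Base) (e : b.support ≃ b'.support)
    (f : M ≃ₗ[ℤ] M') (hf : ∀ i : b.support, f (P.root i) = P'.root (e i))
    (he : ∀ i j : b.support, P'.pairing (e i) (e j) = P.pairing i j)
    (m : M) (hm : m ∈ range P.root) : f m ∈ range P'.root := by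
  have (k : b.support) : (P.reflection k).trans f = f.trans (P'.reflection (e k)) := by
    suffices ∀ j : b.support,
        (P.reflection k).trans f (P.root j) = f.trans (P'.reflection (e k)) (P.root j) by
      rw [← LinearEquiv.toLinearMap_inj]
      exact (basisOf P b had).ext fun j ↦ by simpa [basisOf_apply] using this j
    intro j
    simp only [LinearEquiv.trans_apply]
    rw [P.reflection_apply_root, P'.reflection_apply, map_sub, map_smul, hf, hf,
      P'.root_coroot'_eq_pairing, he]
  obtain ⟨i, rfl⟩ := hm
  apply b.induction_reflect i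
  · exact fun j ⟨k, hk⟩ ↦ ⟨P'.reflectionPerm k k, by simpa⟩
  · exact fun j hj ↦ ⟨e ⟨j, hj⟩, (hf _).symm⟩
  · intro j k ⟨l, hl⟩ hk
    replace this : f (P.reflection k (P.root j)) = (P'.reflection (e ⟨k, hk⟩)) (f (P.root j)) := by
      simpa using LinearEquiv.congr_fun (this ⟨k, hk⟩) (P.root j)
    rw [root_reflectionPerm, this, ← hl, ← root_reflectionPerm]
    exact mem_range_self _

end



/-- Adjoint case; the simply connected case is dual: two reduced adjoint root data with systems of
simple roots Δ, Δ' and a bijection u : Δ → Δ' respecting the Cartan matrices are isomorphic through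
a unique isomorphism inducing u on Δ. -/
theorem result {ι M N ι' M' N' : Type*} [AddCommGroup M] [AddCommGroup N] [AddCommGroup M'] [AddCommGroup N']
    (P : RootPairing ι ℤ M N) (P' : RootPairing ι' ℤ M' N') [Finite ι] [Finite ι'] [P.IsReduced] [P'.IsReduced]
    (had : Submodule.span ℤ (Set.range P.root) = ⊤) (had' : Submodule.span ℤ (Set.range P'.root) = ⊤)
    (b : P.Base) (b' : P'.Base) (u : ↥b.support ≃ ↥b'.support)
    (hu : ∀ i j : ↥b.support, P.pairing (i : ι) (j : ι) = P'.pairing (u i : ι') (u j : ι')) :
    ∃! e : RootPairing.Equiv P P', ∀ i : ↥b.support, e.indexEquiv (i : ι) = (u i : ι') := by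
  classical
  have he : ∀ i j : b.support, P'.pairing (u i) (u j) = P.pairing i j := fun i j => (hu i j).symm
  have he' : ∀ i j : b'.support, P.pairing (u.symm i) (u.symm j) = P'.pairing i j := fun i j => by
    rw [hu]; simp
  let f : M ≃ₗ[ℤ] M' := (basisOf P b had).equiv (basisOf P' b' had') u
  have hfb : ∀ i : b.support, f (P.root i) = P'.root (u i) := by
    intro i
    rw [← basisOf_apply P b had i, Basis.equiv_apply, basisOf_apply]
  have hfb' : ∀ i : b'.support, f.symm (P'.root i) = P.root (u.symm i) := by
    intro i
    rw [LinearEquiv.symm_apply_eq, hfb, Equiv.apply_symm_apply]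
  have hf : ∀ m, f m ∈ range P'.root ↔ m ∈ range P.root := by
    refine fun m ↦ ⟨fun h ↦ ?_, fun h ↦ apply_mem_range_root P P' had b b' u f hfb he m h⟩
    have := apply_mem_range_root P' P had' b' b u.symm f.symm hfb' he' (f m) h
    simpa using this
  let : Fintype ι := Fintype.ofFinite _
  let : Fintype ι' := Fintype.ofFinite _
  let e' : ι ≃ ι' := P.root.toEquivRange.trans <| (f.bijOn hf).equiv.trans P'.root.toEquivRange.symm
  have he'' (i : ι) : f (P.root i) = P'.root (e' i) := by
    simp [e', BijOn.equiv, Embedding.toEquivRange]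
  refine ⟨mkEquiv P P' had' f e' he'', ?_, ?_⟩
  · intro i
    apply P'.root.injective
    change P'.root (e' i) = _
    rw [← he'', hfb]
  · intro e₂ he₂
    have hw : e₂.weightMap = f.toLinearMap := by
      apply (basisOf P b had).ext
      intro i
      rw [basisOf_apply, Hom.root_weightMap_apply, he₂ i]
      exact (hfb i).symm
    apply RootPairing.Equiv.ext
    · exact hw
    · ext n
      apply P.flip.toPerfPair.injective
      have h1 := Hom.weight_coweight_transpose_apply P P' n (mkEquiv P P' had' f e' he'').toHom
      have h2 := Hom.weight_coweight_transpose_apply P P' n e₂.toHom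
      rw [← h1, ← h2, hw]
      rfl
    · ext k
      apply P'.root.injective
      rw [← Hom.root_weightMap_apply, hw]
      exact he'' k

end Groth.Agent.S5493
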