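import Groth.Statements.S5495
import Mathlib.LinearAlgebra.RootSystem.Finite.Lemmas
-- import your own Groth.Agent.* helpers here

set_option autoImplicit false
open RootD

namespace Groth.Agent.S5495

/-- If α is an indivisible root and kα is a root for a rational k, then k is an integer. -/
theorem result {ι M N : Type*} [AddCommGroup M] [AddCommGroup N]
    (P : RootPairing ι ℤ M N) [Finite ι] (i j : ι) (hind : RootD.IsIndiv P i) (a b : ℤ) (hb : b ≠ 0)
    (h : b • P.root j = a • P.root i) : b ∣ a := by
  have hR : Module.IsReflexive ℤ M := .of_isPerfPair P.toLinearMap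
  have hR' : Module.IsReflexive ℤ N := .of_isPerfPair P.flip.toLinearMap
  have hpI : ∀ i j, P.pairingIn ℤ i j = P.pairing i j := fun i j => by
    simpa using P.algebraMap_pairingIn ℤ i j
  have h1 : b * P.pairing j i = a * 2 := by simpa using congrArg (P.coroot' i) h
  have h2 : b * 2 = a * P.pairing i j := by simpa using congrArg (P.coroot' j) h
  have hset := P.pairingIn_pairingIn_mem_set_of_isCrystallographic j i
  rw [hpI, hpI] at hset
  have h14 : ¬ (P.pairing j i = 1 ∧ P.pairing i j = 4) := by
    rw [P.pairing_one_four_iff j i]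
    exact fun h' => hind j h'.symm
  have h14' : ¬ (P.pairing j i = -1 ∧ P.pairing i j = -4) := by
    rw [P.pairing_neg_one_neg_four_iff j i]
    intro h'
    apply hind (P.reflectionPerm j j)
    rw [RootPairing.root_reflectionPerm, RootPairing.reflection_apply_self, h']
    simp
  have key : a = b ∨ a = -b ∨ a = 2 * b ∨ a = -2 * b := by
    simp only [Set.mem_insert_iff, Set.mem_singleton_iff, Prod.mk.injEq] at hset
    rcases hset with h | h | h | h | h | h | h | h | h | h | h | h | h | h | h | h | h <;>
      obtain ⟨hx, hy⟩ := h <;> rw [hx] at h1 <;> rw [hy] at h2 <;> omega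
  rcases key with rfl | rfl | rfl | rfl
  · exact dvd_rfl
  · exact (dvd_neg.mpr dvd_rfl)
  · exact Dvd.intro_left 2 rfl
  · exact ⟨-2, by ring⟩

end Groth.Agent.S5495
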