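import Groth.Statements.S5496
import Mathlib
import Groth.Agent.Lib.Helper17.Dihedral
import Groth.Agent.Lib.lead.RootDE
import Groth.Agent.Lib.lead.RootDD
import Groth.Agent.S2953

set_option autoImplicit false
open RootPairing
open scoped Pointwise
open RootD

namespace Groth.Agent.S5496

open Groth.Agent.RootDL RootPairing Groth.Agent.S2953

variable {ι M N : Type*} [AddCommGroup M] [AddCommGroup N] {P : RootPairing ι ℤ M N}

lemma fix_K (i j : ι) {g : P.Aut}
    (hg : g ∈ Subgroup.closure ({Equiv.reflection P i, Equiv.reflection P j} : Set P.Aut)) :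
    ∀ x : M, P.coroot' i x = 0 → P.coroot' j x = 0 → g • x = x := by
  induction hg using Subgroup.closure_induction with
  | mem g hg =>
    intro x hi hj
    rcases hg with rfl | hg
    · change P.reflection i x = x
      rw [P.reflection_apply, hi, zero_smul, sub_zero]
    · have hg : g = Equiv.reflection P j := hg
      subst hg
      change P.reflection j x = x
      rw [P.reflection_apply, hj, zero_smul, sub_zero]
  | one => intro x _ _; exact one_smul _ x
  | mul g h _ _ ihg ihh =>
    intro x hi hj
    rw [mul_smul, ihh x hi hj, ihg x hi hj]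
  | inv g _ ih =>
    intro x hi hj
    conv_lhs => rw [← ih x hi hj]
    rw [inv_smul_smul]

lemma pairingIn_eq' (i j : ι) : P.pairingIn ℤ i j = P.pairing i j := by
  simpa using P.algebraMap_pairingIn ℤ i j

lemma eq_one_of_fix [Finite ι] (i j : ι) (hli : LinearIndependent ℤ ![P.root i, P.root j]) {g : P.Aut}
    (hg : g ∈ Subgroup.closure ({Equiv.reflection P i, Equiv.reflection P j} : Set P.Aut))
    (hi : g • i = i) (hj : g • j = j) : g = 1 := by
  have := torsionFree (P := P)
  have : Module.IsReflexive ℤ M := .of_isPerfPair P.toLinearMap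
  have hD : P.pairing i j * P.pairing j i ≠ 4 := by
    have := (P.linearIndependent_iff_coxeterWeightIn_ne_four ℤ).mp hli
    rwa [coxeterWeightIn, pairingIn_eq', pairingIn_eq'] at this
  apply Equiv.weightHom_injective P
  ext x
  change g • x = x
  have hgi : g • P.root i = P.root i := by rw [← root_smul, hi]
  have hgj : g • P.root j = P.root j := by rw [← root_smul, hj]
  obtain ⟨p, hp⟩ : ∃ p, p = P.pairing i j := ⟨_, rfl⟩
  obtain ⟨q, hq⟩ : ∃ q, q = P.pairing j i := ⟨_, rfl⟩
  obtain ⟨s, hs⟩ : ∃ s, s = P.coroot' i x := ⟨_, rfl⟩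
  obtain ⟨t, ht⟩ : ∃ t, t = P.coroot' j x := ⟨_, rfl⟩
  rw [← hp, ← hq] at hD
  obtain ⟨y, hy⟩ : ∃ y, y = (4 - p * q) • x - (2 * s - q * t) • P.root i - (2 * t - p * s) • P.root j :=
    ⟨_, rfl⟩
  have hyi : P.coroot' i y = 0 := by
    rw [hy]
    simp only [map_sub, map_smul, smul_eq_mul, P.root_coroot'_eq_pairing, P.pairing_same, ← hs, ← hq]
    ring
  have hyj : P.coroot' j y = 0 := by
    rw [hy]
    simp only [map_sub, map_smul, smul_eq_mul, P.root_coroot'_eq_pairing, P.pairing_same, ← ht, ← hp]
    ring
  have hgy := fix_K i j hg y hyi hyj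
  have e : (4 - p * q) • x = y + (2 * s - q * t) • P.root i + (2 * t - p * s) • P.root j := by
    rw [hy]; abel
  have key : (4 - p * q) • (g • x) = (4 - p * q) • x := by
    rw [← smul_comm g, e, smul_add, smul_add, hgy, smul_comm g, hgi, smul_comm g, hgj]
  have hne : (4 - p * q) ≠ 0 := fun h => hD (by linarith)
  exact smul_right_injective M hne key



/-- For non-proportional roots α, β let n be the least integer n > 0 with (s_α s_β)^n(α) = α and (s_α
s_β)^n(β) = β. Then the subgroup W_{α,β} generated by s_α and s_β is presented by s_α² = s_β² = (s_α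
s_β)^n = 1; equivalently it has exactly 2n elements. -/
theorem result {ι M N : Type*} [AddCommGroup M] [AddCommGroup N]
    (P : RootPairing ι ℤ M N) [Finite ι] (i j : ι) (hli : LinearIndependent ℤ ![P.root i, P.root j])
    (n : ℕ) (hn : IsLeast {m : ℕ | 0 < m ∧ ((Equiv.reflection P i * Equiv.reflection P j) ^ m) • i = i ∧
      ((Equiv.reflection P i * Equiv.reflection P j) ^ m) • j = j} n) :
    Nat.card (Subgroup.closure ({Equiv.reflection P i, Equiv.reflection P j} : Set P.Aut)) = 2 * n := by
  have ha : Equiv.reflection P i * Equiv.reflection P i = 1 := refl_mul_self P i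
  have hb : Equiv.reflection P j * Equiv.reflection P j = 1 := refl_mul_self P j
  have hne1 : ∀ k : ι, Equiv.reflection P k ≠ 1 := by
    intro k h
    have h1 : Equiv.reflection P k • k = k := by rw [h, one_smul]
    rw [Groth.Agent.RootDL.refl_smul] at h1
    have := P.pairing_reflectionPerm_self_left k k
    rw [h1, P.pairing_same] at this
    omega
  obtain ⟨⟨hnpos, hni, hnj⟩, hmin⟩ := hn
  have hr_mem : Equiv.reflection P i * Equiv.reflection P j ∈
      Subgroup.closure ({Equiv.reflection P i, Equiv.reflection P j} : Set P.Aut) :=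
    mul_mem (Subgroup.subset_closure (by simp)) (Subgroup.subset_closure (by simp))
  have hrn : (Equiv.reflection P i * Equiv.reflection P j) ^ n = 1 :=
    eq_one_of_fix i j hli (pow_mem hr_mem n) hni hnj
  have hord : orderOf (Equiv.reflection P i * Equiv.reflection P j) = n := by
    rw [orderOf_eq_iff hnpos]
    refine ⟨hrn, fun m hm hm0 h1 => ?_⟩
    have hmem : m ∈ {m : ℕ | 0 < m ∧ ((Equiv.reflection P i * Equiv.reflection P j) ^ m) • i = i ∧
        ((Equiv.reflection P i * Equiv.reflection P j) ^ m) • j = j} :=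
      ⟨hm0, by rw [h1, one_smul], by rw [h1, one_smul]⟩
    exact absurd (hmin hmem) (not_le.mpr hm)
  rw [Groth.Agent.Lib.Helper17.Dihedral.card_closure_pair _ _ ha hb (by rw [hord]; exact hnpos)
    (Groth.Agent.Lib.Helper17.Dihedral.not_mem_zpowers _ _ ha hb (hne1 i) (hne1 j)), hord]

end Groth.Agent.S5496
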