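import Groth.Statements.S5499
import Mathlib
import Groth.Agent.Lib.Helper17.RootDIrr

set_option autoImplicit false
open RootD

namespace Groth.Agent.S5499

open Groth.Agent.Lib.Helper17.RootDIrr


/-- For an irreducible datum, where long(α) = ℓ(α)/ℓ(α₀) with ℓ(α₀) minimal: there is a unique
homomorphism u : Γ_0(R) → M^v with u(α) = long(α) α^v for every root α. -/
theorem result {ι M N : Type*} [AddCommGroup M] [AddCommGroup N]
    (P : RootPairing ι ℤ M N) [Finite ι] [Fintype ι]
    (hirr : ∀ R' : Set ι, RootD.IsClosedSub P R' → RootD.IsSymmSub P R' → RootD.IsClosedSub P R'ᶜ →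
      RootD.IsSymmSub P R'ᶜ → R' = ∅ ∨ R' = Set.univ)
    (i₀ : ι) (hmin : ∀ i : ι, P.RootForm (P.root i₀) (P.root i₀) ≤ P.RootForm (P.root i) (P.root i)) :
    ∃! u : Submodule.span ℤ (Set.range P.root) →+ N, ∀ i : ι,
      u ⟨P.root i, Submodule.subset_span (Set.mem_range_self i)⟩ =
        (P.RootForm (P.root i) (P.root i) / P.RootForm (P.root i₀) (P.root i₀)) • P.coroot i := by
  have : IsAddTorsionFree N := Groth.Agent.RootDL.torsionFree (P := P.flip)
  have hd : ∀ j, ell P i₀ ∣ ell P j := ell_min_dvd hirr i₀ hmin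
  have hd0 : ell P i₀ ≠ 0 := (ell_pos i₀).ne'
  -- divisibility of 2 Pol on the root span
  have hex : ∀ x ∈ Submodule.span ℤ (Set.range P.root), ∃ y : N, ell P i₀ • y = 2 • P.Polarization x := by
    intro x hx
    induction hx using Submodule.span_induction with
    | mem x hx =>
      obtain ⟨i, rfl⟩ := hx
      refine ⟨(ell P i / ell P i₀) • P.coroot i, ?_⟩
      rw [smul_smul, Int.mul_ediv_cancel' (hd i)]
      exact P.rootForm_self_smul_coroot i
    | zero => exact ⟨0, by simp⟩
    | add x y _ _ hx hy =>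
      obtain ⟨a, ha⟩ := hx
      obtain ⟨b, hb⟩ := hy
      exact ⟨a + b, by rw [smul_add, ha, hb, map_add, smul_add]⟩
    | smul c x _ hx =>
      obtain ⟨a, ha⟩ := hx
      exact ⟨c • a, by rw [smul_comm, ha, map_smul, smul_comm]⟩
  choose! u₀ hu₀ using hex
  have hinj : Function.Injective (fun y : N => ell P i₀ • y) := smul_right_injective N hd0
  let u : Submodule.span ℤ (Set.range P.root) →+ N := AddMonoidHom.mk' (fun x => u₀ x.1) (by
    intro x y
    apply hinj
    simp only [smul_add]
    rw [hu₀ _ x.2, hu₀ _ y.2]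
    have := hu₀ _ (x + y).2
    rw [this]
    simp [map_add, smul_add])
  have hu : ∀ i : ι, u ⟨P.root i, Submodule.subset_span (Set.mem_range_self i)⟩ =
        (P.RootForm (P.root i) (P.root i) / P.RootForm (P.root i₀) (P.root i₀)) • P.coroot i := by
    intro i
    apply hinj
    change ell P i₀ • u₀ (P.root i) = ell P i₀ • ((ell P i / ell P i₀) • P.coroot i)
    rw [hu₀ _ (Submodule.subset_span (Set.mem_range_self i)), smul_smul, Int.mul_ediv_cancel' (hd i)]
    exact (P.rootForm_self_smul_coroot i).symm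
  refine ⟨u, hu, ?_⟩
  intro u' hu'
  ext ⟨x, hx⟩
  induction hx using Submodule.span_induction with
  | mem x hx =>
    obtain ⟨i, rfl⟩ := hx
    rw [hu' i, hu i]
  | zero =>
    have : (⟨0, Submodule.zero_mem _⟩ : Submodule.span ℤ (Set.range P.root)) = 0 := rfl
    rw [this, map_zero, map_zero]
  | add x y hx hy ihx ihy =>
    have : (⟨x + y, Submodule.add_mem _ hx hy⟩ : Submodule.span ℤ (Set.range P.root)) = ⟨x, hx⟩ + ⟨y, hy⟩ := rfl
    rw [this, map_add, map_add, ihx, ihy]
  | smul c x hx ih =>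
    have : (⟨c • x, Submodule.smul_mem _ c hx⟩ : Submodule.span ℤ (Set.range P.root)) = c • ⟨x, hx⟩ := rfl
    rw [this, map_zsmul, map_zsmul, ih]

end Groth.Agent.S5499
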