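import Groth.Statements.S5500
import Mathlib
import Groth.Agent.S5498

set_option autoImplicit false
open RootD

namespace Groth.Agent.S5500

/-- For a p-morphism between irreducible reduced root data there is a rational constant k with k ·
long(u(α)) = q(α)² · long(α) for every root α; stated as the proportionality q(α)² ℓ(α) ℓ'(u β) =
q(β)² ℓ(β) ℓ'(u α) of the canonical quadratic forms. -/
theorem result {ι M N ι' M' N' : Type*} [AddCommGroup M] [AddCommGroup N] [AddCommGroup M'] [AddCommGroup N']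
    (P : RootPairing ι ℤ M N) (P' : RootPairing ι' ℤ M' N') [Finite ι] [Finite ι'] [Fintype ι] [Fintype ι'] [P.IsReduced] [P'.IsReduced]
    (hirr : ∀ R₁ : Set ι, RootD.IsClosedSub P R₁ → RootD.IsSymmSub P R₁ → RootD.IsClosedSub P R₁ᶜ →
      RootD.IsSymmSub P R₁ᶜ → R₁ = ∅ ∨ R₁ = Set.univ)
    (hirr' : ∀ R₁ : Set ι', RootD.IsClosedSub P' R₁ → RootD.IsSymmSub P' R₁ → RootD.IsClosedSub P' R₁ᶜ →
      RootD.IsSymmSub P' R₁ᶜ → R₁ = ∅ ∨ R₁ = Set.univ)
    (p : ℕ) (hp : 0 < p) (f : M' →ₗ[ℤ] M) (g : N →ₗ[ℤ] N')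
    (hfg : ∀ (m' : M') (n : N), P.toLinearMap (f m') n = P'.toLinearMap m' (g n))
    (u : ι ≃ ι') (q : ι → ℕ) (hq : ∀ i, ∃ e : ℕ, q i = p ^ e)
    (hroot : ∀ i : ι, f (P'.root (u i)) = (q i : ℤ) • P.root i)
    (hcoroot : ∀ i : ι, g (P.coroot i) = (q i : ℤ) • P'.coroot (u i)) (i j : ι) :
    ((q i : ℤ) ^ 2 * P.RootForm (P.root i) (P.root i)) * P'.RootForm (P'.root (u j)) (P'.root (u j)) =
      ((q j : ℤ) ^ 2 * P.RootForm (P.root j) (P.root j)) * P'.RootForm (P'.root (u i)) (P'.root (u i)) := by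
  have hqpos : ∀ i, (0 : ℤ) < q i := by
    intro i
    obtain ⟨e, he⟩ := hq i
    rw [he]
    exact_mod_cast pow_pos hp e
  have hl : ∀ i : ι, 0 < P.RootForm (P.root i) (P.root i) := fun i =>
    P.rootForm_pos_of_ne_zero (Submodule.subset_span ⟨i, rfl⟩) (P.ne_zero i)
  have hl' : ∀ i : ι', 0 < P'.RootForm (P'.root i) (P'.root i) := fun i =>
    P'.rootForm_pos_of_ne_zero (Submodule.subset_span ⟨i, rfl⟩) (P'.ne_zero i)
  -- (*) q_i pairing(i,j) = q_j pairing'(ui,uj)
  have hstar : ∀ i j : ι, (q i : ℤ) * P.pairing i j = (q j : ℤ) * P'.pairing (u i) (u j) := by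
    intro i j
    have := hfg (P'.root (u i)) (P.coroot j)
    rw [hroot, hcoroot, map_smul, LinearMap.smul_apply, map_smul, smul_eq_mul, smul_eq_mul] at this
    exact this
  have hswap : ∀ i j : ι, P.pairing j i * P.RootForm (P.root i) (P.root i) =
      P.pairing i j * P.RootForm (P.root j) (P.root j) := by
    intro i j
    have e1 := P.toInvariantForm.pairing_mul_eq_pairing_mul_swap i j
    simp only [RootPairing.toInvariantForm_form] at e1
    exact e1
  have hswap' : ∀ i j : ι', P'.pairing j i * P'.RootForm (P'.root i) (P'.root i) =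
      P'.pairing i j * P'.RootForm (P'.root j) (P'.root j) := by
    intro i j
    have e1 := P'.toInvariantForm.pairing_mul_eq_pairing_mul_swap i j
    simp only [RootPairing.toInvariantForm_form] at e1
    exact e1
  -- the relation
  have step : ∀ i j : ι, P.pairing i j ≠ 0 →
      ((q i : ℤ) ^ 2 * P.RootForm (P.root i) (P.root i)) * P'.RootForm (P'.root (u j)) (P'.root (u j)) =
      ((q j : ℤ) ^ 2 * P.RootForm (P.root j) (P.root j)) * P'.RootForm (P'.root (u i)) (P'.root (u i)) := by
    intro i j hij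
    have hji : P.pairing j i ≠ 0 := Groth.Agent.S5498.pairing_ne_zero_symm P hij
    have h1 := hswap i j
    have h2 := hswap' (u i) (u j)
    have h3 := hstar i j
    have h4 := hstar j i
    have hb' : P'.pairing (u j) (u i) ≠ 0 := by
      intro h0
      rw [h0, mul_zero] at h4
      exact hji ((mul_eq_zero.mp h4).resolve_left (hqpos j).ne')
    have key : P.pairing j i * P'.pairing (u j) (u i) *
        (((q i : ℤ) ^ 2 * P.RootForm (P.root i) (P.root i)) * P'.RootForm (P'.root (u j)) (P'.root (u j)) -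
        ((q j : ℤ) ^ 2 * P.RootForm (P.root j) (P.root j)) * P'.RootForm (P'.root (u i)) (P'.root (u i))) = 0 := by
      linear_combination ((q i : ℤ)^2 * P'.pairing (u j) (u i) * P'.RootForm (P'.root (u j)) (P'.root (u j))) * h1
        - ((q j : ℤ)^2 * P.RootForm (P.root j) (P.root j) * P.pairing j i) * h2
        + (P.RootForm (P.root j) (P.root j) * P'.RootForm (P'.root (u j)) (P'.root (u j))) *
          ((q j : ℤ) * P.pairing j i * h3 - (q i : ℤ) * P.pairing i j * h4)
    have := (mul_eq_zero.mp key).resolve_left (mul_ne_zero hji hb')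
    exact sub_eq_zero.mp this
  have h := Groth.Agent.S5498.linked_univ P hirr i j
  induction h with
  | refl => rfl
  | @tail c d _ hcd ih =>
    have hs := step c d hcd
    have hc : ((q c : ℤ) ^ 2 * P.RootForm (P.root c) (P.root c)) * P'.RootForm (P'.root (u c)) (P'.root (u c)) ≠ 0 :=
      mul_ne_zero (mul_ne_zero (pow_ne_zero 2 (hqpos c).ne') (hl c).ne') (hl' (u c)).ne'
    apply mul_left_cancel₀ hc
    linear_combination ((q c : ℤ) ^ 2 * P.RootForm (P.root c) (P.root c) * P'.RootForm (P'.root (u d)) (P'.root (u d))) * ih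
      + ((q c : ℤ) ^ 2 * P.RootForm (P.root c) (P.root c) * P'.RootForm (P'.root (u i)) (P'.root (u i))) * hs

end Groth.Agent.S5500
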