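import Groth.Statements.S5501
import Mathlib

set_option autoImplicit false
universe u v w
open RootD

namespace Groth.Agent.S5501

open RootPairing Module


/-- Adjoint case; the simply connected case is dual: a semisimple root datum R is adjoint if and only if
every isogeny R' → R is an isomorphism. -/
theorem result {ι : Type u} {M : Type v} {N : Type w} [AddCommGroup M] [AddCommGroup N]
    (P : RootPairing ι ℤ M N) [Finite ι] [Module.Finite ℤ M] [Module.Finite ℤ N]
    (hss : Module.finrank ℤ (Submodule.span ℤ (Set.range P.root)) = Module.finrank ℤ M) :
    Submodule.span ℤ (Set.range P.root) = ⊤ ↔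
      ∀ (ι' : Type u) (M' N' : Type v) [AddCommGroup M'] [AddCommGroup N'] [Finite ι']
        [Module.Finite ℤ M'] [Module.Finite ℤ N'] (P' : RootPairing ι' ℤ M' N') (f : RootPairing.Hom P' P),
        Function.Injective f.weightMap → Finite (M ⧸ LinearMap.range f.weightMap) →
          Function.Bijective f.weightMap := by
  have hrefl : Module.IsReflexive ℤ M := .of_isPerfPair P.toLinearMap
  have hfree : Module.Free ℤ M := Module.free_of_finite_type_torsion_free'
  have htf : IsAddTorsionFree M := .of_isTorsionFree ℤ M
  constructor
  · intro hspan ι' M' N' _ _ _ _ _ P' f hinj _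
    refine ⟨hinj, ?_⟩
    rw [← LinearMap.range_eq_top, eq_top_iff, ← hspan, Submodule.span_le]
    rintro _ ⟨i, rfl⟩
    refine ⟨P'.root (f.indexEquiv.symm i), ?_⟩
    rw [Hom.root_weightMap_apply, Equiv.apply_symm_apply]
  · intro H
    set S := Submodule.span ℤ (Set.range P.root) with hS
    let P' : RootPairing ι ℤ S (Module.Dual ℤ S) :=
      { toLinearMap := Module.Dual.eval ℤ S
        root := ⟨fun i => ⟨P.root i, Submodule.subset_span ⟨i, rfl⟩⟩, fun i j h =>
          P.root.injective (congrArg Subtype.val h)⟩
        coroot := ⟨fun i => S.subtype.dualMap (P.toLinearMap.flip (P.coroot i)), fun i j h =>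
          P.coroot.injective (P.injOn_dualMap_subtype_span_root_coroot ⟨i, rfl⟩ ⟨j, rfl⟩ h)⟩
        root_coroot_two := fun i => P.root_coroot_two i
        reflectionPerm := P.reflectionPerm
        reflectionPerm_root := fun i j => Subtype.ext (P.reflectionPerm_root i j)
        reflectionPerm_coroot := fun i j => by
          ext x
          change P.toLinearMap x.1 (P.coroot j) - P.toLinearMap (P.root i) (P.coroot j) *
            P.toLinearMap x.1 (P.coroot i) = P.toLinearMap x.1 (P.coroot (P.reflectionPerm i j))
          rw [← P.reflectionPerm_coroot i j, map_sub, map_smul, smul_eq_mul] }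
    let f : RootPairing.Hom P' P :=
      { weightMap := S.subtype
        coweightMap := S.subtype.dualMap ∘ₗ P.toLinearMap.flip
        indexEquiv := Equiv.refl ι
        weight_coweight_transpose := by
          ext n x
          rfl
        root_weightMap := by
          ext i
          rfl
        coroot_coweightMap := by
          ext i x
          rfl }
    have hfin : Finite (M ⧸ LinearMap.range f.weightMap) := by
      have : LinearMap.range f.weightMap = S := Submodule.range_subtype S
      rw [this]
      exact Submodule.finiteQuotientOfFreeOfRankEq S hss
    have hbij := H ι S (Module.Dual ℤ S) P' f Subtype.val_injective hfin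
    have : LinearMap.range S.subtype = ⊤ := LinearMap.range_eq_top.mpr hbij.2
    rwa [Submodule.range_subtype] at this

end Groth.Agent.S5501
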