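import Groth.Statements.S5502
import Mathlib
import Groth.Agent.Lib.lead.RootDJ

set_option autoImplicit false
open RootD

namespace Groth.Agent.S5502

open Groth.Agent.RootDL Groth.Agent.Lib.Helper4.RD RootPairing

variable {ι M N : Type*} [AddCommGroup M] [AddCommGroup N] {P : RootPairing ι ℤ M N}

/-- ℓ -/
noncomputable def ell [Fintype ι] (P : RootPairing ι ℤ M N) (k : ι) : ℤ := P.RootForm (P.root k) (P.root k)

lemma ell_refl [Fintype ι] (j k : ι) : ell P (P.reflectionPerm j k) = ell P k := by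
  unfold ell
  rw [P.root_reflectionPerm, P.rootForm_reflection_reflection_apply]

lemma pairing_mul_ell [Fintype ι] (i j : ι) : P.pairing j i * ell P i = P.pairing i j * ell P j := by
  have e1 := P.toInvariantForm.pairing_mul_eq_pairing_mul_swap i j
  simp only [RootPairing.toInvariantForm_form] at e1
  exact e1

def Good [Fintype ι] {Δ : Set ι} (hΔ : IsSimpleSys P Δ) (k : ι) : Prop :=
  ∀ i : Δ, (ell P k ∣ 2 * coef hΔ k i * ell P i) ∧
    (IsIndiv P.flip (i : ι) → 2 * ell P k ∣ 2 * coef hΔ k i * ell P i)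

lemma good_refl [Fintype ι] {Δ : Set ι} (hΔ : IsSimpleSys P Δ) (j : Δ) (k : ι) (h : Good hΔ k) :
    Good hΔ (P.reflectionPerm j k) := by
  classical
  intro i
  rw [ell_refl, coef_reflectionPerm]
  simp only [Finsupp.coe_sub, Pi.sub_apply]
  by_cases hji : j = i
  · subst hji
    rw [Finsupp.single_eq_same]
    have e := pairing_mul_ell (P := P) (j : ι) k
    -- pairing k j * ell j = pairing j k * ell k
    have key : 2 * (coef hΔ k j - P.pairing k j) * ell P j =
        2 * coef hΔ k j * ell P j - 2 * ell P k * P.pairing j k := by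
      have : P.pairing k ↑j * ell P ↑j = P.pairing ↑j k * ell P k := e
      linear_combination (-2) * this
    rw [key]
    refine ⟨dvd_sub (h j).1 ⟨2 * P.pairing j k, by ring⟩, fun hind => dvd_sub ((h j).2 hind) (dvd_mul_right _ _)⟩
  · rw [Finsupp.single_eq_of_ne (Ne.symm hji), sub_zero]
    exact h i


lemma good_iff_smul [Fintype ι] {Δ : Set ι} (hΔ : IsSimpleSys P Δ) {g : P.Aut}
    (hg : g ∈ simpleRefl P Δ) : ∀ k, Good hΔ k ↔ Good hΔ (g • k) := by
  unfold simpleRefl at hg
  induction hg using Subgroup.closure_induction with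
  | mem x hx =>
    obtain ⟨j, hj, rfl⟩ := hx
    intro k
    constructor
    · exact good_refl hΔ ⟨j, hj⟩ k
    · intro h
      have := good_refl hΔ ⟨j, hj⟩ _ h
      rwa [refl_smul, P.reflectionPerm_self] at this
  | one => intro k; rw [one_smul]
  | mul x y _ _ hx hy => intro k; rw [mul_smul]; exact (hy k).trans (hx _)
  | inv x _ hx => intro k; rw [hx (x⁻¹ • k), smul_inv_smul]

lemma good_simple [Fintype ι] {Δ : Set ι} (hΔ : IsSimpleSys P Δ) (i₀ : Δ) : Good hΔ i₀ := by
  classical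
  intro i
  rw [coef_simple]
  by_cases h : i₀ = i
  · subst h; rw [Finsupp.single_eq_same]; exact ⟨⟨2, by ring⟩, fun _ => ⟨1, by ring⟩⟩
  · rw [Finsupp.single_eq_of_ne (Ne.symm h)]; simp

lemma good_double [Fintype ι] {Δ : Set ι} (hΔ : IsSimpleSys P Δ) (i₀ : Δ) (k₀ : ι)
    (h : P.root k₀ = (2:ℤ) • P.root i₀) : Good hΔ k₀ := by
  classical
  have hc : coef hΔ k₀ = Finsupp.single i₀ 2 := coef_eq_of_lc_eq hΔ k₀ _ (by rw [lc_single, h])
  have hl : ell P k₀ = 4 * ell P i₀ := by
    unfold ell; rw [h]; simp only [map_smul, LinearMap.smul_apply, smul_eq_mul]; ring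
  intro i
  rw [hc, hl]
  by_cases hi : i₀ = i
  · subst hi
    rw [Finsupp.single_eq_same]
    refine ⟨⟨1, by ring⟩, fun hind => ?_⟩
    exfalso
    have : IsAddTorsionFree N := torsionFree (P := P.flip)
    have := P.smul_coroot_eq_of_root_eq_smul i₀ k₀ 2 h
    exact hind k₀ this
  · rw [Finsupp.single_eq_of_ne (Ne.symm hi)]; simp

lemma good_all [Fintype ι] {Δ : Set ι} (hΔ : IsSimpleSys P Δ) (k : ι) : Good hΔ k := by
  by_cases hk : IsIndiv P k
  · obtain ⟨g, hg, i, hi, rfl⟩ := exists_simpleRefl_smul_eq hΔ hk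
    exact (good_iff_smul hΔ hg i).mp (good_simple hΔ ⟨i, hi⟩)
  · obtain ⟨j, hj, hkj⟩ := exists_indiv_of_not_indiv hk
    obtain ⟨g, hg, i, hi, rfl⟩ := exists_simpleRefl_smul_eq hΔ hj
    have : k = g • (g⁻¹ • k) := (smul_inv_smul g k).symm
    rw [this]
    apply (good_iff_smul hΔ hg _).mp
    apply good_double hΔ ⟨i, hi⟩
    rw [root_smul, hkj, root_smul, smul_comm, inv_smul_smul]


/-- If β = Σ_{α ∈ Δ} a_α α along a system of simple roots Δ, then ℓ(β) divides 2 a_α ℓ(α), and 2ℓ(β)
divides it when α^v is indivisible (ℓ the canonical quadratic form). -/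
theorem result {ι M N : Type*} [AddCommGroup M] [AddCommGroup N]
    (P : RootPairing ι ℤ M N) [Finite ι] [Fintype ι] (Δ : Set ι) (hΔ : RootD.IsSimpleSys P Δ)
    (k : ι) (c : ι →₀ ℤ) (hc : ↑c.support ⊆ Δ) (hck : Finsupp.linearCombination ℤ P.root c = P.root k)
    (i : ι) (hi : i ∈ Δ) :
    P.RootForm (P.root k) (P.root k) ∣ 2 * c i * P.RootForm (P.root i) (P.root i) ∧
      (RootD.IsIndiv P.flip i → 2 * P.RootForm (P.root k) (P.root k) ∣ 2 * c i * P.RootForm (P.root i) (P.root i)) := by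
  classical
  have hgood := good_all hΔ k ⟨i, hi⟩
  have hcoef : coef hΔ k = c.subtypeDomain (fun x => x ∈ Δ) := by
    apply coef_eq_of_lc_eq
    rw [← hck]
    conv_rhs => rw [← Finsupp.extendDomain_subtypeDomain c (fun a ha => hc ha)]
    rw [Finsupp.extendDomain_eq_embDomain_subtype, Finsupp.linearCombination_embDomain]
    rfl
  rw [hcoef] at hgood
  exact hgood

end Groth.Agent.S5502
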