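import Groth.Statements.S5507
import Mathlib

set_option autoImplicit false
open RootD

namespace Groth.Agent.S5507

/-- For a system of simple roots Δ there are positive integers m_α (the lengths) such that the matrix
(m_α a_{α,β}) with a_{α,β} = (α^v, β) is symmetric and positive definite. -/
theorem result {ι M N : Type*} [AddCommGroup M] [AddCommGroup N]
    (P : RootPairing ι ℤ M N) [Finite ι] (Δ : Finset ι) (hΔ : RootD.IsSimpleSys P (↑Δ : Set ι)) :
    ∃ m : ↥Δ → ℤ, (∀ a, 0 < m a) ∧
      (Matrix.of fun (a b : ↥Δ) => m a * P.pairing (b : ι) (a : ι)).IsSymm ∧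
      (Matrix.of fun (a b : ↥Δ) => m a * P.pairing (b : ι) (a : ι)).PosDef := by
  have := Fintype.ofFinite ι
  have hpos : ∀ i : ι, 0 < P.RootForm (P.root i) (P.root i) := fun i =>
    P.rootForm_pos_of_ne_zero (Submodule.subset_span ⟨i, rfl⟩) (P.ne_zero i)
  have hentry : ∀ a b : ι, P.RootForm (P.root a) (P.root a) * P.pairing b a =
      2 * P.RootForm (P.root b) (P.root a) := by
    intro a b
    have := P.toInvariantForm.two_mul_apply_root_root b a
    simp only [RootPairing.toInvariantForm_form] at this
    rw [this]; ring
  have hsymm : ∀ x y : M, P.RootForm x y = P.RootForm y x := fun x y => by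
    have := P.rootForm_symmetric.eq x y
    simpa using this
  have hmat : (Matrix.of fun (a b : ↥Δ) => P.RootForm (P.root a) (P.root a) * P.pairing (b : ι) (a : ι))
      = Matrix.of fun (a b : ↥Δ) => 2 * P.RootForm (P.root b) (P.root a) := by
    ext a b
    exact hentry a b
  refine ⟨fun a => P.RootForm (P.root a) (P.root a), fun a => hpos a, ?_, ?_⟩
  · rw [hmat]
    ext a b
    simp only [Matrix.transpose_apply, Matrix.of_apply]
    rw [hsymm]
  · rw [hmat, Matrix.posDef_iff_dotProduct_mulVec]
    refine ⟨?_, ?_⟩
    · ext a b
      simp only [Matrix.conjTranspose_apply, Matrix.of_apply, star_trivial]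
      rw [hsymm]
    · intro x hx
      have hli : LinearIndependent ℤ (fun a : ↥Δ => P.root a) := hΔ.linInd
      rw [Fintype.linearIndependent_iff] at hli
      set v : M := ∑ a : ↥Δ, x a • P.root a with hv
      have hv0 : v ≠ 0 := by
        intro h0
        apply hx
        ext a
        exact hli x h0 a
      have hvmem : v ∈ P.rootSpan ℤ := by
        apply Submodule.sum_mem
        intro a _
        exact Submodule.smul_mem _ _ (Submodule.subset_span ⟨a, rfl⟩)
      have hvpos := P.rootForm_pos_of_ne_zero hvmem hv0
      have : star x ⬝ᵥ (Matrix.of fun (a b : ↥Δ) => 2 * P.RootForm (P.root b) (P.root a)).mulVec x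
          = 2 * P.RootForm v v := by
        simp only [dotProduct, Matrix.mulVec, Matrix.of_apply, star_trivial, hv, map_sum,
          LinearMap.sum_apply, map_smul, LinearMap.smul_apply, smul_eq_mul, Finset.mul_sum]
        rw [Finset.sum_comm]
        apply Finset.sum_congr rfl
        intro a _
        apply Finset.sum_congr rfl
        intro b _
        rw [hsymm (P.root a) (P.root b)]
        ring
      rw [this]
      linarith

end Groth.Agent.S5507
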