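import Groth.Statements.S5580
import Groth.Agent.Lib.Helper13.ToposQC18
open Groth.Agent.Lib.Helper13.ToposQC

set_option autoImplicit false
open CategoryTheory CategoryTheory.Limits Opposite
universe u
open ToposFin

namespace Groth.Agent.S5580

/-- Quasi-compact and coherent cases: for the topos of sheaves of sets on a small site: let (X_i) be a
finite family of objects with coproduct X (given as a colimit cofan) and f : X -> Y a morphism with
components f_i : X_i -> Y. Then f is quasi-compact (resp. coherent) if and only if every f_i is. -/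
theorem result {C : Type u} [SmallCategory C] {J : GrothendieckTopology C}
    {Y : ToposFin.Sh J} {n : ℕ} (X : Fin n → ToposFin.Sh J) (c : Cofan X) (hc : IsColimit c)
    (f : c.pt ⟶ Y) :
    (ToposFin.IsQCHom f ↔ ∀ i, ToposFin.IsQCHom (c.inj i ≫ f)) ∧
    (ToposFin.IsCohHom f ↔ ∀ i, ToposFin.IsCohHom (c.inj i ≫ f)) := by
  -- reindex the cofan over `ULift (Fin n)`
  let c' : Cofan (fun i : ULift.{u} (Fin n) => X i.down) := Cofan.mk c.pt (fun i => c.inj i.down)
  have hc' : IsColimit c' := mkCofanColimit c'
    (fun s => Cofan.IsColimit.desc hc (fun i => s.inj ⟨i⟩))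
    (fun s j => by
      change c.inj j.down ≫ _ = _
      rw [Cofan.IsColimit.fac])
    (fun s m hm => by
      apply Cofan.IsColimit.hom_ext hc
      intro i
      rw [Cofan.IsColimit.fac]
      exact hm ⟨i⟩)
  have hjls : JLS (fun i : Fin n => c.inj i) := by
    intro U s
    refine J.superset_covering ?_ (jls_inj c' hc' U s)
    rintro V g ⟨i, a, ha⟩
    exact ⟨i.down, a, ha⟩
  have hqc : ToposFin.IsQCHom f ↔ ∀ i, ToposFin.IsQCHom (c.inj i ≫ f) := by
    constructor
    · intro hf i
      exact isQCHom_comp (c.inj i) f (isQCHom_inj c' hc' ⟨i⟩) hf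
    · intro h
      exact isQCHom_of_finite_cover_of_source f X (fun i => c.inj i) hjls h
  have hqs : ToposFin.IsQSHom f ↔ ∀ i, ToposFin.IsQSHom (c.inj i ≫ f) := by
    constructor
    · intro hf i
      haveI : Mono (c.inj i) := mono_inj c' hc' ⟨i⟩
      exact isQSHom_comp _ _ (isQSHom_of_mono (c.inj i)) hf
    · intro h
      exact isQSHom_of_cofan c' hc' f (fun i => h i.down)
  refine ⟨hqc, ?_⟩
  constructor
  · rintro ⟨h1, h2⟩ i
    exact ⟨hqc.mp h1 i, hqs.mp h2 i⟩
  · intro h
    exact ⟨hqc.mpr (fun i => (h i).1), hqs.mpr (fun i => (h i).2)⟩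

end Groth.Agent.S5580
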