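import Groth.Statements.S5586
import Groth.Agent.Lib.Helper13.ToposQC14
open Groth.Agent.Lib.Helper13.ToposQC

set_option autoImplicit false
open CategoryTheory CategoryTheory.Limits Opposite
universe u
open ToposFin

namespace Groth.Agent.S5586

/-- Quasi-separated and coherent cases: for an algebraic topos of sheaves of sets on a small site: let f
: X -> Y be a morphism and (Y_i -> Y) a jointly epimorphic family. If the Y_i are quasi-separated
(resp. coherent), then f is quasi-separated (resp. coherent) if and only if every X x_Y Y_i is a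
quasi-separated (resp. coherent) object. -/
theorem result {C : Type u} [SmallCategory C]
    {J : GrothendieckTopology C} (hE : ToposFin.IsAlgebraic J) {X Y : ToposFin.Sh J} (f : X ⟶ Y)
    {ι : Type u} (Yi : ι → ToposFin.Sh J) (g : ∀ i, Yi i ⟶ Y)
    (hg : ∀ (Z : ToposFin.Sh J) (a b : Y ⟶ Z), (∀ i, g i ≫ a = g i ≫ b) → a = b) :
    ((∀ i, ToposFin.IsQS (Yi i)) → (ToposFin.IsQSHom f ↔ ∀ i, ToposFin.IsQS (pullback f (g i)))) ∧
    ((∀ i, ToposFin.IsCoherent (Yi i)) →
      (ToposFin.IsCohHom f ↔ ∀ i, ToposFin.IsCoherent (pullback f (g i)))) := by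
  obtain ⟨S, hqc, hgen, hpb, heq⟩ := hE
  have hE' : HasQCGenerators J := hasQCGenerators_of_isGenerating hqc hgen
  have hjls : JLS g := jls_of_cancel g hg
  have key : (∀ i, IsQS (pullback f (g i))) → IsQSHom f := fun H =>
    isQSHom_of_local hE' f Yi g hjls (fun i => pullback f (g i)) (fun i => pullback.fst _ _)
      (fun i => pullback.snd _ _) (fun i => IsPullback.of_hasPullback _ _)
      (fun i => isQSHom_of_isQS_of_equalizers hqc hgen heq _ (H i))
  refine ⟨fun hYi => ⟨fun hf i => isQS_of_isQSHom _ (isQSHom_snd f (g i) hf) (hYi i), key⟩, ?_⟩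
  intro hYi
  constructor
  · rintro ⟨hfc, hfs⟩ i
    exact ⟨hfc (Yi i) (g i) (hYi i).1, isQS_of_isQSHom _ (isQSHom_snd f (g i) hfs) (hYi i).2⟩
  · intro H
    refine ⟨?_, key (fun i => (H i).2)⟩
    exact isQCHom_of_local hE' f Yi g hjls (fun i => pullback f (g i)) (fun i => pullback.fst _ _)
      (fun i => pullback.snd _ _) (fun i => IsPullback.of_hasPullback _ _)
      (fun i => isQCHom_of_isQC_of_isQS _ (H i).1 (hYi i).2)

end Groth.Agent.S5586
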