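import Groth.Statements.S5596
-- import your own Groth.Agent.* helpers here
import Groth.Agent.Lib.Helper23.PointStalk

set_option autoImplicit false
open CategoryTheory CategoryTheory.Limits AlgebraicGeometry Opposite
universe u
open EtDesc

namespace Groth.Agent.S5596

/-- A morphism v : F -> G of etale sheaves of sets on a scheme X is a monomorphism (resp. an
epimorphism) if and only if for every geometric point ξ of X (a morphism from the spectrum of a
separably closed field) the map of stalks F_ξ -> G_ξ is injective (resp. surjective). -/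
theorem result {X : Scheme.{u}} {F G : EtDesc.Sh X} (v : F ⟶ G) :
    (Mono v ↔ ∀ (Ω : Type u) [Field Ω] [IsSepClosed Ω] (ξ : Spec (CommRingCat.of Ω) ⟶ X),
      Function.Injective (((Scheme.pointSmallEtale ξ).sheafFiber (A := Type (u + 1))).map v)) ∧
    (Epi v ↔ ∀ (Ω : Type u) [Field Ω] [IsSepClosed Ω] (ξ : Spec (CommRingCat.of Ω) ⟶ X),
      Function.Surjective (((Scheme.pointSmallEtale ξ).sheafFiber (A := Type (u + 1))).map v)) := by
  have hP := Scheme.isConservativeFamilyOfPoints_pointSmallEtale' X
  have key : ∀ Φ : (ObjectProperty.ofObj (fun (s : X) ↦ Scheme.pointSmallEtale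
      ((Scheme.SpecToEquivOfField (SeparableClosure (X.residueField s)) _).2
        ⟨s, CommRingCat.ofHom (algebraMap (X.residueField s) _)⟩))).FullSubcategory,
      ∃ (Ω : Type u) (_ : Field Ω) (_ : IsSepClosed Ω) (ξ : Spec (CommRingCat.of Ω) ⟶ X),
        Φ.obj = Scheme.pointSmallEtale ξ := by
    rintro ⟨Φ, ⟨s⟩⟩
    exact ⟨SeparableClosure (X.residueField s), inferInstance, inferInstance, _, rfl⟩
  refine ⟨⟨fun hv Ω _ _ ξ => ?_, fun h => ?_⟩, ⟨fun hv Ω _ _ ξ => ?_, fun h => ?_⟩⟩
  · have h1 : Mono v.hom := inferInstanceAs (Mono ((sheafToPresheaf _ _).map v))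
    have h2 : ∀ U, Function.Injective (v.hom.app U) := fun U =>
      (mono_iff_injective _).1 inferInstance
    have := Presheaf.isLocallyInjective_of_injective X.smallEtaleTopology v.hom h2
    exact (Scheme.pointSmallEtale ξ).toPresheafFiber_map_injective v.hom
  · have : Presheaf.IsLocallyInjective X.smallEtaleTopology v.hom :=
      Groth.Agent.Lib.Helper23.PointStalk.isLocallyInjective_of_fibers hP v.hom (fun Φ => by
        obtain ⟨Ω, _, _, ξ, hΦ⟩ := key Φ
        rw [hΦ]
        exact h Ω ξ)
    exact Sheaf.mono_of_isLocallyInjective v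
  · have : Sheaf.IsLocallySurjective v := (Sheaf.isLocallySurjective_iff_epi v).2 hv
    exact (Scheme.pointSmallEtale ξ).toPresheafFiber_map_surjective v.hom
  · have : Presheaf.IsLocallySurjective X.smallEtaleTopology v.hom :=
      Groth.Agent.Lib.Helper23.PointStalk.isLocallySurjective_of_fibers hP v.hom (fun Φ => by
        obtain ⟨Ω, _, _, ξ, hΦ⟩ := key Φ
        rw [hΦ]
        exact h Ω ξ)
    exact (Sheaf.isLocallySurjective_iff_epi v).1 this


end Groth.Agent.S5596
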