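import Groth.Statements.S5610
import Groth.Agent.Lib.Helper16.CycProp
-- import your own Groth.Agent.* helpers here

set_option autoImplicit false
universe w v u
open CategoryTheory CategoryTheory.Limits
open PCoh

namespace Groth.Agent.S5610

/-- Let C be an abelian category and C₀ a strictly full additive subcategory, liftable and stable under
kernels of epimorphisms. Let a ≤ b, a ≤ c, and let F be a strictly perfect complex (terms in C₀)
vanishing outside [a, c] with H^i(F) = 0 for i > b. Then F has perfect amplitude in [a, min b c]: it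
is isomorphic in D(C) to a strictly perfect complex vanishing outside that interval. -/
theorem result {C : Type u} [Category.{v} C] [Abelian C] [HasDerivedCategory.{w} C]
    (P : ObjectProperty C) [P.IsClosedUnderIsomorphisms] [P.ContainsZero] (hsum : ∀ X Y : C, P X → P Y → P (X ⨯ Y))
    (hlift : ∀ (E F : C) (u : E ⟶ F), Epi u → P F → IsSplitEpi u)
    (hst : ∀ (E F : C) (u : E ⟶ F), Epi u → P E → P F → P (kernel u))
    (a b c : ℤ) (hab : a ≤ b) (hac : a ≤ c) (F : CochainComplex C ℤ)
    (hP : ∀ i : ℤ, P (F.X i)) (hvan : ∀ i : ℤ, i < a ∨ c < i → IsZero (F.X i))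
    (hcoh : ∀ i : ℤ, b < i → IsZero (F.homology i)) :
    ∃ F' : CochainComplex C ℤ, (∀ i : ℤ, P (F'.X i)) ∧ (∀ i : ℤ, i < a ∨ min b c < i → IsZero (F'.X i)) ∧
      Nonempty (DerivedCategory.Q.obj F' ≅ DerivedCategory.Q.obj F) := by
  by_cases hbc : c ≤ b
  · refine ⟨F, hP, fun i hi => hvan i ?_, ⟨Iso.refl _⟩⟩
    rw [min_eq_right hbc] at hi
    exact hi
  · have hbc' : b < c := not_le.1 hbc
    have hex : ∀ i : ℤ, b < i → F.ExactAt i := fun i hi => by
      rw [HomologicalComplex.exactAt_iff_isZero_homology]
      exact hcoh i hi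
    have hLE : F.IsLE b := (CochainComplex.isLE_iff F b).2 hex
    have hZ : P (F.cycles b) := Groth.Agent.Lib.Helper16.CycProp.prop_cycles P
      (fun X hX => P.prop_of_isZero hX) hst F b c (fun i hi => hvan i (Or.inr hi)) hex
      (fun i _ => hP i) b le_rfl
    refine ⟨F.truncLE b, fun i => ?_, fun i hi => ?_, ⟨asIso (DerivedCategory.Q.map (F.ιTruncLE b))⟩⟩
    · rcases lt_trichotomy i b with h | h | h
      · exact P.prop_of_iso (F.truncLEXIso b i h).symm (hP i)
      · subst h
        exact P.prop_of_iso (F.truncLEXIsoCycles i).symm hZ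
      · exact P.prop_of_isZero ((F.truncLE b).isZero_of_isStrictlyLE b i h)
    · rw [min_eq_left hbc'.le] at hi
      rcases hi with hi | hi
      · exact (hvan i (Or.inl hi)).of_iso (F.truncLEXIso b i (by omega))
      · exact (F.truncLE b).isZero_of_isStrictlyLE b i hi

end Groth.Agent.S5610
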