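import Groth.Statements.S5613
import Mathlib.Tactic

set_option autoImplicit false
universe v u
open CategoryTheory CategoryTheory.Limits CategoryTheory.Pretriangulated
open KZero

namespace Groth.Agent.S5613

section Aux

variable {C : Type u} [Category.{v} C] [Preadditive C] [HasZeroObject C]
    [HasShift C ℤ] [∀ n : ℤ, (shiftFunctor C n).Additive] [Pretriangulated C]

open ZeroObject

lemma cl_tri (T : Triangle C) (hT : T ∈ distTriang C) :
    KZero.clTri T.obj₂ = KZero.clTri T.obj₁ + KZero.clTri T.obj₃ := by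
  have hmem : FreeAbelianGroup.of (⟨T.obj₂, trivial⟩ : Subtype (⊤ : ObjectProperty C))
      - FreeAbelianGroup.of ⟨T.obj₁, trivial⟩ - FreeAbelianGroup.of ⟨T.obj₃, trivial⟩
      ∈ KZero.relTr (⊤ : ObjectProperty C) := by
    apply AddSubgroup.subset_closure
    exact ⟨T, trivial, trivial, trivial, hT, rfl⟩
  have h := (QuotientAddGroup.eq_zero_iff _).mpr hmem
  simp only [QuotientAddGroup.mk_sub] at h
  unfold KZero.clTri
  rw [sub_sub, sub_eq_zero] at h
  exact h

lemma cl_zero : KZero.clTri (0 : C) = 0 := by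
  have h := cl_tri (contractibleTriangle (0 : C)) (contractible_distinguished _)
  simp only [contractibleTriangle_obj₁, contractibleTriangle_obj₂, contractibleTriangle_obj₃] at h
  simpa using h

lemma cl_iso {X Y : C} (e : X ≅ Y) : KZero.clTri X = KZero.clTri Y := by
  have hT : Triangle.mk e.hom (0 : Y ⟶ (0 : C)) 0 ∈ distTriang C := by
    refine isomorphic_distinguished _ (contractible_distinguished X) _ ?_
    exact Triangle.isoMk _ _ (Iso.refl _) e.symm (Iso.refl _)
      (by change e.hom ≫ e.inv = 𝟙 X ≫ 𝟙 X; simp)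
      (by change (0 : Y ⟶ 0) ≫ 𝟙 0 = e.inv ≫ 0; simp)
      (by change (0 : (0 : C) ⟶ _) ≫ (shiftFunctor C (1 : ℤ)).map (𝟙 X) = 𝟙 0 ≫ 0; simp)
  have h := cl_tri _ hT
  simp only [Triangle.mk_obj₁, Triangle.mk_obj₂, Triangle.mk_obj₃, cl_zero, add_zero] at h
  exact h.symm

lemma cl_shift_one (X : C) : KZero.clTri ((shiftFunctor C (1 : ℤ)).obj X) = - KZero.clTri X := by
  have h := cl_tri _ (rot_of_distTriang _ (contractible_distinguished X))
  simp only [Triangle.rotate_obj₁, Triangle.rotate_obj₂, Triangle.rotate_obj₃,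
    contractibleTriangle_obj₁, contractibleTriangle_obj₂, contractibleTriangle_obj₃, cl_zero] at h
  exact (neg_eq_of_add_eq_zero_right h.symm).symm

lemma cl_shift (X : C) (a : ℤ) :
    KZero.clTri ((shiftFunctor C a).obj X) = (a.negOnePow : ℤ) • KZero.clTri X := by
  induction a using Int.induction_on generalizing X with
  | zero =>
    rw [cl_iso ((shiftFunctorZero C ℤ).app X)]
    simp
  | succ i ih =>
    rw [cl_iso ((shiftFunctorAdd' C (i : ℤ) 1 ((i : ℤ) + 1) rfl).app X)]
    simp only [Functor.comp_obj]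
    rw [cl_shift_one, ih, Int.negOnePow_succ]
    simp
  | pred i ih =>
    have h1 := cl_iso ((shiftFunctorAdd' C (-(i : ℤ) - 1) 1 (-(i : ℤ)) (by omega)).app X)
    simp only [Functor.comp_obj] at h1
    rw [cl_shift_one, ih] at h1
    have h2 : ((-(i : ℤ) - 1).negOnePow : ℤ) = - ((-(i : ℤ)).negOnePow : ℤ) := by
      rw [Int.negOnePow_sub, Int.negOnePow_one]
      simp
    rw [h2, neg_smul]
    rw [h1, neg_neg]

lemma cl_biprod (A B : C) : KZero.clTri (A ⊞ B) = KZero.clTri A + KZero.clTri B := by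
  have h := cl_tri _ (binaryBiproductTriangle_distinguished A B)
  exact h

lemma cl_even (X : C) (n : ℤ) : KZero.clTri ((shiftFunctor C (2 * n)).obj X) = KZero.clTri X := by
  rw [cl_shift]
  have : ((2 * n).negOnePow : ℤ) = 1 := by
    rw [Int.negOnePow_even _ ⟨n, by ring⟩]; simp
  rw [this, one_smul]

theorem aux (L : C) (n : ℤ) [HasCoproduct (fun i : ℕ => (shiftFunctor C (2 * n * (i : ℤ))).obj L)] :
    KZero.clTri L = 0 := by
  let F : ℕ → C := fun i : ℕ => (shiftFunctor C (2 * n * (i : ℤ))).obj L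
  let G := shiftFunctor C (2 * n)
  let M := ∐ F
  have hc : IsColimit (Cofan.mk (G.obj M) (fun i => G.map (Sigma.ι F i))) :=
    isColimitMapCoconeCofanMkEquiv G _ _ (isColimitOfPreserves G (coproductIsCoproduct F))
  let φ : ∀ i : ℕ, F (i + 1) ≅ G.obj (F i) := fun i =>
    (shiftFunctorAdd' C (2 * n * (i : ℤ)) (2 * n) (2 * n * ((i + 1 : ℕ) : ℤ)) (by push_cast; ring)).app L
  let t : ∀ i : ℕ, F i ⟶ F 0 ⊞ G.obj M := fun i =>
    match i with
    | 0 => biprod.inl
    | (i + 1) => (φ i).hom ≫ G.map (Sigma.ι F i) ≫ biprod.inr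
  have t0 : t 0 = biprod.inl := rfl
  have tS : ∀ i, t (i + 1) = (φ i).hom ≫ G.map (Sigma.ι F i) ≫ biprod.inr := fun i => rfl
  let d : G.obj M ⟶ M := Cofan.IsColimit.desc hc (fun i => (φ i).inv ≫ Sigma.ι F (i + 1))
  have hd : ∀ i, G.map (Sigma.ι F i) ≫ d = (φ i).inv ≫ Sigma.ι F (i + 1) := fun i =>
    Cofan.IsColimit.fac hc _ i
  let e : M ≅ F 0 ⊞ G.obj M :=
    { hom := Sigma.desc t
      inv := biprod.desc (Sigma.ι F 0) d
      hom_inv_id := by
        apply Sigma.hom_ext
        intro i
        rw [Sigma.ι_desc_assoc, Category.comp_id]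
        cases i with
        | zero => rw [t0, biprod.inl_desc]
        | succ i =>
          rw [tS, Category.assoc, Category.assoc, biprod.inr_desc, hd, Iso.hom_inv_id_assoc]
      inv_hom_id := by
        apply biprod.hom_ext'
        · rw [biprod.inl_desc_assoc, Sigma.ι_desc, t0, Category.comp_id]
        · rw [biprod.inr_desc_assoc, Category.comp_id]
          apply Cofan.IsColimit.hom_ext hc
          intro i
          change G.map (Sigma.ι F i) ≫ d ≫ Sigma.desc t = G.map (Sigma.ι F i) ≫ biprod.inr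
          rw [reassoc_of% (hd i), Sigma.ι_desc, tS, Iso.inv_hom_id_assoc] }
  have h1 := cl_iso e
  rw [cl_biprod, cl_even] at h1
  have h2 : KZero.clTri (F 0) = 0 := by
    have : KZero.clTri (F 0) + KZero.clTri M = 0 + KZero.clTri M := by rw [zero_add]; exact h1.symm
    exact add_right_cancel this
  have e0 : F 0 ≅ L := (shiftFunctorZero' C (2 * n * ((0 : ℕ) : ℤ)) (by simp)).app L
  rw [← cl_iso e0]
  exact h2

end Aux

/-- Let C be a pretriangulated category, L an object of C and n an integer such that the coproduct ∐_{i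
≥ 0} L⟦2ni⟧ exists in C. Then cl(L) = 0 in K₀(C). -/
theorem result {C : Type u} [Category.{v} C] [Preadditive C] [HasZeroObject C]
    [HasShift C ℤ] [∀ n : ℤ, (shiftFunctor C n).Additive] [Pretriangulated C]
    (L : C) (n : ℤ) [HasCoproduct (fun i : ℕ => (shiftFunctor C (2 * n * (i : ℤ))).obj L)] :
    KZero.clTri L = 0 := by
  exact aux L n

end Groth.Agent.S5613
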