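import Groth.Statements.S5616
import Groth.Agent.Lib.Helper16.ExtEff
import Mathlib.Algebra.Homology.DerivedCategory.Ext.Map
-- import your own Groth.Agent.* helpers here

set_option autoImplicit false
universe w w' v v' u u'
open CategoryTheory CategoryTheory.Limits
open CohDer

namespace Groth.Agent.S5616

open Abelian Groth.Agent.Lib.Helper16.ExtEff

variable {A : Type u} [Category.{v} A] [Abelian A] [HasExt.{w} A]
    {B : Type u'} [Category.{v'} B] [Abelian B] [HasExt.{w'} B]
    (φ : A ⥤ B) [φ.Additive] [PreservesFiniteLimits φ] [PreservesFiniteColimits φ]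

omit [HasExt.{w} A] in
lemma kerSES {L' L : A} (p : L' ⟶ L) [Epi p] :
    (ShortComplex.mk (kernel.ι p) p (kernel.condition p)).ShortExact :=
  { exact := ShortComplex.exact_kernel p }

theorem forward (M : A)
    (h : ∀ (L : A) (n : ℕ), Function.Bijective
      (fun f : Abelian.Ext.{w} L M n => Abelian.Ext.mapExactFunctor φ f)) :
    (∀ L : A, Function.Bijective (fun f : L ⟶ M => φ.map f)) ∧
      ∀ (L : A) (n : ℕ), 1 ≤ n → ∀ x : Abelian.Ext.{w'} (φ.obj L) (φ.obj M) n,
        ∃ (L' : A) (p : L' ⟶ L), Epi p ∧ (Abelian.Ext.mk₀ (φ.map p)).comp x (zero_add n) = 0 := by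
  constructor
  · intro L
    have h0 := h L 0
    constructor
    · intro f g hfg
      dsimp only at hfg
      apply (Ext.mk₀_bijective L M).1
      apply h0.1
      dsimp only
      rw [Ext.mapExactFunctor_mk₀, Ext.mapExactFunctor_mk₀, hfg]
    · intro g
      obtain ⟨y, hy⟩ := h0.2 (Ext.mk₀ g)
      obtain ⟨f, rfl⟩ := (Ext.mk₀_bijective L M).2 y
      dsimp only at hy
      rw [Ext.mapExactFunctor_mk₀] at hy
      exact ⟨f, (Ext.mk₀_bijective _ _).1 hy⟩
  · intro L n hn x
    obtain ⟨y, rfl⟩ := (h L n).2 x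
    obtain ⟨L', p, hp, h0⟩ := ext_eff hn y
    refine ⟨L', p, hp, ?_⟩
    dsimp only
    rw [← Ext.mapExactFunctor_mk₀, ← Ext.mapExactFunctor_comp, h0, Ext.mapExactFunctor_zero]

theorem backward (M : A)
    (h0 : ∀ L : A, Function.Bijective (fun f : L ⟶ M => φ.map f))
    (heff : ∀ (L : A) (n : ℕ), 1 ≤ n → ∀ x : Abelian.Ext.{w'} (φ.obj L) (φ.obj M) n,
        ∃ (L' : A) (p : L' ⟶ L), Epi p ∧ (Abelian.Ext.mk₀ (φ.map p)).comp x (zero_add n) = 0)
    (n : ℕ) : ∀ (L : A), Function.Bijective
      (fun f : Abelian.Ext.{w} L M n => Abelian.Ext.mapExactFunctor φ f) := by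
  induction n with
  | zero =>
    intro L
    constructor
    · intro x y hxy
      obtain ⟨f, rfl⟩ := (Ext.mk₀_bijective L M).2 x
      obtain ⟨g, rfl⟩ := (Ext.mk₀_bijective L M).2 y
      dsimp only at hxy
      rw [Ext.mapExactFunctor_mk₀, Ext.mapExactFunctor_mk₀] at hxy
      have := (Ext.mk₀_bijective _ _).1 hxy
      rw [(h0 L).1 this]
    · intro z
      obtain ⟨g, rfl⟩ := (Ext.mk₀_bijective _ _).2 z
      obtain ⟨f, rfl⟩ := (h0 L).2 g
      exact ⟨Ext.mk₀ f, Ext.mapExactFunctor_mk₀ φ f⟩
  | succ n ih =>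
    intro L
    constructor
    · have : Function.Injective (φ.mapExtAddHom L M (n + 1)) := by
        rw [injective_iff_map_eq_zero]
        intro y hy
        rw [Functor.mapExtAddHom_apply] at hy
        obtain ⟨L', p, hp, hpy⟩ := ext_eff (by omega) y
        have hS := kerSES p
        obtain ⟨y₁, rfl⟩ := Ext.contravariant_sequence_exact₃ hS M y hpy (n₀ := n) (by omega)
        rw [Ext.mapExactFunctor_comp, Ext.mapExactFunctor_extClass] at hy
        obtain ⟨x₂, hx₂⟩ := Ext.contravariant_sequence_exact₁ (hS.map_of_exact φ) (φ.obj M)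
          (y₁.mapExactFunctor φ) (by omega) hy
        obtain ⟨z', rfl⟩ := (ih L').2 x₂
        dsimp only at hx₂
        have hx₂' : ((Ext.mk₀ (kernel.ι p)).comp z' (zero_add n)).mapExactFunctor φ =
            y₁.mapExactFunctor φ := by
          rw [Ext.mapExactFunctor_comp, Ext.mapExactFunctor_mk₀]
          exact hx₂
        have := (ih (kernel p)).1 hx₂'
        rw [← this]
        exact hS.extClass_comp_assoc z'
      exact this
    · intro x
      obtain ⟨L', p, hp, hpx⟩ := heff L (n + 1) (by omega) x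
      have hS := kerSES p
      obtain ⟨x₁, rfl⟩ := Ext.contravariant_sequence_exact₃ (hS.map_of_exact φ) (φ.obj M) x hpx
        (n₀ := n) (by omega)
      obtain ⟨y₁, rfl⟩ := (ih (kernel p)).2 x₁
      refine ⟨hS.extClass.comp y₁ (by omega), ?_⟩
      dsimp only
      rw [Ext.mapExactFunctor_comp, Ext.mapExactFunctor_extClass]
      rfl



/-- Let φ : A ⥤ B be an exact functor of abelian categories and M an object of A. The following are
equivalent: (i) for every L in A and every n, the map Ext^n_A(L, M) → Ext^n_B(φ L, φ M) induced by φ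
is bijective; (ii) for every L the map Hom_A(L, M) → Hom_B(φ L, φ M) is bijective, and for every L,
every n ≥ 1 and every x ∈ Ext^n_B(φ L, φ M) there is an epimorphism L' ⟶ L of A such that x
precomposed with its image under φ vanishes. -/
theorem result
    {A : Type u} [Category.{v} A] [Abelian A] [HasExt.{w} A]
    {B : Type u'} [Category.{v'} B] [Abelian B] [HasExt.{w'} B]
    (φ : A ⥤ B) [φ.Additive] [PreservesFiniteLimits φ] [PreservesFiniteColimits φ] (M : A) :
    (∀ (L : A) (n : ℕ), Function.Bijective (fun f : Abelian.Ext.{w} L M n => Abelian.Ext.mapExactFunctor φ f)) ↔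
      ((∀ L : A, Function.Bijective (fun f : L ⟶ M => φ.map f)) ∧
        ∀ (L : A) (n : ℕ), 1 ≤ n → ∀ x : Abelian.Ext.{w'} (φ.obj L) (φ.obj M) n,
          ∃ (L' : A) (p : L' ⟶ L), Epi p ∧ (Abelian.Ext.mk₀ (φ.map p)).comp x (zero_add n) = 0) := by
  constructor
  · exact forward φ M
  · rintro ⟨h0, heff⟩ L n
    exact backward φ M h0 heff n L

end Groth.Agent.S5616
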