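import Groth.Statements.S5625
import Groth.Agent.Lib.Helper28.QCohPush
import Groth.Agent.Lib.Helper17.ModPullback

set_option autoImplicit false
universe u
open CategoryTheory AlgebraicGeometry
open QCohCat

namespace Groth.Agent.S5625

/-- Let f : X ⟶ Y be a morphism of quasi-compact quasi-separated schemes and Q_X, Q_Y coherators (right
adjoints of the inclusions QCoh ⥤ Mod) on X and Y. Then Q_Y ∘ f_* and f_* ∘ Q_X agree: the two
composite functors Mod(O_X) ⥤ Mod(O_Y) are naturally isomorphic (existence of a natural isomorphism;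
the source's isomorphism is the canonical one between two right adjoints of the same functor). -/
theorem result {X Y : Scheme.{u}} [CompactSpace X] [QuasiSeparatedSpace X]
    [CompactSpace Y] [QuasiSeparatedSpace Y] (f : X ⟶ Y)
    (QX : X.Modules ⥤ QCohCat.QCoh X) (adjX : (QCohCat.isQCoh X).ι ⊣ QX)
    (QY : Y.Modules ⥤ QCohCat.QCoh Y) (adjY : (QCohCat.isQCoh Y).ι ⊣ QY) :
    Nonempty ((QX ⋙ (QCohCat.isQCoh X).ι ⋙ Scheme.Modules.pushforward f) ≅
      (Scheme.Modules.pushforward f ⋙ QY ⋙ (QCohCat.isQCoh Y).ι)) := by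
  haveI : QuasiCompact f := inferInstance
  haveI : QuasiSeparated f := inferInstance
  -- the restricted functors
  let pushQ : QCohCat.QCoh X ⥤ QCohCat.QCoh Y :=
    (QCohCat.isQCoh Y).lift ((QCohCat.isQCoh X).ι ⋙ Scheme.Modules.pushforward f) (fun M => by
      haveI : (M.obj).IsQuasicoherent := M.property
      exact Groth.Agent.Lib.Helper28.QCohLoc.isQuasicoherent_pushforward f M.obj)
  let pullQ : QCohCat.QCoh Y ⥤ QCohCat.QCoh X :=
    (QCohCat.isQCoh X).lift ((QCohCat.isQCoh Y).ι ⋙ Scheme.Modules.pullback f) (fun M => by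
      haveI : (M.obj).IsQuasicoherent := M.property
      exact Groth.Agent.Lib.Helper17.ModPullback.isQuasicoherent_pullback f M.obj)
  let c1 : (QCohCat.isQCoh Y).ι ⋙ Scheme.Modules.pullback f ≅ pullQ ⋙ (QCohCat.isQCoh X).ι :=
    ((QCohCat.isQCoh X).liftCompιIso _ _).symm
  let c2 : (QCohCat.isQCoh X).ι ⋙ Scheme.Modules.pushforward f ≅ pushQ ⋙ (QCohCat.isQCoh Y).ι :=
    ((QCohCat.isQCoh Y).liftCompιIso _ _).symm
  let adjQ : pullQ ⊣ pushQ :=
    (Scheme.Modules.pullbackPushforwardAdjunction f).restrictFullyFaithful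
      (QCohCat.isQCoh Y).fullyFaithfulι (QCohCat.isQCoh X).fullyFaithfulι c1 c2
  -- two right adjoints of the same functor
  let a1 : (QCohCat.isQCoh Y).ι ⋙ Scheme.Modules.pullback f ⊣ Scheme.Modules.pushforward f ⋙ QY :=
    adjY.comp (Scheme.Modules.pullbackPushforwardAdjunction f)
  let a2 : pullQ ⋙ (QCohCat.isQCoh X).ι ⊣ QX ⋙ pushQ := adjQ.comp adjX
  let a2' : (QCohCat.isQCoh Y).ι ⋙ Scheme.Modules.pullback f ⊣ QX ⋙ pushQ := a2.ofNatIsoLeft c1.symm
  let e : Scheme.Modules.pushforward f ⋙ QY ≅ QX ⋙ pushQ := a1.rightAdjointUniq a2'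
  refine ⟨?_⟩
  calc QX ⋙ (QCohCat.isQCoh X).ι ⋙ Scheme.Modules.pushforward f
      ≅ QX ⋙ (pushQ ⋙ (QCohCat.isQCoh Y).ι) := Functor.isoWhiskerLeft QX c2
    _ ≅ (QX ⋙ pushQ) ⋙ (QCohCat.isQCoh Y).ι := (Functor.associator _ _ _).symm
    _ ≅ (Scheme.Modules.pushforward f ⋙ QY) ⋙ (QCohCat.isQCoh Y).ι :=
        Functor.isoWhiskerRight e.symm _
    _ ≅ Scheme.Modules.pushforward f ⋙ QY ⋙ (QCohCat.isQCoh Y).ι := Functor.associator _ _ _

end Groth.Agent.S5625
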