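import Groth.Statements.S5629
import Groth.Agent.Lib.Helper16.PerfFib1
import Groth.Agent.Lib.Helper16.PerfPt
import Groth.Agent.Lib.Helper16.Fl2
import Groth.Agent.S7248

set_option autoImplicit false
universe u
open CategoryTheory CategoryTheory.Limits AlgebraicGeometry Opposite
attribute [local instance] HasDerivedCategory.standard
open KSix

namespace Groth.Agent.S5629

open Groth.Agent.Lib.Helper16.RS Groth.Agent.Lib.Helper16.Stk Groth.Agent.Lib.Helper16.KD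
  Groth.Agent.Lib.Helper16.PC Groth.Agent.Lib.Helper1.LocPC Groth.Agent.Lib.Helper16.PerfFib
  Groth.Agent.Lib.Helper16 DerivedCategory

/-- the local statement: a pseudo-coherent object, bounded below near `x`, whose derived pullback
along some morphism `g` with `g y = x` is perfect, is perfect near `x`. -/
theorem local_perfect {X Y : Scheme.{u}} (g : Y ⟶ X) (y : Y) (x : X) (hx : g y = x)
    (P₀ : CochainComplex X.Modules ℤ) (hP₀ : DCoh.IsKFlat P₀)
    (hpc : ∀ m : ℤ, PCAt m (Q.obj P₀) x)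
    (hperf : DCoh.IsPerfect (Q.obj ((pullCx g).obj P₀)))
    (V₁ : X.Opens) (hxV₁ : x ∈ V₁) (a₁ : ℤ) (hge : ((RD V₁.ι).obj (Q.obj P₀)).IsGE a₁) :
    ∃ V : X.Opens, x ∈ V ∧ IsOn spProp V.ι P₀ := by
  -- tor amplitude of the complex of stalks at `x`
  have h3 : ∃ a₂ b₂ : ℤ, DRing.HasTorAmplitudeIn (X.presheaf.stalk x) a₂ b₂
      (DRing.toD (stkCx x P₀)) := by
    subst hx
    obtain ⟨a₂, b₂, h2⟩ := exists_stalk_torAmp_of_isPerfect _ hperf _ (Iso.refl _) y
    exact ⟨a₂, b₂, stalk_torAmp_of_pullback g y P₀ hP₀ (stalk_pc' (g y) P₀ hP₀ hpc) a₂ b₂ h2⟩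
  obtain ⟨a₂, b₂, h3⟩ := h3
  have h4 : DRing.HasTorAmplitudeIn (X.presheaf.stalk x) (min a₁ a₂) b₂
      (DRing.toD (stkCx x P₀)) :=
    TorAmp.torAmp_mono _ a₂ b₂ _ _ (min_le_right _ _) le_rfl h3
  -- a neighbourhood with a good approximation
  obtain ⟨V₂, hxV₂, hV₂⟩ := hpc (min a₁ a₂ - 1)
  let V : X.Opens := V₁ ⊓ V₂
  have hV : PCat (min a₁ a₂ - 1) ((RD V.ι).obj (Q.obj P₀)) :=
    PCat.of_le_opens (inf_le_right : V ≤ V₂) hV₂
  have hgeV : ((RD V.ι).obj (Q.obj P₀)).IsGE (min a₁ a₂) := by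
    obtain ⟨e⟩ := nonempty_RD_fac_iso V₁.ι (X.homOfLE (inf_le_left : V ≤ V₁)) V.ι
      (X.homOfLE_ι _) (Q.obj P₀)
    haveI : ((RD V₁.ι).obj (Q.obj P₀)).IsGE (min a₁ a₂) :=
      DerivedCategory.TStructure.t.isGE_of_ge _ _ _ (min_le_left a₁ a₂)
    haveI := PerfPt.map_isGE (Scheme.Modules.restrictFunctor (X.homOfLE (inf_le_left : V ≤ V₁)))
      ((RD V₁.ι).obj (Q.obj P₀)) (min a₁ a₂) inferInstance
    exact (TStructure.t).isGE_of_iso e _
  obtain ⟨x₁, hx₁⟩ : ∃ x₁ : V, V.ι x₁ = x := ⟨⟨x, ⟨hxV₁, hxV₂⟩⟩, rfl⟩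
  subst hx₁
  obtain ⟨W, hxW, E, hE, ⟨e⟩⟩ := PerfPt.exists_nhd_strictlyPerfect _ (min a₁ a₂) b₂ hV hgeV x₁
    (PerfPt.stalk_torAmp_restrict V.ι P₀ x₁ _ _ h4)
  refine ⟨V.ι ''ᵁ W, ⟨x₁, hxW, rfl⟩, IsOn.image V W ⟨E, hE, ⟨?_⟩⟩⟩
  exact (RDQIso W.ι _).symm ≪≫ (RD W.ι).mapIso (RDQIso V.ι P₀).symm ≪≫ e.symm

/-- Last assertion (criterion of perfection by fibres): let f : X ⟶ S be flat and locally of finite
presentation and E ∈ D⁻(O_X). Then E is perfect if and only if E is perfect relative to f and, for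
every s ∈ S, the derived pullback E_{X_s} = Li_s^* E to the fibre is perfect. Since f is flat and
locally of finite presentation, "perfect relative to f" is written as: pseudo-coherent and locally
of finite tor dimension relative to S (locally represented by bounded complexes of S-flat modules).
The derived pullbacks to the fibres are taken under their existence binders. -/
theorem result {X S : Scheme.{u}} (f : X ⟶ S) [Flat f] [LocallyOfFinitePresentation f]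
    [∀ s : S, DCoh.HasLpull (f.fiberι s)]
    (E : DCoh.D X) (b : ℤ) [E.IsLE b] :
    DCoh.IsPerfect E ↔
      ((∀ m : ℤ, DCoh.IsPseudoCoherentD m E) ∧ DCoh.LocHasFiniteRelTorDim f E ∧
        ∀ s : S, DCoh.IsPerfect ((DCoh.Lpull (f.fiberι s)).obj E)) := by
  constructor
  · intro h
    exact ⟨(Groth.Agent.S7248.result f E h).1, (Groth.Agent.S7248.result f E h).2,
      fun s => isPerfect_Lpull (f.fiberι s) E h⟩
  rintro ⟨hpc, hrel, hfib⟩
  -- a K-flat representative of `E`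
  obtain ⟨P₀, p, hP₀, -, hp, -⟩ :=
    Groth.Agent.Lib.Helper16.Stk.exists_kFlat_resolution (DerivedCategory.Q.objPreimage E)
  haveI := hp
  have e₁ : DerivedCategory.Q.obj P₀ ≅ E :=
    asIso (DerivedCategory.Q.map p) ≪≫ DerivedCategory.Q.objObjPreimageIso E
  rw [isPerfect_iff_isOn E P₀ e₁]
  intro x
  -- boundedness below near `x`
  obtain ⟨V₁, a₁, b₁, hxV₁, hV₁⟩ := hrel x
  obtain ⟨E', hE', -, ⟨e'⟩⟩ := hV₁ P₀ ⟨e₁⟩
  have hge : ((RD V₁.ι).obj (Q.obj P₀)).IsGE a₁ := by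
    haveI : E'.IsStrictlyGE a₁ :=
      (CochainComplex.isStrictlyGE_iff _ _).2 (fun i hi => hE' i (Or.inl hi))
    haveI : (Q.obj E').IsGE a₁ := by
      rw [isGE_Q_obj_iff]
      infer_instance
    have e'' : Q.obj E' ≅ (RD V₁.ι).obj (Q.obj P₀) := e' ≪≫ (RDQIso V₁.ι P₀).symm
    exact (TStructure.t).isGE_of_iso e'' _
  exact local_perfect (f.fiberι (f x)) (f.asFiber x) x (f.fiberι_asFiber x) P₀ hP₀
    (fun m => ((isPseudoCoherentD_iff m E).1 (hpc m) x).of_iso e₁.symm)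
    (isPerfect_of_iso ((DCoh.Lpull (f.fiberι (f x))).mapIso e₁.symm ≪≫
      LpullIso (f.fiberι (f x)) P₀ hP₀) (hfib (f x))) V₁ hxV₁ a₁ hge

end Groth.Agent.S5629
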