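import Groth.Statements.S5631
import Groth.Agent.Lib.Helper16.FibProd3
import Groth.Agent.Lib.Helper16.KD3
import Groth.Agent.Lib.Helper16.Fl2

set_option autoImplicit false
universe u
open CategoryTheory CategoryTheory.Limits AlgebraicGeometry
attribute [local instance] HasDerivedCategory.standard
open KSix

namespace Groth.Agent.S5631

open Groth.Agent.Lib.Helper16 Groth.Agent.Lib.Helper16.FibProd Groth.Agent.Lib.Helper16.Stk DerivedCategory

/-- For f flat (so that X and Y' are tor-independent over Y): let f : X ⟶ Y be flat, h : Y' ⟶ Y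
arbitrary, X' = X ×_Y Y' with projections g : X' ⟶ X and f' : X' ⟶ Y', and E ∈ D⁻(O_X). If E has
flat amplitude in [a, b] relative to f (represented by a complex of Y-flat modules placed in [a, b])
then Lg^* E has flat amplitude in [a, b] relative to f'. (The source assumes only tor-independence
of X and Y' over Y; the relative notion used here is the flat-representative one, adequate for flat
f and f'.) -/
theorem result {X Y Y' : Scheme.{u}} (f : X ⟶ Y) [Flat f] (h : Y' ⟶ Y)
    [DCoh.HasLpull (pullback.fst f h)] (E : DCoh.D X) (d : ℤ) [E.IsLE d] (a b : ℤ)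
    (hE : DCoh.HasRelFlatAmplitudeIn f a b E) :
    DCoh.HasRelFlatAmplitudeIn (pullback.snd f h) a b ((DCoh.Lpull (pullback.fst f h)).obj E) := by
  obtain ⟨E₀, hE₀, hfl, ⟨e⟩⟩ := hE
  obtain ⟨G, q, hGK, -, hq, -⟩ := exists_kFlat_resolution E₀
  haveI := hq
  have sq : IsPullback (pullback.fst f h) (pullback.snd f h) f h := IsPullback.of_hasPullback f h
  haveI : QuasiIso ((KD.pullCx (pullback.fst f h)).map q) :=
    quasiIso_pullCx_map_of_flatOver sq q hGK b (fun i hi => hE₀ i (Or.inr hi)) hfl
  haveI : IsIso (Q.map q) := by rw [isIso_Q_map_iff_quasiIso]; infer_instance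
  haveI : IsIso (Q.map ((KD.pullCx (pullback.fst f h)).map q)) := by
    rw [isIso_Q_map_iff_quasiIso]; infer_instance
  refine ⟨(KD.pullCx (pullback.fst f h)).obj E₀,
    fun i hi => Functor.map_isZero (Scheme.Modules.pullback (pullback.fst f h)) (hE₀ i hi),
    fun i => isFlatOver_pullback sq (E₀.X i) (hfl i), ⟨?_⟩⟩
  exact (asIso (Q.map ((KD.pullCx (pullback.fst f h)).map q))).symm ≪≫
    (KD.LpullIso (pullback.fst f h) G hGK).symm ≪≫
    (DCoh.Lpull (pullback.fst f h)).mapIso (asIso (Q.map q) ≪≫ e)

end Groth.Agent.S5631
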