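import Groth.Statements.S5632
import Groth.Agent.Lib.Helper2.IntNum7
import Groth.Agent.Lib.Helper2.ZeroDiv
import Groth.Agent.Lib.Helper2.IntNum6
import Groth.Agent.Lib.Helper28.TwistGenDAmple
import Groth.Agent.Lib.Helper28.VeryAmpleImm

set_option autoImplicit false
universe u
open CategoryTheory CategoryTheory.Limits AlgebraicGeometry
open Pic13

namespace Groth.Agent.S5632

/-- Let k be an algebraically closed field, X ⊆ P^n_k an integral closed subscheme of dimension r = s +
1 ≥ 1, with O_X(1) and O_X(-1) the restrictions of O(1) and O(-1). Let L be an invertible O_X-module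
with inverse L' (L ⊗ L' ≅ O_X) whose degree (c₁(L)·c₁(O_X(1))^{r-1}) is ≤ 0 and with H^0(X, L) ≠ 0.
Then L ≅ O_X (so that its degree is 0 and h^0(L) = 1). Intersection numbers are those of FGA.intNum,
which takes the inverse modules L', O_X(-1) as arguments. -/
theorem result (k : Type u) [Field k] [IsAlgClosed k] (n : ℕ) (X : Scheme.{u}) [X.Over (Spec (CommRingCat.of k))]
    (i : X ⟶ CohB1.ProjSpace n k) [IsClosedImmersion i] (hi : i ≫ CohB1.ProjSpace.toSpec n k = X ↘ Spec (CommRingCat.of k))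
    [IsIntegral X] (s : ℕ) (hdim : topologicalKrullDim X = (s + 1 : ℕ))
    (L L' : X.Modules) (hL : PicF.IsInvertible L) (hLL' : Nonempty (CohB1.tensorMod L L' ≅ Coh.structureModule X))
    (hdeg : FGA.intNum k X (s + 1)
      (Matrix.vecCons L' (fun _ : Fin s => (Scheme.Modules.pullback i).obj (Twist.twistProjSpace n k (-1))))
      (Coh.structureModule X) ≤ 0)
    (hsec : Nontrivial (Coh.HH X L 0)) :
    Nonempty (L ≅ Coh.structureModule X) := by
  classical
  haveI : IsProper (X ↘ Spec (CommRingCat.of k)) := by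
    rw [← hi]
    haveI := Groth.Agent.Lib.Helper28.ProjSpaceBasic.isProper_toSpec n k
    infer_instance
  haveI : IsNoetherian X := Groth.Agent.Lib.Helper2.IntNum1.isNoetherian k X
  haveI : LocallyOfFiniteType (X ↘ Spec (CommRingCat.of k)) := inferInstance
  haveI : CompactSpace X := QuasiCompact.compactSpace_of_compactSpace (X ↘ Spec (CommRingCat.of k))
  haveI : CompactSpace (Proj (CohB1.polyGrading n k)) := by
    haveI : IsProper ((CohB1.ProjSpace n k) ↘ (Spec (CommRingCat.of k))) :=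
      Groth.Agent.Lib.Helper28.ProjSpaceBasic.isProper_toSpec n k
    haveI : IsNoetherian (CohB1.ProjSpace n k) :=
      Groth.Agent.Lib.Helper4.Snapper.isNoetherian_of_proper k
    exact inferInstanceAs (CompactSpace (CohB1.ProjSpace n k))
  have hcov := Groth.Agent.Lib.Helper28.VeryAmpleImm.projSpace_cover n k
  have hO1 : CohB1.IsAmple (Twist.twistProjSpace n k ((1 : ℕ) : ℤ)) :=
    Groth.Agent.Lib.Helper28.TwistGenD.isAmple_twist_of_cover (CohB1.polyGrading n k) 1 one_pos hcov
  have hHamp : CohB1.IsAmple ((Scheme.Modules.pullback i).obj (Twist.twistProjSpace n k 1)) :=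
    Groth.Agent.Lib.Helper28.PullbackInv.isAmple_pullback_of_isEmbedding i i.isEmbedding _ hO1
  have hH' : PicF.IsInvertible ((Scheme.Modules.pullback i).obj (Twist.twistProjSpace n k (-1))) :=
    Groth.Agent.Lib.Helper28.PullbackInv.isInvertible_pullback i
      (Groth.Agent.Lib.Helper2.Bridge5.isInvertible_twist k n (-1))
  have heH := Groth.Agent.Lib.Helper2.IntNum6.nonempty_pullback_twist_tensor_iso k n i 1 (-1) (by norm_num)
  obtain ⟨eL⟩ := hLL'
  have hL' : PicF.IsInvertible L' := Groth.Agent.Lib.Helper6.K0Inv.isInvertible_of_tensor_iso L L' hL eL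
  have hdim' : topologicalKrullDim X ≤ ((s + 1 : ℕ) : WithBot ℕ∞) := hdim.le
  have hO : Coh.IsCoh (Coh.structureModule X) := Groth.Agent.Lib.Helper6.DevRed.isCoh_structureModule
  have hOi := Groth.Agent.Lib.Helper28.AmpleUnit.isInvertible_structureModule X
  have hLc : Coh.IsCoh L := Groth.Agent.Lib.Helper6.K0Op.isCoh_of_isInvertible L hL
  set H := (Scheme.Modules.pullback i).obj (Twist.twistProjSpace n k 1) with hHdef
  set H' := (Scheme.Modules.pullback i).obj (Twist.twistProjSpace n k (-1)) with hH'def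
  set cO := Groth.Agent.Lib.Helper6.K0Len.cls (Coh.structureModule X) with hcO
  set cL := Groth.Agent.Lib.Helper6.K0Len.cls L with hcL
  set u : AddMonoid.End (Groth.Agent.Lib.Helper4.Snapper.K0 X) := 1 - Groth.Agent.Lib.Helper6.K0Op.Top H' with hu
  obtain ⟨σ, hσ⟩ := Groth.Agent.Lib.Helper2.IntNum7.exists_hom_ne_zero_of_nontrivial_HH L hsec
  haveI hsm : Mono σ := Groth.Agent.Lib.Helper8.CurveInv.mono_of_ne_zero hOi hL σ hσ
  by_cases hemp : CohB1.support (cokernel σ) = ∅
  · have hz : IsZero (cokernel σ) := Groth.Agent.Lib.Helper6.DevCore.isZero_of_support_eq_empty _ hemp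
    haveI : Epi σ := Preadditive.epi_of_isZero_cokernel σ hz
    haveI : IsIso σ := isIso_of_mono_of_epi σ
    exact ⟨(asIso σ).symm⟩
  · exfalso
    have hne : (CohB1.support (cokernel σ)).Nonempty := Set.nonempty_iff_ne_empty.2 hemp
    have hC : Coh.IsCoh (cokernel σ) := Groth.Agent.Lib.Helper2.ZeroDiv.isCoh_cokernel L hL σ
    have hT := Groth.Agent.Lib.Helper2.ZeroDiv.shortExact_cokernel σ
    have hdimQ : topologicalKrullDim (CohB1.support (cokernel σ)) = ((s : ℕ) : WithBot ℕ∞) := by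
      have h1 := Groth.Agent.Lib.Helper2.EffDim.dim_support_eq k
        (Groth.Agent.Lib.Helper2.ZeroDiv.zeroIdeal L hL σ)
        (Groth.Agent.Lib.Helper2.ZeroDiv.isEffCartier_zeroIdeal L hL σ)
        (by rw [Groth.Agent.Lib.Helper2.ZeroDiv.support_zeroIdeal]; exact hne) s hdim
      rw [Groth.Agent.Lib.Helper2.ZeroDiv.support_zeroIdeal] at h1
      exact h1
    set cQ := Groth.Agent.Lib.Helper6.K0Len.cls (cokernel σ) with hcQ
    have hcl1 : cL = cO + cQ := Groth.Agent.Lib.Helper16.K0Db.clSub_shortExact _ _ hT hO hLc hC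
    have hLO : cL = Groth.Agent.Lib.Helper6.K0Op.Top L cO := by
      obtain ⟨eu⟩ := Groth.Agent.Lib.Helper28.AmpleUnit.nonempty_tensor_unit_iso L
      rw [Groth.Agent.Lib.Helper6.K0Op.Top_cls L hL _ hO]
      exact (Groth.Agent.Lib.Helper6.K0Op.cls_iso eu
        (Groth.Agent.Lib.Helper6.K0Op.isCoh_tensorMod _ _ hLc hO)).symm
    have hTT := Groth.Agent.Lib.Helper2.IntNum2.Top_mul_Top_eq_one L L' hL eL
    have hTT' : Groth.Agent.Lib.Helper6.K0Op.Top L' * Groth.Agent.Lib.Helper6.K0Op.Top L = 1 := by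
      rw [Groth.Agent.Lib.Helper4.Snapper.Top_comm L' L hL' hL]; exact hTT
    -- (1 - [L'])[O] = [L'][Q]
    have h1 : (1 - Groth.Agent.Lib.Helper6.K0Op.Top L') cO = Groth.Agent.Lib.Helper6.K0Op.Top L' cQ := by
      have h2 : cQ = Groth.Agent.Lib.Helper6.K0Op.Top L cO - cO := by
        rw [← hLO, hcl1]; abel
      rw [h2, map_sub]
      change _ = (Groth.Agent.Lib.Helper6.K0Op.Top L' * Groth.Agent.Lib.Helper6.K0Op.Top L) cO - _
      rw [hTT']
      rfl
    have hQmem : cQ ∈ Groth.Agent.Lib.Helper6.K0Len.Hlt X (s + 1) :=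
      Groth.Agent.Lib.Helper4.Snapper.cls_mem_Hlt _ hC s hdimQ.le
    have hcommL' : ∀ j : ℕ, Commute (1 - Groth.Agent.Lib.Helper6.K0Op.Top L') (u ^ j) := fun j =>
      ((Commute.one_left _).sub_left ((Commute.one_right _).sub_right
        (Groth.Agent.Lib.Helper4.Snapper.Top_comm L' H' hL' hH'))).pow_right j
    have hcommT : ∀ j : ℕ, Commute (Groth.Agent.Lib.Helper6.K0Op.Top L') (u ^ j) := fun j =>
      ((Commute.one_right _).sub_right
        (Groth.Agent.Lib.Helper4.Snapper.Top_comm L' H' hL' hH')).pow_right j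
    have hinv : ∀ j, PicF.IsInvertible ((Matrix.vecCons L' (fun _ : Fin s => H') : Fin (s + 1) → X.Modules) j) := by
      intro j
      refine Fin.cases ?_ (fun j' => ?_) j
      · simpa using hL'
      · simpa using hH'
    rw [Groth.Agent.Lib.Helper2.IntNum1.intNum_eq k X (s + 1) hdim' _ hinv _ hO] at hdeg
    have hP : Groth.Agent.Lib.Helper2.IntNum1.Psi
        (Matrix.vecCons L' (fun _ : Fin s => H') : Fin (s + 1) → X.Modules) =
        (1 - Groth.Agent.Lib.Helper6.K0Op.Top L') * u ^ s := by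
      change Groth.Agent.Lib.Helper2.IntNum1.Psi (Fin.cons L' (fun _ : Fin s => H') : Fin (s + 1) → X.Modules) = _
      rw [Groth.Agent.Lib.Helper2.IntNum1.Psi_cons, Groth.Agent.Lib.Helper2.IntNum1.Psi_const]
    have hval : Groth.Agent.Lib.Helper2.IntNum1.Psi
        (Matrix.vecCons L' (fun _ : Fin s => H') : Fin (s + 1) → X.Modules) cO = (u ^ s) cQ := by
      rw [hP, (hcommL' s).eq]
      change (u ^ s) ((1 - Groth.Agent.Lib.Helper6.K0Op.Top L') cO) = _
      rw [h1]
      change (u ^ s * Groth.Agent.Lib.Helper6.K0Op.Top L') cQ = _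
      rw [← (hcommT s).eq]
      change Groth.Agent.Lib.Helper6.K0Op.Top L' ((u ^ s) cQ) = _
      apply Groth.Agent.Lib.Helper2.IntNum4.Top_apply_of_mem_Hlt_one L' hL'
      apply Groth.Agent.Lib.Helper2.IntNum1.pow_sub_Top_mem_Hlt H' hH' 1 s
      rw [add_comm]; exact hQmem
    rw [hval] at hdeg
    have hpos := Groth.Agent.Lib.Helper2.IntNum5.pos k X (fun _ : Fin s => H) (fun _ : Fin s => H')
      (fun _ => hHamp) (fun _ => heH) (cokernel σ) hC hdimQ
    rw [Groth.Agent.Lib.Helper2.IntNum1.Psi_const] at hpos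
    exact absurd hdeg (not_le.2 hpos)


end Groth.Agent.S5632
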