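import Groth.Statements.S5642
import Groth.Agent.Lib.Helper6.K0Len

set_option autoImplicit false
universe u
open CategoryTheory CategoryTheory.Limits AlgebraicGeometry
open Classical
open SGA6

namespace Groth.Agent.S5642

open Groth.Agent.Lib.Helper6.K0Filt Groth.Agent.Lib.Helper6.K0Len Groth.Agent.Lib.Helper6.DevCore

section
variable {X : Scheme.{u}} (n : ℕ)

/-- the class of a module in `K'_0` -/
noncomputable abbrev cls (M : X.Modules) : KZero.K0sub (fun M : X.Modules => Coh.IsCoh M) :=
  KZero.clSub (fun M : X.Modules => Coh.IsCoh M) M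

/-- the points whose closure has dimension `n` -/
def D (x : X) : Prop := topologicalKrullDim ↥(closure ({x} : Set ↥X)) = n

/-- the term at `x` of the cycle class -/
noncomputable def term (M : X.Modules) (x : X) : KZero.K0sub (fun M : X.Modules => Coh.IsCoh M) :=
  if D n x then (len M x).toNat • cls (OZ x) else 0

/-- finiteness of the cycle of `M` -/
def Fin (M : X.Modules) : Prop :=
  {x : X | D n x ∧ x ∈ CohB1.support M}.Finite ∧ ∀ x : X, D n x → len M x ≠ ⊤

theorem support_term_subset (M : X.Modules) :
    Function.support (term n M) ⊆ {x : X | D n x ∧ x ∈ CohB1.support M} := by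
  intro x hx
  rw [Function.mem_support] at hx
  by_cases hD : D n x
  · refine ⟨hD, ?_⟩
    by_contra hxs
    apply hx
    rw [term, if_pos hD, len_eq_zero_of_notMem_support M x hxs]
    simp
  · exfalso
    apply hx
    rw [term, if_neg hD]

theorem fin_iff (S : ShortComplex X.Modules) (hS : S.ShortExact) :
    Fin n S.X₂ ↔ Fin n S.X₁ ∧ Fin n S.X₃ := by
  have hsupp := Groth.Agent.S0796.support_eq_union S hS
  have hset : {x : X | D n x ∧ x ∈ CohB1.support S.X₂} =
      {x : X | D n x ∧ x ∈ CohB1.support S.X₁} ∪ {x : X | D n x ∧ x ∈ CohB1.support S.X₃} := by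
    ext x
    simp only [Set.mem_setOf_eq, Set.mem_union, hsupp]
    tauto
  constructor
  · rintro ⟨hf, hl⟩
    rw [hset, Set.finite_union] at hf
    refine ⟨⟨hf.1, fun x hx h => hl x hx ?_⟩, ⟨hf.2, fun x hx h => hl x hx ?_⟩⟩
    · rw [len_add S hS x, h, top_add]
    · rw [len_add S hS x, h, add_top]
  · rintro ⟨⟨hf1, hl1⟩, ⟨hf3, hl3⟩⟩
    refine ⟨by rw [hset]; exact hf1.union hf3, fun x hx => ?_⟩
    rw [len_add S hS x]
    exact WithTop.add_ne_top.2 ⟨hl1 x hx, hl3 x hx⟩

theorem finsum_term_add (S : ShortComplex X.Modules) (hS : S.ShortExact) (h1 : Fin n S.X₁) (h3 : Fin n S.X₃) :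
    finsum (term n S.X₂) = finsum (term n S.X₁) + finsum (term n S.X₃) := by
  rw [← finsum_add_distrib (h1.1.subset (support_term_subset n S.X₁)) (h3.1.subset (support_term_subset n S.X₃))]
  congr 1
  ext x
  by_cases hD : D n x
  · simp only [term, if_pos hD]
    rw [len_add S hS x, ENat.toNat_add (h1.2 x hD) (h3.2 x hD), add_smul]
  · simp only [term, if_neg hD, add_zero]

end

/-- Let X be a Noetherian scheme, K the Grothendieck group of coherent O_X-modules and Filt_m ⊆ K the
subgroup generated by the classes of coherent modules whose support has dimension ≤ m. Let F be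
coherent with dim Supp(F) ≤ n. Then for the points x of X whose closure Z(x) has dimension n the
stalk F_x has finite length, nonzero for only finitely many such x, and [F] ≡ Σ_x length(F_x)
[O_{Z(x)}] modulo Filt_{n-1}, where O_{Z(x)} is the structure sheaf of the reduced closed subscheme
Z(x) viewed as an O_X-module. -/
theorem result (X : Scheme.{u}) [IsNoetherian X] (n : ℕ) (F : X.Modules) (hF : Coh.IsCoh F)
    (hsupp : topologicalKrullDim ↥(CohB1.support F) ≤ n) :
    KZero.clSub (fun M : X.Modules => Coh.IsCoh M) F -
        (finsum fun x : ↥X => if topologicalKrullDim ↥(closure ({x} : Set ↥X)) = n then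
          (Module.length (X.presheaf.stalk x) (F.presheaf.stalk x)).toNat • KZero.clSub (fun M : X.Modules => Coh.IsCoh M) (Cyc.closureStructureSheaf x) else 0) ∈
      AddSubgroup.closure {c : KZero.K0sub (fun M : X.Modules => Coh.IsCoh M) |
        ∃ G : X.Modules, Coh.IsCoh G ∧ topologicalKrullDim ↥(CohB1.support G) < n ∧ c = KZero.clSub (fun M : X.Modules => Coh.IsCoh M) G} := by
  classical
  set H := AddSubgroup.closure {c : KZero.K0sub (fun M : X.Modules => Coh.IsCoh M) |
        ∃ G : X.Modules, Coh.IsCoh G ∧ topologicalKrullDim ↥(CohB1.support G) < n ∧ c = KZero.clSub (fun M : X.Modules => Coh.IsCoh M) G} with hH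
  let Q : X.Modules → Prop := fun M => Fin n M ∧ cls M - finsum (term n M) ∈ H
  have key : Q F := by
    refine twoOfThree_devissage Q (CohB1.support F) ?_ ?_ (isClosed_support F hF) ?_ F hF le_rfl
    · -- zero modules
      intro M hM
      have hs : CohB1.support M = ∅ := Groth.Agent.Lib.Helper16.K0Supp.support_of_isZero hM
      have hl : ∀ x : X, len M x = 0 := fun x => len_eq_zero_of_notMem_support M x (by rw [hs]; exact Set.notMem_empty x)
      refine ⟨⟨?_, fun x _ => by rw [hl x]; exact ENat.zero_ne_top⟩, ?_⟩
      · have : {x : X | D n x ∧ x ∈ CohB1.support M} = ∅ := by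
          ext x
          simp [hs]
        rw [this]; exact Set.finite_empty
      · have h1 : cls M = 0 := Groth.Agent.Lib.Helper16.K0Db.clSub_isZero _ M hM
        have h2 : finsum (term n M) = 0 := by
          apply finsum_eq_zero_of_forall_eq_zero
          intro x
          simp only [term, hl x]
          split_ifs <;> simp
        rw [h1, h2, sub_zero]
        exact H.zero_mem
    · -- two out of three
      intro S hS h1 h2 h3 _
      have hcl : cls S.X₂ = cls S.X₁ + cls S.X₃ := Groth.Agent.Lib.Helper16.K0Db.clSub_shortExact _ S hS h1 h2 h3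
      have hfin := fin_iff n S hS
      have hrel : ∀ (f1 : Fin n S.X₁) (f3 : Fin n S.X₃),
          cls S.X₂ - finsum (term n S.X₂) =
            (cls S.X₁ - finsum (term n S.X₁)) + (cls S.X₃ - finsum (term n S.X₃)) := by
        intro f1 f3
        rw [finsum_term_add n S hS f1 f3, hcl]
        abel
      refine ⟨?_, ?_, ?_⟩
      · rintro ⟨f1, k1⟩ ⟨f2, k2⟩
        have f3 := (hfin.1 f2).2
        refine ⟨f3, ?_⟩
        have e : cls S.X₃ - finsum (term n S.X₃) =
            (cls S.X₂ - finsum (term n S.X₂)) - (cls S.X₁ - finsum (term n S.X₁)) := by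
          rw [hrel f1 f3]; abel
        rw [e]
        exact H.sub_mem k2 k1
      · rintro ⟨f1, k1⟩ ⟨f3, k3⟩
        refine ⟨hfin.2 ⟨f1, f3⟩, ?_⟩
        rw [hrel f1 f3]
        exact H.add_mem k1 k3
      · rintro ⟨f2, k2⟩ ⟨f3, k3⟩
        have f1 := (hfin.1 f2).1
        refine ⟨f1, ?_⟩
        have e : cls S.X₁ - finsum (term n S.X₁) =
            (cls S.X₂ - finsum (term n S.X₂)) - (cls S.X₃ - finsum (term n S.X₃)) := by
          rw [hrel f1 f3]; abel
        rw [e]
        exact H.sub_mem k2 k3
    · -- the structure sheaves of closures of points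
      intro y hy _
      have hdimy : topologicalKrullDim ↥(closure ({y} : Set X)) ≤ n := by
        have hind : Topology.IsInducing (Set.inclusion hy) := (Topology.IsEmbedding.inclusion hy).isInducing
        exact hind.topologicalKrullDim_le.trans hsupp
      have hsy : CohB1.support (OZ y) = closure {y} := support_OZ y
      have huniq : ∀ x : X, D n x → x ∈ CohB1.support (OZ y) → x = y := by
        intro x hx hxs
        rw [hsy] at hxs
        exact eq_of_dim_closure_eq n x y hxs hx hdimy
      have hfin : Fin n (OZ y) := by
        refine ⟨(Set.finite_singleton y).subset ?_, ?_⟩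
        · rintro x ⟨hx, hxs⟩
          exact huniq x hx hxs
        · intro x hx
          by_cases hxs : x ∈ CohB1.support (OZ y)
          · rw [huniq x hx hxs, len_OZ_self]
            exact ENat.one_ne_top
          · rw [len_eq_zero_of_notMem_support _ x hxs]
            exact ENat.zero_ne_top
      refine ⟨hfin, ?_⟩
      by_cases hDy : D n y
      · have hsum : finsum (term n (OZ y)) = cls (OZ y) := by
          rw [finsum_eq_single (term n (OZ y)) y]
          · rw [term, if_pos hDy, len_OZ_self]
            simp
          · intro x hxy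
            by_cases hD : D n x
            · have hxs : x ∉ CohB1.support (OZ y) := fun h => hxy (huniq x hD h)
              rw [term, if_pos hD, len_eq_zero_of_notMem_support _ x hxs]
              simp
            · rw [term, if_neg hD]
        rw [hsum, sub_self]
        exact H.zero_mem
      · have hsum : finsum (term n (OZ y)) = 0 := by
          apply finsum_eq_zero_of_forall_eq_zero
          intro x
          by_cases hD : D n x
          · have hxs : x ∉ CohB1.support (OZ y) := by
              intro h
              apply hDy
              rw [← huniq x hD h]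
              exact hD
            rw [term, if_pos hD, len_eq_zero_of_notMem_support _ x hxs]
            simp
          · rw [term, if_neg hD]
        rw [hsum, sub_zero]
        apply AddSubgroup.subset_closure
        refine ⟨OZ y, isCoh_OZ y, ?_, rfl⟩
        rw [hsy]
        exact lt_of_le_of_ne hdimy hDy
  have hfs : finsum (term n F) = ∑ᶠ x : X, if topologicalKrullDim ↥(closure ({x} : Set ↥X)) = n then
      (Module.length (X.presheaf.stalk x) (F.presheaf.stalk x)).toNat • KZero.clSub (fun M : X.Modules => Coh.IsCoh M) (Cyc.closureStructureSheaf x) else 0 := by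
    congr 1
    ext x
    unfold term D
    split_ifs <;> rfl
  rw [← hfs]
  exact key.2

end Groth.Agent.S5642
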