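import Groth.Statements.S5643
import Groth.Agent.Lib.Helper6.K0Filt
import Groth.Agent.Lib.Helper8.K0Coh

set_option autoImplicit false
universe u
open CategoryTheory CategoryTheory.Limits AlgebraicGeometry
open Classical
open SGA6

namespace Groth.Agent.S5643

/-- Let X be a Noetherian scheme and K the Grothendieck group of coherent O_X-modules. For every n, the
subgroup of K generated by the classes of coherent modules whose support has dimension ≤ n coincides
with the subgroup generated by the classes [O_Z] of the structure sheaves (as O_X-modules) of the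
integral closed subschemes Z ⊆ X of dimension ≤ n, Z running over the reduced closures of points of
X. -/
theorem result (X : Scheme.{u}) [IsNoetherian X] (n : ℕ) :
    AddSubgroup.closure {c : KZero.K0sub (fun M : X.Modules => Coh.IsCoh M) |
        ∃ G : X.Modules, Coh.IsCoh G ∧ topologicalKrullDim ↥(CohB1.support G) ≤ n ∧ c = KZero.clSub (fun M : X.Modules => Coh.IsCoh M) G} =
      AddSubgroup.closure {c : KZero.K0sub (fun M : X.Modules => Coh.IsCoh M) |
        ∃ x : ↥X, topologicalKrullDim ↥(closure ({x} : Set ↥X)) ≤ n ∧ c = KZero.clSub (fun M : X.Modules => Coh.IsCoh M) (Cyc.closureStructureSheaf x)} := by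
  classical
  have hadd : ∀ S : ShortComplex X.Modules, S.ShortExact → Coh.IsCoh S.X₁ → Coh.IsCoh S.X₂ → Coh.IsCoh S.X₃ →
      KZero.clSub (fun M : X.Modules => Coh.IsCoh M) S.X₂ =
        KZero.clSub (fun M : X.Modules => Coh.IsCoh M) S.X₁ + KZero.clSub (fun M : X.Modules => Coh.IsCoh M) S.X₃ :=
    fun S hS h1 h2 h3 => Groth.Agent.Lib.Helper16.K0Db.clSub_shortExact _ S hS h1 h2 h3
  apply le_antisymm
  · rw [AddSubgroup.closure_le]
    rintro c ⟨G, hG, hdim, rfl⟩
    refine Groth.Agent.Lib.Helper6.K0Filt.additive_devissage
      (KZero.clSub (fun M : X.Modules => Coh.IsCoh M)) hadd _ (CohB1.support G)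
      (Groth.Agent.Lib.Helper6.DevCore.isClosed_support G hG) ?_ G hG le_rfl
    intro y hy _
    apply AddSubgroup.subset_closure
    refine ⟨y, ?_, rfl⟩
    have hind : Topology.IsInducing (Set.inclusion hy) := (Topology.IsEmbedding.inclusion hy).isInducing
    exact hind.topologicalKrullDim_le.trans hdim
  · rw [AddSubgroup.closure_le]
    rintro c ⟨x, hdim, rfl⟩
    apply AddSubgroup.subset_closure
    refine ⟨Cyc.closureStructureSheaf x, Groth.Agent.Lib.Helper6.K0Filt.isCoh_OZ x, ?_, rfl⟩
    have : CohB1.support (Cyc.closureStructureSheaf x) = closure {x} := Groth.Agent.Lib.Helper6.K0Filt.support_OZ x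
    rw [this]
    exact hdim

end Groth.Agent.S5643
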