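import Groth.Statements.S5644
import Groth.Agent.Lib.Helper2.IntNum6

set_option autoImplicit false
universe u
open CategoryTheory CategoryTheory.Limits AlgebraicGeometry
open Pic13

namespace Groth.Agent.S5644

/-- Let k be an algebraically closed field, X ⊆ P^n_k an integral closed subscheme of dimension r = s +
1, O_X(1) and O_X(-1) the restrictions of O(1) and O(-1), and L an invertible O_X-module with
inverse L'. Write the Hilbert polynomials in the binomial basis, χ(L(m)) = Σ_{j ≤ r} a_j C(m+j, j)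
and χ(O_X(m)) = Σ_{j ≤ r} e_j C(m+j, j) for m ≥ 0 (Euler characteristics in degrees ≤ r). Then (i)
a_r = e_r = (c₁(O_X(1))^r), the degree of X, and (ii) a_{r-1} - e_{r-1} = (c₁(L)·c₁(O_X(1))^{r-1}),
the degree of L. Intersection numbers are those of FGA.intNum, which takes the inverse modules L',
O_X(-1) as arguments. -/
theorem result (k : Type u) [Field k] [IsAlgClosed k] (n : ℕ) (X : Scheme.{u}) [X.Over (Spec (CommRingCat.of k))]
    (i : X ⟶ CohB1.ProjSpace n k) [IsClosedImmersion i] (hi : i ≫ CohB1.ProjSpace.toSpec n k = X ↘ Spec (CommRingCat.of k))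
    [IsIntegral X] (s : ℕ) (hdim : topologicalKrullDim X = (s + 1 : ℕ))
    (L L' : X.Modules) (hL : PicF.IsInvertible L) (hLL' : Nonempty (CohB1.tensorMod L L' ≅ Coh.structureModule X))
    (a e : Fin (s + 2) → ℤ)
    (ha : ∀ m : ℕ, FGA.eulerCharLE k X (Pic13.twistOn k i L m) (s + 1) = ∑ j : Fin (s + 2), a j * ((m + j).choose j : ℤ))
    (he : ∀ m : ℕ, FGA.eulerCharLE k X (Pic13.twistOn k i (Coh.structureModule X) m) (s + 1) =
      ∑ j : Fin (s + 2), e j * ((m + j).choose j : ℤ)) :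
    a (Fin.last (s + 1)) = e (Fin.last (s + 1)) ∧
      a (Fin.last (s + 1)) = FGA.intNum k X (s + 1)
        (fun _ : Fin (s + 1) => (Scheme.Modules.pullback i).obj (Twist.twistProjSpace n k (-1))) (Coh.structureModule X) ∧
      a (Fin.castSucc (Fin.last s)) - e (Fin.castSucc (Fin.last s)) = FGA.intNum k X (s + 1)
        (Matrix.vecCons L' (fun _ : Fin s => (Scheme.Modules.pullback i).obj (Twist.twistProjSpace n k (-1))))
        (Coh.structureModule X) := by
  classical
  haveI : IsProper (X ↘ Spec (CommRingCat.of k)) := by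
    rw [← hi]
    haveI := Groth.Agent.Lib.Helper28.ProjSpaceBasic.isProper_toSpec n k
    infer_instance
  haveI : IsNoetherian X := Groth.Agent.Lib.Helper2.IntNum1.isNoetherian k X
  have hH : PicF.IsInvertible ((Scheme.Modules.pullback i).obj (Twist.twistProjSpace n k 1)) :=
    Groth.Agent.Lib.Helper28.PullbackInv.isInvertible_pullback i
      (Groth.Agent.Lib.Helper2.Bridge5.isInvertible_twist k n 1)
  have hH' : PicF.IsInvertible ((Scheme.Modules.pullback i).obj (Twist.twistProjSpace n k (-1))) :=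
    Groth.Agent.Lib.Helper28.PullbackInv.isInvertible_pullback i
      (Groth.Agent.Lib.Helper2.Bridge5.isInvertible_twist k n (-1))
  obtain ⟨eH⟩ := Groth.Agent.Lib.Helper2.IntNum6.nonempty_pullback_twist_tensor_iso k n i 1 (-1) (by norm_num)
  obtain ⟨eL⟩ := hLL'
  have hL' : PicF.IsInvertible L' := Groth.Agent.Lib.Helper6.K0Inv.isInvertible_of_tensor_iso L L' hL eL
  have hdim' : topologicalKrullDim X ≤ ((s + 1 : ℕ) : WithBot ℕ∞) := hdim.le
  have hO : Coh.IsCoh (Coh.structureModule X) := Groth.Agent.Lib.Helper6.DevRed.isCoh_structureModule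
  have hLc : Coh.IsCoh L := Groth.Agent.Lib.Helper6.K0Op.isCoh_of_isInvertible L hL
  set H := (Scheme.Modules.pullback i).obj (Twist.twistProjSpace n k 1) with hHdef
  set H' := (Scheme.Modules.pullback i).obj (Twist.twistProjSpace n k (-1)) with hH'def
  set cO := Groth.Agent.Lib.Helper6.K0Len.cls (Coh.structureModule X) with hcO
  set cL := Groth.Agent.Lib.Helper6.K0Len.cls L with hcL
  set u : AddMonoid.End (Groth.Agent.Lib.Helper4.Snapper.K0 X) := 1 - Groth.Agent.Lib.Helper6.K0Op.Top H' with hu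
  -- the Hilbert functions in K-theoretic form
  have hcohtw : ∀ (G : X.Modules), Coh.IsCoh G → ∀ m : ℕ, Coh.IsCoh (Pic13.twistOn k i G (m : ℤ)) := by
    intro G hG m
    exact Groth.Agent.Lib.Helper6.K0Op.isCoh_tensorMod _ _ hG
      (Groth.Agent.Lib.Helper6.K0Op.isCoh_of_isInvertible _
        (Groth.Agent.Lib.Helper28.PullbackInv.isInvertible_pullback i
          (Groth.Agent.Lib.Helper2.Bridge5.isInvertible_twist k n (m : ℤ))))
  have haL : ∀ m : ℕ, Groth.Agent.Lib.Helper2.IntNum1.chi k X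
      ((Groth.Agent.Lib.Helper6.K0Op.Top H ^ m) cL) = ∑ j : Fin (s + 2), a j * ((m + j).choose j : ℤ) := by
    intro m
    rw [← ha m, Groth.Agent.Lib.Helper2.IntNum1.eulerCharLE_eq_chi k X (s + 1) hdim' _ (hcohtw L hLc m),
      Groth.Agent.Lib.Helper2.IntNum6.cls_twistOn k n i L hLc m]
  have heO : ∀ m : ℕ, Groth.Agent.Lib.Helper2.IntNum1.chi k X
      ((Groth.Agent.Lib.Helper6.K0Op.Top H ^ m) cO) = ∑ j : Fin (s + 2), e j * ((m + j).choose j : ℤ) := by
    intro m
    rw [← he m, Groth.Agent.Lib.Helper2.IntNum1.eulerCharLE_eq_chi k X (s + 1) hdim' _ (hcohtw _ hO m),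
      Groth.Agent.Lib.Helper2.IntNum6.cls_twistOn k n i _ hO m]
  have cA := fun j => Groth.Agent.Lib.Helper2.IntNum6.coeff_eq k X (s + 1) hdim' H H' hH eH L hLc a haL j
  have cE := fun j => Groth.Agent.Lib.Helper2.IntNum6.coeff_eq k X (s + 1) hdim' H H' hH eH _ hO e heO j
  -- memberships
  have hOmem : cO ∈ Groth.Agent.Lib.Helper6.K0Len.Hlt X (s + 2) :=
    Groth.Agent.Lib.Helper2.IntNum6.cls_mem_Hlt_of_dim k X (s + 1) hdim' _ hO
  have hLmem : cL ∈ Groth.Agent.Lib.Helper6.K0Len.Hlt X (s + 2) :=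
    Groth.Agent.Lib.Helper2.IntNum6.cls_mem_Hlt_of_dim k X (s + 1) hdim' _ hLc
  have hzero : ∀ c, c ∈ Groth.Agent.Lib.Helper6.K0Len.Hlt X (s + 2) → (u ^ (s + 1 + 1)) c = 0 := by
    intro c hc
    apply Groth.Agent.Lib.Helper2.IntNum1.eq_zero_of_mem_Hlt_zero
    apply Groth.Agent.Lib.Helper2.IntNum1.pow_sub_Top_mem_Hlt H' hH' 0 (s + 1 + 1)
    rw [zero_add]; exact hc
  -- [L] = [L ⊗ -][O]
  have hLO : cL = Groth.Agent.Lib.Helper6.K0Op.Top L cO := by
    obtain ⟨eu⟩ := Groth.Agent.Lib.Helper28.AmpleUnit.nonempty_tensor_unit_iso L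
    rw [Groth.Agent.Lib.Helper6.K0Op.Top_cls L hL _ hO]
    exact (Groth.Agent.Lib.Helper6.K0Op.cls_iso eu
      (Groth.Agent.Lib.Helper6.K0Op.isCoh_tensorMod _ _ hLc hO)).symm
  have hcommL : ∀ j : ℕ, Commute (Groth.Agent.Lib.Helper6.K0Op.Top L) (u ^ j) := fun j =>
    ((Commute.one_right _).sub_right
      (Groth.Agent.Lib.Helper4.Snapper.Top_comm L H' hL hH')).pow_right j
  have hcommL' : ∀ j : ℕ, Commute (1 - Groth.Agent.Lib.Helper6.K0Op.Top L') (u ^ j) := fun j =>
    ((Commute.one_left _).sub_left ((Commute.one_right _).sub_right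
      (Groth.Agent.Lib.Helper4.Snapper.Top_comm L' H' hL' hH'))).pow_right j
  -- key 1
  have key1 : (u ^ (s + 1)) cL = (u ^ (s + 1)) cO := by
    rw [hLO]
    change (u ^ (s + 1) * Groth.Agent.Lib.Helper6.K0Op.Top L) cO = _
    rw [← (hcommL (s + 1)).eq]
    change Groth.Agent.Lib.Helper6.K0Op.Top L ((u ^ (s + 1)) cO) = _
    apply Groth.Agent.Lib.Helper2.IntNum4.Top_apply_of_mem_Hlt_one L hL
    apply Groth.Agent.Lib.Helper2.IntNum1.pow_sub_Top_mem_Hlt H' hH' 1 (s + 1)
    rw [add_comm]; exact hOmem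
  -- key 2
  have key2 : (u ^ s) cL - (u ^ s) cO = (u ^ s) ((1 - Groth.Agent.Lib.Helper6.K0Op.Top L') cO) := by
    have hTT := Groth.Agent.Lib.Helper2.IntNum2.Top_mul_Top_eq_one L L' hL eL
    have h1 : cL - cO = Groth.Agent.Lib.Helper6.K0Op.Top L ((1 - Groth.Agent.Lib.Helper6.K0Op.Top L') cO) := by
      rw [hLO]
      change _ = (Groth.Agent.Lib.Helper6.K0Op.Top L * (1 - Groth.Agent.Lib.Helper6.K0Op.Top L')) cO
      rw [mul_sub, mul_one, hTT]
      rfl
    rw [← map_sub, h1]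
    change (u ^ s * Groth.Agent.Lib.Helper6.K0Op.Top L) _ = _
    rw [← (hcommL s).eq]
    change Groth.Agent.Lib.Helper6.K0Op.Top L ((u ^ s) ((1 - Groth.Agent.Lib.Helper6.K0Op.Top L') cO)) = _
    apply Groth.Agent.Lib.Helper2.IntNum4.Top_apply_of_mem_Hlt_one L hL
    apply Groth.Agent.Lib.Helper2.IntNum1.pow_sub_Top_mem_Hlt H' hH' 1 s
    rw [add_comm]
    exact Groth.Agent.Lib.Helper4.Snapper.sub_Top_mem_Hlt L' hL' (s + 1) cO hOmem
  have hlast : ((Fin.last (s + 1) : Fin (s + 2)) : ℕ) = s + 1 := rfl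
  have hpen : ((Fin.castSucc (Fin.last s) : Fin (s + 2)) : ℕ) = s := rfl
  have hA := cA (Fin.last (s + 1))
  have hE := cE (Fin.last (s + 1))
  have hA' := cA (Fin.castSucc (Fin.last s))
  have hE' := cE (Fin.castSucc (Fin.last s))
  rw [hlast] at hA hE
  rw [hpen] at hA' hE'
  rw [hzero cL hLmem, map_zero, sub_zero] at hA
  rw [hzero cO hOmem, map_zero, sub_zero] at hE
  refine ⟨?_, ?_, ?_⟩
  · rw [hA, hE, key1]
  · rw [hA, key1, Groth.Agent.Lib.Helper2.IntNum1.intNum_eq k X (s + 1) hdim' _ (fun _ => hH') _ hO,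
      Groth.Agent.Lib.Helper2.IntNum1.Psi_const]
  · rw [hA', hE', key1]
    have hinv : ∀ j, PicF.IsInvertible ((Matrix.vecCons L' (fun _ : Fin s => H') : Fin (s + 1) → X.Modules) j) := by
      intro j
      refine Fin.cases ?_ (fun j' => ?_) j
      · simpa using hL'
      · simpa using hH'
    rw [Groth.Agent.Lib.Helper2.IntNum1.intNum_eq k X (s + 1) hdim' _ hinv _ hO]
    have hP : Groth.Agent.Lib.Helper2.IntNum1.Psi
        (Matrix.vecCons L' (fun _ : Fin s => H') : Fin (s + 1) → X.Modules) =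
        (1 - Groth.Agent.Lib.Helper6.K0Op.Top L') * u ^ s := by
      change Groth.Agent.Lib.Helper2.IntNum1.Psi (Fin.cons L' (fun _ : Fin s => H') : Fin (s + 1) → X.Modules) = _
      rw [Groth.Agent.Lib.Helper2.IntNum1.Psi_cons, Groth.Agent.Lib.Helper2.IntNum1.Psi_const]
    rw [hP, (hcommL' s).eq]
    change _ = Groth.Agent.Lib.Helper2.IntNum1.chi k X ((u ^ s) ((1 - Groth.Agent.Lib.Helper6.K0Op.Top L') cO))
    rw [← key2, map_sub]
    ring

end Groth.Agent.S5644
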