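import Groth.Statements.S5656
import Mathlib.Algebra.Group.ForwardDiff
import Mathlib.Algebra.Polynomial.Roots
import Mathlib.Algebra.Polynomial.Degree.Lemmas
import Mathlib.RingTheory.Polynomial.Pochhammer

set_option autoImplicit false
universe u
open W4sga6xxiii

namespace Groth.Agent.S5656

open Polynomial in
/-- the binomial polynomial `C(X, j)` over `ℚ`. -/
noncomputable def binomPoly (j : ℕ) : ℚ[X] :=
  C ((j.factorial : ℚ)⁻¹) * (descPochhammer ℤ j).map (Int.castRingHom ℚ)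

open Polynomial in
theorem binomPoly_eval (j : ℕ) (n : ℤ) :
    (binomPoly j).eval (n : ℚ) = ((Ring.choose n j : ℤ) : ℚ) := by
  have h1 : ((Ring.choose n j : ℤ) : ℚ) = Ring.choose (n : ℚ) j := by
    have := Ring.map_choose (Int.castRingHom ℚ) n j
    simpa using this
  rw [h1, Ring.choose_eq_smul, binomPoly, eval_mul, eval_C, smul_eq_mul]
  congr 1
  rw [← Polynomial.aeval_eq_smeval, Polynomial.aeval_def, Polynomial.eval_map]
  rfl

open Polynomial in
theorem exists_poly {G : Type u} [AddCommGroup G] (f : G → ℚ) (hf : W4sga6xxiii.IsPolyMap f)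
    (x : G) : ∃ P : ℚ[X], ∀ n : ℤ, P.eval (n : ℚ) = f (n • x) := by
  obtain ⟨m, y, -, hy⟩ := hf 1 (fun _ => x)
  refine ⟨∑ k, C (y k) * binomPoly (k 0 : ℕ), fun n => ?_⟩
  have := hy (fun _ => n)
  simp only [Fin.sum_univ_one, Fin.prod_univ_one] at this
  rw [this, eval_finsetSum]
  refine Finset.sum_congr rfl fun k _ => ?_
  rw [eval_mul, eval_C, binomPoly_eval, zsmul_eq_mul, mul_comm]

open Polynomial in
theorem int_leadingCoeff (P : ℚ[X]) (hP : ∀ n : ℤ, ∃ z : ℤ, P.eval (n : ℚ) = z) :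
    ∃ z : ℤ, P.leadingCoeff * (P.natDegree.factorial : ℚ) = z := by
  have h1 := congrFun (Polynomial.fwdDiff_iter_degree_eq_factorial P) 0
  rw [fwdDiff_iter_eq_sum_shift] at h1
  have h2 : ∀ k : ℕ, ∃ z : ℤ, ((-1 : ℤ) ^ (P.natDegree - k) * (P.natDegree.choose k : ℤ)) •
      P.eval (0 + k • (1 : ℚ)) = z := by
    intro k
    obtain ⟨z, hz⟩ := hP k
    refine ⟨((-1 : ℤ) ^ (P.natDegree - k) * (P.natDegree.choose k : ℤ)) * z, ?_⟩
    have : (0 + k • (1 : ℚ)) = ((k : ℤ) : ℚ) := by simp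
    rw [this, hz, zsmul_eq_mul]
    push_cast
    ring
  choose z hz using h2
  refine ⟨∑ k ∈ Finset.range (P.natDegree + 1), z k, ?_⟩
  have h3 : (P.leadingCoeff • (P.natDegree.factorial : ℚ → ℚ)) 0
      = P.leadingCoeff * (P.natDegree.factorial : ℚ) := by
    simp
  rw [← h3, ← h1]
  push_cast
  exact Finset.sum_congr rfl fun k _ => hz k

open Polynomial in
theorem eq_of_int_eval_eq (P Q : ℚ[X]) (n₀ : ℤ) (hn₀ : n₀ ≠ 0)
    (h : ∀ m : ℤ, P.eval ((n₀ * m : ℤ) : ℚ) = Q.eval ((n₀ * m : ℤ) : ℚ)) : P = Q := by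
  apply Polynomial.eq_of_infinite_eval_eq
  have hinj : Function.Injective (fun m : ℤ => ((n₀ * m : ℤ) : ℚ)) := by
    intro a b hab
    have : n₀ * a = n₀ * b := by
      have hab' : ((n₀ * a : ℤ) : ℚ) = ((n₀ * b : ℤ) : ℚ) := hab
      exact_mod_cast hab'
    exact mul_left_cancel₀ hn₀ this
  refine (Set.infinite_range_of_injective hinj).mono ?_
  rintro _ ⟨m, rfl⟩
  exact h m

theorem exists_div {G : Type u} [AddCommGroup G] (G' : AddSubgroup G)
    (p : ℕ) (hdiv : ∀ x ∈ G', ∃ y ∈ G', p • y = x) (y : G) (hy : y ∈ G') (k : ℕ) :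
    ∃ y' ∈ G', (p ^ k) • y' = y := by
  induction k with
  | zero => exact ⟨y, hy, by simp⟩
  | succ k ih =>
    obtain ⟨y', hy', h⟩ := ih
    obtain ⟨y'', hy'', h'⟩ := hdiv y' hy'
    refine ⟨y'', hy'', ?_⟩
    rw [pow_succ, mul_smul, h', h]

open Polynomial in
theorem const_on {G : Type u} [AddCommGroup G] (G' : AddSubgroup G)
    (p : ℕ) (hp : p.Prime) (hdiv : ∀ x ∈ G', ∃ y ∈ G', p • y = x)
    (f : G → ℚ) (hf : W4sga6xxiii.IsPolyMap f) (hint : ∀ x, ∃ z : ℤ, f x = z) (y : G)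
    (hy : y ∈ G') : f y = f 0 := by
  obtain ⟨P₀, hP₀⟩ := exists_poly f hf y
  have hp0 : (p : ℚ) ≠ 0 := by exact_mod_cast hp.ne_zero
  -- key: natDegree P₀ = 0
  have hdeg : P₀.natDegree = 0 := by
    by_contra hd
    obtain ⟨z₀, hz₀⟩ := int_leadingCoeff P₀ (fun n => by rw [hP₀]; exact hint _)
    have hdvd : ∀ k : ℕ, ((p : ℤ) ^ k) ∣ z₀ := by
      intro k
      obtain ⟨y', hy', hk⟩ := exists_div G' p hdiv y hy k
      obtain ⟨P, hP⟩ := exists_poly f hf y'
      have hpk : ((p : ℚ) ^ k) ≠ 0 := pow_ne_zero _ hp0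
      have hcomp : P.comp (C ((p : ℚ) ^ k) * X) = P₀ := by
        apply eq_of_int_eval_eq _ _ 1 one_ne_zero
        intro m
        rw [one_mul, eval_comp, eval_mul, eval_C, eval_X, hP₀]
        have : ((p : ℚ) ^ k) * (m : ℚ) = (((p : ℤ) ^ k * m : ℤ) : ℚ) := by push_cast; ring
        rw [this, hP, ← hk, mul_smul]
        congr 1
        rw [← natCast_zsmul, smul_comm]
        push_cast
        rfl
      have hnd : P.natDegree = P₀.natDegree := by
        rw [← hcomp, natDegree_comp, natDegree_C_mul_X _ hpk, mul_one]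
      have hlc : P₀.leadingCoeff = P.leadingCoeff * ((p : ℚ) ^ k) ^ P.natDegree := by
        rw [← hcomp, leadingCoeff_comp (by rw [natDegree_C_mul_X _ hpk]; exact one_ne_zero),
          leadingCoeff_C_mul_X]
      obtain ⟨z, hz⟩ := int_leadingCoeff P (fun n => by rw [hP]; exact hint _)
      have : (z₀ : ℚ) = ((z * ((p : ℤ) ^ k) ^ P₀.natDegree : ℤ) : ℚ) := by
        rw [← hz₀, hlc, hnd]
        push_cast
        rw [← hz, hnd]
        ring
      have hzz : z₀ = z * ((p : ℤ) ^ k) ^ P₀.natDegree := by exact_mod_cast this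
      rw [hzz]
      refine Dvd.dvd.mul_left ?_ _
      exact dvd_pow_self _ hd
    have hz0 : z₀ = 0 := by
      by_contra hne
      have h1 := hdvd z₀.natAbs
      have h2 : p ^ z₀.natAbs ∣ z₀.natAbs := by
        have := Int.natAbs_dvd_natAbs.mpr h1
        simpa [Int.natAbs_pow] using this
      have h3 := Nat.le_of_dvd (Int.natAbs_pos.mpr hne) h2
      have h4 := Nat.lt_pow_self hp.one_lt (n := z₀.natAbs)
      omega
    rw [hz0] at hz₀
    have : P₀.leadingCoeff = 0 := by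
      have hz₀' : P₀.leadingCoeff * (P₀.natDegree.factorial : ℚ) = 0 := by
        rw [hz₀]; simp
      rcases mul_eq_zero.mp hz₀' with h | h
      · exact h
      · exact absurd h (by exact_mod_cast Nat.factorial_ne_zero _)
    rw [leadingCoeff_eq_zero] at this
    rw [this] at hd
    exact hd natDegree_zero
  rw [eq_C_of_natDegree_eq_zero hdeg] at hP₀
  have h1 := hP₀ 1
  have h0 := hP₀ 0
  simp only [eval_C, one_smul, zero_smul] at h1 h0
  rw [← h1, ← h0]

/-- Let G be an abelian group and G' ⊆ G a subgroup which is divisible by some prime number p (every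
element of G' is p times an element of G') and such that G/G' is a torsion group. Then every
polynomial map f : G → ℚ (admitting binomial expansions f(Σ n_i x_i) = Σ_k Π_i C(n_i, k_i) y_k along
every finite sequence x) which takes only integer values is constant. -/
theorem result {G : Type u} [AddCommGroup G] (G' : AddSubgroup G)
    (p : ℕ) (hp : p.Prime) (hdiv : ∀ x ∈ G', ∃ y ∈ G', p • y = x) (htor : ∀ x : G, ∃ n : ℤ, n ≠ 0 ∧ n • x ∈ G')
    (f : G → ℚ) (hf : W4sga6xxiii.IsPolyMap f) (hint : ∀ x, ∃ z : ℤ, f x = z) (x : G) : f x = f 0 := by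
  obtain ⟨n₀, hn₀, hmem⟩ := htor x
  obtain ⟨P, hP⟩ := exists_poly f hf x
  have hPC : P = Polynomial.C (f 0) := by
    apply eq_of_int_eval_eq _ _ n₀ hn₀
    intro m
    rw [hP, Polynomial.eval_C, mul_comm, mul_smul]
    exact const_on G' p hp hdiv f hf hint _ (G'.zsmul_mem hmem m)
  have h1 := hP 1
  rw [hPC] at h1
  simpa using h1.symm

end Groth.Agent.S5656
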