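import Groth.Statements.S5657
import Mathlib

set_option autoImplicit false
universe u
open TensorProduct
open W4sga6xxiii

namespace Groth.Agent.S5657



section Helpers
variable {A : Type u} [CommRing A]

/-- truncated binomial series -/
noncomputable def g (m : ℕ) (y : A) (n : ℤ) : A :=
  ∑ j ∈ Finset.range (m + 1), (Ring.choose n j : ℤ) • y ^ j

theorem g_zero (m : ℕ) (y : A) : g m y 0 = 1 := by
  unfold g
  rw [Finset.sum_eq_single 0]
  · simp
  · intro j _ hj
    rw [Ring.choose_zero_pos ℤ (Nat.pos_of_ne_zero hj), zero_smul]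
  · intro h; simp at h

theorem g_succ (m : ℕ) (y : A) (hy : y ^ (m + 1) = 0) (n : ℤ) :
    g m y (n + 1) = (1 + y) * g m y n := by
  unfold g
  rw [add_mul, one_mul, Finset.mul_sum]
  have h1 : ∑ j ∈ Finset.range (m + 1), y * ((Ring.choose n j : ℤ) • y ^ j)
      = ∑ j ∈ Finset.range (m + 1), (Ring.choose n j : ℤ) • y ^ (j + 1) := by
    refine Finset.sum_congr rfl fun j _ => ?_
    rw [mul_smul_comm, pow_succ']
  rw [h1, Finset.sum_range_succ (fun j => (Ring.choose n j : ℤ) • y ^ (j + 1)), hy, smul_zero,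
    add_zero]
  rw [Finset.sum_range_succ' (fun j => (Ring.choose (n + 1) j : ℤ) • y ^ j),
    Finset.sum_range_succ' (fun j => (Ring.choose n j : ℤ) • y ^ j)]
  simp only [Ring.choose_zero_right, Ring.choose_succ_succ, add_smul]
  rw [Finset.sum_add_distrib]
  ring

theorem zpow_eq_g (m : ℕ) (u : Aˣ) (hy : ((u : A) - 1) ^ (m + 1) = 0) (n : ℤ) :
    ((u ^ n : Aˣ) : A) = g m ((u : A) - 1) n := by
  have hu : (1 : A) + ((u : A) - 1) = u := by ring
  induction n using Int.induction_on with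
  | zero => simp [g_zero]
  | succ i ih =>
    rw [g_succ m _ hy, hu, ← ih, zpow_add_one, Units.val_mul, mul_comm]
  | pred i ih =>
    have h := g_succ m ((u : A) - 1) hy (-(i : ℤ) - 1)
    rw [sub_add_cancel, hu] at h
    rw [zpow_sub_one, Units.val_mul, ih, h, mul_right_comm, Units.mul_inv, one_mul]

end Helpers

/-- Let A be a commutative ring, I an ideal of A with I^{m+1} = 0, and P ⊆ Aˣ the subgroup of units of
the form 1 + y with y ∈ I. Then the map P → A ⊗_ℤ ℚ, x ↦ x ⊗ 1, is a polynomial map of degree ≤ m on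
the abelian group P (written additively): along every finite sequence x_1, …, x_r in P one has
x_1^{n_1}⋯x_r^{n_r} ⊗ 1 = Σ_k Π_i C(n_i, k_i) y_k with y_k = 0 whenever k_1 + ⋯ + k_r > m. -/
theorem result (A : Type u) [CommRing A] (I : Ideal A) (m : ℕ) (hI : I ^ (m + 1) = ⊥)
    (P : Subgroup Aˣ) (hP : ∀ u : Aˣ, u ∈ P ↔ (u : A) - 1 ∈ I) :
    W4sga6xxiii.IsPolyMapLE (fun u : Additive P => (((Additive.toMul u : P) : Aˣ) : A) ⊗ₜ[ℤ] (1 : ℚ)) m := by
  classical
  intro r x
  let uu : Fin r → Aˣ := fun i => ((Additive.toMul (x i) : P) : Aˣ)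
  let yy : Fin r → A := fun i => (uu i : A) - 1
  have hyI : ∀ i, yy i ∈ I := fun i => (hP (uu i)).mp (Additive.toMul (x i) : P).2
  have hy0 : ∀ i, yy i ^ (m + 1) = 0 := by
    intro i
    have : yy i ^ (m + 1) ∈ I ^ (m + 1) := Ideal.pow_mem_pow (hyI i) _
    rw [hI] at this
    exact (Submodule.mem_bot A).mp this
  refine ⟨fun k => (∏ i, yy i ^ (k i : ℕ)) ⊗ₜ[ℤ] (1 : ℚ), ?_, ?_⟩
  · intro k hk
    have hmem : ∏ i, yy i ^ (k i : ℕ) ∈ I ^ (∑ i, (k i : ℕ)) := by
      rw [← Finset.prod_pow_eq_pow_sum]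
      exact Ideal.prod_mem_prod fun i _ => Ideal.pow_mem_pow (hyI i) _
    have hle : I ^ (∑ i, (k i : ℕ)) ≤ I ^ (m + 1) := Ideal.pow_le_pow_right (by omega)
    have := hle hmem
    rw [hI] at this
    show (∏ i, yy i ^ (k i : ℕ)) ⊗ₜ[ℤ] (1 : ℚ) = 0
    rw [(Submodule.mem_bot A).mp this, zero_tmul]
  · intro n
    have hprod : (((Additive.toMul (∑ i, n i • x i) : P) : Aˣ) : A)
        = ∏ i, ((uu i ^ n i : Aˣ) : A) := by
      rw [toMul_sum, SubmonoidClass.coe_finsetProd, Units.coe_prod]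
      refine Finset.prod_congr rfl fun i _ => ?_
      rw [toMul_zsmul, Subgroup.coe_zpow]
    have hexp : ∏ i, ((uu i ^ n i : Aˣ) : A)
        = ∑ k : Fin r → Fin (m + 1), (∏ i, Ring.choose (n i) (k i : ℕ)) • ∏ i, yy i ^ (k i : ℕ) := by
      have h1 : ∀ i, ((uu i ^ n i : Aˣ) : A)
          = ∑ j : Fin (m + 1), (Ring.choose (n i) (j : ℕ) : ℤ) • yy i ^ (j : ℕ) := by
        intro i
        rw [zpow_eq_g m (uu i) (hy0 i) (n i)]
        unfold g
        rw [Finset.sum_range]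
      simp_rw [h1]
      rw [Finset.prod_univ_sum, Fintype.piFinset_univ]
      refine Finset.sum_congr rfl fun k _ => ?_
      rw [Finset.prod_smul]
    show (((Additive.toMul (∑ i, n i • x i) : P) : Aˣ) : A) ⊗ₜ[ℤ] (1 : ℚ) = _
    rw [hprod, hexp, TensorProduct.sum_tmul]
    refine Finset.sum_congr rfl fun k _ => ?_
    rw [TensorProduct.smul_tmul']

end Groth.Agent.S5657
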