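import Groth.Statements.S5659
import Mathlib
import Groth.Agent.Lib.Helper25.GLChar
-- import your own Groth.Agent.* helpers here

set_option autoImplicit false
set_option linter.unusedSectionVars false
set_option linter.style.haveILetI false
set_option linter.unusedVariables false
universe u
open CAlg

namespace Groth.Agent.S5659

open Groth.Agent.Lib.Helper25

/-- Every homomorphism of group sheaves Gl(n_1) × ⋯ × Gl(n_r) → G_m is (s_1, …, s_r) ↦ det(s_1)^{m_1} ⋯
det(s_r)^{m_r} with locally constant integers m_i uniquely determined by it. Concretely, over a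
commutative ring R whose prime spectrum is connected and for ranks n_i ≥ 1: every family of group
homomorphisms α_B : GL_{n_1}(B) × ⋯ × GL_{n_r}(B) → Bˣ, one for each commutative R-algebra B and
natural in B, is given by α_B(s) = Π_i det(s_i)^{m_i} for a unique m ∈ ℤ^r. (The published statement
allows ranks n_i ≥ 0; uniqueness of m_i needs n_i ≥ 1, since Gl(0) is trivial.) -/
theorem result (R : Type u) [CommRing R] [ConnectedSpace (PrimeSpectrum R)]
    (r : ℕ) (n : Fin r → ℕ) (hn : ∀ i, 0 < n i)
    (α : ∀ (B : Type u) [CommRing B] [Algebra R B], (∀ i, Matrix.GeneralLinearGroup (Fin (n i)) B) →* Bˣ)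
    (hα : ∀ (B C : Type u) [CommRing B] [Algebra R B] [CommRing C] [Algebra R C] (φ : B →ₐ[R] C)
      (s : ∀ i, Matrix.GeneralLinearGroup (Fin (n i)) B),
      α C (fun i => Matrix.GeneralLinearGroup.map φ.toRingHom (s i)) = Units.map (φ.toRingHom : B →* C) (α B s)) :
    ∃! m : Fin r → ℤ, ∀ (B : Type u) [CommRing B] [Algebra R B] (s : ∀ i, Matrix.GeneralLinearGroup (Fin (n i)) B),
      α B s = ∏ i, Matrix.GeneralLinearGroup.det (s i) ^ (m i) := by
  classical
  haveI : Nontrivial R := Groth.Agent.Lib.lead.PolLawProd.nontrivial_of_conn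
  -- the `i`-th factor
  have hfac : ∀ i : Fin r, ∃ m : ℤ, ∀ (B : Type u) [CommRing B] [Algebra R B]
      (g : Matrix.GeneralLinearGroup (Fin (n i)) B),
      α B (Pi.mulSingle i g) = Matrix.GeneralLinearGroup.det g ^ m := by
    intro i
    let αi : ∀ (B : Type u) [CommRing B] [Algebra R B], Matrix.GeneralLinearGroup (Fin (n i)) B →* Bˣ :=
      fun B _ _ => (α B).comp (MonoidHom.mulSingle (fun k => Matrix.GeneralLinearGroup (Fin (n k)) B) i)
    have hαi : ∀ (B C : Type u) [CommRing B] [Algebra R B] [CommRing C] [Algebra R C] (φ : B →ₐ[R] C)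
        (g : Matrix.GeneralLinearGroup (Fin (n i)) B),
        αi C (Matrix.GeneralLinearGroup.map φ.toRingHom g) =
          Units.map (φ.toRingHom : B →* C) (αi B g) := by
      intro B C _ _ _ _ φ g
      have h := hα B C φ (Pi.mulSingle i g)
      have e : (fun k => Matrix.GeneralLinearGroup.map φ.toRingHom
          ((Pi.mulSingle i g : ∀ k, Matrix.GeneralLinearGroup (Fin (n k)) B) k)) =
          Pi.mulSingle i (Matrix.GeneralLinearGroup.map φ.toRingHom g) := by
        funext k
        exact Pi.apply_mulSingle (fun k => Matrix.GeneralLinearGroup.map (n := Fin (n k)) φ.toRingHom)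
          (fun k => map_one _) i g k
      rw [e] at h
      exact h
    exact GLChar.single R (n i) αi hαi (hn i)
  choose m hm using hfac
  have hex : ∀ (B : Type u) [CommRing B] [Algebra R B]
      (s : ∀ i, Matrix.GeneralLinearGroup (Fin (n i)) B),
      α B s = ∏ i, Matrix.GeneralLinearGroup.det (s i) ^ (m i) := by
    intro B _ _ s
    let ρ : (∀ i, Matrix.GeneralLinearGroup (Fin (n i)) B) →* Bˣ :=
      { toFun := fun s => ∏ i, Matrix.GeneralLinearGroup.det (s i) ^ (m i)
        map_one' := by simp
        map_mul' := fun s t => by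
          simp only [Pi.mul_apply, map_mul, mul_zpow, Finset.prod_mul_distrib] }
    have : α B = ρ := by
      apply MonoidHom.pi_ext
      intro i x
      rw [hm i B x]
      change _ = ∏ k, Matrix.GeneralLinearGroup.det
        ((Pi.mulSingle i x : ∀ k, Matrix.GeneralLinearGroup (Fin (n k)) B) k) ^ (m k)
      rw [Finset.prod_eq_single i]
      · rw [Pi.mulSingle_eq_same]
      · intro k _ hk
        rw [Pi.mulSingle_eq_of_ne hk, map_one, one_zpow]
      · intro h; exact absurd (Finset.mem_univ i) h
    rw [this]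
    rfl
  refine ⟨m, hex, ?_⟩
  intro m' hm'
  funext i
  -- test on the universal unit
  let U := LaurentPolynomial R
  let g : Matrix.GeneralLinearGroup (Fin (n i)) U := GLChar.oneParam (n i) U ⟨0, hn i⟩ (GmEnd.tU R)
  have h1 := hex U (Pi.mulSingle i g)
  have h2 := hm' U (Pi.mulSingle i g)
  have hprod : ∀ μ : Fin r → ℤ, ∏ k, Matrix.GeneralLinearGroup.det
      ((Pi.mulSingle i g : ∀ k, Matrix.GeneralLinearGroup (Fin (n k)) U) k) ^ (μ k) =
      GmEnd.tU R ^ (μ i) := by
    intro μ
    rw [Finset.prod_eq_single i]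
    · rw [Pi.mulSingle_eq_same, GLChar.det_oneParam]
    · intro k _ hk
      rw [Pi.mulSingle_eq_of_ne hk, map_one, one_zpow]
    · intro h; exact absurd (Finset.mem_univ i) h
  rw [hprod] at h1 h2
  exact GmEnd.tU_zpow_injective R (h2.symm.trans h1)

end Groth.Agent.S5659
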