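import Groth.Statements.S5666
import Groth.Agent.Lib.Helper2.KosExt2

set_option autoImplicit false
universe u
open CategoryTheory
open Dual

namespace Groth.Agent.S5666

open Groth.Agent.Lib.Helper2.KosExt1 Groth.Agent.Lib.Helper2.KosExt2
  Groth.Agent.Lib.Helper2.KosTor2 Groth.Agent.Lib.Helper21.ExactRes

/-- maps out of `A/J` into a module killed by `J`. -/
noncomputable def homQuotEquiv {A : Type u} [CommRing A] (J : Ideal A) (M : Type u)
    [AddCommGroup M] [Module A M] (h : ∀ a ∈ J, ∀ y : M, a • y = 0) :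
    ((A ⧸ J) →ₗ[A] M) ≃ₗ[A] M where
  toFun f := f (Submodule.Quotient.mk 1)
  invFun m := Submodule.liftQ J (LinearMap.toSpanSingleton A M m) (by
    intro a ha
    rw [LinearMap.mem_ker, LinearMap.toSpanSingleton_apply]
    exact h a ha m)
  map_add' f g := rfl
  map_smul' r f := rfl
  left_inv f := by
    apply LinearMap.ext
    intro z
    induction z using Submodule.Quotient.induction_on with
    | H a =>
      rw [Submodule.liftQ_apply, LinearMap.toSpanSingleton_apply, ← map_smul]
      congr 1
      change Submodule.Quotient.mk (a • (1 : A)) = _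
      rw [smul_eq_mul, mul_one]
  right_inv m := by
    change Submodule.liftQ J (LinearMap.toSpanSingleton A M m) _ (Submodule.Quotient.mk 1) = m
    rw [Submodule.liftQ_apply, LinearMap.toSpanSingleton_apply, one_smul]

/-- All degrees, for a module killed by `J`: let `A` be a commutative ring, `xs = (x_1, …, x_p)` a
sequence in `A` such that each `x_i` is a non-zero-divisor on `A/(x_1, …, x_{i-1})`, `J` the ideal
generated by the `x_i`, and `M` an `A`-module with `JM = 0`. Then for every `i`, `Ext^i_A(A/J, M)`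
is isomorphic as an `A`-module to `M^(p choose i)` (so it vanishes for `i > p`). (Existence of an
`A`-linear isomorphism only; the published one is `Ext^i_A(A/J, M) ≅ Hom_A(Λ^i(J/J^2), M)` with
`J/J^2` free of rank `p` over `A/J`.) -/
theorem result (A : Type u) [CommRing A] (xs : List A) (hreg : RingTheory.Sequence.IsWeaklyRegular A xs) (M : Type u) [AddCommGroup M] [Module A M] (hJM : Ideal.ofList xs • (⊤ : Submodule A M) = ⊥) (i : ℕ) : Nonempty (Abelian.Ext (ModuleCat.of A (A ⧸ Ideal.ofList xs)) (ModuleCat.of A M) i ≃ₗ[A] (Fin (xs.length.choose i) → M)) := by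
  have hkillJ : ∀ a ∈ Ideal.ofList xs, ∀ y : M, a • y = 0 := by
    intro a ha y
    have : a • y ∈ Ideal.ofList xs • (⊤ : Submodule A M) :=
      Submodule.smul_mem_smul ha Submodule.mem_top
    rw [hJM] at this
    exact (Submodule.mem_bot A).1 this
  have hkill : ∀ a ∈ xs, ∀ y : M, a • y = 0 := fun a ha y =>
    hkillJ a (Ideal.subset_span (show a ∈ {x : A | x ∈ xs} from ha)) y
  cases i with
  | zero =>
    rw [Nat.choose_zero_right]
    exact ⟨(Abelian.Ext.linearEquiv₀ (R := A)) ≪≫ₗ
      (ModuleCat.homLinearEquiv (M := ModuleCat.of A (A ⧸ Ideal.ofList xs))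
        (N := ModuleCat.of A M) (S := A)) ≪≫ₗ
      homQuotEquiv (Ideal.ofList xs) M hkillJ ≪≫ₗ (LinearEquiv.funUnique (Fin 1) A M).symm⟩
  | succ n =>
    obtain ⟨eZ⟩ := opcycles_iso xs
    set E := kosData xs hreg with hE
    have h1 : ∀ g : E.toRes.complex.X (n + 1) ⟶ ModuleCat.of A M,
        E.toRes.complex.d (n + 2) (n + 1) ≫ g = 0 := by
      intro g
      rw [show E.toRes.complex.d (n + 2) (n + 1) = E.d (n + 1) from E.complex_d (n + 1)]
      apply ModuleCat.hom_ext
      apply LinearMap.ext
      intro x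
      exact koszul_d_killed xs M hkill _ _ g.hom x
    have h2 : ∀ g : E.toRes.complex.X n ⟶ ModuleCat.of A M,
        E.toRes.complex.d (n + 1) n ≫ g = 0 := by
      intro g
      rw [show E.toRes.complex.d (n + 1) n = E.d n from E.complex_d n]
      apply ModuleCat.hom_ext
      apply LinearMap.ext
      intro x
      exact koszul_d_killed xs M hkill _ _ g.hom x
    obtain ⟨e1⟩ := ext_equiv_of_d_killed E.toRes (ModuleCat.of A M) n h1 h2
    obtain ⟨e2⟩ := koszul_hom_equiv xs (n + 1) M
    have e3 : (E.toRes.complex.X (n + 1) ⟶ ModuleCat.of A M) ≃ₗ[A]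
        ((Koszul.koszul A xs).X (-((n + 1 : ℕ) : ℤ)) →ₗ[A] M) :=
      ModuleCat.homLinearEquiv (M := E.toRes.complex.X (n + 1)) (N := ModuleCat.of A M) (S := A)
    exact ⟨(extCongrLeft eZ (ModuleCat.of A M) (n + 1)).symm ≪≫ₗ e1.symm ≪≫ₗ e3 ≪≫ₗ e2⟩

end Groth.Agent.S5666
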