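import Groth.Statements.S5672
import Mathlib
import Groth.Agent.S5671

set_option autoImplicit false
universe u
open CategoryTheory
open Dual

namespace Groth.Agent.S5672

open Abelian

section General

variable {A : Type u} [CommRing A]

/-- pullback along an epi is injective on `Ext^n` when `Ext^{n-1}` of the kernel vanishes -/
lemma precomp_injective {S : ShortComplex (ModuleCat.{u} A)} (hS : S.ShortExact)
    (Y : ModuleCat.{u} A) (n : ℕ) (h1 : ∀ n', n' + 1 = n → Subsingleton (Ext S.X₁ Y n'))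
    (x : Ext S.X₃ Y n) (hx : (Ext.mk₀ S.g).comp x (zero_add n) = 0) : x = 0 := by
  rcases n with _ | n'
  · haveI := hS.epi_g
    exact Ext.precomp_mk₀_injective_of_epi Y S.g (by simpa using hx)
  · obtain ⟨x₁, hx₁⟩ := Ext.contravariant_sequence_exact₃ hS Y x hx (add_comm 1 n')
    haveI := h1 n' rfl
    rw [← hx₁, Subsingleton.elim x₁ 0, Ext.comp_zero]

variable (J : Ideal A)

/-- `A/J` as an object. -/
noncomputable abbrev Bm : ModuleCat.{u} A := ModuleCat.of A (A ⧸ J)

/-- `(A/J)^a` as an object. -/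
noncomputable abbrev Fm (a : ℕ) : ModuleCat.{u} A := ModuleCat.of A (Fin a → A ⧸ J)

noncomputable def inj (a : ℕ) (j : Fin a) : Bm J ⟶ Fm J a :=
  ModuleCat.ofHom (LinearMap.single A (fun _ : Fin a => A ⧸ J) j)

noncomputable def pr (a : ℕ) (j : Fin a) : Fm J a ⟶ Bm J :=
  ModuleCat.ofHom (LinearMap.proj j)

lemma sum_pr_inj (a : ℕ) : ∑ j, pr J a j ≫ inj J a j = 𝟙 (Fm J a) := by
  refine ModuleCat.hom_ext (LinearMap.ext fun c => ?_)
  rw [ModuleCat.hom_sum]
  simp only [LinearMap.sum_apply]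
  funext k
  rw [Finset.sum_apply]
  show ∑ j, (LinearMap.single A (fun _ : Fin a => A ⧸ J) j (c j)) k = c k
  simp [LinearMap.single_apply, Pi.single_apply]

/-- additivity: a class on `(A/J)^a` vanishing on all coordinates is zero -/
lemma ext_eq_zero_of_forall {a : ℕ} {Y : ModuleCat.{u} A} {p : ℕ} (η : Ext (Fm J a) Y p)
    (h : ∀ j, (Ext.mk₀ (inj J a j)).comp η (zero_add p) = 0) : η = 0 := by
  rw [← Ext.mk₀_id_comp η, ← sum_pr_inj, Ext.mk₀_sum, Ext.sum_comp]
  apply Finset.sum_eq_zero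
  intro j _
  rw [← Ext.mk₀_comp_mk₀, Ext.comp_assoc_of_second_deg_zero, h j, Ext.comp_zero]

/-- endomorphisms of `A/J` are scalars -/
lemma exists_eq_smul_id (w : Bm J ⟶ Bm J) : ∃ r : A, w = r • 𝟙 (Bm J) := by
  obtain ⟨r, hr⟩ := Ideal.Quotient.mk_surjective (w.hom (1 : A ⧸ J))
  refine ⟨r, ModuleCat.hom_ext (LinearMap.ext fun y => ?_)⟩
  obtain ⟨b, rfl⟩ := Ideal.Quotient.mk_surjective y
  have hone : ∀ c : A, Ideal.Quotient.mk J c = c • (1 : A ⧸ J) := by
    intro c
    rw [Algebra.smul_def, mul_one]; rfl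
  have h2 : (r • 𝟙 (Bm J) : Bm J ⟶ Bm J).hom (Ideal.Quotient.mk J b) =
      r • Ideal.Quotient.mk J b := rfl
  rw [h2, hone b, map_smul, ← hr]
  show b • Ideal.Quotient.mk J r = r • b • (1 : A ⧸ J)
  rw [smul_comm, ← hone r]

end General

section Present

variable {A : Type u} [CommRing A] (J : Ideal A)

/-- the map `A/J → X` sending `1` to `x`, for `x` killed by `J` -/
noncomputable def toKilled {X : Type u} [AddCommGroup X] [Module A X]
    (hX : ∀ r ∈ J, ∀ x : X, r • x = 0) (x : X) : (A ⧸ J) →ₗ[A] X :=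
  Submodule.liftQ J (LinearMap.toSpanSingleton A X x) (by
    intro r hr
    rw [LinearMap.mem_ker, LinearMap.toSpanSingleton_apply]
    exact hX r hr x)

lemma toKilled_one {X : Type u} [AddCommGroup X] [Module A X]
    (hX : ∀ r ∈ J, ∀ x : X, r • x = 0) (x : X) : toKilled J hX x 1 = x := by
  show Submodule.liftQ J (LinearMap.toSpanSingleton A X x) _ (Submodule.Quotient.mk 1) = x
  rw [Submodule.liftQ_apply, LinearMap.toSpanSingleton_apply, one_smul]

/-- a linear map out of `A/J` is determined by the image of `1` -/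
lemma hom_ext_one {X : Type u} [AddCommGroup X] [Module A X] {u v : (A ⧸ J) →ₗ[A] X}
    (h : u 1 = v 1) : u = v := by
  apply LinearMap.ext
  intro y
  obtain ⟨b, rfl⟩ := Ideal.Quotient.mk_surjective y
  have hone : Ideal.Quotient.mk J b = b • (1 : A ⧸ J) := by
    rw [Algebra.smul_def, mul_one]; rfl
  rw [hone, map_smul, map_smul, h]

lemma killed_pi (a : ℕ) : ∀ r ∈ J, ∀ x : (Fin a → A ⧸ J), r • x = 0 := by
  intro r hr x
  funext j
  show r • x j = 0
  obtain ⟨b, hb⟩ := Ideal.Quotient.mk_surjective (x j)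
  rw [← hb]
  show Ideal.Quotient.mk J (r * b) = 0
  rw [Ideal.Quotient.eq_zero_iff_mem]
  exact Ideal.mul_mem_right _ _ hr

/-- finite modules killed by `J` are quotients of `(A/J)^a` -/
lemma exists_presentation (X : Type u) [AddCommGroup X] [Module A X] [Module.Finite A X]
    (hX : ∀ r ∈ J, ∀ x : X, r • x = 0) :
    ∃ (a : ℕ) (π : (Fin a → A ⧸ J) →ₗ[A] X), Function.Surjective π := by
  obtain ⟨a, s, hs⟩ := Module.Finite.exists_fin (R := A) (M := X)
  refine ⟨a, ∑ j, (toKilled J hX (s j)) ∘ₗ LinearMap.proj j, ?_⟩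
  rw [← LinearMap.range_eq_top, eq_top_iff, ← hs, Submodule.span_le]
  rintro _ ⟨j, rfl⟩
  refine ⟨Pi.single j 1, ?_⟩
  rw [LinearMap.sum_apply]
  rw [Finset.sum_eq_single j]
  · show toKilled J hX (s j) ((Pi.single j (1 : A ⧸ J) : Fin a → A ⧸ J) j) = s j
    rw [Pi.single_eq_same, toKilled_one]
  · intro k _ hk
    show toKilled J hX (s k) ((Pi.single j (1 : A ⧸ J) : Fin a → A ⧸ J) k) = 0
    rw [Pi.single_eq_of_ne hk, map_zero]
  · intro h
    exact absurd (Finset.mem_univ j) h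

end Present

section Eta

variable {A : Type u} [CommRing A] (J : Ideal A) {X : Type u} [AddCommGroup X] [Module A X]
  {Y : ModuleCat.{u} A} {p : ℕ}

/-- the class on `(A/J)^a` assembled from `g` -/
noncomputable def eta {a : ℕ} (π : (Fin a → A ⧸ J) →ₗ[A] X)
    (g : ((A ⧸ J) →ₗ[A] X) →ₗ[A] Ext (Bm J) Y p) : Ext (Fm J a) Y p :=
  ∑ j, (Ext.mk₀ (pr J a j)).comp
    (g (π ∘ₗ LinearMap.single A (fun _ : Fin a => A ⧸ J) j)) (zero_add p)

lemma mk₀_smul_id_comp (r : A) (ω : Ext (Bm J) Y p) :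
    (Ext.mk₀ (r • 𝟙 (Bm J))).comp ω (zero_add p) = r • ω := by
  rw [Ext.mk₀_smul, Ext.smul_comp, Ext.mk₀_id_comp]

lemma comp_eta {a : ℕ} (π : (Fin a → A ⧸ J) →ₗ[A] X)
    (g : ((A ⧸ J) →ₗ[A] X) →ₗ[A] Ext (Bm J) Y p) (v : (A ⧸ J) →ₗ[A] (Fin a → A ⧸ J)) :
    (Ext.mk₀ (ModuleCat.ofHom v : Bm J ⟶ Fm J a)).comp (eta J π g) (zero_add p) = g (π ∘ₗ v) := by
  have hr : ∀ j, ∃ r : A, (ModuleCat.ofHom v : Bm J ⟶ Fm J a) ≫ pr J a j = r • 𝟙 (Bm J) :=
    fun j => exists_eq_smul_id J _
  choose r hr using hr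
  unfold eta
  rw [Ext.comp_sum]
  have h1 : ∀ j, (Ext.mk₀ (ModuleCat.ofHom v : Bm J ⟶ Fm J a)).comp
      ((Ext.mk₀ (pr J a j)).comp
        (g (π ∘ₗ LinearMap.single A (fun _ : Fin a => A ⧸ J) j)) (zero_add p)) (zero_add p) =
      r j • g (π ∘ₗ LinearMap.single A (fun _ : Fin a => A ⧸ J) j) := by
    intro j
    rw [Ext.mk₀_comp_mk₀_assoc, hr j, mk₀_smul_id_comp]
  rw [Finset.sum_congr rfl (fun j _ => h1 j)]
  simp only [← map_smul]
  rw [← map_sum]
  congr 1
  apply hom_ext_one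
  rw [LinearMap.sum_apply]
  show ∑ j, (r j • (π ∘ₗ LinearMap.single A (fun _ : Fin a => A ⧸ J) j)) 1 = π (v 1)
  have hv : v 1 = ∑ j, Pi.single j (r j • (1 : A ⧸ J)) := by
    funext k
    rw [Finset.sum_apply, Finset.sum_eq_single k]
    · rw [Pi.single_eq_same]
      have := congrArg (fun φ => φ.hom (1 : A ⧸ J)) (hr k)
      exact this
    · intro j _ hjk
      rw [Pi.single_eq_of_ne hjk.symm]
    · intro h
      exact absurd (Finset.mem_univ k) h
  rw [hv, map_sum]
  apply Finset.sum_congr rfl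
  intro j _
  show r j • π (Pi.single j 1) = π (Pi.single j (r j • 1))
  rw [← map_smul]
  congr 1
  rw [← Pi.single_smul]

end Eta

section Main

variable {A : Type u} [CommRing A] [IsRegularLocalRing A] {p : ℕ} {J : Ideal A}
  (hJ : ringKrullDim (A ⧸ J) + p ≤ ringKrullDim A)

include hJ in
lemma ext_vanish (X : Type u) [AddCommGroup X] [Module A X] [Module.Finite A X]
    (hX : ∀ r ∈ J, ∀ x : X, r • x = 0) (i : ℕ) (hi : i < p) :
    Subsingleton (Ext (ModuleCat.of A X) (ModuleCat.of A A) i) := by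
  refine Groth.Agent.S5671.result A X p ?_ i hi
  have hle : J ≤ Module.annihilator A X := fun r hr => Module.mem_annihilator.2 (hX r hr)
  have h1 : Module.supportDim A X ≤ ringKrullDim (A ⧸ J) := by
    rw [Module.supportDim_eq_ringKrullDim_quotient_annihilator]
    exact ringKrullDim_le_of_surjective (Ideal.Quotient.factor hle)
      (Ideal.Quotient.factor_surjective hle)
  exact (add_le_add h1 le_rfl).trans hJ

/-- the short exact sequence attached to a surjection -/
lemma ker_shortExact {F X : Type u} [AddCommGroup F] [Module A F] [AddCommGroup X] [Module A X]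
    (π : F →ₗ[A] X) (hπ : Function.Surjective π) :
    (ShortComplex.mk (ModuleCat.ofHom (LinearMap.ker π).subtype) (ModuleCat.ofHom π)
      (by
        refine ModuleCat.hom_ext (LinearMap.ext fun y => ?_)
        exact y.2) : ShortComplex (ModuleCat.{u} A)).ShortExact :=
  ModuleCat.shortComplex_shortExact _ (LinearMap.exact_subtype_ker_map π)
    (Submodule.injective_subtype _) hπ

include hJ in
/-- pullback along a presentation is injective on `Ext^p(-, A)` -/
lemma pullback_injective {a : ℕ} {X : Type u} [AddCommGroup X] [Module A X]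
    (π : (Fin a → A ⧸ J) →ₗ[A] X) (hπ : Function.Surjective π)
    (ξ : Ext (ModuleCat.of A X) (ModuleCat.of A A) p)
    (h : (Ext.mk₀ (ModuleCat.ofHom π : Fm J a ⟶ ModuleCat.of A X)).comp ξ (zero_add p) = 0) :
    ξ = 0 := by
  have hK : ∀ r ∈ J, ∀ x : LinearMap.ker π, r • x = 0 := by
    intro r hr x
    apply Subtype.ext
    exact killed_pi J a r hr x.1
  exact precomp_injective (ker_shortExact π hπ) (ModuleCat.of A A) p
    (fun n' hn' => ext_vanish hJ (LinearMap.ker π) hK n' (by omega)) ξ h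

end Main


/-- Let `A` be a regular local ring of dimension `n`, `J` an ideal with `dim(A/J) ≤ n - p`, and `M` a
finite `A`-module with `JM = 0`. For `ξ ∈ Ext^p_A(M, A)` and an `A`-linear `u : A/J → M` write `u^*ξ
∈ Ext^p_A(A/J, A)` for the pullback. Then `ξ ↦ (u ↦ u^*ξ)` is injective, and every `A`-linear map
`Hom_A(A/J, M) → Ext^p_A(A/J, A)` is of the form `u ↦ u^*ξ` for some `ξ`. Since `Hom_A(A/J, M) = M`
here, this says that the canonical map `Ext^p_A(M, A) → Hom_A(M, Ext^p_A(A/J, A))` is bijective. -/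
theorem result (A : Type u) [CommRing A] [IsRegularLocalRing A] (p : ℕ) (J : Ideal A) (hJ : ringKrullDim (A ⧸ J) + p ≤ ringKrullDim A) (M : Type u) [AddCommGroup M] [Module A M] [Module.Finite A M] (hJM : J • (⊤ : Submodule A M) = ⊥) : Function.Injective (fun ξ : Abelian.Ext (ModuleCat.of A M) (ModuleCat.of A A) p => fun u : (A ⧸ J) →ₗ[A] M => (Abelian.Ext.mk₀ (ModuleCat.ofHom u)).comp ξ (zero_add p)) ∧ ∀ g : ((A ⧸ J) →ₗ[A] M) →ₗ[A] Abelian.Ext (ModuleCat.of A (A ⧸ J)) (ModuleCat.of A A) p, ∃ ξ : Abelian.Ext (ModuleCat.of A M) (ModuleCat.of A A) p, ∀ u : (A ⧸ J) →ₗ[A] M, g u = (Abelian.Ext.mk₀ (ModuleCat.ofHom u)).comp ξ (zero_add p) := by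
  have hM : ∀ r ∈ J, ∀ x : M, r • x = 0 := by
    intro r hr x
    have : r • x ∈ J • (⊤ : Submodule A M) := Submodule.smul_mem_smul hr Submodule.mem_top
    rw [hJM] at this
    exact (Submodule.mem_bot A).1 this
  obtain ⟨a, π, hπ⟩ := exists_presentation J M hM
  constructor
  · intro ξ₁ ξ₂ h
    have hsub : ∀ u : (A ⧸ J) →ₗ[A] M,
        (Ext.mk₀ (ModuleCat.ofHom u : Bm J ⟶ ModuleCat.of A M)).comp (ξ₁ - ξ₂) (zero_add p) = 0 := by
      intro u
      have := congrFun h u
      rw [sub_eq_add_neg, Ext.comp_add, Ext.comp_neg]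
      exact add_neg_eq_zero.2 this
    have h0 : ξ₁ - ξ₂ = 0 := by
      apply pullback_injective hJ π hπ
      apply ext_eq_zero_of_forall J
      intro j
      rw [Ext.mk₀_comp_mk₀_assoc]
      exact hsub (π ∘ₗ LinearMap.single A (fun _ : Fin a => A ⧸ J) j)
    exact sub_eq_zero.1 h0
  · intro g
    have hK : ∀ r ∈ J, ∀ x : LinearMap.ker π, r • x = 0 := by
      intro r hr x
      apply Subtype.ext
      exact killed_pi J a r hr x.1
    haveI : IsNoetherian A (Fin a → A ⧸ J) := isNoetherian_of_isNoetherianRing_of_finite A _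
    haveI : Module.Finite A (LinearMap.ker π) := inferInstance
    obtain ⟨b, π', hπ'⟩ := exists_presentation J (LinearMap.ker π) hK
    have hS := ker_shortExact π hπ
    have h1 : (Ext.mk₀ (ModuleCat.ofHom (LinearMap.ker π).subtype :
        ModuleCat.of A (LinearMap.ker π) ⟶ Fm J a)).comp (eta J π g) (zero_add p) = 0 := by
      apply pullback_injective hJ π' hπ'
      apply ext_eq_zero_of_forall J
      intro l
      rw [Ext.mk₀_comp_mk₀_assoc, Ext.mk₀_comp_mk₀_assoc]
      have h2 := comp_eta J π g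
        ((LinearMap.ker π).subtype ∘ₗ π' ∘ₗ LinearMap.single A (fun _ : Fin b => A ⧸ J) l)
      have hz : π ∘ₗ (LinearMap.ker π).subtype ∘ₗ π' ∘ₗ
          LinearMap.single A (fun _ : Fin b => A ⧸ J) l = 0 := by
        apply LinearMap.ext
        intro y
        exact (π' (LinearMap.single A (fun _ : Fin b => A ⧸ J) l y)).2
      rw [hz, map_zero] at h2
      exact h2
    obtain ⟨ξ, hξ⟩ := Ext.contravariant_sequence_exact₂ hS (ModuleCat.of A A) (eta J π g) h1
    refine ⟨ξ, fun u => ?_⟩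
    obtain ⟨f, hf⟩ := hπ (u 1)
    have hu : π ∘ₗ toKilled J (killed_pi J a) f = u := by
      apply hom_ext_one
      show π (toKilled J (killed_pi J a) f 1) = u 1
      rw [toKilled_one, hf]
    have h3 := comp_eta J π g (toKilled J (killed_pi J a) f)
    rw [hu] at h3
    rw [← h3, ← hξ, Ext.mk₀_comp_mk₀_assoc]
    congr 2
    exact congrArg ModuleCat.ofHom hu

end Groth.Agent.S5672
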