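import Groth.Statements.S5673
import Mathlib
import Groth.Agent.Lib.Helper21.TorSeq

set_option autoImplicit false
set_option backward.isDefEq.respectTransparency false
set_option backward.defeqAttrib.useBackward true
universe u
open CategoryTheory
open Dual

namespace Groth.Agent.S5673

universe v

open Limits HomologicalComplex Groth.Agent.Lib.Helper21.TorLES
  Groth.Agent.Lib.Helper21.TorSeq

section Abstract

variable {A : Type u} [Category.{v} A] [Abelian A]
  {D : Type*} [Category D] [Abelian D]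
  {F₁ F₂ F₃ : A ⥤ D} [F₁.Additive] [F₂.Additive] [F₃.Additive]
  (α : F₁ ⟶ F₂) (β : F₂ ⟶ F₃) (w : α ≫ β = 0)
  {X : A} (P : ProjectiveResolution X)
  (h : ∀ (Q : A) [Projective Q],
    (ShortComplex.mk (α.app Q) (β.app Q) (by rw [← NatTrans.comp_app, w]; rfl)).ShortExact)

/-- `H_{n+1}(F₃ P) ≅ ker(H_n(F₁ P) → H_n(F₂ P))` when `H_{n+1}(F₂ P) = 0`. -/
noncomputable def HsuccIsoKernel (n : ℕ) (h2 : IsZero (H P F₂ (n + 1))) :
    H P F₃ (n + 1) ≅ kernel (HomologicalComplex.homologyMap
      ((NatTrans.mapHomologicalComplex α (ComplexShape.down ℕ)).app P.complex) n) := by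
  have hS := sc_shortExact α β w P h
  have hex := hS.homology_exact₁ (n + 1) n (by simp)
  have hmono : Mono (hS.δ (n + 1) n (by simp)) := hS.mono_δ (n + 1) n (by simp) h2
  have hker := hex.fIsKernel
  exact IsLimit.conePointUniqueUpToIso hker (limit.isLimit _)

end Abstract

section Tors

variable {R : Type u} [CommRing R]

/-- transport of `r`-torsion along a linear equivalence -/
noncomputable def torsionByCongr {X Y : Type*} [AddCommGroup X] [Module R X] [AddCommGroup Y]
    [Module R Y] (e : X ≃ₗ[R] Y) (r : R) :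
    Submodule.torsionBy R X r ≃ₗ[R] Submodule.torsionBy R Y r :=
  LinearEquiv.ofSubmodules e _ _ (by
    ext y
    rw [Submodule.mem_map, Submodule.mem_torsionBy_iff]
    constructor
    · rintro ⟨x, hx, rfl⟩
      rw [Submodule.mem_torsionBy_iff] at hx
      show r • e x = 0
      rw [← map_smul, hx, map_zero]
    · intro hy
      refine ⟨e.symm y, ?_, ?_⟩
      · rw [Submodule.mem_torsionBy_iff, ← map_smul, hy, map_zero]
      · exact e.apply_symm_apply y)

variable (M : Type u) [AddCommGroup M] [Module R M]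

/-- `r`-torsion inside `I`-torsion is `(I + (r))`-torsion. -/
noncomputable def torsionStep (I : Ideal R) (r : R) :
    Submodule.torsionBy R (Submodule.torsionBySet R M (I : Set R)) r ≃ₗ[R]
      Submodule.torsionBySet R M ((I ⊔ Ideal.span {r} : Ideal R) : Set R) := by
  let f : Submodule.torsionBy R (Submodule.torsionBySet R M (I : Set R)) r →ₗ[R] M :=
    (Submodule.torsionBySet R M (I : Set R)).subtype ∘ₗ (Submodule.torsionBy R _ r).subtype
  have hf : ∀ x, f x ∈ Submodule.torsionBySet R M ((I ⊔ Ideal.span {r} : Ideal R) : Set R) := by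
    intro x
    rw [Submodule.mem_torsionBySet_iff]
    rintro ⟨a, ha⟩
    obtain ⟨b, hb, c, hc, rfl⟩ := Submodule.mem_sup.1 ha
    obtain ⟨d, rfl⟩ := Ideal.mem_span_singleton'.1 hc
    have h1 : b • f x = 0 := by
      have := (Submodule.mem_torsionBySet_iff _ _).1 (x : Submodule.torsionBySet R M (I : Set R)).2
      exact this ⟨b, hb⟩
    have h2 : r • f x = 0 := by
      have h3 : r • (x : Submodule.torsionBySet R M (I : Set R)) = 0 :=
        (Submodule.mem_torsionBy_iff _ _).1 x.2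
      exact congrArg Subtype.val h3
    show (b + d * r) • f x = 0
    rw [add_smul, h1, mul_smul, h2, smul_zero, add_zero]
  refine LinearEquiv.ofBijective (LinearMap.codRestrict _ f hf) ⟨?_, ?_⟩
  · intro x y hxy
    have h1 := Subtype.ext_iff.1 hxy
    exact Subtype.ext (Subtype.ext h1)
  · rintro ⟨m, hm⟩
    rw [Submodule.mem_torsionBySet_iff] at hm
    have hmI : m ∈ Submodule.torsionBySet R M (I : Set R) := by
      rw [Submodule.mem_torsionBySet_iff]
      rintro ⟨a, ha⟩
      exact hm ⟨a, Ideal.mem_sup_left ha⟩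
    have hmr : (⟨m, hmI⟩ : Submodule.torsionBySet R M (I : Set R)) ∈
        Submodule.torsionBy R (Submodule.torsionBySet R M (I : Set R)) r := by
      rw [Submodule.mem_torsionBy_iff]
      apply Subtype.ext
      exact hm ⟨r, Ideal.mem_sup_right (Ideal.mem_span_singleton_self r)⟩
    exact ⟨⟨⟨m, hmI⟩, hmr⟩, rfl⟩

/-- `Hom(R/J, M)` is the `J`-torsion of `M`. -/
noncomputable def homQuotEquiv (J : Ideal R) :
    Submodule.torsionBySet R M (J : Set R) ≃ₗ[R] ((R ⧸ J) →ₗ[R] M) := by
  let f : ((R ⧸ J) →ₗ[R] M) →ₗ[R] M :=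
    { toFun := fun φ => φ 1
      map_add' := fun _ _ => rfl
      map_smul' := fun _ _ => rfl }
  have hf : ∀ φ, f φ ∈ Submodule.torsionBySet R M (J : Set R) := by
    intro φ
    rw [Submodule.mem_torsionBySet_iff]
    rintro ⟨a, ha⟩
    show a • φ 1 = 0
    rw [← map_smul]
    have : a • (1 : R ⧸ J) = Ideal.Quotient.mk J a := by
      rw [Algebra.smul_def, mul_one]
      rfl
    rw [this, Ideal.Quotient.eq_zero_iff_mem.2 ha, map_zero]
  refine (LinearEquiv.ofBijective (LinearMap.codRestrict _ f hf) ⟨?_, ?_⟩).symm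
  · intro φ ψ h
    have h1 : φ 1 = ψ 1 := congrArg Subtype.val h
    apply LinearMap.ext
    intro y
    obtain ⟨a, rfl⟩ := Ideal.Quotient.mk_surjective y
    have : Ideal.Quotient.mk J a = a • (1 : R ⧸ J) := by
      rw [Algebra.smul_def, mul_one]
      rfl
    rw [this, map_smul, map_smul, h1]
  · rintro ⟨m, hm⟩
    rw [Submodule.mem_torsionBySet_iff] at hm
    have hle : J ≤ LinearMap.ker (LinearMap.toSpanSingleton R M m) := by
      intro a ha
      rw [LinearMap.mem_ker, LinearMap.toSpanSingleton_apply]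
      exact hm ⟨a, ha⟩
    refine ⟨Submodule.liftQ J (LinearMap.toSpanSingleton R M m) hle, ?_⟩
    apply Subtype.ext
    show Submodule.liftQ J (LinearMap.toSpanSingleton R M m) hle (Submodule.Quotient.mk 1) = m
    rw [Submodule.liftQ_apply, LinearMap.toSpanSingleton_apply, one_smul]

end Tors

section T1

open MonoidalCategory Groth.Agent.Lib.Helper21.TorShift

variable {R : Type u} [CommRing R]
variable {M₁ M₃ : ModuleCat.{u} R} (r : R) (g : M₁ ⟶ M₃) (w : (r • 𝟙 M₁) ≫ g = 0)
  (hS : (ShortComplex.mk (r • 𝟙 M₁) g w).ShortExact) (N : ModuleCat.{u} R)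

include hS in
/-- `Tor_{n+1}(M₃, N)` is the `r`-torsion of `Tor_n(M₁, N)` when `Tor_{n+1}(M₁, N) = 0`. -/
lemma tor_succ_equiv_torsionBy (n : ℕ)
    (h2 : IsZero (((Tor (ModuleCat.{u} R) (n + 1)).obj M₁).obj N)) :
    Nonempty ((((Tor (ModuleCat.{u} R) (n + 1)).obj M₃).obj N : ModuleCat.{u} R) ≃ₗ[R]
      Submodule.torsionBy R (((Tor (ModuleCat.{u} R) n).obj M₁).obj N : ModuleCat.{u} R) r) := by
  let P := ProjectiveResolution.of N
  have e := fun (M : ModuleCat.{u} R) (k : ℕ) =>
    P.isoLeftDerivedObj ((tensoringLeft (ModuleCat.{u} R)).obj M) k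
  let X := H P ((tensoringLeft (ModuleCat.{u} R)).obj M₁) n
  have i1 := e M₃ (n + 1)
  have i2 := HsuccIsoKernel _ _ (map_comp_zero (r • 𝟙 M₁) g w) P
    (fun Q _ => shortExact_app (r • 𝟙 M₁) g w hS Q) n (IsZero.of_iso h2 (e M₁ (n + 1)).symm)
  have i3 : kernel (HomologicalComplex.homologyMap
      ((NatTrans.mapHomologicalComplex ((tensoringLeft (ModuleCat.{u} R)).map (r • 𝟙 M₁))
        (ComplexShape.down ℕ)).app P.complex) n) ≅ kernel (r • 𝟙 X) :=
    kernelIsoOfEq (homologyMap_smul_left M₁ r P n)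
  have i4 := ModuleCat.kernelIsoKer (r • 𝟙 X)
  have hker : LinearMap.ker (r • 𝟙 X : X ⟶ X).hom = Submodule.torsionBy R X r := by
    ext x
    rw [LinearMap.mem_ker, Submodule.mem_torsionBy_iff]
    rfl
  have l1 : (((Tor (ModuleCat.{u} R) (n + 1)).obj M₃).obj N : ModuleCat.{u} R) ≃ₗ[R]
      LinearMap.ker (r • 𝟙 X : X ⟶ X).hom := (i1 ≪≫ i2 ≪≫ i3 ≪≫ i4).toLinearEquiv
  have l2 : LinearMap.ker (r • 𝟙 X : X ⟶ X).hom ≃ₗ[R] Submodule.torsionBy R X r :=
    LinearEquiv.ofEq _ _ hker
  have l3 := torsionByCongr (e M₁ n).symm.toLinearEquiv r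
  exact ⟨l1 ≪≫ₗ l2 ≪≫ₗ l3⟩

end T1

section Chain

open RingTheory.Sequence MonoidalCategory

variable {A : Type u} [CommRing A] (M : Type u) [AddCommGroup M] [Module A M]

/-- the claim at an ideal `I` and degree `k` -/
def Claim (I : Ideal A) (k : ℕ) : Prop :=
  (∀ i, k < i → IsZero (((Tor (ModuleCat.{u} A) i).obj (ModuleCat.of A (A ⧸ I))).obj
    (ModuleCat.of A M))) ∧
  Nonempty ((((Tor (ModuleCat.{u} A) k).obj (ModuleCat.of A (A ⧸ I))).obj
    (ModuleCat.of A M) : ModuleCat.{u} A) ≃ₗ[A] Submodule.torsionBySet A M (I : Set A))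

lemma claim_bot : Claim M (⊥ : Ideal A) 0 := by
  refine ⟨fun i hi => torVanish_bot M i hi, ?_⟩
  have e0 := ((Functor.leftDerivedZeroIsoSelf (tensorLeft (ModuleCat.of A (A ⧸ (⊥ : Ideal A))))).app
    (ModuleCat.of A M)).toLinearEquiv
  have e1 := TensorProduct.quotTensorEquivQuotSMul M (⊥ : Ideal A)
  have e2 : (M ⧸ ((⊥ : Ideal A) • ⊤ : Submodule A M)) ≃ₗ[A] M :=
    Submodule.quotEquivOfEqBot _ (Submodule.bot_smul _)
  have htop : Submodule.torsionBySet A M ((⊥ : Ideal A) : Set A) = ⊤ := by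
    rw [eq_top_iff]
    intro m _
    rw [Submodule.mem_torsionBySet_iff]
    rintro ⟨a, ha⟩
    have : a = 0 := ha
    subst this
    exact zero_smul A m
  have e3 : M ≃ₗ[A] Submodule.torsionBySet A M ((⊥ : Ideal A) : Set A) :=
    (LinearEquiv.ofTop _ htop).symm
  exact ⟨e0 ≪≫ₗ e1 ≪≫ₗ e2 ≪≫ₗ e3⟩

variable {M} in
lemma claim_step {I : Ideal A} {r : A} (hr : IsSMulRegular (A ⧸ I) r) {k : ℕ}
    (h : Claim M I k) : Claim M (I ⊔ Ideal.span {r}) (k + 1) := by
  have hS := quot_shortExact hr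
  refine ⟨fun i hi => ?_, ?_⟩
  · obtain ⟨j, rfl⟩ : ∃ j, i = j + 1 := ⟨i - 1, by omega⟩
    exact isZero_tor_succ_of_isZero _ _ _ hS (ModuleCat.of A M) j (h.1 (j + 1) (by omega))
      (h.1 j (by omega))
  · obtain ⟨l1⟩ := tor_succ_equiv_torsionBy r _ _ hS (ModuleCat.of A M) k (h.1 (k + 1) (by omega))
    obtain ⟨l2⟩ := h.2
    exact ⟨l1 ≪≫ₗ torsionByCongr l2 r ≪≫ₗ torsionStep M I r⟩

theorem claim_ofList {xs : List A} (hreg : IsWeaklyRegular A xs) :
    Claim M (Ideal.ofList xs) xs.length := by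
  have key : ∀ k, k ≤ xs.length → Claim M (Ideal.ofList (xs.take k)) k := by
    intro k
    induction k with
    | zero =>
      intro _
      rw [List.take_zero, Ideal.ofList_nil]
      exact claim_bot M
    | succ k ih =>
      intro hk
      rw [ofList_take_succ xs k hk]
      exact claim_step (regular_quot hreg k hk) (ih (by omega))
  have := key xs.length le_rfl
  rwa [List.take_length] at this

end Chain


/-- Let `A` be a commutative ring, `xs = (x_1, …, x_p)` a sequence in `A` such that each `x_i` is a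
non-zero-divisor on `A/(x_1, …, x_{i-1})`, `J` the ideal generated by the `x_i` and `M` any
`A`-module. Then `Tor_p^A(A/J, M)` (Mathlib's `Tor'`, the left derived functors of `- ⊗ M` evaluated
at `A/J`, i.e. computed from a resolution of `A/J`) is isomorphic as an `A`-module to `Hom_A(A/J,
M)`, i.e. to the elements of `M` killed by `J`. (Existence of an `A`-linear isomorphism only; the
published one is induced by the Koszul complex of `xs`.) -/
theorem result (A : Type u) [CommRing A] (xs : List A) (hreg : RingTheory.Sequence.IsWeaklyRegular A xs) (M : Type u) [AddCommGroup M] [Module A M] : Nonempty (↑(((Tor' (ModuleCat.{u} A) xs.length).obj (ModuleCat.of A (A ⧸ Ideal.ofList xs))).obj (ModuleCat.of A M)) ≃ₗ[A] ((A ⧸ Ideal.ofList xs) →ₗ[A] M)) := by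
  obtain ⟨l1⟩ := (claim_ofList M hreg).2
  obtain ⟨e⟩ := balance xs.length (ModuleCat.of A (A ⧸ Ideal.ofList xs)) (ModuleCat.of A M)
  have e' : ((Tor' (ModuleCat.{u} A) xs.length).obj (ModuleCat.of A (A ⧸ Ideal.ofList xs))).obj
      (ModuleCat.of A M) ≅ Tor'' xs.length (ModuleCat.of A (A ⧸ Ideal.ofList xs))
        (ModuleCat.of A M) := Iso.refl _
  exact ⟨(e' ≪≫ e.symm).toLinearEquiv ≪≫ₗ l1 ≪≫ₗ homQuotEquiv M (Ideal.ofList xs)⟩

end Groth.Agent.S5673
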