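import Groth.Statements.S5674
import Groth.Agent.Lib.Helper6.ExtShCodim
import Groth.Agent.Lib.Helper6.LocGlobExtVanish
import Groth.Agent.Lib.helper19.KleimanSmooth
import Groth.Agent.Lib.lead.SmoothRelDim
import Mathlib

set_option backward.isDefEq.respectTransparency.types false

set_option autoImplicit false
universe u
open CategoryTheory CategoryTheory.Limits AlgebraicGeometry
open ProjDual

namespace Groth.Agent.S5674

/-- Let `k` be an algebraically closed field, `X` a nonsingular algebraic set of dimension `n` over `k`
— here: a quasi-compact `k`-scheme smooth of relative dimension `n` over `k` — `F` a coherent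
`O_X`-module whose support has dimension at most `n - p`, and `L` a finite locally free
`O_X`-module. Then the (global) groups `Ext^i_{O_X}(F, L)` vanish for `i < p`. (All components of
`X` have dimension `n`; for a nonsingular algebraic set with a component of smaller dimension the
conclusion fails. The Ext instance on the category of `O_X`-modules is taken as a hypothesis; it
holds since that category is Grothendieck abelian.) -/
theorem result (k : Type u) [Field k] [IsAlgClosed k] (n : ℕ) (X : Scheme.{u}) [X.Over (Spec (CommRingCat.of k))] [SmoothOfRelativeDimension n (X ↘ Spec (CommRingCat.of k))] [CompactSpace X] [HasExt.{u} X.Modules] (F : X.Modules) (hF : Coh.IsCoh F) (L : X.Modules) (hL : FlatMod.IsFinLocFree L) (p : ℕ) (hsupp : topologicalKrullDim ↥(CohB1.support F) + p ≤ n) (i : ℕ) (hi : i < p) : Subsingleton (Abelian.Ext F L i) := by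
  haveI : Smooth (X ↘ Spec (CommRingCat.of k)) := SmoothOfRelativeDimension.smooth n _
  haveI : LocallyOfFiniteType (X ↘ Spec (CommRingCat.of k)) := inferInstance
  haveI : IsLocallyNoetherian X :=
    LocallyOfFiniteType.isLocallyNoetherian (X ↘ Spec (CommRingCat.of k))
  have hreg : ∀ x : X, IsRegularLocalRing (X.presheaf.stalk x) := fun x =>
    Groth.Agent.Lib.Helper19.KleimanSmooth.regular_of_smooth k (X ↘ Spec (CommRingCat.of k)) x
  have hloc : ∀ x : X, FlatMor.localDim X x = (n : WithBot ℕ∞) := fun x => by
    rw [← Groth.Agent.Lib.lead.SmoothRelDim.S2768 n (X ↘ Spec (CommRingCat.of k)) x]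
    exact (Groth.Agent.Lib.lead.SmoothRelDim.fibreDimAt_over_field (K := CommRingCat.of k)
      (Field.toIsField k) (X ↘ Spec (CommRingCat.of k)) x).symm
  haveI : ModSite.HasSheafHom (O := X.sheaf) F :=
    Groth.Agent.Lib.Helper1.TensorAdj.hasSheafHom _ _
  haveI := Groth.Agent.Lib.Helper6.ExtShCoh.hasInjectiveResolutions X
  haveI : HasExt.{u} (ModSite.Mod X.sheaf) := inferInstanceAs (HasExt.{u} X.Modules)
  have hvan : ∀ b : ℕ, b < p → IsZero ((ModSite.extSh (O := X.sheaf) F b).obj L) := fun b hb =>
    Groth.Agent.Lib.Helper6.ExtShCodim.isZero_extSh_of_codim k X hreg n p hloc F hF hsupp L hL b hb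
  exact Groth.Agent.Lib.Helper6.LocGlobExtVanish.subsingleton_ext_of_isZero_extSh X.sheaf F L p
    hvan i hi


end Groth.Agent.S5674
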