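import Groth.Statements.S5680
import Groth.Agent.Lib.Helper17.PicRoot
import Mathlib
set_option backward.isDefEq.respectTransparency.types false

set_option autoImplicit false
universe u
open CategoryTheory CategoryTheory.Limits AlgebraicGeometry
open FGA

namespace Groth.Agent.S5680

/-- Let A be an artinian local ring with maximal ideal m and ν ≥ 1 an integer with m^(ν+1) = 0; let X be
a scheme proper and flat over Spec A, n a natural number whose image in the residue field of A is
nonzero, L an invertible module on X and L' an invertible module on the closed subscheme X ×_A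
Spec(A/m^ν) whose n-th tensor power is isomorphic to the pullback of L. Then there is an invertible
module M on X whose n-th tensor power is isomorphic to L (existence of an isomorphism). -/
theorem result (A : Type u) [CommRing A] [IsArtinianRing A] [IsLocalRing A]
    (ν : ℕ) (hν : 1 ≤ ν) (hm : IsLocalRing.maximalIdeal A ^ (ν + 1) = ⊥)
    (X : Scheme.{u}) (f : X ⟶ Spec (CommRingCat.of A)) [IsProper f] [Flat f]
    (n : ℕ) (hn : (n : IsLocalRing.ResidueField A) ≠ 0)
    (L : X.Modules) (hL : PicF.IsInvertible L)
    (L' : (pullback f (Spec.map (CommRingCat.ofHom (Ideal.Quotient.mk (IsLocalRing.maximalIdeal A ^ ν))))).Modules)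
    (hL' : PicF.IsInvertible L')
    (hroot : Nonempty (CohB1.tensorPow L' n ≅
      (Scheme.Modules.pullback (pullback.fst f (Spec.map (CommRingCat.ofHom (Ideal.Quotient.mk (IsLocalRing.maximalIdeal A ^ ν)))))).obj L)) :
    ∃ M : X.Modules, PicF.IsInvertible M ∧ Nonempty (CohB1.tensorPow M n ≅ L) := by
  obtain ⟨τ⟩ := hroot
  let 𝔪 := IsLocalRing.maximalIdeal A
  let j := Spec.map (CommRingCat.ofHom (Ideal.Quotient.mk (𝔪 ^ ν)))
  haveI hj : IsClosedImmersion j := IsClosedImmersion.spec_of_surjective _ Ideal.Quotient.mk_surjective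
  haveI hjs : Surjective j := by
    constructor
    intro P
    have h1 := _root_.range_comap_of_surjective _ _ (Ideal.Quotient.mk_surjective (I := 𝔪 ^ ν))
    have h2 : PrimeSpectrum.zeroLocus ((RingHom.ker (Ideal.Quotient.mk (𝔪 ^ ν)) : Ideal A) : Set A) =
        Set.univ := by
      rw [PrimeSpectrum.zeroLocus_eq_univ_iff]
      intro x hx
      rw [Ideal.mk_ker] at hx
      change IsNilpotent x
      refine ⟨ν + 1, ?_⟩
      have h3 : x ^ (ν + 1) ∈ 𝔪 ^ (ν + 1) :=
        Ideal.pow_mem_pow (Ideal.pow_le_self (by omega) hx) (ν + 1)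
      rw [hm] at h3
      exact h3
    have h3 : P ∈ Set.range (PrimeSpectrum.comap (Ideal.Quotient.mk (𝔪 ^ ν))) := by
      rw [h1, h2]; trivial
    obtain ⟨Q, hQ⟩ := h3
    exact ⟨Q, hQ⟩
  haveI : IsClosedImmersion (pullback.fst f j) := MorphismProperty.pullback_fst _ _ hj
  haveI : Surjective (pullback.fst f j) := MorphismProperty.pullback_fst (P := @Surjective) _ _ hjs
  have hnA : IsUnit (n : A) := by
    by_contra hcon
    have hmem : (n : A) ∈ 𝔪 := (IsLocalRing.mem_maximalIdeal _).2 hcon
    apply hn
    have h1 : IsLocalRing.residue A (n : A) = 0 := (IsLocalRing.residue_eq_zero_iff _).2 hmem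
    rw [map_natCast] at h1
    exact h1
  have hu : IsUnit (n : Γ(pullback f j, ⊤)) := by
    let φ : A →+* Γ(pullback f j, ⊤) :=
      ((Scheme.ΓSpecIso (CommRingCat.of A)).inv ≫ (pullback.fst f j ≫ f).appTop).hom
    have := hnA.map φ
    rwa [map_natCast] at this
  exact Groth.Agent.Lib.Helper17.PicH1.exists_root (pullback.fst f j) n hu L hL L' hL' τ

end Groth.Agent.S5680
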