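import Groth.Statements.S5684
import Groth.Agent.Lib.Helper17.FlatBCUnit
import Groth.Agent.Lib.Helper17.InvDescLoc
import Groth.Agent.Lib.Helper28.GenIso
import Groth.Agent.Lib.Helper28.PullbackInv
import Groth.Agent.S0232
import Mathlib
set_option backward.isDefEq.respectTransparency.types false

set_option autoImplicit false
universe u
open CategoryTheory CategoryTheory.Limits AlgebraicGeometry
open FGA

namespace Groth.Agent.S5684
open TopologicalSpace
open Groth.Agent.Lib.Helper28 Groth.Agent.Lib.Helper28.QCohLoc Groth.Agent.Lib.Helper28.GenLocus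
open Groth.Agent.Lib.Helper17 Groth.Agent.Lib.Helper17.InvDescLoc Groth.Agent.Lib.Helper28.PullbackInv


/-- Let f : X ⟶ S be quasi-compact and separated with the induced maps from sections of the structure
sheaf of S to sections of the structure sheaf of X bijective over every open of S, and let g : S' ⟶
S be flat, surjective and quasi-compact. If L is an invertible module on X whose pullback to X ×_S
S' is isomorphic to the pullback along the second projection of some invertible module on S', then L
is isomorphic to the pullback along f of some invertible module on S. -/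
theorem result {X S S' : Scheme.{u}} (f : X ⟶ S)
    [QuasiCompact f] [IsSeparated f] (hf : ∀ U : S.Opens, Function.Bijective (f.app U))
    (g : S' ⟶ S) [Flat g] [Surjective g] [QuasiCompact g]
    (L : X.Modules) (hL : PicF.IsInvertible L)
    (hdesc : ∃ N' : S'.Modules, PicF.IsInvertible N' ∧
      Nonempty ((Scheme.Modules.pullback (pullback.fst f g)).obj L ≅ (Scheme.Modules.pullback (pullback.snd f g)).obj N')) :
    ∃ N : S.Modules, PicF.IsInvertible N ∧ Nonempty (L ≅ (Scheme.Modules.pullback f).obj N) := by
  obtain ⟨N', hN', ⟨ε⟩⟩ := hdesc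
  have h : IsPullback (pullback.fst f g) (pullback.snd f g) f g := IsPullback.of_hasPullback f g
  have hf' : ∀ W' : S'.Opens, Function.Bijective ((pullback.snd f g).app W') :=
    FlatBCUnit.bijective_app_baseChange f g (pullback.fst f g) (pullback.snd f g) h hf
  have hloc : ∀ y' : S', ∃ (W' : S'.Opens)
      (l : Γ((Scheme.Modules.pullback (pullback.fst f g)).obj L, (pullback.snd f g) ⁻¹ᵁ W')), y' ∈ W' ∧
      IsGen ((Scheme.Modules.pullback (pullback.fst f g)).obj L) ((pullback.snd f g) ⁻¹ᵁ W') l := by
    intro y'
    obtain ⟨U, hyU, ⟨eU⟩⟩ := hN' y'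
    obtain ⟨g0, hg0⟩ := exists_isGen_of_iso N' U eU
    have hUU : U.ι ''ᵁ ⊤ = U := by rw [Scheme.Opens.ι_image_top]
    have h1 := isGen_pbs (f := pullback.snd f g) hg0
    refine ⟨U.ι ''ᵁ ⊤, ε.inv.app _ (pbs (pullback.snd f g) N' _ g0), by rw [hUU]; exact hyU, ?_⟩
    exact Groth.Agent.S0232.isGen_of_iso ε.symm h1
  have hN := InvDescLoc.isInvertible_pushforward f g (pullback.fst f g) (pullback.snd f g) h hf hf' L hL hloc
  haveI := InvDescLoc.isIso_counit f g (pullback.fst f g) (pullback.snd f g) h hf hf' L hL hloc
  exact ⟨(Scheme.Modules.pushforward f).obj L, hN,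
    ⟨(asIso ((Scheme.Modules.pullbackPushforwardAdjunction f).counit.app L)).symm⟩⟩

end Groth.Agent.S5684
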