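import Groth.Statements.S5705
import Groth.Agent.Lib.Helper17.AzumayaField
import Groth.Agent.Lib.Helper7.CSASkolem
import Groth.Agent.S19588
import Mathlib

set_option autoImplicit false
universe u v
open TensorProduct
open Dix

namespace Groth.Agent.S5705

open TensorProduct MulOpposite

section theta
variable {R : Type u} [CommRing R] {A : Type v} [Ring A] [Algebra R A]

/-- `a ⊗ op b ↦ u a * m₀ * b` -/
noncomputable def theta (u : A ≃ₐ[R] A) (m₀ : A) : A ⊗[R] Aᵐᵒᵖ →ₗ[R] A :=
  TensorProduct.lift (LinearMap.mk₂ R (fun a (b : Aᵐᵒᵖ) => u a * m₀ * b.unop)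
    (by intros; simp [add_mul]) (by intros; simp) (by intros; simp [mul_add])
    (by intros; simp))

lemma theta_tmul (u : A ≃ₐ[R] A) (m₀ a : A) (b : Aᵐᵒᵖ) :
    theta u m₀ (a ⊗ₜ b) = u a * m₀ * b.unop := by
  simp [theta]

lemma theta_left (u : A ≃ₐ[R] A) (m₀ a : A) (t : A ⊗[R] Aᵐᵒᵖ) :
    theta u m₀ ((a ⊗ₜ 1) * t) = u a * theta u m₀ t := by
  induction t using TensorProduct.induction_on with
  | zero => simp
  | tmul x y => simp [theta_tmul, Algebra.TensorProduct.tmul_mul_tmul, mul_assoc]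
  | add x y hx hy => simp only [mul_add, map_add, hx, hy]

lemma theta_right (u : A ≃ₐ[R] A) (m₀ a : A) (t : A ⊗[R] Aᵐᵒᵖ) :
    theta u m₀ ((1 ⊗ₜ op a) * t) = theta u m₀ t * a := by
  induction t using TensorProduct.induction_on with
  | zero => simp
  | tmul x y => simp [theta_tmul, Algebra.TensorProduct.tmul_mul_tmul, mul_assoc]
  | add x y hx hy => simp only [mul_add, map_add, hx, hy, add_mul]

end theta

section unit
variable {R : Type u} [CommRing R] [IsLocalRing R] {A : Type v} [Ring A] [Algebra R A]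
  [Module.Finite R A]

lemma isUnit_of_isUnit_residue (w : A)
    (h : IsUnit ((1 : IsLocalRing.ResidueField R) ⊗ₜ[R] w : IsLocalRing.ResidueField R ⊗[R] A)) :
    IsUnit w := by
  have hπ : Function.Surjective (TensorProduct.mk R (IsLocalRing.ResidueField R) A 1) :=
    TensorProduct.mk_surjective R A _ Ideal.Quotient.mk_surjective
  obtain ⟨x, hx⟩ := h
  have h1 : LinearMap.range (LinearMap.mulLeft R w) = ⊤ := by
    apply IsLocalRing.map_tensorProduct_mk_eq_top.mp
    rw [eq_top_iff]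
    intro z _
    obtain ⟨v, hv⟩ := hπ (((x⁻¹ : (IsLocalRing.ResidueField R ⊗[R] A)ˣ) :
      IsLocalRing.ResidueField R ⊗[R] A) * z)
    refine ⟨w * v, ⟨v, rfl⟩, ?_⟩
    have : (TensorProduct.mk R (IsLocalRing.ResidueField R) A 1) (w * v) =
        ((1 : IsLocalRing.ResidueField R) ⊗ₜ[R] w) * ((1 : IsLocalRing.ResidueField R) ⊗ₜ[R] v) := by
      simp [Algebra.TensorProduct.tmul_mul_tmul]
    rw [this, ← hx]
    have hv' : ((1 : IsLocalRing.ResidueField R) ⊗ₜ[R] v) = _ := hv
    rw [hv', ← mul_assoc, Units.mul_inv, one_mul]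
  have h2 : LinearMap.range (LinearMap.mulRight R w) = ⊤ := by
    apply IsLocalRing.map_tensorProduct_mk_eq_top.mp
    rw [eq_top_iff]
    intro z _
    obtain ⟨v, hv⟩ := hπ (z * ((x⁻¹ : (IsLocalRing.ResidueField R ⊗[R] A)ˣ) :
      IsLocalRing.ResidueField R ⊗[R] A))
    refine ⟨v * w, ⟨v, rfl⟩, ?_⟩
    have : (TensorProduct.mk R (IsLocalRing.ResidueField R) A 1) (v * w) =
        ((1 : IsLocalRing.ResidueField R) ⊗ₜ[R] v) * ((1 : IsLocalRing.ResidueField R) ⊗ₜ[R] w) := by
      simp [Algebra.TensorProduct.tmul_mul_tmul]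
    rw [this, ← hx]
    have hv' : ((1 : IsLocalRing.ResidueField R) ⊗ₜ[R] v) = _ := hv
    rw [hv', mul_assoc, Units.inv_mul, mul_one]
  obtain ⟨v, hv⟩ := LinearMap.range_eq_top.mp h1 1
  obtain ⟨v', hv'⟩ := LinearMap.range_eq_top.mp h2 1
  simp only [LinearMap.mulLeft_apply, LinearMap.mulRight_apply] at hv hv'
  have hvv : v' = v := by
    calc v' = v' * (w * v) := by rw [hv, mul_one]
      _ = (v' * w) * v := by rw [mul_assoc]
      _ = v := by rw [hv', one_mul]
  exact ⟨⟨w, v, hv, hvv ▸ hv'⟩, rfl⟩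

end unit

section dual
variable {R : Type u} [CommRing R] [IsLocalRing R] {A : Type v} [Ring A] [Algebra R A]
  [Module.Finite R A] [Module.Projective R A]

lemma exists_dual_one
    (h1 : ((1 : IsLocalRing.ResidueField R) ⊗ₜ[R] (1 : A) : IsLocalRing.ResidueField R ⊗[R] A) ≠ 0) :
    ∃ l : A →ₗ[R] R, l 1 = 1 := by
  obtain ⟨n, f, g, hf, hginj, hfg⟩ := Module.Finite.exists_comp_eq_id_of_projective R A
  by_cases hall : ∀ i, g 1 i ∈ IsLocalRing.maximalIdeal R
  · exfalso
    apply h1
    have e1 : (1 : A) = ∑ i, g 1 i • f (fun j => if i = j then 1 else 0) := by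
      have h := LinearMap.congr_fun hfg 1
      simp only [LinearMap.comp_apply, LinearMap.id_apply] at h
      rw [← LinearMap.pi_apply_eq_sum_univ, h]
    rw [e1, TensorProduct.tmul_sum]
    refine Finset.sum_eq_zero fun i _ => ?_
    rw [TensorProduct.tmul_smul, TensorProduct.smul_tmul']
    have : g 1 i • (1 : IsLocalRing.ResidueField R) = 0 := by
      rw [Algebra.smul_def, mul_one]
      exact (IsLocalRing.residue_eq_zero_iff _).mpr (hall i)
    rw [this, TensorProduct.zero_tmul]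
  · push Not at hall
    obtain ⟨i, hi⟩ := hall
    have hu : IsUnit (g 1 i) := by
      by_contra hnu
      exact hi ((IsLocalRing.mem_maximalIdeal _).mpr hnu)
    obtain ⟨c, hc⟩ := hu
    refine ⟨(↑c⁻¹ : R) • ((LinearMap.proj i).comp g), ?_⟩
    simp [← hc]

end dual


/-- Over a local base, where the Zariski-local conclusion becomes global. Let R be a local ring and A an
Azumaya algebra over R. Then every R-algebra automorphism u of A is inner, u(x) = a x a⁻¹ for some
unit a of A, and the unit a is determined up to multiplication by a unit of R. -/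
theorem result (R : Type u) [CommRing R] [IsLocalRing R] (A : Type v) [Ring A] [Algebra R A] [IsAzumaya R A] (u : A ≃ₐ[R] A) : (∃ a : Aˣ, ∀ x : A, u x = (a : A) * x * (a⁻¹ : Aˣ)) ∧ (∀ a a' : Aˣ, (∀ x : A, u x = (a : A) * x * (a⁻¹ : Aˣ)) → (∀ x : A, u x = (a' : A) * x * (a'⁻¹ : Aˣ)) → ∃ c : Rˣ, (a' : A) = algebraMap R A (c : R) * (a : A)) := by
  classical
  haveI : IsAzumaya (IsLocalRing.ResidueField R) (IsLocalRing.ResidueField R ⊗[R] A) :=
    Groth.Agent.S19588.result R (IsLocalRing.ResidueField R) A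
  obtain ⟨hcen, hsimp⟩ := Groth.Agent.Lib.Helper17.AzumayaField.csa_of_isAzumaya
    (IsLocalRing.ResidueField R) (IsLocalRing.ResidueField R ⊗[R] A)
  have h1ne : ((1 : IsLocalRing.ResidueField R) ⊗ₜ[R] (1 : A) :
      IsLocalRing.ResidueField R ⊗[R] A) ≠ 0 := by
    have : ((1 : IsLocalRing.ResidueField R) ⊗ₜ[R] (1 : A) :
      IsLocalRing.ResidueField R ⊗[R] A) = 1 := rfl
    rw [this]
    exact one_ne_zero
  obtain ⟨l, hl⟩ := exists_dual_one (R := R) (A := A) h1ne
  haveI : Module.Free R A := Module.free_of_flat_of_isLocalRing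
  constructor
  · -- existence
    obtain ⟨t, ht⟩ := (IsAzumaya.bij (R := R) (A := A)).2 (l.smulRight (1 : A))
    have hcomm : ∀ a : A, (a ⊗ₜ[R] (1 : Aᵐᵒᵖ)) * t = ((1 : A) ⊗ₜ[R] op a) * t := by
      intro a
      apply (IsAzumaya.bij (R := R) (A := A)).1
      rw [map_mul, map_mul, ht]
      ext y
      simp [AlgHom.mulLeftRight_apply]
    -- residue field data
    let ubar : (IsLocalRing.ResidueField R ⊗[R] A) ≃ₐ[IsLocalRing.ResidueField R]
        (IsLocalRing.ResidueField R ⊗[R] A) :=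
      Algebra.TensorProduct.congr AlgEquiv.refl u
    have hubar : ∀ a : A, ubar ((1 : IsLocalRing.ResidueField R) ⊗ₜ[R] a) =
        (1 : IsLocalRing.ResidueField R) ⊗ₜ[R] u a := by
      intro a
      simp [ubar]
    obtain ⟨x, hx⟩ := Groth.Agent.Lib.Helper7.CSA.skolem_noether (IsLocalRing.ResidueField R)
      (IsLocalRing.ResidueField R ⊗[R] A) (IsLocalRing.ResidueField R ⊗[R] A)
      ubar.toAlgHom (AlgHom.id _ _)
    have hπ : Function.Surjective (TensorProduct.mk R (IsLocalRing.ResidueField R) A 1) :=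
      TensorProduct.mk_surjective R A _ Ideal.Quotient.mk_surjective
    obtain ⟨m₀, hm₀⟩ := hπ (x : IsLocalRing.ResidueField R ⊗[R] A)
    have hm₀' : ((1 : IsLocalRing.ResidueField R) ⊗ₜ[R] m₀ :
        IsLocalRing.ResidueField R ⊗[R] A) = x := hm₀
    have hred : ∀ t' : A ⊗[R] Aᵐᵒᵖ,
        ((1 : IsLocalRing.ResidueField R) ⊗ₜ[R] theta u m₀ t' : IsLocalRing.ResidueField R ⊗[R] A)
          = (x : IsLocalRing.ResidueField R ⊗[R] A) *
            ((1 : IsLocalRing.ResidueField R) ⊗ₜ[R] (AlgHom.mulLeftRight R A t' 1)) := by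
      intro t'
      induction t' using TensorProduct.induction_on with
      | zero => simp
      | tmul a' b' =>
        rw [theta_tmul, AlgHom.mulLeftRight_apply, mul_one]
        have e1 : ((1 : IsLocalRing.ResidueField R) ⊗ₜ[R] (u a' * m₀ * b'.unop) :
            IsLocalRing.ResidueField R ⊗[R] A) =
            ((1 : IsLocalRing.ResidueField R) ⊗ₜ[R] u a') * ((1 : IsLocalRing.ResidueField R) ⊗ₜ[R] m₀) *
              ((1 : IsLocalRing.ResidueField R) ⊗ₜ[R] b'.unop) := by
          simp [Algebra.TensorProduct.tmul_mul_tmul]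
        have e2 : ((1 : IsLocalRing.ResidueField R) ⊗ₜ[R] (a' * b'.unop) :
            IsLocalRing.ResidueField R ⊗[R] A) =
            ((1 : IsLocalRing.ResidueField R) ⊗ₜ[R] a') *
              ((1 : IsLocalRing.ResidueField R) ⊗ₜ[R] b'.unop) := by
          simp [Algebra.TensorProduct.tmul_mul_tmul]
        have e3 : ubar ((1 : IsLocalRing.ResidueField R) ⊗ₜ[R] a') =
            (x : IsLocalRing.ResidueField R ⊗[R] A) * ((1 : IsLocalRing.ResidueField R) ⊗ₜ[R] a') *
              ((x⁻¹ : (IsLocalRing.ResidueField R ⊗[R] A)ˣ) : IsLocalRing.ResidueField R ⊗[R] A) :=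
          hx ((1 : IsLocalRing.ResidueField R) ⊗ₜ[R] a')
        rw [e1, e2, ← hubar, e3, hm₀']
        simp only [mul_assoc, Units.inv_mul_cancel_left]
      | add a b ha hb => simp only [map_add, TensorProduct.tmul_add, ha, hb, mul_add,
          LinearMap.add_apply]
    obtain ⟨w, hwdef⟩ : ∃ w, w = theta u m₀ t := ⟨_, rfl⟩
    have hw1 : ∀ a : A, u a * w = w * a := by
      intro a
      rw [hwdef, ← theta_left, hcomm, theta_right]
    have hw2 : ((1 : IsLocalRing.ResidueField R) ⊗ₜ[R] w : IsLocalRing.ResidueField R ⊗[R] A) = x := by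
      rw [hwdef, hred, ht]
      simp only [LinearMap.smulRight_apply, hl, one_smul]
      rw [← Algebra.TensorProduct.one_def, mul_one]
    have hwu : IsUnit w := isUnit_of_isUnit_residue w (hw2 ▸ x.isUnit)
    obtain ⟨w', rfl⟩ := hwu
    refine ⟨w', fun a => ?_⟩
    rw [← hw1, mul_assoc, Units.mul_inv, mul_one]
  · -- uniqueness
    intro a a' ha ha'
    have hz : ∀ y : A, y * ((a⁻¹ : Aˣ) * (a' : A)) = ((a⁻¹ : Aˣ) * (a' : A)) * y := by
      intro y
      have h := (ha y).symm.trans (ha' y)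
      calc y * ((a⁻¹ : Aˣ) * (a' : A))
          = (a⁻¹ : Aˣ) * ((a : A) * y * (a⁻¹ : Aˣ)) * (a' : A) := by
            simp only [mul_assoc, Units.inv_mul_cancel_left]
        _ = (a⁻¹ : Aˣ) * ((a' : A) * y * (a'⁻¹ : Aˣ)) * (a' : A) := by rw [h]
        _ = _ := by simp only [mul_assoc, Units.inv_mul, mul_one]
    have hcenter : ∀ z : A, (∀ y : A, y * z = z * y) → ∃ r : R, algebraMap R A r = z := by
      intro z hz
      have : z ∈ Subalgebra.center R A := Subalgebra.mem_center_iff.mpr hz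
      rw [Algebra.IsCentral.center_eq_bot] at this
      exact Algebra.mem_bot.mp this
    obtain ⟨r, hr⟩ := hcenter _ hz
    have hz' : ∀ y : A, y * ((a'⁻¹ : Aˣ) * (a : A)) = ((a'⁻¹ : Aˣ) * (a : A)) * y := by
      intro y
      have h := (ha' y).symm.trans (ha y)
      calc y * ((a'⁻¹ : Aˣ) * (a : A))
          = (a'⁻¹ : Aˣ) * ((a' : A) * y * (a'⁻¹ : Aˣ)) * (a : A) := by
            simp only [mul_assoc, Units.inv_mul_cancel_left]
        _ = (a'⁻¹ : Aˣ) * ((a : A) * y * (a⁻¹ : Aˣ)) * (a : A) := by rw [h]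
        _ = _ := by simp only [mul_assoc, Units.inv_mul, mul_one]
    obtain ⟨r', hr'⟩ := hcenter _ hz'
    have hinj : Function.Injective (algebraMap R A) := FaithfulSMul.algebraMap_injective R A
    have hrr' : r * r' = 1 := by
      apply hinj
      rw [map_mul, hr, hr', map_one]
      simp only [mul_assoc, Units.mul_inv_cancel_left, Units.inv_mul]
    refine ⟨⟨r, r', hrr', mul_comm r r' ▸ hrr'⟩, ?_⟩
    show (a' : A) = algebraMap R A r * a
    rw [Algebra.commutes, hr, ← mul_assoc, Units.mul_inv, one_mul]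

end Groth.Agent.S5705
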