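import Groth.Statements.S5723
import Groth.Agent.Lib.Helper28.RLPsiV7
import Groth.Agent.Lib.Helper28.RestrictGen
import Groth.Agent.Lib.Helper28.AmplePow

set_option autoImplicit false
universe u
open CategoryTheory CategoryTheory.Limits AlgebraicGeometry TopologicalSpace Opposite
open scoped HomogeneousIdeal
open EGA2

namespace Groth.Agent.S5723

/-- Let Y be a quasi-compact scheme, f : X → Y a morphism of finite type and L an invertible O_X-module.
If for some n > 0 the tensor power L^{⊗n} is very ample relative to f (isomorphic to i^*O_{P(E)}(1)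
for a Y-immersion i into the projective bundle of a quasi-coherent O_Y-module E), then L is ample
relative to f. (The converse, that f-ampleness makes all large tensor powers very ample, is the
other half of the published equivalence and is not stated here.) -/
theorem result {X Y : Scheme.{u}} [CompactSpace Y] (f : X ⟶ Y) [QuasiCompact f]
    [LocallyOfFiniteType f] (L : X.Modules) (hL : PicF.IsInvertible L) (n : ℕ) (hn : 0 < n)
    (h : RelProj.IsRelVeryAmple f (CohB1.tensorPow L n)) : RelAmple.IsRelAmple f L := by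
  classical
  have hLn : PicF.IsInvertible (CohB1.tensorPow L n) :=
    Groth.Agent.Lib.Helper28.GenLocus.isInvertible_tensorPow hL n
  obtain ⟨E', hE', 𝒮', j', hS', P', p', chart', hP', O1, lam, hO, i, hi, hq, ⟨e⟩⟩ := h
  subst hq
  haveI : E'.IsQuasicoherent := hE'
  haveI := hi
  have hO' : RelProj.IsRelTwist 𝒮' p' chart' ((1 : ℕ) : ℤ) O1 lam := hO
  have h1 := Groth.Agent.Lib.Helper28.RLPsiV.isRelAmple_of_veryAmple_data i hS' hP' hO' e hLn
  refine ⟨h1.1, fun V => ?_⟩
  have hLV : PicF.IsInvertible (L.restrict ((i ≫ p') ⁻¹ᵁ V.1).ι) :=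
    Groth.Agent.Lib.Helper28.AmpleIso.isInvertible_restrict _ L hL
  obtain ⟨ψ⟩ := Groth.Agent.Lib.Helper28.GenLocus.exists_restrict_tensorPow_iso L ((i ≫ p') ⁻¹ᵁ V.1) hLV n
  exact Groth.Agent.Lib.Helper28.GenLocus.isAmple_of_isAmple_tensorPow hLV n hn
    (Groth.Agent.Lib.Helper28.AmpleIso.isAmple_of_iso ψ (h1.2 V))

end Groth.Agent.S5723
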