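import Groth.Statements.S5724
import Groth.Agent.Lib.Helper28.RelProjAmple
import Groth.Agent.Lib.Helper28.AmpleLocal

set_option autoImplicit false
universe u
open CategoryTheory CategoryTheory.Limits AlgebraicGeometry TopologicalSpace Opposite
open scoped HomogeneousIdeal
open EGA2

open Groth.Agent.Lib.Helper28 Groth.Agent.Lib.Helper28.QCohLoc

namespace Groth.Agent.S5724

/-- Let Y be a quasi-compact scheme and 𝒮 a quasi-coherent graded O_Y-algebra of finite type (over every
affine open U of Y the ring 𝒮(U) is an algebra of finite type over the functions on U, through the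
structure map), and let f : X → Y be its relative homogeneous spectrum Proj(𝒮), given with its
charts over affine opens. Then there is an integer d > 0 such that the twisting sheaf O_X(d) — any
O_X-module given with chart identifications exhibiting it as O_X(d) — is invertible and ample
relative to f. (The published statement also records that f is of finite type; that assertion holds
for the relative homogeneous spectrum of any finite-type quasi-coherent graded algebra and is not
repeated in this row.) -/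
theorem result {Y X : Scheme.{u}} [CompactSpace Y] (𝒮 : RelProj.QCGrAlg Y)
    (hft : ∀ (U : Y.Opens) (hU : IsAffineOpen U), (𝒮.str.app (op U)).hom.FiniteType)
    (f : X ⟶ Y)
    (chart : ∀ (U : Y.Opens) (hU : IsAffineOpen U), ((f ⁻¹ᵁ U : X.Opens) : Scheme.{u}) ≅ Proj (𝒮.deg U hU))
    (hX : RelProj.IsRelProj 𝒮 f chart) :
    ∃ d : ℕ, 0 < d ∧ ∀ (L : X.Modules)
      (lam : ∀ (U : Y.Opens) (hU : IsAffineOpen U),
        L ⟶ (Scheme.Modules.pushforward (RelProj.emb f chart U hU)).obj (GrTwist.twist (𝒮.deg U hU) (d : ℤ))),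
      RelProj.IsRelTwist 𝒮 f chart (d : ℤ) L lam → PicF.IsInvertible L ∧ RelAmple.IsRelAmple f L := by
  classical
  -- a finite affine cover of `Y`
  have hcovY : ∀ y : Y, ∃ V : Y.affineOpens, y ∈ V.1 := by
    intro y
    obtain ⟨V, hV, hyV, -⟩ := Y.isBasis_affineOpens.exists_subset_of_mem_open (Set.mem_univ y) isOpen_univ
    obtain ⟨V', hV', rfl⟩ := hV
    exact ⟨⟨V', hV'⟩, hyV⟩
  obtain ⟨t, ht⟩ := isCompact_univ.elim_finite_subcover (fun V : Y.affineOpens => ((V.1 : Y.Opens) : Set Y))
    (fun V => V.1.isOpen) (fun y _ => Set.mem_iUnion.2 (hcovY y))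
  have htmem : ∀ y : Y, ∃ V ∈ t, y ∈ V.1 := by
    intro y
    have := ht (Set.mem_univ y)
    simp only [Set.mem_iUnion] at this
    obtain ⟨V, hVt, hyV⟩ := this
    exact ⟨V, hVt, hyV⟩
  -- generators over the affine opens
  have hG := fun V : Y.affineOpens => RelProjFT.exists_finset_cover (𝒮 := 𝒮) hft V.1 V.2
  choose G hGdeg hGcov using hG
  let deg : ∀ V : Y.affineOpens, 𝒮.presheaf.obj (op V.1) → ℕ :=
    fun V g => if h : g ∈ G V then (hGdeg V g h).choose else 1
  have hdegpos : ∀ V g, 0 < deg V g := by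
    intro V g
    show 0 < (if h : g ∈ G V then (hGdeg V g h).choose else 1)
    split_ifs with h
    · exact (hGdeg V g h).choose_spec.1
    · exact Nat.one_pos
  have hdegmem : ∀ V g, g ∈ G V → g ∈ 𝒮.deg V.1 V.2 (deg V g) := by
    intro V g h
    show g ∈ 𝒮.deg V.1 V.2 (if h : g ∈ G V then (hGdeg V g h).choose else 1)
    rw [dif_pos h]
    exact (hGdeg V g h).choose_spec.2
  let d : ℕ := ∏ V ∈ t, ∏ g ∈ G V, deg V g
  have hdpos : 0 < d := Finset.prod_pos fun V _ => Finset.prod_pos fun g _ => hdegpos V g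
  have hdvd : ∀ V ∈ t, ∀ g ∈ G V, deg V g ∣ d := fun V hV g hg =>
    (Finset.dvd_prod_of_mem _ hg).trans (Finset.dvd_prod_of_mem (fun V => ∏ g ∈ G V, deg V g) hV)
  refine ⟨d, hdpos, fun L lam hL => ?_⟩
  have hqc : QuasiCompact f := RelProjFT.quasiCompact hft chart
  have hinv : PicF.IsInvertible L := by
    refine RelProjAmple.isInvertible_of_cover hL fun x => ?_
    obtain ⟨V, hVt, hxV⟩ := htmem (f.base x)
    have hx : x ∈ (RelProj.emb f chart V.1 V.2).opensRange := by
      rw [RelProjQC.opensRange_emb]; exact hxV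
    obtain ⟨z, hz⟩ := hx
    obtain ⟨g, hg, hzg⟩ := hGcov V z
    exact ⟨V.1, V.2, z, g, deg V g, hdegmem V g hg, hdegpos V g, hdvd V hVt g hg, hzg, hz⟩
  refine ⟨hinv, ?_⟩
  refine AmpleLocal.isRelAmple_of_forall_exists f L fun y => ?_
  obtain ⟨V, hVt, hyV⟩ := htmem y
  refine ⟨V.1, hyV, fun V' hV' hV'V => ?_⟩
  have hA : CohB1.IsAmple (L.restrict (f ⁻¹ᵁ V.1).ι) :=
    RelProjAmple.isAmple_restrict_of_cover hL hinv hdpos V.2 (RelProjFT.isCompact_preimage hft chart V.1 V.2)
      (fun z => by
        obtain ⟨g, hg, hzg⟩ := hGcov V z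
        exact ⟨g, deg V g, hdegmem V g hg, hdegpos V g, hdvd V hVt g hg, hzg⟩)
  haveI : CompactSpace ((↑(f ⁻¹ᵁ V') : Scheme.{u})) :=
    isCompact_iff_compactSpace.1 (RelProjFT.isCompact_preimage hft chart V' hV')
  refine AmpleLocal.isAmple_restrict_of_range_subset (f ⁻¹ᵁ V').ι (f ⁻¹ᵁ V.1).ι ?_ L hA
  rw [Scheme.Opens.range_ι, Scheme.Opens.range_ι]
  exact fun x hx => hV'V hx

end Groth.Agent.S5724
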