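import Groth.Statements.S5730
import Groth.Agent.Lib.Helper28.UPSecM
import Groth.Agent.Lib.Helper28.RelTwistPow
import Groth.Agent.Lib.Helper28.AmpleIso
import Groth.Agent.Lib.Helper28.PullbackInv2
import Groth.Agent.Lib.Helper28.ImgAlg5

set_option autoImplicit false
universe u
open CategoryTheory CategoryTheory.Limits AlgebraicGeometry TopologicalSpace Opposite
open scoped HomogeneousIdeal
open EGA2

namespace Groth.Agent.S5730

/-- Let E be a quasi-coherent O_Y-module and L an invertible O_Y-module, 𝒮 (with j : E → 𝒮) the graded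
symmetric algebra of E and 𝒯 (with k : E ⊗ L → 𝒯) that of E ⊗ L, and let p : P → Y, q : Q → Y be the
projective bundles P(E) = Proj(𝒮) and P(E ⊗ L) = Proj(𝒯) with their charts over affine opens. Then
there is an isomorphism i : P ≅ Q over Y such that, for every n ≥ 0 and all twisting sheaves O_P(n)
and O_Q(n) (modules given with their chart identifications), i^*O_Q(n) is isomorphic to O_P(n) ⊗
p^*(L^{⊗n}). (Existence of the isomorphisms only: the published statement names a canonical i and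
canonical identifications, and states the twist relation for every integer n; this row asserts
existence and the relation for n ≥ 0.) -/
theorem result {Y P Q : Scheme.{u}} (E : Y.Modules) (hE : Coh.IsQCoh E)
    (L : Y.Modules) (hL : PicF.IsInvertible L)
    (𝒮 : RelProj.QCGrAlg Y) (j : E ⟶ 𝒮.toModule) (hj : RelProj.IsGrSymAlg E 𝒮 j)
    (𝒯 : RelProj.QCGrAlg Y) (k : CohB1.tensorMod E L ⟶ 𝒯.toModule) (hk : RelProj.IsGrSymAlg (CohB1.tensorMod E L) 𝒯 k)
    (p : P ⟶ Y)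
    (chart : ∀ (U : Y.Opens) (hU : IsAffineOpen U), ((p ⁻¹ᵁ U : P.Opens) : Scheme.{u}) ≅ Proj (𝒮.deg U hU))
    (hP : RelProj.IsRelProj 𝒮 p chart) (q : Q ⟶ Y)
    (chartQ : ∀ (U : Y.Opens) (hU : IsAffineOpen U), ((q ⁻¹ᵁ U : Q.Opens) : Scheme.{u}) ≅ Proj (𝒯.deg U hU))
    (hQ : RelProj.IsRelProj 𝒯 q chartQ) :
    ∃ i : P ≅ Q, i.hom ≫ q = p ∧
      ∀ (n : ℕ) (OP : P.Modules)
        (lamP : ∀ (U : Y.Opens) (hU : IsAffineOpen U),
          OP ⟶ (Scheme.Modules.pushforward (RelProj.emb p chart U hU)).obj (GrTwist.twist (𝒮.deg U hU) (n : ℤ)))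
        (OQ : Q.Modules)
        (lamQ : ∀ (U : Y.Opens) (hU : IsAffineOpen U),
          OQ ⟶ (Scheme.Modules.pushforward (RelProj.emb q chartQ U hU)).obj (GrTwist.twist (𝒯.deg U hU) (n : ℤ))),
        RelProj.IsRelTwist 𝒮 p chart (n : ℤ) OP lamP → RelProj.IsRelTwist 𝒯 q chartQ (n : ℤ) OQ lamQ →
          Nonempty ((Scheme.Modules.pullback i.hom).obj OQ ≅
            CohB1.tensorMod OP ((Scheme.Modules.pullback p).obj (CohB1.tensorPow L n))) := by
  classical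
  haveI : E.IsQuasicoherent := hE
  haveI : L.IsQuasicoherent := Groth.Agent.Lib.Helper28.InvQC.isQuasicoherent_of_isInvertible L hL
  have hA := Groth.Agent.Lib.Helper28.RelTwistEx.isRelTwist hP ((1 : ℕ) : ℤ)
  have hB := Groth.Agent.Lib.Helper28.RelTwistEx.isRelTwist hQ ((1 : ℕ) : ℤ)
  have hA1 : PicF.IsInvertible (Groth.Agent.Lib.Helper28.RelTwistEx.L 𝒮 p chart hP ((1 : ℕ) : ℤ)) :=
    Groth.Agent.Lib.Helper28.RLPsiV.isInvertible_O1 hj hA
  have hB1 : PicF.IsInvertible (Groth.Agent.Lib.Helper28.RelTwistEx.L 𝒯 q chartQ hQ ((1 : ℕ) : ℤ)) :=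
    Groth.Agent.Lib.Helper28.RLPsiV.isInvertible_O1 hk hB
  obtain ⟨i, hi, ⟨τ⟩⟩ := Groth.Agent.Lib.Helper28.UPSec.exists_iso_twist hj hk hP hQ hA hB hL
  refine ⟨i, hi, fun n OP lamP OQ lamQ hOP hOQ => ?_⟩
  have hgenS : 𝒮.IsGenDegOne := Groth.Agent.Lib.Helper28.ImgAlg.isGenDegOne_of_isGrSymAlg hj
  have hgenT : 𝒯.IsGenDegOne := Groth.Agent.Lib.Helper28.ImgAlg.isGenDegOne_of_isGrSymAlg hk
  have hA' : RelProj.IsRelTwist 𝒮 p chart 1 _ _ := hA
  have hB' : RelProj.IsRelTwist 𝒯 q chartQ 1 _ _ := hB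
  obtain ⟨eP⟩ := Groth.Agent.Lib.Helper28.RelTwistPow.nonempty_tensorPow_iso hP hgenS hA' n OP lamP hOP
  obtain ⟨eQ⟩ := Groth.Agent.Lib.Helper28.RelTwistPow.nonempty_tensorPow_iso hQ hgenT hB' n OQ lamQ hOQ
  obtain ⟨ψ₁, -⟩ := Groth.Agent.Lib.Helper28.PullbackInv.exists_pullback_tensorPow_iso i.hom hB1 n
  obtain ⟨ψ₂, -⟩ := Groth.Agent.Lib.Helper28.GenLocus.exists_tensorPow_tensorMod_iso hA1
    (Groth.Agent.Lib.Helper28.PullbackInv.isInvertible_pullback p hL) n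
  obtain ⟨ψ₃, -⟩ := Groth.Agent.Lib.Helper28.PullbackInv.exists_pullback_tensorPow_iso p hL n
  exact ⟨(Scheme.Modules.pullback i.hom).mapIso eQ.symm ≪≫ ψ₁ ≪≫
    Groth.Agent.Lib.Helper28.AmpleIso.tensorPowIso τ n ≪≫ ψ₂ ≪≫ PicGrp.tensorModIso eP ψ₃.symm⟩

end Groth.Agent.S5730
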