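import Groth.Statements.S5745
import Groth.Agent.Lib.Helper28.GrAlpha3
import Groth.Agent.Lib.Helper28.GrSectMod

set_option autoImplicit false
universe u
open CategoryTheory CategoryTheory.Limits AlgebraicGeometry Opposite TopologicalSpace
open scoped HomogeneousIdeal
noncomputable section
open Coherent

namespace Groth.Agent.S5745

open Groth.Agent.Lib.Helper28.GrSect Groth.Agent.Lib.Helper28.GrSectMod Groth.Agent.Lib.Helper28.GrAlpha

theorem val_alpha {R σ : Type u} [CommRing R] [SetLike σ R] [AddSubgroupClass σ R]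
    (𝒜 : ℕ → σ) [GradedRing 𝒜] {M τ : Type u} [AddCommGroup M] [Module R M] [SetLike τ M] [AddSubgroupClass τ M]
    (ℳ : ℕ → τ) [SetLike.GradedSMul 𝒜 ℳ] (i : ℕ) (m : ℳ i) (x : (⊤ : (Proj 𝒜).Opens)) :
    GrMod.val (GrMod.alpha 𝒜 ℳ i m) x = LocalizedModule.mk (m : M) 1 := rfl


/-- Over an affine base, and for a graded ring whose generators may have any positive degrees, let S be
a Noetherian commutative ring positively graded by additive subgroups (equivalently S_0 is
Noetherian and S is an S_0-algebra of finite type), X = Proj S, and M a graded S-module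
(non-negatively graded here, the direct sum of its pieces) satisfying (TF): for some k the submodule
generated by the homogeneous elements of degree ≥ k is finitely generated. Then there is N such that
for every n ≥ N the canonical map α_n : M_n → Γ(X, M(n)~), m ↦ m/1, is bijective, where M(n)~ is the
module attached to the shifted graded module M(n). -/
theorem result {A σ : Type u} [CommRing A] [IsNoetherianRing A]
    [SetLike σ A] [AddSubgroupClass σ A] (𝒜 : ℕ → σ) [GradedRing 𝒜]
    {M τ : Type u} [AddCommGroup M] [Module A M] [SetLike τ M] [AddSubgroupClass τ M] (ℳ : ℕ → τ)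
    [SetLike.GradedSMul 𝒜 ℳ] [DirectSum.Decomposition ℳ]
    (hTF : ∃ k : ℕ, (Submodule.span A (⋃ i ∈ Set.Ici k, (ℳ i : Set M))).FG) :
    ∃ N : ℕ, ∀ n : ℕ, N ≤ n → Function.Bijective (GrMod.alpha 𝒜 ℳ n) := by
  obtain ⟨N₀, hN₀⟩ := exists_bound 𝒜 ℳ hTF
  refine ⟨N₀, fun n hn => ?_⟩
  obtain ⟨hinj, hsurj⟩ := hN₀ n hn
  constructor
  · rw [injective_iff_map_eq_zero]
    intro m hm
    apply Subtype.ext
    rw [ZeroMemClass.coe_zero]
    refine hinj m.1 m.2 fun y => ?_
    have h1 : GrMod.val (GrMod.alpha 𝒜 ℳ n m) ⟨y, trivial⟩ = 0 := by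
      rw [hm]
      rfl
    exact h1
  · intro t
    have hF : IsGlobFrac 𝒜 ℳ (n : ℤ) (fun y => GrMod.val t ⟨y, trivial⟩) := by
      intro x
      obtain ⟨V, hxV, iV, i, j, m, s, s_nin, hdeg, hw⟩ :=
        (t : GrMod.sect 𝒜 ℳ (n : ℤ) (op ⊤)).2 ⟨x, trivial⟩
      exact ⟨V, hxV, i, j, m.1, m.2, s.1, s.2, fun y hy => s_nin ⟨y, hy⟩, hdeg, fun y hy => hw ⟨y, hy⟩⟩
    obtain ⟨m, hm, hval⟩ := hsurj _ hF
    refine ⟨⟨m, hm⟩, ?_⟩
    refine ext_val 𝒜 ℳ _ _ fun x => ?_
    rw [val_alpha]
    exact (hval x.1).symm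

end Groth.Agent.S5745
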