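import Groth.Statements.S5746
import Groth.Agent.Lib.Helper28.RelAlphaD
import Groth.Agent.S5745

set_option autoImplicit false
universe u
open CategoryTheory CategoryTheory.Limits AlgebraicGeometry Opposite TopologicalSpace
open scoped HomogeneousIdeal
noncomputable section
open Coherent

namespace Groth.Agent.S5746

/-- Let Y be a Noetherian scheme, 𝒮 a quasi-coherent positively graded O_Y-algebra of finite type and ℳ
a quasi-coherent graded 𝒮-module (non-negatively graded here) satisfying (TF). Then there is one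
integer N such that for every n ≥ N and every affine open U of Y the canonical map α_n : ℳ(U)_n →
Γ(Proj 𝒮(U), (ℳ(U)(n))~), m ↦ m/1, is bijective. (The statement is read on the sections over the
affine opens of Y: over an affine open U the module (ℳ(n))~ on Proj(𝒮) restricts to the module
attached to the shifted graded 𝒮(U)-module ℳ(U)(n), so this is the bijectivity of the sheaf
homomorphism α_n from ℳ_n to the direct image of (ℳ(n))~, with a bound uniform over Y.) -/
theorem result {Y : Scheme.{u}}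
    [AlgebraicGeometry.IsNoetherian Y] (𝒮 : RelProj.QCGrAlg Y)
    (hft : ∀ (U : Y.Opens) (hU : IsAffineOpen U), (𝒮.str.app (op U)).hom.FiniteType)
    (ℳ : RelProj.GrModule 𝒮) (hℳ : Coh.IsQCoh ((AMod.toOS 𝒮.toQCAlg).obj ℳ.mod)) (hTF : ℳ.IsTF) :
    ∃ N : ℕ, ∀ n : ℕ, N ≤ n → ∀ (U : Y.Opens) (hU : IsAffineOpen U),
      Function.Bijective (GrMod.alpha (𝒮.deg U hU) (ℳ.deg U hU) n) := by
  classical
  obtain ⟨k, hk⟩ := hTF
  have hloc : ∀ (V : Y.Opens) (hV : IsAffineOpen V), ∃ N : ℕ, ∀ n : ℕ, N ≤ n →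
      Function.Bijective (GrMod.alpha (𝒮.deg V hV) (ℳ.deg V hV) n) := by
    intro V hV
    haveI : IsNoetherianRing (𝒮.presheaf.obj (op V)) :=
      Groth.Agent.Lib.Helper28.RelAlpha.isNoetherianRing_sections hft V hV
    exact Groth.Agent.S5745.result (𝒮.deg V hV) (ℳ.deg V hV) ⟨k, hk V hV⟩
  choose nU hnU using hloc
  obtain ⟨t, ht⟩ := isCompact_univ.elim_finite_subcover (fun i : Y.affineOpens => (i.1 : Set Y))
    (fun i => i.1.2) (by
      intro q _
      have hy : q ∈ (⨆ V : Y.affineOpens, V.1 : Y.Opens) := by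
        rw [iSup_affineOpens_eq_top]; trivial
      obtain ⟨V, hV⟩ := Opens.mem_iSup.mp hy
      exact Set.mem_iUnion.2 ⟨V, hV⟩)
  refine ⟨t.sup (fun i => nU i.1 i.2), fun n hn U hU => ?_⟩
  have hP := Groth.Agent.Lib.Helper28.RelProjExists.isRelProj 𝒮
  have hF := Groth.Agent.Lib.Helper28.RelTildeEx.isRelTilde (ℳ := ℳ) hℳ hP (n : ℤ)
  refine Groth.Agent.Lib.Helper28.RelAlpha.alpha_bijective_of_local hft hP hF hℳ hU fun x _ => ?_
  obtain ⟨i, hit, hxi⟩ := Set.mem_iUnion₂.1 (ht (Set.mem_univ x))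
  refine ⟨i.1, i.2, hxi, hnU i.1 i.2 n ?_⟩
  exact (Finset.le_sup (f := fun i : Y.affineOpens => nU i.1 i.2) hit).trans hn

end Groth.Agent.S5746
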