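import Groth.Statements.S5747
import Groth.Agent.Lib.Helper28.RelProjFT
import Groth.Agent.Lib.Helper28.GrTwistFin
import Groth.Agent.Lib.Helper28.RelTildeFin

set_option autoImplicit false
universe u
open CategoryTheory CategoryTheory.Limits AlgebraicGeometry Opposite TopologicalSpace
open scoped HomogeneousIdeal
noncomputable section
open Coherent

open Groth.Agent.Lib.Helper28

namespace Groth.Agent.S5747

/-- Let Y be a Noetherian scheme, 𝒮 a quasi-coherent positively graded O_Y-algebra of finite type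
(generators of any positive degrees), p : X = Proj(𝒮) → Y its relative homogeneous spectrum with its
charts over the affine opens, and n any integer. Then the homogeneous component O_X(n), given
through its chartwise identifications with the twisting modules O(n) on the Proj 𝒮(U), is a coherent
O_X-module (quasi-coherent of finite type; X is locally Noetherian). -/
theorem result {Y X : Scheme.{u}} [AlgebraicGeometry.IsNoetherian Y]
    (𝒮 : RelProj.QCGrAlg Y)
    (hft : ∀ (U : Y.Opens) (hU : IsAffineOpen U), (𝒮.str.app (op U)).hom.FiniteType)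
    (p : X ⟶ Y)
    (chart : ∀ (U : Y.Opens) (hU : IsAffineOpen U), (((p ⁻¹ᵁ U : X.Opens) : Scheme.{u}) ≅ Proj (𝒮.deg U hU)))
    (hP : RelProj.IsRelProj 𝒮 p chart) (n : ℤ) (L : X.Modules)
    (lam : ∀ (U : Y.Opens) (hU : IsAffineOpen U),
      L ⟶ (Scheme.Modules.pushforward (RelProj.emb p chart U hU)).obj (GrTwist.twist (𝒮.deg U hU) n))
    (hL : RelProj.IsRelTwist 𝒮 p chart n L lam) : Coh.IsCoh L := by
  classical
  haveI : ∀ i : Y.affineOpens, (GrTwist.twist (𝒮.deg i.1 i.2) n).IsQuasicoherent :=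
    fun i => GrTwistQC.isQuasicoherent_twist (𝒮.deg i.1 i.2) n
  have hbij : ∀ (i : Y.affineOpens) (W : X.Opens), W ≤ (RelProj.emb p chart i.1 i.2).opensRange →
      Function.Bijective ((lam i.1 i.2).app W) :=
    fun i W hW => hL.bijective i.1 i.2 W (hW.trans (RelProjQC.opensRange_emb p chart i.1 i.2).le)
  have hqc : L.IsQuasicoherent :=
    QCohLoc.isQuasicoherent_of_charts L (fun i : Y.affineOpens => Proj (𝒮.deg i.1 i.2))
      (fun i => RelProj.emb p chart i.1 i.2) (fun i => GrTwist.twist (𝒮.deg i.1 i.2) n)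
      (fun i => lam i.1 i.2) hbij (RelProjQC.exists_mem_opensRange_emb p chart)
  refine ⟨hqc, ?_⟩
  -- generators over the affine opens
  have hG : ∀ V : Y.affineOpens, ∃ G : Finset (𝒮.presheaf.obj (op V.1)),
      (∀ g ∈ G, ∃ e : ℕ, 0 < e ∧ g ∈ 𝒮.deg V.1 V.2 e) ∧
        Subring.closure ((𝒮.deg V.1 V.2 0 : Set (𝒮.presheaf.obj (op V.1))) ∪
          (G : Set (𝒮.presheaf.obj (op V.1)))) = ⊤ := by
    intro V
    have h1 := hft V.1 V.2
    exact RelProjFT.exists_finset_generators (A := 𝒮.presheaf.obj (op V.1)) (R := Γ(Y, V.1))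
      (𝒮.deg V.1 V.2) (𝒮.str.app (op V.1)).hom (fun r => 𝒮.str_mem V.1 V.2 r) h1
  choose G hGdeg hGgen using hG
  have hGcov : ∀ (V : Y.affineOpens) (z : Proj (𝒮.deg V.1 V.2)),
      ∃ g ∈ G V, z ∈ Proj.basicOpen (𝒮.deg V.1 V.2) g := fun V z =>
    RelProjFT.cover_of_closure (A := 𝒮.presheaf.obj (op V.1)) (𝒮.deg V.1 V.2)
      (G V : Set (𝒮.presheaf.obj (op V.1))) (hGdeg V) (hGgen V) z
  refine QCohLoc.isFiniteType_of_charts L (fun i : Y.affineOpens => Proj (𝒮.deg i.1 i.2))
    (fun i => RelProj.emb p chart i.1 i.2) (fun i => GrTwist.twist (𝒮.deg i.1 i.2) n)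
    (fun i => lam i.1 i.2) hbij (κ := fun i => {g // g ∈ G i})
    (fun i g => Proj.basicOpen (𝒮.deg i.1 i.2) g.1) ?_ ?_ ?_
  · intro i g
    obtain ⟨e, he, hg⟩ := hGdeg i g.1 g.2
    exact Proj.isAffineOpen_basicOpen (𝒮.deg i.1 i.2) g.1 hg he
  · intro x
    obtain ⟨V, z, hz⟩ := RelProjQC.exists_mem_opensRange_emb p chart x
    obtain ⟨g, hg, hzg⟩ := hGcov V z
    exact ⟨V, ⟨g, hg⟩, ⟨z, hzg, hz⟩⟩
  · intro i g
    obtain ⟨e, he, hg⟩ := hGdeg i g.1 g.2
    exact GrTwistFin.finite_basicOpen_twist (𝒮.deg i.1 i.2) hg n he (G i)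
      (fun g' hg' => hGdeg i g' hg') (hGgen i)

end Groth.Agent.S5747
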