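import Groth.Statements.S5751
import Groth.Agent.Lib.Helper28.GrAlpha3

set_option autoImplicit false
universe u
open CategoryTheory CategoryTheory.Limits AlgebraicGeometry Opposite TopologicalSpace
open scoped HomogeneousIdeal
noncomputable section
open Coherent

namespace Groth.Agent.S5751

open Groth.Agent.Lib.Helper28.GrSect Groth.Agent.Lib.Helper28.GrAlpha

section aux
variable {A σ : Type u} [CommRing A] [SetLike σ A] [AddSubgroupClass σ A] (𝒜 : ℕ → σ) [GradedRing 𝒜]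
variable {M τ : Type u} [AddCommGroup M] [Module A M] [SetLike τ M] [AddSubgroupClass τ M] (ℳ : ℕ → τ)

omit [AddSubgroupClass τ M] in
theorem mk_add (y : ProjectiveSpectrum 𝒜) (x x' : M) :
    (LocalizedModule.mk (x + x') 1 : LocM 𝒜 (M := M) y) = LocalizedModule.mk x 1 + LocalizedModule.mk x' 1 :=
  (LocalizedModule.mkLinearMap y.asHomogeneousIdeal.toIdeal.primeCompl M).map_add x x'

omit [AddSubgroupClass τ M] in
theorem mk_neg (y : ProjectiveSpectrum 𝒜) (x : M) :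
    (LocalizedModule.mk (-x) 1 : LocM 𝒜 (M := M) y) = - LocalizedModule.mk x 1 :=
  (LocalizedModule.mkLinearMap y.asHomogeneousIdeal.toIdeal.primeCompl M).map_neg x

/-- generation in degree one: `A_{j+e}` is additively generated by `A_e · A_j` -/
theorem mem_closure_mul (hgen : (HomogeneousIdeal.irrelevant 𝒜).toIdeal = Ideal.span (𝒜 1 : Set A))
    (j : ℕ) : ∀ (e : ℕ) (b : A), b ∈ 𝒜 (j + e) →
      b ∈ AddSubgroup.closure {x : A | ∃ a ∈ 𝒜 e, ∃ a' ∈ 𝒜 j, x = a * a'} := by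
  classical
  intro e
  induction e with
  | zero =>
    intro b hb
    exact AddSubgroup.subset_closure ⟨1, SetLike.GradedOne.one_mem, b, hb, (one_mul b).symm⟩
  | succ e ih =>
    intro b hb
    have hbI : b ∈ (HomogeneousIdeal.irrelevant 𝒜).toIdeal :=
      HomogeneousIdeal.mem_irrelevant_of_mem 𝒜 (by omega) hb
    rw [hgen] at hbI
    obtain ⟨c, hc⟩ := (Submodule.mem_span_set (R := A)).1 hbI
    have h1 : b = (DirectSum.decompose 𝒜 b (j + (e + 1)) : A) := by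
      rw [DirectSum.decompose_of_mem_same 𝒜 hb]
    rw [h1, ← hc.2, Finsupp.sum, DirectSum.decompose_sum, DFinsupp.finsetSum_apply,
      AddSubmonoidClass.coe_finsetSum]
    refine AddSubgroup.sum_mem _ fun g hg => ?_
    have hg1 : g ∈ 𝒜 1 := hc.1 hg
    rw [smul_eq_mul, DirectSum.coe_decompose_mul_of_right_mem_of_le 𝒜 hg1 (by omega)]
    have hidx : j + (e + 1) - 1 = j + e := by omega
    rw [hidx]
    have h2 := ih _ (SetLike.coe_mem (DirectSum.decompose 𝒜 (c g) (j + e)))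
    refine AddSubgroup.closure_induction (p := fun x _ => x * g ∈
      AddSubgroup.closure {x : A | ∃ a ∈ 𝒜 (e + 1), ∃ a' ∈ 𝒜 j, x = a * a'}) ?_ ?_ ?_ ?_ h2
    · rintro x ⟨a, ha, a', ha', rfl⟩
      refine AddSubgroup.subset_closure ⟨a * g, SetLike.mul_mem_graded ha hg1, a', ha', ?_⟩
      ring
    · rw [zero_mul]
      exact zero_mem _
    · intro x y _ _ hx hy
      rw [add_mul]
      exact add_mem hx hy
    · intro x _ hx
      rw [neg_mul]
      exact neg_mem hx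

variable [DirectSum.Decomposition ℳ] [SetLike.GradedSMul 𝒜 ℳ]

/-- under (TF) and generation in degree one: `M_{k+e}` is additively generated by `A_e · M_k` for large `k` -/
theorem mem_closure_smul (hgen : (HomogeneousIdeal.irrelevant 𝒜).toIdeal = Ideal.span (𝒜 1 : Set A))
    (hTF : ∃ k : ℕ, (Submodule.span A (⋃ i ∈ Set.Ici k, (ℳ i : Set M))).FG) :
    ∃ k₁ : ℕ, ∀ k, k₁ ≤ k → ∀ (e : ℕ) (m : M), m ∈ ℳ (k + e) →
      m ∈ AddSubgroup.closure {x : M | ∃ a ∈ 𝒜 e, ∃ m' ∈ ℳ k, x = a • m'} := by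
  classical
  obtain ⟨k₀, hfg⟩ := hTF
  obtain ⟨G, hGS, hGspan⟩ := (Submodule.fg_span_iff_fg_span_finset_subset _).1 hfg
  have hG1 : ∀ g ∈ G, ∃ i, k₀ ≤ i ∧ g ∈ ℳ i := by
    intro g hg
    obtain ⟨i, hi, hgi⟩ := Set.mem_iUnion₂.1 (hGS hg)
    exact ⟨i, hi, hgi⟩
  choose! dg hdg using hG1
  refine ⟨max (G.sup dg) k₀, fun k hk e m hm => ?_⟩
  have hmM' : m ∈ Submodule.span A (⋃ i ∈ Set.Ici k₀, (ℳ i : Set M)) :=
    Submodule.subset_span (Set.mem_biUnion (show k + e ∈ Set.Ici k₀ from by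
      have := le_trans (le_max_right _ _) hk
      exact le_trans this (Nat.le_add_right _ _)) hm)
  rw [hGspan] at hmM'
  obtain ⟨c, -, hc⟩ := Submodule.mem_span_finset.1 hmM'
  have h1 : m = (DirectSum.decompose ℳ m (k + e) : M) := by
    rw [DirectSum.decompose_of_mem_same ℳ hm]
  rw [h1, ← hc, DirectSum.decompose_sum, DFinsupp.finsetSum_apply, AddSubmonoidClass.coe_finsetSum]
  refine AddSubgroup.sum_mem _ fun g hg => ?_
  have hle : dg g ≤ k := le_trans (Finset.le_sup (f := dg) hg) (le_trans (le_max_left _ _) hk)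
  rw [decompose_smul_of_right_mem_of_le 𝒜 ℳ (hdg g hg).2 (by omega)]
  have hidx : k + e - dg g = (k - dg g) + e := by omega
  rw [hidx]
  have h2 := mem_closure_mul 𝒜 hgen (k - dg g) e _
    (SetLike.coe_mem (DirectSum.decompose 𝒜 (c g) ((k - dg g) + e)))
  refine AddSubgroup.closure_induction (p := fun x _ => x • g ∈
    AddSubgroup.closure {x : M | ∃ a ∈ 𝒜 e, ∃ m' ∈ ℳ k, x = a • m'}) ?_ ?_ ?_ ?_ h2
  · rintro x ⟨a, ha, a', ha', rfl⟩
    refine AddSubgroup.subset_closure ⟨a, ha, a' • g, ?_, mul_smul a a' g⟩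
    have : k - dg g + dg g = k := by omega
    have h3 : a' • g ∈ ℳ (k - dg g + dg g) := SetLike.GradedSMul.smul_mem ha' (hdg g hg).2
    rwa [this] at h3
  · rw [zero_smul]
    exact zero_mem _
  · intro x y _ _ hx hy
    rw [add_smul]
    exact add_mem hx hy
  · intro x _ hx
    rw [neg_smul]
    exact neg_mem hx

end aux


/-- Over an affine base, for a graded ring generated in degree one, let S be a Noetherian commutative
ring positively graded by additive subgroups with irrelevant ideal generated by S_1, X = Proj S, and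
M a graded S-module (non-negatively graded here, the direct sum of its pieces) satisfying (TF): for
some k the submodule generated by the homogeneous elements of degree ≥ k is finitely generated.
Consider the graded module of sections n ↦ N_n = Γ(X, M(n)~), on which a homogeneous a ∈ S_e acts by
N_n → N_{n+e}, s ↦ (a/1)·s. Then there is k such that for every e ≥ 0 the group N_{k+e} is generated
by the images a · N_k, a ∈ S_e. (For a ring generated in degree one, condition (TF) for the graded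
module ⊕_n N_n is this eventual generation together with the finiteness of each N_n over S_0.) -/
theorem result {A σ : Type u} [CommRing A]
    [IsNoetherianRing A] [SetLike σ A] [AddSubgroupClass σ A] (𝒜 : ℕ → σ) [GradedRing 𝒜]
    (hgen : (HomogeneousIdeal.irrelevant 𝒜).toIdeal = Ideal.span (𝒜 1 : Set A))
    {M τ : Type u} [AddCommGroup M] [Module A M] [SetLike τ M] [AddSubgroupClass τ M] (ℳ : ℕ → τ)
    [SetLike.GradedSMul 𝒜 ℳ] [DirectSum.Decomposition ℳ]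
    (hTF : ∃ k : ℕ, (Submodule.span A (⋃ i ∈ Set.Ici k, (ℳ i : Set M))).FG) :
    ∃ k : ℕ, ∀ e : ℕ,
      (⨆ a : 𝒜 e, (GrMod.smulSect 𝒜 ℳ a (k : ℤ)
        (op (⊤ : Opens (ProjectiveSpectrum.top 𝒜)))).range) = ⊤ := by
  obtain ⟨N₀, hN₀⟩ := exists_bound 𝒜 ℳ hTF
  obtain ⟨k₁, hk₁⟩ := mem_closure_smul 𝒜 ℳ hgen hTF
  have hh : ∃ k, N₀ ≤ k ∧ k₁ ≤ k := ⟨N₀ + k₁, Nat.le_add_right _ _, Nat.le_add_left _ _⟩
  obtain ⟨k, hk0, hk1⟩ := hh
  refine ⟨k, fun e => ?_⟩
  rw [eq_top_iff]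
  intro t _
  have hF : IsGlobFrac 𝒜 ℳ ((k + e : ℕ) : ℤ) (fun y =>
      ((t.1 ⟨y, trivial⟩ : GrMod.tildeAt 𝒜 ℳ ((k : ℤ) + (e : ℤ)) y) : GrMod.LocMod 𝒜 (M := M) y)) := by
    intro x
    obtain ⟨V, hxV, iV, i, j, m, s, s_nin, hdeg, hw⟩ := t.2 ⟨x, trivial⟩
    refine ⟨V, hxV, i, j, m.1, m.2, s.1, s.2, fun y hy => s_nin ⟨y, hy⟩, ?_, fun y hy => hw ⟨y, hy⟩⟩
    push_cast
    exact hdeg
  have h2 := (hN₀ (k + e) (le_trans hk0 (Nat.le_add_right _ _))).2 _ hF
  obtain ⟨m, hm, hval⟩ := h2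
  have hmW := hk₁ k hk1 e m hm
  have key : ∃ t' : GrMod.sect 𝒜 ℳ ((k : ℤ) + (e : ℤ)) (op (⊤ : Opens (ProjectiveSpectrum.top 𝒜))),
      (∀ y : (⊤ : Opens (ProjectiveSpectrum.top 𝒜)),
        ((t'.1 y : GrMod.tildeAt 𝒜 ℳ ((k : ℤ) + (e : ℤ)) y.1) : GrMod.LocMod 𝒜 (M := M) y.1) =
          LocalizedModule.mk m 1) ∧
      t' ∈ ⨆ a : 𝒜 e, (GrMod.smulSect 𝒜 ℳ a (k : ℤ)
        (op (⊤ : Opens (ProjectiveSpectrum.top 𝒜)))).range := by
    refine AddSubgroup.closure_induction (p := fun x _ =>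
      ∃ t' : GrMod.sect 𝒜 ℳ ((k : ℤ) + (e : ℤ)) (op (⊤ : Opens (ProjectiveSpectrum.top 𝒜))),
      (∀ y : (⊤ : Opens (ProjectiveSpectrum.top 𝒜)),
        ((t'.1 y : GrMod.tildeAt 𝒜 ℳ ((k : ℤ) + (e : ℤ)) y.1) : GrMod.LocMod 𝒜 (M := M) y.1) =
          LocalizedModule.mk x 1) ∧
      t' ∈ ⨆ a : 𝒜 e, (GrMod.smulSect 𝒜 ℳ a (k : ℤ)
        (op (⊤ : Opens (ProjectiveSpectrum.top 𝒜)))).range) ?_ ?_ ?_ ?_ hmW
    · rintro x ⟨a, ha, m', hm', rfl⟩
      refine ⟨GrMod.smulSect 𝒜 ℳ (⟨a, ha⟩ : 𝒜 e) (k : ℤ) _ (GrMod.globalOf 𝒜 ℳ ⟨m', hm'⟩), fun y => ?_,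
        AddSubgroup.mem_iSup_of_mem (⟨a, ha⟩ : 𝒜 e) ⟨_, rfl⟩⟩
      rw [GrMod.smulSect_apply_coe, GrMod.globalOf_apply_coe, LocalizedModule.mk_smul_mk, one_mul]
    · exact ⟨0, fun y => (LocalizedModule.zero_mk _).symm, zero_mem _⟩
    · rintro x y _ _ ⟨tx, htx, htxT⟩ ⟨ty, hty, htyT⟩
      refine ⟨tx + ty, fun z => ?_, add_mem htxT htyT⟩
      have h1 : (((tx + ty).1 z : GrMod.tildeAt 𝒜 ℳ ((k : ℤ) + (e : ℤ)) z.1) :
          GrMod.LocMod 𝒜 (M := M) z.1) = (tx.1 z).1 + (ty.1 z).1 := rfl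
      rw [h1, htx z, hty z]
      exact (mk_add 𝒜 z.1 x y).symm
    · rintro x _ ⟨tx, htx, htxT⟩
      refine ⟨-tx, fun z => ?_, neg_mem htxT⟩
      have h1 : (((-tx).1 z : GrMod.tildeAt 𝒜 ℳ ((k : ℤ) + (e : ℤ)) z.1) :
          GrMod.LocMod 𝒜 (M := M) z.1) = - (tx.1 z).1 := rfl
      rw [h1, htx z]
      exact (mk_neg 𝒜 z.1 x).symm
  obtain ⟨t', ht', ht'T⟩ := key
  have : t = t' := Subtype.ext (funext fun y => Subtype.ext ((hval y.1).trans (ht' y).symm))
  rw [this]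
  exact ht'T

end Groth.Agent.S5751
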