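import Groth.Statements.S5753
import Mathlib

set_option autoImplicit false
universe u
open EGA41

namespace Groth.Agent.S5753

/-- Let A be a Noetherian local ring with maximal ideal m and residue field k, and N a finitely
generated A-module. Then no element of m is N-regular (multiplication by it injective) if and only
if Hom_A(k, N) is nonzero. Applied to N = M/(x_1 M + ... + x_n M) for an M-regular sequence (x_i) in
m, this says that the sequence cannot be extended by an element of m if and only if Hom_A(k, M/(x_1
M + ... + x_n M)) ≠ 0. (The published statement allows an arbitrary module; for the direct sum N of
the quotients of a two-dimensional regular local ring by all its height-one primes no element of m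
is N-regular while Hom_A(k, N) = 0, and the published proof uses finiteness of the set of associated
primes, so N is taken finitely generated here.) -/
theorem result (A : Type u) [CommRing A]
    [IsLocalRing A] [IsNoetherianRing A] (N : Type u) [AddCommGroup N] [Module A N] [Module.Finite A N] :
    (∀ x ∈ IsLocalRing.maximalIdeal A, ¬ IsSMulRegular N x) ↔
      Nontrivial (IsLocalRing.ResidueField A →ₗ[A] N) := by
  have hann : Module.annihilator A (IsLocalRing.ResidueField A) = IsLocalRing.maximalIdeal A := by
    ext r
    rw [Module.mem_annihilator]
    constructor
    · intro h
      have := h 1
      rw [Algebra.smul_def, mul_one] at this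
      exact (IsLocalRing.residue_eq_zero_iff r).mp this
    · intro hr x
      rw [Algebra.smul_def]
      have : algebraMap A (IsLocalRing.ResidueField A) r = 0 :=
        (IsLocalRing.residue_eq_zero_iff r).mpr hr
      rw [this, zero_mul]
  have key := IsSMulRegular.subsingleton_linearMap_iff (R := A) (M := N)
    (N := IsLocalRing.ResidueField A)
  rw [hann] at key
  rw [← not_subsingleton_iff_nontrivial, key]
  push Not
  rfl

end Groth.Agent.S5753
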