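import Groth.Statements.S5755
import Mathlib.RingTheory.Ideal.MinimalPrime.Localization
import Mathlib.RingTheory.Ideal.MinimalPrime.Noetherian
-- import your own Groth.Agent.* helpers here

set_option autoImplicit false
universe u
open EGA41

namespace Groth.Agent.S5755

/-- A reduced Noetherian local ring A has depth 0 if and only if A is a field. -/
theorem result (A : Type u) [CommRing A] [IsLocalRing A]
    [IsNoetherianRing A] [IsReduced A] : LocCoh.depth A A = 0 ↔ IsField A := by
  have hm : IsLocalRing.maximalIdeal A • (⊤ : Submodule A A) ≠ ⊤ := by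
    rw [smul_eq_mul, Ideal.mul_top]
    exact Ideal.IsPrime.ne_top'
  unfold LocCoh.depth LocCoh.idealDepth
  rw [if_neg hm]
  simp only [ENat.iSup_eq_zero, Nat.cast_eq_zero, List.length_eq_zero_iff]
  constructor
  · intro h
    -- every element of the maximal ideal is a zero divisor
    have hzd : ∀ r ∈ IsLocalRing.maximalIdeal A, ¬ IsSMulRegular A r := by
      intro r hr hreg
      have := h [r] ⟨by
        rw [RingTheory.Sequence.isWeaklyRegular_cons_iff]
        exact ⟨hreg, RingTheory.Sequence.IsWeaklyRegular.nil A _⟩, by simpa using hr⟩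
      simp at this
    have hsub : ((IsLocalRing.maximalIdeal A : Ideal A) : Set A) ⊆
        ⋃ p ∈ (((minimalPrimes.finite_of_isNoetherianRing A).toFinset : Finset (Ideal A)) :
          Set (Ideal A)), ((id p : Ideal A) : Set A) := by
      intro r hr
      have h1 : r ∈ { x | ∃ y ∉ (⊥ : Ideal A).radical, x * y ∈ (⊥ : Ideal A).radical } := by
        have hnr := hzd r hr
        rw [isSMulRegular_iff_right_eq_zero_of_smul] at hnr
        push_neg at hnr
        obtain ⟨y, hy, hy0⟩ := hnr
        refine ⟨y, ?_, ?_⟩
        · rw [Ideal.radical_bot_of_isReduced]  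
          simpa using hy0
        · rw [Ideal.radical_bot_of_isReduced]
          simpa using hy
      rw [← Ideal.iUnion_minimalPrimes] at h1
      simpa using h1
    have hsub' := (Ideal.subset_union_prime (f := id) (⊥ : Ideal A) ⊥ (by
      intro i hi _ _
      rw [Set.Finite.mem_toFinset] at hi
      exact hi.1.1)).mp hsub
    obtain ⟨P, hP, hmP⟩ := hsub'
    rw [Set.Finite.mem_toFinset] at hP
    rw [IsLocalRing.isField_iff_maximalIdeal_eq]
    rw [eq_bot_iff]
    intro x hx
    have hxn : x ∈ nilradical A := by
      rw [nilradical_eq_sInf, Ideal.mem_sInf]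
      intro Q hQ
      have hQ' : Q.IsPrime := hQ
      have hQm : Q ≤ IsLocalRing.maximalIdeal A := IsLocalRing.le_maximalIdeal hQ'.ne_top
      exact hP.2 ⟨hQ', bot_le⟩ (hQm.trans hmP) (hmP hx)
    rw [nilradical_eq_zero] at hxn
    exact hxn
  · intro hF rs ⟨hreg, hmem⟩
    rw [IsLocalRing.isField_iff_maximalIdeal_eq] at hF
    cases rs with
    | nil => rfl
    | cons r rs' =>
      exfalso
      rw [RingTheory.Sequence.isWeaklyRegular_cons_iff] at hreg
      have hr : r = 0 := by
        have := hmem r (by simp)
        rw [hF] at this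
        simpa using this
      rw [hr] at hreg
      have h0 := hreg.1
      have : (1 : A) = 0 := h0 (by simp)
      exact one_ne_zero this

end Groth.Agent.S5755
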