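import Groth.Statements.S5760
import Mathlib
import Groth.Agent.Lib.Helper21.DepthKit5

set_option autoImplicit false
universe u
open EGA41

namespace Groth.Agent.S5760
open Groth.Agent.Lib.Helper21.DepthKit


/-- Let A be a Noetherian local ring, M a nonzero finitely generated Cohen-Macaulay A-module, p a prime
ideal in the support of M and r the integer dim(M) - dim(M/pM). Then there exists an M-regular
sequence x_1, ..., x_r of elements of p; for every such sequence, dim(M/(x_1 M + ... + x_r M)) =
dim(M/pM) = dim(A/p), and p is a minimal element of the set of associated primes of M/(x_1 M + ... +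
x_r M). -/
theorem result (A : Type u) [CommRing A]
    [IsLocalRing A] [IsNoetherianRing A] (M : Type u) [AddCommGroup M] [Module A M] [Module.Finite A M]
    (hM : LocCoh.IsCohenMacaulayModule A M) (p : PrimeSpectrum A) (hp : p ∈ Module.support A M) (r : ℕ)
    (hr : Module.supportDim A (M ⧸ (p.asIdeal • (⊤ : Submodule A M))) + r = Module.supportDim A M) :
    (∃ xs : List A, xs.length = r ∧ (∀ x ∈ xs, x ∈ p.asIdeal) ∧ RingTheory.Sequence.IsWeaklyRegular M xs) ∧
      ∀ xs : List A, xs.length = r → (∀ x ∈ xs, x ∈ p.asIdeal) → RingTheory.Sequence.IsWeaklyRegular M xs →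
        Module.supportDim A (M ⧸ (Ideal.ofList xs • (⊤ : Submodule A M))) =
            Module.supportDim A (M ⧸ (p.asIdeal • (⊤ : Submodule A M))) ∧
          Module.supportDim A (M ⧸ (p.asIdeal • (⊤ : Submodule A M))) = ringKrullDim (A ⧸ p.asIdeal) ∧
          p.asIdeal ∈ associatedPrimes A (M ⧸ (Ideal.ofList xs • (⊤ : Submodule A M))) ∧
          ∀ q ∈ associatedPrimes A (M ⧸ (Ideal.ofList xs • (⊤ : Submodule A M))), q ≤ p.asIdeal → q = p.asIdeal := by
  refine ⟨exists_isWeaklyRegular_in_prime_of_isCM r M hM p hp hr, ?_⟩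
  intro xs hlen hxs hreg
  have hnt := nontrivial_of_isCM hM
  have hpm : p.asIdeal ≤ IsLocalRing.maximalIdeal A := IsLocalRing.le_maximalIdeal p.2.ne_top
  have hxm : ∀ x ∈ xs, x ∈ IsLocalRing.maximalIdeal A := fun x hx => hpm (hxs x hx)
  have hR : RingTheory.Sequence.IsRegular M xs :=
    (IsLocalRing.isRegular_iff_isWeaklyRegular_of_subset_maximalIdeal hxm).2 hreg
  have h1 := Module.supportDim_add_length_eq_supportDim_of_isRegular xs hR
  have hntN := nontrivial_quot_ofList (M := M) xs hxm
  have hdimp := supportDim_quot_smul_top_eq p hp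
  -- dimension equality (i)
  have hi : Module.supportDim A (M ⧸ (Ideal.ofList xs • (⊤ : Submodule A M))) =
      Module.supportDim A (M ⧸ (p.asIdeal • (⊤ : Submodule A M))) := by
    obtain ⟨a, ha⟩ := exists_nat_supportDim (A := A)
      (M := M ⧸ (Ideal.ofList xs • (⊤ : Submodule A M)))
    obtain ⟨n, hn⟩ := exists_nat_supportDim (A := A) (M := M)
    have hntP : Nontrivial (M ⧸ (p.asIdeal • (⊤ : Submodule A M))) := by
      apply Submodule.Quotient.nontrivial_iff.2
      intro h
      apply maximalIdeal_smul_top_ne_top (A := A) (M := M)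
      exact top_le_iff.1 (h.symm.le.trans (Submodule.smul_mono_left hpm))
    obtain ⟨b, hb⟩ := exists_nat_supportDim (A := A)
      (M := M ⧸ (p.asIdeal • (⊤ : Submodule A M)))
    rw [ha, hn, hlen] at h1
    rw [hb, hn] at hr
    have e1 : a + r = n := by exact_mod_cast h1
    have e2 : b + r = n := by exact_mod_cast hr
    rw [ha, hb]
    have : a = b := by omega
    rw [this]
  have hN := isCM_quot_ofList xs M hM hxm hreg
  have hpN : p ∈ Module.support A (M ⧸ (Ideal.ofList xs • (⊤ : Submodule A M))) := by
    rw [Module.support_quotient]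
    refine ⟨hp, ?_⟩
    rw [PrimeSpectrum.mem_zeroLocus]
    intro y hy
    have : Ideal.ofList xs ≤ p.asIdeal := by
      rw [Ideal.ofList, Ideal.span_le]
      exact fun x hx => hxs x hx
    exact this hy
  have hdimN : ringKrullDim (A ⧸ p.asIdeal) =
      Module.supportDim A (M ⧸ (Ideal.ofList xs • (⊤ : Submodule A M))) := by
    rw [hi, hdimp]
  exact ⟨hi, hdimp, mem_associatedPrimes_of_isCM_of_dim_eq hN p hpN hdimN,
    fun q hq hqp => eq_of_le_of_mem_associatedPrimes_of_isCM hN p hdimN hq hqp⟩

end Groth.Agent.S5760
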