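import Groth.Statements.S5764
import Mathlib.RingTheory.Ideal.Height
import Mathlib.RingTheory.Ideal.GoingUp

set_option autoImplicit false
universe u
open EGA41

namespace Groth.Agent.S5764

/-- Let B be an integral domain, A a local subring of B which is integrally closed (in its field of
fractions), and suppose B is integral over A. Then dim(B_n) = dim(A) for every maximal ideal n of B. -/
theorem result (A B : Type u) [CommRing A]
    [CommRing B] [IsDomain B] [Algebra A B] (hinj : Function.Injective (algebraMap A B)) [IsDomain A]
    [IsLocalRing A] [IsIntegrallyClosed A] [Algebra.IsIntegral A B] (n : Ideal B) [n.IsMaximal] :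
    ringKrullDim (Localization.AtPrime n) = ringKrullDim A := by
  haveI : FaithfulSMul A B := (faithfulSMul_iff_algebraMap_injective A B).mpr hinj
  haveI : Algebra.HasGoingDown A B := inferInstance
  have hunder : n.under A = IsLocalRing.maximalIdeal A :=
    IsLocalRing.eq_maximalIdeal (inferInstance : (n.under A).IsMaximal)
  haveI : n.LiesOver (IsLocalRing.maximalIdeal A) := ⟨hunder.symm⟩
  rw [IsLocalization.AtPrime.ringKrullDim_eq_height n (Localization.AtPrime n),
    ← IsLocalRing.maximalIdeal_height_eq_ringKrullDim (R := A)]
  congr 1
  let N : PrimeSpectrum B := ⟨n, inferInstance⟩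
  let m : PrimeSpectrum A := ⟨IsLocalRing.maximalIdeal A, inferInstance⟩
  have hN : n.height = Order.height N := PrimeSpectrum.height_eq_orderHeight N
  have hm : (IsLocalRing.maximalIdeal A).height = Order.height m :=
    PrimeSpectrum.height_eq_orderHeight m
  rw [hN, hm]
  apply le_antisymm
  · have hmono : StrictMono (PrimeSpectrum.comap (algebraMap A B)) := by
      intro P Q hPQ
      have : P.asIdeal < Q.asIdeal := hPQ
      exact Ideal.IsIntegral.comap_lt_comap (R := A) this
    have h1 := Order.height_le_height_apply_of_strictMono _ hmono N
    have h2 : PrimeSpectrum.comap (algebraMap A B) N = m := by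
      ext1
      exact hunder
    rwa [h2] at h1
  · rw [Order.height_le_iff']
    intro l hl
    haveI : n.LiesOver l.last.asIdeal := by
      rw [hl]; infer_instance
    obtain ⟨L, hlen, hlast, -⟩ := Ideal.exists_ltSeries_of_hasGoingDown l n
    rw [← hlen]
    exact Order.length_le_height (le_of_eq hlast)

end Groth.Agent.S5764
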