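import Groth.Statements.S5766
import Groth.Agent.S5763
import Mathlib.LinearAlgebra.Matrix.Charpoly.LinearMap
import Mathlib.RingTheory.Ideal.Over

set_option autoImplicit false
universe u
open EGA41

namespace Groth.Agent.S5766

/-- Let A be a Noetherian ring, ρ : A → B a ring homomorphism and M a B-module which is finitely
generated as an A-module via ρ. Then the dimension of M as an A-module equals its dimension as a
B-module. -/
theorem result (A B : Type u) [CommRing A] [CommRing B] [IsNoetherianRing A]
    [Algebra A B] (M : Type u) [AddCommGroup M] [Module B M] [Module A M] [IsScalarTower A B M]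
    [Module.Finite A M] : Module.supportDim A M = Module.supportDim B M := by
  haveI : Module.Finite B M := Module.Finite.of_restrictScalars_finite A B M
  rw [Module.supportDim_eq_ringKrullDim_quotient_annihilator,
    Module.supportDim_eq_ringKrullDim_quotient_annihilator]
  set I := Module.annihilator A M with hI
  set J := Module.annihilator B M with hJ
  have hIJ : I = J.comap (algebraMap A B) := by
    ext a
    rw [Ideal.mem_comap, hI, hJ, Module.mem_annihilator, Module.mem_annihilator]
    simp only [algebraMap_smul]
  haveI : J.LiesOver I := ⟨hIJ⟩
  haveI : Algebra.IsIntegral (A ⧸ I) (B ⧸ J) := by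
    constructor
    intro x
    obtain ⟨b, rfl⟩ := Ideal.Quotient.mk_surjective x
    obtain ⟨q, hq, hq0⟩ := LinearMap.exists_monic_and_aeval_eq_zero A (Algebra.lsmul A A M b)
    have hmem : Polynomial.aeval b q ∈ J := by
      rw [hJ, Module.mem_annihilator]
      intro m
      have h1 : Polynomial.aeval (Algebra.lsmul A A M b) q =
          Algebra.lsmul A A M (Polynomial.aeval b q) :=
        Polynomial.aeval_algHom_apply (Algebra.lsmul A A M) b q
      rw [h1] at hq0
      have := LinearMap.congr_fun hq0 m
      simpa using this
    have hint : IsIntegral A (Ideal.Quotient.mk J b) := by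
      refine ⟨q, hq, ?_⟩
      rw [← Polynomial.aeval_def]
      have h2 : Polynomial.aeval (Ideal.Quotient.mk J b) q =
          Ideal.Quotient.mkₐ A J (Polynomial.aeval b q) :=
        Polynomial.aeval_algHom_apply (Ideal.Quotient.mkₐ A J) b q
      rw [h2]
      exact Ideal.Quotient.eq_zero_iff_mem.mpr hmem
    exact hint.tower_top
  exact ((Groth.Agent.S5763.result (A ⧸ I) (B ⧸ J)).2
    (FaithfulSMul.algebraMap_injective (A ⧸ I) (B ⧸ J))).symm

end Groth.Agent.S5766
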