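import Groth.Statements.S5767
import Mathlib.RingTheory.KrullDimension.NonZeroDivisors
import Mathlib.RingTheory.Ideal.KrullsHeightTheorem

set_option autoImplicit false
universe u
open EGA41

namespace Groth.Agent.S5767

theorem ringKrullDim_lt_top_of_semilocal (A : Type u) [CommRing A] [IsNoetherianRing A]
    [Finite (MaximalSpectrum A)] : ringKrullDim A < ⊤ := by
  rcases subsingleton_or_nontrivial A with h | h
  · rw [ringKrullDim_eq_bot_of_subsingleton]; exact bot_lt_top
  · rw [← Ideal.sup_isMaximal_height_eq_ringKrullDim]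
    have hle : (⨆ (I : Ideal A) (_ : I.IsMaximal), I.height) ≤
        ⨆ m : MaximalSpectrum A, m.asIdeal.height := by
      refine iSup₂_le fun I hI => ?_
      exact le_iSup (fun m : MaximalSpectrum A => m.asIdeal.height) ⟨I, hI⟩
    haveI : Nonempty (MaximalSpectrum A) := by
      obtain ⟨m, hm⟩ := Ideal.exists_maximal A
      exact ⟨⟨m, hm⟩⟩
    obtain ⟨m, hm⟩ := exists_eq_ciSup_of_finite (f := fun m : MaximalSpectrum A => m.asIdeal.height)
    have hlt : (⨆ (I : Ideal A) (_ : I.IsMaximal), I.height) < ⊤ := by
      refine lt_of_le_of_lt hle ?_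
      rw [← hm]
      exact Ideal.height_lt_top m.isMaximal.ne_top
    rw [← WithBot.coe_top]
    exact WithBot.coe_lt_coe.mpr hlt

theorem add_one_le_of_coe_lt (k : ℕ) (D : WithBot ℕ∞) (h : (k : WithBot ℕ∞) < D) :
    ((k : WithBot ℕ∞) + 1) ≤ D := by
  induction D using WithBot.recBotCoe with
  | bot => exact (not_lt_bot h).elim
  | coe e =>
    have h' : (k : ℕ∞) < e := by exact_mod_cast h
    have : (k : ℕ∞) + 1 ≤ e := Order.add_one_le_of_lt h'
    exact_mod_cast this

/-- Let A be a semi-local Noetherian ring, M a finitely generated A-module and x an element of the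
Jacobson radical of A. One always has dim(M/xM) ≥ dim(M) - 1; equality dim(M/xM) = dim(M) - 1 holds
if and only if x belongs to none of the prime ideals p of Supp(M) with dim(A/p) = dim(M). Stated as:
dim(M/xM) + 1 = dim(M) iff x avoids those primes. -/
theorem result (A : Type u) [CommRing A] [IsNoetherianRing A]
    [Finite (MaximalSpectrum A)] (M : Type u) [AddCommGroup M] [Module A M] [Module.Finite A M] (x : A)
    (hx : x ∈ Ring.jacobson A) :
    Module.supportDim A (QuotSMulTop x M) + 1 = Module.supportDim A M ↔
      ∀ p : PrimeSpectrum A, p ∈ Module.support A M →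
        ringKrullDim (A ⧸ p.asIdeal) = Module.supportDim A M → x ∉ p.asIdeal := by
  have hxj : x ∈ (Module.annihilator A M).jacobson := Ideal.ringJacobson_le_jacobson hx
  have hge : Module.supportDim A M ≤ Module.supportDim A (QuotSMulTop x M) + 1 :=
    Module.supportDim_le_supportDim_quotSMulTop_succ_of_mem_jacobson hxj
  have hsupp : Module.support A (QuotSMulTop x M) =
      Module.support A M ∩ PrimeSpectrum.zeroLocus {x} := Module.support_quotSMulTop x
  have hVle : ∀ p : PrimeSpectrum A, p ∈ Module.support A M →
      ringKrullDim (A ⧸ p.asIdeal) ≤ Module.supportDim A M := by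
    intro p hp
    rw [ringKrullDim_quotient]
    refine Order.krullDim_le_of_strictMono
      (fun q : PrimeSpectrum.zeroLocus (p.asIdeal : Set A) =>
        (⟨q.1, Module.mem_support_mono (show p ≤ q.1 from q.2) hp⟩ : Module.support A M))
      (fun a b h => h)
  constructor
  · intro heq p hp hdim hxp
    have h1 : ringKrullDim (A ⧸ p.asIdeal) ≤ Module.supportDim A (QuotSMulTop x M) := by
      rw [ringKrullDim_quotient]
      refine Order.krullDim_le_of_strictMono
        (fun q : PrimeSpectrum.zeroLocus (p.asIdeal : Set A) =>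
          (⟨q.1, ?_⟩ : Module.support A (QuotSMulTop x M)))
        (fun a b h => h)
      rw [hsupp]
      refine ⟨Module.mem_support_mono (show p ≤ q.1 from q.2) hp, ?_⟩
      rw [PrimeSpectrum.mem_zeroLocus, Set.singleton_subset_iff]
      exact (show p ≤ q.1 from q.2) hxp
    rw [hdim] at h1
    have h2 : Module.supportDim A M + 1 ≤ Module.supportDim A M := by
      calc Module.supportDim A M + 1 ≤ Module.supportDim A (QuotSMulTop x M) + 1 := by gcongr
        _ = Module.supportDim A M := heq
    have hnb : Module.supportDim A M ≠ ⊥ := by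
      rw [Module.supportDim_ne_bot_iff_nontrivial]
      exact (Module.nonempty_support_iff (R := A)).mp ⟨p, hp⟩
    have hnt : Module.supportDim A M < ⊤ :=
      lt_of_le_of_lt (Module.supportDim_le_ringKrullDim A M) (ringKrullDim_lt_top_of_semilocal A)
    obtain ⟨n, hn⟩ := WithBot.ne_bot_iff_exists.mp hnb
    have hn' : n ≠ ⊤ := by
      intro h
      rw [← hn, h] at hnt
      exact lt_irrefl _ hnt
    obtain ⟨k, rfl⟩ := ENat.ne_top_iff_exists.mp hn'
    rw [← hn] at h2
    have : ((k + 1 : ℕ) : WithBot ℕ∞) ≤ (k : ℕ) := by exact_mod_cast h2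
    have : k + 1 ≤ k := by exact_mod_cast this
    omega
  · intro hav
    refine le_antisymm ?_ hge
    by_cases hE : IsEmpty (Module.support A (QuotSMulTop x M))
    · unfold Module.supportDim
      rw [Order.krullDim_eq_bot_iff.mpr hE, WithBot.bot_add]; exact bot_le
    rw [not_isEmpty_iff] at hE
    have hkey : ∀ l : LTSeries (Module.support A (QuotSMulTop x M)),
        ((l.length : ℕ) : WithBot ℕ∞) + 1 ≤ Module.supportDim A M := by
      intro l
      apply add_one_le_of_coe_lt
      have hh : l.head.1 ∈ Module.support A M ∩ PrimeSpectrum.zeroLocus {x} := hsupp ▸ l.head.2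
      have hxh : x ∈ l.head.1.asIdeal := by
        have := hh.2
        rwa [PrimeSpectrum.mem_zeroLocus, Set.singleton_subset_iff] at this
      have hne : ringKrullDim (A ⧸ l.head.1.asIdeal) ≠ Module.supportDim A M :=
        fun h => hav l.head.1 hh.1 h hxh
      have hlt : ringKrullDim (A ⧸ l.head.1.asIdeal) < Module.supportDim A M :=
        lt_of_le_of_ne (hVle _ hh.1) hne
      refine lt_of_le_of_lt ?_ hlt
      rw [ringKrullDim_quotient]
      let f : Module.support A (QuotSMulTop x M) → PrimeSpectrum A := fun q => q.1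
      have hmem : ∀ i, (l i).1 ∈ PrimeSpectrum.zeroLocus (l.head.1.asIdeal : Set A) := by
        intro i
        have : l.head ≤ l i := l.head_le i
        exact this
      let l' : LTSeries (PrimeSpectrum.zeroLocus (l.head.1.asIdeal : Set A)) :=
        { length := l.length
          toFun := fun i => ⟨(l i).1, hmem i⟩
          step := fun i => l.step i }
      exact Order.LTSeries.length_le_krullDim l'
    unfold Module.supportDim at hkey ⊢
    rw [Order.krullDim_eq_iSup_length (α := Module.support A (QuotSMulTop x M))]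
    have : ((⨆ l : LTSeries (Module.support A (QuotSMulTop x M)), (l.length : ℕ∞) : ℕ∞) :
        WithBot ℕ∞) + 1 = ((⨆ l : LTSeries (Module.support A (QuotSMulTop x M)),
          ((l.length : ℕ∞) + 1) : ℕ∞) : WithBot ℕ∞) := by
      rw [← WithBot.coe_one, ← WithBot.coe_add, ENat.iSup_add]
    rw [this]
    have hne : Order.krullDim (Module.support A M) ≠ ⊥ := by
      rw [Ne, Order.krullDim_eq_bot_iff, not_isEmpty_iff]
      obtain ⟨q⟩ := hE
      have : q.1 ∈ Module.support A M ∩ PrimeSpectrum.zeroLocus {x} := hsupp ▸ q.2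
      exact ⟨⟨q.1, this.1⟩⟩
    obtain ⟨D, hD⟩ := WithBot.ne_bot_iff_exists.mp hne
    rw [← hD] at hkey ⊢
    rw [WithBot.coe_le_coe]
    refine iSup_le fun l => ?_
    have := hkey l
    exact_mod_cast this

end Groth.Agent.S5767
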