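import Groth.Statements.S5768
import Groth.Agent.S5767
import Mathlib.RingTheory.HopkinsLevitzki
import Mathlib.RingTheory.Regular.RegularSequence
import Mathlib.RingTheory.KrullDimension.Regular
import Mathlib.RingTheory.KrullDimension.Field

set_option autoImplicit false
universe u
open EGA41

namespace Groth.Agent.S5768

section helpers

variable {A : Type u} [CommRing A]

theorem supportDim_congr {M N : Type u} [AddCommGroup M] [Module A M] [AddCommGroup N] [Module A N]
    (h : Module.support A M = Module.support A N) :
    Module.supportDim A M = Module.supportDim A N := by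
  unfold Module.supportDim; rw [h]

theorem supportDim_le_zero_of_isFiniteLength (P : Type u) [AddCommGroup P] [Module A P]
    [Module.Finite A P] (h : IsFiniteLength A P) : Module.supportDim A P ≤ 0 := by
  rw [Module.supportDim_eq_ringKrullDim_quotient_annihilator]
  obtain ⟨hN, hAr⟩ := isFiniteLength_iff_isNoetherian_isArtinian.mp h
  obtain ⟨s, hs⟩ := Module.Finite.fg_top (R := A) (M := P)
  let φ : A →ₗ[A] (s → P) := LinearMap.pi (fun p => LinearMap.toSpanSingleton A P p.1)
  have hker : LinearMap.ker φ = Module.annihilator A P := by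
    ext a
    rw [LinearMap.mem_ker, Module.mem_annihilator]
    constructor
    · intro ha
      have h1 : ∀ p ∈ s, a • p = 0 := by
        intro p hp
        have := congrFun ha ⟨p, hp⟩
        simpa [φ] using this
      have h2 : (⊤ : Submodule A P) ≤ LinearMap.ker (LinearMap.lsmul A P a) := by
        rw [← hs, Submodule.span_le]
        intro p hp
        exact h1 p hp
      intro m
      exact h2 (Submodule.mem_top (x := m))
    · intro ha
      funext p
      simpa [φ] using ha p.1
  haveI : IsArtinian A (A ⧸ LinearMap.ker φ) :=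
    isArtinian_of_injective ((LinearMap.range φ).subtype.comp φ.quotKerEquivRange.toLinearMap)
      (by
        intro x y hxy
        apply φ.quotKerEquivRange.injective
        exact Subtype.ext hxy)
  have hArt : IsArtinian A (A ⧸ Module.annihilator A P) := hker ▸ this
  haveI : IsArtinianRing (A ⧸ Module.annihilator A P) := isArtinian_of_tower A hArt
  exact (Ring.krullDimLE_iff).mp inferInstance

theorem isFiniteLength_of_supportDim_le_zero [IsNoetherianRing A] (P : Type u) [AddCommGroup P]
    [Module A P] [Module.Finite A P] (h : Module.supportDim A P ≤ 0) : IsFiniteLength A P := by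
  rw [Module.supportDim_eq_ringKrullDim_quotient_annihilator] at h
  haveI : Ring.KrullDimLE 0 (A ⧸ Module.annihilator A P) := (Ring.krullDimLE_iff).mpr h
  haveI : IsArtinianRing (A ⧸ Module.annihilator A P) :=
    IsNoetherianRing.isArtinianRing_of_krullDimLE_zero
  letI : Module (A ⧸ Module.annihilator A P) P := Module.quotientAnnihilator
  haveI : IsScalarTower A (A ⧸ Module.annihilator A P) P :=
    IsScalarTower.of_algebraMap_smul fun r m => rfl
  haveI : Module.Finite (A ⧸ Module.annihilator A P) P := Module.Finite.of_restrictScalars_finite A _ _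
  haveI : IsArtinian (A ⧸ Module.annihilator A P) P := inferInstance
  haveI : IsArtinian A P :=
    isArtinian_of_surjective_algebraMap (R := A ⧸ Module.annihilator A P)
      Ideal.Quotient.mk_surjective
  exact isFiniteLength_iff_isNoetherian_isArtinian.mpr ⟨inferInstance, inferInstance⟩

theorem ringKrullDim_quotient_eq_coheight (p : PrimeSpectrum A) :
    ringKrullDim (A ⧸ p.asIdeal) = (Order.coheight p : ℕ∞) := by
  rw [ringKrullDim_quotient, Order.coheight_eq_krullDim_Ici]
  have : PrimeSpectrum.zeroLocus (p.asIdeal : Set A) = Set.Ici p := by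
    ext q
    rw [PrimeSpectrum.mem_zeroLocus, Set.mem_Ici]
    rfl
  rw [this]

theorem ringKrullDim_quotient_le_supportDim (N : Type u) [AddCommGroup N] [Module A N]
    (p : PrimeSpectrum A) (hp : p ∈ Module.support A N) :
    ringKrullDim (A ⧸ p.asIdeal) ≤ Module.supportDim A N := by
  rw [ringKrullDim_quotient]
  refine Order.krullDim_le_of_strictMono
    (fun q : PrimeSpectrum.zeroLocus (p.asIdeal : Set A) =>
      (⟨q.1, Module.mem_support_mono (show p ≤ q.1 from q.2) hp⟩ : Module.support A N))
    (fun a b h => h)

theorem exists_isMaximal_le_of_jacobson_le [Finite (MaximalSpectrum A)] {p : Ideal A}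
    (hp : p.IsPrime) (h : Ring.jacobson A ≤ p) : ∃ m : MaximalSpectrum A, m.asIdeal ≤ p := by
  classical
  haveI := Fintype.ofFinite (MaximalSpectrum A)
  have hjac : (Finset.univ : Finset (MaximalSpectrum A)).inf (fun m => m.asIdeal) ≤
      Ring.jacobson A := by
    rw [Ring.jacobson_eq_sInf_isMaximal]
    refine le_sInf fun I hI => ?_
    exact Finset.inf_le (f := fun m : MaximalSpectrum A => m.asIdeal)
      (Finset.mem_univ (⟨I, hI⟩ : MaximalSpectrum A))
  obtain ⟨m, -, hm⟩ := hp.inf_le'.mp (hjac.trans h)
  exact ⟨m, hm⟩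

theorem supportDim_le_add_length [IsNoetherianRing A] (xs : List A) :
    (∀ x ∈ xs, x ∈ Ring.jacobson A) →
    ∀ (M : Type u) [AddCommGroup M] [Module A M] [Module.Finite A M],
    Module.supportDim A M ≤
      Module.supportDim A (M ⧸ (Ideal.ofList xs • (⊤ : Submodule A M))) + xs.length := by
  induction xs with
  | nil =>
    intro _ M _ _ _
    rw [Ideal.ofList_nil, Submodule.bot_smul]
    simp [Module.supportDim_eq_of_equiv (Submodule.quotEquivOfEqBot (⊥ : Submodule A M) rfl)]
  | cons x xs ih =>
    intro hxs M _ _ _
    have hx : x ∈ Ring.jacobson A := hxs x List.mem_cons_self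
    have h1 := Module.supportDim_le_supportDim_quotSMulTop_succ_of_mem_jacobson (M := M)
      (Ideal.ringJacobson_le_jacobson (I := Module.annihilator A M) hx)
    have h2 := ih (fun y hy => hxs y (List.mem_cons_of_mem _ hy)) (QuotSMulTop x M)
    rw [Module.supportDim_eq_of_equiv
      (Submodule.quotOfListConsSMulTopEquivQuotSMulTopInner M x xs)]
    calc Module.supportDim A M ≤ Module.supportDim A (QuotSMulTop x M) + 1 := h1
      _ ≤ (Module.supportDim A (QuotSMulTop x M ⧸
            (Ideal.ofList xs • (⊤ : Submodule A (QuotSMulTop x M)))) + xs.length) + 1 := by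
          gcongr
      _ = _ := by
          rw [List.length_cons, Nat.cast_add, Nat.cast_one, add_assoc]

theorem exists_avoid [IsNoetherianRing A] [Finite (MaximalSpectrum A)]
    (N : Type u) [AddCommGroup N] [Module A N] [Module.Finite A N] :
    ∃ y ∈ Ring.jacobson A, ∀ p ∈ (Module.annihilator A N).minimalPrimes,
      ¬ p.IsMaximal → y ∉ p := by
  classical
  have hfin : (Module.annihilator A N).minimalPrimes.Finite :=
    Ideal.finite_minimalPrimes_of_isNoetherianRing A _
  let S : Finset (Ideal A) := hfin.toFinset.filter (fun p => ¬ p.IsMaximal)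
  by_contra hcon
  push_neg at hcon
  have hsub : ((Ring.jacobson A : Ideal A) : Set A) ⊆ ⋃ i ∈ (↑S : Set (Ideal A)), (id i : Ideal A) := by
    intro y hy
    obtain ⟨p, hp, hpm, hyp⟩ := hcon y hy
    refine Set.mem_iUnion₂.mpr ⟨p, ?_, hyp⟩
    simp only [S, Finset.coe_filter, Set.Finite.mem_toFinset, Set.mem_setOf_eq]
    exact ⟨hp, hpm⟩
  have hprime : ∀ i ∈ S, i ≠ ⊥ → i ≠ ⊥ → (id i : Ideal A).IsPrime := by
    intro i hi _ _
    simp only [S, Finset.mem_filter, Set.Finite.mem_toFinset] at hi
    exact hi.1.1.1
  obtain ⟨p, hpS, hjp⟩ := (Ideal.subset_union_prime (s := S) (f := id) ⊥ ⊥ hprime).mp hsub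
  simp only [S, Finset.mem_filter, Set.Finite.mem_toFinset] at hpS
  obtain ⟨m, hm⟩ := exists_isMaximal_le_of_jacobson_le hpS.1.1.1 hjp
  have : m.asIdeal = p := m.isMaximal.eq_of_le hpS.1.1.1.ne_top hm
  exact hpS.2 (this ▸ m.isMaximal)

theorem exists_step [IsNoetherianRing A] [Finite (MaximalSpectrum A)]
    (N : Type u) [AddCommGroup N] [Module A N] [Module.Finite A N] (e : ℕ)
    (hN : Module.supportDim A N = ((e + 1 : ℕ) : WithBot ℕ∞)) :
    ∃ y ∈ Ring.jacobson A, Module.supportDim A (QuotSMulTop y N) = ((e : ℕ) : WithBot ℕ∞) := by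
  obtain ⟨y, hyj, hy⟩ := exists_avoid (A := A) N
  refine ⟨y, hyj, ?_⟩
  have key : Module.supportDim A (QuotSMulTop y N) + 1 = Module.supportDim A N := by
    rw [Groth.Agent.S5767.result A N y hyj]
    intro p hp hdim hyp
    have hann : Module.annihilator A N ≤ p.asIdeal := by
      have := Module.mem_support_iff_of_finite.mp hp
      exact this
    obtain ⟨q, hq, hqp⟩ := Ideal.exists_minimalPrimes_le hann
    have hqprime : q.IsPrime := hq.1.1
    let q' : PrimeSpectrum A := ⟨q, hqprime⟩
    have hq'supp : q' ∈ Module.support A N := Module.mem_support_iff_of_finite.mpr hq.1.2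
    rcases eq_or_lt_of_le (show q' ≤ p from hqp) with heq | hlt
    · -- p is a minimal prime
      have hpmin : p.asIdeal ∈ (Module.annihilator A N).minimalPrimes := by
        rw [← heq]; exact hq
      have hnm : ¬ p.asIdeal.IsMaximal := by
        intro hmax
        have : ringKrullDim (A ⧸ p.asIdeal) = 0 := by
          letI := Ideal.Quotient.field p.asIdeal
          exact ringKrullDim_eq_zero_of_field _
        rw [this, hN] at hdim
        have : (0 : ℕ) = e + 1 := by exact_mod_cast hdim
        omega
      exact hy _ hpmin hnm hyp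
    · have h1 := Order.coheight_add_one_le hlt
      have h2 := ringKrullDim_quotient_le_supportDim N q' hq'supp
      rw [ringKrullDim_quotient_eq_coheight, hN] at h2
      rw [ringKrullDim_quotient_eq_coheight, hN] at hdim
      have h3 : Order.coheight p = ((e + 1 : ℕ) : ℕ∞) := by exact_mod_cast hdim
      have h4 : Order.coheight q' ≤ ((e + 1 : ℕ) : ℕ∞) := by exact_mod_cast h2
      rw [h3] at h1
      have h5 : ((e + 1 + 1 : ℕ) : ℕ∞) ≤ ((e + 1 : ℕ) : ℕ∞) := by
        refine le_trans ?_ (h1.trans h4)
        push_cast; exact le_rfl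
      have : e + 1 + 1 ≤ e + 1 := by exact_mod_cast h5
      omega
  rw [hN] at key
  have hne : Module.supportDim A (QuotSMulTop y N) ≠ ⊥ := by
    intro h
    rw [h, WithBot.bot_add] at key
    exact WithBot.bot_ne_coe key
  obtain ⟨a, ha⟩ := WithBot.ne_bot_iff_exists.mp hne
  rw [← ha] at key ⊢
  have key' : a + 1 = ((e + 1 : ℕ) : ℕ∞) := by exact_mod_cast key
  have : a = (e : ℕ∞) := by
    have h6 : a + 1 = (e : ℕ∞) + 1 := by rw [key']; push_cast; rfl
    exact ENat.add_left_injective_of_ne_top (n := 1) (by simp) h6
  rw [this]; rfl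

theorem exists_params [IsNoetherianRing A] [Finite (MaximalSpectrum A)] (e : ℕ) :
    ∀ (N : Type u) [AddCommGroup N] [Module A N] [Module.Finite A N],
      Module.supportDim A N = ((e : ℕ) : WithBot ℕ∞) →
      ∃ ys : List A, (∀ y ∈ ys, y ∈ Ring.jacobson A) ∧ ys.length = e ∧
        Module.supportDim A (N ⧸ (Ideal.ofList ys • (⊤ : Submodule A N))) ≤ 0 := by
  induction e with
  | zero =>
    intro N _ _ _ hN
    refine ⟨[], by simp, rfl, ?_⟩
    rw [Ideal.ofList_nil, Submodule.bot_smul,
      Module.supportDim_eq_of_equiv (Submodule.quotEquivOfEqBot (⊥ : Submodule A N) rfl), hN]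
    simp
  | succ e ih =>
    intro N _ _ _ hN
    obtain ⟨y, hyj, hy⟩ := exists_step N e hN
    obtain ⟨ys, hys, hlen, hdim⟩ := ih (QuotSMulTop y N) hy
    refine ⟨y :: ys, ?_, by simp [hlen], ?_⟩
    · intro z hz
      rcases List.mem_cons.mp hz with rfl | hz
      · exact hyj
      · exact hys z hz
    · rw [Module.supportDim_eq_of_equiv
        (Submodule.quotOfListConsSMulTopEquivQuotSMulTopInner N y ys)]
      exact hdim

theorem support_append (M : Type u) [AddCommGroup M] [Module A M] [Module.Finite A M]
    (xs ys : List A) :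
    Module.support A (M ⧸ (Ideal.ofList (xs ++ ys) • (⊤ : Submodule A M))) =
      Module.support A ((M ⧸ (Ideal.ofList xs • (⊤ : Submodule A M))) ⧸
        (Ideal.ofList ys • (⊤ : Submodule A (M ⧸ (Ideal.ofList xs • (⊤ : Submodule A M)))))) := by
  rw [Module.support_quotient, Module.support_quotient, Module.support_quotient,
    Ideal.ofList_append, PrimeSpectrum.zeroLocus_sup, Set.inter_assoc]

end helpers

/-- Let A be a semi-local Noetherian ring with Jacobson radical r, M a nonzero finitely generated
A-module and x_1, ..., x_k elements of r. One always has dim(M/(x_1 M + ... + x_k M)) ≥ dim(M) - k,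
and equality holds if and only if there exist further elements of r which together with the x_i form
a system of parameters for M (dim(M) elements of r modulo which M has finite length). -/
theorem result (A : Type u) [CommRing A]
    [IsNoetherianRing A] [Finite (MaximalSpectrum A)] (M : Type u) [AddCommGroup M] [Module A M]
    [Module.Finite A M] [Nontrivial M] (xs : List A) (hxs : ∀ x ∈ xs, x ∈ Ring.jacobson A) :
    Module.supportDim A (M ⧸ (Ideal.ofList xs • (⊤ : Submodule A M))) + xs.length = Module.supportDim A M ↔
      ∃ ys : List A, (∀ y ∈ ys, y ∈ Ring.jacobson A) ∧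
        ((xs ++ ys).length : WithBot ℕ∞) = Module.supportDim A M ∧
        IsFiniteLength A (M ⧸ (Ideal.ofList (xs ++ ys) • (⊤ : Submodule A M))) := by
  set N := M ⧸ (Ideal.ofList xs • (⊤ : Submodule A M)) with hNdef
  have hL1 := supportDim_le_add_length xs hxs M
  have hdne : Module.supportDim A M ≠ ⊥ := Module.supportDim_ne_bot_of_nontrivial A M
  have hNtop : Module.supportDim A N < ⊤ :=
    lt_of_le_of_lt (Module.supportDim_le_ringKrullDim A N)
      (Groth.Agent.S5767.ringKrullDim_lt_top_of_semilocal A)
  constructor
  · intro heq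
    have hNne : Module.supportDim A N ≠ ⊥ := by
      intro h
      rw [h, WithBot.bot_add] at heq
      exact hdne heq.symm
    obtain ⟨a, ha⟩ := WithBot.ne_bot_iff_exists.mp hNne
    have hatop : a ≠ ⊤ := by
      intro h
      rw [← ha, h] at hNtop
      exact lt_irrefl _ hNtop
    obtain ⟨e, rfl⟩ := ENat.ne_top_iff_exists.mp hatop
    obtain ⟨ys, hys, hlen, hdim⟩ := exists_params e N ha.symm
    refine ⟨ys, hys, ?_, ?_⟩
    · rw [← heq, ← ha, List.length_append, hlen]
      push_cast
      rw [add_comm]
    · apply isFiniteLength_of_supportDim_le_zero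
      rw [supportDim_congr (support_append M xs ys)]
      exact hdim
  · rintro ⟨ys, hys, hlen, hfl⟩
    refine le_antisymm ?_ hL1
    have h0 := supportDim_le_zero_of_isFiniteLength _ hfl
    rw [supportDim_congr (support_append M xs ys)] at h0
    have h1 := supportDim_le_add_length ys hys N
    have h2 : Module.supportDim A N ≤ (ys.length : WithBot ℕ∞) := by
      calc Module.supportDim A N ≤ _ := h1
        _ ≤ 0 + (ys.length : WithBot ℕ∞) := by gcongr
        _ = _ := zero_add _
    rw [← hlen, List.length_append]
    push_cast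
    rw [add_comm]
    gcongr

end Groth.Agent.S5768
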