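import Groth.Statements.S5771
import Groth.Agent.S5769

set_option autoImplicit false
universe u
open EGA41

namespace Groth.Agent.S5771

theorem map_mk_maximalIdeal (R : Type u) [CommRing R] [IsLocalRing R] (I : Ideal R)
    [IsLocalRing (R ⧸ I)] :
    (IsLocalRing.maximalIdeal R).map (Ideal.Quotient.mk I) = IsLocalRing.maximalIdeal (R ⧸ I) := by
  have hItop : I ≠ ⊤ := by
    intro h
    have : Subsingleton (R ⧸ I) := Ideal.Quotient.subsingleton_iff.mpr h
    exact not_subsingleton (R ⧸ I) this
  have hIle : I ≤ IsLocalRing.maximalIdeal R := IsLocalRing.le_maximalIdeal hItop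
  rcases Ideal.map_eq_top_or_isMaximal_of_surjective (Ideal.Quotient.mk I)
    Ideal.Quotient.mk_surjective (IsLocalRing.maximalIdeal.isMaximal R) with h1 | h1
  · exfalso
    have h2 := congrArg (Ideal.comap (Ideal.Quotient.mk I)) h1
    rw [Ideal.comap_map_of_surjective _ Ideal.Quotient.mk_surjective, Ideal.comap_top,
      ← RingHom.ker_eq_comap_bot, Ideal.mk_ker, sup_eq_left.mpr hIle] at h2
    exact (IsLocalRing.maximalIdeal.isMaximal R).ne_top h2
  · exact IsLocalRing.eq_maximalIdeal h1

theorem dim_le_of_ringHom (A' B : Type u) [CommRing A'] [CommRing B] [IsLocalRing A']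
    [IsLocalRing B] [IsNoetherianRing A'] [IsNoetherianRing B] (ψ : A' →+* B) [hψ : IsLocalHom ψ] :
    ringKrullDim B ≤ ringKrullDim A' +
      ringKrullDim (B ⧸ (IsLocalRing.maximalIdeal A').map ψ) := by
  letI := ψ.toAlgebra
  haveI : IsLocalHom (algebraMap A' B) := hψ
  exact Groth.Agent.S5769.result A' B

/-- Let φ : A → B be a local homomorphism of Noetherian local rings, m the maximal ideal of A, and
suppose mB is an ideal of definition of B (equivalently dim(B/mB) = 0). Then dim(B) ≤ dim(A); if
moreover A is an integral domain and dim(A) = dim(B), then φ is injective. -/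
theorem result (A B : Type u) [CommRing A] [CommRing B]
    [IsLocalRing A] [IsLocalRing B] [IsNoetherianRing A] [IsNoetherianRing B] [Algebra A B]
    [IsLocalHom (algebraMap A B)]
    (hdef : ringKrullDim (B ⧸ (IsLocalRing.maximalIdeal A).map (algebraMap A B)) = 0) :
    ringKrullDim B ≤ ringKrullDim A ∧
      (IsDomain A → ringKrullDim A = ringKrullDim B → Function.Injective (algebraMap A B)) := by
  have h1 : ringKrullDim B ≤ ringKrullDim A := by
    have := Groth.Agent.S5769.result A B
    rwa [hdef, add_zero] at this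
  refine ⟨h1, fun hdom heq => ?_⟩
  rw [injective_iff_map_eq_zero]
  intro a ha
  by_contra hane
  set φ := algebraMap A B with hφ
  set K := RingHom.ker φ with hK
  have haK : a ∈ K := ha
  have hKtop : K ≠ ⊤ := RingHom.ker_ne_top φ
  haveI : Nontrivial (A ⧸ K) := Ideal.Quotient.nontrivial_iff.mpr hKtop
  haveI : IsLocalRing (A ⧸ K) :=
    IsLocalRing.of_surjective' (Ideal.Quotient.mk K) Ideal.Quotient.mk_surjective
  let ψ : A ⧸ K →+* B := RingHom.kerLift φ
  have hψφ : ψ.comp (Ideal.Quotient.mk K) = φ := by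
    ext x; rfl
  haveI : IsLocalHom ψ := by
    constructor
    intro x hx
    obtain ⟨y, rfl⟩ := Ideal.Quotient.mk_surjective x
    have : IsUnit (φ y) := hx
    exact (isUnit_of_map_unit φ y this).map (Ideal.Quotient.mk K)
  have h2 := dim_le_of_ringHom (A ⧸ K) B ψ
  have h3 : (IsLocalRing.maximalIdeal (A ⧸ K)).map ψ = (IsLocalRing.maximalIdeal A).map φ := by
    rw [← map_mk_maximalIdeal A K, Ideal.map_map, hψφ]
  rw [h3, hdef, add_zero] at h2
  have h4 : ringKrullDim (A ⧸ K) ≤ ringKrullDim (A ⧸ Ideal.span {a}) := by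
    have hle : Ideal.span {a} ≤ K := (Ideal.span_singleton_le_iff_mem K).mpr haK
    exact ringKrullDim_le_of_surjective (Ideal.Quotient.factor hle)
      (Ideal.Quotient.factor_surjective hle)
  have hamax : a ∈ IsLocalRing.maximalIdeal A := by
    rw [IsLocalRing.mem_maximalIdeal, mem_nonunits_iff]
    intro hu
    have : IsUnit (φ a) := hu.map φ
    rw [ha] at this
    exact not_isUnit_zero this
  have h5 : ringKrullDim (A ⧸ Ideal.span {a}) + 1 = ringKrullDim A :=
    ringKrullDim_quotient_span_singleton_succ_eq_ringKrullDim_of_mem_nonZeroDivisors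
      (mem_nonZeroDivisors_of_ne_zero hane) hamax
  have h6 : ringKrullDim B + 1 ≤ ringKrullDim B := by
    calc ringKrullDim B + 1 ≤ ringKrullDim (A ⧸ Ideal.span {a}) + 1 := by gcongr; exact h2.trans h4
      _ = ringKrullDim A := h5
      _ = ringKrullDim B := heq
  obtain ⟨n, hn⟩ := WithBot.ne_bot_iff_exists.mp (ringKrullDim_ne_bot (R := B))
  have hn' : n ≠ ⊤ := by
    intro h
    apply ringKrullDim_ne_top (R := B)
    rw [← hn, h]; rfl
  obtain ⟨k, rfl⟩ := ENat.ne_top_iff_exists.mp hn'
  rw [← hn] at h6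
  have : ((k + 1 : ℕ) : WithBot ℕ∞) ≤ (k : ℕ) := by exact_mod_cast h6
  have : k + 1 ≤ k := by exact_mod_cast this
  omega

end Groth.Agent.S5771
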