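import Groth.Statements.S5775
import Mathlib
import Groth.Agent.Lib.Helper21.FlatKit7

set_option autoImplicit false
universe u
open EGA41

namespace Groth.Agent.S5775


/-- Let A → B be a local homomorphism of Noetherian local rings, m the maximal ideal of A, M a finitely
generated B-module flat over A and R a B-submodule of M such that M/R is flat over A. Let f_1, ...,
f_n be elements of the maximal ideal of B such that (i) f_i M ⊆ R for all i, (ii) the images of the
f_i form an (M/mM)-regular sequence, and (iii) the submodule f_1 (M/mM) + ... + f_n (M/mM) is the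
image of R in M/mM. Then (f_i) is an M-regular sequence and R = f_1 M + ... + f_n M. -/
theorem result (A B : Type u) [CommRing A] [CommRing B] [IsLocalRing A]
    [IsLocalRing B] [IsNoetherianRing A] [IsNoetherianRing B] [Algebra A B] [IsLocalHom (algebraMap A B)]
    (M : Type u) [AddCommGroup M] [Module B M] [Module A M] [IsScalarTower A B M] [Module.Finite B M]
    [Module.Flat A M] (R : Submodule B M) (hR : Module.Flat A (M ⧸ R)) (fs : List B)
    (hfs : ∀ f ∈ fs, f ∈ IsLocalRing.maximalIdeal B) (h1 : Ideal.ofList fs • (⊤ : Submodule B M) ≤ R)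
    (h2 : RingTheory.Sequence.IsWeaklyRegular
      (M ⧸ ((IsLocalRing.maximalIdeal A).map (algebraMap A B) • (⊤ : Submodule B M))) fs)
    (h3 : Ideal.ofList fs • (⊤ : Submodule B
        (M ⧸ ((IsLocalRing.maximalIdeal A).map (algebraMap A B) • (⊤ : Submodule B M)))) =
      R.map ((IsLocalRing.maximalIdeal A).map (algebraMap A B) • (⊤ : Submodule B M)).mkQ) :
    RingTheory.Sequence.IsWeaklyRegular M fs ∧ R = Ideal.ofList fs • (⊤ : Submodule B M) := by
  have hIB : (IsLocalRing.maximalIdeal A).map (algebraMap A B) ≤ Ideal.jacobson ⊥ :=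
    (IsLocalRing.map_maximalIdeal_le (algebraMap A B)).trans
      (IsLocalRing.maximalIdeal_le_jacobson _)
  obtain ⟨hreg, hflats⟩ := Groth.Agent.Lib.Helper21.FlatKit.isWeaklyRegular_of_reduction_noeth
    (IsLocalRing.maximalIdeal A) hIB fs M h2
  refine ⟨hreg, ?_⟩
  set 𝔪 := IsLocalRing.maximalIdeal A with h𝔪
  set P : Submodule B M := Ideal.ofList fs • ⊤ with hP
  set W : Submodule B M := (𝔪.map (algebraMap A B)) • ⊤ with hW
  have hPflat : Module.Flat A (M ⧸ P) := by
    have := hflats fs.length le_rfl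
    rwa [List.take_length] at this
  let φ : (M ⧸ P) →ₗ[B] (M ⧸ R) := Submodule.mapQ P R LinearMap.id h1
  have hφ : ∀ y : M, φ (Submodule.Quotient.mk y) = Submodule.Quotient.mk y := fun y => rfl
  have hWA : W.restrictScalars A = 𝔪 • (⊤ : Submodule A M) :=
    Groth.Agent.Lib.Helper21.FlatKit.smul_top_restrictScalars M 𝔪
  have hinjred : Function.Injective ((φ.restrictScalars A).lTensor (A ⧸ 𝔪)) := by
    apply Groth.Agent.Lib.Helper21.FlatKit.injective_lTensor_quotient_of
    intro p hp
    obtain ⟨y, rfl⟩ := Submodule.Quotient.mk_surjective _ p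
    have hp' : (Submodule.Quotient.mk y : M ⧸ R) ∈ 𝔪 • (⊤ : Submodule A (M ⧸ R)) := hp
    have e1 : 𝔪 • (⊤ : Submodule A (M ⧸ R)) =
        Submodule.map (R.mkQ.restrictScalars A) (𝔪 • (⊤ : Submodule A M)) := by
      rw [Submodule.map_smul'', Submodule.map_top,
        LinearMap.range_eq_top.2 (show Function.Surjective (R.mkQ.restrictScalars A) from R.mkQ_surjective)]
    rw [e1] at hp'
    obtain ⟨z, hz, hzy⟩ := hp'
    have hyzR : y - z ∈ R := by
      have : (Submodule.Quotient.mk (y - z) : M ⧸ R) = 0 := by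
        rw [Submodule.Quotient.mk_sub]
        have : (Submodule.Quotient.mk z : M ⧸ R) = Submodule.Quotient.mk y := hzy
        rw [this, sub_self]
      exact (Submodule.Quotient.mk_eq_zero R).1 this
    have h4 : W.mkQ (y - z) ∈ R.map W.mkQ := ⟨y - z, hyzR, rfl⟩
    rw [← h3] at h4
    have e2 : (Ideal.ofList fs • ⊤ : Submodule B (M ⧸ W)) = Submodule.map W.mkQ P := by
      rw [hP, Submodule.map_smul'', Submodule.map_top, Submodule.range_mkQ]
    rw [e2] at h4
    obtain ⟨w, hw, hwy⟩ := h4
    have h5 : y - z - w ∈ W := by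
      have : W.mkQ (y - z - w) = 0 := by
        rw [map_sub, hwy, sub_self]
      exact (Submodule.Quotient.mk_eq_zero W).1 this
    have h5' : y - z - w ∈ 𝔪 • (⊤ : Submodule A M) := by
      rw [← hWA]; exact h5
    have e3 : 𝔪 • (⊤ : Submodule A (M ⧸ P)) =
        Submodule.map (P.mkQ.restrictScalars A) (𝔪 • (⊤ : Submodule A M)) := by
      rw [Submodule.map_smul'', Submodule.map_top,
        LinearMap.range_eq_top.2 (show Function.Surjective (P.mkQ.restrictScalars A) from P.mkQ_surjective)]
    show (Submodule.Quotient.mk y : M ⧸ P) ∈ 𝔪 • (⊤ : Submodule A (M ⧸ P))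
    rw [e3]
    refine ⟨z + (y - z - w), add_mem hz h5', ?_⟩
    show (Submodule.Quotient.mk (z + (y - z - w)) : M ⧸ P) = Submodule.Quotient.mk y
    rw [Submodule.Quotient.eq]
    have : z + (y - z - w) - y = -w := by abel
    rw [this]
    exact neg_mem hw
  have hfl := Groth.Agent.Lib.Helper21.FlatKit.flat_quotient_maximal 𝔪
    (TensorProduct A (A ⧸ 𝔪) ((M ⧸ R) ⧸ LinearMap.range φ))
  obtain ⟨hφinj, -⟩ :=
    Groth.Agent.Lib.Helper21.FlatKit.injective_of_lTensor_quotient_injective_noeth 𝔪 hIB φ hinjred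
  apply le_antisymm _ h1
  intro x hx
  have : φ (Submodule.Quotient.mk x) = 0 := by
    rw [hφ]; exact (Submodule.Quotient.mk_eq_zero R).2 hx
  have h6 : (Submodule.Quotient.mk x : M ⧸ P) = 0 := hφinj (by rw [this, map_zero])
  exact (Submodule.Quotient.mk_eq_zero P).1 h6

end Groth.Agent.S5775
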