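import Groth.Statements.S5777
import Mathlib
import Groth.Agent.Lib.Helper21.TorSeq
import Groth.Agent.Lib.Helper2.LocalCrit

set_option autoImplicit false
universe u
open EGA41

namespace Groth.Agent.S5777

open CategoryTheory Groth.Agent.Lib.Helper21.TorSeq Groth.Agent.Lib.Helper21.TorLES RingTheory.Sequence TensorProduct

section

variable {A : Type u} [CommRing A] (M : Type u) [AddCommGroup M] [Module A M]

/-- regular on `A` and flat implies regular on `M`. -/
lemma isWeaklyRegular_of_flat [Module.Flat A M] {rs : List A} (hA : IsWeaklyRegular A rs) :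
    IsWeaklyRegular M rs := by
  refine ⟨fun k hk => ?_⟩
  rw [isSMulRegular_tensor_iff]
  apply Module.Flat.rTensor_preserves_injective_linearMap
  exact regular_quot hA k hk

/-- the `A/J`-linear identification `(A/J) ⊗ M ≃ M/JM`. -/
noncomputable def quotEquiv (J : Ideal A) :
    ((A ⧸ J) ⊗[A] M) ≃ₗ[A ⧸ J] (M ⧸ (J • ⊤ : Submodule A M)) :=
  LinearEquiv.extendScalarsOfSurjective Ideal.Quotient.mk_surjective
    (TensorProduct.quotTensorEquivQuotSMul M J)

/-- `Tor_1(A/J, M) = 0` gives injectivity of `M ⊗ J → M ⊗ A`. -/
lemma injective_lTensor_of_torVanish (J : Ideal A) (h : TorVanish J M) :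
    Function.Injective (J.subtype.lTensor M) := by
  rw [LinearMap.lTensor_inj_iff_rTensor_inj]
  have hS : (ShortComplex.mk (ModuleCat.ofHom J.subtype) (ModuleCat.ofHom (Submodule.mkQ J))
      (by
        refine ModuleCat.hom_ext (LinearMap.ext fun a => ?_)
        exact (Submodule.Quotient.mk_eq_zero J).2 a.2) :
      ShortComplex (ModuleCat.{u} A)).ShortExact := by
    refine ModuleCat.shortComplex_shortExact _ ?_ ?_ ?_
    · exact LinearMap.exact_subtype_mkQ J
    · exact Submodule.injective_subtype J
    · exact Submodule.mkQ_surjective J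
  haveI : Module.Flat A (ModuleCat.of A A) := inferInstanceAs (Module.Flat A A)
  exact (isZero_tor_one_iff_of_flat _ _ _ hS (ModuleCat.of A M)).1 (h 1 le_rfl)

end


/-- Let φ : A → B be a local homomorphism of Noetherian local rings, M a finitely generated B-module and
(f_i)_{1 ≤ i ≤ n} an A-regular sequence of elements of the maximal ideal of A, generating the ideal
J. Then M is flat over A if and only if M/JM is flat over A/J and (f_i) is an M-regular sequence. -/
theorem result (A B : Type u) [CommRing A] [CommRing B]
    [IsLocalRing A] [IsLocalRing B] [IsNoetherianRing A] [IsNoetherianRing B] [Algebra A B]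
    [IsLocalHom (algebraMap A B)] (M : Type u) [AddCommGroup M] [Module B M] [Module A M]
    [IsScalarTower A B M] [Module.Finite B M] (fs : List A) (hfs : ∀ f ∈ fs, f ∈ IsLocalRing.maximalIdeal A)
    (hA : RingTheory.Sequence.IsWeaklyRegular A fs) :
    Module.Flat A M ↔
      Module.Flat (A ⧸ Ideal.ofList fs) (M ⧸ (Ideal.ofList fs • (⊤ : Submodule A M))) ∧
        RingTheory.Sequence.IsWeaklyRegular M fs := by
  constructor
  · intro hflat
    refine ⟨?_, isWeaklyRegular_of_flat M hA⟩
    exact Module.Flat.of_linearEquiv (quotEquiv M (Ideal.ofList fs)).symm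
  · rintro ⟨hq, hreg⟩
    have hT := torVanish_of_isWeaklyRegular M hA hreg
    have ha := injective_lTensor_of_torVanish M _ hT
    haveI : Module.Flat (A ⧸ Ideal.ofList fs) ((A ⧸ Ideal.ofList fs) ⊗[A] M) :=
      Module.Flat.of_linearEquiv (quotEquiv M (Ideal.ofList fs))
    have hJ : (Ideal.ofList fs).map (algebraMap A B) ≤ Ideal.jacobson ⊥ := by
      rw [IsLocalRing.jacobson_eq_maximalIdeal ⊥ bot_ne_top]
      have h1 : Ideal.ofList fs ≤ IsLocalRing.maximalIdeal A := by
        rw [Ideal.span_le]
        intro a ha
        exact hfs a ha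
      refine (Ideal.map_mono h1).trans ?_
      have h2 : IsLocalHom (algebraMap A B) := inferInstance
      exact ((IsLocalRing.local_hom_TFAE (algebraMap A B)).out 0 2).1 h2
    exact Groth.Agent.Lib.Helper2.LocalCrit.flat_of_injective_of_flat_quotient (S := B)
      (Ideal.ofList fs) hJ ha

end Groth.Agent.S5777
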