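import Groth.Statements.S5778
import Mathlib
import Groth.Agent.S0559
import Groth.Agent.S0560
import Groth.Agent.Lib.helper19.RegularLocal
import Groth.Agent.Lib.Helper21.HilbReg
import Groth.Agent.Lib.Helper21.QuasiRegJac

set_option autoImplicit false
universe u
open EGA41

namespace Groth.Agent.S5778

section helpers
open IsLocalRing RingTheory.Sequence
open Groth.Agent.Lib.Helper21.QuasiReg Groth.Agent.Lib.Helper21.HilbReg
  Groth.Agent.Lib.Helper21.QuasiRegJac

lemma exists_generators (A : Type u) [CommRing A] [IsLocalRing A] [IsNoetherianRing A] :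
    ∃ x : Fin (Module.finrank (ResidueField A) (CotangentSpace A)) → A,
      Ideal.span (Set.range x) = maximalIdeal A := by
  classical
  obtain ⟨t, ht, hts⟩ := Submodule.FG.exists_span_finset_card_eq_spanFinrank
    (maximalIdeal A).fg_of_isNoetherianRing
  rw [spanFinrank_maximalIdeal_eq_finrank_cotangentSpace] at ht
  rw [← ht]
  refine ⟨fun i => (t.equivFin.symm i).1, ?_⟩
  rw [← hts]
  congr 1
  ext y
  simp only [Set.mem_range, Finset.mem_coe]
  constructor
  · rintro ⟨i, rfl⟩
    exact (t.equivFin.symm i).2
  · intro hy
    exact ⟨t.equivFin ⟨y, hy⟩, by simp⟩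

variable {A : Type u} [CommRing A] {r : ℕ} (x : Fin r → A)
  (I : Ideal A) [hmax : I.IsMaximal] (hI : Ideal.span (Set.range x) = I)

lemma length_zero : Module.length A (A ⧸ I ^ 0) = 0 := by
  rw [Module.length_eq_zero_iff, pow_zero, Ideal.one_eq_top]
  exact Submodule.Quotient.subsingleton_iff.mpr rfl

include hI in
lemma length_of_qr (hq : QR x) (s : ℕ) :
    Module.length A (A ⧸ I ^ (s + 1)) = ((s + r).choose s : ℕ∞) := by
  have hker := (qr_iff_ker x I hI).mp hq
  have hrange : ∀ s, Module.length A (LinearMap.range (Φ x I s)) =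
      ((r + s - 1).choose s : ℕ∞) := by
    intro s
    have := length_ker_add x I hI s
    rw [hker s, Module.length_bot, zero_add] at this
    exact this.symm
  induction s with
  | zero =>
    rw [length_succ x I hI 0, hrange 0, length_zero]
    simp
  | succ s ih =>
    rw [length_succ x I hI (s + 1), hrange (s + 1), ih]
    have h1 : r + (s + 1) - 1 = s + r := by omega
    rw [h1]
    have h2 : (s + 1 + r).choose (s + 1) = (s + r).choose (s + 1) + (s + r).choose s := by
      rw [show s + 1 + r = (s + r) + 1 by omega, Nat.choose_succ_succ']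
      ring
    rw [h2]
    push_cast
    rfl

include hI in
lemma qr_of_length (h : ∀ s, Module.length A (A ⧸ I ^ (s + 1)) = ((s + r).choose s : ℕ∞)) :
    QR x := by
  rw [qr_iff_ker x I hI]
  intro s
  have hrange : Module.length A (LinearMap.range (Φ x I s)) = ((r + s - 1).choose s : ℕ∞) := by
    have h1 := length_succ x I hI s
    rw [h s] at h1
    rcases s with _ | s
    · rw [length_zero, add_zero] at h1
      rw [← h1]; simp
    · rw [h s] at h1
      have h2 : ((s + 1 + r).choose (s + 1) : ℕ∞) =
          ((s + r).choose (s + 1) : ℕ∞) + ((s + r).choose s : ℕ∞) := by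
        rw [show s + 1 + r = (s + r) + 1 by omega, Nat.choose_succ_succ']
        push_cast
        rw [add_comm]
      rw [h2] at h1
      have h3 := ENat.add_left_injective_of_ne_top (ENat.natCast_ne_top ((s + r).choose s)) h1
      rw [← h3, show r + (s + 1) - 1 = s + r by omega]
  have h4 := length_ker_add x I hI s
  rw [hrange] at h4
  have h5 : Module.length A (LinearMap.ker (Φbar x I hI s)) = 0 := by
    have : (0 : ℕ∞) + ((r + s - 1).choose s : ℕ∞) =
        Module.length A (LinearMap.ker (Φbar x I hI s)) + ((r + s - 1).choose s : ℕ∞) := by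
      rw [zero_add]; exact h4
    exact (ENat.add_left_injective_of_ne_top (ENat.natCast_ne_top _) this).symm
  rw [Module.length_eq_zero_iff] at h5
  exact Submodule.eq_bot_of_subsingleton

lemma span_range_tail_map {n : ℕ} (a : Fin (n + 1) → A) :
    Ideal.span (Set.range fun i : Fin n => Ideal.Quotient.mk (Ideal.span {a 0}) (a i.succ)) =
      Ideal.map (Ideal.Quotient.mk (Ideal.span {a 0})) (Ideal.span (Set.range a)) := by
  rw [Ideal.map_span]
  apply le_antisymm
  · rw [Ideal.span_le]
    rintro _ ⟨i, rfl⟩
    exact Ideal.subset_span ⟨a i.succ, ⟨i.succ, rfl⟩, rfl⟩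
  · rw [Ideal.span_le]
    rintro _ ⟨_, ⟨i, rfl⟩, rfl⟩
    refine Fin.cases ?_ (fun j => ?_) i
    · have : Ideal.Quotient.mk (Ideal.span {a 0}) (a 0) = 0 := by
        rw [Ideal.Quotient.eq_zero_iff_mem]; exact Ideal.mem_span_singleton_self _
      rw [this]; exact Ideal.zero_mem _
    · exact Ideal.subset_span ⟨j, rfl⟩

theorem isRegularLocalRing_of_regular_generators : ∀ (n : ℕ) (A : Type u) [CommRing A]
    [IsLocalRing A] [IsNoetherianRing A] (a : Fin n → A),
    Ideal.span (Set.range a) = maximalIdeal A → IsWeaklyRegular A (List.ofFn a) →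
    IsRegularLocalRing A := by
  intro n
  induction n with
  | zero =>
    intro A _ _ _ a ha _
    apply IsRegularLocalRing.of_spanFinrank_maximalIdeal_le
    have : maximalIdeal A = ⊥ := by
      rw [← ha]
      simp
    rw [this, Submodule.spanFinrank_bot]
    exact ringKrullDim_nonneg_of_nontrivial
  | succ n ih =>
    intro A _ _ _ a ha hw
    rw [List.ofFn_succ, isWeaklyRegular_cons_iff, isWeaklyRegular_quot_iff, List.map_ofFn] at hw
    obtain ⟨h0, hw'⟩ := hw
    have ha0 : a 0 ∈ maximalIdeal A := by
      rw [← ha]; exact Ideal.subset_span ⟨0, rfl⟩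
    have hne : Ideal.span {a 0} ≠ ⊤ := Groth.Agent.Lib.helper19.span_singleton_ne_top ha0
    have : IsLocalRing (A ⧸ Ideal.span {a 0}) := Groth.Agent.Lib.helper19.isLocalRing_quotient _ hne
    have hgen : Ideal.span (Set.range fun i : Fin n =>
        Ideal.Quotient.mk (Ideal.span {a 0}) (a i.succ)) =
        maximalIdeal (A ⧸ Ideal.span {a 0}) := by
      rw [span_range_tail_map, ha, Groth.Agent.Lib.helper19.maximalIdeal_quotient]
    have : IsRegularLocalRing (A ⧸ Ideal.span {a 0}) := ih _ _ hgen hw'
    refine Groth.Agent.S0560.result A (a 0) ha0 ?_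
    rw [mem_nonZeroDivisors_iff_right]
    intro z hz
    exact h0 (show a 0 • z = a 0 • 0 by rw [smul_zero, smul_eq_mul, mul_comm]; exact hz)

end helpers

open IsLocalRing Groth.Agent.Lib.Helper21.QuasiReg Groth.Agent.Lib.Helper21.HilbReg
  Groth.Agent.Lib.Helper21.QuasiRegJac in

/-- Let A be a Noetherian local ring with maximal ideal m, residue field k, and let r be the dimension
of the k-vector space m/m². Then A is regular if and only if the canonical surjection of graded
k-algebras from the symmetric algebra of m/m² onto the associated graded ring of A for the m-adic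
filtration is bijective. Since that surjection is bijective exactly when source and target have the
same length in every degree, the condition is expressed here as: length_A(A/m^(s+1)) equals the
binomial coefficient C(s+r, r) for every s ≥ 0. -/
theorem result (A : Type u) [CommRing A] [IsLocalRing A]
    [IsNoetherianRing A] :
    IsRegularLocalRing A ↔
      ∀ s : ℕ, Module.length A (A ⧸ IsLocalRing.maximalIdeal A ^ (s + 1)) =
        ((s + Module.finrank (IsLocalRing.ResidueField A) (IsLocalRing.CotangentSpace A)).choose s : ℕ∞) := by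
  obtain ⟨x, hx⟩ := exists_generators A
  constructor
  · intro hreg s
    have hd : ringKrullDim A =
        (Module.finrank (ResidueField A) (CotangentSpace A) : ℕ) := by
      rw [← IsRegularLocalRing.spanFinrank_maximalIdeal,
        spanFinrank_maximalIdeal_eq_finrank_cotangentSpace]
    have h1 := Groth.Agent.S0559.result A _ hd x hx
    have hq : QR x := qr_of_isWeaklyRegular x h1.toIsWeaklyRegular
    exact length_of_qr x (maximalIdeal A) hx hq s
  · intro h
    have hq : QR x := qr_of_length x (maximalIdeal A) hx h
    have hj : ∀ i, x i ∈ Ring.jacobson A := by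
      intro i
      rw [← Ideal.jacobson_bot, IsLocalRing.jacobson_eq_maximalIdeal ⊥ bot_ne_top, ← hx]
      exact Ideal.subset_span ⟨i, rfl⟩
    have hw := isWeaklyRegular_of_qr _ A x hj hq
    exact isRegularLocalRing_of_regular_generators _ A x hx hw

end Groth.Agent.S5778
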