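import Groth.Statements.S5779
import Groth.Agent.Lib.Helper12.RegQuotA
import Groth.Agent.Lib.helper19.RegularLocal

set_option autoImplicit false
universe u
open EGA41

namespace Groth.Agent.S5779

open IsLocalRing Groth.Agent.Lib.Helper12.RegQuot in
theorem main (A : Type u) [CommRing A] [IsLocalRing A]
    [IsNoetherianRing A] (r : ℕ) (x : Fin r → IsLocalRing.maximalIdeal A)
    [IsLocalRing (A ⧸ Ideal.span (Set.range fun i => (x i : A)))] :
    ((IsRegularLocalRing A ∧
        LinearIndependent (IsLocalRing.ResidueField A)
          (fun i => (IsLocalRing.maximalIdeal A).toCotangent (x i))) ↔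
      (ringKrullDim (A ⧸ Ideal.span (Set.range fun i => (x i : A))) + r = ringKrullDim A ∧
        IsRegularLocalRing (A ⧸ Ideal.span (Set.range fun i => (x i : A))))) := by
  obtain ⟨n, hn, hne⟩ := exists_dim_eq A
  obtain ⟨n', hn', hne'⟩ := exists_dim_eq (A ⧸ Ideal.span (Set.range fun i => (x i : A)))
  -- Krull
  have hkrull : n ≤ n' + r := by
    have h1 := ringKrullDim_le_ringKrullDim_quotient_add_spanFinrank
      (Ideal.span (Set.range fun i => (x i : A))) (by
        rw [IsLocalRing.ringJacobson_eq_maximalIdeal, Ideal.span_le]
        rintro _ ⟨i, rfl⟩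
        exact (x i).2)
    have h2 : (Ideal.span (Set.range fun i => (x i : A))).spanFinrank ≤ r := by
      refine (spanFinrank_span_range_le _).trans (by simp)
    rw [hn, hn'] at h1
    have h3 : (n : WithBot ℕ∞) ≤ ((n' + (Ideal.span (Set.range fun i => (x i : A))).spanFinrank : ℕ) :
        WithBot ℕ∞) := by
      exact_mod_cast h1
    have h4 : n ≤ n' + (Ideal.span (Set.range fun i => (x i : A))).spanFinrank := by
      exact_mod_cast h3
    omega
  obtain ⟨y, hy⟩ := spanFinrank_le_quotient_add x
  have hcard : Module.finrank (ResidueField A) (CotangentSpace A) ≤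
      (maximalIdeal (A ⧸ Ideal.span (Set.range fun i => (x i : A)))).spanFinrank + r := by
    have := finrank_range_le_card (R := ResidueField A)
      (fun i => (maximalIdeal A).toCotangent (Sum.elim y x i))
    rw [Set.finrank, hy, finrank_top] at this
    simpa using this
  have he : Module.finrank (ResidueField A) (CotangentSpace A) =
      (maximalIdeal A).spanFinrank :=
    (spanFinrank_maximalIdeal_eq_finrank_cotangentSpace (R := A)).symm
  constructor
  · rintro ⟨hreg, hli⟩
    have h1 : (maximalIdeal A).spanFinrank = n := by
      have := hreg.spanFinrank_maximalIdeal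
      rw [hn] at this
      exact_mod_cast this
    have h2 := spanFinrank_quotient_add_le x hli
    have h3 : n' = (maximalIdeal (A ⧸ Ideal.span (Set.range fun i => (x i : A)))).spanFinrank := by
      omega
    refine ⟨?_, ?_⟩
    · rw [hn, hn']
      have : n' + r = n := by omega
      exact_mod_cast this
    · rw [isRegularLocalRing_iff, hn', h3]
  · rintro ⟨hdim, hreg⟩
    have h1 : (maximalIdeal (A ⧸ Ideal.span (Set.range fun i => (x i : A)))).spanFinrank = n' := by
      have := hreg.spanFinrank_maximalIdeal
      rw [hn'] at this
      exact_mod_cast this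
    have h2 : n' + r = n := by
      rw [hn, hn'] at hdim
      exact_mod_cast hdim
    have h3 : (maximalIdeal A).spanFinrank = n := by omega
    refine ⟨?_, ?_⟩
    · rw [isRegularLocalRing_iff, hn, h3]
    · have hli : LinearIndependent (ResidueField A)
          (fun i => (maximalIdeal A).toCotangent (Sum.elim y x i)) := by
        apply linearIndependent_of_top_le_span_of_card_eq_finrank
        · rw [hy]
        · change _ = Module.finrank (ResidueField A) (CotangentSpace A)
          simp only [Fintype.card_sum, Fintype.card_fin]
          omega
      exact hli.comp Sum.inr Sum.inr_injective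


/-- Let A be a Noetherian local ring with maximal ideal m and residue field k, (x_i)_{1 ≤ i ≤ r}
elements of m and J = x_1 A + ... + x_r A. Then A is regular with the classes of the x_i in m/m²
linearly independent over k (equivalently: the x_i are part of a regular system of parameters) if
and only if the x_i are part of a system of parameters of A (dim(A/J) = dim(A) - r) and A/J is
regular. When these conditions hold, J is a prime ideal. -/
theorem result (A : Type u) [CommRing A] [IsLocalRing A]
    [IsNoetherianRing A] (r : ℕ) (x : Fin r → IsLocalRing.maximalIdeal A) :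
    ((IsRegularLocalRing A ∧
        LinearIndependent (IsLocalRing.ResidueField A)
          (fun i => (IsLocalRing.maximalIdeal A).toCotangent (x i))) ↔
      (ringKrullDim (A ⧸ Ideal.span (Set.range fun i => (x i : A))) + r = ringKrullDim A ∧
        IsRegularLocalRing (A ⧸ Ideal.span (Set.range fun i => (x i : A))))) ∧
    (IsRegularLocalRing (A ⧸ Ideal.span (Set.range fun i => (x i : A))) →
      ringKrullDim (A ⧸ Ideal.span (Set.range fun i => (x i : A))) + r = ringKrullDim A →
        (Ideal.span (Set.range fun i => (x i : A))).IsPrime) := by
  have hne : Ideal.span (Set.range fun i => (x i : A)) ≠ ⊤ := by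
    intro h
    have hle : Ideal.span (Set.range fun i => (x i : A)) ≤ IsLocalRing.maximalIdeal A := by
      rw [Ideal.span_le]
      rintro _ ⟨i, rfl⟩
      exact (x i).2
    rw [h] at hle
    exact (IsLocalRing.maximalIdeal.isMaximal A).ne_top (top_le_iff.mp hle)
  haveI := Groth.Agent.Lib.helper19.isLocalRing_quotient _ hne
  refine ⟨main A r x, ?_⟩
  intro hreg _
  rw [← Ideal.Quotient.isDomain_iff_prime]
  exact Groth.Agent.Lib.helper19.isDomain_of_isRegularLocalRing _

end Groth.Agent.S5779
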