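import Groth.Statements.S5780
import Mathlib.RingTheory.Ideal.AssociatedPrime.Finiteness
import Mathlib.RingTheory.Nakayama
-- import your own Groth.Agent.* helpers here

set_option autoImplicit false
universe u
open EGA41

namespace Groth.Agent.S5780

/-- Let A be a Noetherian local ring with maximal ideal m. If every element of m which is not in m² is a
zero divisor in A, then there is a nonzero c in A with c m = 0, i.e. m is an associated prime of A. -/
theorem result (A : Type u) [CommRing A]
    [IsLocalRing A] [IsNoetherianRing A]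
    (h : ∀ a ∈ IsLocalRing.maximalIdeal A, a ∉ IsLocalRing.maximalIdeal A ^ 2 → ¬ IsSMulRegular A a) :
    IsLocalRing.maximalIdeal A ∈ associatedPrimes A A := by
  set m := IsLocalRing.maximalIdeal A with hm
  have hfin : (insert (m ^ 2) (associatedPrimes A A)).Finite :=
    (associatedPrimes.finite A A).insert _
  have hsub : (m : Set A) ⊆ ⋃ i ∈ insert (m ^ 2) (associatedPrimes A A), (id i : Ideal A) := by
    intro x hx
    by_cases hx2 : x ∈ m ^ 2
    · exact Set.mem_biUnion (Set.mem_insert _ _) hx2
    · have h1 : x ∈ ({ r : A | IsSMulRegular A r }ᶜ : Set A) := h x hx hx2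
      rw [← biUnion_associatedPrimes_eq_compl_regular A A] at h1
      obtain ⟨p, hp, hxp⟩ := Set.mem_iUnion₂.mp h1
      exact Set.mem_biUnion (Set.mem_insert_of_mem _ hp) hxp
  obtain ⟨P, hP, hmP⟩ := (m.subset_union_prime_finite hfin (f := id) (m ^ 2) (m ^ 2)
    (fun i hi h1 _ => (hi.resolve_left h1).isPrime)).1 hsub
  rcases hP with rfl | hP
  · have hbot : m = ⊥ := by
      apply Submodule.eq_bot_of_le_smul_of_le_jacobson_bot m m (IsNoetherian.noetherian m)
      · rw [smul_eq_mul, ← pow_two]; exact hmP
      · rw [IsLocalRing.jacobson_eq_maximalIdeal ⊥ bot_ne_top]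
    rw [AssociatedPrimes.mem_iff, isAssociatedPrime_iff]
    refine ⟨(IsLocalRing.maximalIdeal.isMaximal A).isPrime, 1, ?_⟩
    rw [hbot]
    ext r
    simp [Submodule.mem_colon_singleton]
  · have : P = m := ((IsLocalRing.maximalIdeal.isMaximal A).eq_of_le hP.isPrime.ne_top hmP).symm
    exact this ▸ hP

end Groth.Agent.S5780
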