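import Groth.Statements.S5781
import Mathlib.RingTheory.Ideal.Cotangent
import Mathlib.LinearAlgebra.Dual.Lemmas
import Mathlib.RingTheory.LocalRing.ResidueField.Basic
-- import your own Groth.Agent.* helpers here

set_option autoImplicit false
universe u
open EGA41

namespace Groth.Agent.S5781

/-- Suppose A is a Noetherian local ring whose maximal ideal is m, and take a ∈ m with a ∉ m². Then the
quotient m/am contains a direct summand isomorphic to m/Aa: concretely, one can find A-linear maps f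
: m/Aa → m/am and g : m/am → m/Aa such that g ∘ f is the identity. -/
theorem result (A : Type u) [CommRing A] [IsLocalRing A]
    [IsNoetherianRing A] (a : A) (ha : a ∈ IsLocalRing.maximalIdeal A) (ha2 : a ∉ IsLocalRing.maximalIdeal A ^ 2) :
    ∃ (f : (↥(IsLocalRing.maximalIdeal A) ⧸ Submodule.span A {(⟨a, ha⟩ : ↥(IsLocalRing.maximalIdeal A))}) →ₗ[A]
          QuotSMulTop a ↥(IsLocalRing.maximalIdeal A))
      (g : QuotSMulTop a ↥(IsLocalRing.maximalIdeal A) →ₗ[A]
          (↥(IsLocalRing.maximalIdeal A) ⧸ Submodule.span A {(⟨a, ha⟩ : ↥(IsLocalRing.maximalIdeal A))})),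
      g.comp f = LinearMap.id := by
  set m := IsLocalRing.maximalIdeal A with hm
  have hne : m.toCotangent ⟨a, ha⟩ ≠ 0 := by
    rw [ne_eq, Ideal.toCotangent_eq_zero]; exact ha2
  obtain ⟨φ, hφ⟩ : ∃ φ : Module.Dual (IsLocalRing.ResidueField A) m.Cotangent,
      φ (m.toCotangent ⟨a, ha⟩) ≠ 0 := by
    by_contra! H
    exact hne ((Module.forall_dual_apply_eq_zero_iff (IsLocalRing.ResidueField A) _).mp H)
  let abar : QuotSMulTop a ↥m := Submodule.Quotient.mk ⟨a, ha⟩
  let ψ : (A ⧸ m) →ₗ[A] QuotSMulTop a ↥m :=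
    Submodule.liftQ m (LinearMap.toSpanSingleton A _ abar) (by
      intro r hr
      rw [LinearMap.mem_ker, LinearMap.toSpanSingleton_apply]
      change Submodule.Quotient.mk (r • (⟨a, ha⟩ : ↥m)) = 0
      rw [Submodule.Quotient.mk_eq_zero]
      have : r • (⟨a, ha⟩ : ↥m) = a • (⟨r, hr⟩ : ↥m) := by
        ext; simp [mul_comm]
      rw [this]
      exact Submodule.smul_mem_pointwise_smul _ _ _ Submodule.mem_top)
  let lam : ↥m →ₗ[A] (A ⧸ m) :=
    (((φ (m.toCotangent ⟨a, ha⟩))⁻¹ • φ).restrictScalars A) ∘ₗ m.toCotangent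
  have hlam : lam ⟨a, ha⟩ = 1 := by
    simp only [lam, LinearMap.comp_apply, LinearMap.restrictScalars_apply, LinearMap.smul_apply]
    exact inv_mul_cancel₀ hφ
  let Φ : ↥m →ₗ[A] QuotSMulTop a ↥m := Submodule.mkQ _ - ψ ∘ₗ lam
  have hΦ : Φ ⟨a, ha⟩ = 0 := by
    simp only [Φ, LinearMap.sub_apply, LinearMap.comp_apply, hlam]
    have : ψ 1 = abar := by
      change (Submodule.liftQ m (LinearMap.toSpanSingleton A _ abar) _) (Submodule.Quotient.mk 1) = abar
      rw [Submodule.liftQ_apply, LinearMap.toSpanSingleton_apply, one_smul]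
    rw [this]
    exact sub_self _
  let f : (↥m ⧸ Submodule.span A {(⟨a, ha⟩ : ↥m)}) →ₗ[A] QuotSMulTop a ↥m :=
    Submodule.liftQ _ Φ (by
      rw [Submodule.span_le, Set.singleton_subset_iff]
      exact hΦ)
  let g : QuotSMulTop a ↥m →ₗ[A] (↥m ⧸ Submodule.span A {(⟨a, ha⟩ : ↥m)}) :=
    Submodule.liftQ _ (Submodule.mkQ _) (by
      intro x hx
      obtain ⟨y, -, rfl⟩ := hx
      rw [LinearMap.mem_ker, Submodule.mkQ_apply, Submodule.Quotient.mk_eq_zero]
      have : (DistribSMul.toLinearMap A (↥m) a) y = (y : A) • (⟨a, ha⟩ : ↥m) := by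
        ext; simp [mul_comm]
      rw [this]
      exact Submodule.smul_mem _ _ (Submodule.mem_span_singleton_self _))
  have hgψ : ∀ c, g (ψ c) = 0 := by
    intro c
    obtain ⟨c, rfl⟩ := Submodule.Quotient.mk_surjective _ c
    have : ψ (Submodule.Quotient.mk c) = c • abar := by
      change (Submodule.liftQ m (LinearMap.toSpanSingleton A _ abar) _) (Submodule.Quotient.mk c) = _
      rw [Submodule.liftQ_apply, LinearMap.toSpanSingleton_apply]
    rw [this, map_smul]
    have : g abar = 0 := by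
      simp only [g, abar, Submodule.liftQ_apply, Submodule.mkQ_apply]
      rw [Submodule.Quotient.mk_eq_zero]
      exact Submodule.mem_span_singleton_self _
    rw [this, smul_zero]
  refine ⟨f, g, ?_⟩
  ext x
  simp only [LinearMap.comp_apply, Submodule.mkQ_apply, LinearMap.id_apply, f,
    Submodule.liftQ_apply, Φ, LinearMap.sub_apply, map_sub, hgψ, sub_zero]
  simp [g]

end Groth.Agent.S5781
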