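import Groth.Statements.S5782
import Groth.Agent.Lib.helper11.ChangeOfRingsPD

set_option autoImplicit false
universe u
open CategoryTheory
open EGA41

namespace Groth.Agent.S5782

/-- Let A be a Noetherian local ring with maximal ideal m, E a finitely generated A-module of finite
projective dimension, and a ∈ m an element which is A-regular and E-regular. Then E/aE, as a module
over A/aA, has finite projective dimension at most the projective dimension of E over A. -/
theorem result (A : Type u) [CommRing A] [IsLocalRing A]
    [IsNoetherianRing A] (E : Type u) [AddCommGroup E] [Module A E] [Module.Finite A E]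
    (hfin : projectiveDimension (ModuleCat.of A E) ≠ ⊤) (a : A) (ha : a ∈ IsLocalRing.maximalIdeal A)
    (hA : IsSMulRegular A a) (hE : IsSMulRegular E a) :
    projectiveDimension (ModuleCat.of (A ⧸ Ideal.span {a}) (E ⧸ (Ideal.span {a} • (⊤ : Submodule A E)))) ≤
      projectiveDimension (ModuleCat.of A E) := by
  classical
  open Pointwise in
  have hsub : (Ideal.span {a} • (⊤ : Submodule A E)) = a • (⊤ : Submodule A E) :=
    Submodule.ideal_span_singleton_smul a ⊤
  let e0 : (E ⧸ (Ideal.span {a} • (⊤ : Submodule A E))) ≃ₗ[A] QuotSMulTop a E :=
    Submodule.quotEquivOfEq _ _ hsub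
  let e : (E ⧸ (Ideal.span {a} • (⊤ : Submodule A E))) ≃ₗ[A ⧸ Ideal.span {a}] QuotSMulTop a E :=
    e0.extendScalarsOfSurjective Ideal.Quotient.mk_surjective
  rw [projectiveDimension_eq_of_iso e.toModuleIso]
  obtain ⟨n, hn⟩ := (projectiveDimension_ne_top_iff _).mp hfin
  generalize hpd : projectiveDimension (ModuleCat.of A E) = x at hfin
  induction x with
  | bot =>
    rw [projectiveDimension_eq_bot_iff] at hpd
    haveI : Subsingleton E := ModuleCat.subsingleton_of_isZero hpd
    rw [le_bot_iff, projectiveDimension_eq_bot_iff]
    exact ModuleCat.isZero_of_subsingleton _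
  | coe x =>
    induction x with
    | top => exact absurd rfl hfin
    | coe m =>
      have h1 : HasProjectiveDimensionLE (ModuleCat.of A E) m := by
        rw [← projectiveDimension_le_iff, hpd]
        rfl
      have h2 := Groth.Agent.Lib.helper11.ChangeOfRingsPD.hasProjectiveDimensionLT_quotSMulTop
        a hA m E hE h1
      have h3 := (projectiveDimension_le_iff _ m).mpr h2
      exact h3

end Groth.Agent.S5782
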