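import Groth.Statements.S5783
import Mathlib
import Groth.Agent.S5756
import Groth.Agent.S0341
import Groth.Agent.S0342
import Groth.Agent.Lib.helper11.ABFormula
import Groth.Agent.Lib.helper11.GlDimRegular
import Groth.Agent.Lib.Helper7.NoetherNormInt
import Groth.Agent.Lib.Helper21.DepthKit3

set_option autoImplicit false
universe u
open EGA41

namespace Groth.Agent.S5783

open IsLocalRing CategoryTheory Groth.Agent.Lib.Helper21.DepthKit

theorem noeth_B (A B : Type u) [CommRing A] [CommRing B] [IsNoetherianRing A] [Algebra A B]
    [Module.Finite A B] : IsNoetherianRing B := by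
  haveI : IsNoetherian A B := isNoetherian_of_isNoetherianRing_of_finite A B
  exact isNoetherian_of_tower A inferInstance

section
variable {A B : Type u} [CommRing A] [CommRing B] [IsRegularLocalRing A] [IsLocalRing B]
  [Algebra A B] [IsLocalHom (algebraMap A B)] [Module.Finite A B]


theorem dim_eq (hinj : Function.Injective (algebraMap A B)) : ringKrullDim B = ringKrullDim A :=
  Groth.Agent.Lib.Helper7.NNInt.ringKrullDim_eq_of_injective_isIntegral (algebraMap A B) hinj
    (algebraMap_isIntegral_iff.mpr inferInstance)

theorem depth_A_eq_dim : Module.supportDim A A = ((LocCoh.depth A A : ℕ∞) : WithBot ℕ∞) := by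
  haveI := Groth.Agent.S0342.result A
  haveI := Groth.Agent.S0341.result A
  exact LocCoh.IsCohenMacaulayLocalRing.supportDim_eq_depth

theorem depth_B_eq : LocCoh.depth A B = LocCoh.depth B B := by
  haveI : IsNoetherianRing B := noeth_B A B
  exact Groth.Agent.S5756.result A B B

end



/-- Let A be a regular local ring, B a local ring and ρ : A → B a local homomorphism making B a finitely
generated A-module. Then B is a free A-module if and only if B is a Cohen-Macaulay ring and ρ is
injective (the latter being equivalent to dim(B) = dim(A)). -/
theorem result (A B : Type u) [CommRing A] [CommRing B]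
    [IsRegularLocalRing A] [IsLocalRing B] [Algebra A B] [IsLocalHom (algebraMap A B)] [Module.Finite A B] :
    Module.Free A B ↔ LocCoh.IsCohenMacaulayLocalRing B ∧ Function.Injective (algebraMap A B) := by
  haveI hBn : IsNoetherianRing B := noeth_B A B
  obtain ⟨d, hd⟩ := exists_nat_supportDim (A := A) (M := A)
  have hdA : ringKrullDim A = d := by rw [← Module.supportDim_self_eq_ringKrullDim]; exact hd
  have hdepA : LocCoh.depth A A = d := by
    have h1 := depth_A_eq_dim (A := A)
    rw [hd] at h1
    exact_mod_cast h1.symm
  constructor
  · intro hfree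
    have hinj : Function.Injective (algebraMap A B) := FaithfulSMul.algebraMap_injective A B
    refine ⟨?_, hinj⟩
    refine LocCoh.IsCohenMacaulayLocalRing.mk ?_
    rw [Module.supportDim_self_eq_ringKrullDim, dim_eq hinj, hdA, ← depth_B_eq (A := A)]
    -- depth_A B = depth A
    have hproj : HasProjectiveDimensionLT (ModuleCat.of A B) (0 + 1) := by
      rw [zero_add, ← projective_iff_hasProjectiveDimensionLT_one, ← IsProjective.iff_projective]
      infer_instance
    have hnot : ¬ HasProjectiveDimensionLT (ModuleCat.of A B) 0 := by
      rw [hasProjectiveDimensionLT_zero_iff_isZero, ModuleCat.isZero_of_iff_subsingleton]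
      exact not_subsingleton B
    have hab := Groth.Agent.Lib.helper11.ABFormula.depth_eq_add_depth (R := A) B 0 hproj hnot
    rw [hdepA] at hab
    simp only [Nat.cast_zero, zero_add] at hab
    rw [← hab]
    rfl
  · rintro ⟨hCM, hinj⟩
    have hdimB : ringKrullDim B = d := by rw [dim_eq hinj, hdA]
    have hdepB : LocCoh.depth A B = d := by
      rw [depth_B_eq (A := A)]
      have h1 := hCM.supportDim_eq_depth
      rw [Module.supportDim_self_eq_ringKrullDim, hdimB] at h1
      exact_mod_cast h1.symm
    have hpd := Groth.Agent.Lib.helper11.GlDimRegular.hasProjectiveDimensionLT_of_isRegularLocalRing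
      (A := A) d hdA (ModuleCat.of A B)
    classical
    have hex : ∃ e, HasProjectiveDimensionLT (ModuleCat.of A B) e := ⟨d + 1, hpd⟩
    have hne : Nat.find hex ≠ 0 := by
      intro h0
      have := Nat.find_spec hex
      rw [h0, hasProjectiveDimensionLT_zero_iff_isZero,
        ModuleCat.isZero_of_iff_subsingleton] at this
      exact not_subsingleton B this
    obtain ⟨e, he⟩ := Nat.exists_eq_succ_of_ne_zero hne
    have h1 : HasProjectiveDimensionLT (ModuleCat.of A B) (e + 1) := by
      have := Nat.find_spec hex
      rwa [he] at this
    have h2 : ¬ HasProjectiveDimensionLT (ModuleCat.of A B) e :=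
      Nat.find_min hex (by rw [he]; exact Nat.lt_succ_self e)
    have hab := Groth.Agent.Lib.helper11.ABFormula.depth_eq_add_depth (R := A) B e h1 h2
    rw [hdepA, hdepB] at hab
    have he0 : e = 0 := by
      have : (d : ℕ∞) = ((e + d : ℕ) : ℕ∞) := by exact_mod_cast hab
      have := ENat.coe_inj.mp this
      omega
    subst he0
    rw [zero_add, ← projective_iff_hasProjectiveDimensionLT_one, ← IsProjective.iff_projective] at h1
    exact Module.free_of_flat_of_isLocalRing

end Groth.Agent.S5783
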