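import Groth.Statements.S5786
import Groth.Agent.Lib.helper11.RegularDescent
import Groth.Agent.Lib.helper11.GorensteinLocal
import Groth.Agent.S0342

set_option autoImplicit false
universe u
open CategoryTheory
open EGA41

namespace Groth.Agent.S5786

/-- Let φ : A → B be a local homomorphism of Noetherian local rings making B a flat A-module. Then the
global (cohomological) dimension of A is at most that of B: if every B-module has projective
dimension at most n, then so does every A-module. -/
theorem result (A B : Type u) [CommRing A] [CommRing B] [IsLocalRing A]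
    [IsLocalRing B] [IsNoetherianRing A] [IsNoetherianRing B] [Algebra A B] [IsLocalHom (algebraMap A B)]
    [Module.Flat A B] (n : ℕ)
    (hB : ∀ (N : Type u) [AddCommGroup N] [Module B N], HasProjectiveDimensionLT (ModuleCat.of B N) (n + 1))
    (M : Type u) [AddCommGroup M] [Module A M] : HasProjectiveDimensionLT (ModuleCat.of A M) (n + 1) := by
  classical
  haveI : Module.FaithfullyFlat A B := Module.FaithfullyFlat.of_flat_of_isLocalHom
  have h1 : HasProjectiveDimensionLT (ModuleCat.of A (A ⧸ IsLocalRing.maximalIdeal A)) (n + 1) :=
    Groth.Agent.Lib.helper11.RegularDescent.hasProjectiveDimensionLT_of_faithfullyFlat A B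
      (A ⧸ IsLocalRing.maximalIdeal A) (n + 1) (hB _)
  haveI : IsRegularLocalRing A :=
    Groth.Agent.Lib.helper11.SerreConverse.isRegularLocalRing_of_pd A (n + 1) h1
  have hD : ringKrullDim A = ((IsLocalRing.maximalIdeal A).spanFinrank : ℕ) :=
    (IsRegularLocalRing.spanFinrank_maximalIdeal (R := A)).symm
  have hG := (Groth.Agent.S0342.result A).exists_hasInjectiveDimensionLT
  have hnt := (Groth.Agent.Lib.helper11.GorensteinLocal.gorenstein_main hG _ hD).2.1
  have hle : (IsLocalRing.maximalIdeal A).spanFinrank ≤ n := by
    by_contra hcon
    push Not at hcon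
    have : Subsingleton (Abelian.Ext (ModuleCat.of A (A ⧸ IsLocalRing.maximalIdeal A))
        (ModuleCat.of A A) (IsLocalRing.maximalIdeal A).spanFinrank) :=
      HasProjectiveDimensionLT.subsingleton _ (n + 1) _ (by omega) _
    exact not_subsingleton _ this
  have h2 := Groth.Agent.Lib.helper11.GlDimRegular.hasProjectiveDimensionLT_of_isRegularLocalRing
    _ hD (ModuleCat.of A M)
  exact hasProjectiveDimensionLT_of_ge _ ((IsLocalRing.maximalIdeal A).spanFinrank + 1) (n + 1)
    (by omega)

end Groth.Agent.S5786
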