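import Groth.Statements.S5804
import Mathlib

set_option autoImplicit false
set_option backward.isDefEq.respectTransparency false
set_option backward.defeqAttrib.useBackward true
universe u
open CategoryTheory
open EGA41

namespace Groth.Agent.S5804

section helpers
open CategoryTheory.Abelian

variable {A : Type u} [CommRing A]

/-- the short exact sequence `0 → I → A → A/I → 0` -/
noncomputable def idealSC (I : Ideal A) : ShortComplex (ModuleCat.{u} A) :=
  ShortComplex.mk (ModuleCat.ofHom I.subtype) (ModuleCat.ofHom (Submodule.mkQ I))
    (by ext x; simpa using Ideal.Quotient.eq_zero_iff_mem.mpr x.2)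

lemma idealSC_shortExact (I : Ideal A) : (idealSC I).ShortExact := by
  refine ShortComplex.ShortExact.mk' ?_ ?_ ?_
  · rw [ShortComplex.ShortExact.moduleCat_exact_iff_function_exact]
    intro x
    change (Submodule.mkQ I) x = 0 ↔ x ∈ Set.range I.subtype
    simp [Ideal.Quotient.eq_zero_iff_mem]
  · rw [ModuleCat.mono_iff_injective]
    exact I.injective_subtype
  · rw [ModuleCat.epi_iff_surjective]
    exact Submodule.mkQ_surjective I

lemma injective_of_ext_one (N : ModuleCat.{u} A)
    (h : ∀ I : Ideal A, Subsingleton (Ext (ModuleCat.of A (A ⧸ I)) N 1)) :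
    Injective N := by
  have hbaer : Module.Baer A N := by
    intro I g
    have hS := idealSC_shortExact I
    have hsub : Subsingleton (Ext (idealSC I).X₃ N 1) := h I
    obtain ⟨φ, hφ⟩ := Ext.contravariant_sequence_exact₁ hS N
      (Ext.mk₀ (ModuleCat.ofHom g)) (zero_add 1) (Subsingleton.elim _ _)
    obtain ⟨φ, rfl⟩ := Ext.homEquiv₀.symm.surjective φ
    have hφ' : (idealSC I).f ≫ φ = ModuleCat.ofHom g :=
      Ext.homEquiv₀.symm.injective (by simpa using hφ)
    refine ⟨φ.hom, fun x hx => ?_⟩
    have := congrArg (fun f => f.hom ⟨x, hx⟩) hφ'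
    simpa [idealSC] using this
  have : Module.Injective A N := Module.Baer.injective hbaer
  exact Module.injective_object_of_injective_module A N

lemma hasInjDim_of_ext (n : ℕ) : ∀ (N : ModuleCat.{u} A),
    (∀ I : Ideal A, Subsingleton (Ext (ModuleCat.of A (A ⧸ I)) N (n + 1))) →
    HasInjectiveDimensionLT N (n + 1) := by
  induction n with
  | zero =>
    intro N h
    have := injective_of_ext_one N h
    infer_instance
  | succ n ih =>
    intro N h
    let S := ShortComplex.mk (Injective.ι N) (Limits.cokernel.π (Injective.ι N))
      (Limits.cokernel.condition (Injective.ι N))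
    have hS : S.ShortExact := { exact := ShortComplex.exact_cokernel (Injective.ι N) }
    have hE : Injective S.X₂ := by
      change Injective (Injective.under N)
      infer_instance
    have key : HasInjectiveDimensionLT S.X₃ (n + 1) := by
      apply ih
      intro I
      have hz : ∀ x : Ext (ModuleCat.of A (A ⧸ I)) S.X₃ (n + 1), x = 0 := by
        intro x
        have hsub : Subsingleton (Ext (ModuleCat.of A (A ⧸ I)) S.X₁ (n + 1 + 1)) := h I
        obtain ⟨x₂, rfl⟩ := Ext.covariant_sequence_exact₃ _ hS x (rfl : (n + 1) + 1 = n + 1 + 1)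
          (Subsingleton.elim _ _)
        rw [x₂.eq_zero_of_injective, Ext.zero_comp]
      exact ⟨fun x y => (hz x).trans (hz y).symm⟩
    exact (hS.hasInjectiveDimensionLT_X₃_iff n hE).mp key

theorem main (n : ℕ)
    (h : ∀ I : Ideal A, HasProjectiveDimensionLT (ModuleCat.of A (A ⧸ I)) (n + 1))
    (M : ModuleCat.{u} A) : HasProjectiveDimensionLT M (n + 1) := by
  have hinj : ∀ N : ModuleCat.{u} A, HasInjectiveDimensionLT N (n + 1) := by
    intro N
    apply hasInjDim_of_ext
    intro I
    have := h I
    exact HasProjectiveDimensionLT.subsingleton _ (n + 1) (n + 1) le_rfl N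
  rw [hasProjectiveDimensionLT_iff]
  intro i hi Y e
  have := hinj Y
  have hsub := HasInjectiveDimensionLT.subsingleton Y (n + 1) i hi M
  exact Subsingleton.elim _ _

end helpers


/-- Let A be a ring and n ≥ 0. If Ext^(n+1)_A(M, N) = 0 for every monogenous A-module M and every
A-module N — equivalently, if every A/I has projective dimension at most n — then every A-module has
projective dimension at most n, i.e. the global dimension of A is at most n. -/
theorem result (A : Type u) [CommRing A] (n : ℕ)
    (h : ∀ I : Ideal A, HasProjectiveDimensionLT (ModuleCat.of A (A ⧸ I)) (n + 1)) (M : Type u)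
    [AddCommGroup M] [Module A M] : HasProjectiveDimensionLT (ModuleCat.of A M) (n + 1) := by
  exact main n h _

end Groth.Agent.S5804
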