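import Groth.Statements.S5789
import Mathlib

set_option autoImplicit false
set_option backward.isDefEq.respectTransparency false
set_option backward.defeqAttrib.useBackward true
universe u
open CategoryTheory
open EGA41

namespace Groth.Agent.S5789

section helpers
open CategoryTheory.Abelian

variable {A : Type u} [CommRing A]

lemma ext_subsingleton_of_iso {M L L' : ModuleCat.{u} A} (e : L ≅ L') (n : ℕ)
    (h : Subsingleton (Ext M L' n)) : Subsingleton (Ext M L n) := by
  have hz : ∀ x : Ext M L n, x = 0 := by
    intro x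
    have h1 : (x.comp (Ext.mk₀ e.hom) (add_zero n)).comp (Ext.mk₀ e.inv) (add_zero n) = x := by
      rw [Ext.comp_assoc_of_third_deg_zero, Ext.mk₀_comp_mk₀, e.hom_inv_id, Ext.comp_mk₀_id]
    rw [← h1, Subsingleton.elim (x.comp (Ext.mk₀ e.hom) (add_zero n)) 0, Ext.zero_comp]
  exact ⟨fun x y => (hz x).trans (hz y).symm⟩

lemma ext_subsingleton_of_shortExact {M : ModuleCat.{u} A} {S : ShortComplex (ModuleCat.{u} A)}
    (hS : S.ShortExact) (n : ℕ) (h1 : Subsingleton (Ext M S.X₁ n)) (h3 : Subsingleton (Ext M S.X₃ n)) :
    Subsingleton (Ext M S.X₂ n) := by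
  have hz : ∀ x : Ext M S.X₂ n, x = 0 := by
    intro x
    obtain ⟨x₁, rfl⟩ := Ext.covariant_sequence_exact₂ M hS x (Subsingleton.elim _ _)
    rw [Subsingleton.elim x₁ 0, Ext.zero_comp]
  exact ⟨fun x y => (hz x).trans (hz y).symm⟩

theorem ext_subsingleton_of_span (M : ModuleCat.{u} A) (n : ℕ)
    (h : ∀ I : Ideal A, Subsingleton (Ext M (ModuleCat.of A (A ⧸ I)) n)) (m : ℕ) :
    ∀ (L : Type u) [AddCommGroup L] [Module A L] (s : Fin m → L),
      Submodule.span A (Set.range s) = ⊤ → Subsingleton (Ext M (ModuleCat.of A L) n) := by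
  induction m with
  | zero =>
    intro L _ _ s hs
    have hsub : Subsingleton L := by
      have : (⊤ : Submodule A L) = ⊥ := by
        rw [← hs]; simp
      refine ⟨fun x y => ?_⟩
      have hx : x ∈ (⊤ : Submodule A L) := Submodule.mem_top
      have hy : y ∈ (⊤ : Submodule A L) := Submodule.mem_top
      rw [this, Submodule.mem_bot] at hx hy
      rw [hx, hy]
    have hsub2 : Subsingleton (A ⧸ (⊤ : Ideal A)) := Ideal.Quotient.subsingleton_iff.mpr rfl
    let e : L ≃ₗ[A] (A ⧸ (⊤ : Ideal A)) :=
      { toFun := fun _ => 0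
        invFun := fun _ => 0
        map_add' := by intros; simp
        map_smul' := by intros; simp
        left_inv := fun _ => Subsingleton.elim _ _
        right_inv := fun _ => Subsingleton.elim _ _ }
    exact ext_subsingleton_of_iso e.toModuleIso n (h ⊤)
  | succ m ih =>
    intro L _ _ s hs
    let L' : Submodule A L := Submodule.span A (Set.range (Fin.tail s))
    have hL' : Subsingleton (Ext M (ModuleCat.of A L') n) := by
      apply ih L' (fun j => ⟨Fin.tail s j, Submodule.subset_span ⟨j, rfl⟩⟩)
      rw [eq_top_iff]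
      rintro ⟨x, hx⟩ -
      refine Submodule.span_induction (p := fun x hx => (⟨x, hx⟩ : L') ∈ Submodule.span A _)
        ?_ ?_ ?_ ?_ hx
      · rintro _ ⟨j, rfl⟩
        exact Submodule.subset_span ⟨j, rfl⟩
      · exact Submodule.zero_mem _
      · intro x y hx hy hx' hy'
        exact Submodule.add_mem _ hx' hy'
      · intro a x hx hx'
        exact Submodule.smul_mem _ a hx'
    let φ : A →ₗ[A] (L ⧸ L') := LinearMap.toSpanSingleton A (L ⧸ L') (Submodule.Quotient.mk (s 0))
    have hφ : Function.Surjective φ := by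
      rw [← LinearMap.range_eq_top, eq_top_iff]
      have : (⊤ : Submodule A (L ⧸ L')) = Submodule.map (Submodule.mkQ L') ⊤ := by
        rw [Submodule.map_top, Submodule.range_mkQ]
      rw [this, ← hs, Submodule.map_span, Submodule.span_le]
      rintro _ ⟨_, ⟨i, rfl⟩, rfl⟩
      refine Fin.cases ?_ (fun j => ?_) i
      · exact ⟨1, by simp [φ]⟩
      · refine ⟨0, ?_⟩
        rw [map_zero, eq_comm]
        exact (Submodule.Quotient.mk_eq_zero L').mpr (Submodule.subset_span ⟨j, rfl⟩)
    have hL'' : Subsingleton (Ext M (ModuleCat.of A (L ⧸ L')) n) :=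
      ext_subsingleton_of_iso (φ.quotKerEquivOfSurjective hφ).symm.toModuleIso n
        (h (LinearMap.ker φ))
    have hS : (ShortComplex.mk (ModuleCat.ofHom L'.subtype) (ModuleCat.ofHom L'.mkQ)
        (by ext x; simp)).ShortExact :=
      ModuleCat.shortComplex_shortExact _ (LinearMap.exact_subtype_mkQ L')
        L'.injective_subtype (Submodule.mkQ_surjective L')
    exact ext_subsingleton_of_shortExact hS n hL' hL''

end helpers


/-- Let A be a Noetherian ring, M a finitely generated A-module and n ≥ 0. Then M has projective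
dimension at most n if and only if Ext^(n+1)_A(M, N) = 0 for every monogenous A-module N, i.e. every
N = A/I with I an ideal. -/
theorem result (A : Type u) [CommRing A] [IsNoetherianRing A]
    (M : Type u) [AddCommGroup M] [Module A M] [Module.Finite A M] (n : ℕ) :
    HasProjectiveDimensionLT (ModuleCat.of A M) (n + 1) ↔
      ∀ I : Ideal A, Subsingleton (Abelian.Ext (ModuleCat.of A M) (ModuleCat.of A (A ⧸ I)) (n + 1)) := by
  constructor
  · intro h I
    exact HasProjectiveDimensionLT.subsingleton _ (n + 1) (n + 1) le_rfl _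
  · intro h
    apply ModuleCat.hasProjectiveDimensionLT_of_forall_finite
    intro L hL
    obtain ⟨m, s, hs⟩ := Module.Finite.exists_fin (R := A) (M := L)
    exact ext_subsingleton_of_span _ (n + 1) h m L s hs

end Groth.Agent.S5789
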