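import Groth.Statements.S5792
import Groth.Agent.Lib.Helper21.TopDim
import Mathlib

set_option autoImplicit false
universe u
open TopDim

namespace Groth.Agent.S5792

open TopologicalSpace Groth.Agent.Lib.Helper21.TopDim in
theorem main (X : Type u) [TopologicalSpace X] :
    topologicalKrullDim X = ⨆ x : X, FlatMor.localDim X x := by
  apply le_antisymm
  · unfold topologicalKrullDim Order.krullDim
    refine iSup_le fun p => ?_
    obtain ⟨x, hx⟩ := (p 0).isIrreducible.nonempty
    exact (length_le_localDim x p hx).trans (le_iSup (fun x => FlatMor.localDim X x) x)
  · exact iSup_le fun x => localDim_le x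


/-- For every topological space X one has dim(X) = sup_{x ∈ X} dim_x(X), the supremum of the local
combinatorial dimensions. -/
theorem result (X : Type u) [TopologicalSpace X] :
    topologicalKrullDim X = ⨆ x : X, FlatMor.localDim X x := by
  exact main X

end Groth.Agent.S5792
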