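import Groth.Statements.S5793
import Groth.Agent.Lib.Helper21.TopDim
import Mathlib

set_option autoImplicit false
universe u
open TopDim

namespace Groth.Agent.S5793

open TopologicalSpace Groth.Agent.Lib.Helper21.TopDim in
theorem main (X : Type u) [TopologicalSpace X]
    [TopologicalSpace.NoetherianSpace X] [T0Space X] :
    topologicalKrullDim X = ⨆ x ∈ {x : X | IsClosed ({x} : Set X)}, FlatMor.localDim X x := by
  apply le_antisymm
  · unfold topologicalKrullDim Order.krullDim
    refine iSup_le fun p => ?_
    obtain ⟨x, hx, hxc⟩ := (p 0).isClosed.exists_closed_singleton (p 0).isIrreducible.nonempty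
    exact (length_le_localDim x p hx).trans
      (le_iSup₂ (f := fun x (_ : x ∈ {x : X | IsClosed ({x} : Set X)}) => FlatMor.localDim X x) x hxc)
  · exact iSup₂_le fun x _ => localDim_le x


/-- Let X be a Noetherian Kolmogoroff space. Then dim(X) = sup dim_x(X), the supremum being over the
closed points x of X only. -/
theorem result (X : Type u) [TopologicalSpace X]
    [TopologicalSpace.NoetherianSpace X] [T0Space X] :
    topologicalKrullDim X = ⨆ x ∈ {x : X | IsClosed ({x} : Set X)}, FlatMor.localDim X x := by
  exact main X

end Groth.Agent.S5793
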