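import Groth.Statements.S5795
-- import your own Groth.Agent.* helpers here

set_option autoImplicit false
universe u
open TopDim

namespace Groth.Agent.S5795

/-- Let X be a Noetherian Kolmogoroff space and x a point of X. Then x is isolated in X if and only if
dim_x(X) = 0. -/
theorem result (X : Type u) [TopologicalSpace X]
    [TopologicalSpace.NoetherianSpace X] [T0Space X] (x : X) :
    IsOpen ({x} : Set X) ↔ FlatMor.localDim X x = 0 := by
  classical
  constructor
  · intro hopen
    apply le_antisymm
    · let U : {U : TopologicalSpace.Opens X // x ∈ U} := ⟨⟨{x}, hopen⟩, rfl⟩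
      refine (iInf_le (fun W : {W : TopologicalSpace.Opens X // x ∈ W} =>
        topologicalKrullDim (W.1 : Set X)) U).trans ?_
      haveI : Subsingleton ((U.1 : TopologicalSpace.Opens X) : Set X) :=
        ⟨fun a b => Subtype.ext (a.2.trans b.2.symm)⟩
      exact topologicalKrullDim_zero_of_discreteTopology _
    · refine le_iInf fun W => ?_
      haveI : Nonempty (TopologicalSpace.IrreducibleCloseds ((W.1 : TopologicalSpace.Opens X) : Set X)) :=
        ⟨⟨closure {⟨x, W.2⟩}, isIrreducible_singleton.closure, isClosed_closure⟩⟩
      exact Order.krullDim_nonneg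
  · intro h0
    haveI : Nonempty {U : TopologicalSpace.Opens X // x ∈ U} := ⟨⟨⊤, trivial⟩⟩
    obtain ⟨U, hU⟩ := ciInf_mem (fun W : {W : TopologicalSpace.Opens X // x ∈ W} =>
        topologicalKrullDim (W.1 : Set X))
    replace hU : topologicalKrullDim ((U.1 : TopologicalSpace.Opens X) : Set X) = 0 := hU.trans h0
    obtain ⟨U, hxU⟩ := U
    dsimp only at hU
    have hmax : ∀ Z : TopologicalSpace.IrreducibleCloseds (U : Set X), IsMax Z :=
      Order.krullDim_nonpos_iff_forall_isMax.1 hU.le
    -- point closures are singletons
    have hpt : ∀ y z : (U : Set X), z ∈ closure ({y} : Set (U : Set X)) → z = y := by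
      intro y z hz
      let A : TopologicalSpace.IrreducibleCloseds (U : Set X) :=
        ⟨closure {y}, isIrreducible_singleton.closure, isClosed_closure⟩
      let B : TopologicalSpace.IrreducibleCloseds (U : Set X) :=
        ⟨closure {z}, isIrreducible_singleton.closure, isClosed_closure⟩
      have hBA : B ≤ A := fun w hw =>
        closure_minimal (Set.singleton_subset_iff.2 hz) isClosed_closure hw
      have hAB : A ≤ B := hmax B hBA
      have heq : closure ({z} : Set (U : Set X)) = closure {y} :=
        Set.Subset.antisymm hBA hAB
      exact (inseparable_iff_closure_eq.2 heq).eq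
    haveI : T1Space (U : Set X) := ⟨fun y => by
      have : closure ({y} : Set (U : Set X)) = {y} :=
        Set.Subset.antisymm (fun z hz => hpt y z hz) subset_closure
      rw [← this]; exact isClosed_closure⟩
    haveI : Finite (U : Set X) := by
      rw [← Set.finite_univ_iff, ← sUnion_irreducibleComponents]
      refine Set.Finite.sUnion TopologicalSpace.NoetherianSpace.finite_irreducibleComponents ?_
      intro Z hZ
      have hZirr : IsIrreducible Z := hZ.1
      have hZcl : IsClosed Z := isClosed_of_mem_irreducibleComponents Z hZ
      obtain ⟨y, hy⟩ := hZirr.nonempty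
      let A : TopologicalSpace.IrreducibleCloseds (U : Set X) :=
        ⟨closure {y}, isIrreducible_singleton.closure, isClosed_closure⟩
      let B : TopologicalSpace.IrreducibleCloseds (U : Set X) := ⟨Z, hZirr, hZcl⟩
      have hAB : A ≤ B := fun w hw =>
        closure_minimal (Set.singleton_subset_iff.2 hy) hZcl hw
      have hBA : B ≤ A := hmax A hAB
      refine Set.Finite.subset (Set.finite_singleton y) ?_
      intro z hz
      exact hpt y z (hBA hz)
    have hopenU : IsOpen ({⟨x, hxU⟩} : Set (U : Set X)) := isOpen_discrete _
    have := U.isOpen.isOpenMap_subtype_val _ hopenU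
    simpa using this

end Groth.Agent.S5795
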