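import Groth.Statements.S5797
-- import your own Groth.Agent.* helpers here
import Groth.Agent.Lib.Helper26.TopDim

set_option autoImplicit false
universe u
open TopDim

namespace Groth.Agent.S5797

/-- If a topological space X is a finite union of closed subsets X_i, then dim(X) = sup_i dim(X_i)
(combinatorial dimensions). -/
theorem result (X : Type u) [TopologicalSpace X] (ι : Type u)
    [Finite ι] (Y : ι → Set X) (hY : ∀ i, IsClosed (Y i)) (hcov : ⋃ i, Y i = Set.univ) :
    topologicalKrullDim X = ⨆ i, topologicalKrullDim (Y i) := by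
  classical
  apply le_antisymm
  · unfold topologicalKrullDim
    rw [Order.krullDim]
    refine iSup_le fun p => ?_
    obtain ⟨i, hi⟩ : ∃ i, ((RelSeries.last p : TopologicalSpace.IrreducibleCloseds X) : Set X) ⊆ Y i := by
      obtain ⟨z, hz, hsub⟩ := isIrreducible_iff_sUnion_isClosed.1 (RelSeries.last p).isIrreducible
        (Set.finite_range Y).toFinset (by
          intro z hz
          obtain ⟨i, rfl⟩ := (Set.Finite.mem_toFinset _).1 hz
          exact hY i) (by
          intro x _
          have hx : x ∈ ⋃ i, Y i := hcov ▸ Set.mem_univ x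
          obtain ⟨i, hi⟩ := Set.mem_iUnion.1 hx
          exact Set.mem_sUnion.2 ⟨Y i, by simp, hi⟩)
      obtain ⟨i, rfl⟩ := (Set.Finite.mem_toFinset _).1 hz
      exact ⟨i, hsub⟩
    exact (Groth.Agent.Lib.Helper26.length_le_topologicalKrullDim_of_last_subset (Y i) p hi).trans
      (le_iSup (fun i => topologicalKrullDim (Y i)) i)
  · exact iSup_le fun i => topologicalKrullDim_subspace_le X (Y i)

end Groth.Agent.S5797
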