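import Groth.Statements.S5798
-- import your own Groth.Agent.* helpers here

set_option autoImplicit false
universe u
open TopDim

namespace Groth.Agent.S5798

/-- If (U_i) is an open covering of a topological space X, then dim(X) = sup_i dim(U_i). -/
theorem result (X : Type u) [TopologicalSpace X] (ι : Type u)
    (U : ι → TopologicalSpace.Opens X) (hcov : ⨆ i, U i = ⊤) :
    topologicalKrullDim X = ⨆ i, topologicalKrullDim (U i) := by
  classical
  apply le_antisymm
  · unfold topologicalKrullDim
    rw [Order.krullDim]
    refine iSup_le fun p => ?_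
    obtain ⟨x, hx⟩ := (p 0).isIrreducible.nonempty
    have hxU : x ∈ ⨆ i, U i := hcov ▸ TopologicalSpace.Opens.mem_top x
    obtain ⟨i, hi⟩ := TopologicalSpace.Opens.mem_iSup.1 hxU
    have hemb : Topology.IsOpenEmbedding (Subtype.val : U i → X) := (U i).isOpenEmbedding'
    let e := TopologicalSpace.IrreducibleCloseds.orderIsoOfIsOpenEmbedding
      (Subtype.val : U i → X) hemb
    have hk : ∀ k, ((Subtype.val : U i → X) ⁻¹' ((p k : TopologicalSpace.IrreducibleCloseds X) : Set X)).Nonempty :=
      fun k => ⟨⟨x, hi⟩, (SetLike.coe_subset_coe.2 (p.monotone (Fin.zero_le k))) hx⟩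
    let q : LTSeries (TopologicalSpace.IrreducibleCloseds (U i)) :=
      { length := p.length
        toFun := fun k => e.symm ⟨p k, hk k⟩
        step := fun k => e.symm.strictMono (Subtype.mk_lt_mk.2 (p.step k)) }
    exact (Order.LTSeries.length_le_krullDim q).trans
      (le_iSup (fun i => topologicalKrullDim (U i)) i)
  · exact iSup_le fun i => topologicalKrullDim_subspace_le X (U i)

end Groth.Agent.S5798
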