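import Groth.Statements.S5799
-- import your own Groth.Agent.* helpers here
import Groth.Agent.Lib.Helper26.TopDim

set_option autoImplicit false
universe u
open TopDim

namespace Groth.Agent.S5799

/-- If (X_i) is a locally finite covering of a topological space X by closed subsets, then dim(X) =
sup_i dim(X_i). -/
theorem result (X : Type u) [TopologicalSpace X]
    (ι : Type u) (Y : ι → Set X) (hY : ∀ i, IsClosed (Y i)) (hlf : LocallyFinite Y) (hcov : ⋃ i, Y i = Set.univ) :
    topologicalKrullDim X = ⨆ i, topologicalKrullDim (Y i) := by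
  classical
  apply le_antisymm
  · unfold topologicalKrullDim
    rw [Order.krullDim]
    refine iSup_le fun p => ?_
    obtain ⟨i, hi⟩ : ∃ i, ((RelSeries.last p : TopologicalSpace.IrreducibleCloseds X) : Set X) ⊆ Y i := by
      set Z := RelSeries.last p with hZ
      obtain ⟨x, hx⟩ := Z.isIrreducible.nonempty
      obtain ⟨W, hWnhds, hWfin⟩ := hlf x
      obtain ⟨W', hW'sub, hW'open, hxW'⟩ := mem_nhds_iff.1 hWnhds
      have hcl : (Z : Set X) ⊆ closure ((Z : Set X) ∩ W') :=
        subset_closure_inter_of_isPreirreducible_of_isOpen Z.isIrreducible.isPreirreducible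
          hW'open ⟨x, hx, hxW'⟩
      have hTclosed : IsClosed (⋃ i ∈ {i | (Y i ∩ W).Nonempty}, Y i) :=
        hWfin.isClosed_biUnion (fun i _ => hY i)
      have hsubT : (Z : Set X) ∩ W' ⊆ ⋃ i ∈ {i | (Y i ∩ W).Nonempty}, Y i := by
        rintro y ⟨hyZ, hyW⟩
        have hy : y ∈ ⋃ i, Y i := hcov ▸ Set.mem_univ y
        obtain ⟨i, hi⟩ := Set.mem_iUnion.1 hy
        exact Set.mem_biUnion (show i ∈ {i | (Y i ∩ W).Nonempty} from ⟨y, hi, hW'sub hyW⟩) hi
      have hZT : (Z : Set X) ⊆ ⋃ i ∈ {i | (Y i ∩ W).Nonempty}, Y i :=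
        hcl.trans (closure_minimal hsubT hTclosed)
      obtain ⟨z, hz, hsub⟩ := isIrreducible_iff_sUnion_isClosed.1 Z.isIrreducible
        (hWfin.toFinset.image Y) (by
          intro z hz
          obtain ⟨i, _, rfl⟩ := Finset.mem_image.1 hz
          exact hY i) (by
          intro y hy
          obtain ⟨i, hiF, hyi⟩ := Set.mem_iUnion₂.1 (hZT hy)
          exact Set.mem_sUnion.2 ⟨Y i, by
            simp only [Finset.coe_image, Set.mem_image, Finset.mem_coe, Set.Finite.mem_toFinset]
            exact ⟨i, hiF, rfl⟩, hyi⟩)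
      obtain ⟨i, _, rfl⟩ := Finset.mem_image.1 hz
      exact ⟨i, hsub⟩
    exact (Groth.Agent.Lib.Helper26.length_le_topologicalKrullDim_of_last_subset (Y i) p hi).trans
      (le_iSup (fun i => topologicalKrullDim (Y i)) i)
  · exact iSup_le fun i => topologicalKrullDim_subspace_le X (Y i)

end Groth.Agent.S5799
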