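import Groth.Statements.S5800
-- import your own Groth.Agent.* helpers here
import Groth.Agent.S5797

set_option autoImplicit false
universe u
open TopDim

namespace Groth.Agent.S5800

/-- Let X be a topological space, x a point of X and (Y_i) a finite family of closed subsets each
containing x whose union is X. Then dim_x(X) = sup_i dim_x(Y_i). (The published statement lets the
Y_i be closed subsets of a neighbourhood U of x covering U; this row is the case U = X.) -/
theorem result (X : Type u) [TopologicalSpace X] (x : X)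
    (ι : Type u) [Finite ι] (Y : ι → Set X) (hY : ∀ i, IsClosed (Y i)) (hx : ∀ i, x ∈ Y i)
    (hcov : ⋃ i, Y i = Set.univ) :
    FlatMor.localDim X x = ⨆ i, FlatMor.localDim (Y i) ⟨x, hx i⟩ := by
  classical
  apply le_antisymm
  · -- choose optimal neighbourhoods in each `Y i`
    have hch : ∀ i, ∃ V : {V : TopologicalSpace.Opens (Y i) // (⟨x, hx i⟩ : Y i) ∈ V},
        topologicalKrullDim (V.1 : Set (Y i)) = FlatMor.localDim (Y i) ⟨x, hx i⟩ := by
      intro i
      haveI : Nonempty {V : TopologicalSpace.Opens (Y i) // (⟨x, hx i⟩ : Y i) ∈ V} :=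
        ⟨⟨⊤, trivial⟩⟩
      exact ciInf_mem (fun V : {V : TopologicalSpace.Opens (Y i) // (⟨x, hx i⟩ : Y i) ∈ V} =>
        topologicalKrullDim (V.1 : Set (Y i)))
    choose V hV using hch
    have hO : ∀ i, ∃ O : Set X, IsOpen O ∧ Subtype.val ⁻¹' O = ((V i).1 : Set (Y i)) :=
      fun i => isOpen_induced_iff.1 (V i).1.isOpen
    choose O hOopen hOV using hO
    have hxO : ∀ i, x ∈ O i := by
      intro i
      have : (⟨x, hx i⟩ : Y i) ∈ Subtype.val ⁻¹' O i := by rw [hOV i]; exact (V i).2
      exact this
    let U : TopologicalSpace.Opens X := ⟨⋂ i, O i, isOpen_iInter_of_finite hOopen⟩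
    have hxU : x ∈ U := Set.mem_iInter.2 hxO
    have h1 : FlatMor.localDim X x ≤ topologicalKrullDim (U : Set X) :=
      iInf_le (fun W : {W : TopologicalSpace.Opens X // x ∈ W} =>
        topologicalKrullDim (W.1 : Set X)) ⟨U, hxU⟩
    refine h1.trans ?_
    have h2 := Groth.Agent.S5797.result (U : Set X) ι (fun i => Subtype.val ⁻¹' (Y i))
      (fun i => (hY i).preimage continuous_subtype_val) (by
        ext w
        simp only [Set.mem_iUnion, Set.mem_preimage, Set.mem_univ, iff_true]
        have : w.1 ∈ ⋃ i, Y i := hcov ▸ Set.mem_univ _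
        exact Set.mem_iUnion.1 this)
    rw [h2]
    refine iSup_le fun i => le_trans ?_ (le_iSup _ i)
    rw [← hV i]
    -- inducing map
    let φ : (Subtype.val ⁻¹' (Y i) : Set (U : Set X)) → ((V i).1 : Set (Y i)) := fun w =>
      ⟨⟨w.1.1, w.2⟩, by
        have : (⟨w.1.1, w.2⟩ : Y i) ∈ Subtype.val ⁻¹' O i := Set.mem_iInter.1 w.1.2 i
        rw [hOV i] at this
        exact this⟩
    have hφ : Topology.IsInducing φ := by
      have hc : Continuous φ := by
        refine Continuous.subtype_mk (Continuous.subtype_mk ?_ _) _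
        exact continuous_subtype_val.comp continuous_subtype_val
      refine Topology.IsInducing.of_comp hc
        (continuous_subtype_val.comp continuous_subtype_val :
          Continuous (fun v : ((V i).1 : Set (Y i)) => (v.1.1 : X))) ?_
      exact (Topology.IsInducing.subtypeVal.comp Topology.IsInducing.subtypeVal :
        Topology.IsInducing (fun w : (Subtype.val ⁻¹' (Y i) : Set (U : Set X)) => (w.1.1 : X)))
    exact hφ.topologicalKrullDim_le
  · refine iSup_le fun i => ?_
    unfold FlatMor.localDim
    refine le_iInf fun W => ?_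
    let W' : {V : TopologicalSpace.Opens (Y i) // (⟨x, hx i⟩ : Y i) ∈ V} :=
      ⟨⟨Subtype.val ⁻¹' (W.1 : Set X), W.1.isOpen.preimage continuous_subtype_val⟩, W.2⟩
    refine (iInf_le (fun V : {V : TopologicalSpace.Opens (Y i) // (⟨x, hx i⟩ : Y i) ∈ V} =>
      topologicalKrullDim (V.1 : Set (Y i))) W').trans ?_
    let φ : ((W'.1 : TopologicalSpace.Opens (Y i)) : Set (Y i)) → (W.1 : Set X) := fun w =>
      ⟨w.1.1, w.2⟩
    have hφ : Topology.IsInducing φ := by
      have hc : Continuous φ :=
        Continuous.subtype_mk (continuous_subtype_val.comp continuous_subtype_val) _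
      refine Topology.IsInducing.of_comp hc continuous_subtype_val ?_
      exact (Topology.IsInducing.subtypeVal.comp Topology.IsInducing.subtypeVal :
        Topology.IsInducing (fun w : ((W'.1 : TopologicalSpace.Opens (Y i)) : Set (Y i)) => (w.1.1 : X)))
    exact hφ.topologicalKrullDim_le

end Groth.Agent.S5800
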