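import Groth.Statements.S5801
-- import your own Groth.Agent.* helpers here

set_option autoImplicit false
universe u
open scoped Pointwise
open EGA41

namespace Groth.Agent.S5801

/-- Let A be a ring, M an A-module and f ∈ A, and consider the canonical surjection (M/fM)[T] → gr(M)
for the (f)-adic filtration, whose injectivity says: for all k ≥ 0 and x ∈ M, f^k x ∈ f^(k+1) M
implies x ∈ fM. If f is M-regular this map is bijective; conversely, if it is bijective and M is
separated for the (f)-adic topology (the intersection of the f^k M is zero), then f is M-regular. -/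
theorem result (A : Type u) [CommRing A] (M : Type u)
    [AddCommGroup M] [Module A M] (f : A) :
    (IsSMulRegular M f →
        ∀ (k : ℕ) (x : M), f ^ k • x ∈ f ^ (k + 1) • (⊤ : Submodule A M) → x ∈ f • (⊤ : Submodule A M)) ∧
      ((⨅ k : ℕ, f ^ k • (⊤ : Submodule A M)) = ⊥ →
        (∀ (k : ℕ) (x : M), f ^ k • x ∈ f ^ (k + 1) • (⊤ : Submodule A M) → x ∈ f • (⊤ : Submodule A M)) →
          IsSMulRegular M f) := by
  constructor
  · intro hreg k x hx
    rw [Submodule.mem_smul_pointwise_iff_exists] at hx ⊢
    obtain ⟨y, -, hy⟩ := hx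
    refine ⟨y, Submodule.mem_top, ?_⟩
    have hk : IsSMulRegular M (f ^ k) := hreg.pow k
    apply hk
    change f ^ k • f • y = f ^ k • x
    rw [← hy, pow_succ, mul_smul]
  · intro hsep hcrit x y hxy
    change f • x = f • y at hxy
    rw [← sub_eq_zero]
    have hz : f • (x - y) = 0 := by rw [smul_sub, hxy, sub_self]
    generalize x - y = z at hz
    have hmem : ∀ k : ℕ, z ∈ f ^ k • (⊤ : Submodule A M) := by
      intro k
      induction k with
      | zero => simp
      | succ k ih =>
        rw [Submodule.mem_smul_pointwise_iff_exists] at ih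
        obtain ⟨w, -, hw⟩ := ih
        have h1 : f ^ (k + 1) • w ∈ f ^ (k + 1 + 1) • (⊤ : Submodule A M) := by
          have : f ^ (k + 1) • w = 0 := by rw [pow_succ', mul_smul, hw, hz]
          rw [this]
          exact Submodule.zero_mem _
        have h2 := hcrit (k + 1) w h1
        rw [Submodule.mem_smul_pointwise_iff_exists] at h2 ⊢
        obtain ⟨v, -, hv⟩ := h2
        refine ⟨v, Submodule.mem_top, ?_⟩
        rw [← hw, ← hv, pow_succ, mul_smul]
    have : z ∈ (⨅ k : ℕ, f ^ k • (⊤ : Submodule A M)) := (Submodule.mem_iInf _).mpr hmem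
    rw [hsep] at this
    simpa using this

end Groth.Agent.S5801
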