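import Groth.Statements.S5809
import Mathlib
import Groth.Agent.Lib.Helper21.TorShift
import Groth.Agent.S14414

set_option autoImplicit false
set_option backward.isDefEq.respectTransparency false
set_option backward.defeqAttrib.useBackward true
universe u
open CategoryTheory
open EGA41

namespace Groth.Agent.S5809

section helpers
open Groth.Agent.Lib.Helper21.TorShift IsLocalRing

variable (A : Type u) [CommRing A] [IsLocalRing A] [IsNoetherianRing A]

theorem pd_of_tor (n : ℕ) : ∀ (M : Type u) [AddCommGroup M] [Module A M] [Module.Finite A M],
    Subsingleton (TorT A (n + 1) (ResidueField A) M) →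
      HasProjectiveDimensionLT (ModuleCat.of A M) (n + 1) := by
  induction n with
  | zero =>
    intro M _ _ _ h
    obtain ⟨m, q, hq⟩ := Module.Finite.exists_fin' A M
    have hex : Function.Exact (LinearMap.ker q).subtype q := LinearMap.exact_subtype_ker_map q
    have hinj : Function.Injective (LinearMap.ker q).subtype := Subtype.val_injective
    rw [subsingleton_tor_one_iff (ResidueField A) (LinearMap.ker q).subtype q hinj hex hq] at h
    have hfree : Module.Free A M :=
      Module.free_of_lTensor_residueField_injective (LinearMap.ker q).subtype q hq hex h
    have : Projective (ModuleCat.of A M) := (IsProjective.iff_projective M).1 inferInstance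
    infer_instance
  | succ n ih =>
    intro M _ _ _ h
    obtain ⟨m, q, hq⟩ := Module.Finite.exists_fin' A M
    have hex : Function.Exact (LinearMap.ker q).subtype q := LinearMap.exact_subtype_ker_map q
    have hinj : Function.Injective (LinearMap.ker q).subtype := Subtype.val_injective
    rw [subsingleton_tor_succ_succ_iff (ResidueField A) (LinearMap.ker q).subtype q hinj hex hq] at h
    have hK := ih (LinearMap.ker q) h
    have hS := shortExact_of (LinearMap.ker q).subtype q hinj hex hq
    have hP : Projective (ModuleCat.of A (Fin m → A)) :=
      (IsProjective.iff_projective (Fin m → A)).1 inferInstance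
    exact hS.hasProjectiveDimensionLT_X₃ (n + 1) hK
      (by change HasProjectiveDimensionLT (ModuleCat.of A (Fin m → A)) (n + 1 + 1); infer_instance)

end helpers


/-- Let A be a Noetherian local ring with residue field k, M a finitely generated A-module and n ≥ 0.
For M to have projective dimension at most n it is necessary that Tor^A_i(M, k) = 0 for all i > n,
and it suffices that Tor^A_(n+1)(M, k) = 0. (Tor is written here as the left derived functors of k ⊗
- evaluated at M, i.e. computed from a projective resolution of M.) -/
theorem result (A : Type u) [CommRing A] [IsLocalRing A]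
    [IsNoetherianRing A] (M : Type u) [AddCommGroup M] [Module A M] [Module.Finite A M] (n : ℕ) :
    (HasProjectiveDimensionLT (ModuleCat.of A M) (n + 1) →
        ∀ i : ℕ, n < i → Limits.IsZero (((Tor (ModuleCat.{u} A) i).obj
          (ModuleCat.of A (IsLocalRing.ResidueField A))).obj (ModuleCat.of A M))) ∧
      (Limits.IsZero (((Tor (ModuleCat.{u} A) (n + 1)).obj
          (ModuleCat.of A (IsLocalRing.ResidueField A))).obj (ModuleCat.of A M)) →
        HasProjectiveDimensionLT (ModuleCat.of A M) (n + 1)) := by
  constructor
  · intro h i hi
    have : HasProjectiveDimensionLE (ModuleCat.of A M) n := h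
    exact Groth.Agent.S14414.result A _ (ModuleCat.of A M) n i hi
  · intro h
    apply pd_of_tor A n M
    exact (ModuleCat.isZero_iff_subsingleton).mp h

end Groth.Agent.S5809
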