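import Groth.Statements.S5806
import Mathlib

set_option autoImplicit false
universe u
open EGA41

namespace Groth.Agent.S5806

section helpers

variable {B : Type u} [CommRing B] {M : Type u} [AddCommGroup M] [Module B M]

lemma ofList_take_succ (fs : List B) (i : ℕ) (hi : i < fs.length) :
    Ideal.ofList (fs.take (i + 1)) = Ideal.ofList (fs.take i) ⊔ Ideal.span {fs[i]} := by
  rw [List.take_add_one, Ideal.ofList_append]
  congr 1
  simp [List.getElem?_eq_getElem hi]

lemma smul_top_le (fs : List B) (i : ℕ) (hi : i < fs.length) :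
    (Ideal.ofList (fs.take i) • (⊤ : Submodule B M)) ≤
      Ideal.ofList (fs.take (i + 1)) • (⊤ : Submodule B M) := by
  rw [ofList_take_succ fs i hi]
  exact Submodule.smul_mono_left le_sup_left

lemma exact_smul_factor (fs : List B) (i : ℕ) (hi : i < fs.length) :
    Function.Exact
      (LinearMap.lsmul B (M ⧸ (Ideal.ofList (fs.take i) • (⊤ : Submodule B M))) fs[i])
      (Submodule.factor (smul_top_le (M := M) fs i hi)) := by
  intro x
  obtain ⟨m, rfl⟩ := Submodule.Quotient.mk_surjective _ x
  change Submodule.factor (smul_top_le (M := M) fs i hi) (Submodule.mkQ _ m) = 0 ↔ _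
  rw [Submodule.factor_mk, Submodule.mkQ_apply, Submodule.Quotient.mk_eq_zero, ofList_take_succ fs i hi,
    Submodule.sup_smul, Submodule.ideal_span_singleton_smul]
  constructor
  · intro h
    rw [Submodule.mem_sup] at h
    obtain ⟨y, hy, z, hz, rfl⟩ := h
    rw [Submodule.mem_smul_pointwise_iff_exists] at hz
    obtain ⟨w, _, rfl⟩ := hz
    refine ⟨Submodule.Quotient.mk w, ?_⟩
    rw [LinearMap.lsmul_apply, ← Submodule.Quotient.mk_smul, eq_comm, ← sub_eq_zero,
      ← Submodule.Quotient.mk_sub, Submodule.Quotient.mk_eq_zero]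
    simpa using hy
  · rintro ⟨w, hw⟩
    obtain ⟨w, rfl⟩ := Submodule.Quotient.mk_surjective _ w
    rw [LinearMap.lsmul_apply, ← Submodule.Quotient.mk_smul, ← sub_eq_zero,
      ← Submodule.Quotient.mk_sub, Submodule.Quotient.mk_eq_zero] at hw
    have : m = (fs[i] • w) - (fs[i] • w - m) := by abel
    rw [this]
    refine sub_mem (Submodule.mem_sup_right ?_) (Submodule.mem_sup_left hw)
    exact Submodule.smul_mem_pointwise_smul _ _ _ Submodule.mem_top

end helpers


open TensorProduct in
/-- Let A be a ring, B a commutative A-algebra, (f_i)_{1 ≤ i ≤ n} elements of B and M a B-module.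
Suppose (f_i) is M-regular and each of the A-modules M/(f_1 M + ... + f_i M), 0 ≤ i ≤ n, is flat.
Then for every ring homomorphism A → A', writing M' = M ⊗_A A' and f'_i = f_i ⊗ 1, the sequence
(f'_i) is M'-regular and the A'-modules M'/(f'_1 M' + ... + f'_{i-1} M') are flat: concretely,
identifying M'/(f'_1 M' + ... + f'_{i-1} M') with A' ⊗_A (M/(f_1 M + ... + f_{i-1} M)),
multiplication by f_i on the latter is injective and the latter is A'-flat, for 1 ≤ i ≤ n. (The
published hypothesis lists only the flatness of M/(f_1 M + ... + f_{i-1} M) for 1 ≤ i ≤ n, omitting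
M/(f_1 M + ... + f_n M); with that omission the case n = 1, A = B = k[t], M = k[t], f_1 = t, A' =
k[t]/(t) fails, since t acts as zero on k ⊗_A M = k, and the published proof uses the flatness of
M/(f_1 M + ... + f_i M) for every i ≤ n; so flatness of all these quotients is assumed here.) -/
theorem result (A B : Type u) [CommRing A]
    [CommRing B] [Algebra A B] (M : Type u) [AddCommGroup M] [Module B M] [Module A M] [IsScalarTower A B M]
    (fs : List B) (hreg : RingTheory.Sequence.IsWeaklyRegular M fs)
    (hflat : ∀ i : ℕ, i ≤ fs.length → Module.Flat A (M ⧸ (Ideal.ofList (fs.take i) • (⊤ : Submodule B M))))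
    (A' : Type u) [CommRing A'] [Algebra A A'] (i : Fin fs.length) :
    Function.Injective (LinearMap.lTensor A'
        (((LinearMap.lsmul B (M ⧸ (Ideal.ofList (fs.take i) • (⊤ : Submodule B M)))) (fs.get i)).restrictScalars A)) ∧
      Module.Flat A' (A' ⊗[A] (M ⧸ (Ideal.ofList (fs.take i) • (⊤ : Submodule B M)))) := by
  have hfi := hflat i (le_of_lt i.isLt)
  have hfi1 := hflat (i + 1) i.isLt
  refine ⟨?_, inferInstance⟩
  have hex := exact_smul_factor (M := M) fs i i.isLt
  have hinj : Function.Injective
      (LinearMap.lsmul B (M ⧸ (Ideal.ofList (fs.take i) • (⊤ : Submodule B M))) fs[i]) :=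
    hreg.regular_mod_prev i i.isLt
  exact LinearMap.lTensor_injective_of_exact_of_flat
    ((Submodule.factor (smul_top_le (M := M) fs i i.isLt)).restrictScalars A)
    (Submodule.factor_surjective (smul_top_le (M := M) fs i i.isLt))
    (((LinearMap.lsmul B (M ⧸ (Ideal.ofList (fs.take i) • (⊤ : Submodule B M)))) (fs.get i)).restrictScalars A)
    hinj hex A'

end Groth.Agent.S5806
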