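import Groth.Statements.S5808
import Groth.Agent.S5768
import Mathlib.RingTheory.Ideal.Height

set_option autoImplicit false
universe u
open EGA41

namespace Groth.Agent.S5808

section helpers

open Groth.Agent.S5768

variable {A : Type u} [CommRing A]

theorem mem_support_quot_iff (I : Ideal A) (p : PrimeSpectrum A) :
    p ∈ Module.support A (A ⧸ (I • (⊤ : Submodule A A))) ↔ I ≤ p.asIdeal := by
  rw [Module.support_quotient, Set.mem_inter_iff, PrimeSpectrum.mem_zeroLocus,
    SetLike.coe_subset_coe]
  have : p ∈ Module.support A A := by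
    rw [Module.support_of_algebra]
    simp only [Algebra.algebraMap_self, PrimeSpectrum.mem_zeroLocus, SetLike.coe_subset_coe]
    intro x hx
    have : x = 0 := hx
    rw [this]; exact zero_mem _
  exact ⟨fun h => h.2, fun h => ⟨this, h⟩⟩

theorem height_add_coheight_le (p : PrimeSpectrum A) :
    ((p.asIdeal.height + Order.coheight p : ℕ∞) : WithBot ℕ∞) ≤ ringKrullDim A := by
  haveI : Nonempty (PrimeSpectrum A) := ⟨p⟩
  rw [PrimeSpectrum.height_eq_orderHeight, ringKrullDim,
    Order.krullDim_eq_iSup_height_add_coheight_of_nonempty, WithBot.coe_le_coe]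
  exact le_iSup (fun a : PrimeSpectrum A => Order.height a + Order.coheight a) p

/-- The invariant. -/
structure Good (a Q : Ideal A) (D : ℕ) (xs : List A) : Prop where
  mem : ∀ x ∈ xs, x ∈ a ∧ x ∈ Ring.jacobson A
  dim : ∃ d : ℕ, Module.supportDim A (A ⧸ (Ideal.ofList xs • (⊤ : Submodule A A))) =
    ((d : ℕ) : WithBot ℕ∞) ∧ d + xs.length = D
  ht : ∀ P : Ideal A, P.IsPrime → Ideal.ofList xs ≤ P → P ≤ Q → (xs.length : ℕ∞) ≤ P.height

theorem exists_avoid' [IsNoetherianRing A] [Finite (MaximalSpectrum A)] (a I : Ideal A) :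
    ∃ x, x ∈ a ∧ x ∈ Ring.jacobson A ∧ ∀ P ∈ I.minimalPrimes, ¬ a ≤ P → ¬ P.IsMaximal → x ∉ P := by
  classical
  have hfin : I.minimalPrimes.Finite := Ideal.finite_minimalPrimes_of_isNoetherianRing A _
  let S : Finset (Ideal A) := hfin.toFinset.filter (fun P => ¬ a ≤ P ∧ ¬ P.IsMaximal)
  by_contra hcon
  push_neg at hcon
  have hsub : ((a ⊓ Ring.jacobson A : Ideal A) : Set A) ⊆
      ⋃ i ∈ (↑S : Set (Ideal A)), (id i : Ideal A) := by
    intro y hy
    obtain ⟨P, hP, haP, hPm, hyP⟩ := hcon y hy.1 hy.2
    refine Set.mem_iUnion₂.mpr ⟨P, ?_, hyP⟩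
    simp only [S, Finset.coe_filter, Set.Finite.mem_toFinset, Set.mem_setOf_eq]
    exact ⟨hP, haP, hPm⟩
  have hprime : ∀ i ∈ S, i ≠ ⊥ → i ≠ ⊥ → (id i : Ideal A).IsPrime := by
    intro i hi _ _
    simp only [S, Finset.mem_filter, Set.Finite.mem_toFinset] at hi
    exact hi.1.1.1
  obtain ⟨P, hPS, hjP⟩ := (Ideal.subset_union_prime (s := S) (f := id) ⊥ ⊥ hprime).mp hsub
  simp only [S, Finset.mem_filter, Set.Finite.mem_toFinset] at hPS
  have hPprime : P.IsPrime := hPS.1.1.1
  have hmul : a * Ring.jacobson A ≤ P := Ideal.mul_le_inf.trans hjP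
  rcases hPprime.mul_le.mp hmul with h1 | h1
  · exact hPS.2.1 h1
  · obtain ⟨m, hm⟩ := exists_isMaximal_le_of_jacobson_le hPprime h1
    have : m.asIdeal = P := m.isMaximal.eq_of_le hPprime.ne_top hm
    exact hPS.2.2 (this ▸ m.isMaximal)

theorem good_step [IsNoetherianRing A] [Finite (MaximalSpectrum A)] (a Q : Ideal A)
    [hQ : Q.IsPrime] (h D : ℕ) (hah : a.height = h) (hQh : Q.height = h)
    (hD : ringKrullDim A = ((D : ℕ) : WithBot ℕ∞))
    (xs : List A) (hg : Good a Q D xs) (hlt : xs.length < h) :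
    ∃ x, Good a Q D (x :: xs) := by
  obtain ⟨x, hxa, hxr, hx⟩ := exists_avoid' a (Ideal.ofList xs)
  obtain ⟨d, hd, hdD⟩ := hg.dim
  refine ⟨x, ⟨?_, ?_, ?_⟩⟩
  · intro z hz
    rcases List.mem_cons.mp hz with rfl | hz
    · exact ⟨hxa, hxr⟩
    · exact hg.mem z hz
  · have key : Module.supportDim A (QuotSMulTop x
        (A ⧸ (Ideal.ofList xs • (⊤ : Submodule A A)))) + 1 =
        Module.supportDim A (A ⧸ (Ideal.ofList xs • (⊤ : Submodule A A))) := by
      rw [Groth.Agent.S5767.result A _ x hxr]
      intro p hp hdim hxp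
      have hIp : Ideal.ofList xs ≤ p.asIdeal := (mem_support_quot_iff _ p).mp hp
      rw [ringKrullDim_quotient_eq_coheight, hd] at hdim
      have hco : Order.coheight p = (d : ℕ∞) := by exact_mod_cast hdim
      obtain ⟨q, hq, hqp⟩ := Ideal.exists_minimalPrimes_le hIp
      have hqprime : q.IsPrime := hq.1.1
      let q' : PrimeSpectrum A := ⟨q, hqprime⟩
      have hq'supp : q' ∈ Module.support A (A ⧸ (Ideal.ofList xs • (⊤ : Submodule A A))) :=
        (mem_support_quot_iff _ q').mpr hq.1.2
      rcases eq_or_lt_of_le (show q' ≤ p from hqp) with heq | hlt'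
      · have hpmin : p.asIdeal ∈ (Ideal.ofList xs).minimalPrimes := by rw [← heq]; exact hq
        refine hx _ hpmin ?_ ?_ hxp
        · intro hap
          have h1 : (h : ℕ∞) ≤ p.asIdeal.height := hah ▸ Ideal.height_mono hap
          have h2 := height_add_coheight_le p
          rw [hco, hD] at h2
          have h3 : p.asIdeal.height + d ≤ (D : ℕ∞) := by exact_mod_cast h2
          have h4 : (h : ℕ∞) + d ≤ D := le_trans (by gcongr) h3
          have : h + d ≤ D := by exact_mod_cast h4
          omega
        · intro hmax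
          have h0 : ringKrullDim (A ⧸ p.asIdeal) = 0 := by
            letI := Ideal.Quotient.field p.asIdeal
            exact ringKrullDim_eq_zero_of_field _
          rw [ringKrullDim_quotient_eq_coheight, hco] at h0
          have hd0 : d = 0 := by exact_mod_cast h0
          have h2 := height_add_coheight_le p
          rw [hco, hD, hd0] at h2
          have hQD : (h : ℕ∞) ≤ D := by
            have h5 : a.height ≤ ringKrullDim A :=
              Ideal.height_le_ringKrullDim_of_ne_top (fun ht => by
                have := hQ.ne_top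
                rw [ht] at hah
                rw [Ideal.height_top] at hah
                exact ENat.top_ne_coe _ hah)
            rw [hah, hD] at h5
            exact_mod_cast h5
          have : h ≤ D := by exact_mod_cast hQD
          omega
      · have h1 := Order.coheight_add_one_le hlt'
        have h2 := ringKrullDim_quotient_le_supportDim _ q' hq'supp
        rw [ringKrullDim_quotient_eq_coheight, hd] at h2
        have h4 : Order.coheight q' ≤ (d : ℕ∞) := by exact_mod_cast h2
        rw [hco] at h1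
        have h5 : ((d + 1 : ℕ) : ℕ∞) ≤ (d : ℕ∞) := by
          refine le_trans ?_ (h1.trans h4)
          push_cast; exact le_rfl
        have : d + 1 ≤ d := by exact_mod_cast h5
        omega
    rw [hd] at key
    have hne : Module.supportDim A (QuotSMulTop x
        (A ⧸ (Ideal.ofList xs • (⊤ : Submodule A A)))) ≠ ⊥ := by
      intro h'
      rw [h', WithBot.bot_add] at key
      exact WithBot.bot_ne_coe key
    obtain ⟨b, hb⟩ := WithBot.ne_bot_iff_exists.mp hne
    rw [← hb] at key
    have key' : b + 1 = (d : ℕ∞) := by exact_mod_cast key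
    have hbtop : b ≠ ⊤ := by
      intro hbt
      rw [hbt] at key'
      simp at key'
    obtain ⟨b', rfl⟩ := ENat.ne_top_iff_exists.mp hbtop
    have hb' : b' + 1 = d := by exact_mod_cast key'
    refine ⟨b', ?_, by simp only [List.length_cons]; omega⟩
    rw [Module.supportDim_eq_of_equiv
      (Submodule.quotOfListConsSMulTopEquivQuotSMulTopOuter A x xs), ← hb]
    rfl
  · intro P hP hIP hPQ
    rw [Ideal.ofList_cons] at hIP
    have hxP : x ∈ P := hIP (Ideal.mem_sup_left (Ideal.mem_span_singleton_self x))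
    have hIP' : Ideal.ofList xs ≤ P := le_sup_right.trans hIP
    obtain ⟨P', hP'min, hP'P⟩ := Ideal.exists_minimalPrimes_le hIP'
    have hP'prime : P'.IsPrime := hP'min.1.1
    have h1 : (xs.length : ℕ∞) ≤ P'.height := hg.ht P' hP'prime hP'min.1.2 (hP'P.trans hPQ)
    have hlt2 : ((xs.length : ℕ∞) + 1) ≤ (h : ℕ∞) := by exact_mod_cast hlt
    simp only [List.length_cons, Nat.cast_add, Nat.cast_one]
    by_cases hxP' : x ∈ P'
    · by_cases haP' : a ≤ P'
      · have h2 : (h : ℕ∞) ≤ P'.height := hah ▸ Ideal.height_mono haP'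
        exact hlt2.trans (h2.trans (Ideal.height_mono hP'P))
      · have hmax : P'.IsMaximal := by
          by_contra hnm
          exact hx P' hP'min haP' hnm hxP'
        have hPP' : P' = P := hmax.eq_of_le hP.ne_top hP'P
        have hPQ' : P = Q := (hPP' ▸ hmax).eq_of_le hQ.ne_top hPQ
        rw [hPQ', hQh]; exact hlt2
    · have hlt' : P' < P := lt_of_le_of_ne hP'P (fun h => hxP' (h ▸ hxP))
      calc (xs.length : ℕ∞) + 1 ≤ P'.height + 1 := by gcongr
        _ ≤ P.height := Ideal.height_add_one_le_of_lt_of_isPrime hlt'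

theorem good_nil (a Q : Ideal A) (D : ℕ)
    (hD : ringKrullDim A = ((D : ℕ) : WithBot ℕ∞)) : Good a Q D [] := by
  refine ⟨by simp, ⟨D, ?_, by simp⟩, ?_⟩
  · rw [Ideal.ofList_nil, Submodule.bot_smul,
      Module.supportDim_eq_of_equiv (Submodule.quotEquivOfEqBot (⊥ : Submodule A A) rfl),
      Module.supportDim_self_eq_ringKrullDim, hD]
  · intro P _ _ _
    simp

theorem exists_good [IsNoetherianRing A] [Finite (MaximalSpectrum A)] (a Q : Ideal A)
    [hQ : Q.IsPrime] (h D : ℕ) (hah : a.height = h) (hQh : Q.height = h)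
    (hD : ringKrullDim A = ((D : ℕ) : WithBot ℕ∞)) :
    ∀ i : ℕ, i ≤ h → ∃ xs : List A, xs.length = i ∧ Good a Q D xs := by
  intro i
  induction i with
  | zero => intro _; exact ⟨[], rfl, good_nil a Q D hD⟩
  | succ i ih =>
    intro hi
    obtain ⟨xs, hlen, hg⟩ := ih (by omega)
    obtain ⟨x, hx⟩ := good_step a Q h D hah hQh hD xs hg (by omega)
    exact ⟨x :: xs, by simp [hlen], hx⟩

end helpers

/-- Let A be a semi-local Noetherian ring with spectrum X and Jacobson radical r, and a an ideal of A
distinct from A with codim(V(a), X) = h > 0 (h is the height of a). Then there exist h elements x_1,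
..., x_h of a which are part of a system of parameters of A (so lie in r and can be completed by
elements of r to dim(A) elements generating an ideal modulo which A has finite length) and such that
codim(V(a), V(x_1 A + ... + x_h A)) = 0, i.e. the image of a in A/(x_1 A + ... + x_h A) has height
0. -/
theorem result (A : Type u) [CommRing A] [IsNoetherianRing A]
    [Finite (MaximalSpectrum A)] (a : Ideal A) (ha : a ≠ ⊤) (h : ℕ) (hh : a.height = h) (hpos : 0 < h) :
    ∃ x : Fin h → A, (∀ i, x i ∈ a) ∧ (∀ i, x i ∈ Ring.jacobson A) ∧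
      (∃ ys : List A, (∀ y ∈ ys, y ∈ Ring.jacobson A) ∧
        (((h + ys.length : ℕ) : ℕ∞) : WithBot ℕ∞) = ringKrullDim A ∧
        IsFiniteLength A (A ⧸ (Ideal.span (Set.range x) ⊔ Ideal.ofList ys))) ∧
      (a.map (Ideal.Quotient.mk (Ideal.span (Set.range x)))).height = 0 := by
  haveI : Nontrivial A := by
    by_contra hnt
    rw [not_nontrivial_iff_subsingleton] at hnt
    exact ha (Subsingleton.elim _ _)
  obtain ⟨Q, hQ, haQ, hQh⟩ := Ideal.exists_isPrime_height_eq hh
  have hlt := Groth.Agent.S5767.ringKrullDim_lt_top_of_semilocal A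
  have hne : ringKrullDim A ≠ ⊥ := by
    rw [← Module.supportDim_self_eq_ringKrullDim]
    exact Module.supportDim_ne_bot_of_nontrivial A A
  obtain ⟨D, hD⟩ : ∃ D : ℕ, ringKrullDim A = ((D : ℕ) : WithBot ℕ∞) := by
    obtain ⟨b, hb⟩ := WithBot.ne_bot_iff_exists.mp hne
    have hbtop : b ≠ ⊤ := by
      intro hbt
      rw [← hb, hbt] at hlt
      exact lt_irrefl _ hlt
    obtain ⟨b', rfl⟩ := ENat.ne_top_iff_exists.mp hbtop
    exact ⟨b', hb.symm⟩
  obtain ⟨xs, hlen, hg⟩ := exists_good a Q h D hh hQh hD h le_rfl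
  let x : Fin h → A := fun j => xs.get (j.cast hlen.symm)
  have hrange : Set.range x = {y | y ∈ xs} := by
    ext y
    constructor
    · rintro ⟨j, rfl⟩
      exact List.get_mem _ _
    · intro hy
      obtain ⟨n, hn⟩ := List.get_of_mem hy
      exact ⟨n.cast hlen, by simpa [x] using hn⟩
  have hspan : Ideal.span (Set.range x) = Ideal.ofList xs := by rw [hrange]
  refine ⟨x, fun i => (hg.mem _ (List.get_mem _ _)).1,
    fun i => (hg.mem _ (List.get_mem _ _)).2, ?_, ?_⟩
  · obtain ⟨d, hd, hdD⟩ := hg.dim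
    have h1 : Module.supportDim A (A ⧸ (Ideal.ofList xs • (⊤ : Submodule A A))) + xs.length =
        Module.supportDim A A := by
      rw [hd, Module.supportDim_self_eq_ringKrullDim, hD, ← hdD]
      push_cast
      rfl
    obtain ⟨ys, hys, hlen2, hfl⟩ :=
      (Groth.Agent.S5768.result A A xs (fun y hy => (hg.mem y hy).2)).mp h1
    refine ⟨ys, hys, ?_, ?_⟩
    · rw [← Module.supportDim_self_eq_ringKrullDim, ← hlen2, List.length_append, hlen]
      rfl
    · have heq : (Ideal.ofList (xs ++ ys) • (⊤ : Submodule A A)) =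
          (Ideal.span (Set.range x) ⊔ Ideal.ofList ys : Ideal A) := by
        rw [Ideal.ofList_append, hspan]
        exact Ideal.mul_top _
      exact hfl.of_surjective (f := (Submodule.quotEquivOfEq _ _ heq).toLinearMap)
        (Submodule.quotEquivOfEq _ _ heq).surjective
  · have hJQ : Ideal.span (Set.range x) ≤ Q := by
      rw [Ideal.span_le]
      rintro _ ⟨j, rfl⟩
      exact haQ (hg.mem _ (List.get_mem _ _)).1
    have hQmin : Q ∈ (Ideal.span (Set.range x)).minimalPrimes := by
      refine ⟨⟨hQ, hJQ⟩, fun P hP hPQ => ?_⟩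
      haveI : P.IsPrime := hP.1
      have h2 : (xs.length : ℕ∞) ≤ P.height := hg.ht P hP.1 (hspan ▸ hP.2) hPQ
      rw [hlen] at h2
      have : P = Q := Ideal.eq_of_le_of_height_le (h := hPQ) (h_height := by rw [hQh]; exact h2)
      rw [this]
    have hmap : Q.map (Ideal.Quotient.mk (Ideal.span (Set.range x))) ∈
        minimalPrimes (A ⧸ Ideal.span (Set.range x)) := by
      have h3 := Ideal.minimalPrimes_map_of_surjective
        (f := Ideal.Quotient.mk (Ideal.span (Set.range x))) Ideal.Quotient.mk_surjective ⊥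
      rw [Ideal.map_bot, Ideal.mk_ker, bot_sup_eq] at h3
      change _ ∈ (⊥ : Ideal (A ⧸ Ideal.span (Set.range x))).minimalPrimes
      rw [h3]
      exact ⟨Q, hQmin, rfl⟩
    haveI : (Q.map (Ideal.Quotient.mk (Ideal.span (Set.range x)))).IsPrime := hmap.1.1
    have h4 : (Q.map (Ideal.Quotient.mk (Ideal.span (Set.range x)))).height = 0 :=
      Ideal.height_eq_zero_iff.mpr hmap
    exact le_antisymm (h4 ▸ Ideal.height_mono (Ideal.map_mono haQ)) zero_le

end Groth.Agent.S5808
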