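import Groth.Statements.S5813
import Groth.Agent.Lib.Helper5.ExalQuot

set_option autoImplicit false
universe u
open EGA41

namespace Groth.Agent.S5813

/-- Injectivity, commutative form. Let J be an ideal of the commutative ring B, C = B ⧸ J, M a C-module.
Two B-extensions of C by M whose induced linear maps J/J² → M (obtained from the restriction to J of
the structure map B → E) coincide are equivalent. -/
theorem result {B : Type u} [CommRing B] (J : Ideal B)
    {M : Type u} [AddCommGroup M] [Module (B ⧸ J) M] [Module B M] [IsScalarTower B (B ⧸ J) M]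
    (X Y : Exal.Ext B (B ⧸ J) M) (h : X.conormalMap J = Y.conormalMap J) :
    Nonempty (X.Equiv Y) :=
  ⟨Groth.Agent.Lib.Helper5.ExalQuot.equivOfEq X Y
    (Groth.Agent.Lib.Helper5.ExalQuot.idealToKer_eq_of_conormalMap_eq X Y h)⟩

end Groth.Agent.S5813
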