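import Groth.Statements.S5815
-- import your own Groth.Agent.* helpers here

set_option autoImplicit false
universe u
open EGA41

namespace Groth.Agent.S5815

/-- Discrete case. A commutative A-algebra B is formally smooth if and only if every A-extension of B by
a B-module L is trivial (has an A-algebra section). A and B are taken in one universe and L ranges
over that universe. (The published statement is for topological rings, with direct-limit classes of
extensions; this row is its discrete case.) -/
theorem result (A B : Type u) [CommRing A] [CommRing B] [Algebra A B] :
    Algebra.FormallySmooth A B ↔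
      ∀ (L : Type u) [AddCommGroup L] [Module B L] (X : Exal.Ext A B L), X.IsTrivial := by
  classical
  constructor
  · intro hfs L _ _ X
    have hnil : IsNilpotent (RingHom.ker (X.proj : X.E →+* B)) := by
      refine ⟨2, ?_⟩
      rw [Ideal.zero_eq_bot, eq_bot_iff, pow_two, Ideal.mul_le]
      intro x hx y hy
      rw [RingHom.mem_ker] at hx hy
      have hx' : X.proj x = 0 := hx
      obtain ⟨z', rfl⟩ := (X.isExtension.exact y).mp hy
      rw [X.isExtension.mul_incl, hx', zero_smul, map_zero]
      exact Ideal.zero_mem _
    let s := Algebra.FormallySmooth.liftOfSurjective (AlgHom.id A B) X.proj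
      X.isExtension.proj_surjective hnil
    exact ⟨s, fun b => Algebra.FormallySmooth.liftOfSurjective_apply _ _ _ _ b⟩
  · intro h
    let f : MvPolynomial B A →ₐ[A] B := MvPolynomial.aeval id
    have hf : Function.Surjective f := fun b => ⟨MvPolynomial.X b, by simp [f]⟩
    rw [Algebra.FormallySmooth.iff_split_surjection f hf]
    let e : (MvPolynomial B A ⧸ RingHom.ker f.toRingHom) ≃ₐ[A] B :=
      Ideal.quotientKerAlgEquivOfSurjective hf
    have he : ∀ p, e (Ideal.Quotient.mk _ p) = f p := fun p => rfl
    letI : Module B (RingHom.ker f.toRingHom).Cotangent :=
      Module.compHom (RingHom.ker f.toRingHom).Cotangent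
        (e.symm.toAlgHom.toRingHom)
    have hsmul : ∀ (p : MvPolynomial B A) (z : (RingHom.ker f.toRingHom).Cotangent),
        (f p) • z = p • z := by
      intro p z
      show (e.symm (f p)) • z = p • z
      rw [← he, AlgEquiv.symm_apply_apply, ← Ideal.Quotient.algebraMap_eq, algebraMap_smul]
    let X : Exal.Ext A B (RingHom.ker f.toRingHom).Cotangent :=
      { E := MvPolynomial B A ⧸ RingHom.ker f.toRingHom ^ 2
        proj := f.kerSquareLift
        incl := (RingHom.ker f.toRingHom).cotangentToQuotientSquare.toAddMonoidHom
        isExtension :=
          { proj_surjective := by
              intro b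
              obtain ⟨p, rfl⟩ := hf b
              exact ⟨Ideal.Quotient.mk _ p, rfl⟩
            incl_injective := (RingHom.ker f.toRingHom).cotangentToQuotientSquare_injective
            exact := by
              intro x
              have h1 : f.kerSquareLift x = 0 ↔ x ∈ RingHom.ker f.kerSquareLift.toRingHom :=
                Iff.rfl
              rw [h1, AlgHom.ker_kerSquareLift]
              have h2 : x ∈ Set.range ((RingHom.ker f.toRingHom).cotangentToQuotientSquare.toAddMonoidHom) ↔
                  x ∈ LinearMap.range (RingHom.ker f.toRingHom).cotangentToQuotientSquare :=
                Iff.rfl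
              rw [h2, Ideal.range_cotangentToQuotientSquare]
              rfl
            mul_incl := by
              intro x z
              obtain ⟨p, rfl⟩ := Ideal.Quotient.mk_surjective x
              obtain ⟨y, rfl⟩ := Ideal.toCotangent_surjective _ z
              show Ideal.Quotient.mk _ p *
                (RingHom.ker f.toRingHom).cotangentToQuotientSquare
                  ((RingHom.ker f.toRingHom).toCotangent y) =
                (RingHom.ker f.toRingHom).cotangentToQuotientSquare
                  ((f p) • (RingHom.ker f.toRingHom).toCotangent y)
              rw [hsmul, ← map_smul, Ideal.toCotangent_to_quotient_square,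
                Ideal.toCotangent_to_quotient_square]
              rfl } }
    obtain ⟨s, hs⟩ := h _ X
    exact ⟨s, AlgHom.ext hs⟩

end Groth.Agent.S5815
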