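import Groth.Statements.S5816
import Mathlib.Algebra.Module.Torsion.Basic
import Mathlib.RingTheory.Ideal.Quotient.Operations

set_option autoImplicit false
universe u
open EGA41

namespace Groth.Agent.S5816

theorem fwd (Λ A B : Type u) [CommRing Λ]
    [CommRing A] [CommRing B] [Algebra Λ A] [Algebra Λ B] [Algebra A B] [IsScalarTower Λ A B]
    (h : EGA41.IsFormallySmoothRel Λ A B)
    (L : Type u) [AddCommGroup L] [Module B L] (X : Exal.Ext A B L) (hX : X.IsTrivialOver Λ) :
    X.IsTrivial := by
  obtain ⟨s, hs⟩ := hX
  letI algA : Algebra A (X.RestrictCarrier Λ) := inferInstanceAs (Algebra A X.E)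
  have instST : IsScalarTower Λ A (X.RestrictCarrier Λ) := IsScalarTower.of_algebraMap_eq (fun _ => rfl)
  let projA : X.RestrictCarrier Λ →ₐ[A] B := X.proj
  have hsurj : Function.Surjective projA := X.isExtension.proj_surjective
  have hmul0 : ∀ x y : X.E, X.proj x = 0 → X.proj y = 0 → x * y = 0 := by
    intro x y hx hy
    obtain ⟨z', rfl⟩ := (X.isExtension.exact y).mp hy
    rw [X.isExtension.mul_incl, hx, zero_smul, map_zero]
  have hJ : (RingHom.ker projA.toRingHom) ^ 2 = ⊥ := by
    rw [eq_bot_iff, pow_two, Ideal.mul_le]
    intro x hx y hy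
    have : x * y = 0 := hmul0 x y hx hy
    rw [this]
    exact Ideal.zero_mem _
  let e : (X.RestrictCarrier Λ ⧸ RingHom.ker projA.toRingHom) ≃ₐ[A] B :=
    Ideal.quotientKerAlgEquivOfSurjective hsurj
  have he : ∀ x, e (Ideal.Quotient.mk _ x) = projA x := fun x => rfl
  obtain ⟨v, hv⟩ := @h (X.RestrictCarrier Λ) _ algA _ instST (RingHom.ker projA.toRingHom) hJ e.symm.toAlgHom
    ⟨s, by
      apply AlgHom.ext
      intro b
      apply e.injective
      show e (Ideal.Quotient.mk _ (s b)) = e (e.symm b)
      rw [e.apply_symm_apply, he]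
      exact hs b⟩
  refine ⟨v, fun b => ?_⟩
  have h1 : Ideal.Quotient.mk _ (v b) = e.symm b := AlgHom.congr_fun hv b
  have h2 : projA (v b) = b := by
    rw [← he, h1, e.apply_symm_apply]
  exact h2

theorem bwd (Λ A B : Type u) [CommRing Λ]
    [CommRing A] [CommRing B] [Algebra Λ A] [Algebra Λ B] [Algebra A B] [IsScalarTower Λ A B]
    (h : ∀ (L : Type u) [AddCommGroup L] [Module B L] (X : Exal.Ext A B L),
        X.IsTrivialOver Λ → X.IsTrivial) :
    EGA41.IsFormallySmoothRel Λ A B := by
  intro C _ _ _ _ J hJ u₀ hu
  obtain ⟨u, hu⟩ := hu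
  let E : Subalgebra A (C × B) :=
    AlgHom.equalizer ((Ideal.Quotient.mkₐ A J).comp (AlgHom.fst A C B))
      (u₀.comp (AlgHom.snd A C B))
  have hE : ∀ x : C × B, x ∈ E ↔ Ideal.Quotient.mk J x.1 = u₀ x.2 := fun x =>
    AlgHom.mem_equalizer _ _ x
  let pr : E →ₐ[A] B := (AlgHom.snd A C B).comp E.val
  have hpr : ∀ x : E, pr x = x.1.2 := fun x => rfl
  have hpr_surj : Function.Surjective pr := by
    intro b
    obtain ⟨c, hc⟩ := Ideal.Quotient.mk_surjective (u₀ b)
    exact ⟨⟨(c, b), (hE _).mpr hc⟩, rfl⟩
  have hKmem : ∀ x : E, x ∈ RingHom.ker pr.toRingHom → x.1.1 ∈ J ∧ x.1.2 = 0 := by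
    intro x hx
    have h2 : x.1.2 = 0 := hx
    refine ⟨?_, h2⟩
    have := (hE _).mp x.2
    rw [h2, map_zero] at this
    exact Ideal.Quotient.eq_zero_iff_mem.mp this
  have htors : Module.IsTorsionBySet E (RingHom.ker pr.toRingHom)
      ((RingHom.ker pr.toRingHom : Ideal E) : Set E) := by
    intro x a
    obtain ⟨hx1, hx2⟩ := hKmem x.1 x.2
    obtain ⟨ha1, ha2⟩ := hKmem a.1 a.2
    apply Subtype.ext
    apply Subtype.ext
    apply Prod.ext
    · show (a.1.1.1 * x.1.1.1 : C) = 0
      have : a.1.1.1 * x.1.1.1 ∈ J ^ 2 := by
        rw [pow_two]; exact Ideal.mul_mem_mul ha1 hx1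
      rw [hJ] at this
      exact this
    · show (a.1.1.2 * x.1.1.2 : B) = 0
      rw [hx2, mul_zero]
  letI modQ := Module.IsTorsionBySet.module (R := ↥E) (M := ↥(RingHom.ker pr.toRingHom))
    (I := RingHom.ker pr.toRingHom) htors
  let e : (E ⧸ RingHom.ker pr.toRingHom) ≃ₐ[A] B :=
    Ideal.quotientKerAlgEquivOfSurjective hpr_surj
  have he : ∀ x, e (Ideal.Quotient.mk _ x) = pr x := fun x => rfl
  letI modB : Module B (RingHom.ker pr.toRingHom) :=
    Module.compHom (RingHom.ker pr.toRingHom) e.symm.toAlgHom.toRingHom
  have hsmul : ∀ (x : E) (z : RingHom.ker pr.toRingHom), (pr x) • z = x • z := by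
    intro x z
    show (e.symm (pr x)) • z = x • z
    rw [← he, AlgEquiv.symm_apply_apply]
    rfl
  let X : Exal.Ext A B (RingHom.ker pr.toRingHom) :=
    { E := E
      proj := pr
      incl := (RingHom.ker pr.toRingHom).subtype.toAddMonoidHom
      isExtension :=
        { proj_surjective := hpr_surj
          incl_injective := Subtype.val_injective
          exact := by
            intro x
            constructor
            · intro hx
              exact ⟨⟨x, hx⟩, rfl⟩
            · rintro ⟨z, rfl⟩
              exact z.2
          mul_incl := by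
            intro x z
            show x * (z : E) = ((pr x • z : RingHom.ker pr.toRingHom) : E)
            rw [hsmul]
            rfl } }
  have hXΛ : X.IsTrivialOver Λ := by
    refine ⟨{ toFun := fun b => ⟨(u b, b), (hE _).mpr (AlgHom.congr_fun hu b)⟩
              map_one' := by
                apply Subtype.ext
                apply Prod.ext
                · exact map_one u
                · rfl
              map_mul' := by
                intro b b'
                apply Subtype.ext
                apply Prod.ext
                · exact map_mul u b b'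
                · rfl
              map_zero' := by
                apply Subtype.ext
                apply Prod.ext
                · exact map_zero u
                · rfl
              map_add' := by
                intro b b'
                apply Subtype.ext
                apply Prod.ext
                · exact map_add u b b'
                · rfl
              commutes' := ?_ }, fun b => rfl⟩
    intro l
    apply Subtype.ext
    apply Prod.ext
    · show u (algebraMap Λ B l) = algebraMap A C (algebraMap Λ A l)
      rw [u.commutes, IsScalarTower.algebraMap_apply Λ A C]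
    · show algebraMap Λ B l = algebraMap A B (algebraMap Λ A l)
      rw [IsScalarTower.algebraMap_apply Λ A B]
  obtain ⟨s, hs⟩ := h _ X hXΛ
  refine ⟨(AlgHom.fst A C B).comp (E.val.comp s), ?_⟩
  apply AlgHom.ext
  intro b
  have h1 := (hE _).mp (s b).2
  have h2 : (s b).1.2 = b := hs b
  rw [h2] at h1
  exact h1

/-- Discrete case. For ring maps Λ → A → B, B is formally smooth over A relative to Λ (square-zero test
ideals) if and only if every A-extension of B by a B-module L which is Λ-trivial is A-trivial. Λ, A,
B are taken in one universe and L ranges over it. (The published statement is for topological rings;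
this row is its discrete case.) -/
theorem result (Λ A B : Type u) [CommRing Λ]
    [CommRing A] [CommRing B] [Algebra Λ A] [Algebra Λ B] [Algebra A B] [IsScalarTower Λ A B] :
    EGA41.IsFormallySmoothRel Λ A B ↔
      ∀ (L : Type u) [AddCommGroup L] [Module B L] (X : Exal.Ext A B L),
        X.IsTrivialOver Λ → X.IsTrivial := by
  exact ⟨fun h L _ _ X hX => fwd Λ A B h L X hX, bwd Λ A B⟩

end Groth.Agent.S5816
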