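import Groth.Statements.S5817
-- import your own Groth.Agent.* helpers here

set_option autoImplicit false
universe u v
open EGA41

namespace Groth.Agent.S5817

attribute [local instance] Exal.opModule Exal.isCentralScalar_opModule

/-- Commutative rings, exactness at Der_A(B, L). For ring maps A → B → C and a C-module L, the
B-extension of C by L attached to an A-derivation D : B → L (middle ring C ⊕ L, made a B-algebra
through x ↦ (x, D x)) is trivial if and only if D is the composite of B → C with an A-derivation C →
L. -/
theorem result {A : Type u} {B C L : Type v} [CommRing A] [CommRing B] [CommRing C]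
    [Algebra A B] [Algebra B C] [Algebra A C] [IsScalarTower A B C]
    [AddCommGroup L] [Module C L] [Module B L] [IsScalarTower B C L] [Module A L] [IsScalarTower A B L]
    [IsScalarTower A C L]
    (D : Derivation A B L) :
    (Exal.Ext.ofDerivation (C := C) D).IsTrivial ↔
      ∃ D' : Derivation A C L, D'.compAlgebraMap B = D := by
  classical
  have halg : ∀ b : B, (algebraMap B (Exal.Ext.ofDerivation (C := C) D).E b : TrivSqZeroExt C L) =
      TrivSqZeroExt.inl (algebraMap B C b) + TrivSqZeroExt.inr (D b) := fun b => rfl
  constructor
  · rintro ⟨s, hs⟩
    let t : C → TrivSqZeroExt C L := fun c => s c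
    have hfst : ∀ c : C, TrivSqZeroExt.fst (t c) = c := hs
    have ht_mul : ∀ c c' : C, t (c * c') = t c * t c' := fun c c' => map_mul s c c'
    have ht_add : ∀ c c' : C, t (c + c') = t c + t c' := fun c c' => map_add s c c'
    have ht_alg : ∀ b : B, t (algebraMap B C b) =
        TrivSqZeroExt.inl (algebraMap B C b) + TrivSqZeroExt.inr (D b) := fun b => s.commutes b
    have hmul : ∀ c c' : C, TrivSqZeroExt.snd (t (c * c')) =
        c • TrivSqZeroExt.snd (t c') + c' • TrivSqZeroExt.snd (t c) := by
      intro c c'
      rw [ht_mul, TrivSqZeroExt.snd_mul, hfst, hfst, op_smul_eq_smul]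
    have hB : ∀ (b : B) (c : C), TrivSqZeroExt.snd (t (algebraMap B C b * c)) =
        algebraMap B C b • TrivSqZeroExt.snd (t c) + c • D b := by
      intro b c
      rw [hmul, ht_alg]
      simp
    let D' : Derivation A C L := Derivation.mk'
      { toFun := fun c => TrivSqZeroExt.snd (t c)
        map_add' := by
          intro c c'
          rw [ht_add, TrivSqZeroExt.snd_add]
        map_smul' := by
          intro a c
          rw [RingHom.id_apply]
          have h1 : a • c = algebraMap B C (algebraMap A B a) * c := by
            rw [← IsScalarTower.algebraMap_apply, Algebra.smul_def]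
          rw [h1, hB, D.map_algebraMap, smul_zero, add_zero, ← IsScalarTower.algebraMap_apply,
            algebraMap_smul] }
      (by
        intro c c'
        exact hmul c c')
    refine ⟨D', ?_⟩
    apply Derivation.ext
    intro b
    show TrivSqZeroExt.snd (t (algebraMap B C b)) = D b
    rw [ht_alg]
    simp
  · rintro ⟨D', rfl⟩
    refine ⟨{ toRingHom := Exal.Ext.derivationHom (C := C) D'
              commutes' := ?_ }, ?_⟩
    · intro b
      show (TrivSqZeroExt.inl (algebraMap C C (algebraMap B C b)) +
        TrivSqZeroExt.inr (D' (algebraMap B C b)) : TrivSqZeroExt C L) = _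
      rw [halg]
      rfl
    · intro c
      show TrivSqZeroExt.fst (TrivSqZeroExt.inl (algebraMap C C c) +
        TrivSqZeroExt.inr (D' c) : TrivSqZeroExt C L) = c
      simp

end Groth.Agent.S5817
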