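import Groth.Statements.S5818
import Groth.Agent.Lib.Helper5.ExalShear

set_option autoImplicit false
universe u v
open EGA41

namespace Groth.Agent.S5818

open Exal Exal.Ext Groth.Agent.Lib.Helper5.ExalTriv Groth.Agent.Lib.Helper5.ExalShear

attribute [local instance] Exal.opModule Exal.isCentralScalar_opModule

/-- Commutative rings, exactness at Exalcom_B(C, L) on underlying pointed sets. For ring maps A → B → C
and a C-module L, a B-extension of C by L is A-trivial if and only if it is equivalent to the
extension attached to some A-derivation B → L. -/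
theorem result {A : Type u} {B C L : Type v} [CommRing A] [CommRing B] [CommRing C]
    [Algebra A B] [Algebra B C] [Algebra A C] [IsScalarTower A B C]
    [AddCommGroup L] [Module C L] [Module B L] [IsScalarTower B C L] [Module A L] [IsScalarTower A B L]
    [IsScalarTower A C L]
    (X : Exal.Ext B C L) :
    X.IsTrivialOver A ↔
      ∃ D : Derivation A B L, Nonempty (X.Equiv (Exal.Ext.ofDerivation (C := C) D)) := by
  classical
  constructor
  · rintro ⟨s, hs⟩
    let sX : C →+* X.E := s.toRingHom
    have hsX : ∀ c, X.proj (sX c) = c := hs
    have hsA : ∀ a : A, sX (algebraMap A C a) = algebraMap B X.E (algebraMap A B a) :=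
      fun a => s.commutes a
    let D : Derivation A B L := Derivation.mk'
      { toFun := fun b => ell X sX hsX (algebraMap B X.E b)
        map_add' := by
          intro b b'
          rw [map_add, ell_add]
        map_smul' := by
          intro a b
          rw [RingHom.id_apply, Algebra.smul_def, map_mul, ell_mul, ← hsA, ell_s, smul_zero,
            add_zero, hsX, algebraMap_smul] }
      (by
        intro b b'
        show ell X sX hsX (algebraMap B X.E (b * b')) =
          b • ell X sX hsX (algebraMap B X.E b') + b' • ell X sX hsX (algebraMap B X.E b)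
        rw [map_mul, ell_mul, X.proj.commutes, X.proj.commutes, algebraMap_smul, algebraMap_smul])
    let sY : C →+* (ofDerivation (C := C) D).E :=
      (TrivSqZeroExt.inlHom C L : C →+* DerCarrier (C := C) D)
    have hsY : ∀ c, (ofDerivation (C := C) D).proj (sY c) = c := fun c => rfl
    refine ⟨D, ⟨shearEquiv X (ofDerivation (C := C) D) sX hsX sY hsY 0 (by intro c c'; simp) ?_⟩⟩
    intro b
    have h1 : ell (ofDerivation (C := C) D) sY hsY (algebraMap B (ofDerivation (C := C) D).E b) =
        D b := by
      apply (ofDerivation (C := C) D).isExtension.incl_injective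
      rw [incl_ell]
      show (TrivSqZeroExt.inl (algebraMap B C b) + TrivSqZeroExt.inr (D b) : TrivSqZeroExt C L) -
        TrivSqZeroExt.inl (TrivSqZeroExt.fst
          (TrivSqZeroExt.inl (algebraMap B C b) + TrivSqZeroExt.inr (D b) : TrivSqZeroExt C L)) =
        TrivSqZeroExt.inr (D b)
      simp
    rw [h1]
    simp
    rfl
  · rintro ⟨D, ⟨e⟩⟩
    let sY : C →+* (ofDerivation (C := C) D).E :=
      (TrivSqZeroExt.inlHom C L : C →+* DerCarrier (C := C) D)
    have hA : ∀ a : A, sY (algebraMap A C a) =
        algebraMap B (ofDerivation (C := C) D).E (algebraMap A B a) := by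
      intro a
      show (TrivSqZeroExt.inl (algebraMap A C a) : TrivSqZeroExt C L) =
        TrivSqZeroExt.inl (algebraMap B C (algebraMap A B a)) +
          TrivSqZeroExt.inr (D (algebraMap A B a))
      rw [D.map_algebraMap, ← IsScalarTower.algebraMap_apply]
      simp
    refine ⟨{ toRingHom := (e.toAlgEquiv.symm : (ofDerivation (C := C) D).E →+* X.E).comp sY
              commutes' := ?_ }, ?_⟩
    · intro a
      show e.toAlgEquiv.symm (sY (algebraMap A C a)) = algebraMap B X.E (algebraMap A B a)
      rw [hA, AlgEquiv.commutes]
    · intro c
      show X.proj (e.toAlgEquiv.symm (sY c)) = c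
      rw [← e.proj_apply, AlgEquiv.apply_symm_apply]
      rfl

end Groth.Agent.S5818
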