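import Groth.Statements.S5819
-- import your own Groth.Agent.* helpers here

set_option autoImplicit false
universe u v
open EGA41

namespace Groth.Agent.S5819

/-- Commutative rings, exactness at Exalcom_A(C, L) on underlying pointed sets. For ring maps A → B → C
and a C-module L, an A-extension Y of C by L pulls back to a trivial A-extension of B if and only if
Y is equivalent to some B-extension of C by L viewed as an A-extension. -/
theorem result {A : Type u} {B C L : Type v} [CommRing A]
    [CommRing B] [CommRing C] [Algebra A B] [Algebra B C] [Algebra A C] [IsScalarTower A B C]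
    [AddCommGroup L] [Module C L] [Module B L] [IsScalarTower B C L]
    (Y : Exal.Ext A C L) :
    (Y.pullback B).IsTrivial ↔
      ∃ X : Exal.Ext B C L, Nonempty ((X.restrictBase A).Equiv Y) := by
  classical
  constructor
  · rintro ⟨σ, hσ⟩
    -- σ : B →ₐ[A] Y.fiberProd B with snd (σ b) = b
    have hσ2 : ∀ b : B, (σ b).1.2 = b := hσ
    have hmem : ∀ b : B, Y.proj (σ b).1.1 = algebraMap B C (σ b).1.2 := by
      intro b
      have h : (σ b).1 ∈ Y.fiberProd B := (σ b).2
      unfold Exal.Ext.fiberProd at h
      rw [AlgHom.mem_equalizer] at h
      exact h
    let t : B →ₐ[A] Y.E := (AlgHom.fst A Y.E B).comp ((Y.fiberProd B).val.comp σ)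
    have ht : ∀ b : B, Y.proj (t b) = algebraMap B C b := by
      intro b
      show Y.proj (σ b).1.1 = _
      rw [hmem, hσ2]
    let algBE : Algebra B Y.E := t.toRingHom.toAlgebra
    let X : Exal.Ext B C L :=
      { E := Y.E
        commRing := Y.commRing
        algebra := algBE
        proj :=
          { toFun := fun x => Y.proj x
            map_one' := map_one Y.proj
            map_mul' := map_mul Y.proj
            map_zero' := map_zero Y.proj
            map_add' := map_add Y.proj
            commutes' := fun b => ht b }
        incl := Y.incl
        isExtension :=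
          { proj_surjective := Y.isExtension.proj_surjective
            incl_injective := Y.isExtension.incl_injective
            exact := Y.isExtension.exact
            mul_incl := Y.isExtension.mul_incl } }
    have hcomm : ∀ a : A, algebraMap A (X.restrictBase A).E a = algebraMap A Y.E a := by
      intro a
      show t (algebraMap A B a) = algebraMap A Y.E a
      exact t.commutes a
    let eq : (X.restrictBase A).E ≃ₐ[A] Y.E :=
      { toFun := fun x => x
        invFun := fun x => x
        left_inv := fun _ => rfl
        right_inv := fun _ => rfl
        map_mul' := fun _ _ => rfl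
        map_add' := fun _ _ => rfl
        commutes' := hcomm }
    exact ⟨X, ⟨Exal.Ext.Equiv.mk eq (fun _ => rfl) (fun _ => rfl)⟩⟩
  · rintro ⟨X, ⟨e⟩⟩
    have hAX : ∀ a : A, algebraMap A (X.restrictBase A).E a = algebraMap B X.E (algebraMap A B a) :=
      fun a => rfl
    let β : B →ₐ[A] (X.restrictBase A).E :=
      { toFun := fun b => algebraMap B X.E b
        map_one' := map_one _
        map_mul' := map_mul _
        map_zero' := map_zero _
        map_add' := map_add _
        commutes' := fun a => rfl }
    let τ : B →ₐ[A] Y.E := (e.toAlgEquiv : (X.restrictBase A).E →ₐ[A] Y.E).comp β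
    have hτ : ∀ b : B, Y.proj (τ b) = algebraMap B C b := by
      intro b
      show Y.proj (e.toAlgEquiv (β b)) = _
      rw [e.proj_apply]
      show X.proj (algebraMap B X.E b) = _
      exact X.proj.commutes b
    let σ : B →ₐ[A] Y.fiberProd B :=
      AlgHom.codRestrict (AlgHom.prod τ (AlgHom.id A B)) (Y.fiberProd B) (by
        intro b
        show (τ b, b) ∈ Y.fiberProd B
        simpa [Exal.Ext.fiberProd, AlgHom.mem_equalizer] using hτ b)
    exact ⟨σ, fun b => rfl⟩

end Groth.Agent.S5819
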