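import Groth.Statements.S5822
import Groth.Agent.Lib.Helper5.ExalChar2

set_option autoImplicit false
universe u v
open scoped TensorProduct
open EGA41

namespace Groth.Agent.S5822

/-- Injectivity. For ring maps A → B → C and a C-module L, assume (i) L is an injective C-module, or
(ii) Υ_{C/B/A} is a direct summand of C ⊗_B Ω_{B/A} and Ω_{C/A} → Ω_{C/B} has a right inverse. Then
two A-trivial B-extensions of C by L with a common characteristic homomorphism are equivalent: the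
map from classes of A-trivial extensions to Hom_C(Υ_{C/B/A}, L) is injective. -/
theorem result {A : Type u} {B C L : Type v} [CommRing A] [CommRing B] [CommRing C]
    [Algebra A B] [Algebra B C] [Algebra A C] [IsScalarTower A B C] [AddCommGroup L] [Module C L]
    (h : Module.Injective C L ∨
      ((∃ r : C ⊗[B] Ω[B⁄A] →ₗ[C] ↥(EGA41.imperfection A B C), ∀ z : ↥(EGA41.imperfection A B C), r z = z) ∧
        ∃ s : Ω[C⁄B] →ₗ[C] Ω[C⁄A], ∀ ω : Ω[C⁄B], KaehlerDifferential.map A B C C (s ω) = ω))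
    (X Y : Exal.Ext B C L) (hX : X.IsTrivialOver A) (hY : Y.IsTrivialOver A)
    (χ : ↥(EGA41.imperfection A B C) →ₗ[C] L) (hXχ : X.IsCharHom A χ) (hYχ : Y.IsCharHom A χ) :
    Nonempty (X.Equiv Y) := by
  obtain ⟨sX, hsX⟩ := Lib.Helper5.ExalChar.exists_section_of_isTrivialOver hX
  obtain ⟨sY, hsY⟩ := Lib.Helper5.ExalChar.exists_section_of_isTrivialOver hY
  let cX : C ⊗[B] Ω[B⁄A] →ₗ[C] L := Lib.Helper5.ExalChar.chiTilde sX hsX
  let cY : C ⊗[B] Ω[B⁄A] →ₗ[C] L := Lib.Helper5.ExalChar.chiTilde sY hsY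
  let mbc := KaehlerDifferential.mapBaseChange A B C
  let Δ : C ⊗[B] Ω[B⁄A] →ₗ[C] L := cX - cY
  have hker : LinearMap.ker mbc ≤ LinearMap.ker Δ := by
    intro z hz
    have h1 := (Lib.Helper5.ExalChar.isCharHom_iff sX hsX χ).1 hXχ ⟨z, hz⟩
    have h2 := (Lib.Helper5.ExalChar.isCharHom_iff sY hsY χ).1 hYχ ⟨z, hz⟩
    rw [LinearMap.mem_ker]
    change cX z - cY z = 0
    rw [sub_eq_zero]
    exact h1.symm.trans h2
  let Δ' : ↥(LinearMap.range mbc) →ₗ[C] L :=
    ((LinearMap.ker mbc).liftQ Δ hker).comp mbc.quotKerEquivRange.symm.toLinearMap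
  have hΔ' : ∀ (z : C ⊗[B] Ω[B⁄A]) (hz : mbc z ∈ LinearMap.range mbc), Δ' ⟨mbc z, hz⟩ = Δ z := by
    intro z hz
    change (LinearMap.ker mbc).liftQ Δ hker (mbc.quotKerEquivRange.symm ⟨mbc z, hz⟩) = Δ z
    rw [LinearMap.quotKerEquivRange_symm_apply_image]
    rfl
  have hext : ∃ Δ'' : Ω[C⁄A] →ₗ[C] L, ∀ z : C ⊗[B] Ω[B⁄A], Δ'' (mbc z) = Δ z := by
    rcases h with hinj | ⟨-, ⟨σ, hσ⟩⟩
    · obtain ⟨Δ'', hΔ''⟩ := hinj.out (X := ↥(LinearMap.range mbc)) (Y := Ω[C⁄A])
        (LinearMap.range mbc).subtype (Submodule.subtype_injective _) Δ'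
      refine ⟨Δ'', fun z => ?_⟩
      have := hΔ'' ⟨mbc z, LinearMap.mem_range_self mbc z⟩
      rw [hΔ'] at this
      exact this
    · have hex := KaehlerDifferential.exact_mapBaseChange_map A B C
      let P0 : Ω[C⁄A] →ₗ[C] Ω[C⁄A] :=
        LinearMap.id - σ.comp (KaehlerDifferential.map A B C C)
      have hP0 : ∀ ω, P0 ω ∈ LinearMap.range mbc := by
        intro ω
        rw [← LinearMap.exact_iff.mp hex, LinearMap.mem_ker]
        change KaehlerDifferential.map A B C C (ω - σ (KaehlerDifferential.map A B C C ω)) = 0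
        rw [map_sub, hσ, sub_self]
      let P : Ω[C⁄A] →ₗ[C] ↥(LinearMap.range mbc) := P0.codRestrict _ hP0
      refine ⟨Δ'.comp P, fun z => ?_⟩
      have hz0 : KaehlerDifferential.map A B C C (mbc z) = 0 := hex.apply_apply_eq_zero z
      have : P (mbc z) = ⟨mbc z, LinearMap.mem_range_self mbc z⟩ := by
        apply Subtype.ext
        change mbc z - σ (KaehlerDifferential.map A B C C (mbc z)) = mbc z
        rw [hz0, map_zero, sub_zero]
      rw [LinearMap.comp_apply, this, hΔ']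
  obtain ⟨Δ'', hΔ''⟩ := hext
  apply Lib.Helper5.ExalChar.nonempty_equiv_of_chiTilde_eq_add sX hsX sY hsY Δ''
  intro z
  rw [hΔ'' z]
  change cX z = cY z + (cX z - cY z)
  abel

end Groth.Agent.S5822
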