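import Groth.Statements.S5823
import Groth.Agent.Lib.Helper5.ExalChar

set_option autoImplicit false
universe u v
open scoped TensorProduct
open EGA41

namespace Groth.Agent.S5823

/-- Surjectivity. For ring maps A → B → C and a C-module L, assume (i) L is an injective C-module, or
(ii) Υ_{C/B/A} is a direct summand of C ⊗_B Ω_{B/A} and Ω_{C/A} → Ω_{C/B} has a right inverse. Then
every C-linear map Υ_{C/B/A} → L is the characteristic homomorphism of an A-trivial B-extension of C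
by L. -/
theorem result {A : Type u} {B C L : Type v} [CommRing A] [CommRing B] [CommRing C]
    [Algebra A B] [Algebra B C] [Algebra A C] [IsScalarTower A B C] [AddCommGroup L] [Module C L]
    (h : Module.Injective C L ∨
      ((∃ r : C ⊗[B] Ω[B⁄A] →ₗ[C] ↥(EGA41.imperfection A B C), ∀ z : ↥(EGA41.imperfection A B C), r z = z) ∧
        ∃ s : Ω[C⁄B] →ₗ[C] Ω[C⁄A], ∀ ω : Ω[C⁄B], KaehlerDifferential.map A B C C (s ω) = ω))
    (χ : ↥(EGA41.imperfection A B C) →ₗ[C] L) :
    ∃ X : Exal.Ext B C L, X.IsTrivialOver A ∧ X.IsCharHom A χ := by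
  have hext : ∃ φ : C ⊗[B] Ω[B⁄A] →ₗ[C] L,
      ∀ z : ↥(EGA41.imperfection A B C), χ z = φ (z : C ⊗[B] Ω[B⁄A]) := by
    rcases h with hinj | ⟨⟨r, hr⟩, -⟩
    · obtain ⟨φ, hφ⟩ := hinj.out (X := ↥(EGA41.imperfection A B C)) (Y := C ⊗[B] Ω[B⁄A])
        (EGA41.imperfection A B C).subtype (Submodule.subtype_injective _) χ
      exact ⟨φ, fun z => (hφ z).symm⟩
    · exact ⟨χ.comp r, fun z => by rw [LinearMap.comp_apply, hr z]⟩
  obtain ⟨φ, hφ⟩ := hext
  exact ⟨Lib.Helper5.ExalChar.ofLin φ, Lib.Helper5.ExalChar.ofLin_isTrivialOver φ,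
    Lib.Helper5.ExalChar.ofLin_isCharHom φ χ hφ⟩

end Groth.Agent.S5823
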