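import Groth.Statements.S5824
import Groth.Agent.S5822
import Groth.Agent.S5823

set_option autoImplicit false
universe u v
open EGA41

namespace Groth.Agent.S5824

open TensorProduct in
theorem isTrivialOver_of_formallySmooth {A : Type u} {B C L : Type v} [CommRing A] [CommRing B]
    [CommRing C] [Algebra A B] [Algebra B C] [Algebra A C] [IsScalarTower A B C] [AddCommGroup L]
    [Module C L] [Algebra.FormallySmooth A C] (X : Exal.Ext B C L) : X.IsTrivialOver A := by
  let g : X.CharCarrier A →ₐ[A] C := IsScalarTower.toAlgHom A (X.CharCarrier A) C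
  have hg : Function.Surjective g := X.isExtension.proj_surjective
  have hg' : IsNilpotent (RingHom.ker (g : X.CharCarrier A →+* C)) := by
    refine ⟨2, ?_⟩
    rw [Ideal.zero_eq_bot, eq_bot_iff, pow_two, Ideal.mul_le]
    intro x hx y hy
    rw [Ideal.mem_bot]
    have hx' : X.proj x = 0 := hx
    have hy' : X.proj y = 0 := hy
    obtain ⟨z, rfl⟩ := (X.isExtension.exact y).1 hy'
    have := X.isExtension.mul_incl x z
    rw [hx', zero_smul, map_zero] at this
    exact this
  let s := Algebra.FormallySmooth.liftOfSurjective (AlgHom.id A C) g hg hg'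
  exact Lib.Helper5.ExalChar.isTrivialOver_of_section s
    (fun c => Algebra.FormallySmooth.liftOfSurjective_apply (AlgHom.id A C) g hg hg' c)

open TensorProduct in
theorem splitting {A : Type u} {B C : Type v} [CommRing A] [CommRing B]
    [CommRing C] [Algebra A B] [Algebra B C] [Algebra A C] [IsScalarTower A B C]
    [Algebra.FormallySmooth A C] [Module.Projective C Ω[C⁄B]] :
    (∃ r : C ⊗[B] Ω[B⁄A] →ₗ[C] ↥(EGA41.imperfection A B C), ∀ z : ↥(EGA41.imperfection A B C), r z = z) ∧
        ∃ s : Ω[C⁄B] →ₗ[C] Ω[C⁄A], ∀ ω : Ω[C⁄B], KaehlerDifferential.map A B C C (s ω) = ω := by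
  obtain ⟨σ, hσ⟩ := Module.projective_lifting_property (KaehlerDifferential.map A B C C)
    LinearMap.id (KaehlerDifferential.map_surjective A B C)
  have hσ' : ∀ ω : Ω[C⁄B], KaehlerDifferential.map A B C C (σ ω) = ω :=
    fun ω => LinearMap.congr_fun hσ ω
  refine ⟨?_, σ, hσ'⟩
  let mbc := KaehlerDifferential.mapBaseChange A B C
  have hex := KaehlerDifferential.exact_mapBaseChange_map A B C
  let P0 : Ω[C⁄A] →ₗ[C] Ω[C⁄A] := LinearMap.id - σ.comp (KaehlerDifferential.map A B C C)
  have hP0 : ∀ ω, P0 ω ∈ LinearMap.range mbc := by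
    intro ω
    rw [← LinearMap.exact_iff.mp hex, LinearMap.mem_ker]
    change KaehlerDifferential.map A B C C (ω - σ (KaehlerDifferential.map A B C C ω)) = 0
    rw [map_sub, hσ', sub_self]
  let P : Ω[C⁄A] →ₗ[C] ↥(LinearMap.range mbc) := P0.codRestrict _ hP0
  have hP : P.comp (LinearMap.range mbc).subtype = LinearMap.id := by
    apply LinearMap.ext
    rintro ⟨x, z, rfl⟩
    apply Subtype.ext
    change mbc z - σ (KaehlerDifferential.map A B C C (mbc z)) = mbc z
    rw [hex.apply_apply_eq_zero z, map_zero, sub_zero]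
  have hproj : Module.Projective C ↥(LinearMap.range mbc) :=
    Module.Projective.of_split (LinearMap.range mbc).subtype P hP
  obtain ⟨t, ht⟩ := Module.projective_lifting_property mbc.rangeRestrict LinearMap.id
    mbc.surjective_rangeRestrict
  have ht' : ∀ x : ↥(LinearMap.range mbc), mbc (t x) = x := fun x =>
    congrArg Subtype.val (LinearMap.congr_fun ht x)
  let r0 : C ⊗[B] Ω[B⁄A] →ₗ[C] C ⊗[B] Ω[B⁄A] := LinearMap.id - t.comp mbc.rangeRestrict
  have hr0 : ∀ z, r0 z ∈ EGA41.imperfection A B C := by
    intro z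
    change mbc (z - t (mbc.rangeRestrict z)) = 0
    rw [map_sub, ht', sub_eq_zero]
    rfl
  refine ⟨r0.codRestrict _ hr0, fun z => ?_⟩
  apply Subtype.ext
  change (z : C ⊗[B] Ω[B⁄A]) - t (mbc.rangeRestrict z) = z
  have hz : mbc.rangeRestrict (z : C ⊗[B] Ω[B⁄A]) = 0 := by
    apply Subtype.ext
    exact z.2
  rw [hz, map_zero, sub_zero]

/-- For ring maps A → B → C with C formally smooth over A (discrete topologies) and Ω_{C/B} a projective
C-module, and a C-module L, the characteristic homomorphism is a bijection from the classes of all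
B-extensions of C by L (each of which is A-trivial) onto Hom_C(Υ_{C/B/A}, L): injectivity on classes
and surjectivity. -/
theorem result {A : Type u} {B C L : Type v} [CommRing A] [CommRing B] [CommRing C]
    [Algebra A B] [Algebra B C] [Algebra A C] [IsScalarTower A B C] [AddCommGroup L] [Module C L]
    [Algebra.FormallySmooth A C] [Module.Projective C Ω[C⁄B]] :
    (∀ (X Y : Exal.Ext B C L) (χ : ↥(EGA41.imperfection A B C) →ₗ[C] L),
        X.IsCharHom A χ → Y.IsCharHom A χ → Nonempty (X.Equiv Y)) ∧
      ∀ χ : ↥(EGA41.imperfection A B C) →ₗ[C] L, ∃ X : Exal.Ext B C L, X.IsCharHom A χ := by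
  have h := Or.inr (a := Module.Injective C L) (splitting (A := A) (B := B) (C := C))
  refine ⟨fun X Y χ hX hY => ?_, fun χ => ?_⟩
  · exact Groth.Agent.S5822.result h X Y (isTrivialOver_of_formallySmooth X)
      (isTrivialOver_of_formallySmooth Y) χ hX hY
  · obtain ⟨X, -, hX⟩ := Groth.Agent.S5823.result h χ
    exact ⟨X, hX⟩

end Groth.Agent.S5824
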