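import Groth.Statements.S5825
-- import your own Groth.Agent.* helpers here
import Groth.Agent.Lib.Helper27.TopModAux

set_option autoImplicit false
universe u v w
open EGA41

namespace Groth.Agent.S5825

/-- Let A be a topological ring, M, N topological A-modules with the topologies deduced from that of A,
and u : M → N a continuous linear map with dense image (a formal epimorphism). Then u is a formal
bimorphism (dense image and inducing) if and only if, for every open ideal J of A, the induced map
M/JM → N/JN is bijective (injectivity and surjectivity are written out elementwise). -/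
theorem result {A : Type u} {M : Type v} {N : Type w} [CommRing A]
    [TopologicalSpace A] [AddCommGroup M] [Module A M] [TopologicalSpace M] [AddCommGroup N] [Module A N]
    [TopologicalSpace N] (hM : TopMod.IsDeduced A M) (hN : TopMod.IsDeduced A N) (u : M →L[A] N)
    (hu : DenseRange u) :
    IsDenseInducing u ↔
      ∀ J : Ideal A, IsOpen (J : Set A) →
        (∀ x : M, u x ∈ (J • ⊤ : Submodule A N) → x ∈ (J • ⊤ : Submodule A M)) ∧
          ∀ y : N, ∃ x : M, y - u x ∈ (J • ⊤ : Submodule A N) := by
  haveI : IsTopologicalAddGroup M := hM.1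
  haveI : IsTopologicalAddGroup N := hN.1
  have hfwd : ∀ J : Ideal A, ∀ x : M, x ∈ (J • ⊤ : Submodule A M) → u x ∈ (J • ⊤ : Submodule A N) := by
    intro J x hx
    refine Submodule.smul_induction_on hx ?_ ?_
    · intro a ha m _
      rw [map_smul]
      exact Submodule.smul_mem_smul ha Submodule.mem_top
    · intro x y hx hy
      rw [map_add]
      exact Submodule.add_mem _ hx hy
  have hdense : ∀ J : Ideal A, IsOpen (J : Set A) → ∀ y : N, ∃ x : M, y - u x ∈ (J • ⊤ : Submodule A N) := by
    intro J hJ y
    have hS : ((J • ⊤ : Submodule A N) : Set N) ∈ nhds (0 : N) := by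
      rw [hN.2.mem_iff]
      exact ⟨J, hJ, subset_rfl⟩
    exact Groth.Agent.Lib.Helper27.TopModAux.exists_sub_mem_of_denseRange u hu _ hS y
  constructor
  · intro h J hJ
    refine ⟨?_, hdense J hJ⟩
    have hind : Topology.IsInducing u := h.toIsInducing
    have hnh : nhds (0 : M) = (nhds (0 : N)).comap u :=
      IsTopologicalAddGroup.isInducing_iff_nhds_zero.1 hind
    have hJM : ((J • ⊤ : Submodule A M) : Set M) ∈ nhds (0 : M) := by
      rw [hM.2.mem_iff]
      exact ⟨J, hJ, subset_rfl⟩
    rw [hnh, Filter.mem_comap] at hJM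
    obtain ⟨t, ht, htJ⟩ := hJM
    rw [hN.2.mem_iff] at ht
    obtain ⟨J', hJ', hJ't⟩ := ht
    have hJ'' : IsOpen (((J ⊓ J' : Ideal A)) : Set A) := by
      have : ((J ⊓ J' : Ideal A) : Set A) = (J : Set A) ∩ (J' : Set A) := rfl
      rw [this]
      exact hJ.inter hJ'
    have hle1 : ((J ⊓ J' : Ideal A) • ⊤ : Submodule A N) ≤ (J' • ⊤ : Submodule A N) :=
      Submodule.smul_mono_left inf_le_right
    have key : ∀ n : N, n ∈ (J • ⊤ : Submodule A N) →
        ∃ m : M, m ∈ (J • ⊤ : Submodule A M) ∧ n - u m ∈ ((J ⊓ J' : Ideal A) • ⊤ : Submodule A N) := by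
      intro n hn
      refine Submodule.smul_induction_on hn ?_ ?_
      · intro a ha n' _
        obtain ⟨m', hm'⟩ := hdense _ hJ'' n'
        refine ⟨a • m', Submodule.smul_mem_smul ha Submodule.mem_top, ?_⟩
        rw [map_smul, ← smul_sub]
        exact Submodule.smul_mem _ a hm'
      · intro x y ⟨mx, hmx, hx⟩ ⟨my, hmy, hy⟩
        refine ⟨mx + my, Submodule.add_mem _ hmx hmy, ?_⟩
        have : x + y - u (mx + my) = (x - u mx) + (y - u my) := by
          rw [map_add]; abel
        rw [this]
        exact Submodule.add_mem _ hx hy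
    intro x hx
    obtain ⟨m, hm, hxm⟩ := key (u x) hx
    rw [← map_sub] at hxm
    have h1 : x - m ∈ (J • ⊤ : Submodule A M) := htJ (hJ't (hle1 hxm))
    have : x = (x - m) + m := by abel
    rw [this]
    exact Submodule.add_mem _ h1 hm
  · intro h
    refine ⟨?_, hu⟩
    rw [IsTopologicalAddGroup.isInducing_iff_nhds_zero]
    refine Filter.HasBasis.ext hM.2 (hN.2.comap u) ?_ ?_
    · intro J hJ
      refine ⟨J, hJ, ?_⟩
      intro x hx
      exact (h J hJ).1 x hx
    · intro J hJ
      refine ⟨J, hJ, ?_⟩
      intro x hx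
      exact hfwd J x hx

end Groth.Agent.S5825
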