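import Groth.Statements.S5826
-- import your own Groth.Agent.* helpers here
import Groth.Agent.Lib.Helper27.TopModAux

set_option autoImplicit false
universe u v w
open EGA41

namespace Groth.Agent.S5826

/-- Let A be a topological ring, M, N topological A-modules with the topologies deduced from that of A,
u : M → N a continuous linear map. Then u is formally left invertible if and only if, for every open
ideal J of A, the induced map M/JM → N/JN is left invertible, i.e. some linear map N → M/JM composes
with u to the projection M → M/JM. -/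
theorem result {A : Type u} {M : Type v} {N : Type w}
    [CommRing A] [TopologicalSpace A] [AddCommGroup M] [Module A M] [TopologicalSpace M] [AddCommGroup N]
    [Module A N] [TopologicalSpace N] (hM : TopMod.IsDeduced A M) (hN : TopMod.IsDeduced A N)
    (u : M →L[A] N) :
    TopMod.IsFormallyLeftInvertible u ↔
      ∀ J : Ideal A, IsOpen (J : Set A) →
        ∃ w : N →ₗ[A] M ⧸ (J • ⊤ : Submodule A M), ∀ x : M, w (u x) = Submodule.Quotient.mk x := by
  haveI : IsTopologicalAddGroup M := hM.1
  haveI : IsTopologicalAddGroup N := hN.1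
  constructor
  · intro h J hJ
    letI : TopologicalSpace (M ⧸ (J • ⊤ : Submodule A M)) := ⊥
    haveI : DiscreteTopology (M ⧸ (J • ⊤ : Submodule A M)) := ⟨rfl⟩
    have hc : Continuous ((J • ⊤ : Submodule A M).mkQ) := by
      refine Groth.Agent.Lib.Helper27.TopModAux.continuous_of_zeroFibre_mem_nhds _ ?_ ?_
      · intro x y
        exact map_sub _ x y
      · rw [hM.2.mem_iff]
        refine ⟨J, hJ, ?_⟩
        intro x hx
        change (J • ⊤ : Submodule A M).mkQ x = 0
        rw [Submodule.mkQ_apply, Submodule.Quotient.mk_eq_zero]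
        exact hx
    obtain ⟨w, hw⟩ := h (M ⧸ (J • ⊤ : Submodule A M)) ⟨(J • ⊤ : Submodule A M).mkQ, hc⟩
    exact ⟨w.toLinearMap, fun x => hw x⟩
  · intro h E _ _ _ _ v
    have hker : {x : M | v x = 0} ∈ nhds (0 : M) := by
      have ho : IsOpen (v ⁻¹' {0}) := (isOpen_discrete ({0} : Set E)).preimage v.continuous
      exact ho.mem_nhds (by simp)
    rw [hM.2.mem_iff] at hker
    obtain ⟨J, hJ, hJv⟩ := hker
    obtain ⟨wJ, hwJ⟩ := h J hJ
    have hle : (J • ⊤ : Submodule A M) ≤ LinearMap.ker v.toLinearMap := by
      intro x hx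
      rw [LinearMap.mem_ker]
      exact hJv hx
    let vbar : (M ⧸ (J • ⊤ : Submodule A M)) →ₗ[A] E := (J • ⊤ : Submodule A M).liftQ v.toLinearMap hle
    let w : N →ₗ[A] E := vbar.comp wJ
    have hkill : ∀ (a : A), a ∈ J → ∀ q : M ⧸ (J • ⊤ : Submodule A M), a • q = 0 := by
      intro a ha q
      obtain ⟨m, rfl⟩ := Submodule.Quotient.mk_surjective _ q
      rw [← Submodule.Quotient.mk_smul, Submodule.Quotient.mk_eq_zero]
      exact Submodule.smul_mem_smul ha Submodule.mem_top
    have hwc : Continuous w := by
      refine Groth.Agent.Lib.Helper27.TopModAux.continuous_of_zeroFibre_mem_nhds _ ?_ ?_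
      · intro x y
        exact map_sub _ x y
      · rw [hN.2.mem_iff]
        refine ⟨J, hJ, ?_⟩
        intro n hn
        change w n = 0
        refine Submodule.smul_induction_on hn ?_ ?_
        · intro a ha n' _
          change vbar (wJ (a • n')) = 0
          rw [map_smul, hkill a ha, map_zero]
        · intro x y hx hy
          rw [map_add, hx, hy, add_zero]
    refine ⟨⟨w, hwc⟩, ?_⟩
    intro x
    change vbar (wJ (u x)) = v x
    rw [hwJ x]
    exact Submodule.liftQ_apply _ _ _

end Groth.Agent.S5826
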