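import Groth.Statements.S5828
import Mathlib.RingTheory.Derivation.Basic
import Mathlib.Tactic.LinearCombination
import Mathlib.Tactic.Ring

set_option autoImplicit false
universe u v
open EGA41

namespace Groth.Agent.S5828

section helpers

variable {A : Type u} {C L : Type v} [CommRing A] [CommRing C] [Algebra A C]
    [AddCommGroup L] [Module C L] [Module A L] [IsScalarTower A C L] (X : Exal.Ext A C L)

theorem proj_incl (z : L) : X.proj (X.incl z) = 0 :=
  (X.isExtension.exact (X.incl z)).2 ⟨z, rfl⟩

theorem incl_mul_incl (z z' : L) : X.incl z * X.incl z' = 0 := by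
  rw [X.isExtension.mul_incl, proj_incl, zero_smul, map_zero]

theorem incl_smul (a : A) (z : L) : X.incl (a • z) = a • X.incl z := by
  rw [Algebra.smul_def, X.isExtension.mul_incl, AlgHom.commutes, algebraMap_smul]

/-- The algebra endomorphism `x ↦ x + i (D (p x))`. -/
noncomputable def phi (D : Derivation A C L) : X.E →ₐ[A] X.E :=
  AlgHom.ofLinearMap
    { toFun := fun x => x + X.incl (D (X.proj x))
      map_add' := fun x y => by
        simp only [map_add]; abel
      map_smul' := fun a x => by
        simp only [map_smul, RingHom.id_apply, smul_add]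
        rw [D.map_smul, incl_smul] }
    (by simp)
    (fun x y => by
      simp only [LinearMap.coe_mk, AddHom.coe_mk, map_mul, Derivation.leibniz, map_add]
      rw [add_mul, mul_add, mul_add, incl_mul_incl, X.isExtension.mul_incl,
        mul_comm (X.incl _) y, X.isExtension.mul_incl]
      abel)

theorem phi_apply (D : Derivation A C L) (x : X.E) :
    phi X D x = x + X.incl (D (X.proj x)) := rfl

theorem phi_comp_neg (D : Derivation A C L) : (phi X D).comp (phi X (-D)) = AlgHom.id A X.E := by
  ext x
  simp only [AlgHom.comp_apply, phi_apply, AlgHom.id_apply, map_add, proj_incl, add_zero,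
    Derivation.neg_apply, map_neg, map_zero]
  abel

/-- The self-equivalence attached to a derivation. -/
noncomputable def equivOfDer (D : Derivation A C L) : X.Equiv X where
  toAlgEquiv := AlgEquiv.ofAlgHom (phi X D) (phi X (-D)) (phi_comp_neg X D)
    (by have := phi_comp_neg X (-D); rwa [neg_neg] at this)
  proj_apply x := by
    change X.proj (phi X D x) = X.proj x
    rw [phi_apply, map_add, proj_incl, add_zero]
  apply_incl z := by
    change phi X D (X.incl z) = X.incl z
    rw [phi_apply, proj_incl, map_zero, map_zero, add_zero]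

theorem exists_der (e : X.Equiv X) :
    ∃ D : Derivation A C L, ∀ x : X.E, e.toAlgEquiv x = x + X.incl (D (X.proj x)) := by
  classical
  have hker : ∀ x : X.E, X.proj (e.toAlgEquiv x - x) = 0 := fun x => by
    rw [map_sub, e.proj_apply, sub_self]
  -- δ x ∈ L with i (δ x) = e x - x
  let δ : X.E → L := fun x => X.kerLift (e.toAlgEquiv x - x) (hker x)
  have hδ : ∀ x, X.incl (δ x) = e.toAlgEquiv x - x := fun x => X.incl_kerLift _ _
  have hinj := X.isExtension.incl_injective
  have hδ_congr : ∀ x y, X.proj x = X.proj y → δ x = δ y := by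
    intro x y hxy
    apply hinj
    rw [hδ, hδ]
    have h0 : X.proj (x - y) = 0 := by rw [map_sub, hxy, sub_self]
    obtain ⟨z, hz⟩ := (X.isExtension.exact (x - y)).1 h0
    have h1 : e.toAlgEquiv (x - y) = x - y := by rw [← hz, e.apply_incl]
    rw [map_sub] at h1
    linear_combination h1
  let σ : C → X.E := Function.surjInv X.isExtension.proj_surjective
  have hσ : ∀ c, X.proj (σ c) = c := Function.surjInv_eq X.isExtension.proj_surjective
  have hchar : ∀ (c : C) (x : X.E), X.proj x = c → X.incl (δ (σ c)) = e.toAlgEquiv x - x := by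
    intro c x hx
    rw [hδ_congr (σ c) x (by rw [hσ, hx]), hδ]
  let Dlin : C →ₗ[A] L :=
    { toFun := fun c => δ (σ c)
      map_add' := fun c c' => by
        apply hinj
        rw [map_add, hchar (c + c') (σ c + σ c') (by rw [map_add, hσ, hσ]),
          hchar c (σ c) (hσ c), hchar c' (σ c') (hσ c'), map_add]
        abel
      map_smul' := fun a c => by
        apply hinj
        rw [RingHom.id_apply, incl_smul, hchar (a • c) (a • σ c) (by rw [map_smul, hσ]),
          hchar c (σ c) (hσ c), map_smul, smul_sub] }
  have hDlin : ∀ c, Dlin c = δ (σ c) := fun c => rfl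
  let D : Derivation A C L := Derivation.mk' Dlin (fun c c' => by
    apply hinj
    rw [map_add, hDlin, hDlin, hDlin,
      hchar (c * c') (σ c * σ c') (by rw [map_mul, hσ, hσ])]
    have h1 := hchar c (σ c) (hσ c)
    have h2 := hchar c' (σ c') (hσ c')
    have e1 : X.incl (c • δ (σ c')) = σ c * X.incl (δ (σ c')) := by
      rw [X.isExtension.mul_incl, hσ]
    have e2 : X.incl (c' • δ (σ c)) = σ c' * X.incl (δ (σ c)) := by
      rw [X.isExtension.mul_incl, hσ]
    have e3 := incl_mul_incl X (δ (σ c)) (δ (σ c'))
    rw [e1, e2, map_mul]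
    rw [h1, h2] at e3 ⊢
    linear_combination e3)
  refine ⟨D, fun x => ?_⟩
  have : X.incl (D (X.proj x)) = e.toAlgEquiv x - x := hchar (X.proj x) x rfl
  rw [this]; abel

end helpers

theorem aux {A : Type u} {C L : Type v} [CommRing A] [CommRing C] [Algebra A C]
    [AddCommGroup L] [Module C L] [Module A L] [IsScalarTower A C L] (X : Exal.Ext A C L) :
    (∀ D : Derivation A C L, ∃ e : X.Equiv X, ∀ x : X.E, e.toAlgEquiv x = x + X.incl (D (X.proj x))) ∧
      ∀ e : X.Equiv X, ∃! D : Derivation A C L, ∀ x : X.E, e.toAlgEquiv x = x + X.incl (D (X.proj x)) := by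
  refine ⟨fun D => ⟨equivOfDer X D, fun x => rfl⟩, fun e => ?_⟩
  obtain ⟨D, hD⟩ := exists_der X e
  refine ⟨D, hD, fun D' hD' => ?_⟩
  ext c
  obtain ⟨x, rfl⟩ := X.isExtension.proj_surjective c
  apply X.isExtension.incl_injective
  have h1 := hD x
  have h2 := hD' x
  rw [h1] at h2
  exact (add_left_cancel h2).symm

/-- Commutative case. For an A-extension X of C by a C-module L, with middle ring E, projection p and
inclusion i, the A-derivations D : C → L and the self-equivalences of X correspond under D ↦ (x ↦ x
+ i (D (p x))): every derivation defines a self-equivalence with this formula, and every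
self-equivalence is of this form for exactly one derivation. (Bijection of sets; the published
statement also records compatibility with the group laws.) -/
theorem result {A : Type u} {C L : Type v} [CommRing A] [CommRing C] [Algebra A C]
    [AddCommGroup L] [Module C L] [Module A L] [IsScalarTower A C L] (X : Exal.Ext A C L) :
    (∀ D : Derivation A C L, ∃ e : X.Equiv X, ∀ x : X.E, e.toAlgEquiv x = x + X.incl (D (X.proj x))) ∧
      ∀ e : X.Equiv X, ∃! D : Derivation A C L, ∀ x : X.E, e.toAlgEquiv x = x + X.incl (D (X.proj x)) := by
  exact aux X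

end Groth.Agent.S5828
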