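import Groth.Statements.S5831
import Mathlib.RingTheory.Smooth.Basic

set_option autoImplicit false
universe u
open EGA41

namespace Groth.Agent.S5831

section

variable {A B C : Type u} [CommRing A] [CommRing B] [Algebra A B] [CommRing C] [Algebra A C]
  (I : Ideal C) (hI : I ^ 2 = ⊥) (σ : B →ₗ[A] C)
  (hmul : ∀ x y : B, σ x * σ y - σ (x * y) ∈ I) (hone : σ 1 - 1 ∈ I)

include hI in
lemma mul_eq_zero_of_mem {x y : C} (hx : x ∈ I) (hy : y ∈ I) : x * y = 0 := by
  have : x * y ∈ I ^ 2 := by
    rw [pow_two]; exact Ideal.mul_mem_mul hx hy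
  rwa [hI] at this

/-- the `B`-module structure on `I` through `σ` -/
@[reducible] noncomputable def modI : Module B I where
  smul b x := ⟨σ b * x, I.mul_mem_left _ x.2⟩
  one_smul x := by
    apply Subtype.ext
    change σ 1 * (x : C) = x
    have := mul_eq_zero_of_mem I hI hone x.2
    rw [sub_mul, one_mul, sub_eq_zero] at this
    exact this
  mul_smul b b' x := by
    apply Subtype.ext
    change σ (b * b') * (x : C) = σ b * (σ b' * x)
    have := mul_eq_zero_of_mem I hI (hmul b b') x.2
    rw [sub_mul, sub_eq_zero] at this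
    rw [← this, mul_assoc]
  smul_zero b := by
    apply Subtype.ext
    change σ b * ((0 : I) : C) = ((0 : I) : C)
    simp
  smul_add b x y := by
    apply Subtype.ext
    change σ b * ((x + y : I) : C) = σ b * x + σ b * y
    simp [mul_add]
  add_smul b b' x := by
    apply Subtype.ext
    change σ (b + b') * (x : C) = σ b * x + σ b' * x
    rw [map_add, add_mul]
  zero_smul x := by
    apply Subtype.ext
    change σ 0 * (x : C) = ((0 : I) : C)
    simp

end


/-- Discrete case. Let B be an A-algebra which is a projective A-module (A and B in one universe). If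
for every B-module L in that universe every A-bilinear symmetric Hochschild 2-cocycle B × B → L is a
coboundary, then B is formally smooth over A. (The published statement assumes B formally projective
as a topological A-module; for discrete rings this is projectivity.) -/
theorem result {A B : Type u} [CommRing A]
    [CommRing B] [Algebra A B] [Module.Projective A B]
    (h : ∀ (L : Type u) [AddCommGroup L] [Module B L] [Module A L] [IsScalarTower A B L]
      (f : B →ₗ[A] B →ₗ[A] L), (∀ x y : B, f x y = f y x) →
        (∀ x y z : B, f (x * y) z + z • f x y = x • f y z + f x (y * z)) →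
          ∃ g : B →ₗ[A] L, ∀ x y : B, f x y = x • g y - g (x * y) + y • g x) :
    Algebra.FormallySmooth A B := by
  apply Algebra.FormallySmooth.of_comp_surjective
  intro C _ _ I hI g
  -- A-linear lift of g
  obtain ⟨σ, hσ⟩ := Module.projective_lifting_property (Ideal.Quotient.mkₐ A I).toLinearMap
    g.toLinearMap (Ideal.Quotient.mkₐ_surjective A I)
  have hσ' : ∀ b : B, Ideal.Quotient.mk I (σ b) = g b := fun b => LinearMap.congr_fun hσ b
  have hmul : ∀ x y : B, σ x * σ y - σ (x * y) ∈ I := by
    intro x y
    rw [← Ideal.Quotient.eq_zero_iff_mem, map_sub, map_mul, hσ', hσ', hσ', map_mul, sub_self]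
  have hone : σ 1 - 1 ∈ I := by
    rw [← Ideal.Quotient.eq_zero_iff_mem, map_sub, hσ', map_one, map_one, sub_self]
  let _ : Module B I := modI I hI σ hmul hone
  have hsmul : ∀ (b : B) (x : I), ((b • x : I) : C) = σ b * x := fun b x => rfl
  have : IsScalarTower A B I := ⟨fun a b x => by
    apply Subtype.ext
    change σ (a • b) * (x : C) = a • (σ b * (x : C))
    rw [map_smul, smul_mul_assoc]⟩
  -- the cocycle
  let f : B →ₗ[A] B →ₗ[A] I := LinearMap.mk₂ A (fun x y => ⟨σ x * σ y - σ (x * y), hmul x y⟩)
    (fun x x' y => by apply Subtype.ext; simp [add_mul]; ring)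
    (fun a x y => by apply Subtype.ext; simp [smul_sub])
    (fun x y y' => by apply Subtype.ext; simp [mul_add]; ring)
    (fun a x y => by apply Subtype.ext; simp [smul_sub])
  have hf : ∀ x y, ((f x y : I) : C) = σ x * σ y - σ (x * y) := fun x y => rfl
  obtain ⟨g', hg'⟩ := h I f
    (fun x y => by apply Subtype.ext; rw [hf, hf, mul_comm (σ x), mul_comm x])
    (fun x y z => by
      apply Subtype.ext
      rw [Submodule.coe_add, Submodule.coe_add, hsmul, hsmul, hf, hf, hf, hf, mul_assoc x y z]
      ring)
  have hg'C : ∀ x y : B, σ x * σ y - σ (x * y) =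
      σ x * (g' y : C) - (g' (x * y) : C) + σ y * (g' x : C) := by
    intro x y
    have := congrArg (Subtype.val) (hg' x y)
    rw [hf, Submodule.coe_add, Submodule.coe_sub, hsmul, hsmul] at this
    exact this
  -- the corrected map
  let τ : B →ₗ[A] C := σ - I.subtype.restrictScalars A ∘ₗ g'
  have hτ : ∀ b, τ b = σ b - (g' b : C) := fun b => rfl
  have hτmul : ∀ x y, τ (x * y) = τ x * τ y := by
    intro x y
    have h0 := mul_eq_zero_of_mem I hI (g' x).2 (g' y).2
    rw [hτ, hτ, hτ]
    have := hg'C x y
    linear_combination (-1 : C) * this - h0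
  have hτone : τ 1 = 1 := by
    have h1 : τ 1 * τ 1 = τ 1 := by rw [← hτmul, mul_one]
    have hι : τ 1 - 1 ∈ I := by
      rw [hτ]
      have := I.sub_mem hone (g' 1).2
      convert this using 1
      ring
    have h2 := mul_eq_zero_of_mem I hI hι hι
    linear_combination h1 - h2
  refine ⟨AlgHom.ofLinearMap τ hτone hτmul, ?_⟩
  ext b
  change Ideal.Quotient.mk I (τ b) = g b
  rw [hτ, map_sub, hσ', Ideal.Quotient.eq_zero_iff_mem.mpr (g' b).2, sub_zero]

end Groth.Agent.S5831
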