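import Groth.Statements.S5832
import Groth.Agent.Lib.Helper5.ExalTriv

set_option autoImplicit false
universe u u' v
open EGA41

namespace Groth.Agent.S5832

/-- Surjectivity at the end of the sequence. For ring maps Λ → A → B → C and a C-module L, every
Λ-trivial A-extension of B by L is equivalent to the inverse image along B → C of a Λ-trivial
A-extension of C by L. (Exactness at the other places is that of the six-term derivation-extension
sequence restricted to Λ-trivial classes.) -/
theorem result {Λ : Type u} {A : Type u'} {B C L : Type v}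
    [CommRing Λ] [CommRing A] [CommRing B] [CommRing C] [Algebra Λ A] [Algebra Λ B] [Algebra Λ C]
    [Algebra A B] [Algebra B C] [Algebra A C] [IsScalarTower Λ A B] [IsScalarTower Λ A C] [IsScalarTower A B C]
    [AddCommGroup L] [Module C L] [Module B L] [IsScalarTower B C L]
    (Y : Exal.Ext A B L) (hY : Y.IsTrivialOver Λ) :
    ∃ X : Exal.Ext A C L, X.IsTrivialOver Λ ∧ Nonempty ((X.pullback B).Equiv Y) := by
  obtain ⟨σ, hσ⟩ := hY
  let s : B →+* Y.E := (σ : B →+* (Y.restrictBase Λ).E)
  have hs : ∀ b, Y.proj (s b) = b := hσ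
  have hsΛ : ∀ r : Λ, s (algebraMap Λ B r) = algebraMap A Y.E (algebraMap Λ A r) :=
    fun r => σ.commutes r
  exact ⟨Lib.Helper5.ExalTriv.X (C := C) Y s hs,
    Lib.Helper5.ExalTriv.X_isTrivialOver Y s hs hsΛ,
    ⟨Lib.Helper5.ExalTriv.equiv Y s hs⟩⟩

end Groth.Agent.S5832
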