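import Groth.Statements.S5835
import Groth.Agent.Lib.Helper5.ImperfSep

set_option autoImplicit false
universe v w
open scoped TensorProduct
open EGA41

namespace Groth.Agent.S5835

/-- For fields k₀ ⊆ k ⊆ K ⊆ L, the map of imperfection modules Υ_{L/K/k₀} → Υ_{L/K/k} induced by
Ω_{K/k₀} → Ω_{K/k} is injective (k is k₀-admissible for the extension L of K) in each of the
following cases: L is separable over k; L is separable over K; k lies in k₀(K^p), p the
characteristic exponent. Separable means geometrically reduced (not necessarily algebraic). -/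
theorem result {k : Type v} {k₀ K L : Type w}
    [Field k₀] [Field k] [Field K] [Field L] [Algebra k₀ k] [Algebra k₀ K] [Algebra k₀ L] [Algebra k K]
    [Algebra k L] [Algebra K L] [IsScalarTower k₀ k K] [IsScalarTower k₀ k L] [IsScalarTower k₀ K L]
    [IsScalarTower k K L] (p : ℕ) [ExpChar K p]
    (h : Algebra.IsGeometricallyReduced k L ∨ Algebra.IsGeometricallyReduced K L ∨
      ∀ x : k, algebraMap k K x ∈ EGA41.pPowerSubalgebra p k₀ K) :
    ∀ z : L ⊗[K] Ω[K⁄k₀], z ∈ EGA41.imperfection k₀ K L →
      (KaehlerDifferential.map k₀ k K K).baseChange L z = 0 → z = 0 := by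
  intro z hz hz0
  rcases h with h | h | h
  · exact Lib.Helper5.ImperfSep.eq_zero_of_first h z hz hz0
  · exact Lib.Helper5.ImperfSep.eq_zero_of_injective
      (Lib.Helper5.SepSmooth.mapBaseChange_injective_of_geomReduced (k := K) (K := L) k₀) z hz
  · cases ‹ExpChar K p› with
    | zero =>
      haveI : Algebra.FormallySmooth K L := Lib.Helper5.SepSmooth.formallySmooth_of_charZero
      exact Lib.Helper5.ImperfSep.eq_zero_of_injective
        (Lib.Helper5.SepSmooth.mapBaseChange_injective_of_formallySmooth (k := K) (K := L) k₀) z hz
    | prime hprime =>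
      have hpK : (p : K) = 0 := CharP.cast_eq_zero K p
      have hinj := Lib.Helper5.ImperfSep.map_injective_of_le_pPower (k := k) (k₀ := k₀) (K := K) p hpK h
      have hinj' : Function.Injective ((KaehlerDifferential.map k₀ k K K).lTensor L) :=
        Module.Flat.lTensor_preserves_injective_linearMap _ hinj
      have h0 : ((KaehlerDifferential.map k₀ k K K).lTensor L) z = 0 := hz0
      rw [← map_zero ((KaehlerDifferential.map k₀ k K K).lTensor L)] at h0
      exact hinj' h0

end Groth.Agent.S5835
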