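import Groth.Statements.S5838
import Groth.Agent.Lib.Helper5.LeftInvTop3

set_option autoImplicit false
universe u v w
open EGA41

namespace Groth.Agent.S5838

/-- Let A be a topological ring with a countable decreasing fundamental system (𝔍_n) of open ideals, M
and N topological A-modules with the topologies deduced from that of A, M Hausdorff and complete,
and u : M → N a continuous linear map such that for every n the cokernel of M/𝔍_n M → N/𝔍_n N is a
projective (A/𝔍_n)-module. Then u is formally left invertible if and only if it has a linear left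
inverse. (The published statement adds that u is then a topological isomorphism onto a topological
direct factor.) -/
theorem result {A : Type u} {M : Type v} {N : Type w}
    [CommRing A] [TopologicalSpace A] [AddCommGroup M] [Module A M] [UniformSpace M] [IsUniformAddGroup M]
    [CompleteSpace M] [T2Space M] [AddCommGroup N] [Module A N] [TopologicalSpace N]
    (𝔍 : ℕ → Ideal A) (h𝔍open : ∀ n, IsOpen (𝔍 n : Set A)) (h𝔍anti : Antitone 𝔍)
    (h𝔍basis : (nhds (0 : A)).HasBasis (fun _ : ℕ => True) (fun n => (𝔍 n : Set A)))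
    (hM : TopMod.IsDeduced A M) (hN : TopMod.IsDeduced A N) (u : M →L[A] N)
    (hcoker : ∀ n, Module.Projective (A ⧸ 𝔍 n)
      ((N ⧸ LinearMap.range u.toLinearMap) ⧸ (𝔍 n • (⊤ : Submodule A (N ⧸ LinearMap.range u.toLinearMap))))) :
    TopMod.IsFormallyLeftInvertible u ↔ ∃ w : N →ₗ[A] M, ∀ x : M, w (u x) = x := by
  open Groth.Agent.Lib.Helper5 in
  constructor
  · intro h
    refine LeftInvTop.exists_leftInverse_of_seq 𝔍 h𝔍anti h𝔍open ?_ hM u.toLinearMap ?_ ?_
    · intro I hI
      obtain ⟨n, -, hn⟩ := h𝔍basis.mem_iff.mp (hI.mem_nhds I.zero_mem)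
      exact ⟨n, hn⟩
    · exact LeftInvTop.mod_of_formallyLeftInvertible (𝔍 0) (h𝔍open 0) hM u h
    · intro n w hw
      obtain ⟨W', hW'⟩ :=
        LeftInvTop.mod_of_formallyLeftInvertible (𝔍 (n + 1)) (h𝔍open (n + 1)) hM u h
      have _ := hcoker (n + 1)
      exact LeftInvTop.exists_compat_of_coker_projective (𝔍 (n + 1)) (𝔍 n)
        (h𝔍anti (Nat.le_succ n)) u.toLinearMap w hw W' hW'
  · rintro ⟨w, hw⟩
    have _ : IsTopologicalAddGroup N := hN.1
    intro E _ _ _ _ v
    obtain ⟨J, hJopen, hJ⟩ := LeftInvTop.exists_open_ideal_le_ker hM v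
    have hcont : Continuous (v.toLinearMap ∘ₗ w) := by
      apply LeftInvTop.continuous_of_ker_mem_nhds
      refine Filter.mem_of_superset (hN.2.mem_of_mem hJopen) ?_
      intro y hy
      change v (w y) = 0
      refine Submodule.smul_induction_on hy ?_ ?_
      · intro a ha z _
        rw [map_smul]
        exact hJ _ (Submodule.smul_mem_smul ha trivial)
      · intro y z hy hz
        rw [map_add, map_add, hy, hz, add_zero]
    refine ⟨⟨v.toLinearMap ∘ₗ w, hcont⟩, fun x => ?_⟩
    change v (w (u x)) = v x
    rw [hw]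

end Groth.Agent.S5838
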