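import Groth.Statements.S5839
import Groth.Agent.Lib.Helper5.LeftInvTop2

set_option autoImplicit false
universe u v w
open EGA41

namespace Groth.Agent.S5839

/-- Let A be preadmissible with ideal of definition 𝔏, the topologies of M and N deduced from that of A,
N/JN projective over A/J for every open ideal J; assuming moreover a countable decreasing
fundamental system of open ideals and M Hausdorff and complete, u : M → N has a linear left inverse
if and only if the induced map M/𝔏M → N/𝔏N has one (both being equivalent to formal left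
invertibility). -/
theorem result {A : Type u} {M : Type v} {N : Type w}
    [CommRing A] [TopologicalSpace A] [AddCommGroup M] [Module A M] [UniformSpace M] [IsUniformAddGroup M]
    [CompleteSpace M] [T2Space M] [AddCommGroup N] [Module A N] [TopologicalSpace N]
    (𝔍 : ℕ → Ideal A) (h𝔍open : ∀ n, IsOpen (𝔍 n : Set A)) (h𝔍anti : Antitone 𝔍)
    (h𝔍basis : (nhds (0 : A)).HasBasis (fun _ : ℕ => True) (fun n => (𝔍 n : Set A)))
    (hM : TopMod.IsDeduced A M) (hN : TopMod.IsDeduced A N) (u : M →L[A] N)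
    (hA : LinTop.IsPreadmissible A) (𝔏 : Ideal A) (h𝔏 : LinTop.IsIdealOfDefinition A 𝔏)
    (hproj : ∀ J : Ideal A, IsOpen (J : Set A) → Module.Projective (A ⧸ J) (N ⧸ (J • (⊤ : Submodule A N)))) :
    (∃ w : N →ₗ[A] M, ∀ x : M, w (u x) = x) ↔
      ∃ w₀ : N →ₗ[A] M ⧸ (𝔏 • ⊤ : Submodule A M), ∀ x : M, w₀ (u x) = Submodule.Quotient.mk x := by
  constructor
  · rintro ⟨w, hw⟩
    exact ⟨(𝔏 • ⊤ : Submodule A M).mkQ ∘ₗ w, fun x => by
      rw [LinearMap.comp_apply, hw, Submodule.mkQ_apply]⟩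
  · rintro ⟨w₀, hw₀⟩
    have hJanti : Antitone (fun n => 𝔍 n ⊓ 𝔏) := fun a b hab => inf_le_inf_right 𝔏 (h𝔍anti hab)
    have hJopen : ∀ n, IsOpen ((𝔍 n ⊓ 𝔏 : Ideal A) : Set A) := fun n => by
      change IsOpen ((𝔍 n : Set A) ∩ (𝔏 : Set A))
      exact (h𝔍open n).inter h𝔏.1
    have hk : ∀ n, ∃ k : ℕ, 𝔏 ^ k ≤ 𝔍 n ⊓ 𝔏 := by
      intro n
      obtain ⟨k, hkpos, hk⟩ := h𝔏.2 (𝔍 n : Set A) ((h𝔍open n).mem_nhds (𝔍 n).zero_mem)
      exact ⟨k, le_inf hk (Ideal.pow_le_self (Nat.pos_iff_ne_zero.mp hkpos))⟩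
    refine Groth.Agent.Lib.Helper5.LeftInvTop.exists_leftInverse_of_seq (fun n => 𝔍 n ⊓ 𝔏) hJanti
      hJopen ?_ hM u.toLinearMap ?_ ?_
    · intro I hI
      obtain ⟨n, -, hn⟩ := h𝔍basis.mem_iff.mp (hI.mem_nhds I.zero_mem)
      exact ⟨n, inf_le_left.trans hn⟩
    · have _ := hproj (𝔍 0 ⊓ 𝔏) (hJopen 0)
      obtain ⟨k, hk0⟩ := hk 0
      exact Groth.Agent.Lib.Helper5.LeftInvMod.exists_leftInverse_mod (𝔍 0 ⊓ 𝔏) 𝔏 inf_le_right k hk0
        u.toLinearMap w₀ hw₀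
    · intro n w hw
      have _ := hproj (𝔍 (n + 1) ⊓ 𝔏) (hJopen (n + 1))
      obtain ⟨k, hk1⟩ := hk (n + 1)
      exact Groth.Agent.Lib.Helper5.LeftInvMod.exists_leftInverse_mod_compat (𝔍 (n + 1) ⊓ 𝔏)
        (𝔍 n ⊓ 𝔏) (hJanti (Nat.le_succ n)) k
        ((Ideal.pow_right_mono inf_le_right k).trans hk1) u.toLinearMap w hw

end Groth.Agent.S5839
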