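import Groth.Statements.S5840
import Groth.Agent.Lib.lead.SheafModRestrict
import Mathlib.CategoryTheory.Abelian.GrothendieckAxioms.Sheaf
import Mathlib.Algebra.Category.Grp.AB
import Mathlib.Algebra.Category.ModuleCat.Sheaf.Limits
import Groth.Prelude.Def_CxOX

set_option autoImplicit false
universe u
open ZClos

namespace Groth.Agent.S5840

open CategoryTheory CategoryTheory.Limits AlgebraicGeometry TopologicalSpace Opposite
open ZClos

set_option backward.isDefEq.respectTransparency.types false in
theorem aux (X : Scheme.{u}) (Z : Set X) : PreservesFiniteLimits (ZClos.H0 Z) := by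
  haveI h1 : PreservesColimitsOfShape (Cl Z) (SheafOfModules.toSheaf.{u} X.ringCatSheaf) :=
    Groth.Agent.Lib.lead.SheafModRestrict.toSheaf_preservesColimitsOfShape X.ringCatSheaf (Cl Z)
  haveI h2 : PreservesFiniteLimits (SheafOfModules.toSheaf.{u} X.ringCatSheaf) := inferInstance
  haveI h3 : ReflectsFiniteLimits (SheafOfModules.toSheaf.{u} X.ringCatSheaf) := by
    constructor
    intro J _ _
    exact reflectsLimitsOfShape_of_reflectsIsomorphisms
  haveI h4 : HasExactColimitsOfShape (Cl Z) (Sheaf (Opens.grothendieckTopology X) AddCommGrpCat.{u}) :=
    inferInstance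
  haveI h5 : HasExactColimitsOfShape (Cl Z) (SheafOfModules.{u} X.ringCatSheaf) :=
    HasExactColimitsOfShape.domain_of_functor (Cl Z) (SheafOfModules.toSheaf.{u} X.ringCatSheaf)
  haveI h6 : PreservesFiniteLimits (colim (J := Cl Z) (C := X.Modules)) := h5.preservesFiniteLimits
  haveI h7 : PreservesFiniteLimits (diagram Z (X := X)) := by
    constructor
    intro J _ _
    apply preservesLimitsOfShape_of_evaluation
    intro T
    change PreservesLimitsOfShape J (resPush T.U)
    haveI : PreservesFiniteLimits (Scheme.Modules.restrictFunctor T.U.ι) := inferInstance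
    haveI : PreservesFiniteLimits (Scheme.Modules.pushforward T.U.ι) := inferInstance
    haveI : PreservesFiniteLimits (resPush T.U) := comp_preservesFiniteLimits _ _
    exact PreservesFiniteLimits.preservesFiniteLimits J
  exact comp_preservesFiniteLimits (diagram Z) colim

open CategoryTheory CategoryTheory.Limits AlgebraicGeometry in
/-- For a locally Noetherian scheme X and a subset Z of X stable under specialization, the Z-closure
functor F ↦ H⁰_{X/Z}(F) on O_X-modules (the filtered colimit, over the closed subsets T of X inside
Z, of the direct images of the restrictions of F to X ∖ T) is left exact: it preserves finite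
limits. -/
theorem result (X : Scheme.{u}) [IsLocallyNoetherian X] (Z : Set X)
    (hZ : StableUnderSpecialization Z) : PreservesFiniteLimits (ZClos.H0 Z) := by
  exact aux X Z



end Groth.Agent.S5840
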