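import Groth.Statements.S5842
import Groth.Agent.Lib.Helper29.ZClosLib
import Groth.Agent.Lib.Helper29.QCohExact

set_option autoImplicit false
universe u
open ZClos

namespace Groth.Agent.S5842

open CategoryTheory CategoryTheory.Limits AlgebraicGeometry TopologicalSpace Opposite
open ZClos Groth.Agent.Lib.Helper28.QCohLoc Groth.Agent.Lib.Helper29.ZClosLib Groth.Agent.Lib.Helper29.QCohStalk


open CategoryTheory CategoryTheory.Limits AlgebraicGeometry in
/-- a) ⇔ a'), injective case: for a locally Noetherian scheme X, a subset Z of X stable under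
specialization and an arbitrary O_X-module F, the canonical map ρ_{X/Z} : F → H⁰_{X/Z}(F) is
injective (F is Z-pure) if and only if, for every closed subset T of X contained in Z, the canonical
map from F to the direct image of its restriction to X ∖ T is injective. -/
theorem result (X : Scheme.{u}) [IsLocallyNoetherian X] (Z : Set X)
    (hZ : StableUnderSpecialization Z) (F : X.Modules) :
    ZClos.IsZPure Z F ↔ ∀ T : ZClos.Cl Z, Mono (ZClos.toDiagram Z F T) := by
  constructor
  · intro h T
    have h' : Mono (toDiagram Z F T ≫ colimit.ι ((diagram Z).obj F) T) := by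
      rw [← rhoApp_eq Z F T]; exact h
    exact mono_of_mono (toDiagram Z F T) (colimit.ι ((diagram Z).obj F) T)
  · intro h
    refine mono_of_injective (rhoApp Z F) fun W => ?_
    refine (injective_iff_map_eq_zero (ConcreteCategory.hom ((rhoApp Z F).app W))).2 fun s hs => ?_
    refine eq_zero_of_locally F W s fun x hx => ?_
    obtain ⟨V, hVW, hxV, hVc⟩ := exists_compact_nhd hx
    refine ⟨V, hVW, hxV, ?_⟩
    have h1 : (rhoApp Z F).app V (res F hVW s) = 0 := by
      rw [rho_res]
      exact (congrArg (res ((H0 Z).obj F) hVW) hs).trans (res_zero _ _)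
    rw [rho_app_eq Z F ⊥] at h1
    obtain ⟨T', hT, h0⟩ := cinj_eq_zero Z F V hVc ⊥ _ h1
    rw [res_res] at h0
    have hinj := injective_app_of_mono (toDiagram Z F T') (h T') V
    apply hinj
    rw [toDiagram_app]
    exact h0.trans (map_zero _).symm



end Groth.Agent.S5842
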