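import Groth.Statements.S5843
import Groth.Agent.Lib.Helper29.ZClosLib
import Groth.Agent.Lib.Helper29.QCohExact
import Mathlib.CategoryTheory.Limits.Constructions.EventuallyConstant

set_option autoImplicit false
universe u
open ZClos

namespace Groth.Agent.S5843

open CategoryTheory CategoryTheory.Limits AlgebraicGeometry TopologicalSpace Opposite
open ZClos Groth.Agent.Lib.Helper28.QCohLoc Groth.Agent.Lib.Helper29.ZClosLib Groth.Agent.Lib.Helper29.QCohStalk


open CategoryTheory CategoryTheory.Limits AlgebraicGeometry in
/-- a) ⇔ a'), bijective case: for a locally Noetherian scheme X, a subset Z of X stable under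
specialization and an arbitrary O_X-module F, the canonical map ρ_{X/Z} : F → H⁰_{X/Z}(F) is
bijective (F is Z-closed) if and only if, for every closed subset T of X contained in Z, the
canonical map from F to the direct image of its restriction to X ∖ T is bijective. -/
theorem result (X : Scheme.{u}) [IsLocallyNoetherian X] (Z : Set X)
    (hZ : StableUnderSpecialization Z) (F : X.Modules) :
    ZClos.IsZClosed Z F ↔ ∀ T : ZClos.Cl Z, IsIso (ZClos.toDiagram Z F T) := by
  constructor
  · intro h T
    have hiso : IsIso (rhoApp Z F) := h
    have hmono : Mono (rhoApp Z F) := inferInstance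
    refine Scheme.Modules.Hom.isIso_iff_isIso_app.mpr fun W => ?_
    rw [ConcreteCategory.isIso_iff_bijective]
    constructor
    · -- injective
      refine (injective_iff_map_eq_zero (ConcreteCategory.hom ((toDiagram Z F T).app W))).2 fun s hs => ?_
      apply injective_app_of_mono (rhoApp Z F) hmono W
      rw [rho_app_eq Z F T]
      have hs' : res F (Op_le T W) s = 0 := hs
      rw [hs', cinj_zero]
      exact (map_zero _).symm
    · intro t0
      obtain ⟨t, rfl⟩ : ∃ t : Γ(F, Op Z T W), (show Γ(((diagram Z).obj F).obj T, W) from t) = t0 := ⟨t0, rfl⟩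
      have hbij : Function.Bijective ((rhoApp Z F).app W) := by
        rw [← ConcreteCategory.isIso_iff_bijective]
        exact Scheme.Modules.Hom.isIso_iff_isIso_app.mp hiso W
      obtain ⟨s, hs⟩ := hbij.2 (cinj Z F T W t)
      refine ⟨s, ?_⟩
      change res F (Op_le T W) s = t
      apply injective_app_of_mono (rhoApp Z F) hmono (Op Z T W)
      rw [rho_res, hs, res_cinj_eq_rho]
  · intro h
    have hconst : ((diagram Z).obj F).IsEventuallyConstantFrom ⊥ := by
      intro T f
      have h1 := toDiagram_map Z F f
      haveI := h ⊥
      haveI := h T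
      exact IsIso.of_isIso_fac_left h1
    have h2 : IsIso (colimit.ι ((diagram Z).obj F) ⊥) :=
      hconst.isIso_ι_of_isColimit (colimit.isColimit _)
    haveI := h ⊥
    change IsIso (rhoApp Z F)
    rw [rhoApp_eq Z F ⊥]
    exact IsIso.comp_isIso' (h ⊥) h2



end Groth.Agent.S5843
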