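import Groth.Statements.S5846
import Groth.Agent.Lib.Helper29.ZClosLib4
import Groth.Agent.S5844

set_option autoImplicit false
universe u
open ZClos

namespace Groth.Agent.S5846



section Helpers
open CategoryTheory CategoryTheory.Limits AlgebraicGeometry TopologicalSpace Opposite
open ZClos Groth.Agent.Lib.Helper28.QCohLoc Groth.Agent.Lib.Helper29.ZClosLib

theorem isZPure_iff_injCrit (X : Scheme.{u}) [IsLocallyNoetherian X] (Z : Set X)
    (hZ : StableUnderSpecialization Z) (F : X.Modules) : ZClos.IsZPure Z F ↔ InjCrit Z F := by
  rw [Groth.Agent.S5844.result X Z hZ F]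
  constructor
  · intro h T V hV s hs
    have := h T V hV
    rw [injective_iff_map_eq_zero] at this
    exact this s hs
  · intro h T V hV
    rw [injective_iff_map_eq_zero]
    intro s hs
    exact h T V hV s hs

end Helpers

open CategoryTheory CategoryTheory.Limits AlgebraicGeometry in
/-- For a locally Noetherian scheme X, a subset Z of X stable under specialization, an O_X-module F and
an open covering (V_i) of X, F is Z-pure if and only if, for every i, the restriction of F to the
open subscheme V_i is (Z ∩ V_i)-pure. -/
theorem result (X : Scheme.{u}) [IsLocallyNoetherian X] (Z : Set X)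
    (hZ : StableUnderSpecialization Z) (F : X.Modules) {ι : Type u} (V : ι → X.Opens) (hV : iSup V = ⊤) :
    ZClos.IsZPure Z F ↔
      ∀ i, ZClos.IsZPure ((V i).ι.base ⁻¹' Z) ((Scheme.Modules.restrictFunctor (V i).ι).obj F) := by
  have hZi : ∀ i, StableUnderSpecialization ((V i).ι.base ⁻¹' Z) :=
    fun i => hZ.preimage (V i).ι.base.hom.continuous
  rw [isZPure_iff_injCrit X Z hZ F]
  constructor
  · intro h i
    rw [isZPure_iff_injCrit _ _ (hZi i)]
    exact Groth.Agent.Lib.Helper29.ZClosLib.InjCrit.restrict F hZ h (V i)
  · intro h
    refine Groth.Agent.Lib.Helper29.ZClosLib.InjCrit.of_cover F V hV fun i => ?_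
    rw [← isZPure_iff_injCrit _ _ (hZi i)]
    exact h i



end Groth.Agent.S5846
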