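import Groth.Statements.S5847
import Groth.Agent.Lib.Helper29.ZClosLib4
import Groth.Agent.S5845

set_option autoImplicit false
universe u
open ZClos

namespace Groth.Agent.S5847



section Helpers
open CategoryTheory CategoryTheory.Limits AlgebraicGeometry TopologicalSpace Opposite
open ZClos Groth.Agent.Lib.Helper28.QCohLoc Groth.Agent.Lib.Helper29.ZClosLib

theorem isZClosed_iff_crit (X : Scheme.{u}) [IsLocallyNoetherian X] (Z : Set X)
    (hZ : StableUnderSpecialization Z) (F : X.Modules) :
    ZClos.IsZClosed Z F ↔ InjCrit Z F ∧ SurjCrit Z F := by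
  rw [Groth.Agent.S5845.result X Z hZ F]
  constructor
  · intro h
    refine ⟨fun T V hV s hs => ?_, fun T V hV O hO t => ?_⟩
    · have := (h T V hV).1
      rw [injective_iff_map_eq_zero] at this
      exact this s hs
    · subst hO
      exact (h T V hV).2 t
  · rintro ⟨h1, h2⟩ T V hV
    refine ⟨?_, fun t => h2 T V hV _ rfl t⟩
    rw [injective_iff_map_eq_zero]
    intro s hs
    exact h1 T V hV s hs

end Helpers

open CategoryTheory CategoryTheory.Limits AlgebraicGeometry in
/-- For a locally Noetherian scheme X, a subset Z of X stable under specialization, an O_X-module F and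
an open covering (V_i) of X, F is Z-closed if and only if, for every i, the restriction of F to the
open subscheme V_i is (Z ∩ V_i)-closed. -/
theorem result (X : Scheme.{u}) [IsLocallyNoetherian X] (Z : Set X)
    (hZ : StableUnderSpecialization Z) (F : X.Modules) {ι : Type u} (V : ι → X.Opens) (hV : iSup V = ⊤) :
    ZClos.IsZClosed Z F ↔
      ∀ i, ZClos.IsZClosed ((V i).ι.base ⁻¹' Z) ((Scheme.Modules.restrictFunctor (V i).ι).obj F) := by
  have hZi : ∀ i, StableUnderSpecialization ((V i).ι.base ⁻¹' Z) :=
    fun i => hZ.preimage (V i).ι.base.hom.continuous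
  rw [isZClosed_iff_crit X Z hZ F]
  constructor
  · rintro ⟨h1, h2⟩ i
    rw [isZClosed_iff_crit _ _ (hZi i)]
    exact ⟨Groth.Agent.Lib.Helper29.ZClosLib.InjCrit.restrict F hZ h1 (V i),
      Groth.Agent.Lib.Helper29.ZClosLib.SurjCrit.restrict F hZ h2 (V i)⟩
  · intro h
    have h' := fun i => (isZClosed_iff_crit _ _ (hZi i) _).1 (h i)
    have h1 := Groth.Agent.Lib.Helper29.ZClosLib.InjCrit.of_cover F V hV fun i => (h' i).1
    exact ⟨h1, Groth.Agent.Lib.Helper29.ZClosLib.SurjCrit.of_cover F V hV h1 fun i => (h' i).2⟩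



end Groth.Agent.S5847
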