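import Groth.Statements.S5849
import Groth.Agent.Lib.Helper29.ZClosLib2

set_option autoImplicit false
universe u
open ZClos

namespace Groth.Agent.S5849

open CategoryTheory CategoryTheory.Limits AlgebraicGeometry TopologicalSpace Opposite
open ZClos Groth.Agent.Lib.Helper28.QCohLoc Groth.Agent.Lib.Helper29.ZClosLib Groth.Agent.Lib.Helper29.FilColimSec
open Groth.Agent.Lib.Helper29.QCohStalk

theorem rhoStalk_germ {X : Scheme.{u}} (Z : Set X) (F : X.Modules) (x : X) (V : X.Opens) (hx : x ∈ V)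
    (s : Γ(F, V)) :
    rhoStalk Z F x (F.presheaf.germ V x hx s) =
      ((H0 Z).obj F).presheaf.germ V x hx ((rhoApp Z F).app V s) :=
  TopCat.Presheaf.stalkFunctor_map_germ_apply V x hx (rhoApp Z F).mapPresheaf s

theorem mem_Op_of_notMem {X : Scheme.{u}} {Z : Set X} (T : Cl Z) (V : X.Opens) (x : X) (hx : x ∉ Z)
    (hxV : x ∈ V) : x ∈ Op Z T V :=
  (mem_Op_iff T V x).2 ⟨fun h => hx (T.2 h), hxV⟩

open CategoryTheory CategoryTheory.Limits AlgebraicGeometry in
/-- For a locally Noetherian scheme X, a subset Z of X stable under specialization and an arbitrary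
O_X-module F, the kernel and cokernel of ρ_{X/Z} : F → H⁰_{X/Z}(F) have support inside Z: at every
point x outside Z the map induced by ρ_{X/Z} on stalks is bijective. -/
theorem result (X : Scheme.{u}) [IsLocallyNoetherian X] (Z : Set X)
    (hZ : StableUnderSpecialization Z) (F : X.Modules) (x : X) (hx : x ∉ Z) :
    ZClos.IsZClosedAt Z F x := by
  constructor
  · refine (injective_iff_map_eq_zero (ConcreteCategory.hom (rhoStalk Z F x))).2 fun μ hμ => ?_
    obtain ⟨V₀, hxV₀, s₀, rfl⟩ := TopCat.Presheaf.exists_germ_eq F.presheaf μ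
    have hμ' : rhoStalk Z F x (F.presheaf.germ V₀ x hxV₀ s₀) = 0 := hμ
    rw [rhoStalk_germ] at hμ'
    have h0 : gm ((H0 Z).obj F) V₀ x hxV₀ ((rhoApp Z F).app V₀ s₀) = gm ((H0 Z).obj F) V₀ x hxV₀ 0 := by
      rw [gm_zero]; exact hμ'
    obtain ⟨W₀, hxW₀, iU, iV, hres⟩ := TopCat.Presheaf.germ_eq ((H0 Z).obj F).presheaf x hxV₀ hxV₀ _ _ h0
    obtain ⟨W, hWW₀, hxW, hWc⟩ := exists_compact_nhd hxW₀
    have hWV : W ≤ V₀ := hWW₀.trans iU.le
    have h1 : (rhoApp Z F).app W (res F hWV s₀) = 0 := by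
      rw [rho_res]
      have h2 : res ((H0 Z).obj F) iU.le ((rhoApp Z F).app V₀ s₀) = 0 := by
        have h3 : ((H0 Z).obj F).presheaf.map iV.op (0 : Γ((H0 Z).obj F, V₀)) = 0 := map_zero _
        rw [h3] at hres
        exact hres
      have := congrArg (res ((H0 Z).obj F) hWW₀) h2
      rw [res_res, res_zero] at this
      exact this
    rw [rho_app_eq Z F ⊥] at h1
    obtain ⟨T', hT, h0'⟩ := cinj_eq_zero Z F W hWc ⊥ _ h1
    rw [res_res, res_res] at h0'
    have hxO : x ∈ Op Z T' W := mem_Op_of_notMem T' W x hx hxW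
    have := gm_res F ((Op_le T' W).trans hWV) x hxO s₀
    change F.presheaf.germ V₀ x hxV₀ s₀ = 0
    change gm F V₀ x hxV₀ s₀ = 0
    rw [← this, h0', gm_zero]
  · intro ν
    obtain ⟨V₀, hxV₀, t₀, rfl⟩ := TopCat.Presheaf.exists_germ_eq ((H0 Z).obj F).presheaf ν
    obtain ⟨V, hVV₀, hxV, hVc⟩ := exists_compact_nhd hxV₀
    obtain ⟨T, s, hs⟩ := cinj_surj Z F V hVc (res ((H0 Z).obj F) hVV₀ t₀)
    have hxO : x ∈ Op Z T V := mem_Op_of_notMem T V x hx hxV
    refine ⟨F.presheaf.germ (Op Z T V) x hxO s, ?_⟩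
    rw [rhoStalk_germ, ← res_cinj_eq_rho, hs, res_res]
    exact gm_res ((H0 Z).obj F) _ x hxO t₀



end Groth.Agent.S5849
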