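import Groth.Statements.S5850
import Groth.Agent.Lib.Helper29.ZClosLib2
import Groth.Agent.S5845

set_option autoImplicit false
universe u
open ZClos

namespace Groth.Agent.S5850

open CategoryTheory CategoryTheory.Limits AlgebraicGeometry TopologicalSpace Opposite
open ZClos Groth.Agent.Lib.Helper28.QCohLoc Groth.Agent.Lib.Helper29.ZClosLib Groth.Agent.Lib.Helper29.FilColimSec

theorem mem_U_sup {X : Scheme.{u}} {Z : Set X} (T₁ T : Cl Z) (x : X) :
    x ∈ (T₁ ⊔ T).U ↔ x ∈ T₁.U ∧ x ∈ T.U := by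
  change x ∉ ((T₁.1 ⊔ T.1 : Closeds X) : Set X) ↔ x ∉ (T₁.1 : Set X) ∧ x ∉ (T.1 : Set X)
  rw [Closeds.coe_sup, Set.mem_union, not_or]

theorem Op_sup_le {X : Scheme.{u}} {Z : Set X} (T₁ T : Cl Z) (V : X.Opens) :
    Op Z (T₁ ⊔ T) V ≤ Op Z T₁ (V ⊓ T.U) := by
  rw [Op_eq, Op_eq]
  intro x hx
  obtain ⟨h1, h2⟩ := hx
  obtain ⟨h3, h4⟩ := (mem_U_sup T₁ T x).1 h1
  exact ⟨h3, h2, h4⟩

open CategoryTheory CategoryTheory.Limits AlgebraicGeometry in
/-- For a locally Noetherian scheme X, a subset Z of X stable under specialization and an arbitrary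
O_X-module F, the Z-closure H⁰_{X/Z}(F) is itself Z-closed. -/
theorem result (X : Scheme.{u}) [IsLocallyNoetherian X] (Z : Set X)
    (hZ : StableUnderSpecialization Z) (F : X.Modules) :
    ZClos.IsZClosed Z ((ZClos.H0 Z).obj F) := by
  rw [Groth.Agent.S5845.result X Z hZ]
  intro T V hV
  have hV' : IsCompact ((V ⊓ T.U : X.Opens) : Set X) := isCompact_of_le hV inf_le_left
  change Function.Bijective (res ((H0 Z).obj F) (inf_le_left : V ⊓ T.U ≤ V))
  constructor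
  · refine (injective_iff_map_eq_zero
      (ConcreteCategory.hom (((H0 Z).obj F).presheaf.map (homOfLE (inf_le_left : V ⊓ T.U ≤ V)).op))).2 fun x hx => ?_
    have hx' : res ((H0 Z).obj F) (inf_le_left : V ⊓ T.U ≤ V) x = 0 := hx
    obtain ⟨T₁, s, rfl⟩ := cinj_surj Z F V hV x
    rw [cinj_res] at hx'
    obtain ⟨T₂, hT, h0⟩ := cinj_eq_zero Z F _ hV' T₁ _ hx'
    rw [res_res] at h0
    have hle : T₁ ≤ T₂ ⊔ T := hT.trans le_sup_left
    rw [cinj_trans Z F hle V s]
    have h1 : res F (Op_anti hle V) s = 0 := by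
      have := congrArg (res F (Op_sup_le T₂ T V)) h0
      rw [res_res, res_zero] at this
      exact this
    rw [h1, cinj_zero]
  · intro y
    obtain ⟨T₁, s, rfl⟩ := cinj_surj Z F _ hV' y
    refine ⟨cinj Z F (T₁ ⊔ T) V (res F (Op_sup_le T₁ T V) s), ?_⟩
    rw [cinj_res, res_res, cinj_trans Z F (le_sup_left : T₁ ≤ T₁ ⊔ T) (V ⊓ T.U) s]



end Groth.Agent.S5850
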