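import Groth.Statements.S5851
import Groth.Agent.Lib.Helper29.ZClosLib2
import Groth.Agent.S5843

set_option autoImplicit false
universe u
open ZClos

namespace Groth.Agent.S5851

open CategoryTheory CategoryTheory.Limits AlgebraicGeometry TopologicalSpace Opposite
open ZClos Groth.Agent.Lib.Helper28.QCohLoc Groth.Agent.Lib.Helper29.ZClosLib Groth.Agent.Lib.Helper29.FilColimSec
open Groth.Agent.Lib.Helper29.QCohStalk

/-- a morphism out of `H⁰_{X/Z}(F)` into a `Z`-closed module killed by `ρ` is zero -/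
theorem eq_zero_of_rho_comp {X : Scheme.{u}} [IsLocallyNoetherian X] (Z : Set X)
    (hZ : StableUnderSpecialization Z) (F F' : X.Modules) (hF' : ZClos.IsZClosed Z F')
    (w : (ZClos.H0 Z).obj F ⟶ F') (hw : ZClos.rhoApp Z F ≫ w = 0) : w = 0 := by
  have hiso := (Groth.Agent.S5843.result X Z hZ F').1 hF'
  apply Scheme.Modules.hom_ext
  intro W
  ext x
  change w.app W x = 0
  refine eq_zero_of_locally F' W _ fun pt hpt => ?_
  obtain ⟨V, hVW, hxV, hVc⟩ := exists_compact_nhd hpt
  refine ⟨V, hVW, hxV, ?_⟩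
  rw [← app_res w hVW x]
  obtain ⟨T, s, hs⟩ := cinj_surj Z F V hVc (res ((H0 Z).obj F) hVW x)
  rw [← hs]
  haveI := hiso T
  have hmono : Mono (toDiagram Z F' T) := inferInstance
  apply injective_app_of_mono (toDiagram Z F' T) hmono V
  rw [toDiagram_app, ← app_res w (Op_le T V), res_cinj_eq_rho]
  have h1 : w.app (Op Z T V) ((rhoApp Z F).app (Op Z T V) s) = (rhoApp Z F ≫ w).app (Op Z T V) s := rfl
  rw [h1, hw]
  exact (map_zero _).symm

open CategoryTheory CategoryTheory.Limits AlgebraicGeometry in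
/-- For a locally Noetherian scheme X, a subset Z of X stable under specialization, O_X-modules F and F'
with F' Z-closed, and a homomorphism u : F → F', there is exactly one homomorphism v : H⁰_{X/Z}(F) →
F' with u = v ∘ ρ_{X/Z}. -/
theorem result (X : Scheme.{u}) [IsLocallyNoetherian X] (Z : Set X)
    (hZ : StableUnderSpecialization Z) (F F' : X.Modules) (hF' : ZClos.IsZClosed Z F') (u : F ⟶ F') :
    ∃! v : (ZClos.H0 Z).obj F ⟶ F', ZClos.rhoApp Z F ≫ v = u := by
  haveI : IsIso (rhoApp Z F') := hF'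
  refine ⟨(H0 Z).map u ≫ inv (rhoApp Z F'), ?_, ?_⟩
  · have hn : u ≫ rhoApp Z F' = rhoApp Z F ≫ (H0 Z).map u := (rho Z).naturality u
    change rhoApp Z F ≫ (H0 Z).map u ≫ inv (rhoApp Z F') = u
    rw [← Category.assoc, ← hn, Category.assoc, IsIso.hom_inv_id, Category.comp_id]
  · intro v hv
    have hn : u ≫ rhoApp Z F' = rhoApp Z F ≫ (H0 Z).map u := (rho Z).naturality u
    have h0 : rhoApp Z F ≫ (v - (H0 Z).map u ≫ inv (rhoApp Z F')) = 0 := by
      rw [Preadditive.comp_sub, hv, ← Category.assoc, ← hn, Category.assoc, IsIso.hom_inv_id,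
        Category.comp_id, sub_self]
    exact sub_eq_zero.1 (eq_zero_of_rho_comp Z hZ F F' hF' _ h0)



end Groth.Agent.S5851
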