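import Groth.Statements.S5852
import Groth.Agent.Lib.Helper29.ZClosLib3
import Groth.Agent.S5843
import Groth.Agent.S5850

set_option autoImplicit false
universe u
open ZClos

namespace Groth.Agent.S5852

open CategoryTheory CategoryTheory.Limits AlgebraicGeometry TopologicalSpace Opposite
open ZClos Groth.Agent.Lib.Helper28.QCohLoc Groth.Agent.Lib.Helper29.ZClosLib Groth.Agent.Lib.Helper29.FilColimSec
open Groth.Agent.Lib.Helper29.QCohStalk

variable {X : Scheme.{u}}

theorem stalkMap_germ {F F' : X.Modules} (u : F ⟶ F') (x : X) (V : X.Opens) (hx : x ∈ V) (s : Γ(F, V)) :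
    (TopCat.Presheaf.stalkFunctor (C := Ab.{u}) x).map u.mapPresheaf (F.presheaf.germ V x hx s) =
      F'.presheaf.germ V x hx (u.app V s) :=
  TopCat.Presheaf.stalkFunctor_map_germ_apply V x hx u.mapPresheaf s

/-- a section over a quasi-compact open whose germs vanish off `Z` vanishes off some closed subset inside `Z` -/
theorem exists_res_eq_zero [IsLocallyNoetherian X] {Z : Set X} (hZ : StableUnderSpecialization Z) (G : X.Modules)
    (V : X.Opens) (hV : IsCompact (V : Set X)) (c : Γ(G, V))
    (h : ∀ (y : X) (hy : y ∈ V), y ∉ Z → gm G V y hy c = 0) :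
    ∃ T : Cl Z, res G (Op_le T V) c = 0 := by
  obtain ⟨T', hT', h0⟩ := exists_res_eq_zero_of_gm_eq_zero G hZ V hV ⊥ (res G (Op_le ⊥ V) c) (fun y hy hyZ => by
    rw [gm_res]; exact h y _ hyZ)
  rw [res_res] at h0
  exact ⟨T', h0⟩

theorem v_cinj {Z : Set X} {F F' : X.Modules} (u : F ⟶ F') (v : (H0 Z).obj F ⟶ F')
    (hv : rhoApp Z F ≫ v = u) (T : Cl Z) (V : X.Opens) (s : Γ(F, Op Z T V)) :
    res F' (Op_le T V) (v.app V (cinj Z F T V s)) = u.app (Op Z T V) s := by
  rw [← app_res v (Op_le T V), res_cinj_eq_rho, ← hv]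
  rfl

open CategoryTheory CategoryTheory.Limits AlgebraicGeometry in
/-- For a locally Noetherian scheme X, a subset Z of X stable under specialization, O_X-modules F and F'
with F' Z-closed, and a homomorphism u : F → F' whose kernel and cokernel have support inside Z (the
map induced by u on stalks is bijective at every point outside Z): the homomorphism v : H⁰_{X/Z}(F)
→ F' with u = v ∘ ρ_{X/Z} is an isomorphism. -/
theorem result (X : Scheme.{u}) [IsLocallyNoetherian X] (Z : Set X)
    (hZ : StableUnderSpecialization Z) (F F' : X.Modules) (hF' : ZClos.IsZClosed Z F') (u : F ⟶ F')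
    (hu : ∀ x : X, x ∉ Z →
      Function.Bijective ((TopCat.Presheaf.stalkFunctor (C := Ab.{u}) x).map u.mapPresheaf))
    (v : (ZClos.H0 Z).obj F ⟶ F') (hv : ZClos.rhoApp Z F ≫ v = u) : IsIso v := by
  have hisoF' := (Groth.Agent.S5843.result X Z hZ F').1 hF'
  have hmonoF' : ∀ T : Cl Z, Mono (toDiagram Z F' T) := fun T => by haveI := hisoF' T; infer_instance
  have hinjF' : ∀ (T : Cl Z) (V : X.Opens), Function.Injective (res F' (Op_le T V)) := fun T V =>
    injective_app_of_mono (toDiagram Z F' T) (hmonoF' T) V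
  -- mono
  haveI hmono : Mono v := by
    refine mono_of_injective v fun W => ?_
    refine (injective_iff_map_eq_zero (ConcreteCategory.hom (v.app W))).2 fun x hx => ?_
    refine eq_zero_of_locally _ W x fun pt hpt => ?_
    obtain ⟨V, hVW, hxV, hVc⟩ := exists_compact_nhd hpt
    refine ⟨V, hVW, hxV, ?_⟩
    obtain ⟨T, s, hs⟩ := cinj_surj Z F V hVc (res ((H0 Z).obj F) hVW x)
    have h1 : v.app V (cinj Z F T V s) = 0 := by
      rw [hs, app_res v hVW x]
      exact (congrArg (res F' hVW) hx).trans (res_zero _ _)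
    have h2 : u.app (Op Z T V) s = 0 := by
      rw [← v_cinj u v hv T V s, h1, res_zero]
    obtain ⟨T', hT, h0⟩ := exists_res_eq_zero_of_gm_eq_zero F hZ V hVc T s (fun y hy hyZ => by
      apply (hu y hyZ).1
      refine (stalkMap_germ u y _ hy s).trans ?_
      rw [h2]
      exact (map_zero _).trans (map_zero _).symm)
    rw [← hs, cinj_trans Z F hT V s, h0, cinj_zero]
  -- epi
  haveI hepi : Epi v := by
    refine epi_of_locally_in_range v fun W t' pt hpt => ?_
    obtain ⟨V, hVW, hxV, hVc⟩ := exists_compact_nhd hpt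
    refine ⟨V, hVW, hxV, ?_⟩
    have hS : (ShortComplex.mk v (cokernel.π v) (cokernel.condition v)).ShortExact :=
      { exact := ShortComplex.exact_cokernel v
        mono_f := hmono
        epi_g := inferInstance }
    -- the class of `t` in the cokernel has germs vanishing off `Z`
    have hc : ∀ (y : X) (hy : y ∈ V), y ∉ Z →
        gm (cokernel v) V y hy ((cokernel.π v).app V (res F' hVW t')) = 0 := by
      intro y hy hyZ
      obtain ⟨μ, hμ⟩ := (hu y hyZ).2 (F'.presheaf.germ V y hy (res F' hVW t'))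
      obtain ⟨N, hyN, a, rfl⟩ := TopCat.Presheaf.exists_germ_eq F.presheaf μ
      rw [stalkMap_germ] at hμ
      obtain ⟨N', hyN', i1, i2, hres⟩ := TopCat.Presheaf.germ_eq F'.presheaf y hyN hy _ _ hμ
      have hres' : res F' i1.le (u.app N a) = res F' i2.le (res F' hVW t') := hres
      rw [← gm_res (cokernel v) i2.le y hyN', ← app_res (cokernel.π v) i2.le, ← hres', ← app_res u i1.le, ← hv]
      have h3 : (cokernel.π v).app N' ((rhoApp Z F ≫ v).app N' (res F i1.le a)) =
          (v ≫ cokernel.π v).app N' ((rhoApp Z F).app N' (res F i1.le a)) := rfl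
      rw [h3, cokernel.condition]
      exact gm_zero _ _ _ _
    obtain ⟨T, hT0⟩ := exists_res_eq_zero hZ (cokernel v) V hVc _ hc
    rw [← app_res (cokernel.π v) (Op_le T V)] at hT0
    obtain ⟨s, hs⟩ := exists_app_eq_of_shortExact _ hS (Op Z T V) _ hT0
    -- `H⁰(F)` is `Z`-closed
    have hG := (Groth.Agent.S5843.result X Z hZ ((H0 Z).obj F)).1 (Groth.Agent.S5850.result X Z hZ F) T
    have hbij : Function.Bijective ((toDiagram Z ((H0 Z).obj F) T).app V) := by
      rw [← ConcreteCategory.isIso_iff_bijective]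
      exact Scheme.Modules.Hom.isIso_iff_isIso_app.mp hG V
    obtain ⟨g, hg⟩ := hbij.2 s
    have hg' : res ((H0 Z).obj F) (Op_le T V) g = s := hg
    refine ⟨g, ?_⟩
    apply hinjF' T V
    rw [← app_res v (Op_le T V), hg']
    exact hs
  exact isIso_of_mono_of_epi v



end Groth.Agent.S5852
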