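import Groth.Statements.S8871
import Groth.Agent.S4637
import Groth.Agent.S1708

set_option autoImplicit false
universe u
open CategoryTheory CategoryTheory.Limits AlgebraicGeometry TopologicalSpace
open SDiv

namespace Groth.Agent.S8871

open Groth.Agent.Lib.Helper29.QCohStalk Groth.Agent.Lib.Helper28.QCohLoc

/-- prime avoidance: a finite module over a Noetherian local ring whose maximal ideal is not associated has a regular
element in the maximal ideal -/
theorem exists_regular_mem_maximalIdeal {A N : Type*} [CommRing A] [IsLocalRing A] [IsNoetherianRing A]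
    [AddCommGroup N] [Module A N] [Module.Finite A N]
    (h : IsLocalRing.maximalIdeal A ∉ associatedPrimes A N) :
    ∃ a ∈ IsLocalRing.maximalIdeal A, IsSMulRegular N a := by
  by_contra hcon
  push Not at hcon
  have fin := associatedPrimes.finite A N
  have hsub : ((IsLocalRing.maximalIdeal A : Ideal A) : Set A) ⊆ ⋃ p ∈ associatedPrimes A N, (id p : Set A) := by
    simp_rw [id, biUnion_associatedPrimes_eq_zero_divisors]
    intro a ha
    have hnr := hcon a ha
    rw [isSMulRegular_iff_right_eq_zero_of_smul] at hnr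
    push Not at hnr
    obtain ⟨x, hx0, hx⟩ := hnr
    exact ⟨x, hx, hx0⟩
  obtain ⟨P, hP, hle⟩ := ((IsLocalRing.maximalIdeal A).subset_union_prime_finite fin (f := id) 0 0
    fun _ h _ _ ↦ h.isPrime).1 hsub
  have : IsLocalRing.maximalIdeal A = P :=
    (IsLocalRing.maximalIdeal.isMaximal A).eq_of_le hP.isPrime.ne_top hle
  exact h (this ▸ hP)

theorem one_le_depth_of_regular {A N : Type*} [CommRing A] [IsLocalRing A] [AddCommGroup N] [Module A N]
    (a : A) (ha : a ∈ IsLocalRing.maximalIdeal A) (hreg : IsSMulRegular N a) : 1 ≤ LocCoh.depth A N := by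
  unfold LocCoh.depth LocCoh.idealDepth
  split_ifs with h
  · exact le_top
  · refine le_iSup₂_of_le [a] ⟨?_, ?_⟩ ?_
    · rw [RingTheory.Sequence.isWeaklyRegular_cons_iff]
      exact ⟨hreg, RingTheory.Sequence.IsWeaklyRegular.nil _ _⟩
    · intro r hr
      rw [List.mem_singleton] at hr
      rw [hr]; exact ha
    · simp

theorem exists_regular_of_one_le_depth {A N : Type*} [CommRing A] [IsLocalRing A] [AddCommGroup N] [Module A N]
    (hne : IsLocalRing.maximalIdeal A • (⊤ : Submodule A N) ≠ ⊤) (h : 1 ≤ LocCoh.depth A N) :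
    ∃ a ∈ IsLocalRing.maximalIdeal A, IsSMulRegular N a := by
  unfold LocCoh.depth LocCoh.idealDepth at h
  rw [if_neg hne] at h
  have h0 : (0 : ℕ∞) < ⨆ (rs : List A) (_ : RingTheory.Sequence.IsWeaklyRegular N rs ∧
      ∀ r ∈ rs, r ∈ IsLocalRing.maximalIdeal A), (rs.length : ℕ∞) := lt_of_lt_of_le zero_lt_one h
  obtain ⟨rs, hrs⟩ := lt_iSup_iff.1 h0
  obtain ⟨⟨hw, hmem⟩, hlen⟩ := lt_iSup_iff.1 hrs
  cases rs with
  | nil => simp at hlen
  | cons r rs' =>
    rw [RingTheory.Sequence.isWeaklyRegular_cons_iff] at hw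
    exact ⟨r, hmem r (List.mem_cons_self), hw.1⟩

/-- an element whose annihilator has radical the maximal ideal is incompatible with a regular element of the maximal
ideal -/
theorem false_of_regular_of_radical_ann {A N : Type*} [CommRing A] [IsLocalRing A] [AddCommGroup N] [Module A N]
    (a : A) (ha : a ∈ IsLocalRing.maximalIdeal A) (hreg : IsSMulRegular N a) (ν : N)
    (hν : (ann (R := A) ν).radical = IsLocalRing.maximalIdeal A) : False := by
  rw [← hν] at ha
  obtain ⟨k, hk⟩ := ha
  have hk' : a ^ k • ν = 0 := (mem_ann ν _).1 hk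
  have hν0 : ν = 0 := by
    apply hreg.pow k
    change a ^ k • ν = a ^ k • (0 : N)
    rw [smul_zero, hk']
  have htop : ann (R := A) ν = ⊤ := by
    rw [hν0, eq_top_iff]
    intro z _
    rw [mem_ann, smul_zero]
  rw [htop, Ideal.radical_top] at hν
  exact (IsLocalRing.maximalIdeal.isMaximal A).ne_top hν.symm

/-- a module killed by a power of the maximal ideal has support of dimension at most zero -/
theorem supportDim_le_zero_of_pow_smul_eq_bot {A N : Type*} [CommRing A] [IsLocalRing A] [AddCommGroup N] [Module A N]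
    (k : ℕ) (hk : IsLocalRing.maximalIdeal A ^ k • (⊤ : Submodule A N) = ⊥) : Module.supportDim A N ≤ 0 := by
  unfold Module.supportDim
  haveI : Subsingleton (Module.support A N) := by
    have key : ∀ p ∈ Module.support A N, p = IsLocalRing.closedPoint A := by
      intro p hp
      have hann := Module.annihilator_le_of_mem_support hp
      have hle : IsLocalRing.maximalIdeal A ^ k ≤ p.asIdeal := by
        refine le_trans ?_ hann
        intro c hc
        rw [Module.mem_annihilator]
        intro n
        have : c • n ∈ IsLocalRing.maximalIdeal A ^ k • (⊤ : Submodule A N) :=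
          Submodule.smul_mem_smul hc Submodule.mem_top
        rw [hk] at this
        exact this
      have hm : IsLocalRing.maximalIdeal A ≤ p.asIdeal := p.2.le_of_pow_le hle
      apply PrimeSpectrum.ext
      exact ((IsLocalRing.maximalIdeal.isMaximal A).eq_of_le p.2.ne_top hm).symm
    exact ⟨fun a b => Subtype.ext ((key a.1 a.2).trans (key b.1 b.2).symm)⟩
  exact Order.krullDim_nonpos_of_subsingleton

/-- (D1) a proper generization in the support gives positive support dimension of the stalk -/
theorem supportDim_pos_of_specializes {X : Scheme.{u}} [IsLocallyNoetherian X] (F : X.Modules)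
    (hF : Coh.IsCoh F) (x y : X) (hyx : y ⤳ x) (hne : y ≠ x) (hy : Nontrivial ↑(F.presheaf.stalk y))
    (hx : Nontrivial ↑(F.presheaf.stalk x)) :
    0 < Module.supportDim (X.presheaf.stalk x) (F.presheaf.stalk x) := by
  haveI : F.IsQuasicoherent := hF.1
  haveI : SheafOfModules.IsFiniteType.{u} (R := X.ringCatSheaf) F := hF.2
  obtain ⟨U, hU0, hxU, -⟩ := (Opens.isBasis_iff_nbhd.1 X.isBasis_affineOpens) (show x ∈ (⊤ : X.Opens) from trivial)
  have hU : IsAffineOpen U := hU0
  have hloc := isLocOn_of_isQuasicoherent F hU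
  haveI : Module.Finite Γ(X, U) Γ(F, U) := Groth.Agent.Lib.Helper28.FinType.finite_of_isAffineOpen F hU
  haveI hfinN : Module.Finite (X.presheaf.stalk x) (F.presheaf.stalk x) :=
    Groth.Agent.S4637.finite_stalk F hU hloc x hxU
  have hyU : y ∈ U := hyx.mem_open U.2 hxU
  have hPle : germPrime U y hyU ≤ germPrime U x hxU := germPrime_le_of_specializes y x hyU hxU hyx
  have hPne : germPrime U y hyU ≠ germPrime U x hxU := fun h =>
    hne (Groth.Agent.S1708.eq_of_germPrime_eq hU y x hyU hxU h)
  letI := X.presheaf.algebra_section_stalk ⟨x, hxU⟩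
  haveI hlocA := hU.isLocalization_stalk ⟨x, hxU⟩
  have halg : ∀ r : Γ(X, U), algebraMap Γ(X, U) (X.presheaf.stalk x) r = X.presheaf.germ U x hxU r := fun _ => rfl
  have hprimeIdeal : (hU.primeIdealOf ⟨x, hxU⟩).asIdeal = germPrime U x hxU := by
    ext r
    rw [mem_germPrime_iff, ← halg,
      ← not_iff_not, not_not, IsLocalization.AtPrime.isUnit_to_map_iff (X.presheaf.stalk x)
        (hU.primeIdealOf ⟨x, hxU⟩).asIdeal r]
    rfl
  have hdisj : Disjoint ((hU.primeIdealOf ⟨x, hxU⟩).asIdeal.primeCompl : Set Γ(X, U))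
      (germPrime U y hyU : Set Γ(X, U)) := by
    rw [Set.disjoint_left]
    intro r hr hry
    apply hr
    rw [hprimeIdeal]
    exact hPle hry
  set q : Ideal (X.presheaf.stalk x) := (germPrime U y hyU).map (algebraMap Γ(X, U) (X.presheaf.stalk x)) with hq
  have hqprime : q.IsPrime := IsLocalization.isPrime_of_isPrime_disjoint
    (hU.primeIdealOf ⟨x, hxU⟩).asIdeal.primeCompl _ _ inferInstance hdisj
  have hqcomap : q.comap (algebraMap Γ(X, U) (X.presheaf.stalk x)) = germPrime U y hyU :=
    IsLocalization.comap_map_of_isPrime_disjoint (hU.primeIdealOf ⟨x, hxU⟩).asIdeal.primeCompl _ inferInstance hdisj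
  -- `Ann N ≤ q`
  obtain ⟨m0, hm0⟩ := (mem_support_iff hU hloc y hyU).1 ((Groth.Agent.S4636.mem_support_iff_nontrivial F y).2 hy)
  have hAnnM : Module.annihilator Γ(X, U) Γ(F, U) ≤ germPrime U y hyU := fun c hc =>
    hm0 ((mem_ann m0 c).2 ((Module.mem_annihilator.1 hc) m0))
  have hAnnq : Module.annihilator (X.presheaf.stalk x) (F.presheaf.stalk x) ≤ q := by
    intro α hα
    obtain ⟨a, t, ht, hat⟩ := stalk_affine_surj hU x hxU α
    have hga : X.presheaf.germ U x hxU a ∈ Module.annihilator (X.presheaf.stalk x) (F.presheaf.stalk x) := by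
      rw [← hat]; exact Ideal.mul_mem_right _ _ hα
    obtain ⟨S, hS⟩ := (Module.Finite.fg_top : (⊤ : Submodule Γ(X, U) Γ(F, U)).FG)
    have hex : ∀ m : Γ(F, U), ∃ s : Γ(X, U), IsUnit (X.presheaf.germ U x hxU s) ∧ s • (a • m) = 0 := by
      intro m
      refine exists_smul_eq_zero_of_gm_eq_zero F hU hloc x hxU (a • m) ?_
      rw [gm_smul]
      exact (Module.mem_annihilator.1 hga) _
    choose s hs1 hs2 using hex
    classical
    have hprodmem : (∏ m ∈ S, s m) * a ∈ Module.annihilator Γ(X, U) Γ(F, U) := by
      rw [Module.mem_annihilator]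
      intro m
      have hm : m ∈ Submodule.span Γ(X, U) (S : Set Γ(F, U)) := by rw [hS]; trivial
      induction hm using Submodule.span_induction with
      | mem z hz =>
        rw [← Finset.mul_prod_erase S s hz, mul_comm (s z), mul_assoc, mul_smul, mul_smul, hs2 z, smul_zero]
      | zero => rw [smul_zero]
      | add z w _ _ hz hw => rw [smul_add, hz, hw, add_zero]
      | smul r z _ hz => rw [smul_comm, hz, smul_zero]
    have hPy : (germPrime U y hyU).IsPrime := inferInstance
    have haP : a ∈ germPrime U y hyU := by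
      rcases hPy.mem_or_mem (hAnnM hprodmem) with h1 | h1
      · exfalso
        rw [Ideal.IsPrime.prod_mem_iff] at h1
        obtain ⟨m, -, hm⟩ := h1
        exact ((mem_germPrime_iff U x hxU (s m)).1 (hPle hm)) (hs1 m)
      · exact h1
    obtain ⟨v, hv⟩ := ht
    have hα' : α = (↑v⁻¹ : X.presheaf.stalk x) * X.presheaf.germ U x hxU a := by
      rw [← hat, ← hv, mul_comm α, ← mul_assoc, Units.inv_mul, one_mul]
    rw [hα']
    exact Ideal.mul_mem_left _ _ (Ideal.mem_map_of_mem _ haP)
  -- the chain `q < m` in the support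
  have hq_supp : (⟨q, hqprime⟩ : PrimeSpectrum (X.presheaf.stalk x)) ∈
      Module.support (X.presheaf.stalk x) (F.presheaf.stalk x) := by
    rw [Module.mem_support_iff_of_finite]
    exact hAnnq
  have hm_supp : IsLocalRing.closedPoint (X.presheaf.stalk x) ∈
      Module.support (X.presheaf.stalk x) (F.presheaf.stalk x) := by
    rw [Module.mem_support_iff_of_finite]
    apply IsLocalRing.le_maximalIdeal
    intro htop
    have h1 : (1 : X.presheaf.stalk x) ∈ Module.annihilator (X.presheaf.stalk x) (F.presheaf.stalk x) := by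
      rw [htop]; trivial
    obtain ⟨ν, hν⟩ := exists_ne (0 : F.presheaf.stalk x)
    exact hν (by simpa using (Module.mem_annihilator.1 h1) ν)
  unfold Module.supportDim
  rw [Order.krullDim_pos_iff]
  refine ⟨⟨_, hq_supp⟩, ⟨_, hm_supp⟩, ?_⟩
  rw [Subtype.mk_lt_mk, ← PrimeSpectrum.asIdeal_lt_asIdeal]
  refine lt_of_le_of_ne (IsLocalRing.le_maximalIdeal hqprime.ne_top) ?_
  intro heq
  apply hPne
  rw [← hqcomap]
  have heq' : q = IsLocalRing.maximalIdeal (X.presheaf.stalk x) := heq
  rw [heq']
  rfl

/-- Let X be a locally Noetherian scheme and F a coherent O_X-module. Then F has no embedded associated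
points (every associated point of F is maximal among the associated points of F under
specialization) if and only if F has property (S_1): for every point x, depth F_x ≥ min(1, dim Supp
F_x), where dim Supp F_x is the Krull dimension of the support of the O_{X,x}-module F_x (for F_x =
0 the depth is infinite and the support empty, so the condition holds). -/
theorem result (X : Scheme.{u}) [IsLocallyNoetherian X] (F : X.Modules) (hF : Coh.IsCoh F) :
    (∀ x : ↥X, Curv2.IsAssPoint F x → ∀ y : ↥X, Curv2.IsAssPoint F y → y ⤳ x → y = x) ↔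
      ∀ x : ↥X, min (1 : WithBot ℕ∞) (Module.supportDim ↑(X.presheaf.stalk x) ↑(F.presheaf.stalk x)) ≤
        ((LocCoh.depth (X.presheaf.stalk x) (F.presheaf.stalk x) : ℕ∞) : WithBot ℕ∞) := by
  haveI : F.IsQuasicoherent := hF.1
  haveI : SheafOfModules.IsFiniteType.{u} (R := X.ringCatSheaf) F := hF.2
  have hfin : ∀ x : X, Module.Finite (X.presheaf.stalk x) (F.presheaf.stalk x) := by
    intro x
    obtain ⟨U, hU0, hxU, -⟩ := (Opens.isBasis_iff_nbhd.1 X.isBasis_affineOpens) (show x ∈ (⊤ : X.Opens) from trivial)
    have hU : IsAffineOpen U := hU0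
    haveI : Module.Finite Γ(X, U) Γ(F, U) := Groth.Agent.Lib.Helper28.FinType.finite_of_isAffineOpen F hU
    exact Groth.Agent.S4637.finite_stalk F hU (isLocOn_of_isQuasicoherent F hU) x hxU
  have hnak : ∀ x : X, Nontrivial ↑(F.presheaf.stalk x) →
      IsLocalRing.maximalIdeal (X.presheaf.stalk x) • (⊤ : Submodule (X.presheaf.stalk x) (F.presheaf.stalk x)) ≠ ⊤ := by
    intro x hnt htop
    haveI := hfin x
    have : (⊤ : Submodule (X.presheaf.stalk x) (F.presheaf.stalk x)) = ⊥ :=
      Submodule.eq_bot_of_le_smul_of_le_jacobson_bot (IsLocalRing.maximalIdeal (X.presheaf.stalk x)) _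
        Module.Finite.fg_top (le_of_eq htop.symm) (IsLocalRing.maximalIdeal_le_jacobson ⊥)
    obtain ⟨ν, hν⟩ := exists_ne (0 : F.presheaf.stalk x)
    exact hν ((Submodule.mem_bot _).1 (this ▸ Submodule.mem_top))
  constructor
  · intro hNE x
    haveI := hfin x
    by_cases hsub : Subsingleton ↑(F.presheaf.stalk x)
    · rw [Module.supportDim_eq_bot_of_subsingleton]
      simp
    · have hnt : Nontrivial ↑(F.presheaf.stalk x) := not_subsingleton_iff_nontrivial.1 hsub
      by_cases hass : Curv2.IsAssPoint F x
      · -- `x` is a maximal point of the support, so the stalk has finite length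
        have h1 := (Groth.Agent.S4636.result F hF x).1 ⟨hass, fun y hy hyx => hNE x hass y hy hyx⟩
        have h2 := (Groth.Agent.S4637.result F hF x).1 h1
        haveI : IsArtinian (X.presheaf.stalk x) (F.presheaf.stalk x) :=
          (isFiniteLength_iff_isNoetherian_isArtinian.1 h2.2).2
        obtain ⟨k, hk⟩ := Groth.Agent.S4637.exists_pow_smul_top_eq_bot (A := X.presheaf.stalk x)
          (N := F.presheaf.stalk x)
        have hsd := supportDim_le_zero_of_pow_smul_eq_bot k hk
        refine le_trans (min_le_right _ _) (le_trans hsd ?_)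
        exact_mod_cast (zero_le : (0 : ℕ∞) ≤ LocCoh.depth (X.presheaf.stalk x) (F.presheaf.stalk x))
      · have hmem : IsLocalRing.maximalIdeal (X.presheaf.stalk x) ∉
            associatedPrimes (X.presheaf.stalk x) (F.presheaf.stalk x) := hass
        obtain ⟨a, ha, hreg⟩ := exists_regular_mem_maximalIdeal hmem
        have hd := one_le_depth_of_regular a ha hreg
        refine le_trans (min_le_left _ _) ?_
        exact WithBot.coe_le_coe.2 hd
  · intro hS1 x hx y hy hyx
    by_contra hne
    have hwx := (isAssPoint_iff_isWeakAssPoint F x).1 hx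
    have hwy := (isAssPoint_iff_isWeakAssPoint F y).1 hy
    have hntx := Groth.Agent.S4636.nontrivial_stalk_of_isWeakAssPoint F x hwx
    have hnty := Groth.Agent.S4636.nontrivial_stalk_of_isWeakAssPoint F y hwy
    have hpos := supportDim_pos_of_specializes F hF x y hyx hne hnty hntx
    have h1 : (1 : WithBot ℕ∞) ≤ Module.supportDim (X.presheaf.stalk x) (F.presheaf.stalk x) := by
      unfold Module.supportDim at hpos ⊢
      rw [Order.one_le_krullDim_iff]
      exact Order.krullDim_pos_iff.1 hpos
    have h2 := hS1 x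
    rw [min_eq_left h1] at h2
    have h3 : (1 : ℕ∞) ≤ LocCoh.depth (X.presheaf.stalk x) (F.presheaf.stalk x) := WithBot.coe_le_coe.1 h2
    obtain ⟨a, ha, hreg⟩ := exists_regular_of_one_le_depth (hnak x hntx) h3
    obtain ⟨ν, hν⟩ := hwx
    exact false_of_regular_of_radical_ann a ha hreg ν hν

end Groth.Agent.S8871
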