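import Groth.Statements.S5855
import Groth.Agent.Lib.Helper29.ZClosLib3
import Groth.Agent.S8871

set_option autoImplicit false
universe u
open ZClos

namespace Groth.Agent.S5855



section Helpers
open CategoryTheory CategoryTheory.Limits AlgebraicGeometry TopologicalSpace Opposite
open ZClos Groth.Agent.Lib.Helper28.QCohLoc Groth.Agent.Lib.Helper29.ZClosLib
  Groth.Agent.Lib.Helper29.QCohStalk

variable {X : Scheme.{u}} (Z : Set X) (F : X.Modules)

theorem rhoStalk_gm (V : X.Opens) (x : X) (hx : x ∈ V) (s : Γ(F, V)) :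
    rhoStalk Z F x (gm F V x hx s) = gm ((H0 Z).obj F) V x hx ((rhoApp Z F).app V s) :=
  TopCat.Presheaf.stalkFunctor_map_germ_apply V x hx (rhoApp Z F).mapPresheaf s

/-- (⇒) of the associated point criterion -/
theorem not_ass_of_isZPureAt [IsLocallyNoetherian X] {Z : Set X} (hZ : StableUnderSpecialization Z)
    (F : X.Modules) [F.IsQuasicoherent] (x : X) (h : ZClos.IsZPureAt Z F x)
    (x' : X) (hsp : x' ⤳ x) (hx'Z : x' ∈ Z) : x' ∉ AssSch.Ass F := by
  intro hass
  obtain ⟨U, hU0, hxU, -⟩ := (Opens.isBasis_iff_nbhd.1 X.isBasis_affineOpens) (show x ∈ (⊤ : X.Opens) from trivial)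
  have hU : IsAffineOpen U := hU0
  have hloc := isLocOn_of_isQuasicoherent F hU
  haveI : IsNoetherianRing Γ(X, U) := IsLocallyNoetherian.component_noetherian ⟨U, hU0⟩
  have hx'U : x' ∈ U := hsp.mem_open U.2 hxU
  have hweak : Curv2.IsWeakAssPoint F x' := (isAssPoint_iff_isWeakAssPoint F x').1 hass
  obtain ⟨m, hm⟩ := Groth.Agent.Lib.Helper29.QCohStalk.exists_ann_eq_germPrime_of_isWeakAssPoint hU hloc x' hx'U hweak
  -- the closed set
  have hclZ : closure ({x'} : Set X) ⊆ Z := by
    intro y hy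
    exact hZ (specializes_iff_mem_closure.2 hy) hx'Z
  let T : Cl Z := ⟨⟨closure {x'}, isClosed_closure⟩, hclZ⟩
  have hres : res F (Op_le T U) m = 0 := by
    refine Groth.Agent.Lib.Helper29.QCohStalk.eq_zero_of_forall_gm_eq_zero _ _ fun y hy => ?_
    have hy' := (mem_Op_iff T U y).1 hy
    have hyU : y ∈ U := hy'.2
    rw [gm_res F (Op_le T U) y hy m]
    rw [gm_eq_zero_iff hU hloc y hyU]
    by_contra hcon
    push Not at hcon
    apply hy'.1
    have hle : germPrime U x' hx'U ≤ germPrime U y hyU := by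
      intro s hs
      by_contra hsy
      exact hcon s hsy ((mem_ann m s).1 (by rw [hm]; exact hs))
    exact specializes_iff_mem_closure.1
      (Groth.Agent.Lib.Helper29.QCohStalk.specializes_of_germPrime_le hU x' y hx'U hyU hle)
  have hρ : (rhoApp Z F).app U m = 0 := by
    rw [rho_app_eq Z F T U m, hres, cinj_zero]
  have h0 : rhoStalk Z F x (gm F U x hxU m) = 0 := by
    rw [rhoStalk_gm, hρ]
    exact gm_zero _ U x hxU
  have h1 : gm F U x hxU m = 0 := by
    apply h
    rw [h0]
    exact (map_zero _).symm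
  have h2 : gm F U x hxU m ≠ 0 := by
    rw [gm_ne_zero_iff hU hloc, hm]
    exact Groth.Agent.Lib.Helper29.QCohStalk.germPrime_le_of_specializes x' x hx'U hxU hsp
  exact h2 h1

/-- (⇐) of the associated point criterion -/
theorem isZPureAt_of_not_ass [IsLocallyNoetherian X] {Z : Set X}
    (F : X.Modules) [F.IsQuasicoherent] (x : X)
    (h : ∀ x' : X, x' ⤳ x → x' ∈ Z → x' ∉ AssSch.Ass F) : ZClos.IsZPureAt Z F x := by
  unfold ZClos.IsZPureAt
  rw [← AddMonoidHom.coe_coe, injective_iff_map_eq_zero]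
  intro a ha
  obtain ⟨V, hxV, s, rfl⟩ := TopCat.Presheaf.germ_exist F.presheaf a
  -- shrink to an affine open on which `ρ(s)` vanishes
  have ha' : gm ((H0 Z).obj F) V x hxV ((rhoApp Z F).app V s) = 0 := by
    rw [← rhoStalk_gm]; exact ha
  have ha'' : gm ((H0 Z).obj F) V x hxV ((rhoApp Z F).app V s) = gm ((H0 Z).obj F) V x hxV 0 := by
    rw [ha']; exact (gm_zero _ V x hxV).symm
  obtain ⟨W, hxW, iWV, iWV', hW⟩ := TopCat.Presheaf.germ_eq ((H0 Z).obj F).presheaf x hxV hxV _ _ ha''
  obtain ⟨U, hU0, hxU, hUW⟩ := (Opens.isBasis_iff_nbhd.1 X.isBasis_affineOpens) hxW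
  have hU : IsAffineOpen U := hU0
  have hloc := isLocOn_of_isQuasicoherent F hU
  have hUV : U ≤ V := hUW.trans iWV.le
  set m : Γ(F, U) := res F hUV s with hm
  have hρ : (rhoApp Z F).app U m = 0 := by
    rw [hm, rho_res Z F hUV s]
    have h1 : res ((H0 Z).obj F) hUV ((rhoApp Z F).app V s) =
        res ((H0 Z).obj F) hUW (res ((H0 Z).obj F) iWV.le ((rhoApp Z F).app V s)) := (res_res _ _ _ _).symm
    rw [h1]
    have h2 : res ((H0 Z).obj F) iWV.le ((rhoApp Z F).app V s) = 0 := by
      have := hW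
      rw [map_zero] at this
      exact this
    rw [h2, res_zero]
  rw [rho_app_eq Z F ⊥ U m] at hρ
  obtain ⟨T', hT, h0⟩ := cinj_eq_zero Z F U hU.isCompact ⊥ _ hρ
  rw [res_res] at h0
  -- the germ
  have hgm : gm F V x hxV s = gm F U x hxU m := (gm_res F hUV x hxU s).symm
  change gm F V x hxV s = 0
  rw [hgm]
  by_contra hne
  have hann : ann (R := Γ(X, U)) m ≤ germPrime U x hxU := (gm_ne_zero_iff hU hloc x hxU m).1 hne
  obtain ⟨q, hq, hqle⟩ := Ideal.exists_minimalPrimes_le hann
  haveI : q.IsPrime := hq.1.1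
  let P : PrimeSpectrum Γ(X, U) := ⟨q, inferInstance⟩
  set x' : X := hU.fromSpec P with hx'
  have hx'U : x' ∈ U := fromSpec_mem hU P
  have hgp : germPrime U x' hx'U = q := germPrime_fromSpec hU P
  have hsp : x' ⤳ x :=
    Groth.Agent.Lib.Helper29.QCohStalk.specializes_of_germPrime_le hU x' x hx'U hxU (by rw [hgp]; exact hqle)
  have hweak : Curv2.IsWeakAssPoint F x' := isWeakAssPoint_fromSpec hU hloc P m hq
  have hass : x' ∈ AssSch.Ass F := (isAssPoint_iff_isWeakAssPoint F x').2 hweak
  have hgm' : gm F U x' hx'U m ≠ 0 := by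
    rw [gm_ne_zero_iff hU hloc, hgp]
    exact hq.1.2
  have hx'Z : x' ∈ Z := by
    by_contra hnZ
    have hx'T : x' ∉ (T'.1 : Set X) := fun hT' => hnZ (T'.2 hT')
    have hmem : x' ∈ Op Z T' U := (mem_Op_iff T' U x').2 ⟨hx'T, hx'U⟩
    apply hgm'
    rw [← gm_res F (Op_le T' U) x' hmem m, h0]
    exact gm_zero F _ x' hmem
  exact h x' hsp hx'Z hass

/-- depth at least one means the point is not associated -/
theorem one_le_depth_iff_not_ass [IsLocallyNoetherian X] (F : X.Modules) (hF : Coh.IsCoh F) (x : X) :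
    (1 : ℕ∞) ≤ LocCoh.depth (X.presheaf.stalk x) (F.presheaf.stalk x) ↔ x ∉ AssSch.Ass F := by
  haveI : F.IsQuasicoherent := hF.1
  haveI : SheafOfModules.IsFiniteType.{u} (R := X.ringCatSheaf) F := hF.2
  obtain ⟨U, hU0, hxU, -⟩ := (Opens.isBasis_iff_nbhd.1 X.isBasis_affineOpens) (show x ∈ (⊤ : X.Opens) from trivial)
  have hU : IsAffineOpen U := hU0
  have hloc := isLocOn_of_isQuasicoherent F hU
  haveI : Module.Finite Γ(X, U) Γ(F, U) := Groth.Agent.Lib.Helper28.FinType.finite_of_isAffineOpen F hU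
  haveI hfinN : Module.Finite (X.presheaf.stalk x) (F.presheaf.stalk x) :=
    Groth.Agent.S4637.finite_stalk F hU hloc x hxU
  constructor
  · intro hd hass
    obtain ⟨ν, hν⟩ := (isAssPoint_iff_isWeakAssPoint F x).1 hass
    have hν' : (ann (R := X.presheaf.stalk x) ν).radical = IsLocalRing.maximalIdeal (X.presheaf.stalk x) := hν
    by_cases hne : IsLocalRing.maximalIdeal (X.presheaf.stalk x) • (⊤ : Submodule (X.presheaf.stalk x) (F.presheaf.stalk x)) = ⊤
    · -- Nakayama: the stalk is zero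
      have hbot : (⊤ : Submodule (X.presheaf.stalk x) (F.presheaf.stalk x)) = ⊥ :=
        Submodule.eq_bot_of_le_smul_of_le_jacobson_bot _ _ (Module.Finite.fg_top) hne.ge
          (IsLocalRing.maximalIdeal_le_jacobson _)
      have hν0 : ν = 0 := by
        have : ν ∈ (⊤ : Submodule (X.presheaf.stalk x) (F.presheaf.stalk x)) := trivial
        rw [hbot] at this
        exact this
      have htop : ann (R := X.presheaf.stalk x) ν = ⊤ := by
        rw [hν0, eq_top_iff]
        intro z _
        rw [mem_ann, smul_zero]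
      rw [htop, Ideal.radical_top] at hν'
      exact (IsLocalRing.maximalIdeal.isMaximal _).ne_top hν'.symm
    · obtain ⟨a, ha, hreg⟩ := Groth.Agent.S8871.exists_regular_of_one_le_depth hne hd
      exact Groth.Agent.S8871.false_of_regular_of_radical_ann a ha hreg ν hν'
  · intro hass
    have h1 : IsLocalRing.maximalIdeal (X.presheaf.stalk x) ∉
        associatedPrimes (X.presheaf.stalk x) (F.presheaf.stalk x) := fun h => hass h
    obtain ⟨a, ha, hreg⟩ := Groth.Agent.S8871.exists_regular_mem_maximalIdeal h1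
    exact Groth.Agent.S8871.one_le_depth_of_regular a ha hreg

end Helpers

open CategoryTheory CategoryTheory.Limits AlgebraicGeometry in
/-- For a locally Noetherian scheme X, a subset Z of X stable under specialization, a coherent
O_X-module F and a point x, F is Z-pure at x (the map induced on stalks at x by ρ_{X/Z} : F →
H⁰_{X/Z}(F) is injective) if and only if the stalk F_{x'} has depth at least 1 over O_{X,x'} at
every generization x' of x lying in Z. -/
theorem result (X : Scheme.{u}) [IsLocallyNoetherian X] (Z : Set X)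
    (hZ : StableUnderSpecialization Z) (F : X.Modules) (hF : Coh.IsCoh F) (x : X) :
    ZClos.IsZPureAt Z F x ↔
      ∀ x' : X, x' ⤳ x → x' ∈ Z → (1 : ℕ∞) ≤ LocCoh.depth (X.presheaf.stalk x') (F.presheaf.stalk x') := by
  haveI : F.IsQuasicoherent := hF.1
  constructor
  · intro h x' hsp hx'
    rw [one_le_depth_iff_not_ass F hF x']
    exact not_ass_of_isZPureAt hZ F x h x' hsp hx'
  · intro h
    refine isZPureAt_of_not_ass F x fun x' hsp hx' => ?_
    rw [← one_le_depth_iff_not_ass F hF x']
    exact h x' hsp hx'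



end Groth.Agent.S5855
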