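import Groth.Statements.S5856
import Groth.Agent.Lib.Helper29.DepthOpen
import Groth.Agent.S5855

set_option autoImplicit false
universe u
open ZClos

namespace Groth.Agent.S5856



section Helpers
open CategoryTheory CategoryTheory.Limits AlgebraicGeometry TopologicalSpace Opposite
open RingTheory.Sequence
open ZClos Groth.Agent.Lib.Helper28.QCohLoc Groth.Agent.Lib.Helper29.ZClosLib
  Groth.Agent.Lib.Helper29.QCohStalk Groth.Agent.Lib.Helper29.DepthOpen
  Groth.Agent.Lib.Helper21.DepthKit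
open Groth.Agent.Lib.Helper7.Hartogs (idealOf mem_idealOf)
open scoped Pointwise

variable {X : Scheme.{u}}

theorem germPrime_congr (U : X.Opens) {y x : X} (e : y = x) (hy : y ∈ U) (hx : x ∈ U) :
    germPrime U y hy = germPrime U x hx := by
  subst e; rfl

theorem germPrime_eq_primeIdealOf {U : X.Opens} (hU : IsAffineOpen U) (x : X) (hx : x ∈ U) :
    germPrime U x hx = (hU.primeIdealOf ⟨x, hx⟩).asIdeal := by
  rw [← germPrime_fromSpec hU (hU.primeIdealOf ⟨x, hx⟩)]
  exact (germPrime_congr U (hU.fromSpec_primeIdealOf ⟨x, hx⟩) _ hx).symm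

theorem enat_eq_one {d : ℕ∞} (h1 : 1 ≤ d) (h2 : ¬ (2 : ℕ∞) ≤ d) : d = 1 := by
  rw [not_le] at h2
  have : d < 1 + 1 := by rwa [one_add_one_eq_two]
  exact le_antisymm (Order.le_of_lt_add_one this) h1

/-- (⇒): a coherent module Z-closed at `x` has depth at least two at every generization of `x` in `Z` -/
theorem two_le_depth_of_isZClosedAt [IsLocallyNoetherian X] (Z : Set X)
    (hZ : StableUnderSpecialization Z) (F : X.Modules) (hF : Coh.IsCoh F) (x : X)
    (hbij : ZClos.IsZClosedAt Z F x) (x' : X) (hsp : x' ⤳ x) (hx'Z : x' ∈ Z) :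
    (2 : ℕ∞) ≤ LocCoh.depth (X.presheaf.stalk x') (F.presheaf.stalk x') := by
  haveI : F.IsQuasicoherent := hF.1
  haveI : SheafOfModules.IsFiniteType.{u} (R := X.ringCatSheaf) F := hF.2
  have h1 := (Groth.Agent.S5855.result X Z hZ F hF x).1 hbij.1
  have hclZ : closure ({x'} : Set X) ⊆ Z := by
    intro y hy
    exact hZ (specializes_iff_mem_closure.2 hy) hx'Z
  let T : Cl Z := ⟨⟨closure {x'}, isClosed_closure⟩, hclZ⟩
  have hTmem : ∀ y : X, y ∉ T.U → y ∈ Z := fun y hy => T.2 (by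
    by_contra hyT
    exact hy hyT)
  obtain ⟨W, hW, hxW, -, hWd⟩ := exists_affine_nbhd_depth F T.U 1 x ⊤ trivial
    (fun y hy hyU => by
      have := h1 y hy (hTmem y hyU)
      exact_mod_cast this)
  haveI : IsNoetherianRing Γ(X, W) := IsLocallyNoetherian.component_noetherian ⟨W, hW⟩
  haveI : Module.Finite Γ(X, W) Γ(F, W) :=
    Groth.Agent.Lib.Helper28.FinType.finite_of_isAffineOpen F hW
  have hloc := isLocOn_of_isQuasicoherent F hW
  have hx'W : x' ∈ W := hsp.mem_open W.2 hxW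
  have hx'U : x' ∉ T.U := fun h => h (subset_closure rfl)
  have hIq : idealOf T.U W ≤ (hW.primeIdealOf ⟨x', hx'W⟩).asIdeal :=
    (idealOf_le_iff T.U hW x' hx'W).2 hx'U
  have hds := Groth.Agent.Lib.Helper7.StalkLoc.depth_stalk_eq F hW hloc x' hx'W
  by_cases hIM : idealOf T.U W • (⊤ : Submodule Γ(X, W) Γ(F, W)) = ⊤
  · rw [hds]
    refine le_trans ?_ (idealDepth_le_depth_localization (idealOf T.U W) _ hIq)
    unfold LocCoh.idealDepth
    rw [if_pos hIM]
    exact le_top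
  have hge : (1 : ℕ∞) ≤ LocCoh.idealDepth (idealOf T.U W) Γ(F, W) := by
    have := idealDepth_ge_of_forall F T.U hW 1 (by exact_mod_cast hWd)
    exact this
  obtain ⟨a, haI, hareg⟩ := exists_regular_of_one_le_idealDepth (idealOf T.U W) hIM hge
  by_contra hcon
  have hd1 : LocCoh.depth (X.presheaf.stalk x') (F.presheaf.stalk x') = 1 :=
    enat_eq_one (h1 x' hsp hx'Z) hcon
  have hwr : IsWeaklyRegular Γ(F, W) [a] := by
    rw [isWeaklyRegular_cons_iff]
    exact ⟨hareg, IsWeaklyRegular.nil _ _⟩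
  have hq := mem_ass_quot_of_depth_eq (hW.primeIdealOf ⟨x', hx'W⟩).asIdeal [a]
    (fun r hr => by
      rw [List.mem_singleton] at hr
      rw [hr]
      exact hIq haI) hwr (by rw [← hds, hd1]; rfl)
  obtain ⟨hqp, nbar, hqn⟩ := isAssociatedPrime_iff.1 hq
  obtain ⟨n, rfl⟩ := Submodule.Quotient.mk_surjective _ nbar
  -- membership in the colon ideal, elementwise
  have hcolon : ∀ c : Γ(X, W), c ∈ (hW.primeIdealOf ⟨x', hx'W⟩).asIdeal ↔ ∃ m : Γ(F, W), c • n = a • m := by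
    intro c
    rw [hqn, Submodule.mem_colon_singleton, Submodule.mem_bot, ← Submodule.Quotient.mk_smul,
      Submodule.Quotient.mk_eq_zero]
    have : (Ideal.ofList [a] • ⊤ : Submodule Γ(X, W) Γ(F, W)) = a • (⊤ : Submodule Γ(X, W) Γ(F, W)) := by
      rw [Ideal.ofList_singleton, Submodule.ideal_span_singleton_smul]
    rw [this, Submodule.mem_smul_pointwise_iff_exists]
    constructor
    · rintro ⟨m, -, hm⟩
      exact ⟨m, hm.symm⟩
    · rintro ⟨m, hm⟩
      exact ⟨m, trivial, hm.symm⟩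
  obtain ⟨tt, htt⟩ := exists_div_section F (idealOf T.U W) (Op Z T W) (Op_le T W) (hsub_Op Z T W)
    (hcov_Op Z T hW) a hareg n (fun c hc => (hcolon c).1 (hIq hc))
  -- the class of `tt` in the Z-closure and a preimage of its germ
  obtain ⟨ν, hν⟩ := hbij.2 (gm ((H0 Z).obj F) W x hxW (cinj Z F T W tt))
  obtain ⟨V, hxV, s, rfl⟩ := TopCat.Presheaf.germ_exist F.presheaf ν
  have hν' : gm ((H0 Z).obj F) V x hxV ((rhoApp Z F).app V s) =
      gm ((H0 Z).obj F) W x hxW (cinj Z F T W tt) := by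
    rw [← rhoStalk_gm']; exact hν
  obtain ⟨W₁, hxW₁, iV, iW, hW₁⟩ := TopCat.Presheaf.germ_eq ((H0 Z).obj F).presheaf x hxV hxW _ _ hν'
  obtain ⟨W₂, hW₂, hxW₂, hW₂W₁⟩ := exists_isAffineOpen_mem_and_subset (U := W₁) hxW₁
  have hW₂V : W₂ ≤ V := fun z hz => iV.le (hW₂W₁ hz)
  have hW₂W : W₂ ≤ W := fun z hz => iW.le (hW₂W₁ hz)
  have heq : (rhoApp Z F).app W₂ (res F hW₂V s) = cinj Z F T W₂ (res F (Op_mono T hW₂W) tt) := by
    rw [rho_res Z F hW₂V s, ← cinj_res Z F T hW₂W tt]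
    have h3 := congrArg (res ((H0 Z).obj F) (show W₂ ≤ W₁ from hW₂W₁)) hW₁
    have e1 : res ((H0 Z).obj F) (show W₂ ≤ W₁ from hW₂W₁)
        (((H0 Z).obj F).presheaf.map iV.op ((rhoApp Z F).app V s)) =
        res ((H0 Z).obj F) hW₂V ((rhoApp Z F).app V s) := by
      rw [map_eq_res, res_res]
    have e2 : res ((H0 Z).obj F) (show W₂ ≤ W₁ from hW₂W₁)
        (((H0 Z).obj F).presheaf.map iW.op (cinj Z F T W tt)) =
        res ((H0 Z).obj F) hW₂W (cinj Z F T W tt) := by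
      rw [map_eq_res, res_res]
    rw [e1, e2] at h3
    exact h3
  rw [rho_app_eq Z F T W₂ (res F hW₂V s)] at heq
  obtain ⟨T'', hT1, hT2, heq'⟩ := cinj_eq Z F W₂ hW₂.isCompact T T _ _ heq
  rw [res_res, res_res, res_res] at heq'
  have hloc₂ := isLocOn_of_isQuasicoherent F hW₂
  -- the difference `a s - n` dies in the Z-closure
  set δ : Γ(F, W₂) := resO hW₂W a • res F hW₂V s - res F hW₂W n with hδ
  have hOp : Op Z T'' W₂ ≤ Op Z T W := Op_anti_mono hT2 hW₂W
  have hδ0 : res F (Op_le T'' W₂) δ = 0 := by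
    have A2 := congrArg (res F hOp) htt
    rw [res_smul, resO_resO, res_res] at A2
    rw [hδ, res_sub, res_smul, resO_resO, res_res, res_res, heq', A2, sub_self]
  have hρδ : (rhoApp Z F).app W₂ δ = 0 := by
    rw [rho_app_eq Z F T'' W₂ δ, hδ0, cinj_zero]
  have hgδ : gm F W₂ x hxW₂ δ = 0 := by
    apply hbij.1
    rw [rhoStalk_gm', hρδ]
    exact (gm_zero _ W₂ x hxW₂).trans (map_zero _).symm
  obtain ⟨g, hg, hgδ'⟩ := (gm_eq_zero_iff hW₂ hloc₂ x hxW₂ δ).1 hgδ
  have hx'W₂ : x' ∈ W₂ := hsp.mem_open W₂.2 hxW₂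
  have hg' : g ∉ germPrime W₂ x' hx'W₂ := fun h =>
    hg (germPrime_le_of_specializes x' x hx'W₂ hxW₂ hsp h)
  have hgδx' : gm F W₂ x' hx'W₂ δ = 0 := (gm_eq_zero_iff hW₂ hloc₂ x' hx'W₂ δ).2 ⟨g, hg', hgδ'⟩
  -- the resulting relation in the stalk at `x'`
  set μ : F.presheaf.stalk x' := gm F W₂ x' hx'W₂ (res F hW₂V s) with hμ
  have hrel : X.presheaf.germ W x' hx'W a • μ = gm F W x' hx'W n := by
    have h3 : gm F W₂ x' hx'W₂ (resO hW₂W a • res F hW₂V s) = gm F W₂ x' hx'W₂ (res F hW₂W n) := by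
      have h4 : gm F W₂ x' hx'W₂ δ = gm F W₂ x' hx'W₂ (resO hW₂W a • res F hW₂V s) -
          gm F W₂ x' hx'W₂ (res F hW₂W n) := map_sub _ _ _
      rw [hgδx'] at h4
      exact (sub_eq_zero.1 h4.symm)
    rw [gm_smul, germ_resO, gm_res F hW₂W x' hx'W₂ n] at h3
    exact h3
  obtain ⟨g₁, m₁, hg₁, hgm₁⟩ := exists_germ_smul_eq F hW hloc x' hx'W μ
  have hzero : gm F W x' hx'W (g₁ • n - a • m₁) = 0 := by
    have h4 : gm F W x' hx'W (g₁ • n - a • m₁) = gm F W x' hx'W (g₁ • n) - gm F W x' hx'W (a • m₁) :=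
      map_sub _ _ _
    rw [h4, gm_smul, gm_smul, ← hrel, ← hgm₁, smul_smul, smul_smul, mul_comm, sub_self]
  obtain ⟨g₂, hg₂, hg₂0⟩ := (gm_eq_zero_iff hW hloc x' hx'W _).1 hzero
  have hmem : g₂ * g₁ ∈ (hW.primeIdealOf ⟨x', hx'W⟩).asIdeal := by
    rw [hcolon]
    refine ⟨g₂ • m₁, ?_⟩
    rw [smul_sub, sub_eq_zero] at hg₂0
    rw [mul_smul, hg₂0, smul_comm]
  rw [← germPrime_eq_primeIdealOf hW x' hx'W] at hmem
  rcases (inferInstance : (germPrime W x' hx'W).IsPrime).mem_or_mem hmem with h | h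
  · exact hg₂ h
  · exact (notMem_germPrime_iff W x' hx'W g₁).2 hg₁ h

end Helpers

open CategoryTheory CategoryTheory.Limits AlgebraicGeometry in
/-- For a locally Noetherian scheme X, a subset Z of X stable under specialization, a coherent
O_X-module F and a point x, F is Z-closed at x (the map induced on stalks at x by ρ_{X/Z} : F →
H⁰_{X/Z}(F) is bijective) if and only if the stalk F_{x'} has depth at least 2 over O_{X,x'} at
every generization x' of x lying in Z. -/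
theorem result (X : Scheme.{u}) [IsLocallyNoetherian X] (Z : Set X)
    (hZ : StableUnderSpecialization Z) (F : X.Modules) (hF : Coh.IsCoh F) (x : X) :
    ZClos.IsZClosedAt Z F x ↔
      ∀ x' : X, x' ⤳ x → x' ∈ Z → (2 : ℕ∞) ≤ LocCoh.depth (X.presheaf.stalk x') (F.presheaf.stalk x') := by
  haveI : F.IsQuasicoherent := hF.1
  haveI : SheafOfModules.IsFiniteType.{u} (R := X.ringCatSheaf) F := hF.2
  constructor
  · intro h x' hsp hx'
    exact two_le_depth_of_isZClosedAt Z hZ F hF x h x' hsp hx'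
  · intro h
    refine ⟨?_, Groth.Agent.Lib.Helper29.DepthOpen.surjective_rhoStalk_of_depth F Z x h⟩
    refine (Groth.Agent.S5855.result X Z hZ F hF x).2 fun x' hsp hx' => ?_
    exact le_trans (by norm_num) (h x' hsp hx')



end Groth.Agent.S5856
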