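import Groth.Statements.S5857
import Groth.Agent.Lib.Helper29.ZClosLib3
import Groth.Agent.Lib.Helper7.ModHartogsConv
import Groth.Agent.S5850
import Groth.Agent.S5843

set_option autoImplicit false
universe u
open ZClos

namespace Groth.Agent.S5857



section Helpers
open CategoryTheory CategoryTheory.Limits AlgebraicGeometry TopologicalSpace Opposite
open ZClos Groth.Agent.Lib.Helper28.QCohLoc Groth.Agent.Lib.Helper29.ZClosLib

/-- a `Z`-closed coherent module has depth at least two at the points of `Z` -/
theorem two_le_depth_of_isZClosed {X : Scheme.{u}} [IsLocallyNoetherian X] {Z : Set X}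
    (hZ : StableUnderSpecialization Z) (G : X.Modules) (hG : Coh.IsCoh G) (hcl : ZClos.IsZClosed Z G)
    (x : X) (hx : x ∈ Z) :
    (2 : ℕ∞) ≤ LocCoh.depth (X.presheaf.stalk x) (G.presheaf.stalk x) := by
  haveI : G.IsQuasicoherent := hG.1
  haveI : SheafOfModules.IsFiniteType.{u} (R := X.ringCatSheaf) G := hG.2
  have hclZ : closure ({x} : Set X) ⊆ Z := by
    intro y hy
    exact hZ (specializes_iff_mem_closure.2 hy) hx
  let T : Cl Z := ⟨⟨closure {x}, isClosed_closure⟩, hclZ⟩
  have hiso : IsIso (toDiagram Z G T) := (Groth.Agent.S5843.result X Z hZ G).1 hcl T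
  refine Groth.Agent.Lib.Helper7.ModHartogs.two_le_depth_stalk_of_bijective G T.U (fun V => ?_) x ?_
  · have h1 : IsIso ((toDiagram Z G T).app V) := inferInstance
    rw [ConcreteCategory.isIso_iff_bijective] at h1
    have h2 : Function.Bijective (res G (Op_le T V)) := h1
    have e : Op Z T V = V ⊓ T.U := by rw [Op_eq, inf_comm]
    have key : ∀ (O : X.Opens) (hO : O = V ⊓ T.U) (hle : O ≤ V), Function.Bijective (res G hle) →
        Function.Bijective (res G (inf_le_left : V ⊓ T.U ≤ V)) := by
      intro O hO hle hb
      subst hO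
      exact hb
    exact key _ e _ h2
  · intro hxU
    exact hxU (subset_closure rfl)

end Helpers

open CategoryTheory CategoryTheory.Limits AlgebraicGeometry in
/-- For a locally Noetherian scheme X, a subset Z of X stable under specialization and a coherent
O_X-module F whose Z-closure H⁰_{X/Z}(F) is coherent, the stalk of H⁰_{X/Z}(F) at every point of Z
has depth at least 2. -/
theorem result (X : Scheme.{u}) [IsLocallyNoetherian X] (Z : Set X)
    (hZ : StableUnderSpecialization Z) (F : X.Modules) (hF : Coh.IsCoh F)
    (hH : Coh.IsCoh ((ZClos.H0 Z).obj F)) (x : X) (hx : x ∈ Z) :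
    (2 : ℕ∞) ≤ LocCoh.depth (X.presheaf.stalk x) (((ZClos.H0 Z).obj F).presheaf.stalk x) := by
  exact two_le_depth_of_isZClosed hZ _ hH (Groth.Agent.S5850.result X Z hZ F) x hx



end Groth.Agent.S5857
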