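import Groth.Statements.S5858
import Groth.Agent.Lib.Helper29.QCohStalk2
import Groth.Agent.Lib.Helper21.DepthKit2
import Groth.Agent.Lib.Helper17.StalkExact
import Groth.Agent.S5857
import Groth.Agent.S5849
import Groth.Agent.S4637

set_option autoImplicit false
universe u
open ZClos

namespace Groth.Agent.S5858



section Helpers
open CategoryTheory CategoryTheory.Limits AlgebraicGeometry TopologicalSpace Opposite
open Groth.Agent.Lib.Helper28.QCohLoc Groth.Agent.Lib.Helper29.QCohStalk

variable {X : Scheme.{u}}

theorem germ_stalkSpecializes_apply {x y : X} (h : x ⤳ y) (W : X.Opens) (hyW : y ∈ W) (a : Γ(X, W)) :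
    (X.presheaf.stalkSpecializes h).hom (X.presheaf.germ W y hyW a) =
      X.presheaf.germ W x (h.mem_open W.2 hyW) a := by
  have := TopCat.Presheaf.germ_stalkSpecializes X.presheaf hyW h
  exact congrArg (fun f => f.hom a) this

/-- an associated point `x` of a quasi-coherent module gives an associated prime of the stalk at every
specialization `y` of `x`: the prime ideal of `x` in the local ring at `y` -/
theorem comap_mem_associatedPrimes_of_ass [IsLocallyNoetherian X] (G : X.Modules) [G.IsQuasicoherent]
    (x y : X) (h : x ⤳ y) (hx : x ∈ AssSch.Ass G) :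
    (IsLocalRing.maximalIdeal (X.presheaf.stalk x)).comap (X.presheaf.stalkSpecializes h).hom ∈
      associatedPrimes (X.presheaf.stalk y) (G.presheaf.stalk y) := by
  obtain ⟨W, hW0, hyW, -⟩ := (Opens.isBasis_iff_nbhd.1 X.isBasis_affineOpens) (show y ∈ (⊤ : X.Opens) from trivial)
  have hW : IsAffineOpen W := hW0
  have hloc := isLocOn_of_isQuasicoherent G hW
  haveI : IsNoetherianRing Γ(X, W) := IsLocallyNoetherian.component_noetherian ⟨W, hW0⟩
  have hxW : x ∈ W := h.mem_open W.2 hyW
  have hweak : Curv2.IsWeakAssPoint G x := (isAssPoint_iff_isWeakAssPoint G x).1 hx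
  obtain ⟨m, hm⟩ := exists_ann_eq_germPrime_of_isWeakAssPoint hW hloc x hxW hweak
  rw [AssociatedPrimes.mem_iff, isAssociatedPrime_iff]
  refine ⟨inferInstance, gm G W y hyW m, ?_⟩
  ext b
  rw [Ideal.mem_comap, Submodule.mem_colon_singleton, Submodule.mem_bot]
  obtain ⟨s', g, hg, hbg⟩ := stalk_affine_surj hW y hyW b
  have hgx : IsUnit ((X.presheaf.stalkSpecializes h).hom (X.presheaf.germ W y hyW g)) := hg.map _
  -- both sides are equivalent to `s' ∈ germPrime W x`
  have h1 : (X.presheaf.stalkSpecializes h).hom b ∈ IsLocalRing.maximalIdeal (X.presheaf.stalk x) ↔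
      s' ∈ germPrime W x hxW := by
    have e : (X.presheaf.stalkSpecializes h).hom b * (X.presheaf.stalkSpecializes h).hom (X.presheaf.germ W y hyW g) =
        X.presheaf.germ W x hxW s' := by
      rw [← map_mul, hbg, germ_stalkSpecializes_apply]
    unfold germPrime
    rw [Ideal.mem_comap, ← e]
    constructor
    · intro hb
      exact Ideal.mul_mem_right _ _ hb
    · intro hb
      rcases (IsLocalRing.maximalIdeal.isMaximal (X.presheaf.stalk x)).isPrime.mem_or_mem hb with h5 | h5
      · exact h5
      · exact absurd (Ideal.eq_top_of_isUnit_mem _ h5 hgx)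
          (IsLocalRing.maximalIdeal.isMaximal (X.presheaf.stalk x)).ne_top
  have h2 : b • gm G W y hyW m = 0 ↔ s' ∈ germPrime W x hxW := by
    have e : X.presheaf.germ W y hyW g • (b • gm G W y hyW m) = gm G W y hyW (s' • m) := by
      rw [smul_smul, mul_comm, hbg, gm_smul]
    constructor
    · intro hb
      rw [hb, smul_zero] at e
      obtain ⟨t, ht, ht0⟩ := (gm_eq_zero_iff hW hloc y hyW _).1 e.symm
      have h3 : t * s' ∈ germPrime W x hxW := by
        rw [← hm, mem_ann, mul_smul]
        exact ht0
      rcases (inferInstance : (germPrime W x hxW).IsPrime).mem_or_mem h3 with h5 | h5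
      · exact absurd (germPrime_le_of_specializes x y hxW hyW h h5) ht
      · exact h5
    · intro hs'
      have h3 : s' • m = 0 := by
        rw [← hm, mem_ann] at hs'
        exact hs'
      rw [h3, gm_zero] at e
      exact eq_zero_of_isUnit_smul hg e
  rw [h1, h2]

theorem ass_H0_of_ass [IsLocallyNoetherian X] (Z : Set X)
    (hZ : StableUnderSpecialization Z) (F : X.Modules) (x : X) (hx : x ∉ Z)
    (h : x ∈ AssSch.Ass F) : x ∈ AssSch.Ass ((ZClos.H0 Z).obj F) := by
  have hbij := Groth.Agent.S5849.result X Z hZ F x hx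
  let e : F.presheaf.stalk x ≃ₗ[X.presheaf.stalk x] ((ZClos.H0 Z).obj F).presheaf.stalk x :=
    LinearEquiv.ofBijective (Groth.Agent.Lib.Helper17.StalkExact.stalkLinearMap (ZClos.rhoApp Z F) x) hbij
  have h' : IsAssociatedPrime (IsLocalRing.maximalIdeal (X.presheaf.stalk x)) (F.presheaf.stalk x) := h
  exact (e.isAssociatedPrime_iff).1 h'

end Helpers

open CategoryTheory CategoryTheory.Limits AlgebraicGeometry in
/-- For a locally Noetherian scheme X, a subset Z of X stable under specialization and a coherent
O_X-module F whose Z-closure H⁰_{X/Z}(F) is coherent: for every associated point x of F outside Z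
and every specialization y of x lying in Z, the closure of y has codimension at least 2 in the
closure of x, that is, the quotient of O_{X,y} by the prime ideal of the generization x has
dimension at least 2. -/
theorem result (X : Scheme.{u}) [IsLocallyNoetherian X] (Z : Set X)
    (hZ : StableUnderSpecialization Z) (F : X.Modules) (hF : Coh.IsCoh F)
    (hH : Coh.IsCoh ((ZClos.H0 Z).obj F))
    (x : X) (hx : x ∈ AssSch.Ass F) (hxZ : x ∉ Z) (y : X) (hy : y ∈ Z) (h : x ⤳ y) :
    (2 : WithBot ℕ∞) ≤ ringKrullDim (X.presheaf.stalk y ⧸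
      (IsLocalRing.maximalIdeal (X.presheaf.stalk x)).comap (X.presheaf.stalkSpecializes h).hom) := by
  haveI : ((ZClos.H0 Z).obj F).IsQuasicoherent := hH.1
  haveI : SheafOfModules.IsFiniteType.{u} (R := X.ringCatSheaf) ((ZClos.H0 Z).obj F) := hH.2
  have hd := Groth.Agent.S5857.result X Z hZ F hF hH y hy
  have hxF' := ass_H0_of_ass Z hZ F x hxZ hx
  have hp := comap_mem_associatedPrimes_of_ass ((ZClos.H0 Z).obj F) x y h hxF'
  obtain ⟨W, hW0, hyW, -⟩ := (TopologicalSpace.Opens.isBasis_iff_nbhd.1 X.isBasis_affineOpens) (show y ∈ (⊤ : X.Opens) from trivial)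
  have hW : IsAffineOpen W := hW0
  haveI : Module.Finite Γ(X, W) Γ((ZClos.H0 Z).obj F, W) :=
    Groth.Agent.Lib.Helper28.FinType.finite_of_isAffineOpen _ hW
  haveI : Module.Finite (X.presheaf.stalk y) (((ZClos.H0 Z).obj F).presheaf.stalk y) :=
    Groth.Agent.S4637.finite_stalk _ hW (Groth.Agent.Lib.Helper28.QCohLoc.isLocOn_of_isQuasicoherent _ hW) y hyW
  have h3 := Groth.Agent.Lib.Helper21.DepthKit.depth_le_ringKrullDim_quotient_of_mem_associatedPrimes hp
  exact (WithBot.coe_le_coe.2 hd).trans h3



end Groth.Agent.S5858
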