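import Groth.Statements.S5859
import Groth.Agent.Lib.Helper29.IsoOpen
import Groth.Agent.S5856
import Groth.Agent.S5847
import Groth.Agent.S5849
import Groth.Agent.S5850

set_option autoImplicit false
universe u
open ZClos

namespace Groth.Agent.S5859



section Helpers
open CategoryTheory CategoryTheory.Limits AlgebraicGeometry TopologicalSpace Opposite
open ZClos Groth.Agent.Lib.Helper28.QCohLoc Groth.Agent.Lib.Helper29.ZClosLib
  Groth.Agent.Lib.Helper29.QCohStalk Groth.Agent.Lib.Helper29.DepthOpen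
  Groth.Agent.Lib.Helper21.DepthKit Groth.Agent.Lib.Helper17.StalkExact
open Groth.Agent.Lib.Helper7.Hartogs (idealOf mem_idealOf)

variable {X : Scheme.{u}}

/-- closedness of a restriction to an open subscheme forces depth at least two at the points of `Z` in it -/
theorem two_le_depth_of_isZClosed_restrict [IsLocallyNoetherian X] (Z : Set X)
    (hZ : StableUnderSpecialization Z) (F : X.Modules) (hF : Coh.IsCoh F) (V : X.Opens)
    (hV : ZClos.IsZClosed (V.ι.base ⁻¹' Z) ((Scheme.Modules.restrictFunctor V.ι).obj F))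
    (x' : X) (hx'V : x' ∈ V) (hx'Z : x' ∈ Z) :
    (2 : ℕ∞) ≤ LocCoh.depth (X.presheaf.stalk x') (F.presheaf.stalk x') := by
  haveI : F.IsQuasicoherent := hF.1
  haveI : SheafOfModules.IsFiniteType.{u} (R := X.ringCatSheaf) F := hF.2
  have hZV : StableUnderSpecialization (V.ι.base ⁻¹' Z) := hZ.preimage V.ι.base.hom.continuous
  obtain ⟨hinj, hsurj⟩ := (Groth.Agent.S5847.isZClosed_iff_crit _ _ hZV _).1 hV
  have hclZ : closure ({x'} : Set X) ⊆ Z := by
    intro y hy
    exact hZ (specializes_iff_mem_closure.2 hy) hx'Z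
  let T : Cl Z := ⟨⟨closure {x'}, isClosed_closure⟩, hclZ⟩
  let Ti := clRestrict V T
  let y' : V.toScheme := ⟨x', hx'V⟩
  obtain ⟨W', hW', hy'W', -⟩ := exists_isAffineOpen_mem_and_subset (X := V.toScheme)
    (U := (⊤ : V.toScheme.Opens)) (x := y') trivial
  set W : X.Opens := V.ι ''ᵁ W' with hWdef
  have hW : IsAffineOpen W := hW'.image_of_isOpenImmersion V.ι
  have hx'W : x' ∈ W := ⟨y', hy'W', rfl⟩
  have e : V.ι ''ᵁ (W' ⊓ Ti.U) = W ⊓ T.U := image_inf_clRestrict V T W'
  have hbij : Function.Bijective (res F (inf_le_left : W ⊓ T.U ≤ W)) := by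
    constructor
    · rw [injective_iff_map_eq_zero]
      intro s hs
      have h1 := hinj Ti W' hW'.isCompact s
      apply h1
      rw [restrict_res]
      exact (res_eq_zero_congr F e _ _ s).2 hs
    · intro t
      obtain ⟨s, hs⟩ := hsurj Ti W' hW'.isCompact (W' ⊓ Ti.U) rfl (res F e.le t)
      refine ⟨s, ?_⟩
      have hs' : res F (show V.ι ''ᵁ (W' ⊓ Ti.U) ≤ W from
          (Scheme.Hom.opensFunctor V.ι).monotone inf_le_left) (show Γ(F, W) from s) = res F e.le t := hs
      have h2 := congrArg (res F e.ge) hs'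
      rw [res_res, res_res, res_self] at h2
      exact h2
  haveI : IsNoetherianRing Γ(X, W) := IsLocallyNoetherian.component_noetherian ⟨W, hW⟩
  haveI : Module.Finite Γ(X, W) Γ(F, W) :=
    Groth.Agent.Lib.Helper28.FinType.finite_of_isAffineOpen F hW
  have h2 : (2 : ℕ∞) ≤ LocCoh.idealDepth (idealOf T.U W) Γ(F, W) := by
    refine Groth.Agent.Lib.Helper7.ModHartogs.two_le_idealDepth_of_bijective F (idealOf T.U W)
      (W ⊓ T.U) inf_le_left ?_ ?_ hbij
    · intro c hc
      exact le_inf (X.basicOpen_le c) hc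
    · intro y hy
      obtain ⟨c, hcU, hyc⟩ := hW.exists_basicOpen_le ⟨y, hy.2⟩ hy.1
      exact ⟨c, hcU, hyc⟩
  rw [Groth.Agent.Lib.Helper7.StalkLoc.depth_stalk_eq F hW (isLocOn_of_isQuasicoherent F hW) x' hx'W]
  refine h2.trans (idealDepth_le_depth_localization _ _ ?_)
  exact (idealOf_le_iff T.U hW x' hx'W).2 (fun h => h (subset_closure rfl))

theorem isZClosed_of_iso (Z : Set X) {G G' : X.Modules} (e : G ≅ G') (h : ZClos.IsZClosed Z G') :
    ZClos.IsZClosed Z G := by
  unfold ZClos.IsZClosed at h ⊢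
  have hn : e.hom ≫ rhoApp Z G' = rhoApp Z G ≫ (H0 Z).map e.hom := (rho Z).naturality e.hom
  have : rhoApp Z G = e.hom ≫ rhoApp Z G' ≫ inv ((H0 Z).map e.hom) := by
    rw [← Category.assoc, hn, Category.assoc, IsIso.hom_inv_id, Category.comp_id]
  rw [this]
  infer_instance

theorem app_bijective_of_stalk {F G : X.Modules} (φ : F ⟶ G) (V : X.Opens)
    (h : ∀ x ∈ V, Function.Bijective (stalkLinearMap φ x)) : Function.Bijective (φ.app V) := by
  exact TopCat.Presheaf.app_bijective_of_stalkFunctor_map_bijective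
    ((SheafOfModules.toSheaf.{u} X.ringCatSheaf).map φ) V (fun x hx => h x hx)

theorem isIso_restrict_of_stalk_bijective {F G : X.Modules} (φ : F ⟶ G) (U : X.Opens)
    (h : ∀ x ∈ U, Function.Bijective (stalkLinearMap φ x)) :
    IsIso ((Scheme.Modules.restrictFunctor U.ι).map φ) := by
  refine Scheme.Modules.Hom.isIso_iff_isIso_app.mpr fun W => ?_
  have hb : Function.Bijective (φ.app (U.ι ''ᵁ W)) := by
    apply app_bijective_of_stalk
    rintro x ⟨y, -, rfl⟩
    exact h _ y.2
  exact (ConcreteCategory.isIso_iff_bijective _).2 hb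


end Helpers

open CategoryTheory CategoryTheory.Limits AlgebraicGeometry in
/-- For a locally Noetherian scheme X, a subset Z of X stable under specialization and a coherent
O_X-module F whose Z-closure H⁰_{X/Z}(F) is coherent, let U be the set of points x such that the
stalk F_{x'} has depth at least 2 at every generization x' of x lying in Z. Then U is open, X ∖ U ⊆
Z, the restriction of F to U is (Z ∩ U)-closed, and every open subset V of X such that F|V is (Z ∩
V)-closed is contained in U. -/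
theorem result (X : Scheme.{u}) [IsLocallyNoetherian X] (Z : Set X)
    (hZ : StableUnderSpecialization Z) (F : X.Modules) (hF : Coh.IsCoh F)
    (hH : Coh.IsCoh ((ZClos.H0 Z).obj F)) :
    ∃ U : X.Opens, (U : Set X) = {x | ∀ x' : X, x' ⤳ x → x' ∈ Z →
        (2 : ℕ∞) ≤ LocCoh.depth (X.presheaf.stalk x') (F.presheaf.stalk x')} ∧
      (U : Set X)ᶜ ⊆ Z ∧
      ZClos.IsZClosed (U.ι.base ⁻¹' Z) ((Scheme.Modules.restrictFunctor U.ι).obj F) ∧
      ∀ V : X.Opens, ZClos.IsZClosed (V.ι.base ⁻¹' Z) ((Scheme.Modules.restrictFunctor V.ι).obj F) → V ≤ U := by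
  haveI : F.IsQuasicoherent := hF.1
  haveI : SheafOfModules.IsFiniteType.{u} (R := X.ringCatSheaf) F := hF.2
  haveI : ((ZClos.H0 Z).obj F).IsQuasicoherent := hH.1
  haveI : SheafOfModules.IsFiniteType.{u} (R := X.ringCatSheaf) ((ZClos.H0 Z).obj F) := hH.2
  have hopen : IsOpen {x : X | ZClos.IsZClosedAt Z F x} := by
    rw [isOpen_iff_forall_mem_open]
    intro x hx
    obtain ⟨W, hxW, hW⟩ := Groth.Agent.Lib.Helper29.IsoOpen.exists_open_bijective (ZClos.rhoApp Z F) x hx
    exact ⟨W, fun y hy => hW y hy, W.2, hxW⟩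
  refine ⟨⟨{x : X | ZClos.IsZClosedAt Z F x}, hopen⟩, ?_, ?_, ?_, ?_⟩
  · ext x
    exact Groth.Agent.S5856.result X Z hZ F hF x
  · intro x hx
    by_contra hxZ
    exact hx (Groth.Agent.S5849.result X Z hZ F x hxZ)
  · set U : X.Opens := ⟨{x : X | ZClos.IsZClosedAt Z F x}, hopen⟩ with hU
    have hZU : StableUnderSpecialization (U.ι.base ⁻¹' Z) := hZ.preimage U.ι.base.hom.continuous
    have hF' := Groth.Agent.S5850.result X Z hZ F
    obtain ⟨c1, c2⟩ := (Groth.Agent.S5847.isZClosed_iff_crit X Z hZ _).1 hF'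
    have hF'U : ZClos.IsZClosed (U.ι.base ⁻¹' Z)
        ((Scheme.Modules.restrictFunctor U.ι).obj ((ZClos.H0 Z).obj F)) := by
      rw [Groth.Agent.S5847.isZClosed_iff_crit _ _ hZU]
      exact ⟨Groth.Agent.Lib.Helper29.ZClosLib.InjCrit.restrict _ hZ c1 U,
        Groth.Agent.Lib.Helper29.ZClosLib.SurjCrit.restrict _ hZ c2 U⟩
    haveI := isIso_restrict_of_stalk_bijective (ZClos.rhoApp Z F) U (fun x hx => hx)
    exact isZClosed_of_iso _ (asIso ((Scheme.Modules.restrictFunctor U.ι).map (ZClos.rhoApp Z F))) hF'U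
  · intro V hV x hxV
    show ZClos.IsZClosedAt Z F x
    rw [Groth.Agent.S5856.result X Z hZ F hF x]
    intro x' hsp hx'Z
    exact two_le_depth_of_isZClosed_restrict Z hZ F hF V hV x' (hsp.mem_open V.2 hxV) hx'Z



end Groth.Agent.S5859
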