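import Groth.Statements.S5860
import Groth.Agent.S5857
import Groth.Agent.S5855
import Groth.Agent.S5849
import Groth.Agent.Lib.Helper17.StalkExact

set_option autoImplicit false
universe u
open ZClos

namespace Groth.Agent.S5860



section Helpers
open CategoryTheory CategoryTheory.Limits AlgebraicGeometry TopologicalSpace Opposite

theorem stable_dimGe (X : Scheme.{u}) (n : ℕ) : StableUnderSpecialization (ZClos.dimGe X n) := by
  intro x y hxy hx
  change (n : WithBot ℕ∞) ≤ ringKrullDim (X.presheaf.stalk y)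
  have hx' : (n : WithBot ℕ∞) ≤ ringKrullDim (X.presheaf.stalk x) := hx
  rw [AlgebraicGeometry.ringKrullDim_stalk_eq_coheight] at hx' ⊢
  refine hx'.trans ?_
  have : Order.coheight x ≤ Order.coheight y := Order.coheight_anti hxy
  exact_mod_cast this

theorem rhoStalk_eq_stalkLinearMap {X : Scheme.{u}} (Z : Set X) (F : X.Modules) (x : X)
    (μ : F.presheaf.stalk x) :
    ZClos.rhoStalk Z F x μ = Groth.Agent.Lib.Helper17.StalkExact.stalkLinearMap (ZClos.rhoApp Z F) x μ := rfl

theorem ass_of_ass_H0 {X : Scheme.{u}} [IsLocallyNoetherian X] (Z : Set X)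
    (hZ : StableUnderSpecialization Z) (F : X.Modules) (x : X) (hx : x ∉ Z)
    (h : x ∈ AssSch.Ass ((ZClos.H0 Z).obj F)) : x ∈ AssSch.Ass F := by
  have hbij := Groth.Agent.S5849.result X Z hZ F x hx
  let e : F.presheaf.stalk x ≃ₗ[X.presheaf.stalk x] ((ZClos.H0 Z).obj F).presheaf.stalk x :=
    LinearEquiv.ofBijective (Groth.Agent.Lib.Helper17.StalkExact.stalkLinearMap (ZClos.rhoApp Z F) x) hbij
  have h' : IsAssociatedPrime (IsLocalRing.maximalIdeal (X.presheaf.stalk x))
      (((ZClos.H0 Z).obj F).presheaf.stalk x) := h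
  exact (e.isAssociatedPrime_iff).2 h'

theorem wb_le_one (d : WithBot ℕ∞) (h : d < 2) : d ≤ 1 := by
  induction d with
  | bot => exact bot_le
  | coe d =>
    have h2 : d < 2 := WithBot.coe_lt_coe.1 h
    have : d ≤ 1 := by
      have : d < 1 + 1 := by rwa [one_add_one_eq_two]
      exact Order.le_of_lt_add_one this
    exact WithBot.coe_le_coe.2 this

theorem wb_le_zero (d : WithBot ℕ∞) (h : d < 2) (hne : d ≠ 1) : d ≤ 0 := by
  induction d with
  | bot => exact bot_le
  | coe d =>
    have h2 : d < 2 := WithBot.coe_lt_coe.1 h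
    have h1 : d ≤ 1 := by
      have : d < 1 + 1 := by rwa [one_add_one_eq_two]
      exact Order.le_of_lt_add_one this
    have hne' : d ≠ 1 := by
      intro h; apply hne; rw [h]; rfl
    have : d < 0 + 1 := by rw [zero_add]; exact lt_of_le_of_ne h1 hne'
    exact WithBot.coe_le_coe.2 (Order.le_of_lt_add_one this)

end Helpers

open CategoryTheory CategoryTheory.Limits AlgebraicGeometry in
/-- Let X be a locally Noetherian scheme and F a coherent O_X-module with support all of X, having no
associated point at which the local ring of X has dimension 1, and such that F' = H⁰_{X/Z}(F) is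
coherent, Z = Z^(2)(X) being the set of points whose local ring has dimension at least 2. Then F'
satisfies (S_2): at every point x, depth(F'_x) ≥ min(2, dim F'_x). -/
theorem result (X : Scheme.{u}) [IsLocallyNoetherian X] (F : X.Modules) (hF : Coh.IsCoh F)
    (hsupp : ∀ x : X, Nontrivial (F.presheaf.stalk x))
    (hass : ∀ x ∈ AssSch.Ass F, ringKrullDim (X.presheaf.stalk x) ≠ 1)
    (hH : Coh.IsCoh ((ZClos.H0 (ZClos.dimGe X 2)).obj F)) (x : X) :
    min (2 : WithBot ℕ∞) (Module.supportDim (X.presheaf.stalk x) (((ZClos.H0 (ZClos.dimGe X 2)).obj F).presheaf.stalk x)) ≤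
      ((LocCoh.depth (X.presheaf.stalk x) (((ZClos.H0 (ZClos.dimGe X 2)).obj F).presheaf.stalk x) : ℕ∞) : WithBot ℕ∞) := by
  have hZ := stable_dimGe X 2
  by_cases hx : x ∈ ZClos.dimGe X 2
  · have h2 := Groth.Agent.S5857.result X _ hZ F hF hH x hx
    refine (min_le_left _ _).trans ?_
    exact WithBot.coe_le_coe.2 h2
  · have hdim : ringKrullDim (X.presheaf.stalk x) < 2 := not_le.1 hx
    have hsd := Module.supportDim_le_ringKrullDim (R := X.presheaf.stalk x)
      (M := ((ZClos.H0 (ZClos.dimGe X 2)).obj F).presheaf.stalk x)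
    refine (min_le_right _ _).trans ?_
    by_cases h1 : (1 : ℕ∞) ≤ LocCoh.depth (X.presheaf.stalk x)
        (((ZClos.H0 (ZClos.dimGe X 2)).obj F).presheaf.stalk x)
    · exact hsd.trans ((wb_le_one _ hdim).trans (WithBot.coe_le_coe.2 h1))
    · have hassH : x ∈ AssSch.Ass ((ZClos.H0 (ZClos.dimGe X 2)).obj F) := by
        by_contra hcon
        exact h1 ((Groth.Agent.S5855.one_le_depth_iff_not_ass _ hH x).2 hcon)
      have hassF := ass_of_ass_H0 _ hZ F x hx hassH
      have hne := hass x hassF
      exact hsd.trans ((wb_le_zero _ hdim hne).trans (WithBot.coe_le_coe.2 zero_le))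



end Groth.Agent.S5860
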