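import Groth.Statements.S5861
import Groth.Agent.Lib.Helper29.QCohStalk2
import Groth.Agent.S5859
import Groth.Agent.S5860

set_option autoImplicit false
universe u
open ZClos

namespace Groth.Agent.S5861



section Helpers
open CategoryTheory CategoryTheory.Limits AlgebraicGeometry TopologicalSpace Opposite
open Groth.Agent.Lib.Helper28.QCohLoc Groth.Agent.Lib.Helper29.QCohStalk

variable {X : Scheme.{u}}

/-- if all stalks of a quasi-coherent module are nonzero, the support of each stalk is the whole local spectrum -/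
theorem support_stalk_eq_univ (F : X.Modules) [F.IsQuasicoherent]
    (hsupp : ∀ y : X, Nontrivial (F.presheaf.stalk y)) (x : X) :
    Module.support (X.presheaf.stalk x) (F.presheaf.stalk x) = Set.univ := by
  rw [Set.eq_univ_iff_forall]
  intro 𝔮
  rw [Module.mem_support_iff_exists_annihilator]
  obtain ⟨W, hW, hxW, -⟩ := exists_isAffineOpen_mem_and_subset (U := (⊤ : X.Opens)) (x := x) trivial
  have hloc := isLocOn_of_isQuasicoherent F hW
  let q : PrimeSpectrum Γ(X, W) := ⟨𝔮.asIdeal.comap (X.presheaf.germ W x hxW).hom, inferInstance⟩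
  have hyW : hW.fromSpec q ∈ W := fromSpec_mem hW q
  have hgp : germPrime W (hW.fromSpec q) hyW = q.asIdeal := germPrime_fromSpec hW q
  -- a section with nonzero germ at `y`
  obtain ⟨m, hm⟩ : ∃ m : Γ(F, W), gm F W (hW.fromSpec q) hyW m ≠ 0 := by
    by_contra hcon
    push Not at hcon
    haveI := hsupp (hW.fromSpec q)
    obtain ⟨μ, hμ⟩ := exists_ne (0 : F.presheaf.stalk (hW.fromSpec q))
    obtain ⟨s, m, hs, hsm⟩ := exists_germ_smul_eq F hW hloc _ hyW μ
    rw [hcon m] at hsm
    exact hμ (eq_zero_of_isUnit_smul hs hsm)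
  have hann : ann (R := Γ(X, W)) m ≤ q.asIdeal := by
    rw [← hgp]
    exact (gm_ne_zero_iff hW hloc _ hyW m).1 hm
  refine ⟨gm F W x hxW m, ?_⟩
  intro b hb
  rw [Submodule.mem_annihilator_span_singleton] at hb
  obtain ⟨s', g, hg, hbg⟩ := stalk_affine_surj hW x hxW b
  have h1 : gm F W x hxW (s' • m) = 0 := by
    rw [gm_smul, ← hbg, mul_comm, mul_smul, hb, smul_zero]
  obtain ⟨t, ht, ht0⟩ := (gm_eq_zero_iff hW hloc x hxW _).1 h1
  have h2 : t * s' ∈ q.asIdeal := hann ((mem_ann m _).2 (by rw [mul_smul]; exact ht0))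
  have h3 : X.presheaf.germ W x hxW (t * s') ∈ 𝔮.asIdeal := h2
  rw [map_mul] at h3
  have htu : IsUnit (X.presheaf.germ W x hxW t) := (notMem_germPrime_iff W x hxW t).1 ht
  have h4 : X.presheaf.germ W x hxW s' ∈ 𝔮.asIdeal := by
    rcases 𝔮.isPrime.mem_or_mem h3 with h5 | h5
    · exact absurd (Ideal.eq_top_of_isUnit_mem _ h5 htu) 𝔮.isPrime.ne_top
    · exact h5
  rw [← hbg] at h4
  rcases 𝔮.isPrime.mem_or_mem h4 with h5 | h5
  · exact h5
  · exact absurd (Ideal.eq_top_of_isUnit_mem _ h5 hg) 𝔮.isPrime.ne_top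

theorem supportDim_stalk_eq (F : X.Modules) [F.IsQuasicoherent]
    (hsupp : ∀ y : X, Nontrivial (F.presheaf.stalk y)) (x : X) :
    Module.supportDim (X.presheaf.stalk x) (F.presheaf.stalk x) = ringKrullDim (X.presheaf.stalk x) := by
  unfold Module.supportDim ringKrullDim
  rw [support_stalk_eq_univ F hsupp x]
  exact Order.krullDim_eq_of_orderIso OrderIso.Set.univ


end Helpers

open CategoryTheory CategoryTheory.Limits AlgebraicGeometry in
/-- Suppose X is a locally Noetherian scheme and F is a coherent O_X-module whose support is the whole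
of X. Assume no associated point of F has a local ring of X of dimension 1, and assume H⁰_{X/Z}(F)
is coherent, where Z = Z^(2)(X) denotes the set of points whose local ring has dimension at least 2.
Consider the set U of points x where F satisfies (S_2), meaning depth(F_{x'}) ≥ min(2, dim F_{x'})
holds at every generization x' of x. Then U is an open subset, and the points lying outside U form a
set of codimension ≥ 2: the local ring at any such point has dimension at least 2. -/
theorem result (X : Scheme.{u}) [IsLocallyNoetherian X] (F : X.Modules) (hF : Coh.IsCoh F)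
    (hsupp : ∀ x : X, Nontrivial (F.presheaf.stalk x))
    (hass : ∀ x ∈ AssSch.Ass F, ringKrullDim (X.presheaf.stalk x) ≠ 1)
    (hH : Coh.IsCoh ((ZClos.H0 (ZClos.dimGe X 2)).obj F)) :
    IsOpen {x : X | ∀ x' : X, x' ⤳ x →
        min (2 : WithBot ℕ∞) (Module.supportDim (X.presheaf.stalk x') (F.presheaf.stalk x')) ≤
          ((LocCoh.depth (X.presheaf.stalk x') (F.presheaf.stalk x') : ℕ∞) : WithBot ℕ∞)} ∧
      ∀ x : X, (¬ ∀ x' : X, x' ⤳ x →
        min (2 : WithBot ℕ∞) (Module.supportDim (X.presheaf.stalk x') (F.presheaf.stalk x')) ≤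
          ((LocCoh.depth (X.presheaf.stalk x') (F.presheaf.stalk x') : ℕ∞) : WithBot ℕ∞)) →
        (2 : WithBot ℕ∞) ≤ ringKrullDim (X.presheaf.stalk x) := by
  haveI : F.IsQuasicoherent := hF.1
  have hZ := Groth.Agent.S5860.stable_dimGe X 2
  obtain ⟨U, hU, hUc, -, -⟩ := Groth.Agent.S5859.result X (ZClos.dimGe X 2) hZ F hF hH
  have hset : {x : X | ∀ x' : X, x' ⤳ x →
        min (2 : WithBot ℕ∞) (Module.supportDim (X.presheaf.stalk x') (F.presheaf.stalk x')) ≤
          ((LocCoh.depth (X.presheaf.stalk x') (F.presheaf.stalk x') : ℕ∞) : WithBot ℕ∞)} = (U : Set X) := by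
    rw [hU]
    ext x
    constructor
    · intro h x' hsp hx'Z
      have h1 := h x' hsp
      have hx'Z' : (2 : WithBot ℕ∞) ≤ ringKrullDim (X.presheaf.stalk x') := hx'Z
      rw [supportDim_stalk_eq F hsupp x', min_eq_left hx'Z'] at h1
      exact WithBot.coe_le_coe.1 h1
    · intro h x' hsp
      by_cases hx'Z : x' ∈ ZClos.dimGe X 2
      · exact (min_le_left _ _).trans (WithBot.coe_le_coe.2 (h x' hsp hx'Z))
      · have hdim : ringKrullDim (X.presheaf.stalk x') < 2 := not_le.1 hx'Z
        have hsd := Module.supportDim_le_ringKrullDim (R := X.presheaf.stalk x')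
          (M := F.presheaf.stalk x')
        refine (min_le_right _ _).trans ?_
        by_cases h1 : (1 : ℕ∞) ≤ LocCoh.depth (X.presheaf.stalk x') (F.presheaf.stalk x')
        · exact hsd.trans ((Groth.Agent.S5860.wb_le_one _ hdim).trans (WithBot.coe_le_coe.2 h1))
        · have hassF : x' ∈ AssSch.Ass F := by
            by_contra hcon
            exact h1 ((Groth.Agent.S5855.one_le_depth_iff_not_ass _ hF x').2 hcon)
          have hne := hass x' hassF
          exact hsd.trans ((Groth.Agent.S5860.wb_le_zero _ hdim hne).trans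
            (WithBot.coe_le_coe.2 zero_le))
  constructor
  · rw [hset]
    exact U.2
  · intro x hx
    by_contra hdim
    apply hx
    have hxU : x ∈ (U : Set X) := by
      by_contra hxU
      exact hdim (hUc hxU)
    rw [← hset] at hxU
    exact hxU



end Groth.Agent.S5861
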