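import Groth.Statements.S5867
import Groth.Agent.Lib.Helper29.ZClosLib3
import Groth.Agent.Lib.Helper28.QCohPush
import Groth.Agent.Lib.Helper28.FinTypeConv

set_option autoImplicit false
universe u
open ZClos

namespace Groth.Agent.S5867

open CategoryTheory CategoryTheory.Limits AlgebraicGeometry TopologicalSpace Opposite
open ZClos Groth.Agent.Lib.Helper28.QCohLoc Groth.Agent.Lib.Helper29.ZClosLib Groth.Agent.Lib.Helper29.FilColimSec
open Groth.Agent.Lib.Helper29.QCohStalk Groth.Agent.Lib.Helper28.FinType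

variable {X : Scheme.{u}}

theorem isQuasicoherent_resPush [IsLocallyNoetherian X] (U : X.Opens) (F : X.Modules)
    [F.IsQuasicoherent] : ((resPush U).obj F).IsQuasicoherent := by
  haveI : ((Scheme.Modules.restrictFunctor U.ι).obj F).IsQuasicoherent := inferInstance
  exact isQuasicoherent_pushforward U.ι _

/-- a morphism of modules on sections, as a linear map -/
noncomputable def appLin {M N : X.Modules} (φ : M ⟶ N) (V : X.Opens) : Γ(M, V) →ₗ[Γ(X, V)] Γ(N, V) where
  toFun := φ.app V
  map_add' := map_add (ConcreteCategory.hom (φ.app V))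
  map_smul' := fun a s => Scheme.Modules.Hom.app_smul φ a s

/-- a nonzero section of a quasi-coherent module has nonzero germ at an associated point -/
theorem exists_assPoint_of_ne_zero (F : X.Modules) [F.IsQuasicoherent] (W : X.Opens) (s : Γ(F, W)) (hs : s ≠ 0) :
    ∃ (x : X) (hx : x ∈ W), x ∈ AssSch.Ass F ∧ gm F W x hx s ≠ 0 := by
  by_contra hcon
  apply hs
  refine eq_zero_of_locally F W s fun pt hpt => ?_
  obtain ⟨N, hN, hptN, hNW⟩ := (TopologicalSpace.Opens.isBasis_iff_nbhd.1 X.isBasis_affineOpens) hpt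
  refine ⟨N, hNW, hptN, ?_⟩
  by_contra hne
  obtain ⟨x, hxN, hass, hgm⟩ := exists_isWeakAssPoint_of_ne_zero (F := F) hN
    (isLocOn_of_isQuasicoherent F hN) (res F hNW s) hne
  refine hcon ⟨x, hNW hxN, (isAssPoint_iff_isWeakAssPoint F x).2 hass, ?_⟩
  rwa [gm_res] at hgm

open CategoryTheory CategoryTheory.Limits AlgebraicGeometry in
/-- a) ⇒ d): for a locally Noetherian scheme X, a subset Z of X stable under specialization and a
coherent O_X-module F none of whose associated points lies in Z: if H⁰_{X/Z}(F) is coherent, then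
for every closed subset T of X contained in Z the direct image i_*(F|X∖T) along the inclusion i : X
∖ T → X is coherent. -/
theorem result (X : Scheme.{u}) [IsLocallyNoetherian X] (Z : Set X)
    (hZ : StableUnderSpecialization Z) (F : X.Modules) (hF : Coh.IsCoh F)
    (hass : ∀ x ∈ AssSch.Ass F, x ∉ Z) (hH : Coh.IsCoh ((ZClos.H0 Z).obj F)) (T : ZClos.Cl Z) :
    Coh.IsCoh ((ZClos.resPush T.U).obj F) := by
  haveI : F.IsQuasicoherent := hF.1
  haveI : ((H0 Z).obj F).IsQuasicoherent := hH.1
  haveI : SheafOfModules.IsFiniteType.{u} (R := X.ringCatSheaf) ((H0 Z).obj F) := hH.2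
  haveI hq : ((resPush T.U).obj F).IsQuasicoherent := isQuasicoherent_resPush T.U F
  refine ⟨hq, ?_⟩
  refine isFiniteType_of_finite_cover ((resPush T.U).obj F) (fun V : X.affineOpens => V.1)
    (IsOpenCover.mk (iSup_affineOpens_eq_top X)) (fun V => V.2) fun V => ?_
  haveI : IsNoetherianRing Γ(X, V.1) := IsLocallyNoetherian.component_noetherian V
  haveI hfin : Module.Finite Γ(X, V.1) Γ((H0 Z).obj F, V.1) := finite_of_isAffineOpen ((H0 Z).obj F) V.2
  have hN : _root_.IsNoetherian Γ(X, V.1) Γ((H0 Z).obj F, V.1) := isNoetherian_of_isNoetherianRing_of_finite _ _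
  haveI : _root_.IsNoetherian Γ(X, V.1) Γ(colimit ((diagram Z).obj F), V.1) := hN
  refine Module.Finite.of_injective (appLin (colimit.ι ((diagram Z).obj F) T) V.1) ?_
  refine (injective_iff_map_eq_zero (appLin (colimit.ι ((diagram Z).obj F) T) V.1)).2 fun s0 hs0 => ?_
  obtain ⟨s, rfl⟩ : ∃ s : Γ(F, Op Z T V.1), (show Γ(((diagram Z).obj F).obj T, V.1) from s) = s0 := ⟨s0, rfl⟩
  have hs : cinj Z F T V.1 s = 0 := hs0
  obtain ⟨T', hT, h0⟩ := cinj_eq_zero Z F V.1 V.2.isCompact T s hs
  by_contra hne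
  obtain ⟨x, hx, hxass, hgm⟩ := exists_assPoint_of_ne_zero F (Op Z T V.1) s hne
  have hxZ := hass x hxass
  have hxO : x ∈ Op Z T' V.1 := (mem_Op_iff T' V.1 x).2 ⟨fun h => hxZ (T'.2 h), (Op_le T V.1) hx⟩
  apply hgm
  rw [← gm_res F (Op_anti hT V.1) x hxO s, h0, gm_zero]



end Groth.Agent.S5867
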