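import Groth.Statements.S5869
import Groth.Agent.Lib.Helper25.ZClosAffE
import Groth.Agent.Lib.Helper25.ZClosAffG

set_option autoImplicit false
universe u
open ZClos

namespace Groth.Agent.S5869

open CategoryTheory CategoryTheory.Limits AlgebraicGeometry in
/-- a) ⇔ b): for a Noetherian ring A with X = Spec A, the following are equivalent: a) for every prime
ideal q of A, writing B = A/q, the ring B^(1) (intersection of the localizations of B at its
height-one primes) is a finite B-algebra; b) for every finite A-module M and every subset Z of X
stable under specialization such that, for every associated prime p of M not in Z and every prime p'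
∈ Z containing p, the image of p' in A/p has height at least 2, the Z-closure H⁰_{X/Z} of the module
M~ is coherent. -/
theorem result (A : Type u) [CommRing A] [IsNoetherianRing A] :
    (∀ (q : Ideal A) [q.IsPrime], EGA4.HeightOneHullFinite (A ⧸ q)) ↔
      ∀ (M : Type u) [AddCommGroup M] [Module A M] [Module.Finite A M]
        (Z : Set (PrimeSpectrum A)), StableUnderSpecialization Z →
        (∀ x : PrimeSpectrum A, x.asIdeal ∈ associatedPrimes A M → x ∉ Z →
          ∀ y ∈ Z, x.asIdeal ≤ y.asIdeal → (2 : ℕ∞) ≤ (y.asIdeal.map (Ideal.Quotient.mk x.asIdeal)).height) →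
        Coh.IsCoh ((ZClos.H0 (X := Spec (CommRingCat.of A)) Z).obj (EGA4.tildeOf A M)) := by
  open Groth.Agent.Lib.Helper25.ZClosAff in
  constructor
  · intro hfin M _ _ _ Z hZ hht
    exact isCoh_H0_of_PZ (M := M) Z hZ (PZ_of_hullFinite (M := M) Z hZ hfin hht)
  · intro hb q hq
    refine hullFinite_of_PZ q (PZ_of_isCoh (M := A ⧸ q) (codimTwo q) ?_)
    refine hb (A ⧸ q) (codimTwo q) (stable_codimTwo q) ?_
    intro x hx hxZ y hy hxy
    have hxq : x.asIdeal = q := by
      have h1 : associatedPrimes A (A ⧸ q) = {q} :=
        associatedPrimes.eq_singleton_of_isPrimary (Ideal.IsPrime.isPrimary hq) |>.trans (by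
          rw [Ideal.IsPrime.radical hq])
      rw [h1] at hx
      exact hx
    rw [hxq]
    exact hy.2

end Groth.Agent.S5869
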