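import Groth.Statements.S5870
import Groth.Agent.Lib.Helper29.ZClosLib3
import Groth.Agent.S5849

set_option autoImplicit false
universe u
open ZClos

namespace Groth.Agent.S5870

open CategoryTheory CategoryTheory.Limits AlgebraicGeometry TopologicalSpace Opposite
open ZClos Groth.Agent.Lib.Helper28.QCohLoc Groth.Agent.Lib.Helper29.ZClosLib Groth.Agent.Lib.Helper29.FilColimSec
open Groth.Agent.Lib.Helper29.QCohStalk


open CategoryTheory CategoryTheory.Limits AlgebraicGeometry in
/-- For a locally Noetherian scheme X, a subset Z of X stable under specialization and an arbitrary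
O_X-module F, the Z-closure H⁰_{X/Z}(F) is zero if and only if the support of F is contained in Z,
that is, the stalk of F at every point outside Z is zero. -/
theorem result (X : Scheme.{u}) [IsLocallyNoetherian X] (Z : Set X)
    (hZ : StableUnderSpecialization Z) (F : X.Modules) :
    IsZero ((ZClos.H0 Z).obj F) ↔ ∀ x : X, x ∉ Z → Subsingleton (F.presheaf.stalk x) := by
  constructor
  · intro h x hx
    have hid : 𝟙 ((H0 Z).obj F) = 0 := (IsZero.iff_id_eq_zero _).1 h
    have hsec : ∀ (V : X.Opens) (t : Γ((H0 Z).obj F, V)), t = 0 := by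
      intro V t
      have h1 : (𝟙 ((H0 Z).obj F) : (H0 Z).obj F ⟶ (H0 Z).obj F).app V t = t := rfl
      rw [← h1, hid]
      rfl
    have hst : ∀ ν : ((H0 Z).obj F).presheaf.stalk x, ν = 0 := by
      intro ν
      obtain ⟨V, hxV, t, rfl⟩ := TopCat.Presheaf.exists_germ_eq ((H0 Z).obj F).presheaf ν
      rw [hsec V t]
      exact map_zero _
    have hbij := Groth.Agent.S5849.result X Z hZ F x hx
    refine ⟨fun a b => hbij.1 ?_⟩
    rw [hst (rhoStalk Z F x a), hst (rhoStalk Z F x b)]
  · intro h
    refine (IsZero.iff_id_eq_zero _).2 ?_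
    apply Scheme.Modules.hom_ext
    intro W
    ext x
    change x = 0
    refine eq_zero_of_locally _ W x fun pt hpt => ?_
    obtain ⟨V, hVW, hxV, hVc⟩ := exists_compact_nhd hpt
    refine ⟨V, hVW, hxV, ?_⟩
    obtain ⟨T, s, hs⟩ := cinj_surj Z F V hVc (res ((H0 Z).obj F) hVW x)
    obtain ⟨T', hT, h0⟩ := exists_res_eq_zero_of_gm_eq_zero F hZ V hVc T s (fun y hy hyZ => by
      haveI := h y hyZ
      exact Subsingleton.elim _ _)
    rw [← hs, cinj_trans Z F hT V s, h0, cinj_zero]



end Groth.Agent.S5870
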