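import Groth.Statements.S5886
import Mathlib
import Groth.Agent.Lib.Helper25.ConsLocus
import Groth.Agent.S3445
-- import your own Groth.Agent.* helpers here

set_option autoImplicit false
set_option linter.unusedSectionVars false
set_option linter.style.haveILetI false
set_option linter.unusedVariables false
set_option linter.deprecated false
universe u
open CategoryTheory AlgebraicGeometry
open ConsProp

namespace Groth.Agent.S5886

open Groth.Agent.Lib.Helper25.ConsLocus Groth.Agent.Lib.Helper25.ConsFib

/-- The property of an algebraic k-scheme X of being finite over k is a constructible property of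
algebraic schemes (invariant under extension of the base field; over an integral Noetherian base,
for a family of finite type, the set of points with finite fibre or its complement contains a
nonempty open subset). -/
theorem result :
    ConsProp.IsCons (fun Y T g => AlgebraicGeometry.IsFinite g) := by
  refine ⟨?_, ?_⟩
  · intro Y Y' T T' g g' e h _ _ _ _ _ _ hsq
    constructor
    · intro hg
      exact MorphismProperty.of_isPullback hsq hg
    · intro hg'
      haveI := hg'
      haveI : LocallyQuasiFinite g :=
        lqf_of_isPullback hsq (fpqc_of_onePoint h).1.1.surj
      exact IsFinite.of_locallyQuasiFinite g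
  · intro X S u _ _ _ _
    haveI : LocallyOfFiniteType (u ≫ 𝟙 S) := by rw [Category.comp_id]; infer_instance
    haveI : QuasiCompact (u ≫ 𝟙 S) := by rw [Category.comp_id]; infer_instance
    obtain ⟨h1, h2, h3, h4⟩ := fp_of_noetherian u (𝟙 S)
    have key := cons_dichotomy (Groth.Agent.S3445.result u (𝟙 S))
    have hE : ConsProp.locus (fun Y T g => AlgebraicGeometry.IsFinite g) u =
        {s | LocallyQuasiFinite (MoreMor.fiberMap u (𝟙 S) s)} := by
      ext s
      refine Iff.trans ?_ (@prop_fiberMap_id_iff _ _ u @LocallyQuasiFinite
        MorphismProperty.IsStableUnderBaseChange.respectsIso s).symm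
      constructor
      · intro h
        haveI : IsFinite (u.fiberToSpecResidueField s) := h
        infer_instance
      · intro h
        haveI : LocallyQuasiFinite (u.fiberToSpecResidueField s) := h
        exact IsFinite.of_locallyQuasiFinite (u.fiberToSpecResidueField s)
    rw [hE]
    exact key

end Groth.Agent.S5886
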