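import Groth.Statements.S5887
import Mathlib
import Groth.Agent.Lib.Helper25.ConsLocus
import Groth.Agent.S3444
-- import your own Groth.Agent.* helpers here

set_option autoImplicit false
set_option linter.unusedSectionVars false
set_option linter.style.haveILetI false
set_option linter.unusedVariables false
set_option linter.deprecated false
universe u
open CategoryTheory AlgebraicGeometry
open ConsProp

namespace Groth.Agent.S5887

open Groth.Agent.Lib.Helper25.ConsLocus

/-- The property of an algebraic k-scheme X of being radicial over k (structure morphism universally
injective) is a constructible property of algebraic schemes. -/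
theorem result :
    ConsProp.IsCons (fun Y T g => AlgebraicGeometry.UniversallyInjective g) := by
  refine ⟨isFieldStable_of_descends @UniversallyInjective, ?_⟩
  intro X S u _ _ _ _
  haveI : LocallyOfFiniteType (u ≫ 𝟙 S) := by rw [Category.comp_id]; infer_instance
  haveI : QuasiCompact (u ≫ 𝟙 S) := by rw [Category.comp_id]; infer_instance
  obtain ⟨h1, h2, h3, h4⟩ := fp_of_noetherian u (𝟙 S)
  have key := cons_dichotomy (Groth.Agent.S3444.result u (𝟙 S))
  have hE : ConsProp.locus (fun Y T g => AlgebraicGeometry.UniversallyInjective g) u =
      {s | UniversallyInjective (MoreMor.fiberMap u (𝟙 S) s)} := by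
    ext s
    exact (@prop_fiberMap_id_iff _ _ u @UniversallyInjective
      MorphismProperty.IsStableUnderBaseChange.respectsIso s).symm
  rw [hE]
  exact key

end Groth.Agent.S5887
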