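import Groth.Statements.S5894
import Mathlib
import Groth.Agent.Lib.Helper25.ConsPairLim
import Groth.Agent.Lib.Helper13.LimDescendClosedImm
import Groth.Agent.Lib.Helper13.LimDescendCore2
-- import your own Groth.Agent.* helpers here

set_option autoImplicit false
set_option linter.unusedSectionVars false
set_option linter.style.haveILetI false
set_option linter.unusedVariables false
set_option linter.deprecated false
universe u
open CategoryTheory AlgebraicGeometry
open ConsPropPair

namespace Groth.Agent.S5894

open Groth.Agent.Lib.Helper25.ConsPair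

theorem descends_prop : Descends.{u} @IsClosedImmersion := by
  intro I _ _ D c hc _ i₀ _ X₀ Y₀ f₀ g₀ _ _ _ _ _ _ _ _ _ _ _ X Y f g qY qX hY hX hf
  refine Groth.Agent.Lib.Helper13.LimDescend.descend_of_core D c @IsClosedImmersion
    i₀ f₀ g₀ ?_ f g qY qX hY hX hf
  intro a ha hP
  haveI : ∀ (j k : Over i₀) (φ : j ⟶ k),
      IsAffineHom ((Groth.Agent.Lib.Helper22.bcDiag D i₀ g₀).map φ) := fun _ _ φ => inferInstance
  obtain ⟨s, hs, rfl⟩ := Groth.Agent.Lib.Helper13.LimDescend.exists_iso_eq_comp D i₀ f₀ g₀ a ha
  exact Groth.Agent.Lib.Helper13.LimDescend.core_isClosedImmersion (Groth.Agent.Lib.Helper22.bcDiag D i₀ g₀)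
    (Groth.Agent.Lib.Helper22.bcCone D c i₀ g₀) (Groth.Agent.Lib.Helper22.bcIsLimit D hc i₀ g₀)
    (Groth.Agent.Lib.Helper13.LimDescend.top i₀) (f₀ ≫ s) hP

/-- Case of the property of being a closed immersion: let P(X, Y, k) be the relation between a field k
and two algebraic k-schemes X, Y: there are an extension field k′ of k (a one-point integral scheme
T′ over T = Spec k) and a k′-morphism g : X_(k′) ⟶ Y_(k′) between the base changes (cartesian
squares over T′ ⟶ T) which is a closed immersion. Then P is an ind-constructible property of pairs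
of algebraic schemes. -/
theorem result :
    ConsPropPair.IsIndConsPair
      (fun X Y T gX gY => ∃ (T' X' Y' : Scheme.{u}) (h : T' ⟶ T) (gX' : X' ⟶ T') (gY' : Y' ⟶ T')
        (eX : X' ⟶ X) (eY : Y' ⟶ Y), IsIntegral T' ∧ Subsingleton ↥T' ∧
          IsPullback eX gX' gX h ∧ IsPullback eY gY' gY h ∧
            ∃ g : X' ⟶ Y', g ≫ gY' = gX' ∧ AlgebraicGeometry.IsClosedImmersion g) := by
  exact isIndConsPair @IsClosedImmersion descends_prop

end Groth.Agent.S5894
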