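import Groth.Statements.S5905
import Mathlib
import Groth.Agent.Lib.Helper25.ConsPairLim
import Groth.Agent.S2592
import Groth.Agent.Lib.Helper26.QuasiAffine
-- import your own Groth.Agent.* helpers here

set_option autoImplicit false
set_option linter.unusedSectionVars false
set_option linter.style.haveILetI false
set_option linter.unusedVariables false
set_option linter.deprecated false
universe u
open CategoryTheory AlgebraicGeometry
open ConsPropPair

namespace Groth.Agent.S5905

open Groth.Agent.Lib.Helper25.ConsPair

/-- the property of being quasi-affine -/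
def QAff : MorphismProperty Scheme.{u} := fun _ _ f => MoreMor.IsQuasiAffineHom f

theorem qAff_eq : QAff.{u} = Groth.Agent.Lib.Helper26.QuasiAffine.IsQAHom.{u} := by
  ext X Y f
  exact (Groth.Agent.Lib.Helper26.QuasiAffine.isQAHom_iff f).symm

instance : MorphismProperty.IsStableUnderBaseChange QAff.{u} := by
  rw [qAff_eq]; infer_instance

theorem descends_prop : Descends.{u} QAff.{u} := by
  intro I _ _ D c hc _ i₀ _ X₀ Y₀ f₀ g₀ _ _ _ _ _ _ _ _ _ _ _ X Y f g qY qX hY hX hf
  exact Groth.Agent.S2592.result D c hc i₀ f₀ g₀ f g qY qX hY hX hf

/-- Case of the property of being quasi-affine: let P(X, Y, k) be the relation between a field k and two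
algebraic k-schemes X, Y: there are an extension field k′ of k (a one-point integral scheme T′ over
T = Spec k) and a k′-morphism g : X_(k′) ⟶ Y_(k′) between the base changes (cartesian squares over
T′ ⟶ T) which is quasi-affine (quasi-compact, with quasi-affine preimages of affine opens). Then P
is an ind-constructible property of pairs of algebraic schemes. -/
theorem result :
    ConsPropPair.IsIndConsPair
      (fun X Y T gX gY => ∃ (T' X' Y' : Scheme.{u}) (h : T' ⟶ T) (gX' : X' ⟶ T') (gY' : Y' ⟶ T')
        (eX : X' ⟶ X) (eY : Y' ⟶ Y), IsIntegral T' ∧ Subsingleton ↥T' ∧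
          IsPullback eX gX' gX h ∧ IsPullback eY gY' gY h ∧
            ∃ g : X' ⟶ Y', g ≫ gY' = gX' ∧ MoreMor.IsQuasiAffineHom g) := by
  exact isIndConsPair QAff.{u} descends_prop

end Groth.Agent.S5905
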