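import Groth.Statements.S5911
import Groth.Agent.Lib.Helper2.AssFlat
import Mathlib.RingTheory.Localization.AtPrime.Basic

set_option autoImplicit false
universe u
open TensorProduct
open EGA43

namespace Groth.Agent.S5911

/-- Let A be a Noetherian ring, J an ideal of A and M an A-module which is ideally separated for the
J-adic topology (for every ideal a of A the module a ⊗_A M is J-adically separated). Let (p_i) be a
finite family of prime ideals of A containing J, let J_n be the intersection of the symbolic powers
p_i^{(n)} (preimages in A of the n-th powers of the maximal ideals of the local rings A_{p_i}), and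
assume every power J^n contains some J_m. Then M is flat if and only if (A/J) ⊗_A M is flat over A/J
and M_{p_i} is flat over A_{p_i} for every i. -/
theorem result {A : Type u} [CommRing A] [IsNoetherianRing A]
    (J : Ideal A) (M : Type u) [AddCommGroup M] [Module A M]
    (hsep : ∀ a : Ideal A, IsHausdorff J (↥a ⊗[A] M))
    {r : ℕ} (p : Fin r → Ideal A) [∀ i, (p i).IsPrime] (hp : ∀ i, J ≤ p i)
    (htop : ∀ n : ℕ, ∃ m : ℕ,
      ⨅ i, Ideal.comap (algebraMap A (Localization.AtPrime (p i))) (IsLocalRing.maximalIdeal (Localization.AtPrime (p i)) ^ m) ≤ J ^ n) :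
    Module.Flat A M ↔
      Module.Flat (A ⧸ J) ((A ⧸ J) ⊗[A] M) ∧
        ∀ i, Module.Flat (Localization.AtPrime (p i)) (LocalizedModule (p i).primeCompl M) := by
  constructor
  · intro hM
    exact ⟨Module.Flat.baseChange A (A ⧸ J) M, fun i => inferInstance⟩
  · rintro ⟨h1, h2⟩
    haveI := h1
    classical
    refine Lib.Helper2.AssFlat.flat_of_hausdorff_of_forall_quotient_pow J
      (fun 𝔞 => Lib.Helper2.AssFlat.isHausdorff_comm J 𝔞 (hsep 𝔞)) ?_
    intro n hn Q'
    obtain ⟨m, hm⟩ := htop n
    have hfl : Module.Flat (A ⧸ ⨅ i, Ideal.comap (algebraMap A (Localization.AtPrime (p i)))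
        (IsLocalRing.maximalIdeal (Localization.AtPrime (p i)) ^ m))
        ((A ⧸ ⨅ i, Ideal.comap (algebraMap A (Localization.AtPrime (p i)))
        (IsLocalRing.maximalIdeal (Localization.AtPrime (p i)) ^ m)) ⊗[A] M) := by
      apply Lib.Helper2.AssFlat.flat_quotient_of_forall_injective
      intro K
      refine Lib.Helper2.AssFlat.injective_of_torsion J (Finset.univ.image p) ?_ ?_ ?_ m K ?_
      · intro q hq
        obtain ⟨i, -, rfl⟩ := Finset.mem_image.mp hq
        infer_instance
      · intro s hs
        rw [isSMulRegular_iff_right_eq_zero_of_smul]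
        intro xbar hx
        obtain ⟨x, rfl⟩ := Ideal.Quotient.mk_surjective xbar
        have hsx : s * x ∈ ⨅ i, Ideal.comap (algebraMap A (Localization.AtPrime (p i)))
            (IsLocalRing.maximalIdeal (Localization.AtPrime (p i)) ^ m) := by
          rw [← Ideal.Quotient.eq_zero_iff_mem]
          exact hx
        rw [Ideal.Quotient.eq_zero_iff_mem]
        rw [Ideal.mem_iInf] at hsx ⊢
        intro i
        have h3 := hsx i
        rw [Ideal.mem_comap, map_mul] at h3
        have hu : IsUnit (algebraMap A (Localization.AtPrime (p i)) s) :=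
          IsLocalization.map_units (Localization.AtPrime (p i))
            (⟨s, hs (p i) (Finset.mem_image_of_mem p (Finset.mem_univ i))⟩ : (p i).primeCompl)
        exact Ideal.mem_comap.mpr ((Ideal.unit_mul_mem_iff_mem _ hu).mp h3)
      · intro q hq K' z hz
        obtain ⟨i, -, rfl⟩ := Finset.mem_image.mp hq
        haveI := h2 i
        exact Lib.Helper2.AssFlat.exists_smul_eq_zero (p i) M K' z hz
      · intro x _ a ha
        obtain ⟨y, rfl⟩ := Ideal.Quotient.mk_surjective x
        show Ideal.Quotient.mk _ (a * y) = 0
        rw [Ideal.Quotient.eq_zero_iff_mem]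
        apply Ideal.mul_mem_right
        rw [Ideal.mem_iInf]
        intro i
        rw [Ideal.mem_comap]
        have h4 : algebraMap A (Localization.AtPrime (p i)) a ∈
            (J.map (algebraMap A (Localization.AtPrime (p i)))) ^ m := by
          rw [← Ideal.map_pow]
          exact Ideal.mem_map_of_mem _ ha
        refine Ideal.pow_right_mono ?_ m h4
        rw [← Localization.AtPrime.map_eq_maximalIdeal]
        exact Ideal.map_mono (hp i)
    haveI := hfl
    haveI : Module.Flat (A ⧸ J ^ n) ((A ⧸ J ^ n) ⊗[A] M) :=
      Lib.Helper2.PowCrit.flat_quotient_of_le hm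
    exact Lib.Helper2.PowCrit.injective_submodule_quotient_of_flat (J ^ n) Q'

end Groth.Agent.S5911
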