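import Groth.Statements.S5912
import Groth.Agent.Lib.Helper2.AssFlat
import Groth.Agent.Lib.Helper2.FlatCrit

set_option autoImplicit false
universe u
open TensorProduct
open EGA43

namespace Groth.Agent.S5912

open Lib.Helper2 in
/-- If the graded pieces `J^k/J^{k+1}` are flat over `A/J`, an `A/J`-regular element is
`A/J^n`-regular for all `n`. -/
theorem isSMulRegular_quotient_pow {A : Type*} [CommRing A] (J : Ideal A)
    (hgr : ∀ k : ℕ, Module.Flat (A ⧸ J) ((A ⧸ J) ⊗[A] ↥(J ^ k))) (s : A)
    (hs : IsSMulRegular (A ⧸ J) s) : ∀ n : ℕ, IsSMulRegular (A ⧸ J ^ n) s := by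
  intro n
  induction n with
  | zero =>
    haveI : Subsingleton (A ⧸ J ^ 0) := by
      rw [Ideal.Quotient.subsingleton_iff, pow_zero, Ideal.one_eq_top]
    exact Function.injective_of_subsingleton _
  | succ n ih =>
    rw [isSMulRegular_iff_right_eq_zero_of_smul]
    intro xbar hx
    obtain ⟨x, rfl⟩ := Ideal.Quotient.mk_surjective xbar
    have hsx : s * x ∈ J ^ (n + 1) := by
      rw [← Ideal.Quotient.eq_zero_iff_mem]
      exact hx
    have hxn : x ∈ J ^ n := by
      rw [← Ideal.Quotient.eq_zero_iff_mem]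
      apply (isSMulRegular_iff_right_eq_zero_of_smul.mp ih)
      show Ideal.Quotient.mk (J ^ n) (s * x) = 0
      rw [Ideal.Quotient.eq_zero_iff_mem]
      exact Ideal.pow_le_pow_right (Nat.le_succ n) hsx
    haveI := hgr n
    -- regularity of `s` on the flat module `(A/J) ⊗ J^n`
    have hsbar : IsSMulRegular (A ⧸ J) (Ideal.Quotient.mk J s) := by
      intro a b hab
      apply hs
      exact hab
    have hreg1 : IsSMulRegular ((A ⧸ J) ⊗[A ⧸ J] ((A ⧸ J) ⊗[A] ↥(J ^ n)))
        (Ideal.Quotient.mk J s) := IsSMulRegular.rTensor _ hsbar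
    have hreg2 : IsSMulRegular ((A ⧸ J) ⊗[A] ↥(J ^ n)) (Ideal.Quotient.mk J s) :=
      hreg1.of_injective (TensorProduct.lid (A ⧸ J) _).symm.toLinearMap
        (TensorProduct.lid (A ⧸ J) _).symm.injective
    have hξ : (1 : A ⧸ J) ⊗ₜ[A] (⟨x, hxn⟩ : ↥(J ^ n)) = 0 := by
      apply hreg2
      show Ideal.Quotient.mk J s • ((1 : A ⧸ J) ⊗ₜ[A] (⟨x, hxn⟩ : ↥(J ^ n))) =
        Ideal.Quotient.mk J s • 0
      rw [smul_zero, ← Ideal.Quotient.algebraMap_eq, algebraMap_smul, ← TensorProduct.tmul_smul,
        FlatCrit.one_tmul_eq_zero_iff, Submodule.mem_smul_top_iff]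
      show s • x ∈ J • J ^ n
      rw [smul_eq_mul, smul_eq_mul, ← pow_succ']
      exact hsx
    rw [FlatCrit.one_tmul_eq_zero_iff, Submodule.mem_smul_top_iff] at hξ
    rw [Ideal.Quotient.eq_zero_iff_mem, pow_succ']
    exact hξ


/-- Let A be a Noetherian ring, J an ideal of A and M an A-module which is ideally separated for the
J-adic topology (for every ideal a of A the module a ⊗_A M is J-adically separated), and suppose
every quotient J^k/J^{k+1} is a flat (A/J)-module (the associated graded ring of A along J is flat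
over A/J). Then M is flat if and only if (A/J) ⊗_A M is flat over A/J and M_p is flat over A_p for
every associated prime p of the A-module A/J. -/
theorem result {A : Type u} [CommRing A] [IsNoetherianRing A]
    (J : Ideal A) (M : Type u) [AddCommGroup M] [Module A M]
    (hsep : ∀ a : Ideal A, IsHausdorff J (↥a ⊗[A] M))
    (hgr : ∀ k : ℕ, Module.Flat (A ⧸ J) ((A ⧸ J) ⊗[A] ↥(J ^ k))) :
    Module.Flat A M ↔
      Module.Flat (A ⧸ J) ((A ⧸ J) ⊗[A] M) ∧
        ∀ q : associatedPrimes A (A ⧸ J),
          haveI : q.1.IsPrime := IsAssociatedPrime.isPrime q.2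
          Module.Flat (Localization.AtPrime q.1) (LocalizedModule q.1.primeCompl M) := by
  constructor
  · intro hM
    refine ⟨Module.Flat.baseChange A (A ⧸ J) M, fun q => ?_⟩
    haveI : q.1.IsPrime := IsAssociatedPrime.isPrime q.2
    exact inferInstance
  · rintro ⟨h1, h2⟩
    haveI := h1
    classical
    have hfin := associatedPrimes.finite A (A ⧸ J)
    refine Lib.Helper2.AssFlat.flat_of_hausdorff_of_forall_quotient_pow J
      (fun 𝔞 => Lib.Helper2.AssFlat.isHausdorff_comm J 𝔞 (hsep 𝔞)) ?_
    intro n hn Q'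
    refine Lib.Helper2.AssFlat.injective_of_torsion J hfin.toFinset
      (fun p hp => IsAssociatedPrime.isPrime (hfin.mem_toFinset.mp hp)) ?_ ?_ n Q' ?_
    · intro s hs
      apply isSMulRegular_quotient_pow J hgr s
      have hnot : s ∉ ⋃ p ∈ associatedPrimes A (A ⧸ J), (p : Set A) := by
        intro hmem
        obtain ⟨p, hp, hsp⟩ := Set.mem_iUnion₂.mp hmem
        exact hs p (hfin.mem_toFinset.mpr hp) hsp
      rw [biUnion_associatedPrimes_eq_compl_regular] at hnot
      simpa using hnot
    · intro p hp K z hz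
      have hp' := hfin.mem_toFinset.mp hp
      haveI : p.IsPrime := IsAssociatedPrime.isPrime hp'
      haveI := h2 ⟨p, hp'⟩
      exact Lib.Helper2.AssFlat.exists_smul_eq_zero p M K z hz
    · intro x _ a ha
      obtain ⟨y, rfl⟩ := Ideal.Quotient.mk_surjective x
      show Ideal.Quotient.mk _ (a * y) = 0
      rw [Ideal.Quotient.eq_zero_iff_mem]
      exact Ideal.mul_mem_right _ _ ha

end Groth.Agent.S5912
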