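import Groth.Statements.S5913
import Groth.Agent.Lib.Helper7.JacobsonPunctured
import Groth.Agent.S3431
import Mathlib.RingTheory.Spectrum.Prime.Jacobson

set_option autoImplicit false
universe u
open CategoryTheory AlgebraicGeometry
open EGA43

namespace Groth.Agent.S5913

open Groth.Agent.Lib.Helper7 AlgebraicGeometry


/-- In the locally Noetherian form: a locally Noetherian scheme X is Jacobson if and only if it has no
subscheme isomorphic to the spectrum of a semi-local integral domain of dimension 1, i.e. there is
no immersion Spec R ⟶ X with R an integral domain having finitely many maximal ideals and Krull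
dimension 1. -/
theorem result (X : Scheme.{u}) [IsLocallyNoetherian X] :
    JacobsonSpace X ↔
      ∀ (R : CommRingCat.{u}) [IsDomain R] (i : Spec R ⟶ X) [IsImmersion i],
        ¬ (Finite (MaximalSpectrum R) ∧ ringKrullDim R = 1) := by
  constructor
  · intro hJ R _ i _ ⟨hfin, hdim⟩
    haveI : JacobsonSpace i.coborderRange :=
      JacobsonSpace.of_isOpenEmbedding i.coborderRange.ι.isOpenEmbedding
    haveI : JacobsonSpace (Spec R) :=
      JacobsonSpace.of_isClosedEmbedding i.liftCoborder.isClosedEmbedding
    haveI : JacobsonSpace (PrimeSpectrum R) := ‹JacobsonSpace (Spec R)›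
    haveI : IsJacobsonRing R := PrimeSpectrum.isJacobsonRing_iff_jacobsonSpace.2 inferInstance
    exact Groth.Agent.S3431.not_semilocal_dim_one_of_jacobson R hfin hdim
  · intro h
    apply JacPunct.jacobsonSpace_of_locally_noetherian
    · intro x
      obtain ⟨W, hW, hxW, -⟩ := exists_isAffineOpen_mem_and_subset (X := X) (x := x)
        (U := ⊤) trivial
      haveI : IsNoetherianRing Γ(X, W) := IsLocallyNoetherian.component_noetherian ⟨W, hW⟩
      exact ⟨W, W.2, hxW, noetherianSpace_of_isAffineOpen W hW⟩
    · intro x hx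
      by_contra hncl
      rw [← closure_subset_iff_isClosed, Set.not_subset] at hncl
      obtain ⟨y, hy, hyx⟩ := hncl
      rw [← specializes_iff_mem_closure] at hy
      have hyx' : y ≠ x := hyx
      obtain ⟨W, hW, hyW, -⟩ := exists_isAffineOpen_mem_and_subset (X := X) (x := y)
        (U := ⊤) trivial
      have hxW : x ∈ W := hy.mem_open W.2 hyW
      haveI : IsNoetherianRing Γ(X, W) := IsLocallyNoetherian.component_noetherian ⟨W, hW⟩
      have hemb : Topology.IsEmbedding hW.fromSpec := hW.fromSpec.isEmbedding
      obtain ⟨px, hpx⟩ : x ∈ Set.range hW.fromSpec := by rw [hW.range_fromSpec]; exact hxW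
      obtain ⟨py, hpy⟩ : y ∈ Set.range hW.fromSpec := by rw [hW.range_fromSpec]; exact hyW
      have hsp : px ⤳ py := hemb.isInducing.specializes_iff.1
        ((specializes_of_eq hpx).trans (hy.trans (specializes_of_eq hpy.symm)))
      have hne : px ≠ py := fun h => hyx' (hpy.symm.trans ((congrArg _ h.symm).trans hpx))
      have hlc : IsLocallyClosed ({px} : Set (Spec Γ(X, W))) := by
        have := hx.preimage hW.fromSpec.continuous
        rwa [← hpx, ← Set.image_singleton, hemb.injective.preimage_image] at this
      obtain ⟨f, hfp, hfr⟩ :=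
        JacPunct.exists_notMem_forall_mem_of_isLocallyClosed_singleton (A := Γ(X, W)) px hlc
      haveI : (PrimeSpectrum.asIdeal (R := Γ(X, W)) px).IsPrime := PrimeSpectrum.isPrime _
      haveI : IsDomain (Γ(X, W) ⧸ (PrimeSpectrum.asIdeal (R := Γ(X, W)) px)) :=
        Ideal.Quotient.isDomain _
      have hf0 : Ideal.Quotient.mk (PrimeSpectrum.asIdeal (R := Γ(X, W)) px) f ≠ 0 := by
        rwa [Ne, Ideal.Quotient.eq_zero_iff_mem]
      have hall := JacPunct.forall_mem_quotient (PrimeSpectrum.asIdeal (R := Γ(X, W)) px) f hfr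
      have hnf : ¬ IsField (Γ(X, W) ⧸ (PrimeSpectrum.asIdeal (R := Γ(X, W)) px)) := by
        intro hfield
        have hmax : (PrimeSpectrum.asIdeal (R := Γ(X, W)) px).IsMaximal :=
          Ideal.Quotient.maximal_of_isField _ hfield
        have hle : PrimeSpectrum.asIdeal (R := Γ(X, W)) px ≤ PrimeSpectrum.asIdeal (R := Γ(X, W)) py :=
          (PrimeSpectrum.le_iff_specializes (R := Γ(X, W)) px py).2 hsp
        have := hmax.eq_of_le (PrimeSpectrum.isPrime (R := Γ(X, W)) py).ne_top hle
        exact hne (PrimeSpectrum.ext (R := Γ(X, W)) this)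
      have hD := JacPunct.semilocal_dim_one _ hf0 hall hnf
      haveI : IsClosedImmersion (Spec.map (CommRingCat.ofHom
          (Ideal.Quotient.mk (PrimeSpectrum.asIdeal (R := Γ(X, W)) px)))) :=
        IsClosedImmersion.spec_of_surjective _ Ideal.Quotient.mk_surjective
      exact h (CommRingCat.of (Γ(X, W) ⧸ (PrimeSpectrum.asIdeal (R := Γ(X, W)) px)))
        (Spec.map (CommRingCat.ofHom
          (Ideal.Quotient.mk (PrimeSpectrum.asIdeal (R := Γ(X, W)) px))) ≫ hW.fromSpec) hD

end Groth.Agent.S5913
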