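import Groth.Statements.S5915
import Groth.Agent.Lib.Helper7.FlatFiniteScheme
import Groth.Agent.Lib.Helper17.TensorSupp

set_option autoImplicit false
universe u
open CategoryTheory AlgebraicGeometry
open EGA43

namespace Groth.Agent.S5915

open Groth.Agent.Lib.Helper7.FlatChart CategoryTheory.Limits

open CategoryTheory.Limits in
/-- Let Y be locally Noetherian, f : X ⟶ Y locally of finite type, F a coherent O_X-module, x a point of
X and y = f x. Let φ : O_{Y,y} ⟶ A' be an injective ring homomorphism which is finite (A' finitely
generated as an O_{Y,y}-module), Y' = Spec A' ⟶ Y the induced Y-scheme, X' = X ×_Y Y' and F' the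
pullback of F to X'. Then F is f-flat at x if and only if F' is flat over Y' at every point of X'
lying over x and over a closed point of Y'. (The published statement treats more generally a Zariski
ring A' whose radical pulls back to the maximal ideal and whose map on completions is injective;
this row is the case of a finite algebra with injective structure map, in which those conditions
hold.) -/
theorem result {X Y : Scheme.{u}} [IsLocallyNoetherian Y]
    (f : X ⟶ Y) [LocallyOfFiniteType f] (F : X.Modules) (hF : Coh.IsCoh F) (x : X)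
    (A' : CommRingCat.{u}) (φ : Y.presheaf.stalk (f.base x) ⟶ A') (hfin : φ.hom.Finite)
    (hinj : Function.Injective φ.hom) :
    FlatMod.IsFlatOverAt f F x ↔
      ∀ x' : ↥(pullback f (Spec.map φ ≫ Y.fromSpecStalk (f.base x))), pullback.fst f (Spec.map φ ≫ Y.fromSpecStalk (f.base x)) x' = x →
        IsClosed ({pullback.snd f (Spec.map φ ≫ Y.fromSpecStalk (f.base x)) x'} : Set ↥(Spec A')) →
          FlatMod.IsFlatOverAt (pullback.snd f (Spec.map φ ≫ Y.fromSpecStalk (f.base x))) ((Scheme.Modules.pullback (pullback.fst f (Spec.map φ ≫ Y.fromSpecStalk (f.base x)))).obj F) x' := by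
  classical
  haveI : F.IsQuasicoherent := hF.1
  haveI : SheafOfModules.IsFiniteType.{u} (R := X.ringCatSheaf) F := hF.2
  constructor
  · intro h x' hx' _
    refine Groth.Agent.Lib.Helper17.FibreStalk.isFlatOverAt_baseChange f
      (pullback.snd f (Spec.map φ ≫ Y.fromSpecStalk (f.base x)))
      (pullback.fst f (Spec.map φ ≫ Y.fromSpecStalk (f.base x)))
      (Spec.map φ ≫ Y.fromSpecStalk (f.base x)) (IsPullback.of_hasPullback _ _) F x' ?_
    rw [hx']
    exact h
  · intro Hyp
    obtain ⟨x₁, hx₁, hx₁'⟩ := exists_point_over_stalk f x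
    rw [← hx₁]
    refine isFlatOverAt_of_localBase f F hF.1 (f x) x₁ ?_
    haveI : IsNoetherianRing (Y.presheaf.stalk (f x)) := inferInstance
    have hcoh : Coh.IsCoh ((Scheme.Modules.pullback (pullback.fst f (Y.fromSpecStalk (f x)))).obj F) :=
      ⟨inferInstance, Groth.Agent.Lib.Helper17.TensorSupp.isFiniteType_pullback _ F⟩
    refine isFlatOverAt_of_finite_injective_local (O := Y.presheaf.stalk (f x))
      (pullback.snd f (Y.fromSpecStalk (f x))) _ hcoh x₁ hx₁' A' φ hfin hinj ?_
    intro x'' h1 hcl
    apply isFlatOverAt_pullback_snd f (Y.fromSpecStalk (f x)) (Spec.map φ) F x''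
    apply Hyp
    · exact (pullbackLeftPullbackSndIso_hom_fst_apply f (Y.fromSpecStalk (f x)) (Spec.map φ) x'').trans
        (by rw [h1, hx₁])
    · have h3 := pullbackLeftPullbackSndIso_hom_snd_apply f (Y.fromSpecStalk (f x)) (Spec.map φ) x''
      rw [show (pullback.snd f (Spec.map φ ≫ Y.fromSpecStalk (f.base x)))
        ((pullbackLeftPullbackSndIso f (Y.fromSpecStalk (f x)) (Spec.map φ)).hom x'') =
        pullback.snd (pullback.snd f (Y.fromSpecStalk (f x))) (Spec.map φ) x'' from h3]
      exact hcl

end Groth.Agent.S5915
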