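import Groth.Statements.S5918
import Groth.Agent.S4856
import Groth.Agent.Lib.Helper7.FlatBCComp

set_option autoImplicit false
universe u
open CategoryTheory AlgebraicGeometry
open EGA43

namespace Groth.Agent.S5918

open Groth.Agent.Lib.Helper7.FlatChart

open CategoryTheory.Limits in
/-- Let A be an Artinian local ring, f : X ⟶ Spec A locally of finite type, F a coherent O_X-module and
x a point of X. Let (g_i : Y_i ⟶ Spec A) be a family of A-schemes such that an element of A whose
image in every Γ(Y_i, O_{Y_i}) is zero is itself zero. If, for every i, the pullback of F to X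
×_{Spec A} Y_i is flat over Y_i at every point lying over x, then F is f-flat at x. -/
theorem result {A : Type u} [CommRing A]
    [IsArtinianRing A] [IsLocalRing A] {X : Scheme.{u}} (f : X ⟶ Spec (CommRingCat.of A))
    [LocallyOfFiniteType f] (F : X.Modules) (hF : Coh.IsCoh F) (x : X)
    {ι : Type u} (Y : ι → Scheme.{u}) (g : ∀ i, Y i ⟶ Spec (CommRingCat.of A))
    (hg : ∀ a : A, (∀ i, (g i).appTop ((Scheme.ΓSpecIso (CommRingCat.of A)).inv a) = 0) → a = 0)
    (hflat : ∀ (i : ι) (x' : ↥(pullback f (g i))), pullback.fst f (g i) x' = x →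
      FlatMod.IsFlatOverAt (pullback.snd f (g i)) ((Scheme.Modules.pullback (pullback.fst f (g i))).obj F) x') :
    FlatMod.IsFlatOverAt f F x := by
  classical
  haveI : F.IsQuasicoherent := hF.1
  let ψ : ∀ j : (Σ i : ι, ↥(Y i)), CommRingCat.of A ⟶ (Y j.1).presheaf.stalk j.2 :=
    fun j => Spec.preimage ((Y j.1).fromSpecStalk j.2 ≫ g j.1)
  have hψ : ∀ j, Spec.map (ψ j) = (Y j.1).fromSpecStalk j.2 ≫ g j.1 := fun j => Spec.map_preimage _
  have key : ∀ (j : Σ i : ι, ↥(Y i)) (a : A), (ψ j).hom a =
      (Y j.1).presheaf.germ ⊤ j.2 trivial ((g j.1).appTop ((Scheme.ΓSpecIso (CommRingCat.of A)).inv a)) := by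
    intro j a
    have hnat := Scheme.ΓSpecIso_naturality (ψ j)
    rw [hψ j] at hnat
    have h2 := ConcreteCategory.congr_hom hnat ((Scheme.ΓSpecIso (CommRingCat.of A)).inv a)
    rw [Scheme.Hom.comp_appTop, Scheme.fromSpecStalk_appTop] at h2
    simp at h2
    exact h2.symm
  refine Groth.Agent.S4856.result f F hF x (ι := Σ i : ι, ↥(Y i))
    (fun j => ((Y j.1).presheaf.stalk j.2 : Type u)) (fun j => (ψ j).hom) ?_ ?_
  · intro a ha
    apply hg a
    intro i
    apply TopCat.Presheaf.section_ext (Y i).sheaf ⊤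
    intro y hy
    have h0 := ha ⟨i, y⟩
    rw [key] at h0
    exact h0.trans (map_zero ((Y i).presheaf.germ ⊤ y hy).hom).symm
  · intro j x' h1 _
    have key2 : ∀ (g' : Spec ((Y j.1).presheaf.stalk j.2) ⟶ Spec (CommRingCat.of A)),
        g' = (Y j.1).fromSpecStalk j.2 ≫ g j.1 → ∀ x' : ↥(pullback f g'), pullback.fst f g' x' = x →
        FlatMod.IsFlatOverAt (pullback.snd f g') ((Scheme.Modules.pullback (pullback.fst f g')).obj F) x' := by
      rintro g' rfl x' h1
      apply isFlatOverAt_pullback_comp f (g j.1) ((Y j.1).fromSpecStalk j.2) F x'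
      apply hflat j.1
      rw [← Scheme.Hom.comp_apply]
      have hk1 : pullback.map f ((Y j.1).fromSpecStalk j.2 ≫ g j.1) f (g j.1) (𝟙 X)
          ((Y j.1).fromSpecStalk j.2) (𝟙 _) (by simp) (by simp) ≫ pullback.fst f (g j.1) =
          pullback.fst f ((Y j.1).fromSpecStalk j.2 ≫ g j.1) :=
        (pullback.lift_fst _ _ _).trans (Category.comp_id _)
      rw [hk1]
      exact h1
    exact key2 _ (hψ j) x' h1

end Groth.Agent.S5918
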