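import Groth.Statements.S5934
import Groth.Agent.S2155
import Mathlib
set_option backward.isDefEq.respectTransparency.types false

set_option autoImplicit false
open CategoryTheory AlgebraicGeometry
universe u
open EGA43

namespace Groth.Agent.S5934
open CategoryTheory.Limits

/-- For a flat lfp morphism, the fibre over `y` is smooth iff the fibre is contained in the smooth
locus. -/
theorem smooth_fiber_iff {X Y : Scheme.{u}} (f : X ⟶ Y) [Flat f]
    [LocallyOfFinitePresentation f] (y : Y) :
    Smooth (f.fiberToSpecResidueField y) ↔ ∀ x : X, f x = y → x ∈ f.smoothLocus := by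
  haveI : LocallyOfFinitePresentation (f.fiberToSpecResidueField y) :=
    MorphismProperty.pullback_snd _ _ inferInstance
  have H : IsPullback (f.fiberι y) (f.fiberToSpecResidueField y) f (Y.fromSpecResidueField y) :=
    IsPullback.of_hasPullback _ _
  constructor
  · intro hsm x hx
    have hxr : x ∈ Set.range (f.fiberι y) := by
      rw [f.range_fiberι]; exact hx
    obtain ⟨z, hz⟩ := hxr
    refine Groth.Agent.S2155.mem_smoothLocus_of_flat_of_fiber' f x y hx z hz (Flat.stalkMap f x) ?_
    have : z ∈ (f.fiberToSpecResidueField y).smoothLocus := by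
      rw [Scheme.Hom.smoothLocus_eq_top]; trivial
    exact this
  · intro hall
    rw [← Scheme.Hom.smoothLocus_eq_top_iff, ← top_le_iff]
    intro z _
    refine Groth.Agent.S2155.mem_smoothLocus_of_isPullback f (Y.fromSpecResidueField y)
      (f.fiberToSpecResidueField y) (f.fiberι y) H z (hall _ ?_)
    have : f.fiberι y z ∈ Set.range (f.fiberι y) := ⟨z, rfl⟩
    rw [f.range_fiberι] at this
    exact this


/-- Let f : X ⟶ Y be a proper, flat morphism of finite presentation. The set of points y of Y whose
fibre X_y is geometrically regular, i.e. smooth over the residue field κ(y), is open in Y. -/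
theorem result {X Y : Scheme.{u}} (f : X ⟶ Y) [IsProper f] [Flat f]
    [LocallyOfFinitePresentation f] :
    IsOpen {y : Y | Smooth (f.fiberToSpecResidueField y)} := by
  have hcl : IsClosed (f '' (f.smoothLocus : Set X)ᶜ) :=
    f.isClosedMap _ f.smoothLocus.2.isClosed_compl
  convert hcl.isOpen_compl using 1
  ext y
  simp only [Set.mem_ofPred_eq, Set.mem_compl_iff, Set.mem_image, not_exists, not_and]
  rw [smooth_fiber_iff]
  constructor
  · intro h x hx hxy
    exact hx (h x hxy)
  · intro h x hxy
    by_contra hx
    exact h x hx hxy

end Groth.Agent.S5934
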