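import Groth.Statements.S5935
import Groth.Agent.Lib.lead.GROpenH
import Groth.Agent.S1364
import Groth.Agent.S1335
import Groth.Agent.S9735

set_option autoImplicit false
open CategoryTheory AlgebraicGeometry
universe u
open EGA43

namespace Groth.Agent.S5935

open AlgebraicGeometry CategoryTheory Limits in
theorem aux {X Y : Scheme.{u}} (f : X ⟶ Y) [IsProper f]
    [Flat f] [LocallyOfFinitePresentation f] (k : ℕ∞) :
    IsOpen {y : Y | GeometricallyReduced (f.fiberToSpecResidueField y) ∧ MoreMor.nGeomConnComp f y = k} := by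
  have hU := Groth.Agent.Lib.lead.GROpen.isOpen_geometricallyReduced_fiber f
  let U : Y.Opens := ⟨_, hU⟩
  have hpb : IsPullback (f ⁻¹ᵁ U).ι (f ∣_ U) f U.ι := (isPullback_morphismRestrict f U).flip
  haveI : IsProper (f ∣_ U) := MorphismProperty.of_isPullback hpb inferInstance
  haveI : Flat (f ∣_ U) := MorphismProperty.of_isPullback hpb inferInstance
  haveI : LocallyOfFinitePresentation (f ∣_ U) := MorphismProperty.of_isPullback hpb inferInstance
  have hred := Groth.Agent.S9735.result f U.ι (f ∣_ U) (f ⁻¹ᵁ U).ι hpb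
  haveI : GeometricallyReduced (f ∣_ U) := by
    rw [geometricallyReduced_iff, geometrically_iff_forall_fiberToSpecResidueField]
    intro u
    rw [← geometricallyReduced_iff]
    have hu : u ∈ U.ι ⁻¹' {y : ↑Y | GeometricallyReduced (f.fiberToSpecResidueField y)} := u.2
    rw [← hred] at hu
    exact hu
  have hlc := Groth.Agent.S1364.result (f ∣_ U)
  have hopen : IsOpen {u : ↥U | MoreMor.nGeomConnComp (f ∣_ U) u = k} := hlc.isOpen_fiber k
  have himg := U.ι.isOpenEmbedding.isOpenMap _ hopen
  convert himg using 1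
  ext y
  constructor
  · rintro ⟨hy1, hy2⟩
    refine ⟨⟨y, hy1⟩, ?_, rfl⟩
    show MoreMor.nGeomConnComp (f ∣_ U) ⟨y, hy1⟩ = k
    rw [Groth.Agent.S1335.result f (f ∣_ U) (f ⁻¹ᵁ U).ι U.ι hpb]
    exact hy2
  · rintro ⟨u, hu, rfl⟩
    refine ⟨u.2, ?_⟩
    have hu' : MoreMor.nGeomConnComp (f ∣_ U) u = k := hu
    rw [Groth.Agent.S1335.result f (f ∣_ U) (f ⁻¹ᵁ U).ι U.ι hpb] at hu'
    exact hu'


/-- Let f : X ⟶ Y be a proper, flat morphism of finite presentation and k ≥ 1 a natural number. The set
of points y of Y such that the fibre X_y is geometrically reduced over κ(y) and the geometric number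
of connected components of X_y (the number of connected components after base change to a separable
closure of κ(y)) equals k is open in Y. -/
theorem result {X Y : Scheme.{u}} (f : X ⟶ Y) [IsProper f]
    [Flat f] [LocallyOfFinitePresentation f] (k : ℕ) (hk : 1 ≤ k) :
    IsOpen {y : Y | GeometricallyReduced (f.fiberToSpecResidueField y) ∧ MoreMor.nGeomConnComp f y = k} := by
  exact aux f k

end Groth.Agent.S5935
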