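import Groth.Statements.S5937
import Groth.Agent.Lib.helper19.RestrUniv

set_option autoImplicit false
universe u
open CategoryTheory CategoryTheory.Limits AlgebraicGeometry
open Unram17

namespace Groth.Agent.S5937

/-- Take a morphism of schemes f : X ⟶ Y and an O_X-module Ω' equipped with a universal Y-derivation d :
O_X → Ω' (so that Ω' is a sheaf of differentials of X over Y). Then f is formally unramified if and
only if Ω' is a zero object of the category of O_X-modules. -/
theorem result {X Y : Scheme.{u}} (f : X ⟶ Y)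
    (Ω' : X.Modules) (d : OmegaSh.Der f Ω') (hd : OmegaSh.IsUniversal d) :
    FormallyUnramified f ↔ IsZero Ω' := by
  open Groth.Agent.Lib.Helper29.OmegaUniv Groth.Agent.Lib.Helper28.QCohLoc in
  constructor
  · intro hf
    have hsub : ∀ W : X.Opens, ∀ x : Γ(Ω', W), x = 0 := by
      intro W x
      refine eq_of_locally_eq Ω' (fun i : {i : Idx f // B f i ≤ W} => B f i.1) W
        (fun i => i.2) (le_iSup_B f W) _ _ (fun i => ?_)
      haveI : Subsingleton Γ(Ω', B f i.1) :=
        (Groth.Agent.Lib.Helper19.RestrUniv.subsingleton_iff f d hd i.1.2.1 i.1.2.2.1 i.1.2.2.2).2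
          (hf.formallyUnramified_appLE i.1.2.2.1 i.1.2.1 i.1.2.2.2)
      exact Subsingleton.elim _ _
    rw [CategoryTheory.Limits.IsZero.iff_id_eq_zero]
    apply Scheme.Modules.hom_ext
    intro W
    ext x
    exact (hsub W _).trans (hsub W _).symm
  · intro hz
    refine ⟨fun {V} hV {U} hU e => ?_⟩
    rw [← Groth.Agent.Lib.Helper19.RestrUniv.subsingleton_iff f d hd hU hV e]
    refine ⟨fun x y => ?_⟩
    have h0 : (𝟙 Ω' : Ω' ⟶ Ω') = 0 := hz.eq_of_src _ _
    have hx : ∀ z : Γ(Ω', U), z = 0 := by
      intro z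
      have h1 : (𝟙 Ω' : Ω' ⟶ Ω').app U z = (0 : Ω' ⟶ Ω').app U z := by rw [h0]
      exact h1
    rw [hx x, hx y]

end Groth.Agent.S5937
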