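import Groth.Statements.S5939
-- import your own Groth.Agent.* helpers here

set_option autoImplicit false
universe u
open CategoryTheory AlgebraicGeometry
open Unram17

namespace Groth.Agent.S5939

open CategoryTheory.Limits in
theorem qc_of_surj_comp {X Y Z : Scheme.{u}} (f : X ⟶ Y) (h : Y ⟶ Z) [Surjective f]
    [QuasiCompact (f ≫ h)] : QuasiCompact h := by
  refine ⟨fun U hU hUc => ?_⟩
  have h1 : IsCompact ((f ≫ h) ⁻¹' U) := QuasiCompact.isCompact_preimage U hU hUc
  have h2 : h ⁻¹' U = f '' ((f ≫ h) ⁻¹' U) := by
    ext y
    constructor
    · intro hy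
      obtain ⟨x, rfl⟩ := f.surjective y
      exact ⟨x, by simpa using hy, rfl⟩
    · rintro ⟨x, hx, rfl⟩
      simpa using hx
  rw [h2]
  exact h1.image f.continuous

/-- Let f : X ⟶ Y be faithfully flat, locally of finite presentation and quasi-compact, and let g : Y ⟶
Z be a morphism such that f ≫ g is of finite presentation (locally of finite presentation,
quasi-compact and quasi-separated). Then g is quasi-compact and quasi-separated; together with the
descent of local finite presentation along f this says that g is of finite presentation. This is the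
case f quasi-compact. -/
theorem result {X Y Z : Scheme.{u}} (f : X ⟶ Y) (g : Y ⟶ Z)
    [Surjective f] [Flat f] [LocallyOfFinitePresentation f] [QuasiCompact f]
    [LocallyOfFinitePresentation (f ≫ g)] [QuasiCompact (f ≫ g)] [QuasiSeparated (f ≫ g)] :
    QuasiCompact g ∧ QuasiSeparated g := by
  have hg : QuasiCompact g := qc_of_surj_comp f g
  refine ⟨hg, ?_⟩
  constructor
  have key : f ≫ Limits.pullback.diagonal g = Limits.pullback.diagonal (f ≫ g) ≫
      Limits.pullback.map (f ≫ g) (f ≫ g) g g f f (𝟙 Z) (by simp) (by simp) := by
    apply Limits.pullback.hom_ext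
    · rw [Category.assoc, Limits.pullback.diagonal_fst, Category.comp_id, Category.assoc,
        Limits.pullback.lift_fst, ← Category.assoc, Limits.pullback.diagonal_fst,
        Category.id_comp]
    · rw [Category.assoc, Limits.pullback.diagonal_snd, Category.comp_id, Category.assoc,
        Limits.pullback.lift_snd, ← Category.assoc, Limits.pullback.diagonal_snd,
        Category.id_comp]
  have h1 : QuasiCompact (Limits.pullback.map (f ≫ g) (f ≫ g) g g f f (𝟙 Z)
      ((Category.comp_id _).trans rfl) ((Category.comp_id _).trans rfl)) :=
    MorphismProperty.pullbackMap (P := @QuasiCompact) ‹QuasiCompact f› ‹QuasiCompact f› rfl rfl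
  have h2 : QuasiCompact (f ≫ Limits.pullback.diagonal g) := by
    rw [key]
    infer_instance
  exact qc_of_surj_comp f (Limits.pullback.diagonal g)

end Groth.Agent.S5939
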