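import Groth.Statements.S9369
import Groth.Agent.Lib.Helper29.OmegaUniv
import Groth.Agent.Lib.Helper29.AffHom2
import Groth.Agent.Lib.helper19.RestrUniv

set_option autoImplicit false
universe u
open OmegaSh

namespace Groth.Agent.S9369



section Helpers
open CategoryTheory CategoryTheory.Limits AlgebraicGeometry TopologicalSpace Opposite
open Groth.Agent.Lib.Helper29.OmegaCan Groth.Agent.Lib.Helper29.OmegaLoc
  Groth.Agent.Lib.Helper29.OmegaUniv Groth.Agent.Lib.Helper29.AffHom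

section

variable {X S : Scheme.{u}} (f : X ⟶ S) (F : X.Modules)

theorem postcomp_app [QuasiSeparated f] (α : Omega.sheaf f ⟶ F) (U : X.Opens) (s : Γ(X, U)) :
    OmegaSh.Der.app ((OmegaSh.dOmega f).postcomp α.val) U s = α.app U (OmegaSh.dSect f U s) := rfl

variable [IsAffine X]

theorem qcohOmega : (Omega.sheaf f).IsQuasicoherent :=
  Groth.Agent.Lib.Helper19.RestrUniv.isQuasicoherent f (OmegaSh.dOmega f) (isUniversal_dOmega f)

theorem app_top_injective [IsAffine S] : Function.Injective (fun D : OmegaSh.Der f F => D.app ⊤) := by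
  intro D₁ D₂ h
  haveI := qcohOmega f
  obtain ⟨α₁, hα₁, -⟩ := isUniversal_dOmega f F D₁
  obtain ⟨α₂, hα₂, -⟩ := isUniversal_dOmega f F D₂
  have e : (⊤ : X.Opens) ≤ f ⁻¹ᵁ ⊤ := le_rfl
  have hd : ∀ s : Γ(X, (⊤ : X.Opens)), α₁.app ⊤ (OmegaSh.dSect f ⊤ s) = α₂.app ⊤ (OmegaSh.dSect f ⊤ s) := by
    intro s
    rw [← postcomp_app, ← postcomp_app, hα₁, hα₂]
    exact DFunLike.congr_fun h s
  have hα : α₁ = α₂ := by
    refine hom_ext_top α₁ α₂ fun x => ?_
    have hx := span_dSect f (isAffineOpen_top X) (isAffineOpen_top S) e x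
    induction hx using Submodule.span_induction with
    | mem z hz =>
      obtain ⟨s, rfl⟩ := hz
      exact hd s
    | zero => rw [map_zero, map_zero]
    | add y z _ _ hy hz => rw [map_add, map_add, hy, hz]
    | smul b y _ hy =>
      rw [Scheme.Modules.Hom.app_smul, Scheme.Modules.Hom.app_smul, hy]
  rw [← hα₁, ← hα₂, hα]

end

section

variable {X S : Scheme.{u}} (f : X ⟶ S) (F : X.Modules) [IsAffine X] [IsAffine S]

omit [IsAffine X] [IsAffine S] in
theorem appTop_eq (e : (⊤ : X.Opens) ≤ f ⁻¹ᵁ ⊤) (c : Γ(S, (⊤ : S.Opens))) :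
    f.appTop c = f.appLE ⊤ ⊤ e c := by
  simp [Scheme.Hom.appLE, Scheme.Hom.appTop]

theorem exists_der (δ : Γ(X, (⊤ : X.Opens)) →+ Γ(F, (⊤ : X.Opens)))
    (h1 : ∀ a b : Γ(X, (⊤ : X.Opens)), δ (a * b) = a • δ b + b • δ a)
    (h2 : ∀ c : Γ(S, (⊤ : S.Opens)), δ (f.appTop c) = 0) :
    ∃ D : OmegaSh.Der f F, D.app ⊤ = δ := by
  haveI := qcohOmega f
  have e : (⊤ : X.Opens) ≤ f ⁻¹ᵁ ⊤ := le_rfl
  letI := alg f e
  letI : Module Γ(S, (⊤ : S.Opens)) Γ(F, (⊤ : X.Opens)) :=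
    Module.compHom Γ(F, (⊤ : X.Opens)) (algebraMap Γ(S, (⊤ : S.Opens)) Γ(X, (⊤ : X.Opens)))
  haveI : IsScalarTower Γ(S, (⊤ : S.Opens)) Γ(X, (⊤ : X.Opens)) Γ(F, (⊤ : X.Opens)) :=
    IsScalarTower.of_algebraMap_smul fun _ _ => rfl
  have h3 : ∀ c : Γ(S, (⊤ : S.Opens)), δ (algebraMap Γ(S, (⊤ : S.Opens)) Γ(X, (⊤ : X.Opens)) c) = 0 := by
    intro c
    have := h2 c
    rwa [appTop_eq f e] at this
  have h4 : δ 1 = 0 := by
    have := h1 1 1
    rw [mul_one, one_smul] at this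
    have h5 : δ 1 + δ 1 = δ 1 + 0 := by rw [add_zero]; exact this.symm
    exact add_left_cancel h5
  let dd : Derivation Γ(S, (⊤ : S.Opens)) Γ(X, (⊤ : X.Opens)) Γ(F, (⊤ : X.Opens)) :=
    { toFun := δ
      map_add' := map_add δ
      map_smul' := fun c b => by
        rw [Algebra.smul_def, h1, h3, smul_zero, add_zero, RingHom.id_apply, algebraMap_smul]
      map_one_eq_zero' := h4
      leibniz' := fun a b => h1 a b }
  obtain ⟨Φ, hΦs, hΦd⟩ := exists_sections_equiv_can f (isAffineOpen_top X) (isAffineOpen_top S) e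
  let ψ : Γ(Omega.sheaf f, (⊤ : X.Opens)) →+ Γ(F, (⊤ : X.Opens)) :=
    dd.liftKaehlerDifferential.toAddMonoidHom.comp Φ.toAddMonoidHom
  have hψ : ∀ (b : Γ(X, (⊤ : X.Opens))) (x : Γ(Omega.sheaf f, (⊤ : X.Opens))), ψ (b • x) = b • ψ x := by
    intro b x
    change dd.liftKaehlerDifferential (Φ (b • x)) = b • dd.liftKaehlerDifferential (Φ x)
    rw [hΦs, map_smul]
  obtain ⟨u, hu⟩ := exists_hom (Omega.sheaf f) F ψ hψ
  refine ⟨(OmegaSh.dOmega f).postcomp u.val, ?_⟩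
  ext s
  rw [postcomp_app, hu]
  change dd.liftKaehlerDifferential (Φ (OmegaSh.dSect f ⊤ s)) = δ s
  rw [hΦd, Derivation.liftKaehlerDifferential_comp_D]
  rfl

end
end Helpers

open AlgebraicGeometry CategoryTheory in
/-- For a morphism of affine schemes f : X → S and an O_X-module F, restricting an S-derivation O_X → F
to global sections is a bijection onto the derivations of Γ(X, O_X) into Γ(X, F) over Γ(S, O_S)
(additive, Leibniz, killing the image of Γ(S, O_S)). -/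
theorem result {X S : Scheme.{u}} [IsAffine X] [IsAffine S] (f : X ⟶ S) (F : X.Modules) :
    Function.Injective (fun D : OmegaSh.Der f F => D.app ⊤) ∧
      ∀ δ : Γ(X, ⊤) →+ Γ(F, ⊤),
        ((∀ a b : Γ(X, ⊤), δ (a * b) = a • δ b + b • δ a) ∧ ∀ c : Γ(S, ⊤), δ (f.appTop c) = 0) ↔
          ∃ D : OmegaSh.Der f F, D.app ⊤ = δ := by
  refine ⟨app_top_injective f F, fun δ => ⟨fun h => exists_der f F δ h.1 h.2, ?_⟩⟩
  rintro ⟨D, rfl⟩
  have e : (⊤ : X.Opens) ≤ f ⁻¹ᵁ ⊤ := le_rfl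
  refine ⟨fun a b => Groth.Agent.Lib.Helper29.OmegaUniv.der_mul f D ⊤ a b, fun c => ?_⟩
  rw [appTop_eq f e]
  exact Groth.Agent.Lib.Helper29.OmegaUniv.der_appLE f D ⊤ ⊤ e c



end Groth.Agent.S9369
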