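import Groth.Statements.S5947
import Groth.Agent.S9369

set_option autoImplicit false
universe u
open CategoryTheory AlgebraicGeometry TopologicalSpace
open Nrm16

namespace Groth.Agent.S5947



section Helpers
open CategoryTheory CategoryTheory.Limits AlgebraicGeometry TopologicalSpace Opposite

/-- `tilde.isoTop` as a map into the sections. -/
noncomputable def τ (R : CommRingCat.{u}) (M : ModuleCat.{u} R) (m : M) :
    Γ(tilde M, (⊤ : (Spec R).Opens)) := (tilde.isoTop M).hom m

theorem τ_add (R : CommRingCat.{u}) (M : ModuleCat.{u} R) (m m' : M) :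
    τ R M (m + m') = τ R M m + τ R M m' := map_add (tilde.isoTop M).hom.hom m m'

theorem τ_bijective (R : CommRingCat.{u}) (M : ModuleCat.{u} R) : Function.Bijective (τ R M) :=
  (ConcreteCategory.bijective_of_isIso (tilde.isoTop M).hom)

theorem τ_smul (R : CommRingCat.{u}) (M : ModuleCat.{u} R) (r : R) (m : M) :
    τ R M (r • m) = ((Scheme.ΓSpecIso R).inv r : Γ(Spec R, (⊤ : (Spec R).Opens))) • τ R M m := by
  have h1 : τ R M (r • m) = r • τ R M m := map_smul (tilde.isoTop M).hom.hom r m
  rw [h1, Scheme.Modules.smul_Spec_def]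
  have : (Spec R).presheaf.map (Opens.leTop (⊤ : (Spec R).Opens)).op = 𝟙 _ := by
    rw [Subsingleton.elim (Opens.leTop (⊤ : (Spec R).Opens)).op (𝟙 _), CategoryTheory.Functor.map_id]
  rw [this]
  rfl


section Main

variable (A B : Type u) [CommRing A] [CommRing B] [Algebra A B]
  (L : Type u) [AddCommGroup L] [Module B L] [Module A L] [IsScalarTower A B L]

/-- the morphism `Spec B ⟶ Spec A`. -/
noncomputable abbrev ff : Spec (CommRingCat.of B) ⟶ Spec (CommRingCat.of A) :=
  Spec.map (CommRingCat.ofHom (algebraMap A B))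

/-- the module `L^~`. -/
noncomputable abbrev FF : (Spec (CommRingCat.of B)).Modules :=
  tilde (ModuleCat.of (CommRingCat.of B) L)

/-- `B → Γ(Spec B, ⊤)`. -/
noncomputable def ιB (t : B) : Γ(Spec (CommRingCat.of B), (⊤ : (Spec (CommRingCat.of B)).Opens)) :=
  (Scheme.ΓSpecIso (CommRingCat.of B)).inv t

/-- `Γ(Spec B, ⊤) ≃+* B`. -/
noncomputable def eB : Γ(Spec (CommRingCat.of B), (⊤ : (Spec (CommRingCat.of B)).Opens)) ≃+* B :=
  (Scheme.ΓSpecIso (CommRingCat.of B)).commRingCatIsoToRingEquiv

theorem ιB_eB (s : Γ(Spec (CommRingCat.of B), (⊤ : (Spec (CommRingCat.of B)).Opens))) :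
    ιB B (eB B s) = s := (eB B).symm_apply_apply s

theorem eB_ιB (t : B) : eB B (ιB B t) = t := (eB B).apply_symm_apply t

theorem ιB_mul (t t' : B) : ιB B (t * t') = ιB B t * ιB B t' := map_mul (eB B).symm t t'

theorem ιB_surjective : Function.Surjective (ιB B) := (eB B).symm.surjective

theorem appTop_ι (a : A) :
    (ff A B).appTop ((Scheme.ΓSpecIso (CommRingCat.of A)).inv a) = ιB B (algebraMap A B a) := by
  have h := Scheme.ΓSpecIso_inv_naturality (CommRingCat.ofHom (algebraMap A B))
  have h2 := congrArg (fun g => g.hom a) h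
  exact h2.symm

/-- `L → Γ(L^~, ⊤)`. -/
noncomputable def τL (l : L) : Γ(FF B L, (⊤ : (Spec (CommRingCat.of B)).Opens)) :=
  τ (CommRingCat.of B) (ModuleCat.of (CommRingCat.of B) L) l

theorem τL_add (l l' : L) : τL B L (l + l') = τL B L l + τL B L l' :=
  τ_add (CommRingCat.of B) (ModuleCat.of (CommRingCat.of B) L) l l'

theorem τL_smul (b : B) (l : L) : τL B L (b • l) = ιB B b • τL B L l :=
  τ_smul (CommRingCat.of B) (ModuleCat.of (CommRingCat.of B) L) b l

theorem τL_bijective : Function.Bijective (τL B L) :=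
  τ_bijective (CommRingCat.of B) (ModuleCat.of (CommRingCat.of B) L)

/-- the inverse. -/
noncomputable def σL : Γ(FF B L, (⊤ : (Spec (CommRingCat.of B)).Opens)) → L :=
  (Equiv.ofBijective _ (τL_bijective B L)).symm

theorem τL_σL (y : Γ(FF B L, (⊤ : (Spec (CommRingCat.of B)).Opens))) : τL B L (σL B L y) = y :=
  (Equiv.ofBijective _ (τL_bijective B L)).apply_symm_apply y

theorem σL_τL (l : L) : σL B L (τL B L l) = l :=
  (Equiv.ofBijective _ (τL_bijective B L)).symm_apply_apply l

theorem σL_add (y y' : Γ(FF B L, (⊤ : (Spec (CommRingCat.of B)).Opens))) :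
    σL B L (y + y') = σL B L y + σL B L y' := by
  apply (τL_bijective B L).1
  rw [τL_add, τL_σL, τL_σL, τL_σL]

theorem σL_smul (b : B) (y : Γ(FF B L, (⊤ : (Spec (CommRingCat.of B)).Opens))) :
    σL B L (ιB B b • y) = b • σL B L y := by
  apply (τL_bijective B L).1
  rw [τL_smul, τL_σL, τL_σL]

theorem σL_zero : σL B L 0 = 0 := by
  have := σL_add B L 0 0
  rw [add_zero] at this
  exact left_eq_add.mp this

theorem part1 (D : OmegaSh.Der (ff A B) (FF B L)) :
    ∃ δ : Derivation A B L, ∀ t : B, D.app ⊤ (ιB B t) = τL B L (δ t) := by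
  obtain ⟨hL, hK⟩ := ((Groth.Agent.S9369.result (ff A B) (FF B L)).2 (D.app ⊤)).mpr ⟨D, rfl⟩
  have hleib : ∀ t t' : B, σL B L (D.app ⊤ (ιB B (t * t'))) =
      t • σL B L (D.app ⊤ (ιB B t')) + t' • σL B L (D.app ⊤ (ιB B t)) := by
    intro t t'
    rw [ιB_mul, hL, σL_add, σL_smul, σL_smul]
  have hbase : ∀ a : A, D.app ⊤ (ιB B (algebraMap A B a)) = 0 := by
    intro a
    rw [← appTop_ι]
    exact hK _
  refine ⟨{ toFun := fun t => σL B L (D.app ⊤ (ιB B t))
            map_add' := fun t t' => by
              have : ιB B (t + t') = ιB B t + ιB B t' := map_add (eB B).symm t t'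
              rw [this, map_add, σL_add]
            map_smul' := fun a t => by
              rw [Algebra.smul_def, hleib, hbase, σL_zero, smul_zero, add_zero, RingHom.id_apply,
                algebraMap_smul]
            map_one_eq_zero' := by
              have h1 := hleib 1 1
              rw [mul_one, one_smul] at h1
              change σL B L (D.app ⊤ (ιB B 1)) = 0
              have h5 : σL B L (D.app ⊤ (ιB B 1)) + σL B L (D.app ⊤ (ιB B 1)) =
                  σL B L (D.app ⊤ (ιB B 1)) + 0 := by rw [add_zero]; exact h1.symm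
              exact add_left_cancel h5
            leibniz' := fun t t' => hleib t t' }, fun t => ?_⟩
  exact (τL_σL B L _).symm

theorem part2 (δ : Derivation A B L) :
    ∃! D : OmegaSh.Der (ff A B) (FF B L), ∀ t : B, D.app ⊤ (ιB B t) = τL B L (δ t) := by
  let δ' : Γ(Spec (CommRingCat.of B), (⊤ : (Spec (CommRingCat.of B)).Opens)) →+
      Γ(FF B L, (⊤ : (Spec (CommRingCat.of B)).Opens)) :=
    { toFun := fun s => τL B L (δ (eB B s))
      map_zero' := by
        rw [map_zero, map_zero]
        have := τL_add B L 0 0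
        rw [add_zero] at this
        exact left_eq_add.mp this
      map_add' := fun s s' => by rw [map_add, map_add, τL_add] }
  have hδ' : ∀ s, δ' s = τL B L (δ (eB B s)) := fun _ => rfl
  have h1 : ∀ a b, δ' (a * b) = a • δ' b + b • δ' a := by
    intro a b
    rw [hδ', hδ', hδ', map_mul, Derivation.leibniz, τL_add, τL_smul, τL_smul, ιB_eB, ιB_eB]
  have h2 : ∀ c, δ' ((ff A B).appTop c) = 0 := by
    intro c
    obtain ⟨a, rfl⟩ : ∃ a : A, (Scheme.ΓSpecIso (CommRingCat.of A)).inv a = c :=
      ⟨(Scheme.ΓSpecIso (CommRingCat.of A)).hom c, by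
        rw [← ConcreteCategory.comp_apply, Iso.hom_inv_id]; rfl⟩
    rw [appTop_ι, hδ', eB_ιB, Derivation.map_algebraMap]
    exact δ'.map_zero ▸ (by rw [hδ', map_zero, map_zero])
  obtain ⟨D, hD⟩ := ((Groth.Agent.S9369.result (ff A B) (FF B L)).2 δ').mp ⟨h1, h2⟩
  refine ⟨D, fun t => ?_, fun D' hD' => ?_⟩
  · rw [hD, hδ', eB_ιB]
  · apply (Groth.Agent.S9369.result (ff A B) (FF B L)).1
    change D'.app ⊤ = D.app ⊤
    ext s
    obtain ⟨t, rfl⟩ := ιB_surjective B s
    rw [hD' t, hD, hδ', eB_ιB]

end Main

end Helpers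

/-- Let A be a commutative ring, B an A-algebra and L a B-module; put S = Spec A, X = Spec B and let F
be the O_X-module associated with L. For an S-derivation D of O_X into F write Γ(D) : B → L for its
effect on global sections (global sections of O_X and of F being identified with B and L by the
canonical isomorphisms). Then D ↦ Γ(D) is a bijection from the set of S-derivations of O_X into F
onto the set of A-derivations of B into L: every Γ(D) is an A-derivation, and every A-derivation of
B into L is Γ(D) for exactly one D. (The published statement asserts an isomorphism of B-modules; no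
module structure is placed on sheaf derivations here, so this row states the bijection.) -/
theorem result (A B : Type u) [CommRing A] [CommRing B] [Algebra A B]
    (L : Type u) [AddCommGroup L] [Module B L] [Module A L] [IsScalarTower A B L] :
    (∀ D : OmegaSh.Der (Spec.map (CommRingCat.ofHom (algebraMap A B))) (tilde (ModuleCat.of (CommRingCat.of B) L)),
      ∃ δ : Derivation A B L, ∀ t : B, D.app ⊤ ((Scheme.ΓSpecIso (CommRingCat.of B)).inv t) =
        (tilde.isoTop (ModuleCat.of (CommRingCat.of B) L)).hom (δ t)) ∧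
    ∀ δ : Derivation A B L,
      ∃! D : OmegaSh.Der (Spec.map (CommRingCat.ofHom (algebraMap A B))) (tilde (ModuleCat.of (CommRingCat.of B) L)),
        ∀ t : B, D.app ⊤ ((Scheme.ΓSpecIso (CommRingCat.of B)).inv t) =
          (tilde.isoTop (ModuleCat.of (CommRingCat.of B) L)).hom (δ t) := by
  exact ⟨fun D => part1 A B L D, fun δ => part2 A B L δ⟩



end Groth.Agent.S5947
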