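import Groth.Statements.S5979
import Groth.Agent.Lib.Helper29.PullbackIso

set_option autoImplicit false
universe u
open CategoryTheory CategoryTheory.Limits AlgebraicGeometry TopologicalSpace Opposite
open Nrm16

namespace Groth.Agent.S5979



theorem isIso_inclusion_of_eq {X : Scheme.{u}} {I J : X.IdealSheafData} (h : I ≤ J) (h' : J ≤ I) :
    IsIso (Scheme.IdealSheafData.inclusion h) := by
  refine ⟨Scheme.IdealSheafData.inclusion h', ?_, ?_⟩
  · rw [Scheme.IdealSheafData.inclusion_comp, Scheme.IdealSheafData.inclusion_id]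
  · rw [Scheme.IdealSheafData.inclusion_comp, Scheme.IdealSheafData.inclusion_id]

theorem isIso_toInfNbhd_zero {X Y : Scheme.{u}} (i : Y ⟶ X) [IsClosedImmersion i] :
    IsIso (PrinPart.toInfNbhd i 0) := by
  unfold PrinPart.toInfNbhd
  haveI : IsIso (Scheme.IdealSheafData.inclusion (PrinPart.ker_pow_succ_le i 0)) :=
    isIso_inclusion_of_eq _ (by rw [zero_add, pow_one])
  infer_instance

theorem isIso_pr2_zero {X S : Scheme.{u}} (f : X ⟶ S) : IsIso (PrinPart.pr2 f 0) := by
  haveI : IsIso (PrinPart.toNbhd f 0) := isIso_toInfNbhd_zero (PrinPart.diagCl f)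
  have h := PrinPart.toNbhd_pr2 f 0
  have h2 : PrinPart.pr2 f 0 = inv (PrinPart.toNbhd f 0) := by
    rw [← cancel_epi (PrinPart.toNbhd f 0), h, IsIso.hom_inv_id]
  rw [h2]
  infer_instance

/-- Let f : X ⟶ S be a morphism of schemes and F an O_X-module. For every open U of X the canonical
operator d^0 : Γ(U, F) ⟶ Γ(U, P^0_{X/S}(F)) is bijective; so P^0_{X/S}(F) is identified with F, and
P^0_{X/S} with O_X, through d^0. -/
theorem result {X S : Scheme.{u}} (f : X ⟶ S) (F : X.Modules) (U : X.Opens) :
    Function.Bijective (PrinPart.dP f 0 F U) := by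
  haveI := isIso_pr2_zero f
  have h1 := Groth.Agent.Lib.Helper29.PullbackIso.pullSect_bijective (PrinPart.pr2 f 0) F U
  have h2 : Function.Bijective
      (((Scheme.Modules.pullback (PrinPart.pr2 f 0)).obj F).presheaf.map
        (homOfLE (PrinPart.preimage_pr1 f 0 U).le).op) := by
    have : IsIso (((Scheme.Modules.pullback (PrinPart.pr2 f 0)).obj F).presheaf.map
        (homOfLE (PrinPart.preimage_pr1 f 0 U).le).op) := by
      have : IsIso (homOfLE (PrinPart.preimage_pr1 f 0 U).le).op := by
        rw [isIso_op_iff]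
        exact ⟨homOfLE (PrinPart.preimage_pr1 f 0 U).ge, rfl, rfl⟩
      infer_instance
    exact (ConcreteCategory.isIso_iff_bijective _).1 this
  exact h2.comp h1



end Groth.Agent.S5979
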