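import Groth.Statements.S5957
import Groth.Agent.S5979
import Groth.Agent.Lib.Helper29.ConormalMap

set_option autoImplicit false
universe u
open CategoryTheory CategoryTheory.Limits AlgebraicGeometry TopologicalSpace Opposite
open Nrm16

namespace Groth.Agent.S5957



section Theta

variable {X S : Scheme.{u}} (f : X ⟶ S) (F : X.Modules)

theorem pr1_zero_eq : PrinPart.pr1 f 0 = PrinPart.pr2 f 0 := by
  haveI : IsIso (PrinPart.toNbhd f 0) :=
    Groth.Agent.S5979.isIso_toInfNbhd_zero (PrinPart.diagCl f)
  rw [← cancel_epi (PrinPart.toNbhd f 0), PrinPart.toNbhd_pr1, PrinPart.toNbhd_pr2]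

/-- `F ≅ P^0(F)`, the canonical operator as an isomorphism of modules. -/
noncomputable def thetaIso : F ≅ PrinPart.PMod f 0 F :=
  haveI := Groth.Agent.S5979.isIso_pr2_zero f
  asIso ((Scheme.Modules.pullbackPushforwardAdjunction (PrinPart.pr2 f 0)).unit.app F) ≪≫
    ((Scheme.Modules.pushforwardCongr (pr1_zero_eq f)).symm.app _)

noncomputable def theta : F ⟶ PrinPart.PMod f 0 F := (thetaIso f F).hom

theorem theta_app (U : X.Opens) (t : Γ(F, U)) :
    (theta f F).app U t = PrinPart.dP f 0 F U t := by
  rfl

instance : IsIso (theta f F) := (thetaIso f F).isIso_hom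

end Theta

/-- Let f : X ⟶ S be a morphism of schemes, F and G two O_X-modules and D : F ⟶ G a homomorphism of
sheaves of abelian groups. Then D is a differential operator of order at most 0 relative to S if and
only if D is O_X-linear: D(a·t) = a·D(t) for every open U, every function a on U and every section t
of F over U. -/
theorem result {X S : Scheme.{u}} (f : X ⟶ S) (F G : X.Modules)
    (D : F.presheaf ⟶ G.presheaf) :
    PrinPart.IsDiffOpLE f F G 0 D ↔
      ∀ (U : X.Opens) (a : Γ(X, U)) (t : Γ(F, U)), D.app (op U) (a • t) = a • D.app (op U) t := by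
  constructor
  · rintro ⟨u, hu⟩ U a t
    rw [hu U (a • t), hu U t, ← theta_app, ← theta_app, Scheme.Modules.Hom.app_smul,
      Scheme.Modules.Hom.app_smul]
  · intro hlin
    let D' : F ⟶ G := ⟨PresheafOfModules.homMk D (fun U r a => hlin U.unop r a)⟩
    refine ⟨inv (theta f F) ≫ D', ?_⟩
    intro U t
    rw [← theta_app]
    change D.app (op U) t = D'.app U ((inv (theta f F)).app U ((theta f F).app U t))
    have h1 : (inv (theta f F)).app U ((theta f F).app U t) = t := by
      rw [← ConcreteCategory.comp_apply, ← Scheme.Modules.Hom.comp_app, IsIso.hom_inv_id]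
      rfl
    rw [h1]
    rfl



end Groth.Agent.S5957
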