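import Groth.Statements.S5961
import Groth.Agent.Lib.Helper29.PPSq
import Groth.Agent.Lib.Helper28.TwistGen

set_option autoImplicit false
universe u
open CategoryTheory CategoryTheory.Limits AlgebraicGeometry TopologicalSpace Opposite
open Nrm16

namespace Groth.Agent.S5961



open Groth.Agent.Lib.Helper29.PPChart Groth.Agent.Lib.Helper29.PPSq
  Groth.Agent.Lib.Helper28.QCohLoc Groth.Agent.Lib.Helper28.TwistGen

section E

variable {X S : Scheme.{u}} (f : X ⟶ S) (n : ℕ)

/-- `e : O_X ⟶ Pⁿ`, `s ↦ s • dⁿ 1`. -/
noncomputable def eP : Coh.structureModule X ⟶ PrinPart.P f n :=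
  ofSection (PrinPart.P f n) (PrinPart.dn f n ⊤ 1)

theorem eP_app (U : X.Opens) (a : Γ(X, U)) :
    (eP f n).app U (OmegaSh.strSect X U a) = a • PrinPart.dn f n U 1 := by
  have h1 := ofSection_app (PrinPart.P f n) (PrinPart.dn f n ⊤ 1) U a
  have h2 : res (PrinPart.P f n) (le_top : U ≤ ⊤) (PrinPart.dn f n ⊤ 1) = PrinPart.dn f n U 1 := by
    have h3 := dn_map f n (le_top : U ≤ ⊤) 1
    rw [map_one] at h3
    exact h3.symm
  rw [h2] at h1
  exact h1

end E

/-- Let f : X ⟶ S be a morphism of schemes, G an O_X-module and D : O_X ⟶ G a differential operator of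
order at most 1 relative to S. Then D can be written in exactly one way as v + d with v : O_X ⟶ G an
O_X-linear map and d an S-derivation of O_X into G. -/
theorem result {X S : Scheme.{u}} (f : X ⟶ S) (G : X.Modules)
    (D : (Coh.structureModule X).presheaf ⟶ G.presheaf)
    (hD : PrinPart.IsDiffOpLE f (Coh.structureModule X) G 1 D) :
    ∃! p : (Coh.structureModule X ⟶ G) × OmegaSh.Der f G,
      ∀ (U : X.Opens) (a : Γ(X, U)),
        D.app (op U) (OmegaSh.strSect X U a) = p.1.app U (OmegaSh.strSect X U a) + p.2.app U a := by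
  obtain ⟨u, hu⟩ := hD
  refine ⟨(eP f 1 ≫ u, derOf u), ?_, ?_⟩
  · intro U a
    change _ = u.app U ((eP f 1).app U (OmegaSh.strSect X U a)) + _
    rw [eP_app, derOf_app, ← map_add, δP, add_sub_cancel, hu]
    rfl
  · rintro ⟨v, d⟩ h
    have hd1 : ∀ U : X.Opens, d.app U 1 = 0 := fun U => d.d_one (op U)
    have hd1' : ∀ U : X.Opens, (derOf u).app U 1 = 0 := fun U => (derOf u).d_one (op U)
    have hv1 : ∀ U : X.Opens, v.app U (OmegaSh.strSect X U 1) =
        (eP f 1 ≫ u).app U (OmegaSh.strSect X U 1) := by
      intro U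
      have h1 := h U 1
      have h2 : D.app (op U) (OmegaSh.strSect X U 1) =
          (eP f 1 ≫ u).app U (OmegaSh.strSect X U 1) + (derOf u).app U 1 := by
        change _ = u.app U ((eP f 1).app U (OmegaSh.strSect X U 1)) + _
        rw [eP_app, derOf_app, ← map_add, δP, add_sub_cancel, hu]
        rfl
      rw [hd1, add_zero] at h1
      rw [hd1', add_zero] at h2
      exact h1.symm.trans h2
    have hv : v = eP f 1 ≫ u := by
      apply Scheme.Modules.hom_ext
      intro U
      ext a
      have h1 : a = (show Γ(X, U) from a) • OmegaSh.strSect X U 1 :=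
        (mul_one (show Γ(X, U) from a)).symm
      change v.app U a = (eP f 1 ≫ u).app U a
      rw [h1, Scheme.Modules.Hom.app_smul, Scheme.Modules.Hom.app_smul, hv1]
    subst hv
    have hd : d = derOf u := by
      apply PresheafOfModules.Derivation.ext
      funext U
      ext a
      have h1 := h U.unop a
      have h2 : D.app (op U.unop) (OmegaSh.strSect X U.unop a) =
          (eP f 1 ≫ u).app U.unop (OmegaSh.strSect X U.unop a) + (derOf u).app U.unop a := by
        change _ = u.app U.unop ((eP f 1).app U.unop (OmegaSh.strSect X U.unop a)) + _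
        rw [eP_app, derOf_app, ← map_add, δP, add_sub_cancel, hu]
        rfl
      have h3 : (eP f 1 ≫ u).app U.unop (OmegaSh.strSect X U.unop a) + d.app U.unop a =
          (eP f 1 ≫ u).app U.unop (OmegaSh.strSect X U.unop a) + (derOf u).app U.unop a :=
        h1.symm.trans h2
      exact add_left_cancel (G := Γ(G, U.unop)) h3
    rw [hd]



end Groth.Agent.S5961
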