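import Groth.Statements.S5962
import Groth.Agent.Lib.Helper29.PPDeltaChart

set_option autoImplicit false
universe u
open CategoryTheory CategoryTheory.Limits AlgebraicGeometry TopologicalSpace Opposite
open Nrm16

namespace Groth.Agent.S5962



open Groth.Agent.Lib.Helper29.PPChart Groth.Agent.Lib.Helper29.PPSq
  Groth.Agent.Lib.Helper29.PPChart2
  Groth.Agent.Lib.Helper29.OmegaCan Groth.Agent.Lib.Helper29.OmegaLoc TensorProduct
  Groth.Agent.Lib.Helper28.QCohLoc Groth.Agent.Lib.Helper29.PPDeltaChart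

section Glue

variable {X S : Scheme.{u}} (f : X ⟶ S) (n n' : ℕ)

/-- a chart map: linear and sending `d^{n+n'} t` to `d^{n'} (d^n t)`. -/
def IsChartMap (U : X.Opens) (ψ : Γ(PrinPart.P f (n + n'), U) →+ Γ(PrinPart.PMod f n' (PrinPart.P f n), U)) :
    Prop :=
  (∀ (a : Γ(X, U)) (x : Γ(PrinPart.P f (n + n'), U)), ψ (a • x) = a • ψ x) ∧
    ∀ t : Γ(X, U), ψ (PrinPart.dn f (n + n') U t) =
      PrinPart.dP f n' (PrinPart.P f n) U (PrinPart.dn f n U t)

variable {f n n'}

theorem chart_res {U U' : X.Opens} (hU : IsAffineOpen U) {V : S.Opens} (hV : IsAffineOpen V)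
    (e : U ≤ f ⁻¹ᵁ V) (h : U' ≤ U)
    {ψ : Γ(PrinPart.P f (n + n'), U) →+ Γ(PrinPart.PMod f n' (PrinPart.P f n), U)}
    (hψ : IsChartMap f n n' U ψ)
    {ψ' : Γ(PrinPart.P f (n + n'), U') →+ Γ(PrinPart.PMod f n' (PrinPart.P f n), U')}
    (hψ' : IsChartMap f n n' U' ψ') (x : Γ(PrinPart.P f (n + n'), U)) :
    res (PrinPart.PMod f n' (PrinPart.P f n)) h (ψ x) = ψ' (res (PrinPart.P f (n + n')) h x) := by
  have hx := mem_closure_smul_dn f (n + n') hU hV e x
  induction hx using AddSubgroup.closure_induction with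
  | mem y hy =>
    obtain ⟨b, b', rfl⟩ := hy
    rw [hψ.1, hψ.2, res_smul, res_smul, hψ'.1]
    congr 1
    have h1 : res (PrinPart.P f (n + n')) h (PrinPart.dn f (n + n') U b') =
        PrinPart.dn f (n + n') U' (resO h b') := (dn_map f (n + n') h b').symm
    have h2 : res (PrinPart.PMod f n' (PrinPart.P f n)) h
        (PrinPart.dP f n' (PrinPart.P f n) U (PrinPart.dn f n U b')) =
        PrinPart.dP f n' (PrinPart.P f n) U' (res (PrinPart.P f n) h (PrinPart.dn f n U b')) :=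
      (PrinPart.dP_map f n' (PrinPart.P f n) h _).symm
    have h3 : res (PrinPart.P f n) h (PrinPart.dn f n U b') = PrinPart.dn f n U' (resO h b') :=
      (dn_map f n h b').symm
    rw [h1, hψ'.2, h2, h3]
  | zero => rw [map_zero, res_zero, res_zero, map_zero]
  | add y z _ _ hy hz => rw [map_add, res_add, res_add, map_add, hy, hz]
  | neg y _ hy =>
    have e1 : ∀ (M : X.Modules) (z : Γ(M, U)), res M h (-z) = -res M h z := fun M z => map_neg _ z
    rw [map_neg, e1, e1, map_neg, hy]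

end Glue

/-- Let f : X ⟶ S be a morphism of schemes and n, n' natural numbers. There is exactly one O_X-linear
map δ : P^(n+n')_{X/S} ⟶ P^n'_{X/S}(P^n_{X/S}) for the left O_X-module structures, the target being
the sheaf of principal parts of order n' of the left O_X-module P^n_{X/S}, such that δ(d^(n+n') t) =
d^n'(d^n t) for every local function t on X. -/
theorem result {X S : Scheme.{u}} (f : X ⟶ S) (n n' : ℕ) :
    ∃! δ : PrinPart.P f (n + n') ⟶ PrinPart.PMod f n' (PrinPart.P f n),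
      ∀ (U : X.Opens) (t : Γ(X, U)),
        δ.app U (PrinPart.dn f (n + n') U t) = PrinPart.dP f n' (PrinPart.P f n) U (PrinPart.dn f n U t) := by
  haveI : (PrinPart.P f (n + n')).IsQuasicoherent := Groth.Agent.S5954.isQuasicoherent_PMod f (n + n') _
  let ι := { p : X.Opens × S.Opens // IsAffineOpen p.1 ∧ IsAffineOpen p.2 ∧ p.1 ≤ f ⁻¹ᵁ p.2 }
  have hcov : ∀ (W : X.Opens) (x : X), x ∈ W → ∃ i : ι, x ∈ i.1.1 ∧ i.1.1 ≤ W := by
    intro W x hx
    obtain ⟨_, ⟨V, hV, rfl⟩, hfV, -⟩ :=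
      S.isBasis_affineOpens.exists_subset_of_mem_open (Set.mem_univ (f x)) isOpen_univ
    have h1 : x ∈ f ⁻¹ᵁ V ⊓ W := ⟨hfV, hx⟩
    obtain ⟨_, ⟨U, hU, rfl⟩, hxU, hle⟩ :=
      X.isBasis_affineOpens.exists_subset_of_mem_open h1 (f ⁻¹ᵁ V ⊓ W).isOpen
    exact ⟨⟨(U, V), hU, hV, hle.trans inf_le_left⟩, hxU, hle.trans inf_le_right⟩
  have hex : ∀ i : ι, ∃ ψ, IsChartMap f n n' i.1.1 ψ :=
    fun i => exists_chartMap f n n' i.2.1 i.2.2.1 i.2.2.2
  choose ψ hψ using hex
  let D : ChartHomData (PrinPart.P f (n + n')) (PrinPart.PMod f n' (PrinPart.P f n)) :=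
    { ι := ι
      U := fun i => i.1.1
      hU := fun i => i.2.1
      cov := fun x => by
        obtain ⟨i, hi, -⟩ := hcov ⊤ x trivial
        exact ⟨i, hi⟩
      loc := fun i => isLocOn_of_isQuasicoherent _ i.2.1
      ψ := ψ
      smul := fun i => (hψ i).1
      compat := fun i j m => by
        refine ext_eq _ _ _ _ _ _ _ ?_
        intro r hr k m' hkm
        have hW : IsAffineOpen (X.basicOpen r) := i.2.1.basicOpen r
        have eW : X.basicOpen r ≤ f ⁻¹ᵁ i.1.2 := (X.basicOpen_le r).trans i.2.2.2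
        obtain ⟨χ, hχ⟩ := exists_chartMap f n n' hW i.2.2.1 eW
        have h1 := chart_res i.2.1 i.2.2.1 i.2.2.2 (X.basicOpen_le r) (hψ i) hχ m'
        have h2 := chart_res j.2.1 j.2.2.1 j.2.2.2 (hr.trans inf_le_right) (hψ j) hχ m
        rw [res_res, h2, h1, ← hkm, res_res, hχ.1] }
  have hD : ∀ (W : X.Opens) (t : Γ(X, W)),
      D.hom.app W (PrinPart.dn f (n + n') W t) =
        PrinPart.dP f n' (PrinPart.P f n) W (PrinPart.dn f n W t) := by
    intro W t
    refine eq_of_locally_eq _ (fun i : {i : ι // i.1.1 ≤ W} => i.1.1.1) W (fun i => i.2) ?_ _ _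
      fun i => ?_
    · intro x hx
      obtain ⟨i, hi, hle⟩ := hcov W x hx
      exact Opens.mem_iSup.mpr ⟨⟨i, hle⟩, hi⟩
    · have h1 : res (PrinPart.P f (n + n')) i.2 (PrinPart.dn f (n + n') W t) =
          PrinPart.dn f (n + n') i.1.1.1 (resO i.2 t) := (dn_map f (n + n') i.2 t).symm
      have h2 : res (PrinPart.PMod f n' (PrinPart.P f n)) i.2
          (PrinPart.dP f n' (PrinPart.P f n) W (PrinPart.dn f n W t)) =
          PrinPart.dP f n' (PrinPart.P f n) i.1.1.1 (res (PrinPart.P f n) i.2 (PrinPart.dn f n W t)) :=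
        (PrinPart.dP_map f n' (PrinPart.P f n) i.2 _).symm
      have h3 : res (PrinPart.P f n) i.2 (PrinPart.dn f n W t) = PrinPart.dn f n i.1.1.1 (resO i.2 t) :=
        (dn_map f n i.2 t).symm
      rw [← app_res, h1, h2, h3]
      exact (D.hom_app i.1 _).trans ((hψ i.1).2 _)
  refine ⟨D.hom, hD, ?_⟩
  intro δ' hδ'
  apply Scheme.Modules.hom_ext
  intro W
  ext x
  refine eq_of_locally_eq _ (fun i : {i : ι // i.1.1 ≤ W} => i.1.1.1) W (fun i => i.2) ?_ _ _
    fun i => ?_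
  · intro x hx
    obtain ⟨i, hi, hle⟩ := hcov W x hx
    exact Opens.mem_iSup.mpr ⟨⟨i, hle⟩, hi⟩
  · rw [← app_res, ← app_res]
    have hc : IsChartMap f n n' i.1.1.1
        (AddMonoidHom.mk' (fun y => δ'.app i.1.1.1 y) (fun a b => map_add _ a b)) :=
      ⟨fun a y => Scheme.Modules.Hom.app_smul δ' a y, fun t => hδ' _ t⟩
    have h1 := chart_res i.1.2.1 i.1.2.2.1 i.1.2.2.2 le_rfl (hψ i.1) hc
      (res (PrinPart.P f (n + n')) i.2 x)
    rw [res_self, res_self] at h1
    exact h1.symm.trans (D.hom_app i.1 _).symm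



end Groth.Agent.S5962
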