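import Groth.Statements.S5966
import Groth.Agent.Lib.Helper14.ShfModSAFT

set_option autoImplicit false
universe u
open CategoryTheory CategoryTheory.Limits AlgebraicGeometry TopologicalSpace Opposite
open Nrm16

namespace Groth.Agent.S5966



/-- Pushforward of abelian sheaves along a homeomorphism preserves colimits. -/
theorem preservesColimits_sheafPushforward_of_iso {X Y : TopCat.{u}} (H : X ≅ Y) :
    PreservesColimitsOfSize.{u, u}
      ((Opens.map H.hom).sheafPushforwardContinuous AddCommGrpCat.{u}
        (Opens.grothendieckTopology Y) (Opens.grothendieckTopology X)) := by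
  have adj : Opens.map H.hom ⊣ Opens.map H.inv := (Opens.mapMapIso H).toAdjunction
  exact (adj.sheafPushforwardContinuous (E := AddCommGrpCat.{u}) (Opens.grothendieckTopology Y)
    (Opens.grothendieckTopology X)).leftAdjoint_preservesColimits

/-- Pushforward of modules along a morphism of schemes which is a homeomorphism preserves
colimits. -/
theorem preservesColimits_pushforward_of_iso_base {X Y : Scheme.{u}} (g : X ⟶ Y)
    (H : X.toTopCat ≅ Y.toTopCat) (hH : H.hom = g.base) :
    PreservesColimitsOfSize.{u, u} (Scheme.Modules.pushforward g) := by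
  have h0 := preservesColimits_sheafPushforward_of_iso H
  rw [hH] at h0
  constructor
  intro I _
  haveI : PreservesColimitsOfShape I ((Opens.map g.base).sheafPushforwardContinuous AddCommGrpCat.{u}
        (Opens.grothendieckTopology Y) (Opens.grothendieckTopology X)) := h0.preservesColimitsOfShape
  exact Groth.Agent.Lib.Helper14.ShfModSAFT.pushforward_preservesColimitsOfShape
    (Opens.grothendieckTopology Y) (Opens.grothendieckTopology X) (Opens.map g.base)
    g.toRingCatSheafHom I

/-- Let f : X ⟶ S be a morphism of schemes and n a natural number. The functor F ↦ P^n_{X/S}(F),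
pullback along the second projection of the n-th infinitesimal neighbourhood of the diagonal
followed by pushforward along the first, from O_X-modules to O_X-modules, commutes with all small
colimits (in particular it is right exact). -/
theorem result {X S : Scheme.{u}} (f : X ⟶ S) (n : ℕ) :
    PreservesColimitsOfSize.{u, u}
      ((Scheme.Modules.pullback (PrinPart.pr2 f n)) ⋙ (Scheme.Modules.pushforward (PrinPart.pr1 f n))) := by
  have h1 : (PrinPart.toNbhd f n).base ≫ (PrinPart.pr1 f n).base = 𝟙 _ := by
    rw [← Scheme.Hom.comp_base, PrinPart.toNbhd_pr1]; rfl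
  have h2 : (PrinPart.pr1 f n).base ≫ (PrinPart.toNbhd f n).base = 𝟙 _ := by
    ext y
    obtain ⟨z, rfl⟩ := PrinPart.toInfNbhd_surjective (PrinPart.diagCl f) n y
    have := congrArg (fun φ => (ConcreteCategory.hom φ) z) h1
    simp only [TopCat.hom_comp, ContinuousMap.comp_apply, TopCat.hom_id, ContinuousMap.id_apply] at this ⊢
    exact congrArg _ this
  let H : (PrinPart.nbhd f n).toTopCat ≅ X.toTopCat :=
    { hom := (PrinPart.pr1 f n).base, inv := (PrinPart.toNbhd f n).base, hom_inv_id := h2, inv_hom_id := h1 }
  haveI := preservesColimits_pushforward_of_iso_base (PrinPart.pr1 f n) H rfl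
  haveI : PreservesColimitsOfSize.{u, u} (Scheme.Modules.pullback (PrinPart.pr2 f n)) :=
    (Scheme.Modules.pullbackPushforwardAdjunction (PrinPart.pr2 f n)).leftAdjoint_preservesColimits
  infer_instance



end Groth.Agent.S5966
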