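import Groth.Statements.S5967
import Groth.Agent.Lib.Helper29.PPDeltaChart
import Groth.Agent.Lib.Helper29.QCohStruct
import Groth.Agent.Lib.Helper17.PrinPartAff
import Groth.Agent.Lib.Helper17.FlatDict2
import Groth.Agent.Lib.Helper1.FlatPullback

set_option autoImplicit false
universe u
open CategoryTheory CategoryTheory.Limits AlgebraicGeometry TopologicalSpace Opposite
open Nrm16

namespace Groth.Agent.S5967



section Helpers

open TensorProduct
open Groth.Agent.Lib.Helper29.PPChart Groth.Agent.Lib.Helper29.PPChart2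
  Groth.Agent.Lib.Helper29.PPDeltaChart Groth.Agent.Lib.Helper29.OmegaCan
  Groth.Agent.Lib.Helper29.OmegaLoc Groth.Agent.Lib.Helper29.QCohStalk

/-- the swap of `B ⊗_A B` preserves the kernel of multiplication. -/
lemma comm_mem_ideal {A B : Type u} [CommRing A] [CommRing B] [Algebra A B] (z : B ⊗[A] B)
    (hz : z ∈ KaehlerDifferential.ideal A B) :
    Algebra.TensorProduct.comm A B B z ∈ KaehlerDifferential.ideal A B := by
  rw [KaehlerDifferential.ideal, RingHom.mem_ker] at hz ⊢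
  have h : ∀ w : B ⊗[A] B, Algebra.TensorProduct.lmul' A (S := B)
      (Algebra.TensorProduct.comm A B B w) = Algebra.TensorProduct.lmul' A (S := B) w := by
    intro w
    induction w using TensorProduct.induction_on with
    | zero => simp
    | tmul x y => simp [mul_comm]
    | add x y hx hy => rw [map_add, map_add, map_add, hx, hy]
  exact (h z).trans hz

lemma comm_mem_ideal_pow {A B : Type u} [CommRing A] [CommRing B] [Algebra A B] (m : ℕ)
    (z : B ⊗[A] B) (hz : z ∈ KaehlerDifferential.ideal A B ^ m) :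
    Algebra.TensorProduct.comm A B B z ∈ KaehlerDifferential.ideal A B ^ m := by
  have h1 : (KaehlerDifferential.ideal A B).map
      (Algebra.TensorProduct.comm A B B : B ⊗[A] B →+* B ⊗[A] B) ≤
      KaehlerDifferential.ideal A B := by
    rw [Ideal.map_le_iff_le_comap]
    intro w hw
    exact comm_mem_ideal w hw
  have h2 : (KaehlerDifferential.ideal A B ^ m).map
      (Algebra.TensorProduct.comm A B B : B ⊗[A] B →+* B ⊗[A] B) ≤
      KaehlerDifferential.ideal A B ^ m := by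
    rw [Ideal.map_pow]
    exact Ideal.pow_right_mono h1 m
  exact h2 (Ideal.mem_map_of_mem _ hz)

variable {X S : Scheme.{u}} (f : X ⟶ S) (n : ℕ)
  {U : X.Opens} (hU : IsAffineOpen U) {V : S.Opens} (hV : IsAffineOpen V) (e : U ≤ f ⁻¹ᵁ V)

include hU hV e in
/-- the swap of the chart ring. -/
theorem exists_swap :
    ∃ σ : Γ(PrinPart.nbhd f n, PrinPart.pr1 f n ⁻¹ᵁ U) →+*
        Γ(PrinPart.nbhd f n, PrinPart.pr1 f n ⁻¹ᵁ U),
      Function.Bijective σ ∧ ∀ b : Γ(X, U), σ ((PrinPart.pr1 f n).app U b) =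
        (PrinPart.pr2 f n).appLE U (PrinPart.pr1 f n ⁻¹ᵁ U) (le_preimage_pr2 f n U) b := by
  letI := alg f e
  set ρ' := ρ f n hU hV e with hρ'
  have hsurj : Function.Surjective ρ' := ρ_surjective f n hU hV e
  have hker : RingHom.ker ρ' = KaehlerDifferential.ideal Γ(S, V) Γ(X, U) ^ (n + 1) :=
    ker_ρ f n hU hV e
  set τ : Γ(X, U) ⊗[Γ(S, V)] Γ(X, U) →+* Γ(X, U) ⊗[Γ(S, V)] Γ(X, U) :=
    (Algebra.TensorProduct.comm Γ(S, V) Γ(X, U) Γ(X, U) :
      Γ(X, U) ⊗[Γ(S, V)] Γ(X, U) →+* Γ(X, U) ⊗[Γ(S, V)] Γ(X, U)) with hτ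
  have hττ : ∀ z, τ (τ z) = z := by
    intro z
    induction z using TensorProduct.induction_on with
    | zero => simp
    | tmul x y => simp [hτ]
    | add x y hx hy => rw [map_add, map_add, hx, hy]
  have hle : RingHom.ker ρ' ≤ RingHom.ker (ρ'.comp τ) := by
    intro z hz
    rw [RingHom.mem_ker, RingHom.comp_apply, ← RingHom.mem_ker, hker]
    rw [hker] at hz
    exact comm_mem_ideal_pow (n + 1) z hz
  set σ := RingHom.liftOfSurjective ρ' hsurj ⟨ρ'.comp τ, hle⟩ with hσ
  have hσρ : ∀ z, σ (ρ' z) = ρ' (τ z) := fun z =>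
    RingHom.liftOfRightInverse_comp_apply _ _ _ _ z
  have hσσ : ∀ y, σ (σ y) = y := by
    intro y
    obtain ⟨z, rfl⟩ := hsurj y
    rw [hσρ, hσρ, hττ]
  refine ⟨σ, ⟨fun a b h => ?_, fun y => ⟨σ y, hσσ y⟩⟩, fun b => ?_⟩
  · rw [← hσσ a, h, hσσ]
  · have h1 : ρ' (b ⊗ₜ[Γ(S, V)] 1) = (PrinPart.pr1 f n).app U b := ρ_inl f n hU hV e b
    have h2 : ρ' (1 ⊗ₜ[Γ(S, V)] b) = (PrinPart.pr2 f n).appLE U (PrinPart.pr1 f n ⁻¹ᵁ U)
      (le_preimage_pr2 f n U) b := ρ_inr f n hU hV e b
    rw [← h1, hσρ, ← h2]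
    congr 1

include hU in
theorem flat_pr1_app (hP : FlatMod.IsFlat (PrinPart.P f n)) :
    ((PrinPart.pr1 f n).app U).hom.Flat := by
  haveI : (PrinPart.P f n).IsQuasicoherent :=
    Groth.Agent.Lib.Helper17.PrinPartAff.isQuasicoherent_PMod f n _
  have h1 : Module.Flat Γ(X, U) Γ(PrinPart.P f n, U) :=
    (Groth.Agent.Lib.Helper17.FlatDict2.flat_sections_iff_isFlatAt (PrinPart.P f n) hU).2
      (fun x _ => hP x)
  have h2 : Module.Flat Γ(X, U) (RL f n U) := Module.Flat.of_linearEquiv (NΦ f n).symm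
  exact h2

include hU hV e in
theorem flat_pr2_appLE (hP : FlatMod.IsFlat (PrinPart.P f n)) :
    ((PrinPart.pr2 f n).appLE U (PrinPart.pr1 f n ⁻¹ᵁ U) (le_preimage_pr2 f n U)).hom.Flat := by
  obtain ⟨σ, hσ, h⟩ := exists_swap f n hU hV e
  have h1 := flat_pr1_app f n hU hP
  have h2 : ((PrinPart.pr2 f n).appLE U (PrinPart.pr1 f n ⁻¹ᵁ U) (le_preimage_pr2 f n U)).hom =
      σ.comp ((PrinPart.pr1 f n).app U).hom := by
    ext b
    exact (h b).symm
  rw [h2]
  exact RingHom.Flat.comp h1 (RingHom.Flat.of_bijective hσ)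

theorem flat_pr2 (hP : FlatMod.IsFlat (PrinPart.P f n)) : Flat (PrinPart.pr2 f n) := by
  rw [HasRingHomProperty.iff_exists_appLE (P := @Flat)
    (RingHom.Flat.stableUnderComposition.stableUnderCompositionWithLocalizationAway
      RingHom.Flat.holdsForLocalizationAway).1]
  intro y
  obtain ⟨_, ⟨V, hV, rfl⟩, hxV, -⟩ := S.isBasis_affineOpens.exists_subset_of_mem_open
    (Set.mem_univ (f (PrinPart.pr1 f n y))) isOpen_univ
  obtain ⟨_, ⟨U, hU, rfl⟩, hxU, hUV⟩ := X.isBasis_affineOpens.exists_subset_of_mem_open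
    (show PrinPart.pr1 f n y ∈ (f ⁻¹ᵁ V : X.Opens) from hxV) (f ⁻¹ᵁ V).2
  exact ⟨⟨U, hU⟩, ⟨PrinPart.pr1 f n ⁻¹ᵁ U, isAffineOpen_preimage_pr1 f n hU hV hUV⟩, hxU,
    le_preimage_pr2 f n U, flat_pr2_appLE f n hU hV hUV hP⟩

end Helpers

/-- Let f : X ⟶ S be a morphism of schemes and n a natural number, and assume that P^n_{X/S} is a flat
O_X-module for its left structure. Then the functor F ↦ P^n_{X/S}(F) on O_X-modules preserves finite
limits (so it is exact). -/
theorem result {X S : Scheme.{u}} (f : X ⟶ S) (n : ℕ)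
    (hP : FlatMod.IsFlat (PrinPart.P f n)) :
    PreservesFiniteLimits
      ((Scheme.Modules.pullback (PrinPart.pr2 f n)) ⋙ (Scheme.Modules.pushforward (PrinPart.pr1 f n))) := by
  haveI : Flat (PrinPart.pr2 f n) := flat_pr2 f n hP
  haveI : PreservesFiniteLimits (Scheme.Modules.pullback (PrinPart.pr2 f n)) :=
    Groth.Agent.Lib.Helper1.FlatPullback.pullback_preservesFiniteLimits _
  haveI : PreservesLimitsOfSize.{0, 0} (Scheme.Modules.pushforward (PrinPart.pr1 f n)) :=
    (Scheme.Modules.pullbackPushforwardAdjunction (PrinPart.pr1 f n)).rightAdjoint_preservesLimits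
  haveI : PreservesFiniteLimits (Scheme.Modules.pushforward (PrinPart.pr1 f n)) :=
    PreservesLimitsOfSize.preservesFiniteLimits _
  exact comp_preservesFiniteLimits _ _



end Groth.Agent.S5967
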