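import Groth.Statements.S5968
import Groth.Agent.Lib.Helper17.SectionIntegral
import Groth.Agent.Lib.Helper17.FinTypePushPull
import Mathlib
set_option backward.isDefEq.respectTransparency.types false

set_option autoImplicit false
universe u
open CategoryTheory CategoryTheory.Limits AlgebraicGeometry TopologicalSpace Opposite
open Nrm16

namespace Groth.Agent.S5968
open Groth.Agent.Lib.Helper17 Groth.Agent.Lib.Helper17.PrinPartAff Groth.Agent.Lib.Helper17.FinTypePushPull


/-- Consider a morphism f : X ⟶ S that is locally of finite type, fix a natural number n, and suppose F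
is an O_X-module which is quasi-coherent and of finite type. Regarded as an O_X-module through its
left structure, the sheaf of principal parts P^n_{X/S}(F) is again quasi-coherent and of finite
type. (The published result covers both O_X-module structures on P^n_{X/S}(F); here only the left
one is treated, since that is the structure the sheaf of principal parts is given in this
formalization.) -/
theorem result {X S : Scheme.{u}} (f : X ⟶ S) [LocallyOfFiniteType f] (n : ℕ)
    (F : X.Modules) (hF : Coh.IsCoh F) :
    Coh.IsCoh (PrinPart.PMod f n F) := by
  obtain ⟨hq, hft⟩ := hF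
  haveI : F.IsQuasicoherent := hq
  haveI : SheafOfModules.IsFiniteType.{u} (R := X.ringCatSheaf) F := hft
  haveI : LocallyOfFiniteType (PrinPart.pr1 f n) := by
    unfold PrinPart.pr1 PrinPart.nbhdι PrinPart.infNbhdι
    infer_instance
  haveI : IsFinite (PrinPart.pr1 f n) :=
    isFinite_of_section _ (PrinPart.toNbhd f n) (PrinPart.toInfNbhd_surjective _ n) (PrinPart.toNbhd_pr1 f n)
  refine ⟨isQuasicoherent_PMod f n F, ?_⟩
  unfold PrinPart.PMod
  haveI := isFiniteType_pullback (PrinPart.pr2 f n) F
  exact isFiniteType_pushforward (PrinPart.pr1 f n) _

end Groth.Agent.S5968
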