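import Groth.Statements.S5969
import Groth.Agent.Lib.Helper29.GrComap

set_option autoImplicit false
universe u
open CategoryTheory CategoryTheory.Limits AlgebraicGeometry TopologicalSpace Opposite
open Nrm16

namespace Groth.Agent.S5969



section Swap

variable {X S : Scheme.{u}} (f : X ⟶ S)

theorem diag_swap : pullback.diagonal f ≫ (pullbackSymmetry f f).hom = pullback.diagonal f := by
  apply pullback.hom_ext <;> simp

theorem swap_swap : (pullbackSymmetry f f).hom ≫ (pullbackSymmetry f f).hom = 𝟙 _ := by
  apply pullback.hom_ext <;> simp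

theorem preimage_range_diag :
    (pullbackSymmetry f f).hom ⁻¹' (Set.range (pullback.diagonal f)) =
      Set.range (pullback.diagonal f) := by
  ext x
  constructor
  · rintro ⟨y, hy⟩
    refine ⟨y, ?_⟩
    have h1 : (pullbackSymmetry f f).hom ((pullback.diagonal f) y) = (pullback.diagonal f) y := by
      rw [← Scheme.Hom.comp_apply, diag_swap]
    have h2 : (pullbackSymmetry f f).hom ((pullbackSymmetry f f).hom x) = x := by
      rw [← Scheme.Hom.comp_apply, swap_swap]
      rfl
    rw [← h2, ← hy, h1]
  · rintro ⟨y, rfl⟩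
    refine ⟨y, ?_⟩
    rw [← Scheme.Hom.comp_apply, diag_swap]

theorem range_comp_subset :
    Set.range ((pullback.diagonal f).coborderRange.ι ≫ (pullbackSymmetry f f).hom) ⊆
      Set.range (pullback.diagonal f).coborderRange.ι := by
  rintro _ ⟨x, rfl⟩
  rw [Scheme.Opens.range_ι]
  change (pullbackSymmetry f f).hom ((pullback.diagonal f).coborderRange.ι x) ∈
    coborder (Set.range (pullback.diagonal f))
  have hx : (pullback.diagonal f).coborderRange.ι x ∈ coborder (Set.range (pullback.diagonal f)) :=
    x.2
  have h1 := coborder_preimage (f := (pullbackSymmetry f f).hom)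
    ((Scheme.homeoOfIso (pullbackSymmetry f f)).isOpenMap)
    (pullbackSymmetry f f).hom.continuous (Set.range (pullback.diagonal f))
  rw [preimage_range_diag] at h1
  rw [h1] at hx
  exact hx

/-- the swap, restricted to the coborder of the diagonal. -/
noncomputable def swapC : ((pullback.diagonal f).coborderRange : Scheme.{u}) ⟶
    ((pullback.diagonal f).coborderRange : Scheme.{u}) :=
  IsOpenImmersion.lift (pullback.diagonal f).coborderRange.ι
    ((pullback.diagonal f).coborderRange.ι ≫ (pullbackSymmetry f f).hom) (range_comp_subset f)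

theorem swapC_ι : swapC f ≫ (pullback.diagonal f).coborderRange.ι =
    (pullback.diagonal f).coborderRange.ι ≫ (pullbackSymmetry f f).hom :=
  IsOpenImmersion.lift_fac _ _ _

theorem swapC_swapC : swapC f ≫ swapC f = 𝟙 _ := by
  rw [← cancel_mono (pullback.diagonal f).coborderRange.ι, Category.assoc, swapC_ι,
    ← Category.assoc, swapC_ι, Category.assoc, swap_swap, Category.comp_id, Category.id_comp]

instance : IsIso (swapC f) := ⟨swapC f, swapC_swapC f, swapC_swapC f⟩

theorem diagCl_swapC : PrinPart.diagCl f ≫ swapC f = PrinPart.diagCl f := by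
  rw [← cancel_mono (pullback.diagonal f).coborderRange.ι, Category.assoc, swapC_ι,
    ← Category.assoc, Scheme.Hom.liftCoborder_ι, diag_swap]

end Swap

/-- Let f : X ⟶ S be a morphism of schemes and n a natural number. On the order-n infinitesimal
thickening of the diagonal of f there is an endomorphism σ which is compatible, under the immersion
into X ×_S X, with the symmetry exchanging the two factors; σ is an involution, it exchanges the two
projections to X (so it exchanges the two O_X-algebra structures of P^n_{X/S}) and it fixes the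
diagonal section. -/
theorem result {X S : Scheme.{u}} (f : X ⟶ S) (n : ℕ) :
    ∃ σ : PrinPart.nbhd f n ⟶ PrinPart.nbhd f n,
      σ ≫ PrinPart.nbhdι f n = PrinPart.nbhdι f n ≫ (pullbackSymmetry f f).hom ∧
      σ ≫ σ = 𝟙 (PrinPart.nbhd f n) ∧
      σ ≫ PrinPart.pr1 f n = PrinPart.pr2 f n ∧ σ ≫ PrinPart.pr2 f n = PrinPart.pr1 f n ∧
      PrinPart.toNbhd f n ≫ σ = PrinPart.toNbhd f n := by
  let K := (PrinPart.diagCl f).ker ^ (n + 1)
  have Hpb : IsPullback (PrinPart.diagCl f) (𝟙 X) (swapC f) (PrinPart.diagCl f) :=
    IsPullback.of_vert_isIso ⟨by rw [diagCl_swapC, Category.id_comp]⟩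
  have hcomap : K.comap (swapC f) = K :=
    Groth.Agent.Lib.Helper29.GrComap.comap_ker_pow (PrinPart.diagCl f) (swapC f) (𝟙 X)
      (PrinPart.diagCl f) Hpb (n + 1)
  have H : K.subschemeι.ker ≤ (K.subschemeι ≫ swapC f).ker := by
    rw [Scheme.IdealSheafData.ker_subschemeι]
    change K ≤ K.map (swapC f)
    rw [Scheme.IdealSheafData.le_map_iff_comap_le, hcomap]
  let σ : PrinPart.nbhd f n ⟶ PrinPart.nbhd f n :=
    IsClosedImmersion.lift K.subschemeι (K.subschemeι ≫ swapC f) H
  have hσ : σ ≫ K.subschemeι = K.subschemeι ≫ swapC f := IsClosedImmersion.lift_fac _ _ _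
  have h1 : σ ≫ PrinPart.nbhdι f n = PrinPart.nbhdι f n ≫ (pullbackSymmetry f f).hom := by
    unfold PrinPart.nbhdι PrinPart.infNbhdι
    rw [← Category.assoc, hσ, Category.assoc, swapC_ι, Category.assoc]
  haveI : Mono (PrinPart.nbhdι f n) := by
    unfold PrinPart.nbhdι PrinPart.infNbhdι
    infer_instance
  refine ⟨σ, h1, ?_, ?_, ?_, ?_⟩
  · rw [← cancel_mono (PrinPart.nbhdι f n), Category.assoc, h1, ← Category.assoc, h1,
      Category.assoc, swap_swap, Category.comp_id, Category.id_comp]
  · unfold PrinPart.pr1 PrinPart.pr2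
    rw [← Category.assoc, h1, Category.assoc, pullbackSymmetry_hom_comp_fst]
  · unfold PrinPart.pr1 PrinPart.pr2
    rw [← Category.assoc, h1, Category.assoc, pullbackSymmetry_hom_comp_snd]
  · rw [← cancel_mono (PrinPart.nbhdι f n), Category.assoc, h1, ← Category.assoc,
      PrinPart.toNbhd_ι, diag_swap]



end Groth.Agent.S5969
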