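import Groth.Statements.S5972
import Groth.Agent.Lib.Helper29.PPChart

set_option autoImplicit false
universe u
open CategoryTheory CategoryTheory.Limits AlgebraicGeometry TopologicalSpace Opposite
open Nrm16

namespace Groth.Agent.S5972



open Groth.Agent.Lib.Helper29.PPChart Groth.Agent.Lib.Helper29.OmegaCan
  Groth.Agent.Lib.Helper29.OmegaLoc TensorProduct

section Aff

variable (A B : Type u) [CommRing A] [CommRing B] [Algebra A B]

/-- `Spec B ⟶ Spec A`. -/
noncomputable abbrev f₀ : Spec (CommRingCat.of B) ⟶ Spec (CommRingCat.of A) :=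
  Spec.map (CommRingCat.ofHom (algebraMap A B))

theorem e₀ : (⊤ : (Spec (CommRingCat.of B)).Opens) ≤ f₀ A B ⁻¹ᵁ ⊤ := le_rfl

theorem hU₀ : IsAffineOpen (⊤ : (Spec (CommRingCat.of B)).Opens) := isAffineOpen_top _

theorem hV₀ : IsAffineOpen (⊤ : (Spec (CommRingCat.of A)).Opens) := isAffineOpen_top _

theorem appLE_top : (f₀ A B).appLE ⊤ ⊤ (e₀ A B) ≫ (Scheme.ΓSpecIso (CommRingCat.of B)).hom =
    (Scheme.ΓSpecIso (CommRingCat.of A)).hom ≫ CommRingCat.ofHom (algebraMap A B) := by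
  have h1 : (f₀ A B).appLE ⊤ ⊤ (e₀ A B) = (f₀ A B).appTop := by
    rw [Scheme.Hom.appTop, Scheme.Hom.app_eq_appLE]
    rfl
  rw [h1]
  exact Scheme.ΓSpecIso_naturality _

theorem isPushout₀ :
    IsPushout (CommRingCat.ofHom (algebraMap A B)) (CommRingCat.ofHom (algebraMap A B))
      ((Scheme.ΓSpecIso (CommRingCat.of B)).inv ≫
        (pullback.fst (f₀ A B) (f₀ A B)).appLE ⊤ (OmegaSh.diagNbhd (f₀ A B) ⊤) inf_le_left)
      ((Scheme.ΓSpecIso (CommRingCat.of B)).inv ≫
        (pullback.snd (f₀ A B) (f₀ A B)).appLE ⊤ (OmegaSh.diagNbhd (f₀ A B) ⊤) inf_le_right) := by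
  refine IsPushout.of_iso (isPushout_diag (f₀ A B) (hU₀ B) (hV₀ A) (e₀ A B))
    (Scheme.ΓSpecIso (CommRingCat.of A)) (Scheme.ΓSpecIso (CommRingCat.of B))
    (Scheme.ΓSpecIso (CommRingCat.of B)) (Iso.refl _) (appLE_top A B) (appLE_top A B) ?_ ?_
  · rw [Iso.refl_hom, Category.comp_id, Iso.hom_inv_id_assoc]
  · rw [Iso.refl_hom, Category.comp_id, Iso.hom_inv_id_assoc]

/-- `B ⊗_A B ≅ Γ(X ×_S X, ⊤ ∩ ⊤)`. -/
noncomputable def θiso : CommRingCat.of (B ⊗[A] B) ≅
    Γ(pullback (f₀ A B) (f₀ A B), OmegaSh.diagNbhd (f₀ A B) ⊤) :=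
  (CommRingCat.isPushout_tensorProduct A B B).isoIsPushout _ _ (isPushout₀ A B)

noncomputable def θ : B ⊗[A] B ≃+* Γ(pullback (f₀ A B) (f₀ A B), OmegaSh.diagNbhd (f₀ A B) ⊤) :=
  (θiso A B).commRingCatIsoToRingEquiv

theorem θ_inl (b : B) : θ A B (b ⊗ₜ[A] 1) =
    (pullback.fst (f₀ A B) (f₀ A B)).appLE ⊤ (OmegaSh.diagNbhd (f₀ A B) ⊤) inf_le_left
      ((Scheme.ΓSpecIso (CommRingCat.of B)).inv b) := by
  have h := IsPushout.inl_isoIsPushout_hom _ _
    (CommRingCat.isPushout_tensorProduct A B B) (isPushout₀ A B)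
  exact congr($h b)

theorem θ_inr (b : B) : θ A B (1 ⊗ₜ[A] b) =
    (pullback.snd (f₀ A B) (f₀ A B)).appLE ⊤ (OmegaSh.diagNbhd (f₀ A B) ⊤) inf_le_right
      ((Scheme.ΓSpecIso (CommRingCat.of B)).inv b) := by
  have h := IsPushout.inr_isoIsPushout_hom _ _
    (CommRingCat.isPushout_tensorProduct A B B) (isPushout₀ A B)
  exact congr($h b)

theorem θ_diag : (θiso A B).hom ≫ (pullback.diagonal (f₀ A B)).appLE
      (OmegaSh.diagNbhd (f₀ A B) ⊤) ⊤ (OmegaSh.le_preimage_diagNbhd (f₀ A B) ⊤) =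
    CommRingCat.ofHom (Algebra.TensorProduct.lmul' A : B ⊗[A] B →ₐ[A] B).toRingHom ≫
      (Scheme.ΓSpecIso (CommRingCat.of B)).inv := by
  refine (CommRingCat.isPushout_tensorProduct A B B).hom_ext ?_ ?_
  · rw [← Category.assoc, θiso, IsPushout.inl_isoIsPushout_hom, Category.assoc,
      Scheme.Hom.appLE_comp_appLE, OmegaSh.id_appLE_eq_id (pullback.diagonal_fst (f₀ A B)),
      Category.comp_id, ← Category.assoc]
    have h1 : CommRingCat.ofHom (Algebra.TensorProduct.includeLeftRingHom : B →+* B ⊗[A] B) ≫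
        CommRingCat.ofHom (Algebra.TensorProduct.lmul' A : B ⊗[A] B →ₐ[A] B).toRingHom = 𝟙 _ := by
      ext b
      simp
    rw [h1, Category.id_comp]
  · rw [← Category.assoc, θiso, IsPushout.inr_isoIsPushout_hom, Category.assoc,
      Scheme.Hom.appLE_comp_appLE, OmegaSh.id_appLE_eq_id (pullback.diagonal_snd (f₀ A B)),
      Category.comp_id, ← Category.assoc]
    have h1 : CommRingCat.ofHom ((Algebra.TensorProduct.includeRight :
        B →ₐ[A] B ⊗[A] B).toRingHom) ≫
        CommRingCat.ofHom (Algebra.TensorProduct.lmul' A : B ⊗[A] B →ₐ[A] B).toRingHom = 𝟙 _ := by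
      ext b
      simp
    rw [h1, Category.id_comp]

end Aff

/-- Let A → B be a ring homomorphism, X = Spec B, S = Spec A with f : X ⟶ S the induced morphism, and n
a natural number; identify B with the ring of global functions on X through the canonical
isomorphism. If ψ : B ⊗_A B → Γ(X, P^n_{X/S}) is the additive map with ψ(b ⊗ b') = b · d^n(b') for
all b, b' in B, then ψ is surjective with kernel the (n+1)-st power of the kernel I of the
multiplication map B ⊗_A B → B. -/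
theorem result (A B : Type u) [CommRing A] [CommRing B] [Algebra A B] (n : ℕ)
    (ψ : TensorProduct A B B →+
      Γ(PrinPart.P (Spec.map (CommRingCat.ofHom (algebraMap A B))) n, (⊤ : (Spec (CommRingCat.of B)).Opens)))
    (hψ : ∀ b b' : B, ψ (b ⊗ₜ[A] b') =
      (Scheme.ΓSpecIso (CommRingCat.of B)).inv b •
        PrinPart.dn (Spec.map (CommRingCat.ofHom (algebraMap A B))) n ⊤
          ((Scheme.ΓSpecIso (CommRingCat.of B)).inv b')) :
    Function.Surjective ψ ∧ ψ.ker = (KaehlerDifferential.ideal A B ^ (n + 1)).toAddSubgroup := by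
  let f := f₀ A B
  let D := OmegaSh.diagNbhd f ⊤
  let W := PrinPart.pr1 f n ⁻¹ᵁ ⊤
  let π : Γ(pullback f f, D) →+* Γ(PrinPart.nbhd f n, W) :=
    ((PrinPart.nbhdι f n).appLE D W (le_preimage_nbhdι f n ⊤)).hom
  let δ : Γ(pullback f f, D) →+* Γ(Spec (CommRingCat.of B), ⊤) :=
    ((pullback.diagonal f).appLE D ⊤ (OmegaSh.le_preimage_diagNbhd f ⊤)).hom
  let ρ : B ⊗[A] B →+* Γ(PrinPart.nbhd f n, W) := π.comp (θ A B : B ⊗[A] B →+* Γ(pullback f f, D))
  have hπ : Function.Surjective π := appLE_nbhdι_surjective f n (hU₀ B) (hV₀ A) (e₀ A B)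
  have hker : RingHom.ker π = RingHom.ker δ ^ (n + 1) :=
    ker_appLE_nbhdι f n (hU₀ B) (hV₀ A) (e₀ A B)
  -- `Φ ∘ ψ = ρ`
  have hΦψ : ∀ z : B ⊗[A] B, Φ f n ⊤ (ψ z) = ρ z := by
    intro z
    induction z with
    | zero => rw [map_zero, map_zero, map_zero]
    | tmul b b' =>
      rw [hψ, Φ_smul_dn]
      have h1 : b ⊗ₜ[A] b' = (b ⊗ₜ[A] 1) * (1 ⊗ₜ[A] b') := by
        rw [Algebra.TensorProduct.tmul_mul_tmul, mul_one, one_mul]
      have h2 : ρ (b ⊗ₜ[A] b') = π (θ A B (b ⊗ₜ[A] 1) * θ A B (1 ⊗ₜ[A] b')) := by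
        rw [h1]
        change π (θ A B (_ * _)) = _
        rw [map_mul]
      rw [h2, θ_inl, θ_inr]
    | add x y hx hy => rw [map_add, map_add, map_add, hx, hy]
  have hρker : RingHom.ker ρ = KaehlerDifferential.ideal A B ^ (n + 1) := by
    have h1 := ker_comp_pow (θ A B : B ⊗[A] B →+* Γ(pullback f f, D)) (θ A B).bijective π δ
      (n + 1) hker
    have h2 : RingHom.ker (δ.comp (θ A B : B ⊗[A] B →+* Γ(pullback f f, D))) =
        KaehlerDifferential.ideal A B := by
      ext z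
      rw [RingHom.mem_ker]
      have h3 : (δ.comp (θ A B : B ⊗[A] B →+* Γ(pullback f f, D))) z =
          (Scheme.ΓSpecIso (CommRingCat.of B)).inv (Algebra.TensorProduct.lmul' A z) :=
        congr($(θ_diag A B) z)
      rw [h3]
      have hinj : Function.Injective (Scheme.ΓSpecIso (CommRingCat.of B)).inv := by
        have : IsIso (Scheme.ΓSpecIso (CommRingCat.of B)).inv := inferInstance
        exact ((ConcreteCategory.isIso_iff_bijective _).1 this).1
      constructor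
      · intro h
        exact hinj (h.trans (map_zero _).symm)
      · intro h
        have h4 : Algebra.TensorProduct.lmul' A z = 0 := h
        rw [h4, map_zero]
    rw [← h2]
    exact h1
  constructor
  · intro y
    obtain ⟨w, hw⟩ := hπ (Φ f n ⊤ y)
    obtain ⟨z, rfl⟩ := (θ A B).surjective w
    refine ⟨z, (Φ_bijective f n ⊤).1 ?_⟩
    rw [hΦψ]
    exact hw
  · ext z
    rw [AddMonoidHom.mem_ker]
    change _ ↔ z ∈ KaehlerDifferential.ideal A B ^ (n + 1)
    rw [← hρker, RingHom.mem_ker, ← hΦψ]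
    constructor
    · intro h
      rw [h, map_zero]
    · intro h
      exact (Φ_bijective f n ⊤).1 (h.trans (map_zero _).symm)



end Groth.Agent.S5972
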