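import Groth.Statements.S5974
import Groth.Agent.Lib.Helper29.ConormalChart
import Groth.Agent.Lib.Helper28.ModExact

set_option autoImplicit false
universe u
open CategoryTheory CategoryTheory.Limits AlgebraicGeometry TopologicalSpace Opposite
open Nrm16

namespace Groth.Agent.S5974

open Groth.Agent.Lib.Helper28.QCohLoc Groth.Agent.Lib.Helper29.ConormalMap
  Groth.Agent.Lib.Helper29.ConormalBC Groth.Agent.Lib.Helper29.ConormalChart


/-- Let f : Y ⟶ X and j : Y' ⟶ Y be quasi-compact immersions. Let φ₁ : j^* N_{Y/X} ⟶ N_{Y'/X} and φ₂ :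
N_{Y'/X} ⟶ N_{Y'/Y} be the canonical maps of conormal sheaves (the first induced by the identity of
X, the second by f, on local sections of the ideals). Then φ₂ is an epimorphism and the image of φ₁
is the kernel of φ₂: the sequence j^* N_{Y/X} ⟶ N_{Y'/X} ⟶ N_{Y'/Y} ⟶ 0 is exact. (The published
statement allows arbitrary immersions; this row assumes them quasi-compact, the case in which the
conormal sheaves used here are those of the immersions.) -/
theorem result {Y' Y X : Scheme.{u}} (f : Y ⟶ X) [IsImmersion f] [QuasiCompact f]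
    (j : Y' ⟶ Y) [IsImmersion j] [QuasiCompact j]
    (φ₁ : (Scheme.Modules.pullback j).obj (Omega.conormal f) ⟶ Omega.conormal (j ≫ f))
    (hφ₁ : OmegaSh.IsConormalMap (j ≫ f) f (𝟙 X) j φ₁)
    (φ₂ : (Scheme.Modules.pullback (𝟙 Y')).obj (Omega.conormal (j ≫ f)) ⟶ Omega.conormal j)
    (hφ₂ : OmegaSh.IsConormalMap j (j ≫ f) f (𝟙 Y') φ₂) :
    Epi φ₂ ∧
      imageSubobject φ₁ =
        kernelSubobject ((Scheme.Modules.pullbackId Y').inv.app (Omega.conormal (j ≫ f)) ≫ φ₂) := by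
  have hsq₁ : j ≫ f = (j ≫ f) ≫ 𝟙 X := (Category.comp_id _).symm
  have hsq₂ : 𝟙 Y' ≫ (j ≫ f) = j ≫ f := Category.id_comp _
  -- (1) epi
  have H : IsPullback j (𝟙 Y') f (j ≫ f) := by
    refine ⟨⟨hsq₂.symm⟩, ⟨PullbackCone.IsLimit.mk _ (fun c => c.snd) ?_ ?_ ?_⟩⟩
    · intro c
      have hc := c.condition
      rw [← Category.assoc] at hc
      exact ((cancel_mono f).1 hc).symm
    · intro c
      exact Category.comp_id _
    · intro c l _ hl₂
      rw [← hl₂, Category.comp_id]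
  have hepi : Epi φ₂ := by
    rw [conormalMap_unique j (j ≫ f) f (𝟙 Y') hsq₂ φ₂ hφ₂]
    exact epi_conormalMap H
  set g₂ : Omega.conormal (j ≫ f) ⟶ Omega.conormal j :=
    (Scheme.Modules.pullbackId Y').inv.app (Omega.conormal (j ≫ f)) ≫ φ₂ with hg₂
  -- value of g₂ on classes
  have hg₂app : ∀ (W : X.Opens) (s' : Γ(ClSub.idealMod (j ≫ f).ker, W)),
      g₂.app ((j ≫ f) ⁻¹ᵁ W) (OmegaSh.conormalSect (j ≫ f) W s') =
        res (Omega.conormal j) (preimage_eq j (j ≫ f) f (𝟙 Y') hsq₂ W).le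
          (OmegaSh.conormalSect j (f ⁻¹ᵁ W) (pushSect j (j ≫ f) f (𝟙 Y') hsq₂ W s')) := by
    intro W s'
    rw [← map_eqToHom_eq_res]
    exact isConormalMap_id_app j (j ≫ f) f φ₂ hφ₂ hsq₂ W s'
  have hφ₁app : ∀ (W : X.Opens) (s' : Γ(ClSub.idealMod f.ker, W)),
      φ₁.app (j ⁻¹ᵁ (f ⁻¹ᵁ W))
        (OmegaSh.pullSect j (Omega.conormal f) (f ⁻¹ᵁ W) (OmegaSh.conormalSect f W s')) =
        res (Omega.conormal (j ≫ f)) (preimage_eq (j ≫ f) f (𝟙 X) j hsq₁ W).le
          (OmegaSh.conormalSect (j ≫ f) ((𝟙 X) ⁻¹ᵁ W) (pushSect (j ≫ f) f (𝟙 X) j hsq₁ W s')) := by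
    intro W s'
    rw [← map_eqToHom_eq_res]
    exact isConormalMap_app (j ≫ f) f (𝟙 X) j φ₁ hφ₁ hsq₁ W s'
  -- conormal classes of sections with zero function vanish
  have hzero : ∀ (W : X.Opens) (s' : Γ(ClSub.idealMod f.ker, W)),
      pushSect j (j ≫ f) f (𝟙 Y') hsq₂ ((𝟙 X) ⁻¹ᵁ W) (pushSect (j ≫ f) f (𝟙 X) j hsq₁ W s') = 0 := by
    intro W s'
    apply idealSect_injective
    rw [idealSect_pushSect, idealSect_pushSect, map_zero]
    have h1 : f.app W (OmegaSh.idealSect f.ker W s') = 0 := by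
      have h2 := subschemeι_app_idealSect f.ker W s'
      exact app_eq_zero_of_subschemeι f W _ h2
    have h3 : (𝟙 X : X ⟶ X).app W (OmegaSh.idealSect f.ker W s') = OmegaSh.idealSect f.ker W s' := by
      rw [Scheme.Hom.id_app]; rfl
    rw [h3]
    exact h1
  -- (2) complex
  have w : φ₁ ≫ g₂ = 0 := by
    refine conormal_pullback_hom_ext f j _ _ ?_
    intro W s'
    rw [Scheme.Modules.Hom.comp_app, Scheme.Modules.Hom.zero_app]
    change g₂.app _ (φ₁.app _ _) = 0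
    rw [hφ₁app, app_res, hg₂app, hzero]
    have h0 : OmegaSh.conormalSect j (f ⁻¹ᵁ ((𝟙 X) ⁻¹ᵁ W)) 0 = 0 := map_zero _
    rw [h0, res_zero]
    exact map_zero _
  -- (3) exactness
  have hex : (ShortComplex.mk φ₁ g₂ w).Exact := by
    refine exact_of_locally φ₁ g₂ w ?_
    intro U x hx pt hpt
    obtain ⟨W, hW, hc₁, hc₂, hc₃, hptW, hWU⟩ := exists_chart_comp f j U pt hpt
    obtain ⟨hfW, hfsurj⟩ := affine_surjective_of_le_coborder f hW hc₂
    have hx' : g₂.app (j ⁻¹ᵁ (f ⁻¹ᵁ W)) (res (Omega.conormal (j ≫ f)) hWU x) = 0 := by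
      rw [app_res, hx, res_zero]
    obtain ⟨s', hs'⟩ := conormalSect_surjective (j ≫ f) hW hc₁ (res (Omega.conormal (j ≫ f)) hWU x)
    have hx'' : g₂.app ((j ≫ f) ⁻¹ᵁ W) (OmegaSh.conormalSect (j ≫ f) W s') = 0 := by
      rw [hs']; exact hx'
    have hx₂ := (hg₂app W s').symm.trans hx''
    have hx₃ : OmegaSh.conormalSect j (f ⁻¹ᵁ W) (pushSect j (j ≫ f) f (𝟙 Y') hsq₂ W s') = 0 :=
      res_injective_of_eq _ (preimage_eq j (j ≫ f) f (𝟙 Y') hsq₂ W) (hx₂.trans (res_zero _ _).symm)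
    rw [conormalSect_eq_zero_iff j hfW hc₃, idealSect_pushSect] at hx₃
    -- algebra
    set a := OmegaSh.idealSect (j ≫ f).ker W s' with ha
    set J' := j.ker.ideal ⟨f ⁻¹ᵁ W, hfW⟩ with hJ'
    set J := (j ≫ f).ker.ideal ⟨W, hW⟩ with hJ
    have hJ'ker : J' = RingHom.ker (j.app (f ⁻¹ᵁ W)).hom := Scheme.Hom.ker_apply j ⟨f ⁻¹ᵁ W, hfW⟩
    have hJker : J = RingHom.ker ((j ≫ f).app W).hom := Scheme.Hom.ker_apply (j ≫ f) ⟨W, hW⟩
    have hJcomap : J = J'.comap (f.app W).hom := by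
      rw [hJker, hJ'ker, RingHom.comap_ker, Scheme.Hom.comp_app]
      rfl
    have hJmap : J' = J.map (f.app W).hom := by
      rw [hJcomap, Ideal.map_comap_of_surjective _ hfsurj]
    have hmem : (f.app W).hom a ∈ (J * J).map (f.app W).hom := by
      rw [Ideal.map_mul, ← hJmap]
      exact hx₃
    obtain ⟨u, hu, hua⟩ := (Ideal.mem_map_iff_of_surjective _ hfsurj).1 hmem
    have hv : a - u ∈ f.ker.ideal ⟨W, hW⟩ := by
      rw [Scheme.Hom.ker_apply, RingHom.mem_ker, map_sub, hua, sub_self]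
    rw [← range_idealιLin f.ker hW] at hv
    obtain ⟨vhat, hvhat⟩ := hv
    have hu' : u ∈ J := Ideal.mul_le_right hu
    rw [hJ, ← range_idealιLin (j ≫ f).ker hW] at hu'
    obtain ⟨uhat, huhat⟩ := hu'
    have huzero : OmegaSh.conormalSect (j ≫ f) W uhat = 0 := by
      rw [conormalSect_eq_zero_iff (j ≫ f) hW hc₁]
      have : OmegaSh.idealSect (j ≫ f).ker W uhat = u := huhat
      rw [this]
      exact hu
    have hpush : pushSect (j ≫ f) f (𝟙 X) j hsq₁ W vhat = (s' - uhat : Γ(ClSub.idealMod (j ≫ f).ker, W)) := by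
      apply idealSect_injective
      rw [idealSect_pushSect]
      have h3 : (𝟙 X : X ⟶ X).app W (OmegaSh.idealSect f.ker W vhat) = OmegaSh.idealSect f.ker W vhat := by
        rw [Scheme.Hom.id_app]; rfl
      rw [h3]
      have h4 : OmegaSh.idealSect f.ker W vhat = a - u := hvhat
      have h5 : OmegaSh.idealSect (j ≫ f).ker W uhat = u := huhat
      rw [h4]
      show a - u = OmegaSh.idealSect (j ≫ f).ker W (s' - uhat)
      rw [map_sub, h5]
    refine ⟨j ⁻¹ᵁ (f ⁻¹ᵁ W), hWU, hptW,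
      OmegaSh.pullSect j (Omega.conormal f) (f ⁻¹ᵁ W) (OmegaSh.conormalSect f W vhat), ?_⟩
    rw [hφ₁app, hpush]
    have h6 : OmegaSh.conormalSect (j ≫ f) W (s' - uhat) =
        res (Omega.conormal (j ≫ f)) hWU x := by
      rw [map_sub, huzero, sub_zero, hs']
      rfl
    exact (congrArg _ h6).trans (res_self _ _)
  exact ⟨hepi, (ShortComplex.exact_iff_image_eq_kernel _).1 hex⟩



end Groth.Agent.S5974
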