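import Groth.Statements.S5975
import Groth.Agent.Lib.Helper29.OmegaFund
import Groth.Agent.Lib.Helper28.ModExact

set_option autoImplicit false
universe u
open CategoryTheory CategoryTheory.Limits AlgebraicGeometry TopologicalSpace Opposite
open Nrm16

namespace Groth.Agent.S5975

open Groth.Agent.Lib.Helper28.QCohLoc Groth.Agent.Lib.Helper29.ConormalMap
  Groth.Agent.Lib.Helper29.ConormalBC Groth.Agent.Lib.Helper29.ConormalChart
  Groth.Agent.Lib.Helper29.OmegaChart Groth.Agent.Lib.Helper28.PullbackInv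
  Groth.Agent.Lib.Helper29.OmegaLoc Groth.Agent.Lib.Helper29.OmegaFund


/-- Let f : X ⟶ Y and g : Y ⟶ Z be morphisms of schemes. Let (Ω_{Y/Z}, d), (Ω_{X/Z}, d') and (Ω_{X/Y},
d'') be sheaves of differentials (universal derivations) and let c₁ : f^*Ω_{Y/Z} ⟶ Ω_{X/Z} and c₂ :
Ω_{X/Z} ⟶ Ω_{X/Y} be the canonical maps compatible with the derivations. Then c₂ is an epimorphism
and the image of c₁ is the kernel of c₂: the sequence f^*Ω_{Y/Z} ⟶ Ω_{X/Z} ⟶ Ω_{X/Y} ⟶ 0 is exact. -/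
theorem result {X Y Z : Scheme.{u}} (f : X ⟶ Y) (g : Y ⟶ Z)
    (ΩY : Y.Modules) (dY : OmegaSh.Der g ΩY) (hY : OmegaSh.IsUniversal dY)
    (ΩX : X.Modules) (dX : OmegaSh.Der (f ≫ g) ΩX) (hX : OmegaSh.IsUniversal dX)
    (ΩXY : X.Modules) (dXY : OmegaSh.Der f ΩXY) (hXY : OmegaSh.IsUniversal dXY)
    (c₁ : (Scheme.Modules.pullback f).obj ΩY ⟶ ΩX) (hc₁ : OmegaSh.IsDiffCompat f dY dX c₁)
    (c₂ : (Scheme.Modules.pullback (𝟙 X)).obj ΩX ⟶ ΩXY) (hc₂ : OmegaSh.IsDiffCompat (𝟙 X) dX dXY c₂) :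
    Epi c₂ ∧
      imageSubobject c₁ = kernelSubobject ((Scheme.Modules.pullbackId X).inv.app ΩX ≫ c₂) := by
  set c₂' : ΩX ⟶ ΩXY := (Scheme.Modules.pullbackId X).inv.app ΩX ≫ c₂ with hc₂'
  have hc₂app : ∀ (U : X.Opens) (s : Γ(X, U)), c₂'.app U (dX.app U s) = dXY.app U s := by
    intro U s
    have h1 := hc₂ U s
    have h2 : (𝟙 X : X ⟶ X).app U s = s := by
      rw [Scheme.Hom.id_app]; rfl
    rw [h2] at h1
    refine Eq.trans ?_ h1
    rw [← pullbackId_inv_app]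
    rfl
  -- epi
  have hepi' : Epi c₂' := by
    refine epi_of_locally_in_range c₂' ?_
    intro O x pt hpt
    obtain ⟨VZ, VY, U, hVZ, hVY, hU, eY, eX, hptU, hUO⟩ := exists_chart3 f g O pt hpt
    have hspan := span_d f dXY hXY hU hVY eX (res ΩXY hUO x)
    have claim : ∀ y ∈ Submodule.span Γ(X, U) (Set.range (dXY.app U)),
        ∃ m : Γ(ΩX, U), c₂'.app U m = y := by
      intro y hy
      refine Submodule.span_induction ?_ ?_ ?_ ?_ hy
      · rintro _ ⟨b, rfl⟩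
        exact ⟨dX.app U b, hc₂app U b⟩
      · exact ⟨0, map_zero _⟩
      · rintro a b _ _ ⟨ma, ha⟩ ⟨mb, hb⟩
        exact ⟨ma + mb, by rw [map_add, ha, hb]⟩
      · rintro b a _ ⟨ma, ha⟩
        refine ⟨b • ma, ?_⟩
        rw [← ha]
        exact Scheme.Modules.Hom.app_smul _ _ _
    obtain ⟨m, hm⟩ := claim _ hspan
    exact ⟨U, hUO, hptU, m, hm⟩
  have hepi : Epi c₂ := by
    have h1 : c₂ = (Scheme.Modules.pullbackId X).hom.app ΩX ≫ c₂' := by
      rw [hc₂', ← Category.assoc, Iso.hom_inv_id_app, Category.id_comp]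
    rw [h1]
    infer_instance
  -- complex
  have w : c₁ ≫ c₂' = 0 := by
    have hsq : f ≫ g = f ≫ g := rfl
    have hu := Groth.Agent.Lib.Helper19.RestrUniv2.existsUnique_diffCompat g f f g hsq dY dXY hY
    refine hu.unique ?_ ?_
    · intro V a
      rw [Scheme.Modules.Hom.comp_app]
      change c₂'.app _ (c₁.app _ _) = _
      rw [hc₁ V a, hc₂app]
    · intro V a
      rw [Scheme.Modules.Hom.zero_app]
      exact (dXY.d_app (X := Opposite.op V) a).symm
  have hex : (ShortComplex.mk c₁ c₂' w).Exact := by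
    refine exact_of_locally c₁ c₂' w ?_
    intro O x hx pt hpt
    obtain ⟨VZ, VY, U, hVZ, hVY, hU, eY, eX, hptU, hUO⟩ := exists_chart3 f g O pt hpt
    have hx' : c₂'.app U (res ΩX hUO x) = 0 := by rw [app_res, hx, res_zero]
    have hspan := mem_span_of_c₂_eq_zero f g dX hX dXY hXY c₂' hc₂app hVZ hVY hU eY eX _ hx'
    have claim : ∀ y ∈ Submodule.span Γ(X, U)
        (Set.range (fun a : Γ(Y, VY) => dX.app U (f.appLE VY U eX a))),
        ∃ m : Γ((Scheme.Modules.pullback f).obj ΩY, U), c₁.app U m = y := by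
      intro y hy
      refine Submodule.span_induction ?_ ?_ ?_ ?_ hy
      · rintro _ ⟨a, rfl⟩
        refine ⟨res ((Scheme.Modules.pullback f).obj ΩY) eX (OmegaSh.pullSect f ΩY VY (dY.app VY a)), ?_⟩
        rw [app_res, hc₁ VY a, ← Groth.Agent.Lib.Helper29.OmegaUniv.der_res]
        rfl
      · exact ⟨0, map_zero _⟩
      · rintro a b _ _ ⟨ma, ha⟩ ⟨mb, hb⟩
        exact ⟨ma + mb, by rw [map_add, ha, hb]⟩
      · rintro b a _ ⟨ma, ha⟩
        refine ⟨b • ma, ?_⟩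
        rw [← ha]
        exact Scheme.Modules.Hom.app_smul _ _ _
    obtain ⟨m, hm⟩ := claim _ hspan
    exact ⟨U, hUO, hptU, m, hm⟩
  exact ⟨hepi, (ShortComplex.exact_iff_image_eq_kernel _).1 hex⟩



end Groth.Agent.S5975
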