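import Groth.Statements.S5976
import Groth.Agent.Lib.Helper29.OmegaChart
import Groth.Agent.Lib.Helper28.ModExact

set_option autoImplicit false
universe u
open CategoryTheory CategoryTheory.Limits AlgebraicGeometry TopologicalSpace Opposite
open Nrm16

namespace Groth.Agent.S5976

open Groth.Agent.Lib.Helper28.QCohLoc Groth.Agent.Lib.Helper29.ConormalMap
  Groth.Agent.Lib.Helper29.ConormalBC Groth.Agent.Lib.Helper29.ConormalChart
  Groth.Agent.Lib.Helper29.OmegaChart Groth.Agent.Lib.Helper28.PullbackInv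
  Groth.Agent.Lib.Helper29.OmegaLoc


/-- Let f : Y ⟶ Z be a morphism and j : X ⟶ Y a quasi-compact immersion. Let (Ω_{Y/Z}, d) and (Ω_{X/Z},
d') be sheaves of differentials (universal derivations), φ : N_{X/Y} ⟶ j^*Ω_{Y/Z} the canonical map
from the conormal sheaf of j (class of a local section s of the ideal ↦ pullback of d s) and c :
j^*Ω_{Y/Z} ⟶ Ω_{X/Z} the canonical map compatible with the derivations. Then c is an epimorphism and
the image of φ is the kernel of c: the sequence N_{X/Y} ⟶ j^*Ω_{Y/Z} ⟶ Ω_{X/Z} ⟶ 0 is exact. (The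
published statement allows any immersion j; this row assumes j quasi-compact, the case in which the
conormal sheaf used here is that of j.) -/
theorem result {X Y Z : Scheme.{u}} (f : Y ⟶ Z) (j : X ⟶ Y)
    [IsImmersion j] [QuasiCompact j]
    (ΩY : Y.Modules) (dY : OmegaSh.Der f ΩY) (hY : OmegaSh.IsUniversal dY)
    (ΩX : X.Modules) (dX : OmegaSh.Der (j ≫ f) ΩX) (hX : OmegaSh.IsUniversal dX)
    (φ : Omega.conormal j ⟶ (Scheme.Modules.pullback j).obj ΩY) (hφ : OmegaSh.IsConormalDiff j dY φ)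
    (c : (Scheme.Modules.pullback j).obj ΩY ⟶ ΩX) (hc : OmegaSh.IsDiffCompat j dY dX c) :
    Epi c ∧ imageSubobject φ = kernelSubobject c := by
  -- epi
  have hepi : Epi c := by
    refine epi_of_locally_in_range c ?_
    intro U x pt hpt
    obtain ⟨V, W, hV, hW, e, hcW, hptW, hWU⟩ := exists_chart_imm f j U pt hpt
    obtain ⟨hU, hsurj⟩ := affine_surjective_of_le_coborder j hW hcW
    obtain ⟨ω, hω⟩ := exists_of_sections f j dY dX hX c hc hV e hU hsurj (res ΩX hWU x)
    exact ⟨j ⁻¹ᵁ W, hWU, hptW, _, hω⟩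
  -- complex
  have w : φ ≫ c = 0 := by
    have h1 : ∀ (W : Y.Opens) (s : Γ(ClSub.idealMod j.ker, W)),
        (φ ≫ c).app (j ⁻¹ᵁ W) (OmegaSh.conormalSect j W s) = 0 := by
      intro W s
      rw [Scheme.Modules.Hom.comp_app]
      change c.app _ (φ.app _ _) = 0
      rw [hφ, hc]
      have h2 : j.app W (OmegaSh.idealSect j.ker W s) = 0 :=
        app_eq_zero_of_subschemeι j W _ (subschemeι_app_idealSect j.ker W s)
      rw [h2, map_zero]
    refine pullback_hom_ext j (M := ClSub.idealMod j.ker) _ _ ?_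
    intro W s
    exact h1 W s
  have hex : (ShortComplex.mk φ c w).Exact := by
    refine exact_of_locally φ c w ?_
    intro U x hx pt hpt
    obtain ⟨V, W, hV, hW, e, hcW, hptW, hWU⟩ := exists_chart_imm f j U pt hpt
    obtain ⟨hU, hsurj⟩ := affine_surjective_of_le_coborder j hW hcW
    obtain ⟨ω, hω⟩ := surjective_of_isBC_of_surjective (j.app W).hom hsurj _
      (isBC_pullSect f dY hY j hW hU) (res ((Scheme.Modules.pullback j).obj ΩY) hWU x)
    replace hω : OmegaSh.pullSect j ΩY W ω = res ((Scheme.Modules.pullback j).obj ΩY) hWU x := hω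
    have hx' : c.app (j ⁻¹ᵁ W) (OmegaSh.pullSect j ΩY W ω) = 0 := by
      rw [hω, app_res, hx, res_zero]
    obtain ⟨b, hb, hbω⟩ := exists_of_c_eq_zero f j dY hY dX hX c hc hV hW e hU hsurj ω hx'
    have hbI : b ∈ j.ker.ideal ⟨W, hW⟩ := by
      rw [Scheme.Hom.ker_apply, RingHom.mem_ker]
      exact hb
    rw [← range_idealιLin j.ker hW] at hbI
    obtain ⟨t, ht⟩ := hbI
    refine ⟨j ⁻¹ᵁ W, hWU, hptW, OmegaSh.conormalSect j W t, ?_⟩
    rw [hφ]
    have ht' : OmegaSh.idealSect j.ker W t = b := ht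
    rw [ht', ← hbω, hω]
  exact ⟨hepi, (ShortComplex.exact_iff_image_eq_kernel _).1 hex⟩



end Groth.Agent.S5976
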