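import Groth.Statements.S5977
import Groth.Agent.Lib.Helper29.PPChart
import Groth.Agent.Lib.Helper28.QCohGen

set_option autoImplicit false
universe u
open CategoryTheory CategoryTheory.Limits AlgebraicGeometry TopologicalSpace Opposite
open Nrm16

namespace Groth.Agent.S5977



open Groth.Agent.Lib.Helper29.PPChart Groth.Agent.Lib.Helper28.QCohLoc

/-- Let f : Y ⟶ Z be a morphism and j : X ⟶ Y a closed immersion, and let φ : j^* P^n_{Y/Z} ⟶ P^n_{X/Z}
be the canonical O_X-linear map of sheaves of principal parts of order n, the one sending the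
pullback of d^n b to d^n (j♯ b). Then φ is an epimorphism. (The published statement also identifies
the kernel of φ as the ideal generated by the pullback of d^n of the ideal of j; this row states the
surjectivity.) -/
theorem result {X Y Z : Scheme.{u}} (f : Y ⟶ Z) (j : X ⟶ Y) [IsClosedImmersion j] (n : ℕ)
    (φ : (Scheme.Modules.pullback j).obj (PrinPart.P f n) ⟶ PrinPart.P (j ≫ f) n)
    (hφ : PrinPart.IsPMap f (j ≫ f) j n φ) :
    Epi φ := by
  refine epi_of_locally_in_range φ ?_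
  intro U₀ x pt hpt
  -- an open of `Y` whose preimage is `U₀`
  obtain ⟨U₁s, hU₁s, hU₁pre⟩ := j.isClosedEmbedding.isInducing.isOpen_iff.1 U₀.isOpen
  let U₁ : Y.Opens := ⟨U₁s, hU₁s⟩
  have hjpt : j pt ∈ U₁ := by
    have : pt ∈ (j : X → Y) ⁻¹' U₁s := by rw [hU₁pre]; exact hpt
    exact this
  obtain ⟨_, ⟨VZ, hVZ, rfl⟩, hfVZ, -⟩ :=
    Z.isBasis_affineOpens.exists_subset_of_mem_open (Set.mem_univ (f (j pt))) isOpen_univ
  have h1 : j pt ∈ U₁ ⊓ f ⁻¹ᵁ VZ := ⟨hjpt, hfVZ⟩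
  obtain ⟨_, ⟨UY, hUY, rfl⟩, hptUY, hle⟩ :=
    Y.isBasis_affineOpens.exists_subset_of_mem_open h1 (U₁ ⊓ f ⁻¹ᵁ VZ).isOpen
  let V : X.Opens := j ⁻¹ᵁ UY
  have hV : IsAffineOpen V := hUY.preimage j
  have hVU : V ≤ U₀ := by
    intro y hy
    have h2 : j y ∈ U₁s := (hle hy).1
    have h3 : y ∈ (j : X → Y) ⁻¹' U₁s := h2
    rw [hU₁pre] at h3
    exact h3
  have hVf : V ≤ (j ≫ f) ⁻¹ᵁ VZ := fun y hy => (hle hy).2
  have hsurj : Function.Surjective (j.app UY) := j.app_surjective UY hUY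
  refine ⟨V, hVU, hptUY, ?_⟩
  have hmem := mem_closure_smul_dn (j ≫ f) n hV hVZ hVf (res (PrinPart.P (j ≫ f) n) hVU x)
  have hle' : AddSubgroup.closure {y : Γ(PrinPart.P (j ≫ f) n, V) |
      ∃ b b' : Γ(X, V), y = b • PrinPart.dn (j ≫ f) n V b'} ≤ (φ.app V).hom.range := by
    rw [AddSubgroup.closure_le]
    rintro _ ⟨b, a', rfl⟩
    obtain ⟨b', rfl⟩ := hsurj a'
    refine ⟨b • OmegaSh.pullSect j (PrinPart.P f n) UY (PrinPart.dn f n UY b'), ?_⟩
    have h1 := hφ UY b'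
    change φ.app V (b • _) = _
    rw [Scheme.Modules.Hom.app_smul]
    exact congrArg (fun t => b • t) h1
  obtain ⟨y, hy⟩ := hle' hmem
  exact ⟨y, hy⟩



end Groth.Agent.S5977
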