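import Groth.Statements.S5978
import Groth.Agent.Lib.Helper29.PPChart2
import Groth.Agent.Lib.Helper29.PPOneAlg
import Groth.Agent.Lib.Helper28.TensorIso

set_option autoImplicit false
universe u
open CategoryTheory CategoryTheory.Limits AlgebraicGeometry TopologicalSpace Opposite
open Nrm16

namespace Groth.Agent.S5978



open Groth.Agent.Lib.Helper29.PPChart Groth.Agent.Lib.Helper29.PPSq
  Groth.Agent.Lib.Helper29.PPChart2 Groth.Agent.Lib.Helper29.PPOneAlg
  Groth.Agent.Lib.Helper29.OmegaCan Groth.Agent.Lib.Helper29.OmegaLoc TensorProduct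

section Chart

variable {X S : Scheme.{u}} (f : X ⟶ S) [QuasiSeparated f]
    (e : Coh.structureModule X ⟶ PrinPart.P f 1)
    (he : ∀ (U : X.Opens) (s : Γ(X, U)), e.app U (OmegaSh.strSect X U s) = s • PrinPart.dn f 1 U 1)
    (ι : Omega.sheaf f ⟶ PrinPart.P f 1)
    (hι : ∀ (U : X.Opens) (s : Γ(X, U)),
      ι.app U ((OmegaSh.dOmega f).app U s) = PrinPart.dn f 1 U s - s • PrinPart.dn f 1 U 1)
  {U : X.Opens} (hU : IsAffineOpen U) {V : S.Opens} (hV : IsAffineOpen V) (e' : U ≤ f ⁻¹ᵁ V)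

include he hι hU hV e' in
theorem chart_main :
    (∀ (s : Γ(X, U)) (ω : Γ(Omega.sheaf f, U)),
      e.app U (OmegaSh.strSect X U s) + ι.app U ω = 0 → s = 0 ∧ ω = 0) ∧
    ∀ y : Γ(PrinPart.P f 1, U), ∃ (s : Γ(X, U)) (ω : Γ(Omega.sheaf f, U)),
      e.app U (OmegaSh.strSect X U s) + ι.app U ω = y := by
  letI := alg f e'
  obtain ⟨Φc, hΦc_smul, hΦc_d⟩ := exists_sections_equiv_can f hU hV e'
  let lam : Ω[Γ(X, U)⁄Γ(S, V)] →+ Γ(PrinPart.nbhd f 1, PrinPart.pr1 f 1 ⁻¹ᵁ U) :=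
    (Φ f 1 U).comp ((ι.app U).hom.comp Φc.symm.toAddMonoidHom)
  have hlam : ∀ ω : Γ(Omega.sheaf f, U), lam (Φc ω) = Φ f 1 U (ι.app U ω) := by
    intro ω
    change Φ f 1 U (ι.app U (Φc.symm (Φc ω))) = _
    rw [AddEquiv.symm_apply_apply]
  have hΦe : ∀ s : Γ(X, U), Φ f 1 U (e.app U (OmegaSh.strSect X U s)) =
      ρ f 1 hU hV e' (s ⊗ₜ[Γ(S, V)] 1) := by
    intro s
    rw [he, Φ_a_dn_one, ρ_inl]
  have hs : ∀ (b : Γ(X, U)) (η : Ω[Γ(X, U)⁄Γ(S, V)]),
      lam (b • η) = ρ f 1 hU hV e' (b ⊗ₜ[Γ(S, V)] 1) * lam η := by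
    intro b η
    obtain ⟨ω, rfl⟩ := Φc.surjective η
    rw [← hΦc_smul, hlam, hlam, Scheme.Modules.Hom.app_smul, Φ_smul, ρ_inl]
  have hD : ∀ s : Γ(X, U), lam (KaehlerDifferential.D Γ(S, V) Γ(X, U) s) =
      ρ f 1 hU hV e' ((1 : Γ(X, U)) ⊗ₜ[Γ(S, V)] s - s ⊗ₜ[Γ(S, V)] (1 : Γ(X, U))) := by
    intro s
    rw [← hΦc_d, hlam, ρ_diff]
    have h1 : OmegaSh.dSect f U s = (OmegaSh.dOmega f).app U s := rfl
    rw [h1, hι]
    exact Φ_δP f 1 U s
  have hker : RingHom.ker (ρ f 1 hU hV e') = KaehlerDifferential.ideal Γ(S, V) Γ(X, U) ^ 2 :=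
    ker_ρ f 1 hU hV e'
  constructor
  · intro s ω h
    have h1 : ρ f 1 hU hV e' (s ⊗ₜ[Γ(S, V)] 1) + lam (Φc ω) = 0 := by
      rw [hlam, ← hΦe, ← map_add, h, map_zero]
    obtain ⟨h2, h3⟩ := eq_zero_of_add_eq_zero _ lam hs hD hker s (Φc ω) h1
    refine ⟨h2, ?_⟩
    exact Φc.injective (h3.trans (map_zero Φc).symm)
  · intro y
    obtain ⟨s, η, h⟩ := exists_add_eq _ lam hs hD (ρ_surjective f 1 hU hV e') (Φ f 1 U y)
    refine ⟨s, Φc.symm η, (Φ_bijective f 1 U).1 ?_⟩
    rw [map_add, hΦe, ← hlam, AddEquiv.apply_symm_apply]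
    exact h

end Chart

/-- Let f : X ⟶ S be a quasi-separated morphism, Ω_{X/S} its sheaf of differentials (the conormal sheaf
of the diagonal) with its derivation d, e : O_X ⟶ P^1_{X/S} the O_X-linear map s ↦ s·1 and ι :
Ω_{X/S} ⟶ P^1_{X/S} the O_X-linear map with ι(d s) = d^1 s − s·1 for every local function s. Then
the map O_X ⊕ Ω_{X/S} ⟶ P^1_{X/S} induced by e and ι is an isomorphism of O_X-modules for the left
structure of P^1_{X/S}; in other words Ω_{X/S} is identified with the augmentation ideal of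
P^1_{X/S} and d s = d^1 s − s. (The published text takes this as the definition of Ω_{X/S} for every
f; here Ω_{X/S} is the conormal sheaf of the diagonal, formed for quasi-separated f, and the
identification is stated.) -/
theorem result {X S : Scheme.{u}} (f : X ⟶ S) [QuasiSeparated f]
    (e : Coh.structureModule X ⟶ PrinPart.P f 1)
    (he : ∀ (U : X.Opens) (s : Γ(X, U)), e.app U (OmegaSh.strSect X U s) = s • PrinPart.dn f 1 U 1)
    (ι : Omega.sheaf f ⟶ PrinPart.P f 1)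
    (hι : ∀ (U : X.Opens) (s : Γ(X, U)),
      ι.app U ((OmegaSh.dOmega f).app U s) = PrinPart.dn f 1 U s - s • PrinPart.dn f 1 U 1) :
    IsIso (coprod.desc e ι) := by
  haveI : HasFiniteBiproducts X.Modules := Abelian.hasFiniteBiproducts
  have hfac : coprod.desc e ι = (biprod.isoCoprod _ _).inv ≫ biprod.desc e ι := by
    rw [Iso.eq_inv_comp]
    apply biprod.hom_ext'
    · rw [biprod_isoCoprod_hom, biprod.inl_desc_assoc, coprod.inl_desc, biprod.inl_desc]
    · rw [biprod_isoCoprod_hom, biprod.inr_desc_assoc, coprod.inr_desc, biprod.inr_desc]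
  rw [hfac]
  suffices h : IsIso (biprod.desc e ι) by infer_instance
  refine Groth.Agent.Lib.Helper28.TensorIso.isIso_of_bijective_on_basis (biprod.desc e ι)
    (fun W => IsAffineOpen W ∧ ∃ V : S.Opens, IsAffineOpen V ∧ W ≤ f ⁻¹ᵁ V) ?_ ?_
  · intro U x hx
    obtain ⟨_, ⟨VS, hVS, rfl⟩, hfVS, -⟩ :=
      S.isBasis_affineOpens.exists_subset_of_mem_open (Set.mem_univ (f x)) isOpen_univ
    have h1 : x ∈ U ⊓ f ⁻¹ᵁ VS := ⟨hx, hfVS⟩
    obtain ⟨_, ⟨V, hV, rfl⟩, hptV, hle⟩ :=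
      X.isBasis_affineOpens.exists_subset_of_mem_open h1 (U ⊓ f ⁻¹ᵁ VS).isOpen
    exact ⟨V, ⟨hV, VS, hVS, fun z hz => (hle hz).2⟩, hptV, fun z hz => (hle hz).1⟩
  · rintro U ⟨hU, V, hV, e'⟩
    obtain ⟨hinj, hsurj⟩ := chart_main f e he ι hι hU hV e'
    have hdecomp : ∀ z : Γ((Coh.structureModule X ⊞ Omega.sheaf f : X.Modules), U),
        z = (biprod.inl : Coh.structureModule X ⟶ Coh.structureModule X ⊞ Omega.sheaf f).app U
            ((biprod.fst : Coh.structureModule X ⊞ Omega.sheaf f ⟶ _).app U z) +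
          (biprod.inr : Omega.sheaf f ⟶ Coh.structureModule X ⊞ Omega.sheaf f).app U
            ((biprod.snd : Coh.structureModule X ⊞ Omega.sheaf f ⟶ _).app U z) := by
      intro z
      have h := congrArg (fun φ : (Coh.structureModule X ⊞ Omega.sheaf f : X.Modules) ⟶
          (Coh.structureModule X ⊞ Omega.sheaf f : X.Modules) => φ.app U z)
        (biprod.total (X := Coh.structureModule X) (Y := Omega.sheaf f))
      exact h.symm
    have hinl : ∀ s : Γ(Coh.structureModule X, U), (biprod.desc e ι).app U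
        ((biprod.inl : Coh.structureModule X ⟶ Coh.structureModule X ⊞ Omega.sheaf f).app U s) =
        e.app U s := by
      intro s
      exact congrArg (fun φ : Coh.structureModule X ⟶ PrinPart.P f 1 => φ.app U s)
        (biprod.inl_desc e ι)
    have hinr : ∀ ω : Γ(Omega.sheaf f, U), (biprod.desc e ι).app U
        ((biprod.inr : Omega.sheaf f ⟶ Coh.structureModule X ⊞ Omega.sheaf f).app U ω) =
        ι.app U ω := by
      intro ω
      exact congrArg (fun φ : Omega.sheaf f ⟶ PrinPart.P f 1 => φ.app U ω)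
        (biprod.inr_desc e ι)
    constructor
    · rw [injective_iff_map_eq_zero]
      intro z hz
      rw [hdecomp z, map_add, hinl, hinr] at hz
      obtain ⟨h1, h2⟩ := hinj _ _ hz
      rw [hdecomp z]
      have h1' : (biprod.fst : Coh.structureModule X ⊞ Omega.sheaf f ⟶ _).app U z = 0 := h1
      rw [h1', h2, map_zero, map_zero, add_zero]
    · intro y
      obtain ⟨s, ω, h⟩ := hsurj y
      refine ⟨(biprod.inl : Coh.structureModule X ⟶ Coh.structureModule X ⊞ Omega.sheaf f).app U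
          (OmegaSh.strSect X U s) +
        (biprod.inr : Omega.sheaf f ⟶ Coh.structureModule X ⊞ Omega.sheaf f).app U ω, ?_⟩
      rw [map_add, hinl, hinr]
      exact h



end Groth.Agent.S5978
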