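import Groth.Statements.S5981
import Groth.Agent.Lib.Helper29.PPChart
import Groth.Agent.Lib.Helper28.QCohGen

set_option autoImplicit false
universe u
open CategoryTheory CategoryTheory.Limits AlgebraicGeometry TopologicalSpace Opposite
open Nrm16

namespace Groth.Agent.S5981



open Groth.Agent.Lib.Helper29.PPChart Groth.Agent.Lib.Helper28.QCohLoc

/-- a point has an affine neighbourhood inside a given open, lying over an affine open of the base. -/
theorem exists_affine_pair {X Y : Scheme.{u}} (f : X ⟶ Y) (U : X.Opens) (pt : X) (hpt : pt ∈ U) :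
    ∃ (V : X.Opens) (VY : Y.Opens), IsAffineOpen V ∧ IsAffineOpen VY ∧ V ≤ U ∧ V ≤ f ⁻¹ᵁ VY ∧
      pt ∈ V := by
  obtain ⟨_, ⟨VY, hVY, rfl⟩, hfVY, -⟩ :=
    Y.isBasis_affineOpens.exists_subset_of_mem_open (Set.mem_univ (f pt)) isOpen_univ
  have h1 : pt ∈ U ⊓ f ⁻¹ᵁ VY := ⟨hpt, hfVY⟩
  obtain ⟨_, ⟨V, hV, rfl⟩, hptV, hle⟩ :=
    X.isBasis_affineOpens.exists_subset_of_mem_open h1 (U ⊓ f ⁻¹ᵁ VY).isOpen
  exact ⟨V, VY, hV, hVY, fun x hx => (hle hx).1, fun x hx => (hle hx).2, hptV⟩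

/-- Let f : X ⟶ Y and g : Y ⟶ Z be morphisms of schemes and n a natural number, and let φ : (𝟙_X)^*
P^n_{X/Z} ⟶ P^n_{X/Y} be the canonical O_X-linear map of sheaves of principal parts of order n, the
one sending the pullback of d^n b (relative to Z) to d^n b (relative to Y) for every local function
b. Then φ is an epimorphism. (The published statement also describes the kernel as the ideal
generated by the image of the augmentation ideal of f^* P^n_{Y/Z}; this row states the
surjectivity.) -/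
theorem result {X Y Z : Scheme.{u}} (f : X ⟶ Y) (g : Y ⟶ Z) (n : ℕ)
    (φ : (Scheme.Modules.pullback (𝟙 X)).obj (PrinPart.P (f ≫ g) n) ⟶ PrinPart.P f n)
    (hφ : PrinPart.IsPMap (f ≫ g) f (𝟙 X) n φ) :
    Epi φ := by
  refine epi_of_locally_in_range φ ?_
  intro U x pt hpt
  obtain ⟨V, VY, hV, hVY, hVU, hVf, hptV⟩ := exists_affine_pair f U pt hpt
  refine ⟨V, hVU, hptV, ?_⟩
  have hmem := mem_closure_smul_dn f n hV hVY hVf (res (PrinPart.P f n) hVU x)
  have hle : AddSubgroup.closure {y : Γ(PrinPart.P f n, V) |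
      ∃ b b' : Γ(X, V), y = b • PrinPart.dn f n V b'} ≤ (φ.app V).hom.range := by
    rw [AddSubgroup.closure_le]
    rintro _ ⟨b, b', rfl⟩
    refine ⟨(show Γ(X, 𝟙 X ⁻¹ᵁ V) from b) •
      OmegaSh.pullSect (𝟙 X) (PrinPart.P (f ≫ g) n) V (PrinPart.dn (f ≫ g) n V b'), ?_⟩
    have h1 := hφ V b'
    have h2 : (Scheme.Hom.app (𝟙 X) V) b' = b' := by
      rw [Scheme.Hom.id_app]
      rfl
    rw [h2] at h1
    change φ.app V (b • _) = _
    rw [Scheme.Modules.Hom.app_smul]
    exact congrArg (fun t => b • t) h1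
  obtain ⟨y, hy⟩ := hle hmem
  exact ⟨y, hy⟩



end Groth.Agent.S5981
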