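import Groth.Statements.S5998
import Mathlib
-- import your own Groth.Agent.* helpers here

set_option autoImplicit false
set_option linter.unusedSectionVars false
set_option linter.style.haveILetI false
universe u
open SGA1

namespace Groth.Agent.S5998

open TensorProduct KaehlerDifferential IsLocalRing

section abstract

variable (R P C : Type u) [CommRing R] [CommRing P] [CommRing C] [Algebra R P] [Algebra P C]
  [Algebra R C] [IsScalarTower R P C] [IsLocalRing P]
  [Algebra C (ResidueField P)] [IsScalarTower P C (ResidueField P)]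

theorem phi_one_tmul (j : RingHom.ker (algebraMap P C)) :
    cotangentComplexBaseChange R C P (ResidueField P) ((1 : ResidueField P) ⊗ₜ[P] j) =
      (1 : ResidueField P) ⊗ₜ[P] D R P (j : P) := by
  rw [cotangentComplexBaseChange_tmul, one_smul, kerToTensor_apply]

theorem span_one_tmul_eq_top {ι : Type*} (g : ι → RingHom.ker (algebraMap P C))
    (hg : Submodule.span P (Set.range g) = ⊤) :
    Submodule.span (ResidueField P)
      (Set.range (fun i => (1 : ResidueField P) ⊗ₜ[P] g i)) = ⊤ := by
  have h1 := Submodule.baseChange_span (R := P) (A := ResidueField P) (Set.range g)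
  rw [hg, Submodule.baseChange_top] at h1
  rw [h1, ← Set.range_comp]
  rfl

theorem inj_of_gens {ι : Type*} [Fintype ι] (g : ι → RingHom.ker (algebraMap P C))
    (hg : Submodule.span P (Set.range g) = ⊤)
    (hli : LinearIndependent (ResidueField P)
      (fun i => (1 : ResidueField P) ⊗ₜ[P] D R P (g i : P))) :
    Function.Injective (cotangentComplexBaseChange R C P (ResidueField P)) := by
  rw [injective_iff_map_eq_zero]
  intro x hx
  have hmem : x ∈ Submodule.span (ResidueField P)
      (Set.range (fun i => (1 : ResidueField P) ⊗ₜ[P] g i)) := by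
    rw [span_one_tmul_eq_top P C g hg]; exact Submodule.mem_top
  obtain ⟨c, rfl⟩ := (Submodule.mem_span_range_iff_exists_fun _).mp hmem
  rw [map_sum] at hx
  simp only [map_smul, phi_one_tmul] at hx
  have hc := Fintype.linearIndependent_iff.mp hli c hx
  simp [hc]

theorem gens_of_inj [Module.Finite P (RingHom.ker (algebraMap P C))]
    (hΦ : Function.Injective (cotangentComplexBaseChange R C P (ResidueField P)))
    (T : Set (RingHom.ker (algebraMap P C))) (hT : Submodule.span P T = ⊤) :
    ∃ (n : ℕ) (g : Fin n → RingHom.ker (algebraMap P C)), (∀ i, g i ∈ T) ∧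
      Submodule.span P (Set.range g) = ⊤ ∧
      LinearIndependent (ResidueField P)
        (fun i => (1 : ResidueField P) ⊗ₜ[P] D R P (g i : P)) := by
  set s : Set (ResidueField P ⊗[P] RingHom.ker (algebraMap P C)) :=
    (fun t => (1 : ResidueField P) ⊗ₜ[P] t) '' T with hs
  have hspan : Submodule.span (ResidueField P) s = ⊤ := by
    have h1 := Submodule.baseChange_span (R := P) (A := ResidueField P) T
    rw [hT, Submodule.baseChange_top] at h1
    rw [h1]
    rfl
  haveI : Module.Finite (ResidueField P) (Submodule.span (ResidueField P) s) := by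
    rw [hspan]; infer_instance
  obtain ⟨f, hf1, hf2, hf3⟩ := Submodule.exists_fun_fin_finrank_span_eq (ResidueField P) s
  choose g hgT hg using hf1
  refine ⟨_, g, hgT, ?_, ?_⟩
  · -- Nakayama
    have hf2' : Submodule.span (ResidueField P) (Set.range f) = ⊤ := hf2.trans hspan
    let b : Module.Basis _ (ResidueField P) (ResidueField P ⊗[P] RingHom.ker (algebraMap P C)) :=
      Module.Basis.mk hf3 hf2'.ge
    exact IsLocalRing.span_eq_top_of_tmul_eq_basis g b (fun i => by
      rw [Module.Basis.mk_apply]; exact hg i)
  · have : (fun i => (1 : ResidueField P) ⊗ₜ[P] D R P (g i : P)) =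
        (cotangentComplexBaseChange R C P (ResidueField P)) ∘ f := by
      funext i
      rw [Function.comp_apply, ← hg i, phi_one_tmul]
    rw [this]
    exact hf3.map' _ (LinearMap.ker_eq_bot.mpr hΦ)

end abstract

section concrete

variable {A : Type u} [CommRing A] (I : Ideal A) (P : Ideal (A ⧸ I)) [P.IsPrime]

/-- the surjection `A_q → (A/I)_P` -/
noncomputable def locMap :
    Localization.AtPrime (P.comap (Ideal.Quotient.mk I)) →+* Localization.AtPrime P :=
  Localization.localRingHom (P.comap (Ideal.Quotient.mk I)) P (Ideal.Quotient.mk I) rfl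

theorem locMap_surjective : Function.Surjective (locMap I P) :=
  RingHom.surjective_localRingHom_of_surjective (Ideal.Quotient.mk I) Ideal.Quotient.mk_surjective P

theorem locMap_algebraMap (a : A) :
    locMap I P (algebraMap A _ a) = algebraMap (A ⧸ I) _ (Ideal.Quotient.mk I a) :=
  Localization.localRingHom_to_map _ _ _ rfl a

theorem ker_locMap :
    RingHom.ker (locMap I P) =
      Ideal.map (algebraMap A (Localization.AtPrime (P.comap (Ideal.Quotient.mk I)))) I := by
  apply le_antisymm
  · intro x hx
    obtain ⟨a, t, rfl⟩ := IsLocalization.exists_mk'_eq (P.comap (Ideal.Quotient.mk I)).primeCompl x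
    rw [RingHom.mem_ker, locMap, Localization.localRingHom_mk'] at hx
    rw [IsLocalization.mk'_eq_zero_iff] at hx
    obtain ⟨⟨u, hu⟩, hua⟩ := hx
    obtain ⟨u', rfl⟩ := Ideal.Quotient.mk_surjective u
    rw [IsLocalization.mk'_mem_map_algebraMap_iff]
    refine ⟨u', hu, ?_⟩
    rw [← Ideal.Quotient.eq_zero_iff_mem, map_mul]
    exact hua
  · rw [Ideal.map_le_iff_le_comap]
    intro a ha
    rw [Ideal.mem_comap, RingHom.mem_ker, locMap_algebraMap, Ideal.Quotient.eq_zero_iff_mem.mpr ha,
      map_zero]


variable (R : Type u) [CommRing R] [Algebra R A]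

/-- the comparison `κ(q) ⊗[A] Ω[A/R] ≃ κ(q) ⊗[A_q] Ω[A_q/R]` -/
noncomputable def eK (q : Ideal A) [q.IsPrime] :
    q.ResidueField ⊗[A] Ω[A⁄R] ≃ₗ[q.ResidueField]
      q.ResidueField ⊗[Localization.AtPrime q] Ω[Localization.AtPrime q⁄R] :=
  haveI : Algebra.FormallyEtale A (Localization.AtPrime q) := .of_isLocalization q.primeCompl
  (AlgebraTensorModule.cancelBaseChange A (Localization.AtPrime q) q.ResidueField q.ResidueField
    Ω[A⁄R]).symm ≪≫ₗ
  AlgebraTensorModule.congr (LinearEquiv.refl q.ResidueField q.ResidueField)
    (KaehlerDifferential.tensorKaehlerEquivOfFormallyEtale R A (Localization.AtPrime q))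

theorem eK_apply (q : Ideal A) [q.IsPrime] (a : A) :
    eK R q ((1 : q.ResidueField) ⊗ₜ[A] D R A a) =
      (1 : q.ResidueField) ⊗ₜ[Localization.AtPrime q]
        D R (Localization.AtPrime q) (algebraMap A (Localization.AtPrime q) a) := by
  simp [eK]


local notation "qq" => Ideal.comap (Ideal.Quotient.mk I) P
local notation "Aq" => Localization.AtPrime (Ideal.comap (Ideal.Quotient.mk I) P)
local notation "BP" => Localization.AtPrime P
local notation "KK" => Ideal.ResidueField (Ideal.comap (Ideal.Quotient.mk I) P)

theorem main_result [IsNoetherianRing R] [Algebra.Smooth R A] :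
    Algebra.IsSmoothAt R P ↔ ∃ s : Finset A, (↑s : Set A) ⊆ (I : Set A) ∧
      Ideal.map (algebraMap A Aq) I = Ideal.span ((algebraMap A Aq) '' (↑s : Set A)) ∧
      LinearIndependent KK
        (fun g : ↥s => (1 : KK) ⊗ₜ[A] KaehlerDifferential.D R A (g : A)) := by
  -- algebra structures
  letI iAC : Algebra Aq BP := (locMap I P).toAlgebra
  have hAC : ∀ x, algebraMap Aq BP x = locMap I P x := fun _ => rfl
  haveI tow1 : IsScalarTower R Aq BP :=
    IsScalarTower.of_algebraMap_eq (fun r => by
      rw [hAC, IsScalarTower.algebraMap_apply R A Aq, locMap_algebraMap,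
        IsScalarTower.algebraMap_apply R (A ⧸ I) BP]
      rfl)
  have hsurj : Function.Surjective (algebraMap Aq BP) := locMap_surjective I P
  have hker : RingHom.ker (algebraMap Aq BP) = Ideal.map (algebraMap A Aq) I := ker_locMap I P
  -- residue field as algebra over BP
  have hle : RingHom.ker (locMap I P) ≤ RingHom.ker (IsLocalRing.residue Aq) := by
    intro x hx
    rw [IsLocalRing.ker_residue]
    rw [IsLocalRing.mem_maximalIdeal, mem_nonunits_iff]
    intro hu
    have := hu.map (locMap I P)
    rw [(RingHom.mem_ker).mp hx] at this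
    exact not_isUnit_zero this
  let ψ : BP →+* KK := (locMap I P).liftOfSurjective (locMap_surjective I P) ⟨IsLocalRing.residue Aq, hle⟩
  have hψ : ∀ x : Aq, ψ (locMap I P x) = IsLocalRing.residue Aq x := fun x =>
    RingHom.liftOfSurjective_comp_apply _ (locMap_surjective I P) ⟨IsLocalRing.residue Aq, hle⟩ x
  letI iCK : Algebra BP KK := ψ.toAlgebra
  haveI tow2 : IsScalarTower Aq BP KK :=
    IsScalarTower.of_algebraMap_eq (fun x => (hψ x).symm)
  have h₃ : IsLocalRing.maximalIdeal BP ≤ RingHom.ker (algebraMap BP KK) := by
    intro x hx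
    obtain ⟨y, rfl⟩ := locMap_surjective I P x
    rw [RingHom.mem_ker]
    change ψ (locMap I P y) = 0
    rw [hψ, IsLocalRing.residue_eq_zero_iff, IsLocalRing.mem_maximalIdeal, mem_nonunits_iff]
    intro hu
    exact hx (hu.map (locMap I P))
  -- instances for the Jacobian criterion
  haveI : Algebra.FormallyEtale A Aq := .of_isLocalization (Ideal.comap (Ideal.Quotient.mk I) P).primeCompl
  haveI : Algebra.FormallySmooth R Aq := .comp R A Aq
  haveI : IsNoetherianRing A := Algebra.FiniteType.isNoetherianRing R A
  have e₀ := KaehlerDifferential.tensorKaehlerEquivOfFormallyEtale R A Aq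
  haveI : Module.Finite Aq Ω[Aq⁄R] := Module.Finite.equiv e₀
  haveI : Module.Projective Aq Ω[Aq⁄R] := Module.Projective.of_equiv e₀
  haveI : Module.Free Aq Ω[Aq⁄R] := Module.free_of_flat_of_isLocalRing
  have hFG : (RingHom.ker (algebraMap Aq BP)).FG := (isNoetherianRing_iff_ideal_fg Aq).mp inferInstance _
  haveI : Module.Finite Aq (RingHom.ker (algebraMap Aq BP)) := Module.Finite.of_fg hFG
  have hcrit := Algebra.FormallySmooth.iff_injective_cotangentComplexBaseChange
    (R := R) (S := BP) Aq KK hsurj hFG h₃
  change Algebra.FormallySmooth R BP ↔ _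
  rw [hcrit]
  constructor
  · intro hinj
    let T : Set (RingHom.ker (algebraMap Aq BP)) := {j | ∃ a ∈ I, algebraMap A Aq a = (j : Aq)}
    have hT : Submodule.span Aq T = ⊤ := by
      apply Submodule.map_injective_of_injective (RingHom.ker (algebraMap Aq BP)).injective_subtype
      rw [Submodule.map_span, Submodule.map_top, Submodule.range_subtype]
      have himg : (Submodule.subtype (RingHom.ker (algebraMap Aq BP))) '' T =
          (algebraMap A Aq) '' (I : Set A) := by
        ext x
        constructor
        · rintro ⟨j, ⟨a, haI, haj⟩, rfl⟩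
          exact ⟨a, haI, haj⟩
        · rintro ⟨a, haI, rfl⟩
          have hmem : algebraMap A Aq a ∈ RingHom.ker (algebraMap Aq BP) := by
            rw [hker]; exact Ideal.mem_map_of_mem _ haI
          exact ⟨⟨_, hmem⟩, ⟨a, haI, rfl⟩, rfl⟩
      rw [himg, hker]
      rfl
    obtain ⟨n, g, hgT, hgspan, hgli⟩ := gens_of_inj R Aq BP hinj T hT
    choose a haI hag using hgT
    -- linear independence over `A`
    have hliA : LinearIndependent KK (fun i : Fin n => (1 : KK) ⊗ₜ[A] D R A (a i)) := by
      have hcomp : (fun i : Fin n => (1 : KK) ⊗ₜ[Aq] D R Aq (g i : Aq)) =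
          (eK R qq) ∘ (fun i : Fin n => (1 : KK) ⊗ₜ[A] D R A (a i)) := by
        funext i
        rw [Function.comp_apply, eK_apply, hag i]
      rw [hcomp] at hgli
      exact LinearIndependent.of_comp (eK R qq).toLinearMap hgli
    have hainj : Function.Injective a := by
      intro i j hij
      apply hliA.injective
      simp only [hij]
    classical
    refine ⟨Finset.univ.image a, ?_, ?_, ?_⟩
    · intro x hx
      rw [Finset.coe_image] at hx
      obtain ⟨i, -, rfl⟩ := hx
      exact haI i
    · rw [← hker]
      have h1 : (algebraMap A Aq) '' ((Finset.univ.image a : Finset A) : Set A) =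
          (Submodule.subtype (RingHom.ker (algebraMap Aq BP))) '' (Set.range g) := by
        ext x
        simp only [Finset.coe_image, Finset.coe_univ, Set.image_univ, Set.mem_image, Set.mem_range,
          exists_exists_eq_and, Submodule.subtype_apply]
        constructor
        · rintro ⟨i, rfl⟩
          exact ⟨i, (hag i).symm⟩
        · rintro ⟨i, rfl⟩
          exact ⟨i, hag i⟩
      rw [h1]
      have h2 := congrArg (Submodule.map (Submodule.subtype (RingHom.ker (algebraMap Aq BP)))) hgspan
      rw [Submodule.map_span, Submodule.map_top, Submodule.range_subtype] at h2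
      exact h2.symm
    · -- reindex
      have hρ : ∀ x : ↥(Finset.univ.image a), ∃ i : Fin n, a i = (x : A) := by
        rintro ⟨x, hx⟩
        obtain ⟨i, -, hi⟩ := Finset.mem_image.mp hx
        exact ⟨i, hi⟩
      choose ρ hρ using hρ
      have hρinj : Function.Injective ρ := by
        intro x y hxy
        apply Subtype.ext
        rw [← hρ x, ← hρ y, hxy]
      have : (fun x : ↥(Finset.univ.image a) => (1 : KK) ⊗ₜ[A] D R A (x : A)) =
          (fun i : Fin n => (1 : KK) ⊗ₜ[A] D R A (a i)) ∘ ρ := by
        funext x
        rw [Function.comp_apply, hρ x]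
      rw [this]
      exact hliA.comp ρ hρinj
  · rintro ⟨s, hsI, hJ, hli⟩
    have hmem : ∀ x : ↥s, algebraMap A Aq (x : A) ∈ RingHom.ker (algebraMap Aq BP) := by
      intro x
      rw [hker]
      exact Ideal.mem_map_of_mem _ (hsI x.2)
    let g : ↥s → RingHom.ker (algebraMap Aq BP) := fun x => ⟨algebraMap A Aq (x : A), hmem x⟩
    have hgspan : Submodule.span Aq (Set.range g) = ⊤ := by
      apply Submodule.map_injective_of_injective (RingHom.ker (algebraMap Aq BP)).injective_subtype
      rw [Submodule.map_span, Submodule.map_top, Submodule.range_subtype]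
      have himg : (Submodule.subtype (RingHom.ker (algebraMap Aq BP))) '' (Set.range g) =
          (algebraMap A Aq) '' (↑s : Set A) := by
        ext x
        simp only [Set.mem_image, Set.mem_range, exists_exists_eq_and, Submodule.subtype_apply, g]
        constructor
        · rintro ⟨y, rfl⟩
          exact ⟨y, y.2, rfl⟩
        · rintro ⟨y, hy, rfl⟩
          exact ⟨⟨y, hy⟩, rfl⟩
      rw [himg, hker, hJ]
    refine inj_of_gens R Aq BP g hgspan ?_
    have hcomp : (fun i : ↥s => (1 : KK) ⊗ₜ[Aq] D R Aq (g i : Aq)) =
        (eK R qq) ∘ (fun i : ↥s => (1 : KK) ⊗ₜ[A] D R A (i : A)) := by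
      funext i
      rw [Function.comp_apply, eK_apply]
    rw [hcomp]
    exact hli.map' (eK R qq).toLinearMap (eK R qq).ker

end concrete

open TensorProduct in

open TensorProduct in
/-- Let R be a Noetherian ring, A a smooth R-algebra, I an ideal of A, P a prime ideal of A/I and q its
preimage in A. Then A/I is smooth over R at P (that is, the local ring of A/I at P is formally
smooth over R) exactly when there are finitely many elements g_1, ..., g_p of I generating the ideal
I·A_q whose differentials dg_i have linearly independent images in κ(q) ⊗_A Ω_{A/R}. -/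
theorem result
    (R A : Type u) [CommRing R] [CommRing A] [IsNoetherianRing R] [Algebra R A] [Algebra.Smooth R A]
    (I : Ideal A) (P : Ideal (A ⧸ I)) [P.IsPrime] :
    letI q : Ideal A := P.comap (Ideal.Quotient.mk I)
    Algebra.IsSmoothAt R P ↔ ∃ s : Finset A, (↑s : Set A) ⊆ (I : Set A) ∧
      Ideal.map (algebraMap A (Localization.AtPrime q)) I =
        Ideal.span ((algebraMap A (Localization.AtPrime q)) '' (↑s : Set A)) ∧
      LinearIndependent q.ResidueField
        (fun g : ↥s => (1 : q.ResidueField) ⊗ₜ[A] KaehlerDifferential.D R A (g : A)) := by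
  exact main_result I P R

end Groth.Agent.S5998
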