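import Groth.Statements.S5999
import Groth.Agent.Lib.Helper5.HypB

set_option autoImplicit false
universe u
open SGA1

namespace Groth.Agent.S5999

open TensorProduct in
/-- Let R be a Noetherian ring, A an R-algebra of finite type, F an element of A, P a prime ideal of
A/(F) and q its preimage in A, and suppose A is smooth over R at q. Then the hypersurface A/(F) is
smooth over R at P if and only if either F is zero in the local ring A_q (F vanishes on a
neighbourhood of q) or the image dF(q) of the differential of F in κ(q) ⊗_A Ω_{A/R} is nonzero. -/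
theorem result
    (R A : Type u) [CommRing R] [CommRing A] [IsNoetherianRing R] [Algebra R A] [Algebra.FiniteType R A]
    (F : A) (P : Ideal (A ⧸ Ideal.span ({F} : Set A))) [P.IsPrime]
    (hX : Algebra.IsSmoothAt R (P.comap (Ideal.Quotient.mk (Ideal.span ({F} : Set A))))) :
    letI q : Ideal A := P.comap (Ideal.Quotient.mk (Ideal.span ({F} : Set A)))
    Algebra.IsSmoothAt R P ↔ algebraMap A (Localization.AtPrime q) F = 0 ∨
      (1 : q.ResidueField) ⊗ₜ[A] KaehlerDifferential.D R A F ≠ 0 := by
  let q : Ideal A := P.comap (Ideal.Quotient.mk (Ideal.span ({F} : Set A)))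
  let B := A ⧸ Ideal.span ({F} : Set A)
  let Tq := Localization.AtPrime q
  let BP := Localization.AtPrime P
  have hsmT : Algebra.FormallySmooth R Tq := hX
  have hFq : F ∈ q := by
    change Ideal.Quotient.mk (Ideal.span ({F} : Set A)) F ∈ P
    have : Ideal.Quotient.mk (Ideal.span ({F} : Set A)) F = 0 :=
      Ideal.Quotient.eq_zero_iff_mem.mpr (Ideal.mem_span_singleton_self F)
    rw [this]; exact P.zero_mem
  let f : Tq := algebraMap A Tq F
  have hfm : f ∈ IsLocalRing.maximalIdeal Tq := by
    rw [← Localization.AtPrime.map_eq_maximalIdeal]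
    exact Ideal.mem_map_of_mem _ hFq
  have hfin : Module.Finite Tq Ω[Tq⁄R] := inferInstance
  -- the local ring of the hypersurface is the quotient of the local ring of `A` by `f`
  let π : A →+* B := Ideal.Quotient.mk (Ideal.span ({F} : Set A))
  have hπ : Function.Surjective π := Ideal.Quotient.mk_surjective
  let g : Tq →+* BP := Localization.localRingHom q P π rfl
  have hgsurj : Function.Surjective g :=
    Groth.Agent.Lib.Helper5.KSyn.localRingHom_surjective π hπ q P rfl
  have hgker : RingHom.ker g = Ideal.span ({f} : Set Tq) := by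
    rw [Groth.Agent.Lib.Helper5.SmQuot.ker_localRingHom_eq_map π hπ q P rfl, Ideal.mk_ker,
      Ideal.map_span, Set.image_singleton]
  let gA : Tq →ₐ[R] BP :=
    { g with
      commutes' := fun r => by
        change g (algebraMap R Tq r) = algebraMap R BP r
        rw [IsScalarTower.algebraMap_apply R A Tq, Localization.localRingHom_to_map,
          IsScalarTower.algebraMap_apply R B BP]
        rfl }
  have hgAsurj : Function.Surjective gA := hgsurj
  have hgAker : RingHom.ker gA = Ideal.span ({f} : Set Tq) := hgker
  let e : (Tq ⧸ Ideal.span ({f} : Set Tq)) ≃ₐ[R] BP :=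
    (Ideal.quotientEquivAlgOfEq R hgAker.symm).trans
      (Ideal.quotientKerAlgEquivOfSurjective hgAsurj)
  have hiff : Algebra.IsSmoothAt R P ↔
      Algebra.FormallySmooth R (Tq ⧸ Ideal.span ({f} : Set Tq)) :=
    ⟨fun h => Algebra.FormallySmooth.of_equiv (A := BP) e.symm,
      fun h => Algebra.FormallySmooth.of_equiv e⟩
  rw [hiff, Groth.Agent.Lib.Helper5.Hyp.formallySmooth_quotient_iff (R := R) f hfm]
  have key := Groth.Agent.Lib.Helper5.Hyp.tmul_D_eq_zero_iff (R := R) q F
  exact or_congr Iff.rfl (not_congr key.symm)

end Groth.Agent.S5999
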