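import Groth.Statements.S6003
import Groth.Agent.Lib.Helper9.Tors1
import Groth.Agent.Lib.Helper9.FpqcLoc2
import Groth.Agent.S0079

set_option autoImplicit false
universe u
open CategoryTheory AlgebraicGeometry
open SGA1

namespace Groth.Agent.S6003

/-- Let G be an S-group scheme which is flat and quasi-compact over S and let G act on the S-scheme X.
Then X is a principal homogeneous bundle under G (a pseudo-torsor which acquires sections on the
members of some fpqc covering family of S) if and only if X is formally principal homogeneous (a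
pseudo-torsor) and the structure morphism X → S is faithfully flat and quasi-compact. -/
theorem result {S : Scheme.{u}}
    (G X : Over S) [GrpObj G] [Flat G.hom] [QuasiCompact G.hom] (a : AlgGrp.Action G X) :
    NonAbH1.IsTorsorFor Scheme.fpqcPrecoverage a ↔
      (NonAbH1.IsPseudoTorsorSch a ∧ Surjective X.hom ∧ Flat X.hom ∧ QuasiCompact X.hom) := by
  have hqc := Groth.Agent.S0079.result.{u}
  have hfl := Groth.Agent.Lib.Helper9.FpqcLoc.descendsAlong_flat_fpqc.{u}
  constructor
  · intro h
    have hsurj : Surjective G.hom := Groth.Agent.Lib.Helper9.Tors.surjective_hom G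
    refine ⟨h.1, ?_, ?_, ?_⟩
    · exact Groth.Agent.Lib.Helper9.Tors.prop_hom_of_isTorsorFor_fpqc (P := @Surjective) a h hsurj
    · exact Groth.Agent.Lib.Helper9.Tors.prop_hom_of_isTorsorFor_fpqc (P := @Flat) a h inferInstance
    · exact Groth.Agent.Lib.Helper9.Tors.prop_hom_of_isTorsorFor_fpqc (P := @QuasiCompact) a h inferInstance
  · rintro ⟨hps, hs, hf, hq⟩
    refine ⟨hps, Presieve.singleton X.hom, Scheme.Hom.singleton_mem_fpqcPrecoverage X.hom, ?_⟩
    rintro S' f ⟨⟩
    exact ⟨𝟙 _, Category.id_comp _⟩

end Groth.Agent.S6003
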