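import Groth.Statements.S6005
import Groth.Agent.Lib.Helper26.H90c

set_option autoImplicit false
universe u
open CategoryTheory AlgebraicGeometry
open SGA1

namespace Groth.Agent.S6005

/-- Every principal homogeneous bundle under the multiplicative group over S (a pseudo-torsor which
acquires sections on the members of some fpqc covering family of S) is locally trivial, i.e. is a
torsor for the Zariski topology: S is covered by open subschemes over which it acquires sections.
(The published statement covers every S-group isomorphic to the general linear group of any rank;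
this row is the rank-one case.) -/
theorem result {S : Scheme.{u}} (X : Over S)
    (a : AlgGrp.Action (Red.Gm S) X) (h : NonAbH1.IsTorsorFor Scheme.fpqcPrecoverage a) :
    NonAbH1.IsTorsorFor Scheme.zariskiPrecoverage a := by
  obtain ⟨hps, R, hR, hsec⟩ := h
  refine ⟨hps, ?_⟩
  have key : ∀ (k : S.affineCover.I₀) (z : S.affineCover.X k),
      ∃ (U : Scheme.{u}) (j : U ⟶ S.affineCover.X k), IsOpenImmersion j ∧ z ∈ Set.range j ∧
        ∃ s : U ⟶ X.left, s ≫ X.hom = j ≫ S.affineCover.f k := by
    intro k z
    obtain ⟨W, hW, π, hπf, hπs, s', hs'⟩ :=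
      Groth.Agent.Lib.Helper26.H90c.exists_affine_flat_cover X (S.affineCover.f k) hR hsec
    exact Groth.Agent.Lib.Helper26.H90c.exists_local_section_affine a hps π
      (S.affineCover.f k) s' hs' z
  choose U j hj hz s hs using key
  refine ⟨Presieve.ofArrows (fun i : Σ k : S.affineCover.I₀, S.affineCover.X k => U i.1 i.2)
    (fun i => j i.1 i.2 ≫ S.affineCover.f i.1), ?_, ?_⟩
  · rw [Scheme.ofArrows_mem_precoverage_iff]
    refine ⟨fun x => ?_, fun i => ?_⟩
    · obtain ⟨z, hz'⟩ := S.affineCover.covers x
      obtain ⟨y, hy⟩ := hz (S.affineCover.idx x) z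
      refine ⟨⟨S.affineCover.idx x, z⟩, y, ?_⟩
      rw [Scheme.Hom.comp_apply, hy, hz']
    · have := hj i.1 i.2
      infer_instance
  · rintro S' f ⟨i⟩
    exact ⟨s i.1 i.2, hs i.1 i.2⟩

end Groth.Agent.S6005
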