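import Groth.Statements.S6006
import Groth.Agent.Lib.Helper26.H90b

set_option autoImplicit false
universe u
open CategoryTheory AlgebraicGeometry
open SGA1

namespace Groth.Agent.S6006

/-- Every principal homogeneous bundle under the additive group over S (a pseudo-torsor which acquires
sections on the members of some fpqc covering family of S) is locally trivial, i.e. is a torsor for
the Zariski topology: S is covered by open subschemes over which it acquires sections. -/
theorem result {S : Scheme.{u}} (X : Over S)
    (a : AlgGrp.Action (Red.Ga S) X) (h : NonAbH1.IsTorsorFor Scheme.fpqcPrecoverage a) :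
    NonAbH1.IsTorsorFor Scheme.zariskiPrecoverage a := by
  obtain ⟨hps, R, hR, hsec⟩ := h
  refine ⟨hps, Presieve.ofArrows _ S.affineCover.f, S.affineCover.mem₀, ?_⟩
  rintro S' f ⟨k⟩
  exact Groth.Agent.Lib.Helper26.H90b.exists_section_of_fpqc a hps (S.affineCover.f k) hR hsec

end Groth.Agent.S6006
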