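import Groth.Statements.S6013
-- import your own Groth.Agent.* helpers here

set_option autoImplicit false
open CategoryTheory
universe v₁ v₂ u₁ u₂
open FibCat FibCat.Cleavage

namespace Groth.Agent.S6013


set_option backward.isDefEq.respectTransparency false in
set_option backward.isDefEq.respectTransparency.types false in
theorem aux (𝒮 : Type u₁) (𝒳 : Type u₂) [Category.{v₁} 𝒮] [Category.{v₂} 𝒳] (p : 𝒳 ⥤ 𝒮) [p.IsFibered] (K : FibCat.Cleavage p)
    (S T : 𝒮) (f : T ⟶ S) [IsIso f] : (K.inverseImage f).IsEquivalence := by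
  have hiso : ∀ a : p.Fiber S, IsIso (K.lift a.2 f) := fun a =>
    Functor.IsStronglyCartesian.isIso_of_base_isIso p f (K.lift a.2 f)
  have hfaith : (K.inverseImage f).Faithful := ⟨fun {a b} φ ψ h => by
    apply Functor.Fiber.hom_ext
    have e1 : Functor.Fiber.fiberInclusion.map ((K.inverseImage f).map φ) ≫ K.lift b.2 f =
        K.lift a.2 f ≫ Functor.Fiber.fiberInclusion.map φ := by simp
    have e2 : Functor.Fiber.fiberInclusion.map ((K.inverseImage f).map ψ) ≫ K.lift b.2 f =
        K.lift a.2 f ≫ Functor.Fiber.fiberInclusion.map ψ := by simp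
    rw [h] at e1
    have := hiso a
    exact (cancel_epi (K.lift a.2 f)).mp (e1.symm.trans e2)⟩
  have hfull : (K.inverseImage f).Full := ⟨fun {a b} ψ => by
    have := hiso a
    let φ0 : a.1 ⟶ b.1 := inv (K.lift a.2 f) ≫ Functor.Fiber.fiberInclusion.map ψ ≫ K.lift b.2 f
    have hφ0 : p.IsHomLift (𝟙 S) φ0 := by
      have h1 : p.IsHomLift (inv f) (inv (K.lift a.2 f)) := inferInstance
      have h2 : p.IsHomLift (𝟙 T ≫ f) (Functor.Fiber.fiberInclusion.map ψ ≫ K.lift b.2 f) :=
        inferInstance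
      have h3 : p.IsHomLift (inv f ≫ 𝟙 T ≫ f) φ0 := inferInstance
      simpa using h3
    refine ⟨Functor.Fiber.homMk p S φ0, ?_⟩
    apply Functor.Fiber.hom_ext
    rw [inverseImage_map]
    symm
    apply Functor.IsCartesian.map_uniq
    simp [φ0]⟩
  have hess : (K.inverseImage f).EssSurj := ⟨fun c => by
    let a := (K.inverseImage (inv f)).obj c
    have i1 : IsIso (K.lift a.2 f) := hiso a
    have i2 : IsIso (K.lift c.2 (inv f)) :=
      Functor.IsStronglyCartesian.isIso_of_base_isIso p (inv f) _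
    let ψ0 : K.obj a.2 f ⟶ c.1 := K.lift a.2 f ≫ K.lift c.2 (inv f)
    have hψ0 : p.IsHomLift (𝟙 T) ψ0 := by
      have : p.IsHomLift (f ≫ inv f) ψ0 := inferInstance
      simpa using this
    have hψ0' : p.IsHomLift (𝟙 T) (inv ψ0) := inferInstance
    refine ⟨a, ⟨⟨Functor.Fiber.homMk p T ψ0, Functor.Fiber.homMk p T (inv ψ0), ?_, ?_⟩⟩⟩
    · apply Functor.Fiber.hom_ext
      simp
    · apply Functor.Fiber.hom_ext
      simp
      rfl⟩
  exact { }

/-- Let `p : 𝒳 ⥤ 𝒮` be a fibred category with a cleavage `K`, and let `f : T ⟶ S` be an isomorphism of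
the base. Then the inverse-image functor `f^*` of `K`, from the fibre over `S` to the fibre over
`T`, is an equivalence of categories. -/
theorem result (𝒮 : Type u₁) (𝒳 : Type u₂) [Category.{v₁} 𝒮] [Category.{v₂} 𝒳] (p : 𝒳 ⥤ 𝒮) [p.IsFibered] (K : FibCat.Cleavage p)
    (S T : 𝒮) (f : T ⟶ S) [IsIso f] : (K.inverseImage f).IsEquivalence := by
  exact aux 𝒮 𝒳 p K S T f

end Groth.Agent.S6013
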