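import Groth.Statements.S6019
-- import your own Groth.Agent.* helpers here

set_option autoImplicit false
open CategoryTheory
universe v₁ v₂ u₁ u₂
open FibCat FibCat.Cleavage

namespace Groth.Agent.S6019

section helpers
open CategoryTheory.Functor

variable {𝒮 : Type u₁} {𝒳 : Type u₂} [Category.{v₁} 𝒮] [Category.{v₂} 𝒳]

set_option backward.isDefEq.respectTransparency false in
set_option backward.isDefEq.respectTransparency.types false in
theorem isCartesian_id_of_eqToHom (p : 𝒳 ⥤ 𝒮) {R S : 𝒮} {a : 𝒳} (ha : p.obj a = S) (f : R ⟶ S)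
    (h : ∃ e : R = S, f = eqToHom e) : p.IsCartesian f (𝟙 a) := by
  obtain ⟨e, rfl⟩ := h
  subst e
  subst ha
  have : p.IsHomLift (eqToHom (rfl : p.obj a = p.obj a)) (𝟙 a) := by
    rw [eqToHom_refl]
    infer_instance
  infer_instance

open Classical in
set_option backward.isDefEq.respectTransparency false in
set_option backward.isDefEq.respectTransparency.types false in
/-- The choice of a cartesian lift, normalised over identities. -/
noncomputable def normChoice (p : 𝒳 ⥤ 𝒮) [p.IsPreFibered] {R S : 𝒮} {a : 𝒳} (ha : p.obj a = S)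
    (f : R ⟶ S) : { x : Σ b : 𝒳, (b ⟶ a) // p.IsCartesian f x.2 } :=
  if h : ∃ e : R = S, f = eqToHom e then ⟨⟨a, 𝟙 a⟩, isCartesian_id_of_eqToHom p ha f h⟩
  else ⟨⟨IsPreFibered.pullbackObj ha f, IsPreFibered.pullbackMap ha f⟩, inferInstance⟩

set_option backward.isDefEq.respectTransparency false in
set_option backward.isDefEq.respectTransparency.types false in
/-- A normalised cleavage of a pre-fibred category: over identities choose identities. -/
noncomputable def normCleavage (p : 𝒳 ⥤ 𝒮) [p.IsPreFibered] : FibCat.Cleavage p where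
  obj ha f := (normChoice p ha f).1.1
  lift ha f := (normChoice p ha f).1.2
  isCartesian ha f := (normChoice p ha f).2

theorem eq_eqToHom_of_eq {a : 𝒳} (c : Σ b : 𝒳, (b ⟶ a)) (hc : c = ⟨a, 𝟙 a⟩) :
    ∃ h : c.1 = a, c.2 = eqToHom h := by
  subst hc
  exact ⟨rfl, rfl⟩

end helpers

set_option backward.isDefEq.respectTransparency false in
set_option backward.isDefEq.respectTransparency.types false in
theorem aux (𝒮 : Type u₁) (𝒳 : Type u₂) [Category.{v₁} 𝒮] [Category.{v₂} 𝒳]
    (p : 𝒳 ⥤ 𝒮) [p.IsPreFibered] : ∃ K : FibCat.Cleavage p, K.IsNormalised := by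
  classical
  refine ⟨normCleavage p, ?_⟩
  intro S a ha
  have h : ∃ e : S = S, (𝟙 S : S ⟶ S) = eqToHom e := ⟨rfl, rfl⟩
  have hc : (normChoice p ha (𝟙 S)).1 = ⟨a, 𝟙 a⟩ := by
    unfold normChoice
    rw [dif_pos h]
  exact eq_eqToHom_of_eq _ hc

/-- A pre-fibred category admits a normalised cleavage: if every base morphism `R ⟶ p(a)` has a
cartesian morphism over it with target `a`, then one cartesian lift can be chosen for every base
morphism at every object over its target in such a way that the chosen lift of each identity `𝟙 S`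
at each object `a` over `S` is the identity of `a` (identities are transport morphisms). -/
theorem result (𝒮 : Type u₁) (𝒳 : Type u₂) [Category.{v₁} 𝒮] [Category.{v₂} 𝒳]
    (p : 𝒳 ⥤ 𝒮) [p.IsPreFibered] : ∃ K : FibCat.Cleavage p, K.IsNormalised := by
  exact aux 𝒮 𝒳 p

end Groth.Agent.S6019
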