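import Groth.Statements.S6024
import Groth.Agent.Lib.Helper6.SheafCoh

set_option autoImplicit false
universe u
open CategoryTheory CategoryTheory.Limits TopologicalSpace
open LocCohZ

namespace Groth.Agent.S6024
open Groth.Agent.Lib.Helper6

/-- Consider a topological space X carrying a sheaf of abelian groups F, and assume that H^1_Z(X, F)
vanishes for each closed subset Z of X (writing Z = X − U with U open). Under this assumption, F is
flasque. -/
theorem result {X : TopCat.{u}} (F : CohTop.Ab X)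
    (h : ∀ U : Opens X, Subsingleton (LocCohZ.HZc F 1 U)) : TopCat.Sheaf.IsFlasque F := by
  have key : ∀ U : Opens X, Function.Surjective
      (F.obj.map (homOfLE (le_top : U ≤ ⊤)).op) := by
    intro U t
    have hS := LocCohZ.zqSeq_shortExact (le_top : U ≤ ⊤)
    let y : (LocCohZ.zqSeq (le_top : U ≤ ⊤)).X₁ ⟶ F :=
      (SheafCoh.homEquiv (Opens.grothendieckTopology X) U F).symm t
    have hvan : hS.extClass.comp (Abelian.Ext.mk₀ y) (add_zero 1) = 0 := (h U).elim _ _
    obtain ⟨x₂, hx₂⟩ := Abelian.Ext.contravariant_sequence_exact₁ hS F (Abelian.Ext.mk₀ y)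
      (add_zero 1) hvan
    obtain ⟨w, rfl⟩ := (Abelian.Ext.mk₀_bijective _ _).2 x₂
    rw [Abelian.Ext.mk₀_comp_mk₀] at hx₂
    have hw : (LocCohZ.zqSeq (le_top : U ≤ ⊤)).f ≫ w = y := (Abelian.Ext.mk₀_bijective _ _).1 hx₂
    refine ⟨SheafCoh.homEquiv (Opens.grothendieckTopology X) ⊤ F w, ?_⟩
    have := SheafCoh.homEquiv_naturality_left (Opens.grothendieckTopology X)
      (homOfLE (le_top : U ≤ ⊤)) w
    rw [← this]
    have hw' : SheafCoh.homEquiv (Opens.grothendieckTopology X) U F
      ((LocCohZ.zqSeq (le_top : U ≤ ⊤)).f ≫ w) = t :=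
      (congrArg (fun z : SheafCoh.Zfree (Opens.grothendieckTopology X) U ⟶ F =>
        SheafCoh.homEquiv (Opens.grothendieckTopology X) U F z) hw).trans
        (Equiv.apply_symm_apply _ _)
    exact hw'
  constructor
  intro V U i
  rw [AddCommGrpCat.epi_iff_surjective]
  intro t
  obtain ⟨s, hs⟩ := key U.unop t
  refine ⟨F.obj.map (homOfLE (le_top : V.unop ≤ ⊤)).op s, ?_⟩
  rw [← hs, ← ConcreteCategory.comp_apply, ← Functor.map_comp]
  rfl

end Groth.Agent.S6024
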