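import Groth.Statements.S6040
import Groth.Agent.Lib.Helper6.CohTopRestrDer
import Groth.Agent.Lib.Helper6.RDComp

set_option autoImplicit false
universe u
open CategoryTheory CategoryTheory.Limits TopologicalSpace
open LocCohZ

namespace Groth.Agent.S6040

/-- Let X be a topological space, U an open subset and j : U → X the inclusion, so that the sheaf of
sections with supports in the open U is Γ_U(F) = j_*(F|_U). For every q the local cohomology sheaf
functor ℋ^q_U, i.e. the q-th right derived functor of F ↦ j_*(F|_U), is isomorphic to F ↦ R^q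
j_*(F|_U). (Existence of an isomorphism of functors for each q.) -/
theorem result {X : TopCat.{u}} (U : Opens X) (q : ℕ) :
    Nonempty (CohCx.RpushOn (𝟙 X) U q ≅ CohTop.restrFunctor U ⋙ CohTop.Rpush (CohCx.incl U) q) := by
  open Groth.Agent.Lib.Helper6 in
  classical
  haveI : PreservesFiniteColimits (CohTop.restrFunctor U) := by
    rw [Functor.preservesFiniteColimits_iff_forall_exact_map_and_epi]
    intro S hS
    have h := (Functor.preservesFiniteLimits_iff_forall_exact_map_and_mono
      (CohTop.restrFunctor U)).1 inferInstance S hS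
    haveI := hS.epi_g
    exact ⟨h.1, CohTopRestr.epi_restr_map U S.g⟩
  have hF : ∀ I : CohTop.Ab X, Injective I → Injective ((CohTop.restrFunctor U).obj I) :=
    fun I hI => Injective.injective_of_adjoint (CohTopRestrDer.adj U) I
  have h : CohCx.incl U ≫ 𝟙 X = CohCx.incl U := Category.comp_id _
  have e := RDComp.compIso (CohTop.restrFunctor U) hF (CohTop.push (CohCx.incl U ≫ 𝟙 X)) q
  have key : ∀ (g : TopCat.of U ⟶ X) (_ : g = CohCx.incl U) (inst : (CohTop.push g).Additive),
      Nonempty ((CohTop.push g).rightDerived q ≅ CohTop.Rpush (CohCx.incl U) q) := by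
    intro g hg inst
    subst hg
    exact ⟨Iso.refl _⟩
  obtain ⟨e'⟩ := key _ h inferInstance
  exact ⟨e ≪≫ Functor.isoWhiskerLeft (CohTop.restrFunctor U) e'⟩

end Groth.Agent.S6040
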