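import Groth.Statements.S6051
import Groth.Agent.Lib.Helper14.ShfQuot

set_option autoImplicit false
open CategoryTheory CategoryTheory.Limits MonoidalCategory
universe w v₁ u₁
open ShfCat

namespace Groth.Agent.S6051

open Groth.Agent.Lib.Helper14.ShfQuot

open MonObj CartesianMonoidalCategory SemiCartesianMonoidalCategory in


open MonObj CartesianMonoidalCategory SemiCartesianMonoidalCategory in
/-- Let `u : H ⟶ G` be a monomorphism of sheaves of groups on a site and `G/H` the quotient sheaf
(coequalizer in sheaves of sets of the projection and the multiplication `G × H ⇉ G`), with `π : G ⟶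
G/H`. Then `G/H` carries exactly one action of `G` (a unital, associative morphism `G × G/H ⟶ G/H`)
for which `π` is equivariant for the action of `G` on itself by left translations. Stated for
sheaves of sets in `Type w` with sheafification. (The published statement adds that this structure
is functorial in the pair `(G, H)`; that clause is not stated here.) -/
theorem result {C : Type u₁} [Category.{v₁} C]
    (J : GrothendieckTopology C) [HasSheafify J (Type w)]
    {H G : Sheaf J (Type w)} [hH : GrpObj H] [hG : GrpObj G] (u : H ⟶ G) [Mono u]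
    (hu : @IsMonHom (Sheaf J (Type w)) _ _ H G hH.toMonObj hG.toMonObj u) :
    ∃! act : G ⊗ coequalizer (fst G H) ((G ◁ u) ≫ hG.mul) ⟶ coequalizer (fst G H) ((G ◁ u) ≫ hG.mul),
      (hG.one ▷ coequalizer (fst G H) ((G ◁ u) ≫ hG.mul)) ≫ act =
          (λ_ (coequalizer (fst G H) ((G ◁ u) ≫ hG.mul))).hom ∧
        (hG.mul ▷ coequalizer (fst G H) ((G ◁ u) ≫ hG.mul)) ≫ act =
          (α_ G G (coequalizer (fst G H) ((G ◁ u) ≫ hG.mul))).hom ≫ (G ◁ act) ≫ act ∧
        hG.mul ≫ coequalizer.π (fst G H) ((G ◁ u) ≫ hG.mul) =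
          (G ◁ coequalizer.π (fst G H) ((G ◁ u) ≫ hG.mul)) ≫ act := by
  haveI := hu
  have w : fst G H ≫ coequalizer.π (fst G H) ((G ◁ u) ≫ hG.mul) =
      Groth.Agent.Lib.Helper14.ShfQuot.act u ≫ coequalizer.π (fst G H) ((G ◁ u) ≫ hG.mul) :=
    coequalizer.condition _ _
  have hc : IsColimit (Cofork.ofπ (coequalizer.π (fst G H) ((G ◁ u) ≫ hG.mul)) w) :=
    coequalizerIsCoequalizer _ _
  obtain ⟨a, ha⟩ := exists_leftAct u _ w hc
  obtain ⟨h1, h2⟩ := leftAct_axioms u _ w hc a ha
  refine ⟨a, ⟨h1, h2, ha.symm⟩, ?_⟩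
  rintro a' ⟨-, -, ha'⟩
  exact leftAct_unique u _ w hc a' a ha'.symm ha

end Groth.Agent.S6051
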