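import Groth.Statements.S6053
-- import your own Groth.Agent.* helpers here

set_option autoImplicit false
open CategoryTheory
universe w v₁ u₁
open ShfCat

namespace Groth.Agent.S6053

section Helpers

open CategoryTheory.Limits

variable {C : Type u₁} [Category.{v₁} C] (C' : C → Prop) (P P' : Precoverage C)

/-- non-dependent form of the composite-cover condition -/
def Q (X : C) (S' : Sieve X) : Prop :=
  ∃ R ∈ P X, (∀ ⦃Y : C⦄ ⦃f : Y ⟶ X⦄, R f → C' Y) ∧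
    ∀ ⦃Y : C⦄ ⦃f : Y ⟶ X⦄, R f → ∃ T ∈ P' Y, ∀ ⦃Z : C⦄ ⦃g : Z ⟶ Y⦄, T g → S' (g ≫ f)

variable {C' P P'}

theorem Q_local [P.IsStableUnderComposition] {X : C} {S' : Sieve X} {R : Presieve X}
    (hR : R ∈ P X) (h : ∀ ⦃Y : C⦄ ⦃f : Y ⟶ X⦄, R f → Q C' P P' Y (S'.pullback f)) :
    Q C' P P' X S' := by
  obtain ⟨ι, Z, g, rfl⟩ := R.exists_eq_ofArrows
  have h' : ∀ i, Q C' P P' (Z i) (S'.pullback (g i)) := fun i => h (Presieve.ofArrows.mk i)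
  choose Ri hRi hCi hTi using h'
  have h'' := fun i => (Ri i).exists_eq_ofArrows
  choose σ W k hk using h''
  refine ⟨Presieve.ofArrows (fun p : Σ i, σ i => W p.1 p.2) (fun p => k p.1 p.2 ≫ g p.1),
    Precoverage.comp_mem_coverings g hR k (fun i => hk i ▸ hRi i), ?_, ?_⟩
  · rintro Y f ⟨p⟩
    exact hCi p.1 (by rw [hk]; exact Presieve.ofArrows.mk p.2)
  · rintro Y f ⟨p⟩
    obtain ⟨T, hT, hTS⟩ := hTi p.1 (f := k p.1 p.2) (by rw [hk]; exact Presieve.ofArrows.mk p.2)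
    refine ⟨T, hT, fun V m hm => ?_⟩
    have := hTS hm
    simpa using this

variable (hb : ∀ X : C, ∃ R ∈ P X, ∀ ⦃Y : C⦄ ⦃f : Y ⟶ X⦄, R f → C' Y)
  (ha : ∀ ⦃X : C⦄ ⦃R : Presieve X⦄, R ∈ P' X → ∀ ⦃T : C⦄ (g : T ⟶ X), C' T →
      ∃ _ : R.HasPullbacks g, Presieve.pullbackArrows g R ∈ P' T)

include hb ha in
theorem Q_of_P' {X : C} {S' : Sieve X} {T : Presieve X} (hT : T ∈ P' X)
    (hTS : ∀ ⦃Y : C⦄ ⦃f : Y ⟶ X⦄, T f → S' f) : Q C' P P' X S' := by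
  obtain ⟨R, hR, hRC⟩ := hb X
  refine ⟨R, hR, hRC, fun Y f hf => ?_⟩
  obtain ⟨hpb, hmem⟩ := ha hT f (hRC hf)
  refine ⟨Presieve.pullbackArrows f T, hmem, ?_⟩
  rintro Z g ⟨W, t, ht⟩
  haveI := T.hasPullback f ht
  rw [← pullback.condition]
  exact S'.downward_closed (hTS ht) _

include hb in
theorem Q_top (hP'id : ∀ ⦃X : C⦄, C' X → Presieve.singleton (𝟙 X) ∈ P' X) (X : C) :
    Q C' P P' X ⊤ := by
  obtain ⟨R, hR, hRC⟩ := hb X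
  exact ⟨R, hR, hRC, fun Y f hf => ⟨_, hP'id (hRC hf), fun _ _ _ => trivial⟩⟩

include hb ha in
theorem Q_pullback_of_P' [P.IsStableUnderComposition] {Z : C} {S₀ : Sieve Z} {T : Presieve Z}
    (hT : T ∈ P' Z) (hTS : ∀ ⦃Y : C⦄ ⦃f : Y ⟶ Z⦄, T f → S₀ f) {W : C} (h : W ⟶ Z) :
    Q C' P P' W (S₀.pullback h) := by
  obtain ⟨R, hR, hRC⟩ := hb W
  apply Q_local hR
  intro Y w hw
  rw [← Sieve.pullback_comp]
  obtain ⟨hpb, hmem⟩ := ha hT (w ≫ h) (hRC hw)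
  apply Q_of_P' hb ha hmem
  rintro V g ⟨U, t, ht⟩
  haveI := T.hasPullback (w ≫ h) ht
  change S₀ (pullback.snd t (w ≫ h) ≫ w ≫ h)
  rw [← pullback.condition]
  exact S₀.downward_closed (hTS ht) _

include hb ha in
theorem Q_pullback [P.HasPullbacks] [P.IsStableUnderBaseChange] [P.IsStableUnderComposition]
    {X : C} {S : Sieve X} (hS : Q C' P P' X S) {Y : C} (f : Y ⟶ X) :
    Q C' P P' Y (S.pullback f) := by
  obtain ⟨R, hR, hRC, hRT⟩ := hS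
  haveI := P.hasPullbacks_of_mem f hR
  apply Q_local (P.pullbackArrows_mem f hR)
  rintro W _ ⟨Z, g, hg⟩
  haveI := R.hasPullback f hg
  obtain ⟨T, hT, hTS⟩ := hRT hg
  have e : (S.pullback f).pullback (pullback.snd g f) =
      (S.pullback g).pullback (pullback.fst g f) := by
    rw [← Sieve.pullback_comp, ← Sieve.pullback_comp, pullback.condition]
  rw [e]
  exact Q_pullback_of_P' hb ha hT (fun _ t ht => hTS ht) _

variable (hc : ∀ ⦃S : C⦄ ⦃R₁ : Presieve S⦄, R₁ ∈ P' S →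
      ∀ (R₂ : ∀ ⦃Y : C⦄ ⦃f : Y ⟶ S⦄, R₁ f → Presieve Y),
        (∀ ⦃Y : C⦄ ⦃f : Y ⟶ S⦄ (hf : R₁ f), R₂ hf ∈ P Y ∧ ∀ ⦃Z : C⦄ ⦃g : Z ⟶ Y⦄, R₂ hf g → C' Z) →
      ∀ (R₃ : ∀ ⦃Y : C⦄ ⦃f : Y ⟶ S⦄ (hf : R₁ f) ⦃Z : C⦄ ⦃g : Z ⟶ Y⦄, R₂ hf g → Presieve Z),
        (∀ ⦃Y : C⦄ ⦃f : Y ⟶ S⦄ (hf : R₁ f) ⦃Z : C⦄ ⦃g : Z ⟶ Y⦄ (hg : R₂ hf g), R₃ hf hg ∈ P' Z) →
      ∃ T ∈ P' S, ∀ ⦃W : C⦄ ⦃q : W ⟶ S⦄, T q →
        ∃ (Y Z V : C) (f : Y ⟶ S) (hf : R₁ f) (g : Z ⟶ Y) (hg : R₂ hf g) (h : V ⟶ Z) (_ : R₃ hf hg h)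
          (r : W ⟶ V), r ≫ h ≫ g ≫ f = q)

include hb ha hc in
theorem Q_of_comp {Y : C} {S₀ : Sieve Y} {T : Presieve Y} (hT : T ∈ P' Y)
    (key : ∀ ⦃Z : C⦄ ⦃g : Z ⟶ Y⦄, T g → Q C' P P' Z (S₀.pullback g)) : Q C' P P' Y S₀ := by
  choose R₂ hR₂ hR₂C hR₂T using key
  choose R₃ hR₃ hR₃S using hR₂T
  obtain ⟨T', hT', hfac⟩ := hc hT R₂ (fun Y f hf => ⟨hR₂ hf, hR₂C hf⟩) R₃
    (fun Y f hf Z g hg => hR₃ hf hg)
  apply Q_of_P' hb ha hT'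
  intro W q hq
  obtain ⟨Y', Z, V, f, hf, g, hg, h, hh, r, rfl⟩ := hfac hq
  have := hR₃S hf hg hh
  have := S₀.downward_closed this r
  simpa using this

include hb ha hc in
theorem Q_trans [P.IsStableUnderComposition] {X : C} {S R : Sieve X} (hS : Q C' P P' X S)
    (h : ∀ ⦃Y : C⦄ ⦃f : Y ⟶ X⦄, S f → Q C' P P' Y (R.pullback f)) : Q C' P P' X R := by
  obtain ⟨R₁, hR₁, hR₁C, hR₁T⟩ := hS
  apply Q_local hR₁
  intro Y f hf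
  obtain ⟨T, hT, hTS⟩ := hR₁T hf
  apply Q_of_comp hb ha hc hT
  intro Z g hg
  rw [← Sieve.pullback_comp]
  exact h (hTS hg)

end Helpers

/-- Let `C'` be a class of objects of `C`, `P` a precoverage on `C` stable under base change and
composition, `P'` a precoverage whose families live in `C'` and which contains the identity
singletons of `C'`, such that (a) `P'`-families pull back along morphisms of `C'` to `P'`-families,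
(b) every object has a `P`-cover by objects of `C'`, (c) over an object of `C'` every composite `P'
∘ P ∘ P'` family (middle sources in `C'`) is refined by a `P'`-family. Then a sieve on `X` is
covering for the topology generated by `P` and `P'` if and only if it contains a composite family
`X_ij ⟶ X_i ⟶ X` with `(X_i ⟶ X)_i` in `P`, all `X_i` in `C'` and each `(X_ij ⟶ X_i)_j` in `P'`. -/
theorem result {C : Type u₁} [Category.{v₁} C]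
    (C' : C → Prop) (P P' : Precoverage C)
    [P.HasPullbacks] [P.IsStableUnderBaseChange] [P.IsStableUnderComposition]
    (hP'C : ∀ ⦃X : C⦄ ⦃R : Presieve X⦄, R ∈ P' X → C' X ∧ ∀ ⦃Y : C⦄ ⦃f : Y ⟶ X⦄, R f → C' Y)
    (hP'id : ∀ ⦃X : C⦄, C' X → Presieve.singleton (𝟙 X) ∈ P' X)
    (ha : ∀ ⦃X : C⦄ ⦃R : Presieve X⦄, R ∈ P' X → ∀ ⦃T : C⦄ (g : T ⟶ X), C' T →
      ∃ _ : R.HasPullbacks g, Presieve.pullbackArrows g R ∈ P' T)
    (hb : ∀ X : C, ∃ R ∈ P X, ∀ ⦃Y : C⦄ ⦃f : Y ⟶ X⦄, R f → C' Y)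
    (hc : ∀ ⦃S : C⦄ ⦃R₁ : Presieve S⦄, R₁ ∈ P' S →
      ∀ (R₂ : ∀ ⦃Y : C⦄ ⦃f : Y ⟶ S⦄, R₁ f → Presieve Y),
        (∀ ⦃Y : C⦄ ⦃f : Y ⟶ S⦄ (hf : R₁ f), R₂ hf ∈ P Y ∧ ∀ ⦃Z : C⦄ ⦃g : Z ⟶ Y⦄, R₂ hf g → C' Z) →
      ∀ (R₃ : ∀ ⦃Y : C⦄ ⦃f : Y ⟶ S⦄ (hf : R₁ f) ⦃Z : C⦄ ⦃g : Z ⟶ Y⦄, R₂ hf g → Presieve Z),
        (∀ ⦃Y : C⦄ ⦃f : Y ⟶ S⦄ (hf : R₁ f) ⦃Z : C⦄ ⦃g : Z ⟶ Y⦄ (hg : R₂ hf g), R₃ hf hg ∈ P' Z) →
      ∃ T ∈ P' S, ∀ ⦃W : C⦄ ⦃q : W ⟶ S⦄, T q →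
        ∃ (Y Z V : C) (f : Y ⟶ S) (hf : R₁ f) (g : Z ⟶ Y) (hg : R₂ hf g) (h : V ⟶ Z) (_ : R₃ hf hg h)
          (r : W ⟶ V), r ≫ h ≫ g ≫ f = q)
    (X : C) (S' : Sieve X) :
    S' ∈ (P ⊔ P').toGrothendieck X ↔
      ∃ (R : Presieve X) (_ : R ∈ P X) (_ : ∀ ⦃Y : C⦄ ⦃f : Y ⟶ X⦄, R f → C' Y)
        (R' : ∀ ⦃Y : C⦄ ⦃f : Y ⟶ X⦄, R f → Presieve Y),
        (∀ ⦃Y : C⦄ ⦃f : Y ⟶ X⦄ (hf : R f), R' hf ∈ P' Y) ∧
        ∀ ⦃Y : C⦄ ⦃f : Y ⟶ X⦄ (hf : R f) ⦃Z : C⦄ ⦃g : Z ⟶ Y⦄, R' hf g → S' (g ≫ f) := by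
  constructor
  · intro h
    have hQ : Q C' P P' X S' := by
      rw [Precoverage.mem_toGrothendieck_iff] at h
      induction h with
      | of X S hS =>
        rcases hS with hS | hS
        · apply Q_local hS
          intro Y f hf
          have : (Sieve.generate S).pullback f = ⊤ :=
            Sieve.pullback_eq_top_of_mem _ (Sieve.le_generate S _ _ hf)
          rw [this]
          exact Q_top hb hP'id Y
        · exact Q_of_P' hb ha hS (fun Y f hf => Sieve.le_generate S _ _ hf)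
      | top X => exact Q_top hb hP'id X
      | pullback X S _ Y f ih => exact Q_pullback hb ha ih f
      | transitive X S R _ _ ih1 ih2 => exact Q_trans hb ha hc ih1 ih2
    obtain ⟨R, hR, hRC, hRT⟩ := hQ
    choose R' hR' hR'S using hRT
    exact ⟨R, hR, hRC, R', hR', hR'S⟩
  · rintro ⟨R, hR, hRC, R', hR', hR'S⟩
    have h1 : Sieve.generate R ∈ (P ⊔ P').toGrothendieck X :=
      Precoverage.generate_mem_toGrothendieck (Or.inl hR)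
    apply (P ⊔ P').toGrothendieck.transitive h1
    rintro Y f ⟨Z, h, g, hg, rfl⟩
    rw [Sieve.pullback_comp]
    apply (P ⊔ P').toGrothendieck.pullback_stable
    apply (P ⊔ P').toGrothendieck.superset_covering _
      (Precoverage.generate_mem_toGrothendieck (Or.inr (hR' hg)))
    rintro W m ⟨V, a, b, hb', rfl⟩
    change S' ((a ≫ b) ≫ g)
    rw [Category.assoc]
    exact S'.downward_closed (hR'S hg hb') a

end Groth.Agent.S6053
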