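import Groth.Statements.S6052
-- import your own Groth.Agent.* helpers here
import Groth.Agent.S6053

set_option autoImplicit false
open CategoryTheory
universe w v₁ u₁
open ShfCat

namespace Groth.Agent.S6052

section Helpers

open CategoryTheory.Limits Opposite Presieve

variable {C : Type u₁} [Category.{v₁} C]

theorem map_map (F : Cᵒᵖ ⥤ Type w) {W V V' : C} (c : V ⟶ W) (d : V' ⟶ V) (s : F.obj (op W)) :
    F.map d.op (F.map c.op s) = F.map (d ≫ c).op s := by
  rw [← comp_apply, ← Functor.map_comp, ← op_comp]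

theorem fam_congr (F : Cᵒᵖ ⥤ Type w) {W : C} {R : Presieve W} (x : FamilyOfElements F R)
    {V : C} {f f' : V ⟶ W} (h : f = f') (hf : R f) (hf' : R f') : x f hf = x f' hf' := by
  subst h
  rfl

/-- a presheaf is a sheaf for a sieve if it is so locally on the generators of a cover, given
enough separatedness -/
theorem isSheafFor_of_local (F : Cᵒᵖ ⥤ Type w) {W : C} (R₀ : Presieve W) (S : Sieve W)
    (hR₀ : IsSheafFor F R₀)
    (hsepS : ∀ ⦃V : C⦄ (c : V ⟶ W), IsSeparatedFor F (S.pullback c).arrows)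
    (hsepR : ∀ ⦃V : C⦄ (c : V ⟶ W), IsSeparatedFor F ((Sieve.generate R₀).pullback c).arrows)
    (hloc : ∀ ⦃Y : C⦄ ⦃y : Y ⟶ W⦄, R₀ y → IsSheafFor F (S.pullback y).arrows) :
    IsSheafFor F S.arrows := by
  rw [← isSeparatedFor_and_exists_isAmalgamation_iff_isSheafFor]
  constructor
  · simpa using hsepS (𝟙 W)
  · intro x hx
    have hx' := hx.to_sieveCompatible
    -- local sections
    let z : FamilyOfElements F R₀ := fun Y y hy =>
      (hloc hy).amalgamate (x.pullback y) (hx.pullback y)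
    have hzglue : ∀ ⦃Y : C⦄ ⦃y : Y ⟶ W⦄ (hy : R₀ y) ⦃V : C⦄ (a : V ⟶ Y) (ha : S (a ≫ y)),
        F.map a.op (z y hy) = x (a ≫ y) ha := fun Y y hy V a ha =>
      (hloc hy).valid_glue (hx.pullback y) a ha
    have hz : z.Compatible := by
      intro Y₁ Y₂ V a₁ a₂ y₁ y₂ h₁ h₂ e
      apply (hsepS (a₁ ≫ y₁)).ext
      intro V' c hc
      have hc1 : S ((c ≫ a₁) ≫ y₁) := by simpa using hc
      have hc2 : S ((c ≫ a₂) ≫ y₂) := by
        rw [Category.assoc, ← e]
        simpa using hc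
      rw [map_map, map_map, hzglue h₁ _ hc1, hzglue h₂ _ hc2]
      exact fam_congr F x (by rw [Category.assoc, Category.assoc, e]) _ _
    refine ⟨hR₀.amalgamate z hz, ?_⟩
    intro V c hc
    apply (hsepR c).ext
    rintro V' d ⟨Y, a, y, hy, e⟩
    have hS1 : S (a ≫ y) := by
      rw [e]
      exact S.downward_closed hc d
    rw [map_map, ← e, ← map_map, hR₀.valid_glue hz y hy, hzglue hy a hS1, ← hx' c d hc]
    exact fam_congr F x e _ _

theorem sep_of_Q {C' : C → Prop} {P P' : Precoverage C} (F : Cᵒᵖ ⥤ Type w) {X : C}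
    {S' : Sieve X} (hQ : Groth.Agent.S6053.Q C' P P' X S')
    (hP : ∀ ⦃X : C⦄ ⦃R : Presieve X⦄, R ∈ P X → IsSheafFor F R)
    (hP' : ∀ ⦃X : C⦄ ⦃R : Presieve X⦄, R ∈ P' X → IsSheafFor F R) :
    IsSeparatedFor F S'.arrows := by
  obtain ⟨R, hR, hRC, hRT⟩ := hQ
  intro x t₁ t₂ h₁ h₂
  apply (hP hR).isSeparatedFor.ext
  intro Y f hf
  obtain ⟨T, hT, hTS⟩ := hRT hf
  apply (hP' hT).isSeparatedFor.ext
  intro Z g hg
  rw [map_map, map_map, h₁ _ (hTS hg), h₂ _ (hTS hg)]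

end Helpers

/-- The sheaf case. Let `C'` be a class of objects of `C`, `P` a precoverage on `C` stable under base
change and composition, `P'` a precoverage whose families live in `C'` and which contains the
identity singletons of `C'`, such that (a) `P'`-families pull back along morphisms of `C'` to
`P'`-families, (b) every object has a `P`-cover by objects of `C'`, (c) over an object of `C'` every
composite `P' ∘ P ∘ P'` family (middle sources in `C'`) is refined by a `P'`-family. Then a presheaf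
of sets is a sheaf for the topology generated by `P` and `P'` if and only if it satisfies the sheaf
condition for every family of `P` and every family of `P'`. (The published statement also treats
separated presheaves; only the sheaf case is stated.) -/
theorem result {C : Type u₁} [Category.{v₁} C]
    (C' : C → Prop) (P P' : Precoverage C)
    [P.HasPullbacks] [P.IsStableUnderBaseChange] [P.IsStableUnderComposition]
    (hP'C : ∀ ⦃X : C⦄ ⦃R : Presieve X⦄, R ∈ P' X → C' X ∧ ∀ ⦃Y : C⦄ ⦃f : Y ⟶ X⦄, R f → C' Y)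
    (hP'id : ∀ ⦃X : C⦄, C' X → Presieve.singleton (𝟙 X) ∈ P' X)
    (ha : ∀ ⦃X : C⦄ ⦃R : Presieve X⦄, R ∈ P' X → ∀ ⦃T : C⦄ (g : T ⟶ X), C' T →
      ∃ _ : R.HasPullbacks g, Presieve.pullbackArrows g R ∈ P' T)
    (hb : ∀ X : C, ∃ R ∈ P X, ∀ ⦃Y : C⦄ ⦃f : Y ⟶ X⦄, R f → C' Y)
    (hc : ∀ ⦃S : C⦄ ⦃R₁ : Presieve S⦄, R₁ ∈ P' S →
      ∀ (R₂ : ∀ ⦃Y : C⦄ ⦃f : Y ⟶ S⦄, R₁ f → Presieve Y),
        (∀ ⦃Y : C⦄ ⦃f : Y ⟶ S⦄ (hf : R₁ f), R₂ hf ∈ P Y ∧ ∀ ⦃Z : C⦄ ⦃g : Z ⟶ Y⦄, R₂ hf g → C' Z) →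
      ∀ (R₃ : ∀ ⦃Y : C⦄ ⦃f : Y ⟶ S⦄ (hf : R₁ f) ⦃Z : C⦄ ⦃g : Z ⟶ Y⦄, R₂ hf g → Presieve Z),
        (∀ ⦃Y : C⦄ ⦃f : Y ⟶ S⦄ (hf : R₁ f) ⦃Z : C⦄ ⦃g : Z ⟶ Y⦄ (hg : R₂ hf g), R₃ hf hg ∈ P' Z) →
      ∃ T ∈ P' S, ∀ ⦃W : C⦄ ⦃q : W ⟶ S⦄, T q →
        ∃ (Y Z V : C) (f : Y ⟶ S) (hf : R₁ f) (g : Z ⟶ Y) (hg : R₂ hf g) (h : V ⟶ Z) (_ : R₃ hf hg h)
          (r : W ⟶ V), r ≫ h ≫ g ≫ f = q)
    (F : Cᵒᵖ ⥤ Type w) :
    Presieve.IsSheaf (P ⊔ P').toGrothendieck F ↔
      (∀ ⦃X : C⦄ ⦃R : Presieve X⦄, R ∈ P X → Presieve.IsSheafFor F R) ∧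
      (∀ ⦃X : C⦄ ⦃R : Presieve X⦄, R ∈ P' X → Presieve.IsSheafFor F R) := by
  constructor
  · intro h
    refine ⟨fun X R hR => ?_, fun X R hR => ?_⟩
    · rw [Presieve.isSheafFor_iff_generate]
      exact h _ (Precoverage.generate_mem_toGrothendieck (Or.inl hR))
    · rw [Presieve.isSheafFor_iff_generate]
      exact h _ (Precoverage.generate_mem_toGrothendieck (Or.inr hR))
  · rintro ⟨hP, hP'⟩
    have hQ : ∀ {X : C} {S' : Sieve X}, S' ∈ (P ⊔ P').toGrothendieck X →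
        Groth.Agent.S6053.Q C' P P' X S' := by
      intro X S' hS'
      obtain ⟨R, hR, hRC, R', hR', hR'S⟩ :=
        (Groth.Agent.S6053.result C' P P' hP'C hP'id ha hb hc X S').mp hS'
      exact ⟨R, hR, hRC, fun Y f hf => ⟨R' hf, hR' hf, fun Z g hg => hR'S hf hg⟩⟩
    have hsep : ∀ {X : C} {S' : Sieve X}, S' ∈ (P ⊔ P').toGrothendieck X →
        Presieve.IsSeparatedFor F S'.arrows := fun h => sep_of_Q F (hQ h) hP hP'
    intro X S' hS'
    obtain ⟨R, hR, hRC, hRT⟩ := hQ hS'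
    apply isSheafFor_of_local F R S' (hP hR)
    · intro V c
      exact hsep ((P ⊔ P').toGrothendieck.pullback_stable c hS')
    · intro V c
      exact hsep ((P ⊔ P').toGrothendieck.pullback_stable c
        (Precoverage.generate_mem_toGrothendieck (Or.inl hR)))
    · intro Y y hy
      obtain ⟨T, hT, hTS⟩ := hRT hy
      apply Presieve.isSheafFor_subsieve_aux F (S := Sieve.generate T)
        (R := (S'.pullback y).arrows)
      · rintro Z g ⟨V, a, b, hb', rfl⟩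
        exact (S'.pullback y).downward_closed (hTS hb') a
      · rw [← Presieve.isSheafFor_iff_generate]
        exact hP' hT
      · intro Z g hg
        exact hsep ((P ⊔ P').toGrothendieck.pullback_stable g
          (Precoverage.generate_mem_toGrothendieck (Or.inr hT)))

end Groth.Agent.S6052
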