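import Groth.Statements.S6054
import Groth.Agent.Lib.Helper14.ShfQuot

set_option autoImplicit false
open CategoryTheory CategoryTheory.Limits MonoidalCategory
universe w v₁ u₁
open ShfCat

namespace Groth.Agent.S6054

open Groth.Agent.Lib.Helper14.ShfQuot

open MonObj CartesianMonoidalCategory SemiCartesianMonoidalCategory in


open MonObj CartesianMonoidalCategory SemiCartesianMonoidalCategory in
/-- Let `G` be a sheaf of groups on a site, `K ⊆ G` a subgroup sheaf and `H ⊆ K` a subgroup sheaf normal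
in `K`. With `G/H`, `K/H`, `G/K` the quotient sheaves, the right action of `K/H` on `G/H` induced by
multiplication is free, and the canonical map `G/H ⟶ G/K` identifies `G/K` with the quotient
`(G/H)/(K/H)` (it is a coequalizer of the projection and the action). Sheaves of sets in `Type w`
with sheafification; the action and the map `G/H ⟶ G/K` are pinned by their compatibility with `G ×
K ⟶ G ⟶ G/H` and with `G ⟶ G/K`. (The published statement adds that for `K` normal in `G` the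
identification respects the group structures; that clause is not stated.) -/
theorem result {C : Type u₁} [Category.{v₁} C]
    (J : GrothendieckTopology C) [HasSheafify J (Type w)]
    {H K G : Sheaf J (Type w)} [hH : GrpObj H] [hK : GrpObj K] [hG : GrpObj G]
    (h : H ⟶ K) (k : K ⟶ G) [Mono h] [Mono k]
    (hh : @IsMonHom (Sheaf J (Type w)) _ _ H K hH.toMonObj hK.toMonObj h)
    (hk : @IsMonHom (Sheaf J (Type w)) _ _ K G hK.toMonObj hG.toMonObj k)
    (hn : ∀ (Y : Sheaf J (Type w)) (x : Y ⟶ K) (y : Y ⟶ H), ∃ y' : Y ⟶ H, x * (y ≫ h) * x⁻¹ = y' ≫ h)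
    (act : coequalizer (fst G H) ((G ◁ (h ≫ k)) ≫ hG.mul) ⊗ coequalizer (fst K H) ((K ◁ h) ≫ hK.mul) ⟶
      coequalizer (fst G H) ((G ◁ (h ≫ k)) ≫ hG.mul))
    (hact : (coequalizer.π (fst G H) ((G ◁ (h ≫ k)) ≫ hG.mul) ⊗ₘ coequalizer.π (fst K H) ((K ◁ h) ≫ hK.mul)) ≫ act =
      (G ◁ k) ≫ hG.mul ≫ coequalizer.π (fst G H) ((G ◁ (h ≫ k)) ≫ hG.mul))
    (qbar : coequalizer (fst G H) ((G ◁ (h ≫ k)) ≫ hG.mul) ⟶ coequalizer (fst G K) ((G ◁ k) ≫ hG.mul))
    (hq : coequalizer.π (fst G H) ((G ◁ (h ≫ k)) ≫ hG.mul) ≫ qbar = coequalizer.π (fst G K) ((G ◁ k) ≫ hG.mul)) :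
    Mono (lift act (fst _ _)) ∧
    ∃ wq : fst _ _ ≫ qbar = act ≫ qbar, Nonempty (IsColimit (Cofork.ofπ qbar wq)) := by
  haveI := hh
  haveI := hk
  have wGH : fst G H ≫ coequalizer.π (fst G H) ((G ◁ (h ≫ k)) ≫ hG.mul) =
      Groth.Agent.Lib.Helper14.ShfQuot.act (h ≫ k) ≫
        coequalizer.π (fst G H) ((G ◁ (h ≫ k)) ≫ hG.mul) :=
    coequalizer.condition _ _
  have hGH : IsColimit (Cofork.ofπ (coequalizer.π (fst G H) ((G ◁ (h ≫ k)) ≫ hG.mul)) wGH) :=
    coequalizerIsCoequalizer _ _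
  have wKH : fst K H ≫ coequalizer.π (fst K H) ((K ◁ h) ≫ hK.mul) =
      Groth.Agent.Lib.Helper14.ShfQuot.act h ≫ coequalizer.π (fst K H) ((K ◁ h) ≫ hK.mul) :=
    coequalizer.condition _ _
  have hKH : IsColimit (Cofork.ofπ (coequalizer.π (fst K H) ((K ◁ h) ≫ hK.mul)) wKH) :=
    coequalizerIsCoequalizer _ _
  have wGK : fst G K ≫ coequalizer.π (fst G K) ((G ◁ k) ≫ hG.mul) =
      Groth.Agent.Lib.Helper14.ShfQuot.act k ≫ coequalizer.π (fst G K) ((G ◁ k) ≫ hG.mul) :=
    coequalizer.condition _ _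
  have hGK : IsColimit (Cofork.ofπ (coequalizer.π (fst G K) ((G ◁ k) ≫ hG.mul)) wGK) :=
    coequalizerIsCoequalizer _ _
  refine ⟨third_mono h k _ wGH hGH _ wKH hKH act hact, ?_⟩
  exact ⟨third_wq h k _ wGH hGH _ wKH hKH _ wGK act hact qbar hq,
    third_isColimit h k _ wGH hGH _ wKH hKH _ wGK hGK act hact qbar hq⟩

end Groth.Agent.S6054
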