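import Groth.Statements.S6055
import Groth.Agent.Lib.Helper14.ShfQuot

set_option autoImplicit false
open CategoryTheory CategoryTheory.Limits MonoidalCategory
universe w v₁ u₁
open ShfCat

namespace Groth.Agent.S6055

open Groth.Agent.Lib.Helper14.ShfQuot

open MonObj CartesianMonoidalCategory SemiCartesianMonoidalCategory in


open MonObj CartesianMonoidalCategory SemiCartesianMonoidalCategory in
/-- Let `G` be a sheaf of groups on a site, `H, L ⊆ G` subgroup sheaves and `π : G ⟶ G/H` the quotient
sheaf map. Then the pair `L × (H ∩ L) ⇉ L` (projection, right multiplication) is the kernel pair of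
`L ⟶ G ⟶ G/H`, so that the image of `L` in `G/H` is the quotient sheaf `L/(H ∩ L)`. Sheaves of sets
in `Type w` with sheafification; `H ∩ L` is the fibre product `H ×_G L`. (The published statement
assumes `H` normal and also identifies this image with `(L·H)/H`; normality is not needed for the
part stated here.) -/
theorem result {C : Type u₁} [Category.{v₁} C]
    (J : GrothendieckTopology C) [HasSheafify J (Type w)]
    {H L G : Sheaf J (Type w)} [hH : GrpObj H] [hL : GrpObj L] [hG : GrpObj G]
    (u : H ⟶ G) (l : L ⟶ G) [Mono u] [Mono l]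
    (hu : @IsMonHom (Sheaf J (Type w)) _ _ H G hH.toMonObj hG.toMonObj u)
    (hl : @IsMonHom (Sheaf J (Type w)) _ _ L G hL.toMonObj hG.toMonObj l) :
    IsKernelPair (l ≫ coequalizer.π (fst G H) ((G ◁ u) ≫ hG.mul))
      (fst L (pullback u l)) ((L ◁ pullback.snd u l) ≫ hL.mul) := by
  haveI := hu
  haveI := hl
  have w : fst G H ≫ coequalizer.π (fst G H) ((G ◁ u) ≫ hG.mul) =
      Groth.Agent.Lib.Helper14.ShfQuot.act u ≫ coequalizer.π (fst G H) ((G ◁ u) ≫ hG.mul) :=
    coequalizer.condition _ _
  have hc : IsColimit (Cofork.ofπ (coequalizer.π (fst G H) ((G ◁ u) ≫ hG.mul)) w) :=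
    coequalizerIsCoequalizer _ _
  exact second_isKernelPair u l _ w hc

end Groth.Agent.S6055
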