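import Groth.Statements.S6057
import Mathlib.CategoryTheory.Sites.Over

set_option autoImplicit false
open CategoryTheory
universe v₁ u₁
open ShfCat

namespace Groth.Agent.S6057

section Helpers
open Opposite

variable {C : Type u₁} [Category.{v₁} C] (J : GrothendieckTopology C)
    {S : C} {F : Cᵒᵖ ⥤ Type v₁} (φ : F ⟶ yoneda.obj S)

theorem sep_of_sep (hF : Presieve.IsSeparated J F) :
    Presieve.IsSeparated (J.over S) (ShfCat.relPsh φ) := by
  intro T R hR x t₁ t₂ h₁ h₂
  apply Subtype.ext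
  apply (hF _ ((J.mem_over_iff R).1 hR)).ext
  intro Y f hf
  rw [Sieve.overEquiv_iff] at hf
  have e₁ := h₁ _ hf
  have e₂ := h₂ _ hf
  exact congrArg Subtype.val (e₁.trans e₂.symm)

theorem sep_of_relSep (hS : Presieve.IsSeparated J (yoneda.obj S))
    (hG : Presieve.IsSeparated (J.over S) (ShfCat.relPsh φ)) : Presieve.IsSeparated J F := by
  intro X R hR x t₁ t₂ h₁ h₂
  have hs : φ.app (op X) t₁ = φ.app (op X) t₂ := by
    apply (hS R hR).ext
    intro Y f hf
    rw [← NatTrans.naturality_apply φ f.op t₁, ← NatTrans.naturality_apply φ f.op t₂, h₁ f hf,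
      h₂ f hf]
  let T : Over S := Over.mk (φ.app (op X) t₁)
  let u₁ : (ShfCat.relPsh φ).obj (op T) := ⟨t₁, rfl⟩
  let u₂ : (ShfCat.relPsh φ).obj (op T) := ⟨t₂, hs.symm⟩
  have : u₁ = u₂ := by
    apply (hG _ (J.overEquiv_symm_mem_over T R hR)).ext
    intro T' g hg
    apply Subtype.ext
    change F.map g.left.op t₁ = F.map g.left.op t₂
    rw [h₁ g.left hg, h₂ g.left hg]
  exact congrArg Subtype.val this

theorem sheaf_of_sheaf (hS : Presieve.IsSheaf J (yoneda.obj S)) (hF : Presieve.IsSheaf J F) :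
    Presieve.IsSheaf (J.over S) (ShfCat.relPsh φ) := by
  intro T R hR
  rw [← Presieve.isSeparatedFor_and_exists_isAmalgamation_iff_isSheafFor]
  refine ⟨sep_of_sep J φ hF.isSeparated R hR, fun x hx => ?_⟩
  have hR' := (J.mem_over_iff R).1 hR
  let x' : Presieve.FamilyOfElements F (Sieve.overEquiv T R).arrows := fun Y f hf =>
    (x (Over.homMk f : Over.mk (f ≫ T.hom) ⟶ T) ((Sieve.overEquiv_iff _ _).1 hf)).1
  have hx' : x'.Compatible := by
    intro Y₁ Y₂ Z g₁ g₂ f₁ f₂ h₁ h₂ comm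
    have := hx (Over.homMk g₁ : Over.mk (g₁ ≫ f₁ ≫ T.hom) ⟶ Over.mk (f₁ ≫ T.hom))
      (Over.homMk g₂ (by simp [← reassoc_of% comm]) :
        Over.mk (g₁ ≫ f₁ ≫ T.hom) ⟶ Over.mk (f₂ ≫ T.hom))
      ((Sieve.overEquiv_iff _ _).1 h₁) ((Sieve.overEquiv_iff _ _).1 h₂)
      (by ext; simpa using comm)
    exact congrArg Subtype.val this
  obtain ⟨t, ht, -⟩ := hF _ hR' x' hx'
  have hφ : φ.app (op T.left) t = T.hom := by
    apply (hS.isSeparated _ hR').ext
    intro Y f hf
    rw [← NatTrans.naturality_apply φ f.op t, ht f hf]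
    exact (x (Over.homMk f : Over.mk (f ≫ T.hom) ⟶ T) ((Sieve.overEquiv_iff _ _).1 hf)).2
  refine ⟨⟨t, hφ⟩, ?_⟩
  intro T' g hg
  apply Subtype.ext
  change F.map g.left.op t = (x g hg).1
  have hgl : Sieve.overEquiv T R g.left :=
    Sieve.image_mem_functorPushforward (Over.forget S) R hg
  rw [ht g.left hgl]
  let e : T' ⟶ Over.mk (g.left ≫ T.hom) := Over.homMk (𝟙 T'.left) (by simp)
  have := hx (𝟙 T') e hg ((Sieve.overEquiv_iff _ _).1 hgl) (by ext; simp [e])
  have h2 := congrArg Subtype.val this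
  have l : ((ShfCat.relPsh φ).map (𝟙 T').op (x g hg)).1 = (x g hg).1 := by
    rw [ShfCat.relPsh_map_val]
    change F.map (𝟙 (op T'.left)) (x g hg).1 = _
    rw [CategoryTheory.Functor.map_id]
    rfl
  have h3 : (x g hg).1 = F.map (𝟙 T'.left).op (x' g.left hgl) := by
    rw [← l]
    exact h2
  rw [h3]
  simp

theorem sheaf_of_relSheaf (hS : Presieve.IsSheaf J (yoneda.obj S))
    (hG : Presieve.IsSheaf (J.over S) (ShfCat.relPsh φ)) : Presieve.IsSheaf J F := by
  intro X R hR
  rw [← Presieve.isSeparatedFor_and_exists_isAmalgamation_iff_isSheafFor]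
  refine ⟨sep_of_relSep J φ hS.isSeparated hG.isSeparated R hR, fun x hx => ?_⟩
  obtain ⟨s, hs, -⟩ := hS R hR (x.map φ) (hx.map φ)
  let T : Over S := Over.mk s
  let y : Presieve.FamilyOfElements (ShfCat.relPsh φ) ((Sieve.overEquiv T).symm R).arrows :=
    fun T' g hg => ⟨x g.left hg, by
      have := hs g.left hg
      rw [Presieve.FamilyOfElements.map_apply] at this
      rw [← this]
      exact Over.w g⟩
  have hy : y.Compatible := by
    intro T₁ T₂ Z g₁ g₂ f₁ f₂ h₁ h₂ comm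
    apply Subtype.ext
    exact hx g₁.left g₂.left h₁ h₂ (congrArg CommaMorphism.left comm)
  obtain ⟨t, ht, -⟩ := hG _ (J.overEquiv_symm_mem_over T R hR) y hy
  refine ⟨t.1, ?_⟩
  intro Y f hf
  have := ht (Over.homMk f : Over.mk (f ≫ s) ⟶ T) hf
  exact congrArg Subtype.val this

end Helpers

/-- Let `S` be an object whose representable presheaf is a sheaf for `J` and `φ : F ⟶ h_S` a morphism of
presheaves of sets. The relative presheaf on `C/S` (sections of `F` over `T` lying over the given `T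
⟶ S`) is separated (resp. a sheaf) for the induced topology on `C/S` if and only if `F` is separated
(resp. a sheaf). -/
theorem result {C : Type u₁} [Category.{v₁} C] (J : GrothendieckTopology C)
    {S : C} (hS : Presieve.IsSheaf J (yoneda.obj S)) {F : Cᵒᵖ ⥤ Type v₁} (φ : F ⟶ yoneda.obj S) :
    (Presieve.IsSeparated (J.over S) (ShfCat.relPsh φ) ↔ Presieve.IsSeparated J F) ∧
    (Presieve.IsSheaf (J.over S) (ShfCat.relPsh φ) ↔ Presieve.IsSheaf J F) := by
  exact ⟨⟨sep_of_relSep J φ hS.isSeparated, sep_of_sep J φ⟩,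
    ⟨sheaf_of_relSheaf J φ hS, sheaf_of_sheaf J φ hS⟩⟩

end Groth.Agent.S6057
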