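import Groth.Statements.S6094
import Mathlib
-- import your own Groth.Agent.* helpers here

set_option autoImplicit false
set_option linter.unusedSectionVars false
set_option linter.style.haveILetI false
set_option linter.unusedVariables false
set_option linter.deprecated false
set_option linter.unusedSimpArgs false
universe u
open CategoryTheory MonObj GrpObj AlgebraicGeometry
open scoped TensorProduct
open SGA3

namespace Groth.Agent.S6094

section Alg

variable {R : Type u} [CommRing R] {A : Type u} [CommRing A] [HopfAlgebra R A]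
    {E : Type u} [AddCommGroup E] [Module R E]
    {B : Type u} [CommRing B] [Algebra R B]

/-- `x ⊗ a ↦ f a ⊗ x` -/
noncomputable def tw (f : A →ₗ[R] B) : E ⊗[R] A →ₗ[R] B ⊗[R] E :=
  (TensorProduct.comm R E B).toLinearMap ∘ₗ LinearMap.lTensor E f

@[simp] theorem tw_tmul (f : A →ₗ[R] B) (x : E) (a : A) : tw f (x ⊗ₜ[R] a) = f a ⊗ₜ[R] x := rfl

/-- the `B`-linear endomorphism attached to `δ` and `f` -/
noncomputable def act (δ : E →ₗ[R] E ⊗[R] A) (f : A →ₗ[R] B) : B ⊗[R] E →ₗ[B] B ⊗[R] E :=
  LinearMap.liftBaseChange B (tw f ∘ₗ δ)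

@[simp] theorem act_tmul (δ : E →ₗ[R] E ⊗[R] A) (f : A →ₗ[R] B) (b : B) (x : E) :
    act δ f (b ⊗ₜ[R] x) = b • tw f (δ x) := by
  simp [act]

theorem act_ext (u v : B ⊗[R] E →ₗ[B] B ⊗[R] E) (h : ∀ x : E, u (1 ⊗ₜ[R] x) = v (1 ⊗ₜ[R] x)) : u = v := by
  apply TensorProduct.AlgebraTensorModule.curry_injective
  ext x
  simpa using h x

/-- `x ⊗ (a ⊗ a') ↦ f a * g a' ⊗ x` -/
noncomputable def Phi (f g : A →ₐ[R] B) : E ⊗[R] (A ⊗[R] A) →ₗ[R] B ⊗[R] E :=
  (TensorProduct.comm R E B).toLinearMap ∘ₗ
    LinearMap.lTensor E ((Algebra.TensorProduct.lmul' R (S := B)).toLinearMap ∘ₗ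
      (Algebra.TensorProduct.map f g).toLinearMap)

@[simp] theorem Phi_tmul (f g : A →ₐ[R] B) (x : E) (a a' : A) :
    Phi f g (x ⊗ₜ[R] (a ⊗ₜ[R] a')) = (f a * g a') ⊗ₜ[R] x := by
  simp [Phi]

theorem Phi_assoc (f g : A →ₐ[R] B) (t : E ⊗[R] A) (a : A) :
    Phi f g (TensorProduct.assoc R E A A (t ⊗ₜ[R] a)) = g a • tw (E := E) f.toLinearMap t := by
  induction t using TensorProduct.induction_on with
  | zero => simp
  | tmul x a' => simp [TensorProduct.smul_tmul', mul_comm]
  | add t t' ht ht' => simp only [TensorProduct.add_tmul, map_add, ht, ht', smul_add]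

/-- composite of two actions evaluated on `1 ⊗ x` -/
theorem act_act (δ : E →ₗ[R] E ⊗[R] A) (f g : A →ₐ[R] B) (x : E) :
    act δ f.toLinearMap (act δ g.toLinearMap (1 ⊗ₜ[R] x)) =
      Phi f g (TensorProduct.assoc R E A A (δ.rTensor A (δ x))) := by
  rw [act_tmul, one_smul]
  generalize δ x = t
  induction t using TensorProduct.induction_on with
  | zero => simp
  | tmul y a =>
    rw [tw_tmul, act_tmul, LinearMap.rTensor_tmul, Phi_assoc]
    rfl
  | add t t' ht ht' => simp only [map_add, ht, ht']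

theorem act_convMul (δ : E →ₗ[R] E ⊗[R] A) (f g : A →ₐ[R] B) (x : E) :
    act δ (WithConv.toConv f * WithConv.toConv g).ofConv.toLinearMap (1 ⊗ₜ[R] x) =
      Phi f g ((CoalgebraStruct.comul (R := R) (A := A)).lTensor E (δ x)) := by
  rw [act_tmul, one_smul]
  generalize δ x = t
  induction t using TensorProduct.induction_on with
  | zero => simp
  | tmul y a =>
    rw [tw_tmul, LinearMap.lTensor_tmul]
    simp only [Phi, LinearMap.comp_apply, LinearMap.lTensor_tmul, LinearEquiv.coe_coe,
      TensorProduct.comm_tmul]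
    rfl
  | add t t' ht ht' => simp only [map_add, ht, ht']

theorem act_convOne (δ : E →ₗ[R] E ⊗[R] A) (x : E) :
    act (B := B) δ (1 : WithConv (A →ₐ[R] B)).ofConv.toLinearMap (1 ⊗ₜ[R] x) =
      tw (Algebra.linearMap R B) ((CoalgebraStruct.counit (R := R) (A := A)).lTensor E (δ x)) := by
  rw [act_tmul, one_smul]
  generalize δ x = t
  induction t using TensorProduct.induction_on with
  | zero => simp
  | tmul y a =>
    rw [tw_tmul, LinearMap.lTensor_tmul, tw_tmul]
    rfl
  | add t t' ht ht' => simp only [map_add, ht, ht']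

/-- naturality of `act` -/
theorem act_natural {B' : Type u} [CommRing B'] [Algebra R B'] (δ : E →ₗ[R] E ⊗[R] A)
    (f : A →ₐ[R] B) (φ : B →ₐ[R] B') (z : B ⊗[R] E) :
    VecGrp.Wmap φ (act δ f.toLinearMap z) = act δ (φ.comp f).toLinearMap (VecGrp.Wmap φ z) := by
  induction z using TensorProduct.induction_on with
  | zero => simp
  | tmul b x =>
    rw [act_tmul, VecGrp.Wmap_smul, VecGrp.Wmap_tmul, act_tmul]
    congr 1
    generalize δ x = t
    induction t using TensorProduct.induction_on with
    | zero => simp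
    | tmul y a => simp
    | add t t' ht ht' => simp only [map_add, ht, ht']
  | add z z' hz hz' => simp only [map_add, hz, hz']

end Alg

section Points

variable (R : Type u) [CommRing R] (A : Type u) [CommRing A] [HopfAlgebra R A]
    (B : Type u) [CommRing B] [Algebra R B]

/-- the affine group -/
noncomputable abbrev GA : Over (Spec (CommRingCat.of R)) :=
  (Spec (CommRingCat.of A)).asOver (Spec (CommRingCat.of R))

variable {R A B}

/-- algebra hom of a point -/
noncomputable def fOf (g : VecGrp.pt R B ⟶ GA R A) : A →ₐ[R] B := (Spec.mapMulEquiv.symm g).ofConv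

/-- point of an algebra hom -/
noncomputable def ptOf (f : A →ₐ[R] B) : VecGrp.pt R B ⟶ GA R A := Spec.mapMulEquiv (WithConv.toConv f)

theorem fOf_ptOf (f : A →ₐ[R] B) : fOf (ptOf f) = f := by
  unfold fOf ptOf
  rw [MulEquiv.symm_apply_apply]

theorem ptOf_fOf (g : VecGrp.pt R B ⟶ GA R A) : ptOf (fOf g) = g := by
  unfold fOf ptOf
  exact MulEquiv.apply_symm_apply _ _

theorem ptOf_left (f : A →ₐ[R] B) : (ptOf f).left = Spec.map (CommRingCat.ofHom f.toRingHom) := rfl

theorem fOf_mul (g h : VecGrp.pt R B ⟶ GA R A) :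
    fOf (g * h) = (WithConv.toConv (fOf g) * WithConv.toConv (fOf h)).ofConv := by
  have := map_mul (Spec.mapMulEquiv (R := R) (S := A) (T := B)).symm g h
  exact congrArg WithConv.ofConv this

theorem fOf_one : fOf (1 : VecGrp.pt R B ⟶ GA R A) = (1 : WithConv (A →ₐ[R] B)).ofConv := by
  have := map_one (Spec.mapMulEquiv (R := R) (S := A) (T := B)).symm
  exact congrArg WithConv.ofConv this

theorem ptMap_ptOf {B' : Type u} [CommRing B'] [Algebra R B'] (φ : B →ₐ[R] B') (f : A →ₐ[R] B) :
    VecGrp.ptMap φ ≫ ptOf f = ptOf (φ.comp f) := by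
  apply Over.OverMorphism.ext
  rw [Over.comp_left, ptOf_left, ptOf_left, VecGrp.ptMap_left]
  exact LieS.specMap_comp _ _

theorem fOf_ptMap {B' : Type u} [CommRing B'] [Algebra R B'] (φ : B →ₐ[R] B')
    (g : VecGrp.pt R B ⟶ GA R A) : fOf (VecGrp.ptMap φ ≫ g) = φ.comp (fOf g) := by
  conv_lhs => rw [← ptOf_fOf g]
  rw [ptMap_ptOf, fOf_ptOf]

end Points

section Part1

variable {R : Type u} [CommRing R] {A : Type u} [CommRing A] [HopfAlgebra R A]
    {E : Type u} [AddCommGroup E] [Module R E]

/-- the monoid hom to endomorphisms attached to a coassociative counital `δ` -/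
noncomputable def endHom (δ : E →ₗ[R] E ⊗[R] A)
    (h1 : (TensorProduct.assoc R E A A).toLinearMap ∘ₗ δ.rTensor A ∘ₗ δ =
      (CoalgebraStruct.comul (R := R) (A := A)).lTensor E ∘ₗ δ)
    (h2 : (CoalgebraStruct.counit (R := R) (A := A)).lTensor E ∘ₗ δ = (TensorProduct.mk R E R).flip 1)
    (B : Type u) [CommRing B] [Algebra R B] :
    (VecGrp.pt R B ⟶ GA R A) →* Module.End B (B ⊗[R] E) where
  toFun g := act δ (fOf g).toLinearMap
  map_one' := by
    apply act_ext
    intro x
    rw [fOf_one, act_convOne]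
    have := LinearMap.congr_fun h2 x
    simp only [LinearMap.comp_apply] at this
    rw [this]
    simp
  map_mul' g h := by
    apply act_ext
    intro x
    rw [fOf_mul, act_convMul]
    change _ = act δ (fOf g).toLinearMap (act δ (fOf h).toLinearMap (1 ⊗ₜ[R] x))
    rw [act_act]
    have := LinearMap.congr_fun h1 x
    simp only [LinearMap.comp_apply, LinearEquiv.coe_coe] at this
    rw [this]


/-- the `G`-module attached to a comodule structure -/
noncomputable def gmodOf (δ : E →ₗ[R] E ⊗[R] A)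
    (h1 : (TensorProduct.assoc R E A A).toLinearMap ∘ₗ δ.rTensor A ∘ₗ δ =
      (CoalgebraStruct.comul (R := R) (A := A)).lTensor E ∘ₗ δ)
    (h2 : (CoalgebraStruct.counit (R := R) (A := A)).lTensor E ∘ₗ δ = (TensorProduct.mk R E R).flip 1) :
    VecGrp.GMod (GA R A) E where
  ρ B _ _ := (LinearMap.GeneralLinearGroup.generalLinearEquiv B (B ⊗[R] E)).toMonoidHom.comp
    (endHom δ h1 h2 B).toHomUnits
  naturality φ g x := by
    change VecGrp.Wmap φ (act δ (fOf g).toLinearMap x) = act δ (fOf (VecGrp.ptMap φ ≫ g)).toLinearMap _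
    rw [act_natural, fOf_ptMap]

theorem gmodOf_apply (δ : E →ₗ[R] E ⊗[R] A) (h1) (h2)
    (B : Type u) [CommRing B] [Algebra R B] (g : VecGrp.pt R B ⟶ GA R A) (z : B ⊗[R] E) :
    (gmodOf δ h1 h2).ρ B g z = act δ (fOf g).toLinearMap z := rfl

theorem gmod_ext (m m' : VecGrp.GMod (GA R A) E)
    (h : ∀ (B : Type u) [CommRing B] [Algebra R B] (g : VecGrp.pt R B ⟶ GA R A) (x : E),
      m.ρ B g (1 ⊗ₜ[R] x) = m'.ρ B g (1 ⊗ₜ[R] x)) : m = m' := by
  cases m with
  | mk ρ nat =>
  cases m' with
  | mk ρ' nat' =>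
  congr
  funext B _ _
  apply MonoidHom.ext
  intro g
  apply LinearEquiv.toLinearMap_injective
  apply act_ext
  intro x
  exact h B g x

end Part1

section Part2

variable {R : Type u} [CommRing R] {A : Type u} [CommRing A] [HopfAlgebra R A]
    {E : Type u} [AddCommGroup E] [Module R E]

/-- universal point -/
noncomputable def gU : VecGrp.pt R A ⟶ GA R A := ptOf (AlgHom.id R A)

theorem eq_ptMap_gU {B : Type u} [CommRing B] [Algebra R B] (g : VecGrp.pt R B ⟶ GA R A) :
    g = VecGrp.ptMap (fOf g) ≫ gU := by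
  unfold gU
  rw [ptMap_ptOf, AlgHom.comp_id, ptOf_fOf]

/-- the coaction attached to a `G`-module -/
noncomputable def deltaOf (m : VecGrp.GMod (GA R A) E) : E →ₗ[R] E ⊗[R] A :=
  (TensorProduct.comm R E A).symm.toLinearMap ∘ₗ
    ((m.ρ A gU).toLinearMap.restrictScalars R) ∘ₗ (TensorProduct.mk R A E 1)

theorem deltaOf_apply (m : VecGrp.GMod (GA R A) E) (x : E) :
    deltaOf m x = (TensorProduct.comm R E A).symm (m.ρ A gU (1 ⊗ₜ[R] x)) := rfl

theorem Wmap_comm {B : Type u} [CommRing B] [Algebra R B] (φ : A →ₐ[R] B) (t : E ⊗[R] A) :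
    VecGrp.Wmap φ (TensorProduct.comm R E A t) = tw φ.toLinearMap t := by
  induction t using TensorProduct.induction_on with
  | zero => simp
  | tmul y a => simp
  | add t t' ht ht' => simp only [map_add, ht, ht']

theorem rho_eq (m : VecGrp.GMod (GA R A) E) {B : Type u} [CommRing B] [Algebra R B]
    (g : VecGrp.pt R B ⟶ GA R A) (x : E) :
    m.ρ B g (1 ⊗ₜ[R] x) = tw (fOf g).toLinearMap (deltaOf m x) := by
  have h := m.naturality (fOf g) gU (1 ⊗ₜ[R] x)
  rw [← eq_ptMap_gU, VecGrp.Wmap_tmul, map_one] at h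
  rw [← h, ← Wmap_comm, deltaOf_apply, LinearEquiv.apply_symm_apply]

theorem rho_eq_act (m : VecGrp.GMod (GA R A) E) {B : Type u} [CommRing B] [Algebra R B]
    (g : VecGrp.pt R B ⟶ GA R A) :
    (m.ρ B g).toLinearMap = act (deltaOf m) (fOf g).toLinearMap := by
  apply act_ext
  intro x
  rw [act_tmul, one_smul]
  exact rho_eq m g x


theorem Phi_incl (t : E ⊗[R] (A ⊗[R] A)) :
    Phi (E := E) (Algebra.TensorProduct.includeLeft : A →ₐ[R] A ⊗[R] A)
      (Algebra.TensorProduct.includeRight : A →ₐ[R] A ⊗[R] A) t =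
      TensorProduct.comm R E (A ⊗[R] A) t := by
  induction t using TensorProduct.induction_on with
  | zero => simp
  | tmul y w =>
    induction w using TensorProduct.induction_on with
    | zero => simp
    | tmul a a' => simp
    | add w w' hw hw' => simp only [TensorProduct.tmul_add, map_add, hw, hw']
  | add t t' ht ht' => simp only [map_add, ht, ht']

theorem deltaOf_coassoc (m : VecGrp.GMod (GA R A) E) :
    (TensorProduct.assoc R E A A).toLinearMap ∘ₗ (deltaOf m).rTensor A ∘ₗ deltaOf m =
      (CoalgebraStruct.comul (R := R) (A := A)).lTensor E ∘ₗ deltaOf m := by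
  ext x
  simp only [LinearMap.comp_apply, LinearEquiv.coe_coe]
  let g : VecGrp.pt R (A ⊗[R] A) ⟶ GA R A := ptOf Algebra.TensorProduct.includeLeft
  let h : VecGrp.pt R (A ⊗[R] A) ⟶ GA R A := ptOf Algebra.TensorProduct.includeRight
  have e1 : (m.ρ _ (g * h)).toLinearMap (1 ⊗ₜ[R] x) =
      (m.ρ _ g).toLinearMap ((m.ρ _ h).toLinearMap (1 ⊗ₜ[R] x)) := by
    rw [map_mul]; rfl
  rw [rho_eq_act, rho_eq_act, rho_eq_act, fOf_mul, act_convMul, act_act] at e1
  simp only [g, h, fOf_ptOf, Phi_incl] at e1
  exact ((TensorProduct.comm R E (A ⊗[R] A)).injective e1).symm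

theorem deltaOf_counit (m : VecGrp.GMod (GA R A) E) :
    (CoalgebraStruct.counit (R := R) (A := A)).lTensor E ∘ₗ deltaOf m = (TensorProduct.mk R E R).flip 1 := by
  ext x
  simp only [LinearMap.comp_apply, LinearMap.flip_apply, TensorProduct.mk_apply]
  have e1 : (m.ρ R (1 : VecGrp.pt R R ⟶ GA R A)).toLinearMap (1 ⊗ₜ[R] x) = 1 ⊗ₜ[R] x := by
    rw [map_one]; rfl
  rw [rho_eq_act, fOf_one, act_convOne] at e1
  generalize (CoalgebraStruct.counit (R := R) (A := A)).lTensor E (deltaOf m x) = t at e1 ⊢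
  have e2 : ∀ t : E ⊗[R] R, tw (E := E) (Algebra.linearMap R R) t = TensorProduct.comm R E R t := by
    intro t
    induction t using TensorProduct.induction_on with
    | zero => simp
    | tmul y r => simp
    | add t t' ht ht' => simp only [map_add, ht, ht']
  rw [e2] at e1
  have := congrArg (TensorProduct.comm R E R).symm e1
  simpa using this

end Part2

/-- Let R be a commutative ring, A a commutative Hopf algebra over R, G = Spec A the corresponding
affine group scheme over Spec R, and E an R-module. A G-module structure on E (for every R-algebra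
B, a natural action of the B-valued points of G on B ⊗_R E by B-linear automorphisms) and a right
A-comodule structure δ : E → E ⊗_R A are said to correspond when, for every R-algebra B, every
B-valued point g of G with associated algebra map f : A → B and every x ∈ E, the point g sends 1 ⊗ x
to the image of δ(x) under E ⊗_R A → B ⊗_R E, y ⊗ a ↦ f(a) ⊗ y. Then every comodule structure on E
corresponds to exactly one G-module structure, and every G-module structure corresponds to exactly
one R-linear δ : E → E ⊗_R A which is coassociative and counital. -/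
theorem result (R : Type u) [CommRing R] (A : Type u) [CommRing A] [HopfAlgebra R A]
    (E : Type u) [AddCommGroup E] [Module R E] :
    (∀ [HopfRep.Comod R A E], ∃! m : VecGrp.GMod ((Spec (CommRingCat.of A)).asOver (Spec (CommRingCat.of R))) E,
        (∀ (B : Type u) [CommRing B] [Algebra R B] (g : VecGrp.pt R B ⟶ ((Spec (CommRingCat.of A)).asOver (Spec (CommRingCat.of R)))) (x : E),
          m.ρ B g ((1 : B) ⊗ₜ[R] x) =
            (TensorProduct.comm R E B) (LinearMap.lTensor E (Spec.mapMulEquiv.symm g).ofConv.toLinearMap (HopfRep.Comod.coact (k := R) (A := A) x)))) ∧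
    (∀ m : VecGrp.GMod ((Spec (CommRingCat.of A)).asOver (Spec (CommRingCat.of R))) E, ∃! δ : E →ₗ[R] E ⊗[R] A,
        ((TensorProduct.assoc R E A A).toLinearMap ∘ₗ δ.rTensor A ∘ₗ δ =
            (CoalgebraStruct.comul (R := R) (A := A)).lTensor E ∘ₗ δ ∧
          (CoalgebraStruct.counit (R := R) (A := A)).lTensor E ∘ₗ δ = (TensorProduct.mk R E R).flip 1) ∧
        (∀ (B : Type u) [CommRing B] [Algebra R B] (g : VecGrp.pt R B ⟶ ((Spec (CommRingCat.of A)).asOver (Spec (CommRingCat.of R)))) (x : E),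
          m.ρ B g ((1 : B) ⊗ₜ[R] x) =
            (TensorProduct.comm R E B) (LinearMap.lTensor E (Spec.mapMulEquiv.symm g).ofConv.toLinearMap (δ x)))) := by
  constructor
  · intro inst
    refine ⟨gmodOf (HopfRep.Comod.coact (k := R) (A := A)) HopfRep.Comod.coassoc HopfRep.Comod.counit_comp,
      ?_, ?_⟩
    · intro B _ _ g x
      rw [gmodOf_apply, act_tmul, one_smul]
      rfl
    · intro m' hm'
      apply gmod_ext
      intro B _ _ g x
      rw [hm' B g x, gmodOf_apply, act_tmul, one_smul]
      rfl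
  · intro m
    refine ⟨deltaOf m, ⟨⟨deltaOf_coassoc m, deltaOf_counit m⟩, ?_⟩, ?_⟩
    · intro B _ _ g x
      exact rho_eq m g x
    · rintro δ' ⟨-, hδ'⟩
      ext x
      have h := hδ' A gU x
      have e : (Spec.mapMulEquiv.symm (gU (R := R) (A := A))).ofConv = AlgHom.id R A := fOf_ptOf _
      rw [e] at h
      have h2 : LinearMap.lTensor E (AlgHom.id R A).toLinearMap (δ' x) = δ' x := by
        have : (AlgHom.id R A).toLinearMap = LinearMap.id := rfl
        rw [this, LinearMap.lTensor_id]; rfl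
      rw [h2] at h
      rw [deltaOf_apply, h, LinearEquiv.symm_apply_apply]

end Groth.Agent.S6094
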