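import Groth.Statements.S6120
-- import your own Groth.Agent.* helpers here

set_option autoImplicit false
open CategoryTheory CategoryTheory.Limits Opposite
universe w v₁ v₂ u₁ u₂
open SGA4

namespace Groth.Agent.S6120

section

variable {I : Type u₁} [Category.{v₁} I] {C : Type u₂} [Category.{v₂} C] {A : Type w} (i : A → I)
    [∀ α β, HasBinaryProduct (i α) (i β)]
    (hcov : ∀ j : I, ∃ α, Nonempty (j ⟶ i α))
    (F : Iᵒᵖ ⥤ C)
    [HasProduct (fun α => F.obj (op (i α)))]
    [HasProduct (fun p : A × A => F.obj (op (i p.1 ⨯ i p.2)))]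

noncomputable abbrev uMap : ∏ᶜ (fun α => F.obj (op (i α))) ⟶
    ∏ᶜ (fun p : A × A => F.obj (op (i p.1 ⨯ i p.2))) :=
  Pi.lift (fun p : A × A =>
    Pi.π (fun α => F.obj (op (i α))) p.1 ≫ F.map (prod.fst : i p.1 ⨯ i p.2 ⟶ i p.1).op)

noncomputable abbrev vMap : ∏ᶜ (fun α => F.obj (op (i α))) ⟶
    ∏ᶜ (fun p : A × A => F.obj (op (i p.1 ⨯ i p.2))) :=
  Pi.lift (fun p : A × A =>
    Pi.π (fun α => F.obj (op (i α))) p.2 ≫ F.map (prod.snd : i p.1 ⨯ i p.2 ⟶ i p.2).op)

omit hcov in
theorem indep {T : C} (t : T ⟶ ∏ᶜ (fun α => F.obj (op (i α))))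
    (ht : t ≫ uMap i F = t ≫ vMap i F) {j : I} {α β : A} (m : j ⟶ i α) (m' : j ⟶ i β) :
    t ≫ Pi.π (fun α => F.obj (op (i α))) α ≫ F.map m.op =
      t ≫ Pi.π (fun α => F.obj (op (i α))) β ≫ F.map m'.op := by
  have h1 : m = prod.lift m m' ≫ prod.fst := (prod.lift_fst m m').symm
  have h2 : m' = prod.lift m m' ≫ prod.snd := (prod.lift_snd m m').symm
  have := congrArg (fun x => x ≫ Pi.π (fun p : A × A => F.obj (op (i p.1 ⨯ i p.2))) (α, β) ≫
    F.map (prod.lift m m').op) ht
  simp only [Category.assoc, Pi.lift_π_assoc] at this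
  conv_lhs => rw [h1, op_comp, F.map_comp]
  conv_rhs => rw [h2, op_comp, F.map_comp]
  exact this

/-- The cone over `F` induced by a map equalizing the two maps. -/
noncomputable def coneOf {T : C} (t : T ⟶ ∏ᶜ (fun α => F.obj (op (i α))))
    (ht : t ≫ uMap i F = t ≫ vMap i F) : Cone F where
  pt := T
  π :=
    { app := fun j => t ≫ Pi.π (fun α => F.obj (op (i α))) (hcov j.unop).choose ≫
        F.map (hcov j.unop).choose_spec.some.op
      naturality := by
        intro j k g
        have key := indep i F t ht (hcov k.unop).choose_spec.some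
          (g.unop ≫ (hcov j.unop).choose_spec.some)
        simp only [op_comp, Quiver.Hom.op_unop, Functor.map_comp] at key
        simp only [Functor.const_obj_obj, Functor.const_obj_map, Category.id_comp, Category.assoc]
        exact key }

theorem coneOf_π {T : C} (t : T ⟶ ∏ᶜ (fun α => F.obj (op (i α))))
    (ht : t ≫ uMap i F = t ≫ vMap i F) (α : A) :
    (coneOf i hcov F t ht).π.app (op (i α)) = t ≫ Pi.π (fun α => F.obj (op (i α))) α := by
  have := indep i F t ht (hcov (i α)).choose_spec.some (𝟙 (i α))
  simpa [coneOf] using this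

end

/-- Let `I` be a category with a family of objects `i α` (`α : A`) such that every binary product `i α ⨯
i β` exists in `I` and every object of `I` admits a morphism to some `i α`. Let `F : Iᵒᵖ ⥤ C` be a
functor, and assume that `C` has equalizers and that the products `∏ F (i α)` and `∏ F (i α ⨯ i β)`
exist in `C`. Then the limit of `F` exists, the canonical map `lim F ⟶ ∏ F (i α)` is a monomorphism,
and a map `t : T ⟶ ∏ F (i α)` factors through `lim F` exactly when its composites with the two maps
`∏ F (i α) ⇉ ∏ F (i α ⨯ i β)` induced by the two projections agree: `lim F` is the equalizer of that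
pair. (The published statement assumes that `C` has all limits of the size of `A`; only equalizers
and the two products named are assumed here, which is what the equalizer construction uses.) -/
theorem result
    {I : Type u₁} [Category.{v₁} I] {C : Type u₂} [Category.{v₂} C] {A : Type w} (i : A → I)
    [∀ α β, HasBinaryProduct (i α) (i β)]
    (hcov : ∀ j : I, ∃ α, Nonempty (j ⟶ i α))
    (F : Iᵒᵖ ⥤ C) [HasEqualizers C]
    [HasProduct (fun α => F.obj (op (i α)))]
    [HasProduct (fun p : A × A => F.obj (op (i p.1 ⨯ i p.2)))] :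
    HasLimit F ∧ ∀ [HasLimit F],
      Mono (Pi.lift (fun α => limit.π F (op (i α)))) ∧
      ∀ (T : C) (t : T ⟶ ∏ᶜ (fun α => F.obj (op (i α)))),
        (∃ s : T ⟶ limit F, s ≫ Pi.lift (fun α => limit.π F (op (i α))) = t) ↔
        t ≫ Pi.lift (fun p : A × A =>
            Pi.π (fun α => F.obj (op (i α))) p.1 ≫ F.map (prod.fst : i p.1 ⨯ i p.2 ⟶ i p.1).op) =
        t ≫ Pi.lift (fun p : A × A =>
            Pi.π (fun α => F.obj (op (i α))) p.2 ≫ F.map (prod.snd : i p.1 ⨯ i p.2 ⟶ i p.2).op) := by
  have hlim : HasLimit F := by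
    have hι : equalizer.ι (uMap i F) (vMap i F) ≫ uMap i F =
        equalizer.ι (uMap i F) (vMap i F) ≫ vMap i F := equalizer.condition _ _
    refine ⟨⟨⟨coneOf i hcov F (equalizer.ι (uMap i F) (vMap i F)) hι, ?_⟩⟩⟩
    refine
      { lift := fun s => equalizer.lift (Pi.lift (fun α => s.π.app (op (i α)))) ?_
        fac := ?_
        uniq := ?_ }
    · apply Pi.hom_ext
      intro p
      simp only [Category.assoc, Pi.lift_π, Pi.lift_π_assoc]
      rw [s.w, s.w]
    · intro s j
      simp only [coneOf, equalizer.lift_ι_assoc, Pi.lift_π_assoc]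
      exact s.w _
    · intro s m hm
      apply equalizer.hom_ext
      simp only [equalizer.lift_ι]
      apply Pi.hom_ext
      intro α
      simp only [Category.assoc, Pi.lift_π]
      have h1 := hm (op (i α))
      rw [coneOf_π] at h1
      exact h1
  refine ⟨hlim, ?_⟩
  intro _inst
  refine ⟨?_, ?_⟩
  · constructor
    intro T a b hab
    apply limit.hom_ext
    intro j
    obtain ⟨α, ⟨m⟩⟩ := hcov j.unop
    have := congrArg (fun x => x ≫ Pi.π (fun α => F.obj (op (i α))) α ≫ F.map m.op) hab
    simp only [Category.assoc, Pi.lift_π_assoc, limit.w] at this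
    exact this
  · intro T t
    constructor
    · rintro ⟨s, rfl⟩
      simp only [Category.assoc]
      congr 1
      apply Pi.hom_ext
      intro p
      simp only [Category.assoc, Pi.lift_π, Pi.lift_π_assoc, limit.w]
    · intro ht
      refine ⟨limit.lift F (coneOf i hcov F t ht), ?_⟩
      apply Pi.hom_ext
      intro α
      rw [Category.assoc, Pi.lift_π]
      exact (limit.lift_π (coneOf i hcov F t ht) (op (i α))).trans (coneOf_π i hcov F t ht α)

end Groth.Agent.S6120
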