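import Groth.Statements.S6122
-- import your own Groth.Agent.* helpers here

set_option autoImplicit false
open CategoryTheory
universe v₁ v₂ u₁ u₂
open SGA4

namespace Groth.Agent.S6122

/-- For a fibered functor `p : E ⥤ B` (every morphism of `B` has a cartesian lift with prescribed
codomain, and cartesian morphisms compose), `p` is faithful if and only if every fibre category of
`p` (objects over `b`, morphisms lying over the identity of `b`) has at most one morphism between
any two objects. -/
theorem result
    {B : Type u₁} [Category.{v₁} B] {E : Type u₂} [Category.{v₂} E] (p : E ⥤ B) [p.IsFibered] :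
    p.Faithful ↔ ∀ (b : B) (x y : p.Fiber b), Subsingleton (x ⟶ y) := by
  constructor
  · intro hp b x y
    refine ⟨fun φ ψ => ?_⟩
    apply Functor.Fiber.hom_ext
    apply p.map_injective
    have h1 := IsHomLift.fac' p (𝟙 b) (Functor.Fiber.fiberInclusion.map φ)
    have h2 := IsHomLift.fac' p (𝟙 b) (Functor.Fiber.fiberInclusion.map ψ)
    rw [h1, h2]
  · intro H
    constructor
    intro a b φ ψ hφψ
    obtain ⟨a', χ, hχ⟩ := IsPreFibered.exists_isCartesian p (rfl : p.obj b = p.obj b)
      (p.map φ)
    have hψ : p.IsHomLift (p.map φ) ψ := by rw [hφψ]; infer_instance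
    have h1 : Functor.IsCartesian.map p (p.map φ) χ φ ≫ χ = φ := Functor.IsCartesian.fac _ _ _ _
    have h2 : Functor.IsCartesian.map p (p.map φ) χ ψ ≫ χ = ψ := Functor.IsCartesian.fac _ _ _ _
    have := H (p.obj a) (Functor.Fiber.mk (IsHomLift.domain_eq p (𝟙 (p.obj a))
      (Functor.IsCartesian.map p (p.map φ) χ φ)))
      (Functor.Fiber.mk (IsHomLift.codomain_eq p (𝟙 (p.obj a))
      (Functor.IsCartesian.map p (p.map φ) χ φ)))
    have h3 : Functor.Fiber.homMk p (p.obj a) (Functor.IsCartesian.map p (p.map φ) χ φ) =
        Functor.Fiber.homMk p (p.obj a) (Functor.IsCartesian.map p (p.map φ) χ ψ) :=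
      Subsingleton.elim _ _
    have h4 := congrArg (fun t => Functor.Fiber.fiberInclusion.map t) h3
    simp only [Functor.Fiber.fiberInclusion_homMk] at h4
    rw [← h1, ← h2, h4]

end Groth.Agent.S6122
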