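import Groth.Statements.S6124
import Groth.Agent.Lib.Helper26.ReflectIso
import Mathlib.CategoryTheory.Limits.Shapes.Pullback.IsPullback.Basic
import Mathlib.CategoryTheory.Limits.Preserves.Shapes.Pullbacks

set_option autoImplicit false
open CategoryTheory CategoryTheory.Limits Opposite
universe w v₁ v₂ u₁ u₂
open SGA4

namespace Groth.Agent.S6124

/-- Let `E` have pullbacks, let `P` be a detecting family of objects of `E` (a morphism `f` is
invertible as soon as every map out of an object of `P` factors uniquely through `f`), and let `φ i
: E ⥤ E' i` be functors preserving pullbacks. Then the `φ i` jointly reflect isomorphisms if and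
only if, for every `X` with `P X` and every subobject `X'` of `X` other than `⊤`, some `φ i` takes
the inclusion `X' ⟶ X` to a morphism that is not invertible. -/
theorem result
    {E : Type u₁} [Category.{v₁} E] [HasPullbacks E] (P : ObjectProperty E) (hP : P.IsDetecting)
    {κ : Type w} {E' : κ → Type u₂} [∀ k, Category.{v₂} (E' k)] (φ : ∀ k, E ⥤ E' k)
    [∀ k, PreservesLimitsOfShape WalkingCospan (φ k)] :
    (∀ ⦃X Y : E⦄ (f : X ⟶ Y), (∀ k, IsIso ((φ k).map f)) → IsIso f) ↔
      ∀ (X : E), P X → ∀ (X' : Subobject X), X' ≠ ⊤ → ∃ k, ¬ IsIso ((φ k).map X'.arrow) := by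
  constructor
  · intro H X _ X' hX'
    by_contra hcon
    push Not at hcon
    have : IsIso X'.arrow := H X'.arrow hcon
    exact hX' (Subobject.eq_top_of_isIso_arrow X')
  · intro H
    apply Groth.Agent.Lib.Helper26.isIso_of_forall_isIso_map_of_mono φ
    intro X Y u hu hφ
    apply hP
    intro G hG g
    have hiso : ∀ k, IsIso ((φ k).map (pullback.fst g u)) := by
      intro k
      have := hφ k
      exact ((IsPullback.of_hasPullback g u).map (φ k)).isIso_fst_of_isIso
    have htop : Subobject.mk (pullback.fst g u) = ⊤ := by
      by_contra hne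
      obtain ⟨k, hk⟩ := H G hG _ hne
      apply hk
      rw [← Subobject.underlyingIso_hom_comp_eq_mk, Functor.map_comp]
      have := hiso k
      infer_instance
    have : IsIso (pullback.fst g u) := (Subobject.isIso_iff_mk_eq_top _).2 htop
    refine ⟨inv (pullback.fst g u) ≫ pullback.snd g u, ?_, ?_⟩
    · simp only [Category.assoc, ← pullback.condition, IsIso.inv_hom_id_assoc]
    · intro h' hh'
      rw [← cancel_mono u, hh']
      simp only [Category.assoc, ← pullback.condition, IsIso.inv_hom_id_assoc]

end Groth.Agent.S6124
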