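import Groth.Statements.S6126
-- import your own Groth.Agent.* helpers here

set_option autoImplicit false
open CategoryTheory CategoryTheory.Limits
universe v₁ u₁
open SGA4

namespace Groth.Agent.S6126

/-- Let `E` be a category with `v₁`-small hom-sets admitting a separating family of objects `G t`
indexed by a `v₁`-small type, in which every object admits a monomorphism into an injective object.
Assume that each coproduct `G t ⨿ G t` exists and that every morphism out of `G t ⨿ G t` factors as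
an effective epimorphism followed by a monomorphism. Then `E` admits a coseparating family of
injective objects indexed by a `v₁`-small type. (The published statement moreover bounds the size of
this family in terms of the hom-sets `Hom (G t', G t ⨿ G t)`; only existence is stated here. The
published statement speaks of generating and cogenerating families; its proof uses and produces
joint faithfulness of maps out of, resp. into, the family, which is the sense taken here.) -/
theorem result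
    {E : Type u₁} [Category.{v₁} E] {ι : Type v₁} (G : ι → E)
    (hG : (ObjectProperty.ofObj G).IsSeparating)
    [EnoughInjectives E] [∀ t, HasBinaryCoproduct (G t) (G t)]
    (hfac : ∀ (t : ι) (X : E) (f : G t ⨿ G t ⟶ X),
      ∃ (Y : E) (e : G t ⨿ G t ⟶ Y) (m : Y ⟶ X), EffectiveEpi e ∧ Mono m ∧ e ≫ m = f) :
    ∃ (κ : Type v₁) (H : κ → E),
      (∀ k, Injective (H k)) ∧ (ObjectProperty.ofObj H).IsCoseparating := by
  classical
  -- the relation on generator-valued points cut out by a morphism out of `G t ⨿ G t`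
  let relOf : ∀ (t : ι) {Y : E} (_ : G t ⨿ G t ⟶ Y),
      Set (Σ t' : ι, (G t' ⟶ G t ⨿ G t) × (G t' ⟶ G t ⨿ G t)) :=
    fun t Y e => {p | p.2.1 ≫ e = p.2.2 ≫ e}
  let P : (Σ t : ι, Set (Σ t' : ι, (G t' ⟶ G t ⨿ G t) × (G t' ⟶ G t ⨿ G t))) → Prop :=
    fun k => ∃ (Y : E) (e : G k.1 ⨿ G k.1 ⟶ Y), EffectiveEpi e ∧ relOf k.1 e = k.2
  have key : ∀ (t : ι) {Y₁ Y₂ : E} (e₁ : G t ⨿ G t ⟶ Y₁) (e₂ : G t ⨿ G t ⟶ Y₂),
      relOf t e₁ = relOf t e₂ → ∀ {Z : E} (g₁ g₂ : Z ⟶ G t ⨿ G t),
      g₁ ≫ e₁ = g₂ ≫ e₁ → g₁ ≫ e₂ = g₂ ≫ e₂ := by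
    intro t Y₁ Y₂ e₁ e₂ hr Z g₁ g₂ h12
    apply hG
    rintro _ ⟨t'⟩ w
    have h1 : (⟨t', (w ≫ g₁, w ≫ g₂)⟩ :
        Σ t' : ι, (G t' ⟶ G t ⨿ G t) × (G t' ⟶ G t ⨿ G t)) ∈ relOf t e₁ := by
      change (w ≫ g₁) ≫ e₁ = (w ≫ g₂) ≫ e₁
      rw [Category.assoc, Category.assoc, h12]
    rw [hr] at h1
    have h2 : (w ≫ g₁) ≫ e₂ = (w ≫ g₂) ≫ e₂ := h1
    simpa only [Category.assoc] using h2
  refine ⟨{k : (Σ t : ι, Set (Σ t' : ι, (G t' ⟶ G t ⨿ G t) × (G t' ⟶ G t ⨿ G t))) // P k},
    fun k => Injective.under k.2.choose, fun k => inferInstance, ?_⟩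
  intro X X' f g hfg
  by_contra hne
  obtain ⟨t, u, hu⟩ : ∃ (t : ι) (u : G t ⟶ X), u ≫ f ≠ u ≫ g := by
    by_contra hcon
    push_neg at hcon
    exact hne (hG f g (fun Gt hGt h => by obtain ⟨t⟩ := hGt; exact hcon t h))
  obtain ⟨Y, e, m, he, hm, hem⟩ := hfac t X' (coprod.desc (u ≫ f) (u ≫ g))
  have hk : P ⟨t, relOf t e⟩ := ⟨Y, e, he, rfl⟩
  obtain ⟨he₀, hrel⟩ := hk.choose_spec.choose_spec
  have he₀' : EffectiveEpi hk.choose_spec.choose := he₀
  -- comparison maps
  let d : Y ⟶ hk.choose := EffectiveEpi.desc e hk.choose_spec.choose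
    (fun g₁ g₂ h12 => key t e hk.choose_spec.choose hrel.symm g₁ g₂ h12)
  let d' : hk.choose ⟶ Y := EffectiveEpi.desc hk.choose_spec.choose e
    (fun g₁ g₂ h12 => key t hk.choose_spec.choose e hrel g₁ g₂ h12)
  have hd : e ≫ d = hk.choose_spec.choose := EffectiveEpi.fac _ _ _
  have hd' : hk.choose_spec.choose ≫ d' = e := EffectiveEpi.fac _ _ _
  have hdd' : d ≫ d' = 𝟙 Y := by
    rw [← cancel_epi e, ← Category.assoc, hd, hd', Category.comp_id]
  have hdmono : Mono d := mono_of_mono_fac hdd'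
  let j : Y ⟶ Injective.under hk.choose := d ≫ Injective.ι hk.choose
  have hjmono : Mono j := mono_comp _ _
  let h : X' ⟶ Injective.under hk.choose := Injective.factorThru j m
  have hmh : m ≫ h = j := Injective.comp_factorThru j m
  have h1 := hfg (Injective.under hk.choose)
    (ObjectProperty.ofObj_apply _ (⟨⟨t, relOf t e⟩, hk⟩ : {k // P k})) h
  have h2 : (coprod.inl ≫ e) ≫ j = (coprod.inr ≫ e) ≫ j := by
    rw [← hmh, Category.assoc, Category.assoc, ← Category.assoc e, hem]
    rw [← Category.assoc, ← Category.assoc, coprod.inl_desc, coprod.inr_desc, Category.assoc,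
      Category.assoc, h1]
  have h3 : coprod.inl ≫ e = coprod.inr ≫ e := (cancel_mono j).1 h2
  apply hu
  have h4 : (coprod.inl ≫ e) ≫ m = (coprod.inr ≫ e) ≫ m := by rw [h3]
  rw [Category.assoc, Category.assoc, hem, coprod.inl_desc, coprod.inr_desc] at h4
  exact h4

end Groth.Agent.S6126
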