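import Groth.Statements.S6127
import Mathlib.Tactic
import Mathlib.CategoryTheory.Sites.Canonical
import Mathlib.CategoryTheory.Sites.LocallyBijective
import Mathlib.CategoryTheory.Limits.Types.Pullbacks
import Mathlib.CategoryTheory.Limits.FunctorCategory.Basic

set_option autoImplicit false
open CategoryTheory CategoryTheory.Limits Opposite
universe u
open SGA4

namespace Groth.Agent.S6127

open Opposite

section
variable {C : Type u} [SmallCategory C] (P : ObjectProperty (Cᵒᵖ ⥤ Type u))
  [P.IsClosedUnderIsomorphisms] [Reflective P.ι] [PreservesFiniteLimits (reflector P.ι)]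

/-- morphisms inverted by the reflector -/
def Inv {A B : Cᵒᵖ ⥤ Type u} (m : A ⟶ B) : Prop := IsIso ((reflector P.ι).map m)

omit [P.IsClosedUnderIsomorphisms] [PreservesFiniteLimits (reflector P.ι)] in
lemma inv_iff {A B : Cᵒᵖ ⥤ Type u} (m : A ⟶ B) :
    Inv P m ↔ ∀ F, P F → Function.Bijective (fun g : B ⟶ F => m ≫ g) := by
  unfold Inv
  rw [isIso_iff_coyoneda_map_bijective]
  have key : ∀ T : P.FullSubcategory,
      (fun x : (reflector P.ι).obj B ⟶ T => (reflector P.ι).map m ≫ x) =
        ((reflectorAdjunction P.ι).homEquiv A T).symm ∘ (fun g : B ⟶ T.obj => m ≫ g) ∘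
          ((reflectorAdjunction P.ι).homEquiv B T) := by
    intro T
    funext x
    simp only [Function.comp_apply]
    rw [Equiv.eq_symm_apply]
    exact (reflectorAdjunction P.ι).homEquiv_naturality_left m x
  constructor
  · intro h F hF
    have := h ⟨F, hF⟩
    rw [key] at this
    simpa using this
  · intro h T
    rw [key]
    simpa using h T.obj T.property


omit [P.IsClosedUnderIsomorphisms] in
/-- morphisms inverted by the reflector are stable under base change -/
lemma inv_snd {A B A' B' : Cᵒᵖ ⥤ Type u} {fst : A' ⟶ A} {snd : A' ⟶ B'} {m : A ⟶ B} {g : B' ⟶ B}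
    (h : IsPullback fst snd m g) (hm : Inv P m) : Inv P snd := by
  unfold Inv at *
  exact (h.map (reflector P.ι)).isIso_snd_of_isIso hm

omit [P.IsClosedUnderIsomorphisms] [PreservesFiniteLimits (reflector P.ι)] in
lemma inv_of_comp_left {A B D : Cᵒᵖ ⥤ Type u} (a : A ⟶ B) (b : B ⟶ D) (ha : Inv P a)
    (hab : Inv P (a ≫ b)) : Inv P b := by
  unfold Inv at *
  rw [Functor.map_comp] at hab
  exact IsIso.of_isIso_comp_left ((reflector P.ι).map a) _

omit [P.IsClosedUnderIsomorphisms] in
/-- a monomorphism whose precomposition with some map is inverted is inverted -/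
lemma inv_of_mono {A B D : Cᵒᵖ ⥤ Type u} (a : A ⟶ B) (b : B ⟶ D) [Mono b]
    (hab : Inv P (a ≫ b)) : Inv P b := by
  unfold Inv at *
  rw [Functor.map_comp] at hab
  haveI : Mono ((reflector P.ι).map b) := inferInstance
  haveI : IsSplitEpi ((reflector P.ι).map b) :=
    IsSplitEpi.mk' ⟨inv ((reflector P.ι).map a ≫ (reflector P.ι).map b) ≫ (reflector P.ι).map a, by
      rw [Category.assoc, IsIso.inv_hom_id]⟩
  exact isIso_of_mono_of_isSplitEpi _

/-- the pullback square of sieves -/
lemma isPullback_sieve {X Y : C} (S : Sieve X) (f : Y ⟶ X) :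
    IsPullback (show (S.pullback f).functor ⟶ S.functor from
      { app := fun Z => ↾fun g => ⟨g.1 ≫ f, g.2⟩
        naturality := fun Z Z' a => by
          ext g
          apply Subtype.ext
          exact Category.assoc _ _ _ })
      (S.pullback f).functorInclusion S.functorInclusion (yoneda.map f) := by
  apply IsPullback.of_forall_isPullback_app
  intro Z
  rw [Types.isPullback_iff]
  refine ⟨rfl, ?_, ?_⟩
  · rintro ⟨g₁, h₁⟩ ⟨g₂, h₂⟩ ⟨-, h⟩
    apply Subtype.ext
    exact h
  · rintro ⟨s, hs⟩ g h
    refine ⟨⟨g, ?_⟩, ?_, rfl⟩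
    · change S.arrows (g ≫ f)
      have : s = g ≫ f := h
      rw [← this]
      exact hs
    · apply Subtype.ext
      exact h.symm


/-- the topology -/
def Jtop : GrothendieckTopology C := Sheaf.finestTopology {F | P F}

omit [P.IsClosedUnderIsomorphisms] [PreservesFiniteLimits (reflector P.ι)] in
lemma inv_incl_iff_isSheafFor {X : C} (S : Sieve X) :
    Inv P S.functorInclusion ↔ ∀ F, P F → Presieve.IsSheafFor F (S : Presieve X) := by
  rw [inv_iff]
  refine forall₂_congr fun F hF => ?_
  rw [Presieve.isSheafFor_iff_yonedaSheafCondition]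
  unfold Presieve.YonedaSheafCondition
  rw [Function.bijective_iff_existsUnique]

omit [P.IsClosedUnderIsomorphisms] in
lemma mem_Jtop_iff {X : C} (S : Sieve X) : S ∈ Jtop P X ↔ Inv P S.functorInclusion := by
  constructor
  · intro hS
    rw [inv_incl_iff_isSheafFor]
    intro F hF
    exact Sheaf.sheaf_for_finestTopology {F | P F} hF S hS
  · intro hS
    apply Sheaf.mem_finestTopology_of_forall_isSheafFor
    intro F hF Y f
    have h2 := inv_snd P (isPullback_sieve S f) hS
    rw [inv_incl_iff_isSheafFor] at h2
    exact h2 F hF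


omit [P.IsClosedUnderIsomorphisms] in
/-- morphisms inverted by the reflector are locally surjective -/
lemma imageSieve_mem {A B : Cᵒᵖ ⥤ Type u} (m : A ⟶ B) (hm : Inv P m) {X : C}
    (x : B.obj (op X)) : Presheaf.imageSieve m x ∈ Jtop P X := by
  rw [mem_Jtop_iff]
  let x' : yoneda.obj X ⟶ B := yonedaEquiv.symm x
  have hsnd : Inv P (pullback.snd m x') := inv_snd P (IsPullback.of_hasPullback m x') hm
  let e : pullback m x' ⟶ (Presheaf.imageSieve m x).functor :=
    { app := fun Y => ↾fun t => ⟨(pullback.snd m x').app Y t, by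
        refine ⟨(pullback.fst m x').app Y t, ?_⟩
        have := ConcreteCategory.congr_hom (NatTrans.congr_app (pullback.condition (f := m) (g := x')) Y) t
        refine this.trans ?_
        exact yonedaEquiv_symm_app_apply x Y _⟩
      naturality := fun Y Y' a => by
        ext t
        apply Subtype.ext
        exact ConcreteCategory.congr_hom ((pullback.snd m x').naturality a) t }
  have he : e ≫ (Presheaf.imageSieve m x).functorInclusion = pullback.snd m x' := by
    ext Y t
    rfl
  rw [← he] at hsnd
  exact inv_of_mono P e _ hsnd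


omit [P.IsClosedUnderIsomorphisms] [PreservesFiniteLimits (reflector P.ι)] in
lemma inv_of_comp_right {A B D : Cᵒᵖ ⥤ Type u} (a : A ⟶ B) (b : B ⟶ D) (hb : Inv P b)
    (hab : Inv P (a ≫ b)) : Inv P a := by
  unfold Inv at *
  rw [Functor.map_comp] at hab
  exact IsIso.of_isIso_comp_right _ ((reflector P.ι).map b)

omit [P.IsClosedUnderIsomorphisms] in
/-- morphisms inverted by the reflector are locally injective -/
lemma equalizerSieve_mem {A B : Cᵒᵖ ⥤ Type u} (m : A ⟶ B) (hm : Inv P m) {X : Cᵒᵖ}
    (x y : A.obj X) (hxy : m.app X x = m.app X y) :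
    Presheaf.equalizerSieve (F := A) x y ∈ Jtop P X.unop := by
  let Δ : A ⟶ pullback m m := pullback.lift (𝟙 A) (𝟙 A) rfl
  have hsnd : Inv P (pullback.snd m m) := inv_snd P (IsPullback.of_hasPullback m m) hm
  have hΔ : Inv P Δ := by
    apply inv_of_comp_right P Δ (pullback.snd m m) hsnd
    rw [pullback.lift_snd]
    unfold Inv
    rw [CategoryTheory.Functor.map_id]
    infer_instance
  have hp := (IsPullback.of_hasPullback m m).map ((evaluation _ (Type u)).obj X)
  obtain ⟨z, hz1, hz2⟩ := Types.exists_of_isPullback hp x y hxy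
  refine (Jtop P).superset_covering ?_ (imageSieve_mem P Δ hΔ (X := X.unop) z)
  rintro Y f ⟨a, ha⟩
  change A.map f.op x = A.map f.op y
  have h1 : (pullback.fst m m).app (op Y) (Δ.app (op Y) a) = a := by
    have := ConcreteCategory.congr_hom
      (NatTrans.congr_app (pullback.lift_fst (𝟙 A) (𝟙 A) (rfl : 𝟙 A ≫ m = 𝟙 A ≫ m)) (op Y)) a
    exact this
  have h2 : (pullback.snd m m).app (op Y) (Δ.app (op Y) a) = a := by
    have := ConcreteCategory.congr_hom
      (NatTrans.congr_app (pullback.lift_snd (𝟙 A) (𝟙 A) (rfl : 𝟙 A ≫ m = 𝟙 A ≫ m)) (op Y)) a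
    exact this
  rw [ha] at h1 h2
  have n1 := ConcreteCategory.congr_hom ((pullback.fst m m).naturality f.op) z
  have n2 := ConcreteCategory.congr_hom ((pullback.snd m m).naturality f.op) z
  have e1 : A.map f.op x = a := by
    rw [← hz1]
    exact n1.symm.trans h1
  have e2 : A.map f.op y = a := by
    rw [← hz2]
    exact n2.symm.trans h2
  rw [e1, e2]


lemma prop_of_isSheaf (F : Cᵒᵖ ⥤ Type u) (hF : Presieve.IsSheaf (Jtop P) F) : P F := by
  let η := (reflectorAdjunction P.ι).unit.app F
  have hη : Inv P η := by
    unfold Inv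
    have h := (reflectorAdjunction P.ι).left_triangle_components F
    have : IsIso ((reflector P.ι).map η ≫
        (reflectorAdjunction P.ι).counit.app ((reflector P.ι).obj F)) := by
      rw [h]; exact IsIso.id _
    exact IsIso.of_isIso_comp_right _ ((reflectorAdjunction P.ι).counit.app ((reflector P.ι).obj F))
  have hG : Presieve.IsSheaf (Jtop P) ((reflector P.ι).obj F).obj :=
    Sheaf.sheaf_for_finestTopology {F | P F} ((reflector P.ι).obj F).property
  let FS : Sheaf (Jtop P) (Type u) := ⟨F, (isSheaf_iff_isSheaf_of_type _ _).2 hF⟩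
  let GS : Sheaf (Jtop P) (Type u) :=
    ⟨((reflector P.ι).obj F).obj, (isSheaf_iff_isSheaf_of_type _ _).2 hG⟩
  let φ : FS ⟶ GS := ⟨η⟩
  haveI : Sheaf.IsLocallyInjective φ := ⟨fun x y h => equalizerSieve_mem P η hη x y h⟩
  haveI : Sheaf.IsLocallySurjective φ := ⟨fun x => imageSieve_mem P η hη x⟩
  have hiso : IsIso φ := (Sheaf.isLocallyBijective_iff_isIso φ).1 ⟨inferInstance, inferInstance⟩
  have hiso' : IsIso η := (inferInstance : IsIso ((sheafToPresheaf _ _).map φ))
  exact P.prop_of_iso (asIso η).symm ((reflector P.ι).obj F).property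

end


/-- Let `C` be a small category and `P` a strictly full subcategory of the category of presheaves of
sets on `C` whose inclusion admits a left adjoint (a reflector) preserving finite limits. Call a
sieve `S` on `X` covering when the reflector inverts the inclusion of `S`, viewed as a subpresheaf,
into the presheaf represented by `X`. Then these covering sieves form a Grothendieck topology `J` on
`C`, and a presheaf lies in `P` if and only if it is a sheaf for `J`. (This is the half of the
correspondence between topologies on `C` and such reflective subcategories that produces the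
topology; the topology is pinned down by its covering sieves.) -/
theorem result
    {C : Type u} [SmallCategory C] (P : ObjectProperty (Cᵒᵖ ⥤ Type u))
    [P.IsClosedUnderIsomorphisms] [Reflective P.ι] [PreservesFiniteLimits (reflector P.ι)] :
    ∃ J : GrothendieckTopology C,
      (∀ (X : C) (S : Sieve X), S ∈ J X ↔ IsIso ((reflector P.ι).map S.functorInclusion)) ∧
      ∀ F : Cᵒᵖ ⥤ Type u, P F ↔ Presieve.IsSheaf J F := by
  refine ⟨Jtop P, fun X S => mem_Jtop_iff P S, fun F => ⟨fun hF => ?_, prop_of_isSheaf P F⟩⟩
  exact Sheaf.sheaf_for_finestTopology {F | P F} hF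

end Groth.Agent.S6127
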