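import Groth.Statements.S6128
import Mathlib.CategoryTheory.Sites.Closed
import Mathlib.CategoryTheory.Functor.KanExtension.Adjunction

set_option autoImplicit false
open CategoryTheory
universe u
open SGA4

namespace Groth.Agent.S6128

open Opposite

section
variable {C : Type u} [SmallCategory C] {C' : Type u} [SmallCategory C']
  (J : GrothendieckTopology C) (u : C ⥤ C') {Y : C} (R : Sieve (u.obj Y))

/-- the sieve on `Z` attached to a morphism `f : u Z ⟶ u Y` -/
def S {Z : C} (f : u.obj Z ⟶ u.obj Y) : Sieve Z where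
  arrows W k := R (u.map k ≫ f)
  downward_closed := by
    intro W W' k hk l
    change R (u.map (l ≫ k) ≫ f)
    rw [u.map_comp, Category.assoc]
    exact R.downward_closed hk _

lemma S_pullback {Z Z' : C} (h : Z' ⟶ Z) (f : u.obj Z ⟶ u.obj Y) :
    S u R (u.map h ≫ f) = (S u R f).pullback h := by
  ext W k
  change R (u.map k ≫ u.map h ≫ f) ↔ R (u.map (k ≫ h) ≫ f)
  rw [u.map_comp, Category.assoc]

/-- the characteristic map -/
def χ : u.op ⋙ yoneda.obj (u.obj Y) ⟶ (Functor.closedSieves J).toFunctor where
  app Z := ↾fun (f : u.obj Z.unop ⟶ u.obj Y) =>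
    (⟨J.close (S u R f), J.close_isClosed _⟩ : (Functor.closedSieves J).toFunctor.obj Z)
  naturality := by
    intro Z Z' h
    ext f
    apply Subtype.ext
    change J.close (S u R (u.map h.unop ≫ f)) = (J.close (S u R f)).pullback h.unop
    rw [S_pullback, J.pullback_close]

/-- the constant map with value the maximal sieve -/
def τ : u.op ⋙ yoneda.obj (u.obj Y) ⟶ (Functor.closedSieves J).toFunctor where
  app Z := ↾fun (_ : u.obj Z.unop ⟶ u.obj Y) =>
    (⟨(⊤ : Sieve Z.unop), fun _ _ _ => trivial⟩ :
      (Functor.closedSieves J).toFunctor.obj Z)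
  naturality := by
    intro Z Z' h
    ext f
    apply Subtype.ext
    change (⊤ : Sieve Z'.unop) = (⊤ : Sieve Z.unop).pullback h.unop
    rw [Sieve.pullback_top]

lemma χ_eq_τ_on :
    Functor.whiskerLeft u.op R.functorInclusion ≫ χ J u R =
      Functor.whiskerLeft u.op R.functorInclusion ≫ τ J u := by
  ext Z ⟨f, hf⟩
  apply Subtype.ext
  change J.close (S u R f) = ⊤
  have : S u R f = ⊤ := by
    ext W k
    simp only [Sieve.top_apply, iff_true]
    exact R.downward_closed hf _
  rw [this, J.close_eq_top_iff_mem]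
  exact J.top_mem _

end


/-- Let `u : C ⥤ C'` be a functor between small sites. If the right Kan extension along `u` of the
underlying presheaf of every sheaf of sets on `C` is a sheaf on `C'`, then `u` is cocontinuous: for
every object `Y` of `C` and every covering sieve `R` of `u Y`, the sieve of morphisms `g : Z ⟶ Y`
with `u g ∈ R` covers `Y`. -/
theorem result
    {C : Type u} [SmallCategory C] {C' : Type u} [SmallCategory C']
    (J : GrothendieckTopology C) (J' : GrothendieckTopology C') (u : C ⥤ C')
    (h : ∀ G : Sheaf J (Type u), Presheaf.IsSheaf J' ((u.op.ran).obj G.obj)) :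
    u.IsCocontinuous J J' := by
  constructor
  intro Y R hR
  let Ω : Sheaf J (Type u) := ⟨(Functor.closedSieves J).toFunctor,
    (isSheaf_iff_isSheaf_of_type J _).2 (classifier_isSheaf J)⟩
  have hΩ : Presieve.IsSheaf J' ((u.op.ran).obj Ω.obj) :=
    (isSheaf_iff_isSheaf_of_type J' _).1 (h Ω)
  have hy := (Presieve.isSheafFor_iff_yonedaSheafCondition).1 (hΩ R hR)
  let adj := u.op.ranAdjunction (Type u)
  have e : adj.homEquiv _ _ (χ J u R) = adj.homEquiv _ _ (τ J u) := by
    obtain ⟨g, -, hg⟩ := hy (R.functorInclusion ≫ adj.homEquiv _ _ (χ J u R))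
    refine (hg (adj.homEquiv _ _ (χ J u R)) rfl).trans (hg (adj.homEquiv _ _ (τ J u)) ?_).symm
    change R.functorInclusion ≫ adj.homEquiv _ _ (τ J u) =
      R.functorInclusion ≫ adj.homEquiv _ _ (χ J u R)
    rw [← Adjunction.homEquiv_naturality_left, ← Adjunction.homEquiv_naturality_left]
    congr 1
    exact (χ_eq_τ_on J u R).symm
  have e' : χ J u R = τ J u := (adj.homEquiv _ _).injective e
  have e'' := congrArg (fun t : u.op ⋙ yoneda.obj (u.obj Y) ⟶ (Functor.closedSieves J).toFunctor =>
    ((t.app (op Y)) (𝟙 (u.obj Y))).1) e'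
  change J.close (S u R (𝟙 _)) = ⊤ at e''
  rw [J.close_eq_top_iff_mem] at e''
  convert e'' using 1
  ext W k
  change R (u.map k) ↔ R (u.map k ≫ 𝟙 _)
  rw [Category.comp_id]

end Groth.Agent.S6128
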