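import Groth.Statements.S6129
import Mathlib.Tactic
import Mathlib.CategoryTheory.Functor.KanExtension.Adjunction
import Mathlib.CategoryTheory.Limits.Types.Pullbacks
import Mathlib.CategoryTheory.Adjunction.FullyFaithful

set_option autoImplicit false
open CategoryTheory CategoryTheory.Limits
universe u
open SGA4

namespace Groth.Agent.S6129

open Opposite

section
variable {C : Type u} [SmallCategory C] {C' : Type u} [SmallCategory C'] (u : C ⥤ C') [u.Faithful]
  (hu : ∀ X : C, (Over.post (X := X) u).Full ∧ (Over.post (X := X) u).Faithful)
  (H : Cᵒᵖ ⥤ Type u) (Y : C)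

/-- the indexing category of the pointwise colimit -/
abbrev Idx := CostructuredArrow u.op (op (u.obj Y))

/-- the condition that the structure map is in the image of `u` -/
def InIm (f : Idx u Y) : Prop := ∃ s : Y ⟶ f.left.unop, u.map s = f.hom.unop

lemma inIm_unique (f : Idx u Y) (s s' : Y ⟶ f.left.unop) (hs : u.map s = f.hom.unop)
    (hs' : u.map s' = f.hom.unop) : s = s' := u.map_injective (hs.trans hs'.symm)

include hu in
lemma inIm_iff {f f' : Idx u Y} (a : f ⟶ f') : InIm u Y f ↔ InIm u Y f' := by
  have hw : f'.hom.unop ≫ u.map a.left.unop = f.hom.unop := by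
    have := CostructuredArrow.w a
    exact congrArg Quiver.Hom.unop this
  constructor
  · rintro ⟨s, hs⟩
    haveI := (hu f.left.unop).1
    let A : Over f.left.unop := Over.mk s
    let B : Over f.left.unop := Over.mk a.left.unop
    let g : (Over.post u).obj A ⟶ (Over.post u).obj B :=
      Over.homMk f'.hom.unop (by
        change f'.hom.unop ≫ u.map a.left.unop = u.map s
        rw [hw, hs])
    obtain ⟨t, ht⟩ := (Over.post (X := f.left.unop) u).map_surjective g
    refine ⟨t.left, ?_⟩
    have := congrArg CommaMorphism.left ht
    exact this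
  · rintro ⟨s', hs'⟩
    exact ⟨s' ≫ a.left.unop, by rw [u.map_comp, hs', hw]⟩


open Classical in
/-- the retraction on each component -/
noncomputable def retr (f : Idx u Y) (h : H.obj f.left) : Option (H.obj (op Y)) :=
  if hs : InIm u Y f then some (H.map hs.choose.op h) else none

lemma retr_of_inIm (f : Idx u Y) (h : H.obj f.left) (s : Y ⟶ f.left.unop)
    (hs : u.map s = f.hom.unop) : retr u H Y f h = some (H.map s.op h) := by
  have hI : InIm u Y f := ⟨s, hs⟩
  unfold retr
  rw [dif_pos hI]
  have : hI.choose = s := inIm_unique u Y f _ _ hI.choose_spec hs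
  rw [this]

lemma retr_of_not_inIm (f : Idx u Y) (h : H.obj f.left) (hI : ¬ InIm u Y f) :
    retr u H Y f h = none := by
  unfold retr
  rw [dif_neg hI]

include hu in
lemma retr_nat {f f' : Idx u Y} (a : f ⟶ f') (h : H.obj f.left) :
    retr u H Y f' (H.map a.left h) = retr u H Y f h := by
  have hw : f'.hom.unop ≫ u.map a.left.unop = f.hom.unop := by
    have := CostructuredArrow.w a
    exact congrArg Quiver.Hom.unop this
  by_cases hI : InIm u Y f'
  · obtain ⟨s', hs'⟩ := hI
    have hs : u.map (s' ≫ a.left.unop) = f.hom.unop := by rw [u.map_comp, hs', hw]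
    rw [retr_of_inIm u H Y f' _ s' hs', retr_of_inIm u H Y f _ _ hs]
    congr 1
    have : (s' ≫ a.left.unop).op = a.left ≫ s'.op := rfl
    rw [this, H.map_comp]
    rfl
  · have hI' : ¬ InIm u Y f := fun h' => hI ((inIm_iff u hu Y a).1 h')
    rw [retr_of_not_inIm u H Y f' _ hI, retr_of_not_inIm u H Y f _ hI']

/-- the retraction cocone -/
noncomputable def rcocone : Cocone (CostructuredArrow.proj u.op (op (u.obj Y)) ⋙ H) where
  pt := Option (H.obj (op Y))
  ι :=
    { app := fun f => ↾(retr u H Y f)
      naturality := fun f f' a => by
        ext h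
        exact retr_nat u hu H Y a h }


/-- the pointwise colimit property of the left Kan extension -/
noncomputable def isCol :
    IsColimit ((Functor.LeftExtension.mk _ (u.op.leftKanExtensionUnit H)).coconeAt
      (op (u.obj Y))) :=
  Functor.isPointwiseLeftKanExtensionLeftKanExtensionUnit u.op H (op (u.obj Y))

/-- the retraction map -/
noncomputable def ρ : (u.op.leftKanExtension H).obj (op (u.obj Y)) ⟶ Option (H.obj (op Y)) :=
  (isCol u H Y).desc (rcocone u hu H Y)

lemma ρ_apply (f : Idx u Y) (h : H.obj f.left) :
    ρ u hu H Y ((u.op.leftKanExtension H).map f.hom ((u.op.leftKanExtensionUnit H).app f.left h)) =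
      retr u H Y f h := by
  have := (isCol u H Y).fac (rcocone u hu H Y) f
  exact ConcreteCategory.congr_hom this h

lemma ρ_unit (h : H.obj (op Y)) :
    ρ u hu H Y ((u.op.leftKanExtensionUnit H).app (op Y) h) = some h := by
  have := ρ_apply u hu H Y (CostructuredArrow.mk (𝟙 _)) h
  simp only [CostructuredArrow.mk_hom_eq_self, CostructuredArrow.mk_left] at this
  rw [(u.op.leftKanExtension H).map_id] at this
  rw [show (𝟙 ((u.op.leftKanExtension H).obj (u.op.obj (op Y))) :
    (u.op.leftKanExtension H).obj (u.op.obj (op Y)) → _) = id from rfl] at this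
  rw [id] at this
  rw [this]
  refine (retr_of_inIm u H Y (CostructuredArrow.mk (𝟙 _)) h (𝟙 Y) (by simp)).trans ?_
  simp

include hu in
lemma unit_injective : Function.Injective ((u.op.leftKanExtensionUnit H).app (op Y)) := by
  intro h h' e
  have := congrArg (ρ u hu H Y) e
  rw [ρ_unit, ρ_unit] at this
  exact Option.some_injective _ this

lemma exists_rep (e : (u.op.leftKanExtension H).obj (op (u.obj Y))) :
    ∃ (f : Idx u Y) (h : H.obj f.left),
      (u.op.leftKanExtension H).map f.hom ((u.op.leftKanExtensionUnit H).app f.left h) = e := by
  obtain ⟨f, h, hh⟩ := Types.jointly_surjective_of_isColimit (isCol u H Y) e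
  exact ⟨f, h, hh⟩

end


/-- Let `u : C ⥤ C'` be a faithful functor between small categories such that for every object `X` of
`C` the induced functor on over-categories `C/X ⥤ C'/u X` is full and faithful. Then the left Kan
extension functor `u_!` on presheaves of sets is faithful, the unit `H ⟶ u^* u_! H` of the
adjunction `u_! ⊣ u^*` is a monomorphism for every presheaf `H`, and for every morphism of
presheaves `α : H ⟶ K` the naturality square of the unit at `α` (with sides `α` and `u^* u_! α`) is
cartesian. (The published statement assumes only the condition on the slice functors, and its proof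
uses that `u` is faithful; the slice condition alone does not suffice: for a nontrivial group viewed
as a one-object category mapping to the point every slice functor is an equivalence, while `u_!` is
the orbit-set functor on `G`-sets, which is not faithful, and the unit `G ⟶ G/G` is not a
monomorphism. So `u` is taken faithful here.) -/
theorem result
    {C : Type u} [SmallCategory C] {C' : Type u} [SmallCategory C'] (u : C ⥤ C') [u.Faithful]
    (hu : ∀ X : C, (Over.post (X := X) u).Full ∧ (Over.post (X := X) u).Faithful) :
    (u.op.lan : (Cᵒᵖ ⥤ Type u) ⥤ (C'ᵒᵖ ⥤ Type u)).Faithful ∧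
    (∀ H : Cᵒᵖ ⥤ Type u, Mono ((u.op.lanAdjunction (Type u)).unit.app H)) ∧
    ∀ (H K : Cᵒᵖ ⥤ Type u) (α : H ⟶ K),
      IsPullback ((u.op.lanAdjunction (Type u)).unit.app H) α
        (((Functor.whiskeringLeft Cᵒᵖ C'ᵒᵖ (Type u)).obj u.op).map (u.op.lan.map α))
        ((u.op.lanAdjunction (Type u)).unit.app K) := by
  have hmono : ∀ H : Cᵒᵖ ⥤ Type u, Mono ((u.op.lanAdjunction (Type u)).unit.app H) := by
    intro H
    rw [Functor.lanAdjunction_unit]
    haveI : ∀ X, Mono ((u.op.lanUnit.app H).app X) := by
      intro X
      rw [mono_iff_injective]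
      exact unit_injective u hu H X.unop
    exact NatTrans.mono_of_mono_app _
  refine ⟨?_, hmono, ?_⟩
  · haveI := hmono
    exact (u.op.lanAdjunction (Type u)).faithful_L_of_mono_unit_app
  · intro H K α
    rw [Functor.lanAdjunction_unit]
    apply IsPullback.of_forall_isPullback_app
    intro X
    obtain ⟨Y⟩ := X
    rw [Types.isPullback_iff]
    refine ⟨?_, ?_, ?_⟩
    · exact (NatTrans.congr_app (u.op.lanUnit.naturality α) (op Y)).symm
    · rintro x y ⟨h1, -⟩
      exact unit_injective u hu H Y h1
    · intro e k hek
      obtain ⟨f, h₀, rfl⟩ := exists_rep u H Y e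
      have hnat : ∀ (Z : Cᵒᵖ) (z : H.obj Z),
          (u.op.lan.map α).app (u.op.obj Z) ((u.op.leftKanExtensionUnit H).app Z z) =
            (u.op.leftKanExtensionUnit K).app Z (α.app Z z) := by
        intro Z z
        have := NatTrans.congr_app (u.op.lanUnit.naturality α) Z
        exact (ConcreteCategory.congr_hom this z).symm
      -- transport hek
      have h1 : (u.op.lan.map α).app (op (u.obj Y))
          ((u.op.leftKanExtension H).map f.hom ((u.op.leftKanExtensionUnit H).app f.left h₀)) =
          (u.op.leftKanExtension K).map f.hom
            ((u.op.leftKanExtensionUnit K).app f.left (α.app f.left h₀)) := by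
        have := (u.op.lan.map α).naturality f.hom
        have h2 := ConcreteCategory.congr_hom this ((u.op.leftKanExtensionUnit H).app f.left h₀)
        refine h2.trans ?_
        exact congrArg ((u.op.leftKanExtension K).map f.hom) (hnat f.left h₀)
      have h3 : retr u K Y f (α.app f.left h₀) = some k := by
        rw [← ρ_apply u hu K Y f, ← ρ_unit u hu K Y k]
        congr 1
        exact h1.symm.trans hek
      by_cases hI : InIm u Y f
      · obtain ⟨s, hs⟩ := hI
        rw [retr_of_inIm u K Y f _ s hs] at h3
        have h4 : K.map s.op (α.app f.left h₀) = k := Option.some_injective _ h3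
        refine ⟨H.map s.op h₀, ?_, ?_⟩
        · have := (u.op.leftKanExtensionUnit H).naturality s.op
          have h5 := ConcreteCategory.congr_hom this h₀
          refine h5.trans ?_
          have : u.op.map s.op = f.hom := by
            change (u.map s).op = f.hom
            rw [hs]
            rfl
          change (u.op.leftKanExtension H).map (u.op.map s.op) _ = _
          rw [this]
          rfl
        · have := α.naturality s.op
          have h5 := ConcreteCategory.congr_hom this h₀
          exact h5.trans h4
      · rw [retr_of_not_inIm u K Y f _ hI] at h3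
        exact absurd h3 (by simp)

end Groth.Agent.S6129
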