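import Groth.Statements.S6131
-- import your own Groth.Agent.* helpers here

set_option autoImplicit false
open CategoryTheory CategoryTheory.Limits
universe u
open SGA4

namespace Groth.Agent.S6131

/-- The presheaf `Y ↦ (⊥ ∈ J Y)`; it is the initial sheaf. -/
def F0 {C : Type u} [SmallCategory C] (J : GrothendieckTopology C) : Cᵒᵖ ⥤ Type u where
  obj Y := ULift (PLift ((⊥ : Sieve Y.unop) ∈ J Y.unop))
  map {Y Z} f := TypeCat.ofHom fun x => ⟨⟨by
    have := J.pullback_stable f.unop x.down.down
    rwa [Sieve.pullback_bot] at this⟩⟩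
  map_id _ := by ext; exact Subsingleton.elim _ _
  map_comp _ _ := by ext; exact Subsingleton.elim _ _

instance F0_subsingleton {C : Type u} [SmallCategory C] (J : GrothendieckTopology C) (Y : Cᵒᵖ) :
    Subsingleton ((F0 J).obj Y) :=
  inferInstanceAs (Subsingleton (ULift (PLift ((⊥ : Sieve Y.unop) ∈ J Y.unop))))

theorem F0_isSheaf {C : Type u} [SmallCategory C] (J : GrothendieckTopology C) :
    Presieve.IsSheaf J (F0 J) := by
  intro Y S hS x _
  have ht : (⊥ : Sieve Y) ∈ J Y := by
    refine J.transitive hS ⊥ fun Z f hf => ?_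
    rw [Sieve.pullback_bot]
    exact (x f hf).down.down
  exact ⟨⟨⟨ht⟩⟩, fun _ _ _ => Subsingleton.elim _ _, fun _ _ => Subsingleton.elim _ _⟩

/-- For a small site `(C, J)` and an object `X` of `C`, the sheaf associated to the presheaf represented
by `X` is an initial object of the category of sheaves of sets if and only if the empty sieve covers
`X`. -/
theorem result
    {C : Type u} [SmallCategory C] (J : GrothendieckTopology C) (X : C) :
    Nonempty (IsInitial ((presheafToSheaf J (Type u)).obj (yoneda.obj X))) ↔ (⊥ : Sieve X) ∈ J X := by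
  constructor
  · rintro ⟨hI⟩
    let G : Sheaf J (Type u) := ⟨F0 J, (isSheaf_iff_isSheaf_of_type _ _).mpr (F0_isSheaf J)⟩
    let φ := hI.to G
    let ψ := (sheafificationAdjunction J (Type u)).homEquiv (yoneda.obj X) G φ
    exact (yonedaEquiv ψ).down.down
  · intro h
    have : ∀ G : Sheaf J (Type u),
        Unique ((presheafToSheaf J (Type u)).obj (yoneda.obj X) ⟶ G) := by
      intro G
      have hT : IsTerminal (G.1.obj (Opposite.op X)) := Sheaf.isTerminalOfBotCover G X h
      have hU : Unique (((sheafToPresheaf J (Type u)).obj G).obj (Opposite.op X)) :=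
        (Types.isTerminalEquivUnique _).toFun hT
      exact Equiv.unique (((sheafificationAdjunction J (Type u)).homEquiv (yoneda.obj X) G).trans
        yonedaEquiv)
    exact ⟨IsInitial.ofUnique _⟩

end Groth.Agent.S6131
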