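import Groth.Statements.S6134
import Groth.Agent.Lib.Helper13.ToposEps5

set_option autoImplicit false
open CategoryTheory CategoryTheory.Limits
universe u
open SGA4

namespace Groth.Agent.S6134

/-- Let `C` be a small category with topologies `J ≤ J'` (every `J`-covering sieve is `J'`-covering),
`X` an object and `s i : Y i ⟶ X` a family of morphisms. If the associated `J`-sheaf of the presheaf
represented by `X`, with the maps induced by the `s i`, is a coproduct of the associated `J`-sheaves
of the `Y i` (in sheaves of sets), then the same holds for `J'`. -/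
theorem result
    {C : Type u} [SmallCategory C] {J J' : GrothendieckTopology C} (hJ : J ≤ J')
    {X : C} {ι : Type u} (Y : ι → C) (s : ∀ i, Y i ⟶ X)
    (h : Nonempty (IsColimit (Cofan.mk ((presheafToSheaf J (Type u)).obj (yoneda.obj X))
      (fun i => (presheafToSheaf J (Type u)).map (yoneda.map (s i)))))) :
    Nonempty (IsColimit (Cofan.mk ((presheafToSheaf J' (Type u)).obj (yoneda.obj X))
      (fun i => (presheafToSheaf J' (Type u)).map (yoneda.map (s i))))) := by
  have h1 := (Groth.Agent.Lib.Helper13.ToposQC.isColimit_cofan_eps_iff J Y s).1 h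
  refine (Groth.Agent.Lib.Helper13.ToposQC.isColimit_cofan_eps_iff J' Y s).2 ?_
  intro F
  have hF : Presheaf.IsSheaf J F.obj :=
    (isSheaf_iff_isSheaf_of_type J F.obj).2
      (Presieve.isSheaf_of_le F.obj hJ ((isSheaf_iff_isSheaf_of_type J' F.obj).1 F.property))
  exact h1 ⟨F.obj, hF⟩

end Groth.Agent.S6134
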