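import Groth.Statements.S6137
import Mathlib.Tactic
import Mathlib.CategoryTheory.Limits.Elements
import Mathlib.CategoryTheory.Limits.Constructions.WeaklyInitial
import Mathlib.CategoryTheory.Limits.Indization.IndObject
import Mathlib.CategoryTheory.Limits.Yoneda
import Mathlib.CategoryTheory.Limits.FunctorCategory.Basic

set_option autoImplicit false
open CategoryTheory CategoryTheory.Limits
universe v u
open SGA4

namespace Groth.Agent.S6137

open Opposite

section
variable {C : Type u} [Category.{v} C]

/-- universal elements of the presentation -/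
def elt (F : C ⥤ Type v) (P : IndObjectPresentation (unopUnop C ⋙ F)) (i : P.I) : F.Elements :=
  ⟨(P.F.obj i).unop, (P.ι.app i).app (op (P.F.obj i)) (𝟙 (P.F.obj i))⟩

lemma weakly_initial (F : C ⥤ Type v) (P : IndObjectPresentation (unopUnop C ⋙ F))
    (A : F.Elements) : ∃ i : P.I, Nonempty (elt F P i ⟶ A) := by
  obtain ⟨Y, y⟩ := A
  have hcol := isColimitOfPreserves ((evaluation (Cᵒᵖ)ᵒᵖ (Type v)).obj (op (op Y))) P.isColimit
  obtain ⟨i, g, hg⟩ := Types.jointly_surjective_of_isColimit hcol y
  have hnat := congrArg (fun t => t (𝟙 (P.F.obj i)))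
    (congrArg ConcreteCategory.hom ((P.ι.app i).naturality (show op Y ⟶ P.F.obj i from g).op))
  refine ⟨i, ⟨⟨(show op Y ⟶ P.F.obj i from g).unop, ?_⟩⟩⟩
  refine hnat.symm.trans ?_
  have h1 : (ConcreteCategory.hom (((P.F ⋙ yoneda).obj i).map (show op Y ⟶ P.F.obj i from g).op))
      (𝟙 (P.F.obj i)) = g := Category.comp_id (show op Y ⟶ P.F.obj i from g)
  change (ConcreteCategory.hom ((P.ι.app i).app (op (op Y))))
    ((ConcreteCategory.hom (((P.F ⋙ yoneda).obj i).map (show op Y ⟶ P.F.obj i from g).op))
      (𝟙 (P.F.obj i))) = y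
  rw [h1]
  exact hg


lemma corep_of (F : C ⥤ Type v) [HasLimitsOfSize.{v, v} C]
    (P : IndObjectPresentation (unopUnop C ⋙ F)) [PreservesLimitsOfSize.{v, v} F] :
    F.IsCorepresentable := by
  haveI : HasProducts.{v} F.Elements := fun J => inferInstance
  haveI : HasWideEqualizers.{v} F.Elements := fun J => inferInstance
  obtain ⟨T, hT⟩ := has_weakly_initial_of_weakly_initial_set_and_hasProducts
    (B := elt F P) (weakly_initial F P)
  haveI := hasInitial_of_weakly_initial_and_hasWideEqualizers hT
  exact Functor.Elements.isCorepresentable_of_hasInitial F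

/-- yoneda on the opposite category versus coyoneda -/
def yonedaOpIso (X : C) : yoneda.obj (op X) ≅ unopUnop C ⋙ coyoneda.obj (op X) :=
  NatIso.ofComponents (fun Z => (opEquiv _ _).toIso) (by
    intro Z Z' f
    ext g
    rfl)

end


/-- Let `C` be a category with `v`-small hom-sets admitting all `v`-small limits, and `F : C ⥤ Type v` a
functor. Then `F` is corepresentable if and only if it is pro-representable (viewed as a presheaf on
`Cᵒᵖ` it is an ind-object, i.e. a small filtered colimit of corepresentable functors) and preserves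
all `v`-small limits. -/
theorem result
    {C : Type u} [Category.{v} C] [HasLimitsOfSize.{v, v} C] (F : C ⥤ Type v) :
    F.IsCorepresentable ↔
      IsIndObject (unopUnop C ⋙ F) ∧ PreservesLimitsOfSize.{v, v} F := by
  constructor
  · intro hF
    constructor
    · have h := isIndObject_yoneda (op F.coreprX)
      exact h.map ((yonedaOpIso F.coreprX).hom ≫ Functor.whiskerLeft (unopUnop C) F.coreprW.hom)
    · exact preservesLimits_of_natIso F.coreprW
  · rintro ⟨h1, h2⟩
    exact corep_of F h1.presentation

end Groth.Agent.S6137
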