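import Groth.Statements.S6138
import Mathlib.CategoryTheory.Limits.Types.Equalizers
import Mathlib.CategoryTheory.Limits.Shapes.Opposites.Equalizers
import Mathlib.CategoryTheory.Limits.Preserves.Shapes.Equalizers
import Mathlib.CategoryTheory.Limits.Shapes.RegularMono

set_option autoImplicit false
open CategoryTheory CategoryTheory.Limits Opposite
universe v u
open SGA4

namespace Groth.Agent.S6138

/-- Let `C` have coequalizers and pullbacks, let `F` be a presheaf of sets on `C` taking coequalizers of
`C` to equalizers, and let `u ∈ F(X)`, viewed as a morphism `h_X ⟶ F`. Then this morphism is a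
monomorphism (the map `v ↦ F(v)(u)` is injective on `Hom(Y, X)` for every `Y`) if and only if `u` is
minimal: whenever `u = F(p)(u')` for an effective epimorphism `p : X ⟶ X'` and some `u' ∈ F(X')`,
`p` is an isomorphism. (Coequalizers are used for one implication and pullbacks for the other; both
are assumed here.) -/
theorem result
    {C : Type u} [Category.{v} C] [HasCoequalizers C] [HasPullbacks C]
    (F : Cᵒᵖ ⥤ Type v) [PreservesLimitsOfShape WalkingParallelPair F]
    {X : C} (u : F.obj (op X)) :
    (∀ (Y : C) (v v' : Y ⟶ X), F.map v.op u = F.map v'.op u → v = v') ↔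
      ∀ (X' : C) (p : X ⟶ X') (u' : F.obj (op X')),
        EffectiveEpi p → F.map p.op u' = u → IsIso p := by
  constructor
  · intro hinj X' p u' hp hu
    have hmono : ∀ {Z : C} (g₁ g₂ : Z ⟶ X), g₁ ≫ p = g₂ ≫ p → g₁ = g₂ := by
      intro Z g₁ g₂ h
      apply hinj
      rw [← hu]
      have key : ∀ g : Z ⟶ X, F.map g.op (F.map p.op u') = F.map (g ≫ p).op u' := by
        intro g
        rw [op_comp, F.map_comp]
        rfl
      rw [key, key, h]
    obtain ⟨s⟩ := hp.effectiveEpi
    have hd : p ≫ s.desc (𝟙 X) (fun g₁ g₂ h => by
        rw [Category.comp_id, Category.comp_id]; exact hmono g₁ g₂ h) = 𝟙 X := s.fac _ _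
    haveI : Epi p := inferInstance
    refine ⟨_, hd, ?_⟩
    rw [← cancel_epi p, ← Category.assoc, hd, Category.id_comp, Category.comp_id]
  · intro hmin Y v v' hvv'
    have w : v ≫ coequalizer.π v v' = v' ≫ coequalizer.π v v' := coequalizer.condition v v'
    have w' : (coequalizer.π v v').op ≫ v.op = (coequalizer.π v v').op ≫ v'.op := by
      rw [← op_comp, ← op_comp, w]
    have hlim : IsLimit (Fork.ofι (coequalizer.π v v').op w') :=
      Cofork.isColimitOfπEquivIsLimitOp (coequalizer.π v v') (coequalizer.π v v') w w' rfl
        (coequalizerIsCoequalizer v v')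
    have hlimF := isLimitForkMapOfIsLimit F w' hlim
    obtain ⟨u', hu', -⟩ := Types.unique_of_type_equalizer _ _ hlimF u hvv'
    haveI : IsIso (coequalizer.π v v') := hmin _ (coequalizer.π v v') u' inferInstance hu'
    rw [← cancel_mono (coequalizer.π v v')]
    exact w

end Groth.Agent.S6138
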