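import Groth.Statements.S6139
-- import your own Groth.Agent.* helpers here

set_option autoImplicit false
open CategoryTheory CategoryTheory.Limits
universe v u
open SGA4

namespace Groth.Agent.S6139

theorem initial_of_bot_mem {C : Type u} [Category.{v} C] (Y : C)
    (h : (⊥ : Sieve Y) ∈ Sheaf.canonicalTopology C Y) : Nonempty (IsInitial Y) := by
  have key : ∀ Z : C, Nonempty (Unique (Y ⟶ Z)) := by
    intro Z
    have hs := Sheaf.isSheaf_yoneda_obj (C := C) Z (⊥ : Sieve Y) h
    obtain ⟨t, -, ht⟩ := hs (fun _ _ hf => hf.elim) (fun _ _ _ _ _ _ _ h₁ => h₁.elim)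
    exact ⟨⟨⟨t⟩, fun a => ht a (fun _ _ hf => hf.elim)⟩⟩
  have : ∀ Z : C, Unique (Y ⟶ Z) := fun Z => (key Z).some
  exact ⟨IsInitial.ofUnique Y⟩

/-- For an object `X` of a category `C`, the empty sieve on `X` is covering for the canonical topology
of `C` (the finest topology for which every representable presheaf is a sheaf) if and only if `X` is
a strict initial object: `X` is initial and every morphism with target `X` is an isomorphism. (The
source phrases the first condition as: for some topology coarser than the canonical one the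
associated sheaf of `h_X` is initial; that sheaf is initial exactly when the empty sieve covers `X`,
and coverage by the empty sieve passes to the finer canonical topology.) -/
theorem result
    {C : Type u} [Category.{v} C] (X : C) :
    (⊥ : Sieve X) ∈ Sheaf.canonicalTopology C X ↔
      (Nonempty (IsInitial X) ∧ ∀ (Y : C) (f : Y ⟶ X), IsIso f) := by
  constructor
  · intro h
    refine ⟨initial_of_bot_mem X h, fun Y f => ?_⟩
    obtain ⟨hX⟩ := initial_of_bot_mem X h
    have hY' : (⊥ : Sieve Y) ∈ Sheaf.canonicalTopology C Y := by
      have := (Sheaf.canonicalTopology C).pullback_stable f h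
      rwa [Sieve.pullback_bot] at this
    obtain ⟨hY⟩ := initial_of_bot_mem Y hY'
    exact ⟨hX.to Y, hY.hom_ext _ _, hX.hom_ext _ _⟩
  · rintro ⟨⟨hX⟩, hiso⟩
    apply Sheaf.mem_finestTopology_of_forall_isSheafFor
    rintro P ⟨Z, rfl⟩ Y f
    have := hiso Y f
    have hY : IsInitial Y := hX.ofIso (asIso f).symm
    rw [Sieve.pullback_bot]
    intro x _
    refine ⟨hY.to Z, fun _ _ hf => hf.elim, fun a _ => hY.hom_ext _ _⟩

end Groth.Agent.S6139
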