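import Groth.Statements.S6140
import Groth.Agent.Lib.Helper13.ToposGiraud4

set_option autoImplicit false
open CategoryTheory CategoryTheory.Limits
universe u
open SGA4

namespace Groth.Agent.S6140

open Groth.Agent.Lib.Helper13.ToposQC ToposFin

/-- Let `C` be a small category with pullbacks, `p₁ p₂ : R ⇉ X` an equivalence relation in `C` admitting
a coequalizer cofork `c`, and `ε` the canonical functor to sheaves of sets for the canonical
topology of `C`. Then the equivalence relation is effective and universal (`R` is the kernel pair of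
the quotient map, which is a coequalizer all of whose base changes are effective epimorphisms) if
and only if `ε` takes `c` to a coequalizer of `ε p₁, ε p₂`. (For a small category every topology has
a small topologically generating family, so both implications of the published statement apply. The
published statement asks only that the quotient map have all base changes; this row assumes that `C`
has all pullbacks.) -/
theorem result
    {C : Type u} [SmallCategory C] [HasPullbacks C] {R X : C} (p₁ p₂ : R ⟶ X)
    (hR : SGA4.IsEquivRel p₁ p₂) (c : Cofork p₁ p₂) (hc : IsColimit c) :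
    SGA4.IsEffectiveUniversalEquivRel p₁ p₂ ↔
      Nonempty (IsColimit ((yoneda ⋙ presheafToSheaf (Sheaf.canonicalTopology C) (Type u)).mapCocone c)) := by
  have hsub : ∀ T : C, Presieve.IsSheaf (Sheaf.canonicalTopology C) (yoneda.obj T) :=
    fun T => Sheaf.isSheaf_yoneda_obj T
  have hc0 : IsColimit (Cofork.ofπ c.π c.condition) :=
    IsColimit.ofIsoColimit hc (Cofork.isoCoforkOfπ c)
  have hsieve : ∀ {B : C} (π : X ⟶ B),
      Sieve.ofArrows (fun _ : PUnit.{u + 1} => X) (fun _ => π) = Sieve.generateSingleton π := by
    intro B π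
    rw [← Sieve.generateSingleton_eq, ← Presieve.ofArrows_pUnit.{_, _, u}]
  constructor
  · rintro ⟨B, π, hpb, hpo, heff⟩
    have hπ : IsColimit (Cofork.ofπ π hpo.w) := isColimitCoforkOfIsPushout p₁ p₂ hpo
    have hcov : Sieve.ofArrows (fun _ : PUnit.{u + 1} => X) (fun _ => π) ∈
        Sheaf.canonicalTopology C B := by
      rw [hsieve]
      exact (generateSingleton_mem_canonical_iff π).2 heff
    have hjls := jls_epsMap_of_ofArrows_mem (Sheaf.canonicalTopology C) _ _ hcov
    have hepi : Epi (epsMap (Sheaf.canonicalTopology C) π) :=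
      ⟨fun a b h => cancel_of_jls _ hjls _ a b (fun _ => h)⟩
    have hkp : IsPullback (epsMap (Sheaf.canonicalTopology C) p₁)
        (epsMap (Sheaf.canonicalTopology C) p₂) (epsMap (Sheaf.canonicalTopology C) π)
        (epsMap (Sheaf.canonicalTopology C) π) :=
      hpb.map (yoneda ⋙ presheafToSheaf (Sheaf.canonicalTopology C) (Type u))
    have hreg : IsRegularEpi (epsMap (Sheaf.canonicalTopology C) π) :=
      IsRegularEpiCategory.regularEpiOfEpi _
    have hcol : IsColimit (Cofork.ofπ (epsMap (Sheaf.canonicalTopology C) π) hkp.w) :=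
      IsKernelPair.toCoequalizer' hkp
    have h1 : IsColimit ((yoneda ⋙ presheafToSheaf (Sheaf.canonicalTopology C) (Type u)).mapCocone
        (Cofork.ofπ π hpo.w)) :=
      (isColimitMapCoconeCoforkEquiv
        (yoneda ⋙ presheafToSheaf (Sheaf.canonicalTopology C) (Type u)) hpo.w).symm hcol
    exact ⟨IsColimit.ofIsoColimit h1 ((Cocone.functoriality _
      (yoneda ⋙ presheafToSheaf (Sheaf.canonicalTopology C) (Type u))).mapIso
      (hc.uniqueUpToIso hπ).symm)⟩
  · rintro ⟨hcε⟩
    have h1 : IsColimit ((yoneda ⋙ presheafToSheaf (Sheaf.canonicalTopology C) (Type u)).mapCocone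
        (Cofork.ofπ c.π c.condition)) :=
      IsColimit.ofIsoColimit hcε ((Cocone.functoriality _
        (yoneda ⋙ presheafToSheaf (Sheaf.canonicalTopology C) (Type u))).mapIso
        (Cofork.isoCoforkOfπ c))
    have w' : epsMap (Sheaf.canonicalTopology C) p₁ ≫ epsMap (Sheaf.canonicalTopology C) c.π =
        epsMap (Sheaf.canonicalTopology C) p₂ ≫ epsMap (Sheaf.canonicalTopology C) c.π := by
      change (yoneda ⋙ presheafToSheaf (Sheaf.canonicalTopology C) (Type u)).map p₁ ≫
        (yoneda ⋙ presheafToSheaf (Sheaf.canonicalTopology C) (Type u)).map c.π =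
        (yoneda ⋙ presheafToSheaf (Sheaf.canonicalTopology C) (Type u)).map p₂ ≫
        (yoneda ⋙ presheafToSheaf (Sheaf.canonicalTopology C) (Type u)).map c.π
      rw [← Functor.map_comp, ← Functor.map_comp, c.condition]
    have h2 : IsColimit (Cofork.ofπ (epsMap (Sheaf.canonicalTopology C) c.π) w') :=
      isColimitMapCoconeCoforkEquiv
        (yoneda ⋙ presheafToSheaf (Sheaf.canonicalTopology C) (Type u)) c.condition h1
    obtain ⟨r₀, hr1, hr2⟩ := (hR X).2.refl (𝟙 X)
    refine ⟨c.pt, c.π, isPullback_of_isColimit_eps _ hsub p₁ p₂ hR c.π c.condition w' h2,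
      isPushout_of_refl_of_isColimit p₁ p₂ r₀ hr1 hr2 c.π c.condition hc0, ?_⟩
    rw [← generateSingleton_mem_canonical_iff, ← hsieve]
    have hepi : Epi (epsMap (Sheaf.canonicalTopology C) c.π) := Cofork.IsColimit.epi h2
    apply ofArrows_mem_of_jls
    exact jls_of_cancel _ (fun Z a b h => (cancel_epi _).1 (h PUnit.unit))

end Groth.Agent.S6140
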