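import Groth.Statements.S6142
-- import your own Groth.Agent.* helpers here

set_option autoImplicit false
open CategoryTheory
universe u
open SGA4

namespace Groth.Agent.S6142

noncomputable def isoA {C : Type u} [SmallCategory C] {C' : Type u} [SmallCategory C']
    (J : GrothendieckTopology C) (K : GrothendieckTopology C') [J.Subcanonical] [K.Subcanonical]
    (u : C ⥤ C') [u.IsContinuous J K] :
    J.yoneda ⋙ u.sheafPullback (Type u) J K ≅ u ⋙ K.yoneda :=
  calc J.yoneda ⋙ u.sheafPullback (Type u) J K
      ≅ J.yoneda ⋙ (sheafToPresheaf J (Type u) ⋙ u.op.lan ⋙ presheafToSheaf K (Type u)) :=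
        Functor.isoWhiskerLeft _ (Functor.sheafPullbackConstruction.sheafPullbackIso u (Type u) J K)
    _ ≅ (J.yoneda ⋙ sheafToPresheaf J (Type u)) ⋙ u.op.lan ⋙ presheafToSheaf K (Type u) :=
        (Functor.associator _ _ _).symm
    _ ≅ yoneda ⋙ u.op.lan ⋙ presheafToSheaf K (Type u) :=
        Functor.isoWhiskerRight J.yonedaCompSheafToPresheaf _
    _ ≅ (yoneda ⋙ u.op.lan) ⋙ presheafToSheaf K (Type u) := (Functor.associator _ _ _).symm
    _ ≅ (u ⋙ yoneda) ⋙ presheafToSheaf K (Type u) := by
        refine Functor.isoWhiskerRight ?_ _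
        exact (Functor.isoWhiskerRight uliftYonedaIsoYoneda.{u}.symm _) ≪≫
          (Presheaf.compULiftYonedaIsoULiftYonedaCompLan.{u} u).symm ≪≫
          Functor.isoWhiskerLeft u uliftYonedaIsoYoneda.{u}
    _ ≅ (u ⋙ K.yoneda ⋙ sheafToPresheaf K (Type u)) ⋙ presheafToSheaf K (Type u) :=
        Functor.isoWhiskerRight (Functor.isoWhiskerLeft u K.yonedaCompSheafToPresheaf.symm) _
    _ ≅ (u ⋙ K.yoneda) ⋙ sheafToPresheaf K (Type u) ⋙ presheafToSheaf K (Type u) :=
        Functor.isoWhiskerRight (Functor.associator _ _ _).symm _ ≪≫ Functor.associator _ _ _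
    _ ≅ (u ⋙ K.yoneda) ⋙ 𝟭 _ :=
        Functor.isoWhiskerLeft _ (asIso (sheafificationAdjunction K (Type u)).counit)
    _ ≅ u ⋙ K.yoneda := Functor.rightUnitor _

/-- Let `u : C ⥤ C'` be a continuous and cocontinuous functor between small sites whose topologies are
subcanonical. If the left adjoint `u_!` of the restriction functor `u^*` on sheaves of sets is full
and faithful, then `u` is full and faithful. -/
theorem result
    {C : Type u} [SmallCategory C] {C' : Type u} [SmallCategory C']
    (J : GrothendieckTopology C) (K : GrothendieckTopology C') [J.Subcanonical] [K.Subcanonical]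
    (u : C ⥤ C') [u.IsContinuous J K] [u.IsCocontinuous J K]
    (h : (u.sheafPullback (Type u) J K).Full ∧ (u.sheafPullback (Type u) J K).Faithful) :
    u.Full ∧ u.Faithful := by
  obtain ⟨hF, hf⟩ := h
  have ff1 : (J.yoneda ⋙ u.sheafPullback (Type u) J K).FullyFaithful :=
    J.yonedaFullyFaithful.comp (Functor.FullyFaithful.ofFullyFaithful _)
  have ff2 : (u ⋙ K.yoneda).FullyFaithful := ff1.ofIso (isoA J K u)
  have ff3 : u.FullyFaithful := Functor.FullyFaithful.ofCompFaithful (G := K.yoneda) ff2
  exact ⟨ff3.full, ff3.faithful⟩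

end Groth.Agent.S6142
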