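import Groth.Statements.S6143
import Groth.Agent.Lib.Helper13.ToposEps8

set_option autoImplicit false
open CategoryTheory CategoryTheory.Limits
universe u
open SGA4

namespace Groth.Agent.S6143

/-- Let `C` be a small category, `X` an object and `s i : Y i ⟶ X` a family of morphisms all of whose
base changes exist. Then the associated sheaf of `h_X` for the canonical topology, with the maps
induced by the `s i`, is a coproduct of the associated sheaves of the `h_{Y i}` (in sheaves of sets
for the canonical topology) if and only if `X` is a disjoint universal coproduct of the `Y i` in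
`C`: the cofan `(X, s)` is a colimit, the injections of a coproduct of the family are monomorphisms
with pairwise pullbacks initial, and the colimit is stable under base change. (The source asks for
the coproduct decomposition after sheafification for some topology coarser than the canonical one;
this is equivalent to asking it for the canonical topology itself.) -/
theorem result
    {C : Type u} [SmallCategory C] {X : C} {ι : Type u} (Y : ι → C) (s : ∀ i, Y i ⟶ X)
    [∀ (i : ι) (Z : C) (g : Z ⟶ X), HasPullback (s i) g] :
    Nonempty (IsColimit (Cofan.mk
        ((presheafToSheaf (Sheaf.canonicalTopology C) (Type u)).obj (yoneda.obj X))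
        (fun i => (presheafToSheaf (Sheaf.canonicalTopology C) (Type u)).map (yoneda.map (s i))))) ↔
      (Nonempty (IsColimit (Cofan.mk X s)) ∧ CoproductDisjoint Y ∧
        IsUniversalColimit (Cofan.mk X s)) := by
  have hsub : ∀ T : C, Presieve.IsSheaf (Sheaf.canonicalTopology C) (yoneda.obj T) :=
    fun T => Sheaf.isSheaf_yoneda_obj T
  constructor
  · rintro ⟨hc⟩
    have hcol := Groth.Agent.Lib.Helper13.ToposQC.isColimit_of_isColimit_cofan_eps
      (Sheaf.canonicalTopology C) hsub Y s ⟨hc⟩
    have hmono := Groth.Agent.Lib.Helper13.ToposQC.mono_of_isColimit_cofan_eps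
      (Sheaf.canonicalTopology C) hsub Y s hc
    refine ⟨hcol, ?_, Groth.Agent.Lib.Helper13.ToposQC.isUniversalColimit_of_isColimit_cofan_eps
      (Sheaf.canonicalTopology C) hsub Y s hc⟩
    obtain ⟨hcol⟩ := hcol
    have : ∀ i, Mono ((Cofan.mk X s).inj i) := fun i => hmono i
    have hI : ∀ {i j : ι} (hij : i ≠ j), Nonempty (IsInitial (pullback (s i) (s j))) := by
      intro i j hij
      exact Groth.Agent.Lib.Helper13.ToposQC.isInitial_of_bot_mem (Sheaf.canonicalTopology C) hsub
        (Groth.Agent.Lib.Helper13.ToposQC.bot_mem_of_isColimit_cofan_eps
          (Sheaf.canonicalTopology C) hsub Y s hc hij (pullback.fst (s i) (s j))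
          (pullback.snd (s i) (s j)) pullback.condition)
    exact CoproductDisjoint.of_cofan hcol (fun {i j} _ => pullback.cone (s i) (s j))
      (fun {i j} _ => pullback.isLimit (s i) (s j)) (fun {i j} hij => (hI hij).some)
  · rintro ⟨⟨hcol⟩, hdisj, hu⟩
    refine Groth.Agent.Lib.Helper13.ToposQC.isColimit_cofan_eps_canonical_of_universal Y s
      (fun i => CoproductDisjoint.mono_inj hcol i) (fun i j hij => ?_) hu
    exact CoproductDisjoint.nonempty_isInitial_of_ne hcol hij (pullback.cone (s i) (s j))
      (pullback.isLimit (s i) (s j))

end Groth.Agent.S6143
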