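import Groth.Statements.S6144
import Mathlib.CategoryTheory.Limits.Shapes.Diagonal
import Mathlib.Logic.Small.Set

set_option autoImplicit false
open CategoryTheory CategoryTheory.Limits
universe w v u
open SGA4

namespace Groth.Agent.S6144

section
variable {E : Type u} [Category.{v} E] [HasPullbacks E] {κ : Type v} (G : κ → E)
  {I : Type w} (Y : I → E)

/-- traces of subobjects of `G k` on the family `G` -/
def Tr (k : κ) : Type v := ∀ k' : κ, Set (G k' ⟶ G k)

variable {G} in
/-- the morphism `y` is not contained in a subobject with trace `σ` -/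
def Cond {k : κ} (σ : Tr G k) (i : I) (y : Y i ⟶ G k) : Prop :=
  ∃ (k' : κ) (z : G k' ⟶ Y i), z ≫ y ∉ σ k'

/-- the small index type -/
def Idx : Type v := Σ k : κ, {σ : Tr G k // ∃ (i : I) (y : Y i ⟶ G k), Cond Y σ i y}

/-- the chosen index -/
noncomputable def pick (p : Idx G Y) : I := p.2.2.choose

/-- the small set of indices -/
def Jset : Set I := Set.range (pick G Y)

variable {G} in
lemma isIso_of_mono_of_detecting {ι : Type*} {Z : ι → E} (hZ : (ObjectProperty.ofObj Z).IsDetecting)
    {M X : E} (m : M ⟶ X) [Mono m] (h : ∀ (i : ι) (x : Z i ⟶ X), ∃ x', x' ≫ m = x) : IsIso m := by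
  apply hZ m
  rintro _ ⟨k⟩ x
  obtain ⟨x', hx'⟩ := h k x
  exact ⟨x', hx', fun x'' hx'' => (cancel_mono m).1 (hx''.trans hx'.symm)⟩

variable {G Y} in
lemma key (hG : (ObjectProperty.ofObj G).IsDetecting) (hY : (ObjectProperty.ofObj Y).IsDetecting)
    {M X : E} (m : M ⟶ X) [Mono m]
    (h : ∀ j ∈ Jset G Y, ∀ y : Y j ⟶ X, ∃ t, t ≫ m = y) : IsIso m := by
  apply isIso_of_mono_of_detecting hG
  intro k x
  suffices IsIso (pullback.snd m x) by
    exact ⟨inv (pullback.snd m x) ≫ pullback.fst m x, by
      rw [Category.assoc, pullback.condition, ← Category.assoc, IsIso.inv_hom_id, Category.id_comp]⟩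
  apply isIso_of_mono_of_detecting hY
  intro i y
  by_contra hno
  let σ : Tr G k := fun k' => {z | ∃ z', z' ≫ pullback.snd m x = z}
  have hc : Cond Y σ i y := by
    by_contra hc
    have hc' : ∀ (k' : κ) (z : G k' ⟶ Y i), ∃ z', z' ≫ pullback.snd m x = z ≫ y := by
      intro k' z
      by_contra hz
      exact hc ⟨k', z, hz⟩
    have : IsIso (pullback.snd (pullback.snd m x) y) :=
      isIso_of_mono_of_detecting hG _ (fun k' z => by
        obtain ⟨z', hz'⟩ := hc' k' z
        exact ⟨pullback.lift z' z hz', pullback.lift_snd _ _ _⟩)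
    exact hno ⟨inv (pullback.snd (pullback.snd m x) y) ≫ pullback.fst (pullback.snd m x) y, by
      rw [Category.assoc, pullback.condition, ← Category.assoc, IsIso.inv_hom_id, Category.id_comp]⟩
  let idx : Idx G Y := ⟨k, σ, ⟨i, y, hc⟩⟩
  have hj : pick G Y idx ∈ Jset G Y := ⟨idx, rfl⟩
  obtain ⟨y', k', z, hz⟩ := idx.2.2.choose_spec
  obtain ⟨t, ht⟩ := h _ hj (y' ≫ x)
  apply hz
  exact ⟨z ≫ pullback.lift t y' ht, (Category.assoc _ _ _).trans
    (congrArg (fun q => z ≫ q) (pullback.lift_snd t y' ht))⟩

end


/-- Let `E` be a category with `v`-small hom-sets and pullbacks, admitting a detecting family of objects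
indexed by a `v`-small type (maps out of the family jointly reflect isomorphisms). Then every
detecting family `Y : I → E`, indexed by an arbitrary type, contains a detecting subfamily indexed
by a `v`-small subset of `I`. -/
theorem result
    {E : Type u} [Category.{v} E] [HasPullbacks E] {κ : Type v} (G : κ → E)
    (hG : (ObjectProperty.ofObj G).IsDetecting) {I : Type w} (Y : I → E)
    (hY : (ObjectProperty.ofObj Y).IsDetecting) :
    ∃ J : Set I, Small.{v} J ∧ (ObjectProperty.ofObj (fun j : J => Y j)).IsDetecting := by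
  refine ⟨Jset G Y, ?_, ?_⟩
  · have : Small.{v} (Idx G Y) := small_self _
    exact small_range _
  · intro A B f hf
    have hf' : ∀ j ∈ Jset G Y, ∀ h : Y j ⟶ B, ∃! h', h' ≫ f = h :=
      fun j hj h => hf _ (ObjectProperty.ofObj.mk (⟨j, hj⟩ : Jset G Y)) h
    have hmono : Mono f := by
      rw [← pullback.isIso_diagonal_iff]
      apply key hG hY
      intro j hj y
      have e : y ≫ pullback.fst f f = y ≫ pullback.snd f f := by
        apply (hf' j hj ((y ≫ pullback.fst f f) ≫ f)).unique rfl
        rw [Category.assoc, Category.assoc, pullback.condition]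
      refine ⟨y ≫ pullback.fst f f, ?_⟩
      apply pullback.hom_ext
      · rw [Category.assoc, pullback.diagonal_fst, Category.comp_id]
      · rw [Category.assoc, pullback.diagonal_snd, Category.comp_id, e]
    exact key hG hY f (fun j hj y => (hf' j hj y).exists)

end Groth.Agent.S6144
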