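import Groth.Statements.S6156
import Groth.Agent.Lib.Helper1.ShriekProjNat

set_option autoImplicit false
universe u
open CategoryTheory
open ModSite

namespace Groth.Agent.S6156

open Groth.Agent.Lib.Helper1.ShriekProjNat Groth.Agent.Lib.Helper1.ShriekProj
  Groth.Agent.Lib.Helper1.ModFlat Groth.Agent.Lib.Helper1.ShriekSheaf

/-- Ringed topos of sheaves on a small site with commutative structure sheaf O, localised at an object
X: j_X^* Hom_O(M, N) is isomorphic to Hom_{O|X}(j_X^* M, j_X^* N). Existence of an isomorphism only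
(the source's Phi_X is canonical); the binders providing the internal hom functors always hold. -/
theorem result {C : Type u} [SmallCategory C] {J : GrothendieckTopology C} (O : Sheaf J CommRingCat.{u})
    (X : C) (M N : ModSite.Mod O) [ModSite.HasSheafHom M] [ModSite.HasSheafHom ((ModSite.restr O X).obj M)] :
    Nonempty ((ModSite.restr O X).obj ((ModSite.sheafHom M).obj N) ≅
      (ModSite.sheafHom ((ModSite.restr O X).obj M)).obj ((ModSite.restr O X).obj N)) := by
  let A₁ : tens (O.over X) ((ModSite.restr O X).obj M) ⋙ ez' O X ⊣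
      ModSite.restr O X ⋙ ModSite.sheafHom ((ModSite.restr O X).obj M) :=
    (ModSite.sheafHomAdj ((ModSite.restr O X).obj M)).comp (ezAdj' O X)
  let A₂ : ez' O X ⋙ tens O M ⊣ ModSite.sheafHom M ⋙ ModSite.restr O X :=
    (ezAdj' O X).comp (ModSite.sheafHomAdj M)
  let e : ModSite.restr O X ⋙ ModSite.sheafHom ((ModSite.restr O X).obj M) ≅
      ModSite.sheafHom M ⋙ ModSite.restr O X :=
    (A₁.ofNatIsoLeft (projNatLeft O X M)).rightAdjointUniq A₂
  exact ⟨(e.app N).symm⟩

end Groth.Agent.S6156
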