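import Groth.Statements.S6159
import Groth.Agent.Lib.Helper14.CanonTopos2
import Mathlib.CategoryTheory.Limits.Preserves.Opposites

set_option autoImplicit false
universe u
open CategoryTheory
open SGA4

namespace Groth.Agent.S6159

open CategoryTheory.Limits Opposite
open Groth.Agent.Lib.Helper14.CanonTopos


open CategoryTheory.Limits in
/-- Sheaf topoi on small sites (C, J), (D, K), each with its canonical topology: a functor f from
sheaves of sets on C to sheaves of sets on D commutes with all u-small colimits if and only if it is
continuous, i.e. composition with f carries every sheaf of sets for the canonical topology of the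
target to a sheaf for the canonical topology of the source. (Continuity is Mathlib's
`Functor.IsContinuous`: on these large sites it tests sheaves with values in the next universe,
`Type (u+1)`, which is the source's choice of a larger universe for the test sheaves; the hom
universe is u. The equivalence of both conditions with f being a left adjoint is a separate result,
not stated here.) -/
theorem result {C D : Type u} [SmallCategory C] [SmallCategory D]
    (J : GrothendieckTopology C) (K : GrothendieckTopology D) (f : Sheaf J (Type u) ⥤ Sheaf K (Type u)) :
    PreservesColimitsOfSize.{u, u} f ↔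
      f.IsContinuous.{u} (Sheaf.canonicalTopology (Sheaf J (Type u))) (Sheaf.canonicalTopology (Sheaf K (Type u))) := by
  constructor
  · intro hf
    refine ⟨fun P => ?_⟩
    have hP : Presieve.IsSheaf _ P.obj := (isSheaf_iff_isSheaf_of_type _ _).1 P.property
    have h1 : PreservesLimitsOfSize.{u, u} P.obj := (core_iff K P.obj).1 hP
    have h2 : PreservesLimitsOfSize.{u, u} f.op := preservesLimitsOfSize_op f
    exact (core_iff J (f.op ⋙ P.obj)).2 inferInstance
  · intro hf
    have : PreservesLimitsOfSize.{u, u} f.op := by
      refine ⟨fun {_} _ => ⟨fun {K'} => ⟨fun {c} hc => ⟨?_⟩⟩⟩⟩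
      apply yonedaJointlyReflectsLimits
      intro Z
      have hZ : Presieve.IsSheaf (Sheaf.canonicalTopology (Sheaf K (Type u)))
          (yoneda.obj Z ⋙ uliftFunctor.{u + 1}) :=
        (Presieve.isSheaf_comp_uliftFunctor_iff _).2 (Sheaf.isSheaf_yoneda_obj Z)
      have h1 := hf.op_comp_isSheaf_of_types ⟨_, (isSheaf_iff_isSheaf_of_type _ _).2 hZ⟩
      have h2 : PreservesLimitsOfSize.{u, u} (f.op ⋙ (yoneda.obj Z ⋙ uliftFunctor.{u + 1})) :=
        (core_iff J _).1 h1
      have h3 : IsLimit (uliftFunctor.{u + 1}.mapCone ((yoneda.obj Z).mapCone (f.op.mapCone c))) :=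
        isLimitOfPreserves (f.op ⋙ (yoneda.obj Z ⋙ uliftFunctor.{u + 1})) hc
      exact isLimitOfReflects uliftFunctor.{u + 1} h3
    exact preservesColimitsOfSize_of_op f

end Groth.Agent.S6159
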