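import Groth.Statements.S6166
import Groth.Agent.Lib.Helper6.PushTotAcyc
import Groth.Agent.Lib.Helper6.ExtAcycFun
import Groth.Agent.Lib.Helper6.CohSiteSheafify
import Groth.Agent.Lib.Helper6.TotAcycProd
import Groth.Agent.Lib.Helper6.TotAcyc
import Groth.Agent.Lib.Helper6.SieveExt

set_option autoImplicit false
universe u
open CategoryTheory
open CohSite

namespace Groth.Agent.S6166

open CategoryTheory.Limits in
/-- Let u : D -> C be a continuous functor between small sites with exact pullback on sheaves of sets (a
morphism of topoi), and take the topologically generating families to be all objects of C, resp. of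
D, so that the inverse image of the second lies in the first. For an abelian sheaf F on C: if H^q(U,
F) = 0 for all objects U of C and all q > 0, then H^q(V, u_* F) = 0 for all objects V of D and all q
> 0, where u_* F = F o u. -/
theorem result {C D : Type u} [SmallCategory C] [SmallCategory D]
    (J : GrothendieckTopology C) (K : GrothendieckTopology D) (u : D ⥤ C) [u.IsContinuous K J]
    [PreservesFiniteLimits (u.sheafPullback (Type u) K J)] (F : Sheaf J AddCommGrpCat.{u})
    (hF : ∀ (U : C) (q : ℕ), Subsingleton (CohSite.HU F (q + 1) U)) (V : D) (q : ℕ) :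
    Subsingleton (CohSite.HU ((CohSite.push J K u).obj F) (q + 1) V) := by
  open Groth.Agent.Lib.Helper6 in
  have key : ∀ (n : ℕ) (G : Sheaf J AddCommGrpCat.{u}),
      (∀ (U : C) (q : ℕ), Subsingleton (CohSite.HU G (q + 1) U)) →
      ∀ x : Abelian.Ext (SheafCoh.Zfree K V) ((CohSite.push J K u).obj G) (n + 1), x = 0 := by
    intro n
    refine ExtAcycFun.ext_succ_eq_zero (CohSite.push J K u) (SheafCoh.Zfree K V)
      (fun G => ∀ (U : C) (q : ℕ), Subsingleton (CohSite.HU G (q + 1) U)) (fun S hS h1 hI => ?_) n
    haveI := hI
    have hsurj : ∀ W : D, Function.Surjective (((CohSite.push J K u).map S.g).hom.app (Opposite.op W)) :=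
      fun W => SieveExt.surjective_of_H1_vanish J hS (u.obj W) (fun x => (h1 (u.obj W) 0).elim _ _)
    refine ⟨fun U q => ⟨fun a b => ?_⟩, ?_, ?_, ?_⟩
    · have h0 : ∀ x : Abelian.Ext (SheafCoh.Zfree J U) S.X₃ (q + 1), x = 0 :=
        TotAcycProd.vanish_X₃ hS _ (fun p x => (h1 U p).elim _ _) q
      exact (h0 a).trans (h0 b).symm
    · have h := (Functor.preservesFiniteLimits_iff_forall_exact_map_and_mono (CohSite.push J K u)).1
        inferInstance S hS
      exact { exact := h.1, mono_f := h.2,
              epi_g := TotAcycProd.epi_of_sections_surjective K _ hsurj }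
    · intro m x
      have hI' : CohCx.IsTotallyAcyclic S.X₂ := CechCartan.totallyAcyclic_of_injective S.X₂
      have := PushTotAcyc.totallyAcyclic_push J K u S.X₂ hI'
      exact (TotAcyc.subsingleton_HU K this V m).elim _ _
    · intro y
      exact SheafCoh.ext_zero_surj_of_sections_surj K V _ (hsurj V) y
  exact ⟨fun a b => (key q F hF a).trans (key q F hF b).symm⟩

end Groth.Agent.S6166
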