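import Groth.Statements.S6170
import Groth.Agent.Lib.Helper1.TensorUnit
import Groth.Agent.Lib.Helper1.ModFlat
import Groth.Agent.Lib.Helper1.ModSiteFree
import Mathlib.CategoryTheory.Adjunction.Additive

set_option autoImplicit false
universe u
open CategoryTheory
open ModSite

namespace Groth.Agent.S6170

open Groth.Agent.Lib.Helper1.ModFlat Groth.Agent.Lib.Helper1.TensorUnit
  Groth.Agent.Lib.Helper1 CategoryTheory.Limits Opposite

lemma homEquiv_add {C : Type u} [SmallCategory C] {J : GrothendieckTopology C}
    (O : Sheaf J CommRingCat.{u}) (U : C) (M : ModSite.Mod O)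
    (g₁ g₂ : ModSite.freeOn O U ⟶ M) :
    ModSiteFree.homEquiv O U M (g₁ + g₂) =
      ModSiteFree.homEquiv O U M g₁ + ModSiteFree.homEquiv O U M g₂ := by
  have h : g₁ + g₂ = biprod.lift g₁ g₂ ≫ (biprod.fst + biprod.snd) := by simp
  rw [h, ModSiteFree.homEquiv_comp]
  have h2 : ∀ x, (biprod.fst + biprod.snd : M ⊞ M ⟶ M).val.app (op U) x =
      (biprod.fst : M ⊞ M ⟶ M).val.app (op U) x + (biprod.snd : M ⊞ M ⟶ M).val.app (op U) x :=
    fun x => rfl
  rw [h2, ← ModSiteFree.homEquiv_comp, ← ModSiteFree.homEquiv_comp, biprod.lift_fst,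
    biprod.lift_snd]

/-- additive version of the corepresentability of sections -/
noncomputable def homAddEquiv {C : Type u} [SmallCategory C] {J : GrothendieckTopology C}
    (O : Sheaf J CommRingCat.{u}) (U : C) (M : ModSite.Mod O) :
    (ModSite.freeOn O U ⟶ M) ≃+ M.val.obj (op U) :=
  { ModSiteFree.homEquiv O U M with
    map_add' := homEquiv_add O U M }

/-- precomposition with an isomorphism, additively -/
def precompAddEquiv {𝒜 : Type*} [Category 𝒜] [Preadditive 𝒜] {A B : 𝒜} (e : A ≅ B) (N : 𝒜) :
    (A ⟶ N) ≃+ (B ⟶ N) where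
  toFun f := e.inv ≫ f
  invFun g := e.hom ≫ g
  left_inv f := by simp
  right_inv g := by simp
  map_add' f g := Preadditive.comp_add _ _ _ _ _ _

/-- Ringed topos of sheaves on a small site with commutative structure sheaf O: the sections of the
internal hom Hom_O(M, N) over an object X form a group isomorphic to Hom_{O|X}(j_X^* M, j_X^* N).
Existence of an additive isomorphism only (the source's is canonical); the internal-hom binder
always holds. -/
theorem result {C : Type u} [SmallCategory C] {J : GrothendieckTopology C} (O : Sheaf J CommRingCat.{u})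
    (M N : ModSite.Mod O) [ModSite.HasSheafHom M] (X : C) :
    Nonempty (ModSite.sect ((ModSite.sheafHom M).obj N) X ≃+ ((ModSite.restr O X).obj M ⟶ (ModSite.restr O X).obj N)) := by
  haveI : (ModSite.extZero O X).Additive := by
    have h : rightExactFunctor _ _ (ModSite.extZero O X) := by
      rw [rightExactFunctor_iff]
      haveI : (ModSite.extZero O X).IsLeftAdjoint := (ModSite.extZeroAdj O X).isLeftAdjoint
      infer_instance
    exact rightExactFunctor_le_additiveFunctor _ _ _ h
  let e1 := (homAddEquiv O X ((ModSite.sheafHom M).obj N)).symm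
  let e2 : (ModSite.freeOn O X ⟶ (ModSite.sheafHom M).obj N) ≃+
      ((tens O M).obj (ModSite.freeOn O X) ⟶ N) :=
    ((ModSite.sheafHomAdj M).homAddEquiv (ModSite.freeOn O X) N).symm
  let e3 : ((tens O M).obj (ModSite.freeOn O X) ⟶ N) ≃+
      ((ModSite.extZero O X).obj ((ModSite.restr O X).obj M) ⟶ N) :=
    precompAddEquiv (freeOnTensorIso O X M) N
  let e4 := (ModSite.extZeroAdj O X).homAddEquiv ((ModSite.restr O X).obj M) N
  exact ⟨((e1.trans e2).trans e3).trans e4⟩

end Groth.Agent.S6170
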