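import Groth.Statements.S6173
-- import your own Groth.Agent.* helpers here
import Mathlib.CategoryTheory.Sites.Point.Map
import Mathlib.CategoryTheory.Sites.Point.Over
import Mathlib.CategoryTheory.Sites.LocalProperties

set_option autoImplicit false
universe u
open CategoryTheory
open SGA4

namespace Groth.Agent.S6173

/-- Second assertion (topos of sheaves on a small site (C, J); E/X_i the induced topoi, modelled by the
sites (C/X_i, J/X_i); 'enough points' = a small conservative family of points, equivalently all
fibre functors together are conservative): if (X_i) is a family of objects covering the final object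
and every E/X_i has enough points, then E has enough points. (The first assertion, that E/X inherits
enough points from E, is Mathlib's instance.) -/
theorem result {C : Type u} [SmallCategory C] (J : GrothendieckTopology C) {ι : Type u}
    (X : ι → C) (hX : J.CoversTop X) (h : ∀ i, GrothendieckTopology.HasEnoughPoints.{u} (J.over (X i))) :
    GrothendieckTopology.HasEnoughPoints.{u} J := by
  classical
  choose P hsmall hcons using fun i => (h i).exists_objectProperty
  let Q : ObjectProperty (GrothendieckTopology.Point.{u} J) :=
    ObjectProperty.ofObj (fun (ψ : Σ (i : ι), (P i).FullSubcategory) ↦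
      ψ.2.obj.map (Over.forget (X ψ.1)) J)
  refine ⟨Q, inferInstance, ⟨⟨?_⟩⟩⟩
  intro F G f hf
  refine Sheaf.isIso_of_coversTop hX (fun i => ?_)
  have hi := (hcons i).jointlyReflectIsomorphisms_type
  suffices hh : ∀ Ψ : (P i).FullSubcategory, IsIso (Ψ.obj.sheafFiber.map ((J.overPullback (Type u) (X i)).map f)) from
    hi.isIso ((J.overPullback (Type u) (X i)).map f)
  intro Ψ
  have hmem : Q (Ψ.obj.map (Over.forget (X i)) J) :=
    ObjectProperty.ofObj_apply _ (⟨i, Ψ⟩ : Σ (i : ι), (P i).FullSubcategory)
  have h1 : IsIso ((Ψ.obj.map (Over.forget (X i)) J).sheafFiber.map f) := hf ⟨_, hmem⟩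
  have e := Ψ.obj.sheafFiberMapIso (Over.forget (X i)) J (Type u)
  exact ((MorphismProperty.isomorphisms _).arrow_mk_iso_iff
    (((Functor.mapArrowFunctor _ _).mapIso e).app (Arrow.mk f))).1 h1


end Groth.Agent.S6173
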