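import Groth.Statements.S6177
import Groth.Agent.Lib.Helper13.ClosedCompl

set_option autoImplicit false
universe u
open CategoryTheory
open SGA4

namespace Groth.Agent.S6177

open CategoryTheory.Limits in
/-- Topos of sheaves of sets on a small site; U an open, i.e. a subobject of the final object; X_CU the
pushout of U <- U x X -> X along the two projections: (ii) <=> (iii): the canonical map X -> X_CU is
an isomorphism if and only if the projection U x X -> U is an isomorphism (X belongs to the closed
complement of U); and (i) => (iii): if X is isomorphic to Y_CU for some Y then X belongs to the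
closed complement of U ((iii) => (i) with Y = X is then immediate from (ii)). -/
theorem result {C : Type u} [SmallCategory C] (J : GrothendieckTopology C)
    (U : Sheaf J (Type u)) (hU : SGA4.IsOpen U) (X : Sheaf J (Type u)) :
    (SGA4.closedCompl U X ↔ IsIso (pushout.inr (prod.fst : U ⨯ X ⟶ U) (prod.snd : U ⨯ X ⟶ X))) ∧
    ((∃ Y : Sheaf J (Type u), Nonempty (X ≅ pushout (prod.fst : U ⨯ Y ⟶ U) (prod.snd : U ⨯ Y ⟶ Y))) →
      SGA4.closedCompl U X) := by
  have key : ∀ Y : Sheaf J (Type u), SGA4.closedCompl U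
      (pushout (prod.fst : U ⨯ Y ⟶ U) (prod.snd : U ⨯ Y ⟶ Y)) := fun Y =>
    @Groth.Agent.Lib.Helper13.ClosedCompl.isIso_fst_pushout (Sheaf J (Type u)) _ _
      (inferInstanceAs (MonoidalClosed (Sheaf J (Type u)))) _ _ _ U hU Y
  have inv : ∀ {X X' : Sheaf J (Type u)} (e : X ≅ X'), SGA4.closedCompl U X' →
      SGA4.closedCompl U X := by
    intro X X' e h
    haveI : IsIso (prod.fst : U ⨯ X' ⟶ U) := h
    have h1 : (prod.fst : U ⨯ X ⟶ U) = prod.map (𝟙 U) e.hom ≫ prod.fst := by
      rw [prod.map_fst, Category.comp_id]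
    change IsIso (prod.fst : U ⨯ X ⟶ U)
    rw [h1]
    infer_instance
  refine ⟨⟨fun h => ?_, fun h => ?_⟩, ?_⟩
  · haveI : IsIso (prod.fst : U ⨯ X ⟶ U) := h
    infer_instance
  · haveI := h
    exact inv (asIso (pushout.inr (prod.fst : U ⨯ X ⟶ U) (prod.snd : U ⨯ X ⟶ X))) (key X)
  · rintro ⟨Y, ⟨e⟩⟩
    exact inv e (key Y)

end Groth.Agent.S6177
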