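import Groth.Statements.S6179
-- import your own Groth.Agent.* helpers here
import Groth.Agent.Lib.Helper23.HensSection

set_option autoImplicit false
open CategoryTheory CategoryTheory.Limits AlgebraicGeometry Opposite
universe u
open EtDesc

namespace Groth.Agent.S6179

instance i1 : CategoryTheory.Limits.PreservesFilteredColimitsOfSize.{u,u} (CategoryTheory.forget (Type (u+1))) :=
  CategoryTheory.Limits.preservesFilteredColimitsOfSize_shrink.{u, u+1, u, u+1} _

/-- Let R be a strictly henselian local ring, X = Spec R and x̄ : Spec κ(R) -> X the closed geometric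
point. For every etale sheaf of sets F on X the canonical map Γ(X, F) -> F_x̄ into the stalk (the
colimit of F(X') over the x̄-pointed etale X-schemes X', taken at X' = X) is bijective; in
particular the global-sections functor is isomorphic to the fibre functor at x̄ and commutes with
all colimits. -/
theorem result (R : Type u) [CommRing R]
    [HenselianLocalRing R] [IsSepClosed (IsLocalRing.ResidueField R)]
    (F : EtDesc.Sh (Spec (CommRingCat.of R))) :
    Function.Bijective ((Scheme.pointSmallEtale
      (Spec.map (CommRingCat.ofHom (IsLocalRing.residue R)))).toPresheafFiber (A := Type (u + 1))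
        (EtCoh.top (Spec (CommRingCat.of R)))
        (Over.homMk (Spec.map (CommRingCat.ofHom (IsLocalRing.residue R))) (Category.comp_id _)) F.obj) := by
  open Groth.Agent.Lib.Helper23.HensSection CategoryTheory.GrothendieckTopology in
  let Φ := Scheme.pointSmallEtale (xi R)
  constructor
  · intro z₁ z₂ h
    obtain ⟨Y, g, y, hy, hz⟩ := (Point.toPresheafFiber_eq_iff' (A := Type (u+1)) Φ (P := F.obj) _ _ z₁ z₂).1 h
    obtain ⟨σ, hσ⟩ := exists_section_site R Y y
    have hσg : σ ≫ g = 𝟙 _ := top_hom_ext _ _
    have h1 := congrArg (F.obj.map σ.op) hz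
    have h2 : ∀ z, F.obj.map σ.op (F.obj.map g.op z) = z := by
      intro z
      rw [← ConcreteCategory.comp_apply, ← Functor.map_comp, ← op_comp, hσg]
      simp
    rw [h2, h2] at h1
    exact h1
  · intro p
    obtain ⟨Y, y, z, rfl⟩ := Point.toPresheafFiber_jointly_surjective (A := Type (u+1)) Φ (P := F.obj) p
    obtain ⟨σ, hσ⟩ := exists_section_site R Y y
    refine ⟨F.obj.map σ.op z, ?_⟩
    rw [← hσ]
    exact Point.toPresheafFiber_w_apply Φ σ (x0 R) F.obj z

end Groth.Agent.S6179
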