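import Groth.Statements.S6180
-- import your own Groth.Agent.* helpers here
import Groth.Agent.S6179
import Groth.Agent.S0100
import Groth.Agent.Lib.Helper23.PointStalk
import Groth.Agent.Lib.Helper23.PointIso

set_option autoImplicit false
open CategoryTheory CategoryTheory.Limits AlgebraicGeometry Opposite
universe u
open EtDesc

namespace Groth.Agent.S6180

/-- Let X be a scheme, x a point of X, R a strict henselisation of O_{X,x} with strict localisation X̄ =
Spec R -> X and attached geometric point ξ : Spec κ(R) -> X. The fibre functor F ↦ F_ξ on etale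
sheaves of sets on X is isomorphic to the functor F ↦ Γ(X̄, F̄), F̄ the inverse image of F on X̄.
(The published statement gives a canonical isomorphism — global sections of F̄ identified with its
stalk at the closed point of X̄, then with F_ξ; this row asserts only that an isomorphism of
functors exists.) -/
theorem result (X : Scheme.{u}) (x : X)
    (R : Type u) [CommRing R] [IsLocalRing R] [Algebra (X.presheaf.stalk x) R]
    [IsLocalHom (algebraMap (X.presheaf.stalk x) R)] [Hensel.IsStrictHenselization (X.presheaf.stalk x) R]
    [IsSepClosed (IsLocalRing.ResidueField R)] :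
    Nonempty ((Scheme.pointSmallEtale (Hens2.geomPt X x R)).sheafFiber (A := Type (u + 1)) ≅
      EtDesc.pullSh (Hens2.specOf X x R) ⋙
        (sheafSections (Spec (CommRingCat.of R)).smallEtaleTopology (Type (u + 1))).obj
          (op (EtCoh.top (Spec (CommRingCat.of R))))) := by
  open Groth.Agent.Lib.Helper23.HensSection CategoryTheory.GrothendieckTopology in
  haveI hH : HenselianLocalRing R :=
    Hensel.IsStrictHenselization.henselian (R := X.presheaf.stalk x) (S := R)
  let f := Hens2.specOf X x R
  let ξ := xi R
  let Φ := Scheme.pointSmallEtale ξ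
  haveI : InitiallySmall.{u} (EtCoh.bc f ⋙ Φ.fiber).Elements :=
    Groth.Agent.Lib.Helper23.PointIso.initiallySmall_elements_of_iso (Groth.Agent.S0100.fiberIso f ξ)
  have hF := EtCoh.coverPreserving_bc f
  let e1 := Φ.sheafFiberComapIso (EtCoh.bc f) hF (Type (u+1))
  let e2 : (Φ.comap (EtCoh.bc f) hF).sheafFiber (A := Type (u+1)) ≅
      (Scheme.pointSmallEtale (ξ ≫ f)).sheafFiber :=
    Groth.Agent.Lib.Helper23.PointIso.sheafFiberIsoOfFiberIso (Groth.Agent.S0100.fiberIso f ξ)
  let e3 : (sheafSections (Spec (CommRingCat.of R)).smallEtaleTopology (Type (u + 1))).obj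
          (op (EtCoh.top (Spec (CommRingCat.of R)))) ≅ Φ.sheafFiber (A := Type (u+1)) :=
    NatIso.ofComponents (fun F =>
      @asIso _ _ _ _ (Φ.toPresheafFiber (A := Type (u+1)) (EtCoh.top (Spec (CommRingCat.of R))) (x0 R) F.obj)
        ((isIso_iff_bijective _).2 (Groth.Agent.S6179.result R F)))
      (fun {F G} a => (Point.toPresheafFiber_naturality Φ a.hom _ (x0 R)).symm)
  exact ⟨e2.symm ≪≫ e1 ≪≫ Functor.isoWhiskerLeft (EtDesc.pullSh f) e3.symm⟩

end Groth.Agent.S6180
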