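import Groth.Statements.S6181
-- import your own Groth.Agent.* helpers here
import Groth.Agent.Lib.Helper23.FinPushStalk2
import Mathlib.CategoryTheory.Limits.ConcreteCategory.Basic
import Mathlib.CategoryTheory.Limits.FunctorCategory.Basic

set_option autoImplicit false
open CategoryTheory CategoryTheory.Limits AlgebraicGeometry Opposite
universe u
open EtDesc

namespace Groth.Agent.S6181

open Groth.Agent.Lib.Helper23 Groth.Agent.Lib.Helper23.FinPushStalk Groth.Agent.Lib.Helper23.FinPushGeom

instance i1 : PreservesFilteredColimitsOfSize.{u,u} (forget (Type (u+1))) :=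
  preservesFilteredColimitsOfSize_shrink.{u, u+1, u, u+1} _

/-- the comparison natural transformation to the fibre at one lift -/
noncomputable def θnat {X Y : Scheme.{u}} (f : X ⟶ Y) [IsFinite f]
    {Ω : Type u} [Field Ω] [IsAlgClosed Ω] (η : Spec (CommRingCat.of Ω) ⟶ Y) (ξ : Lifts f η) :
    EtDesc.pushSh f ⋙ (Scheme.pointSmallEtale η).sheafFiber (A := Type (u + 1)) ⟶
      ((Scheme.pointSmallEtale ξ.1).sheafFiber (A := Type (u + 1)) : EtDesc.Sh X ⥤ Type (u + 1)) where
  app F := θcomp f η F.obj ξ
  naturality F G φ := θcomp_naturality f η φ.hom ξ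


/-- Let f : X -> Y be a finite morphism of schemes, Ω an algebraically closed field and η : Spec Ω -> Y
a geometric point. The functor F ↦ (f_* F)_η on etale sheaves of sets on X is isomorphic to the
product, over the geometric points ξ : Spec Ω -> X lying over η, of the fibre functors F ↦ F_ξ. (The
published statement gives a canonical isomorphism and indexes the product by the points of the
geometric fibre over a separable closure of the residue field; this row asserts only that an
isomorphism of functors exists and indexes the product by the Ω-valued points of X over η, which for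
Ω algebraically closed correspond to those points.) -/
theorem result {X Y : Scheme.{u}} (f : X ⟶ Y) [IsFinite f]
    {Ω : Type u} [Field Ω] [IsAlgClosed Ω] (η : Spec (CommRingCat.of Ω) ⟶ Y) :
    Nonempty (EtDesc.pushSh f ⋙ (Scheme.pointSmallEtale η).sheafFiber (A := Type (u + 1)) ≅
      ∏ᶜ fun ξ : {ξ : Spec (CommRingCat.of Ω) ⟶ X // ξ ≫ f = η} =>
        ((Scheme.pointSmallEtale ξ.1).sheafFiber (A := Type (u + 1)) : EtDesc.Sh X ⥤ Type (u + 1))) := by
  classical
  let G : Lifts f η → (EtDesc.Sh X ⥤ Type (u + 1)) := fun ξ =>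
    ((Scheme.pointSmallEtale ξ.1).sheafFiber (A := Type (u + 1)) : EtDesc.Sh X ⥤ Type (u + 1))
  let Θ : EtDesc.pushSh f ⋙ (Scheme.pointSmallEtale η).sheafFiber (A := Type (u + 1)) ⟶ ∏ᶜ G :=
    Pi.lift (fun ξ => θnat f η ξ)
  have hΘ : ∀ (F : EtDesc.Sh X) (ξ : Lifts f η) z,
      (Pi.π G ξ).app F (Θ.app F z) = θcomp f η F.obj ξ z := by
    intro F ξ z
    have h1 : Θ ≫ Pi.π G ξ = θnat f η ξ := Pi.lift_π _ _
    have h2 := congrArg (fun τ => τ.app F) h1
    exact congrArg (fun φ => φ z) h2
  have hext : ∀ (F : EtDesc.Sh X) (p p' : (∏ᶜ G).obj F),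
      (∀ ξ, (Pi.π G ξ).app F p = (Pi.π G ξ).app F p') → p = p' := by
    intro F p p' h
    have h1 : (piObjIso G F).hom p = (piObjIso G F).hom p' := by
      refine Concrete.limit_ext (Discrete.functor (fun ξ => (G ξ).obj F)) _ _ ?_
      rintro ⟨ξ⟩
      have h2 : ∀ x, (Pi.π (fun ξ => (G ξ).obj F) ξ) ((piObjIso G F).hom x) =
          (Pi.π G ξ).app F x := fun x =>
        congrArg (fun φ => φ x) (piObjIso_hom_comp_π G F ξ)
      exact (h2 p).trans ((h ξ).trans (h2 p').symm)
    have h3 := congrArg (piObjIso G F).inv h1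
    simpa using h3
  haveI : IsIso Θ := by
    apply (config := { allowSynthFailures := true }) NatIso.isIso_of_isIso_app
    intro F
    have hF : Presheaf.IsSheaf X.smallEtaleTopology (F.obj ⋙ forget (Type (u+1))) := F.property
    rw [isIso_iff_bijective]
    constructor
    · intro z z' h
      apply θ_injective f η F.obj hF
      intro ξ
      rw [← hΘ, ← hΘ]
      exact congrArg _ h
    · intro p
      obtain ⟨z, hz⟩ := θ_surjective f η F.obj hF (fun ξ => (Pi.π G ξ).app F p)
      refine ⟨z, hext F _ _ (fun ξ => ?_)⟩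
      exact (hΘ F ξ z).trans (hz ξ)
  exact ⟨asIso Θ⟩

end Groth.Agent.S6181
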