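import Groth.Statements.S6189
import Groth.Agent.Lib.Helper16.TorLoc8
import Groth.Agent.Lib.Helper16.StalkPB
import Groth.Agent.Lib.Helper16.KD3
import Groth.Agent.Lib.Helper16.PB1
import Groth.Agent.Lib.Helper16.Fl2
import Groth.Agent.S6200
import Groth.Agent.S6188

set_option autoImplicit false
universe u
open CategoryTheory CategoryTheory.Limits AlgebraicGeometry
attribute [local instance] HasDerivedCategory.standard
open KSix

namespace Groth.Agent.S6189

open Groth.Agent.Lib.Helper16 Groth.Agent.Lib.Helper16.TorLoc Groth.Agent.Lib.Helper16.Stk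
  DerivedCategory MonoidalCategory

/-- For a flat base change: let f : X ⟶ Y be a morphism of schemes, h : Y' ⟶ Y flat, X' = X ×_Y Y' with
projections g : X' ⟶ X and f' : X' ⟶ Y', and F a cochain complex of O_X-modules with tor amplitude
in [a, b] relative to f (stalkwise flat models placed in [a, b] over the local rings of Y). Then,
the derived pullback Lg^* being assumed to exist, Lg^* F has tor amplitude in [a, b] relative to f'.
(The published statement assumes only that X and Y' are tor-independent over Y; this row takes h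
flat, which implies that condition, and puts no condition on f.) -/
theorem result {X Y Y' : Scheme.{u}} (f : X ⟶ Y) (h : Y' ⟶ Y) [Flat h]
    [DCoh.HasLpull (pullback.fst f h)] (F : CochainComplex X.Modules ℤ) (a b : ℤ)
    (hF : DerSch.HasTorAmplitude f a b F) :
    DerSch.HasTorAmplitudeD (pullback.snd f h) a b ((DCoh.Lpull (pullback.fst f h)).obj (DCoh.toD X F)) := by
  intro F' ⟨eF'⟩ x'
  obtain ⟨G', p, hG'K, -, hp, -⟩ := exists_kFlat_resolution F
  haveI := hp
  haveI : IsIso (Q.map p) := by rw [isIso_Q_map_iff_quasiIso]; infer_instance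
  have e : DCoh.toD _ F' ≅ DCoh.toD _ ((KD.pullCx (pullback.fst f h)).obj G') :=
    eF' ≪≫ (DCoh.Lpull (pullback.fst f h)).mapIso (asIso (Q.map p)).symm ≪≫
      KD.LpullIso (pullback.fst f h) G' hG'K
  have e2 : DRing.toD (stkCx x' F') ≅
      DRing.toD ((extCx ((pullback.fst f h).stalkMap x').hom).obj
        (stkCx ((pullback.fst f h).base x') G')) :=
    Groth.Agent.S6200.stkIsoOfIso x' e ≪≫ Q.mapIso (pullbackStkCxIso (pullback.fst f h) x' G')
  have hW : DRing.HasTorAmplitudeIn (Y.presheaf.stalk (f.base ((pullback.fst f h).base x'))) a b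
      (DRing.toD ((resCx (f.stalkMap ((pullback.fst f h).base x')).hom).obj
        (stkCx ((pullback.fst f h).base x') G'))) := by
    haveI := Groth.Agent.S6188.quasiIso_stkCx_map ((pullback.fst f h).base x') p
    refine (torAmp_resCx_of_quasiIso (f.stalkMap ((pullback.fst f h).base x')).hom
      (((stk ((pullback.fst f h).base x')).mapHomologicalComplex (ComplexShape.up ℤ)).map p)
      a b).2 ?_
    exact TorAmp.hasTorAmplitudeIn_of_iso
      (Q.mapIso (Groth.Agent.S6188.stalkCxOverIso f ((pullback.fst f h).base x') F)) a b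
      (hF ((pullback.fst f h).base x'))
  letI : Algebra (Y.presheaf.stalk (f.base ((pullback.fst f h).base x')))
      (X.presheaf.stalk ((pullback.fst f h).base x')) :=
    (f.stalkMap ((pullback.fst f h).base x')).hom.toAlgebra
  letI : Algebra (Y.presheaf.stalk (f.base ((pullback.fst f h).base x')))
      (Y'.presheaf.stalk ((pullback.snd f h).base x')) := (StalkPB.pbα f h x').hom.toAlgebra
  obtain ⟨γ, hγ, h1, h2⟩ := StalkPB.exists_flat_tensor_map f h x' rfl rfl
  have key := torAmp_flat_baseChange ((pullback.fst f h).stalkMap x').hom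
    ((pullback.snd f h).stalkMap x').hom γ hγ h1 h2
    (StalkPB.sq_flat f (pullback.snd f h) (pullback.fst f h) h pullback.condition x')
    (stkCx ((pullback.fst f h).base x') G') a b hW
  have e3 : DRing.toD ((DerSch.stalkCxOver (pullback.snd f h) x').obj F') ≅
      DRing.toD ((resCx ((pullback.snd f h).stalkMap x').hom).obj
        ((extCx ((pullback.fst f h).stalkMap x').hom).obj
          (stkCx ((pullback.fst f h).base x') G'))) :=
    Q.mapIso (Groth.Agent.S6188.stalkCxOverIso (pullback.snd f h) x' F') ≪≫
      (RestrictD.restrictQIso _ _).symm ≪≫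
      (DRing.restrictD ((pullback.snd f h).stalkMap x').hom).mapIso e2 ≪≫
      RestrictD.restrictQIso _ _
  exact TorAmp.hasTorAmplitudeIn_of_iso e3.symm _ _ key

end Groth.Agent.S6189
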