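import Groth.Statements.S6202
import Groth.Agent.Lib.Helper16.CI12

set_option autoImplicit false
universe u
open CategoryTheory CategoryTheory.Limits AlgebraicGeometry
attribute [local instance] HasDerivedCategory.standard
open KSix

namespace Groth.Agent.S6202

/-- Let f : X ⟶ Y be a morphism of schemes, n an integer and E a cochain complex of O_X-modules whose
class in D(O_X) is n-pseudo-coherent relative to f (chart form; in particular f is locally of finite
type). Then for every open U of X the termwise restriction E|_U is n-pseudo-coherent relative to U ⟶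
X ⟶ Y. -/
theorem result {X Y : Scheme.{u}} (f : X ⟶ Y) (n : ℤ) (E : CochainComplex X.Modules ℤ)
    (hE : DerSch.IsPseudoCoherentRel f n (DCoh.toD X E)) (U : X.Opens) :
    DerSch.IsPseudoCoherentRel (U.ι ≫ f) n (DCoh.toD (U : Scheme.{u}) ((DCoh.restrictCx U).obj E)) := by
  haveI : LocallyOfFiniteType f := hE.1
  refine Groth.Agent.Lib.Helper16.CI.isPseudoCoherentRel_of_forall (U.ι ≫ f) n _
    (fun W V hWV => ?_)
  have hW' : IsAffineOpen (U.ι ''ᵁ (W : (U : Scheme.{u}).Opens)) :=
    Groth.Agent.Lib.Helper16.CI.isAffineOpen_image U W W.2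
  have hW'V : U.ι ''ᵁ (W : (U : Scheme.{u}).Opens) ≤ f ⁻¹ᵁ (V : Y.Opens) := by
    rintro _ ⟨w, hw, rfl⟩
    exact hWV hw
  obtain ⟨k, φ, hφ⟩ := Groth.Agent.Lib.Helper16.CI.exists_isChart f hW' V.2 hW'V
  have c := Groth.Agent.Lib.Helper16.CI.chartPC_of_isPseudoCoherentRel f n _ hE hW' V.2 hW'V φ hφ
  refine ⟨k, φ, (Groth.Agent.Lib.Helper16.CI.isChart_image_iff U W f V hW'V hWV φ).1 hφ, ?_⟩
  have c2 := (Groth.Agent.Lib.Helper16.CI.chartPC_image_iff U W W.2 n _ (V : Y.Opens) φ hφ.1).1 c
  exact Groth.Agent.Lib.Helper16.CI.chartPC_of_iso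
    (Groth.Agent.Lib.Helper16.RS.RDQIso U.ι E) c2

end Groth.Agent.S6202
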