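import Groth.Statements.S6203
import Groth.Agent.Lib.Helper16.CI12

set_option autoImplicit false
universe u
open CategoryTheory CategoryTheory.Limits AlgebraicGeometry
attribute [local instance] HasDerivedCategory.standard
open KSix

namespace Groth.Agent.S6203

/-- Let f : X ⟶ Y be locally of finite type, n an integer, E a cochain complex of O_X-modules, and (U i)
a family of opens of X with union X such that, for every i, the termwise restriction E|_{U i} is
n-pseudo-coherent relative to U i ⟶ X ⟶ Y (chart form). Then E is n-pseudo-coherent relative to f. -/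
theorem result {X Y : Scheme.{u}} (f : X ⟶ Y) [LocallyOfFiniteType f] (n : ℤ)
    (E : CochainComplex X.Modules ℤ) {ι : Type u} (U : ι → X.Opens) (hU : ⨆ i, U i = ⊤)
    (h : ∀ i : ι, DerSch.IsPseudoCoherentRel ((U i).ι ≫ f) n (DCoh.toD (U i : Scheme.{u}) ((DCoh.restrictCx (U i)).obj E))) :
    DerSch.IsPseudoCoherentRel f n (DCoh.toD X E) := by
  refine ⟨inferInstance, Set.univ, ?_, fun V _ => ?_⟩
  · have := Groth.Agent.Lib.Helper16.CI.iSup_affineOpens_le (⊤ : Y.Opens)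
    simpa using this
  let 𝒰 : Set X.affineOpens := {A | (A : X.Opens) ≤ f ⁻¹ᵁ (V : Y.Opens) ∧
    ∃ i, ∃ W : ((U i : X.Opens) : Scheme.{u}).Opens, IsAffineOpen W ∧
      (A : X.Opens) = (U i).ι ''ᵁ W}
  refine ⟨𝒰, ?_, ?_⟩
  · apply le_antisymm
    · exact iSup₂_le fun A hA => hA.1
    · intro x hx
      have hx' : x ∈ (⨆ i, U i) := by rw [hU]; trivial
      obtain ⟨i, hxi⟩ := TopologicalSpace.Opens.mem_iSup.1 hx'
      obtain ⟨_, ⟨A, hA, rfl⟩, hxA, hAsub⟩ :=
        (X.isBasis_affineOpens).exists_subset_of_mem_open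
          (show x ∈ ((f ⁻¹ᵁ (V : Y.Opens) ⊓ U i : X.Opens) : Set X) from ⟨hx, hxi⟩)
          (f ⁻¹ᵁ (V : Y.Opens) ⊓ U i : X.Opens).isOpen
      rw [TopologicalSpace.Opens.mem_iSup]
      refine ⟨⟨A, hA⟩, ?_⟩
      rw [TopologicalSpace.Opens.mem_iSup]
      refine ⟨⟨fun y hy => (hAsub hy).1, i, (U i).ι ⁻¹ᵁ A,
        hA.preimage_of_isOpenImmersion (U i).ι (by
          rw [Scheme.Opens.opensRange_ι]
          exact fun y hy => (hAsub hy).2), ?_⟩, hxA⟩
      change A = (U i).ι ''ᵁ ((U i).ι ⁻¹ᵁ A)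
      rw [Scheme.Hom.image_preimage_eq_opensRange_inf, Scheme.Opens.opensRange_ι]
      exact (inf_eq_right.2 (fun y hy => (hAsub hy).2)).symm
  · rintro ⟨A, hA⟩ ⟨hAV, i, W, hW, hAW⟩ hle
    dsimp only at hAW hle ⊢
    subst hAW
    haveI : LocallyOfFiniteType ((U i).ι ≫ f) := (h i).1
    have hWV : W ≤ ((U i).ι ≫ f) ⁻¹ᵁ (V : Y.Opens) := fun w hw => hle ⟨w, hw, rfl⟩
    obtain ⟨k, φ, hφ⟩ := Groth.Agent.Lib.Helper16.CI.exists_isChart ((U i).ι ≫ f) hW V.2 hWV
    have c := Groth.Agent.Lib.Helper16.CI.chartPC_of_isPseudoCoherentRel ((U i).ι ≫ f) n _ (h i)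
      hW V.2 hWV φ hφ
    have c1 : DerSch.ChartPC (U := W) n
        ((Groth.Agent.Lib.Helper16.RS.RD (U i).ι).obj (DCoh.toD X E)) (V : Y.Opens) φ :=
      Groth.Agent.Lib.Helper16.CI.chartPC_of_iso
        (Groth.Agent.Lib.Helper16.RS.RDQIso (U i).ι E).symm c
    exact ⟨k, φ, (Groth.Agent.Lib.Helper16.CI.isChart_image_iff (U i) W f V hle hWV φ).2 hφ,
      (Groth.Agent.Lib.Helper16.CI.chartPC_image_iff (U i) W hW n _ (V : Y.Opens) φ hφ.1).2 c1⟩

end Groth.Agent.S6203
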