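import Groth.Statements.S6213
import Groth.Agent.Lib.Helper16.CI24
import Groth.Agent.Lib.Helper16.StalkTor1
import Groth.Agent.S6946

set_option autoImplicit false
universe u
open CategoryTheory CategoryTheory.Limits AlgebraicGeometry
attribute [local instance] HasDerivedCategory.standard
open KSix

namespace Groth.Agent.S6213

/-- Let f : X ⟶ Y be locally of finite type and M an O_X-module. Then M placed in degree 0 has perfect
amplitude in [0, 0] relative to f (pseudo-coherent relative to f in chart form and of stalkwise tor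
amplitude in [0, 0] over the local rings of Y) if and only if M is flat over Y at every point of X
and M placed in degree 0 is (-1)-pseudo-coherent relative to f (that is, finitely presented relative
to f). -/
theorem result {X Y : Scheme.{u}} (f : X ⟶ Y)
    [LocallyOfFiniteType f] (M : X.Modules) :
    DerSch.HasPerfAmplitudeRel f 0 0 ((HomologicalComplex.single _ (ComplexShape.up ℤ) 0).obj M) ↔
      (FlatMod.IsFlatOver f M ∧ DerSch.IsPseudoCoherentRel f (-1) (DCoh.toD X ((HomologicalComplex.single _ (ComplexShape.up ℤ) 0).obj M))) := by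
  have key : ∀ x : X, DerSch.HasTorAmplitudeAt f 0 0
      ((HomologicalComplex.single _ (ComplexShape.up ℤ) 0).obj M) x ↔
        FlatMod.IsFlatOverAt f M x := by
    intro x
    have e : DRing.toD ((DerSch.stalkCxOver f x).obj
        ((HomologicalComplex.single _ (ComplexShape.up ℤ) 0).obj M)) ≅
          Dual.inD (Y.presheaf.stalk (f.base x)) ((DerSch.stalkOver f x).obj M) :=
      DerivedCategory.Q.mapIso ((HomologicalComplex.singleMapHomologicalComplex
        (DerSch.stalkOver f x) (ComplexShape.up ℤ) 0).app M) ≪≫
        ((DerivedCategory.singleFunctorIsoCompQ _ 0).app _).symm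
    have h1 := Groth.Agent.S6946.result (Y.presheaf.stalk (f.base x))
      ((DerSch.stalkOver f x).obj M) 0
    have h0 : (-((0 : ℕ) : ℤ)) = 0 := rfl
    rw [h0] at h1
    have h2 : Module.Flat (Y.presheaf.stalk (f.base x)) ((DerSch.stalkOver f x).obj M) ↔
        FlatMod.IsFlatOverAt f M x := Iff.rfl
    rw [← h2]
    constructor
    · intro h
      exact h1.2.1 (h1.1.2 (Groth.Agent.Lib.Helper16.TorAmp.hasTorAmplitudeIn_of_iso e _ _ h))
    · intro h
      exact Groth.Agent.Lib.Helper16.TorAmp.hasTorAmplitudeIn_of_iso e.symm _ _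
        (h1.1.1 (h1.2.2 h))
  have eM : DCoh.toD X ((HomologicalComplex.single _ (ComplexShape.up ℤ) 0).obj M) ≅
      DCoh.inD X M := ((DerivedCategory.singleFunctorIsoCompQ X.Modules 0).app M).symm
  constructor
  · rintro ⟨h1, h2⟩
    exact ⟨fun x => (key x).1 (h2 x), h1 (-1)⟩
  · rintro ⟨h1, h2⟩
    refine ⟨fun m => ?_, fun x => (key x).2 (h1 x)⟩
    exact Groth.Agent.Lib.Helper16.CI.isPseudoCoherentRel_of_iso f eM.symm
      (Groth.Agent.Lib.Helper16.CI.isPseudoCoherentRel_inD_of_flat f M h1
        (Groth.Agent.Lib.Helper16.CI.isPseudoCoherentRel_of_iso f eM h2) m)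

end Groth.Agent.S6213
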