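import Groth.Statements.S6225
import Groth.Agent.Lib.Helper16.CI20

set_option autoImplicit false
universe u
open CategoryTheory CategoryTheory.Limits AlgebraicGeometry
attribute [local instance] HasDerivedCategory.standard
open KSix

namespace Groth.Agent.S6225

/-- Last assertion: a morphism f : X ⟶ Y locally of finite type is (-1)-pseudo-coherent (O_X placed in
degree 0 is (-1)-pseudo-coherent relative to f, in chart form) if and only if f is locally of finite
presentation. -/
theorem result {X Y : Scheme.{u}} (f : X ⟶ Y) [LocallyOfFiniteType f] :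
    DerSch.IsNPseudoCoherent f (-1) ↔ LocallyOfFinitePresentation f := by
  constructor
  · intro h
    refine ⟨fun {V} hV {U} hU e => ?_⟩
    obtain ⟨n, φ, hφ⟩ := Groth.Agent.Lib.Helper16.CI.exists_isChart f hU hV e
    exact (Groth.Agent.Lib.Helper16.CI.chartPC_negOne_unit_iff f hU hV e φ hφ).1
      (Groth.Agent.Lib.Helper16.CI.chartPC_of_isPseudoCoherentRel f (-1) _ h hU hV e φ hφ)
  · intro h
    refine Groth.Agent.Lib.Helper16.CI.isPseudoCoherentRel_of_forall f (-1) _ (fun U V hUV => ?_)
    have hU : IsAffineOpen (U : X.Opens) := U.2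
    have hV : IsAffineOpen (V : Y.Opens) := V.2
    obtain ⟨n, φ, hφ⟩ := Groth.Agent.Lib.Helper16.CI.exists_isChart f hU hV hUV
    exact ⟨n, φ, hφ, (Groth.Agent.Lib.Helper16.CI.chartPC_negOne_unit_iff f hU hV hUV φ hφ).2
      (LocallyOfFinitePresentation.finitePresentation_appLE f hV hU hUV)⟩

end Groth.Agent.S6225
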