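import Groth.Statements.S6219
import Groth.Agent.Lib.Helper16.SmTor4
import Groth.Agent.S4275

set_option autoImplicit false
universe u
open CategoryTheory CategoryTheory.Limits AlgebraicGeometry
attribute [local instance] HasDerivedCategory.standard
open KSix

namespace Groth.Agent.S6219

open Groth.Agent.Lib.Helper16.RS Groth.Agent.Lib.Helper1.LocPC in
/-- flat amplitude in an empty range gives perfect amplitude in that range. -/
theorem hasPerfectAmplitudeIn_of_lt {Z : Scheme.{u}} (K : DCoh.D Z) (m n : ℤ) (hmn : n < m)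
    (h : DCoh.HasFlatAmplitudeIn m n K) : KSix.HasPerfectAmplitudeIn m n K := by
  obtain ⟨E, hE, -, ⟨e⟩⟩ := h
  intro x
  refine ⟨⊤, trivial, fun F₀ ⟨e₀⟩ => ?_⟩
  obtain ⟨e'⟩ := nonempty_iso_Q_RCx (⊤ : Z.Opens).ι (e₀ ≪≫ e.symm)
  have hz : ∀ k : ℤ, IsZero (((DCoh.restrictCx (⊤ : Z.Opens)).obj E).X k) := fun k =>
    (Scheme.Modules.restrictFunctor (⊤ : Z.Opens).ι).map_isZero (hE k (by omega))
  exact ⟨(DCoh.restrictCx (⊤ : Z.Opens)).obj E, fun k _ => hz k,
    fun k => isFinLocFree_of_isZero _ (hz k), ⟨e'⟩⟩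

/-- Let i : X ⟶ Y be a closed immersion, g : Y ⟶ S smooth of relative dimension at most d (every point
of Y has an open neighbourhood on which g is smooth of some relative dimension n ≤ d), a and b
integers, and F a cochain complex of O_X-modules with perfect amplitude in [a, b] relative to i ≫ g
(pseudo-coherent relative to it in chart form, with stalkwise tor amplitude in [a, b] over the local
rings of S). Then the termwise direct image i_* F has perfect amplitude in [a - d, b] on Y in the
absolute sense (locally isomorphic in D to a complex of finite locally free modules placed in [a -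
d, b]). -/
theorem result {X Y S : Scheme.{u}} (i : X ⟶ Y) [IsClosedImmersion i]
    (g : Y ⟶ S) [Smooth g] (d : ℕ)
    (hd : ∀ y : Y, ∃ (n : ℕ) (V : Y.Opens), n ≤ d ∧ y ∈ V ∧ SmoothOfRelativeDimension n (V.ι ≫ g))
    (a b : ℤ) (F : CochainComplex X.Modules ℤ) (hF : DerSch.HasPerfAmplitudeRel (i ≫ g) a b F) :
    KSix.HasPerfectAmplitudeIn (a - d) b (DCoh.toD Y (((Scheme.Modules.pushforward i).mapHomologicalComplex (ComplexShape.up ℤ)).obj F)) := by
  haveI : Flat g := inferInstance
  have hflat := Groth.Agent.Lib.Helper16.SmTor.hasFlatAmplitudeIn_pushforward i g F d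
    (fun x => Groth.Agent.Lib.Helper16.SmTor.flatTD_of_relDim_le g d hd _) a b hF.2
  by_cases hab : a - (d : ℤ) ≤ b
  · rw [Groth.Agent.S4275.result Y _ (a - d) b hab]
    exact ⟨(Groth.Agent.Lib.Helper16.SmTor.isPseudoCoherentD_pushforward_iff i g F _).1 (hF.1 _),
      hflat⟩
  · exact hasPerfectAmplitudeIn_of_lt _ _ _ (by omega) hflat

end Groth.Agent.S6219
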