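import Groth.Statements.S6235
import Groth.Agent.Lib.Helper16.CIPC9

set_option autoImplicit false
universe u
open CategoryTheory CategoryTheory.Limits AlgebraicGeometry
attribute [local instance] HasDerivedCategory.standard
open KSix

namespace Groth.Agent.S6235

/-- Let f : X ⟶ Y be a morphism of schemes and E an object of D(O_X) which is pseudo-coherent relative
to f (chart form, every degree; in particular f is locally of finite type). Then the cohomology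
sheaves of E are quasi-coherent. -/
theorem result {X Y : Scheme.{u}} (f : X ⟶ Y) (E : DCoh.D X)
    (hE : DerSch.IsPseudoCoherentRelAll f E) : DCoh.IsQCohD E := by
  intro k
  apply Groth.Agent.Lib.Helper1.LocFree.isQuasicoherent_of_locally
  intro x
  obtain ⟨-, 𝒱, h𝒱, hV⟩ := hE (k - 1)
  have hx : f x ∈ (⨆ V ∈ 𝒱, (V : Y.Opens)) := by rw [h𝒱]; trivial
  obtain ⟨V, hx⟩ := TopologicalSpace.Opens.mem_iSup.1 hx
  obtain ⟨hV𝒱, hxV⟩ := TopologicalSpace.Opens.mem_iSup.1 hx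
  obtain ⟨𝒰, h𝒰, hU⟩ := hV V hV𝒱
  have hx' : x ∈ (⨆ U ∈ 𝒰, (U : X.Opens)) := by rw [h𝒰]; exact hxV
  obtain ⟨U, hx'⟩ := TopologicalSpace.Opens.mem_iSup.1 hx'
  obtain ⟨hU𝒰, hxU⟩ := TopologicalSpace.Opens.mem_iSup.1 hx'
  have hle : (U : X.Opens) ≤ f ⁻¹ᵁ (V : Y.Opens) := by
    rw [← h𝒰]
    exact le_iSup₂ (f := fun (U : X.affineOpens) (_ : U ∈ 𝒰) => (U : X.Opens)) U hU𝒰
  obtain ⟨n, φ, hφ, hpc⟩ := hU U hU𝒰 hle
  exact ⟨U, hxU, Groth.Agent.Lib.Helper16.CIPC.isQuasicoherent_restrict_HD_of_chartPC f k E U.2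
    (V : Y.Opens) hle φ hφ hpc⟩

end Groth.Agent.S6235
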