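import Groth.Statements.S6236
import Groth.Agent.Lib.Helper16.CIPC7

set_option autoImplicit false
universe u
open CategoryTheory CategoryTheory.Limits AlgebraicGeometry
attribute [local instance] HasDerivedCategory.standard
open KSix

namespace Groth.Agent.S6236

/-- Let f : X ⟶ Y be a morphism of schemes with X quasi-compact, n an integer, and E an object of D(O_X)
which is n-pseudo-coherent relative to f (chart form; in particular f is locally of finite type).
Then the cohomology of E is bounded above. (Without quasi-compactness of X the cohomology is only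
locally bounded above.) -/
theorem result {X Y : Scheme.{u}} [CompactSpace X] (f : X ⟶ Y) (n : ℤ)
    (E : DCoh.D X) (hE : DerSch.IsPseudoCoherentRel f n E) : ∃ b : ℤ, E.IsLE b := by
  obtain ⟨-, 𝒱, h𝒱, hV⟩ := hE
  refine Groth.Agent.Lib.Helper16.CIPC.exists_isLE_of_locally E (fun x => ?_)
  have hx : f x ∈ (⨆ V ∈ 𝒱, (V : Y.Opens)) := by rw [h𝒱]; trivial
  obtain ⟨V, hx⟩ := TopologicalSpace.Opens.mem_iSup.1 hx
  obtain ⟨hV𝒱, hxV⟩ := TopologicalSpace.Opens.mem_iSup.1 hx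
  obtain ⟨𝒰, h𝒰, hU⟩ := hV V hV𝒱
  have hx' : x ∈ (⨆ U ∈ 𝒰, (U : X.Opens)) := by rw [h𝒰]; exact hxV
  obtain ⟨U, hx'⟩ := TopologicalSpace.Opens.mem_iSup.1 hx'
  obtain ⟨hU𝒰, hxU⟩ := TopologicalSpace.Opens.mem_iSup.1 hx'
  have hle : (U : X.Opens) ≤ f ⁻¹ᵁ (V : Y.Opens) := by
    rw [← h𝒰]
    exact le_iSup₂ (f := fun (U : X.affineOpens) (_ : U ∈ 𝒰) => (U : X.Opens)) U hU𝒰
  obtain ⟨k, φ, hφ, hpc⟩ := hU U hU𝒰 hle
  obtain ⟨b, hb⟩ := Groth.Agent.Lib.Helper16.CIPC.exists_isLE_RD_of_chartPC f n E U.2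
    (V : Y.Opens) hle φ hφ hpc
  exact ⟨U, b, hxU, hb⟩

end Groth.Agent.S6236
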