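import Groth.Statements.S6238
import Groth.Agent.Lib.Helper16.CI16
import Groth.Agent.Lib.Helper15.RelPC19
import Groth.Agent.Lib.Helper15.RelPC22

set_option autoImplicit false
universe u
open CategoryTheory CategoryTheory.Limits AlgebraicGeometry
attribute [local instance] HasDerivedCategory.standard
open KSix

namespace Groth.Agent.S6238

open Groth.Agent.Lib.Helper15.RelPC15 Groth.Agent.Lib.Helper15.RelPC21
  Groth.Agent.Lib.Helper15.RelPC11 Groth.Agent.Lib.Helper16.TorBal
  Groth.Agent.Lib.Helper2.KosTor2 Groth.Agent.Lib.Helper2.KosChi2 in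
/-- tor dimension of the quotient by a Koszul-regular sequence. -/
theorem tdle_mk_of_koszulRegular {A : Type u} [CommRing A] (l : List A)
    (hl : LCI.IsKoszulRegularSeq A l) : TDLE l.length (Ideal.Quotient.mk (Ideal.ofList l)) := by
  obtain ⟨e⟩ := nonempty_toD_koszul_iso l hl
  have hproj := Groth.Agent.Lib.Helper2.KosChi2.projective_koszul l
  unfold TDLE
  rw [hasTorDimLE_iff_torAmp]
  refine ⟨Koszul.koszul A l, fun i hi => ?_, fun i => ?_, ⟨e⟩⟩
  · rcases hi with hi | hi
    · exact isZero_koszul_X_lt l i hi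
    · exact isZero_koszul_X l i hi
  · haveI := hproj i
    infer_instance

open Groth.Agent.Lib.Helper15.RelPC21 in
theorem tdle_of_koszulRegular {A B : Type u} [CommRing A] [CommRing B] (l : List A)
    (hl : LCI.IsKoszulRegularSeq A l) (φ : A →+* B) (hφ : Function.Surjective φ)
    (hker : RingHom.ker φ = Ideal.ofList l) : TDLE l.length φ := by
  have h0 := tdle_mk_of_koszulRegular l hl
  rw [← hker] at h0
  let e : A ⧸ RingHom.ker φ ≃+* B := RingHom.quotientKerEquivOfSurjective hφ
  have h1 := tdle_comp _ _ h0 (tdle_of_bijective e.toRingHom e.bijective)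
  have : e.toRingHom.comp (Ideal.Quotient.mk (RingHom.ker φ)) = φ := by
    ext a
    rfl
  rw [this, Nat.zero_add] at h1
  exact h1

/-- An immersion i : Z ⟶ X which is Koszul-regular of codimension d (around every point, over an affine
open of X on which i is a closed immersion, the ideal is generated by d sections whose Koszul
complex is acyclic in positive degrees) has perfect dimension at most d: O_Z placed in degree 0 is
pseudo-coherent relative to i (chart form) with stalkwise tor amplitude in [-d, 0] over the local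
rings of X. -/
theorem result {Z X : Scheme.{u}} (i : Z ⟶ X) (d : ℕ)
    (hi : RegImm.IsRegularImmersionOfCodim RegImm.Kind.koszul d i) :
    DerSch.HasPerfDimLE i d := by
  obtain ⟨himm, hloc⟩ := hi
  haveI : LocallyOfFiniteType i := by
    rw [← i.liftCoborder_ι]
    infer_instance
  have hreg : RegImm.IsRegularImmersion RegImm.Kind.koszul i :=
    ⟨himm, fun z => by
      obtain ⟨U, hzU, hci, rs, -, hrs, hker⟩ := hloc z
      exact ⟨U, hzU, hci, rs, hrs, hker⟩⟩
  have hperf := Groth.Agent.Lib.Helper15.RelPC19.isPerfectMor_of_koszulImmersion i hreg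
  refine ⟨fun n => Groth.Agent.Lib.Helper16.CI.isNPseudoCoherent_of_isPseudoCoherentHom i
    (fun U V hU hV hUV => (hperf U V hU hV hUV).1) n, fun z => ?_⟩
  obtain ⟨W, hzW, hci, rs, hlen, hrs, hker⟩ := hloc z
  have haff : IsAffineOpen (i ⁻¹ᵁ W.1) := by
    haveI : IsAffine (W.1 : Scheme) := W.2
    exact isAffine_of_isAffineHom (i ∣_ W.1)
  have hsurj : Function.Surjective (i.app W.1).hom := by
    have h1 := (i ∣_ W.1).app_surjective ⊤ (isAffineOpen_top _)
    rw [morphismRestrict_app'] at h1
    rw [Scheme.Hom.app_eq_appLE]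
    exact (i.appLE_congr _ (Scheme.Opens.ι_image_top _)
      (by simp) (fun f => Function.Surjective f.hom)).1 h1
  have h2 := tdle_of_koszulRegular rs hrs _ hsurj hker
  rw [Scheme.Hom.app_eq_appLE, hlen] at h2
  exact Groth.Agent.Lib.Helper15.RelPC22.hasTorAmplitudeAt_unit_of_appLE i W.1 W.2 (i ⁻¹ᵁ W.1)
    haff le_rfl hzW d h2

end Groth.Agent.S6238
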