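import Groth.Statements.S6239
import Mathlib
-- import your own Groth.Agent.* helpers here

set_option autoImplicit false
universe u
open CategoryTheory CategoryTheory.Limits AlgebraicGeometry
attribute [local instance] HasDerivedCategory.standard
open KSix

namespace Groth.Agent.S6239

theorem torAmp_mono {X Y : Scheme.{u}} (f : X ⟶ Y) (F : CochainComplex X.Modules ℤ) (x : X)
    {a b a' b' : ℤ} (ha : a' ≤ a) (hb : b ≤ b') (h : DerSch.HasTorAmplitudeAt f a b F x) :
    DerSch.HasTorAmplitudeAt f a' b' F x := by
  obtain ⟨E, hE, hfl, hiso⟩ := h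
  refine ⟨E, fun i hi => hE i ?_, hfl, hiso⟩
  rcases hi with hi | hi
  · exact Or.inl (lt_of_lt_of_le hi ha)
  · exact Or.inr (lt_of_le_of_lt hb hi)

/-- Let f : X ⟶ Y be a morphism with X quasi-compact and F a cochain complex of O_X-modules which is
perfect relative to f (pseudo-coherent relative to f in chart form, and locally on X of finite
stalkwise tor amplitude over the local rings of Y). Then F has finite perfect amplitude relative to
f: one interval [a, b] works at every point of X. -/
theorem result {X Y : Scheme.{u}} [CompactSpace X] (f : X ⟶ Y)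
    (F : CochainComplex X.Modules ℤ) (hF : DerSch.IsPerfectRel f F) :
    DerSch.HasFinitePerfAmplitudeRel f F := by
  obtain ⟨hpc, hloc⟩ := hF
  choose V a b hxV hV using hloc
  obtain ⟨t, ht⟩ := isCompact_univ.elim_finite_subcover (fun x => ((V x : X.Opens) : Set X))
    (fun x => (V x).isOpen) (fun x _ => Set.mem_iUnion.mpr ⟨x, hxV x⟩)
  obtain ⟨B, hB⟩ := (t.image b).exists_le
  obtain ⟨M, hM⟩ := (t.image (fun x => - a x)).exists_le
  have hA : ∀ x ∈ t, -M ≤ a x := fun x hx => by
    have := hM _ (Finset.mem_image_of_mem (fun x => - a x) hx)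
    linarith
  refine ⟨-M, B, hpc, fun x => ?_⟩
  have hx := ht (Set.mem_univ x)
  simp only [Set.mem_iUnion] at hx
  obtain ⟨x₀, hx₀t, hx₀⟩ := hx
  exact torAmp_mono f F x (hA _ hx₀t)
    (hB _ (Finset.mem_image_of_mem b hx₀t)) (hV x₀ x hx₀)

end Groth.Agent.S6239
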