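import Groth.Statements.S6240
import Groth.Agent.Lib.Helper16.TorLoc6
import Groth.Agent.Lib.Helper16.StalkTor1
import Groth.Agent.Lib.Helper16.KD3
import Groth.Agent.Lib.Helper16.KD12
import Groth.Agent.Lib.Helper16.PB1
import Groth.Agent.Lib.Helper16.Fl2
import Groth.Agent.S6200
import Groth.Agent.S6188

set_option autoImplicit false
universe u
open CategoryTheory CategoryTheory.Limits AlgebraicGeometry
attribute [local instance] HasDerivedCategory.standard
open KSix

namespace Groth.Agent.S6240

open Groth.Agent.Lib.Helper16 Groth.Agent.Lib.Helper16.TorLoc Groth.Agent.Lib.Helper16.Stk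
  DerivedCategory MonoidalCategory

/-- Let f : X ⟶ Y and g : Y ⟶ Z be morphisms of schemes with composite h, F a cochain complex of
O_X-modules with tor amplitude in [a, b] relative to f, and G a cochain complex of O_Y-modules with
tor amplitude in [c, d] relative to g (both stalkwise: at every point the complex of stalks is
isomorphic, in the derived category of the local ring of the base, to a complex of flat modules
placed in the interval). Then, the derived pullback Lf^* and the derived tensor product with F being
assumed to exist, the object Lf^* G ⊗^L F of D(O_X) has tor amplitude in [a + c, b + d] relative to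
h: every cochain complex representing it has stalkwise flat models placed in [a + c, b + d] over the
local rings of Z. (The published statement is for a commutative triangle of ringed topoi in which X
has enough points, and writes the relative derived tensor product of F and G over Y, defined as F
⊗^L Lf^* G; this row is the case of schemes, with tor amplitude in its stalkwise form and the
derived tensor product taken with F as the fixed right-hand factor.) -/
theorem result {X Y Z : Scheme.{u}} (f : X ⟶ Y) (g : Y ⟶ Z)
    (h : X ⟶ Z) (w : f ≫ g = h) (F : CochainComplex X.Modules ℤ) (a b : ℤ)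
    (hF : DerSch.HasTorAmplitude f a b F) (G : CochainComplex Y.Modules ℤ) (c d : ℤ)
    (hG : DerSch.HasTorAmplitude g c d G) [DCoh.HasLpull f] [DCoh.HasLTensorCx F] :
    DerSch.HasTorAmplitudeD h (a + c) (b + d)
      ((DCoh.LTensorCx F).obj ((DCoh.Lpull f).obj (DCoh.toD Y G))) := by
  subst w
  intro F' ⟨eF'⟩ x
  obtain ⟨G', p, hG'K, -, hp, -⟩ := exists_kFlat_resolution G
  haveI := hp
  haveI : IsIso (Q.map p) := by rw [isIso_Q_map_iff_quasiIso]; infer_instance
  have hPK : DCoh.IsKFlat ((KD.pullCx f).obj G') := pullback_isKFlat f G' hG'K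
  have e : DCoh.toD X F' ≅
      DCoh.toD X ((DCoh.tensorCx.obj ((KD.pullCx f).obj G')).obj F) :=
    eF' ≪≫ (DCoh.LTensorCx F).mapIso ((DCoh.Lpull f).mapIso (asIso (Q.map p)).symm ≪≫
      KD.LpullIso f G' hG'K) ≪≫ KD.LTensorCxIso F _ hPK
  have hPK' : DRing.IsKFlat (Y.presheaf.stalk (f.base x)) (stkCx (f.base x) G') :=
    stalk_isKFlat_of_isKFlat (f.base x) G' hG'K
  have hPA : DRing.HasTorAmplitudeIn (Z.presheaf.stalk (g.base (f.base x))) c d
      (DRing.toD ((resCx (g.stalkMap (f.base x)).hom).obj (stkCx (f.base x) G'))) := by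
    haveI := Groth.Agent.S6188.quasiIso_stkCx_map (f.base x) p
    refine (torAmp_resCx_of_quasiIso (g.stalkMap (f.base x)).hom
      (((stk (f.base x)).mapHomologicalComplex (ComplexShape.up ℤ)).map p) c d).2 ?_
    exact TorAmp.hasTorAmplitudeIn_of_iso
      (Q.mapIso (Groth.Agent.S6188.stalkCxOverIso g (f.base x) G)) c d (hG (f.base x))
  have hW : DRing.HasTorAmplitudeIn (Y.presheaf.stalk (f.base x)) a b
      (DRing.toD ((resCx (f.stalkMap x).hom).obj (stkCx x F))) :=
    TorAmp.hasTorAmplitudeIn_of_iso (Q.mapIso (Groth.Agent.S6188.stalkCxOverIso f x F)) a b (hF x)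
  have key := torAmp_restrict_ext_tensor (g.stalkMap (f.base x)).hom (f.stalkMap x).hom
    (stkCx (f.base x) G') hPK' c d hPA (stkCx x F) a b hW
  have e2 : DRing.toD (stkCx x F') ≅
      DRing.toD ((extCx (f.stalkMap x).hom).obj (stkCx (f.base x) G') ⊗ stkCx x F) :=
    Groth.Agent.S6200.stkIsoOfIso x e ≪≫ Q.mapIso ((stalkTensorCxIso x _ F).symm ≪≫
      whiskerRightIso (pullbackStkCxIso f x G') _)
  have e3 : DRing.toD ((DerSch.stalkCxOver (f ≫ g) x).obj F') ≅
      DRing.toD ((resCx (g.stalkMap (f.base x)).hom).obj
        ((resCx (f.stalkMap x).hom).obj (stkCx x F'))) :=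
    Q.mapIso (StalkTor.stalkCxOverCompIso f g x F' ≪≫
      (resCx (g.stalkMap (f.base x)).hom).mapIso (Groth.Agent.S6188.stalkCxOverIso f x F'))
  exact TorAmp.hasTorAmplitudeIn_of_iso
    (e3 ≪≫ Groth.Agent.S6188.resResIsoOfIso (g.stalkMap (f.base x)).hom
      (f.stalkMap x).hom e2).symm _ _ key

end Groth.Agent.S6240
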