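import Groth.Statements.S6241
import Groth.Agent.Lib.Helper16.TorLoc7
import Groth.Agent.Lib.Helper16.KD3
import Groth.Agent.Lib.Helper16.KD7
import Groth.Agent.Lib.Helper16.KD12
import Groth.Agent.Lib.Helper16.Fl2

set_option autoImplicit false
universe u
open CategoryTheory CategoryTheory.Limits AlgebraicGeometry
attribute [local instance] HasDerivedCategory.standard
open KSix

namespace Groth.Agent.S6241

open Groth.Agent.Lib.Helper16 Groth.Agent.Lib.Helper16.TorLoc Groth.Agent.Lib.Helper16.Stk
  DerivedCategory MonoidalCategory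

/-- the general statement: cohomology of `Lf^* M ⊗^L F` vanishes outside the tor amplitude of `F`
relative to `f`. -/
theorem isZero_HD_ltensor_Lpull {X Y : Scheme.{u}} (f : X ⟶ Y) (F : CochainComplex X.Modules ℤ)
    (m n : ℤ) (hF : DerSch.HasTorAmplitude f m n F) (M : Y.Modules) [DCoh.HasLpull f]
    [DCoh.HasLTensorCx F] (i : ℤ) (hi : i < m ∨ n < i) :
    IsZero (DCoh.HD ((DCoh.LTensorCx F).obj ((DCoh.Lpull f).obj (DCoh.inD Y M))) i) := by
  obtain ⟨G', p, hG'K, -, hp, -⟩ :=
    exists_kFlat_resolution ((CochainComplex.singleFunctor Y.Modules 0).obj M)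
  haveI := hp
  haveI : IsIso (Q.map p) := by rw [isIso_Q_map_iff_quasiIso]; infer_instance
  have hPK : DCoh.IsKFlat ((KD.pullCx f).obj G') := pullback_isKFlat f G' hG'K
  have e : (DCoh.LTensorCx F).obj ((DCoh.Lpull f).obj (DCoh.inD Y M)) ≅
      DCoh.toD X ((DCoh.tensorCx.obj ((KD.pullCx f).obj G')).obj F) :=
    (DCoh.LTensorCx F).mapIso ((DCoh.Lpull f).mapIso
      ((singleFunctorIsoCompQ Y.Modules 0).app M ≪≫ (asIso (Q.map p)).symm) ≪≫
      KD.LpullIso f G' hG'K) ≪≫ KD.LTensorCxIso F _ hPK
  refine IsZero.of_iso ?_ ((DerivedCategory.homologyFunctor X.Modules i).mapIso e ≪≫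
    (homologyFunctorFactors X.Modules i).app _)
  change IsZero (HomologicalComplex.homology _ i)
  rw [← HomologicalComplex.exactAt_iff_isZero_homology, KD.exactAt_iff_forall_stalk]
  intro x
  have hW : DRing.HasTorAmplitudeIn (Y.presheaf.stalk (f.base x)) m n
      (DRing.toD ((resCx (f.stalkMap x).hom).obj (stkCx x F))) :=
    TorAmp.hasTorAmplitudeIn_of_iso (Q.mapIso (Groth.Agent.S6188.stalkCxOverIso f x F)) m n (hF x)
  have hPK' : DRing.IsKFlat (Y.presheaf.stalk (f.base x)) (stkCx (f.base x) G') :=
    stalk_isKFlat_of_isKFlat (f.base x) G' hG'K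
  haveI := Groth.Agent.S6188.quasiIso_stkCx_map (f.base x) p
  let p' : stkCx (f.base x) G' ⟶ sgl ((stk (f.base x)).obj M) :=
    ((stk (f.base x)).mapHomologicalComplex (ComplexShape.up ℤ)).map p ≫
      ((HomologicalComplex.singleMapHomologicalComplex (stk (f.base x)) (ComplexShape.up ℤ) 0).app
        M).hom
  haveI : QuasiIso p' := by dsimp only [p']; infer_instance
  have key := exactAt_ext_tensor (f.stalkMap x).hom (stkCx x F) m n hW _ (stkCx (f.base x) G') p'
    hPK' i hi
  exact (KF.exactAt_iff_of_iso ((stalkTensorCxIso x _ F).symm ≪≫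
    whiskerRightIso (pullbackStkCxIso f x G') _) i).2 key

/-- Let f : X ⟶ Y be a morphism of schemes and F a cochain complex of O_X-modules with bounded above
cohomology and tor amplitude in [m, n] relative to f in the stalkwise sense (at every point x of X
the complex of stalks F_x is isomorphic, in the derived category of the local ring of Y at f x, to a
complex of flat modules placed in [m, n]). Then for every open V of Y and every O_V-module M, the
derived pullback along the restriction f⁻¹(V) ⟶ V of f and the derived tensor product with the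
restriction of F to f⁻¹(V) being assumed to exist, the cohomology sheaves of L(f|)^* M ⊗^L (F
restricted to f⁻¹(V)) vanish outside [m, n]. (The published statement is for a morphism of ringed
topoi whose source has enough points, with V an object of the target topos; this row is the case of
schemes, V an open subscheme, and the derived tensor product taken with the restriction of F as the
fixed right-hand factor.) -/
theorem result {X Y : Scheme.{u}} (f : X ⟶ Y)
    (F : CochainComplex X.Modules ℤ) (e : ℤ) [(DCoh.toD X F).IsLE e] (m n : ℤ)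
    (hF : DerSch.HasTorAmplitude f m n F) (V : Y.Opens) (M : (V : Scheme.{u}).Modules)
    [DCoh.HasLpull (f ∣_ V)] [DCoh.HasLTensorCx ((DCoh.restrictCx (f ⁻¹ᵁ V)).obj F)]
    (i : ℤ) (hi : i < m ∨ n < i) :
    IsZero (DCoh.HD ((DCoh.LTensorCx ((DCoh.restrictCx (f ⁻¹ᵁ V)).obj F)).obj
      ((DCoh.Lpull (f ∣_ V)).obj (DCoh.inD (V : Scheme.{u}) M))) i) := by
  have hF' : DerSch.HasTorAmplitude (f ∣_ V) m n ((DCoh.restrictCx (f ⁻¹ᵁ V)).obj F) :=
    hasTorAmplitude_RCx_of_square f (f ∣_ V) (f ⁻¹ᵁ V).ι V.ι (morphismRestrict_ι f V).symm F m n hF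
  exact isZero_HD_ltensor_Lpull (f ∣_ V) _ m n hF' M i hi

end Groth.Agent.S6241
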