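import Groth.Statements.S6247
import Groth.Agent.Lib.Helper1.KFlatSite6
import Groth.Agent.Lib.Helper1.TensorAssoc

set_option autoImplicit false
universe u
open CategoryTheory CategoryTheory.Limits AlgebraicGeometry
attribute [local instance] HasDerivedCategory.standard
open KSix

namespace Groth.Agent.S6247

open Groth.Agent.Lib.Helper16.BiCx Groth.Agent.Lib.Helper1.KFlatSite Groth.Agent.Lib.Helper1.KFlatA

variable {C : Type u} [SmallCategory C] {J : GrothendieckTopology C} (O : Sheaf J CommRingCat.{u})

lemma isZero_tensor_left {M : ModSite.Mod O} (hM : IsZero M) (N : ModSite.Mod O) :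
    IsZero (((ModSite.tensorBi O).obj M).obj N) :=
  (Functor.isZero_iff _).1 ((ModSite.tensorBi O).map_isZero hM) N

lemma isZero_tensor_right (M : ModSite.Mod O) {N : ModSite.Mod O} (hN : IsZero N) :
    IsZero (((ModSite.tensorBi O).obj M).obj N) :=
  ((ModSite.tensorBi O).obj M).map_isZero hN

instance preservesColimitsOfShape_int_tensorBi_obj (M : ModSite.Mod O) :
    PreservesColimitsOfShape (Discrete ℤ) ((ModSite.tensorBi O).obj M) := by
  haveI : PreservesColimitsOfSize.{u, u} ((ModSite.tensorBi O).obj M) :=
    inferInstanceAs (PreservesColimitsOfSize.{u, u} (Groth.Agent.Lib.Helper1.ModFlat.tensL O M))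
  haveI : PreservesColimitsOfSize.{0, 0} ((ModSite.tensorBi O).obj M) :=
    preservesColimitsOfSize_shrink.{0, u, 0, u} _
  infer_instance

lemma isFlat_T_X (P F : CochainComplex (ModSite.Mod O) ℤ) (hP : ∀ i, ModSite.IsFlat (P.X i))
    (hF : ∀ i, ModSite.IsFlat (F.X i)) (i : ℤ) :
    ModSite.IsFlat ((T (ModSite.tensorBi O) P F).X i) := by
  refine isFlat_of_isColimit' O
    (Discrete.functor (fun q : ℤ => ((ModSite.tensorBi O).obj (P.X (i - q))).obj (F.X q)))
    (fun q => Groth.Agent.Lib.Helper1.TensorAssoc.isFlat_tensor O _ _ (hP _) (hF _))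
    (cofanZ (ModSite.tensorBi O) P F i) (isColimitCofanZ (ModSite.tensorBi O) P F i)

lemma isZero_T_X (P F : CochainComplex (ModSite.Mod O) ℤ) (i : ℤ)
    (h : ∀ q : ℤ, IsZero (P.X (i - q)) ∨ IsZero (F.X q)) :
    IsZero ((T (ModSite.tensorBi O) P F).X i) := by
  rw [IsZero.iff_id_eq_zero]
  apply (isColimitCofanZ (ModSite.tensorBi O) P F i).hom_ext
  rintro ⟨q⟩
  have hz : IsZero (((ModSite.tensorBi O).obj (P.X (i - q))).obj (F.X q)) := by
    rcases h q with h | h
    · exact isZero_tensor_left O h _
    · exact isZero_tensor_right O _ h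
  exact hz.eq_of_src _ _

/-- One ringed site: let (C, J, O) be a small site with a sheaf of commutative rings O, let E be a
cochain complex of O-modules isomorphic in D(O) to a complex P of flat O-modules which vanishes
outside [m, n] (E has flat amplitude in [m, n]), and let F be a cochain complex of flat O-modules
which vanishes outside [m', n']. Then, the derived tensor product − ⊗^L_O F being assumed to exist,
E ⊗^L_O F is isomorphic in D(O) to a complex of flat O-modules vanishing outside [m + m', n + n']:
flat amplitudes add, and in particular the derived tensor product of two objects of finite flat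
amplitude has finite flat amplitude. (The published statement is for a morphism of ringed topoi f
from S' to S and the external derived tensor product of an object over S' with an object over S,
flatness meaning exactness of the tensor product functor; this row is the case S' = S with f the
identity, on the topos of sheaves on a small site, with the second factor given by its own flat
model.) -/
theorem result {C : Type u} [SmallCategory C]
    {J : GrothendieckTopology C} (O : Sheaf J CommRingCat.{u}) (E P : CochainComplex (ModSite.Mod O) ℤ)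
    (m n : ℤ) (hP : ∀ i : ℤ, ModSite.IsFlat (P.X i)) (hPb : ∀ i : ℤ, i < m ∨ n < i → IsZero (P.X i))
    (eP : DerivedCategory.Q.obj P ≅ DerivedCategory.Q.obj E) (F : CochainComplex (ModSite.Mod O) ℤ)
    (m' n' : ℤ) (hF : ∀ i : ℤ, ModSite.IsFlat (F.X i)) (hFb : ∀ i : ℤ, i < m' ∨ n' < i → IsZero (F.X i))
    [ModSite.HasLTensorCx F] :
    ∃ G : CochainComplex (ModSite.Mod O) ℤ, (∀ i : ℤ, ModSite.IsFlat (G.X i)) ∧
      (∀ i : ℤ, i < m + m' ∨ n + n' < i → IsZero (G.X i)) ∧
      Nonempty (DerivedCategory.Q.obj G ≅ (ModSite.LTensorCx F).obj (DerivedCategory.Q.obj E)) := by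
  have hPK : ModSite.IsKFlat P := isKFlat_of_boundedAbove O P n (fun i hi => hPb i (Or.inr hi)) hP
  refine ⟨T (ModSite.tensorBi O) P F, isFlat_T_X O P F hP hF, ?_, ⟨?_⟩⟩
  · intro i hi
    apply isZero_T_X
    intro q
    by_cases h1 : i - q < m ∨ n < i - q
    · exact Or.inl (hPb _ h1)
    · refine Or.inr (hFb _ ?_)
      push Not at h1
      omega
  · exact (LTensorCxIso F P hPK).symm ≪≫ (ModSite.LTensorCx F).mapIso eP

end Groth.Agent.S6247
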