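import Groth.Statements.S6249
import Groth.Agent.Lib.Helper1.KFlatSite7

set_option autoImplicit false
universe u
open CategoryTheory CategoryTheory.Limits AlgebraicGeometry
attribute [local instance] HasDerivedCategory.standard
open KSix

namespace Groth.Agent.S6249

open Groth.Agent.Lib.Helper1.KFlatSite

/-- Let (C, J, O) be a small site with a sheaf of commutative rings O, Mod(O) the category of O-modules,
E ∈ D⁻(O) given by a cochain complex, and p an integer. Then, the derived tensor product − ⊗^L_O E
being assumed to exist, the functor M ↦ H^p(M ⊗^L E) from Mod(O) to Mod(O) is right exact if and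
only if the functor M ↦ H^{p+1}(M ⊗^L E) is left exact. (The published statement is for a
commutative ringed topos and writes E ⊗^L M; this row is the topos of sheaves on a small site, with
the derived tensor product taken with E as the fixed right-hand factor.) -/
theorem result {C : Type u} [SmallCategory C]
    {J : GrothendieckTopology C} (O : Sheaf J CommRingCat.{u}) (E : CochainComplex (ModSite.Mod O) ℤ)
    (e : ℤ) [(DerivedCategory.Q.obj E).IsLE e] (p : ℤ) [ModSite.HasLTensorCx E] :
    PreservesFiniteColimits (DerivedCategory.singleFunctor (ModSite.Mod O) 0 ⋙ ModSite.LTensorCx E ⋙ DerivedCategory.homologyFunctor (ModSite.Mod O) p) ↔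
      PreservesFiniteLimits (DerivedCategory.singleFunctor (ModSite.Mod O) 0 ⋙ ModSite.LTensorCx E ⋙ DerivedCategory.homologyFunctor (ModSite.Mod O) (p + 1)) := by
  obtain ⟨P, ψ, hPK, hPf, hψ, -⟩ := exists_kflat_resolution O E
  haveI := hψ
  have e1 := singleLTensorHomologyIso P E ψ hPK p
  have e2 := singleLTensorHomologyIso P E ψ hPK (p + 1)
  constructor
  · intro h
    haveI : PreservesFiniteColimits (torF P p) := preservesFiniteColimits_of_natIso e1
    haveI : PreservesFiniteLimits (torF P (p + 1)) := (torF_rightExact_iff_leftExact P hPf p).1 inferInstance
    exact preservesFiniteLimits_of_natIso e2.symm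
  · intro h
    haveI : PreservesFiniteLimits (torF P (p + 1)) := preservesFiniteLimits_of_natIso e2
    haveI : PreservesFiniteColimits (torF P p) := (torF_rightExact_iff_leftExact P hPf p).2 inferInstance
    exact preservesFiniteColimits_of_natIso e1.symm

end Groth.Agent.S6249
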