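import Groth.Statements.S6257
import Groth.Agent.Lib.Helper16.FibProd2
import Groth.Agent.Lib.Helper16.TorLoc6
import Groth.Agent.Lib.Helper16.StalkTor1
import Groth.Agent.Lib.Helper16.KD3
import Groth.Agent.Lib.Helper16.KD12
import Groth.Agent.Lib.Helper16.PB1
import Groth.Agent.Lib.Helper16.Fl2
import Groth.Agent.Lib.Helper16.RM4
import Groth.Agent.S6200
import Groth.Agent.S6188

set_option autoImplicit false
universe u
open CategoryTheory CategoryTheory.Limits AlgebraicGeometry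
attribute [local instance] HasDerivedCategory.standard
open KSix

namespace Groth.Agent.S6257

open Groth.Agent.Lib.Helper16 Groth.Agent.Lib.Helper16.TorLoc Groth.Agent.Lib.Helper16.Stk
  Groth.Agent.Lib.Helper16.FibProd DerivedCategory MonoidalCategory

/-- relative tor amplitude passes to a quasi-isomorphic complex. -/
lemma hasTorAmplitude_of_quasiIso {X Y : Scheme.{u}} (f : X ⟶ Y)
    {G E : CochainComplex X.Modules ℤ} (p : G ⟶ E) [QuasiIso p] (a b : ℤ)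
    (h : DerSch.HasTorAmplitude f a b E) : DerSch.HasTorAmplitude f a b G := by
  intro x
  haveI := Groth.Agent.S6188.quasiIso_stkCx_map x p
  have h1 : DRing.HasTorAmplitudeIn (Y.presheaf.stalk (f.base x)) a b
      (DRing.toD ((resCx (f.stalkMap x).hom).obj (stkCx x G))) :=
    (torAmp_resCx_of_quasiIso (f.stalkMap x).hom
      (((stk x).mapHomologicalComplex (ComplexShape.up ℤ)).map p) a b).2
      (TorAmp.hasTorAmplitudeIn_of_iso (Q.mapIso (Groth.Agent.S6188.stalkCxOverIso f x E)) a b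
        (h x))
  exact TorAmp.hasTorAmplitudeIn_of_iso
    (Q.mapIso (Groth.Agent.S6188.stalkCxOverIso f x G)).symm a b h1

/-- the termwise pullback only depends on the morphism. -/
noncomputable def pullCxCongr {X Y : Scheme.{u}} {r r' : X ⟶ Y} (h : r = r')
    (G : CochainComplex Y.Modules ℤ) : (KD.pullCx r).obj G ≅ (KD.pullCx r').obj G :=
  eqToIso (by rw [h])

/-- Flat second factor: let S be a scheme and, for i = 1, 2, f_i : X_i ⟶ Y_i a morphism of S-schemes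
(structure morphisms q_i : Y_i ⟶ S), with X₂ and Y₂ flat over S; let X = X₁ ×_S X₂ and Y = Y₁ ×_S Y₂
be given by pullback squares, with projections p₁ : X ⟶ X₁, p₂ : X ⟶ X₂, and f : X ⟶ Y the morphism
compatible with the projections. Let E_i be a cochain complex of O_{X_i}-modules with tor amplitude
in [a_i, b_i] relative to f_i (stalkwise: flat models placed in [a_i, b_i] over the local rings of
Y_i). The external derived tensor product E₁ ⊗^L_S E₂ = Lp₁^* E₁ ⊗^L Lp₂^* E₂ is written, the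
derived pullbacks being assumed to exist, as Lp₁^* E₁ ⊗^L K₂ for any cochain complex K₂ representing
Lp₂^* E₂ for which the derived tensor product exists. Then E₁ ⊗^L_S E₂ has tor amplitude in [a₁ +
a₂, b₁ + b₂] relative to f: every cochain complex representing it has stalkwise flat models in that
interval over the local rings of Y. (The published statement assumes only that X₁, X₂ and Y₁, Y₂ are
tor-independent over S; this row takes X₂ and Y₂ flat over S, which implies both conditions.) -/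
theorem result {S X₁ Y₁ X₂ Y₂ X Y : Scheme.{u}} (f₁ : X₁ ⟶ Y₁) (q₁ : Y₁ ⟶ S)
    (f₂ : X₂ ⟶ Y₂) (q₂ : Y₂ ⟶ S) [Flat q₂] [Flat (f₂ ≫ q₂)]
    (pX₁ : X ⟶ X₁) (pX₂ : X ⟶ X₂) (hX : IsPullback pX₁ pX₂ (f₁ ≫ q₁) (f₂ ≫ q₂))
    (pY₁ : Y ⟶ Y₁) (pY₂ : Y ⟶ Y₂) (hY : IsPullback pY₁ pY₂ q₁ q₂)
    (f : X ⟶ Y) (hf₁ : f ≫ pY₁ = pX₁ ≫ f₁) (hf₂ : f ≫ pY₂ = pX₂ ≫ f₂)
    (E₁ : CochainComplex X₁.Modules ℤ) (a₁ b₁ : ℤ) (h₁ : DerSch.HasTorAmplitude f₁ a₁ b₁ E₁)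
    (E₂ : CochainComplex X₂.Modules ℤ) (a₂ b₂ : ℤ) (h₂ : DerSch.HasTorAmplitude f₂ a₂ b₂ E₂)
    [DCoh.HasLpull pX₁] [DCoh.HasLpull pX₂] :
    ∀ (K₂ : CochainComplex X.Modules ℤ) [DCoh.HasLTensorCx K₂],
      Nonempty (DCoh.toD X K₂ ≅ (DCoh.Lpull pX₂).obj (DCoh.toD X₂ E₂)) →
        DerSch.HasTorAmplitudeD f (a₁ + a₂) (b₁ + b₂) ((DCoh.LTensorCx K₂).obj ((DCoh.Lpull pX₁).obj (DCoh.toD X₁ E₁))) := by
  intro K₂ _ ⟨eK₂⟩
  have hab := aMap_bMap f₁ q₁ f₂ q₂ hX hY hf₁ hf₂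
  have sA := sqA f₁ q₁ f₂ q₂ hX
  have sB := sqB q₁ f₂ q₂ hY
  subst hab
  intro F' ⟨eF'⟩ x
  -- K-flat resolutions
  obtain ⟨G₁, p₁, hG₁K, -, hp₁, -⟩ := exists_kFlat_resolution E₁
  obtain ⟨G₂, p₂, hG₂K, -, hp₂, -⟩ := exists_kFlat_resolution E₂
  haveI := hp₁
  haveI := hp₂
  haveI : IsIso (Q.map p₁) := by rw [isIso_Q_map_iff_quasiIso]; infer_instance
  haveI : IsIso (Q.map p₂) := by rw [isIso_Q_map_iff_quasiIso]; infer_instance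
  have hG₁ := hasTorAmplitude_of_quasiIso f₁ p₁ a₁ b₁ h₁
  have hG₂ := hasTorAmplitude_of_quasiIso f₂ p₂ a₂ b₂ h₂
  -- first factor: flat base change of `f₁`
  have hF₁K : DCoh.IsKFlat ((KD.pullCx pX₁).obj G₁) := pullback_isKFlat pX₁ G₁ hG₁K
  have hF₁ : DerSch.HasTorAmplitude (aMap f₁ q₁ f₂ q₂ hX) a₁ b₁ ((KD.pullCx pX₁).obj G₁) :=
    hasTorAmplitude_pullCx_of_flat sA G₁ a₁ b₁ hG₁
  -- second factor: tor-independent base change of `f₂`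
  have hGzK : DCoh.IsKFlat ((KD.pullCx (pullback.snd q₁ (f₂ ≫ q₂))).obj G₂) :=
    pullback_isKFlat _ G₂ hG₂K
  have hGz : DerSch.HasTorAmplitude (bMap q₁ f₂ q₂ hY) a₂ b₂
      ((KD.pullCx (pullback.snd q₁ (f₂ ≫ q₂))).obj G₂) :=
    hasTorAmplitude_pullCx_of_torIndep hY.flip sB G₂ hG₂K a₂ b₂ hG₂
  -- identification of the object
  have eK : DCoh.toD X K₂ ≅ DCoh.toD X ((KD.pullCx (aMap f₁ q₁ f₂ q₂ hX)).obj
      ((KD.pullCx (pullback.snd q₁ (f₂ ≫ q₂))).obj G₂)) :=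
    eK₂ ≪≫ (DCoh.Lpull pX₂).mapIso (asIso (Q.map p₂)).symm ≪≫ KD.LpullIso pX₂ G₂ hG₂K ≪≫
      Q.mapIso (pullCxCongr (aMap_snd f₁ q₁ f₂ q₂ hX).symm G₂ ≪≫
        (KD.pullCompIso (aMap f₁ q₁ f₂ q₂ hX) (pullback.snd q₁ (f₂ ≫ q₂)) G₂).symm)
  have e : DCoh.toD X F' ≅ DCoh.toD X ((DCoh.tensorCx.obj ((KD.pullCx pX₁).obj G₁)).obj
      ((KD.pullCx (aMap f₁ q₁ f₂ q₂ hX)).obj
        ((KD.pullCx (pullback.snd q₁ (f₂ ≫ q₂))).obj G₂))) :=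
    eF' ≪≫ (DCoh.LTensorCx K₂).mapIso ((DCoh.Lpull pX₁).mapIso (asIso (Q.map p₁)).symm ≪≫
      KD.LpullIso pX₁ G₁ hG₁K) ≪≫ KD.LTensorCxIso K₂ _ hF₁K ≪≫
      (RM.tensorLeftDIso _ hF₁K K₂).symm ≪≫ (RM.tensorLeftD _ hF₁K).mapIso eK ≪≫
      RM.tensorLeftDIso _ hF₁K _
  have hPK' : DRing.IsKFlat _ (stkCx ((aMap f₁ q₁ f₂ q₂ hX).base x)
      ((KD.pullCx (pullback.snd q₁ (f₂ ≫ q₂))).obj G₂)) :=
    stalk_isKFlat_of_isKFlat _ _ hGzK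
  have hPA : DRing.HasTorAmplitudeIn
      (Y.presheaf.stalk ((bMap q₁ f₂ q₂ hY).base ((aMap f₁ q₁ f₂ q₂ hX).base x))) a₂ b₂
      (DRing.toD ((resCx ((bMap q₁ f₂ q₂ hY).stalkMap ((aMap f₁ q₁ f₂ q₂ hX).base x)).hom).obj
        (stkCx ((aMap f₁ q₁ f₂ q₂ hX).base x)
          ((KD.pullCx (pullback.snd q₁ (f₂ ≫ q₂))).obj G₂)))) :=
    TorAmp.hasTorAmplitudeIn_of_iso (Q.mapIso (Groth.Agent.S6188.stalkCxOverIso
      (bMap q₁ f₂ q₂ hY) ((aMap f₁ q₁ f₂ q₂ hX).base x) _)) a₂ b₂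
      (hGz ((aMap f₁ q₁ f₂ q₂ hX).base x))
  have hW : DRing.HasTorAmplitudeIn _ a₁ b₁
      (DRing.toD ((resCx ((aMap f₁ q₁ f₂ q₂ hX).stalkMap x).hom).obj
        (stkCx x ((KD.pullCx pX₁).obj G₁)))) :=
    TorAmp.hasTorAmplitudeIn_of_iso (Q.mapIso (Groth.Agent.S6188.stalkCxOverIso
      (aMap f₁ q₁ f₂ q₂ hX) x _)) a₁ b₁ (hF₁ x)
  have key := torAmp_restrict_ext_tensor
    ((bMap q₁ f₂ q₂ hY).stalkMap ((aMap f₁ q₁ f₂ q₂ hX).base x)).hom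
    ((aMap f₁ q₁ f₂ q₂ hX).stalkMap x).hom _ hPK' a₂ b₂ hPA _ a₁ b₁ hW
  have e2 : DRing.toD (stkCx x F') ≅
      DRing.toD ((extCx ((aMap f₁ q₁ f₂ q₂ hX).stalkMap x).hom).obj
        (stkCx ((aMap f₁ q₁ f₂ q₂ hX).base x)
          ((KD.pullCx (pullback.snd q₁ (f₂ ≫ q₂))).obj G₂)) ⊗
        stkCx x ((KD.pullCx pX₁).obj G₁)) :=
    Groth.Agent.S6200.stkIsoOfIso x e ≪≫ Q.mapIso ((stalkTensorCxIso x _ _).symm ≪≫
      whiskerLeftIso _ (pullbackStkCxIso (aMap f₁ q₁ f₂ q₂ hX) x _) ≪≫ DTen.braidCx _ _)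
  have e3 : DRing.toD ((DerSch.stalkCxOver (aMap f₁ q₁ f₂ q₂ hX ≫ bMap q₁ f₂ q₂ hY) x).obj F') ≅
      DRing.toD ((resCx ((bMap q₁ f₂ q₂ hY).stalkMap ((aMap f₁ q₁ f₂ q₂ hX).base x)).hom).obj
        ((resCx ((aMap f₁ q₁ f₂ q₂ hX).stalkMap x).hom).obj (stkCx x F'))) :=
    Q.mapIso (StalkTor.stalkCxOverCompIso (aMap f₁ q₁ f₂ q₂ hX) (bMap q₁ f₂ q₂ hY) x F' ≪≫
      (resCx ((bMap q₁ f₂ q₂ hY).stalkMap ((aMap f₁ q₁ f₂ q₂ hX).base x)).hom).mapIso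
        (Groth.Agent.S6188.stalkCxOverIso (aMap f₁ q₁ f₂ q₂ hX) x F'))
  exact TorAmp.hasTorAmplitudeIn_of_iso
    (e3 ≪≫ Groth.Agent.S6188.resResIsoOfIso
      ((bMap q₁ f₂ q₂ hY).stalkMap ((aMap f₁ q₁ f₂ q₂ hX).base x)).hom
      ((aMap f₁ q₁ f₂ q₂ hX).stalkMap x).hom e2).symm _ _ key

end Groth.Agent.S6257
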