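import Groth.Statements.S6258
import Groth.Agent.Lib.Helper16.FibProd2
import Groth.Agent.Lib.Helper16.TorLoc10
import Groth.Agent.Lib.Helper16.StalkTor1
import Groth.Agent.Lib.Helper16.TorBal6
import Groth.Agent.Lib.Helper16.KD3
import Groth.Agent.Lib.Helper16.KD7
import Groth.Agent.Lib.Helper16.KD12
import Groth.Agent.Lib.Helper16.PB1
import Groth.Agent.Lib.Helper16.Fl2
import Groth.Agent.Lib.Helper16.RM4
import Groth.Agent.S6200
import Groth.Agent.S6188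
import Groth.Agent.S6257

set_option autoImplicit false
universe u
open CategoryTheory CategoryTheory.Limits AlgebraicGeometry
attribute [local instance] HasDerivedCategory.standard
open KSix

namespace Groth.Agent.S6258

open Groth.Agent.Lib.Helper16 Groth.Agent.Lib.Helper16.TorLoc Groth.Agent.Lib.Helper16.Stk
  Groth.Agent.Lib.Helper16.FibProd DerivedCategory MonoidalCategory

/-- a flat morphism has tor dimension `≤ 0`. -/
lemma hasTorDimLE_zero_of_flat {Y Z : Scheme.{u}} (g : Y ⟶ Z) [Flat g] :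
    DerSch.HasTorDimLE g 0 := by
  intro y
  letI : Algebra (Z.presheaf.stalk (g.base y)) (Y.presheaf.stalk y) :=
    (g.stalkMap y).hom.toAlgebra
  have hfl : Module.Flat (Z.presheaf.stalk (g.base y)) (Y.presheaf.stalk y) :=
    (Flat.iff_flat_stalkMap g).1 inferInstance y
  have h0 := (TorBal.torAmp_zero_iff_flat (R := Z.presheaf.stalk (g.base y))
    (Y.presheaf.stalk y)).2 hfl
  exact TorAmp.hasTorAmplitudeIn_of_iso (StalkTor.unitStalkIso g y).symm _ _ (by simpa using h0)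

/-- Flat first factor: let S be a scheme and, for i = 1, 2, f_i : X_i ⟶ Y_i a morphism of S-schemes
(structure morphisms q_i : Y_i ⟶ S), with X₁ and Y₁ flat over S; let X = X₁ ×_S X₂ and Y = Y₁ ×_S Y₂
be given by pullback squares, with projections p₁ : X ⟶ X₁, p₂ : X ⟶ X₂, and f : X ⟶ Y the morphism
compatible with the projections. Let E₁ be a cochain complex of O_{X₁}-modules with tor amplitude in
[a₁, b₁] relative to f₁ (stalkwise flat models over the local rings of Y₁) and E₂ ∈ D(O_{X₂}), given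
by a cochain complex, acyclic outside [a₂, b₂]. The external derived tensor product E₁ ⊗^L_S E₂ =
Lp₁^* E₁ ⊗^L Lp₂^* E₂ is written, the derived pullbacks being assumed to exist, as Lp₁^* E₁ ⊗^L K₂
for any cochain complex K₂ representing Lp₂^* E₂ for which the derived tensor product exists. Then
E₁ ⊗^L_S E₂ is acyclic outside [a₁ + a₂, b₁ + b₂]. (The published statement assumes only that X₁, X₂
and Y₁, Y₂ are tor-independent over S; that is not enough for the lower bound: over the spectrum S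
of a discrete valuation ring with closed point s, take X₁ = Y₁ = s with E₁ the structure sheaf, and
X₂ = Y₂ = S with E₂ the residue field at s in degree 0 — all tor-independence conditions hold since
X₂ = Y₂ = S, yet the external product on X₁ ×_S X₂ = s has nonzero cohomology in degree -1. The
published stalk computation uses that the local rings of Y₁ ×_S Y₂ are flat over those of Y₂; this
row therefore takes X₁ and Y₁ flat over S, which gives that and both tor-independence conditions.) -/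
theorem result {S X₁ Y₁ X₂ Y₂ X Y : Scheme.{u}} (f₁ : X₁ ⟶ Y₁) (q₁ : Y₁ ⟶ S)
    (f₂ : X₂ ⟶ Y₂) (q₂ : Y₂ ⟶ S) [Flat q₁] [Flat (f₁ ≫ q₁)]
    (pX₁ : X ⟶ X₁) (pX₂ : X ⟶ X₂) (hX : IsPullback pX₁ pX₂ (f₁ ≫ q₁) (f₂ ≫ q₂))
    (pY₁ : Y ⟶ Y₁) (pY₂ : Y ⟶ Y₂) (hY : IsPullback pY₁ pY₂ q₁ q₂)
    (f : X ⟶ Y) (hf₁ : f ≫ pY₁ = pX₁ ≫ f₁) (hf₂ : f ≫ pY₂ = pX₂ ≫ f₂)
    (E₁ : CochainComplex X₁.Modules ℤ) (a₁ b₁ : ℤ) (h₁ : DerSch.HasTorAmplitude f₁ a₁ b₁ E₁)
    (E₂ : CochainComplex X₂.Modules ℤ) (a₂ b₂ : ℤ) [(DCoh.toD X₂ E₂).IsGE a₂] [(DCoh.toD X₂ E₂).IsLE b₂]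
    [DCoh.HasLpull pX₁] [DCoh.HasLpull pX₂] :
    ∀ (K₂ : CochainComplex X.Modules ℤ) [DCoh.HasLTensorCx K₂],
      Nonempty (DCoh.toD X K₂ ≅ (DCoh.Lpull pX₂).obj (DCoh.toD X₂ E₂)) →
        (((DCoh.LTensorCx K₂).obj ((DCoh.Lpull pX₁).obj (DCoh.toD X₁ E₁)))).IsGE (a₁ + a₂) ∧ (((DCoh.LTensorCx K₂).obj ((DCoh.Lpull pX₁).obj (DCoh.toD X₁ E₁)))).IsLE (b₁ + b₂) := by
  intro K₂ _ ⟨eK₂⟩
  -- K-flat resolutions
  obtain ⟨G₁, p₁, hG₁K, -, hp₁, -⟩ := exists_kFlat_resolution E₁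
  obtain ⟨G₂, p₂, hG₂K, -, hp₂, -⟩ := exists_kFlat_resolution E₂
  haveI := hp₁
  haveI := hp₂
  haveI : IsIso (Q.map p₁) := by rw [isIso_Q_map_iff_quasiIso]; infer_instance
  haveI : IsIso (Q.map p₂) := by rw [isIso_Q_map_iff_quasiIso]; infer_instance
  have hG₁ := Groth.Agent.S6257.hasTorAmplitude_of_quasiIso f₁ p₁ a₁ b₁ h₁
  -- tor amplitude of `G₁` relative to `X₁ ⟶ S`
  have hG₁S : DerSch.HasTorAmplitude (f₁ ≫ q₁) a₁ b₁ G₁ := by
    have := StalkTor.hasTorAmplitude_comp f₁ q₁ 0 (hasTorDimLE_zero_of_flat q₁) G₁ a₁ b₁ hG₁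
    simpa using this
  -- tor-independent base change along `X₂ ⟶ S`
  have hF₁K : DCoh.IsKFlat ((KD.pullCx pX₁).obj G₁) := pullback_isKFlat pX₁ G₁ hG₁K
  have hF₁ : DerSch.HasTorAmplitude pX₂ a₁ b₁ ((KD.pullCx pX₁).obj G₁) :=
    hasTorAmplitude_pullCx_of_torIndep (IsPullback.id_vert (f₂ ≫ q₂)) hX G₁ hG₁K a₁ b₁ hG₁S
  -- identification of the object
  have eK : DCoh.toD X K₂ ≅ DCoh.toD X ((KD.pullCx pX₂).obj G₂) :=
    eK₂ ≪≫ (DCoh.Lpull pX₂).mapIso (asIso (Q.map p₂)).symm ≪≫ KD.LpullIso pX₂ G₂ hG₂K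
  have e : (DCoh.LTensorCx K₂).obj ((DCoh.Lpull pX₁).obj (DCoh.toD X₁ E₁)) ≅
      DCoh.toD X ((DCoh.tensorCx.obj ((KD.pullCx pX₁).obj G₁)).obj ((KD.pullCx pX₂).obj G₂)) :=
    (DCoh.LTensorCx K₂).mapIso ((DCoh.Lpull pX₁).mapIso (asIso (Q.map p₁)).symm ≪≫
      KD.LpullIso pX₁ G₁ hG₁K) ≪≫ KD.LTensorCxIso K₂ _ hF₁K ≪≫
      (RM.tensorLeftDIso _ hF₁K K₂).symm ≪≫ (RM.tensorLeftD _ hF₁K).mapIso eK ≪≫
      RM.tensorLeftDIso _ hF₁K _
  -- `G₂` is exact outside `[a₂, b₂]`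
  have hG₂c : ∀ j : ℤ, j < a₂ ∨ b₂ < j → G₂.ExactAt j := by
    intro j hj
    haveI : QuasiIsoAt p₂ j := (inferInstance : QuasiIso p₂).quasiIsoAt j
    rw [_root_.exactAt_iff_of_quasiIsoAt p₂ j]
    rcases hj with hj | hj
    · have h1 : (Q.obj E₂).IsGE a₂ := inferInstanceAs ((DCoh.toD X₂ E₂).IsGE a₂)
      rw [DerivedCategory.isGE_Q_obj_iff] at h1
      exact (CochainComplex.isGE_iff E₂ a₂).1 h1 j hj
    · have h1 : (Q.obj E₂).IsLE b₂ := inferInstanceAs ((DCoh.toD X₂ E₂).IsLE b₂)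
      rw [DerivedCategory.isLE_Q_obj_iff] at h1
      exact (CochainComplex.isLE_iff E₂ b₂).1 h1 j hj
  -- exactness of the tensor product complex
  have hex : ∀ i : ℤ, i < a₁ + a₂ ∨ b₁ + b₂ < i →
      ((DCoh.tensorCx.obj ((KD.pullCx pX₁).obj G₁)).obj ((KD.pullCx pX₂).obj G₂)).ExactAt i := by
    intro i hi
    rw [KD.exactAt_iff_forall_stalk]
    intro x
    have hW : DRing.HasTorAmplitudeIn _ a₁ b₁
        (DRing.toD ((resCx (pX₂.stalkMap x).hom).obj (stkCx x ((KD.pullCx pX₁).obj G₁)))) :=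
      TorAmp.hasTorAmplitudeIn_of_iso (Q.mapIso (Groth.Agent.S6188.stalkCxOverIso pX₂ x _))
        a₁ b₁ (hF₁ x)
    have hPK' : DRing.IsKFlat _ (stkCx (pX₂.base x) G₂) :=
      stalk_isKFlat_of_isKFlat (pX₂.base x) G₂ hG₂K
    have hPc : ∀ j : ℤ, j < a₂ ∨ b₂ < j → (stkCx (pX₂.base x) G₂).ExactAt j := fun j hj =>
      (KD.exactAt_iff_forall_stalk G₂ j).1 (hG₂c j hj) (pX₂.base x)
    have key := exactAt_ext_tensor_of_bounded (pX₂.stalkMap x).hom
      (stkCx x ((KD.pullCx pX₁).obj G₁)) a₁ b₁ hW _ hPK' a₂ b₂ hPc i hi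
    exact (KF.exactAt_iff_of_iso ((stalkTensorCxIso x _ _).symm ≪≫
      whiskerLeftIso _ (pullbackStkCxIso pX₂ x G₂) ≪≫ DTen.braidCx _ _) i).2 key
  constructor
  · haveI : (Q.obj ((DCoh.tensorCx.obj ((KD.pullCx pX₁).obj G₁)).obj
        ((KD.pullCx pX₂).obj G₂))).IsGE (a₁ + a₂) := by
      rw [DerivedCategory.isGE_Q_obj_iff, CochainComplex.isGE_iff]
      exact fun i hi => hex i (Or.inl hi)
    exact DerivedCategory.TStructure.t.isGE_of_iso e.symm (a₁ + a₂)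
  · haveI : (Q.obj ((DCoh.tensorCx.obj ((KD.pullCx pX₁).obj G₁)).obj
        ((KD.pullCx pX₂).obj G₂))).IsLE (b₁ + b₂) := by
      rw [DerivedCategory.isLE_Q_obj_iff, CochainComplex.isLE_iff]
      exact fun i hi => hex i (Or.inr hi)
    exact DerivedCategory.TStructure.t.isLE_of_iso e.symm (b₁ + b₂)

end Groth.Agent.S6258
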