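import Groth.Statements.S6266
import Groth.Agent.Lib.helper11.RedFree2

set_option autoImplicit false
universe u
open scoped TensorProduct
open CAlg

namespace Groth.Agent.S6266

/-- Let R be a reduced ring and M an R-module. Then M is a finite projective R-module if and only if M
is finitely generated and the function on Spec R sending a prime p to the dimension of κ(p) ⊗ M over
the residue field κ(p) is locally constant for the Zariski topology. -/
theorem result (R : Type u) [CommRing R] [IsReduced R] (M : Type u) [AddCommGroup M] [Module R M] : (Module.Finite R M ∧ Module.Projective R M) ↔ (Module.Finite R M ∧ IsLocallyConstant (fun p : PrimeSpectrum R => Module.finrank p.asIdeal.ResidueField (p.asIdeal.ResidueField ⊗[R] M))) := by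
  constructor
  · rintro ⟨hfin, hproj⟩
    refine ⟨hfin, ?_⟩
    have hfp : Module.FinitePresentation R M := Module.finitePresentation_of_projective R M
    rw [IsLocallyConstant.iff_exists_open]
    intro x
    exact Groth.Agent.Lib.helper11.FibDim.exists_open_fibDim_eq (N := M) x
  · rintro ⟨hfin, hlc⟩
    refine ⟨hfin, ?_⟩
    rw [IsLocallyConstant.iff_exists_open] at hlc
    exact Groth.Agent.Lib.helper11.RedFree.projective_of_finite_of_fibDim_locallyConstant M hlc

end Groth.Agent.S6266
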