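import Groth.Statements.S6269
import Mathlib.RingTheory.Flat.Tensor
import Mathlib.LinearAlgebra.TensorProduct.RightExactness
-- import your own Groth.Agent.* helpers here

set_option autoImplicit false
universe u
open CAlg

namespace Groth.Agent.S6269

open TensorProduct in
lemma flat_coker {R : Type u} [CommRing R] {M₁ M₂ M₃ : Type u} [AddCommGroup M₁] [Module R M₁]
    [AddCommGroup M₂] [Module R M₂] [AddCommGroup M₃] [Module R M₃] (f : M₁ →ₗ[R] M₂)
    (g : M₂ →ₗ[R] M₃) (hexact : Function.Exact f g) (hg : Function.Surjective g)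
    [Module.Flat R M₂]
    (hQ : ∀ I : Ideal R, I.FG → Function.Injective (f.rTensor (R ⧸ I))) : Module.Flat R M₃ := by
  rw [Module.Flat.iff_lTensor_injective]
  intro I hI
  rw [injective_iff_map_eq_zero]
  intro ξ hξ
  have hι₂ : Function.Injective (I.subtype.lTensor M₂) :=
    Module.Flat.iff_lTensor_injective.mp inferInstance hI
  have hrow : ∀ (X : Type u) [AddCommGroup X] [Module R X],
      Function.Exact (I.subtype.lTensor X) ((Submodule.mkQ I).lTensor X) := fun X _ _ =>
    lTensor_exact X (LinearMap.exact_subtype_mkQ I) (Submodule.mkQ_surjective I)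
  have hcol : ∀ (P : Type u) [AddCommGroup P] [Module R P],
      Function.Exact (f.rTensor P) (g.rTensor P) := fun P _ _ => rTensor_exact P hexact hg
  obtain ⟨ζ, rfl⟩ := LinearMap.rTensor_surjective I hg ξ
  have h2 : g.rTensor R (I.subtype.lTensor M₂ ζ) = 0 := by
    rw [← LinearMap.comp_apply, LinearMap.rTensor_comp_lTensor, ← LinearMap.lTensor_comp_rTensor,
      LinearMap.comp_apply]
    exact hξ
  obtain ⟨μ, hμ⟩ := (hcol R _).mp h2
  have h3 : (Submodule.mkQ I).lTensor M₁ μ = 0 := by
    apply hQ I hI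
    rw [map_zero, ← LinearMap.comp_apply, LinearMap.rTensor_comp_lTensor,
      ← LinearMap.lTensor_comp_rTensor, LinearMap.comp_apply, hμ]
    exact (hrow M₂).apply_apply_eq_zero ζ
  obtain ⟨ν, rfl⟩ := (hrow M₁ _).mp h3
  have h4 : f.rTensor I ν = ζ := by
    apply hι₂
    rw [← hμ, ← LinearMap.comp_apply, LinearMap.lTensor_comp_rTensor,
      ← LinearMap.rTensor_comp_lTensor, LinearMap.comp_apply]
  rw [← h4]
  exact (hcol I).apply_apply_eq_zero ν


/-- Let 0 → M₁ → M₂ → M₃ → 0 be a universally exact sequence of R-modules (a short exact sequence whose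
first map is universally injective) with M₂ flat. Then M₁ and M₃ are flat. -/
theorem result {R : Type u} [CommRing R] {M₁ M₂ M₃ : Type u} [AddCommGroup M₁] [Module R M₁] [AddCommGroup M₂] [Module R M₂] [AddCommGroup M₃] [Module R M₃] (f : M₁ →ₗ[R] M₂) (g : M₂ →ₗ[R] M₃) (hexact : Function.Exact f g) (hg : Function.Surjective g) (hf : CAlgX.UniversallyInjective R f) [Module.Flat R M₂] : Module.Flat R M₁ ∧ Module.Flat R M₃ := by
  refine ⟨?_, flat_coker f g hexact hg (fun I _ => hf (R ⧸ I))⟩
  rw [Module.Flat.iff_lTensor_injective]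
  intro I hI
  have hι₂ : Function.Injective (I.subtype.lTensor M₂) :=
    Module.Flat.iff_lTensor_injective.mp inferInstance hI
  have h1 : Function.Injective ((f.rTensor R) ∘ (I.subtype.lTensor M₁)) := by
    rw [← LinearMap.coe_comp, LinearMap.rTensor_comp_lTensor, ← LinearMap.lTensor_comp_rTensor,
      LinearMap.coe_comp]
    exact hι₂.comp (hf I)
  exact Function.Injective.of_comp h1

end Groth.Agent.S6269
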