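import Groth.Statements.S6267
import Groth.Agent.S6269

set_option autoImplicit false
universe u
open CAlg

namespace Groth.Agent.S6267

open TensorProduct in
lemma chase {R : Type u} [CommRing R] {M₁ M₂ M₃ : Type u} [AddCommGroup M₁]
    [Module R M₁] [AddCommGroup M₂] [Module R M₂] [AddCommGroup M₃] [Module R M₃]
    (f : M₁ →ₗ[R] M₂) (g : M₂ →ₗ[R] M₃) (hexact : Function.Exact f g)
    (hg : Function.Surjective g) (hf : Function.Injective f) [Module.Flat R M₃]
    {K F Q : Type u} [AddCommGroup K] [Module R K] [AddCommGroup F] [Module R F] [AddCommGroup Q]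
    [Module R Q] [Module.Flat R F] (k : K →ₗ[R] F) (p : F →ₗ[R] Q) (hkp : Function.Exact k p)
    (hp : Function.Surjective p) (hk : Function.Injective k) :
    Function.Injective (f.rTensor Q) := by
  have hrow : ∀ (X : Type u) [AddCommGroup X] [Module R X],
      Function.Exact (k.lTensor X) (p.lTensor X) := fun X _ _ => lTensor_exact X hkp hp
  have hcol : ∀ (P : Type u) [AddCommGroup P] [Module R P],
      Function.Exact (f.rTensor P) (g.rTensor P) := fun P _ _ => rTensor_exact P hexact hg
  have hi : Function.Injective (f.rTensor F) :=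
    Module.Flat.rTensor_preserves_injective_linearMap f hf
  have hii : Function.Injective (k.lTensor M₃) :=
    Module.Flat.lTensor_preserves_injective_linearMap k hk
  rw [injective_iff_map_eq_zero]
  intro ξ hξ
  obtain ⟨ζ, rfl⟩ := LinearMap.lTensor_surjective M₁ hp ξ
  have h2 : p.lTensor M₂ (f.rTensor F ζ) = 0 := by
    rw [← LinearMap.comp_apply, LinearMap.lTensor_comp_rTensor, ← LinearMap.rTensor_comp_lTensor,
      LinearMap.comp_apply]
    exact hξ
  obtain ⟨κ', hκ'⟩ := (hrow M₂ _).mp h2
  have h3 : g.rTensor K κ' = 0 := by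
    apply hii
    rw [map_zero, ← LinearMap.comp_apply, LinearMap.lTensor_comp_rTensor,
      ← LinearMap.rTensor_comp_lTensor, LinearMap.comp_apply, hκ']
    exact (hcol F).apply_apply_eq_zero ζ
  obtain ⟨κ, rfl⟩ := (hcol K _).mp h3
  have h4 : k.lTensor M₁ κ = ζ := by
    apply hi
    rw [← hκ', ← LinearMap.comp_apply, LinearMap.rTensor_comp_lTensor,
      ← LinearMap.lTensor_comp_rTensor, LinearMap.comp_apply]
  rw [← h4]
  exact (hrow M₁).apply_apply_eq_zero κ

lemma univInj_of_flat_coker {R : Type u} [CommRing R] {M₁ M₂ M₃ : Type u} [AddCommGroup M₁]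
    [Module R M₁] [AddCommGroup M₂] [Module R M₂] [AddCommGroup M₃] [Module R M₃]
    (f : M₁ →ₗ[R] M₂) (g : M₂ →ₗ[R] M₃) (hexact : Function.Exact f g)
    (hg : Function.Surjective g) (hf : Function.Injective f) [Module.Flat R M₃] :
    CAlgX.UniversallyInjective R f := by
  intro Q _ _
  exact chase f g hexact hg hf (K := LinearMap.ker (Finsupp.linearCombination R (id : Q → Q)))
    (F := Q →₀ R) (Q := Q)
    (LinearMap.ker (Finsupp.linearCombination R (id : Q → Q))).subtype
    (Finsupp.linearCombination R (id : Q → Q)) (LinearMap.exact_subtype_ker_map _)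
    (Finsupp.linearCombination_id_surjective R Q)
    (LinearMap.ker (Finsupp.linearCombination R (id : Q → Q))).injective_subtype


/-- Let R be a ring and f : M → M' a map of R-modules with M' flat. Then f is universally injective
exactly when, for each finitely generated ideal I of R, the induced map M ⊗ R/I → M' ⊗ R/I (that is,
M/IM → M'/IM') is injective. -/
theorem result {R : Type u} [CommRing R] {M M' : Type u} [AddCommGroup M] [Module R M] [AddCommGroup M'] [Module R M'] [Module.Flat R M'] (f : M →ₗ[R] M') : CAlgX.UniversallyInjective R f ↔ ∀ I : Ideal R, I.FG → Function.Injective (f.rTensor (R ⧸ I)) := by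
  constructor
  · intro hf I _
    exact hf (R ⧸ I)
  · intro hQ
    have hinj : Function.Injective f := by
      rw [injective_iff_map_eq_zero]
      intro m hm
      have h1 : f.rTensor (R ⧸ (⊥ : Ideal R)) (m ⊗ₜ[R] (1 : R ⧸ (⊥ : Ideal R))) = 0 := by
        simp [hm]
      have h2 := hQ ⊥ Submodule.fg_bot (h1.trans (map_zero _).symm)
      let e : (R ⧸ (⊥ : Ideal R)) ≃ₗ[R] R := Submodule.quotEquivOfEqBot ⊥ rfl
      have h3 := congrArg ((TensorProduct.rid R M).toLinearMap ∘ₗ (e : (R ⧸ (⊥ : Ideal R)) →ₗ[R] R).lTensor M) h2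
      have he : e 1 = 1 := rfl
      simpa [he] using h3
    have hflat : Module.Flat R (M' ⧸ LinearMap.range f) :=
      Groth.Agent.S6269.flat_coker f (LinearMap.range f).mkQ (LinearMap.exact_map_mkQ_range f)
        (Submodule.mkQ_surjective _) hQ
    exact univInj_of_flat_coker f (LinearMap.range f).mkQ (LinearMap.exact_map_mkQ_range f)
      (Submodule.mkQ_surjective _) hinj

end Groth.Agent.S6267
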