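import Groth.Statements.S6272
import Mathlib

set_option autoImplicit false
universe u
open scoped TensorProduct
open CAlg

namespace Groth.Agent.S6272

section aux
open TensorProduct

-- universe u declared in template

section
variable {R : Type u} [CommRing R] (I : Ideal R) {P : Type u} [AddCommGroup P] [Module R P]

theorem lift_of_proj (hI : Module.Projective (R ⧸ I) ((R ⧸ I) ⊗[R] P))
    {M N : Type u} [AddCommGroup M] [Module R M] [AddCommGroup N] [Module R N]
    (hM : ∀ i ∈ I, ∀ m : M, i • m = 0) (hN : ∀ i ∈ I, ∀ n : N, i • n = 0)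
    (g : M →ₗ[R] N) (h : P →ₗ[R] N) (hh : ∀ p, ∃ m, g m = h p) :
    ∃ l : P →ₗ[R] M, ∀ p, g (l p) = h p := by
  have tM : Module.IsTorsionBySet R M (I : Set R) := fun x a => hM a a.2 x
  have tN : Module.IsTorsionBySet R N (I : Set R) := fun x a => hN a a.2 x
  letI := tM.module
  letI := tN.module
  let R' := LinearMap.range g
  have tR : Module.IsTorsionBySet R R' (I : Set R) := fun x a => by
    apply Subtype.ext
    simpa using hN a a.2 x
  letI := tR.module
  let g' : M →ₗ[R ⧸ I] R' :=
    { toFun := fun m => g.rangeRestrict m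
      map_add' := fun a b => map_add _ a b
      map_smul' := fun c m => by
        obtain ⟨c, rfl⟩ := Ideal.Quotient.mk_surjective c
        show g.rangeRestrict (c • m) = c • g.rangeRestrict m
        exact map_smul _ c m }
  have hg' : Function.Surjective g' := g.surjective_rangeRestrict
  let h0 : P →ₗ[R] R' := h.codRestrict R' (fun p => by obtain ⟨m, hm⟩ := hh p; exact ⟨m, hm⟩)
  let h' : (R ⧸ I) ⊗[R] P →ₗ[R ⧸ I] R' := LinearMap.liftBaseChange (R ⧸ I) h0
  obtain ⟨l', hl'⟩ := Module.projective_lifting_property g' h' hg'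
  refine ⟨(l'.restrictScalars R) ∘ₗ (TensorProduct.mk R (R ⧸ I) P 1), fun p => ?_⟩
  have := congrArg (fun f => ((f ((1 : R ⧸ I) ⊗ₜ[R] p) : R') : N)) hl'
  simpa [g', h', h0] using this
end

section
variable {R : Type u} [CommRing R]

theorem coeff_mem_of_mem_smul_top (I : Ideal R) {X : Type u} (f : X →₀ R)
    (hf : f ∈ (I • ⊤ : Submodule R (X →₀ R))) (x : X) : f x ∈ I := by
  refine Submodule.smul_induction_on (p := fun f => f x ∈ I) hf ?_ ?_
  · intro r hr n _
    simp only [Finsupp.smul_apply, smul_eq_mul]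
    exact I.mul_mem_right _ hr
  · intro a b ha hb
    simp only [Finsupp.add_apply]
    exact I.add_mem ha hb

theorem kill_quot (K : Ideal R) (M : Type u) [AddCommGroup M] [Module R M] (i : R) (hi : i ∈ K)
    (m : M ⧸ (K • ⊤ : Submodule R M)) : i • m = 0 := by
  obtain ⟨m, rfl⟩ := Submodule.Quotient.mk_surjective _ m
  rw [← Submodule.Quotient.mk_smul, Submodule.Quotient.mk_eq_zero]
  exact Submodule.smul_mem_smul hi Submodule.mem_top

theorem main (I J : Ideal R) (hIJ : I ⊓ J = ⊥) (P : Type u) [AddCommGroup P] [Module R P]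
    (hI : Module.Projective (R ⧸ I) ((R ⧸ I) ⊗[R] P))
    (hJ : Module.Projective (R ⧸ J) ((R ⧸ J) ⊗[R] P)) : Module.Projective R P := by
  classical
  let F := P →₀ R
  let π : F →ₗ[R] P := Finsupp.linearCombination R id
  have hπ : Function.Surjective π := Finsupp.linearCombination_id_surjective R P
  let IF : Submodule R F := I • ⊤
  let JF : Submodule R F := J • ⊤
  let CF : Submodule R F := (I ⊔ J) • ⊤
  let IP : Submodule R P := I • ⊤
  let JP : Submodule R P := J • ⊤
  have hIFP : IF ≤ IP.comap π := by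
    rw [← Submodule.map_le_iff_le_comap, Submodule.map_smul'']
    exact Submodule.smul_mono le_rfl le_top
  have hJFP : JF ≤ JP.comap π := by
    rw [← Submodule.map_le_iff_le_comap, Submodule.map_smul'']
    exact Submodule.smul_mono le_rfl le_top
  have hICF : IF ≤ CF := Submodule.smul_mono_left le_sup_left
  have hJCF : JF ≤ CF := Submodule.smul_mono_left le_sup_right
  let πI : F ⧸ IF →ₗ[R] P ⧸ IP := Submodule.mapQ IF IP π hIFP
  let πJ : F ⧸ JF →ₗ[R] P ⧸ JP := Submodule.mapQ JF JP π hJFP
  let facI : F ⧸ IF →ₗ[R] F ⧸ CF := Submodule.mapQ IF CF LinearMap.id (by simpa using hICF)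
  let facJ : F ⧸ JF →ₗ[R] F ⧸ CF := Submodule.mapQ JF CF LinearMap.id (by simpa using hJCF)
  -- step 1
  obtain ⟨t2, ht2⟩ := lift_of_proj J hJ (M := F ⧸ JF) (N := P ⧸ JP)
    (fun i hi m => kill_quot J F i hi m) (fun i hi m => kill_quot J P i hi m) πJ JP.mkQ
    (fun p => by
      obtain ⟨f, rfl⟩ := hπ p
      exact ⟨JF.mkQ f, rfl⟩)
  -- step 2
  have hJPmap : JP = JF.map π := by
    show (J • ⊤ : Submodule R P) = Submodule.map π (J • ⊤)
    rw [Submodule.map_smul'', Submodule.map_top, LinearMap.range_eq_top.mpr hπ]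
  let g : F ⧸ IF →ₗ[R] (P ⧸ IP) × (F ⧸ CF) := LinearMap.prod πI facI
  let h : P →ₗ[R] (P ⧸ IP) × (F ⧸ CF) := LinearMap.prod IP.mkQ (facJ ∘ₗ t2)
  have hh : ∀ p, ∃ m, g m = h p := by
    intro p
    obtain ⟨f, hf⟩ := JF.mkQ_surjective (t2 p)
    have h1 : π f - p ∈ JP := by
      have := ht2 p
      rw [← hf] at this
      exact (Submodule.Quotient.eq _).mp this
    rw [hJPmap] at h1
    obtain ⟨c, hc, hc'⟩ := h1
    refine ⟨IF.mkQ (f - c), ?_⟩
    apply Prod.ext
    · show IP.mkQ (π (f - c)) = IP.mkQ p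
      rw [map_sub, hc', sub_sub_cancel]
    · show CF.mkQ (f - c) = facJ (t2 p)
      rw [← hf]
      show CF.mkQ (f - c) = CF.mkQ f
      refine (Submodule.Quotient.eq _).mpr ?_
      have : f - c - f = -c := by abel
      rw [this]
      exact CF.neg_mem (hJCF hc)
  obtain ⟨t1, ht1⟩ := lift_of_proj I hI (M := F ⧸ IF) (N := (P ⧸ IP) × (F ⧸ CF))
    (fun i hi m => kill_quot I F i hi m)
    (fun i hi n => by
      apply Prod.ext
      · exact kill_quot I P i hi n.1
      · exact kill_quot (I ⊔ J) F i (Ideal.mem_sup_left hi) n.2) g h hh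
  -- step 3
  have ex : ∀ p, ∃ f : F, IF.mkQ f = t1 p ∧ JF.mkQ f = t2 p := by
    intro p
    obtain ⟨a, ha⟩ := IF.mkQ_surjective (t1 p)
    obtain ⟨b, hb⟩ := JF.mkQ_surjective (t2 p)
    have e : CF.mkQ a = CF.mkQ b := by
      have := congrArg Prod.snd (ht1 p)
      rw [← ha] at this
      change CF.mkQ a = facJ (t2 p) at this
      rw [← hb] at this
      exact this
    have hab : a - b ∈ CF := (Submodule.Quotient.eq _).mp e
    have hCF : CF = IF ⊔ JF := Submodule.sup_smul _ _ _
    rw [hCF, Submodule.mem_sup] at hab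
    obtain ⟨u, hu, v, hv, huv⟩ := hab
    refine ⟨a - u, ?_, ?_⟩
    · rw [← ha]
      refine (Submodule.Quotient.eq _).mpr ?_
      have : a - u - a = -u := by abel
      rw [this]; exact IF.neg_mem hu
    · rw [← hb]
      refine (Submodule.Quotient.eq _).mpr ?_
      have : a - u - b = v := by rw [sub_right_comm, ← huv]; abel
      rw [this]; exact hv
  have uniq : ∀ f : F, f ∈ IF → f ∈ JF → f = 0 := by
    intro f h1 h2
    ext x
    have : f x ∈ I ⊓ J := ⟨coeff_mem_of_mem_smul_top I f h1 x, coeff_mem_of_mem_smul_top J f h2 x⟩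
    rw [hIJ] at this
    simpa using this
  choose s0 hs0 using ex
  let s : P →ₗ[R] F :=
    { toFun := s0
      map_add' := fun p q => by
        have := uniq (s0 (p + q) - (s0 p + s0 q))
          ((Submodule.Quotient.mk_eq_zero _).mp (by
            show IF.mkQ (s0 (p + q) - (s0 p + s0 q)) = 0
            rw [map_sub, map_add, (hs0 _).1, (hs0 _).1, (hs0 _).1, map_add, sub_self]))
          ((Submodule.Quotient.mk_eq_zero _).mp (by
            show JF.mkQ (s0 (p + q) - (s0 p + s0 q)) = 0
            rw [map_sub, map_add, (hs0 _).2, (hs0 _).2, (hs0 _).2, map_add, sub_self]))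
        exact sub_eq_zero.mp this
      map_smul' := fun r p => by
        have := uniq (s0 (r • p) - r • s0 p)
          ((Submodule.Quotient.mk_eq_zero _).mp (by
            show IF.mkQ (s0 (r • p) - r • s0 p) = 0
            rw [map_sub, map_smul, (hs0 _).1, (hs0 _).1, map_smul, sub_self]))
          ((Submodule.Quotient.mk_eq_zero _).mp (by
            show JF.mkQ (s0 (r • p) - r • s0 p) = 0
            rw [map_sub, map_smul, (hs0 _).2, (hs0 _).2, map_smul, sub_self]))
        exact sub_eq_zero.mp this }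
  -- step 4
  have hπs : ∀ p, π (s p) - p ∈ IP ⊓ JP := by
    intro p
    constructor
    · have := congrArg Prod.fst (ht1 p)
      rw [← (hs0 p).1] at this
      exact (Submodule.Quotient.eq _).mp this
    · have := ht2 p
      rw [← (hs0 p).2] at this
      exact (Submodule.Quotient.eq _).mp this
  let ε : P →ₗ[R] P := π ∘ₗ s - LinearMap.id
  have hε : ∀ p, ε p ∈ IP ⊓ JP := fun p => hπs p
  have h0 : I * J = ⊥ := by
    apply le_bot_iff.mp
    rw [← hIJ]
    exact Ideal.mul_le_inf
  have hIJ0 : ∀ i ∈ I, ∀ y ∈ JP, i • y = 0 := by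
    intro i hi y hy
    have : i • y ∈ (I * J) • (⊤ : Submodule R P) := by
      rw [Submodule.mul_smul]
      exact Submodule.smul_mem_smul hi hy
    rw [h0, Submodule.bot_smul] at this
    exact (Submodule.mem_bot R).mp this
  have hεε : ∀ p, ε (ε p) = 0 := by
    intro p
    have h1 : ε p ∈ IP := (hε p).1
    refine Submodule.smul_induction_on (p := fun y => ε y = 0) h1 ?_ ?_
    · intro i hi y _
      rw [map_smul]
      exact hIJ0 i hi _ (hε y).2
    · intro a b ha hb
      rw [map_add, ha, hb, add_zero]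
  refine Module.Projective.of_split (s ∘ₗ (LinearMap.id - ε)) π ?_
  ext p
  have e1 : ∀ q, π (s q) = q + ε q := by
    intro q
    show π (s q) = q + (π (s q) - q)
    abel
  show π (s (p - ε p)) = p
  rw [e1, map_sub, hεε]
  abel
end

end aux

/-- Over a ring R, take two ideals I and J meeting in zero (I ∩ J = 0) and an R-module P. If the
R/I-module P/IP (that is, R/I ⊗ P) and the R/J-module P/JP (that is, R/J ⊗ P) are both projective,
then P itself is projective over R. -/
theorem result {R : Type u} [CommRing R] (I J : Ideal R) (hIJ : I ⊓ J = ⊥) (P : Type u) [AddCommGroup P] [Module R P] (hI : Module.Projective (R ⧸ I) ((R ⧸ I) ⊗[R] P)) (hJ : Module.Projective (R ⧸ J) ((R ⧸ J) ⊗[R] P)) : Module.Projective R P := by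
  exact main I J hIJ P hI hJ

end Groth.Agent.S6272
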