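import Groth.Statements.S6273
-- import your own Groth.Agent.* helpers here

set_option autoImplicit false
universe u
open CAlg

namespace Groth.Agent.S6273

/-- Let R be a ring, S ⊆ R a multiplicative subset and A = S⁻¹R. If the image of Spec(A) → Spec(R) is
closed, then the localization map R → A is surjective; in particular A is isomorphic to R/I for the
ideal I = ker(R → A). -/
theorem result {R : Type u} [CommRing R] (S : Submonoid R) (A : Type u) [CommRing A] [Algebra R A] [IsLocalization S A] (hcl : IsClosed (Set.range (PrimeSpectrum.comap (algebraMap R A)))) : Function.Surjective (algebraMap R A) := by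
  have hrange : Set.range (PrimeSpectrum.comap (algebraMap R A)) =
      PrimeSpectrum.zeroLocus (RingHom.ker (algebraMap R A) : Set R) := by
    rw [← PrimeSpectrum.closure_range_comap, hcl.closure_eq]
  have key : ∀ s ∈ S, ∃ t : R, algebraMap R A (s * t) = 1 := by
    intro s hs
    have htop : RingHom.ker (algebraMap R A) ⊔ Ideal.span {s} = ⊤ := by
      by_contra hne
      obtain ⟨m, hm, hle⟩ := Ideal.exists_le_maximal _ hne
      have hmem : (⟨m, hm.isPrime⟩ : PrimeSpectrum R) ∈
          PrimeSpectrum.zeroLocus (RingHom.ker (algebraMap R A) : Set R) := by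
        rw [PrimeSpectrum.mem_zeroLocus]
        intro x hx
        exact hle (Ideal.mem_sup_left hx)
      rw [← hrange] at hmem
      obtain ⟨q, hq⟩ := hmem
      have hsm : s ∈ m := hle (Ideal.mem_sup_right (Ideal.subset_span rfl))
      have hsq : algebraMap R A s ∈ q.asIdeal := by
        have : s ∈ (PrimeSpectrum.comap (algebraMap R A) q).asIdeal := by rw [hq]; exact hsm
        exact this
      exact q.2.ne_top (q.asIdeal.eq_top_of_isUnit_mem hsq (IsLocalization.map_units A ⟨s, hs⟩))
    have h1 : (1 : R) ∈ RingHom.ker (algebraMap R A) ⊔ Ideal.span {s} := by rw [htop]; trivial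
    obtain ⟨i, hi, j, hj, hij⟩ := Submodule.mem_sup.mp h1
    obtain ⟨t, rfl⟩ := Ideal.mem_span_singleton'.mp hj
    refine ⟨t, ?_⟩
    have : algebraMap R A (i + t * s) = 1 := by rw [hij, map_one]
    rw [map_add, (RingHom.mem_ker).mp hi, zero_add] at this
    rw [mul_comm]; exact this
  intro a
  obtain ⟨r, s, rfl⟩ := IsLocalization.exists_mk'_eq S a
  obtain ⟨t, ht⟩ := key s s.2
  refine ⟨r * t, ?_⟩
  rw [eq_comm, IsLocalization.mk'_eq_iff_eq_mul, ← map_mul, mul_assoc, mul_comm t, map_mul, ht,
    mul_one]

end Groth.Agent.S6273
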