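import Groth.Statements.S6274
import Groth.Agent.S6273
import Mathlib
-- import your own Groth.Agent.* helpers here

set_option autoImplicit false
universe u
open CAlg

namespace Groth.Agent.S6274

/-- Let R be a ring, S ⊆ R a multiplicative subset and A = S⁻¹R, and assume the image of Spec(A) →
Spec(R) is closed. If Spec(R) is a Noetherian topological space (which holds when R is Noetherian)
or S is finitely generated as a monoid, then R is isomorphic to A × R' for some ring R', by an
isomorphism whose first component is the localization map R → A. -/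
theorem result {R : Type u} [CommRing R] (S : Submonoid R) (A : Type u) [CommRing A] [Algebra R A] [IsLocalization S A] (hcl : IsClosed (Set.range (PrimeSpectrum.comap (algebraMap R A)))) (h : TopologicalSpace.NoetherianSpace (PrimeSpectrum R) ∨ S.FG) : ∃ (R' : Type u) (_ : CommRing R') (e : R ≃+* A × R'), ∀ x : R, (e x).1 = algebraMap R A x := by
  classical
  have hsurj := Groth.Agent.S6273.result S A hcl
  have hZeq : Set.range (PrimeSpectrum.comap (algebraMap R A)) =
      {p | Disjoint (S : Set R) p.asIdeal} := PrimeSpectrum.localization_comap_range A S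
  have hgen : StableUnderGeneralization (Set.range (PrimeSpectrum.comap (algebraMap R A))) := by
    intro p p' hpp' hp
    rw [hZeq] at hp ⊢
    have hle : p'.asIdeal ≤ p.asIdeal := (PrimeSpectrum.le_iff_specializes p' p).2 hpp'
    exact Set.disjoint_of_subset_right hle hp
  have hopen : IsOpen (Set.range (PrimeSpectrum.comap (algebraMap R A))) := by
    rcases h with hN | hfg
    · apply PrimeSpectrum.isOpen_of_stableUnderGeneralization_of_isConstructible hgen
      have hret : IsRetrocompact (Set.range (PrimeSpectrum.comap (algebraMap R A)))ᶜ :=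
        fun U _ _ => TopologicalSpace.NoetherianSpace.isCompact _
      exact (hret.isConstructible hcl.isOpen_compl).of_compl
    · obtain ⟨s, hs⟩ := hfg
      have hprodS : (∏ x ∈ s, x) ∈ S := by
        rw [← hs]; exact Submonoid.prod_mem _ (fun x hx => Submonoid.subset_closure hx)
      have hEq : Set.range (PrimeSpectrum.comap (algebraMap R A)) =
          (PrimeSpectrum.basicOpen (∏ x ∈ s, x) : Set (PrimeSpectrum R)) := by
        rw [hZeq]; ext p
        simp only [Set.mem_setOf_eq, SetLike.mem_coe, PrimeSpectrum.mem_basicOpen]
        constructor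
        · intro hd hprod
          exact Set.disjoint_left.1 hd hprodS hprod
        · intro hprod
          rw [Set.disjoint_left]
          intro x hxS hxp
          have hle : S ≤ p.asIdeal.primeCompl := by
            rw [← hs, Submonoid.closure_le]
            intro y hy hyp
            exact hprod (p.asIdeal.mem_of_dvd (Finset.dvd_prod_of_mem _ hy) hyp)
          exact hle hxS hxp
      rw [hEq]; exact (PrimeSpectrum.basicOpen _).2
  obtain ⟨e, he, hZe⟩ := PrimeSpectrum.isClopen_iff.1 ⟨hcl, hopen⟩
  -- `e` maps to `1` in `A`
  have he1 : algebraMap R A e = 1 := by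
    have hu : IsUnit (algebraMap R A e) := by
      by_contra hnu
      obtain ⟨M, hM, heM⟩ := exists_max_ideal_of_mem_nonunits hnu
      have hmem : PrimeSpectrum.comap (algebraMap R A) ⟨M, hM.isPrime⟩ ∈
          Set.range (PrimeSpectrum.comap (algebraMap R A)) := ⟨_, rfl⟩
      rw [hZe] at hmem
      exact hmem heM
    have h1 : algebraMap R A e * (algebraMap R A e - 1) = 0 := by
      rw [mul_sub, mul_one, ← map_mul, he.eq, sub_self]
    have h2 := hu.mul_right_eq_zero.1 h1
    exact sub_eq_zero.1 h2
  -- elements of the kernel are killed by `e`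
  have hker : ∀ x : R, algebraMap R A x = 0 → x * e = 0 := by
    intro x hx
    obtain ⟨⟨t, htS⟩, ht⟩ := (IsLocalization.map_eq_zero_iff S A x).1 hx
    have ht' : t * x = 0 := ht
    have htop : Ideal.span {t, 1 - e} = ⊤ := by
      by_contra hne
      obtain ⟨m, hm, hle⟩ := Ideal.exists_le_maximal _ hne
      have htm : t ∈ m := hle (Ideal.subset_span (by simp))
      have h1em : 1 - e ∈ m := hle (Ideal.subset_span (by simp))
      have hem : e ∉ m := fun hem => hm.ne_top ((Ideal.eq_top_iff_one m).2 (by
        have := m.add_mem h1em hem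
        simpa using this))
      have hmem : (⟨m, hm.isPrime⟩ : PrimeSpectrum R) ∈
          Set.range (PrimeSpectrum.comap (algebraMap R A)) := by
        rw [hZe]; exact hem
      rw [hZeq] at hmem
      exact Set.disjoint_left.1 hmem htS htm
    have h1 : (1 : R) ∈ Ideal.span {t, 1 - e} := by rw [htop]; trivial
    obtain ⟨a, b, hab⟩ := Ideal.mem_span_pair.1 h1
    have hee : e * e = e := he.eq
    calc x * e = x * e * (a * t + b * (1 - e)) := by rw [hab, mul_one]
      _ = a * e * (t * x) + b * x * (e - e * e) := by ring
      _ = 0 := by rw [ht', hee, sub_self, mul_zero, mul_zero, add_zero]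
  let ψ : R →+* A × (R ⧸ Ideal.span {e}) :=
    (algebraMap R A).prod (Ideal.Quotient.mk (Ideal.span {e}))
  have hinj : Function.Injective ψ := by
    rw [injective_iff_map_eq_zero]
    intro x hx
    have hx1 : algebraMap R A x = 0 := congrArg Prod.fst hx
    have hx2 : Ideal.Quotient.mk (Ideal.span {e}) x = 0 := congrArg Prod.snd hx
    obtain ⟨c, hc⟩ := Ideal.mem_span_singleton'.1 (Ideal.Quotient.eq_zero_iff_mem.1 hx2)
    have h3 := hker x hx1
    rw [← hc, mul_assoc, he.eq, hc] at h3
    exact h3
  have hsur : Function.Surjective ψ := by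
    rintro ⟨a, r⟩
    obtain ⟨y, rfl⟩ := hsurj a
    obtain ⟨z, rfl⟩ := Ideal.Quotient.mk_surjective r
    refine ⟨y * e + z * (1 - e), ?_⟩
    apply Prod.ext
    · show algebraMap R A (y * e + z * (1 - e)) = algebraMap R A y
      rw [map_add, map_mul, map_mul, map_sub, he1, map_one, sub_self, mul_zero, add_zero, mul_one]
    · show Ideal.Quotient.mk (Ideal.span {e}) (y * e + z * (1 - e)) = Ideal.Quotient.mk _ z
      rw [Ideal.Quotient.eq]
      have : y * e + z * (1 - e) - z = (y - z) * e := by ring
      rw [this]
      exact Ideal.mul_mem_left _ _ (Ideal.subset_span rfl)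
  exact ⟨R ⧸ Ideal.span {e}, inferInstance, RingEquiv.ofBijective ψ ⟨hinj, hsur⟩, fun x => rfl⟩

end Groth.Agent.S6274
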