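import Groth.Statements.S6275
-- import your own Groth.Agent.* helpers here

set_option autoImplicit false
universe u
open CAlg

namespace Groth.Agent.S6275

/-- Let R be a Noetherian ring and p ⊆ R a prime. Then there is f ∈ R, f ∉ p, such that R_f → R_p is
injective; equivalently every x ∈ R mapping to zero in R_p maps to zero in R_f. (The cases of a
domain and of a reduced ring with finitely many minimal primes are not included here.) -/
theorem result {R : Type u} [CommRing R] [IsNoetherianRing R] (p : Ideal R) [p.IsPrime] : ∃ f : R, f ∉ p ∧ ∀ x : R, algebraMap R (Localization.AtPrime p) x = 0 → algebraMap R (Localization.Away f) x = 0 := by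
  classical
  have hK : (RingHom.ker (algebraMap R (Localization.AtPrime p))).FG := IsNoetherian.noetherian _
  obtain ⟨s, hs⟩ := hK
  have hex : ∀ x ∈ RingHom.ker (algebraMap R (Localization.AtPrime p)),
      ∃ m : R, m ∉ p ∧ m * x = 0 := by
    intro x hx
    rw [RingHom.mem_ker, IsLocalization.map_eq_zero_iff p.primeCompl] at hx
    obtain ⟨m, hm⟩ := hx
    exact ⟨m, m.2, hm⟩
  have hch : ∀ x : R, ∃ m : R, m ∉ p ∧ (x ∈ s → m * x = 0) := by
    intro x
    by_cases hx : x ∈ s
    · obtain ⟨m, hm, hmx⟩ := hex x (hs ▸ Ideal.subset_span hx)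
      exact ⟨m, hm, fun _ => hmx⟩
    · exact ⟨1, fun h => (Ideal.IsPrime.ne_top inferInstance) (p.eq_top_of_isUnit_mem h isUnit_one),
        fun h => absurd h hx⟩
  choose m hm hmx using hch
  refine ⟨∏ x ∈ s, m x, ?_, ?_⟩
  · intro h
    rw [Ideal.IsPrime.prod_mem_iff] at h
    obtain ⟨x, hx, hmp⟩ := h
    exact hm x hmp
  · have hall : ∀ y ∈ Ideal.span (s : Set R), (∏ x ∈ s, m x) * y = 0 := by
      intro y hy
      induction hy using Submodule.span_induction with
      | mem y hy =>
        rw [← Finset.mul_prod_erase s m hy, mul_comm (m y), mul_assoc, hmx y hy, mul_zero]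
      | zero => simp
      | add a b _ _ ha hb => rw [mul_add, ha, hb, add_zero]
      | smul r a _ ha => rw [smul_eq_mul, mul_left_comm, ha, mul_zero]
    intro x hx
    have hx' : x ∈ RingHom.ker (algebraMap R (Localization.AtPrime p)) := hx
    rw [← hs] at hx'
    have hfx : (∏ x ∈ s, m x) * x = 0 := by
      exact hall x hx'
    rw [IsLocalization.map_eq_zero_iff (Submonoid.powers (∏ x ∈ s, m x))]
    exact ⟨⟨_, Submonoid.mem_powers _⟩, hfx⟩

end Groth.Agent.S6275
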