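import Groth.Statements.S6277
import Mathlib.RingTheory.Noetherian.Basic

set_option autoImplicit false
universe u
open CAlg

namespace Groth.Agent.S6277

/-- Any surjective ring endomorphism of a Noetherian ring is an isomorphism (bijective). -/
theorem result {R : Type u} [CommRing R] [IsNoetherianRing R] (f : R →+* R) (hf : Function.Surjective f) : Function.Bijective f := by
  refine ⟨?_, hf⟩
  have hpow_surj : ∀ n : ℕ, Function.Surjective (f ^ n) := by
    intro n; rw [RingHom.coe_pow]; exact hf.iterate n
  have hsucc : ∀ (n : ℕ) (x : R), (f ^ (n + 1)) x = f ((f ^ n) x) := by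
    intro n x; rw [pow_succ']; rfl
  let c : ℕ →o Ideal R := ⟨fun n => RingHom.ker (f ^ n), monotone_nat_of_le_succ (fun n x hx => by
    rw [RingHom.mem_ker] at hx ⊢
    rw [hsucc, hx, map_zero])⟩
  obtain ⟨n, hn⟩ := monotone_stabilizes_iff_noetherian.mpr (inferInstance : IsNoetherian R R) c
  rw [injective_iff_map_eq_zero]
  intro x hx
  obtain ⟨y, rfl⟩ := hpow_surj n x
  have hy : y ∈ c (n + 1) := by
    change y ∈ RingHom.ker (f ^ (n + 1))
    rw [RingHom.mem_ker, hsucc, hx]
  rw [← hn (n + 1) (Nat.le_succ n)] at hy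
  exact hy

end Groth.Agent.S6277
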