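import Groth.Statements.S6278
-- import your own Groth.Agent.* helpers here

set_option autoImplicit false
universe u
open CAlg

namespace Groth.Agent.S6278

/-- A normal ring R (all localizations at primes are integrally closed domains) is integrally closed in
its total ring of fractions. -/
theorem result (R : Type u) [CommRing R] (hR : EGA4.IsNormalRing R) : IsIntegrallyClosedIn R (FractionRing R) := by
  rw [isIntegrallyClosedIn_iff]
  refine ⟨IsFractionRing.injective R (FractionRing R), fun {x} hx => ?_⟩
  obtain ⟨⟨a, s⟩, rfl⟩ := IsLocalization.mk'_surjective (nonZeroDivisors R) x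
  let I : Ideal R :=
    { carrier := {r | ∃ b, r * a = s * b}
      add_mem' := by
        rintro r₁ r₂ ⟨b₁, h₁⟩ ⟨b₂, h₂⟩
        exact ⟨b₁ + b₂, by rw [add_mul, h₁, h₂, mul_add]⟩
      zero_mem' := ⟨0, by simp⟩
      smul_mem' := by
        rintro c r ⟨b, h⟩
        exact ⟨c * b, by rw [smul_eq_mul, mul_assoc, h]; ring⟩ }
  suffices h1 : (1 : R) ∈ I by
    obtain ⟨b, hb⟩ := h1
    refine ⟨b, ?_⟩
    rw [IsLocalization.eq_mk'_iff_mul_eq, ← map_mul]
    congr 1
    rw [mul_comm]
    simpa using hb.symm
  by_contra h1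
  have hI : I ≠ ⊤ := fun h => h1 (h ▸ Submodule.mem_top)
  obtain ⟨p, hp, hIp⟩ := Ideal.exists_le_maximal I hI
  have : p.IsPrime := hp.isPrime
  obtain ⟨hdom, hic⟩ := hR p
  let ψ : R →+* FractionRing (Localization.AtPrime p) :=
    (algebraMap (Localization.AtPrime p) (FractionRing (Localization.AtPrime p))).comp
      (algebraMap R (Localization.AtPrime p))
  have hψ : ∀ y : nonZeroDivisors R, IsUnit (ψ y) := by
    intro y
    have hy0 : algebraMap R (Localization.AtPrime p) y ≠ 0 := by
      intro h0
      obtain ⟨t, ht⟩ := (IsLocalization.map_eq_zero_iff p.primeCompl (Localization.AtPrime p) _).mp h0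
      have h2 : (t : R) = 0 := (mem_nonZeroDivisors_iff.mp y.2).2 _ ht
      exact t.2 (h2 ▸ p.zero_mem)
    refine IsUnit.mk0 _ ?_
    exact (map_ne_zero_iff _ (IsFractionRing.injective (Localization.AtPrime p) _)).mpr hy0
  let φ : FractionRing R →+* FractionRing (Localization.AtPrime p) := IsLocalization.lift hψ
  have hφ : ∀ r, φ (algebraMap R _ r) = ψ r := IsLocalization.lift_eq hψ
  have hint : IsIntegral (Localization.AtPrime p) (φ (IsLocalization.mk' _ a s)) := by
    refine hx.map_of_comp_eq (algebraMap R (Localization.AtPrime p)) φ ?_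
    ext r
    exact (hφ r).symm
  obtain ⟨y, hy⟩ := IsIntegrallyClosed.isIntegral_iff.mp hint
  have hspec : φ (IsLocalization.mk' _ a s) * ψ s = ψ a := by
    rw [← hφ, ← hφ, ← map_mul, IsLocalization.mk'_spec]
  rw [← hy] at hspec
  have hL : y * algebraMap R (Localization.AtPrime p) s = algebraMap R (Localization.AtPrime p) a := by
    apply IsFractionRing.injective (Localization.AtPrime p) (FractionRing (Localization.AtPrime p))
    rw [map_mul]
    exact hspec
  obtain ⟨⟨b, t⟩, rfl⟩ := IsLocalization.mk'_surjective p.primeCompl y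
  rw [mul_comm, IsLocalization.mul_mk'_eq_mk'_of_mul, IsLocalization.mk'_eq_iff_eq_mul,
    ← map_mul] at hL
  obtain ⟨c, hc⟩ := (IsLocalization.eq_iff_exists p.primeCompl _).mp hL
  have hmem : (c : R) * t ∈ I := ⟨c * b, by
    have : (c : R) * (s * b) = c * (a * t) := hc
    linear_combination -this⟩
  exact (p.primeCompl.mul_mem c.2 t.2) (hIp hmem)

end Groth.Agent.S6278
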