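import Groth.Statements.S6279
import Mathlib.RingTheory.Spectrum.Prime.RingHom
-- import your own Groth.Agent.* helpers here

set_option autoImplicit false
universe u
open CAlg

namespace Groth.Agent.S6279

/-- A finite product of normal rings is normal (a ring is normal when every localization at a prime is
an integrally closed domain). -/
theorem result {ι : Type u} [Finite ι] (A : ι → Type u) [∀ i, CommRing (A i)] (hA : ∀ i, EGA4.IsNormalRing (A i)) : EGA4.IsNormalRing (∀ i, A i) := by
  classical
  intro P hP
  obtain ⟨i, q, hq⟩ :=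
    PrimeSpectrum.exists_comap_evalRingHom_eq (⟨P, hP⟩ : PrimeSpectrum (∀ i, A i))
  have hPq : P = q.asIdeal.comap (Pi.evalRingHom A i) := (congrArg PrimeSpectrum.asIdeal hq).symm
  obtain ⟨hdom, hic⟩ := hA i q.asIdeal
  have hmem : ∀ x : (∀ i, A i), x ∈ P ↔ x i ∈ q.asIdeal := fun x => by
    conv_lhs => rw [hPq]
    rfl
  letI : Algebra (∀ i, A i) (Localization.AtPrime q.asIdeal) :=
    ((algebraMap (A i) (Localization.AtPrime q.asIdeal)).comp (Pi.evalRingHom A i)).toAlgebra
  have hmap : ∀ x : (∀ i, A i), algebraMap (∀ i, A i) (Localization.AtPrime q.asIdeal) x =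
      algebraMap (A i) _ (x i) := fun x => rfl
  have hloc : IsLocalization P.primeCompl (Localization.AtPrime q.asIdeal) := by
    rw [isLocalization_iff]
    refine ⟨?_, ?_, ?_⟩
    · intro y
      rw [hmap]
      refine IsLocalization.map_units (M := q.asIdeal.primeCompl) _ ⟨y.1 i, ?_⟩
      intro h
      exact y.2 ((hmem _).mpr h)
    · intro z
      obtain ⟨⟨a, t⟩, rfl⟩ := IsLocalization.mk'_surjective q.asIdeal.primeCompl z
      have ht : Function.update (1 : ∀ i, A i) i t.1 ∈ P.primeCompl := by
        show Function.update (1 : ∀ i, A i) i t.1 ∉ P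
        rw [hmem, Function.update_self]
        exact t.2
      refine ⟨⟨Pi.single i a, ⟨Function.update 1 i t.1, ht⟩⟩, ?_⟩
      simp only [hmap]
      simp [IsLocalization.mk'_spec]
    · intro x y hxy
      rw [hmap, hmap] at hxy
      obtain ⟨c, hc⟩ := (IsLocalization.eq_iff_exists q.asIdeal.primeCompl _).mp hxy
      have hcP : Pi.single i c.1 ∈ P.primeCompl := by
        show Pi.single i c.1 ∉ P
        rw [hmem, Pi.single_eq_same]
        exact c.2
      refine ⟨⟨Pi.single i c.1, hcP⟩, ?_⟩
      ext j
      by_cases hj : j = i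
      · subst hj
        simpa using hc
      · simp [hj]
  let e : Localization.AtPrime P ≃ₐ[∀ i, A i] Localization.AtPrime q.asIdeal :=
    IsLocalization.algEquiv P.primeCompl _ _
  exact ⟨e.toMulEquiv.isDomain _, IsIntegrallyClosed.of_equiv e.symm.toRingEquiv⟩

end Groth.Agent.S6279
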