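import Groth.Statements.S6281
-- import your own Groth.Agent.* helpers here

set_option autoImplicit false
universe u
open CAlg

namespace Groth.Agent.S6281

/-- For an R-algebra S and an S-module M, flatness of S over R follows once M is both flat over R and
faithfully flat over S. -/
theorem result {R S : Type u} [CommRing R] [CommRing S] [Algebra R S] (M : Type u) [AddCommGroup M] [Module S M] [Module R M] [IsScalarTower R S M] [Module.Flat R M] [Module.FaithfullyFlat S M] : Module.Flat R S := by
  rw [Module.Flat.iff_lTensor_preserves_injective_linearMap]
  intro N P _ _ _ _ f hf
  have h1 : Function.Injective (f.baseChange S) := by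
    rw [← Module.FaithfullyFlat.lTensor_injective_iff_injective S M]
    have : LinearMap.lTensor M (f.baseChange S) =
        ((TensorProduct.AlgebraTensorModule.cancelBaseChange R S S M P).symm.toLinearMap) ∘ₗ
        ((TensorProduct.AlgebraTensorModule.lTensor S M f)) ∘ₗ
        ((TensorProduct.AlgebraTensorModule.cancelBaseChange R S S M N).toLinearMap) := by
      ext; simp
    rw [this]
    simp only [LinearMap.coe_comp, LinearEquiv.coe_coe,
      EmbeddingLike.comp_injective, EquivLike.injective_comp]
    exact Module.Flat.lTensor_preserves_injective_linearMap f hf
  exact h1

end Groth.Agent.S6281
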