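import Groth.Statements.S6282
import Mathlib.RingTheory.Flat.FaithfullyFlat.Basic
import Mathlib.LinearAlgebra.TensorProduct.Tower

set_option autoImplicit false
universe u
open scoped TensorProduct
open CAlg

namespace Groth.Agent.S6282


section
variable {R S S' : Type u} [CommRing R] [CommRing S] [CommRing S'] [Algebra R S] [Algebra R S']
  [Algebra S S'] [IsScalarTower R S S'] (M : Type u) [AddCommGroup M] [Module S M] [Module R M]
  [IsScalarTower R S M]

open TensorProduct in
private lemma square {N N' : Type u} [AddCommGroup N] [AddCommGroup N'] [Module R N] [Module R N']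
    (f : N →ₗ[R] N') (x : (S' ⊗[S] M) ⊗[R] N) :
    AlgebraTensorModule.assoc R S S' S' M N' (f.lTensor (S' ⊗[S] M) x)
      = (AlgebraTensorModule.lTensor S M f).lTensor S'
          (AlgebraTensorModule.assoc R S S' S' M N x) := by
  induction x using TensorProduct.induction_on with
  | zero => simp
  | add x y hx hy => rw [map_add, map_add, map_add, map_add, hx, hy]
  | tmul y n =>
    induction y using TensorProduct.induction_on with
    | zero => simp
    | add y z hy hz =>
      rw [TensorProduct.add_tmul, map_add, map_add, map_add, map_add, hy, hz]
    | tmul s m => rfl

open TensorProduct in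
private lemma inj_iff {N N' : Type u} [AddCommGroup N] [AddCommGroup N'] [Module R N] [Module R N']
    (f : N →ₗ[R] N') :
    Function.Injective (f.lTensor (S' ⊗[S] M)) ↔
      Function.Injective ((AlgebraTensorModule.lTensor S M f).lTensor S') := by
  constructor
  · intro h x y hxy
    obtain ⟨x', rfl⟩ := (AlgebraTensorModule.assoc R S S' S' M N).surjective x
    obtain ⟨y', rfl⟩ := (AlgebraTensorModule.assoc R S S' S' M N).surjective y
    rw [← square, ← square] at hxy
    rw [h ((AlgebraTensorModule.assoc R S S' S' M N').injective hxy)]
  · intro h x y hxy
    have h2 := congrArg (AlgebraTensorModule.assoc R S S' S' M N') hxy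
    rw [square, square] at h2
    exact (AlgebraTensorModule.assoc R S S' S' M N).injective (h h2)

end

/-- Let S → S' be a homomorphism of R-algebras, M an S-module, and M' = S' ⊗_S M with its induced
R-module structure. (1) When S' is flat over S, R-flatness of M passes to M'. (2) When S' is
faithfully flat over S, M is R-flat exactly when M' is. -/
theorem result {R S S' : Type u} [CommRing R] [CommRing S] [CommRing S'] [Algebra R S] [Algebra R S'] [Algebra S S'] [IsScalarTower R S S'] (M : Type u) [AddCommGroup M] [Module S M] [Module R M] [IsScalarTower R S M] : ([Module.Flat S S'] → Module.Flat R M → Module.Flat R (S' ⊗[S] M)) ∧ ([Module.FaithfullyFlat S S'] → (Module.Flat R M ↔ Module.Flat R (S' ⊗[S] M))) := by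
  constructor
  · intro hS' hM
    rw [Module.Flat.iff_lTensor_preserves_injective_linearMap]
    intro N N' _ _ _ _ f hf
    rw [inj_iff]
    apply Module.Flat.lTensor_preserves_injective_linearMap
    have h1 : Function.Injective (f.lTensor M) :=
      Module.Flat.lTensor_preserves_injective_linearMap f hf
    exact h1
  · intro hS'
    constructor
    · intro hM
      rw [Module.Flat.iff_lTensor_preserves_injective_linearMap]
      intro N N' _ _ _ _ f hf
      rw [inj_iff]
      apply Module.Flat.lTensor_preserves_injective_linearMap
      have h1 : Function.Injective (f.lTensor M) :=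
        Module.Flat.lTensor_preserves_injective_linearMap f hf
      exact h1
    · intro hM'
      rw [Module.Flat.iff_lTensor_preserves_injective_linearMap]
      intro N N' _ _ _ _ f hf
      have h1 : Function.Injective (f.lTensor (TensorProduct S S' M)) :=
        Module.Flat.lTensor_preserves_injective_linearMap f hf
      rw [inj_iff, Module.FaithfullyFlat.lTensor_injective_iff_injective] at h1
      exact h1

end Groth.Agent.S6282
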