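import Groth.Statements.S6283
import Mathlib
-- import your own Groth.Agent.* helpers here

set_option autoImplicit false
universe u
open scoped TensorProduct
open CAlg

namespace Groth.Agent.S6283

open TensorProduct in
theorem tmul_eq_zero_iff {R S : Type u} [CommRing R] [CommRing S] [Algebra R S] [Module.Flat R S]
    (N : Type u) [AddCommGroup N] [Module R N] (x : N) (s : S) :
    s ⊗ₜ[R] x = 0 ↔
      s ∈ Ideal.map (algebraMap R S) (LinearMap.ker (LinearMap.toSpanSingleton R N x)) := by
  obtain ⟨a, ha⟩ : ∃ a : Ideal R, a = LinearMap.ker (LinearMap.toSpanSingleton R N x) := ⟨_, rfl⟩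
  rw [← ha]
  have hle : a ≤ LinearMap.ker (LinearMap.toSpanSingleton R N x) := ha.le
  let ι : (R ⧸ a) →ₗ[R] N := Submodule.liftQ a (LinearMap.toSpanSingleton R N x) hle
  have hι : Function.Injective ι := by
    rw [← LinearMap.ker_eq_bot]
    exact Submodule.ker_liftQ_eq_bot _ _ _ ha.ge
  have hinj := Module.Flat.lTensor_preserves_injective_linearMap (M := S) ι hι
  have hι1 : ι (1 : R ⧸ a) = x := by
    change ι (Submodule.Quotient.mk 1) = x
    rw [Submodule.liftQ_apply, LinearMap.toSpanSingleton_apply, one_smul]
  have h1 : ι.lTensor S (s ⊗ₜ[R] (1 : R ⧸ a)) = s ⊗ₜ[R] x := by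
    rw [LinearMap.lTensor_tmul, hι1]
  constructor
  · intro h
    have h2 : s ⊗ₜ[R] (1 : R ⧸ a) = 0 := hinj (by rw [h1, h, map_zero])
    have h3 := congrArg (TensorProduct.tensorQuotEquivQuotSMul S a) h2
    rw [map_zero, ← map_one (Ideal.Quotient.mk a), TensorProduct.tensorQuotEquivQuotSMul_tmul_mk,
      one_smul, Submodule.Quotient.mk_eq_zero, Ideal.smul_top_eq_map] at h3
    exact h3
  · intro h
    have hJ : a.map (algebraMap R S) ≤
        LinearMap.ker (LinearMap.toSpanSingleton S (S ⊗[R] N) ((1 : S) ⊗ₜ[R] x)) := by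
      rw [Ideal.map_le_iff_le_comap]
      intro r hr
      rw [Ideal.mem_comap, LinearMap.mem_ker, LinearMap.toSpanSingleton_apply,
        TensorProduct.smul_tmul', smul_eq_mul, mul_one, Algebra.algebraMap_eq_smul_one,
        TensorProduct.smul_tmul]
      have : r • x = 0 := by
        have := hle hr
        rwa [LinearMap.mem_ker, LinearMap.toSpanSingleton_apply] at this
      rw [this, TensorProduct.tmul_zero]
    have h2 := hJ h
    rwa [LinearMap.mem_ker, LinearMap.toSpanSingleton_apply, TensorProduct.smul_tmul', smul_eq_mul,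
      mul_one] at h2

/-- Let R → S be a flat ring map, M an R-module and m ∈ M. Then Ann_R(m)S = Ann_S(1 ⊗ m), the
annihilator in S of the element 1 ⊗ m of S ⊗_R M. If moreover M is a finite R-module then Ann_R(M)S
= Ann_S(S ⊗_R M). -/
theorem result {R S : Type u} [CommRing R] [CommRing S] [Algebra R S] [Module.Flat R S] (M : Type u) [AddCommGroup M] [Module R M] : (∀ m : M, ((Submodule.span R {m}).annihilator).map (algebraMap R S) = (Submodule.span S {(1 : S) ⊗ₜ[R] m}).annihilator) ∧ (Module.Finite R M → (Module.annihilator R M).map (algebraMap R S) = Module.annihilator S (S ⊗[R] M)) := by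
  refine ⟨?_, ?_⟩
  · intro m
    ext s
    rw [Submodule.mem_annihilator_span_singleton, TensorProduct.smul_tmul', smul_eq_mul, mul_one,
      tmul_eq_zero_iff]
    have : LinearMap.ker (LinearMap.toSpanSingleton R M m) =
        (Submodule.span R {m}).annihilator := by
      ext r
      rw [LinearMap.mem_ker, LinearMap.toSpanSingleton_apply,
        Submodule.mem_annihilator_span_singleton]
    rw [this]
  · intro hfin
    obtain ⟨n, g, hg⟩ := Module.Finite.exists_fin (R := R) (M := M)
    have hker : LinearMap.ker (LinearMap.toSpanSingleton R (Fin n → M) g) =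
        Module.annihilator R M := by
      ext r
      rw [LinearMap.mem_ker, LinearMap.toSpanSingleton_apply, ← Submodule.annihilator_top, ← hg,
        Submodule.mem_annihilator_span]
      constructor
      · rintro h ⟨_, i, rfl⟩
        exact congrFun h i
      · intro h
        funext i
        exact h ⟨g i, i, rfl⟩
    ext s
    rw [← hker, ← tmul_eq_zero_iff]
    have hspan : Submodule.span S (TensorProduct.mk R S M 1 '' Set.range g) = ⊤ := by
      rw [← Submodule.baseChange_span, hg, Submodule.baseChange_top]
    rw [← Submodule.annihilator_top, ← hspan, Submodule.mem_annihilator_span]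
    constructor
    · rintro h ⟨_, _, ⟨i, rfl⟩, rfl⟩
      change s • ((1 : S) ⊗ₜ[R] g i) = 0
      rw [TensorProduct.smul_tmul', smul_eq_mul, mul_one]
      have h1 := congrArg ((LinearMap.proj i : (Fin n → M) →ₗ[R] M).lTensor S) h
      rwa [LinearMap.lTensor_tmul, map_zero] at h1
    · intro h
      have hg' : g = ∑ i, Pi.single i (g i) := (Finset.univ_sum_single g).symm
      rw [hg', TensorProduct.tmul_sum]
      refine Finset.sum_eq_zero fun i _ => ?_
      have h1 : s ⊗ₜ[R] (Pi.single i (g i) : Fin n → M) =
          (LinearMap.single R (fun _ => M) i).lTensor S (s ⊗ₜ[R] g i) := by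
        rw [LinearMap.lTensor_tmul]; rfl
      have h2 : s ⊗ₜ[R] g i = 0 := by
        have := h ⟨(1 : S) ⊗ₜ[R] g i, g i, ⟨i, rfl⟩, rfl⟩
        rwa [TensorProduct.smul_tmul', smul_eq_mul, mul_one] at this
      rw [h1, h2, map_zero]

end Groth.Agent.S6283
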