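import Groth.Statements.S6285
-- import your own Groth.Agent.* helpers here
import Groth.Agent.Lib.Helper23.Fitting5

set_option autoImplicit false
universe u
open CAlg

namespace Groth.Agent.S6285

/-- For a ring R and an R-module M of finite presentation, the support Supp(M) is closed in Spec(R), and
its complement in Spec(R) is quasi-compact. -/
theorem result (R : Type u) [CommRing R] (M : Type u) [AddCommGroup M] [Module R M] [Module.FinitePresentation R M] : IsClosed (Module.support R M) ∧ IsCompact (Module.support R M)ᶜ := by
  have hfg := Helper23.Fit.ideal_fg_of_finitePresentation (R := R) (M := M) 0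
  have hz := Helper23.Fit.zeroLocus_ideal_zero (R := R) (M := M)
  refine ⟨Module.isClosed_support, ?_⟩
  have := (PrimeSpectrum.isCompact_isOpen_iff_ideal (s := (Module.support R M)ᶜ)).mpr
    ⟨Fitt.ideal R M 0, hfg, by rw [hz]⟩
  exact this.1

end Groth.Agent.S6285
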