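import Groth.Statements.S6286
import Mathlib
-- import your own Groth.Agent.* helpers here

set_option autoImplicit false
universe u
open scoped TensorProduct
open CAlg

namespace Groth.Agent.S6286

section helpers
variable (k : Type u) [Field k] (R S : Type u) [CommRing R] [Algebra k R] [CommRing S] [Algebra k S]
  (S' : Subalgebra k S)

lemma iota_alg (r : R) :
    Algebra.TensorProduct.map (AlgHom.id k R) S'.val (algebraMap R (R ⊗[k] S') r) =
      algebraMap R (R ⊗[k] S) r := by
  rw [Algebra.TensorProduct.algebraMap_apply, Algebra.TensorProduct.algebraMap_apply,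
    Algebra.TensorProduct.map_tmul, map_one]
  rfl

lemma key (p : Ideal R) (x : R ⊗[k] S')
    (hx : Algebra.TensorProduct.map (AlgHom.id k R) S'.val x ∈
      p.map (algebraMap R (R ⊗[k] S))) : x ∈ p.map (algebraMap R (R ⊗[k] S')) := by
  have e1 := Algebra.TensorProduct.rTensor_ker (R := k) (C := S) (Ideal.Quotient.mkₐ k p)
    (Ideal.Quotient.mkₐ_surjective k _)
  have e2 := Algebra.TensorProduct.rTensor_ker (R := k) (C := S') (Ideal.Quotient.mkₐ k p)
    (Ideal.Quotient.mkₐ_surjective k _)
  have hk : RingHom.ker (Ideal.Quotient.mkₐ k p) = p := by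
    ext r
    rw [RingHom.mem_ker, Ideal.Quotient.mkₐ_eq_mk, Ideal.Quotient.eq_zero_iff_mem]
  rw [hk] at e1 e2
  have a1 : p.map (algebraMap R (R ⊗[k] S)) =
      p.map (Algebra.TensorProduct.includeLeft : R →ₐ[k] R ⊗[k] S) := rfl
  have a2 : p.map (algebraMap R (R ⊗[k] S')) =
      p.map (Algebra.TensorProduct.includeLeft : R →ₐ[k] R ⊗[k] S') := rfl
  rw [a1, ← e1, RingHom.mem_ker] at hx
  rw [a2, ← e2, RingHom.mem_ker]
  have hj : Function.Injective
      (Algebra.TensorProduct.map (AlgHom.id k (R ⧸ p)) S'.val) := by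
    have := Module.Flat.lTensor_preserves_injective_linearMap (M := R ⧸ p) S'.val.toLinearMap
      Subtype.val_injective
    exact this
  apply hj
  rw [map_zero, ← hx]
  have hcomp : (Algebra.TensorProduct.map (AlgHom.id k (R ⧸ p)) S'.val).comp
      (Algebra.TensorProduct.map (Ideal.Quotient.mkₐ k p) (AlgHom.id k S')) =
      (Algebra.TensorProduct.map (Ideal.Quotient.mkₐ k p) (AlgHom.id k S)).comp
        (Algebra.TensorProduct.map (AlgHom.id k R) S'.val) :=
    Algebra.TensorProduct.ext' (by intro a b; simp)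
  exact DFunLike.congr_fun hcomp x

end helpers

/-- Let k be a field, R and S k-algebras, S' ⊆ S a k-subalgebra and f ∈ R ⊗ₖ S', with image f again in R
⊗ₖ S. Then the images in Spec(R) of Spec((R ⊗ₖ S)_f) and of Spec((R ⊗ₖ S')_f) coincide: a prime p of
R is the contraction of a prime of R ⊗ₖ S not containing f if and only if it is the contraction of a
prime of R ⊗ₖ S' not containing f. -/
theorem result (k : Type u) [Field k] (R S : Type u) [CommRing R] [Algebra k R] [CommRing S] [Algebra k S] (S' : Subalgebra k S) (f : R ⊗[k] S') (p : PrimeSpectrum R) : (∃ q : PrimeSpectrum (R ⊗[k] S), Algebra.TensorProduct.map (AlgHom.id k R) S'.val f ∉ q.asIdeal ∧ q.asIdeal.comap (algebraMap R (R ⊗[k] S)) = p.asIdeal) ↔ (∃ q' : PrimeSpectrum (R ⊗[k] S'), f ∉ q'.asIdeal ∧ q'.asIdeal.comap (algebraMap R (R ⊗[k] S')) = p.asIdeal) := by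
  constructor
  · rintro ⟨q, hq1, hq2⟩
    refine ⟨⟨q.asIdeal.comap (Algebra.TensorProduct.map (AlgHom.id k R) S'.val), inferInstance⟩,
      hq1, ?_⟩
    rw [← hq2]
    ext r
    simp only [Ideal.mem_comap]
    rw [iota_alg]
  · rintro ⟨q', hq1, hq2⟩
    obtain ⟨M, hM⟩ : ∃ M : Submonoid (R ⊗[k] S), M =
      Submonoid.map (algebraMap R (R ⊗[k] S)) p.asIdeal.primeCompl ⊔
        Submonoid.powers (Algebra.TensorProduct.map (AlgHom.id k R) S'.val f) := ⟨_, rfl⟩
    have hle : p.asIdeal.map (algebraMap R (R ⊗[k] S')) ≤ q'.asIdeal := by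
      rw [Ideal.map_le_iff_le_comap, hq2]
    have hdisj : Disjoint ((p.asIdeal.map (algebraMap R (R ⊗[k] S)) : Ideal (R ⊗[k] S)) :
        Set (R ⊗[k] S)) M := by
      rw [Set.disjoint_left]
      intro x hx hxM
      rw [hM, SetLike.mem_coe, Submonoid.mem_sup] at hxM
      obtain ⟨y, ⟨s, hs, rfl⟩, z, ⟨n, rfl⟩, rfl⟩ := hxM
      have hx' : Algebra.TensorProduct.map (AlgHom.id k R) S'.val
          (algebraMap R (R ⊗[k] S') s * f ^ n) ∈ p.asIdeal.map (algebraMap R (R ⊗[k] S)) := by
        rw [map_mul, map_pow, iota_alg]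
        exact hx
      have h1 := hle (key k R S S' p.asIdeal _ hx')
      rcases q'.isPrime.mem_or_mem h1 with h2 | h2
      · apply hs
        rw [← hq2]
        exact h2
      · exact hq1 (q'.isPrime.mem_of_pow_mem n h2)
    obtain ⟨q, hqp, hq1', hq2'⟩ := Ideal.exists_le_prime_disjoint _ M hdisj
    refine ⟨⟨q, hqp⟩, ?_, ?_⟩
    · intro hmem
      refine Set.disjoint_left.mp hq2' hmem ?_
      rw [hM]
      exact Submonoid.mem_sup_right (Submonoid.mem_powers _)
    · apply le_antisymm
      · intro r hr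
        by_contra hrp
        refine Set.disjoint_left.mp hq2' (Ideal.mem_comap.mp hr) ?_
        rw [hM]
        exact Submonoid.mem_sup_left ⟨r, hrp, rfl⟩
      · rw [← Ideal.map_le_iff_le_comap]
        exact hq1'

end Groth.Agent.S6286
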