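import Groth.Statements.S6289
-- import your own Groth.Agent.* helpers here

set_option autoImplicit false
universe u
open CAlg

namespace Groth.Agent.S6289

theorem aux (A' : Type u) [CommRing A'] [IsDomain A'] [ValuationRing A']
    (A : ValuationSubring (IsLocalRing.ResidueField A')) (a b t : A') (ht : a * t = b) :
    ∃ c : A', IsLocalRing.residue A' c ∈ A ∧ (a * c = b ∨ b * c = a) := by
  by_cases htC : IsLocalRing.residue A' t ∈ A
  · exact ⟨t, htC, Or.inl ht⟩
  · have hne : IsLocalRing.residue A' t ≠ 0 := fun h0 => htC (h0 ▸ A.zero_mem)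
    have hu : IsUnit t := by
      by_contra hnu
      exact hne ((IsLocalRing.residue_eq_zero_iff t).mpr hnu)
    obtain ⟨u, rfl⟩ := hu
    have hinv : IsLocalRing.residue A' (↑u⁻¹ : A') ∈ A := by
      rcases A.mem_or_inv_mem (IsLocalRing.residue A' ↑u) with h | h
      · exact absurd h htC
      · have e : IsLocalRing.residue A' (↑u⁻¹ : A') = (IsLocalRing.residue A' ↑u)⁻¹ := by
          apply eq_inv_of_mul_eq_one_left
          rw [← map_mul, Units.inv_mul, map_one]
        rwa [e]
    refine ⟨↑u⁻¹, hinv, Or.inr ?_⟩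
    rw [← ht, mul_assoc, Units.mul_inv, mul_one]

/-- Let A' be a valuation ring with residue field K and A ⊆ K a valuation ring with fraction field K.
Then the subring C of A' consisting of the elements whose residue class lies in A is a valuation
ring. -/
theorem result (A' : Type u) [CommRing A'] [IsDomain A'] [ValuationRing A'] (A : ValuationSubring (IsLocalRing.ResidueField A')) : ValuationRing (A.toSubring.comap (IsLocalRing.residue A')) := by
  refine @ValuationRing.mk _ _ _ ⟨?_⟩
  rintro ⟨a, ha⟩ ⟨b, hb⟩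
  obtain ⟨t, ht | ht⟩ := ValuationRing.cond a b
  · obtain ⟨c, hc, h | h⟩ := aux A' A a b t ht
    · exact ⟨⟨c, hc⟩, Or.inl (Subtype.ext h)⟩
    · exact ⟨⟨c, hc⟩, Or.inr (Subtype.ext h)⟩
  · obtain ⟨c, hc, h | h⟩ := aux A' A b a t ht
    · exact ⟨⟨c, hc⟩, Or.inr (Subtype.ext h)⟩
    · exact ⟨⟨c, hc⟩, Or.inl (Subtype.ext h)⟩

end Groth.Agent.S6289
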