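import Groth.Statements.S6291
import Mathlib.RingTheory.SimpleModule.Basic
import Mathlib.RingTheory.Ideal.Operations
import Mathlib.RingTheory.LocalRing.MaximalIdeal.Basic

set_option autoImplicit false
universe u
open CAlg

namespace Groth.Agent.S6291

/-- Let R be a local ring with maximal ideal m and M an R-module of finite length. Then mⁿM = 0 for some
n. -/
theorem result {R : Type u} [CommRing R] [IsLocalRing R] (M : Type u) [AddCommGroup M] [Module R M] (hM : IsFiniteLength R M) : ∃ n : ℕ, (IsLocalRing.maximalIdeal R) ^ n • (⊤ : Submodule R M) = ⊥ := by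
  induction hM with
  | of_subsingleton => exact ⟨0, Subsingleton.elim _ _⟩
  | @of_simple_quotient M _ _ N hS _ ih =>
    obtain ⟨n, hn⟩ := ih
    refine ⟨n + 1, ?_⟩
    have h1 : IsLocalRing.maximalIdeal R • (⊤ : Submodule R M) ≤ N := by
      obtain ⟨m, hm, ⟨e⟩⟩ := isSimpleModule_iff_quot_maximal.mp hS
      rw [IsLocalRing.eq_maximalIdeal hm] at e
      rw [Submodule.smul_le]
      intro r hr x _
      have h2 : e (r • N.mkQ x) = 0 := by
        rw [map_smul]
        obtain ⟨y, hy⟩ := Ideal.Quotient.mk_surjective (e (N.mkQ x))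
        rw [← hy, ← Ideal.Quotient.mk_eq_mk, ← Submodule.Quotient.mk_smul,
          Submodule.Quotient.mk_eq_zero, smul_eq_mul]
        exact Ideal.mul_mem_right _ _ hr
      have h3 : r • N.mkQ x = 0 := e.injective (by rw [h2, map_zero])
      rw [← map_smul, Submodule.mkQ_apply, Submodule.Quotient.mk_eq_zero] at h3
      exact h3
    have h2 : IsLocalRing.maximalIdeal R ^ n • N = ⊥ := by
      have := congrArg (Submodule.map N.subtype) hn
      rwa [Submodule.map_smul'', Submodule.map_subtype_top, Submodule.map_bot] at this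
    rw [eq_bot_iff, pow_succ, mul_smul, ← h2]
    exact Submodule.smul_mono le_rfl h1

end Groth.Agent.S6291
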