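import Groth.Statements.S6292
import Mathlib.Algebra.Module.Torsion.Basic
import Mathlib.RingTheory.Finiteness.Ideal
import Mathlib.RingTheory.Ideal.Quotient.Basic

set_option autoImplicit false
universe u
open CAlg

namespace Groth.Agent.S6292

theorem killed {R : Type u} [CommRing R] (m : Ideal R) [m.IsMaximal] (Q : Type u)
    [AddCommGroup Q] [Module R Q] [Module.Finite R Q]
    (hQ : m • (⊤ : Submodule R Q) = ⊥) : IsFiniteLength R Q := by
  have hT : Module.IsTorsionBySet R Q m := by
    intro x a
    have : (a : R) • x ∈ m • (⊤ : Submodule R Q) := Submodule.smul_mem_smul a.2 trivial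
    rwa [hQ, Submodule.mem_bot] at this
  letI := Ideal.Quotient.field m
  letI := hT.module
  have h1 : IsSemisimpleModule (R ⧸ m) Q := inferInstance
  have h2 : IsSemisimpleModule R Q := hT.isSemisimpleModule_iff.mp h1
  exact (IsSemisimpleModule.finite_tfae.out 0 3).mp ‹Module.Finite R Q›

theorem ext_len {R : Type u} [CommRing R] (M : Type u) [AddCommGroup M] [Module R M]
    (N : Submodule R M) (h1 : IsFiniteLength R N) (h2 : IsFiniteLength R (M ⧸ N)) :
    IsFiniteLength R M := by
  rw [isFiniteLength_iff_isNoetherian_isArtinian] at h1 h2 ⊢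
  exact ⟨(isNoetherian_iff_submodule_quotient N).mpr ⟨h1.1, h2.1⟩,
    (isArtinian_iff_submodule_quotient N).mpr ⟨h1.2, h2.2⟩⟩

/-- Let R be a ring and m ⊆ R a finitely generated maximal ideal (for instance R Noetherian). If M is a
finite R-module with mⁿM = 0 for some n, then M has finite length. -/
theorem result {R : Type u} [CommRing R] (m : Ideal R) [m.IsMaximal] (hm : m.FG) (M : Type u) [AddCommGroup M] [Module R M] [Module.Finite R M] (n : ℕ) (hn : m ^ n • (⊤ : Submodule R M) = ⊥) : IsFiniteLength R M := by
  induction n generalizing M with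
  | zero =>
    rw [pow_zero, Ideal.one_eq_top, Submodule.top_smul] at hn
    have : Subsingleton M := by
      rw [← Submodule.subsingleton_iff R]
      exact subsingleton_of_top_le_bot hn.le
    exact .of_subsingleton
  | succ n ih =>
    have hNfg : Module.Finite R ↥(m • (⊤ : Submodule R M)) :=
      Module.Finite.iff_fg.mpr (Submodule.FG.smul hm Module.Finite.fg_top)
    have hN : m ^ n • (⊤ : Submodule R ↥(m • (⊤ : Submodule R M))) = ⊥ := by
      apply Submodule.map_injective_of_injective (m • (⊤ : Submodule R M)).injective_subtype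
      rw [Submodule.map_smul'', Submodule.map_subtype_top, Submodule.map_bot, ← mul_smul,
        ← pow_succ, hn]
    have hQ : m • (⊤ : Submodule R (M ⧸ m • (⊤ : Submodule R M))) = ⊥ := by
      rw [← Submodule.range_mkQ, ← Submodule.map_top, ← Submodule.map_smul'',
        Submodule.mkQ_map_self]
    exact ext_len M _ (ih _ hN) (killed m _ hQ)

end Groth.Agent.S6292
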