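import Groth.Statements.S6294
import Mathlib.RingTheory.Ideal.Operations
import Mathlib.RingTheory.Ideal.Maximal
import Mathlib.Algebra.Group.Pi.Units

set_option autoImplicit false
universe u
open CAlg

namespace Groth.Agent.S6294

theorem exists_mul_eq_zero {R : Type u} [CommRing R] {p q : Ideal R} (hp : p ∈ minimalPrimes R)
    (hq : q ∈ minimalPrimes R) (hne : p ≠ q) : ∃ a ∉ p, ∃ b ∉ q, a * b = 0 := by
  by_contra hcon
  push Not at hcon
  haveI hp' : p.IsPrime := hp.1.1
  haveI hq' : q.IsPrime := hq.1.1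
  let T : Submonoid R := p.primeCompl ⊔ q.primeCompl
  have hT : Disjoint ((⊥ : Ideal R) : Set R) (T : Set R) := by
    rw [Set.disjoint_left]
    intro x hx hxT
    have hx0 : x = 0 := hx
    subst hx0
    obtain ⟨a, ha, b, hb, hab⟩ := Submonoid.mem_sup.mp hxT
    exact hcon a ha b hb hab
  obtain ⟨P, hP, -, hdisj⟩ := Ideal.exists_le_prime_disjoint ⊥ T hT
  have hPp : P ≤ p := by
    intro x hx
    by_contra hxp
    exact Set.disjoint_left.mp hdisj hx (Submonoid.mem_sup_left (show x ∈ p.primeCompl from hxp))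
  have hPq : P ≤ q := by
    intro x hx
    by_contra hxq
    exact Set.disjoint_left.mp hdisj hx (Submonoid.mem_sup_right (show x ∈ q.primeCompl from hxq))
  have h1 : p ≤ P := hp.2 ⟨hP, bot_le⟩ hPp
  have h2 : q ≤ P := hq.2 ⟨hP, bot_le⟩ hPq
  exact hne (le_antisymm (h1.trans hPq) (h2.trans hPp))

/-- Let R be a ring with finitely many minimal primes q₁, …, q_t, and assume that the zerodivisors of R
are precisely the elements of q₁ ∪ … ∪ q_t. Then Q(R), the total ring of fractions of R, equals
R_{q₁} × … × R_{q_t}: the diagonal map R → ∏ R_{q_i} is a localization of R at its non-zerodivisors. -/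
theorem result {R : Type u} [CommRing R] {ι : Type} [Fintype ι] (q : ι → Ideal R) [∀ i, (q i).IsPrime] (hinj : Function.Injective q) (hmin : ∀ P : Ideal R, P ∈ minimalPrimes R ↔ P ∈ Set.range q) (hzd : ∀ x : R, x ∈ nonZeroDivisors R ↔ ∀ i, x ∉ q i) : IsLocalization (nonZeroDivisors R) (∀ i, Localization.AtPrime (q i)) := by
  classical
  have hminq : ∀ i, q i ∈ minimalPrimes R := fun i => (hmin _).mpr ⟨i, rfl⟩
  -- elements u i
  have hab : ∀ i j, i ≠ j → ∃ a ∉ q i, ∃ b ∉ q j, a * b = 0 := fun i j hij =>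
    exists_mul_eq_zero (hminq i) (hminq j) (fun h => hij (hinj h))
  have hab' : ∀ i j, ∃ a ∉ q i, (i ≠ j → ∃ b ∉ q j, a * b = 0) := by
    intro i j
    by_cases hij : i = j
    · exact ⟨1, fun h1 => (inferInstance : (q i).IsPrime).ne_top ((Ideal.eq_top_iff_one _).mpr h1),
        fun hn => absurd hij hn⟩
    · obtain ⟨a, ha, b, hb, hab⟩ := hab i j hij
      exact ⟨a, ha, fun _ => ⟨b, hb, hab⟩⟩
  choose a ha hb using hab'
  let u : ι → R := fun i => ∏ j, a i j
  have hu : ∀ i, u i ∉ q i := by
    intro i hmem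
    obtain ⟨j, -, hj⟩ := Ideal.IsPrime.prod_mem_iff.mp hmem
    exact ha i j hj
  have hu0 : ∀ i j, i ≠ j → algebraMap R (Localization.AtPrime (q j)) (u i) = 0 := by
    intro i j hij
    obtain ⟨b, hbq, hb0⟩ := hb i j hij
    rw [IsLocalization.map_eq_zero_iff (q j).primeCompl]
    refine ⟨⟨b, hbq⟩, ?_⟩
    change b * ∏ j, a i j = 0
    rw [← Finset.mul_prod_erase Finset.univ (a i) (Finset.mem_univ j), ← mul_assoc, mul_comm b,
      hb0, zero_mul]
  have hsum : ∀ (c : ι → R) (j : ι), algebraMap R (Localization.AtPrime (q j)) (∑ i, u i * c i) =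
      algebraMap R (Localization.AtPrime (q j)) (u j * c j) := by
    intro c j
    rw [map_sum, Finset.sum_eq_single j]
    · intro i _ hij
      rw [map_mul, hu0 i j hij, zero_mul]
    · intro h
      exact absurd (Finset.mem_univ j) h
  refine ⟨?_, ?_, ?_⟩
  · -- map_units
    rintro ⟨s, hs⟩
    rw [Pi.isUnit_iff]
    intro i
    rw [Pi.algebraMap_apply, IsLocalization.AtPrime.isUnit_to_map_iff _ (q i)]
    exact (hzd s).mp hs i
  · -- surj
    intro z
    have hz : ∀ i, ∃ (r : R) (s : R), s ∉ q i ∧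
        z i * algebraMap R (Localization.AtPrime (q i)) s =
          algebraMap R (Localization.AtPrime (q i)) r := by
      intro i
      obtain ⟨⟨r, s⟩, h⟩ := IsLocalization.surj (q i).primeCompl (z i)
      exact ⟨r, s, s.2, h⟩
    choose r s hs hrs using hz
    have hS : (∑ i, u i * s i) ∈ nonZeroDivisors R := by
      rw [hzd]
      intro j hmem
      have h1 := (IsLocalization.AtPrime.to_map_mem_maximal_iff
        (Localization.AtPrime (q j)) (q j) _).mpr hmem
      rw [hsum] at h1
      have h2 := (IsLocalization.AtPrime.to_map_mem_maximal_iff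
        (Localization.AtPrime (q j)) (q j) _).mp h1
      rcases (inferInstance : (q j).IsPrime).mem_or_mem h2 with h | h
      · exact hu j h
      · exact hs j h
    refine ⟨⟨∑ i, u i * r i, ⟨∑ i, u i * s i, hS⟩⟩, ?_⟩
    funext j
    simp only [Pi.mul_apply, Pi.algebraMap_apply]
    rw [hsum, hsum, map_mul, map_mul, ← hrs j]
    ring
  · -- exists_of_eq
    intro x y hxy
    have hd : ∀ i, ∃ t : R, t ∉ q i ∧ t * (x - y) = 0 := by
      intro i
      have := congrFun hxy i
      rw [Pi.algebraMap_apply, Pi.algebraMap_apply, ← sub_eq_zero, ← map_sub,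
        IsLocalization.map_eq_zero_iff (q i).primeCompl] at this
      obtain ⟨t, ht⟩ := this
      exact ⟨t, t.2, ht⟩
    choose t ht ht0 using hd
    have hc : (∑ i, u i * t i) ∈ nonZeroDivisors R := by
      rw [hzd]
      intro j hmem
      have h1 := (IsLocalization.AtPrime.to_map_mem_maximal_iff
        (Localization.AtPrime (q j)) (q j) _).mpr hmem
      rw [hsum] at h1
      have h2 := (IsLocalization.AtPrime.to_map_mem_maximal_iff
        (Localization.AtPrime (q j)) (q j) _).mp h1
      rcases (inferInstance : (q j).IsPrime).mem_or_mem h2 with h | h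
      · exact hu j h
      · exact ht j h
    refine ⟨⟨∑ i, u i * t i, hc⟩, ?_⟩
    rw [← sub_eq_zero, ← mul_sub]
    change (∑ i, u i * t i) * (x - y) = 0
    rw [Finset.sum_mul]
    apply Finset.sum_eq_zero
    intro i _
    rw [mul_assoc, ht0, mul_zero]

end Groth.Agent.S6294
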