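import Groth.Statements.S6297
-- import your own Groth.Agent.* helpers here
import Groth.Agent.Lib.Helper25.CauchyBinet

set_option autoImplicit false
universe u
open CAlg

namespace Groth.Agent.S6297

/-- Let R be a ring, m ≤ n, A an n × m matrix over R and J the ideal generated by the m × m minors of A.
(1) For every f ∈ J there is an m × n matrix B with BA = f · 1. (2) If BA = f · 1 for some m × n
matrix B, then f^m ∈ J. -/
theorem result {R : Type u} [CommRing R] {n m : ℕ} (hmn : m ≤ n) (A : Matrix (Fin n) (Fin m) R) : (∀ f ∈ CAlgX.minorIdeal A m, ∃ B : Matrix (Fin m) (Fin n) R, B * A = f • (1 : Matrix (Fin m) (Fin m) R)) ∧ (∀ (f : R) (B : Matrix (Fin m) (Fin n) R), B * A = f • (1 : Matrix (Fin m) (Fin m) R) → f ^ m ∈ CAlgX.minorIdeal A m) := by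
  constructor
  · intro f hf
    unfold CAlgX.minorIdeal at hf
    refine Submodule.span_induction ?_ ?_ ?_ ?_ hf
    · rintro _ ⟨⟨φ, g⟩, rfl⟩
      by_cases hg : Function.Injective g
      · let σ : Equiv.Perm (Fin m) := Equiv.ofBijective g (Finite.injective_iff_bijective.1 hg)
        have h1 : A.submatrix φ g = (A.submatrix φ id).submatrix id σ := rfl
        refine ⟨((Equiv.Perm.sign σ : ℤ) : R) • ((A.submatrix φ id).adjugate *
          (1 : Matrix (Fin n) (Fin n) R).submatrix φ id), ?_⟩
        have h2 : (1 : Matrix (Fin n) (Fin n) R).submatrix φ id * A = A.submatrix φ id := by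
          ext i j
          simp [Matrix.mul_apply, Matrix.one_apply]
        show _ = (A.submatrix φ g).det • (1 : Matrix (Fin m) (Fin m) R)
        rw [Matrix.smul_mul, Matrix.mul_assoc, h2, Matrix.adjugate_mul, h1, Matrix.det_permute',
          smul_smul]
      · refine ⟨0, ?_⟩
        rw [Function.Injective] at hg
        push Not at hg
        obtain ⟨i, j, hij, hne⟩ := hg
        show _ = (A.submatrix φ g).det • (1 : Matrix (Fin m) (Fin m) R)
        rw [Matrix.zero_mul, Matrix.det_zero_of_column_eq hne (fun k => by simp [hij]), zero_smul]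
    · exact ⟨0, by rw [Matrix.zero_mul, zero_smul]⟩
    · rintro x y _ _ ⟨B, hB⟩ ⟨B', hB'⟩
      exact ⟨B + B', by rw [Matrix.add_mul, hB, hB', add_smul]⟩
    · rintro a x _ ⟨B, hB⟩
      exact ⟨a • B, by rw [Matrix.smul_mul, hB, smul_smul, smul_eq_mul]⟩
  · intro f B hB
    have h1 : f ^ m = (B * A).det := by
      rw [hB, Matrix.det_smul, Matrix.det_one, mul_one, Fintype.card_fin]
    rw [h1, Groth.Agent.Lib.Helper25.CauchyBinet.det_mul_eq_sum]
    refine Ideal.sum_mem _ fun φ _ => Ideal.mul_mem_left _ _ (Ideal.subset_span ?_)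
    exact ⟨(φ, id), rfl⟩

end Groth.Agent.S6297
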