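import Groth.Statements.S6298
import Mathlib.RingTheory.Ideal.Operations

set_option autoImplicit false
universe u
open CAlg

namespace Groth.Agent.S6298

/-- Let R be a ring, x ∈ R, I ⊆ R an ideal and p₁, …, p_r prime ideals such that for each i the coset x
+ I is not contained in p_i. Then there is y ∈ I with x + y ∉ p_i for all i. -/
theorem result {R : Type u} [CommRing R] (x : R) (I : Ideal R) {r : ℕ} (p : Fin r → Ideal R) [∀ i, (p i).IsPrime] (h : ∀ i, ∃ y ∈ I, x + y ∉ p i) : ∃ y ∈ I, ∀ i, x + y ∉ p i := by
  classical
  induction r with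
  | zero => exact ⟨0, I.zero_mem, fun i => i.elim0⟩
  | succ r ih =>
    obtain ⟨y₀, hy₀I, hy₀⟩ := ih (fun i => p i.castSucc) (fun i => h i.castSucc)
    set pl := p (Fin.last r) with hpl
    by_cases hlast : x + y₀ ∈ pl
    · obtain ⟨y₁, hy₁I, hy₁⟩ := h (Fin.last r)
      have hzI : y₁ - y₀ ∈ I := I.sub_mem hy₁I hy₀I
      have hz : y₁ - y₀ ∉ pl := by
        intro hmem
        apply hy₁
        have : x + y₁ = (x + y₀) + (y₁ - y₀) := by ring
        rw [this]
        exact pl.add_mem hlast hmem
      have hw : ∀ i : Fin r, ∃ w : R, w ∉ pl ∧ (¬ p i.castSucc ≤ pl → w ∈ p i.castSucc) := by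
        intro i
        by_cases hle : p i.castSucc ≤ pl
        · exact ⟨1, fun h1 => (inferInstance : pl.IsPrime).ne_top ((Ideal.eq_top_iff_one _).mpr h1),
            fun hn => absurd hle hn⟩
        · obtain ⟨w, hw1, hw2⟩ := Set.not_subset.mp hle
          exact ⟨w, hw2, fun _ => hw1⟩
      choose w hw1 hw2 using hw
      set y := (y₁ - y₀) * ∏ i, w i with hy
      have hyI : y ∈ I := I.mul_mem_right _ hzI
      have hypl : y ∉ pl := by
        intro hmem
        rcases (inferInstance : pl.IsPrime).mem_or_mem hmem with h1 | h1
        · exact hz h1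
        · obtain ⟨i, -, hi⟩ := Ideal.IsPrime.prod_mem_iff.mp h1
          exact hw1 i hi
      have hxy : x + y₀ + y ∉ pl := by
        intro hmem
        apply hypl
        have : y = (x + y₀ + y) - (x + y₀) := by ring
        rw [this]
        exact pl.sub_mem hmem hlast
      refine ⟨y₀ + y, I.add_mem hy₀I hyI, ?_⟩
      intro i
      rw [← add_assoc]
      induction i using Fin.lastCases with
      | last => exact hxy
      | cast j =>
        by_cases hle : p j.castSucc ≤ pl
        · exact fun hmem => hxy (hle hmem)
        · have hyj : y ∈ p j.castSucc := by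
            apply Ideal.mul_mem_left
            exact Ideal.mem_of_dvd _ (Finset.dvd_prod_of_mem w (Finset.mem_univ j)) (hw2 j hle)
          intro hmem
          apply hy₀ j
          have : x + y₀ = (x + y₀ + y) - y := by ring
          rw [this]
          exact (p j.castSucc).sub_mem hmem hyj
    · refine ⟨y₀, hy₀I, ?_⟩
      intro i
      induction i using Fin.lastCases with
      | last => exact hlast
      | cast j => exact hy₀ j

end Groth.Agent.S6298
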