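import Groth.Statements.S6300
-- import your own Groth.Agent.* helpers here
import Groth.Agent.Lib.Helper26.NormalPoly

set_option autoImplicit false
universe u
open CAlg

namespace Groth.Agent.S6300

/-- Let R be a normal ring (every localization at a prime is an integrally closed domain). Then R[x] is
a normal ring. -/
theorem result (R : Type u) [CommRing R] (hR : EGA4.IsNormalRing R) : EGA4.IsNormalRing (Polynomial R) := by
  exact Groth.Agent.Lib.Helper26.NormalPoly.main R hR

end Groth.Agent.S6300
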