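import Groth.Statements.S6301
import Mathlib.RingTheory.Flat.EquationalCriterion

set_option autoImplicit false
universe u
open CAlg

namespace Groth.Agent.S6301

/-- An R-module M is flat exactly when, for every finitely presented R-module P and every surjective
R-module map N → M, the induced map Hom_R(P, N) → Hom_R(P, M) is surjective (modules P, N taken in
the same universe). -/
theorem result {R : Type u} [CommRing R] (M : Type u) [AddCommGroup M] [Module R M] : Module.Flat R M ↔ ∀ (P : Type u) [AddCommGroup P] [Module R P], Module.FinitePresentation R P → ∀ (N : Type u) [AddCommGroup N] [Module R N] (g : N →ₗ[R] M), Function.Surjective g → ∀ h : P →ₗ[R] M, ∃ h' : P →ₗ[R] N, g.comp h' = h := by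
  constructor
  · intro hflat P _ _ hP N _ _ g hg h
    obtain ⟨k, h₂, h₃, rfl⟩ := Module.Flat.exists_factorization_of_finitePresentation h
    obtain ⟨y', hy'⟩ := Module.projective_lifting_property g h₃ hg
    exact ⟨y' ∘ₗ h₂, by rw [← LinearMap.comp_assoc, hy']⟩
  · intro H
    classical
    apply Module.Flat.of_forall_isTrivialRelation
    intro l f x hfx
    -- the f.p. module P
    let F := Fin l → R
    let x' : F →ₗ[R] M := Fintype.linearCombination R x
    have hx'f : x' f = 0 := by
      change Fintype.linearCombination R x f = 0
      rw [Fintype.linearCombination_apply]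
      exact hfx
    let K : Submodule R F := Submodule.span R {f}
    have hK : K ≤ LinearMap.ker x' := by
      rw [Submodule.span_le, Set.singleton_subset_iff]
      exact hx'f
    have hP : Module.FinitePresentation R (F ⧸ K) := by
      apply Module.finitePresentation_of_surjective K.mkQ K.mkQ_surjective
      rw [Submodule.ker_mkQ]
      exact Submodule.fg_span_singleton f
    let h : (F ⧸ K) →ₗ[R] M := K.liftQ x' hK
    let g : (M →₀ R) →ₗ[R] M := Finsupp.linearCombination R id
    have hg : Function.Surjective g :=
      Finsupp.linearCombination_surjective _ Function.surjective_id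
    obtain ⟨h', hh'⟩ := H (F ⧸ K) hP (M →₀ R) g hg h
    let n : Fin l → (M →₀ R) := fun i => h' (K.mkQ (Pi.single i 1))
    have hgn : ∀ i, g (n i) = x i := by
      intro i
      have : g (h' (K.mkQ (Pi.single i 1))) = h (K.mkQ (Pi.single i 1)) := by
        rw [← hh']; rfl
      rw [show g (n i) = g (h' (K.mkQ (Pi.single i 1))) from rfl, this]
      change Fintype.linearCombination R x (Pi.single i 1) = x i
      rw [Fintype.linearCombination_apply]
      simp [Pi.single_apply]
    have hfn : ∑ i, f i • n i = 0 := by
      have : ∑ i, f i • n i = h' (K.mkQ (∑ i, f i • Pi.single i (1 : R))) := by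
        simp only [n, map_sum, map_smul]
      rw [this]
      have hsum : ∑ i, f i • Pi.single i (1 : R) = f := by
        ext j
        simp [Finset.sum_apply, Pi.single_apply]
      rw [hsum]
      have : K.mkQ f = 0 := by
        rw [Submodule.mkQ_apply, Submodule.Quotient.mk_eq_zero]
        exact Submodule.mem_span_singleton_self f
      rw [this, map_zero]
    let S : Finset M := Finset.univ.biUnion (fun i => (n i).support)
    have hS : ∀ i, (n i).support ⊆ S := fun i =>
      Finset.subset_biUnion_of_mem (fun i => (n i).support) (Finset.mem_univ i)
    let e : Fin S.card ≃ S := S.equivFin.symm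
    refine ⟨S.card, fun i j => n i (e j), fun j => (e j : M), ?_, ?_⟩
    · intro i
      rw [← hgn i]
      change Finsupp.linearCombination R id (n i) = _
      rw [Finsupp.linearCombination_apply, Finsupp.sum_of_support_subset _ (hS i) _ (by simp),
        ← Finset.sum_coe_sort S, ← Equiv.sum_comp e]
      simp
    · intro j
      have := congrArg (fun v : M →₀ R => v (e j)) hfn
      simpa [Finsupp.finsetSum_apply] using this

end Groth.Agent.S6301
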