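import Groth.Statements.S6303
-- import your own Groth.Agent.* helpers here

set_option autoImplicit false
universe u
open CAlg

namespace Groth.Agent.S6303

open TensorProduct in
theorem aux {R : Type u} [CommRing R] (I J : Ideal R) (M : Type u) [AddCommGroup M] [Module R M] [Module.Flat R M] : (I • (⊤ : Submodule R M)) ⊓ (J • ⊤) = (I ⊓ J) • (⊤ : Submodule R M) := by
  apply le_antisymm
  · rintro m ⟨hmI, hmJ⟩
    -- the map I ⊗ M → M
    let ψ : ∀ (K : Ideal R), (K ⊗[R] M) →ₗ[R] M := fun K =>
      (TensorProduct.lid R M).toLinearMap ∘ₗ (K.subtype.rTensor M)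
    have hψ : ∀ (K : Ideal R) (w : K ⊗[R] M), ψ K w ∈ K • (⊤ : Submodule R M) := by
      intro K w
      induction w using TensorProduct.induction_on with
      | zero => simp
      | tmul c m' =>
        simp only [ψ, LinearMap.coe_comp, LinearEquiv.coe_coe, Function.comp_apply,
          LinearMap.rTensor_tmul, Submodule.subtype_apply, TensorProduct.lid_tmul]
        exact Submodule.smul_mem_smul c.2 trivial
      | add x y hx hy => rw [map_add]; exact add_mem hx hy
    -- Step 1
    have h1 : ∃ z : I ⊗[R] M, ψ I z = m := by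
      refine Submodule.smul_induction_on hmI ?_ ?_
      · intro a ha m' _
        exact ⟨(⟨a, ha⟩ : I) ⊗ₜ m', by simp [ψ]⟩
      · rintro x y ⟨zx, rfl⟩ ⟨zy, rfl⟩
        exact ⟨zx + zy, map_add _ _ _⟩
    obtain ⟨z, hz⟩ := h1
    let f : ↥(I ⊓ J) →ₗ[R] ↥I := Submodule.inclusion inf_le_left
    let g : ↥I →ₗ[R] R ⧸ J := (Submodule.mkQ J) ∘ₗ I.subtype
    have hfg : Function.Exact f g := by
      intro x
      constructor
      · intro hx
        have hxJ : (x : R) ∈ J := by
          have hx' : J.mkQ (x : R) = 0 := hx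
          rwa [Submodule.mkQ_apply, Submodule.Quotient.mk_eq_zero] at hx' 
        exact ⟨⟨x, x.2, hxJ⟩, rfl⟩
      · rintro ⟨y, rfl⟩
        simp only [g, f, LinearMap.coe_comp, Function.comp_apply, Submodule.subtype_apply,
          Submodule.coe_inclusion, Submodule.mkQ_apply, Submodule.Quotient.mk_eq_zero]
        exact y.2.2
    have hex := Module.Flat.rTensor_exact M hfg
    -- Step 2
    have h2 : (g.rTensor M) z = 0 := by
      have hsub : (I.subtype.rTensor M) z = (1 : R) ⊗ₜ m := by
        have : (TensorProduct.lid R M) ((I.subtype.rTensor M) z) = m := hz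
        rw [← this]
        exact ((TensorProduct.lid R M).symm_apply_apply _).symm
      have hcomp : g.rTensor M = ((Submodule.mkQ J).rTensor M) ∘ₗ (I.subtype.rTensor M) := by
        simp only [g, LinearMap.rTensor_comp]
      rw [hcomp, LinearMap.comp_apply, hsub, LinearMap.rTensor_tmul]
      refine Submodule.smul_induction_on hmJ ?_ ?_
      · intro b hb m' _
        rw [TensorProduct.tmul_smul, TensorProduct.smul_tmul']
        have : b • (J.mkQ 1) = 0 := by
          rw [← map_smul, smul_eq_mul, mul_one, Submodule.mkQ_apply, Submodule.Quotient.mk_eq_zero]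
          exact hb
        rw [this, TensorProduct.zero_tmul]
      · intro x y hx hy
        rw [TensorProduct.tmul_add, hx, hy, add_zero]
    -- Step 3
    obtain ⟨w, hw⟩ := (hex z).mp h2
    -- Step 4
    have h4 : ψ I ((f.rTensor M) w) = ψ (I ⊓ J) w := by
      simp only [ψ, LinearMap.coe_comp, LinearEquiv.coe_coe, Function.comp_apply]
      rw [← LinearMap.comp_apply, ← LinearMap.rTensor_comp]
      rfl
    rw [← hz, ← hw, h4]
    exact hψ _ w
  · exact le_inf (Submodule.smul_mono_left inf_le_left) (Submodule.smul_mono_left inf_le_right)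


/-- Let R be a ring, I, J ⊆ R ideals and M a flat R-module. Then IM ∩ JM = (I ∩ J)M. -/
theorem result {R : Type u} [CommRing R] (I J : Ideal R) (M : Type u) [AddCommGroup M] [Module R M] [Module.Flat R M] : (I • (⊤ : Submodule R M)) ⊓ (J • ⊤) = (I ⊓ J) • (⊤ : Submodule R M) :=
  aux I J M

end Groth.Agent.S6303
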