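import Groth.Statements.S6305
import Mathlib.RingTheory.Flat.Equalizer
import Mathlib.RingTheory.LocalRing.Module
import Mathlib.RingTheory.Flat.Basic

set_option autoImplicit false
universe u
open CAlg

namespace Groth.Agent.S6305

theorem flat_of {R : Type u} [CommRing R] (M : Type u) [AddCommGroup M] [Module R M]
    (K F : Type u) [AddCommGroup K] [Module R K] [AddCommGroup F] [Module R F] [Module.Flat R F]
    (i : K →ₗ[R] F) (π : F →ₗ[R] M) (hex : Function.Exact i π) (hπ : Function.Surjective π)
    (hUI : CAlgX.UniversallyInjective R i) : Module.Flat R M := by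
  rw [Module.Flat.iff_lTensor_preserves_injective_linearMap'.{u, u, u}]
  intro N N' _ _ _ _ g₁ hg₁
  exact lTensor_injective_of_exact_of_exact_of_rTensor_injective hex hπ
    (LinearMap.exact_map_mkQ_range g₁) (Submodule.mkQ_surjective _)
    (hUI (N' ⧸ LinearMap.range g₁))
    (Module.Flat.lTensor_preserves_injective_linearMap g₁ hg₁)

/-- An R-module M is flat exactly when every short exact sequence 0 → M₁ → M₂ → M → 0 of R-modules is
universally exact, i.e. its first map M₁ → M₂ is universally injective. -/
theorem result {R : Type u} [CommRing R] (M : Type u) [AddCommGroup M] [Module R M] : Module.Flat R M ↔ ∀ (M₁ M₂ : Type u) [AddCommGroup M₁] [Module R M₁] [AddCommGroup M₂] [Module R M₂] (f : M₁ →ₗ[R] M₂) (g : M₂ →ₗ[R] M), Function.Injective f → Function.Exact f g → Function.Surjective g → CAlgX.UniversallyInjective R f := by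
  constructor
  · intro hflat M₁ M₂ _ _ _ _ f g hf hfg hg Q _ _
    rw [← LinearMap.lTensor_inj_iff_rTensor_inj]
    exact LinearMap.lTensor_injective_of_exact_of_flat g hg f hf hfg Q
  · intro h
    let π : (M →₀ R) →ₗ[R] M := Finsupp.linearCombination R (id : M → M)
    have hπ : Function.Surjective π :=
      Finsupp.linearCombination_surjective _ Function.surjective_id
    have hex : Function.Exact (LinearMap.ker π).subtype π := LinearMap.exact_subtype_ker_map π
    have hUI := h (LinearMap.ker π) (M →₀ R) (LinearMap.ker π).subtype π
      (Submodule.subtype_injective _) hex hπ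
    exact flat_of M (LinearMap.ker π) (M →₀ R) (LinearMap.ker π).subtype π hex hπ hUI

end Groth.Agent.S6305
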