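import Groth.Statements.S6306
import Mathlib.RingTheory.Localization.Ideal
import Mathlib.RingTheory.Localization.FractionRing

set_option autoImplicit false
universe u
open CAlg

namespace Groth.Agent.S6306

/-- Let R be a nonzero ring such that every nonzero prime ideal of R contains a non-zerodivisor. Then R
is a domain. -/
theorem result (R : Type u) [CommRing R] [Nontrivial R] (h : ∀ p : Ideal R, p.IsPrime → p ≠ ⊥ → ∃ x ∈ p, x ∈ nonZeroDivisors R) : IsDomain R := by
  have hinj : Function.Injective (algebraMap R (FractionRing R)) :=
    IsLocalization.injective (FractionRing R) le_rfl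
  haveI : Nontrivial (FractionRing R) := hinj.nontrivial
  obtain ⟨m, hm⟩ := Ideal.exists_maximal (FractionRing R)
  have hmp : m.IsPrime := hm.isPrime
  obtain ⟨hp, hdisj⟩ := (IsLocalization.isPrime_iff_isPrime_disjoint (nonZeroDivisors R)
    (FractionRing R) m).mp hmp
  have hbot : m.under R = ⊥ := by
    by_contra hne
    obtain ⟨x, hx, hxS⟩ := h _ hp hne
    exact Set.disjoint_left.mp hdisj hxS hx
  rw [hbot] at hp
  exact IsDomain.of_bot_isPrime R

end Groth.Agent.S6306
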