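import Groth.Statements.S6308
import Mathlib.RingTheory.LocalRing.Module
import Mathlib.RingTheory.Support
import Mathlib.RingTheory.Spectrum.Prime.Module
import Mathlib.Algebra.Module.LocalizedModule.Submodule
import Mathlib.RingTheory.Localization.Module

set_option autoImplicit false
universe u
open scoped TensorProduct
open CAlg

namespace Groth.Agent.S6308

/-- Let R be a ring and φ : M → N a map of R-modules with N finite. For a prime p, the localization φ_p
: M_p → N_p is surjective if and only if φ ⊗ κ(p) : M ⊗ κ(p) → N ⊗ κ(p) is surjective; the set U of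
such primes is open in Spec(R); and for every f ∈ R with D(f) ⊆ U the map M_f → N_f is surjective. -/
theorem result {R : Type u} [CommRing R] {M N : Type u} [AddCommGroup M] [Module R M] [AddCommGroup N] [Module R N] [Module.Finite R N] (φ : M →ₗ[R] N) : (∀ p : PrimeSpectrum R, Function.Surjective (LocalizedModule.map p.asIdeal.primeCompl φ) ↔ Function.Surjective (φ.lTensor p.asIdeal.ResidueField)) ∧ IsOpen {p : PrimeSpectrum R | Function.Surjective (LocalizedModule.map p.asIdeal.primeCompl φ)} ∧ (∀ f : R, (↑(PrimeSpectrum.basicOpen f) : Set (PrimeSpectrum R)) ⊆ {p : PrimeSpectrum R | Function.Surjective (LocalizedModule.map p.asIdeal.primeCompl φ)} → Function.Surjective (LocalizedModule.map (Submonoid.powers f) φ)) := by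
  set C := N ⧸ LinearMap.range φ with hC
  have hloc : ∀ S : Submonoid R, Function.Surjective (LocalizedModule.map S φ) ↔
      Subsingleton (LocalizedModule S C) := fun S =>
    LinearMap.localizedMap_surjective_iff_subsingleton_localized_coker S φ
  have hset : {p : PrimeSpectrum R | Function.Surjective (LocalizedModule.map p.asIdeal.primeCompl φ)}
      = (Module.support R C)ᶜ := by
    ext p
    rw [Set.mem_setOf_eq, Set.mem_compl_iff, Module.notMem_support_iff, hloc]
  refine ⟨?_, ?_, ?_⟩
  · intro p
    rw [hloc, ← Module.notMem_support_iff,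
      Module.mem_support_iff_nontrivial_residueField_tensorProduct, not_nontrivial_iff_subsingleton]
    have hexact : Function.Exact (φ.lTensor p.asIdeal.ResidueField)
        ((LinearMap.range φ).mkQ.lTensor p.asIdeal.ResidueField) :=
      lTensor_exact _ (LinearMap.exact_map_mkQ_range φ) (Submodule.mkQ_surjective _)
    constructor
    · intro hsub y
      apply (hexact y).mp
      exact Subsingleton.elim _ _
    · intro hsurj
      refine ⟨fun a b => ?_⟩
      obtain ⟨a', rfl⟩ := LinearMap.lTensor_surjective p.asIdeal.ResidueField
        (Submodule.mkQ_surjective (LinearMap.range φ)) a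
      obtain ⟨b', rfl⟩ := LinearMap.lTensor_surjective p.asIdeal.ResidueField
        (Submodule.mkQ_surjective (LinearMap.range φ)) b
      obtain ⟨a'', rfl⟩ := hsurj a'
      obtain ⟨b'', rfl⟩ := hsurj b'
      rw [hexact.apply_apply_eq_zero, hexact.apply_apply_eq_zero]
  · rw [hset]
    exact (Module.isClosed_support (R := R) (M := C)).isOpen_compl
  · intro f hf
    rw [hset, Module.support_eq_zeroLocus, PrimeSpectrum.basicOpen_eq_zeroLocus_compl,
      Set.compl_subset_compl, ← PrimeSpectrum.zeroLocus_span {f},
      PrimeSpectrum.zeroLocus_subset_zeroLocus_iff, Ideal.span_le,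
      Set.singleton_subset_iff, SetLike.mem_coe] at hf
    obtain ⟨n, hn⟩ := hf
    rw [hloc, LocalizedModule.subsingleton_iff]
    intro m
    exact ⟨f ^ n, ⟨n, rfl⟩, Module.mem_annihilator.mp hn m⟩

end Groth.Agent.S6308
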