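import Groth.Statements.S6310
import Mathlib.Algebra.Module.LocalizedModule.Submodule
import Mathlib.LinearAlgebra.Matrix.Charpoly.LinearMap
import Mathlib.RingTheory.Finiteness.Basic

set_option autoImplicit false
universe u
open CAlg

namespace Groth.Agent.S6310

/-- Let R be a ring, S ⊆ R a multiplicative subset, I ⊆ R an ideal and M a finite R-module. If x₁, …,
x_r ∈ M have images generating S⁻¹(M/IM) as an S⁻¹R-module, then there is f ∈ S + I (f = s + i with
s ∈ S, i ∈ I) such that x₁, …, x_r generate M_f as an R_f-module. -/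
theorem result {R : Type u} [CommRing R] (S : Submonoid R) (I : Ideal R) (M : Type u) [AddCommGroup M] [Module R M] [Module.Finite R M] {r : ℕ} (x : Fin r → M) (hx : Submodule.span (Localization S) (Set.range fun j => LocalizedModule.mkLinearMap S (M ⧸ (I • (⊤ : Submodule R M))) (Submodule.Quotient.mk (x j))) = ⊤) : ∃ (s : R) (i : R), s ∈ S ∧ i ∈ I ∧ Submodule.span (Localization.Away (s + i)) (Set.range fun j => LocalizedModule.mkLinearMap (Submonoid.powers (s + i)) M (x j)) = ⊤ := by
  classical
  set N : Submodule R M := Submodule.span R (Set.range x) with hN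
  set IM : Submodule R M := I • (⊤ : Submodule R M) with hIM
  -- Step 1: every m has a multiple by an element of S in N ⊔ IM
  have step1 : ∀ m : M, ∃ s ∈ S, s • m ∈ N ⊔ IM := by
    intro m
    set f := LocalizedModule.mkLinearMap S (M ⧸ IM) with hf
    have hrange : (Set.range fun j => f (Submodule.Quotient.mk (x j)))
        = f '' (Set.range fun j => (Submodule.Quotient.mk (x j) : M ⧸ IM)) := by
      ext y; constructor
      · rintro ⟨j, rfl⟩; exact ⟨_, ⟨j, rfl⟩, rfl⟩
      · rintro ⟨_, ⟨j, rfl⟩, rfl⟩; exact ⟨j, rfl⟩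
    rw [hrange, ← Submodule.localized'_span (Localization S) S f] at hx
    have hm : f (Submodule.Quotient.mk m) ∈
        (Submodule.span R (Set.range fun j => (Submodule.Quotient.mk (x j) : M ⧸ IM))).localized'
          (Localization S) S f := by
      rw [hx]; exact Submodule.mem_top
    obtain ⟨n, hn, t, ht⟩ := hm
    rw [IsLocalizedModule.mk'_eq_iff] at ht
    rw [Submonoid.smul_def, ← map_smul] at ht
    obtain ⟨c, hc⟩ := (IsLocalizedModule.eq_iff_exists S f).1 ht
    refine ⟨c * t, S.mul_mem c.2 t.2, ?_⟩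
    have h1 : (c : R) • n ∈ Submodule.span R (Set.range fun j => (Submodule.Quotient.mk (x j) : M ⧸ IM)) :=
      Submodule.smul_mem _ _ hn
    have h2 : (Submodule.Quotient.mk (((c : R) * (t : R)) • m) : M ⧸ IM) = (c : R) • n := by
      rw [mul_smul]
      exact hc.symm
    have h3 : Submodule.span R (Set.range fun j => (Submodule.Quotient.mk (x j) : M ⧸ IM))
        = N.map IM.mkQ := by
      rw [hN, Submodule.map_span, ← Set.range_comp]
      rfl
    rw [h3] at h1
    obtain ⟨n', hn', hn''⟩ := h1
    rw [← h2] at hn''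
    have h4 : n' - ((c : R) * (t : R)) • m ∈ IM := by
      rw [← Submodule.Quotient.mk_eq_zero, Submodule.Quotient.mk_sub, sub_eq_zero]
      exact hn''
    have : ((c : R) * (t : R)) • m = n' - (n' - ((c : R) * (t : R)) • m) := by abel
    rw [this]
    exact Submodule.sub_mem _ (Submodule.mem_sup_left hn') (Submodule.mem_sup_right h4)
  -- Step 2: a common s
  obtain ⟨G, hG⟩ := (Module.Finite.fg_top : (⊤ : Submodule R M).FG)
  choose sf hsf hsf' using step1
  set s : R := ∏ g ∈ G, sf g with hs
  have hsS : s ∈ S := Submonoid.prod_mem S (fun g _ => hsf g)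
  have step2 : ∀ m : M, s • m ∈ N ⊔ IM := by
    intro m
    have hm : m ∈ Submodule.span R (G : Set M) := by rw [hG]; exact Submodule.mem_top
    refine Submodule.span_induction ?_ ?_ ?_ ?_ hm
    · intro g hg
      have hg' : g ∈ G := hg
      rw [hs, ← Finset.mul_prod_erase G sf hg', mul_comm, mul_smul]
      exact Submodule.smul_mem _ _ (hsf' g)
    · rw [smul_zero]; exact zero_mem _
    · intro a b _ _ ha hb; rw [smul_add]; exact add_mem ha hb
    · intro r a _ ha; rw [smul_comm]; exact Submodule.smul_mem _ _ ha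
  -- Step 3: Cayley-Hamilton on Q = M ⧸ N
  have hrangeQ : LinearMap.range (algebraMap R (Module.End R (M ⧸ N)) s) ≤ I • (⊤ : Submodule R (M ⧸ N)) := by
    rintro _ ⟨q, rfl⟩
    obtain ⟨m, rfl⟩ := Submodule.Quotient.mk_surjective N q
    have hsm := step2 m
    obtain ⟨n, hn, y, hy, hny⟩ := Submodule.mem_sup.1 hsm
    have e1 : (algebraMap R (Module.End R (M ⧸ N)) s) (Submodule.Quotient.mk m)
        = Submodule.Quotient.mk y := by
      rw [Module.algebraMap_end_apply, ← Submodule.Quotient.mk_smul, ← hny, Submodule.Quotient.mk_add,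
        (Submodule.Quotient.mk_eq_zero N).2 hn, zero_add]
    rw [e1]
    have : (I • (⊤ : Submodule R (M ⧸ N))) = (I • (⊤ : Submodule R M)).map N.mkQ := by
      rw [Submodule.map_smul'', Submodule.map_top, Submodule.range_mkQ]
    rw [this]
    exact ⟨y, hy, rfl⟩
  obtain ⟨p, hpm, -, hpc, hp0⟩ :=
    LinearMap.exists_monic_and_natDegree_eq_and_coeff_mem_pow_and_aeval_eq_zero R
      (algebraMap R (Module.End R (M ⧸ N)) s) I hrangeQ
  rw [Polynomial.aeval_algebraMap_apply_eq_algebraMap_eval] at hp0
  set f₀ : R := Polynomial.eval s p with hf₀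
  have hkill : ∀ m : M, f₀ • m ∈ N := by
    intro m
    have := LinearMap.congr_fun hp0 (Submodule.Quotient.mk m)
    rw [Module.algebraMap_end_apply, LinearMap.zero_apply, ← Submodule.Quotient.mk_smul,
      Submodule.Quotient.mk_eq_zero] at this
    exact this
  have hi : f₀ - s ^ p.natDegree ∈ I := by
    rw [hf₀, Polynomial.eval_eq_sum_range, Finset.sum_range_succ, hpm.coeff_natDegree, one_mul,
      add_sub_cancel_right]
    refine sum_mem (fun k hk => ?_)
    have hk' : k < p.natDegree := Finset.mem_range.1 hk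
    refine Ideal.mul_mem_right _ _ ?_
    exact Ideal.pow_le_self (by omega) (hpc k)
  refine ⟨s ^ p.natDegree, f₀ - s ^ p.natDegree, S.pow_mem hsS _, hi, ?_⟩
  have hsum : s ^ p.natDegree + (f₀ - s ^ p.natDegree) = f₀ := by ring
  rw [hsum]
  set g := LocalizedModule.mkLinearMap (Submonoid.powers f₀) M with hg
  have hrange2 : (Set.range fun j => g (x j)) = g '' (Set.range x) := by
    ext y; constructor
    · rintro ⟨j, rfl⟩; exact ⟨_, ⟨j, rfl⟩, rfl⟩
    · rintro ⟨_, ⟨j, rfl⟩, rfl⟩; exact ⟨j, rfl⟩
  rw [hrange2, ← Submodule.localized'_span (Localization.Away f₀) (Submonoid.powers f₀) g, eq_top_iff,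
    ← Submodule.localized'_top (Localization.Away f₀) (Submonoid.powers f₀) g]
  refine Submodule.localized'_le_localized'_of_smul_le (Localization.Away f₀) (Submonoid.powers f₀) g
    ⟨f₀, Submonoid.mem_powers f₀⟩ ?_
  rintro _ ⟨m, -, rfl⟩
  exact hkill m

end Groth.Agent.S6310
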