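import Groth.Statements.S6319
import Mathlib.RingTheory.Length
import Mathlib.Algebra.Homology.ShortComplex.ModuleCat
import Mathlib.RingTheory.Artinian.Ring
import Mathlib.RingTheory.HopkinsLevitzki

set_option autoImplicit false
universe u
open CategoryTheory
open CAlg

namespace Groth.Agent.S6319

/-- Let R be an Artinian local ring. The length function defines a homomorphism of abelian groups
length_R : K'₀(R) → ℤ on the Grothendieck group of finite R-modules, sending the class of a finite
module M to its (finite) length. -/
theorem result (R : Type u) [CommRing R] [IsArtinianRing R] [IsLocalRing R] : ∃ φ : KZero.K0sub (fun M : ModuleCat.{u} R => Module.Finite R M) →+ ℤ, ∀ (M : ModuleCat.{u} R), Module.Finite R M → (φ (KZero.clSub (fun M : ModuleCat.{u} R => Module.Finite R M) M) : ℤ) = (Module.length R M).toNat := by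
  classical
  let P : ObjectProperty (ModuleCat.{u} R) := fun M => Module.Finite R M
  have hfin : ∀ M : ModuleCat.{u} R, Module.Finite R M → Module.length R M ≠ ⊤ := by
    intro M hM
    have : Module.Finite R M := hM
    have : IsNoetherian R M := isNoetherian_of_isNoetherianRing_of_finite R M
    have : IsArtinian R M := inferInstance
    exact Module.length_ne_top
  let ψ : FreeAbelianGroup (Subtype P) →+ ℤ :=
    FreeAbelianGroup.lift (fun M => ((Module.length R M.1).toNat : ℤ))
  have hψ : KZero.relSub P ≤ ψ.ker := by
    rw [KZero.relSub, AddSubgroup.closure_le]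
    rintro x ⟨S, h₁, h₂, h₃, hS, rfl⟩
    rw [SetLike.mem_coe, AddMonoidHom.mem_ker, map_sub, map_sub]
    simp only [ψ, FreeAbelianGroup.lift_apply_of]
    have hadd := Module.length_eq_add_of_exact (R := R) S.f.hom S.g.hom
      hS.moduleCat_injective_f hS.moduleCat_surjective_g
      ((ShortComplex.ShortExact.moduleCat_exact_iff_function_exact S).mp hS.exact)
    rw [hadd, ENat.toNat_add (hfin _ h₁) (hfin _ h₃)]
    push_cast
    ring
  refine ⟨QuotientAddGroup.lift (KZero.relSub P) ψ hψ, fun M hM => ?_⟩
  have : KZero.clSub P M = QuotientAddGroup.mk (FreeAbelianGroup.of ⟨M, hM⟩) := dif_pos hM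
  rw [this, QuotientAddGroup.lift_mk]
  simp only [ψ, FreeAbelianGroup.lift_apply_of]

end Groth.Agent.S6319
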