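import Groth.Statements.S6326
import Mathlib.Tactic

set_option autoImplicit false
universe u
open CategoryTheory CategoryTheory.Limits
open CAlg

namespace Groth.Agent.S6326

section
variable (R : Type u) [CommRing R] (N : Type u) [AddCommGroup N] [Module R N]

/-- finitely generated submodules -/
abbrev FGSub := {P : Submodule R N // P.FG}

instance : IsDirected (FGSub R N) (· ≤ ·) :=
  ⟨fun a b => ⟨⟨a.1 ⊔ b.1, a.2.sup b.2⟩, le_sup_left (a := a.1), le_sup_right (b := b.1)⟩⟩

instance : Nonempty (FGSub R N) := ⟨⟨⊥, Submodule.fg_bot⟩⟩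

/-- the diagram `P ↦ N ⧸ P` -/
noncomputable def quotFunctor : FGSub R N ⥤ ModuleCat.{u} R where
  obj P := ModuleCat.of R (N ⧸ P.1)
  map {P Q} f := ModuleCat.ofHom (Submodule.factor (show P.1 ≤ Q.1 from leOfHom f))
  map_id P := by
    ext x
    simp
  map_comp {P Q S} f g := by
    ext x
    simp


lemma quotFunctor_map_mk {P Q : FGSub R N} (f : P ⟶ Q) (n : N) :
    ((quotFunctor R N).map f).hom (Submodule.Quotient.mk n : N ⧸ P.1) =
      (Submodule.Quotient.mk n : N ⧸ Q.1) :=
  Submodule.factor_mk (leOfHom f) n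

end


/-- Let R be a ring and N an R-module such that whenever M is the colimit of a filtered diagram (Mᵢ) of
R-modules (indexed by a filtered category in the same universe), the comparison map colim Hom_R(N,
Mᵢ) → Hom_R(N, M) is injective. Then N is finitely generated. (The implication from finite
generation back to this injectivity also holds; only the characterizing direction is stated here.) -/
theorem result (R : Type u) [CommRing R] (N : Type u) [AddCommGroup N] [Module R N] (h : ∀ (J : Type u) [SmallCategory J] [IsFiltered J] (F : J ⥤ ModuleCat.{u} R), Function.Injective (colimit.post F (coyoneda.obj (Opposite.op (ModuleCat.of R N))))) : Module.Finite R N := by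
  classical
  let F := quotFunctor R N
  let G := coyoneda.obj (Opposite.op (ModuleCat.of R N))
  let j0 : FGSub R N := ⟨⊥, Submodule.fg_bot⟩
  let π0 : (F ⋙ G).obj j0 := ModuleCat.ofHom (Submodule.mkQ (⊥ : Submodule R N))
  let z0 : (F ⋙ G).obj j0 := (0 : ModuleCat.of R N ⟶ F.obj j0)
  have hinj := h (FGSub R N) F
  have hpost : ∀ (w : (F ⋙ G).obj j0), colimit.post F G (colimit.ι (F ⋙ G) j0 w) = G.map (colimit.ι F j0) w := by
    intro w
    have := ConcreteCategory.congr_hom (colimit.ι_post F G j0) w
    exact this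
  have hzero : G.map (colimit.ι F j0) π0 = G.map (colimit.ι F j0) z0 := by
    change π0 ≫ colimit.ι F j0 = z0 ≫ colimit.ι F j0
    have hz : z0 ≫ colimit.ι F j0 = 0 := zero_comp
    rw [hz]
    ext n
    let j1 : FGSub R N := ⟨Submodule.span R {n}, Submodule.fg_span_singleton n⟩
    let f : j0 ⟶ j1 := homOfLE (show j0.1 ≤ j1.1 from bot_le)
    have hw := colimit.w F f
    rw [← hw]
    change (colimit.ι F j1).hom ((F.map f).hom (Submodule.Quotient.mk n)) = 0
    have : (F.map f).hom (Submodule.Quotient.mk n) = 0 := by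
      rw [quotFunctor_map_mk]
      exact (Submodule.Quotient.mk_eq_zero j1.1).mpr (Submodule.mem_span_singleton_self n)
    rw [this, map_zero]
  have hx : colimit.ι (F ⋙ G) j0 π0 = colimit.ι (F ⋙ G) j0 z0 := by
    apply hinj
    rw [hpost, hpost, hzero]
  obtain ⟨k, f, g, hfg⟩ := (Types.FilteredColimit.colimit_eq_iff (F ⋙ G)).mp hx
  have hk : k.1 = ⊤ := by
    rw [eq_top_iff]
    intro n _
    have h1 : π0 ≫ F.map f = z0 ≫ F.map g := hfg
    have h2 : z0 ≫ F.map g = 0 := zero_comp
    rw [h2] at h1
    have h3 := congrArg (fun φ => φ.hom n) h1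
    change (F.map f).hom (Submodule.Quotient.mk n) = 0 at h3
    rw [quotFunctor_map_mk] at h3
    exact (Submodule.Quotient.mk_eq_zero k.1).mp h3
  exact ⟨hk ▸ k.2⟩

end Groth.Agent.S6326
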