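import Groth.Statements.S6327
import Groth.Agent.S6326
import Mathlib.Tactic

set_option autoImplicit false
universe u
open CategoryTheory CategoryTheory.Limits
open CAlg

namespace Groth.Agent.S6327

section
variable {R : Type u} [CommRing R] {N : Type u} [AddCommGroup N] [Module R N]
variable {F : Type u} [AddCommGroup F] [Module R F] (f : F →ₗ[R] N)

/-- finitely generated submodules of the kernel -/
abbrev FGK := {P : Submodule R F // P.FG ∧ P ≤ LinearMap.ker f}

instance : IsDirected (FGK f) (· ≤ ·) :=
  ⟨fun a b => ⟨⟨a.1 ⊔ b.1, a.2.1.sup b.2.1, sup_le a.2.2 b.2.2⟩,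
    le_sup_left (a := a.1), le_sup_right (b := b.1)⟩⟩

instance : Nonempty (FGK f) := ⟨⟨⊥, Submodule.fg_bot, bot_le⟩⟩

/-- the diagram `P ↦ F ⧸ P` -/
noncomputable def quotFunctor : FGK f ⥤ ModuleCat.{u} R where
  obj P := ModuleCat.of R (F ⧸ P.1)
  map {P Q} g := ModuleCat.ofHom (Submodule.factor (show P.1 ≤ Q.1 from leOfHom g))
  map_id P := by
    ext x
    simp
  map_comp {P Q S} g g' := by
    ext x
    simp

lemma quotFunctor_map_mk {P Q : FGK f} (g : P ⟶ Q) (n : F) :
    ((quotFunctor f).map g).hom (Submodule.Quotient.mk n : F ⧸ P.1) =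
      (Submodule.Quotient.mk n : F ⧸ Q.1) :=
  Submodule.factor_mk (leOfHom g) n

/-- the cocone with point `N` -/
noncomputable def cocone : Cocone (quotFunctor f) where
  pt := ModuleCat.of R N
  ι :=
  { app := fun P => ModuleCat.ofHom (Submodule.liftQ P.1 f P.2.2)
    naturality := by
      intro P Q g
      ext x
      obtain ⟨x, rfl⟩ := Submodule.Quotient.mk_surjective _ x
      change (Submodule.liftQ Q.1 f Q.2.2) (((quotFunctor f).map g).hom
        (Submodule.Quotient.mk x : F ⧸ P.1)) = (Submodule.liftQ P.1 f P.2.2) (Submodule.Quotient.mk x)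
      rw [quotFunctor_map_mk, Submodule.liftQ_apply, Submodule.liftQ_apply] }

lemma cocone_ι_mk (P : FGK f) (x : F) :
    ((cocone f).ι.app P).hom (Submodule.Quotient.mk x : F ⧸ P.1) = f x := rfl

/-- the comparison map `F → colimit` -/
noncomputable def toColim : F →ₗ[R] (colimit (quotFunctor f) : ModuleCat.{u} R) :=
  (colimit.ι (quotFunctor f) ⟨⊥, Submodule.fg_bot, bot_le⟩).hom ∘ₗ Submodule.mkQ ⊥

lemma toColim_eq (P : FGK f) (x : F) :
    toColim f x = (colimit.ι (quotFunctor f) P).hom (Submodule.Quotient.mk x : F ⧸ P.1) := by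
  let j0 : FGK f := ⟨⊥, Submodule.fg_bot, bot_le⟩
  let g : j0 ⟶ P := homOfLE (show j0.1 ≤ P.1 from bot_le)
  have hw := colimit.w (quotFunctor f) g
  change (colimit.ι (quotFunctor f) j0).hom (Submodule.Quotient.mk x : F ⧸ j0.1) = _
  rw [← hw]
  change (colimit.ι (quotFunctor f) P).hom (((quotFunctor f).map g).hom
    (Submodule.Quotient.mk x : F ⧸ j0.1)) = _
  rw [quotFunctor_map_mk]

lemma toColim_ker (x : F) (hx : x ∈ LinearMap.ker f) : toColim f x = 0 := by
  let P : FGK f := ⟨Submodule.span R {x}, Submodule.fg_span_singleton x,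
    (Submodule.span_singleton_le_iff_mem _ _).mpr hx⟩
  rw [toColim_eq f P]
  have : (Submodule.Quotient.mk x : F ⧸ P.1) = 0 :=
    (Submodule.Quotient.mk_eq_zero P.1).mpr (Submodule.mem_span_singleton_self x)
  rw [this]
  exact map_zero (colimit.ι (quotFunctor f) P).hom

lemma desc_toColim (x : F) : (colimit.desc (quotFunctor f) (cocone f)).hom (toColim f x) = f x := by
  let j0 : FGK f := ⟨⊥, Submodule.fg_bot, bot_le⟩
  have h := colimit.ι_desc (cocone f) j0
  change (colimit.desc (quotFunctor f) (cocone f)).hom
    ((colimit.ι (quotFunctor f) j0).hom (Submodule.Quotient.mk x : F ⧸ j0.1)) = f x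
  change (colimit.ι (quotFunctor f) j0 ≫ colimit.desc (quotFunctor f) (cocone f)).hom
    (Submodule.Quotient.mk x : F ⧸ j0.1) = f x
  rw [h]
  rfl

end

lemma fp_of_retract {R : Type u} [CommRing R] {N M : Type u} [AddCommGroup N] [Module R N]
    [AddCommGroup M] [Module R M] [Module.FinitePresentation R M]
    (π : M →ₗ[R] N) (s : N →ₗ[R] M) (hs : ∀ y, π (s y) = y) : Module.FinitePresentation R N := by
  have hsurj : Function.Surjective π := fun y => ⟨s y, hs y⟩
  apply Module.finitePresentation_of_surjective π hsurj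
  have hker : LinearMap.ker π = LinearMap.range (LinearMap.id - s ∘ₗ π) := by
    ext x
    constructor
    · intro hx
      refine ⟨x, ?_⟩
      rw [LinearMap.mem_ker] at hx
      simp [hx]
    · rintro ⟨y, rfl⟩
      rw [LinearMap.mem_ker]
      simp [hs]
  rw [hker, LinearMap.range_eq_map]
  exact (Module.Finite.fg_top).map _


/-- Let R be a ring and N an R-module such that whenever M is the colimit of a filtered diagram (Mᵢ) of
R-modules (indexed by a filtered category in the same universe), the comparison map colim Hom_R(N,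
Mᵢ) → Hom_R(N, M) is bijective. Then N is finitely presented. (The implication from finite
presentation back to this bijectivity also holds; only the characterizing direction is stated here.) -/
theorem result (R : Type u) [CommRing R] (N : Type u) [AddCommGroup N] [Module R N] (h : ∀ (J : Type u) [SmallCategory J] [IsFiltered J] (F : J ⥤ ModuleCat.{u} R), Function.Bijective (colimit.post F (coyoneda.obj (Opposite.op (ModuleCat.of R N))))) : Module.FinitePresentation R N := by
  classical
  have : Module.Finite R N := Groth.Agent.S6326.result R N (fun J _ _ F => (h J F).1)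
  obtain ⟨n, f, hf⟩ := Module.Finite.exists_fin' R N
  let F := quotFunctor f
  let G := coyoneda.obj (Opposite.op (ModuleCat.of R N))
  -- the map t : N → colimit
  let e := f.quotKerEquivOfSurjective hf
  have hle : LinearMap.ker f ≤ LinearMap.ker (toColim f) := fun x hx => toColim_ker f x hx
  let t : N →ₗ[R] (colimit F : ModuleCat.{u} R) :=
    (Submodule.liftQ (LinearMap.ker f) (toColim f) hle) ∘ₗ e.symm.toLinearMap
  have ht : ∀ x, t (f x) = toColim f x := by
    intro x
    have : e.symm (f x) = Submodule.Quotient.mk x := by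
      rw [LinearEquiv.symm_apply_eq]
      rfl
    change (Submodule.liftQ (LinearMap.ker f) (toColim f) hle) (e.symm (f x)) = _
    rw [this, Submodule.liftQ_apply]
  let thom : G.obj (colimit F) := ModuleCat.ofHom t
  obtain ⟨z, hz⟩ := (h _ F).2 thom
  obtain ⟨P, s, rfl⟩ := Types.jointly_surjective' z
  have hpost : colimit.post F G (colimit.ι (F ⋙ G) P s) = G.map (colimit.ι F P) s :=
    ConcreteCategory.congr_hom (colimit.ι_post F G P) s
  rw [hpost] at hz
  have hz' : s ≫ colimit.ι F P = ModuleCat.ofHom t := hz
  have hFP : Module.FinitePresentation R ((Fin n → R) ⧸ P.1) := by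
    apply Module.finitePresentation_of_surjective (Submodule.mkQ P.1) (Submodule.mkQ_surjective _)
    rw [Submodule.ker_mkQ]
    exact P.2.1
  let s' : N →ₗ[R] ((Fin n → R) ⧸ P.1) := s.hom
  refine fp_of_retract (Submodule.liftQ P.1 f P.2.2) s' ?_
  intro y
  obtain ⟨x, rfl⟩ := hf y
  obtain ⟨x', hx'⟩ := Submodule.Quotient.mk_surjective P.1 (s' (f x))
  rw [← hx', Submodule.liftQ_apply]
  have h1 : (colimit.ι F P).hom (s' (f x)) = t (f x) := by
    have := congrArg (fun φ => φ.hom (f x)) hz'
    exact this
  rw [← hx', ← toColim_eq f P x', ht] at h1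
  have h2 := congrArg (colimit.desc (quotFunctor f) (cocone f)).hom h1
  rw [desc_toColim, desc_toColim] at h2
  exact h2

end Groth.Agent.S6327
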