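import Groth.Statements.S6331
import Mathlib
-- import your own Groth.Agent.* helpers here

set_option autoImplicit false
universe u
open CAlg

namespace Groth.Agent.S6331


theorem isAdicComplete_of_pow_eq_bot {R : Type u} [CommRing R] (J : Ideal R) (N : ℕ)
    (hN : J ^ N = ⊥) : IsAdicComplete J R := by
  have hb : (J ^ N • ⊤ : Submodule R R) = ⊥ := by rw [hN]; simp
  have hle : ∀ n, N ≤ n → (J ^ n • ⊤ : Submodule R R) = ⊥ := by
    intro n hn
    rw [eq_bot_iff, ← hb]
    exact Submodule.smul_mono_left (Ideal.pow_le_pow_right hn)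
  refine { haus' := ?_, prec' := ?_ }
  · intro x hx
    have := hx N
    rw [hb, SModEq.bot] at this
    exact this
  · intro f hf
    refine ⟨f N, fun n => ?_⟩
    rcases le_total n N with h | h
    · exact hf h
    · have := hf h
      rw [hb, SModEq.bot] at this
      rw [this]

/-- Let R be a ring, I ⊆ R an ideal all of whose elements are nilpotent, and n ≥ 1 an integer whose
image in R/I is invertible. Then (1) raising to the n-th power is a bijection of the subset 1 + I of
R onto itself: for every y ∈ I there is exactly one x ∈ I with (1 + x)ⁿ = 1 + y; (2) a unit u of R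
has an n-th root in R exactly when the residue class of u has an n-th root in R/I. -/
theorem result {R : Type u} [CommRing R] (I : Ideal R) (hI : ∀ x ∈ I, IsNilpotent x) (n : ℕ) (hn : 1 ≤ n) (hinv : IsUnit ((n : ℕ) : R ⧸ I)) : (∀ y ∈ I, ∃! x : R, x ∈ I ∧ (1 + x) ^ n = 1 + y) ∧ (∀ u : Rˣ, (∃ v : R, v ^ n = (u : R)) ↔ ∃ w : R ⧸ I, w ^ n = Ideal.Quotient.mk I (u : R)) := by
  classical
  have hnunit : IsUnit ((n : ℕ) : R) := by
    obtain ⟨m, hm⟩ := Ideal.Quotient.mk_surjective ((hinv.unit⁻¹ : (R ⧸ I)ˣ) : R ⧸ I)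
    have h1 : (n : R) * m - 1 ∈ I := by
      rw [← Ideal.Quotient.eq, map_mul, map_natCast, hm, map_one]
      exact hinv.mul_val_inv
    have h2 : IsUnit ((n : R) * m) := by
      have : (n : R) * m = 1 + ((n : R) * m - 1) := by ring
      rw [this]; exact IsNilpotent.isUnit_one_add (hI _ h1)
    exact isUnit_of_mul_isUnit_left h2
  have hunit_add : ∀ (a : R), IsUnit a → ∀ i ∈ I, IsUnit (a + i) := fun a ha i hi =>
    IsNilpotent.isUnit_add_left_of_commute (hI i hi) ha (Commute.all _ _)
  have huniq : ∀ x ∈ I, ∀ x' ∈ I, (1 + x) ^ n = (1 + x') ^ n → x = x' := by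
    intro x hx x' hx' h
    have hs := geom_sum₂_mul (1 + x) (1 + x') n
    rw [h, sub_self] at hs
    have hsI : (∑ i ∈ Finset.range n, (1 + x) ^ i * (1 + x') ^ (n - 1 - i)) - (n : R) ∈ I := by
      rw [← Ideal.Quotient.eq, map_sum, map_natCast]
      have hx0 : Ideal.Quotient.mk I x = 0 := Ideal.Quotient.eq_zero_iff_mem.mpr hx
      have hx0' : Ideal.Quotient.mk I x' = 0 := Ideal.Quotient.eq_zero_iff_mem.mpr hx'
      simp [map_mul, map_pow, map_add, hx0, hx0']
    have hsu : IsUnit (∑ i ∈ Finset.range n, (1 + x) ^ i * (1 + x') ^ (n - 1 - i)) := by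
      have := hunit_add _ hnunit _ hsI
      rwa [add_sub_cancel] at this
    have h0 : (1 + x) - (1 + x') = 0 := (hsu.mul_right_eq_zero).mp hs
    linear_combination h0
  have part1 : ∀ y ∈ I, ∃! x : R, x ∈ I ∧ (1 + x) ^ n = 1 + y := by
    intro y hy
    obtain ⟨N, hN⟩ := hI y hy
    have hJN : (Ideal.span ({y} : Set R)) ^ N = ⊥ := by
      rw [Ideal.span_singleton_pow, hN]; simp
    have : IsAdicComplete (Ideal.span ({y} : Set R)) R := isAdicComplete_of_pow_eq_bot _ N hJN
    have : HenselianRing R (Ideal.span ({y} : Set R)) := inferInstance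
    have hJI : Ideal.span ({y} : Set R) ≤ I := (Ideal.span_singleton_le_iff_mem _).mpr hy
    have hfm : (Polynomial.X ^ n - Polynomial.C (1 + y) : Polynomial R).Monic :=
      Polynomial.monic_X_pow_sub_C _ (by omega)
    have hf1 : (Polynomial.X ^ n - Polynomial.C (1 + y) : Polynomial R).eval 1 ∈
        Ideal.span ({y} : Set R) := by
      have : (Polynomial.X ^ n - Polynomial.C (1 + y) : Polynomial R).eval 1 = -y := by
        simp
      rw [this]
      exact neg_mem (Ideal.subset_span rfl)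
    have hf' : IsUnit (Ideal.Quotient.mk (Ideal.span ({y} : Set R))
        ((Polynomial.X ^ n - Polynomial.C (1 + y) : Polynomial R).derivative.eval 1)) := by
      have : (Polynomial.X ^ n - Polynomial.C (1 + y) : Polynomial R).derivative.eval 1 =
          (n : R) := by
        simp [Polynomial.derivative_X_pow, Polynomial.eval_mul, Polynomial.eval_pow]
      rw [this]
      exact hnunit.map _
    obtain ⟨a, ha, haJ⟩ := HenselianRing.is_henselian _ hfm 1 hf1 hf'
    have han : a ^ n = 1 + y := by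
      have := ha
      simp only [Polynomial.IsRoot, Polynomial.eval_sub, Polynomial.eval_pow, Polynomial.eval_X,
        Polynomial.eval_C] at this
      linear_combination this
    refine ⟨a - 1, ⟨hJI haJ, ?_⟩, ?_⟩
    · rw [add_sub_cancel, han]
    · rintro x' ⟨hx'I, hx'⟩
      apply huniq x' hx'I (a - 1) (hJI haJ)
      rw [hx', add_sub_cancel, han]
  refine ⟨part1, ?_⟩
  intro u
  constructor
  · rintro ⟨v, hv⟩
    exact ⟨Ideal.Quotient.mk I v, by rw [← map_pow, hv]⟩
  · rintro ⟨w, hw⟩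
    obtain ⟨v0, rfl⟩ := Ideal.Quotient.mk_surjective w
    have hi : v0 ^ n - (u : R) ∈ I := by
      rw [← Ideal.Quotient.eq, map_pow]; exact hw
    have hyI : ((u⁻¹ : Rˣ) : R) * (v0 ^ n - (u : R)) ∈ I := I.mul_mem_left _ hi
    obtain ⟨x, ⟨hxI, hx⟩, -⟩ := part1 _ hyI
    have hxu : IsUnit (1 + x) := IsNilpotent.isUnit_one_add (hI x hxI)
    obtain ⟨t, ht⟩ := hxu
    refine ⟨v0 * ((t⁻¹ : Rˣ) : R), ?_⟩
    have h1 : ((t : R)) ^ n = 1 + ((u⁻¹ : Rˣ) : R) * (v0 ^ n - (u : R)) := by rw [ht]; exact hx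
    have h2 : (t : R) * ((t⁻¹ : Rˣ) : R) = 1 := t.mul_inv
    have h3 : (u : R) * ((u⁻¹ : Rˣ) : R) = 1 := u.mul_inv
    have h4 : ((t : R) * ((t⁻¹ : Rˣ) : R)) ^ n = 1 := by rw [h2, one_pow]
    rw [mul_pow] at h4 ⊢
    have h5 : v0 ^ n = (u : R) * (t : R) ^ n := by
      rw [h1]
      linear_combination (-(v0 ^ n) + (u : R)) * h3
    rw [h5]
    linear_combination (u : R) * h4

end Groth.Agent.S6331
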