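import Groth.Statements.S6334
import Mathlib.FieldTheory.KummerPolynomial
-- import your own Groth.Agent.* helpers here

set_option autoImplicit false
universe u
open Fields

namespace Groth.Agent.S6334


open IntermediateField Polynomial in
theorem step {F E : Type u} [Field F] [Field E] [Algebra F E] (p : ℕ) [hp : Fact p.Prime]
    [CharP F p] [FiniteDimensional F E]
    (M : IntermediateField F E) (b : E) (hb : b ∉ M) (hbp : b ^ p ∈ M) (S : Set E)
    (hS : adjoin F S = M) :
    Module.finrank (adjoin F (insert b S)) E * p = Module.finrank M E := by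
  haveI : CharP E p := charP_of_injective_algebraMap (algebraMap F E).injective p
  have h1 : restrictScalars F (M⟮b⟯) = adjoin F (insert b S) := by
    rw [restrictScalars_adjoin, Set.insert_eq, Set.union_comm, adjoin_union, adjoin_union,
      adjoin_self, hS]
  have hirr : Irreducible (X ^ p - C (⟨b ^ p, hbp⟩ : M)) := by
    apply X_pow_sub_C_irreducible_of_prime hp.out
    intro d hd
    apply hb
    have h2 : (d : E) ^ p = b ^ p := congrArg Subtype.val hd
    have h3 : (d : E) = b := frobenius_inj E p h2
    rw [← h3]; exact d.2
  have hmin : minpoly M b = X ^ p - C (⟨b ^ p, hbp⟩ : M) := by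
    symm
    apply minpoly.eq_of_irreducible_of_monic hirr _ (monic_X_pow_sub_C _ hp.out.ne_zero)
    simp only [map_sub, map_pow, aeval_X, aeval_C]
    exact sub_self _
  have hint : IsIntegral M b := IsIntegral.of_finite M b
  have h2 : Module.finrank M M⟮b⟯ = p := by
    rw [adjoin.finrank hint, hmin, natDegree_X_pow_sub_C]
  have h3 := Module.finrank_mul_finrank M M⟮b⟯ E
  rw [← h1]
  show Module.finrank (M⟮b⟯) E * p = _
  rw [← h3, h2, mul_comm]

open IntermediateField in
/-- Let E/F be a finite purely inseparable extension of fields of characteristic p > 0. Then there are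
elements a_1, ..., a_n of E generating E over F such that for each i the p-th power of a_i lies in
F(a_1, ..., a_{i-1}) while a_i itself does not (so each step adjoins a p-th root and has degree p);
in particular [E : F] = p ^ n. -/
theorem result {F E : Type u} [Field F] [Field E] [Algebra F E] (p : ℕ)
    [Fact p.Prime] [CharP F p] [FiniteDimensional F E] [IsPurelyInseparable F E] :
    ∃ (n : ℕ) (a : Fin n → E), adjoin F (Set.range a) = ⊤ ∧
      (∀ i : Fin n, a i ^ p ∈ adjoin F (a '' {j | j < i}) ∧ a i ∉ adjoin F (a '' {j | j < i})) ∧
      Module.finrank F E = p ^ n := by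
  classical
  have hp : p.Prime := Fact.out
  haveI : ExpChar F p := ExpChar.prime hp
  have key : ∀ d : ℕ, ∀ (n : ℕ) (a : Fin n → E),
      Module.finrank (adjoin F (Set.range a)) E = d →
      (∀ i : Fin n, a i ^ p ∈ adjoin F (a '' {j | j < i}) ∧
        a i ∉ adjoin F (a '' {j | j < i})) →
      Module.finrank (adjoin F (Set.range a)) E * p ^ n = Module.finrank F E →
      ∃ (n' : ℕ) (a' : Fin n' → E), adjoin F (Set.range a') = ⊤ ∧
        (∀ i : Fin n', a' i ^ p ∈ adjoin F (a' '' {j | j < i}) ∧
          a' i ∉ adjoin F (a' '' {j | j < i})) ∧
        Module.finrank F E = p ^ n' := by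
    intro d
    induction d using Nat.strong_induction_on with
    | _ d ih =>
      intro n a hd hgood hfin
      by_cases htop : adjoin F (Set.range a) = ⊤
      · refine ⟨n, a, htop, hgood, ?_⟩
        rw [← hfin, htop, IntermediateField.finrank_top, one_mul]
      · obtain ⟨x, hx⟩ : ∃ x, x ∉ adjoin F (Set.range a) := by
          by_contra hcon
          simp only [not_exists, not_not] at hcon
          exact htop (eq_top_iff.mpr fun x _ => hcon x)
        have hex : ∃ k, x ^ p ^ k ∈ adjoin F (Set.range a) := by
          obtain ⟨k, y, hy⟩ := IsPurelyInseparable.pow_mem F p x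
          exact ⟨k, hy ▸ IntermediateField.algebraMap_mem _ y⟩
        have hk0 : Nat.find hex ≠ 0 := by
          intro h0
          have := Nat.find_spec hex
          rw [h0, pow_zero, pow_one] at this
          exact hx this
        obtain ⟨k, hk⟩ : ∃ k, Nat.find hex = k + 1 := ⟨Nat.find hex - 1, by omega⟩
        have hb : x ^ p ^ k ∉ adjoin F (Set.range a) :=
          Nat.find_min hex (by omega : k < Nat.find hex)
        have hbp : (x ^ p ^ k) ^ p ∈ adjoin F (Set.range a) := by
          have := Nat.find_spec hex
          rw [hk, pow_succ, pow_mul] at this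
          exact this
        have hstep := step p (adjoin F (Set.range a)) (x ^ p ^ k) hb hbp (Set.range a) rfl
        have hrange : Set.range (Fin.snoc a (x ^ p ^ k) : Fin (n + 1) → E) =
            insert (x ^ p ^ k) (Set.range a) := Fin.range_snoc a _
        have himg_last : (Fin.snoc a (x ^ p ^ k) : Fin (n + 1) → E) '' {j | j < Fin.last n} =
            Set.range a := by
          ext y
          constructor
          · rintro ⟨j, hj, rfl⟩
            have hjl : j ≠ Fin.last n := ne_of_lt hj
            obtain ⟨j', rfl⟩ := Fin.exists_castSucc_eq.mpr hjl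
            exact ⟨j', by simp⟩
          · rintro ⟨j', rfl⟩
            exact ⟨Fin.castSucc j', Fin.castSucc_lt_last j', by simp⟩
        have himg_cast : ∀ i : Fin n,
            (Fin.snoc a (x ^ p ^ k) : Fin (n + 1) → E) '' {j | j < Fin.castSucc i} =
            a '' {j | j < i} := by
          intro i
          ext y
          constructor
          · rintro ⟨j, hj, rfl⟩
            have hjl : j ≠ Fin.last n := ne_of_lt (lt_of_lt_of_le hj (Fin.le_last _))
            obtain ⟨j', rfl⟩ := Fin.exists_castSucc_eq.mpr hjl
            exact ⟨j', Fin.castSucc_lt_castSucc_iff.mp hj, by simp⟩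
          · rintro ⟨j', hj', rfl⟩
            exact ⟨Fin.castSucc j', Fin.castSucc_lt_castSucc_iff.mpr hj', by simp⟩
        apply ih (Module.finrank (adjoin F (Set.range
          (Fin.snoc a (x ^ p ^ k) : Fin (n + 1) → E))) E) ?_ (n + 1) (Fin.snoc a (x ^ p ^ k)) rfl ?_ ?_
        · rw [hrange, ← hd, ← hstep]
          have : 0 < Module.finrank (adjoin F (insert (x ^ p ^ k) (Set.range a))) E :=
            Module.finrank_pos
          nlinarith [hp.two_le]
        · intro i
          refine Fin.lastCases ?_ (fun i => ?_) i
          · rw [himg_last, Fin.snoc_last]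
            exact ⟨hbp, hb⟩
          · rw [himg_cast, Fin.snoc_castSucc]
            exact hgood i
        · rw [hrange]
          calc Module.finrank (adjoin F (insert (x ^ p ^ k) (Set.range a))) E * p ^ (n + 1)
              = (Module.finrank (adjoin F (insert (x ^ p ^ k) (Set.range a))) E * p) * p ^ n := by
                ring
            _ = Module.finrank (adjoin F (Set.range a)) E * p ^ n := by rw [hstep]
            _ = Module.finrank F E := hfin
  refine key _ 0 Fin.elim0 rfl (fun i => i.elim0) ?_
  have : Set.range (Fin.elim0 : Fin 0 → E) = ∅ := Set.range_eq_empty _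
  rw [this, adjoin_empty, IntermediateField.finrank_bot', pow_zero, mul_one]

end Groth.Agent.S6334
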