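import Groth.Statements.S6335
import Mathlib.FieldTheory.PurelyInseparable.PerfectClosure
-- import your own Groth.Agent.* helpers here

set_option autoImplicit false
universe u
open Fields

namespace Groth.Agent.S6335

/-- Let K be a field of characteristic p > 0, L/K a separable algebraic extension and a an element of L.
If a is a root of a polynomial P over K which is separable (pairwise distinct roots in an algebraic
closure) and all of whose coefficients are p-th powers in K, then a is a p-th power in L. (Part (1),
the case where P is the minimal polynomial of a, is a special case.) -/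
theorem result {K L : Type u} [Field K] [Field L] [Algebra K L]
    (p : ℕ) [Fact p.Prime] [CharP K p] [Algebra.IsSeparable K L] (a : L) (P : Polynomial K)
    (hroot : Polynomial.aeval a P = 0) (hsep : P.Separable) (hcoeff : ∀ i : ℕ, ∃ b : K, b ^ p = P.coeff i) :
    ∃ c : L, c ^ p = a := by
  classical
  have hp : p.Prime := Fact.out
  choose b hb using hcoeff
  haveI : CharP L p := charP_of_injective_algebraMap (algebraMap K L).injective p
  let Ω := AlgebraicClosure L
  haveI : CharP Ω p := charP_of_injective_algebraMap (algebraMap L Ω).injective p
  haveI : ExpChar L p := ExpChar.prime hp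
  obtain ⟨c, hc⟩ := IsAlgClosed.exists_pow_nat_eq (algebraMap L Ω a) hp.pos
  let Q : Polynomial K := ∑ i ∈ Finset.range (P.natDegree + 1), Polynomial.C (b i) * Polynomial.X ^ i
  have hQP : Q.map (frobenius K p) = P := by
    ext i
    simp only [Q, Polynomial.coeff_map, Polynomial.finset_sum_coeff, Polynomial.coeff_C_mul,
      Polynomial.coeff_X_pow]
    rw [Finset.sum_eq_single i]
    · simp [frobenius_def, hb]
    · intro j _ hji
      simp [hji.symm]
    · intro hi
      simp only [Finset.mem_range, not_lt] at hi
      have : P.coeff i = 0 := Polynomial.coeff_eq_zero_of_natDegree_lt (by omega)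
      have hbi : b i = 0 := by
        have := hb i
        rw [‹P.coeff i = 0›] at this
        exact pow_eq_zero_iff hp.ne_zero |>.mp this
      simp [hbi]
  have hQsep : Q.Separable := (Polynomial.separable_map (frobenius K p)).mp (hQP ▸ hsep)
  have hQc : Polynomial.aeval c Q = 0 := by
    have h1 : (Polynomial.aeval c Q) ^ p = 0 := by
      rw [← map_pow, ← Polynomial.map_frobenius_expand p, Polynomial.map_expand, hQP,
        Polynomial.expand_aeval, hc, Polynomial.aeval_algebraMap_apply, hroot, map_zero]
    exact pow_eq_zero_iff hp.ne_zero |>.mp h1
  have hsepc : IsSeparable L c := by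
    have h2 : Polynomial.aeval c (Q.map (algebraMap K L)) = 0 := by
      rw [Polynomial.aeval_map_algebraMap, hQc]
    exact (hQsep.map (f := algebraMap K L)).of_dvd (minpoly.dvd L c h2)
  have hmem : c ∈ separableClosure L Ω ⊓ perfectClosure L Ω := by
    refine ⟨mem_separableClosure_iff.mpr hsepc, ?_⟩
    exact (mem_perfectClosure_iff_pow_mem p).mpr ⟨1, a, by rw [pow_one, hc]⟩
  rw [separableClosure_inf_perfectClosure] at hmem
  obtain ⟨c', hc'⟩ := IntermediateField.mem_bot.mp hmem
  refine ⟨c', (algebraMap L Ω).injective ?_⟩
  rw [map_pow, hc', hc]

end Groth.Agent.S6335
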