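import Groth.Statements.S6336
-- import your own Groth.Agent.* helpers here

set_option autoImplicit false
universe u
open Fields

namespace Groth.Agent.S6336


open IntermediateField Polynomial in
theorem finrank_eq_natDegree_minpoly {K L : Type u} [Field K] [Field L] [Algebra K L]
    [FiniteDimensional K L] (a : L) (ha : K⟮a⟯ = ⊤) (M : IntermediateField K L) :
    Module.finrank M L = (minpoly M a).natDegree := by
  have htop : M⟮a⟯ = ⊤ := by
    rw [← restrictScalars_eq_top_iff (K := K), restrictScalars_adjoin, eq_top_iff, ← ha]
    exact adjoin.mono _ _ _ (Set.subset_union_right)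
  have hint : IsIntegral M a := IsIntegral.of_finite M a
  rw [← adjoin.finrank hint, htop, IntermediateField.finrank_top']

theorem prod_lemma {K Ω : Type*} [Field K] [Field Ω] (j : K →+* Ω) (α : Ω) (R : Multiset Ω)
    (h : ∀ x ∈ R, ∃ k : K, k ≠ 0 ∧ x = j k * α) :
    ∃ k : K, k ≠ 0 ∧ R.prod = j k * α ^ Multiset.card R := by
  induction R using Multiset.induction_on with
  | empty => exact ⟨1, one_ne_zero, by simp⟩
  | cons x R ih =>
    obtain ⟨k, hk0, hk⟩ := ih (fun y hy => h y (Multiset.mem_cons_of_mem hy))
    obtain ⟨k', hk'0, hk'⟩ := h x (Multiset.mem_cons_self x R)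
    refine ⟨k' * k, mul_ne_zero hk'0 hk0, ?_⟩
    rw [Multiset.prod_cons, hk, hk', Multiset.card_cons, map_mul]
    ring

open IntermediateField Polynomial in
/-- With an added hypothesis: let L/K be a finite extension of degree e generated by a single element a
whose e-th power lies in K, and assume that the polynomial X ^ e - 1 splits into linear factors over
K (so every e-th root of unity of any extension of K already lies in K; this holds when K contains a
primitive e-th root of unity, and when e is a power of the characteristic). Then every intermediate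
field of L/K is generated by a ^ d for some divisor d of e. (The published statement has no
hypothesis on roots of unity; for K the rationals and a a primitive 8-th root of unity, e = 4 and a
^ 4 = -1, the intermediate field generated by a + a⁻¹, a square root of 2, is none of K(a), K(a ^
2), K(a ^ 4); the published proof uses that the e-th roots of unity met are fixed by the
automorphisms it constructs, which the splitting hypothesis guarantees.) -/
theorem result {K L : Type u} [Field K] [Field L] [Algebra K L]
    [FiniteDimensional K L] (a : L) (ha : K⟮a⟯ = ⊤)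
    (hpow : a ^ Module.finrank K L ∈ Set.range (algebraMap K L))
    (hroots : (X ^ Module.finrank K L - 1 : K[X]).Splits) (L' : IntermediateField K L) :
    ∃ d : ℕ, d ∣ Module.finrank K L ∧ L' = K⟮a ^ d⟯ := by
  classical
  obtain ⟨c, hc⟩ := hpow
  have hepos : 0 < Module.finrank K L := Module.finrank_pos
  have hrpos : 0 < Module.finrank L' L := Module.finrank_pos
  have hmul : Module.finrank K L' * Module.finrank L' L = Module.finrank K L :=
    Module.finrank_mul_finrank K L' L
  refine ⟨Module.finrank L' L, Dvd.intro_left _ hmul, ?_⟩
  have hkey : a ^ Module.finrank L' L ∈ L' := by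
    by_cases ha0 : a = 0
    · rw [ha0, zero_pow hrpos.ne']; exact zero_mem _
    let Ω := AlgebraicClosure L
    let i : L →+* Ω := algebraMap L Ω
    have hint : IsIntegral L' a := IsIntegral.of_finite L' a
    have hmonic : (minpoly L' a).Monic := minpoly.monic hint
    have hdeg : (minpoly L' a).natDegree = Module.finrank L' L :=
      (finrank_eq_natDegree_minpoly a ha L').symm
    have hdvd : minpoly L' a ∣ (X ^ Module.finrank K L - C (algebraMap K L' c)) := by
      apply minpoly.dvd
      simp only [map_sub, map_pow, aeval_X, aeval_C]
      rw [← IsScalarTower.algebraMap_apply, hc, sub_self]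
    set mΩ := ((minpoly L' a).map (algebraMap L' L)).map i with hmΩ
    have hsplit : mΩ.Splits := IsAlgClosed.splits _
    have hmonicΩ : mΩ.Monic := (hmonic.map _).map _
    have hia : i a ≠ 0 := (_root_.map_ne_zero i).mpr ha0
    have hrts : ∀ x ∈ mΩ.roots, ∃ k : K, k ≠ 0 ∧ x = (i.comp (algebraMap K L)) k * i a := by
      intro x hx
      have hx0 : mΩ.eval x = 0 := (mem_roots hmonicΩ.ne_zero).mp hx
      have hxe : x ^ Module.finrank K L = (i a) ^ Module.finrank K L := by
        obtain ⟨g, hg⟩ := hdvd
        have := congrArg (fun p => ((p.map (algebraMap L' L)).map i).eval x) hg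
        simp only [Polynomial.map_sub, Polynomial.map_pow, Polynomial.map_X, Polynomial.map_C,
          Polynomial.map_mul, eval_sub, eval_pow, eval_X, eval_C, eval_mul] at this
        rw [← hmΩ, hx0, zero_mul, sub_eq_zero] at this
        rw [this, ← IsScalarTower.algebraMap_apply K L' L, hc, map_pow]
      have hz : ((X ^ Module.finrank K L - 1 : K[X]).map (i.comp (algebraMap K L))).IsRoot
          (x / i a) := by
        simp only [IsRoot.def, Polynomial.map_sub, Polynomial.map_pow, Polynomial.map_X,
          Polynomial.map_one, eval_sub, eval_pow, eval_X, eval_one, div_pow, hxe]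
        rw [div_self (pow_ne_zero _ hia), sub_self]
      have hne : (X ^ Module.finrank K L - 1 : K[X]) ≠ 0 := by
        have := X_pow_sub_C_ne_zero (R := K) hepos 1
        simpa using this
      obtain ⟨k, hk⟩ := hroots.mem_range_of_isRoot hne hz
      refine ⟨k, ?_, ?_⟩
      · rintro rfl
        rw [map_zero] at hk
        have hx00 : x = 0 := by
          have := hk.symm
          rw [div_eq_zero_iff] at this
          exact this.resolve_right hia
        rw [hx00, zero_pow hepos.ne'] at hxe
        exact pow_ne_zero _ hia hxe.symm
      · rw [hk, div_mul_cancel₀ _ hia]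
    obtain ⟨k, hk0, hk⟩ := prod_lemma _ _ _ hrts
    have hcard : Multiset.card mΩ.roots = Module.finrank L' L := by
      rw [← hsplit.natDegree_eq_card_roots, hmΩ, natDegree_map, natDegree_map, hdeg]
    have hcoeff : mΩ.coeff 0 = (-1) ^ mΩ.natDegree * mΩ.roots.prod :=
      hsplit.coeff_zero_eq_prod_roots_of_monic hmonicΩ
    have hnd : mΩ.natDegree = Module.finrank L' L := by
      rw [hmΩ, natDegree_map, natDegree_map, hdeg]
    have h1 : i (((minpoly L' a).coeff 0 : L' ) : L) =
        i ((-1) ^ Module.finrank L' L * algebraMap K L k * a ^ Module.finrank L' L) := by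
      have : mΩ.coeff 0 = i (((minpoly L' a).coeff 0 : L') : L) := by
        rw [hmΩ, coeff_map, coeff_map]; rfl
      rw [← this, hcoeff, hk, hcard, hnd]
      simp only [map_mul, map_pow, map_neg, map_one, RingHom.comp_apply]
      ring
    have h2 := i.injective h1
    have hk1 : algebraMap K L k ≠ 0 := (_root_.map_ne_zero _).mpr hk0
    have h3 : a ^ Module.finrank L' L =
        algebraMap K L ((-1) ^ Module.finrank L' L * k)⁻¹ * (((minpoly L' a).coeff 0 : L') : L) := by
      rw [h2, map_inv₀, map_mul, map_pow, map_neg, map_one]
      have : ((-1 : L) ^ Module.finrank L' L) ≠ 0 := pow_ne_zero _ (by simp)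
      field_simp
    rw [h3]
    exact mul_mem (IntermediateField.algebraMap_mem _ _) ((minpoly L' a).coeff 0).2
  have hle : K⟮a ^ Module.finrank L' L⟯ ≤ L' := adjoin_simple_le_iff.mpr hkey
  symm
  apply eq_of_le_of_finrank_le' hle
  rw [finrank_eq_natDegree_minpoly a ha]
  set b : K⟮a ^ Module.finrank L' L⟯ := ⟨a ^ Module.finrank L' L, mem_adjoin_simple_self K _⟩ with hb
  have hq : (X ^ Module.finrank L' L - C b : (K⟮a ^ Module.finrank L' L⟯)[X]) ≠ 0 :=
    X_pow_sub_C_ne_zero hrpos b
  have hqa : aeval a (X ^ Module.finrank L' L - C b : (K⟮a ^ Module.finrank L' L⟯)[X]) = 0 := by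
    simp only [map_sub, map_pow, aeval_X, aeval_C]
    rw [hb]
    exact sub_self _
  calc (minpoly (K⟮a ^ Module.finrank L' L⟯) a).natDegree
      ≤ (X ^ Module.finrank L' L - C b : (K⟮a ^ Module.finrank L' L⟯)[X]).natDegree :=
        natDegree_le_of_dvd (minpoly.dvd _ _ hqa) hq
    _ = Module.finrank L' L := natDegree_X_pow_sub_C

end Groth.Agent.S6336
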