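import Groth.Statements.S6340
import Groth.Agent.Lib.Helper14.MLProd
import Mathlib.LinearAlgebra.TensorProduct.RightExactness

set_option autoImplicit false
universe u
open CAlg

namespace Groth.Agent.S6340

open Groth.Agent.Lib.Helper14.MLProd TensorProduct

section

variable {R : Type u} [CommRing R]

lemma piRightHom_natural {M M' : Type u} [AddCommGroup M] [Module R M] [AddCommGroup M']
    [Module R M'] (f : M →ₗ[R] M') {ι : Type u} (Q : ι → Type u)
    [∀ i, AddCommGroup (Q i)] [∀ i, Module R (Q i)] (x : M ⊗[R] (∀ i, Q i)) :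
    TensorProduct.piRightHom R R M' Q (LinearMap.rTensor (∀ i, Q i) f x) =
      fun i => LinearMap.rTensor (Q i) f (TensorProduct.piRightHom R R M Q x i) := by
  induction x using TensorProduct.induction_on with
  | zero => ext i; simp
  | tmul m q => ext i; simp
  | add y z hy hz =>
    rw [map_add, map_add, hy, hz, map_add]
    ext i
    simp

lemma piRightHom_surjective_of_fg {N : Type u} [AddCommGroup N] [Module R N] [Module.Finite R N]
    {ι : Type u} (Q : ι → Type u) [∀ i, AddCommGroup (Q i)] [∀ i, Module R (Q i)] :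
    Function.Surjective (TensorProduct.piRightHom R R N Q) := by
  obtain ⟨n, s, hs⟩ := Module.Finite.exists_fin (R := R) (M := N)
  intro y
  choose q hq using fun i => exists_sum_tmul s hs (y i)
  refine ⟨∑ j, s j ⊗ₜ[R] (fun i => q i j), ?_⟩
  ext i
  rw [hq i]
  simp [map_sum, TensorProduct.piRightHom_tmul]

end


/-- Let M₁ → M₂ → M₃ → 0 be exact with M₁ finitely generated; if M₂ is Mittag-Leffler then so is M₃.
Equivalently, as stated here: the quotient of a Mittag-Leffler module by a finitely generated
submodule is Mittag-Leffler. -/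
theorem result (R : Type u) [CommRing R] {M : Type u} [AddCommGroup M] [Module R M]
    (N : Submodule R M) (hN : N.FG) (hM : CAlg.IsMittagLeffler R M) :
    CAlg.IsMittagLeffler R (M ⧸ N) := by
  intro ι Q _ _
  haveI : Module.Finite R N := Module.Finite.iff_fg.mpr hN
  rw [injective_iff_map_eq_zero]
  intro x hx
  obtain ⟨xt, rfl⟩ := LinearMap.rTensor_surjective (∀ i, Q i) N.mkQ_surjective x
  rw [piRightHom_natural] at hx
  have hex : ∀ i, Function.Exact (LinearMap.rTensor (Q i) N.subtype)
      (LinearMap.rTensor (Q i) N.mkQ) := fun i =>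
    rTensor_exact (Q i) (LinearMap.exact_subtype_mkQ N) N.mkQ_surjective
  have hy : ∀ i, ∃ y : N ⊗[R] Q i, LinearMap.rTensor (Q i) N.subtype y =
      TensorProduct.piRightHom R R M Q xt i := fun i =>
    (hex i _).mp (congrFun hx i)
  choose y hy using hy
  obtain ⟨yy, hyy⟩ := piRightHom_surjective_of_fg (N := N) Q y
  have h0 : TensorProduct.piRightHom R R M Q (xt - LinearMap.rTensor (∀ i, Q i) N.subtype yy) = 0 := by
    rw [map_sub, piRightHom_natural, hyy]
    ext i
    simp [hy i]
  have h1 : xt = LinearMap.rTensor (∀ i, Q i) N.subtype yy :=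
    sub_eq_zero.mp (hM ι Q (by rw [h0, map_zero]))
  rw [h1, ← LinearMap.rTensor_comp_apply]
  have : N.mkQ ∘ₗ N.subtype = 0 := by
    ext n
    simp
  rw [this, LinearMap.rTensor_zero, LinearMap.zero_apply]

end Groth.Agent.S6340
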