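import Groth.Statements.S6341
import Groth.Agent.Lib.Helper14.MLProd
import Mathlib.LinearAlgebra.TensorProduct.DirectLimit
import Mathlib.RingTheory.TensorProduct.DirectLimitFG

set_option autoImplicit false
universe u
open CAlg

namespace Groth.Agent.S6341

open Groth.Agent.Lib.Helper14.MLProd TensorProduct

section

variable {R : Type u} [CommRing R] {ι : Type u}
    [Preorder ι] [IsDirected ι (· ≤ ·)] [DecidableEq ι] (G : ι → Type u) [∀ i, AddCommGroup (G i)]
    [∀ i, Module R (G i)] (f : ∀ i j, i ≤ j → G i →ₗ[R] G j) [DirectedSystem G fun i j h => f i j h]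

lemma of_univInj (hf : ∀ i j (h : i ≤ j), CAlgX.UniversallyInjective R (f i j h)) (i : ι) :
    CAlgX.UniversallyInjective R (Module.DirectLimit.of R ι G f i) := by
  intro Q _ _
  rw [injective_iff_map_eq_zero]
  intro z hz
  have h1 := TensorProduct.directLimitLeft_rTensor_of f Q z
  rw [hz, map_zero] at h1
  haveI : DirectedSystem (fun i => G i ⊗[R] Q) (fun i j h => LinearMap.rTensor Q (f i j h)) :=
    DirectedSystem.rTensor (R := R) (N := Q) (f := fun i j h => f i j h) inferInstance
  obtain ⟨j, hij, hj⟩ := Module.DirectLimit.of.zero_exact h1.symm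
  exact (injective_iff_map_eq_zero _).mp (hf i j hij Q) z hj

lemma exists_rTensor_of [Nonempty ι] (N : Type u) [AddCommGroup N] [Module R N]
    (x : Module.DirectLimit G f ⊗[R] N) :
    ∃ (i : ι) (y : G i ⊗[R] N), x = LinearMap.rTensor N (Module.DirectLimit.of R ι G f i) y := by
  obtain ⟨i, y, hy⟩ := Module.DirectLimit.exists_of (TensorProduct.directLimitLeft f N x)
  refine ⟨i, y, ?_⟩
  apply (TensorProduct.directLimitLeft f N).injective
  rw [TensorProduct.directLimitLeft_rTensor_of, hy]

end


/-- The colimit of a directed system of Mittag-Leffler modules with universally injective transition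
maps is Mittag-Leffler. -/
theorem result (R : Type u) [CommRing R] {ι : Type u}
    [Preorder ι] [IsDirected ι (· ≤ ·)] [DecidableEq ι] (G : ι → Type u) [∀ i, AddCommGroup (G i)]
    [∀ i, Module R (G i)] (f : ∀ i j, i ≤ j → G i →ₗ[R] G j) [DirectedSystem G fun i j h => f i j h]
    (hf : ∀ i j (h : i ≤ j), CAlgX.UniversallyInjective R (f i j h))
    (hG : ∀ i, CAlg.IsMittagLeffler R (G i)) :
    CAlg.IsMittagLeffler R (Module.DirectLimit G f) := by
  intro κ Q _ _
  rcases isEmpty_or_nonempty ι with hι | hι
  · haveI : Subsingleton (Module.DirectLimit G f) := by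
      refine ⟨fun a b => ?_⟩
      induction a using Quotient.inductionOn' with | _ a =>
      induction b using Quotient.inductionOn' with | _ b =>
      congr 1
      apply DFinsupp.ext
      intro i
      exact (IsEmpty.false i).elim
    haveI : Subsingleton (Module.DirectLimit G f ⊗[R] (∀ k, Q k)) := by
      refine ⟨fun a b => ?_⟩
      have h0 : ∀ a : Module.DirectLimit G f ⊗[R] (∀ k, Q k), a = 0 := by
        intro a
        induction a using TensorProduct.induction_on with
        | zero => rfl
        | tmul m q => rw [Subsingleton.elim m 0, TensorProduct.zero_tmul]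
        | add y z hy hz => rw [hy, hz, add_zero]
      rw [h0 a, h0 b]
    exact Function.injective_of_subsingleton _
  · rw [injective_iff_map_eq_zero]
    intro x hx
    obtain ⟨i, y, rfl⟩ := exists_rTensor_of G f (∀ k, Q k) x
    rw [piRightHom_natural] at hx
    have hy : TensorProduct.piRightHom R R (G i) Q y = 0 := by
      ext k
      apply of_univInj G f hf i (Q k)
      rw [Pi.zero_apply, map_zero]
      exact congrFun hx k
    have : y = 0 := hG i κ Q (by rw [hy, map_zero])
    rw [this, map_zero]

end Groth.Agent.S6341
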