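import Groth.Statements.S6343
import Groth.Agent.Lib.Helper14.MLProd
import Groth.Agent.Lib.Helper14.UnivInj

set_option autoImplicit false
universe u
open scoped TensorProduct
open CAlg

namespace Groth.Agent.S6343

open TensorProduct Groth.Agent.Lib.Helper14.MLProd Groth.Agent.Lib.Helper14.UnivInj

section

variable {R : Type u} [CommRing R]

/-- for a Mittag-Leffler module `N`, the comparison map `N ⊗ ∏ Q i → ∏ N ⊗ Q i` stays injective
after tensoring with any module. -/
theorem lTensor_piRightHom_injective (N : Type u) [AddCommGroup N] [Module R N]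
    (hN : CAlg.IsMittagLeffler R N) {ι : Type u} (Q : ι → Type u)
    [∀ i, AddCommGroup (Q i)] [∀ i, Module R (Q i)]
    (P : Type u) [AddCommGroup P] [Module R P] :
    Function.Injective (LinearMap.lTensor P (TensorProduct.piRightHom R R N Q)) := by
  apply lTensor_injective_of_forall_fp
  intro P _ _ hP
  haveI := hP
  -- the two paths
  let C1 : P ⊗[R] (N ⊗[R] (∀ i, Q i)) →ₗ[R] (∀ i, P ⊗[R] (N ⊗[R] Q i)) :=
    TensorProduct.piRightHom R R P (fun i => N ⊗[R] Q i) ∘ₗ
      LinearMap.lTensor P (TensorProduct.piRightHom R R N Q)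
  let C2 : P ⊗[R] (N ⊗[R] (∀ i, Q i)) →ₗ[R] (∀ i, P ⊗[R] (N ⊗[R] Q i)) :=
    (LinearEquiv.piCongrRight fun i => TensorProduct.leftComm R N P (Q i)).toLinearMap ∘ₗ
      TensorProduct.piRightHom R R N (fun i => P ⊗[R] Q i) ∘ₗ
      LinearMap.lTensor N (TensorProduct.piRightHom R R P Q) ∘ₗ
      (TensorProduct.leftComm R P N (∀ i, Q i)).toLinearMap
  have hC : C1 = C2 := by
    apply TensorProduct.ext_threefold'
    intro p n q
    ext i
    simp [C1, C2]
  have hC2 : Function.Injective C2 := by
    simp only [C2, LinearMap.coe_comp, LinearEquiv.coe_coe]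
    refine (LinearEquiv.injective _).comp ((hN ι _).comp (Function.Injective.comp ?_
      (LinearEquiv.injective _)))
    exact lTensor_injective_of_bijective N _ (piRightHom_bijective_of_finitePresentation Q)
  have hC1 : Function.Injective C1 := hC ▸ hC2
  simp only [C1, LinearMap.coe_comp] at hC1
  exact Function.Injective.of_comp hC1

end


/-- The tensor product of two Mittag-Leffler modules over a commutative ring is Mittag-Leffler. -/
theorem result (R : Type u) [CommRing R] (M N : Type u) [AddCommGroup M] [Module R M]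
    [AddCommGroup N] [Module R N] (hM : CAlg.IsMittagLeffler R M) (hN : CAlg.IsMittagLeffler R N) :
    CAlg.IsMittagLeffler R (M ⊗[R] N) := by
  intro ι Q _ _
  let C1 : (M ⊗[R] N) ⊗[R] (∀ i, Q i) →ₗ[R] (∀ i, (M ⊗[R] N) ⊗[R] Q i) :=
    TensorProduct.piRightHom R R (M ⊗[R] N) Q
  let C2 : (M ⊗[R] N) ⊗[R] (∀ i, Q i) →ₗ[R] (∀ i, (M ⊗[R] N) ⊗[R] Q i) :=
    (LinearEquiv.piCongrRight fun i => (TensorProduct.assoc R M N (Q i)).symm).toLinearMap ∘ₗ
      TensorProduct.piRightHom R R M (fun i => N ⊗[R] Q i) ∘ₗ
      LinearMap.lTensor M (TensorProduct.piRightHom R R N Q) ∘ₗ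
      (TensorProduct.assoc R M N (∀ i, Q i)).toLinearMap
  have hC : C1 = C2 := by
    apply TensorProduct.ext_threefold
    intro m n q
    ext i
    simp [C1, C2]
  have hC2 : Function.Injective C2 := by
    simp only [C2, LinearMap.coe_comp, LinearEquiv.coe_coe]
    exact (LinearEquiv.injective _).comp ((hM ι _).comp (Function.Injective.comp
      (lTensor_piRightHom_injective N hN Q M) (LinearEquiv.injective _)))
  have hC1 : Function.Injective C1 := hC ▸ hC2
  exact hC1

end Groth.Agent.S6343
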