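import Groth.Statements.S6345
import Mathlib.LinearAlgebra.TensorProduct.Quotient
import Mathlib.LinearAlgebra.TensorProduct.Pi
import Mathlib.LinearAlgebra.TensorProduct.Tower

set_option autoImplicit false
universe u
open CAlg

namespace Groth.Agent.S6345

open TensorProduct

section

variable {R : Type u} [CommRing R]

lemma mem_smul_top_iff_finset (s : Finset R) {N : Type u} [AddCommGroup N] [Module R N] (x : N) :
    x ∈ (Ideal.span (s : Set R)) • (⊤ : Submodule R N) ↔ ∃ c : R → N, x = ∑ f ∈ s, f • c f := by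
  constructor
  · intro hx
    refine Submodule.smul_induction_on hx ?_ ?_
    · intro r hr n _
      obtain ⟨a, -, ha⟩ := Submodule.mem_span_finset.mp hr
      refine ⟨fun f => a f • n, ?_⟩
      rw [← ha, Finset.sum_smul]
      refine Finset.sum_congr rfl fun f _ => ?_
      rw [smul_eq_mul, mul_comm, mul_smul]
    · rintro x y ⟨c, rfl⟩ ⟨d, rfl⟩
      refine ⟨c + d, ?_⟩
      simp [smul_add, Finset.sum_add_distrib]
  · rintro ⟨c, rfl⟩
    exact Submodule.sum_mem _ fun f hf =>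
      Submodule.smul_mem_smul (Ideal.subset_span hf) Submodule.mem_top

lemma pi_mem_smul_top {I : Ideal R} (hI : I.FG) {ι : Type u} (Q : ι → Type u)
    [∀ i, AddCommGroup (Q i)] [∀ i, Module R (Q i)] (q : ∀ i, Q i)
    (hq : ∀ i, q i ∈ I • (⊤ : Submodule R (Q i))) : q ∈ I • (⊤ : Submodule R (∀ i, Q i)) := by
  obtain ⟨s, rfl⟩ := hI
  have h := fun i => (mem_smul_top_iff_finset s (q i)).mp (hq i)
  choose c hc using h
  rw [mem_smul_top_iff_finset]
  refine ⟨fun f i => c i f, ?_⟩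
  ext i
  rw [hc i, Finset.sum_apply]
  rfl

lemma one_tmul_eq_zero_iff (I : Ideal R) {N : Type u} [AddCommGroup N] [Module R N] (x : N) :
    (1 : R ⧸ I) ⊗ₜ[R] x = 0 ↔ x ∈ I • (⊤ : Submodule R N) := by
  rw [← (TensorProduct.quotTensorEquivQuotSMul N I).map_eq_zero_iff,
    TensorProduct.quotTensorEquivQuotSMul_mk_one_tmul, Submodule.Quotient.mk_eq_zero]

lemma exists_one_tmul (I : Ideal R) {N : Type u} [AddCommGroup N] [Module R N]
    (y : (R ⧸ I) ⊗[R] N) : ∃ x : N, y = (1 : R ⧸ I) ⊗ₜ[R] x := by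
  obtain ⟨x, rfl⟩ := TensorProduct.mk_surjective R N (R ⧸ I) Ideal.Quotient.mk_surjective y
  exact ⟨x, rfl⟩

lemma piRightHom_quot_bijective {I : Ideal R} (hI : I.FG) {ι : Type u} (Q : ι → Type u)
    [∀ i, AddCommGroup (Q i)] [∀ i, Module R (Q i)] :
    Function.Bijective (TensorProduct.piRightHom R R (R ⧸ I) Q) := by
  constructor
  · rw [injective_iff_map_eq_zero]
    intro y hy
    obtain ⟨q, rfl⟩ := exists_one_tmul I y
    rw [TensorProduct.piRightHom_tmul] at hy
    rw [one_tmul_eq_zero_iff]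
    apply pi_mem_smul_top hI
    intro i
    rw [← one_tmul_eq_zero_iff]
    exact congrFun hy i
  · intro y
    choose q hq using fun i => exists_one_tmul I (y i)
    refine ⟨(1 : R ⧸ I) ⊗ₜ[R] q, ?_⟩
    rw [TensorProduct.piRightHom_tmul]
    ext i
    exact (hq i).symm

end



section

variable {R : Type u} [CommRing R] (I : Ideal R)
  (M : Type u) [AddCommGroup M] [Module (R ⧸ I) M] [Module R M] [IsScalarTower R (R ⧸ I) M]

/-- variant of bijectivity for the `R ⧸ I`-linear version of the map -/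
lemma piRightHom_quot_bijective' {I : Ideal R} (hI : I.FG) {ι : Type u} (Q : ι → Type u)
    [∀ i, AddCommGroup (Q i)] [∀ i, Module R (Q i)] :
    Function.Bijective (TensorProduct.piRightHom R (R ⧸ I) (R ⧸ I) Q) := by
  have h := piRightHom_quot_bijective hI Q
  have : ⇑(TensorProduct.piRightHom R (R ⧸ I) (R ⧸ I) Q) =
      ⇑(TensorProduct.piRightHom R R (R ⧸ I) Q) := by
    ext x i
    induction x using TensorProduct.induction_on with
    | zero => simp
    | tmul a q => simp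
    | add x y hx hy => simp only [map_add, Pi.add_apply, hx, hy]
  rw [this]
  exact h

theorem ml_of_quot (hI : I.FG) (h : CAlg.IsMittagLeffler (R ⧸ I) M) : CAlg.IsMittagLeffler R M := by
  intro ι Q _ _
  let e1 : M ⊗[R] (∀ i, Q i) ≃ₗ[R ⧸ I] M ⊗[R ⧸ I] ((R ⧸ I) ⊗[R] (∀ i, Q i)) :=
    (TensorProduct.AlgebraTensorModule.cancelBaseChange R (R ⧸ I) (R ⧸ I) M (∀ i, Q i)).symm
  let ιeq : ((R ⧸ I) ⊗[R] (∀ i, Q i)) ≃ₗ[R ⧸ I] (∀ i, (R ⧸ I) ⊗[R] Q i) :=
    LinearEquiv.ofBijective (TensorProduct.piRightHom R (R ⧸ I) (R ⧸ I) Q)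
      (piRightHom_quot_bijective' hI Q)
  let e2 : M ⊗[R ⧸ I] ((R ⧸ I) ⊗[R] (∀ i, Q i)) ≃ₗ[R ⧸ I] M ⊗[R ⧸ I] (∀ i, (R ⧸ I) ⊗[R] Q i) :=
    TensorProduct.congr (LinearEquiv.refl _ _) ιeq
  let e3 : (∀ i, M ⊗[R ⧸ I] ((R ⧸ I) ⊗[R] Q i)) ≃ₗ[R ⧸ I] (∀ i, M ⊗[R] Q i) :=
    LinearEquiv.piCongrRight fun i =>
      TensorProduct.AlgebraTensorModule.cancelBaseChange R (R ⧸ I) (R ⧸ I) M (Q i)
  have hT := h ι (fun i => (R ⧸ I) ⊗[R] Q i)
  have key : ∀ x, TensorProduct.piRightHom R R M Q x =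
      e3 (TensorProduct.piRightHom (R ⧸ I) (R ⧸ I) M (fun i => (R ⧸ I) ⊗[R] Q i) (e2 (e1 x))) := by
    intro x
    induction x using TensorProduct.induction_on with
    | zero => simp
    | tmul m q =>
      ext i
      simp [e1, e2, e3, ιeq]
    | add x y hx hy => simp only [map_add, hx, hy]
  intro x y hxy
  apply e1.injective
  apply e2.injective
  apply hT
  apply e3.injective
  rw [← key, ← key, hxy]

end



section

variable {R : Type u} [CommRing R] (I : Ideal R)
  (M : Type u) [AddCommGroup M] [Module (R ⧸ I) M] [Module R M] [IsScalarTower R (R ⧸ I) M]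

theorem ml_quot_of_ml (h : CAlg.IsMittagLeffler R M) : CAlg.IsMittagLeffler (R ⧸ I) M := by
  intro ι Q _ _
  letI : ∀ i, Module R (Q i) := fun i => Module.compHom (Q i) (Ideal.Quotient.mk I)
  haveI : ∀ i, IsScalarTower R (R ⧸ I) (Q i) := fun i =>
    ⟨fun r s q => by
      show (Ideal.Quotient.mk I r * s) • q = Ideal.Quotient.mk I r • (s • q)
      rw [mul_smul]⟩
  have hsurj : Function.Surjective (algebraMap R (R ⧸ I)) := Ideal.Quotient.mk_surjective
  haveI : ∀ i, TensorProduct.CompatibleSMul R (R ⧸ I) M (Q i) := fun i =>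
    TensorProduct.CompatibleSMul.of_algebraMap_surjective (M := M) (N := Q i) hsurj
  haveI : TensorProduct.CompatibleSMul R (R ⧸ I) M (∀ i, Q i) :=
    TensorProduct.CompatibleSMul.of_algebraMap_surjective (M := M) (N := ∀ i, Q i) hsurj
  let e1 : M ⊗[R ⧸ I] (∀ i, Q i) ≃ₗ[R ⧸ I] M ⊗[R] (∀ i, Q i) :=
    TensorProduct.equivOfCompatibleSMul R (R ⧸ I) (R ⧸ I) M (∀ i, Q i)
  let e3 : (∀ i, M ⊗[R ⧸ I] Q i) ≃ₗ[R ⧸ I] (∀ i, M ⊗[R] Q i) :=
    LinearEquiv.piCongrRight fun i =>
      TensorProduct.equivOfCompatibleSMul R (R ⧸ I) (R ⧸ I) M (Q i)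
  have hT := h ι Q
  have key : ∀ x, e3 (TensorProduct.piRightHom (R ⧸ I) (R ⧸ I) M Q x) =
      TensorProduct.piRightHom R R M Q (e1 x) := by
    intro x
    induction x using TensorProduct.induction_on with
    | zero => simp
    | tmul m q =>
      ext i
      simp [e1, e3, TensorProduct.equivOfCompatibleSMul]
    | add x y hx hy => simp only [map_add, hx, hy]
  intro x y hxy
  apply e1.injective
  apply hT
  rw [← key, ← key, hxy]

end


/-- Let I be a finitely generated ideal of a commutative ring R and M an R/I-module. Then M is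
Mittag-Leffler over R if and only if it is Mittag-Leffler over R/I. -/
theorem result (R : Type u) [CommRing R] (I : Ideal R) (hI : I.FG)
    (M : Type u) [AddCommGroup M] [Module (R ⧸ I) M] [Module R M] [IsScalarTower R (R ⧸ I) M] :
    CAlg.IsMittagLeffler R M ↔ CAlg.IsMittagLeffler (R ⧸ I) M := by
  exact ⟨ml_quot_of_ml I M, ml_of_quot I M hI⟩

end Groth.Agent.S6345
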