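import Groth.Statements.S6346
import Groth.Agent.Lib.Helper14.MLProd
import Mathlib.RingTheory.Flat.Basic

set_option autoImplicit false
universe u
open scoped TensorProduct
open CAlg

namespace Groth.Agent.S6346

open TensorProduct Groth.Agent.Lib.Helper14.MLProd

section

variable {R : Type u} [CommRing R] {M : Type u} [AddCommGroup M] [Module R M]

/-- compatibility of the comparison map with a map into a product -/
lemma piRightHom_comm_rTensor {F : Type u} [AddCommGroup F] [Module R F]
    {ι : Type u} (Q : ι → Type u) [∀ i, AddCommGroup (Q i)] [∀ i, Module R (Q i)]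
    (φ : ∀ i, F →ₗ[R] Q i) (x : F ⊗[R] M) (i : ι) :
    TensorProduct.piRightHom R R M Q
      (TensorProduct.comm R _ _ (LinearMap.rTensor M (LinearMap.pi φ) x)) i =
      TensorProduct.comm R _ _ (LinearMap.rTensor M (φ i) x) := by
  induction x using TensorProduct.induction_on with
  | zero => simp
  | tmul a m => simp
  | add y z hy hz => simp only [map_add, Pi.add_apply, hy, hz]

end



section

variable {R : Type u} [CommRing R] {M : Type u} [AddCommGroup M] [Module R M]

theorem smallest_of_ml [Module.Flat R M] (h : CAlg.IsMittagLeffler R M) (n : ℕ)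
    (x : (Fin n → R) ⊗[R] M) :
    ∃ F' : Submodule R (Fin n → R),
        x ∈ LinearMap.range (F'.subtype.rTensor M) ∧
        ∀ F'' : Submodule R (Fin n → R), x ∈ LinearMap.range (F''.subtype.rTensor M) → F' ≤ F'' := by
  -- index type: submodules containing x
  let 𝓕 := {F'' : Submodule R (Fin n → R) // x ∈ LinearMap.range (F''.subtype.rTensor M)}
  let Q : 𝓕 → Type u := fun F'' => (Fin n → R) ⧸ F''.1
  let φ : ∀ F'' : 𝓕, (Fin n → R) →ₗ[R] Q F'' := fun F'' => F''.1.mkQ
  let F' : Submodule R (Fin n → R) := LinearMap.ker (LinearMap.pi φ)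
  have hF' : ∀ F'' : 𝓕, F' ≤ F''.1 := by
    intro F'' v hv
    have h1 : LinearMap.pi φ v = 0 := hv
    have h2 : φ F'' v = 0 := by
      have := congrFun h1 F''
      simpa using this
    exact (Submodule.Quotient.mk_eq_zero _).mp h2
  refine ⟨F', ?_, fun F'' hF'' => hF' ⟨F'', hF''⟩⟩
  have hex : Function.Exact (F'.subtype.rTensor M) ((LinearMap.pi φ).rTensor M) :=
    Module.Flat.rTensor_exact M (LinearMap.exact_subtype_ker_map (LinearMap.pi φ))
  rw [LinearMap.mem_range]
  apply (hex x).mp
  apply (TensorProduct.comm R (∀ F'' : 𝓕, Q F'') M).injective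
  apply h 𝓕 Q
  rw [map_zero, map_zero]
  ext F''
  rw [piRightHom_comm_rTensor]
  obtain ⟨t, ht⟩ := F''.2
  have h3 : LinearMap.rTensor M (φ F'') x =
      LinearMap.rTensor M (φ F'') (LinearMap.rTensor M F''.1.subtype t) := by rw [ht]
  rw [h3, ← LinearMap.comp_apply, ← LinearMap.rTensor_comp]
  have : φ F'' ∘ₗ F''.1.subtype = 0 := by
    ext v : 1
    exact (Submodule.Quotient.mk_eq_zero _).mpr v.2
  rw [this, LinearMap.rTensor_zero]
  simp

theorem ml_of_smallest [Module.Flat R M]
    (H : ∀ (n : ℕ) (x : (Fin n → R) ⊗[R] M), ∃ F' : Submodule R (Fin n → R),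
        x ∈ LinearMap.range (F'.subtype.rTensor M) ∧
        ∀ F'' : Submodule R (Fin n → R), x ∈ LinearMap.range (F''.subtype.rTensor M) → F' ≤ F'') :
    CAlg.IsMittagLeffler R M := by
  intro ι Q _ _
  rw [injective_iff_map_eq_zero]
  intro x hx
  -- write `comm x` as a finite sum
  obtain ⟨S, hS⟩ := TensorProduct.exists_finset (TensorProduct.comm R M (∀ i, Q i) x)
  classical
  -- enumerate
  let n := S.card
  let e : Fin n ≃ S := (Finset.equivFin S).symm
  let q : Fin n → (∀ i, Q i) := fun j => (e j).1.1
  let m : Fin n → M := fun j => (e j).1.2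
  let ψ : (Fin n → R) →ₗ[R] (∀ i, Q i) := Fintype.linearCombination R q
  let y : (Fin n → R) ⊗[R] M := ∑ j, (Pi.single j (1 : R)) ⊗ₜ[R] m j
  have hy : LinearMap.rTensor M ψ y = TensorProduct.comm R M (∀ i, Q i) x := by
    rw [hS]
    simp only [y, map_sum, LinearMap.rTensor_tmul]
    have : ∀ j, ψ (Pi.single j (1 : R)) = q j := by
      intro j
      simp [ψ, Fintype.linearCombination_apply_single]
    simp_rw [this]
    rw [← Finset.sum_coe_sort S, ← Equiv.sum_comp e]
  obtain ⟨F', ⟨t, ht⟩, hmin⟩ := H n y
  have hle : F' ≤ LinearMap.ker ψ := by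
    intro v hv
    rw [LinearMap.mem_ker]
    ext i
    have hi : F' ≤ LinearMap.ker (LinearMap.proj i ∘ₗ ψ) := by
      apply hmin
      have hex : Function.Exact ((LinearMap.ker (LinearMap.proj i ∘ₗ ψ)).subtype.rTensor M)
          ((LinearMap.proj i ∘ₗ ψ).rTensor M) :=
        Module.Flat.rTensor_exact M (LinearMap.exact_subtype_ker_map _)
      rw [LinearMap.mem_range]
      apply (hex y).mp
      apply (TensorProduct.comm R (Q i) M).injective
      rw [map_zero]
      have h1 := piRightHom_comm_rTensor (M := M) Q (fun i => LinearMap.proj i ∘ₗ ψ) y i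
      have h2 : LinearMap.pi (fun i => LinearMap.proj i ∘ₗ ψ) = ψ := by
        ext v i
        simp
      rw [h2, hy, TensorProduct.comm_comm, hx] at h1
      exact h1.symm
    have := hi hv
    simpa using this
  have hx' : TensorProduct.comm R M (∀ i, Q i) x = 0 := by
    rw [← hy, ← ht, ← LinearMap.comp_apply, ← LinearMap.rTensor_comp]
    have : ψ ∘ₗ F'.subtype = 0 := by
      ext v : 1
      exact hle v.2
    rw [this, LinearMap.rTensor_zero, LinearMap.zero_apply]
  exact (TensorProduct.comm R M (∀ i, Q i)).injective (by rw [hx', map_zero])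

end


/-- Let M be a flat module over a commutative ring R. Then M is Mittag-Leffler exactly when, for each
finite free module F = R^n and each element x of F ⊗ M there is a smallest submodule F' of F such
that x lies in the image of F' ⊗ M → F ⊗ M. -/
theorem result (R : Type u) [CommRing R] (M : Type u)
    [AddCommGroup M] [Module R M] [Module.Flat R M] :
    CAlg.IsMittagLeffler R M ↔
      ∀ (n : ℕ) (x : (Fin n → R) ⊗[R] M), ∃ F' : Submodule R (Fin n → R),
        x ∈ LinearMap.range (F'.subtype.rTensor M) ∧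
        ∀ F'' : Submodule R (Fin n → R), x ∈ LinearMap.range (F''.subtype.rTensor M) → F' ≤ F'' := by
  exact ⟨fun h n x => smallest_of_ml h n x, ml_of_smallest⟩

end Groth.Agent.S6346
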