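import Groth.Statements.S6348
import Mathlib.LinearAlgebra.TensorProduct.Pi
import Mathlib.LinearAlgebra.TensorProduct.Tower

set_option autoImplicit false
universe u
open scoped TensorProduct
open CAlg

namespace Groth.Agent.S6348

section

variable (R S : Type u) [CommRing R] [CommRing S] [Algebra R S] (M : Type u)
    [AddCommGroup M] [Module R M]

/-- `(S ⊗[R] M) ⊗[S] N ≃ M ⊗[R] N` -/
noncomputable def e (N : Type u) [AddCommGroup N] [Module S N] [Module R N] [IsScalarTower R S N] :
    (S ⊗[R] M) ⊗[S] N ≃+ M ⊗[R] N :=
  ((TensorProduct.comm S (S ⊗[R] M) N).toAddEquiv.trans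
    (TensorProduct.AlgebraTensorModule.cancelBaseChange R S S N M).toAddEquiv).trans
    (TensorProduct.comm R N M).toAddEquiv

lemma e_tmul (N : Type u) [AddCommGroup N] [Module S N] [Module R N] [IsScalarTower R S N]
    (s : S) (m : M) (n : N) : e R S M N ((s ⊗ₜ[R] m) ⊗ₜ[S] n) = m ⊗ₜ[R] (s • n) := by
  simp [e]

end


/-- For a ring map R → S and a Mittag-Leffler R-module M, the S-module S ⊗_R M is Mittag-Leffler. (The
companion parts on flat modules, projective modules and direct sums of countably generated modules
are standard base-change facts.) -/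
theorem result (R S : Type u) [CommRing R] [CommRing S] [Algebra R S] (M : Type u)
    [AddCommGroup M] [Module R M] (hM : CAlg.IsMittagLeffler R M) :
    CAlg.IsMittagLeffler S (S ⊗[R] M) := by
  intro ι Q _ _
  letI : ∀ i, Module R (Q i) := fun i => Module.compHom (Q i) (algebraMap R S)
  haveI : ∀ i, IsScalarTower R S (Q i) := fun i =>
    ⟨fun r s q => by
      show (r • s) • q = algebraMap R S r • (s • q)
      rw [Algebra.smul_def, mul_smul]⟩
  have hT := hM ι Q
  have key : ∀ x : (S ⊗[R] M) ⊗[S] (∀ i, Q i),
      (fun i => e R S M (Q i) (TensorProduct.piRightHom S S (S ⊗[R] M) Q x i)) =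
        TensorProduct.piRightHom R R M Q (e R S M (∀ i, Q i) x) := by
    intro x
    induction x using TensorProduct.induction_on with
    | zero => ext i; simp
    | tmul t q =>
      induction t using TensorProduct.induction_on with
      | zero => ext i; simp
      | tmul s m =>
        ext i
        rw [TensorProduct.piRightHom_tmul, e_tmul, e_tmul, TensorProduct.piRightHom_tmul]
        rfl
      | add t t' ht ht' =>
        have h3 : (fun i => e R S M (Q i)
            (TensorProduct.piRightHom S S (S ⊗[R] M) Q ((t + t') ⊗ₜ[S] q) i)) =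
            (fun i => e R S M (Q i) (TensorProduct.piRightHom S S (S ⊗[R] M) Q (t ⊗ₜ[S] q) i)) +
            (fun i => e R S M (Q i)
              (TensorProduct.piRightHom S S (S ⊗[R] M) Q (t' ⊗ₜ[S] q) i)) := by
          ext i
          simp [TensorProduct.add_tmul]
        rw [h3, ht, ht', TensorProduct.add_tmul, map_add, map_add]
    | add y z hy hz =>
      have h3 : (fun i => e R S M (Q i)
          (TensorProduct.piRightHom S S (S ⊗[R] M) Q (y + z) i)) =
          (fun i => e R S M (Q i) (TensorProduct.piRightHom S S (S ⊗[R] M) Q y i)) +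
          (fun i => e R S M (Q i) (TensorProduct.piRightHom S S (S ⊗[R] M) Q z i)) := by
        ext i
        simp
      rw [h3, hy, hz, map_add, map_add]
  intro x y hxy
  apply (e R S M (∀ i, Q i)).injective
  apply hT
  rw [← key, ← key, hxy]

end Groth.Agent.S6348
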