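import Groth.Statements.S6353
-- import your own Groth.Agent.* helpers here

set_option autoImplicit false
universe u
open CAlg

namespace Groth.Agent.S6353


/-- The ideal `{x | x ∈ x J}`. -/
def idealOf {R : Type u} [CommRing R] (J : Ideal R) : Ideal R where
  carrier := {x | ∃ f ∈ J, x = x * f}
  add_mem' := by
    rintro x y ⟨f, hf, hx⟩ ⟨g, hg, hy⟩
    refine ⟨f + g - f * g, sub_mem (add_mem hf hg) (J.mul_mem_right _ hf), ?_⟩
    linear_combination (1 - g) * hx + (1 - f) * hy
  zero_mem' := ⟨0, zero_mem _, by simp⟩
  smul_mem' := by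
    rintro a x ⟨f, hf, hx⟩
    refine ⟨f, hf, ?_⟩
    rw [smul_eq_mul]
    linear_combination a * hx

theorem mem_idealOf {R : Type u} [CommRing R] (J : Ideal R) (x : R) :
    x ∈ idealOf J ↔ ∃ f ∈ J, x = x * f := Iff.rfl

/-- The multiplicative set `(R ∖ p)(1 + J)`. -/
def mulSet {R : Type u} [CommRing R] (p : Ideal R) [p.IsPrime] (J : Ideal R) : Submonoid R where
  carrier := {z | ∃ s j, s ∉ p ∧ j ∈ J ∧ z = s * (1 + j)}
  mul_mem' := by
    rintro _ _ ⟨s, j, hs, hj, rfl⟩ ⟨s', j', hs', hj', rfl⟩
    refine ⟨s * s', j + j' + j * j', ?_, add_mem (add_mem hj hj') (J.mul_mem_right _ hj), by ring⟩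
    intro h
    rcases Ideal.IsPrime.mem_or_mem inferInstance h with h | h
    · exact hs h
    · exact hs' h
  one_mem' := ⟨1, 0, fun h => (Ideal.IsPrime.ne_top inferInstance) ((Ideal.eq_top_iff_one p).mpr h),
    zero_mem _, by simp⟩

open PrimeSpectrum in
/-- For a commutative ring R, I ↦ V(I) is a bijection between pure ideals (R/I flat over R) and closed
subsets of Spec R stable under generalization. Stated here as: V(I) is stable under generalization
for I pure, and every closed generalization-stable subset is V(I) for some pure I (injectivity on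
pure ideals being the standard fact that pure ideals with the same zero locus coincide). -/
theorem result (R : Type u) [CommRing R] :
    (∀ I : Ideal R, I.Pure → StableUnderGeneralization (zeroLocus (I : Set R))) ∧
      ∀ Z : Set (PrimeSpectrum R), IsClosed Z → StableUnderGeneralization Z →
        ∃ I : Ideal R, I.Pure ∧ zeroLocus (I : Set R) = Z := by
  classical
  constructor
  · intro I hI q q' hspec hq
    haveI : I.Pure := hI
    rw [mem_zeroLocus] at hq ⊢
    have hle : q'.asIdeal ≤ q.asIdeal := (le_iff_specializes q' q).mpr hspec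
    intro x hx
    obtain ⟨y, hy, hxy⟩ := Ideal.exists_eq_mul_of_pure hx
    have h0 : x * (1 - y) ∈ q'.asIdeal := by
      have : x * (1 - y) = 0 := by linear_combination hxy
      rw [this]; exact zero_mem _
    rcases q'.2.mem_or_mem h0 with h | h
    · exact h
    · exfalso
      have h1 : (1 - y) ∈ q.asIdeal := hle h
      have h2 : y ∈ q.asIdeal := hq hy
      have : (1 : R) ∈ q.asIdeal := by
        have := add_mem h1 h2
        simpa using this
      exact q.2.ne_top ((Ideal.eq_top_iff_one _).mpr this)
  · intro Z hZ hgen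
    set J := vanishingIdeal Z with hJ
    have hZJ : zeroLocus (J : Set R) = Z := by
      rw [hJ, zeroLocus_vanishingIdeal_eq_closure, hZ.closure_eq]
    have hIJ : idealOf J ≤ J := by
      rintro x ⟨f, hf, hx⟩
      rw [hx]; exact J.mul_mem_left _ hf
    have hV : zeroLocus (idealOf J : Set R) = Z := by
      apply Set.Subset.antisymm
      · intro p hp
        rw [mem_zeroLocus] at hp
        -- the multiplicative set avoids 0
        have hdisj : Disjoint ((⊥ : Ideal R) : Set R) (mulSet p.asIdeal J) := by
          rw [Set.disjoint_left]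
          rintro z hz ⟨s, j, hs, hj, rfl⟩
          have hz0 : s * (1 + j) = 0 := hz
          apply hs
          apply hp
          exact ⟨-j, neg_mem hj, by linear_combination hz0⟩
        obtain ⟨q, hqprime, -, hqdisj⟩ := Ideal.exists_le_prime_disjoint ⊥ (mulSet p.asIdeal J) hdisj
        have hqp : q ≤ p.asIdeal := by
          intro x hx
          by_contra hxp
          exact Set.disjoint_left.mp hqdisj hx ⟨x, 0, hxp, zero_mem _, by simp⟩
        have hqJ : q ⊔ J ≠ ⊤ := by
          intro htop
          have h1 : (1 : R) ∈ q ⊔ J := by rw [htop]; trivial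
          obtain ⟨a, ha, j, hj, haj⟩ := Submodule.mem_sup.mp h1
          refine Set.disjoint_left.mp hqdisj ha ⟨1, -j, ?_, neg_mem hj, ?_⟩
          · intro h1p
            exact p.2.ne_top ((Ideal.eq_top_iff_one _).mpr h1p)
          · linear_combination haj
        obtain ⟨m, hm, hle⟩ := Ideal.exists_le_maximal _ hqJ
        have hmZ : (⟨m, hm.isPrime⟩ : PrimeSpectrum R) ∈ Z := by
          rw [← hZJ, mem_zeroLocus]
          exact fun x hx => hle (Ideal.mem_sup_right hx)
        have hqZ : (⟨q, hqprime⟩ : PrimeSpectrum R) ∈ Z := by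
          refine hgen ?_ hmZ
          rw [← le_iff_specializes]
          exact fun x hx => hle (Ideal.mem_sup_left hx)
        rw [← hZJ, mem_zeroLocus] at hqZ ⊢
        exact le_trans hqZ hqp
      · rw [← hZJ]
        exact zeroLocus_anti_mono hIJ
    refine ⟨idealOf J, ?_, hV⟩
    apply Ideal.Pure.of_inf_eq_mul
    intro K _
    apply le_antisymm
    · rintro x ⟨hxI, hxK⟩
      obtain ⟨f, hf, hx⟩ := hxI
      -- f ∈ J = radical (idealOf J)
      have hrad : f ∈ (idealOf J).radical := by
        rw [← vanishingIdeal_zeroLocus_eq_radical, hV]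
        exact hf
      obtain ⟨n, hn⟩ := hrad
      have hxn : ∀ k : ℕ, x = x * f ^ k := by
        intro k
        induction k with
        | zero => simp
        | succ k ih => rw [pow_succ, ← mul_assoc, ← ih, ← hx]
      have hx' : x = f ^ n * x := by rw [mul_comm]; exact hxn n
      rw [hx']
      exact Ideal.mul_mem_mul hn hxK
    · exact Ideal.mul_le_inf

end Groth.Agent.S6353
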