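import Groth.Statements.S6354
import Mathlib.RingTheory.Ideal.IdempotentFG
-- import your own Groth.Agent.* helpers here

set_option autoImplicit false
universe u
open CAlg

namespace Groth.Agent.S6354

open PrimeSpectrum in
/-- For an ideal I of a commutative ring R these four conditions are equivalent: (1) I is finitely
generated and pure; (2) I = (e) for some idempotent e; (3) I is pure with V(I) open in Spec R; (4)
R/I is projective as an R-module. -/
theorem result (R : Type u) [CommRing R] (I : Ideal R) :
    List.TFAE [I.Pure ∧ I.FG, ∃ e : R, IsIdempotentElem e ∧ I = Ideal.span {e},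
      I.Pure ∧ IsOpen (zeroLocus (I : Set R)), Module.Projective R (R ⧸ I)] := by
  classical
  have h21' : ∀ e : R, IsIdempotentElem e →
      (Ideal.span {e} : Ideal R).Pure ∧ (Ideal.span {e} : Ideal R).FG := by
    intro e he
    have hfg : (Ideal.span {e} : Ideal R).FG := ⟨{e}, by simp⟩
    refine ⟨Ideal.Pure.of_isIdempotentElem hfg ?_, hfg⟩
    rw [Ideal.isIdempotentElem_iff_of_fg _ hfg]
    exact ⟨e, he, rfl⟩
  have h21 : (∃ e : R, IsIdempotentElem e ∧ I = Ideal.span {e}) → I.Pure ∧ I.FG := by
    rintro ⟨e, he, rfl⟩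
    exact h21' e he
  tfae_have 1 → 2 := by
    rintro ⟨hp, hfg⟩
    haveI : I.Pure := hp
    exact (Ideal.isIdempotentElem_iff_of_fg I hfg).mp (Ideal.isIdempotentElem_of_pure I)
  tfae_have 2 → 1 := h21
  tfae_have 2 → 3 := by
    intro h
    refine ⟨(h21 h).1, ?_⟩
    obtain ⟨e, he, rfl⟩ := h
    rw [zeroLocus_span]
    have : IsClopen (zeroLocus ({e} : Set R)) := by
      rw [isClopen_iff_mul_add_zeroLocus]
      exact ⟨e, 1 - e, by rw [mul_sub, mul_one, he.eq, sub_self], by ring, rfl⟩
    exact this.isOpen
  tfae_have 3 → 2 := by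
    rintro ⟨hp, hopen⟩
    haveI : I.Pure := hp
    have hclopen : IsClopen (zeroLocus (I : Set R)) := ⟨isClosed_zeroLocus _, hopen⟩
    obtain ⟨e, f, hmul, hadd, hV⟩ := isClopen_iff_mul_add_zeroLocus.mp hclopen
    have he : IsIdempotentElem e := (IsIdempotentElem.of_mul_add hmul hadd).1
    refine ⟨e, he, ?_⟩
    haveI : (Ideal.span {e} : Ideal R).Pure := (h21' e he).1
    rw [← Ideal.zeroLocus_inj_of_pure, hV, zeroLocus_span]
  tfae_have 2 → 4 := by
    rintro ⟨e, he, rfl⟩
    let i : (R ⧸ Ideal.span {e}) →ₗ[R] R :=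
      Submodule.liftQ _ (LinearMap.toSpanSingleton R R (1 - e)) (by
        rw [Ideal.span, Submodule.span_le]
        rintro x hx
        rw [Set.mem_singleton_iff] at hx
        subst hx
        show (LinearMap.toSpanSingleton R R (1 - x)) x = 0
        have hxx : x * x = x := he.eq
        rw [LinearMap.toSpanSingleton_apply, smul_eq_mul]
        linear_combination -hxx)
    refine Module.Projective.of_split i (Submodule.mkQ _) ?_
    ext
    show Submodule.Quotient.mk (i (Submodule.Quotient.mk 1)) = Submodule.Quotient.mk 1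
    have : i (Submodule.Quotient.mk 1) = 1 - e := by
      show (LinearMap.toSpanSingleton R R (1 - e)) 1 = 1 - e
      simp
    rw [this, Submodule.Quotient.eq]
    have h2 : (1 - e) - 1 = -e := by ring
    rw [h2]
    exact neg_mem (Ideal.subset_span rfl)
  tfae_have 4 → 2 := by
    intro hproj
    obtain ⟨σ, hσ⟩ := (Submodule.mkQ I).exists_rightInverse_of_surjective
      (LinearMap.range_eq_top.mpr (Submodule.mkQ_surjective I))
    have hf1 : (1 : R) - σ 1 ∈ I := by
      rw [← Ideal.Quotient.eq]
      have := LinearMap.congr_fun hσ 1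
      exact this.symm
    have hxf : ∀ x ∈ I, x * σ 1 = 0 := by
      intro x hx
      rw [← smul_eq_mul, ← map_smul]
      have : x • (1 : R ⧸ I) = 0 := by
        rw [← Algebra.algebraMap_eq_smul_one, Ideal.Quotient.algebraMap_eq]
        exact Ideal.Quotient.eq_zero_iff_mem.mpr hx
      rw [this, map_zero]
    refine ⟨1 - σ 1, ?_, ?_⟩
    · show (1 - σ 1) * (1 - σ 1) = 1 - σ 1
      have := hxf _ hf1
      linear_combination -this
    · apply le_antisymm
      · intro x hx
        rw [Ideal.mem_span_singleton']
        exact ⟨x, by have := hxf x hx; linear_combination -this⟩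
      · rw [Ideal.span_singleton_le_iff_mem]
        exact hf1
  tfae_finish

end Groth.Agent.S6354
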