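import Groth.Statements.S6362
import Mathlib.FieldTheory.PrimitiveElement
import Mathlib.FieldTheory.Fixed
import Mathlib.LinearAlgebra.Dimension.Constructions
import Mathlib.RingTheory.TensorProduct.Free
import Mathlib.LinearAlgebra.Dual.Lemmas
-- import your own Groth.Agent.* helpers here

set_option autoImplicit false
universe u
open scoped TensorProduct
open Fields

namespace Groth.Agent.S6362

/-- Let K/F be a finite separable extension and L/F an extension with L algebraically closed. Then the
L-algebra map K ⊗_F L → ∏_σ L, indexed by the F-algebra maps σ : K → L and sending a ⊗ b to (σ(a)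
b)_σ, is an isomorphism; stated as bijectivity of that map. -/
theorem result {F K L : Type u} [Field F] [Field K] [Field L]
    [Algebra F K] [Algebra F L] [FiniteDimensional F K] [Algebra.IsSeparable F K] [IsAlgClosed L] :
    Function.Bijective (fun x : K ⊗[F] L => fun σ : K →ₐ[F] L =>
      Algebra.TensorProduct.lift σ (AlgHom.id F L) (fun a b => Commute.all (σ a) b) x) := by
  classical
  let Ψ : L ⊗[F] K →ₗ[L] ((K →ₐ[F] L) → L) := LinearMap.pi (fun σ =>
    (Algebra.TensorProduct.lift (Algebra.ofId L L) σ (fun _ _ => Commute.all _ _)).toLinearMap)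
  have hΨ : ∀ (b : L) (a : K) (σ : K →ₐ[F] L), Ψ (b ⊗ₜ a) σ = b * σ a := by
    intro b a σ
    simp [Ψ]
  have hsurj : Function.Surjective Ψ := by
    rw [← LinearMap.range_eq_top]
    by_contra hne
    obtain ⟨f, hf0, hf⟩ := Submodule.exists_le_ker_of_lt_top _ (lt_top_iff_ne_top.mpr hne)
    apply hf0
    have hli := linearIndependent_toLinearMap F K L
    rw [Fintype.linearIndependent_iff] at hli
    have hc : ∀ σ : K →ₐ[F] L, f (fun τ => if σ = τ then 1 else 0) = 0 := by
      apply hli (fun σ => f (fun τ => if σ = τ then 1 else 0))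
      ext a
      have h0 : f (Ψ (1 ⊗ₜ a)) = 0 := hf (LinearMap.mem_range_self _ _)
      rw [LinearMap.pi_apply_eq_sum_univ f] at h0
      simp only [hΨ, one_mul, smul_eq_mul] at h0
      simp only [LinearMap.sum_apply, LinearMap.smul_apply, AlgHom.toLinearMap_apply,
        smul_eq_mul, LinearMap.zero_apply]
      refine Eq.trans ?_ h0
      exact Finset.sum_congr rfl (fun σ _ => mul_comm _ _)
    refine LinearMap.ext fun v => ?_
    rw [LinearMap.pi_apply_eq_sum_univ f v]
    simp [hc]
  have hbij : Function.Bijective Ψ := by
    refine ⟨?_, hsurj⟩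
    rw [LinearMap.injective_iff_surjective_of_finrank_eq_finrank]
    · exact hsurj
    · rw [Module.finrank_baseChange, Module.finrank_fintype_fun_eq_card, AlgHom.card]
  have hcomp : ∀ x : K ⊗[F] L, (fun σ : K →ₐ[F] L =>
      Algebra.TensorProduct.lift σ (AlgHom.id F L) (fun a b => Commute.all (σ a) b) x) =
      Ψ (TensorProduct.comm F K L x) := by
    intro x
    induction x using TensorProduct.induction_on with
    | zero => funext σ; simp
    | tmul a b => funext σ; simp [hΨ, mul_comm]
    | add x y hx hy =>
      funext σ
      have hx' := congrFun hx σ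
      have hy' := congrFun hy σ
      simp only [map_add, Pi.add_apply] at hx' hy' ⊢
      rw [hx', hy']
  have : (fun x : K ⊗[F] L => fun σ : K →ₐ[F] L =>
      Algebra.TensorProduct.lift σ (AlgHom.id F L) (fun a b => Commute.all (σ a) b) x) =
      Ψ ∘ (TensorProduct.comm F K L) := funext hcomp
  rw [this]
  exact hbij.comp (TensorProduct.comm F K L).bijective

end Groth.Agent.S6362
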