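import Groth.Statements.S6363
-- import your own Groth.Agent.* helpers here

set_option autoImplicit false
universe u
open scoped TensorProduct
open Fields

namespace Groth.Agent.S6363

/-- For a finite field extension L/K and a normal closure M of L/K, some K-algebra homomorphism from the
n-fold tensor power L ⊗_K ⋯ ⊗_K L to M is surjective, where n = [L : K]_s is the separable degree
(so n ≤ [L : K]). -/
theorem result {K L M : Type u} [Field K] [Field L] [Field M]
    [Algebra K L] [Algebra K M] [Algebra L M] [IsScalarTower K L M] [FiniteDimensional K L]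
    [IsNormalClosure K L M] :
    ∃ f : (⨂[K] _ : Fin (Field.finSepDegree K L), L) →ₐ[K] M, Function.Surjective f := by
  classical
  have hnc : IsNormalClosure K L M := inferInstance
  have hsplit : ∀ x : L, ((minpoly K x).map (algebraMap K M)).Splits := hnc.splits
  haveI : Normal K M := hnc.normal
  have htop : IntermediateField.normalClosure K L M = ⊤ := (Algebra.IsAlgebraic.isNormalClosure_iff.mp hnc).2
  let Ω := AlgebraicClosure M
  have e1 : (L →ₐ[K] M) ≃ (L →ₐ[K] Ω) :=
    Algebra.IsAlgebraic.algHomEquivAlgHomOfSplits Ω M hsplit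
  have hcard : Nat.card (L →ₐ[K] M) = Field.finSepDegree K L := by
    rw [Field.finSepDegree_eq_of_isAlgClosed K L Ω]; exact Nat.card_congr e1
  have e : Fin (Field.finSepDegree K L) ≃ (L →ₐ[K] M) := (Finite.equivFinOfCardEq hcard).symm
  let s : MultilinearMap K (fun _ : Fin (Field.finSepDegree K L) => L) M :=
    (MultilinearMap.mkPiAlgebra K (Fin (Field.finSepDegree K L)) M).compLinearMap
      (fun i => (e i).toLinearMap)
  have hs : ∀ x, s x = ∏ i, e i (x i) := fun x => by
    simp [s, MultilinearMap.compLinearMap_apply, MultilinearMap.mkPiAlgebra_apply]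
  let f : (⨂[K] _ : Fin (Field.finSepDegree K L), L) →ₐ[K] M :=
    PiTensorProduct.liftAlgHom s (by simp [hs]) (by intro x y; simp [hs, Finset.prod_mul_distrib])
  refine ⟨f, ?_⟩
  rw [← AlgHom.range_eq_top]
  have hfield : IsField f.range := Subalgebra.isField_of_algebraic _
  have hR : Subalgebra.toIntermediateField' f.range hfield = ⊤ := by
    rw [eq_top_iff, ← htop, normalClosure_def, iSup_le_iff]
    intro σ
    rintro _ ⟨a, rfl⟩
    show σ a ∈ f.range
    refine ⟨PiTensorProduct.singleAlgHom (e.symm σ) a, ?_⟩
    show f (PiTensorProduct.tprod K (MonoidHom.mulSingle _ (e.symm σ) a)) = σ a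
    rw [PiTensorProduct.liftAlgHom_apply, PiTensorProduct.lift.tprod, hs,
      Finset.prod_eq_single (e.symm σ)]
    · simp
    · intro j _ hj
      simp [MonoidHom.mulSingle_apply, Pi.mulSingle_eq_of_ne hj]
    · intro h; exact absurd (Finset.mem_univ _) h
  rw [← toSubalgebra_toIntermediateField' f.range hfield, hR]
  rfl

end Groth.Agent.S6363
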