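import Groth.Statements.S6364
import Mathlib.LinearAlgebra.Matrix.Charpoly.Minpoly
import Mathlib.LinearAlgebra.Charpoly.ToMatrix
import Mathlib.RingTheory.PowerBasis
import Mathlib.FieldTheory.Tower
-- import your own Groth.Agent.* helpers here

set_option autoImplicit false
universe u
open Fields

namespace Groth.Agent.S6364

open Polynomial Matrix in
theorem charpoly_blockDiagonal {R : Type*} [CommRing R] {n o : Type*} [Fintype n] [DecidableEq n]
    [Fintype o] [DecidableEq o] (M : o → Matrix n n R) :
    (blockDiagonal M).charpoly = ∏ k, (M k).charpoly := by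
  unfold Matrix.charpoly
  rw [← det_blockDiagonal]
  congr 1
  ext ⟨i, k⟩ ⟨j, k'⟩
  simp only [charmatrix_apply, blockDiagonal_apply, diagonal_apply, Prod.mk.injEq]
  by_cases hk : k = k'
  · subst hk
    by_cases hi : i = j <;> simp [hi]
  · simp [hk]

open IntermediateField in
/-- Let L/K be a finite extension and a ∈ L with minimal polynomial P over K. Then P ^ e, with e = [L :
K(a)], is the characteristic polynomial of multiplication by a (the K-linear map x ↦ a x on L), and
e · deg P = [L : K]. -/
theorem result {K L : Type u} [Field K] [Field L] [Algebra K L] [FiniteDimensional K L]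
    (a : L) :
    (Algebra.lmul K L a).charpoly = minpoly K a ^ Module.finrank K⟮a⟯ L ∧
      Module.finrank K⟮a⟯ L * (minpoly K a).natDegree = Module.finrank K L := by
  have ha : IsIntegral K a := Algebra.IsIntegral.isIntegral a
  have : FiniteDimensional K K⟮a⟯ := adjoin.finiteDimensional ha
  constructor
  · classical
    let pb := adjoin.powerBasis ha
    let c := Module.Free.chooseBasis K⟮a⟯ L
    have e1 : (Algebra.lmul K L a).charpoly =
        (Algebra.leftMulMatrix (pb.basis.smulTower c) (algebraMap K⟮a⟯ L pb.gen)).charpoly := by
      rw [Algebra.leftMulMatrix_apply, LinearMap.charpoly_toMatrix]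
      rfl
    rw [e1, Algebra.smulTower_leftMulMatrix_algebraMap, charpoly_blockDiagonal,
      Finset.prod_const, _root_.charpoly_leftMulMatrix, Finset.card_univ,
      ← Module.finrank_eq_card_chooseBasisIndex]
    simp only [pb, adjoin.powerBasis_gen, minpoly_gen]
  · rw [← adjoin.finrank ha, mul_comm]
    exact Module.finrank_mul_finrank K K⟮a⟯ L

end Groth.Agent.S6364
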