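import Groth.Statements.S6367
import Mathlib.Algebra.Module.FinitePresentation

set_option autoImplicit false
universe u
open CAlg

namespace Groth.Agent.S6367

/-- Let 0 → M₁ → M₂ → M₃ → 0 be a short exact sequence of R-modules (f injective, g surjective, image of
f = kernel of g). If M₁ and M₃ are coherent — finitely generated with every finitely generated
submodule finitely presented — then so is M₂. -/
theorem result (R : Type u) [CommRing R] {M₁ M₂ M₃ : Type u}
    [AddCommGroup M₁] [Module R M₁] [AddCommGroup M₂] [Module R M₂] [AddCommGroup M₃] [Module R M₃]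
    (f : M₁ →ₗ[R] M₂) (g : M₂ →ₗ[R] M₃) (hf : Function.Injective f) (hg : Function.Surjective g)
    (hfg : LinearMap.range f = LinearMap.ker g)
    (h₁ : (Module.Finite R M₁ ∧ ∀ N : Submodule R M₁, N.FG → Module.FinitePresentation R N))
    (h₃ : (Module.Finite R M₃ ∧ ∀ N : Submodule R M₃, N.FG → Module.FinitePresentation R N)) :
    (Module.Finite R M₂ ∧ ∀ N : Submodule R M₂, N.FG → Module.FinitePresentation R N) := by
  obtain ⟨hfin₁, hc₁⟩ := h₁
  obtain ⟨hfin₃, hc₃⟩ := h₃
  have hexact : ∀ x, g (f x) = 0 := fun x => by
    have : f x ∈ LinearMap.ker g := hfg ▸ LinearMap.mem_range_self f x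
    exact this
  refine ⟨?_, fun N hN => ?_⟩
  · refine ⟨Submodule.fg_of_fg_map_of_fg_inf_ker g ?_ ?_⟩
    · rw [Submodule.map_top, LinearMap.range_eq_top.mpr hg]; exact Module.Finite.fg_top
    · rw [top_inf_eq, ← hfg, ← Submodule.map_top]; exact Module.Finite.fg_top.map f
  · have hNfin : Module.Finite R N := Module.Finite.iff_fg.mpr hN
    let gN : N →ₗ[R] M₃ := g ∘ₗ N.subtype
    have hN₃ : (LinearMap.range gN).FG := by
      rw [LinearMap.range_comp, Submodule.range_subtype]; exact hN.map g
    have hfp₃ : Module.FinitePresentation R (LinearMap.range gN) := hc₃ _ hN₃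
    let l : N →ₗ[R] LinearMap.range gN := gN.rangeRestrict
    have hl : Function.Surjective l := gN.surjective_rangeRestrict
    have hker : (LinearMap.ker l).FG := Module.FinitePresentation.fg_ker l hl
    let N₁ : Submodule R M₁ := N.comap f
    let e₀ : N₁ →ₗ[R] N := LinearMap.codRestrict N (f ∘ₗ N₁.subtype) (fun m => m.2)
    have he₀ : ∀ m : N₁, l (e₀ m) = 0 := by
      intro m
      apply Subtype.ext
      simp [l, gN, e₀, hexact]
    let e : N₁ →ₗ[R] LinearMap.ker l := LinearMap.codRestrict _ e₀ he₀
    have he : Function.Bijective e := by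
      constructor
      · intro a b hab
        have h1 : (e a : N) = e b := congrArg Subtype.val hab
        have h2 : f a = f b := congrArg Subtype.val h1
        exact Subtype.ext (hf h2)
      · rintro ⟨⟨n, hn⟩, hk⟩
        have hgn : g n = 0 := by
          have := congrArg Subtype.val (LinearMap.mem_ker.mp hk)
          simpa [l, gN] using this
        have : n ∈ LinearMap.range f := by rw [hfg]; exact hgn
        obtain ⟨m, rfl⟩ := this
        exact ⟨⟨m, hn⟩, rfl⟩
    let E := LinearEquiv.ofBijective e he
    have hN₁ : N₁.FG := by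
      have h1 : Module.Finite R (LinearMap.ker l) := Module.Finite.iff_fg.mpr hker
      have h2 : Module.Finite R N₁ := Module.Finite.equiv E.symm
      exact Module.Finite.iff_fg.mp h2
    have hfp₁ : Module.FinitePresentation R N₁ := hc₁ _ hN₁
    have hfpk : Module.FinitePresentation R (LinearMap.ker l) :=
      Module.FinitePresentation.of_equiv E
    exact Module.finitePresentation_of_ker l hl

end Groth.Agent.S6367
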