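import Groth.Statements.S6366
import Groth.Agent.S6367
import Mathlib.Algebra.Module.FinitePresentation
import Mathlib.LinearAlgebra.Pi

set_option autoImplicit false
universe u
open CAlg

namespace Groth.Agent.S6366

section helpers

variable {R : Type u} [CommRing R]

/-- Coherence of a module, as in the statement. -/
def Coh (R : Type u) [CommRing R] (M : Type u) [AddCommGroup M] [Module R M] : Prop :=
  Module.Finite R M ∧ ∀ N : Submodule R M, N.FG → Module.FinitePresentation R N

theorem coh_self (hR : ∀ I : Ideal R, I.FG → Module.FinitePresentation R I) : Coh R R :=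
  ⟨inferInstance, fun N hN => hR N hN⟩

theorem coh_fin (hR : ∀ I : Ideal R, I.FG → Module.FinitePresentation R I) :
    ∀ n : ℕ, Coh R (Fin n → R) := by
  intro n
  induction n with
  | zero =>
    refine ⟨inferInstance, fun N _ => ?_⟩
    have : Subsingleton N := inferInstance
    infer_instance
  | succ n ih =>
    let f : R →ₗ[R] (Fin (n + 1) → R) := LinearMap.single R (fun _ => R) 0
    let g : (Fin (n + 1) → R) →ₗ[R] (Fin n → R) := LinearMap.funLeft R R Fin.succ
    refine Groth.Agent.S6367.result R f g ?_ ?_ ?_ (coh_self hR) ih
    · intro a b hab
      have := congrFun hab 0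
      simpa [f] using this
    · intro y
      refine ⟨Fin.cons 0 y, ?_⟩
      funext i
      simp [g, LinearMap.funLeft_apply]
    · ext x
      simp only [LinearMap.mem_range, LinearMap.mem_ker]
      constructor
      · rintro ⟨r, rfl⟩
        funext i
        simp [g, f, LinearMap.funLeft_apply, Fin.succ_ne_zero]
      · intro hx
        refine ⟨x 0, ?_⟩
        funext i
        refine Fin.cases ?_ (fun j => ?_) i
        · simp [f]
        · have := congrFun hx j
          simp only [g, LinearMap.funLeft_apply, Pi.zero_apply] at this
          simp [f, this, Fin.succ_ne_zero]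

theorem coh_of_surjective {P M : Type u} [AddCommGroup P] [Module R P] [AddCommGroup M]
    [Module R M] (hP : Coh R P) (π : P →ₗ[R] M) (hπ : Function.Surjective π)
    (hK : (LinearMap.ker π).FG) : Coh R M := by
  obtain ⟨hPfin, hPc⟩ := hP
  refine ⟨Module.Finite.of_surjective π hπ, fun N hN => ?_⟩
  let N' : Submodule R P := N.comap π
  have hN' : N'.FG := by
    apply Submodule.fg_of_fg_map_of_fg_inf_ker π
    · rw [Submodule.map_comap_eq_of_surjective hπ]; exact hN
    · have : N' ⊓ LinearMap.ker π = LinearMap.ker π :=
        inf_eq_right.mpr (LinearMap.ker_le_comap π)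
      rw [this]; exact hK
  have hfp : Module.FinitePresentation R N' := hPc N' hN'
  let l : N' →ₗ[R] N := π.restrict (fun x hx => hx)
  have hl : Function.Surjective l := by
    rintro ⟨y, hy⟩
    obtain ⟨x, rfl⟩ := hπ y
    exact ⟨⟨x, hy⟩, rfl⟩
  have hker : (LinearMap.ker l).FG := by
    have h1 : LinearMap.ker l = (LinearMap.ker π).comap N'.subtype := by
      ext x
      simp only [LinearMap.mem_ker, Submodule.mem_comap, Submodule.subtype_apply]
      constructor
      · intro h; exact congrArg Subtype.val h
      · intro h; exact Subtype.ext h
    rw [h1]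
    have hle : LinearMap.ker π ≤ N' := LinearMap.ker_le_comap π
    have h2 : Module.Finite R (LinearMap.ker π) := Module.Finite.iff_fg.mpr hK
    have h3 : Module.Finite R ((LinearMap.ker π).comap N'.subtype) :=
      Module.Finite.equiv (Submodule.comapSubtypeEquivOfLe hle).symm
    exact Module.Finite.iff_fg.mp h3
  exact Module.finitePresentation_of_surjective l hl hker

end helpers

/-- Let R be a coherent ring, i.e. every finitely generated ideal of R is finitely presented. Then an
R-module is coherent (finitely generated, and every finitely generated submodule is finitely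
presented) if and only if it is finitely presented. -/
theorem result (R : Type u) [CommRing R]
    (hR : ∀ I : Ideal R, I.FG → Module.FinitePresentation R I) (M : Type u) [AddCommGroup M] [Module R M] :
    (Module.Finite R M ∧ ∀ N : Submodule R M, N.FG → Module.FinitePresentation R N) ↔ Module.FinitePresentation R M := by
  constructor
  · rintro ⟨hfin, hc⟩
    have h1 : Module.FinitePresentation R (⊤ : Submodule R M) := hc ⊤ Module.Finite.fg_top
    exact Module.FinitePresentation.of_equiv (Submodule.topEquiv (R := R) (M := M))
  · intro hfp
    obtain ⟨n, K, e, hK⟩ := Module.FinitePresentation.exists_fin R M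
    have h1 : Coh R ((Fin n → R) ⧸ K) :=
      coh_of_surjective (coh_fin hR n) K.mkQ K.mkQ_surjective (by rw [Submodule.ker_mkQ]; exact hK)
    exact coh_of_surjective h1 e.symm.toLinearMap e.symm.surjective
      (by rw [LinearEquiv.ker]; exact Submodule.fg_bot)

end Groth.Agent.S6366
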