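import Groth.Statements.S6368
import Mathlib.RingTheory.Flat.FaithfullyFlat.Basic
import Mathlib.LinearAlgebra.TensorProduct.Tower
import Mathlib.Data.Set.Countable

set_option autoImplicit false
universe u
open scoped TensorProduct
open CAlg

namespace Groth.Agent.S6368

/-- Let R → S be faithfully flat and M an R-module. If the S-module S ⊗_R M is countably generated then
M is countably generated. -/
theorem result (R S : Type u) [CommRing R] [CommRing S] [Algebra R S]
    [Module.FaithfullyFlat R S] (M : Type u) [AddCommGroup M] [Module R M]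
    (h : CAlg.IsCountablyGenerated S (S ⊗[R] M)) : CAlg.IsCountablyGenerated R M := by
  classical
  obtain ⟨t, ht, htop⟩ := h
  have htop' : Submodule.span S ((TensorProduct.mk R S M 1) '' (Set.univ : Set M)) = ⊤ := by
    rw [← Submodule.baseChange_span, Submodule.span_univ, Submodule.baseChange_top]
  have key : ∀ y : S ⊗[R] M, ∃ F : Finset M,
      y ∈ Submodule.span S ((TensorProduct.mk R S M 1) '' (F : Set M)) := by
    intro y
    have hy : y ∈ Submodule.span S ((TensorProduct.mk R S M 1) '' (Set.univ : Set M)) := by
      rw [htop']; trivial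
    obtain ⟨T, hT, hyT⟩ := Submodule.mem_span_finite_of_mem_span hy
    obtain ⟨F, -, hF⟩ := Finset.subset_set_image_iff.mp hT
    refine ⟨F, ?_⟩
    rw [← Finset.coe_image, hF]
    exact hyT
  choose F hF using key
  refine ⟨⋃ y ∈ t, (F y : Set M), ht.biUnion fun y _ => (F y).countable_toSet, ?_⟩
  apply Submodule.baseChange_injective (A := S)
  rw [Submodule.baseChange_span, Submodule.baseChange_top, eq_top_iff, ← htop]
  rw [Submodule.span_le]
  intro y hy
  have h1 : (TensorProduct.mk R S M 1) '' (F y : Set M) ⊆
      (TensorProduct.mk R S M 1) '' (⋃ y ∈ t, (F y : Set M)) :=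
    Set.image_mono (Set.subset_biUnion_of_mem (u := fun y => (F y : Set M)) hy)
  exact Submodule.span_mono h1 (hF y)

end Groth.Agent.S6368
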