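import Groth.Statements.S6369
import Mathlib.RingTheory.DedekindDomain.Ideal.Basic

set_option autoImplicit false
universe u
open CAlg

namespace Groth.Agent.S6369

/-- elementary invertibility of an integral ideal -/
def Inv {D : Type u} [CommRing D] (I : Ideal D) : Prop :=
  ∃ J : Ideal D, ∃ c : D, c ≠ 0 ∧ I * J = Ideal.span {c}

lemma Inv.cancel {D : Type u} [CommRing D] [IsDomain D] {I A B : Ideal D} (hI : Inv I)
    (h : I * A = I * B) : A = B := by
  obtain ⟨J, c, hc, hJ⟩ := hI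
  have : Ideal.span {c} * A = Ideal.span {c} * B := by
    rw [← hJ, mul_comm I J, mul_assoc, mul_assoc, h]
  exact (Ideal.span_singleton_mul_right_inj hc).mp this

lemma Inv.of_mem_prod {D : Type u} [CommRing D] {s : Multiset (Ideal D)} {c : D} (hc : c ≠ 0)
    (hs : s.prod = Ideal.span {c}) {p : Ideal D} (hp : p ∈ s) : Inv p := by
  classical
  refine ⟨(s.erase p).prod, c, hc, ?_⟩
  rw [← Multiset.prod_cons, Multiset.cons_erase hp, hs]

lemma Inv.mul {D : Type u} [CommRing D] [IsDomain D] {I J : Ideal D} (hI : Inv I) (hJ : Inv J) :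
    Inv (I * J) := by
  obtain ⟨I', c, hc, hI'⟩ := hI
  obtain ⟨J', d, hd, hJ'⟩ := hJ
  refine ⟨I' * J', c * d, mul_ne_zero hc hd, ?_⟩
  rw [mul_mul_mul_comm, hI', hJ', Ideal.span_singleton_mul_span_singleton]

lemma Inv.top {D : Type u} [CommRing D] [Nontrivial D] : Inv (⊤ : Ideal D) :=
  ⟨⊤, 1, one_ne_zero, by simp⟩

lemma Inv.multiset_prod {D : Type u} [CommRing D] [IsDomain D] {s : Multiset (Ideal D)}
    (hs : ∀ p ∈ s, Inv p) : Inv s.prod := by
  induction s using Multiset.induction_on with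
  | empty => simpa using Inv.top
  | cons a s ih =>
    rw [Multiset.prod_cons]
    exact Inv.mul (hs a (Multiset.mem_cons_self a s))
      (ih fun p hp => hs p (Multiset.mem_cons_of_mem hp))

lemma uniq {D : Type u} [CommRing D] [IsDomain D] (n : ℕ) :
    ∀ (s t : Multiset (Ideal D)), s.card = n → (∀ p ∈ s, p.IsPrime ∧ Inv p) →
      (∀ p ∈ t, p.IsPrime ∧ Inv p) → s.prod = t.prod → s = t := by
  classical
  induction n with
  | zero =>
    intro s t hn hs ht h
    rw [Multiset.card_eq_zero] at hn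
    subst hn
    by_contra hne
    obtain ⟨q, hq⟩ := Multiset.exists_mem_of_ne_zero (Ne.symm hne)
    have h1 : t.prod ≤ q := (Ideal.multiset_prod_le_inf).trans (Multiset.inf_le hq)
    rw [← h, Multiset.prod_zero, Ideal.one_eq_top, top_le_iff] at h1
    exact (ht q hq).1.ne_top h1
  | succ n ih =>
    intro s t hn hs ht h
    have hsne : s.toFinset.Nonempty := by
      rw [Multiset.toFinset_nonempty]
      intro h0
      rw [h0] at hn
      simp at hn
    obtain ⟨P, hP⟩ := s.toFinset.exists_minimal hsne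
    have hPs : P ∈ s := Multiset.mem_toFinset.mp hP.1
    have hPp := (hs P hPs).1
    have h1 : t.prod ≤ P := by
      rw [← h]
      exact (Ideal.multiset_prod_le_inf).trans (Multiset.inf_le hPs)
    obtain ⟨Q, hQt, hQP⟩ := (hPp.multiset_prod_le).mp h1
    have hQp := (ht Q hQt).1
    have h2 : s.prod ≤ Q := by
      rw [h]
      exact (Ideal.multiset_prod_le_inf).trans (Multiset.inf_le hQt)
    obtain ⟨P', hP's, hP'Q⟩ := (hQp.multiset_prod_le).mp h2
    have h3 : P ≤ P' := hP.2 (Multiset.mem_toFinset.mpr hP's) (hP'Q.trans hQP)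
    have hQeq : Q = P := le_antisymm hQP (h3.trans hP'Q)
    subst hQeq
    have hs' : s = Q ::ₘ s.erase Q := (Multiset.cons_erase hPs).symm
    have ht' : t = Q ::ₘ t.erase Q := (Multiset.cons_erase hQt).symm
    have h4 : (s.erase Q).prod = (t.erase Q).prod := by
      apply Inv.cancel (hs Q hPs).2
      rw [← Multiset.prod_cons, ← Multiset.prod_cons, ← hs', ← ht', h]
    have h5 : s.erase Q = t.erase Q := by
      apply ih _ _ _ (fun p hp => hs p (Multiset.mem_of_mem_erase hp))
        (fun p hp => ht p (Multiset.mem_of_mem_erase hp)) h4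
      rw [Multiset.card_erase_of_mem hPs, hn]
      rfl
    rw [hs', ht', h5]

lemma Inv.ne_bot {D : Type u} [CommRing D] [IsDomain D] {I : Ideal D} (hI : Inv I) : I ≠ ⊥ := by
  obtain ⟨J, c, hc, hJ⟩ := hI
  rintro rfl
  rw [Ideal.bot_mul] at hJ
  exact hc (Ideal.span_singleton_eq_bot.mp hJ.symm)

lemma le_of_mem_prod {D : Type u} [CommRing D] {s : Multiset (Ideal D)} {p : Ideal D}
    (hp : p ∈ s) : s.prod ≤ p :=
  (Ideal.multiset_prod_le_inf).trans (Multiset.inf_le hp)

lemma step1 {R : Type u} [CommRing R] [IsDomain R]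
    (hex : ∀ I : Ideal R, I ≠ ⊥ → ∃ s : Multiset (Ideal R), (∀ p ∈ s, p.IsPrime ∧ p ≠ ⊥) ∧ s.prod = I)
    (P : Ideal R) [hPp : P.IsPrime] (hP : Inv P) : P.IsMaximal := by
  classical
  have key : ∀ a, a ∉ P → P ⊔ Ideal.span {a} = ⊤ := by
    intro a ha
    obtain ⟨I₁, hI₁⟩ : ∃ I, I = P ⊔ Ideal.span {a} := ⟨_, rfl⟩
    obtain ⟨I₂, hI₂⟩ : ∃ I, I = P ⊔ Ideal.span {a ^ 2} := ⟨_, rfl⟩
    rw [← hI₁]
    have hPI₁ : P ≤ I₁ := hI₁ ▸ le_sup_left
    have hPI₂ : P ≤ I₂ := hI₂ ▸ le_sup_left
    have hI₁0 : I₁ ≠ ⊥ := fun h0 => hP.ne_bot (le_bot_iff.mp (h0 ▸ hPI₁))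
    have hI₂0 : I₂ ≠ ⊥ := fun h0 => hP.ne_bot (le_bot_iff.mp (h0 ▸ hPI₂))
    obtain ⟨Ps, hPs, hPsprod⟩ := hex I₁ hI₁0
    obtain ⟨Qs, hQs, hQsprod⟩ := hex I₂ hI₂0
    let mk := Ideal.Quotient.mk P
    have hmk : Function.Surjective mk := Ideal.Quotient.mk_surjective
    let φ := Ideal.mapHom mk
    have hφ : ∀ I, φ I = Ideal.map mk I := fun I => rfl
    have hmka : mk a ≠ 0 := by
      intro h0
      exact ha (Ideal.Quotient.eq_zero_iff_mem.mp h0)
    have hφ1 : φ I₁ = Ideal.span {mk a} := by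
      rw [hφ, hI₁, Ideal.map_sup, Ideal.map_quotient_self, bot_sup_eq, Ideal.map_span,
        Set.image_singleton]
    have hφ2 : φ I₂ = Ideal.span {mk a ^ 2} := by
      rw [hφ, hI₂, Ideal.map_sup, Ideal.map_quotient_self, bot_sup_eq, Ideal.map_span,
        Set.image_singleton, map_pow]
    have hcm : ∀ J : Ideal R, P ≤ J → Ideal.comap mk (φ J) = J := by
      intro J hJ
      rw [hφ, Ideal.comap_map_of_surjective mk hmk, ← RingHom.ker_eq_comap_bot,
        Ideal.mk_ker, sup_eq_left.mpr hJ]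
    have hprime : ∀ J : Ideal R, J.IsPrime → P ≤ J → (φ J).IsPrime := by
      intro J hJ hPJ
      rw [hφ]
      apply Ideal.map_isPrime_of_surjective hmk
      rw [Ideal.mk_ker]
      exact hPJ
    have hPsP : ∀ p ∈ Ps, P ≤ p := fun p hp => hPI₁.trans (hPsprod ▸ le_of_mem_prod hp)
    have hQsP : ∀ p ∈ Qs, P ≤ p := fun p hp => hPI₂.trans (hQsprod ▸ le_of_mem_prod hp)
    have e1 : (Ps.map φ).prod = Ideal.span {mk a} := by
      rw [← map_multiset_prod, hPsprod, hφ1]
    have e2 : (Qs.map φ).prod = Ideal.span {mk a ^ 2} := by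
      rw [← map_multiset_prod, hQsprod, hφ2]
    have e3 : ((Ps + Ps).map φ).prod = Ideal.span {mk a ^ 2} := by
      rw [Multiset.map_add, Multiset.prod_add, e1, Ideal.span_singleton_mul_span_singleton, sq]
    have hA : ∀ p ∈ Qs.map φ, p.IsPrime ∧ Inv p := by
      intro p hp
      refine ⟨?_, Inv.of_mem_prod (pow_ne_zero 2 hmka) e2 hp⟩
      obtain ⟨q, hq, rfl⟩ := Multiset.mem_map.mp hp
      exact hprime q (hQs q hq).1 (hQsP q hq)
    have hB : ∀ p ∈ (Ps + Ps).map φ, p.IsPrime ∧ Inv p := by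
      intro p hp
      refine ⟨?_, Inv.of_mem_prod (pow_ne_zero 2 hmka) e3 hp⟩
      obtain ⟨q, hq, rfl⟩ := Multiset.mem_map.mp hp
      have hq' : q ∈ Ps := by
        rcases Multiset.mem_add.mp hq with h | h <;> exact h
      exact hprime q (hPs q hq').1 (hPsP q hq')
    have e4 : Qs.map φ = (Ps + Ps).map φ := uniq _ _ _ rfl hA hB (e2.trans e3.symm)
    have e5 : Qs = Ps + Ps := by
      have := congrArg (Multiset.map (Ideal.comap mk)) e4
      rw [Multiset.map_map, Multiset.map_map] at this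
      have hQ : Multiset.map (Ideal.comap mk ∘ φ) Qs = Qs := by
        conv_rhs => rw [← Multiset.map_id Qs]
        exact Multiset.map_congr rfl (fun q hq => hcm q (hQsP q hq))
      have hPP : Multiset.map (Ideal.comap mk ∘ φ) (Ps + Ps) = Ps + Ps := by
        conv_rhs => rw [← Multiset.map_id (Ps + Ps)]
        exact Multiset.map_congr rfl (fun q hq => hcm q (hPsP q (by
          rcases Multiset.mem_add.mp hq with h | h <;> exact h)))
      rwa [hQ, hPP] at this
    have e6 : I₂ = I₁ * I₁ := by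
      rw [← hQsprod, e5, Multiset.prod_add, hPsprod]
    have e7 : P ≤ P * I₁ := by
      intro x hx
      have hx2 : x ∈ I₁ * I₁ := e6 ▸ hPI₂ hx
      have e9 : I₁ * I₁ = I₁ * P ⊔ I₁ * Ideal.span {a} := by
        nth_rw 2 [hI₁]
        rw [Ideal.mul_sup]
      rw [e9, Submodule.mem_sup] at hx2
      obtain ⟨y, hy, w, hw, rfl⟩ := hx2
      obtain ⟨z, hz, rfl⟩ := Ideal.mem_mul_span_singleton.mp hw
      have hyP : y ∈ P := (Ideal.mul_le_right : I₁ * P ≤ P) hy
      have hzaP : z * a ∈ P := by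
        have := P.sub_mem hx hyP
        simpa using this
      have hzP : z ∈ P := (hPp.mem_or_mem hzaP).resolve_right ha
      refine Ideal.add_mem _ ?_ ?_
      · rw [mul_comm]
        exact hy
      · refine Ideal.mul_mem_mul hzP ?_
        rw [hI₁]
        exact Ideal.mem_sup_right (Ideal.mem_span_singleton_self a)
    have e8 : P * I₁ = P * ⊤ := by
      rw [Ideal.mul_top]
      exact le_antisymm Ideal.mul_le_left e7
    exact hP.cancel e8
  rw [Ideal.isMaximal_iff]
  refine ⟨fun h1 => hPp.ne_top ((Ideal.eq_top_iff_one _).mpr h1), ?_⟩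
  intro J x hPJ hxP hxJ
  have := key x hxP
  have hle : P ⊔ Ideal.span {x} ≤ J := sup_le hPJ ((Ideal.span_singleton_le_iff_mem _).mpr hxJ)
  rw [this] at hle
  exact hle (Submodule.mem_top)

lemma step2 {R : Type u} [CommRing R] [IsDomain R]
    (hex : ∀ I : Ideal R, I ≠ ⊥ → ∃ s : Multiset (Ideal R), (∀ p ∈ s, p.IsPrime ∧ p ≠ ⊥) ∧ s.prod = I)
    (P : Ideal R) [hPp : P.IsPrime] (hP0 : P ≠ ⊥) : Inv P := by
  obtain ⟨b, hbP, hb0⟩ := Submodule.exists_mem_ne_zero_of_ne_bot hP0
  have hb : Ideal.span {b} ≠ ⊥ := by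
    rw [Ne, Ideal.span_singleton_eq_bot]
    exact hb0
  obtain ⟨s, hs, hsprod⟩ := hex _ hb
  have hle : s.prod ≤ P := by
    rw [hsprod]
    exact (Ideal.span_singleton_le_iff_mem _).mpr hbP
  obtain ⟨Q, hQs, hQP⟩ := (hPp.multiset_prod_le).mp hle
  have hQinv : Inv Q := Inv.of_mem_prod hb0 hsprod hQs
  have := (hs Q hQs).1
  have hQmax : Q.IsMaximal := step1 hex Q hQinv
  have : Q = P := hQmax.eq_of_le hPp.ne_top hQP
  exact this ▸ hQinv

lemma step3 {R : Type u} [CommRing R] [IsDomain R]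
    (hex : ∀ I : Ideal R, I ≠ ⊥ → ∃ s : Multiset (Ideal R), (∀ p ∈ s, p.IsPrime ∧ p ≠ ⊥) ∧ s.prod = I)
    (I : Ideal R) (hI : I ≠ ⊥) : Inv I := by
  obtain ⟨s, hs, hsprod⟩ := hex I hI
  rw [← hsprod]
  apply Inv.multiset_prod
  intro p hp
  have := (hs p hp).1
  exact step2 hex p (hs p hp).2

lemma isUnit_of_inv {R : Type u} [CommRing R] [IsDomain R] {I : Ideal R} (hI : Inv I) :
    IsUnit (I : FractionalIdeal (nonZeroDivisors R) (FractionRing R)) := by
  obtain ⟨J, c, hc, hJ⟩ := hI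
  have h1 : (I : FractionalIdeal (nonZeroDivisors R) (FractionRing R)) * (J : FractionalIdeal (nonZeroDivisors R) (FractionRing R))
      = FractionalIdeal.spanSingleton _ (algebraMap R (FractionRing R) c) := by
    rw [← FractionalIdeal.coeIdeal_mul, hJ, FractionalIdeal.coeIdeal_span_singleton]
  have hc' : algebraMap R (FractionRing R) c ≠ 0 := by
    intro h0
    exact hc (IsFractionRing.to_map_eq_zero_iff.mp h0)
  have h2 : IsUnit (FractionalIdeal.spanSingleton (nonZeroDivisors R) (algebraMap R (FractionRing R) c)) := by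
    refine IsUnit.of_mul_eq_one (FractionalIdeal.spanSingleton (nonZeroDivisors R) (algebraMap R (FractionRing R) c)⁻¹) ?_
    rw [FractionalIdeal.spanSingleton_mul_spanSingleton, mul_inv_cancel₀ hc',
      FractionalIdeal.spanSingleton_one]
  rw [← h1] at h2
  exact isUnit_of_mul_isUnit_left h2


/-- (1) ⇒ (3): let R be a domain such that every nonzero ideal is a product of nonzero prime ideals,
uniquely up to permutation of the factors. Then R is Noetherian, integrally closed and of dimension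
at most one, i.e. a Dedekind domain in the Noetherian sense. (The converse and the description by
discrete valuation rings at maximal ideals are the standard equivalences.) -/
theorem result (R : Type u) [CommRing R] [IsDomain R]
    (h : ∀ I : Ideal R, I ≠ ⊥ → ∃! s : Multiset (Ideal R), (∀ p ∈ s, p.IsPrime ∧ p ≠ ⊥) ∧ s.prod = I) :
    IsDedekindDomain R := by
  have hex : ∀ I : Ideal R, I ≠ ⊥ →
      ∃ s : Multiset (Ideal R), (∀ p ∈ s, p.IsPrime ∧ p ≠ ⊥) ∧ s.prod = I :=
    fun I hI => (h I hI).exists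
  rw [isDedekindDomain_iff_mul_inv_cancel (K := FractionRing R)]
  intro I hI
  rw [FractionalIdeal.mul_inv_cancel_iff_isUnit]
  obtain ⟨a, aI, ha, rfl⟩ := FractionalIdeal.exists_eq_spanSingleton_mul I
  have ha' : algebraMap R (FractionRing R) a ≠ 0 := by
    intro h0
    exact ha (IsFractionRing.to_map_eq_zero_iff.mp h0)
  have haI : aI ≠ ⊥ := by
    rintro rfl
    apply hI
    simp
  refine IsUnit.mul ?_ (isUnit_of_inv (step3 hex aI haI))
  refine IsUnit.of_mul_eq_one (FractionalIdeal.spanSingleton (nonZeroDivisors R) (algebraMap R (FractionRing R) a)) ?_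
  rw [FractionalIdeal.spanSingleton_mul_spanSingleton, inv_mul_cancel₀ ha',
    FractionalIdeal.spanSingleton_one]

end Groth.Agent.S6369
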