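import Groth.Statements.S6371
import Mathlib.Algebra.Category.Ring.Epi
import Mathlib.Algebra.Category.Ring.Instances
-- import your own Groth.Agent.* helpers here

set_option autoImplicit false
universe u
open CAlg

namespace Groth.Agent.S6371

open CategoryTheory in
theorem forward (R S : Type u) [CommRing R] [CommRing S] [Algebra R S] [Algebra.IsEpi R S]
    (p : Ideal R) [p.IsPrime] :
    Algebra.IsEpi (Localization.AtPrime p)
      (Localization (Algebra.algebraMapSubmonoid S p.primeCompl)) := by
  rw [← CommRingCat.epi_iff_epi]
  have h1 : Epi (CommRingCat.ofHom (algebraMap R S)) := CommRingCat.epi_iff_epi.mpr inferInstance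
  have h2 : Epi (CommRingCat.ofHom (algebraMap S
      (Localization (Algebra.algebraMapSubmonoid S p.primeCompl)))) :=
    IsLocalization.epi (Algebra.algebraMapSubmonoid S p.primeCompl) _
  have h3 : Epi (CommRingCat.ofHom (algebraMap R S) ≫ CommRingCat.ofHom (algebraMap S
      (Localization (Algebra.algebraMapSubmonoid S p.primeCompl)))) := epi_comp _ _
  have e : CommRingCat.ofHom (algebraMap R S) ≫ CommRingCat.ofHom (algebraMap S
      (Localization (Algebra.algebraMapSubmonoid S p.primeCompl))) =
      CommRingCat.ofHom (algebraMap R (Localization.AtPrime p)) ≫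
        CommRingCat.ofHom (algebraMap (Localization.AtPrime p)
          (Localization (Algebra.algebraMapSubmonoid S p.primeCompl))) := by
    ext r
    simp only [CommRingCat.hom_comp, CommRingCat.hom_ofHom, RingHom.comp_apply]
    rw [← IsScalarTower.algebraMap_apply, ← IsScalarTower.algebraMap_apply]
  rw [e] at h3
  exact epi_of_epi (CommRingCat.ofHom (algebraMap R (Localization.AtPrime p))) _

theorem eq_zero_of_forall_localization {R T : Type u} [CommRing R] [CommRing T] [Algebra R T]
    (t : T) (h : ∀ (P : Ideal R) [P.IsMaximal],
      algebraMap T (Localization (Algebra.algebraMapSubmonoid T P.primeCompl)) t = 0) : t = 0 := by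
  let I : Ideal R := LinearMap.ker (LinearMap.toSpanSingleton R T t)
  by_contra ht
  have hI : I ≠ ⊤ := by
    intro hI
    have : (1 : R) ∈ I := hI ▸ Submodule.mem_top
    simp [I] at this
    exact ht this
  obtain ⟨P, hP, hle⟩ := I.exists_le_maximal hI
  obtain ⟨⟨_, r, hr, rfl⟩, hm⟩ := (IsLocalization.map_eq_zero_iff
    (Algebra.algebraMapSubmonoid T P.primeCompl) _ t).mp (h P)
  apply hr
  apply hle
  simp only [I, LinearMap.mem_ker, LinearMap.toSpanSingleton_apply, Algebra.smul_def]
  exact hm

open CategoryTheory in
theorem backward (R S : Type u) [CommRing R] [CommRing S] [Algebra R S]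
    (H : ∀ (p : Ideal R) [p.IsPrime], Algebra.IsEpi (Localization.AtPrime p)
      (Localization (Algebra.algebraMapSubmonoid S p.primeCompl))) : Algebra.IsEpi R S := by
  rw [← CommRingCat.epi_iff_epi]
  refine ⟨fun {T} g h e => ?_⟩
  let : Algebra R T := (g.hom.comp (algebraMap R S)).toAlgebra
  have hg : ∀ r : R, g.hom (algebraMap R S r) = algebraMap R T r := fun r => rfl
  have hh : ∀ r : R, h.hom (algebraMap R S r) = algebraMap R T r := fun r => by
    rw [← hg]
    exact (RingHom.congr_fun (congrArg CommRingCat.Hom.hom e) r).symm
  ext s
  rw [← sub_eq_zero]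
  apply eq_zero_of_forall_localization (R := R)
  intro P hP
  have : P.IsPrime := hP.isPrime
  have hyg : Algebra.algebraMapSubmonoid S P.primeCompl ≤
      (Algebra.algebraMapSubmonoid T P.primeCompl).comap g.hom := by
    rintro _ ⟨r, hr, rfl⟩
    exact ⟨r, hr, (hg r).symm⟩
  have hyh : Algebra.algebraMapSubmonoid S P.primeCompl ≤
      (Algebra.algebraMapSubmonoid T P.primeCompl).comap h.hom := by
    rintro _ ⟨r, hr, rfl⟩
    exact ⟨r, hr, (hh r).symm⟩
  let gP := IsLocalization.map (Localization (Algebra.algebraMapSubmonoid T P.primeCompl)) g.hom hyg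
    (S := Localization (Algebra.algebraMapSubmonoid S P.primeCompl))
  let hP' := IsLocalization.map (Localization (Algebra.algebraMapSubmonoid T P.primeCompl))
    h.hom hyh (S := Localization (Algebra.algebraMapSubmonoid S P.primeCompl))
  have hcomp : gP.comp (algebraMap (Localization.AtPrime P)
      (Localization (Algebra.algebraMapSubmonoid S P.primeCompl))) =
      hP'.comp (algebraMap (Localization.AtPrime P)
      (Localization (Algebra.algebraMapSubmonoid S P.primeCompl))) := by
    apply IsLocalization.ringHom_ext P.primeCompl
    ext r
    simp only [RingHom.comp_apply]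
    rw [← IsScalarTower.algebraMap_apply R (Localization.AtPrime P),
      IsScalarTower.algebraMap_apply R S]
    simp only [gP, hP', IsLocalization.map_eq, hg, hh]
  have hepi : Epi (CommRingCat.ofHom (algebraMap (Localization.AtPrime P)
      (Localization (Algebra.algebraMapSubmonoid S P.primeCompl)))) :=
    CommRingCat.epi_iff_epi.mpr (H P)
  have heq : CommRingCat.ofHom gP = CommRingCat.ofHom hP' := by
    rw [← cancel_epi (CommRingCat.ofHom (algebraMap (Localization.AtPrime P)
      (Localization (Algebra.algebraMapSubmonoid S P.primeCompl))))]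
    ext x
    exact RingHom.congr_fun hcomp x
  have heq' : gP = hP' := congrArg CommRingCat.Hom.hom heq
  rw [map_sub, sub_eq_zero]
  have h1 := IsLocalization.map_eq (S := Localization (Algebra.algebraMapSubmonoid S P.primeCompl))
    (Q := Localization (Algebra.algebraMapSubmonoid T P.primeCompl)) hyg s
  have h2 := IsLocalization.map_eq (S := Localization (Algebra.algebraMapSubmonoid S P.primeCompl))
    (Q := Localization (Algebra.algebraMapSubmonoid T P.primeCompl)) hyh s
  rw [← h1, ← h2]
  exact RingHom.congr_fun heq' _

/-- A ring map R → S is an epimorphism of rings if and only if for every prime p of R the localized map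
R_p → S_p is an epimorphism, where S_p is S localized at the image of R ∖ p. -/
theorem result (R S : Type u) [CommRing R] [CommRing S] [Algebra R S] :
    Algebra.IsEpi R S ↔ ∀ (p : Ideal R) [p.IsPrime],
      Algebra.IsEpi (Localization.AtPrime p) (Localization (Algebra.algebraMapSubmonoid S p.primeCompl)) := by
  constructor
  · intro h p _
    exact forward R S p
  · intro H
    exact backward R S H

end Groth.Agent.S6371
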