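import Groth.Statements.S6372
-- import your own Groth.Agent.* helpers here

set_option autoImplicit false
universe u
open CAlg

namespace Groth.Agent.S6372

open TensorProduct in
theorem aux (R S : Type u) [CommRing R] [CommRing S] [Algebra R S]
    [Module.FaithfullyFlat R S] [Algebra.IsEpi R S] :
    Function.Bijective (Algebra.linearMap R S) := by
  rw [← Module.FaithfullyFlat.lTensor_bijective_iff_bijective R S]
  have hmul : Function.Bijective (TensorProduct.lift (LinearMap.mul R S)) :=
    ⟨Algebra.IsEpi.injective_lift_mul, fun a => ⟨a ⊗ₜ 1, by simp⟩⟩
  have hcomp : (TensorProduct.lift (LinearMap.mul R S)) ∘ ((Algebra.linearMap R S).lTensor S) =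
      (TensorProduct.rid R S) := by
    ext x
    induction x using TensorProduct.induction_on with
    | zero => simp
    | tmul a r => simp [Algebra.smul_def, mul_comm]
    | add x y hx hy => simp only [Function.comp_apply, map_add] at hx hy ⊢; rw [hx, hy]
  rw [← Function.Bijective.of_comp_iff' hmul, hcomp]
  exact (TensorProduct.rid R S).bijective

/-- A faithfully flat epimorphism of rings is an isomorphism: if R → S is faithfully flat and an
epimorphism in the category of rings then it is bijective. -/
theorem result (R S : Type u) [CommRing R] [CommRing S] [Algebra R S]
    [Module.FaithfullyFlat R S] [Algebra.IsEpi R S] : Function.Bijective (algebraMap R S) := by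
  exact aux R S

end Groth.Agent.S6372
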