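import Groth.Statements.S6374
import Groth.Agent.S6373
import Mathlib.Algebra.Category.Ring.Epi
import Mathlib.Algebra.Category.Ring.Constructions
-- import your own Groth.Agent.* helpers here

set_option autoImplicit false
universe u
open CAlg

namespace Groth.Agent.S6374

open TensorProduct CategoryTheory in
theorem isEpi_baseChange (R S T : Type u) [CommRing R] [CommRing S] [CommRing T] [Algebra R S]
    [Algebra R T] [Algebra.IsEpi R S] : Algebra.IsEpi T (T ⊗[R] S) := by
  rw [← CommRingCat.epi_iff_epi]
  have : Epi (CommRingCat.ofHom (algebraMap R S)) := CommRingCat.epi_iff_epi.mpr inferInstance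
  exact Limits.PushoutCocone.epi_inl_of_is_pushout_of_epi
    (CommRingCat.isPushout_tensorProduct R T S).isColimit

/-- For an epimorphism of rings R → S, the induced map Spec S → Spec R is injective and induces trivial
residue field extensions; stated in the form the proof gives: for every prime p of R the fibre ring
S ⊗_R κ(p) is either zero or κ(p) → S ⊗_R κ(p) is bijective, together with injectivity of Spec S →
Spec R. -/
theorem result (R S : Type u) [CommRing R] [CommRing S] [Algebra R S]
    [Algebra.IsEpi R S] :
    Function.Injective (PrimeSpectrum.comap (algebraMap R S)) ∧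
      ∀ (p : Ideal R) [p.IsPrime],
        Subsingleton (p.Fiber S) ∨ Function.Bijective (algebraMap p.ResidueField (p.Fiber S)) := by
  have key : ∀ (p : Ideal R) [p.IsPrime],
      Subsingleton (p.Fiber S) ∨ Function.Bijective (algebraMap p.ResidueField (p.Fiber S)) := by
    intro p _
    have := isEpi_baseChange R S p.ResidueField
    exact Groth.Agent.S6373.result p.ResidueField (p.Fiber S)
  refine ⟨?_, key⟩
  intro q₁ q₂ h
  have hsub : Subsingleton (PrimeSpectrum
      ((PrimeSpectrum.comap (algebraMap R S) q₁).asIdeal.Fiber S)) := by
    rcases key (PrimeSpectrum.comap (algebraMap R S) q₁).asIdeal with h | h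
    · infer_instance
    · exact (PrimeSpectrum.comapEquiv (RingEquiv.ofBijective _ h)).symm.toEquiv.subsingleton
  let e := PrimeSpectrum.preimageEquivFiber R S (PrimeSpectrum.comap (algebraMap R S) q₁)
  have := e.injective (Subsingleton.elim (e ⟨q₁, rfl⟩) (e ⟨q₂, h.symm⟩))
  exact congrArg Subtype.val this

end Groth.Agent.S6374
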