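import Groth.Statements.S6375
-- import your own Groth.Agent.* helpers here
import Mathlib.LinearAlgebra.TensorProduct.Vanishing
import Mathlib.Algebra.Colimit.TensorProduct
import Mathlib.RingTheory.TensorProduct.Finite
import Mathlib.SetTheory.Cardinal.Arithmetic

set_option autoImplicit false
universe u
open CAlg

namespace Groth.Agent.S6375

open TensorProduct in
/-- A zig-zag code for an element of the epicenter. -/
def Code {R S : Type u} [CommRing R] [CommRing S] [Algebra R S] (g : S) (k κ : ℕ)
    (la lb : List R) (lc : List (List R)) : Prop :=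
  ∃ (a b : Fin k → R) (c : Fin k → Fin κ → R),
    la = List.ofFn a ∧ lb = List.ofFn b ∧ lc = List.ofFn (fun i => List.ofFn (c i)) ∧
    ∃ (m : Fin k → S) (y : Fin κ → S),
      (∑ i, a i • m i = 1) ∧ (∑ i, b i • m i = g) ∧
      (∀ i, b i • (1 : S) - a i • g = ∑ j, c i j • y j) ∧ (∀ j, ∑ i, c i j • m i = 0)

theorem code_unique {R S : Type u} [CommRing R] [CommRing S] [Algebra R S] {g g' : S} {k κ : ℕ}
    {la lb : List R} {lc : List (List R)} (h : Code g k κ la lb lc) (h' : Code g' k κ la lb lc) :
    g = g' := by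
  obtain ⟨a, b, c, ha, hb, hc, m, y, h1, h2, h3, h4⟩ := h
  obtain ⟨a', b', c', ha', hb', hc', m', y', h1', h2', h3', h4'⟩ := h'
  have ea : a = a' := List.ofFn_injective (ha.symm.trans ha')
  have eb : b = b' := List.ofFn_injective (hb.symm.trans hb')
  have ec : c = c' := by
    have := List.ofFn_injective (hc.symm.trans hc')
    funext i
    exact List.ofFn_injective (congrFun this i)
  subst ea eb ec
  -- g' - g = ∑ m'_i * (b_i - a_i g) = 0
  have key : g' - g = ∑ i, m' i * (b i • (1 : S) - a i • g) := by
    have e1 : ∑ i, m' i * (b i • (1 : S) - a i • g) =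
        (∑ i, b i • m' i) - (∑ i, a i • m' i) * g := by
      rw [Finset.sum_mul, ← Finset.sum_sub_distrib]
      refine Finset.sum_congr rfl fun i _ => ?_
      rw [mul_sub, mul_smul_comm, mul_one, mul_smul_comm, smul_mul_assoc]
    rw [e1, h2', h1', one_mul]
  have key2 : ∑ i, m' i * (b i • (1 : S) - a i • g) = 0 := by
    have e2 : ∀ i, m' i * (b i • (1 : S) - a i • g) = ∑ j, (c i j • m' i) * y j := by
      intro i
      rw [h3 i, Finset.mul_sum]
      refine Finset.sum_congr rfl fun j _ => ?_
      rw [mul_smul_comm, smul_mul_assoc]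
    rw [Finset.sum_congr rfl fun i _ => e2 i, Finset.sum_comm]
    refine Finset.sum_eq_zero fun j _ => ?_
    rw [← Finset.sum_mul, h4' j, zero_mul]
  rw [key2, sub_eq_zero] at key
  exact key.symm

open TensorProduct in
theorem exists_code {R S : Type u} [CommRing R] [CommRing S] [Algebra R S] (g : S)
    (hg : (1 : S) ⊗ₜ[R] g = g ⊗ₜ[R] (1 : S)) :
    ∃ (k κ : ℕ) (la lb : List R) (lc : List (List R)), Code g k κ la lb lc := by
  classical
  -- Step 1: a finitely generated submodule in which the relation already holds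
  let I₀ : Submodule R S := Submodule.span R {1, g}
  have hI₀ : I₀.FG := Submodule.fg_span (Set.toFinite _)
  have h1I : (1 : S) ∈ I₀ := Submodule.subset_span (by simp)
  have hgI : g ∈ I₀ := Submodule.subset_span (by simp)
  have h0 : I₀.subtype.rTensor S ((⟨g, hgI⟩ : I₀) ⊗ₜ[R] (1 : S) - (⟨1, h1I⟩ : I₀) ⊗ₜ[R] g) =
      I₀.subtype.rTensor S 0 := by
    rw [map_sub, LinearMap.rTensor_tmul, LinearMap.rTensor_tmul, map_zero]
    simp only [Submodule.subtype_apply]
    rw [hg, sub_self]
  obtain ⟨M', hM', hle, h1⟩ := hI₀.exists_rTensor_fg_inclusion_eq h0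
  rw [map_zero, map_sub, LinearMap.rTensor_tmul, LinearMap.rTensor_tmul] at h1
  haveI : Module.Finite R M' := Module.Finite.iff_fg.mpr hM'
  obtain ⟨k, m, hm⟩ := Module.Finite.exists_fin (R := R) (M := M')
  have h1M : (⟨1, hle h1I⟩ : M') ∈ Submodule.span R (Set.range m) := by rw [hm]; trivial
  have hgM : (⟨g, hle hgI⟩ : M') ∈ Submodule.span R (Set.range m) := by rw [hm]; trivial
  obtain ⟨a, ha⟩ := (Submodule.mem_span_range_iff_exists_fun R).mp h1M
  obtain ⟨b, hb⟩ := (Submodule.mem_span_range_iff_exists_fun R).mp hgM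
  -- the relation as a sum
  have hsum : ∑ i, m i ⊗ₜ[R] (b i • (1 : S) - a i • g) = (0 : M' ⊗[R] S) := by
    have e1 : ∀ i, m i ⊗ₜ[R] (b i • (1 : S) - a i • g) =
        (b i • m i) ⊗ₜ[R] (1 : S) - (a i • m i) ⊗ₜ[R] g := by
      intro i
      rw [TensorProduct.tmul_sub, TensorProduct.tmul_smul, TensorProduct.tmul_smul,
        TensorProduct.smul_tmul', TensorProduct.smul_tmul']
    rw [Finset.sum_congr rfl fun i _ => e1 i]
    rw [Finset.sum_sub_distrib (f := fun i => (b i • m i) ⊗ₜ[R] (1 : S))
      (g := fun i => (a i • m i) ⊗ₜ[R] g), ← TensorProduct.sum_tmul,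
      ← TensorProduct.sum_tmul, ha, hb]
    exact h1
  obtain ⟨κ, c, y, hcy, hcm⟩ := TensorProduct.vanishesTrivially_of_sum_tmul_eq_zero R hm hsum
  refine ⟨k, κ, List.ofFn a, List.ofFn b, List.ofFn (fun i => List.ofFn (c i)), a, b, c, rfl, rfl,
    rfl, fun i => (m i : S), y, ?_, ?_, hcy, ?_⟩
  · have := congrArg (Submodule.subtype M') ha
    simpa using this
  · have := congrArg (Submodule.subtype M') hb
    simpa using this
  · intro j
    have := congrArg (Submodule.subtype M') (hcm j)
    simpa using this

/-- For an infinite source ring: if R → S is an epimorphism of rings with R infinite, then |S| ≤ |R| as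
cardinals. (For finite R the published statement also asserts |S| ≤ |R|, but its proof only gives
that S is countable and omits the rest, so that case is not included.) -/
theorem result (R S : Type u) [CommRing R] [CommRing S] [Algebra R S] [Algebra.IsEpi R S]
    [Infinite R] : Cardinal.mk S ≤ Cardinal.mk R := by
  classical
  have hepi := (Algebra.isEpi_iff_forall_one_tmul_eq R S).mp inferInstance
  have hex := fun g : S => exists_code (R := R) g (hepi g)
  choose k κ la lb lc hcode using hex
  let F : S → ℕ × ℕ × List R × List R × List (List R) := fun g => (k g, κ g, la g, lb g, lc g)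
  have hF : Function.Injective F := by
    intro g g' h
    simp only [F, Prod.mk.injEq] at h
    obtain ⟨hk, hκ, hla, hlb, hlc⟩ := h
    have h' := hcode g'
    rw [← hk, ← hκ, ← hla, ← hlb, ← hlc] at h'
    exact code_unique (hcode g) h'
  have hcard := Cardinal.mk_le_of_injective hF
  have hR : Cardinal.aleph0 ≤ Cardinal.mk R := Cardinal.aleph0_le_mk R
  have hL : Cardinal.mk (List R) = Cardinal.mk R := Cardinal.mk_list_eq_mk R
  have hLL : Cardinal.mk (List (List R)) = Cardinal.mk R := by
    rw [Cardinal.mk_list_eq_mk (List R), hL]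
  refine hcard.trans ?_
  simp only [Cardinal.mk_prod, Cardinal.lift_id, Cardinal.mk_nat, Cardinal.lift_aleph0,
    Cardinal.lift_uzero, hL, hLL]
  rw [Cardinal.mul_eq_self hR, Cardinal.mul_eq_self hR, Cardinal.aleph0_mul_eq hR,
    Cardinal.aleph0_mul_eq hR]


end Groth.Agent.S6375
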