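import Groth.Statements.S6376
-- import your own Groth.Agent.* helpers here

set_option autoImplicit false
universe u
open CAlg

namespace Groth.Agent.S6376

open TensorProduct in
theorem forward (R S : Type u) [CommRing R] [CommRing S] [Algebra R S] (h : Algebra.IsEpi R S)
    (N₁ N₂ : Type u) [AddCommGroup N₁] [Module S N₁] [Module R N₁] [IsScalarTower R S N₁]
    [AddCommGroup N₂] [Module S N₂] [Module R N₂] [IsScalarTower R S N₂] (φ : N₁ →ₗ[R] N₂)
    (s : S) (x : N₁) : φ (s • x) = s • φ x := by
  let g : S ⊗[R] S →ₗ[R] N₂ := TensorProduct.lift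
    { toFun := fun a =>
        { toFun := fun b => a • φ (b • x)
          map_add' := fun b c => by simp [add_smul, smul_add]
          map_smul' := fun r b => by
            simp only [RingHom.id_apply, smul_assoc, map_smul]
            rw [smul_comm] }
      map_add' := fun a b => by ext c; simp [add_smul]
      map_smul' := fun r a => by ext c; simp [smul_assoc] }
  have := congrArg g ((Algebra.isEpi_iff_forall_one_tmul_eq R S).mp h s)
  simpa [g] using this

open TensorProduct in
theorem backward (R S : Type u) [CommRing R] [CommRing S] [Algebra R S]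
    (h : ∀ (N₁ N₂ : Type u) [AddCommGroup N₁] [Module S N₁] [Module R N₁] [IsScalarTower R S N₁]
        [AddCommGroup N₂] [Module S N₂] [Module R N₂] [IsScalarTower R S N₂] (φ : N₁ →ₗ[R] N₂),
        ∀ (s : S) (x : N₁), φ (s • x) = s • φ x) : Algebra.IsEpi R S := by
  rw [Algebra.isEpi_iff_forall_one_tmul_eq]
  intro a
  let φ : S →ₗ[R] S ⊗[R] S :=
    { toFun := fun b => 1 ⊗ₜ[R] b
      map_add' := fun b c => TensorProduct.tmul_add _ _ _
      map_smul' := fun r b => TensorProduct.tmul_smul _ _ _ }
  have := h S (S ⊗[R] S) φ a 1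
  simpa [φ, TensorProduct.smul_tmul'] using this

/-- A ring map R → S is an epimorphism if and only if for all S-modules N₁, N₂ every R-linear map N₁ →
N₂ is S-linear, i.e. restriction of scalars from S-modules to R-modules is fully faithful. -/
theorem result (R S : Type u) [CommRing R] [CommRing S] [Algebra R S] :
    Algebra.IsEpi R S ↔
      ∀ (N₁ N₂ : Type u) [AddCommGroup N₁] [Module S N₁] [Module R N₁] [IsScalarTower R S N₁]
        [AddCommGroup N₂] [Module S N₂] [Module R N₂] [IsScalarTower R S N₂] (φ : N₁ →ₗ[R] N₂),
        ∀ (s : S) (x : N₁), φ (s • x) = s • φ x := by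
  constructor
  · intro h N₁ N₂ _ _ _ _ _ _ _ _ φ s x
    exact forward R S h N₁ N₂ φ s x
  · intro h
    exact backward R S h

end Groth.Agent.S6376
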