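import Groth.Statements.S6377
import Mathlib
import Groth.Agent.Lib.Helper21.TorClass
import Groth.Agent.Lib.Helper8.TorBal6

set_option autoImplicit false
universe u
open CategoryTheory
open scoped TensorProduct
open CAlg

namespace Groth.Agent.S6377

open Groth.Agent.Lib.Helper21 Groth.Agent.Lib.Helper21.TorClass Groth.Agent.Lib.Helper21.TorLES
  Groth.Agent.Lib.Helper21.TorShift

section Aux

variable (A : Type u) [CommRing A] (M : Type u) [AddCommGroup M] [Module A M]

/-- the vanishing predicate -/
abbrev V (j : ℕ) (T : Type u) [AddCommGroup T] [Module A T] : Prop :=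
  Limits.IsZero (((Tor (ModuleCat.{u} A) j).obj (ModuleCat.of A T)).obj (ModuleCat.of A M))

lemma V_of_subsingleton (j : ℕ) (hj : 1 ≤ j) (T : Type u) [AddCommGroup T] [Module A T]
    [Subsingleton T] : V A M j T := by
  haveI : Module.Flat A (ModuleCat.of A T) := inferInstanceAs (Module.Flat A T)
  exact isZero_tor_of_flat_left _ _ j hj

/-- bounded `g`-torsion -/
lemma V_of_pow_torsion (g : A) (P : ∀ (T : Type u) [AddCommGroup T] [Module A T], Prop)
    (hPsub : ∀ (T : Type u) [AddCommGroup T] [Module A T] (S : Submodule A T), P T → P S)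
    (hPquot : ∀ (T : Type u) [AddCommGroup T] [Module A T] (S : Submodule A T), P T → P (T ⧸ S))
    (j : ℕ) (hj : 1 ≤ j)
    (H : ∀ (T : Type u) [AddCommGroup T] [Module A T], P T → (∀ t : T, g • t = 0) → V A M j T) :
    ∀ (n : ℕ) (T : Type u) [AddCommGroup T] [Module A T], P T → (∀ t : T, g ^ n • t = 0) →
      V A M j T := by
  intro n
  induction n with
  | zero =>
    intro T _ _ _ h0
    haveI : Subsingleton T := ⟨fun a b => by
      have ha := h0 a; have hb := h0 b
      simp only [pow_zero, one_smul] at ha hb
      rw [ha, hb]⟩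
    exact V_of_subsingleton A M j hj T
  | succ n ih =>
    intro T _ _ hPT hT
    let X₁ : Submodule A T := Submodule.torsionBy A T g
    have hS := shortExact_of X₁.subtype X₁.mkQ Subtype.val_injective
      (LinearMap.exact_subtype_mkQ X₁) (Submodule.mkQ_surjective X₁)
    have h1 : V A M j X₁ := H X₁ (hPsub T X₁ hPT) (fun t => by
      apply Subtype.ext
      have := t.2
      rw [Submodule.mem_torsionBy_iff] at this
      simpa using this)
    have h3 : V A M j (T ⧸ X₁) := ih (T ⧸ X₁) (hPquot T X₁ hPT) (fun y => by
      obtain ⟨t, rfl⟩ := Submodule.Quotient.mk_surjective X₁ y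
      rw [← Submodule.Quotient.mk_smul, Submodule.Quotient.mk_eq_zero,
        Submodule.mem_torsionBy_iff, smul_smul, ← pow_succ']
      exact hT t)
    exact isZero_tor_mid _ _ _ hS _ j h1 h3

/-- `g`-power torsion -/
lemma V_of_pow_torsion_union (g : A) (P : ∀ (T : Type u) [AddCommGroup T] [Module A T], Prop)
    (hPsub : ∀ (T : Type u) [AddCommGroup T] [Module A T] (S : Submodule A T), P T → P S)
    (hPquot : ∀ (T : Type u) [AddCommGroup T] [Module A T] (S : Submodule A T), P T → P (T ⧸ S))
    (j : ℕ) (hj : 1 ≤ j)
    (H : ∀ (T : Type u) [AddCommGroup T] [Module A T], P T → (∀ t : T, g • t = 0) → V A M j T)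
    (T : Type u) [AddCommGroup T] [Module A T] (hPT : P T)
    (hT : ∀ t : T, ∃ n : ℕ, g ^ n • t = 0) : V A M j T := by
  refine isZero_tor_of_directed_union (ModuleCat.of A M) j
    (fun n : ULift.{u} ℕ => Submodule.torsionBy A T (g ^ n.down)) ?_ ?_ ?_
  · intro n m hnm t ht
    rw [Submodule.mem_torsionBy_iff] at ht ⊢
    have hle : n.down ≤ m.down := hnm
    obtain ⟨d, hd⟩ := Nat.exists_eq_add_of_le hle
    rw [hd, pow_add, mul_comm, mul_smul, ht, smul_zero]
  · intro t
    obtain ⟨n, hn⟩ := hT t
    exact ⟨⟨n⟩, (Submodule.mem_torsionBy_iff _ _).2 hn⟩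
  · intro n
    refine V_of_pow_torsion A M g P hPsub hPquot j hj H n.down _ (hPsub T _ hPT) (fun t => ?_)
    apply Subtype.ext
    have := t.2
    rw [Submodule.mem_torsionBy_iff] at this
    simpa using this

end Aux


/-- Let A be a ring, M an A-module and I = (f_1, ..., f_r) an ideal generated by r ≥ 1 elements. If (1)
M_{f_i} is flat over A_{f_i} for each i, (2) M/IM is flat over A/I, and (3) Tor_i^A(M, A/I) = 0 for
i = 1, ..., r + 1, then M is flat over A. (The published statement adds the same with 'faithfully
flat', whose proof it omits; that variant is not included.) -/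
theorem result (A : Type u) [CommRing A] (M : Type u) [AddCommGroup M]
    [Module A M] {r : ℕ} (hr : 1 ≤ r) (f : Fin r → A)
    (h1 : ∀ i, Module.Flat (Localization.Away (f i)) (LocalizedModule (Submonoid.powers (f i)) M))
    (h2 : Module.Flat (A ⧸ Ideal.span (Set.range f)) ((A ⧸ Ideal.span (Set.range f)) ⊗[A] M))
    (h3 : ∀ i : ℕ, 1 ≤ i → i ≤ r + 1 →
      Limits.IsZero (((CategoryTheory.Tor (ModuleCat.{u} A) i).obj (ModuleCat.of A M)).obj (ModuleCat.of A (A ⧸ Ideal.span (Set.range f))))) :
    Module.Flat A M := by
  classical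
  set I := Ideal.span (Set.range f) with hI
  -- Step A: symmetric form of h3
  have h3' : ∀ j, 1 ≤ j → j ≤ r + 1 → V A M j (A ⧸ I) := by
    intro j hj hjr
    obtain ⟨e⟩ := Groth.Agent.Lib.Helper8.TorBal6.main A j
    exact Limits.IsZero.of_iso (h3 j hj hjr)
      ((e.app (ModuleCat.of A (A ⧸ I))).app (ModuleCat.of A M))
  have key : ∀ k, k ≤ r → ∀ (T : Type u) [AddCommGroup T] [Module A T],
      (∀ i : Fin r, k ≤ i.val → ∀ t : T, f i • t = 0) →
        ∀ j, 1 ≤ j → j + k ≤ r + 1 → V A M j T := by
    intro k
    induction k with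
    | zero =>
      intro _ T _ _ hT j hj hjr
      have htors : Module.IsTorsionBySet A T (I : Set A) := by
        rw [hI, ← Module.isTorsionBySet_iff_is_torsion_by_span]
        rintro t ⟨a, ⟨i, rfl⟩⟩
        exact hT i (Nat.zero_le _) t
      letI := htors.module
      haveI : IsScalarTower A (A ⧸ I) T := htors.isScalarTower
      haveI := h2
      exact isZero_tor_of_module (A ⧸ I) M (r + 1) h3' j hj (by omega) T
    | succ k ih =>
      intro hk T _ _ hT j hj hjr
      have hk' : k < r := hk
      set g := f ⟨k, hk'⟩ with hg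
      let P : ∀ (T : Type u) [AddCommGroup T] [Module A T], Prop :=
        fun T _ _ => ∀ i : Fin r, k + 1 ≤ i.val → ∀ t : T, f i • t = 0
      have hPsub : ∀ (T : Type u) [AddCommGroup T] [Module A T] (S : Submodule A T),
          P T → P S :=
        fun T _ _ S hP i hi t => Subtype.ext (by simpa using hP i hi t.1)
      have hPquot : ∀ (T : Type u) [AddCommGroup T] [Module A T] (S : Submodule A T),
          P T → P (T ⧸ S) := fun T _ _ S hP i hi y => by
        obtain ⟨t, rfl⟩ := Submodule.Quotient.mk_surjective S y
        rw [← Submodule.Quotient.mk_smul, hP i hi t, Submodule.Quotient.mk_zero]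
      have Hg : ∀ j', 1 ≤ j' → j' + k ≤ r + 1 → ∀ (T : Type u) [AddCommGroup T] [Module A T],
          P T → (∀ t : T, g • t = 0) → V A M j' T := by
        intro j' hj' hjk T _ _ hP hgT
        refine ih (by omega) T (fun i hi t => ?_) j' hj' hjk
        rcases Nat.eq_or_lt_of_le hi with h | h
        · have : i = ⟨k, hk'⟩ := Fin.ext h.symm
          rw [this]; exact hgT t
        · exact hP i h t
      have Hginf : ∀ j', 1 ≤ j' → j' + k ≤ r + 1 → ∀ (T : Type u) [AddCommGroup T]
          [Module A T], P T → (∀ t : T, ∃ n : ℕ, g ^ n • t = 0) → V A M j' T :=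
        fun j' hj' hjk T _ _ hP hT' =>
          V_of_pow_torsion_union A M g P hPsub hPquot j' hj' (Hg j' hj' hjk) T hP hT'
      let S := Submonoid.powers g
      let L : T →ₗ[A] LocalizedModule S T := LocalizedModule.mkLinearMap S T
      have hPTg : P (LocalizedModule S T) := by
        intro i hi z
        induction z using LocalizedModule.induction_on with
        | h t s => rw [LocalizedModule.smul'_mk, hT i hi t, LocalizedModule.zero_mk]
      have hVTg : V A M j (LocalizedModule S T) := by
        haveI := h1 ⟨k, hk'⟩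
        haveI : Module.Flat (Localization.Away g) (Localization.Away g ⊗[A] M) :=
          Module.Flat.of_linearEquiv (LocalizedModule.equivTensorProduct S M).symm
        refine isZero_tor_of_module (Localization.Away g) M j (fun j' hj' _ => ?_) j hj le_rfl
          (LocalizedModule S T)
        haveI : Module.Flat A (ModuleCat.of A (Localization.Away g)) :=
          inferInstanceAs (Module.Flat A (Localization.Away g))
        exact isZero_tor_of_flat_left _ _ j' hj'
      have hker : V A M j (LinearMap.ker L) :=
        Hginf j hj (by omega) _ (hPsub T _ hT) (fun t => by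
          obtain ⟨c, hc⟩ := (IsLocalizedModule.eq_zero_iff S L).1 t.2
          obtain ⟨n, hn⟩ := c.2
          have hn' : g ^ n = (c : A) := hn
          refine ⟨n, Subtype.ext ?_⟩
          rw [Submodule.coe_smul, Submodule.coe_zero, hn']
          exact hc)
      have hcok : V A M (j + 1) (LocalizedModule S T ⧸ LinearMap.range L) :=
        Hginf (j + 1) (by omega) (by omega) _ (hPquot _ _ hPTg) (fun y => by
          obtain ⟨z, rfl⟩ := Submodule.Quotient.mk_surjective _ y
          obtain ⟨⟨t, c⟩, hc⟩ := IsLocalizedModule.surj S L z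
          obtain ⟨n, hn⟩ := c.2
          have hn' : g ^ n = (c : A) := hn
          refine ⟨n, ?_⟩
          rw [← Submodule.Quotient.mk_smul, Submodule.Quotient.mk_eq_zero]
          refine ⟨t, ?_⟩
          rw [← hc, hn']
          rfl)
      have hS2 := shortExact_of (LinearMap.range L).subtype (LinearMap.range L).mkQ
        Subtype.val_injective (LinearMap.exact_subtype_mkQ _) (Submodule.mkQ_surjective _)
      have hrng : V A M j (LinearMap.range L) :=
        isZero_tor_of_isZero_succ _ _ _ hS2 _ j hcok hVTg
      have hS1 := shortExact_of (LinearMap.ker L).subtype L.rangeRestrict Subtype.val_injective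
        (LinearMap.exact_iff.2 (by rw [LinearMap.ker_rangeRestrict, Submodule.range_subtype]))
        L.surjective_rangeRestrict
      exact isZero_tor_mid _ _ _ hS1 _ j hker hrng
  have hall : ∀ (T : Type u) [AddCommGroup T] [Module A T], V A M 1 T := fun T _ _ =>
    key r le_rfl T (fun i hi => absurd i.2 (by omega)) 1 le_rfl (by omega)
  rw [Module.Flat.iff_rTensor_preserves_injective_linearMap'.{u, u, u}]
  intro N N' _ _ _ _ φ hφ
  have hS := shortExact_of φ (LinearMap.range φ).mkQ hφ (LinearMap.exact_map_mkQ_range φ)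
    (Submodule.mkQ_surjective _)
  exact (isZero_tor_one_iff_of_isZero _ _ _ hS (ModuleCat.of A M) (hall N')).1
    (hall (N' ⧸ LinearMap.range φ))

end Groth.Agent.S6377
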