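import Groth.Statements.S6378
import Mathlib
import Groth.Agent.Lib.Helper21.TorLES

set_option autoImplicit false
universe u
open CategoryTheory
open CAlg

namespace Groth.Agent.S6378

section helpers
open Groth.Agent.Lib.Helper21.TorLES CategoryTheory CategoryTheory.Limits

theorem main (R : Type u) [CommRing R] [IsLocalRing R]
    (M : Type u) [AddCommGroup M] [Module R M]
    (h : Limits.IsZero (((CategoryTheory.Tor (ModuleCat.{u} R) 1).obj
      (ModuleCat.of R (IsLocalRing.ResidueField R))).obj (ModuleCat.of R M)))
    (N : Type u) [AddCommGroup N] [Module R N] (hN : IsFiniteLength R N) :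
    Limits.IsZero (((CategoryTheory.Tor (ModuleCat.{u} R) 1).obj (ModuleCat.of R N)).obj
      (ModuleCat.of R M)) := by
  induction hN with
  | @of_subsingleton N _ _ _ =>
    let P := ProjectiveResolution.of (ModuleCat.of R M)
    have : Module.Flat R (ModuleCat.of R N) := by
      change Module.Flat R N
      infer_instance
    refine IsZero.of_iso ?_ (P.isoLeftDerivedObj
      ((MonoidalCategory.tensoringLeft (ModuleCat.{u} R)).obj (ModuleCat.of R N)) 1)
    exact isZero_H_succ_of_flat (ModuleCat.of R N) P 0
  | @of_simple_quotient N _ _ N' hsimple hN' ih =>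
    -- the quotient is the residue field
    obtain ⟨I, hI, ⟨e⟩⟩ := isSimpleModule_iff_quot_maximal.1 hsimple
    have hIm : I = IsLocalRing.maximalIdeal R := IsLocalRing.eq_maximalIdeal hI
    subst hIm
    have e' : (N ⧸ N') ≃ₗ[R] IsLocalRing.ResidueField R := e
    have h3 : IsZero (((CategoryTheory.Tor (ModuleCat.{u} R) 1).obj
        (ModuleCat.of R (N ⧸ N'))).obj (ModuleCat.of R M)) := by
      refine IsZero.of_iso h ?_
      exact ((CategoryTheory.Tor (ModuleCat.{u} R) 1).mapIso e'.toModuleIso).app (ModuleCat.of R M)
    have hS : (ShortComplex.mk (ModuleCat.ofHom N'.subtype) (ModuleCat.ofHom N'.mkQ)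
        (by ext x; exact (LinearMap.exact_subtype_mkQ N').apply_apply_eq_zero x)).ShortExact :=
      ModuleCat.shortComplex_shortExact _ (LinearMap.exact_subtype_mkQ N')
        N'.injective_subtype N'.mkQ_surjective
    exact isZero_tor_mid _ _ _ hS (ModuleCat.of R M) 1 ih h3

end helpers


/-- Let (R, m, κ) be a local ring and M an R-module with Tor_1^R(κ, M) = 0. Then Tor_1^R(N, M) = 0 for
every finite length R-module N. -/
theorem result (R : Type u) [CommRing R] [IsLocalRing R]
    (M : Type u) [AddCommGroup M] [Module R M]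
    (h : Limits.IsZero (((CategoryTheory.Tor (ModuleCat.{u} R) 1).obj (ModuleCat.of R (IsLocalRing.ResidueField R))).obj (ModuleCat.of R M)))
    (N : Type u) [AddCommGroup N] [Module R N] (hN : IsFiniteLength R N) :
    Limits.IsZero (((CategoryTheory.Tor (ModuleCat.{u} R) 1).obj (ModuleCat.of R N)).obj (ModuleCat.of R M)) := by
  exact main R M h N hN

end Groth.Agent.S6378
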