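import Groth.Statements.S6379
import Groth.Agent.Lib.Helper14.MLProd
import Mathlib.RingTheory.Flat.Basic
import Mathlib.RingTheory.TensorProduct.Finite

set_option autoImplicit false
universe u
open scoped TensorProduct
open CAlg

namespace Groth.Agent.S6379

open TensorProduct Groth.Agent.Lib.Helper14.MLProd

section

variable {R : Type u} [CommRing R] {M : Type u} [AddCommGroup M] [Module R M]

/-- compatibility of the comparison map with a map into a product -/
lemma piRightHom_comm_rTensor {F : Type u} [AddCommGroup F] [Module R F]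
    {ι : Type u} (Q : ι → Type u) [∀ i, AddCommGroup (Q i)] [∀ i, Module R (Q i)]
    (φ : ∀ i, F →ₗ[R] Q i) (x : F ⊗[R] M) (i : ι) :
    TensorProduct.piRightHom R R M Q
      (TensorProduct.comm R _ _ (LinearMap.rTensor M (LinearMap.pi φ) x)) i =
      TensorProduct.comm R _ _ (LinearMap.rTensor M (φ i) x) := by
  induction x using TensorProduct.induction_on with
  | zero => simp
  | tmul a m => simp
  | add y z hy hz => simp only [map_add, Pi.add_apply, hy, hz]

theorem smallest_of_ml [Module.Flat R M] (h : CAlg.IsMittagLeffler R M)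
    (F : Type u) [AddCommGroup F] [Module R F] (x : F ⊗[R] M) :
    ∃ F' : Submodule R F,
        x ∈ LinearMap.range (F'.subtype.rTensor M) ∧
        ∀ F'' : Submodule R F, x ∈ LinearMap.range (F''.subtype.rTensor M) → F' ≤ F'' := by
  let 𝓕 := {F'' : Submodule R F // x ∈ LinearMap.range (F''.subtype.rTensor M)}
  let Q : 𝓕 → Type u := fun F'' => F ⧸ F''.1
  let φ : ∀ F'' : 𝓕, F →ₗ[R] Q F'' := fun F'' => F''.1.mkQ
  let F' : Submodule R F := LinearMap.ker (LinearMap.pi φ)
  have hF' : ∀ F'' : 𝓕, F' ≤ F''.1 := by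
    intro F'' v hv
    have h1 : LinearMap.pi φ v = 0 := hv
    have h2 : φ F'' v = 0 := by
      have := congrFun h1 F''
      simpa using this
    exact (Submodule.Quotient.mk_eq_zero _).mp h2
  refine ⟨F', ?_, fun F'' hF'' => hF' ⟨F'', hF''⟩⟩
  have hex : Function.Exact (F'.subtype.rTensor M) ((LinearMap.pi φ).rTensor M) :=
    Module.Flat.rTensor_exact M (LinearMap.exact_subtype_ker_map (LinearMap.pi φ))
  rw [LinearMap.mem_range]
  apply (hex x).mp
  apply (TensorProduct.comm R (∀ F'' : 𝓕, Q F'') M).injective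
  apply h 𝓕 Q
  rw [map_zero, map_zero]
  ext F''
  rw [piRightHom_comm_rTensor]
  obtain ⟨t, ht⟩ := F''.2
  have h3 : LinearMap.rTensor M (φ F'') x =
      LinearMap.rTensor M (φ F'') (LinearMap.rTensor M F''.1.subtype t) := by rw [ht]
  rw [h3, ← LinearMap.comp_apply, ← LinearMap.rTensor_comp]
  have : φ F'' ∘ₗ F''.1.subtype = 0 := by
    ext v : 1
    exact (Submodule.Quotient.mk_eq_zero _).mpr v.2
  rw [this, LinearMap.rTensor_zero]
  simp

end


/-- Let M be a flat Mittag-Leffler module over a commutative ring R, F an R-module and x ∈ F ⊗_R M. Then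
among the submodules F' of F with x in the image of F' ⊗ M → F ⊗ M there is a smallest one, and it
is a finitely generated module. -/
theorem result (R : Type u) [CommRing R] (M : Type u)
    [AddCommGroup M] [Module R M] [Module.Flat R M] (hM : CAlg.IsMittagLeffler R M)
    (F : Type u) [AddCommGroup F] [Module R F] (x : F ⊗[R] M) :
    ∃ F' : Submodule R F, F'.FG ∧ x ∈ LinearMap.range (F'.subtype.rTensor M) ∧
      ∀ F'' : Submodule R F, x ∈ LinearMap.range (F''.subtype.rTensor M) → F' ≤ F'' := by
  obtain ⟨F', ⟨t, ht⟩, hmin⟩ := smallest_of_ml hM F x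
  refine ⟨F', ?_, ⟨t, ht⟩, hmin⟩
  obtain ⟨J, hJ, hle, y, hy⟩ := Submodule.exists_fg_le_eq_rTensor_inclusion t
  have hxJ : x ∈ LinearMap.range (J.subtype.rTensor M) := by
    refine ⟨y, ?_⟩
    rw [← ht, hy, ← LinearMap.comp_apply, ← LinearMap.rTensor_comp]
    rfl
  have : F' = J := le_antisymm (hmin J hxJ) hle
  rw [this]
  exact hJ

end Groth.Agent.S6379
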