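import Groth.Statements.S6381
import Mathlib.RingTheory.LocalRing.ResidueField.Ideal
import Mathlib.RingTheory.Polynomial.ScaleRoots
import Mathlib.RingTheory.Localization.Integer
import Mathlib.Algebra.Polynomial.Lifts
import Mathlib.RingTheory.AdjoinRoot
import Mathlib.RingTheory.PowerBasis
import Mathlib.FieldTheory.Tower
import Mathlib.LinearAlgebra.FiniteDimensional.Basic
import Mathlib.LinearAlgebra.Dimension.FreeAndStrongRankCondition
import Mathlib.LinearAlgebra.Finsupp.VectorSpace

set_option autoImplicit false
universe u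
open CAlg

namespace Groth.Agent.S6381

section helpers

open Polynomial


/-- A monic lift to `R[X]` of a rescaling of the minimal polynomial of `α`. -/
theorem exists_monic_lift (R : Type u) [CommRing R] (p : Ideal R) [p.IsPrime]
    (L : Type u) [Field L] [Algebra p.ResidueField L] [FiniteDimensional p.ResidueField L]
    (α : L) :
    ∃ (f : R[X]) (s : p.ResidueField), s ≠ 0 ∧ f.Monic ∧
      f.natDegree = (minpoly p.ResidueField α).natDegree ∧
      eval₂ ((algebraMap p.ResidueField L).comp (algebraMap R p.ResidueField))
        (algebraMap p.ResidueField L s * α) f = 0 := by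
  classical
  set μ := minpoly p.ResidueField α with hμ
  have hint : IsIntegral p.ResidueField α := Algebra.IsIntegral.isIntegral α
  have hmonic : μ.Monic := minpoly.monic hint
  obtain ⟨b, hb⟩ := IsLocalization.exist_integer_multiples_of_finset (nonZeroDivisors (R ⧸ p))
    (S := p.ResidueField) (μ.support.image μ.coeff)
  obtain ⟨s, hs⟩ := Ideal.Quotient.mk_surjective (b : R ⧸ p)
  set sb : p.ResidueField := algebraMap R p.ResidueField s with hsb
  have hsb' : sb = algebraMap (R ⧸ p) p.ResidueField (b : R ⧸ p) := by
    rw [hsb, ← hs]; rfl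
  have hsb0 : sb ≠ 0 := by
    rw [hsb']
    intro h0
    have := (IsFractionRing.injective (R ⧸ p) p.ResidueField) (h0.trans (map_zero _).symm)
    exact nonZeroDivisors.coe_ne_zero b this
  have hcoef : ∀ i, sb * μ.coeff i ∈ Set.range (algebraMap R p.ResidueField) := by
    intro i
    by_cases hi : i ∈ μ.support
    · obtain ⟨y, hy⟩ := hb (μ.coeff i) (Finset.mem_image_of_mem _ hi)
      obtain ⟨r, rfl⟩ := Ideal.Quotient.mk_surjective y
      refine ⟨r, ?_⟩
      rw [Algebra.smul_def, ← hsb'] at hy
      rw [← hy]; rfl
    · rw [Polynomial.notMem_support_iff.mp hi, mul_zero]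
      exact ⟨0, map_zero _⟩
  have hlifts : scaleRoots μ sb ∈ lifts (algebraMap R p.ResidueField) := by
    rw [lifts_iff_coeff_lifts]
    intro n
    rw [coeff_scaleRoots]
    rcases lt_trichotomy n μ.natDegree with hn | hn | hn
    · obtain ⟨k, hk⟩ : ∃ k, μ.natDegree - n = k + 1 := ⟨μ.natDegree - n - 1, by omega⟩
      rw [hk, pow_succ, ← mul_assoc, mul_comm (μ.coeff n * sb ^ k), ← mul_assoc]
      obtain ⟨r, hr⟩ := hcoef n
      exact ⟨r * s ^ k, by rw [map_mul, map_pow, hr]⟩
    · rw [hn, Nat.sub_self, pow_zero, mul_one]
      exact ⟨1, by rw [map_one]; exact hmonic.symm⟩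
    · rw [coeff_eq_zero_of_natDegree_lt hn, zero_mul]
      exact ⟨0, map_zero _⟩
  obtain ⟨f, hfmap, hfdeg, hfmonic⟩ := lifts_and_natDegree_eq_and_monic hlifts
    ((monic_scaleRoots_iff sb).mpr hmonic)
  refine ⟨f, sb, hsb0, hfmonic, by rw [hfdeg, natDegree_scaleRoots], ?_⟩
  rw [← eval₂_map, hfmap]
  have := scaleRoots_aeval_eq_zero (A := L) (p := μ) (a := α) (r := sb) (minpoly.aeval _ _)
  rwa [aeval_def] at this



theorem linearIndependent_pow_smul (K : Type u) [Field K] (L : Type u) [Field L] [Algebra K L]
    (α : L) (s : K) (hs : s ≠ 0) (n : ℕ) (hn : n = (minpoly K α).natDegree) :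
    LinearIndependent K (fun i : Fin n => (algebraMap K L s * α) ^ (i : ℕ)) := by
  subst hn
  have h1 := linearIndependent_pow (K := K) α
  have h2 := h1.units_smul (fun i => Units.mk0 (s ^ (i : ℕ)) (pow_ne_zero _ hs))
  convert h2 using 1
  funext i
  simp [Pi.smul_apply', Units.smul_def, Algebra.smul_def, mul_pow]

theorem ker_lift_eq (R : Type u) [CommRing R] (p : Ideal R) [p.IsPrime]
    (L : Type u) [Field L] [Algebra p.ResidueField L]
    [Algebra R L] [IsScalarTower R p.ResidueField L] (α : L) (f : R[X]) (s : p.ResidueField)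
    (hs : s ≠ 0) (hf : f.Monic) (hdeg : f.natDegree = (minpoly p.ResidueField α).natDegree)
    (hroot : eval₂ (algebraMap R L) (algebraMap p.ResidueField L s * α) f = 0) :
    RingHom.ker (AdjoinRoot.lift (algebraMap R L) (algebraMap p.ResidueField L s * α) hroot) =
      p.map (algebraMap R (AdjoinRoot f)) := by
  set β := algebraMap p.ResidueField L s * α with hβ
  set ψ := AdjoinRoot.lift (algebraMap R L) β hroot with hψ
  apply le_antisymm
  · intro z hz
    rw [RingHom.mem_ker] at hz
    let pb := AdjoinRoot.powerBasis' hf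
    have hli : LinearIndependent p.ResidueField (fun i : Fin pb.dim => β ^ (i : ℕ)) :=
      linearIndependent_pow_smul p.ResidueField L α s hs pb.dim
        ((AdjoinRoot.powerBasis'_dim hf).trans hdeg)
    have hz' : ∑ i : Fin pb.dim, pb.basis.repr z i • pb.basis i = z := pb.basis.sum_repr z
    have hψz' : ψ z = ∑ i : Fin pb.dim, algebraMap R L (pb.basis.repr z i) * β ^ (i : ℕ) := by
      conv_lhs => rw [← hz']
      rw [map_sum]
      refine Finset.sum_congr rfl fun i _ => ?_
      rw [Algebra.smul_def, map_mul, PowerBasis.basis_eq_pow, map_pow,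
        AdjoinRoot.powerBasis'_gen, hψ, AdjoinRoot.lift_root, AdjoinRoot.algebraMap_eq,
        AdjoinRoot.lift_of]
    have hψz : ∑ i : Fin pb.dim,
        (algebraMap R p.ResidueField (pb.basis.repr z i)) • (β ^ (i : ℕ) : L) = 0 := by
      rw [← hz, hψz']
      refine Finset.sum_congr rfl fun i _ => ?_
      rw [Algebra.smul_def, ← IsScalarTower.algebraMap_apply]
    have hc := Fintype.linearIndependent_iff.mp hli _ hψz
    rw [← hz']
    refine Ideal.sum_mem _ fun i _ => ?_
    have hci : pb.basis.repr z i ∈ p := Ideal.algebraMap_residueField_eq_zero.mp (hc i)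
    rw [Algebra.smul_def]
    exact Ideal.mul_mem_right _ _ (Ideal.mem_map_of_mem _ hci)
  · rw [Ideal.map_le_iff_le_comap]
    intro r hr
    rw [Ideal.mem_comap, RingHom.mem_ker, hψ, AdjoinRoot.algebraMap_eq, AdjoinRoot.lift_of,
      IsScalarTower.algebraMap_apply R p.ResidueField L,
      Ideal.algebraMap_residueField_eq_zero.mpr hr, map_zero]



theorem step (R : Type u) [CommRing R] (p : Ideal R) [p.IsPrime]
    (L : Type u) [Field L] [Algebra p.ResidueField L] [FiniteDimensional p.ResidueField L]
    [Algebra R L] [IsScalarTower R p.ResidueField L]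
    (hns : ¬ Function.Surjective (algebraMap p.ResidueField L)) :
    ∃ (S : Type u) (_ : CommRing S) (_ : Algebra R S) (_ : Module.Finite R S) (_ : Module.Free R S)
      (q : Ideal S) (_ : q = p.map (algebraMap R S)) (_ : q.IsPrime) (φ : q.ResidueField →+* L),
      (∀ r : R, φ (algebraMap S q.ResidueField (algebraMap R S r)) = algebraMap R L r) ∧
      (letI := φ.toAlgebra
       Module.Finite q.ResidueField L ∧
        Module.finrank q.ResidueField L < Module.finrank p.ResidueField L) := by
  classical
  rw [Function.Surjective] at hns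
  push_neg at hns
  obtain ⟨α, hα⟩ := hns
  obtain ⟨f, s, hs, hfmonic, hfdeg, hroot'⟩ := exists_monic_lift R p L α
  have hroot : eval₂ (algebraMap R L) (algebraMap p.ResidueField L s * α) f = 0 := by
    rw [IsScalarTower.algebraMap_eq R p.ResidueField L]; exact hroot'
  set β := algebraMap p.ResidueField L s * α with hβ
  set ψ := AdjoinRoot.lift (algebraMap R L) β hroot with hψ
  have hker : RingHom.ker ψ = p.map (algebraMap R (AdjoinRoot f)) :=
    ker_lift_eq R p L α f s hs hfmonic hfdeg hroot
  have hqprime : (p.map (algebraMap R (AdjoinRoot f))).IsPrime := hker ▸ RingHom.ker_isPrime ψ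
  have hunits : (p.map (algebraMap R (AdjoinRoot f))).primeCompl ≤
      (IsUnit.submonoid L).comap ψ := by
    intro x hx
    rw [Submonoid.mem_comap, IsUnit.mem_submonoid_iff, isUnit_iff_ne_zero]
    intro h0
    exact hx (hker ▸ (RingHom.mem_ker.mpr h0))
  let φ : (p.map (algebraMap R (AdjoinRoot f))).ResidueField →+* L :=
    Ideal.ResidueField.lift _ ψ hker.ge hunits
  have hφ : ∀ x : AdjoinRoot f, φ (algebraMap _ _ x) = ψ x :=
    fun x => Ideal.ResidueField.lift_algebraMap _ ψ hker.ge hunits x
  have hψR : ∀ r : R, ψ (algebraMap R (AdjoinRoot f) r) = algebraMap R L r := by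
    intro r
    rw [hψ, AdjoinRoot.algebraMap_eq, AdjoinRoot.lift_of]
  haveI : Module.Finite R (AdjoinRoot f) := hfmonic.finite_adjoinRoot
  haveI : Module.Free R (AdjoinRoot f) := hfmonic.free_adjoinRoot
  refine ⟨AdjoinRoot f, inferInstance, inferInstance, inferInstance, inferInstance,
    p.map (algebraMap R (AdjoinRoot f)), rfl, hqprime, φ, fun r => by rw [hφ, hψR], ?_⟩
  -- the tower κ(p) → κ(q) → L
  have hinjL : Function.Injective (algebraMap p.ResidueField L) := (algebraMap p.ResidueField L).injective
  have hcomap : p = (p.map (algebraMap R (AdjoinRoot f))).comap (algebraMap R (AdjoinRoot f)) := by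
    ext x
    rw [Ideal.mem_comap, ← hker, RingHom.mem_ker, hψR,
      IsScalarTower.algebraMap_apply R p.ResidueField L, map_eq_zero_iff _ hinjL,
      Ideal.algebraMap_residueField_eq_zero]
  let ι : p.ResidueField →+* (p.map (algebraMap R (AdjoinRoot f))).ResidueField :=
    Ideal.ResidueField.map p _ (algebraMap R (AdjoinRoot f)) hcomap
  letI : Algebra p.ResidueField (p.map (algebraMap R (AdjoinRoot f))).ResidueField := ι.toAlgebra
  letI : Algebra (p.map (algebraMap R (AdjoinRoot f))).ResidueField L := φ.toAlgebra
  haveI : IsScalarTower p.ResidueField (p.map (algebraMap R (AdjoinRoot f))).ResidueField L := by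
    refine IsScalarTower.of_algebraMap_eq' ?_
    apply Ideal.ResidueField.ringHom_ext
    ext r
    change algebraMap p.ResidueField L (algebraMap R p.ResidueField r) =
      φ (ι (algebraMap R p.ResidueField r))
    rw [Ideal.ResidueField.map_algebraMap, hφ, hψR, ← IsScalarTower.algebraMap_apply]
  haveI : Module.Finite (p.map (algebraMap R (AdjoinRoot f))).ResidueField L :=
    Module.Finite.right p.ResidueField _ L
  haveI : Module.Finite p.ResidueField (p.map (algebraMap R (AdjoinRoot f))).ResidueField :=
    Module.Finite.left p.ResidueField _ L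
  refine ⟨inferInstance, ?_⟩
  have hmul := Module.finrank_mul_finrank p.ResidueField
    (p.map (algebraMap R (AdjoinRoot f))).ResidueField L
  have hpos1 : 0 < Module.finrank p.ResidueField
      (p.map (algebraMap R (AdjoinRoot f))).ResidueField := Module.finrank_pos
  have hpos2 : 0 < Module.finrank (p.map (algebraMap R (AdjoinRoot f))).ResidueField L :=
    Module.finrank_pos
  have hne1 : Module.finrank p.ResidueField
      (p.map (algebraMap R (AdjoinRoot f))).ResidueField ≠ 1 := by
    intro h1
    have hbij := Algebra.finrank_eq_one_iff_bijective_algebraMap.mp h1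
    obtain ⟨c, hc⟩ := hbij.2 (algebraMap (AdjoinRoot f)
      (p.map (algebraMap R (AdjoinRoot f))).ResidueField (AdjoinRoot.root f))
    have hβc : β = algebraMap p.ResidueField L c := by
      have h2 : φ (algebraMap _ _ (AdjoinRoot.root f)) = β := by
        rw [hφ, hψ, AdjoinRoot.lift_root]
      rw [← h2, ← hc]
      exact (IsScalarTower.algebraMap_apply p.ResidueField
        (p.map (algebraMap R (AdjoinRoot f))).ResidueField L c).symm
    apply hα (s⁻¹ * c)
    rw [map_mul, ← hβc, hβ, ← mul_assoc, ← map_mul, inv_mul_cancel₀ hs, map_one, one_mul]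
  have h2 : 2 ≤ Module.finrank p.ResidueField
      (p.map (algebraMap R (AdjoinRoot f))).ResidueField := by omega
  nlinarith



theorem main : ∀ (d : ℕ) (R : Type u) [CommRing R] (p : Ideal R) [p.IsPrime]
    (L : Type u) [Field L] [Algebra p.ResidueField L] [FiniteDimensional p.ResidueField L]
    [Algebra R L] [IsScalarTower R p.ResidueField L], Module.finrank p.ResidueField L = d →
    ∃ (S : Type u) (_ : CommRing S) (_ : Algebra R S) (_ : Module.Finite R S) (_ : Module.Free R S)
      (q : Ideal S) (_ : q = p.map (algebraMap R S)) (_ : q.IsPrime) (e : q.ResidueField ≃+* L),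
      ∀ r : R, e (algebraMap S q.ResidueField (algebraMap R S r)) = algebraMap R L r := by
  intro d
  induction d using Nat.strong_induction_on with
  | _ d ih =>
    intro R _ p _ L _ _ _ _ _ hd
    by_cases hsurj : Function.Surjective (algebraMap p.ResidueField L)
    · refine ⟨R, inferInstance, inferInstance, inferInstance, inferInstance, p, ?_, inferInstance,
        RingEquiv.ofBijective (algebraMap p.ResidueField L)
          ⟨(algebraMap p.ResidueField L).injective, hsurj⟩, ?_⟩
      · rw [Algebra.algebraMap_self, Ideal.map_id]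
      · intro r
        rw [RingEquiv.ofBijective_apply, Algebra.algebraMap_self_apply,
          ← IsScalarTower.algebraMap_apply]
    · obtain ⟨S₁, _, _, _, _, q₁, hq₁, hq₁p, φ, hφ, hfin⟩ := step R p L hsurj
      letI : Algebra q₁.ResidueField L := φ.toAlgebra
      obtain ⟨hfinL, hlt⟩ := hfin
      letI : Algebra S₁ L := (φ.comp (algebraMap S₁ q₁.ResidueField)).toAlgebra
      haveI : IsScalarTower S₁ q₁.ResidueField L := IsScalarTower.of_algebraMap_eq' rfl
      obtain ⟨S, _, _, _, _, q, hq, hqp, e, he⟩ :=
        ih (Module.finrank q₁.ResidueField L) (hd ▸ hlt) S₁ q₁ L rfl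
      letI : Algebra R S := ((algebraMap S₁ S).comp (algebraMap R S₁)).toAlgebra
      haveI : IsScalarTower R S₁ S := IsScalarTower.of_algebraMap_eq' rfl
      haveI : Module.Finite R S := Module.Finite.trans S₁ S
      haveI : Module.Free R S := Module.Free.trans (R := R) (S := S₁) (M := S)
      refine ⟨S, inferInstance, inferInstance, inferInstance, inferInstance, q, ?_, hqp, e, ?_⟩
      · rw [hq, hq₁, Ideal.map_map]; rfl
      · intro r
        have h1 := he (algebraMap R S₁ r)
        have h2 := hφ r
        exact h1.trans h2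

end helpers

/-- Let R be a ring, p ⊆ R a prime and L a finite extension of the residue field κ(p). Then one can find
a ring map R → S, with S finite free over R, for which q = pS is a prime of S and the residue field
κ(q) is isomorphic to L over κ(p) (stated as a ring isomorphism κ(q) ≅ L compatible with the maps
from R, which determines compatibility with κ(p)). -/
theorem result (R : Type u) [CommRing R] (p : Ideal R) [p.IsPrime]
    (L : Type u) [Field L] [Algebra p.ResidueField L] [FiniteDimensional p.ResidueField L]
    [Algebra R L] [IsScalarTower R p.ResidueField L] :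
    ∃ (S : Type u) (_ : CommRing S) (_ : Algebra R S) (_ : Module.Finite R S) (_ : Module.Free R S)
      (_ : (p.map (algebraMap R S)).IsPrime)
      (e : (p.map (algebraMap R S)).ResidueField ≃+* L),
      ∀ r : R, e (algebraMap R (p.map (algebraMap R S)).ResidueField r) = algebraMap R L r := by
  obtain ⟨S, i1, i2, i3, i4, q, hq, hqp, e, he⟩ :=
    main (Module.finrank p.ResidueField L) R p L rfl
  subst hq
  refine ⟨S, i1, i2, i3, i4, hqp, e, fun r => ?_⟩
  rw [IsScalarTower.algebraMap_apply R S (p.map (algebraMap R S)).ResidueField]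
  exact he r

end Groth.Agent.S6381
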