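import Groth.Statements.S6382
import Groth.Agent.Lib.Helper2.LocalCrit
import Groth.Agent.Lib.Helper2.FlatSquare
import Mathlib.RingTheory.TensorProduct.Finite
import Mathlib.RingTheory.LocalRing.RingHom.Basic

set_option autoImplicit false
universe u
open CAlg

namespace Groth.Agent.S6382

/-- Consider a commutative square of local rings and local homomorphisms R → S, R → R', S → S', R' → S',
and a finite S-module M. Assume the maps R → R' and S → S' are flat, M is flat over R, the maximal
ideal of R generates the maximal ideal of R', and R', S' are Noetherian. Then M' = M ⊗_S S' (any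
base change of M along S → S') is flat over R'. -/
theorem result (R S R' S' : Type u) [CommRing R] [CommRing S]
    [CommRing R'] [CommRing S'] [IsLocalRing R] [IsLocalRing S] [IsLocalRing R'] [IsLocalRing S']
    [Algebra R S] [Algebra R R'] [Algebra S S'] [Algebra R' S'] [Algebra R S']
    [IsScalarTower R S S'] [IsScalarTower R R' S']
    [IsLocalHom (algebraMap R S)] [IsLocalHom (algebraMap R R')] [IsLocalHom (algebraMap S S')]
    [IsLocalHom (algebraMap R' S')] [Module.Flat R R'] [Module.Flat S S']
    [IsNoetherianRing R'] [IsNoetherianRing S']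
    (hm : (IsLocalRing.maximalIdeal R).map (algebraMap R R') = IsLocalRing.maximalIdeal R')
    (M : Type u) [AddCommGroup M] [Module S M] [Module R M] [IsScalarTower R S M] [Module.Finite S M]
    [Module.Flat R M]
    (M' : Type u) [AddCommGroup M'] [Module S' M'] [Module S M'] [IsScalarTower S S' M'] [Module R' M']
    [IsScalarTower R' S' M'] (j : M →ₗ[S] M') (hj : IsBaseChange S' j) :
    Module.Flat R' M' := by
  letI : Module R M' := Module.compHom M' (algebraMap R S')
  haveI : IsScalarTower R S' M' := IsScalarTower.of_algebraMap_smul fun r m => rfl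
  haveI : IsScalarTower R S M' := IsScalarTower.of_algebraMap_smul fun r m => by
    show algebraMap R S r • m = algebraMap R S' r • m
    rw [IsScalarTower.algebraMap_apply R S S', algebraMap_smul S' (algebraMap R S r) m]
  haveI : IsScalarTower R R' M' := IsScalarTower.of_algebraMap_smul fun r m => by
    show algebraMap R R' r • m = algebraMap R S' r • m
    rw [IsScalarTower.algebraMap_apply R R' S', algebraMap_smul S' (algebraMap R R' r) m]
  haveI : Module.Flat R (TensorProduct S S' M) :=
    Lib.Helper2.FlatSquare.flat_tensor_of_flat S' M
  have e : (TensorProduct S S' M) ≃ₗ[R] M' := hj.equiv.restrictScalars R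
  haveI : Module.Flat R M' := Module.Flat.of_linearEquiv e.symm
  haveI : Module.Finite S' M' := Module.Finite.equiv hj.equiv
  have hinj := Lib.Helper2.FlatSquare.lTensor_map_subtype_injective (R' := R') (M' := M')
    (IsLocalRing.maximalIdeal R)
  rw [hm] at hinj
  have hJ : (IsLocalRing.maximalIdeal R').map (algebraMap R' S') ≤ Ideal.jacobson ⊥ := by
    rw [IsLocalRing.jacobson_eq_maximalIdeal ⊥ bot_ne_top]
    exact ((IsLocalRing.local_hom_TFAE (algebraMap R' S')).out 0 2).mp
      (inferInstance : IsLocalHom (algebraMap R' S'))
  letI : Field (R' ⧸ IsLocalRing.maximalIdeal R') := Ideal.Quotient.field _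
  haveI : Module.Flat (R' ⧸ IsLocalRing.maximalIdeal R')
      (TensorProduct R' (R' ⧸ IsLocalRing.maximalIdeal R') M') := inferInstance
  exact Lib.Helper2.LocalCrit.flat_of_injective_of_flat_quotient (S := S') _ hJ hinj

end Groth.Agent.S6382
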