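import Groth.Statements.S6383
-- import your own Groth.Agent.* helpers here
import Groth.Agent.Lib.Helper23.Kap7

set_option autoImplicit false
universe u
open scoped TensorProduct
open CAlg

namespace Groth.Agent.S6383

/-- For a ring map R → S and an R-module M whose base change S ⊗_R M is an internal direct sum of
countably generated S-submodules Q_i (i ∈ I), every countably generated submodule N ≤ M can be
enlarged to a countably generated submodule N' ≤ M, together with a subset I' ⊆ I, so that the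
S-span of the image 1 ⊗ N' inside S ⊗_R M equals the sum of the Q_i over i ∈ I'. -/
theorem result (R S : Type u) [CommRing R] [CommRing S] [Algebra R S]
    (M : Type u) [AddCommGroup M] [Module R M] {I : Type u} [DecidableEq I] (Q : I → Submodule S (S ⊗[R] M))
    (hQ : DirectSum.IsInternal Q) (hQc : ∀ i, ∃ t : Set (S ⊗[R] M), t.Countable ∧ Submodule.span S t = Q i)
    (N : Submodule R M) (hN : ∃ s : Set M, s.Countable ∧ Submodule.span R s = N) :
    ∃ (N' : Submodule R M) (I' : Set I), N ≤ N' ∧ (∃ s : Set M, s.Countable ∧ Submodule.span R s = N') ∧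
      Submodule.span S ((TensorProduct.mk R S M 1) '' (N' : Set M)) = ⨆ i ∈ I', Q i := by
  open Groth.Agent.Lib.Helper23.Kap in
  have htop : ⨆ i, Q i = ⊤ := hQ.submodule_iSup_eq_top
  obtain ⟨φ, hφ⟩ := Groth.Agent.Lib.Helper23.Kap.exists_phi Q htop
  obtain ⟨ψ, hψc, hψ⟩ := Groth.Agent.Lib.Helper23.Kap.exists_psi Q hQc
  obtain ⟨s, hs, rfl⟩ := hN
  let dep := Groth.Agent.Lib.Helper23.Kap.depV φ ψ
  have hdepc : ∀ v, (dep v).Countable := Groth.Agent.Lib.Helper23.Kap.depV_countable φ hψc
  let W : Set (M ⊕ I) := ⋃ m : s, Groth.Agent.Lib.Helper23.Kap.cl dep (Sum.inl m.1)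
  have hWclosed : Groth.Agent.Lib.Helper23.Kap.Closed dep W :=
    Groth.Agent.Lib.Helper23.Kap.closed_iUnion fun m =>
      Groth.Agent.Lib.Helper23.Kap.cl_closed dep _
  haveI : Countable s := hs.to_subtype
  have hWc : W.Countable := Set.countable_iUnion fun m =>
    Groth.Agent.Lib.Helper23.Kap.cl_countable hdepc _
  refine ⟨Submodule.span R (Groth.Agent.Lib.Helper23.Kap.TW W),
    Groth.Agent.Lib.Helper23.Kap.JW W, ?_, ⟨_, Groth.Agent.Lib.Helper23.Kap.TW_countable hWc, rfl⟩, ?_⟩
  · refine Submodule.span_mono fun m hm => ?_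
    exact Set.mem_iUnion.mpr ⟨⟨m, hm⟩, Groth.Agent.Lib.Helper23.Kap.mem_cl dep _⟩
  · rw [← Groth.Agent.Lib.Helper23.Kap.adapted_of_closed hφ hψ hWclosed,
      Submodule.baseChange_eq_span, Submodule.map_coe]

end Groth.Agent.S6383
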