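import Groth.Statements.S6384
import Groth.Agent.Lib.Helper2.AssFlat

set_option autoImplicit false
universe u
open scoped TensorProduct
open CAlg

namespace Groth.Agent.S6384

open Lib.Helper2 in
/-- Two-step filtration: if `M/IM` is flat over `R/I`, `R' ⊗ M` is flat over `R'`, and `E` is an
`R`-module killed by `I²` which embeds in an `R'`-module, then `M ⊗ K → M ⊗ E` is injective for
all submodules `K` of `E`. -/
theorem injective_of_embedding {R R' : Type*} [CommRing R] [CommRing R'] [Algebra R R']
    (I : Ideal R) {M : Type*} [AddCommGroup M] [Module R M]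
    [Module.Flat (R ⧸ I) ((R ⧸ I) ⊗[R] M)] [Module.Flat R' (R' ⊗[R] M)]
    {E : Type*} [AddCommGroup E] [Module R E] (hE : ∀ a ∈ I, ∀ b ∈ I, ∀ x : E, a • b • x = 0)
    {E' : Type*} [AddCommGroup E'] [Module R E'] [Module R' E'] [IsScalarTower R R' E']
    (ι : E →ₗ[R] E') (hι : Function.Injective ι) (K : Submodule R E) :
    Function.Injective (K.subtype.lTensor M) := by
  -- torsion submodules
  let U : Submodule R E := Submodule.torsionBySet R E (I : Set R)
  have hU : ∀ x : E, x ∈ U ↔ ∀ a ∈ I, a • x = 0 := by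
    intro x
    rw [Submodule.mem_torsionBySet_iff]
    exact ⟨fun h a ha => h ⟨a, ha⟩, fun h a => h a.1 a.2⟩
  let U' : Submodule R' E' :=
    { carrier := {y | ∀ a ∈ I, a • y = 0}
      add_mem' := fun {x y} hx hy a ha => by rw [smul_add, hx a ha, hy a ha, add_zero]
      zero_mem' := fun a _ => smul_zero a
      smul_mem' := fun c x hx a ha => by
        show a • c • x = 0
        rw [smul_comm, hx a ha, smul_zero] }
  have hU' : ∀ y : E', y ∈ U' ↔ ∀ a ∈ I, a • y = 0 := fun y => Iff.rfl
  -- Step 1: submodules of `U`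
  have step1 : ∀ K₁ : Submodule R E, K₁ ≤ U → Function.Injective (K₁.subtype.lTensor M) := by
    intro K₁ hK₁
    let j₁ : K₁ →ₗ[R] U' :=
      { toFun := fun x => ⟨ι x.1, by
          rw [hU']
          intro a ha
          rw [← map_smul, (hU x.1).mp (hK₁ x.2) a ha, map_zero]⟩
        map_add' := fun x y => Subtype.ext (by simp)
        map_smul' := fun r x => Subtype.ext (by simp) }
    have hj₁ : Function.Injective j₁ := by
      intro x y hxy
      apply Subtype.ext
      apply hι
      exact congrArg Subtype.val hxy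
    have h1 : Function.Injective (j₁.lTensor M) := by
      refine Groth.Agent.S2574.lTensor_injective_of_killed (M := M) I ?_ ?_ j₁ hj₁
      · intro a ha x
        apply Subtype.ext
        exact (hU x.1).mp (hK₁ x.2) a ha
      · intro a ha y
        apply Subtype.ext
        exact y.2 a ha
    have h2 : Function.Injective ((U'.subtype.restrictScalars R).lTensor M) :=
      LocalCrit.lTensor_injective_of_flat_baseChange (A := R') U'.subtype U'.injective_subtype
    have hcomp : (U'.subtype.restrictScalars R) ∘ₗ j₁ = ι ∘ₗ K₁.subtype := by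
      ext x
      rfl
    have h3 : Function.Injective ((ι ∘ₗ K₁.subtype).lTensor M) := by
      rw [← hcomp, LinearMap.lTensor_comp]
      exact h2.comp h1
    rw [LinearMap.lTensor_comp] at h3
    exact Function.Injective.of_comp h3
  -- Step 2
  rw [injective_iff_map_eq_zero]
  intro z hz
  let K' : Submodule R E := K ⊓ U
  let f : K' →ₗ[R] K := Submodule.inclusion inf_le_left
  let g : K →ₗ[R] (K ⧸ LinearMap.range f) := Submodule.mkQ _
  have hfg : Function.Exact f g := LinearMap.exact_map_mkQ_range f
  have hg : Function.Surjective g := Submodule.mkQ_surjective _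
  have hex := lTensor_exact M hfg hg
  have hmem : ∀ x : K, x ∈ LinearMap.range f ↔ x.1 ∈ U := by
    intro x
    constructor
    · rintro ⟨y, rfl⟩
      exact y.2.2
    · intro hx
      exact ⟨⟨x.1, x.2, hx⟩, rfl⟩
  -- the induced map `K/K' → E/U`
  let jbar : (K ⧸ LinearMap.range f) →ₗ[R] (E ⧸ U) :=
    Submodule.liftQ _ (U.mkQ ∘ₗ K.subtype) (by
      intro x hx
      rw [LinearMap.mem_ker, LinearMap.comp_apply, Submodule.mkQ_apply,
        Submodule.Quotient.mk_eq_zero]
      exact (hmem x).mp hx)
  have hjbar : Function.Injective jbar := by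
    rw [injective_iff_map_eq_zero]
    intro x hx
    obtain ⟨x, rfl⟩ := Submodule.mkQ_surjective _ x
    rw [Submodule.mkQ_apply, Submodule.Quotient.mk_eq_zero, hmem]
    have : U.mkQ x.1 = 0 := hx
    rwa [Submodule.mkQ_apply, Submodule.Quotient.mk_eq_zero] at this
  have hjg : jbar ∘ₗ g = U.mkQ ∘ₗ K.subtype := by
    ext x
    rfl
  have hzbar : g.lTensor M z = 0 := by
    have hinj : Function.Injective (jbar.lTensor M) := by
      refine Groth.Agent.S2574.lTensor_injective_of_killed (M := M) I ?_ ?_ jbar hjbar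
      · intro a ha x
        obtain ⟨x, rfl⟩ := Submodule.mkQ_surjective _ x
        rw [← map_smul, Submodule.mkQ_apply, Submodule.Quotient.mk_eq_zero, hmem, hU]
        intro b hb
        exact hE b hb a ha x.1
      · intro a ha x
        obtain ⟨x, rfl⟩ := Submodule.mkQ_surjective _ x
        rw [← map_smul, Submodule.mkQ_apply, Submodule.Quotient.mk_eq_zero, hU]
        intro b hb
        exact hE b hb a ha x
    apply hinj
    rw [map_zero, ← LinearMap.comp_apply, ← LinearMap.lTensor_comp, hjg, LinearMap.lTensor_comp,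
      LinearMap.comp_apply, hz, map_zero]
  obtain ⟨z', rfl⟩ := (hex z).mp hzbar
  have hz' : K'.subtype.lTensor M z' = 0 := by
    have hc : K.subtype ∘ₗ f = K'.subtype := rfl
    rw [← hc, LinearMap.lTensor_comp, LinearMap.comp_apply]
    exact hz
  rw [(injective_iff_map_eq_zero _).mp (step1 K' inf_le_right) z' hz', map_zero]


/-- Let φ : R → R' be a ring map, I ⊆ R an ideal and M an R-module such that M/IM is R/I-flat and R' ⊗_R
M is R'-flat. Put I₂ = φ⁻¹(φ(I²) R'). Then M/I₂M is flat over R/I₂. -/
theorem result (R R' : Type u) [CommRing R] [CommRing R'] [Algebra R R']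
    (I : Ideal R) (M : Type u) [AddCommGroup M] [Module R M] [Module.Flat (R ⧸ I) ((R ⧸ I) ⊗[R] M)]
    [Module.Flat R' (R' ⊗[R] M)] :
    Module.Flat (R ⧸ ((I ^ 2).map (algebraMap R R')).comap (algebraMap R R'))
      ((R ⧸ ((I ^ 2).map (algebraMap R R')).comap (algebraMap R R')) ⊗[R] M) := by
  apply Lib.Helper2.AssFlat.flat_quotient_of_forall_injective
  intro Q'
  let ι : (R ⧸ ((I ^ 2).map (algebraMap R R')).comap (algebraMap R R')) →ₗ[R]
      (R' ⧸ (I ^ 2).map (algebraMap R R')) :=
    Submodule.liftQ _
      ((((I ^ 2).map (algebraMap R R')).mkQ.restrictScalars R) ∘ₗ Algebra.linearMap R R') (by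
        intro x hx
        rw [LinearMap.mem_ker]
        show Ideal.Quotient.mk _ (algebraMap R R' x) = 0
        rw [Ideal.Quotient.eq_zero_iff_mem]
        exact hx)
  refine injective_of_embedding (R' := R') I ?_ ι ?_ Q'
  · intro a ha b hb x
    obtain ⟨y, rfl⟩ := Ideal.Quotient.mk_surjective x
    show Ideal.Quotient.mk _ (a * (b * y)) = 0
    rw [Ideal.Quotient.eq_zero_iff_mem, ← mul_assoc]
    apply Ideal.mul_mem_right
    rw [Ideal.mem_comap]
    apply Ideal.mem_map_of_mem
    rw [pow_two]
    exact Ideal.mul_mem_mul ha hb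
  · rw [injective_iff_map_eq_zero]
    intro x hx
    obtain ⟨y, rfl⟩ := Ideal.Quotient.mk_surjective x
    have h0 : Ideal.Quotient.mk ((I ^ 2).map (algebraMap R R')) (algebraMap R R' y) = 0 := hx
    rw [Ideal.Quotient.eq_zero_iff_mem] at h0 ⊢
    exact h0

end Groth.Agent.S6384
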