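import Groth.Statements.S6387
import Mathlib
import Groth.Agent.Lib.Helper21.FlatKit8

set_option autoImplicit false
universe u
open CategoryTheory
open CAlg

namespace Groth.Agent.S6387
open CategoryTheory

theorem flat_restrictScalars_of_linearEquiv {R S : Type u} [CommRing R] [CommRing S] [Algebra R S]
    (M : ModuleCat.{u} S) (N : Type u) [AddCommGroup N] [Module S N] [Module R N]
    [IsScalarTower R S N] (e : M ≃ₗ[S] N) [Module.Flat R N] :
    Module.Flat R ((ModuleCat.restrictScalars (algebraMap R S)).obj M) := by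
  let e' : ((ModuleCat.restrictScalars (algebraMap R S)).obj M) ≃ₗ[R] N :=
    { toFun := fun x => e x
      invFun := fun y => e.symm y
      left_inv := fun x => e.symm_apply_apply x
      right_inv := fun y => e.apply_symm_apply y
      map_add' := fun x y => e.map_add x y
      map_smul' := fun r x => by
        show e (algebraMap R S r • (show M from x)) = r • e x
        rw [map_smul, algebraMap_smul] }
  exact Module.Flat.of_linearEquiv e'


/-- Let R and S be Noetherian local rings, R → S a local ring map, and m the maximal ideal of R. Take a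
bounded complex F_e → … → F_1 → F_0 of finitely generated S-modules, zero to the left of F_e (a
chain complex C with C_j = 0 for j > e) such that every F_j is flat over R and the complex 0 →
F_e/mF_e → … → F_0/mF_0 (C tensored over S with S/mS) is exact at F_e, …, F_1. Then 0 → F_e → … →
F_0 is exact at F_e, …, F_1 and the cokernel of F_1 → F_0 (the homology of C in degree 0) is flat
over R. -/
theorem result {R S : Type u} [CommRing R] [CommRing S]
    [IsLocalRing R] [IsLocalRing S] [IsNoetherianRing R] [IsNoetherianRing S] [Algebra R S]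
    [IsLocalHom (algebraMap R S)] (C : ChainComplex (ModuleCat.{u} S) ℕ) (e : ℕ)
    (hzero : ∀ j, e < j → Limits.IsZero (C.X j)) (hfin : ∀ j, Module.Finite S (C.X j))
    (hflat : ∀ j, Module.Flat R ((ModuleCat.restrictScalars (algebraMap R S)).obj (C.X j)))
    (hex : ∀ j, 1 ≤ j → j ≤ e →
      (((MonoidalCategory.tensorLeft
          (ModuleCat.of S (S ⧸ (IsLocalRing.maximalIdeal R).map (algebraMap R S)))).mapHomologicalComplex
          (ComplexShape.down ℕ)).obj C).ExactAt j) :
    (∀ j, 1 ≤ j → j ≤ e → C.ExactAt j) ∧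
      Module.Flat R ((ModuleCat.restrictScalars (algebraMap R S)).obj (C.homology 0)) := by
  classical
  let instR : ∀ j, Module R (C.X j) := fun j => Module.compHom (C.X j) (algebraMap R S)
  have instT : ∀ j, IsScalarTower R S (C.X j) := fun j =>
    IsScalarTower.of_algebraMap_smul fun r x => rfl
  have instF : ∀ j, Module.Finite S (C.X j) := hfin
  have instFl : ∀ j, Module.Flat R (C.X j) := fun j => hflat j
  let d : ∀ j, C.X (j + 1) →ₗ[S] C.X j := fun j => (C.d (j + 1) j).hom
  have hd : ∀ j x, d j (d (j + 1) x) = 0 := by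
    intro j x
    have h := C.d_comp_d (j + 1 + 1) (j + 1) j
    have h2 : (C.d (j + 1 + 1) (j + 1) ≫ C.d (j + 1) j).hom x = 0 := by rw [h]; rfl
    exact h2
  have hzero' : ∀ j, e < j → Subsingleton (C.X j) := fun j hj =>
    ModuleCat.subsingleton_of_isZero (hzero j hj)
  have hex' : ∀ j, j < e → ∀ x : C.X (j + 1),
      d j x ∈ (IsLocalRing.maximalIdeal R) • (⊤ : Submodule R (C.X j)) →
      ∃ w, x - d (j + 1) w ∈ (IsLocalRing.maximalIdeal R) • (⊤ : Submodule R (C.X (j + 1))) := by
    intro j hj x hx
    have hE := hex (j + 1) (by omega) (by omega)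
    rw [HomologicalComplex.exactAt_iff' _ (j + 1 + 1) (j + 1) j (by simp) (by simp),
      ShortComplex.moduleCat_exact_iff] at hE
    have hxS : d j x ∈ ((IsLocalRing.maximalIdeal R).map (algebraMap R S)) •
        (⊤ : Submodule S (C.X j)) := by
      have h := Groth.Agent.Lib.Helper21.FlatKit.smul_top_restrictScalars (A := R) (B := S)
        (C.X j) (IsLocalRing.maximalIdeal R)
      rw [← h] at hx
      exact hx
    have h0 : ((d j).lTensor (S ⧸ (IsLocalRing.maximalIdeal R).map (algebraMap R S)))
        ((1 : S ⧸ (IsLocalRing.maximalIdeal R).map (algebraMap R S)) ⊗ₜ[S] x) = 0 := by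
      rw [LinearMap.lTensor_tmul, Groth.Agent.Lib.Helper21.FlatKit.one_tmul_eq_zero_iff]
      exact hxS
    obtain ⟨x₁, hx₁⟩ := hE ((1 : S ⧸ (IsLocalRing.maximalIdeal R).map (algebraMap R S)) ⊗ₜ[S] x) h0
    obtain ⟨w, rfl⟩ := Groth.Agent.Lib.Helper21.FlatKit.exists_one_tmul
      ((IsLocalRing.maximalIdeal R).map (algebraMap R S)) (Q := C.X (j + 1 + 1)) x₁
    have h1 : (1 : S ⧸ (IsLocalRing.maximalIdeal R).map (algebraMap R S)) ⊗ₜ[S] (d (j + 1) w) =
        (1 : S ⧸ (IsLocalRing.maximalIdeal R).map (algebraMap R S)) ⊗ₜ[S] x := hx₁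
    have h2 : (1 : S ⧸ (IsLocalRing.maximalIdeal R).map (algebraMap R S)) ⊗ₜ[S]
        (x - d (j + 1) w) = 0 := by
      rw [TensorProduct.tmul_sub, h1, sub_self]
    rw [Groth.Agent.Lib.Helper21.FlatKit.one_tmul_eq_zero_iff] at h2
    refine ⟨w, ?_⟩
    have h := Groth.Agent.Lib.Helper21.FlatKit.smul_top_restrictScalars (A := R) (B := S)
      (C.X (j + 1)) (IsLocalRing.maximalIdeal R)
    rw [← h]
    exact h2
  obtain ⟨h1, h2⟩ := Groth.Agent.Lib.Helper21.FlatKit.complex_core (R := R) (S := S)
    (fun j => C.X j) d hd e hzero' hex'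
  refine ⟨?_, ?_⟩
  · intro j hj1 hje
    obtain ⟨i, rfl⟩ : ∃ i, j = i + 1 := ⟨j - 1, by omega⟩
    rw [HomologicalComplex.exactAt_iff' C (i + 1 + 1) (i + 1) i (by simp) (by simp),
      ShortComplex.moduleCat_exact_iff]
    intro x hx
    exact h1 i (by omega) x hx
  · let iso1 : C.homology 0 ≅ C.opcycles 0 := C.isoHomologyι₀
    let iso2 : C.opcycles 0 ≅ ModuleCat.of S (C.X 0 ⧸ LinearMap.range (C.d 1 0).hom) :=
      Limits.IsColimit.coconePointUniqueUpToIso (C.opcyclesIsCokernel 1 0 (by simp))
        (ModuleCat.cokernelIsColimit (C.d 1 0))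
    exact flat_restrictScalars_of_linearEquiv (C.homology 0)
      (C.X 0 ⧸ LinearMap.range (C.d 1 0).hom) (iso1 ≪≫ iso2).toLinearEquiv

end Groth.Agent.S6387
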