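import Groth.Statements.S6388
-- import your own Groth.Agent.* helpers here

set_option autoImplicit false
universe u
open CAlg

namespace Groth.Agent.S6388

/-- Let f : M → N and g : M → M' be maps of R-modules and let N' be their pushout, realised as the
quotient of M' × N by the submodule of elements (g x, -f x). Then g dominates f — for every module Q
the kernel of f ⊗ id_Q is contained in the kernel of g ⊗ id_Q — if and only if the canonical map M'
→ N' is universally injective. -/
theorem result (R : Type u) [CommRing R] {M N M' : Type u}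
    [AddCommGroup M] [Module R M] [AddCommGroup N] [Module R N] [AddCommGroup M'] [Module R M']
    (f : M →ₗ[R] N) (g : M →ₗ[R] M') :
    (∀ (Q : Type u) [AddCommGroup Q] [Module R Q], LinearMap.ker (f.rTensor Q) ≤ LinearMap.ker (g.rTensor Q)) ↔
      CAlgX.UniversallyInjective R
        ((LinearMap.range (g.prod (-f))).mkQ ∘ₗ LinearMap.inl R M' N) := by
  let φ : M →ₗ[R] M' × N := g.prod (-f)
  let mk : M' × N →ₗ[R] (M' × N) ⧸ LinearMap.range φ := (LinearMap.range φ).mkQ
  let ι' : M' →ₗ[R] (M' × N) ⧸ LinearMap.range φ := mk ∘ₗ LinearMap.inl R M' N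
  let ν : N →ₗ[R] (M' × N) ⧸ LinearMap.range φ := mk ∘ₗ LinearMap.inr R M' N
  have hmkφ : ∀ m, mk (φ m) = 0 := fun m =>
    (Submodule.Quotient.mk_eq_zero _).mpr ⟨m, rfl⟩
  have hνf : ν ∘ₗ f = ι' ∘ₗ g := by
    ext m
    have h0 := hmkφ m
    have h1 : φ m = LinearMap.inl R M' N (g m) - LinearMap.inr R M' N (f m) := by
      ext <;> simp [φ]
    rw [h1, map_sub, sub_eq_zero] at h0
    exact h0.symm
  have hexφ : Function.Exact φ mk := LinearMap.exact_map_mkQ_range φ
  have hmk : Function.Surjective mk := Submodule.mkQ_surjective _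
  show _ ↔ CAlgX.UniversallyInjective R ι'
  constructor
  · intro hdom Q _ _
    rw [injective_iff_map_eq_zero]
    intro x hx
    have h1 : mk.rTensor Q ((LinearMap.inl R M' N).rTensor Q x) = 0 := by
      rw [← LinearMap.comp_apply, ← LinearMap.rTensor_comp]
      exact hx
    obtain ⟨w, hw⟩ := (rTensor_exact Q hexφ hmk _).mp h1
    have h2 : (f.rTensor Q) w = 0 := by
      have := congrArg ((LinearMap.snd R M' N).rTensor Q) hw
      rw [← LinearMap.comp_apply, ← LinearMap.comp_apply, ← LinearMap.rTensor_comp,
        ← LinearMap.rTensor_comp] at this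
      have e1 : LinearMap.snd R M' N ∘ₗ φ = -f := by ext; simp [φ]
      have e2 : LinearMap.snd R M' N ∘ₗ LinearMap.inl R M' N = 0 := by ext; simp
      rw [e1, e2, LinearMap.rTensor_zero, LinearMap.zero_apply, LinearMap.rTensor_neg,
        LinearMap.neg_apply, neg_eq_zero] at this
      exact this
    have h3 : (g.rTensor Q) w = 0 := hdom Q h2
    have := congrArg ((LinearMap.fst R M' N).rTensor Q) hw
    rw [← LinearMap.comp_apply, ← LinearMap.comp_apply, ← LinearMap.rTensor_comp,
      ← LinearMap.rTensor_comp] at this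
    have e1 : LinearMap.fst R M' N ∘ₗ φ = g := by ext; simp [φ]
    have e2 : LinearMap.fst R M' N ∘ₗ LinearMap.inl R M' N = LinearMap.id := by ext; simp
    rw [e1, e2, LinearMap.rTensor_id, LinearMap.id_apply, h3] at this
    exact this.symm
  · intro huniv Q _ _ x hx
    rw [LinearMap.mem_ker] at hx ⊢
    apply huniv Q
    rw [map_zero, ← LinearMap.comp_apply, ← LinearMap.rTensor_comp, ← hνf, LinearMap.rTensor_comp,
      LinearMap.comp_apply, hx, map_zero]


end Groth.Agent.S6388
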