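import Groth.Statements.S6390
-- import your own Groth.Agent.* helpers here
import Groth.Agent.Lib.Helper23.Kap3

set_option autoImplicit false
universe u
open scoped Classical
open CAlg

namespace Groth.Agent.S6390

/-- An R-module M is a direct sum of countably generated modules if and only if it admits a Kaplansky
dévissage, i.e. an increasing family of submodules (M_s) indexed by a well-ordered set S with M_s =
⋃_{t<s} M_t at non-successor indices (so the first term is 0), ⋃_s M_s = M, and, whenever t is the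
successor of s, M_s a direct summand of M_t with M_t/M_s countably generated. -/
theorem result (R : Type u) [CommRing R] (M : Type u)
    [AddCommGroup M] [Module R M] :
    (∃ (ι : Type u) (N : ι → Submodule R M), DirectSum.IsInternal N ∧ ∀ i, CAlg.IsCountablyGenerated R (N i)) ↔
      ∃ (S : Type u) (_ : LinearOrder S) (_ : WellFoundedLT S) (Mf : S → Submodule R M), Monotone Mf ∧
        (∀ s : S, Order.IsSuccPrelimit s → Mf s = ⨆ t : {t : S // t < s}, Mf t.1) ∧
        (⨆ s, Mf s) = ⊤ ∧
        (∀ s t : S, s ⋖ t → ∃ C : Submodule R M, Mf s ⊓ C = ⊥ ∧ Mf s ⊔ C = Mf t ∧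
          CAlg.IsCountablyGenerated R (↥(Mf t) ⧸ Submodule.comap (Mf t).subtype (Mf s))) := by
  constructor
  · rintro ⟨ι, N, hint, hcg⟩
    have hind : iSupIndep N := hint.submodule_iSupIndep
    have hNtop : ⨆ i, N i = ⊤ := hint.submodule_iSup_eq_top
    obtain ⟨lo, wf⟩ := exists_wellFoundedLT (α := ι)
    let Mf : WithTop ι → Submodule R M := fun s => ⨆ (i : ι) (_ : (i : WithTop ι) < s), N i
    have hmono : Monotone Mf := fun s t hst =>
      iSup₂_mono' fun i hi => ⟨i, lt_of_lt_of_le hi hst, le_rfl⟩
    refine ⟨WithTop ι, inferInstance, inferInstance, Mf, hmono, ?_, ?_, ?_⟩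
    · intro s hs
      apply le_antisymm
      · refine iSup₂_le fun i hi => ?_
        have hnc : ¬ ((i : WithTop ι) ⋖ s) := hs _
        obtain ⟨t, hit, hts⟩ := (not_covBy_iff hi).mp hnc
        refine le_trans ?_ (le_iSup (fun t : {t : WithTop ι // t < s} => Mf t.1) ⟨t, hts⟩)
        exact le_iSup₂ (f := fun (j : ι) (_ : (j : WithTop ι) < t) => N j) i hit
      · exact iSup_le fun t => hmono t.2.le
    · rw [eq_top_iff]
      refine le_trans ?_ (le_iSup Mf ⊤)
      rw [← hNtop]
      exact iSup_le fun i => le_iSup₂ (f := fun (j : ι) (_ : (j : WithTop ι) < ⊤) => N j) i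
        (WithTop.coe_lt_top i)
    · intro s t hst
      have hs : s ≠ ⊤ := ne_top_of_lt hst.lt
      obtain ⟨i, rfl⟩ := WithTop.ne_top_iff_exists.mp hs
      have h1 : Mf (i : WithTop ι) ⊓ N i = ⊥ := by
        have : Disjoint (N i) (⨆ j ∈ {j : ι | (j : WithTop ι) < (i : WithTop ι)}, N j) :=
          hind.disjoint_biSup (by simp)
        rw [inf_comm]
        exact disjoint_iff.mp this
      have h2 : Mf (i : WithTop ι) ⊔ N i = Mf t := by
        apply le_antisymm
        · exact sup_le (hmono hst.le)
            (le_iSup₂ (f := fun (j : ι) (_ : (j : WithTop ι) < t) => N j) i hst.lt)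
        · refine iSup₂_le fun j hj => ?_
          have hji : (j : WithTop ι) ≤ (i : WithTop ι) := hst.le_of_lt hj
          rcases hji.lt_or_eq with h | h
          · exact le_sup_of_le_left
              (le_iSup₂ (f := fun (j : ι) (_ : (j : WithTop ι) < (i : WithTop ι)) => N j) j h)
          · rw [WithTop.coe_injective h]
            exact le_sup_right
      refine ⟨N i, h1, h2, ?_⟩
      exact Groth.Agent.Lib.Helper23.Kap.cg_of_equiv
        (Groth.Agent.Lib.Helper23.Kap.complEquivQuot _ _ _ h1 h2) (hcg i)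
  · rintro ⟨S, lo, wf, Mf, hmono, hlim, htop, hcompl⟩
    choose C hC1 hC2 hC3 using fun p : {p : S × S // p.1 ⋖ p.2} => hcompl p.1.1 p.1.2 p.2
    obtain ⟨hind, hsup⟩ :=
      Groth.Agent.Lib.Helper23.Kap.devissage_internal Mf hmono hlim htop C hC1 hC2
    refine ⟨{p : S × S // p.1 ⋖ p.2}, C, ?_, fun p => ?_⟩
    · convert DirectSum.isInternal_submodule_of_iSupIndep_of_iSup_eq_top hind hsup
    exact Groth.Agent.Lib.Helper23.Kap.cg_of_equiv
      (Groth.Agent.Lib.Helper23.Kap.complEquivQuot _ _ _ (hC1 p) (hC2 p)).symm (hC3 p)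

end Groth.Agent.S6390
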