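import Groth.Statements.S6391
import Groth.Agent.Lib.Helper12.IndEtLift

set_option autoImplicit false
universe u
open CAlg

namespace Groth.Agent.S6391

theorem key (R S S' K : Type u) [CommRing R]
    [CommRing S] [CommRing S'] [Field K] [HenselianLocalRing S']
    [Algebra R S] [Algebra R S'] [Algebra R K] (hS : EtPBC.IsIndEtale R S)
    (u : S →ₐ[R] K) (u' : S' →ₐ[R] K) (hu' : Function.Surjective u')
    (hku' : RingHom.ker u'.toRingHom = IsLocalRing.maximalIdeal S') :
    ∃! φ : S →ₐ[R] S', u'.comp φ = u := by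
  classical
  haveI : HenselianRing S' (IsLocalRing.maximalIdeal S') := inferInstance
  have hmem : ∀ a : S', a ∈ IsLocalRing.maximalIdeal S' → u' a = 0 := by
    intro a ha
    rw [← hku'] at ha
    exact ha
  let ubar : (S' ⧸ IsLocalRing.maximalIdeal S') →ₐ[R] K :=
    Ideal.Quotient.liftₐ (IsLocalRing.maximalIdeal S') u' hmem
  have hubar : ∀ a : S', ubar (Ideal.Quotient.mk _ a) = u' a := fun a => rfl
  have hbij : Function.Bijective ubar := by
    constructor
    · rw [injective_iff_map_eq_zero]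
      intro z hz
      obtain ⟨a, rfl⟩ := Ideal.Quotient.mk_surjective z
      rw [hubar] at hz
      rw [Ideal.Quotient.eq_zero_iff_mem, ← hku']
      exact hz
    · intro k
      obtain ⟨a, rfl⟩ := hu' k
      exact ⟨Ideal.Quotient.mk _ a, hubar a⟩
  let ε : (S' ⧸ IsLocalRing.maximalIdeal S') ≃ₐ[R] K := AlgEquiv.ofBijective ubar hbij
  let v : S →ₐ[R] S' ⧸ IsLocalRing.maximalIdeal S' := (ε.symm : K →ₐ[R] _).comp u
  have hiff : ∀ φ : S →ₐ[R] S', (∀ x, Ideal.Quotient.mk _ (φ x) = v x) ↔ u'.comp φ = u := by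
    intro φ
    constructor
    · intro h
      apply AlgHom.ext
      intro x
      have h1 := congrArg ε (h x)
      have h2 : ε (v x) = u x := ε.apply_symm_apply (u x)
      rw [h2] at h1
      exact h1
    · intro h x
      apply ε.injective
      have h2 : ε (v x) = u x := ε.apply_symm_apply (u x)
      rw [h2, ← h]
      rfl
  obtain ⟨φ, hφ, hφuniq⟩ := Groth.Agent.Lib.Helper12.IndEtLift.existsUnique_algHom_lift R S hS S'
    (IsLocalRing.maximalIdeal S') v
  exact ⟨φ, (hiff φ).mp hφ, fun φ' hφ' => hφuniq φ' ((hiff φ').mpr hφ')⟩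


/-- Let R be a ring, S and S' henselian local rings which are filtered colimits of étale R-algebras, and
K a field together with R-algebra maps S → K and S' → K identifying K with the residue field of each
(surjective with kernel the maximal ideal). Then exactly one isomorphism of R-algebras S → S'
commutes with the two maps to K. -/
theorem result (R S S' K : Type u) [CommRing R]
    [CommRing S] [CommRing S'] [Field K] [HenselianLocalRing S] [HenselianLocalRing S']
    [Algebra R S] [Algebra R S'] [Algebra R K] (hS : EtPBC.IsIndEtale R S) (hS' : EtPBC.IsIndEtale R S')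
    (u : S →ₐ[R] K) (u' : S' →ₐ[R] K) (hu : Function.Surjective u) (hu' : Function.Surjective u')
    (hku : RingHom.ker u.toRingHom = IsLocalRing.maximalIdeal S)
    (hku' : RingHom.ker u'.toRingHom = IsLocalRing.maximalIdeal S') :
    ∃! e : S ≃ₐ[R] S', u'.comp (e : S →ₐ[R] S') = u := by
  obtain ⟨φ, hφ, hφuniq⟩ := key R S S' K hS u u' hu' hku'
  obtain ⟨φ', hφ', -⟩ := key R S' S K hS' u' u hu hku
  obtain ⟨i, -, hiuniq⟩ := key R S S K hS u u hu hku
  obtain ⟨i', -, hi'uniq⟩ := key R S' S' K hS' u' u' hu' hku'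
  have h1 : φ'.comp φ = AlgHom.id R S := by
    have e1 : φ'.comp φ = i := hiuniq _ (by show u.comp (φ'.comp φ) = u; rw [← AlgHom.comp_assoc, hφ', hφ])
    have e2 : AlgHom.id R S = i := hiuniq _ (AlgHom.comp_id u)
    exact e1.trans e2.symm
  have h2 : φ.comp φ' = AlgHom.id R S' := by
    have e1 : φ.comp φ' = i' := hi'uniq _ (by show u'.comp (φ.comp φ') = u'; rw [← AlgHom.comp_assoc, hφ, hφ'])
    have e2 : AlgHom.id R S' = i' := hi'uniq _ (AlgHom.comp_id u')
    exact e1.trans e2.symm
  refine ⟨AlgEquiv.ofAlgHom φ φ' h2 h1, ?_, ?_⟩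
  · show u'.comp ((AlgEquiv.ofAlgHom φ φ' h2 h1 : S ≃ₐ[R] S') : S →ₐ[R] S') = u
    rw [← hφ]
    rfl
  · intro e' he'
    have h3 : (e' : S →ₐ[R] S') = φ := hφuniq _ he'
    apply AlgEquiv.ext
    intro x
    exact AlgHom.congr_fun h3 x

end Groth.Agent.S6391
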