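import Groth.Statements.S6392
-- import your own Groth.Agent.* helpers here
import Groth.Agent.Lib.Helper23.MLLim

set_option autoImplicit false
universe u
open CAlg

namespace Groth.Agent.S6392

/-- Suppose M is the colimit of finitely presented R-modules G_i along a directed system over a nonempty
directed index set (transition maps f_ij), and M is both Mittag-Leffler and countably generated.
Then some countable directed subset I' of the indices already computes M: the canonical map from the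
colimit of the G_i with i ∈ I' to M is bijective. -/
theorem result (R : Type u) [CommRing R]
    {ι : Type u} [Preorder ι] [IsDirected ι (· ≤ ·)] [Nonempty ι] [DecidableEq ι] (G : ι → Type u)
    [∀ i, AddCommGroup (G i)] [∀ i, Module R (G i)] [∀ i, Module.FinitePresentation R (G i)]
    (f : ∀ i j, i ≤ j → G i →ₗ[R] G j) [DirectedSystem G fun i j h => f i j h]
    (hML : CAlg.IsMittagLeffler R (Module.DirectLimit G f))
    (hc : CAlg.IsCountablyGenerated R (Module.DirectLimit G f)) :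
    ∃ I' : Set ι, I'.Countable ∧ DirectedOn (· ≤ ·) I' ∧
      Function.Bijective (Module.DirectLimit.lift R I' (fun i : I' => G i.1)
        (fun (i j : I') (h : i ≤ j) => f i.1 j.1 h)
        (fun i : I' => Module.DirectLimit.of R ι G f i.1)
        (fun (i j : I') (h : i ≤ j) (x : G i.1) => Module.DirectLimit.of_f)) := by
  classical
  -- Step 0: Mittag-Leffler gives, for each `i`, an index `J i ≥ i` killing the kernel of `G i → M`
  have hfac := Groth.Agent.Lib.Helper23.ML.factors_of_ML G f (fun κ Q _ _ => hML κ Q)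
  have hJ' : ∀ i, ∃ (j : ι) (hij : i ≤ j), ∀ y : G i,
      Module.DirectLimit.of R ι G f i y = 0 → f i j hij y = 0 := by
    intro i
    obtain ⟨j, hij, hj⟩ := hfac i
    refine ⟨j, hij, fun y hy => ?_⟩
    obtain ⟨k, hik, hk⟩ := Module.DirectLimit.of.zero_exact hy
    obtain ⟨h, hh⟩ := hj k hik
    rw [hh, LinearMap.comp_apply, hk, map_zero]
  choose J hJ hJ0 using hJ'
  -- Step 1: upper bounds
  have hub' : ∀ i j : ι, ∃ k, i ≤ k ∧ j ≤ k := fun i j => exists_ge_ge i j
  choose ub hub1 hub2 using hub'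
  -- Step 2: generators
  obtain ⟨s, hs_c, hs_span⟩ := hc
  have hx' : ∀ x : Module.DirectLimit G f, ∃ (i : ι) (y : G i),
      Module.DirectLimit.of R ι G f i y = x := fun x => Module.DirectLimit.exists_of x
  choose ix yx hx using hx'
  obtain ⟨i₀⟩ := ‹Nonempty ι›
  let I : ℕ → Set ι := fun n => Nat.rec (ix '' s ∪ {i₀})
    (fun _ S => S ∪ Set.image2 ub S S ∪ J '' S) n
  have hI0 : I 0 = ix '' s ∪ {i₀} := rfl
  have hIs : ∀ n, I (n + 1) = I n ∪ Set.image2 ub (I n) (I n) ∪ J '' (I n) := fun n => rfl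
  have hIc : ∀ n, (I n).Countable := by
    intro n
    induction n with
    | zero => rw [hI0]; exact (hs_c.image _).union (Set.countable_singleton _)
    | succ n ih => rw [hIs]; exact (ih.union (ih.image2 ih _)).union (ih.image _)
  have hImono : Monotone I := by
    apply monotone_nat_of_le_succ
    intro n
    rw [hIs]
    exact fun a ha => Or.inl (Or.inl ha)
  refine ⟨⋃ n, I n, Set.countable_iUnion hIc, ?_, ?_⟩
  · intro a ha b hb
    obtain ⟨n, hn⟩ := Set.mem_iUnion.mp ha
    obtain ⟨m, hm⟩ := Set.mem_iUnion.mp hb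
    have ha' : a ∈ I (max n m) := hImono (le_max_left _ _) hn
    have hb' : b ∈ I (max n m) := hImono (le_max_right _ _) hm
    refine ⟨ub a b, Set.mem_iUnion.mpr ⟨max n m + 1, ?_⟩, hub1 a b, hub2 a b⟩
    rw [hIs]
    exact Or.inl (Or.inr ⟨a, ha', b, hb', rfl⟩)
  · have hdir : DirectedOn (· ≤ ·) (⋃ n, I n) := by
      intro a ha b hb
      obtain ⟨n, hn⟩ := Set.mem_iUnion.mp ha
      obtain ⟨m, hm⟩ := Set.mem_iUnion.mp hb
      have ha' : a ∈ I (max n m) := hImono (le_max_left _ _) hn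
      have hb' : b ∈ I (max n m) := hImono (le_max_right _ _) hm
      refine ⟨ub a b, Set.mem_iUnion.mpr ⟨max n m + 1, ?_⟩, hub1 a b, hub2 a b⟩
      rw [hIs]
      exact Or.inl (Or.inr ⟨a, ha', b, hb', rfl⟩)
    haveI : IsDirected (↥(⋃ n, I n)) (· ≤ ·) := by
      refine ⟨fun a b => ?_⟩
      obtain ⟨c, hc, hac, hbc⟩ := hdir a.1 a.2 b.1 b.2
      exact ⟨⟨c, hc⟩, hac, hbc⟩
    have hi₀ : i₀ ∈ ⋃ n, I n := Set.mem_iUnion.mpr ⟨0, Or.inr rfl⟩
    haveI : Nonempty (↥(⋃ n, I n)) := ⟨⟨i₀, hi₀⟩⟩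
    constructor
    · rw [injective_iff_map_eq_zero]
      intro z hz
      obtain ⟨i, y, rfl⟩ := Module.DirectLimit.exists_of z
      rw [Module.DirectLimit.lift_of] at hz
      have h1 : f i.1 (J i.1) (hJ i.1) y = 0 := hJ0 i.1 y hz
      have hJi : J i.1 ∈ ⋃ n, I n := by
        obtain ⟨n, hn⟩ := Set.mem_iUnion.mp i.2
        refine Set.mem_iUnion.mpr ⟨n + 1, ?_⟩
        rw [hIs]
        exact Or.inr ⟨i.1, hn, rfl⟩
      have h2 := Module.DirectLimit.of_f (R := R) (ι := ↥(⋃ n, I n)) (G := fun i => G i.1)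
        (f := fun i j h => f i.1 j.1 h) (i := i) (j := ⟨J i.1, hJi⟩) (hij := hJ i.1) (x := y)
      rw [← h2]
      show Module.DirectLimit.of R _ (fun i : ↥(⋃ n, I n) => G i.1) (fun i j h => f i.1 j.1 h)
        ⟨J i.1, hJi⟩ (f i.1 (J i.1) (hJ i.1) y) = 0
      rw [h1, map_zero]
    · rw [← LinearMap.range_eq_top, eq_top_iff, ← hs_span, Submodule.span_le]
      intro x hxs
      have hix : ix x ∈ ⋃ n, I n := Set.mem_iUnion.mpr ⟨0, Or.inl ⟨x, hxs, rfl⟩⟩
      refine ⟨Module.DirectLimit.of R _ (fun i : ↥(⋃ n, I n) => G i.1) (fun i j h => f i.1 j.1 h)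
        ⟨ix x, hix⟩ (yx x), ?_⟩
      rw [Module.DirectLimit.lift_of]
      exact hx x


end Groth.Agent.S6392
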