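import Groth.Statements.S6394
import Groth.Agent.S6395
-- import your own Groth.Agent.* helpers here

set_option autoImplicit false
open CategoryTheory
universe v u
open FibCat

namespace Groth.Agent.S6394

section helpers
open CategoryTheory.Functor

variable {C : Type u} [Category.{v} C]

set_option backward.isDefEq.respectTransparency false in
set_option backward.isDefEq.respectTransparency.types false in
theorem isFibered_of_isEquivOver {𝒳 𝒴 : BasedCategory.{v, max u v} C} (F : 𝒳 ⥤ᵇ 𝒴)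
    (hF : FibCat.IsEquivOver F) (h𝒳 : 𝒳.p.IsFibered) : 𝒴.p.IsFibered := by
  obtain ⟨h1, h2⟩ := Groth.Agent.S6395.ff_ess_of_isEquivOver F hF
  apply Functor.IsFibered.of_exists_isStronglyCartesian
  intro c' R f
  obtain ⟨c, ε, hε⟩ := h2 c'
  have ha : 𝒳.p.obj c = 𝒴.p.obj c' :=
    (F.w_obj c).symm.trans (IsHomLift.domain_eq 𝒴.p (𝟙 (𝒴.p.obj c')) ε.hom)
  obtain ⟨d, χ, hχ⟩ := IsPreFibered.exists_isCartesian 𝒳.p ha f
  have hχs : 𝒳.p.IsStronglyCartesian f χ := inferInstance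
  have hF : 𝒴.p.IsStronglyCartesian f (F.map χ) :=
    Groth.Agent.S6395.preserves_of_ff_ess F h2 f χ
  have hε' : 𝒴.p.IsStronglyCartesian (𝟙 (𝒴.p.obj c')) ε.hom := inferInstance
  have h3 : 𝒴.p.IsStronglyCartesian (f ≫ 𝟙 (𝒴.p.obj c')) (F.map χ ≫ ε.hom) := inferInstance
  rw [Category.comp_id] at h3
  exact ⟨_, _, h3⟩

end helpers

set_option backward.isDefEq.respectTransparency false in
set_option backward.isDefEq.respectTransparency.types false in
theorem aux {C : Type u} [Category.{v} C] {𝒳 𝒴 : BasedCategory.{v, max u v} C} (F : 𝒳 ⥤ᵇ 𝒴) (hF : FibCat.IsEquivOver F) :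
    𝒳.p.IsFibered ↔ 𝒴.p.IsFibered := by
  constructor
  · exact isFibered_of_isEquivOver F hF
  · obtain ⟨G, ⟨e1⟩, ⟨e2⟩⟩ := hF
    exact isFibered_of_isEquivOver G ⟨F, ⟨e2⟩, ⟨e1⟩⟩

/-- If `F : 𝒳 ⟶ 𝒴` is an equivalence in the 2-category of categories over `C`, then `𝒳` is fibred over
`C` if and only if `𝒴` is. -/
theorem result {C : Type u} [Category.{v} C] {𝒳 𝒴 : BasedCategory.{v, max u v} C} (F : 𝒳 ⥤ᵇ 𝒴) (hF : FibCat.IsEquivOver F) :
    𝒳.p.IsFibered ↔ 𝒴.p.IsFibered := by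
  exact aux F hF

end Groth.Agent.S6394
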