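import Groth.Statements.S6396
-- import your own Groth.Agent.* helpers here

set_option autoImplicit false
open CategoryTheory
universe v u
open FibCat

namespace Groth.Agent.S6396

section helpers
open CategoryTheory.Functor

variable {C : Type u} [Category.{v} C]

set_option backward.isDefEq.respectTransparency false in
set_option backward.isDefEq.respectTransparency.types false in
/-- A morphism strongly cartesian over its own image is strongly cartesian over any base morphism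
it lifts. -/
theorem sc_of_lift {𝒮 : Type*} [Category 𝒮] (p : 𝒮 ⥤ C) {R S : C} {a b : 𝒮} (f : R ⟶ S)
    (φ : a ⟶ b) [p.IsHomLift f φ] (h : p.IsStronglyCartesian (p.map φ) φ) :
    p.IsStronglyCartesian f φ := by
  subst_hom_lift p f φ
  exact h

set_option backward.isDefEq.respectTransparency false in
set_option backward.isDefEq.respectTransparency.types false in
theorem faithful_fiber_of_faithful {𝒳 𝒴 : BasedCategory.{v, max u v} C} (G : 𝒳 ⥤ᵇ 𝒴)
    (hG : G.toFunctor.Faithful) (U : C) : (FibCat.fiberFunctor G U).Faithful := by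
  refine ⟨fun {x y} φ ψ h => ?_⟩
  apply Functor.Fiber.hom_ext
  apply G.toFunctor.map_injective
  exact congrArg Functor.Fiber.fiberInclusion.map h

set_option backward.isDefEq.respectTransparency false in
set_option backward.isDefEq.respectTransparency.types false in
theorem faithful_of_faithful_fiber {𝒳 𝒴 : BasedCategory.{v, max u v} C} (G : 𝒳 ⥤ᵇ 𝒴)
    (h𝒳 : FibCat.IsFibGrpd 𝒳.p) (h𝒴 : FibCat.IsFibGrpd 𝒴.p)
    (hG : ∀ U : C, (FibCat.fiberFunctor G U).Faithful) : G.toFunctor.Faithful := by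
  refine ⟨fun {x y} φ ψ h => ?_⟩
  have h' : G.map φ = G.map ψ := h
  have hψs : 𝒳.p.IsStronglyCartesian (𝒳.p.map ψ) ψ := h𝒳.isStronglyCartesian ψ
  have hφl : 𝒳.p.IsHomLift (𝒳.p.map ψ) φ := by
    rw [← BasedFunctor.isHomLift_iff G, h']
    infer_instance
  have hφl' : 𝒳.p.IsHomLift (𝟙 (𝒳.p.obj x) ≫ 𝒳.p.map ψ) φ := by
    rw [Category.id_comp]; exact hφl
  let χ : x ⟶ x := IsStronglyCartesian.map 𝒳.p (𝒳.p.map ψ) ψ
    (Category.id_comp (𝒳.p.map ψ)).symm φ
  have hχl : 𝒳.p.IsHomLift (𝟙 (𝒳.p.obj x)) χ := inferInstance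
  have hχ : χ ≫ ψ = φ := IsStronglyCartesian.fac 𝒳.p (𝒳.p.map ψ) ψ _ φ
  have hGψs : 𝒴.p.IsStronglyCartesian (𝒳.p.map ψ) (G.map ψ) :=
    sc_of_lift 𝒴.p (𝒳.p.map ψ) (G.map ψ) (h𝒴.isStronglyCartesian (G.map ψ))
  have hGχl : 𝒴.p.IsHomLift (𝟙 (𝒳.p.obj x)) (G.map χ) := inferInstance
  have hG1 : G.map χ = 𝟙 (G.obj x) := by
    apply IsStronglyCartesian.ext 𝒴.p (𝒳.p.map ψ) (G.map ψ) (𝟙 (𝒳.p.obj x))
    rw [← G.map_comp, hχ, h', Category.id_comp]
  have hfib : (Functor.Fiber.homMk 𝒳.p (𝒳.p.obj x) χ :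
      Functor.Fiber.mk (rfl : 𝒳.p.obj x = 𝒳.p.obj x) ⟶ Functor.Fiber.mk rfl) = 𝟙 _ := by
    apply (hG (𝒳.p.obj x)).map_injective
    apply Functor.Fiber.hom_ext
    rw [Functor.map_id]
    exact hG1
  have hχ1 : χ = 𝟙 x := congrArg Functor.Fiber.fiberInclusion.map hfib
  rw [← hχ, hχ1, Category.id_comp]

end helpers

set_option backward.isDefEq.respectTransparency false in
set_option backward.isDefEq.respectTransparency.types false in
theorem aux {C : Type u} [Category.{v} C] {𝒳 𝒴 : BasedCategory.{v, max u v} C} (G : 𝒳 ⥤ᵇ 𝒴) (h𝒳 : FibCat.IsFibGrpd 𝒳.p) (h𝒴 : FibCat.IsFibGrpd 𝒴.p) :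
    G.toFunctor.Faithful ↔ ∀ U : C, (FibCat.fiberFunctor G U).Faithful := by
  exact ⟨fun h U => faithful_fiber_of_faithful G h U, faithful_of_faithful_fiber G h𝒳 h𝒴⟩

/-- A functor `G` over `C` between categories fibred in groupoids is faithful if and only if each
induced functor of fibre categories `𝒳_U ⥤ 𝒴_U` is faithful. -/
theorem result {C : Type u} [Category.{v} C] {𝒳 𝒴 : BasedCategory.{v, max u v} C} (G : 𝒳 ⥤ᵇ 𝒴) (h𝒳 : FibCat.IsFibGrpd 𝒳.p) (h𝒴 : FibCat.IsFibGrpd 𝒴.p) :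
    G.toFunctor.Faithful ↔ ∀ U : C, (FibCat.fiberFunctor G U).Faithful := by
  exact aux G h𝒳 h𝒴

end Groth.Agent.S6396
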