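import Groth.Statements.S6397
import Groth.Agent.S6396
-- import your own Groth.Agent.* helpers here

set_option autoImplicit false
open CategoryTheory
universe v u
open FibCat

namespace Groth.Agent.S6397

section helpers
open CategoryTheory.Functor

variable {C : Type u} [Category.{v} C]

set_option backward.isDefEq.respectTransparency false in
set_option backward.isDefEq.respectTransparency.types false in
theorem full_fiber_of_full {𝒳 𝒴 : BasedCategory.{v, max u v} C} (G : 𝒳 ⥤ᵇ 𝒴)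
    (hG : G.toFunctor.Full) (U : C) : (FibCat.fiberFunctor G U).Full := by
  refine ⟨fun {x y} ψ => ?_⟩
  let φ : x.1 ⟶ y.1 := G.toFunctor.preimage (Functor.Fiber.fiberInclusion.map ψ)
  have hGφ : G.map φ = Functor.Fiber.fiberInclusion.map ψ := G.toFunctor.map_preimage _
  have hφl : 𝒳.p.IsHomLift (𝟙 U) φ := by
    rw [← BasedFunctor.isHomLift_iff G, hGφ]
    infer_instance
  refine ⟨Functor.Fiber.homMk 𝒳.p U φ, ?_⟩
  apply Functor.Fiber.hom_ext
  exact hGφ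

set_option backward.isDefEq.respectTransparency false in
set_option backward.isDefEq.respectTransparency.types false in
theorem full_of_full_fiber {𝒳 𝒴 : BasedCategory.{v, max u v} C} (G : 𝒳 ⥤ᵇ 𝒴)
    (h𝒳 : FibCat.IsFibGrpd 𝒳.p) (h𝒴 : FibCat.IsFibGrpd 𝒴.p)
    (hG : ∀ U : C, (FibCat.fiberFunctor G U).Full) : G.toFunctor.Full := by
  refine ⟨fun {x y} ψ => ?_⟩
  -- the base morphism under `ψ`
  let f : 𝒳.p.obj x ⟶ 𝒳.p.obj y :=
    eqToHom (G.w_obj x).symm ≫ 𝒴.p.map ψ ≫ eqToHom (G.w_obj y)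
  have hψl : 𝒴.p.IsHomLift f ψ := by
    apply IsHomLift.of_fac 𝒴.p f ψ (G.w_obj x) (G.w_obj y)
    simp [f]
  obtain ⟨x', χ, hχ⟩ := h𝒳.exists_lift f
  have hx' : 𝒳.p.obj x' = 𝒳.p.obj x := IsHomLift.domain_eq 𝒳.p f χ
  have hGχs : 𝒴.p.IsStronglyCartesian f (G.map χ) :=
    Groth.Agent.S6396.sc_of_lift 𝒴.p f (G.map χ) (h𝒴.isStronglyCartesian (G.map χ))
  have hψl' : 𝒴.p.IsHomLift (𝟙 (𝒳.p.obj x) ≫ f) ψ := by
    rw [Category.id_comp]; exact hψl
  let θ : G.obj x ⟶ G.obj x' := IsStronglyCartesian.map 𝒴.p f (G.map χ)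
    (Category.id_comp f).symm ψ
  have hθl : 𝒴.p.IsHomLift (𝟙 (𝒳.p.obj x)) θ := inferInstance
  have hθ : θ ≫ G.map χ = ψ := IsStronglyCartesian.fac 𝒴.p f (G.map χ) _ ψ
  let X : 𝒳.p.Fiber (𝒳.p.obj x) := Functor.Fiber.mk (rfl : 𝒳.p.obj x = 𝒳.p.obj x)
  let X' : 𝒳.p.Fiber (𝒳.p.obj x) := Functor.Fiber.mk hx'
  let Θ : (FibCat.fiberFunctor G (𝒳.p.obj x)).obj X ⟶ (FibCat.fiberFunctor G (𝒳.p.obj x)).obj X' :=
    Functor.Fiber.homMk 𝒴.p (𝒳.p.obj x) θ
  obtain ⟨θ₀, hθ₀⟩ := (hG (𝒳.p.obj x)).map_surjective Θ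
  have hθ₀' : G.map (Functor.Fiber.fiberInclusion.map θ₀) = θ :=
    congrArg Functor.Fiber.fiberInclusion.map hθ₀
  refine ⟨Functor.Fiber.fiberInclusion.map θ₀ ≫ χ, ?_⟩
  rw [Functor.map_comp]
  change G.map (Functor.Fiber.fiberInclusion.map θ₀) ≫ G.map χ = ψ
  rw [hθ₀', hθ]

end helpers

set_option backward.isDefEq.respectTransparency false in
set_option backward.isDefEq.respectTransparency.types false in
theorem aux {C : Type u} [Category.{v} C] {𝒳 𝒴 : BasedCategory.{v, max u v} C} (G : 𝒳 ⥤ᵇ 𝒴) (h𝒳 : FibCat.IsFibGrpd 𝒳.p) (h𝒴 : FibCat.IsFibGrpd 𝒴.p) :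
    (G.toFunctor.Full ∧ G.toFunctor.Faithful) ↔ ∀ U : C, (FibCat.fiberFunctor G U).Full ∧ (FibCat.fiberFunctor G U).Faithful := by
  constructor
  · rintro ⟨h1, h2⟩ U
    exact ⟨full_fiber_of_full G h1 U, Groth.Agent.S6396.faithful_fiber_of_faithful G h2 U⟩
  · intro h
    exact ⟨full_of_full_fiber G h𝒳 h𝒴 fun U => (h U).1,
      Groth.Agent.S6396.faithful_of_faithful_fiber G h𝒳 h𝒴 fun U => (h U).2⟩

/-- A functor `G` over `C` between categories fibred in groupoids is fully faithful if and only if each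
induced functor of fibre categories `𝒳_U ⥤ 𝒴_U` is fully faithful. -/
theorem result {C : Type u} [Category.{v} C] {𝒳 𝒴 : BasedCategory.{v, max u v} C} (G : 𝒳 ⥤ᵇ 𝒴) (h𝒳 : FibCat.IsFibGrpd 𝒳.p) (h𝒴 : FibCat.IsFibGrpd 𝒴.p) :
    (G.toFunctor.Full ∧ G.toFunctor.Faithful) ↔ ∀ U : C, (FibCat.fiberFunctor G U).Full ∧ (FibCat.fiberFunctor G U).Faithful := by
  exact aux G h𝒳 h𝒴

end Groth.Agent.S6397
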