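import Groth.Statements.S6398
import Groth.Agent.S6396
import Groth.Agent.S6397
-- import your own Groth.Agent.* helpers here

set_option autoImplicit false
open CategoryTheory
universe v u
open FibCat

namespace Groth.Agent.S6398

section helpers
open CategoryTheory.Functor

variable {C : Type u} [Category.{v} C]

set_option backward.isDefEq.respectTransparency false in
set_option backward.isDefEq.respectTransparency.types false in
theorem essSurj_fiber {𝒳 𝒴 : BasedCategory.{v, max u v} C} (G : 𝒳 ⥤ᵇ 𝒴)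
    (h𝒳 : FibCat.IsFibGrpd 𝒳.p) (hG : G.toFunctor.EssSurj) (U : C) :
    (FibCat.fiberFunctor G U).EssSurj := by
  refine ⟨fun y => ?_⟩
  let x : 𝒳.obj := G.toFunctor.objPreimage y.1
  let α : G.obj x ≅ y.1 := G.toFunctor.objObjPreimageIso y.1
  let f₀ : 𝒳.p.obj x ⟶ U := eqToHom (G.w_obj x).symm ≫ 𝒴.p.map α.hom ≫ eqToHom y.2
  have hα : 𝒴.p.IsHomLift f₀ α.hom := by
    apply IsHomLift.of_fac 𝒴.p f₀ α.hom (G.w_obj x) y.2
    simp [f₀]
  have hf₀ : IsIso f₀ := inferInstance
  obtain ⟨x', χ, hχ⟩ := h𝒳.exists_lift (inv f₀ : U ⟶ 𝒳.p.obj x)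
  have hx' : 𝒳.p.obj x' = U := IsHomLift.domain_eq 𝒳.p (inv f₀) χ
  have hχs : 𝒳.p.IsStronglyCartesian (inv f₀) χ :=
    Groth.Agent.S6396.sc_of_lift 𝒳.p (inv f₀) χ (h𝒳.isStronglyCartesian χ)
  have hχi : IsIso χ := IsStronglyCartesian.isIso_of_base_isIso 𝒳.p (inv f₀) χ
  let β : G.obj x' ⟶ y.1 := G.map χ ≫ α.hom
  have hβl : 𝒴.p.IsHomLift (𝟙 U) β := by
    have : 𝒴.p.IsHomLift (inv f₀ ≫ f₀) β := inferInstance
    simpa using this
  have hGχi : IsIso (G.map χ) := Functor.map_isIso G.toFunctor χ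
  have hβi : IsIso β := inferInstance
  have hβinv : 𝒴.p.IsHomLift (𝟙 U) (inv β) := inferInstance
  refine ⟨Functor.Fiber.mk hx', ⟨⟨Functor.Fiber.homMk 𝒴.p U β,
    Functor.Fiber.homMk 𝒴.p U (inv β), ?_, ?_⟩⟩⟩
  · apply Functor.Fiber.hom_ext
    simp
    rfl
  · apply Functor.Fiber.hom_ext
    simp
    rfl

set_option backward.isDefEq.respectTransparency false in
set_option backward.isDefEq.respectTransparency.types false in
theorem essSurj_of_fiber {𝒳 𝒴 : BasedCategory.{v, max u v} C} (G : 𝒳 ⥤ᵇ 𝒴)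
    (hG : ∀ U : C, (FibCat.fiberFunctor G U).EssSurj) : G.toFunctor.EssSurj := by
  refine ⟨fun y => ?_⟩
  let Y : 𝒴.p.Fiber (𝒴.p.obj y) := Functor.Fiber.mk (rfl : 𝒴.p.obj y = 𝒴.p.obj y)
  have := hG (𝒴.p.obj y)
  let X := (FibCat.fiberFunctor G (𝒴.p.obj y)).objPreimage Y
  let e := (FibCat.fiberFunctor G (𝒴.p.obj y)).objObjPreimageIso Y
  exact ⟨X.1, ⟨Functor.Fiber.fiberInclusion.mapIso e⟩⟩

end helpers

set_option backward.isDefEq.respectTransparency false in
set_option backward.isDefEq.respectTransparency.types false in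
theorem aux {C : Type u} [Category.{v} C] {𝒳 𝒴 : BasedCategory.{v, max u v} C} (G : 𝒳 ⥤ᵇ 𝒴) (h𝒳 : FibCat.IsFibGrpd 𝒳.p) (h𝒴 : FibCat.IsFibGrpd 𝒴.p) :
    G.toFunctor.IsEquivalence ↔ ∀ U : C, (FibCat.fiberFunctor G U).IsEquivalence := by
  constructor
  · intro h U
    have h1 : G.toFunctor.Full := inferInstance
    have h2 : G.toFunctor.Faithful := inferInstance
    have h3 : G.toFunctor.EssSurj := inferInstance
    exact
      { faithful := Groth.Agent.S6396.faithful_fiber_of_faithful G h2 U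
        full := Groth.Agent.S6397.full_fiber_of_full G h1 U
        essSurj := essSurj_fiber G h𝒳 h3 U }
  · intro h
    exact
      { faithful := Groth.Agent.S6396.faithful_of_faithful_fiber G h𝒳 h𝒴 fun U => inferInstance
        full := Groth.Agent.S6397.full_of_full_fiber G h𝒳 h𝒴 fun U => inferInstance
        essSurj := essSurj_of_fiber G fun U => inferInstance }

/-- A functor `G` over `C` between categories fibred in groupoids is an equivalence of categories if and
only if each induced functor of fibre categories `𝒳_U ⥤ 𝒴_U` is an equivalence of categories. -/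
theorem result {C : Type u} [Category.{v} C] {𝒳 𝒴 : BasedCategory.{v, max u v} C} (G : 𝒳 ⥤ᵇ 𝒴) (h𝒳 : FibCat.IsFibGrpd 𝒳.p) (h𝒴 : FibCat.IsFibGrpd 𝒴.p) :
    G.toFunctor.IsEquivalence ↔ ∀ U : C, (FibCat.fiberFunctor G U).IsEquivalence := by
  exact aux G h𝒳 h𝒴

end Groth.Agent.S6398
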