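import Groth.Statements.S6403
-- import your own Groth.Agent.* helpers here

set_option autoImplicit false
open CategoryTheory
universe v u
open FibCat

namespace Groth.Agent.S6403

section Helpers

open Functor

variable {C : Type u} [Category.{v} C] {𝒳 𝒴 : BasedCategory.{v, max u v} C} (F : 𝒳 ⥤ᵇ 𝒴)

lemma isHomLift_of_hom {c d : FibCat.InertiaObj F} {R S : C} (g : R ⟶ S) (Ψ : c ⟶ d)
    [h : 𝒳.p.IsHomLift g Ψ.hom] : (FibCat.inertia F).p.IsHomLift g Ψ :=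
  IsHomLift.of_fac' (FibCat.inertia F).p g Ψ
    (IsHomLift.domain_eq 𝒳.p g Ψ.hom : 𝒳.p.obj c.pt = R)
    (IsHomLift.codomain_eq 𝒳.p g Ψ.hom : 𝒳.p.obj d.pt = S)
    (IsHomLift.fac' 𝒳.p g Ψ.hom : 𝒳.p.map Ψ.hom = _)

lemma hom_isHomLift {c d : FibCat.InertiaObj F} {R S : C} (g : R ⟶ S) (Ψ : c ⟶ d)
    [h : (FibCat.inertia F).p.IsHomLift g Ψ] : 𝒳.p.IsHomLift g Ψ.hom :=
  IsHomLift.of_fac' 𝒳.p g Ψ.hom
    (IsHomLift.domain_eq (FibCat.inertia F).p g Ψ : (FibCat.inertia F).p.obj c = R)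
    (IsHomLift.codomain_eq (FibCat.inertia F).p g Ψ : (FibCat.inertia F).p.obj d = S)
    (IsHomLift.fac' (FibCat.inertia F).p g Ψ : (FibCat.inertia F).p.map Ψ = _)

lemma aut_isHomLift (a : FibCat.InertiaObj F) : 𝒳.p.IsHomLift (𝟙 (𝒳.p.obj a.pt)) a.aut.hom := by
  have : 𝒴.p.IsHomLift (𝟙 (𝒳.p.obj a.pt)) (F.map a.aut.hom) := by
    rw [a.map_aut]
    infer_instance
  exact BasedFunctor.isHomLift_map F (𝟙 (𝒳.p.obj a.pt)) a.aut.hom

end Helpers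

/-- For a functor `F : 𝒳 ⟶ 𝒴` of fibred categories over `C` preserving strongly cartesian morphisms, the
relative inertia `I_{𝒳/𝒴}` is a fibred category over `C`. -/
theorem result {C : Type u} [Category.{v} C] {𝒳 𝒴 : BasedCategory.{v, max u v} C} [𝒳.p.IsFibered] [𝒴.p.IsFibered] (F : 𝒳 ⥤ᵇ 𝒴) (hF : FibCat.PreservesStronglyCartesian F) :
    (FibCat.inertia F).p.IsFibered := by
  apply Functor.IsFibered.of_exists_isStronglyCartesian
  intro a R f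
  change R ⟶ 𝒳.p.obj a.pt at f
  -- a strongly cartesian lift in `𝒳`
  obtain ⟨y, φ, hφc⟩ := Functor.IsPreFibered.exists_isCartesian' (p := 𝒳.p) (a := a.pt) f
  have hφ : 𝒳.p.IsStronglyCartesian f φ := inferInstance
  have hy : 𝒳.p.obj y = R := IsHomLift.domain_eq 𝒳.p f φ
  have hα := aut_isHomLift F a
  have hα' : 𝒳.p.IsHomLift (𝟙 (𝒳.p.obj a.pt)) a.aut.inv := inferInstance
  have h1 : 𝒳.p.IsHomLift f (φ ≫ a.aut.hom) := inferInstance
  have h2 : 𝒳.p.IsHomLift f (φ ≫ a.aut.inv) := inferInstance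
  let β : y ⟶ y := Functor.IsStronglyCartesian.map 𝒳.p f φ (Category.id_comp f).symm (φ ≫ a.aut.hom)
  let β' : y ⟶ y := Functor.IsStronglyCartesian.map 𝒳.p f φ (Category.id_comp f).symm (φ ≫ a.aut.inv)
  have hβ : 𝒳.p.IsHomLift (𝟙 R) β := inferInstance
  have hβ' : 𝒳.p.IsHomLift (𝟙 R) β' := inferInstance
  have eβ : β ≫ φ = φ ≫ a.aut.hom := Functor.IsStronglyCartesian.fac _ _ _ _ _
  have eβ' : β' ≫ φ = φ ≫ a.aut.inv := Functor.IsStronglyCartesian.fac _ _ _ _ _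
  have hid : 𝒳.p.IsHomLift (𝟙 R) (𝟙 y) := IsHomLift.id hy
  have e1 : β ≫ β' = 𝟙 y := by
    apply Functor.IsStronglyCartesian.ext 𝒳.p f φ (𝟙 R)
    rw [Category.assoc, eβ', ← Category.assoc, eβ, Category.assoc, Iso.hom_inv_id, Category.comp_id,
      Category.id_comp]
  have e2 : β' ≫ β = 𝟙 y := by
    apply Functor.IsStronglyCartesian.ext 𝒳.p f φ (𝟙 R)
    rw [Category.assoc, eβ, ← Category.assoc, eβ', Category.assoc, Iso.inv_hom_id, Category.comp_id,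
      Category.id_comp]
  have hFβ : F.map β = 𝟙 (F.obj y) := by
    have hsc : 𝒴.p.IsStronglyCartesian f (F.map φ) := hF f φ hφ
    have hidF : 𝒴.p.IsHomLift (𝟙 R) (𝟙 (F.obj y)) := IsHomLift.id ((F.w_obj y).trans hy)
    have hFβl : 𝒴.p.IsHomLift (𝟙 R) (F.map β) := inferInstance
    apply Functor.IsStronglyCartesian.ext 𝒴.p f (F.map φ) (𝟙 R)
    rw [← F.map_comp, eβ, F.map_comp, a.map_aut, Category.comp_id, Category.id_comp]
  let b : FibCat.InertiaObj F := ⟨y, ⟨β, β', e1, e2⟩, hFβ⟩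
  let Φ : b ⟶ a := ⟨φ, eβ⟩
  refine ⟨b, Φ, ?_⟩
  have hΦ : (FibCat.inertia F).p.IsHomLift f Φ := isHomLift_of_hom F f Φ
  refine { toIsHomLift := hΦ, universal_property' := ?_ }
  intro a' g Ψ hΨ
  change 𝒳.p.obj a'.pt ⟶ R at g
  have hΨ' : 𝒳.p.IsHomLift (g ≫ f) Ψ.hom := hom_isHomLift F (g ≫ f) Ψ (h := hΨ)
  have hγ := aut_isHomLift F a'
  let χ : a'.pt ⟶ y := Functor.IsStronglyCartesian.map 𝒳.p f φ (g := g) rfl Ψ.hom
  have hχ : 𝒳.p.IsHomLift g χ := inferInstance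
  have eχ : χ ≫ φ = Ψ.hom := Functor.IsStronglyCartesian.fac _ _ _ _ _
  have hl1 : 𝒳.p.IsHomLift g (a'.aut.hom ≫ χ) := IsHomLift.comp_lift_id_left 𝒳.p g χ a'.aut.hom
  have hl2 : 𝒳.p.IsHomLift g (χ ≫ β) := IsHomLift.comp_lift_id_right 𝒳.p g χ β
  have comm : a'.aut.hom ≫ χ = χ ≫ b.aut.hom := by
    show a'.aut.hom ≫ χ = χ ≫ β
    apply Functor.IsStronglyCartesian.ext 𝒳.p f φ g
    rw [Category.assoc, eχ, Category.assoc, eβ, ← Category.assoc, eχ]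
    exact Ψ.comm
  let X : a' ⟶ b := ⟨χ, comm⟩
  refine ⟨X, ⟨isHomLift_of_hom F g X, ?_⟩, ?_⟩
  · apply FibCat.InertiaObj.hom_ext
    exact eχ
  · rintro X' ⟨hX'1, hX'2⟩
    have hX'l : 𝒳.p.IsHomLift g X'.hom := hom_isHomLift F g X' (h := hX'1)
    have hX'e : X'.hom ≫ φ = Ψ.hom := congrArg FibCat.InertiaObj.Hom.hom hX'2
    apply FibCat.InertiaObj.hom_ext
    exact Functor.IsStronglyCartesian.map_uniq 𝒳.p f φ rfl Ψ.hom X'.hom hX'e

end Groth.Agent.S6403
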