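import Groth.Statements.S6407
-- import your own Groth.Agent.* helpers here

set_option autoImplicit false
open CategoryTheory
universe v u
open FibCat

namespace Groth.Agent.S6407

open Functor in
/-- In a category fibred in setoids, two morphisms with the same source and target lying over the
same base morphism coincide. -/
lemma hom_unique {C : Type u} [Category.{v} C] {𝒴 : BasedCategory.{v, max u v} C}
    (h𝒴 : FibCat.IsFibSetoid 𝒴.p) {R S : C} (h : R ⟶ S) {a b : 𝒴.obj} (φ ψ : a ⟶ b)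
    [𝒴.p.IsHomLift h φ] [𝒴.p.IsHomLift h ψ] : φ = ψ := by
  obtain ⟨hG, hT⟩ := h𝒴
  have hR : 𝒴.p.obj a = R := IsHomLift.domain_eq 𝒴.p h φ
  have hsc : 𝒴.p.IsStronglyCartesian (𝒴.p.map ψ) ψ := hG.isStronglyCartesian ψ
  have hsc' : 𝒴.p.IsStronglyCartesian h ψ := by
    have hfac := IsHomLift.fac 𝒴.p h ψ
    have hS : 𝒴.p.obj b = S := IsHomLift.codomain_eq 𝒴.p h ψ
    subst hR
    subst hS
    simp only [eqToHom_refl, Category.comp_id, Category.id_comp] at hfac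
    rw [hfac]
    exact hsc
  obtain ⟨χ, ⟨hχ1, hχ2⟩, -⟩ := IsStronglyCartesian.universal_property 𝒴.p h ψ (𝟙 R) h
    (Category.id_comp h).symm φ
  have : χ = 𝟙 a := by
    have hth := hT R
    let a' : 𝒴.p.Fiber R := ⟨a, hR⟩
    have hid : 𝒴.p.IsHomLift (𝟙 R) (𝟙 a) := IsHomLift.id hR
    let χ' : a' ⟶ a' := ⟨χ, hχ1⟩
    let i' : a' ⟶ a' := ⟨𝟙 a, hid⟩
    have : χ' = i' := Subsingleton.elim _ _
    exact congrArg Subtype.val this
  rw [← hχ2, this, Category.id_comp]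


/-- For categories `𝒳, 𝒴` fibred in setoids over `C` and functors `f, g : 𝒳 ⟶ 𝒴` over `C` that agree on
isomorphism classes of objects of each fibre category, there is a unique 2-isomorphism `f ≅ g` over
`C`. -/
theorem result {C : Type u} [Category.{v} C] {𝒳 𝒴 : BasedCategory.{v, max u v} C} (h𝒳 : FibCat.IsFibSetoid 𝒳.p) (h𝒴 : FibCat.IsFibSetoid 𝒴.p) (f g : 𝒳 ⥤ᵇ 𝒴)
    (hfg : ∀ (U : C) (x : 𝒳.p.Fiber U), Nonempty ((FibCat.fiberFunctor f U).obj x ≅ (FibCat.fiberFunctor g U).obj x)) :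
    Nonempty (Unique (f ≅ g)) := by
  classical
  -- the chosen fibrewise isomorphisms
  let e : ∀ x : 𝒳.obj, (FibCat.fiberFunctor f (𝒳.p.obj x)).obj ⟨x, rfl⟩ ≅
      (FibCat.fiberFunctor g (𝒳.p.obj x)).obj ⟨x, rfl⟩ := fun x => (hfg (𝒳.p.obj x) ⟨x, rfl⟩).some
  let eh : ∀ x : 𝒳.obj, f.obj x ⟶ g.obj x := fun x => (e x).hom.1
  let ei : ∀ x : 𝒳.obj, g.obj x ⟶ f.obj x := fun x => (e x).inv.1
  have he1 : ∀ x, 𝒴.p.IsHomLift (𝟙 (𝒳.p.obj x)) (eh x) := fun x => (e x).hom.2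
  have he2 : ∀ x, 𝒴.p.IsHomLift (𝟙 (𝒳.p.obj x)) (ei x) := fun x => (e x).inv.2
  have hei1 : ∀ x, eh x ≫ ei x = 𝟙 _ := fun x => congrArg Subtype.val (e x).hom_inv_id
  have hei2 : ∀ x, ei x ≫ eh x = 𝟙 _ := fun x => congrArg Subtype.val (e x).inv_hom_id
  let α : f.toFunctor ≅ g.toFunctor := NatIso.ofComponents
    (fun x => ⟨eh x, ei x, hei1 x, hei2 x⟩)
    (by
      intro x y φ
      have := he1 x
      have := he1 y
      have hf : 𝒴.p.IsHomLift (𝒳.p.map φ) (f.map φ) := inferInstance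
      have hg : 𝒴.p.IsHomLift (𝒳.p.map φ) (g.map φ) := inferInstance
      have h1 : 𝒴.p.IsHomLift (𝒳.p.map φ) (f.map φ ≫ eh y) :=
        IsHomLift.comp_lift_id_right (p := 𝒴.p) (𝒳.p.map φ) (f.map φ) (eh y)
      have h2 : 𝒴.p.IsHomLift (𝒳.p.map φ) (eh x ≫ g.map φ) :=
        IsHomLift.comp_lift_id_left (p := 𝒴.p) (𝒳.p.map φ) (g.map φ) (eh x)
      exact hom_unique h𝒴 (𝒳.p.map φ) (f.map φ ≫ eh y) (eh x ≫ g.map φ))
  let η : f ≅ g := BasedNatIso.mkNatIso α (fun a => he1 a)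
  refine ⟨⟨⟨η⟩, fun θ => ?_⟩⟩
  apply Iso.ext
  apply BasedNatTrans.homCategory.ext
  ext x
  have := he1 x
  have h1 : 𝒴.p.IsHomLift (𝟙 (𝒳.p.obj x)) (θ.hom.toNatTrans.app x) := inferInstance
  have h2 : 𝒴.p.IsHomLift (𝟙 (𝒳.p.obj x)) (η.hom.toNatTrans.app x) := inferInstance
  exact hom_unique h𝒴 (𝟙 (𝒳.p.obj x)) _ _

end Groth.Agent.S6407
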