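import Groth.Statements.S6408
import Mathlib

set_option autoImplicit false
open CategoryTheory
universe v u
open FibCat

namespace Groth.Agent.S6408

theorem eq_eqToHom_of_discrete {C : Type u} [Category.{v} C] {𝒴 : Type*} [Category 𝒴] (p : 𝒴 ⥤ C)
    (hd : ∀ U : C, IsDiscrete (p.Fiber U)) {S : C} {a b : 𝒴} (φ : a ⟶ b) [p.IsHomLift (𝟙 S) φ] :
    ∃ h : a = b, φ = eqToHom h := by
  have := hd S
  let m := Functor.Fiber.homMk p S φ
  have hab : a = b := congrArg Subtype.val (IsDiscrete.eq_of_hom (C := p.Fiber S) m)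
  subst hab
  refine ⟨rfl, ?_⟩
  have h2 : m = 𝟙 _ := Subsingleton.elim _ _
  have := congrArg (Functor.Fiber.fiberInclusion.map) h2
  simpa [m] using this

theorem basedFunctor_ext {C : Type u} [Category.{v} C] {𝒳 𝒴 : BasedCategory.{v, max u v} C}
    {F G : 𝒳 ⥤ᵇ 𝒴} (h : F.toFunctor = G.toFunctor) : F = G := by
  cases F; cases G; cases h; rfl

/-- Between categories fibred in sets over `C` the only 2-morphisms over `C` are identities. -/
theorem result {C : Type u} [Category.{v} C] {𝒳 𝒴 : BasedCategory.{v, max u v} C} (h𝒳 : FibCat.IsFibSet 𝒳.p) (h𝒴 : FibCat.IsFibSet 𝒴.p) {F G : 𝒳 ⥤ᵇ 𝒴} (α : F ⟶ G) :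
    ∃ h : F = G, α = eqToHom h := by
  have key : ∀ a : 𝒳.obj, ∃ h : F.obj a = G.obj a, α.toNatTrans.app a = eqToHom h := fun a =>
    eq_eqToHom_of_discrete 𝒴.p h𝒴.2 (S := 𝒳.p.obj a) (α.toNatTrans.app a)
  have hFG : F = G := by
    apply basedFunctor_ext
    refine CategoryTheory.Functor.ext (fun a => (key a).1) (fun a b f => ?_)
    have nat := α.toNatTrans.naturality f
    obtain ⟨ha, ha'⟩ := key a
    obtain ⟨hb, hb'⟩ := key b
    rw [ha', hb'] at nat
    rw [← Category.assoc, ← nat]; simp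
  subst hFG
  refine ⟨rfl, ?_⟩
  rw [eqToHom_refl]
  apply BasedNatTrans.homCategory.ext
  ext a
  obtain ⟨ha, ha'⟩ := key a
  rw [ha']; simp

end Groth.Agent.S6408
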