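import Groth.Statements.S6417
-- import your own Groth.Agent.* helpers here

set_option autoImplicit false
open CategoryTheory CategoryTheory.Limits
universe v₁ u₁ v₂ u₂
open FibCat

namespace Groth.Agent.S6417

theorem general {𝒮 : Type u₁} [Category.{v₁} 𝒮] {C : Type u₂} [Category.{v₂} C] (p : 𝒮 ⥤ C)
    {x y z w : 𝒮} (φ : x ⟶ y) (ψ : z ⟶ y)
    [p.IsStronglyCartesian (p.map φ) φ] (a : w ⟶ z) {P : C} (fst : P ⟶ p.obj x)
    (snd : P ⟶ p.obj z) (hP : IsPullback fst snd (p.map φ) (p.map ψ))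
    [p.IsStronglyCartesian snd a] :
    ∃ b : w ⟶ x, p.IsHomLift fst b ∧ IsPullback b a φ ψ := by
  have hw : p.obj w = P := IsHomLift.domain_eq p snd a
  subst hw
  have hsnd : snd = p.map a := IsHomLift.eq_of_isHomLift p snd a
  subst hsnd
  have hf' : p.map (a ≫ ψ) = fst ≫ p.map φ := by rw [p.map_comp, hP.w]
  let b : w ⟶ x := Functor.IsStronglyCartesian.map p (p.map φ) φ hf' (a ≫ ψ)
  have hb1 : p.IsHomLift fst b := inferInstance
  have hb2 : b ≫ φ = a ≫ ψ := Functor.IsStronglyCartesian.fac p (p.map φ) φ hf' (a ≫ ψ)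
  have hb3 : fst = p.map b := IsHomLift.eq_of_isHomLift p fst b
  refine ⟨b, hb1, ⟨⟨hb2⟩, ⟨?_⟩⟩⟩
  have key : ∀ s : PullbackCone φ ψ, ∃ u₀ : p.obj s.pt ⟶ p.obj w,
      u₀ ≫ fst = p.map s.fst ∧ u₀ ≫ p.map a = p.map s.snd := by
    intro s
    refine ⟨hP.lift (p.map s.fst) (p.map s.snd) ?_, hP.lift_fst _ _ _, hP.lift_snd _ _ _⟩
    rw [← p.map_comp, ← p.map_comp, s.condition]
  choose u₀ hu₀1 hu₀2 using key
  refine PullbackCone.IsLimit.mk hb2
    (fun s => Functor.IsStronglyCartesian.map p (p.map a) a (hu₀2 s).symm s.snd) ?_ ?_ ?_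
  · intro s
    have i0 : p.IsHomLift (u₀ s) (Functor.IsStronglyCartesian.map p (p.map a) a
      (hu₀2 s).symm s.snd) := inferInstance
    have i1 : p.IsHomLift (p.map s.fst) (Functor.IsStronglyCartesian.map p (p.map a) a
        (hu₀2 s).symm s.snd ≫ b) := by
      rw [← hu₀1 s]; infer_instance
    apply Functor.IsStronglyCartesian.ext p (p.map φ) φ (p.map s.fst)
    rw [Category.assoc, hb2, Functor.IsStronglyCartesian.fac_assoc, s.condition]
  · intro s
    exact Functor.IsStronglyCartesian.fac p (p.map a) a (hu₀2 s).symm s.snd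
  · intro s m hm1 hm2
    have hm : p.map m = u₀ s := by
      apply hP.hom_ext
      · rw [hu₀1 s, hb3, ← p.map_comp, hm1]
      · rw [hu₀2 s, ← p.map_comp, hm2]
    have : p.IsHomLift (u₀ s) m := by rw [← hm]; infer_instance
    exact Functor.IsStronglyCartesian.map_uniq p (p.map a) a (hu₀2 s).symm s.snd m hm2

/-- For `p : 𝒮 ⥤ C`, a strongly cartesian `φ : x ⟶ y`, any `ψ : z ⟶ y`, and a strongly cartesian `a : w
⟶ z` lying over the second projection of `p x ×_{p y} p z`, the object `w` is a fibre product `x ×_y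
z`: there is `b : w ⟶ x` over the first projection with `(b, a)` a pullback square. -/
theorem result {𝒮 : Type u₁} [Category.{v₁} 𝒮] {C : Type u₂} [Category.{v₂} C] (p : 𝒮 ⥤ C) {x y z w : 𝒮} (φ : x ⟶ y) (ψ : z ⟶ y)
    [p.IsStronglyCartesian (p.map φ) φ] [HasPullback (p.map φ) (p.map ψ)] (a : w ⟶ z)
    [p.IsStronglyCartesian (pullback.snd (p.map φ) (p.map ψ)) a] :
    ∃ b : w ⟶ x, p.IsHomLift (pullback.fst (p.map φ) (p.map ψ)) b ∧ IsPullback b a φ ψ := by
  exact general p φ ψ a _ _ (IsPullback.of_hasPullback _ _)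

end Groth.Agent.S6417
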