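import Groth.Statements.S6418
-- import your own Groth.Agent.* helpers here

set_option autoImplicit false
open CategoryTheory
universe v₁ u₁ v₂ u₂
open FibCat

namespace Groth.Agent.S6418

theorem isHomLift_comp_map {𝒜 : Type*} [Category 𝒜] {ℬ : Type*} [Category ℬ]
    {𝒞 : Type*} [Category 𝒞] (F : 𝒜 ⥤ ℬ) (G : ℬ ⥤ 𝒞) {R S : ℬ} (f : R ⟶ S) {a b : 𝒜}
    (φ : a ⟶ b) [F.IsHomLift f φ] : (F ⋙ G).IsHomLift (G.map f) φ := by
  subst_hom_lift F f φ
  exact IsHomLift.map (F ⋙ G) φ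

theorem sc_of_faithful {𝒜 : Type*} [Category 𝒜] {ℬ : Type*} [Category ℬ]
    {𝒞 : Type*} [Category 𝒞] (F : 𝒜 ⥤ ℬ) (G : ℬ ⥤ 𝒞) [G.Faithful] {R S : ℬ} (f : R ⟶ S)
    {a b : 𝒜} (φ : a ⟶ b) [F.IsHomLift f φ] [(F ⋙ G).IsStronglyCartesian (G.map f) φ] :
    F.IsStronglyCartesian f φ := by
  refine { toIsHomLift := inferInstance, universal_property' := ?_ }
  intro a' g φ' hφ'
  have i1 : (F ⋙ G).IsHomLift (G.map g ≫ G.map f) φ' := by
    rw [← G.map_comp]; exact isHomLift_comp_map F G (g ≫ f) φ'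
  obtain ⟨χ, ⟨hχ1, hχ2⟩, hχ3⟩ := Functor.IsStronglyCartesian.universal_property
    (F ⋙ G) (G.map f) φ (G.map g) (G.map g ≫ G.map f) rfl φ'
  subst_hom_lift F f φ
  refine ⟨χ, ⟨?_, hχ2⟩, ?_⟩
  · have e : G.map g = G.map (F.map χ) := IsHomLift.eq_of_isHomLift (F ⋙ G) (G.map g) χ
    rw [G.map_injective e]; infer_instance
  · rintro χ' ⟨h1, h2⟩
    apply hχ3
    exact ⟨isHomLift_comp_map F G g χ', h2⟩

theorem over_isHomLift {C : Type*} [Category C] {𝒮 : Type*} [Category 𝒮] {U : C}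
    (p' : 𝒮 ⥤ Over U) {a b : 𝒮} (φ : a ⟶ b) {R : Over U} (f : R ⟶ p'.obj b)
    [h : (p' ⋙ Over.forget U).IsHomLift ((Over.forget U).map f) φ] : p'.IsHomLift f φ := by
  have ha : (p' ⋙ Over.forget U).obj a = (Over.forget U).obj R :=
    IsHomLift.domain_eq (p' ⋙ Over.forget U) ((Over.forget U).map f) φ
  have hfac := IsHomLift.fac' (p' ⋙ Over.forget U) ((Over.forget U).map f) φ
  obtain ⟨Rl, ⟨⟨⟩⟩, Rh⟩ := R
  simp only [Functor.comp_obj, Over.forget_obj] at ha
  subst ha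
  simp only [Functor.comp_obj, Over.forget_obj, Functor.comp_map, Over.forget_map, eqToHom_refl,
    Category.comp_id, Category.id_comp] at hfac
  have hRh : Rh = (p'.obj a).hom := by
    have h1 := Over.w f
    have h2 := Over.w (p'.map φ)
    rw [← h2, hfac]
    exact h1.symm
  subst hRh
  have : f = p'.map φ := by
    apply Over.OverMorphism.ext
    exact hfac.symm
  rw [this]
  infer_instance

/-- If `p' : 𝒮 ⥤ C/U` composed with the forgetful functor `C/U ⥤ C` is a fibred category, then so is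
`p'`. -/
theorem result {𝒮 : Type u₁} [Category.{v₁} 𝒮] {C : Type u₂} [Category.{v₂} C] {U : C} (p' : 𝒮 ⥤ Over U) [(p' ⋙ Over.forget U).IsFibered] : p'.IsFibered := by
  apply Functor.IsFibered.of_exists_isStronglyCartesian
  intro a R f
  obtain ⟨b, φ, hφ⟩ := Functor.IsPreFibered.exists_isCartesian' (p := p' ⋙ Over.forget U)
    (a := a) ((Over.forget U).map f)
  have h1 : (p' ⋙ Over.forget U).IsStronglyCartesian ((Over.forget U).map f) φ := inferInstance
  have h2 : p'.IsHomLift f φ := over_isHomLift p' φ f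
  exact ⟨b, φ, sc_of_faithful p' (Over.forget U) f φ⟩

end Groth.Agent.S6418
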