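import Groth.Statements.S6419
-- import your own Groth.Agent.* helpers here

set_option autoImplicit false
set_option backward.isDefEq.respectTransparency false
open CategoryTheory
universe v₁ u₁ v₂ u₂
open FibCat

namespace Groth.Agent.S6419

lemma over_ext {C : Type u₂} [Category.{v₂} C] {U : C} (W V : Over U) (hl : W.left = V.left)
    (hh : W.hom = eqToHom hl ≫ V.hom) : W = V := by
  obtain ⟨Wl, ⟨⟨⟩⟩, Wh⟩ := W
  obtain ⟨Vl, ⟨⟨⟩⟩, Vh⟩ := V
  change Wl = Vl at hl
  subst hl
  change Wh = eqToHom rfl ≫ Vh at hh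
  rw [eqToHom_refl, Category.id_comp] at hh
  subst hh
  rfl


/-- If `p' : 𝒮 ⥤ C/U` composed with the forgetful functor `C/U ⥤ C` is fibred in groupoids, then so is
`p'`. -/
theorem result {𝒮 : Type u₁} [Category.{v₁} 𝒮] {C : Type u₂} [Category.{v₂} C] {U : C} (p' : 𝒮 ⥤ Over U) (h : FibCat.IsFibGrpd (p' ⋙ Over.forget U)) : FibCat.IsFibGrpd p' := by
  constructor
  · intro x V f
    obtain ⟨y, φ, hφ⟩ := h.exists_lift (x := x) (V := V.left) f.left
    refine ⟨y, φ, ?_⟩
    have hl : (p'.obj y).left = V.left := IsHomLift.domain_eq (p' ⋙ Over.forget U) f.left φ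
    have hfac : (p'.map φ).left = eqToHom hl ≫ f.left := by
      have := IsHomLift.fac' (p' ⋙ Over.forget U) f.left φ
      simpa using this
    have hWV : p'.obj y = V := by
      apply over_ext _ _ hl
      rw [← Over.w f, ← Category.assoc, ← hfac, Over.w]
    apply IsHomLift.of_fac p' f φ hWV rfl
    apply Over.OverMorphism.ext
    simp only [eqToHom_refl, Category.comp_id, Over.comp_left, Over.eqToHom_left, hfac]
    simp
  · intro y x φ
    have hφ : (p' ⋙ Over.forget U).IsStronglyCartesian ((p' ⋙ Over.forget U).map φ) φ :=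
      h.isStronglyCartesian φ
    refine { toIsHomLift := IsHomLift.map p' φ, universal_property' := ?_ }
    intro a' g φ' hφ'
    have hg : g ≫ p'.map φ = p'.map φ' := IsHomLift.eq_of_isHomLift p' (g ≫ p'.map φ) φ'
    have hlift : (p' ⋙ Over.forget U).IsHomLift (g.left ≫ (p' ⋙ Over.forget U).map φ) φ' := by
      have : g.left ≫ (p' ⋙ Over.forget U).map φ = (p' ⋙ Over.forget U).map φ' := by
        simp only [Functor.comp_map, Over.forget_map, ← hg, Over.comp_left]
      rw [this]
      exact IsHomLift.map _ φ'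
    obtain ⟨χ, ⟨hχ1, hχ2⟩, hχu⟩ :=
      Functor.IsStronglyCartesian.universal_property (p' ⋙ Over.forget U)
        ((p' ⋙ Over.forget U).map φ) φ g.left _ rfl φ'
    have key : ∀ χ₂ : a' ⟶ y, p'.IsHomLift g χ₂ ↔ (p' ⋙ Over.forget U).IsHomLift g.left χ₂ := by
      intro χ₂
      constructor
      · intro hh
        have : g = p'.map χ₂ := IsHomLift.eq_of_isHomLift p' g χ₂
        rw [this]
        exact IsHomLift.map (p' ⋙ Over.forget U) χ₂
      · intro hh
        have : g.left = (p'.map χ₂).left :=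
          IsHomLift.eq_of_isHomLift (p' ⋙ Over.forget U) g.left χ₂
        have : g = p'.map χ₂ := Over.OverMorphism.ext this
        rw [this]
        exact IsHomLift.map p' χ₂
    refine ⟨χ, ⟨(key χ).mpr hχ1, hχ2⟩, ?_⟩
    rintro χ₂ ⟨h1, h2⟩
    exact hχu χ₂ ⟨(key χ₂).mp h1, h2⟩

end Groth.Agent.S6419
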