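import Groth.Statements.S6425
-- import your own Groth.Agent.* helpers here
import Mathlib.CategoryTheory.Limits.Types.Products
import Mathlib.CategoryTheory.Limits.Preserves.Shapes.BinaryProducts

set_option autoImplicit false
open CategoryTheory CategoryTheory.Limits
universe v
open CatLim

namespace Groth.Agent.S6425

theorem types_prod_ext {X Y : Type v} (p q : (X ⨯ Y : Type v))
    (h1 : (prod.fst : X ⨯ Y ⟶ X) p = (prod.fst : X ⨯ Y ⟶ X) q)
    (h2 : (prod.snd : X ⨯ Y ⟶ Y) p = (prod.snd : X ⨯ Y ⟶ Y) q) : p = q := by
  apply Types.limit_ext (pair X Y)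
  rintro ⟨⟨⟩⟩
  · exact h1
  · exact h2

/-- Over an index category in which any two objects map to a common object, the comparison map `colim (M
× N) → colim M × colim N` for diagrams of sets is surjective. -/
theorem result {I : Type v} [SmallCategory I]
    (hI : ∀ x y : I, ∃ (z : I) (_ : x ⟶ z) (_ : y ⟶ z), True) (M N : I ⥤ Type v) :
    Function.Surjective (prodComparison (colim : (I ⥤ Type v) ⥤ Type v) M N) := by
  intro p
  obtain ⟨i, m, hm⟩ := Types.jointly_surjective' (F := M)
    ((prod.fst : colim.obj M ⨯ colim.obj N ⟶ colim.obj M) p)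
  obtain ⟨j, n, hn⟩ := Types.jointly_surjective' (F := N)
    ((prod.snd : colim.obj M ⨯ colim.obj N ⟶ colim.obj N) p)
  obtain ⟨k, f, g, -⟩ := hI i j
  let E := (evaluation I (Type v)).obj k
  let y : (E.obj M ⨯ E.obj N : Type v) :=
    (Types.binaryProductIso (M.obj k) (N.obj k)).inv (M.map f m, N.map g n)
  let x : (M ⨯ N).obj k := (PreservesLimitPair.iso E M N).inv y
  have hx : prodComparison E M N x = y :=
    ConcreteCategory.congr_hom (PreservesLimitPair.iso E M N).inv_hom_id y
  have hx1 : (prod.fst : M ⨯ N ⟶ M).app k x = M.map f m := by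
    have := ConcreteCategory.congr_hom (prodComparison_fst E M N) x
    simp only [types_comp_apply, hx] at this
    exact this.symm.trans
      (ConcreteCategory.congr_hom (Types.binaryProductIso_inv_comp_fst (M.obj k) (N.obj k)) _)
  have hx2 : (prod.snd : M ⨯ N ⟶ N).app k x = N.map g n := by
    have := ConcreteCategory.congr_hom (prodComparison_snd E M N) x
    simp only [types_comp_apply, hx] at this
    exact this.symm.trans
      (ConcreteCategory.congr_hom (Types.binaryProductIso_inv_comp_snd (M.obj k) (N.obj k)) _)
  refine ⟨colimit.ι (M ⨯ N) k x, ?_⟩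
  apply types_prod_ext
  · have := ConcreteCategory.congr_hom (prodComparison_fst colim M N) (colimit.ι (M ⨯ N) k x)
    simp only [types_comp_apply] at this
    rw [this, ← hm]
    have h2 := ConcreteCategory.congr_hom (ι_colimMap (prod.fst : M ⨯ N ⟶ M) k) x
    simp only [types_comp_apply] at h2
    refine Eq.trans h2 ?_
    rw [hx1]
    exact ConcreteCategory.congr_hom (colimit.w M f) m
  · have := ConcreteCategory.congr_hom (prodComparison_snd colim M N) (colimit.ι (M ⨯ N) k x)
    simp only [types_comp_apply] at this
    rw [this, ← hn]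
    have h2 := ConcreteCategory.congr_hom (ι_colimMap (prod.snd : M ⨯ N ⟶ N) k) x
    simp only [types_comp_apply] at h2
    refine Eq.trans h2 ?_
    rw [hx2]
    exact ConcreteCategory.congr_hom (colimit.w N g) n

end Groth.Agent.S6425
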