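import Groth.Statements.S6426
-- import your own Groth.Agent.* helpers here

set_option autoImplicit false
open CategoryTheory CategoryTheory.Limits
universe v
open CatLim

namespace Groth.Agent.S6426

/-- Over a nonempty index category in which any two objects map to a common object, the set-theoretic
colimit of a diagram of abelian groups surjects onto its colimit in abelian groups. (The published
statement does not require the index category to be nonempty; this row assumes it, because for the
empty index category the colimit of sets is empty while the colimit of abelian groups is the zero
group.) -/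
theorem result {I : Type v} [SmallCategory I] [Nonempty I]
    (hI : ∀ x y : I, ∃ (z : I) (_ : x ⟶ z) (_ : y ⟶ z), True) (M : I ⥤ AddCommGrpCat.{v}) :
    Function.Surjective (colimit.post M (forget AddCommGrpCat.{v})) := by
  let S : AddSubgroup (colimit M : AddCommGrpCat.{v}) :=
    { carrier := {x | ∃ (i : I) (m : M.obj i), colimit.ι M i m = x}
      zero_mem' := by
        obtain ⟨i⟩ := ‹Nonempty I›
        exact ⟨i, 0, map_zero _⟩
      add_mem' := by
        rintro _ _ ⟨i, m, rfl⟩ ⟨j, n, rfl⟩
        obtain ⟨k, f, g, -⟩ := hI i j
        refine ⟨k, M.map f m + M.map g n, ?_⟩
        rw [map_add]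
        congr 1
        · exact ConcreteCategory.congr_hom (colimit.w M f) m
        · exact ConcreteCategory.congr_hom (colimit.w M g) n
      neg_mem' := by
        rintro _ ⟨i, m, rfl⟩
        exact ⟨i, -m, map_neg _ _⟩ }
  have hS : ∀ x : (colimit M : AddCommGrpCat.{v}), x ∈ S := by
    let c : Cocone M :=
      { pt := AddCommGrpCat.of S
        ι := { app := fun i => AddCommGrpCat.ofHom
                ((colimit.ι M i).hom.codRestrict S (fun m => ⟨i, m, rfl⟩))
               naturality := by
                intro i j f
                ext m
                apply Subtype.ext
                simpa using ConcreteCategory.congr_hom (colimit.w M f) m } }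
    have h : colimit.desc M c ≫ AddCommGrpCat.ofHom S.subtype = 𝟙 _ := by
      apply colimit.hom_ext
      intro i
      rw [colimit.ι_desc_assoc]
      ext m
      rfl
    intro x
    have := ConcreteCategory.congr_hom h x
    rw [← show _ = x from this]
    exact (colimit.desc M c x).2
  intro x
  obtain ⟨i, m, rfl⟩ := hS x
  exact ⟨colimit.ι (M ⋙ forget _) i m, ConcreteCategory.congr_hom (colimit.ι_post M (forget _) i) m⟩

end Groth.Agent.S6426
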