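import Groth.Statements.S6427
-- import your own Groth.Agent.* helpers here

set_option autoImplicit false
open CategoryTheory CategoryTheory.Limits
universe v
open CatLim

namespace Groth.Agent.S6427

section
variable {I : Type v} [SmallCategory I]
  (hI : ∀ ⦃x y z : I⦄ (f : x ⟶ y) (g : x ⟶ z), ∃ (w : I) (f' : y ⟶ w) (g' : z ⟶ w), f ≫ f' = g ≫ g')
  (N : I ⥤ Type v)

def RR (a b : Σ j, N.obj j) : Prop :=
  ∃ (k : I) (f : a.1 ⟶ k) (g : b.1 ⟶ k), N.map f a.2 = N.map g b.2

include hI in
theorem RR_equiv : Equivalence (RR N) where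
  refl a := ⟨a.1, 𝟙 _, 𝟙 _, rfl⟩
  symm := by
    rintro a b ⟨k, f, g, h⟩
    exact ⟨k, g, f, h.symm⟩
  trans := by
    rintro a b c ⟨k, f, g, h⟩ ⟨k', f', g', h'⟩
    obtain ⟨w, s, t, hst⟩ := hI g f'
    refine ⟨w, f ≫ s, g' ≫ t, ?_⟩
    rw [Functor.map_comp, Functor.map_comp, types_comp_apply, types_comp_apply, h, ← h',
      ← types_comp_apply (N.map g) (N.map s), ← types_comp_apply (N.map f') (N.map t),
      ← Functor.map_comp, ← Functor.map_comp, hst]

include hI in
theorem eq_imp {i j : I} {x : N.obj i} {y : N.obj j}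
    (h : colimit.ι N i x = colimit.ι N j y) :
    ∃ (k : I) (f : i ⟶ k) (g : j ⟶ k), N.map f x = N.map g y := by
  have h1 := Types.colimit_eq h
  have h2 : Relation.EqvGen (RR N) ⟨i, x⟩ ⟨j, y⟩ := by
    refine Relation.EqvGen.mono ?_ _ _ h1
    rintro a b ⟨f, hf⟩
    exact ⟨b.1, f, 𝟙 _, by simp [hf]⟩
  exact ((RR_equiv hI N).eqvGen_iff).mp h2

end

/-- Over an index category in which every pair of morphisms with common source can be completed to a
commutative square, colimits of sets preserve injective morphisms of diagrams. -/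
theorem result {I : Type v} [SmallCategory I]
    (hI : ∀ ⦃x y z : I⦄ (f : x ⟶ y) (g : x ⟶ z), ∃ (w : I) (f' : y ⟶ w) (g' : z ⟶ w), f ≫ f' = g ≫ g')
    {M N : I ⥤ Type v} (φ : M ⟶ N) (hφ : ∀ i, Function.Injective (φ.app i)) :
    Function.Injective (colimMap φ) := by
  intro a b hab
  obtain ⟨i, m, rfl⟩ := Types.jointly_surjective' a
  obtain ⟨j, m', rfl⟩ := Types.jointly_surjective' b
  have e1 : colimMap φ (colimit.ι M i m) = colimit.ι N i (φ.app i m) :=
    ConcreteCategory.congr_hom (ι_colimMap φ i) m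
  have e2 : colimMap φ (colimit.ι M j m') = colimit.ι N j (φ.app j m') :=
    ConcreteCategory.congr_hom (ι_colimMap φ j) m'
  rw [e1, e2] at hab
  obtain ⟨k, f, g, hfg⟩ := eq_imp hI N hab
  have n1 : N.map f (φ.app i m) = φ.app k (M.map f m) :=
    (ConcreteCategory.congr_hom (φ.naturality f) m).symm
  have n2 : N.map g (φ.app j m') = φ.app k (M.map g m') :=
    (ConcreteCategory.congr_hom (φ.naturality g) m').symm
  rw [n1, n2] at hfg
  exact Types.colimit_sound' f g (hφ k hfg)

end Groth.Agent.S6427
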