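import Groth.Statements.S6428
-- import your own Groth.Agent.* helpers here
import Mathlib.CategoryTheory.Limits.Final

set_option autoImplicit false
open CategoryTheory CategoryTheory.Limits
universe v₁ u₁ v₂ u₂ v₃ u₃
open CatLim

namespace Groth.Agent.S6428

section
variable {I : Type u₁} [Category.{v₁} I] {I' : Type u₂} [Category.{v₂} I'] (F : I ⥤ I')

/-- The functor from a fibre to a structured arrow category. -/
def HH {x' y' : I'} (β : x' ⟶ y') : F.Fiber y' ⥤ StructuredArrow x' F where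
  obj b := StructuredArrow.mk (β ≫ eqToHom b.2.symm)
  map {b b'} ψ := StructuredArrow.homMk ψ.1 (by
    have := ψ.2
    simp [IsHomLift.fac' F (𝟙 y') ψ.1])
  map_id b := by
    apply StructuredArrow.hom_ext
    rfl
  map_comp ψ ψ' := by
    apply StructuredArrow.hom_ext
    rfl

theorem final_of_fibers
    (h1 : ∀ x' : I', IsConnected (F.Fiber x'))
    (h2 : ∀ ⦃x' y' : I'⦄ (α' : x' ⟶ y'), ∃ (x y : I) (hx : F.obj x = x') (hy : F.obj y = y')
      (α : x ⟶ y), F.map α = eqToHom hx ≫ α' ≫ eqToHom hy.symm) : F.Final := by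
  refine ⟨fun x' => ?_⟩
  have := h1 x'
  obtain ⟨a₀⟩ := (h1 x').is_nonempty
  have key : ∀ f : StructuredArrow x' F, Zigzag f ((HH F (𝟙 x')).obj a₀) := by
    intro f
    obtain ⟨x, y₀, hx, hy, α, hα⟩ := h2 f.hom
    have := h1 (F.obj f.right)
    -- step 1: f ~ H_{f.hom} ⟨y₀, hy⟩
    have z1 : Zigzag ((HH F f.hom).obj ⟨f.right, rfl⟩) ((HH F f.hom).obj ⟨y₀, hy⟩) :=
      zigzag_obj_of_zigzag _ (isPreconnected_zigzag _ _)
    have e1 : (HH F f.hom).obj ⟨f.right, rfl⟩ = f := by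
      change StructuredArrow.mk (f.hom ≫ eqToHom rfl) = f
      rw [eqToHom_refl, Category.comp_id]
      rfl
    rw [e1] at z1
    -- step 2: H_{𝟙} ⟨x, hx⟩ ⟶ H_{f.hom} ⟨y₀, hy⟩
    have m : (HH F (𝟙 x')).obj ⟨x, hx⟩ ⟶ (HH F f.hom).obj ⟨y₀, hy⟩ :=
      StructuredArrow.homMk α (by simp [HH, hα])
    have z2 : Zigzag ((HH F (𝟙 x')).obj ⟨x, hx⟩) ((HH F (𝟙 x')).obj a₀) :=
      zigzag_obj_of_zigzag _ (isPreconnected_zigzag _ _)
    exact z1.trans ((Zigzag.of_hom m).symm.trans z2)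
  have : Nonempty (StructuredArrow x' F) := ⟨(HH F (𝟙 x')).obj a₀⟩
  exact zigzag_isConnected fun j₁ j₂ => (key j₁).trans (key j₂).symm

end

/-- If `F : I ⥤ I'` has connected fibre categories and is surjective on morphisms, then for every
diagram `M : I' ⥤ C` the colimit of `F ⋙ M` exists if and only if that of `M` does, and the
canonical comparison between them is then an isomorphism. -/
theorem result {I : Type u₁} [Category.{v₁} I] {I' : Type u₂} [Category.{v₂} I'] {C : Type u₃} [Category.{v₃} C] (F : I ⥤ I')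
    (h1 : ∀ x' : I', IsConnected (F.Fiber x'))
    (h2 : ∀ ⦃x' y' : I'⦄ (α' : x' ⟶ y'), ∃ (x y : I) (hx : F.obj x = x') (hy : F.obj y = y') (α : x ⟶ y), F.map α = eqToHom hx ≫ α' ≫ eqToHom hy.symm)
    (M : I' ⥤ C) :
    (HasColimit (F ⋙ M) ↔ HasColimit M) ∧ ∀ [HasColimit (F ⋙ M)] [HasColimit M], IsIso (colimit.pre M F) := by
  have := final_of_fibers F h1 h2
  refine ⟨Functor.Final.hasColimit_comp_iff F, ?_⟩
  intro _ _
  infer_instance

end Groth.Agent.S6428
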