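import Groth.Statements.S6429
-- import your own Groth.Agent.* helpers here

set_option autoImplicit false
open CategoryTheory CategoryTheory.MonoidalCategory
universe v u
open MonCat

namespace Groth.Agent.S6429

section
variable {C : Type u} [Category.{v} C] [MonoidalCategory C]

noncomputable def leftEquiv (X X' : C) (e : X ⊗ X' ≅ 𝟙_ C) (e' : X' ⊗ X ≅ 𝟙_ C) : C ≌ C :=
  CategoryTheory.Equivalence.mk (tensorLeft X) (tensorLeft X')
    ((leftUnitorNatIso C).symm ≪≫ (tensoringLeft C).mapIso e'.symm ≪≫ tensorLeftTensor X' X)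
    ((tensorLeftTensor X X').symm ≪≫ (tensoringLeft C).mapIso e ≪≫ leftUnitorNatIso C)

noncomputable def rightEquiv (X X' : C) (e : X ⊗ X' ≅ 𝟙_ C) (e' : X' ⊗ X ≅ 𝟙_ C) : C ≌ C :=
  CategoryTheory.Equivalence.mk (tensorRight X) (tensorRight X')
    ((rightUnitorNatIso C).symm ≪≫ (tensoringRight C).mapIso e.symm ≪≫ tensorRightTensor X X')
    ((tensorRightTensor X' X).symm ≪≫ (tensoringRight C).mapIso e' ≪≫ rightUnitorNatIso C)

theorem left_of_inverse (X X' : C) (e : X ⊗ X' ≅ 𝟙_ C) (e' : X' ⊗ X ≅ 𝟙_ C) :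
    (tensorLeft X).IsEquivalence :=
  (leftEquiv X X' e e').isEquivalence_functor

theorem right_of_inverse (X X' : C) (e : X ⊗ X' ≅ 𝟙_ C) (e' : X' ⊗ X ≅ 𝟙_ C) :
    (tensorRight X).IsEquivalence :=
  (rightEquiv X X' e e').isEquivalence_functor

theorem inverse_of_left (X : C) [(tensorLeft X).IsEquivalence] :
    ∃ X' : C, Nonempty (X ⊗ X' ≅ 𝟙_ C) ∧ Nonempty (X' ⊗ X ≅ 𝟙_ C) := by
  let X' := (tensorLeft X).objPreimage (𝟙_ C)
  let e : X ⊗ X' ≅ 𝟙_ C := (tensorLeft X).objObjPreimageIso (𝟙_ C)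
  let α : (tensorLeft X).obj (X' ⊗ X) ≅ (tensorLeft X).obj (𝟙_ C) :=
    (α_ X X' X).symm ≪≫ whiskerRightIso e X ≪≫ λ_ X ≪≫ (ρ_ X).symm
  exact ⟨X', ⟨e⟩, ⟨(tensorLeft X).preimageIso α⟩⟩

theorem inverse_of_right (X : C) [(tensorRight X).IsEquivalence] :
    ∃ X' : C, Nonempty (X ⊗ X' ≅ 𝟙_ C) ∧ Nonempty (X' ⊗ X ≅ 𝟙_ C) := by
  let X' := (tensorRight X).objPreimage (𝟙_ C)
  let e' : X' ⊗ X ≅ 𝟙_ C := (tensorRight X).objObjPreimageIso (𝟙_ C)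
  let α : (tensorRight X).obj (X ⊗ X') ≅ (tensorRight X).obj (𝟙_ C) :=
    α_ X X' X ≪≫ whiskerLeftIso X e' ≪≫ ρ_ X ≪≫ (λ_ X).symm
  exact ⟨X', ⟨(tensorRight X).preimageIso α⟩, ⟨e'⟩⟩

end

/-- An object `X` of a monoidal category is invertible (some `X'` has `X ⊗ X' ≅ 𝟙` and `X' ⊗ X ≅ 𝟙`) if
and only if tensoring on the left by `X` is an equivalence, if and only if tensoring on the right by
`X` is an equivalence. -/
theorem result {C : Type u} [Category.{v} C] [MonoidalCategory C] (X : C) :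
    ((tensorLeft X).IsEquivalence ↔ ∃ X' : C, Nonempty (X ⊗ X' ≅ 𝟙_ C) ∧ Nonempty (X' ⊗ X ≅ 𝟙_ C)) ∧
      ((tensorRight X).IsEquivalence ↔ ∃ X' : C, Nonempty (X ⊗ X' ≅ 𝟙_ C) ∧ Nonempty (X' ⊗ X ≅ 𝟙_ C)) := by
  refine ⟨⟨fun h => inverse_of_left X, ?_⟩, ⟨fun h => inverse_of_right X, ?_⟩⟩
  · rintro ⟨X', ⟨e⟩, ⟨e'⟩⟩
    exact left_of_inverse X X' e e'
  · rintro ⟨X', ⟨e⟩, ⟨e'⟩⟩
    exact right_of_inverse X X' e e'

end Groth.Agent.S6429
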