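import Groth.Statements.S6430
-- import your own Groth.Agent.* helpers here

set_option autoImplicit false
set_option backward.isDefEq.respectTransparency false
open CategoryTheory
universe v₂ u₂ v u
open FibCat

namespace Groth.Agent.S6430

lemma isStronglyCartesian_map_of {C : Type u} [Category.{v} C] {𝒮 : Type u₂} [Category.{v₂} 𝒮]
    (p : 𝒮 ⥤ C) {R S : C} {a b : 𝒮} (f : R ⟶ S) (φ : a ⟶ b) [h : p.IsStronglyCartesian f φ] :
    p.IsStronglyCartesian (p.map φ) φ := by
  subst_hom_lift p f φ
  exact h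


/-- For a fibred category `p : 𝒮 ⥤ C`, the wide subcategory of `𝒮` on the strongly cartesian morphisms
is fibred in groupoids over `C`. -/
theorem result {C : Type u} [Category.{v} C] {𝒮 : Type u₂} [Category.{v₂} 𝒮] (p : 𝒮 ⥤ C) [p.IsFibered] :
    FibCat.IsFibGrpd (FibCat.cartSubProj p) := by
  constructor
  · intro x V f
    -- cartesian lift in `𝒮`
    let φ := Functor.IsPreFibered.pullbackMap (p := p) (a := x.obj) rfl f
    have hφ : p.IsStronglyCartesian f φ := inferInstance
    have hφ' : p.IsStronglyCartesian (p.map φ) φ := isStronglyCartesian_map_of p f φ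
    let y' : FibCat.cartSub p := ⟨Functor.IsPreFibered.pullbackObj (p := p) (a := x.obj) rfl f⟩
    let φc : y' ⟶ x := ⟨φ, hφ'⟩
    refine ⟨y', φc, ?_⟩
    have h1 : p.IsHomLift f φ := inferInstance
    have hdom : (FibCat.cartSubProj p).obj y' = V :=
      IsHomLift.domain_eq p f φ
    apply IsHomLift.of_fac (FibCat.cartSubProj p) f φc hdom rfl
    have := IsHomLift.fac p f φ
    simpa using this
  · intro y x ψ
    have hψ : p.IsStronglyCartesian (p.map ψ.hom) ψ.hom := ψ.property
    refine { toIsHomLift := IsHomLift.map (FibCat.cartSubProj p) ψ, universal_property' := ?_ }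
    intro a' g φ' hφ'
    have hφ'S : p.IsStronglyCartesian (p.map φ'.hom) φ'.hom := φ'.property
    have hg : g ≫ p.map ψ.hom = p.map φ'.hom :=
      IsHomLift.eq_of_isHomLift (FibCat.cartSubProj p) (g ≫ (FibCat.cartSubProj p).map ψ) φ'
    have hlift : p.IsHomLift (g ≫ p.map ψ.hom) φ'.hom := by
      rw [hg]; exact IsHomLift.map p φ'.hom
    obtain ⟨χ, ⟨hχ1, hχ2⟩, hχu⟩ :=
      Functor.IsStronglyCartesian.universal_property p (p.map ψ.hom) ψ.hom g _ rfl φ'.hom
    have hgχ : g = p.map χ := IsHomLift.eq_of_isHomLift p g χ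
    -- `χ` is strongly cartesian
    have hχS : p.IsStronglyCartesian (p.map χ) χ := by
      have h1 : p.IsStronglyCartesian (p.map χ ≫ p.map ψ.hom) (χ ≫ ψ.hom) := by
        rw [hχ2, ← hgχ, hg]; exact hφ'S
      exact Functor.IsStronglyCartesian.of_comp p (f := p.map χ) (g := p.map ψ.hom) (φ := χ) (ψ := ψ.hom)
    refine ⟨⟨χ, hχS⟩, ⟨?_, ?_⟩, ?_⟩
    · rw [hgχ]
      exact IsHomLift.map (FibCat.cartSubProj p) (⟨χ, hχS⟩ : a' ⟶ y)
    · apply WideSubcategory.hom_ext
      exact hχ2
    · rintro χ₂ ⟨h1, h2⟩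
      apply WideSubcategory.hom_ext
      apply hχu
      refine ⟨?_, ?_⟩
      · have : g = p.map χ₂.hom := IsHomLift.eq_of_isHomLift (FibCat.cartSubProj p) g χ₂
        rw [this]; exact IsHomLift.map p χ₂.hom
      · exact congrArg (fun t => t.hom) h2

end Groth.Agent.S6430
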