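import Groth.Statements.S6433
import Mathlib.Data.Fintype.Option

set_option autoImplicit false
open CategoryTheory
universe v u v' u'
open CatLoc

namespace Groth.Agent.S6433

theorem aux {C : Type u} [Category.{v} C] {D : Type u'} [Category.{v'} D] (W : MorphismProperty C)
    (L : C ⥤ D) [L.IsLocalization W] [W.HasLeftCalculusOfFractions]
    (ι : Type) [Finite ι] : ∀ (X : ι → C) (Y : C) (g : ∀ i, L.obj (X i) ⟶ L.obj Y),
    ∃ (Y' : C) (s : Y ⟶ Y') (_ : W s), ∀ i, ∃ f : X i ⟶ Y', g i ≫ L.map s = L.map f := by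
  induction ι using Finite.induction_empty_option with
  | of_equiv e ih =>
    intro X Y g
    obtain ⟨Y', s, hs, h⟩ := ih (fun a => X (e a)) Y (fun a => g (e a))
    exact ⟨Y', s, hs, e.surjective.forall.mpr h⟩
  | h_empty =>
    intro X Y g
    exact ⟨Y, 𝟙 Y, W.id_mem Y, fun i => i.elim⟩
  | h_option ih =>
    intro X Y g
    obtain ⟨Y₁, s₁, hs₁, h⟩ := ih (fun a => X (some a)) Y (fun a => g (some a))
    obtain ⟨z, hz⟩ := Localization.exists_leftFraction L W (g none)
    obtain ⟨ψ, hψ⟩ := (MorphismProperty.RightFraction.mk s₁ hs₁ z.s).exists_leftFraction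
    dsimp at hψ
    refine ⟨ψ.Y', z.s ≫ ψ.s, W.comp_mem _ _ z.hs ψ.hs, ?_⟩
    intro i
    cases i with
    | none =>
      refine ⟨z.f ≫ ψ.s, ?_⟩
      rw [L.map_comp, L.map_comp, hz, MorphismProperty.LeftFraction.map_comp_map_s_assoc]
    | some a =>
      obtain ⟨fa, hfa⟩ := h a
      refine ⟨fa ≫ ψ.f, ?_⟩
      rw [hψ, L.map_comp, L.map_comp, ← Category.assoc, hfa]

/-- For a left multiplicative system `W` and a localization functor `L`, any finite family of morphisms
`L X_i ⟶ L Y` admits a common denominator: some `s : Y ⟶ Y'` in `W` and morphisms `f_i : X_i ⟶ Y'`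
with `g_i = L(s)⁻¹ L(f_i)`. -/
theorem result {C : Type u} [Category.{v} C] {D : Type u'} [Category.{v'} D] (W : MorphismProperty C) (L : C ⥤ D) [L.IsLocalization W] [W.HasLeftCalculusOfFractions]
    {ι : Type} [Finite ι] (X : ι → C) (Y : C) (g : ∀ i, L.obj (X i) ⟶ L.obj Y) :
    ∃ (Y' : C) (s : Y ⟶ Y') (_ : W s) (f : ∀ i, X i ⟶ Y'), ∀ i, g i ≫ L.map s = L.map (f i) := by
  obtain ⟨Y', s, hs, h⟩ := aux W L ι X Y g
  choose f hf using h
  exact ⟨Y', s, hs, f, hf⟩

end Groth.Agent.S6433
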