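import Groth.Statements.S6437
import Mathlib.Tactic
import Mathlib.CategoryTheory.ConnectedComponents
import Mathlib.CategoryTheory.Limits.FilteredColimitCommutesFiniteLimit
import Mathlib.CategoryTheory.Limits.Preserves.FunctorCategory

set_option autoImplicit false
open CategoryTheory CategoryTheory.Limits
universe v
open CatLim

namespace Groth.Agent.S6437

section
variable {I : Type v} [SmallCategory I]

lemma exists_cocone_of_zigzag
    (h1 : ∀ ⦃w x y : I⦄ (a : w ⟶ x) (b : w ⟶ y), ∃ (z : I) (c : x ⟶ z) (d : y ⟶ z), a ≫ c = b ≫ d)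
    {x y : I} (h : Zigzag x y) : ∃ (z : I), Nonempty (x ⟶ z) ∧ Nonempty (y ⟶ z) := by
  induction h with
  | refl => exact ⟨x, ⟨𝟙 x⟩, ⟨𝟙 x⟩⟩
  | @tail y' y _ hzag ih =>
    obtain ⟨z', ⟨f⟩, ⟨g⟩⟩ := ih
    rcases hzag with ⟨⟨a⟩⟩ | ⟨⟨a⟩⟩
    · obtain ⟨z, c, d, _⟩ := h1 g a
      exact ⟨z, ⟨f ≫ c⟩, ⟨d⟩⟩
    · exact ⟨z', ⟨f⟩, ⟨a ≫ g⟩⟩

lemma isFiltered_component
    (h1 : ∀ ⦃w x y : I⦄ (a : w ⟶ x) (b : w ⟶ y), ∃ (z : I) (c : x ⟶ z) (d : y ⟶ z), a ≫ c = b ≫ d)
    (h2 : ∀ ⦃x y : I⦄ (a b : x ⟶ y), ∃ (z : I) (c : y ⟶ z), a ≫ c = b ≫ c)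
    (c : CategoryTheory.ConnectedComponents I) : IsFiltered c.Component := by
  have : IsFilteredOrEmpty c.Component := by
    refine ⟨?_, ?_⟩
    · rintro ⟨x, hx⟩ ⟨y, hy⟩
      have hz : Zigzag x y := Quotient.exact' (hx.trans hy.symm)
      obtain ⟨z, ⟨f⟩, ⟨g⟩⟩ := exists_cocone_of_zigzag h1 hz
      have hzc : c.objectProperty z := by
        have : (Quotient.mk'' z : CategoryTheory.ConnectedComponents I) = Quotient.mk'' x :=
          (Quotient.sound' (Zigzag.of_hom f)).symm
        exact this.trans hx
      exact ⟨⟨z, hzc⟩, ObjectProperty.homMk f, ObjectProperty.homMk g, trivial⟩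
    · rintro ⟨x, hx⟩ ⟨y, hy⟩ a b
      obtain ⟨z, d, hd⟩ := h2 a.hom b.hom
      have hzc : c.objectProperty z := by
        have : (Quotient.mk'' z : CategoryTheory.ConnectedComponents I) = Quotient.mk'' y :=
          (Quotient.sound' (Zigzag.of_hom d)).symm
        exact this.trans hy
      refine ⟨⟨z, hzc⟩, ObjectProperty.homMk d, ?_⟩
      ext
      exact hd
  exact { }


/-- the component of an element of a colimit -/
noncomputable def compCocone (G : I ⥤ Type v) : Cocone G where
  pt := CategoryTheory.ConnectedComponents I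
  ι := { app := fun i => ↾(fun _ => (Quotient.mk'' i : CategoryTheory.ConnectedComponents I))
         naturality := by
          intro i i' f
          ext x
          exact (Quotient.sound' (Zigzag.of_hom f)).symm }

noncomputable def comp (G : I ⥤ Type v) (x : colimit G) : CategoryTheory.ConnectedComponents I :=
  colimit.desc G (compCocone G) x

lemma comp_ι (G : I ⥤ Type v) (i : I) (x : G.obj i) :
    comp G (colimit.ι G i x) = Quotient.mk'' i := by
  have := ConcreteCategory.congr_hom (colimit.ι_desc (compCocone G) i) x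
  exact this

lemma comp_map {G G' : I ⥤ Type v} (α : G ⟶ G') (x : colimit G) :
    comp G' (colimMap α x) = comp G x := by
  obtain ⟨i, y, rfl⟩ := Types.jointly_surjective' x
  have h : colimMap α (colimit.ι G i y) = colimit.ι G' i (α.app i y) :=
    ConcreteCategory.congr_hom (ι_colimMap α i) y
  rw [h, comp_ι, comp_ι]


variable (c : CategoryTheory.ConnectedComponents I)

lemma pre_ι (G : I ⥤ Type v) (k : c.Component) (x : G.obj k.1) :
    colimit.pre G c.ι (colimit.ι (c.ι ⋙ G) k x) = colimit.ι G k.1 x :=
  ConcreteCategory.congr_hom (colimit.ι_pre G c.ι k) x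

lemma comp_pre (G : I ⥤ Type v) (y : colimit (c.ι ⋙ G)) :
    comp G (colimit.pre G c.ι y) = c := by
  obtain ⟨k, x, rfl⟩ := Types.jointly_surjective' y
  rw [pre_ι, comp_ι]
  exact k.2

lemma exists_of_comp_eq (G : I ⥤ Type v) (x : colimit G) (hx : comp G x = c) :
    ∃ y : colimit (c.ι ⋙ G), colimit.pre G c.ι y = x := by
  obtain ⟨i, z, rfl⟩ := Types.jointly_surjective' x
  rw [comp_ι] at hx
  exact ⟨colimit.ι (c.ι ⋙ G) ⟨i, hx⟩ z, pre_ι c G ⟨i, hx⟩ z⟩

open Classical in
/-- retraction cocone -/
noncomputable def retrCocone (G : I ⥤ Type v) : Cocone G where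
  pt := Option (colimit (c.ι ⋙ G))
  ι := { app := fun i => ↾(fun x =>
            if h : (Quotient.mk'' i : CategoryTheory.ConnectedComponents I) = c then
              some (colimit.ι (c.ι ⋙ G) ⟨i, h⟩ x) else none)
         naturality := by
          intro i i' f
          ext x
          change (if h : (Quotient.mk'' i' : CategoryTheory.ConnectedComponents I) = c then
              some (colimit.ι (c.ι ⋙ G) ⟨i', h⟩ (G.map f x)) else none) =
            (if h : (Quotient.mk'' i : CategoryTheory.ConnectedComponents I) = c then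
              some (colimit.ι (c.ι ⋙ G) ⟨i, h⟩ x) else none)
          have hii : (Quotient.mk'' i : CategoryTheory.ConnectedComponents I) = Quotient.mk'' i' :=
            Quotient.sound' (Zigzag.of_hom f)
          by_cases h : (Quotient.mk'' i' : CategoryTheory.ConnectedComponents I) = c
          · have h' : (Quotient.mk'' i : CategoryTheory.ConnectedComponents I) = c := hii.trans h
            rw [dif_pos h, dif_pos h']
            congr 1
            let k : c.Component := ⟨i, h'⟩
            let k' : c.Component := ⟨i', h⟩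
            let g : k ⟶ k' := ObjectProperty.homMk f
            exact ConcreteCategory.congr_hom (colimit.w (c.ι ⋙ G) g) x
          · have h' : ¬ (Quotient.mk'' i : CategoryTheory.ConnectedComponents I) = c :=
              fun h'' => h (hii.symm.trans h'')
            rw [dif_neg h, dif_neg h'] }

lemma pre_injective (G : I ⥤ Type v) : Function.Injective (colimit.pre G c.ι) := by
  classical
  have key : ∀ y : colimit (c.ι ⋙ G),
      colimit.desc G (retrCocone c G) (colimit.pre G c.ι y) = some y := by
    intro y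
    obtain ⟨k, x, rfl⟩ := Types.jointly_surjective' y
    rw [pre_ι]
    have := ConcreteCategory.congr_hom (colimit.ι_desc (retrCocone c G) k.1) x
    refine this.trans ?_
    change (if h : (Quotient.mk'' k.1 : CategoryTheory.ConnectedComponents I) = c then
              some (colimit.ι (c.ι ⋙ G) ⟨k.1, h⟩ x) else none) = _
    rw [dif_pos (show (Quotient.mk'' k.1 : CategoryTheory.ConnectedComponents I) = c from k.2)]
  intro y y' h
  have := congrArg (fun z => colimit.desc G (retrCocone c G) z) h
  simp only [key] at this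
  exact Option.some.inj this

lemma pre_map {G G' : I ⥤ Type v} (α : G ⟶ G') (y : colimit (c.ι ⋙ G)) :
    colimMap α (colimit.pre G c.ι y) = colimit.pre G' c.ι (colimMap (Functor.whiskerLeft c.ι α) y) :=
  ConcreteCategory.congr_hom (colimit.pre_map α c.ι) y

end


/-- Over an index category in which spans can be completed to commutative squares and parallel pairs can
be coequalized (a disjoint union of filtered categories), colimits of sets commute with finite
connected limits. -/
theorem result {I : Type v} [SmallCategory I]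
    (h1 : ∀ ⦃w x y : I⦄ (a : w ⟶ x) (b : w ⟶ y), ∃ (z : I) (c : x ⟶ z) (d : y ⟶ z), a ≫ c = b ≫ d)
    (h2 : ∀ ⦃x y : I⦄ (a b : x ⟶ y), ∃ (z : I) (c : y ⟶ z), a ≫ c = b ≫ c)
    (J : Type) [SmallCategory J] [FinCategory J] [IsConnected J] :
    PreservesLimitsOfShape J (colim : (I ⥤ Type v) ⥤ Type v) := by
  refine ⟨fun {K} => ?_⟩
  apply preservesLimit_of_preserves_limit_cone (limit.isLimit K)
  refine ((Types.isLimit_iff _).mpr ?_).some
  intro s hs
  obtain ⟨j0⟩ := (inferInstance : Nonempty J)
  let c := comp (K.obj j0) (s j0)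
  have hsf : ∀ {j j' : J} (f : j ⟶ j'), colimMap (K.map f) (s j) = s j' := fun f => hs f
  have hc : ∀ j, comp (K.obj j) (s j) = c := by
    intro j
    refine constant_of_preserves_morphisms (fun j => comp (K.obj j) (s j)) ?_ j j0
    intro j₁ j₂ f
    change comp (K.obj j₁) (s j₁) = comp (K.obj j₂) (s j₂)
    rw [← hsf f]
    exact (comp_map (K.map f) (s j₁)).symm
  have ht : ∀ j, ∃ y, colimit.pre (K.obj j) c.ι y = s j :=
    fun j => exists_of_comp_eq c _ _ (hc j)
  choose t ht using ht
  haveI := isFiltered_component h1 h2 c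
  let W := (Functor.whiskeringLeft c.Component I (Type v)).obj c.ι
  have hW : IsLimit ((W ⋙ colim).mapCone (limit.cone K)) :=
    isLimitOfPreserves (W ⋙ colim) (limit.isLimit K)
  have hW' := (Types.isLimit_iff _).mp ⟨hW⟩ t ?_
  · obtain ⟨y, hy, huniq⟩ := hW'
    have hy' : ∀ j, colimMap (Functor.whiskerLeft c.ι (limit.π K j)) y = t j := hy
    refine ⟨colimit.pre (limit K) c.ι y, ?_, ?_⟩
    · intro j
      change colimMap (limit.π K j) (colimit.pre (limit K) c.ι y) = s j
      rw [pre_map, hy', ht]
    · intro x' hx'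
      have hx'' : ∀ j, colimMap (limit.π K j) x' = s j := hx'
      have hcx : comp (limit K) x' = c := by
        rw [← comp_map (limit.π K j0) x', hx'' j0]
      obtain ⟨y', rfl⟩ := exists_of_comp_eq c _ _ hcx
      congr 1
      apply huniq
      intro j
      change colimMap (Functor.whiskerLeft c.ι (limit.π K j)) y' = t j
      apply pre_injective c
      rw [← pre_map, hx'', ht]
  · intro j j' f
    change colimMap (Functor.whiskerLeft c.ι (K.map f)) (t j) = t j'
    apply pre_injective c
    rw [← pre_map, ht, ht, hsf]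

end Groth.Agent.S6437
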