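import Groth.Statements.S6438
import Mathlib.Tactic
import Mathlib.CategoryTheory.Limits.Final
import Mathlib.CategoryTheory.Limits.IsConnected
import Mathlib.CategoryTheory.FinCategory.AsType

set_option autoImplicit false
open CategoryTheory
universe v u
open CatLim

namespace Groth.Agent.S6438

section
universe u₂
variable {I : Type u} {B : Type u₂} (src tgt : B → I)

/-- morphisms of the subdivision category -/
inductive SHom : I ⊕ B → I ⊕ B → Type (max u u₂)
  | id (X : I ⊕ B) : SHom X X
  | s (b : B) : SHom (Sum.inr b) (Sum.inl (src b))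
  | t (b : B) : SHom (Sum.inr b) (Sum.inl (tgt b))

/-- objects of the subdivision category -/
@[nolint unusedArguments]
def SObj (_src _tgt : B → I) : Type (max u u₂) := I ⊕ B

/-- composition -/
def SHom.comp : ∀ {X Y Z : I ⊕ B}, SHom src tgt X Y → SHom src tgt Y Z → SHom src tgt X Z
  | _, _, _, SHom.id _, g => g
  | _, _, _, SHom.s b, SHom.id _ => SHom.s b
  | _, _, _, SHom.t b, SHom.id _ => SHom.t b

instance : Category.{max u u₂} (SObj src tgt) where
  Hom X Y := SHom src tgt X Y
  id X := SHom.id X
  comp f g := SHom.comp src tgt f g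
  id_comp f := by cases f <;> rfl
  comp_id f := by cases f <;> rfl
  assoc f g h := by cases f <;> cases g <;> cases h <;> rfl


/-- tag of a morphism -/
def SHom.tag : ∀ {X Y : I ⊕ B}, SHom src tgt X Y → Fin 3
  | _, _, SHom.id _ => 0
  | _, _, SHom.s _ => 1
  | _, _, SHom.t _ => 2

lemma SHom.tag_heq : ∀ {X Y : I ⊕ B} (f : SHom src tgt X Y) {X' Y' : I ⊕ B} (g : SHom src tgt X' Y'),
    X = X' → Y = Y' → SHom.tag src tgt f = SHom.tag src tgt g → HEq f g := by
  intro X Y f X' Y' g hX hY h
  cases f <;> cases g
  · subst hX; exact HEq.rfl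
  · simp [SHom.tag] at h
  · simp [SHom.tag] at h
  · simp [SHom.tag] at h
  · have := Sum.inr.inj hX
    subst this
    exact HEq.rfl
  · simp [SHom.tag] at h
  · simp [SHom.tag] at h
  · simp [SHom.tag] at h
  · have := Sum.inr.inj hX
    subst this
    exact HEq.rfl

lemma SHom.tag_injective {X Y : I ⊕ B} : Function.Injective (SHom.tag src tgt (X := X) (Y := Y)) := by
  intro f g h
  exact eq_of_heq (SHom.tag_heq src tgt f g rfl rfl h)

instance (X Y : SObj src tgt) : Finite (X ⟶ Y) :=
  Finite.of_injective _ (SHom.tag_injective src tgt (X := X) (Y := Y))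

variable [Category.{v} I] (m : ∀ b, src b ⟶ tgt b)

/-- object map -/
def SF.obj : SObj src tgt → I
  | Sum.inl a => a
  | Sum.inr b => src b

/-- morphism map -/
def SF.map : ∀ {X Y : SObj src tgt}, (X ⟶ Y) → (SF.obj src tgt X ⟶ SF.obj src tgt Y)
  | _, _, SHom.id _ => 𝟙 _
  | _, _, SHom.s _ => 𝟙 _
  | _, _, SHom.t b => m b

/-- the functor -/
def SF : SObj src tgt ⥤ I where
  obj := SF.obj src tgt
  map f := SF.map src tgt m f
  map_id X := rfl
  map_comp f g := by
    cases f with
    | id X => exact (Category.id_comp _).symm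
    | s b => cases g; exact (Category.comp_id _).symm
    | t b => cases g; exact (Category.comp_id _).symm


/-- inclusion of vertices -/
def vtx (x : I) : SObj src tgt := Sum.inl x
/-- inclusion of edges -/
def edg (b : B) : SObj src tgt := Sum.inr b

/-- source arrow -/
def sArr (b : B) : edg src tgt b ⟶ vtx src tgt (src b) := SHom.s b
/-- target arrow -/
def tArr (b : B) : edg src tgt b ⟶ vtx src tgt (tgt b) := SHom.t b

lemma SF_map_sArr (b : B) : (SF src tgt m).map (sArr src tgt b) = 𝟙 (src b) := rfl
lemma SF_map_tArr (b : B) : (SF src tgt m).map (tArr src tgt b) = m b := rfl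

/-- structured arrow at a vertex -/
abbrev sa (d x : I) (u : d ⟶ x) : StructuredArrow d (SF src tgt m) :=
  StructuredArrow.mk (Y := vtx src tgt x) u

/-- structured arrow at an edge -/
abbrev sae (d : I) (b : B) (u : d ⟶ src b) : StructuredArrow d (SF src tgt m) :=
  StructuredArrow.mk (Y := edg src tgt b) u

/-- the morphism property used for finality -/
def PF : MorphismProperty I := fun x y g =>
  ∀ (d : I) (u : d ⟶ x), Zigzag (sa src tgt m d x u) (sa src tgt m d y (u ≫ g))

lemma PF_mult : (PF src tgt m).IsMultiplicative where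
  id_mem x := by
    intro d u
    rw [Category.comp_id]
  comp_mem f g hf hg := by
    intro d u
    have h1 := hf d u
    have h2 := hg d (u ≫ f)
    rw [Category.assoc] at h2
    exact h1.trans h2

lemma PF_gen (b : B) : PF src tgt m (m b) := by
  intro d u
  have f1 : sae src tgt m d b u ⟶ sa src tgt m d (src b) u :=
    StructuredArrow.homMk (sArr src tgt b) (Category.comp_id u)
  have f2 : sae src tgt m d b u ⟶ sa src tgt m d (tgt b) (u ≫ m b) :=
    StructuredArrow.homMk (tArr src tgt b) rfl
  exact Zigzag.of_inv_hom f1 f2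


lemma SF_final (hm : ∀ P : MorphismProperty I, P.IsMultiplicative → (∀ b, P (m b)) → P = ⊤) :
    (SF src tgt m).Final := by
  have hP := hm (PF src tgt m) (PF_mult src tgt m) (PF_gen src tgt m)
  refine ⟨fun d => ?_⟩
  haveI : Nonempty (StructuredArrow d (SF src tgt m)) := ⟨sa src tgt m d d (𝟙 d)⟩
  have keyv : ∀ (x : I) (u : d ⟶ x), Zigzag (sa src tgt m d d (𝟙 d)) (sa src tgt m d x u) := by
    intro x u
    have hu : PF src tgt m u := by rw [hP]; trivial
    have := hu d (𝟙 d)
    rwa [Category.id_comp] at this
  have key : ∀ X : StructuredArrow d (SF src tgt m), Zigzag (sa src tgt m d d (𝟙 d)) X := by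
    intro X
    rcases X with ⟨⟨⟨⟩⟩, Y, u⟩
    rcases Y with x | b
    · exact keyv x u
    · have f1 : sae src tgt m d b u ⟶ sa src tgt m d (src b) u :=
        StructuredArrow.homMk (sArr src tgt b) (Category.comp_id u)
      exact (keyv (src b) u).trans (Zigzag.of_inv f1)
  exact zigzag_isConnected (fun j₁ j₂ => (key j₁).symm.trans (key j₂))

/-- costructured arrow at a vertex -/
abbrev ca (d x : I) (u : x ⟶ d) : CostructuredArrow (SF src tgt m) d :=
  CostructuredArrow.mk (Y := vtx src tgt x) u

/-- costructured arrow at an edge -/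
abbrev cae (d : I) (b : B) (u : src b ⟶ d) : CostructuredArrow (SF src tgt m) d :=
  CostructuredArrow.mk (Y := edg src tgt b) u

/-- the morphism property used for initiality -/
def PI : MorphismProperty I := fun x y g =>
  ∀ (d : I) (u : y ⟶ d), Zigzag (ca src tgt m d x (g ≫ u)) (ca src tgt m d y u)

lemma PI_mult : (PI src tgt m).IsMultiplicative where
  id_mem x := by
    intro d u
    rw [Category.id_comp]
  comp_mem f g hf hg := by
    intro d u
    have h1 := hf d (g ≫ u)
    have h2 := hg d u
    rw [← Category.assoc] at h1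
    exact h1.trans h2

lemma PI_gen (b : B) : PI src tgt m (m b) := by
  intro d u
  have f1 : cae src tgt m d b (m b ≫ u) ⟶ ca src tgt m d (src b) (m b ≫ u) :=
    CostructuredArrow.homMk (sArr src tgt b) (Category.id_comp (m b ≫ u))
  have f2 : cae src tgt m d b (m b ≫ u) ⟶ ca src tgt m d (tgt b) u :=
    CostructuredArrow.homMk (tArr src tgt b) rfl
  exact Zigzag.of_inv_hom f1 f2

lemma SF_initial (hm : ∀ P : MorphismProperty I, P.IsMultiplicative → (∀ b, P (m b)) → P = ⊤) :
    (SF src tgt m).Initial := by
  have hP := hm (PI src tgt m) (PI_mult src tgt m) (PI_gen src tgt m)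
  refine ⟨fun d => ?_⟩
  haveI : Nonempty (CostructuredArrow (SF src tgt m) d) := ⟨ca src tgt m d d (𝟙 d)⟩
  have keyv : ∀ (x : I) (u : x ⟶ d), Zigzag (ca src tgt m d x u) (ca src tgt m d d (𝟙 d)) := by
    intro x u
    have hu : PI src tgt m u := by rw [hP]; trivial
    have := hu d (𝟙 d)
    rwa [Category.comp_id] at this
  have key : ∀ X : CostructuredArrow (SF src tgt m) d, Zigzag X (ca src tgt m d d (𝟙 d)) := by
    intro X
    rcases X with ⟨Y, ⟨⟨⟩⟩, u⟩
    rcases Y with x | b
    · exact keyv x u
    · have f1 : cae src tgt m d b u ⟶ ca src tgt m d (src b) u :=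
        CostructuredArrow.homMk (sArr src tgt b) (Category.id_comp u)
      exact (Zigzag.of_hom f1).trans (keyv (src b) u)
  exact zigzag_isConnected (fun j₁ j₂ => (key j₁).trans (key j₂).symm)

end


/-- A category with finitely many objects whose morphisms are generated under composition by finitely
many of them receives a functor from a finite category which is both final and initial, the finite
category being connected (resp. nonempty) exactly when the given one is. (The published statement
says that limits and colimits of every diagram are computed after restriction along the functor;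
this is expressed here through finality and initiality.) -/
theorem result {I : Type u} [Category.{v} I] [Finite I]
    (gen : Finset (Σ x y : I, x ⟶ y))
    (hgen : ∀ P : MorphismProperty I, P.IsMultiplicative → (∀ a ∈ gen, P a.2.2) → P = ⊤) :
    ∃ (J : Type) (_ : SmallCategory J) (_ : FinCategory J) (F : J ⥤ I),
      F.Final ∧ F.Initial ∧ (IsConnected J ↔ IsConnected I) ∧ (Nonempty J ↔ Nonempty I) := by
  classical
  let B := {a : Σ x y : I, x ⟶ y // a ∈ gen}
  let src : B → I := fun b => b.1.1
  let tgt : B → I := fun b => b.1.2.1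
  let m : ∀ b : B, src b ⟶ tgt b := fun b => b.1.2.2
  have hm : ∀ P : MorphismProperty I, P.IsMultiplicative → (∀ b, P (m b)) → P = ⊤ := by
    intro P hP h
    exact hgen P hP (fun a ha => h ⟨a, ha⟩)
  let J₀ := SObj src tgt
  haveI : Fintype I := Fintype.ofFinite I
  haveI : Fintype J₀ := (inferInstance : Fintype (I ⊕ B))
  haveI : FinCategory J₀ := { fintypeHom := fun X Y => Fintype.ofFinite _ }
  haveI hF := SF_final src tgt m hm
  haveI hI := SF_initial src tgt m hm
  let E := FinCategory.equivAsType J₀
  refine ⟨FinCategory.AsType J₀, inferInstance, inferInstance, E.functor ⋙ SF src tgt m,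
    inferInstance, inferInstance, ?_, ?_⟩
  · exact Functor.isConnected_iff_of_final (E.functor ⋙ SF src tgt m)
  · constructor
    · rintro ⟨j⟩
      exact ⟨(E.functor ⋙ SF src tgt m).obj j⟩
    · rintro ⟨x⟩
      exact ⟨E.inverse.obj (vtx src tgt x)⟩

end Groth.Agent.S6438
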