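import Groth.Statements.S6439
-- import your own Groth.Agent.* helpers here

set_option autoImplicit false
open CategoryTheory
universe w v u
open FibCat

namespace Groth.Agent.S6439

section
variable {B : Type u} [Bicategory.{w, v} B] {a b : B}

open Bicategory

/-- Precomposition with an internal equivalence is an equivalence of hom-categories. -/
noncomputable def precompEquiv (c : B) (φ : a ⟶ b) (G : b ⟶ a) (e1 : φ ≫ G ≅ 𝟙 a) (e2 : G ≫ φ ≅ 𝟙 b) :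
    (b ⟶ c) ≌ (a ⟶ c) :=
  CategoryTheory.Equivalence.mk ((precomposing a b c).obj φ) ((precomposing b a c).obj G)
    (((leftUnitorNatIso b c).symm ≪≫ (precomposing b b c).mapIso e2.symm ≪≫
      associatorNatIsoRight G φ c))
    ((associatorNatIsoRight φ G c).symm ≪≫ (precomposing a a c).mapIso e1 ≪≫
      leftUnitorNatIso a c)

/-- Postcomposition with an internal equivalence is an equivalence of hom-categories. -/
noncomputable def postcompEquiv (c : B) (φ : a ⟶ b) (G : b ⟶ a) (e1 : φ ≫ G ≅ 𝟙 a) (e2 : G ≫ φ ≅ 𝟙 b) :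
    (c ⟶ a) ≌ (c ⟶ b) :=
  CategoryTheory.Equivalence.mk ((postcomposing c a b).obj φ) ((postcomposing c b a).obj G)
    (((rightUnitorNatIso c a).symm ≪≫ (postcomposing c a a).mapIso e1.symm ≪≫
      (associatorNatIsoLeft c φ G).symm))
    ((associatorNatIsoLeft c G φ) ≪≫ (postcomposing c b b).mapIso e2 ≪≫
      rightUnitorNatIso c b)

lemma precomp_isEquivalence (c : B) (φ : a ⟶ b) (G : b ⟶ a) (e1 : φ ≫ G ≅ 𝟙 a) (e2 : G ≫ φ ≅ 𝟙 b) :
    (precomp c φ).IsEquivalence :=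
  (precompEquiv c φ G e1 e2).isEquivalence_functor

lemma postcomp_isEquivalence (c : B) (φ : a ⟶ b) (G : b ⟶ a) (e1 : φ ≫ G ≅ 𝟙 a) (e2 : G ≫ φ ≅ 𝟙 b) :
    (postcomp c φ).IsEquivalence :=
  (postcompEquiv c φ G e1 e2).isEquivalence_functor

end


/-- For categories fibred in groupoids over `C` and equivalences `φ : 𝒮₁ ⟶ 𝒮₂`, `ψ : 𝒮₃ ⟶ 𝒮₄` over `C`,
the functor `α ↦ ψ ∘ α ∘ φ` between the categories of functors over `C` is an equivalence of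
categories. -/
theorem result {C : Type u} [Category.{v} C] {𝒮₁ 𝒮₂ 𝒮₃ 𝒮₄ : BasedCategory.{v, max u v} C}
    (h₁ : FibCat.IsFibGrpd 𝒮₁.p) (h₂ : FibCat.IsFibGrpd 𝒮₂.p) (h₃ : FibCat.IsFibGrpd 𝒮₃.p) (h₄ : FibCat.IsFibGrpd 𝒮₄.p)
    (φ : 𝒮₁ ⟶ 𝒮₂) (ψ : 𝒮₃ ⟶ 𝒮₄) (hφ : FibCat.IsEquivOver φ) (hψ : FibCat.IsEquivOver ψ) :
    (Bicategory.precomp 𝒮₃ φ ⋙ Bicategory.postcomp 𝒮₁ ψ).IsEquivalence := by
  obtain ⟨G, ⟨e1⟩, ⟨e2⟩⟩ := hφ
  obtain ⟨G', ⟨e1'⟩, ⟨e2'⟩⟩ := hψ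
  have h1 : (Bicategory.precomp 𝒮₃ φ).IsEquivalence := precomp_isEquivalence 𝒮₃ φ G e1 e2
  have h2 : (Bicategory.postcomp 𝒮₁ ψ).IsEquivalence := postcomp_isEquivalence 𝒮₁ ψ G' e1' e2'
  infer_instance

end Groth.Agent.S6439
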