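import Groth.Statements.S6441


set_option autoImplicit false
open CategoryTheory CategoryTheory.Limits Opposite
universe u
open SiteMisc

namespace Groth.Agent.S6441

/-- a sheaf of sets has at most one section over an object covered by the empty sieve -/
lemma subsingleton_of_bot_mem {D : Type u} [SmallCategory D] (K : GrothendieckTopology D)
    (F : Sheaf K (Type u)) (V : D) (hV : (⊥ : Sieve V) ∈ K V) : Subsingleton (F.obj.obj (op V)) := by
  constructor
  intro a b
  have hsep := ((isSheaf_iff_isSheaf_of_type K F.obj).1 F.property).isSeparated _ hV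
  exact hsep.ext (fun W g hg => hg.elim)

theorem locallyBijective {C D : Type u} [SmallCategory C] [SmallCategory D]
    (J : GrothendieckTopology C) (K : GrothendieckTopology D) (u : C ⥤ D) [u.IsContinuous J K]
    (hu : BigSite.IsAlmostCocontinuous u J K) (G : Dᵒᵖ ⥤ Type u)
    (hG : ∀ V : D, (⊥ : Sieve V) ∈ K V → Nonempty (Unique (G.obj (op V)))) :
    J.W (Functor.whiskerLeft u.op (toSheafify K G)) := by
  rw [J.W_iff_isLocallyBijective]
  constructor
  · refine ⟨fun {X} x y h => ?_⟩
    have hR : Presheaf.equalizerSieve (F := G) (X := op (u.obj X.unop)) x y ∈ K (u.obj X.unop) :=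
      Presheaf.equalizerSieve_mem K (toSheafify K G) x y h
    obtain ⟨R', hR', hR''⟩ := hu X.unop _ hR
    refine J.superset_covering ?_ hR'
    intro V g hg
    rcases hR'' g hg with h1 | h1
    · obtain ⟨hU⟩ := hG _ h1
      exact (hU.instSubsingleton).elim _ _
    · exact h1
  · refine ⟨fun {U} s => ?_⟩
    have hR : Presheaf.imageSieve (toSheafify K G) (U := u.obj U) s ∈ K (u.obj U) :=
      Presheaf.imageSieve_mem K (toSheafify K G) (U := op (u.obj U)) s
    obtain ⟨R', hR', hR''⟩ := hu U _ hR
    refine J.superset_covering ?_ hR'
    intro V g hg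
    rcases hR'' g hg with h1 | h1
    · obtain ⟨hU⟩ := hG _ h1
      refine ⟨hU.default, ?_⟩
      haveI := subsingleton_of_bot_mem K ((presheafToSheaf K (Type u)).obj G) _ h1
      exact Subsingleton.elim _ _
    · exact h1

/-- For a continuous and almost cocontinuous functor `u` between small sites and a presheaf of sets `G`
taking singleton values on sheaf theoretically empty objects, sheafification commutes with `u^p`:
the canonical comparison `(u^p G)^# ⟶ u^p(G^#)` is an isomorphism. -/
theorem result {C D : Type u} [SmallCategory C] [SmallCategory D]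
    (J : GrothendieckTopology C) (K : GrothendieckTopology D) (u : C ⥤ D) [u.IsContinuous J K]
    (hu : BigSite.IsAlmostCocontinuous u J K) (G : Dᵒᵖ ⥤ Type u)
    (hG : ∀ V : D, (⊥ : Sieve V) ∈ K V → Nonempty (Unique (G.obj (op V)))) :
    IsIso (((sheafificationAdjunction J (Type u)).homEquiv (u.op ⋙ G)
      ((u.sheafPushforwardContinuous (Type u) J K).obj ((presheafToSheaf K (Type u)).obj G))).symm
        (Functor.whiskerLeft u.op (toSheafify K G))) := by
  have hW := locallyBijective J K u hu G hG
  rw [J.W_iff] at hW
  rw [Adjunction.homEquiv_counit]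
  haveI := hW
  haveI : IsIso (sheafificationAdjunction J (Type u)).counit :=
    Adjunction.counit_isIso_of_R_fully_faithful _
  exact @IsIso.comp_isIso _ _ _ _ _ _ _ hW inferInstance

end Groth.Agent.S6441
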