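import Groth.Statements.S6440
import Groth.Agent.S6441

set_option autoImplicit false
open CategoryTheory CategoryTheory.Limits Opposite
universe u
open SiteMisc

namespace Groth.Agent.S6440

/-- a sheaf of sets has exactly one section over an object covered by the empty sieve -/
lemma unique_of_bot_mem {D : Type u} [SmallCategory D] (K : GrothendieckTopology D)
    (F : Sheaf K (Type u)) (V : D) (hV : (⊥ : Sieve V) ∈ K V) : Nonempty (Unique (F.obj.obj (op V))) := by
  haveI := Groth.Agent.S6441.subsingleton_of_bot_mem K F V hV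
  have hsh := ((isSheaf_iff_isSheaf_of_type K F.obj).1 F.property) _ hV
  let x : Presieve.FamilyOfElements F.obj (⊥ : Sieve V).arrows := fun W g hg => hg.elim
  have hx : x.Compatible := fun _ _ _ _ _ _ _ h₁ _ _ => h₁.elim
  exact ⟨⟨⟨hsh.amalgamate x hx⟩, fun a => Subsingleton.elim _ _⟩⟩

/-- a connected colimit of singletons is a singleton -/
lemma unique_colimit_of_isConnected {I : Type} [SmallCategory I] [IsConnected I] (X : I ⥤ Type u)
    (hX : ∀ j, Nonempty (Unique (X.obj j))) (c : Cocone X) (hc : IsColimit c) :
    Nonempty (Unique c.pt) := by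
  have e : X ≅ Limits.Types.constPUnitFunctor.{u} I :=
    NatIso.ofComponents (fun j => by
      haveI := (hX j).some
      exact (Equiv.ofUnique (X.obj j) PUnit.{u+1}).toIso)
      (fun f => by ext; rfl)
  have e' : c.pt ≅ PUnit.{u+1} :=
    IsColimit.coconePointsIsoOfNatIso hc (Limits.Types.isColimitPUnitCocone.{u} I) e
  exact ⟨(e'.toEquiv).unique⟩

/-- the comparison `(u^p Q)^# ⟶ u^s (Q^#)`, natural in the presheaf `Q` -/
noncomputable def τ {C D : Type u} [SmallCategory C] [SmallCategory D]
    (J : GrothendieckTopology C) (K : GrothendieckTopology D) (u : C ⥤ D) [u.IsContinuous J K] :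
    ((Functor.whiskeringLeft Cᵒᵖ Dᵒᵖ (Type u)).obj u.op ⋙ presheafToSheaf J (Type u)) ⟶
      (presheafToSheaf K (Type u) ⋙ u.sheafPushforwardContinuous (Type u) J K) where
  app Q := ((sheafificationAdjunction J (Type u)).homEquiv (u.op ⋙ Q)
      ((u.sheafPushforwardContinuous (Type u) J K).obj ((presheafToSheaf K (Type u)).obj Q))).symm
        (Functor.whiskerLeft u.op (toSheafify K Q))
  naturality Q Q' f := by
    apply ((sheafificationAdjunction J (Type u)).homEquiv _ _).injective
    dsimp only [Functor.comp_obj, Functor.comp_map]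
    rw [Adjunction.homEquiv_naturality_left, Adjunction.homEquiv_naturality_right]
    erw [Equiv.apply_symm_apply, Equiv.apply_symm_apply]
    ext X : 2
    exact congr_app (toSheafify_naturality K f) (op (u.obj X.unop))

/-- For a continuous and almost cocontinuous functor `u` between small sites, the functor `u^s` on
sheaves of sets preserves finite connected colimits. -/
theorem result {C D : Type u} [SmallCategory C] [SmallCategory D]
    (J : GrothendieckTopology C) (K : GrothendieckTopology D) (u : C ⥤ D) [u.IsContinuous J K]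
    (hu : BigSite.IsAlmostCocontinuous u J K) (I : Type) [SmallCategory I] [FinCategory I] [IsConnected I] :
    PreservesColimitsOfShape I (u.sheafPushforwardContinuous (Type u) J K) := by
  refine ⟨fun {F} => ?_⟩
  let G := presheafToSheaf K (Type u)
  let i := sheafToPresheaf K (Type u)
  let H := u.sheafPushforwardContinuous (Type u) J K
  let W := (Functor.whiskeringLeft Cᵒᵖ Dᵒᵖ (Type u)).obj u.op
  let GJ := presheafToSheaf J (Type u)
  let adj := sheafificationAdjunction K (Type u)
  have : PreservesColimitsOfShape I G := adj.leftAdjoint_preservesColimits.preservesColimitsOfShape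
  have : PreservesColimitsOfShape I GJ :=
    (sheafificationAdjunction J (Type u)).leftAdjoint_preservesColimits.preservesColimitsOfShape
  let e : (F ⋙ i) ⋙ G ≅ F := Functor.isoWhiskerLeft F (asIso adj.counit)
  let cp := colimit.cocone (F ⋙ i)
  have hcp : IsColimit cp := colimit.isColimit (F ⋙ i)
  have h1 : IsColimit (G.mapCocone cp) := isColimitOfPreserves G hcp
  -- singleton values
  have hF : ∀ j (V : D), (⊥ : Sieve V) ∈ K V → Nonempty (Unique (((F ⋙ i).obj j).obj (op V))) :=
    fun j V hV => unique_of_bot_mem K (F.obj j) V hV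
  have hP : ∀ (V : D), (⊥ : Sieve V) ∈ K V → Nonempty (Unique (cp.pt.obj (op V))) := by
    intro V hV
    exact unique_colimit_of_isConnected ((F ⋙ i) ⋙ (evaluation _ _).obj (op V))
      (fun j => hF j V hV) (((evaluation _ _).obj (op V)).mapCocone cp)
      (isColimitOfPreserves _ hcp)
  have hτF : ∀ j, IsIso ((τ J K u).app ((F ⋙ i).obj j)) := fun j =>
    Groth.Agent.S6441.result J K u hu _ (hF j)
  have hτP : IsIso ((τ J K u).app cp.pt) := Groth.Agent.S6441.result J K u hu _ hP
  have hc1 : IsColimit (GJ.mapCocone (W.mapCocone cp)) :=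
    isColimitOfPreserves GJ (isColimitOfPreserves W hcp)
  let α : (F ⋙ i) ⋙ (W ⋙ GJ) ≅ (F ⋙ i) ⋙ (G ⋙ H) :=
    NatIso.ofComponents (fun j => @asIso _ _ _ _ _ (hτF j))
      (fun f => (τ J K u).naturality _)
  have h2 : IsColimit (H.mapCocone (G.mapCocone cp)) := by
    refine (IsColimit.precomposeHomEquiv α _).1 ?_
    refine IsColimit.ofIsoColimit hc1 (Cocone.ext (@asIso _ _ _ _ _ hτP) ?_)
    intro j
    exact (τ J K u).naturality (cp.ι.app j)
  have : PreservesColimit ((F ⋙ i) ⋙ G) H := preservesColimit_of_preserves_colimit_cocone h1 h2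
  exact preservesColimit_of_iso_diagram H e

end Groth.Agent.S6440
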