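import Groth.Statements.S6444
-- import your own Groth.Agent.* helpers here

set_option autoImplicit false
open CategoryTheory
universe v u v' u'
open CatLoc

namespace Groth.Agent.S6444

/-- For a left multiplicative system, a commutative square in the localization between the images of two
morphisms `f, f'` of `C` lifts to a commutative diagram `X → X'' ← X'`, `Y → Y'' ← Y'` in `C` over a
third morphism `f''`, the backward arrows lying in `W`. -/
theorem result {C : Type u} [Category.{v} C] {D : Type u'} [Category.{v'} D] (W : MorphismProperty C) (L : C ⥤ D) [L.IsLocalization W] [W.HasLeftCalculusOfFractions]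
    {X Y X' Y' : C} (f : X ⟶ Y) (f' : X' ⟶ Y') (a : L.obj X ⟶ L.obj X') (b : L.obj Y ⟶ L.obj Y') (w : L.map f ≫ b = a ≫ L.map f') :
    ∃ (X'' Y'' : C) (f'' : X'' ⟶ Y'') (g : X ⟶ X'') (h : Y ⟶ Y'') (s : X' ⟶ X'') (t : Y' ⟶ Y''),
      W s ∧ W t ∧ f ≫ h = g ≫ f'' ∧ f' ≫ t = s ≫ f'' ∧ L.map g = a ≫ L.map s ∧ L.map h = b ≫ L.map t := by
  obtain ⟨za, hza⟩ := Localization.exists_leftFraction L W a
  obtain ⟨zb, hzb⟩ := Localization.exists_leftFraction L W b
  have ha : a ≫ L.map za.s = L.map za.f := by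
    rw [hza, MorphismProperty.LeftFraction.map_comp_map_s]
  have hb : b ≫ L.map zb.s = L.map zb.f := by
    rw [hzb, MorphismProperty.LeftFraction.map_comp_map_s]
  obtain ⟨ψ, hψ⟩ := (MorphismProperty.RightFraction.mk za.s za.hs (f' ≫ zb.s)).exists_leftFraction
  dsimp at hψ
  have hL : L.map (f ≫ zb.f ≫ ψ.s) = L.map (za.f ≫ ψ.f) := by
    calc L.map (f ≫ zb.f ≫ ψ.s) = L.map f ≫ (b ≫ L.map zb.s) ≫ L.map ψ.s := by
          rw [hb, L.map_comp, L.map_comp]
      _ = (L.map f ≫ b) ≫ L.map zb.s ≫ L.map ψ.s := by simp only [Category.assoc]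
      _ = a ≫ L.map ((f' ≫ zb.s) ≫ ψ.s) := by
          rw [w]; simp only [Category.assoc, L.map_comp]
      _ = (a ≫ L.map za.s) ≫ L.map ψ.f := by
          rw [hψ, L.map_comp, Category.assoc]
      _ = L.map (za.f ≫ ψ.f) := by rw [ha, L.map_comp]
  obtain ⟨Y₃, t₃, ht₃, fac⟩ := (MorphismProperty.map_eq_iff_postcomp L W _ _).mp hL
  refine ⟨za.Y', Y₃, ψ.f ≫ t₃, za.f, zb.f ≫ ψ.s ≫ t₃, za.s, zb.s ≫ ψ.s ≫ t₃,
    za.hs, W.comp_mem _ _ zb.hs (W.comp_mem _ _ ψ.hs ht₃), ?_, ?_, ha.symm, ?_⟩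
  · simpa only [Category.assoc] using fac
  · have := congrArg (fun m => m ≫ t₃) hψ
    simpa only [Category.assoc] using this
  · rw [L.map_comp, L.map_comp zb.s, ← Category.assoc b, hb]

end Groth.Agent.S6444
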