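import Groth.Statements.S6448
-- import your own Groth.Agent.* helpers here

set_option autoImplicit false
open CategoryTheory
universe v u
open CatLim

namespace Groth.Agent.S6448

theorem cocone_of_zigzag {I : Type u} [Category.{v} I]
    (h1 : ∀ ⦃w x y : I⦄ (a : w ⟶ x) (b : w ⟶ y), ∃ (z : I) (c : x ⟶ z) (d : y ⟶ z), a ≫ c = b ≫ d)
    {x y : I} (h : Zigzag x y) : ∃ (z : I), Nonempty (x ⟶ z) ∧ Nonempty (y ⟶ z) := by
  induction h with
  | refl => exact ⟨x, ⟨𝟙 x⟩, ⟨𝟙 x⟩⟩
  | tail _ hzag ih =>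
    obtain ⟨z, ⟨f⟩, ⟨g⟩⟩ := ih
    rcases hzag with ⟨⟨m⟩⟩ | ⟨⟨m⟩⟩
    · obtain ⟨w, c, d, -⟩ := h1 g m
      exact ⟨w, ⟨f ≫ c⟩, ⟨d⟩⟩
    · exact ⟨z, ⟨f⟩, ⟨m ≫ g⟩⟩

/-- In a category where spans complete to commutative squares and parallel pairs are coequalized by a
later arrow, every connected component is filtered (so the category is a disjoint union of filtered
categories). -/
theorem result {I : Type u} [Category.{v} I]
    (h1 : ∀ ⦃w x y : I⦄ (a : w ⟶ x) (b : w ⟶ y), ∃ (z : I) (c : x ⟶ z) (d : y ⟶ z), a ≫ c = b ≫ d)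
    (h2 : ∀ ⦃x y : I⦄ (a b : x ⟶ y), ∃ (z : I) (c : y ⟶ z), a ≫ c = b ≫ c)
    (j : ConnectedComponents I) : IsFiltered j.Component := by
  have hmem : ∀ (X : j.Component) (z : I), (X.obj ⟶ z) → j.objectProperty z := by
    intro X z f
    have : (Quotient.mk'' z : ConnectedComponents I) = Quotient.mk'' X.obj :=
      Quotient.sound (Zigzag.of_hom f).symm
    exact this.trans X.property
  have : IsFilteredOrEmpty j.Component := by
    constructor
    · intro X Y
      have hz : Zigzag X.obj Y.obj := by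
        have : (Quotient.mk'' X.obj : ConnectedComponents I) = Quotient.mk'' Y.obj :=
          X.property.trans Y.property.symm
        exact Quotient.exact this
      obtain ⟨z, ⟨f⟩, ⟨g⟩⟩ := cocone_of_zigzag h1 hz
      exact ⟨⟨z, hmem X z f⟩, ObjectProperty.homMk f, ObjectProperty.homMk g, trivial⟩
    · intro X Y f g
      obtain ⟨z, c, hc⟩ := h2 f.hom g.hom
      refine ⟨⟨z, hmem Y z c⟩, ObjectProperty.homMk c, ?_⟩
      ext
      exact hc
  constructor

end Groth.Agent.S6448
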