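import Groth.Statements.S6453
import Groth.Agent.Lib.Helper7.IntMultBridge
import Groth.Agent.Lib.Helper7.IntMultAlg

set_option autoImplicit false
universe u
open CategoryTheory AlgebraicGeometry
attribute [local instance] HasDerivedCategory.standard
open IntMult

namespace Groth.Agent.S6453

open Groth.Agent.Lib.Helper7.IMBridge Groth.Agent.Lib.Helper7.IMAlg

/-- Under proper intersection, a regular generator of the stalk ideal of `V` is not in the stalk ideal
of `W`. -/
theorem not_mem_of_properInt (X : Scheme.{u}) [IsIntegral X] (IV IW : X.IdealSheafData)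
    [IsIntegral IW.subscheme] (n r s : ℕ)
    (hn : topologicalKrullDim X = n) (hr : topologicalKrullDim IV.support = r)
    (hs : topologicalKrullDim IW.support = s)
    (hprop : IntMult.ProperInt (IV.support : Set X) (IW.support : Set X) n r s) (ξ : X)
    (hξV : ξ ∈ IV.support) (hξW : ξ ∈ IW.support)
    (hmax : ∀ ξ' : X, ξ' ∈ IV.support → ξ' ∈ IW.support → ξ' ⤳ ξ → ξ' = ξ)
    (g : ↑(X.presheaf.stalk ξ)) (hg : IntMult.stalkIdeal IV ξ = Ideal.span {g})
    (hreg : IsSMulRegular (↑(X.presheaf.stalk ξ)) g) : g ∉ IntMult.stalkIdeal IW ξ := by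
  intro hgmem
  haveI hWprime : (IntMult.stalkIdeal IW ξ).IsPrime := isPrime_stalkIdeal IW ξ hξW
  have hle : IntMult.stalkIdeal IV ξ ≤ IntMult.stalkIdeal IW ξ := by
    rw [hg, Ideal.span_singleton_le_iff_mem]; exact hgmem
  have hWm : IntMult.stalkIdeal IW ξ = IsLocalRing.maximalIdeal (X.presheaf.stalk ξ) :=
    eq_maximalIdeal_of_le IV IW ξ hmax _ hle le_rfl
  have hsub : (IW.support : Set X) ⊆ closure {ξ} := support_subset_closure IW ξ hξW hWm
  have hsubV : (IW.support : Set X) ⊆ (IV.support : Set X) :=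
    hsub.trans (closure_minimal (Set.singleton_subset_iff.2 hξV) IV.support.isClosed)
  have heq : (IV.support : Set X) ∩ (IW.support : Set X) = (IW.support : Set X) :=
    Set.inter_eq_right.2 hsubV
  obtain ⟨hnrs, hdim⟩ := hprop ⟨ξ, hξV, hξW⟩
  have hdimeq : topologicalKrullDim ↥((IV.support : Set X) ∩ (IW.support : Set X)) =
      topologicalKrullDim ↥(IW.support : Set X) := by rw [heq]
  have hs' : topologicalKrullDim ↥(IW.support : Set X) = s := hs
  have h1 : (s : WithBot ℕ∞) ≤ ((r + s - n : ℕ) : WithBot ℕ∞) := by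
    rw [← hs', ← hdimeq]; exact hdim
  have h2 : s ≤ r + s - n := by exact_mod_cast h1
  have hnr : n ≤ r := by omega
  have hr' : topologicalKrullDim ↥(IV.support : Set X) = r := hr
  have hrn : r ≤ n := by
    have h3 := topologicalKrullDim_subspace_le X (IV.support : Set X)
    rw [hr', hn] at h3
    exact_mod_cast h3
  have hreq : r = n := le_antisymm hrn hnr
  have hVuniv : (IV.support : Set X) = Set.univ :=
    eq_univ_of_topologicalKrullDim_eq n hn _ IV.support.isClosed (by rw [hr', hreq])
  have hIV : IV = ⊥ := by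
    rw [← Scheme.IdealSheafData.support_eq_top_iff]
    exact TopologicalSpace.Closeds.ext hVuniv
  obtain ⟨U, hU, hxU, -⟩ := exists_isAffineOpen_mem_and_subset (x := ξ) (U := ⊤) trivial
  have h0 : IntMult.stalkIdeal IV ξ = ⊥ := by
    rw [stalkIdeal_eq IV ⟨U, hU⟩ ξ hxU, hIV, Scheme.IdealSheafData.ideal_bot]
    exact Ideal.map_bot
  rw [hg, Ideal.span_singleton_eq_bot] at h0
  have h10 : (1 : ↑(X.presheaf.stalk ξ)) = 0 := hreg (by simp [h0])
  exact one_ne_zero h10

/-- Suppose the ideal of V in O_{X,ξ} is generated by a single nonzerodivisor g (c = 1: V is an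
effective Cartier divisor at ξ). Then e(X, V·W, Z) = length_{O_{X,ξ}}(O_{W,ξ}/g O_{W,ξ}), i.e. the
length of O_{X,ξ}/(I_{W,ξ} + (g)). Here X is a nonsingular variety over an algebraically closed
field K (smooth, separated, quasi-compact, integral), V and W are closed subvarieties given by
quasi-coherent ideal sheaves with integral subschemes, of dimensions r and s with dim X = n,
intersecting properly, and ξ is the generic point of an irreducible component Z of V ∩ W (a point of
V ∩ W maximal under specialization); e(X, V·W, Z) = IntMult.mult is the alternating sum of lengths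
of Tor over O_{X,ξ}, and O_{W,ξ} = O_{X,ξ}/I_{W,ξ}. -/
theorem result (K : Type u) [Field K] [IsAlgClosed K] (X : Scheme.{u}) (f : X ⟶ Spec (CommRingCat.of K)) [Smooth f] [IsSeparated f] [QuasiCompact f] [IsIntegral X] (IV IW : X.IdealSheafData) [IsIntegral IV.subscheme] [IsIntegral IW.subscheme] (n r s : ℕ) (hn : topologicalKrullDim X = n) (hr : topologicalKrullDim IV.support = r) (hs : topologicalKrullDim IW.support = s) (hprop : IntMult.ProperInt (IV.support : Set X) (IW.support : Set X) n r s) (ξ : X) (hξV : ξ ∈ IV.support) (hξW : ξ ∈ IW.support) (hmax : ∀ ξ' : X, ξ' ∈ IV.support → ξ' ∈ IW.support → ξ' ⤳ ξ → ξ' = ξ) (g : ↑(X.presheaf.stalk ξ)) (hg : IntMult.stalkIdeal IV ξ = Ideal.span {g}) (hreg : IsSMulRegular (↑(X.presheaf.stalk ξ)) g) : (IntMult.mult IV IW ξ : ℤ) = (Module.length (X.presheaf.stalk ξ) (↑(X.presheaf.stalk ξ) ⧸ (IntMult.stalkIdeal IW ξ ⊔ Ideal.span {g}))).toNat := by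
  classical
  haveI hWprime : (IntMult.stalkIdeal IW ξ).IsPrime := isPrime_stalkIdeal IW ξ hξW
  have hgW : g ∉ IntMult.stalkIdeal IW ξ :=
    not_mem_of_properInt X IV IW n r s hn hr hs hprop ξ hξV hξW hmax g hg hreg
  have hgM : IsSMulRegular (↑(X.presheaf.stalk ξ) ⧸ IntMult.stalkIdeal IW ξ) g := by
    have hne : Ideal.Quotient.mk (IntMult.stalkIdeal IW ξ) g ≠ 0 := by
      rw [Ne, Ideal.Quotient.eq_zero_iff_mem]; exact hgW
    intro x y hxy
    have hxy' : Ideal.Quotient.mk (IntMult.stalkIdeal IW ξ) g * x =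
        Ideal.Quotient.mk (IntMult.stalkIdeal IW ξ) g * y := by
      simpa [Algebra.smul_def] using hxy
    exact mul_left_cancel₀ hne hxy'
  unfold IntMult.mult
  rw [hg, chi_quot_regular _ _ g hreg hgM, length_quot_smul_top]

end Groth.Agent.S6453
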