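import Groth.Statements.S6455
import Groth.Agent.Lib.Helper18.Cyc.C1Unit
open Groth.Agent.Lib.Helper18.C1Core Groth.Agent.Lib.Helper18.CycDiv Groth.Agent.Lib.Helper18.InvStalk Groth.Agent.Lib.Helper18.CycUnitStalk

set_option autoImplicit false
universe u
open CategoryTheory AlgebraicGeometry
open Cyc

namespace Groth.Agent.S6455

/-- c_1(O_X) ∩ α = 0 in CH_k(X) for every (k + 1)-cycle α: computed with any nonzero rational sections
of the structure sheaf, the k-cycle c_1(O_X) ∩ α is rationally equivalent to zero. Here L(ξ) =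
L_ξ/𝔪_ξ L_ξ is the space of rational sections of L on the closure of ξ, div_{L|W}(s) and c_1(L) ∩ α
are computed as coefficient functions from chosen nonzero rational sections (Cyc.secDivFun,
Cyc.c1CapFun), and results are compared up to rational equivalence for any cycles with those
coefficients. A pair (X, δ) with Cyc.IsSetup plays the role of a scheme locally of finite type over
the base (S, δ) (X locally Noetherian with universally catenary local rings, δ a dimension
function). -/
theorem result (X : Scheme.{u}) (δ : X → ℤ) (hX : Cyc.IsSetup X δ) (k : ℤ) (α : AlgebraicCycle X ℤ) (hα : α ∈ Cyc.Zk X δ (k + 1)) (s : (ξ : X) → Cyc.secFibre (Coh.structureModule X) ξ) (hs : ∀ ξ, s ξ ≠ 0) (γ : AlgebraicCycle X ℤ) (hγ : ⇑γ = Cyc.c1CapFun δ (Coh.structureModule X) ⇑α s) : Cyc.RatEquivZero δ k γ := by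
  classical
  haveI : IsLocallyNoetherian X := hX.1
  have hδ := hX.2.2
  choose φ hφs hφ0 using fun ξ : X => exists_residue_ne_zero ξ (s ξ) (hs ξ)
  refine ⟨{ξ : X // α ξ ≠ 0}, fun i => i.1, fun i => (X.residue i.1 (φ i.1)) ^ (α i.1),
    ?_, ?_, ?_, ?_⟩
  · intro i
    by_contra hne
    exact i.2 (hα i.1 hne)
  · intro i
    exact zpow_ne_zero _ (hφ0 i.1)
  · intro y
    obtain ⟨t, ht, hfin⟩ := α.supportLocallyFiniteWithinDomain y (Set.mem_univ y)
    refine ⟨interior t, isOpen_interior, mem_interior_iff_mem_nhds.2 ht, ?_⟩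
    refine Set.Finite.subset (hfin.preimage (Subtype.val_injective.injOn) :
      {i : {ξ : X // α ξ ≠ 0} | (i : X) ∈ t ∩ Function.support α}.Finite) ?_
    rintro i ⟨w, hw1, hw2⟩
    have hi : (i : X) ∈ interior t :=
      (specializes_iff_mem_closure.2 hw1).mem_open isOpen_interior hw2
    exact ⟨interior_subset hi, i.2⟩
  · intro x
    rw [hγ]
    show ∑ᶠ ξ : X, α ξ * Cyc.secDivFun δ (Coh.structureModule X) ξ (s ξ) x = _
    rw [finsum_eq_finsum_subtype (fun ξ : X => α ξ *
      Cyc.secDivFun δ (Coh.structureModule X) ξ (s ξ) x) (fun ξ => α ξ ≠ 0)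
      (fun a ha => left_ne_zero_of_mul ha)]
    apply finsum_congr
    intro i
    show α i.1 * Cyc.secDivFun δ (Coh.structureModule X) i.1 (s i.1) x = _
    rw [divFun_zpow]
    congr 1
    conv_lhs => rw [hφs i.1]
    exact secDivFun_structure δ hδ i.1 (φ i.1) (hφ0 i.1) x

end Groth.Agent.S6455
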