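import Groth.Statements.S6461
import Groth.Agent.Lib.Helper24.Cat.LocQuotDim
import Groth.Agent.Lib.Helper24.Depth.CMEquidim
import Groth.Agent.S6460

set_option autoImplicit false
universe u
open CategoryTheory AlgebraicGeometry
open Cyc

namespace Groth.Agent.S6461

/-- If all local rings of X are Cohen–Macaulay then every x ∈ X has an open neighbourhood U and an
integer n with δ(ξ) = n for every generic point ξ of an irreducible component of U (every point of U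
maximal under specialization). Here a pair (X, δ) with Cyc.IsSetup plays the role of a scheme
locally of finite type over the base (S, δ) (X locally Noetherian with universally catenary local
rings, δ a dimension function). -/
theorem result (X : Scheme.{u}) (δ : X → ℤ) (hX : Cyc.IsSetup X δ) (hCM : ∀ x : X, LocCoh.IsCohenMacaulayLocalRing ↑(X.presheaf.stalk x)) (x : X) : ∃ (U : X.Opens) (n : ℤ), x ∈ U ∧ ∀ ξ : X, ξ ∈ U → (∀ ξ' : X, ξ' ⤳ ξ → ξ' = ξ) → δ ξ = n := by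
  have hwk : ∀ a b : X, a ⤳ b → δ b ≤ δ a := by
    intro a b hab
    by_cases heq : a = b
    · rw [heq]
    · exact (hX.2.2 a b hab heq).1.le
  have hdim : ∀ (z ξ : X) (h : ξ ⤳ z), (∀ ξ' : X, ξ' ⤳ ξ → ξ' = ξ) →
      ringKrullDim (X.presheaf.stalk z) = ((δ ξ - δ z).toNat : WithBot ℕ∞) := by
    intro z ξ h hξ
    haveI := hCM z
    rw [← Lib.Helper24.LocQuotDim.ringKrullDim_locQuot X δ hX.2.2 z ξ h]
    exact (Lib.Helper24.CMEquidim.dim_quot_minimalPrime_eq _ _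
      (Lib.Helper24.LocQuotDim.ker_specMap_mem_minimalPrimes X z ξ h hξ)).symm
  have h3 : ∀ x : X, ∃ n : ℤ, ∀ ξ : X, (∀ ξ' : X, ξ' ⤳ ξ → ξ' = ξ) → ξ ⤳ x → δ ξ = n := by
    intro x
    by_cases hex : ∃ ξ₀ : X, (∀ ξ' : X, ξ' ⤳ ξ₀ → ξ' = ξ₀) ∧ ξ₀ ⤳ x
    · obtain ⟨ξ₀, hξ₀, hξ₀x⟩ := hex
      refine ⟨δ ξ₀, fun ξ hξ hξx => ?_⟩
      have e1 := hdim x ξ hξx hξ
      have e2 := hdim x ξ₀ hξ₀x hξ₀
      rw [e1] at e2
      have e3 : (δ ξ - δ x).toNat = (δ ξ₀ - δ x).toNat := by exact_mod_cast e2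
      have e4 := hwk ξ x hξx
      have e5 := hwk ξ₀ x hξ₀x
      omega
    · exact ⟨0, fun ξ hξ hξx => absurd ⟨ξ, hξ, hξx⟩ hex⟩
  obtain ⟨c, hc, hcδ⟩ := Groth.Agent.S6460.result X δ hX h3
  exact ⟨⟨c ⁻¹' {c x}, hc.isOpen_fiber _⟩, c x, rfl, fun ξ hξU hξ => (hcδ ξ hξ).trans hξU⟩

end Groth.Agent.S6461
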