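import Groth.Statements.S6463
import Groth.Agent.Lib.Helper17.FlatBCUnit
import Mathlib
set_option backward.isDefEq.respectTransparency.types false

set_option autoImplicit false
universe u
open CategoryTheory CategoryTheory.Limits AlgebraicGeometry
open PicF

namespace Groth.Agent.S6463

open Groth.Agent.Lib.Helper17

/-- opens of the spectrum of a field -/
theorem eq_bot_or_eq_top {K : Type u} [Field K] (W : (Spec (CommRingCat.of K)).Opens) : W = ⊥ ∨ W = ⊤ := by
  by_cases hW : W = ⊥
  · exact Or.inl hW
  · right
    haveI : Subsingleton (Spec (CommRingCat.of K)) := inferInstanceAs (Subsingleton (PrimeSpectrum K))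
    obtain ⟨w, hw⟩ : ∃ w, w ∈ W := by
      by_contra hne
      apply hW
      ext w
      simp only [SetLike.mem_coe]
      constructor
      · intro hw; exact (hne ⟨w, hw⟩).elim
      · intro hw; exact hw.elim
    ext w'
    simp only [SetLike.mem_coe]
    constructor
    · intro _; trivial
    · intro _; rwa [Subsingleton.elim w' w]

theorem bijective_app_of_section (k : Type u) [Field k] (X : Scheme.{u}) (f : X ⟶ Spec (CommRingCat.of k))
    [IsIntegral X] [UniversallyClosed f] (σ : Spec (CommRingCat.of k) ⟶ X)
    (hσ : σ ≫ f = 𝟙 (Spec (CommRingCat.of k))) (V : (Spec (CommRingCat.of k)).Opens) :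
    Function.Bijective (f.app V) := by
  rcases eq_bot_or_eq_top V with rfl | rfl
  · haveI : Subsingleton Γ(Spec (CommRingCat.of k), ⊥) := inferInstance
    haveI : Subsingleton Γ(X, f ⁻¹ᵁ ⊥) := (inferInstance : Subsingleton Γ(X, ⊥))
    exact ⟨fun a b _ => Subsingleton.elim _ _, fun t => ⟨0, Subsingleton.elim _ _⟩⟩
  · have hK : IsField Γ(X, ⊤) := isField_of_universallyClosed k f
    letI := hK.toField
    have hcomp : ∀ c : Γ(Spec (CommRingCat.of k), ⊤), σ.appTop.hom (f.appTop.hom c) = c := by
      intro c
      have h2 : f.appTop ≫ σ.appTop = 𝟙 _ := by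
        rw [← Scheme.Hom.comp_appTop, hσ]; rfl
      exact congrArg (fun ψ => ψ.hom c) h2
    haveI : Nontrivial Γ(Spec (CommRingCat.of k), ⊤) := inferInstance
    have hσinj : Function.Injective σ.appTop.hom := (σ.appTop.hom : Γ(X, ⊤) →+* _).injective
    constructor
    · intro a b hab
      have hab' : f.appTop.hom a = f.appTop.hom b := hab
      have := congrArg σ.appTop.hom hab'
      rwa [hcomp, hcomp] at this
    · intro y
      refine ⟨σ.appTop.hom y, ?_⟩
      apply hσinj
      exact hcomp _


/-- For a field k and a smooth projective curve X over k that has a k-rational point σ, the conditions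
under which the Picard functor is computed through the section are met: f : X → Spec k is flat,
proper and of finite presentation with a section, and O_T → f_{T,*} O_{X_T} is an isomorphism for
every scheme T over k. Only the last assertion is stated (the others are part of the hypotheses or
immediate): for every t : T → Spec k, the sheaf map of the base change X ×_k T → T is an
isomorphism. Proper replaces projective (they agree for curves over a field). -/
theorem result (k : Type u) [Field k] (X : Scheme.{u}) (f : X ⟶ Spec (CommRingCat.of k)) (hX : Curve.IsSmoothProperCurve k X f) (σ : Spec (CommRingCat.of k) ⟶ X) (hσ : σ ≫ f = 𝟙 (Spec (CommRingCat.of k))) (T : Scheme.{u}) (t : T ⟶ Spec (CommRingCat.of k)) : IsIso (pullback.snd f t).c := by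
  obtain ⟨hprop, -, hint, -⟩ := hX
  haveI := hprop
  haveI := hint
  have hf := bijective_app_of_section k X f σ hσ
  haveI : Flat t := inferInstance
  have hf' := FlatBCUnit.bijective_app_baseChange f t (pullback.fst f t) (pullback.snd f t)
    (IsPullback.of_hasPullback f t) hf
  haveI : ∀ U, IsIso ((pullback.snd f t).c.app U) := by
    intro U
    have : Function.Bijective ((pullback.snd f t).app U.unop) := hf' U.unop
    exact (ConcreteCategory.isIso_iff_bijective ((pullback.snd f t).app U.unop)).mpr this
  exact NatIso.isIso_of_isIso_app _

end Groth.Agent.S6463
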