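import Groth.Statements.S6464
import Mathlib
import Groth.Agent.Lib.Helper22.PerLength
-- import your own Groth.Agent.* helpers here

set_option autoImplicit false
universe u v
open CycAlg

namespace Groth.Agent.S6464

/-- Let (M, N, φ, ψ) be a 2-periodic complex over a ring R with M and N of finite length. Then its
cohomology modules have finite length and e_R(M, N, φ, ψ) = length_R(M) − length_R(N). (The case M =
N, where the conclusion reads e_R(M, φ, ψ) = 0, is the special case and is not restated.) -/
theorem result {R : Type u} [CommRing R] {M N : Type v} [AddCommGroup M] [Module R M] [AddCommGroup N] [Module R N] (φ : M →ₗ[R] N) (ψ : N →ₗ[R] M) (h : CycAlg.IsPeriodic φ ψ) (hM : Module.length R M < ⊤) (hN : Module.length R N < ⊤) : CycAlg.FinCoh R φ ψ ∧ CycAlg.herbrand R φ ψ = ((Module.length R M).toNat : ℤ) - ((Module.length R N).toNat : ℤ) := by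
  classical
  obtain ⟨h1, h2⟩ := h
  have eM := Helper22.Per.length_eq_ker_add_range φ
  have eN := Helper22.Per.length_eq_ker_add_range ψ
  have eKφ := Helper22.Per.length_ker_eq φ ψ h1
  have eKψ := Helper22.Per.length_ker_eq ψ φ h2
  -- finiteness of all pieces
  have fKφ : Module.length R (LinearMap.ker φ) < ⊤ := lt_of_le_of_lt (eM ▸ le_self_add) hM
  have fRφ : Module.length R (LinearMap.range φ) < ⊤ := lt_of_le_of_lt (eM ▸ le_add_self) hM
  have fKψ : Module.length R (LinearMap.ker ψ) < ⊤ := lt_of_le_of_lt (eN ▸ le_self_add) hN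
  have fRψ : Module.length R (LinearMap.range ψ) < ⊤ := lt_of_le_of_lt (eN ▸ le_add_self) hN
  have fH0 : Module.length R (CycAlg.perH φ ψ) < ⊤ := lt_of_le_of_lt (eKφ ▸ le_add_self) fKφ
  have fH1 : Module.length R (CycAlg.perH ψ φ) < ⊤ := lt_of_le_of_lt (eKψ ▸ le_add_self) fKψ
  refine ⟨⟨fH0, fH1⟩, ?_⟩
  unfold CycAlg.herbrand
  generalize Module.length R M = lM at *
  generalize Module.length R N = lN at *
  generalize Module.length R (LinearMap.ker φ) = kφ at *
  generalize Module.length R (LinearMap.ker ψ) = kψ at *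
  generalize Module.length R (LinearMap.range φ) = rφ at *
  generalize Module.length R (LinearMap.range ψ) = rψ at *
  generalize Module.length R (CycAlg.perH φ ψ) = h0 at *
  generalize Module.length R (CycAlg.perH ψ φ) = h1' at *
  lift lM to ℕ using hM.ne
  lift lN to ℕ using hN.ne
  lift kφ to ℕ using fKφ.ne
  lift kψ to ℕ using fKψ.ne
  lift rφ to ℕ using fRφ.ne
  lift rψ to ℕ using fRψ.ne
  lift h0 to ℕ using fH0.ne
  lift h1' to ℕ using fH1.ne
  simp only [ENat.toNat_natCast]
  have eM' : lM = kφ + rφ := by exact_mod_cast eM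
  have eN' : lN = kψ + rψ := by exact_mod_cast eN
  have eKφ' : kφ = rψ + h0 := by exact_mod_cast eKφ
  have eKψ' : kψ = rφ + h1' := by exact_mod_cast eKψ
  omega

end Groth.Agent.S6464
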