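import Groth.Statements.S6465
import Groth.Agent.Lib.Helper18.Cyc.C1Closed
open Groth.Agent.Lib.Helper18.C1Core Groth.Agent.Lib.Helper18.CycDiv Groth.Agent.Lib.Helper18.InvStalk Groth.Agent.Lib.Helper28.PullbackInv

set_option autoImplicit false
universe u
open CategoryTheory AlgebraicGeometry
open Cyc

namespace Groth.Agent.S6465

/-- Let (L, s, i : D → X) be a triple defining a Gysin map. Then i^* i_* : CH_k(D) → CH_{k−1}(D) sends
the class of a k-cycle α on D to c_1(L|_D) ∩ α: the (k − 1)-cycle i^*(i_* α) is rationally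
equivalent on D to c_1(i^*L) ∩ α computed with any nonzero rational sections. Here i : D → X is the
zero scheme of a global section s of the invertible module L (Cyc.IsZeroSchemeOf), the Gysin map i^*
: Z_{k+1}(X) → CH_k(D) is computed on coefficient functions as c_1(L) ∩ − with the rational sections
taken to be s where it is nonzero and a nonzero fallback elsewhere (Cyc.gysinChoice), restricted to
the points of D, and classes on D are compared up to rational equivalence on D for the restricted
dimension function; (X, δ) with Cyc.IsSetup stands for a scheme locally of finite type over the base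
(S, δ). -/
theorem result (X D : Scheme.{u}) (δ : X → ℤ) (hX : Cyc.IsSetup X δ) (L : X.Modules) (hL : PicF.IsInvertible L) (s : L.presheaf.obj (Opposite.op ⊤)) (i : D ⟶ X) [IsClosedImmersion i] (hD : Cyc.IsZeroSchemeOf i L s) (k : ℤ) (α : AlgebraicCycle D ℤ) (hα : α ∈ Cyc.Zk D (fun d => δ (i d)) k) (w : (ξ : X) → Cyc.secFibre L ξ) (hw : ∀ ξ, w ξ ≠ 0) (t : (d : D) → Cyc.secFibre ((Scheme.Modules.pullback i).obj L) d) (ht : ∀ d, t d ≠ 0) (ζ₁ ζ₂ : AlgebraicCycle D ℤ) (h₁ : ∀ d, ζ₁ d = Cyc.c1CapFun δ L ⇑(AlgebraicCycle.map i (fun d => δ (i d)) δ α) (Cyc.gysinChoice L s w) (i d)) (h₂ : ⇑ζ₂ = Cyc.c1CapFun (fun d => δ (i d)) ((Scheme.Modules.pullback i).obj L) ⇑α t) : Cyc.RatEquiv (fun d => δ (i d)) (k - 1) ζ₁ ζ₂ := by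
  classical
  haveI : IsLocallyNoetherian X := hX.1
  have hδ := hX.2.2
  haveI : IsLocallyNoetherian D := LocallyOfFiniteType.isLocallyNoetherian i
  have hδD : Cyc.IsDimFun D (fun d => δ (i d)) := isDimFun_comp_of_isClosedImmersion i δ hδ
  have hM : PicF.IsInvertible ((Scheme.Modules.pullback i).obj L) := isInvertible_pullback i hL
  have hinj : Function.Injective i := i.isClosedEmbedding.injective
  have hres : ∀ z, Function.Surjective (i.residueFieldMap z).hom := fun z =>
    (residueFieldMap_bijective_of_surjective i z (i.stalkMap_surjective z)).2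
  have hαlf : LocallyFiniteSupport ⇑α :=
    fun z => α.supportLocallyFiniteWithinDomain z (Set.mem_univ z)
  have hg : ∀ ξ, Cyc.gysinChoice L s w ξ ≠ 0 := by
    intro ξ
    by_cases h : (Submodule.Quotient.mk ((L.presheaf.germ ⊤ ξ trivial) s) : Cyc.secFibre L ξ) ≠ 0
    · have e : Cyc.gysinChoice L s w ξ =
          Submodule.Quotient.mk ((L.presheaf.germ ⊤ ξ trivial) s) := if_pos h
      rw [e]
      exact h
    · have e : Cyc.gysinChoice L s w ξ = w ξ := if_neg h
      rw [e]
      exact hw ξ
  obtain ⟨hc1, -⟩ := c1CapFun_closedImmersion i δ hδ L hL ⇑α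
    ⇑(AlgebraicCycle.map i (fun d => δ (i d)) δ α)
    (fun z => map_apply_of_injective i hinj hres _ δ (fun _ => rfl) α z)
    (fun x hx => map_apply_of_notMem_range i _ δ α x hx) (Cyc.gysinChoice L s w) hg
  unfold Cyc.RatEquiv
  refine ratEquivZero_c1CapFun_sub _ hM (fun d => δ (i d)) hδD (k - 1) ⇑α ?_ hαlf
    (fun y => pullSec i L y (Cyc.gysinChoice L s w (i y))) t
    (fun y => pullSec_ne_zero i hL y _ (hg _)) ht (ζ₁ - ζ₂) ?_
  · intro ξ hξ
    have : δ (i ξ) = k := by
      by_contra h
      exact hξ (hα ξ h)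
    rw [this]
    ring
  · intro d
    rw [Function.locallyFinsuppWithin.coe_sub, Pi.sub_apply, h₁ d, h₂, hc1 d]

end Groth.Agent.S6465
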