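import Groth.Statements.S6473
import Groth.Agent.Lib.Helper7.VarietyDimEmb
import Groth.Agent.Lib.Helper7.IntMultDim
import Mathlib.AlgebraicGeometry.PullbackCarrier
import Mathlib.RingTheory.Ideal.KrullsHeightTheorem

set_option autoImplicit false
universe u
open CategoryTheory CategoryTheory.Limits AlgebraicGeometry
open IntMult

namespace Groth.Agent.S6473

/-- Let f : X → Y be a morphism of varieties over K which is a regular immersion of codimension c, and Z
⊂ Y a closed subvariety of dimension d. Then each irreducible component T of f⁻¹(Z) = X ×_Y Z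
satisfies dim T ≥ d − c; stated as d ≤ dim T + c. Varieties: integral, separated, of finite type
over the algebraically closed field K. (The published statement takes f to be a closed immersion,
regular immersions being closed there; this row allows any immersion cut out, locally on Y where it
is closed, by a regular sequence of length c, the bound being local on Y. The published statement
also has a second part, for local complete intersection morphisms of a given relative dimension,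
which this row does not state.) -/
theorem result (K : Type u) [Field K] [IsAlgClosed K] (X Y Z : Scheme.{u}) (gX : X ⟶ Spec (CommRingCat.of K)) (gY : Y ⟶ Spec (CommRingCat.of K)) [IsSeparated gX] [LocallyOfFiniteType gX] [QuasiCompact gX] [IsIntegral X] [IsSeparated gY] [LocallyOfFiniteType gY] [QuasiCompact gY] [IsIntegral Y] (f : X ⟶ Y) (hf : f ≫ gY = gX) (c : ℕ) (hreg : RegImm.IsRegularImmersionOfCodim RegImm.Kind.regular c f) (ι : Z ⟶ Y) [IsClosedImmersion ι] [IsIntegral Z] (d : ℕ) (hd : topologicalKrullDim Z = d) (T : Set ↥(pullback f ι)) (hT : T ∈ irreducibleComponents ↥(pullback f ι)) : ((d : ℕ) : WithBot ℕ∞) ≤ topologicalKrullDim ↥T + c := by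
  classical
  obtain ⟨himm, hloc⟩ := hreg
  haveI := himm
  haveI hqc : QuasiCompact f := by
    haveI : QuasiCompact (f ≫ gY) := by rw [hf]; infer_instance
    exact QuasiCompact.of_comp f gY
  have hemb : Topology.IsEmbedding (pullback.snd f ι) := (pullback.snd f ι).isEmbedding
  have hrange : Set.range (pullback.snd f ι) = ι ⁻¹' Set.range f := Scheme.Pullback.range_snd f ι
  -- the generic point of `T`
  have hTirr : IsIrreducible T := hT.1
  have hTcl : IsClosed T := isClosed_of_mem_irreducibleComponents T hT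
  have hgen : IsGenericPoint hTirr.genericPoint T := hTirr.isGenericPoint_genericPoint hTcl
  set t := hTirr.genericPoint with ht
  have htmax : ∀ t' : ↥(pullback f ι), t' ⤳ t → t' = t :=
    (Groth.Agent.Lib.Helper7.AffPts.closure_mem_irreducibleComponents_iff t).1
      (by rw [hgen.def]; exact hT)
  obtain ⟨x, hx⟩ : ι (pullback.snd f ι t) ∈ Set.range f := by
    have : pullback.snd f ι t ∈ Set.range (pullback.snd f ι) := ⟨t, rfl⟩
    rw [hrange] at this
    exact this
  obtain ⟨U, hyU, hci, rs, hlen, -, hker⟩ := hloc x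
  rw [hx] at hyU
  haveI := hci
  have hV : IsAffineOpen (ι ⁻¹ᵁ U.1) := U.2.preimage ι
  have hzV : pullback.snd f ι t ∈ ι ⁻¹ᵁ U.1 := hyU
  -- the images of the equations
  set J : Ideal Γ(Z, ι ⁻¹ᵁ U.1) := Ideal.span ((rs.map (ι.app U.1).hom).toFinset :
    Set Γ(Z, ι ⁻¹ᵁ U.1)) with hJ
  have hJle : ∀ p : Ideal Γ(Z, ι ⁻¹ᵁ U.1), J ≤ p ↔ ∀ r ∈ rs, (ι.app U.1).hom r ∈ p := by
    intro p
    rw [hJ, Ideal.span_le]
    constructor
    · intro h r hr
      apply h
      simp only [List.coe_toFinset, Set.mem_setOf_eq, List.mem_map]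
      exact ⟨r, hr, rfl⟩
    · intro h a ha
      simp only [List.coe_toFinset, Set.mem_setOf_eq, List.mem_map] at ha
      obtain ⟨r, hr, rfl⟩ := ha
      exact h r hr
  -- membership in the range of the projection
  have hS : ∀ (z' : Z) (hz' : z' ∈ ι ⁻¹ᵁ U.1), z' ∈ Set.range (pullback.snd f ι) ↔
      J ≤ (hV.primeIdealOf ⟨z', hz'⟩).asIdeal := by
    intro z' hz'
    have hz'U : ι z' ∈ U.1 := hz'
    rw [hrange, Set.mem_preimage,
      Groth.Agent.Lib.Helper7.VarDimEmb.mem_range_iff_of_isClosedImmersion_restrict f U (ι z')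
        hz'U, hker, hJle]
    show Ideal.span {r | r ∈ rs} ≤ _ ↔ _
    rw [Ideal.span_le]
    constructor
    · intro h r hr
      rw [Groth.Agent.Lib.Helper7.AffPts.mem_primeIdealOf_iff hV ⟨z', hz'⟩,
        ← Scheme.preimage_basicOpen]
      have := (Groth.Agent.Lib.Helper7.AffPts.mem_primeIdealOf_iff U.2 ⟨ι z', hz'U⟩ r).1 (h hr)
      exact this
    · intro h r hr
      rw [SetLike.mem_coe, Groth.Agent.Lib.Helper7.AffPts.mem_primeIdealOf_iff U.2 ⟨ι z', hz'U⟩]
      have := (Groth.Agent.Lib.Helper7.AffPts.mem_primeIdealOf_iff hV ⟨z', hz'⟩ _).1 (h r hr)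
      rw [← Scheme.preimage_basicOpen] at this
      exact this
  have hJz : J ≤ (hV.primeIdealOf ⟨pullback.snd f ι t, hzV⟩).asIdeal :=
    (hS _ hzV).1 ⟨t, rfl⟩
  -- the prime of `z` is minimal over `J`
  have hmin : (hV.primeIdealOf ⟨pullback.snd f ι t, hzV⟩).asIdeal ∈ J.minimalPrimes := by
    refine ⟨⟨(hV.primeIdealOf _).isPrime, hJz⟩, ?_⟩
    rintro Q ⟨hQp, hJQ⟩ hQle
    obtain ⟨z', hz'Q⟩ := Groth.Agent.Lib.Helper7.AffPts.primeIdealOf_surjective hV ⟨Q, hQp⟩
    have hz'Q' : (hV.primeIdealOf z').asIdeal = Q := congrArg PrimeSpectrum.asIdeal hz'Q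
    have hz'r : z'.1 ∈ Set.range (pullback.snd f ι) := by
      rw [hS z'.1 z'.2, hz'Q']; exact hJQ
    obtain ⟨t', ht'⟩ := hz'r
    have hsp : z'.1 ⤳ pullback.snd f ι t := by
      rw [← Groth.Agent.Lib.Helper7.AffPts.primeIdealOf_le_iff hV z' ⟨_, hzV⟩]
      show (hV.primeIdealOf z').asIdeal ≤ _
      rw [hz'Q']; exact hQle
    have hsp' : t' ⤳ t := by
      rw [← hemb.isInducing.specializes_iff, ht']; exact hsp
    have htt : t' = t := htmax t' hsp'
    have hzz : z' = ⟨pullback.snd f ι t, hzV⟩ := Subtype.ext (by rw [← ht', htt])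
    rw [← hz'Q', hzz]
  -- algebra structure
  letI : Z.Over (Spec (CommRingCat.of K)) := ⟨ι ≫ gY⟩
  haveI : LocallyOfFiniteType (Z ↘ Spec (CommRingCat.of K)) :=
    inferInstanceAs (LocallyOfFiniteType (ι ≫ gY))
  letI algD : Algebra K Γ(Z, ι ⁻¹ᵁ U.1) :=
    (Groth.Agent.Lib.Helper7.ResTrdeg.kToΓ K Z (ι ⁻¹ᵁ U.1)).toAlgebra
  haveI ft : Algebra.FiniteType K Γ(Z, ι ⁻¹ᵁ U.1) :=
    Groth.Agent.Lib.Helper7.ResTrdeg.finiteType_kToΓ K Z hV
  haveI : IsNoetherianRing Γ(Z, ι ⁻¹ᵁ U.1) := Algebra.FiniteType.isNoetherianRing K _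
  haveI hne : Nonempty ↥(ι ⁻¹ᵁ U.1) := ⟨⟨_, hzV⟩⟩
  haveI hdom : IsDomain Γ(Z, ι ⁻¹ᵁ U.1) := @IsIntegral.component_integral Z _ (ι ⁻¹ᵁ U.1) hne
  haveI hPp : (hV.primeIdealOf ⟨pullback.snd f ι t, hzV⟩).asIdeal.IsPrime :=
    (hV.primeIdealOf _).isPrime
  -- Krull's height theorem
  have hht : (hV.primeIdealOf ⟨pullback.snd f ι t, hzV⟩).asIdeal.height ≤ c := by
    have h1 := Ideal.height_le_card_of_mem_minimalPrimes_span_finset hmin
    have h2 : (rs.map (ι.app U.1).hom).toFinset.card ≤ c := by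
      refine (List.toFinset_card_le _).trans ?_
      rw [List.length_map, hlen]
    exact h1.trans (by exact_mod_cast h2)
  have hdimD : topologicalKrullDim Z = ringKrullDim Γ(Z, ι ⁻¹ᵁ U.1) :=
    Groth.Agent.Lib.Helper7.IMDim.dim_eq_of_isIntegral K Z ⟨_, hV⟩ _ hzV
  have hform := Groth.Agent.Lib.Helper7.AffDim.height_add_dim_quotient (k := K)
    Γ(Z, ι ⁻¹ᵁ U.1) (hV.primeIdealOf ⟨pullback.snd f ι t, hzV⟩).asIdeal
  -- lower bound for `dim T`
  have hlow := Groth.Agent.Lib.Helper7.VarDimEmb.dim_quotient_le_of_inducing hV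
    (pullback.snd f ι) hemb.isInducing t hzV (by
      intro x' hx'V hsp
      rw [hS x' hx'V]
      refine hJz.trans ?_
      exact (Groth.Agent.Lib.Helper7.AffPts.primeIdealOf_le_iff hV ⟨_, hzV⟩ ⟨x', hx'V⟩).2 hsp)
  rw [Groth.Agent.Lib.Helper7.IMDim.dim_congr hgen.def] at hlow
  rw [← hd, hdimD, ← hform, add_comm]
  refine add_le_add hlow ?_
  exact_mod_cast hht

end Groth.Agent.S6473
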