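import Groth.Statements.S6476
import Mathlib
import Groth.Agent.Lib.Helper22.DimOneCoker

set_option autoImplicit false
universe u v
open CycAlg

namespace Groth.Agent.S6476

open Groth.Agent.Lib.Helper22.DimOneCoker

/-- Let A be a Noetherian local ring, M a finite A-module of dimension 1, and φ, ψ : M → M injective
with φ(ψ(M)) = ψ(φ(M)) (e.g. φ, ψ commute). Then length_A(M/φψM) is finite and (M/φψM, φ, ψ) is an
exact (2, 1)-periodic complex; here φ', ψ' denote the endomorphisms of M/φψM induced by φ and ψ, and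
exactness says both cohomology modules (CycAlg.perH) are trivial. -/
theorem result {A : Type u} [CommRing A] [IsNoetherianRing A] [IsLocalRing A] {M : Type v} [AddCommGroup M] [Module A M] [Module.Finite A M] (hdim : Module.supportDim A M = 1) (φ ψ : M →ₗ[A] M) (hφ : Function.Injective φ) (hψ : Function.Injective ψ) (hcomm : Submodule.map φ (LinearMap.range ψ) = Submodule.map ψ (LinearMap.range φ)) (φ' ψ' : (M ⧸ LinearMap.range (φ ∘ₗ ψ)) →ₗ[A] (M ⧸ LinearMap.range (φ ∘ₗ ψ))) (hφ' : φ' ∘ₗ (LinearMap.range (φ ∘ₗ ψ)).mkQ = (LinearMap.range (φ ∘ₗ ψ)).mkQ ∘ₗ φ) (hψ' : ψ' ∘ₗ (LinearMap.range (φ ∘ₗ ψ)).mkQ = (LinearMap.range (φ ∘ₗ ψ)).mkQ ∘ₗ ψ) : Module.length A (M ⧸ LinearMap.range (φ ∘ₗ ψ)) < ⊤ ∧ CycAlg.IsPeriodic φ' ψ' ∧ Subsingleton (CycAlg.perH φ' ψ') ∧ Subsingleton (CycAlg.perH ψ' φ') := by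
  set π := (LinearMap.range (φ ∘ₗ ψ)).mkQ with hπ
  have hπs : Function.Surjective π := Submodule.mkQ_surjective _
  have h1 : ∀ m, φ' (π m) = π (φ m) := fun m => LinearMap.congr_fun hφ' m
  have h2 : ∀ m, ψ' (π m) = π (ψ m) := fun m => LinearMap.congr_fun hψ' m
  have hπ0 : ∀ m, π m = 0 ↔ m ∈ LinearMap.range (φ ∘ₗ ψ) := fun m => by
    rw [hπ, Submodule.mkQ_apply, Submodule.Quotient.mk_eq_zero]
  -- range (φ ∘ ψ) = map φ (range ψ) = map ψ (range φ)
  have hr1 : LinearMap.range (φ ∘ₗ ψ) = Submodule.map φ (LinearMap.range ψ) :=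
    LinearMap.range_comp ψ φ
  have hr2 : LinearMap.range (φ ∘ₗ ψ) = Submodule.map ψ (LinearMap.range φ) := hr1.trans hcomm
  refine ⟨?_, ⟨?_, ?_⟩, ?_, ?_⟩
  · have := isFiniteLength_coker_of_injective (le_of_eq hdim) (φ ∘ₗ ψ) (hφ.comp hψ)
    rw [← Module.length_ne_top_iff] at this
    exact lt_top_iff_ne_top.mpr this
  · apply LinearMap.ext
    intro x
    obtain ⟨m, rfl⟩ := hπs x
    rw [LinearMap.comp_apply, h2, h1, LinearMap.zero_apply, hπ0]
    exact ⟨m, rfl⟩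
  · apply LinearMap.ext
    intro x
    obtain ⟨m, rfl⟩ := hπs x
    rw [LinearMap.comp_apply, h1, h2, LinearMap.zero_apply, hπ0, hr2]
    exact ⟨φ m, ⟨m, rfl⟩, rfl⟩
  · rw [Submodule.Quotient.subsingleton_iff, Submodule.submoduleOf_eq_top]
    intro x hx
    obtain ⟨m, rfl⟩ := hπs x
    rw [LinearMap.mem_ker, h1, hπ0] at hx
    obtain ⟨m', hm'⟩ := hx
    have : m = ψ m' := hφ hm'.symm
    exact ⟨π m', by rw [h2, this]⟩
  · rw [Submodule.Quotient.subsingleton_iff, Submodule.submoduleOf_eq_top]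
    intro x hx
    obtain ⟨m, rfl⟩ := hπs x
    rw [LinearMap.mem_ker, h2, hπ0, hr2] at hx
    obtain ⟨y, ⟨m', rfl⟩, hm'⟩ := hx
    have : m = φ m' := hψ hm'.symm
    exact ⟨π m', by rw [h1, this]⟩

end Groth.Agent.S6476
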