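import Groth.Statements.S6482
import Mathlib

set_option autoImplicit false
universe u
open CategoryTheory AlgebraicGeometry
open CategoryTheory.Limits
open Cyc

namespace Groth.Agent.S6482

/-- Let f : Y → X be an envelope. Then f_* : Z_k(Y) → Z_k(X) is surjective, hence so is f_* : CH_k(Y) →
CH_k(X). An envelope is a proper, completely decomposed morphism (every point of the target has a
point over it with trivial residue field extension; this prelude's Cyc.IsCompletelyDecomposed). Here
a pair (X, δ) with Cyc.IsSetup plays the role of a scheme locally of finite type over the base (S,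
δ) (X locally Noetherian with universally catenary local rings, δ a dimension function), and
Cyc.DeltaCompat records that the dimension function upstairs is the induced one. -/
theorem result (X Y : Scheme.{u}) (δ : X → ℤ) (δY : Y → ℤ) (hX : Cyc.IsSetup X δ) (hY : Cyc.IsSetup Y δY) (f : Y ⟶ X) [IsProper f] (hcd : Cyc.IsCompletelyDecomposed f) (hδ : Cyc.DeltaCompat f δY δ) (k : ℤ) (α : AlgebraicCycle X ℤ) (hα : α ∈ Cyc.Zk X δ k) : ∃ β : AlgebraicCycle Y ℤ, β ∈ Cyc.Zk Y δY k ∧ AlgebraicCycle.map f δY δ β = α := by
  classical
  choose g hg hsurj using hcd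
  -- residue degree and δ at the chosen points
  have hdeg : ∀ x : X, f.residueDegree (g x) = 1 := by
    intro x
    unfold Scheme.Hom.residueDegree
    letI := (f.residueFieldMap (g x)).hom.toAlgebra
    have hbij : Function.Bijective (algebraMap (X.residueField (f (g x))) (Y.residueField (g x))) :=
      ⟨(f.residueFieldMap (g x)).hom.injective, hsurj x⟩
    have e : X.residueField (f (g x)) ≃ₗ[X.residueField (f (g x))] Y.residueField (g x) :=
      LinearEquiv.ofBijective (Algebra.linearMap _ _) hbij
    rw [← e.finrank_eq]
    exact Module.finrank_self _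
  have hδg : ∀ x : X, δY (g x) = δ (f (g x)) := by
    intro x
    obtain ⟨n, hn, hδn⟩ := hδ (g x)
    letI := (f.residueFieldMap (g x)).hom.toAlgebra
    haveI : Algebra.IsAlgebraic (X.residueField (f (g x))) (Y.residueField (g x)) :=
      haveI : Algebra.IsIntegral (X.residueField (f (g x))) (Y.residueField (g x)) :=
        Algebra.isIntegral_of_surjective (hsurj x)
      inferInstance
    have h0 : Algebra.trdeg (X.residueField (f (g x))) (Y.residueField (g x)) = 0 :=
      _root_.trdeg_eq_zero
    have hn0 : n = 0 := by
      have : (n : Cardinal) = 0 := by rw [← hn]; exact h0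
      exact_mod_cast this
    rw [hδn, hn0]
    simp
  let b : Y → ℤ := fun y => if y = g (f y) then α (f y) else 0
  have hbsupp : ∀ y, b y ≠ 0 → y = g (f y) ∧ α (f y) ≠ 0 := by
    intro y hy
    by_cases h : y = g (f y)
    · refine ⟨h, ?_⟩
      simpa [b, if_pos h] using hy
    · exact absurd (by simp [b, if_neg h]) hy
  let β : AlgebraicCycle Y ℤ :=
    { toFun := b
      supportWithinDomain' := Set.subset_univ _
      supportLocallyFiniteWithinDomain' := by
        intro y₀ _
        obtain ⟨W, hW, hfin⟩ := α.locallyFiniteSupport (f y₀)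
        refine ⟨f ⁻¹' W, f.continuous.continuousAt hW, ?_⟩
        refine (hfin.image g).subset ?_
        rintro y ⟨hyW, hy⟩
        obtain ⟨h1, h2⟩ := hbsupp y hy
        exact ⟨f y, ⟨hyW, h2⟩, h1.symm⟩ }
  have hβ : ∀ y, β y = b y := fun _ => rfl
  refine ⟨β, ?_, ?_⟩
  · intro y hy
    rw [hβ]
    by_cases h : y = g (f y)
    · simp only [b, if_pos h]
      apply hα
      rw [← hg (f y), ← hδg (f y), ← h]
      exact hy
    · simp [b, if_neg h]
  · ext x
    simp only [AlgebraicCycle.map, Function.locallyFinsupp.map_apply]
    have hsingle : ∀ y ∈ f ⁻¹' {x}, y ≠ g x →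
        β y * ((AlgebraicCycle.mapCoeff f δY δ y : ℕ) : ℤ) = 0 := by
      intro y hy hne
      have hfy : f y = x := hy
      rw [hβ]
      have : ¬ (y = g (f y)) := by rw [hfy]; exact hne
      simp [b, if_neg this]
    rw [finsum_mem_def, finsum_eq_single _ (g x), Set.indicator_of_mem (show g x ∈ f ⁻¹' {x} from hg x)]
    · rw [hβ]
      have h1 : g x = g (f (g x)) := by rw [hg x]
      unfold AlgebraicCycle.mapCoeff
      simp only [b]
      rw [if_pos h1, if_pos (hδg x), hdeg x, hg x]
      simp
    · intro y hne
      by_cases hy : y ∈ f ⁻¹' {x}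
      · rw [Set.indicator_of_mem hy]
        exact hsingle y hy hne
      · exact Set.indicator_of_notMem hy _

end Groth.Agent.S6482
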