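import Groth.Statements.S6493
import Mathlib.AlgebraicGeometry.Noetherian
import Mathlib.AlgebraicGeometry.Stalk
import Mathlib.AlgebraicGeometry.Morphisms.ClosedImmersion
import Mathlib.RingTheory.HopkinsLevitzki
import Mathlib.RingTheory.Length

set_option autoImplicit false
universe u
open CategoryTheory AlgebraicGeometry
open Cyc

namespace Groth.Agent.S6493

/-- Suppose Z ⊂ X is a closed subscheme whose δ-dimension is at most k, and pick a point ξ of Z
satisfying δ(ξ) = k. In that case Z has an irreducible component whose generic point is ξ; and at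
every generic point ξ' of an irreducible component of Z (every point of Z maximal under
generalization) the length of O_{Z,ξ'} over O_{X,ξ'} (= its length over itself) is finite. Here a
pair (X, δ) with Cyc.IsSetup plays the role of a scheme locally of finite type over the base (S, δ)
(X locally Noetherian with universally catenary local rings, δ a dimension function). -/
theorem result (X Z : Scheme.{u}) (δ : X → ℤ) (hX : Cyc.IsSetup X δ) (i : Z ⟶ X) [IsClosedImmersion i] (k : ℤ) (hZ : ∀ z : Z, δ (i z) ≤ k) (ξ : Z) (hξ : δ (i ξ) = k) : (∀ z : Z, z ⤳ ξ → z = ξ) ∧ ∀ ξ' : Z, (∀ z : Z, z ⤳ ξ' → z = ξ') → Module.length ↑(Z.presheaf.stalk ξ') ↑(Z.presheaf.stalk ξ') < ⊤ := by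
  haveI := hX.1
  haveI : IsLocallyNoetherian Z := LocallyOfFiniteType.isLocallyNoetherian i
  refine ⟨fun z hz => ?_, fun ξ' hξ' => ?_⟩
  · by_contra hne
    have h1 : i z ⤳ i ξ := hz.map i.continuous
    have h2 : i z ≠ i ξ := fun h => hne (i.isClosedEmbedding.injective h)
    have h3 := (hX.2.2 _ _ h1 h2).1
    have h4 := hZ z
    omega
  · haveI : Ring.KrullDimLE 0 (Z.presheaf.stalk ξ') := by
      rw [Ring.krullDimLE_zero_iff]
      intro I hI
      have h1 : Z.fromSpecStalk ξ' ⟨I, hI⟩ ∈ Set.range (Z.fromSpecStalk ξ') := Set.mem_range_self _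
      rw [Scheme.range_fromSpecStalk] at h1
      have h2 := hξ' _ h1
      have h2' : Z.fromSpecStalk ξ' ⟨I, hI⟩ =
          Z.fromSpecStalk ξ' (IsLocalRing.closedPoint (Z.presheaf.stalk ξ')) :=
        h2.trans Scheme.fromSpecStalk_closedPoint.symm
      have h3 := (Z.fromSpecStalk ξ').isEmbedding.injective h2'
      have h4 : I = IsLocalRing.maximalIdeal (Z.presheaf.stalk ξ') := congrArg PrimeSpectrum.asIdeal h3
      rw [h4]
      infer_instance
    haveI : IsArtinianRing (Z.presheaf.stalk ξ') := isArtinianRing_iff_krullDimLE_zero.2 inferInstance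
    exact lt_top_iff_ne_top.2 Module.length_ne_top

end Groth.Agent.S6493
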