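import Groth.Statements.S6495
import Groth.Agent.Lib.Helper18.Cyc.LimSurj
open Groth.Agent.Lib.Helper18.CycDiv IsLocalRing

set_option autoImplicit false
universe u
open CategoryTheory AlgebraicGeometry
open Cyc

namespace Groth.Agent.S6495

/-- Surjectivity of colim Z_k(X_i) → Z_k(X'): every k-cycle α' on the limit X' is g_i^*α for some i and
some k-cycle α on X_i, where g_i : X' → X_i is the projection and g_i^* the shift-0 base-change
pullback on coefficient functions. Setting: a directed inverse system (X_i) of quasi-compact schemes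
with affine flat transition morphisms and limit X' (a limit cone), each X_i and X' carrying a
dimension function with Cyc.IsSetup, and every transition map and every projection X' → X_i shifting
the dimension functions by c = 0 at generic points of fibres, so that the base-change pullbacks g^*
are Cyc.pullFun with shift 0. (The published statement takes X_i and X′ to be the base changes of
one quasi-compact scheme of finite type over a base S along S_i → S and lim S_i → S; this row allows
any such inverse system.) -/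
theorem result (I : Type u) [Preorder I] [IsDirected I (fun a b => a ≤ b)] [Nonempty I] (D : Iᵒᵖ ⥤ Scheme.{u}) (c : Limits.Cone D) (hc : Limits.IsLimit c) (haff : ∀ (i j : Iᵒᵖ) (f : i ⟶ j), IsAffineHom (D.map f)) (hflat : ∀ (i j : Iᵒᵖ) (f : i ⟶ j), Flat (D.map f)) (hqc : ∀ i, CompactSpace ↥(D.obj i)) (δ : (i : Iᵒᵖ) → ↥(D.obj i) → ℤ) (δ' : ↥c.pt → ℤ) (hset : ∀ i, Cyc.IsSetup (D.obj i) (δ i)) (hset' : Cyc.IsSetup c.pt δ') (hshift : ∀ (i j : Iᵒᵖ) (f : i ⟶ j) (x : ↥(D.obj i)), (∀ y, D.map f y = D.map f x → y ⤳ x → y = x) → δ i x = δ j (D.map f x)) (hflat' : ∀ i, Flat (c.π.app i)) (hshift' : ∀ (i : Iᵒᵖ) (x : ↥c.pt), (∀ y, c.π.app i y = c.π.app i x → y ⤳ x → y = x) → δ' x = δ i (c.π.app i x)) (k : ℤ) (α' : AlgebraicCycle c.pt ℤ) (hα' : α' ∈ Cyc.Zk c.pt δ' k) : ∃ (i : Iᵒᵖ) (α : AlgebraicCycle (D.obj i) ℤ), α ∈ Cyc.Zk (D.obj i) (δ i) k ∧ Cyc.pullFun (c.π.app i) δ' (δ i) 0 ⇑α = ⇑α' := by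
  classical
  haveI : ∀ {i j : Iᵒᵖ} (f : i ⟶ j), IsAffineHom (D.map f) := fun f => haff _ _ f
  haveI := hqc
  haveI : IsLocallyNoetherian c.pt := hset'.1
  haveI : CompactSpace c.pt := Scheme.compactSpace_of_isLimit D c hc
  haveI : Nonempty Iᵒᵖ := IsCofiltered.nonempty
  have hfin : (Function.support α').Finite := finite_support_of_compactSpace α'
  choose J hJ using exists_stage_unique D c hc δ' hset'.2.2 δ hflat' hshift'
  obtain ⟨i, hi⟩ := IsCofiltered.inf_objs_exists (hfin.toFinset.image J)
  let p : c.pt ⟶ D.obj i := c.π.app i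
  haveI : Flat p := hflat' i
  have hgood : ∀ x' ∈ Function.support α',
      Ideal.map (p.stalkMap x').hom (maximalIdeal ((D.obj i).presheaf.stalk (p x'))) =
        maximalIdeal (c.pt.presheaf.stalk x') ∧
      ∀ z, p z = p x' → δ' z = δ' x' → z = x' := by
    intro x' hx'
    obtain ⟨f⟩ := hi (Finset.mem_image_of_mem J (hfin.mem_toFinset.2 hx'))
    exact hJ x' i f
  let a : D.obj i → ℤ := fun y =>
    if h : ∃ x' ∈ Function.support α', p x' = y then α' h.choose else 0
  have ha_supp : Function.support a ⊆ p '' Function.support α' := by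
    intro y hy
    by_contra hne
    apply hy
    simp only [a]
    rw [dif_neg]
    rintro ⟨x', hx', rfl⟩
    exact hne ⟨x', hx', rfl⟩
  have hafin : (Function.support a).Finite := (hfin.image _).subset ha_supp
  let α : AlgebraicCycle (D.obj i) ℤ :=
    { toFun := a
      supportWithinDomain' := fun _ _ => trivial
      supportLocallyFiniteWithinDomain' := fun z _ =>
        ⟨Set.univ, Filter.univ_mem, by simpa using hafin⟩ }
  have hk : ∀ x' ∈ Function.support α', δ' x' = k := by
    intro x' hx'
    by_contra h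
    exact hx' (hα' x' h)
  have hmax : ∀ x' ∈ Function.support α', ∀ y, p y = p x' → y ⤳ x' → y = x' := by
    intro x' hx'
    apply (Groth.Agent.Lib.Helper18.CycPull.length_ne_top_iff_isMax p x').1
    rw [(hgood x' hx').1, length_quot_maximalIdeal]
    exact ENat.one_ne_top
  have hδ : ∀ x' ∈ Function.support α', δ i (p x') = k := by
    intro x' hx'
    rw [← hk x' hx']
    exact (hshift' i x' (hmax x' hx')).symm
  have ha_val : ∀ x' ∈ Function.support α', a (p x') = α' x' := by
    intro x' hx'
    have h : ∃ x'' ∈ Function.support α', p x'' = p x' := ⟨x', hx', rfl⟩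
    simp only [a]
    rw [dif_pos h]
    congr 1
    exact (hgood x' hx').2 _ h.choose_spec.2 ((hk _ h.choose_spec.1).trans (hk x' hx').symm)
  refine ⟨i, α, ?_, ?_⟩
  · intro y hy
    by_contra hne
    obtain ⟨x', hx', rfl⟩ := ha_supp hne
    exact hy (hδ x' hx')
  · funext z
    show Cyc.pullFun p δ' (δ i) 0 a z = α' z
    unfold Cyc.pullFun
    by_cases hz : z ∈ Function.support α'
    · rw [if_pos (by rw [hδ z hz, hk z hz, add_zero]), ha_val z hz, (hgood z hz).1,
        length_quot_maximalIdeal]
      simp
    · have hz0 : α' z = 0 := by simpa using hz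
      rw [hz0]
      split_ifs with hδz
      · have ha0 : a (p z) = 0 := by
          by_contra hne
          obtain ⟨x', hx', hx'z⟩ := ha_supp hne
          have hzx : z = x' := (hgood x' hx').2 z hx'z.symm
            (by rw [hδz, add_zero, ← hx'z, hδ x' hx', hk x' hx'])
          exact hz (hzx ▸ hx')
        rw [ha0, zero_mul]
      · rfl

end Groth.Agent.S6495
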