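import Groth.Statements.S6496
import Groth.Agent.Lib.Helper18.Cyc.LimCyc
open Groth.Agent.Lib.Helper18.CycDiv IsLocalRing

set_option autoImplicit false
universe u
open CategoryTheory AlgebraicGeometry
open Cyc

namespace Groth.Agent.S6496

/-- Injectivity of colim Z_k(X_i) → Z_k(X'): if a k-cycle α on X_i pulls back to the zero cycle on X',
then it pulls back to zero on some stage X_j above X_i. Setting: a directed inverse system (X_i) of
quasi-compact schemes with affine flat transition morphisms and limit X' (a limit cone), each X_i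
and X' carrying a dimension function with Cyc.IsSetup, and every transition map and every projection
X' → X_i shifting the dimension functions by c = 0 at generic points of fibres, so that the
base-change pullbacks g^* are Cyc.pullFun with shift 0. (The published statement takes X_i and X′ to
be the base changes of one quasi-compact scheme of finite type over a base S along S_i → S and lim
S_i → S; this row allows any such inverse system.) -/
theorem result (I : Type u) [Preorder I] [IsDirected I (fun a b => a ≤ b)] [Nonempty I] (D : Iᵒᵖ ⥤ Scheme.{u}) (c : Limits.Cone D) (hc : Limits.IsLimit c) (haff : ∀ (i j : Iᵒᵖ) (f : i ⟶ j), IsAffineHom (D.map f)) (hflat : ∀ (i j : Iᵒᵖ) (f : i ⟶ j), Flat (D.map f)) (hqc : ∀ i, CompactSpace ↥(D.obj i)) (δ : (i : Iᵒᵖ) → ↥(D.obj i) → ℤ) (δ' : ↥c.pt → ℤ) (hset : ∀ i, Cyc.IsSetup (D.obj i) (δ i)) (hset' : Cyc.IsSetup c.pt δ') (hshift : ∀ (i j : Iᵒᵖ) (f : i ⟶ j) (x : ↥(D.obj i)), (∀ y, D.map f y = D.map f x → y ⤳ x → y = x) → δ i x = δ j (D.map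 f x)) (hflat' : ∀ i, Flat (c.π.app i)) (hshift' : ∀ (i : Iᵒᵖ) (x : ↥c.pt), (∀ y, c.π.app i y = c.π.app i x → y ⤳ x → y = x) → δ' x = δ i (c.π.app i x)) (k : ℤ) (i : Iᵒᵖ) (α : AlgebraicCycle (D.obj i) ℤ) (hα : α ∈ Cyc.Zk (D.obj i) (δ i) k) (h0 : Cyc.pullFun (c.π.app i) δ' (δ i) 0 ⇑α = 0) : ∃ (j : Iᵒᵖ) (f : j ⟶ i), Cyc.pullFun (D.map f) (δ j) (δ i) 0 ⇑α = 0 := by
  classical
  haveI : ∀ {i j : Iᵒᵖ} (f : i ⟶ j), IsAffineHom (D.map f) := fun f => haff _ _ f
  haveI := hqc
  haveI : IsLocallyNoetherian c.pt := hset'.1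
  let p : c.pt ⟶ D.obj i := c.π.app i
  haveI : Flat p := hflat' i
  have hfin : (Function.support α).Finite := finite_support_of_compactSpace α
  have hout : ∀ ξ ∈ Function.support α, ξ ∉ Set.range (c.π.app i) := by
    intro ξ hξ hr
    obtain ⟨z, hz⟩ := pullFun_ne_zero_of_mem_range p δ' (δ i) 0
      (fun x hx => by rw [hshift' i x hx, add_zero]) α ξ hξ hr
    exact hz (congrFun h0 z)
  have hstage : ∀ ξ ∈ Function.support α, ∃ (j : Iᵒᵖ) (f : j ⟶ i),
      ∀ x, D.map f x ∉ closure {ξ} := by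
    intro ξ hξ
    let U : (D.obj i).Opens := ⟨(closure {ξ})ᶜ, isClosed_closure.isOpen_compl⟩
    have hU : c.π.app i ⁻¹ᵁ U = ⊤ := by
      ext s
      simp only [TopologicalSpace.Opens.map_coe, Set.mem_preimage, SetLike.mem_coe,
        TopologicalSpace.Opens.coe_top, Set.mem_univ, iff_true]
      intro hs
      obtain ⟨s', -, hs'ξ⟩ := Flat.generalizingMap p (specializes_iff_mem_closure.2 hs)
      exact hout ξ hξ ⟨s', hs'ξ⟩
    obtain ⟨j, f, hj⟩ := exists_map_eq_top D c hc U hU
    refine ⟨j, f, fun x hx => ?_⟩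
    have hxU : x ∈ D.map f ⁻¹ᵁ U := hj ▸ trivial
    exact hxU hx
  choose! J F hJF using hstage
  obtain ⟨j, hj⟩ := IsCofiltered.inf_objs_exists (insert i (hfin.toFinset.image J))
  have hji : Nonempty (j ⟶ i) := hj (Finset.mem_insert_self _ _)
  obtain ⟨f⟩ := hji
  refine ⟨j, f, ?_⟩
  have hzero : ∀ x : ↥(D.obj j), α (D.map f x) = 0 := by
    intro x
    by_contra hne
    have hξ : D.map f x ∈ Function.support α := hne
    have hmem : J (D.map f x) ∈ insert i (hfin.toFinset.image J) :=
      Finset.mem_insert_of_mem (Finset.mem_image_of_mem J (hfin.mem_toFinset.2 hξ))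
    obtain ⟨g⟩ := hj hmem
    have hfg : f = g ≫ F (D.map f x) hξ := Subsingleton.elim _ _
    have h1 := hJF (D.map f x) hξ (D.map g x)
    apply h1
    have h2 : D.map (F (D.map f x) hξ) (D.map g x) = D.map f x := by
      rw [← Scheme.Hom.comp_apply, ← D.map_comp, ← hfg]
    rw [h2]
    exact subset_closure rfl
  funext x
  unfold Cyc.pullFun
  rw [hzero x]
  simp

end Groth.Agent.S6496
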