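import Groth.Statements.S6497
import Groth.Agent.Lib.Helper18.Cyc.LimRat
import Groth.Agent.S6496
open Groth.Agent.Lib.Helper18.CycDiv IsLocalRing

set_option autoImplicit false
universe u
open CategoryTheory AlgebraicGeometry
open Cyc

namespace Groth.Agent.S6497

/-- Injectivity of colim CH_k(X_i) → CH_k(X'): if α ∈ Z_k(X_i) and g_i^*α ∼_rat 0 on X' (for a cycle
with the pulled-back coefficients), then for some stage X_j above X_i the pullback of α to X_j is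
∼_rat 0. Setting: a directed inverse system (X_i) of quasi-compact schemes with affine flat
transition morphisms and limit X' (a limit cone), each X_i and X' carrying a dimension function with
Cyc.IsSetup, and every transition map and every projection X' → X_i shifting the dimension functions
by c = 0 at generic points of fibres, so that the base-change pullbacks g^* are Cyc.pullFun with
shift 0. (The published statement takes X_i and X′ to be the base changes of one quasi-compact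
scheme of finite type over a base S along S_i → S and lim S_i → S; this row allows any such inverse
system.) -/
theorem result (I : Type u) [Preorder I] [IsDirected I (fun a b => a ≤ b)] [Nonempty I] (D : Iᵒᵖ ⥤ Scheme.{u}) (c : Limits.Cone D) (hc : Limits.IsLimit c) (haff : ∀ (i j : Iᵒᵖ) (f : i ⟶ j), IsAffineHom (D.map f)) (hflat : ∀ (i j : Iᵒᵖ) (f : i ⟶ j), Flat (D.map f)) (hqc : ∀ i, CompactSpace ↥(D.obj i)) (δ : (i : Iᵒᵖ) → ↥(D.obj i) → ℤ) (δ' : ↥c.pt → ℤ) (hset : ∀ i, Cyc.IsSetup (D.obj i) (δ i)) (hset' : Cyc.IsSetup c.pt δ') (hshift : ∀ (i j : Iᵒᵖ) (f : i ⟶ j) (x : ↥(D.obj i)), (∀ y, D.map f y = D.map f x → y ⤳ x → y = x) → δ i x = δ j (D.map f x)) (hflat' : ∀ i, Flat (c.π.app i)) (hshift' : ∀ (i : Iᵒᵖ) (x : ↥c.pt), (∀ y, c.π.app i y = c.π.app i x → y ⤳ x → y = x) → δ' x = δ i (c.π.app i x)) (k : ℤ) (i : Iᵒᵖ) (α : AlgebraicCycle (D.obj i) ℤ) (hα : α ∈ Cyc.Zk (D.obj i) (δ i) k) (α' : AlgebraicCycle c.pt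 ℤ) (hα' : ⇑α' = Cyc.pullFun (c.π.app i) δ' (δ i) 0 ⇑α) (h0 : Cyc.RatEquivZero δ' k α') : ∃ (j : Iᵒᵖ) (f : j ⟶ i) (αj : AlgebraicCycle (D.obj j) ℤ), ⇑αj = Cyc.pullFun (D.map f) (δ j) (δ i) 0 ⇑α ∧ Cyc.RatEquivZero (δ j) k αj := by
  classical
  haveI : ∀ {i j : Iᵒᵖ} (f : i ⟶ j), IsAffineHom (D.map f) := fun f => haff _ _ f
  haveI := hqc
  haveI : IsLocallyNoetherian c.pt := hset'.1
  haveI : ∀ i, IsLocallyNoetherian (D.obj i) := fun i => (hset i).1
  haveI : ∀ {i j : Iᵒᵖ} (f : i ⟶ j), Flat (D.map f) := fun f => hflat _ _ f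
  haveI : CompactSpace c.pt := Scheme.compactSpace_of_isLimit D c hc
  haveI : Nonempty Iᵒᵖ := IsCofiltered.nonempty
  obtain ⟨ι, ξ, f, hξδ, hf, hlf, hsum⟩ := h0
  haveI : Finite ι := finite_index_of_compactSpace ξ hlf
  haveI : Fintype ι := Fintype.ofFinite ι
  -- stages
  have hstage : ∀ l : ι, ∃ J : Iᵒᵖ, ∀ (j : Iᵒᵖ) (_ : j ⟶ J),
      (Ideal.map ((c.π.app j).stalkMap (ξ l)).hom
        (maximalIdeal ((D.obj j).presheaf.stalk (c.π.app j (ξ l)))) =
          maximalIdeal (c.pt.presheaf.stalk (ξ l)) ∧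
      ∀ z, c.π.app j z = c.π.app j (ξ l) → δ' z = δ' (ξ l) → z = ξ l) ∧
      f l ∈ ((c.π.app j).residueFieldMap (ξ l)).hom.range := by
    intro l
    obtain ⟨J₁, hJ₁⟩ := exists_stage_unique D c hc δ' hset'.2.2 δ hflat' hshift' (ξ l)
    obtain ⟨J₂, hJ₂⟩ := exists_stage_residueField D c hc (ξ l) (f l)
    obtain ⟨J, g₁, g₂, -⟩ := IsCofilteredOrEmpty.cone_objs J₁ J₂
    exact ⟨J, fun j g => ⟨hJ₁ j (g ≫ g₁), hJ₂ j (g ≫ g₂)⟩⟩
  choose J hJ using hstage
  obtain ⟨j₀, hj₀⟩ := IsCofiltered.inf_objs_exists (insert i (Finset.univ.image J))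
  obtain ⟨t⟩ := hj₀ (Finset.mem_insert_self _ _)
  let p : c.pt ⟶ D.obj j₀ := c.π.app j₀
  haveI : Flat p := hflat' j₀
  have hgood : ∀ l : ι,
      (Ideal.map (p.stalkMap (ξ l)).hom
        (maximalIdeal ((D.obj j₀).presheaf.stalk (p (ξ l)))) =
          maximalIdeal (c.pt.presheaf.stalk (ξ l)) ∧
      ∀ z, p z = p (ξ l) → δ' z = δ' (ξ l) → z = ξ l) ∧
      f l ∈ (p.residueFieldMap (ξ l)).hom.range := by
    intro l
    obtain ⟨g⟩ := hj₀ (Finset.mem_insert_of_mem (Finset.mem_image_of_mem J (Finset.mem_univ l)))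
    exact hJ l j₀ g
  choose fj hfj using fun l => (hgood l).2
  have hfj0 : ∀ l, fj l ≠ 0 := by
    intro l h0
    apply hf l
    rw [← hfj l, h0, map_zero]
  have hcp : ∀ x : c.pt, (∀ y, p y = p x → y ⤳ x → y = x) → δ' x = δ j₀ (p x) + 0 :=
    fun x hx => by rw [hshift' j₀ x hx, add_zero]
  have hmaxξ : ∀ l, ∀ y, p y = p (ξ l) → y ⤳ ξ l → y = ξ l := by
    intro l
    apply (Groth.Agent.Lib.Helper18.CycPull.length_ne_top_iff_isMax p (ξ l)).1
    rw [(hgood l).1.1, length_quot_maximalIdeal]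
    exact ENat.one_ne_top
  have hδξ : ∀ l, δ j₀ (p (ξ l)) = k + 1 := by
    intro l
    rw [← hξδ l]
    exact (hshift' j₀ (ξ l) (hmaxξ l)).symm
  -- the cycle B = Σ div(fj l) on stage j₀
  have hlf₀ : ∀ x : D.obj j₀, ∃ U : Set (D.obj j₀), IsOpen U ∧ x ∈ U ∧
      {l | (closure {p (ξ l)} ∩ U).Nonempty}.Finite :=
    fun x => ⟨Set.univ, isOpen_univ, Set.mem_univ x, Set.toFinite _⟩
  let Bfun : D.obj j₀ → ℤ := fun x => ∑ᶠ l, Cyc.divFun (δ j₀) (p (ξ l)) (fj l) x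
  have hBlf : LocallyFiniteSupport Bfun :=
    Groth.Agent.Lib.Helper18.CycDiv.locallyFiniteSupport_finsum_divFun'' (δ j₀)
      (fun l => p (ξ l)) fj hfj0 hlf₀
  let B : AlgebraicCycle (D.obj j₀) ℤ :=
    { toFun := Bfun
      supportWithinDomain' := fun _ _ => trivial
      supportLocallyFiniteWithinDomain' := fun z _ => hBlf z }
  have hBrat : Cyc.RatEquivZero (δ j₀) k B :=
    ⟨ι, fun l => p (ξ l), fj, hδξ, hfj0, hlf₀, fun x => rfl⟩
  -- the cycle A = t^* α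
  let A : AlgebraicCycle (D.obj j₀) ℤ :=
    { toFun := Cyc.pullFun (D.map t) (δ j₀) (δ i) 0 ⇑α
      supportWithinDomain' := fun _ _ => trivial
      supportLocallyFiniteWithinDomain' := fun z _ =>
        locallyFiniteSupport_pullFun (D.map t) (δ j₀) (δ i) 0 α z }
  have hctr : ∀ {a b : Iᵒᵖ} (s : a ⟶ b) (x : D.obj a),
      (∀ y, D.map s y = D.map s x → y ⤳ x → y = x) → δ a x = δ b (D.map s x) + 0 :=
    fun s x hx => by rw [hshift _ _ s x hx, add_zero]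
  have hAB : A - B ∈ Cyc.Zk (D.obj j₀) (δ j₀) k := by
    intro x hx
    rw [Function.locallyFinsuppWithin.coe_sub, Pi.sub_apply]
    have hA : A x = 0 := by
      show Cyc.pullFun (D.map t) (δ j₀) (δ i) 0 ⇑α x = 0
      unfold Cyc.pullFun
      split_ifs with hcond
      · rw [hα (D.map t x) (by rw [add_zero] at hcond; rw [← hcond]; exact hx), zero_mul]
      · rfl
    have hB : B x = 0 := by
      show (∑ᶠ l, Cyc.divFun (δ j₀) (p (ξ l)) (fj l) x) = 0
      apply finsum_eq_zero_of_forall_eq_zero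
      intro l
      apply divFun_eq_zero_of_ne
      rw [hδξ l]
      intro h
      apply hx
      omega
    rw [hA, hB, sub_zero]
  have hpA : Cyc.pullFun p δ' (δ j₀) 0 ⇑A = ⇑α' := by
    show Cyc.pullFun p δ' (δ j₀) 0 (Cyc.pullFun (D.map t) (δ j₀) (δ i) 0 ⇑α) = ⇑α'
    rw [pullFun_comp_bc p (D.map t) δ' (δ j₀) (δ i) hset'.2.2 (hset j₀).2.2 0 0 hcp (hctr t),
      hα', add_zero]
    have hw : p ≫ D.map t = c.π.app i := c.w t
    rw [hw]
  have hpB : Cyc.pullFun p δ' (δ j₀) 0 ⇑B = ⇑α' := by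
    funext z
    show Cyc.pullFun p δ' (δ j₀) 0 (fun x => ∑ᶠ l, Cyc.divFun (δ j₀) (p (ξ l)) (fj l) x) z = α' z
    rw [pullFun_finsum, hsum z]
    apply finsum_congr
    intro l
    rw [pullFun_divFun_of_unique p δ' (δ j₀) hset'.2.2 (hset j₀).2.2 hcp (ξ l) (hgood l).1.1
      (hgood l).1.2 (fj l) (hfj0 l), hfj l]
  have hγ0 : Cyc.pullFun (c.π.app j₀) δ' (δ j₀) 0 ⇑(A - B) = 0 := by
    show Cyc.pullFun p δ' (δ j₀) 0 ⇑(A - B) = 0
    rw [Function.locallyFinsuppWithin.coe_sub, pullFun_sub, hpA, hpB, sub_self]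
  obtain ⟨j₁, s, hs⟩ := Groth.Agent.S6496.result I D c hc haff hflat hqc δ δ' hset hset' hshift
    hflat' hshift' k j₀ (A - B) hAB hγ0
  rw [Function.locallyFinsuppWithin.coe_sub, pullFun_sub, sub_eq_zero] at hs
  let αj : AlgebraicCycle (D.obj j₁) ℤ :=
    { toFun := Cyc.pullFun (D.map (s ≫ t)) (δ j₁) (δ i) 0 ⇑α
      supportWithinDomain' := fun _ _ => trivial
      supportLocallyFiniteWithinDomain' := fun z _ =>
        locallyFiniteSupport_pullFun (D.map (s ≫ t)) (δ j₁) (δ i) 0 α z }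
  refine ⟨j₁, s ≫ t, αj, rfl, ?_⟩
  have hαjB : ⇑αj = Cyc.pullFun (D.map s) (δ j₁) (δ j₀) 0 ⇑B := by
    rw [← hs]
    show Cyc.pullFun (D.map (s ≫ t)) (δ j₁) (δ i) 0 ⇑α =
      Cyc.pullFun (D.map s) (δ j₁) (δ j₀) 0 (Cyc.pullFun (D.map t) (δ j₀) (δ i) 0 ⇑α)
    rw [pullFun_comp_bc (D.map s) (D.map t) (δ j₁) (δ j₀) (δ i) (hset j₁).2.2 (hset j₀).2.2 0 0
      (hctr s) (hctr t), add_zero, D.map_comp]
  have hfinal := ratEquivZero_pull_bc (D.map s) (δ j₁) (δ j₀) (hset j₁).2.2 (hset j₀).2.2 0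
    (hctr s) k B hBrat αj hαjB
  rwa [add_zero] at hfinal

end Groth.Agent.S6497
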