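import Groth.Statements.S6498
import Groth.Agent.Lib.Helper16.Coh2

set_option autoImplicit false
universe u
open CategoryTheory CategoryTheory.Limits AlgebraicGeometry
attribute [local instance] HasDerivedCategory.standard
open IntMult

namespace Groth.Agent.S6498

/-- Let X be a locally Noetherian scheme. If L and K lie in D^-_Coh(O_X) (bounded above with coherent
cohomology sheaves) then so does L ⊗^L_{O_X} K. Here K is presented by a cochain complex E and − ⊗^L
E is the prelude's total left derived functor DCoh.LTensorCx E, under its existence hypothesis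
DCoh.HasLTensorCx E. (Part (1), coherence of the Tor sheaves of two coherent modules, is not
stated.) -/
theorem result (X : Scheme.{u}) [IsLocallyNoetherian X] (E : CochainComplex X.Modules ℤ) [DCoh.HasLTensorCx E] (L : DCoh.D X) (hL : DCoh.IsCohD L) (hLb : ∃ a : ℤ, ∀ i, a < i → IsZero (DCoh.HD L i)) (hE : DCoh.IsCohD (DCoh.toD X E)) (hEb : ∃ b : ℤ, ∀ i, b < i → IsZero (DCoh.HD (DCoh.toD X E) i)) : DCoh.IsCohD ((DCoh.LTensorCx E).obj L) ∧ ∃ n : ℤ, ∀ i, n < i → IsZero (DCoh.HD ((DCoh.LTensorCx E).obj L) i) := by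
  obtain ⟨a, ha⟩ := hLb
  obtain ⟨b, hb⟩ := hEb
  have hLa : L.IsLE a := by
    rw [DerivedCategory.isLE_iff]
    exact fun i hi => ha i hi
  have hEb' : (DCoh.toD X E).IsLE b := by
    rw [DerivedCategory.isLE_iff]
    exact fun i hi => hb i hi
  refine ⟨fun i => (Groth.Agent.Lib.Helper16.CohT.isCohD_LTensorCx E L hL a hLa hE b hEb' i).1,
    a + b, fun i hi =>
      (Groth.Agent.Lib.Helper16.CohT.isCohD_LTensorCx E L hL a hLa hE b hEb' i).2 hi⟩

end Groth.Agent.S6498
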