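import Groth.Statements.S6499
import Groth.Agent.Lib.Helper6.DevChev
import Groth.Agent.Lib.Helper6.DevFin

set_option autoImplicit false
universe u
open CategoryTheory AlgebraicGeometry
open Cyc

namespace Groth.Agent.S6499

/-- Suppose X and Y are schemes locally of finite type over the base, and π : X → Y is a morphism
between them that is finite. Then π_* sends Coh_{≤k}(X) into Coh_{≤k}(Y): for F coherent on X with
dim_δ Supp(F) ≤ k, the direct image π_*F is coherent with dim_δ Supp(π_*F) ≤ k (Cyc.CohLe).
(Exactness of π_* and the commutative diagram with the cycle maps are not restated; the latter is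
the existing compatibility of [−]_k with π_*.) Here a pair (X, δ) with Cyc.IsSetup plays the role of
a scheme locally of finite type over the base (S, δ) (X locally Noetherian with universally catenary
local rings, δ a dimension function), and Cyc.DeltaCompat records that the dimension function
upstairs is the induced one. -/
theorem result (X Y : Scheme.{u}) (δX : X → ℤ) (δY : Y → ℤ) (hX : Cyc.IsSetup X δX) (hY : Cyc.IsSetup Y δY) (π : X ⟶ Y) [IsFinite π] (hδ : Cyc.DeltaCompat π δX δY) (k : ℤ) (F : X.Modules) (hF : Cyc.CohLe δX k F) : Cyc.CohLe δY k ((Coh.push π).obj F) := by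
  classical
  obtain ⟨hFc, hFd⟩ := hF
  haveI : IsLocallyNoetherian X := hX.1
  refine ⟨Groth.Agent.Lib.Helper6.DevChev.isCoh_push_of_isFinite π F hFc, ?_⟩
  intro y hy
  by_contra hcon
  have hnone : ∀ x : X, π x = y → ¬ Nontrivial (F.presheaf.stalk x) := by
    intro x hx hnt
    obtain ⟨n, -, hn⟩ := hδ x
    have h1 := hFd x hnt
    rw [hx] at hn
    omega
  have hcl : IsClosed (π '' CohB1.support F) :=
    π.isClosedMap _ (Groth.Agent.Lib.Helper6.DevCore.isClosed_support F hFc)
  let V : Y.Opens := ⟨(π '' CohB1.support F)ᶜ, hcl.isOpen_compl⟩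
  have hyV : y ∈ V := by
    rintro ⟨x, hxs, hxy⟩
    exact hnone x hxy (not_subsingleton_iff_nontrivial.1 hxs)
  have hzero : ∀ (W : Y.Opens), W ≤ V → ∀ t : Γ((Coh.push π).obj F, W), t = 0 := by
    intro W hW t
    exact Groth.Agent.Lib.Helper6.DevFin.section_eq_zero_of_notMem_support F (π ⁻¹ᵁ W)
      (fun x hx hxs => hW hx ⟨x, hxs, rfl⟩) t
  have hsub : Subsingleton (((Coh.push π).obj F).presheaf.stalk y) := by
    refine ⟨fun a b => ?_⟩
    have key : ∀ c : ((Coh.push π).obj F).presheaf.stalk y, c = 0 := by
      intro c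
      obtain ⟨W, hyW, t, rfl⟩ := TopCat.Presheaf.exists_germ_eq ((Coh.push π).obj F).presheaf c
      have hyWV : y ∈ W ⊓ V := ⟨hyW, hyV⟩
      have h1 := TopCat.Presheaf.germ_res_apply ((Coh.push π).obj F).presheaf
        (homOfLE (inf_le_left : W ⊓ V ≤ W)) y hyWV t
      have h2 := hzero (W ⊓ V) inf_le_right
        (((Coh.push π).obj F).presheaf.map (homOfLE (inf_le_left : W ⊓ V ≤ W)).op t)
      rw [← h1]
      erw [h2]
      exact map_zero _
    rw [key a, key b]
  exact not_subsingleton_iff_nontrivial.2 hy hsub

end Groth.Agent.S6499
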