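import Groth.Statements.S6500
import Groth.Agent.Lib.Helper5.RegSmoothScheme2
import Groth.Agent.Lib.Helper3.SchemeDim
import Groth.Agent.Lib.Helper7.IntMultDim
import Groth.Agent.S0563
import Groth.Agent.S14414

set_option autoImplicit false
universe u
open CategoryTheory CategoryTheory.Limits AlgebraicGeometry
attribute [local instance] HasDerivedCategory.standard
open IntMult

namespace Groth.Agent.S6500

/-- Let X be a nonsingular variety of dimension n and F, G coherent O_X-modules. The Tor sheaves
Tor_p^{O_X}(F, G), whose stalks are Tor_p^{O_{X,x}}(F_x, G_x), are nonzero only for p ∈ {0, …, n}: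
for every point x and every p > n, Tor_p^{O_{X,x}}(F_x, G_x) = 0. (Coherence of the Tor sheaves and
the support statement are not restated.) Nonsingular variety: X → Spec K smooth, separated,
quasi-compact, X integral, K algebraically closed; n = dim X. -/
theorem result (K : Type u) [Field K] [IsAlgClosed K] (X : Scheme.{u}) (f : X ⟶ Spec (CommRingCat.of K)) [Smooth f] [IsSeparated f] [QuasiCompact f] [IsIntegral X] (n : ℕ) (hn : topologicalKrullDim X = n) (F G : X.Modules) (hF : Coh.IsCoh F) (hG : Coh.IsCoh G) (x : X) (p : ℕ) (hp : n < p) : Subsingleton (DRing.Tor ↑(X.presheaf.stalk x) p ↑(F.presheaf.stalk x) ↑(G.presheaf.stalk x)) := by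
  haveI hreg : IsRegularLocalRing (X.presheaf.stalk x) :=
    Groth.Agent.Lib.Helper5.RegSmooth.regular_stalk_of_smooth K X f x
  have hle : ringKrullDim (X.presheaf.stalk x) ≤ (n : WithBot ℕ∞) := by
    rw [← hn, Groth.Agent.Lib.Helper3.topologicalKrullDim_eq_iSup_stalk]
    exact le_iSup (fun y : X => ringKrullDim (X.presheaf.stalk y)) x
  obtain ⟨d, hd, hdn⟩ := Groth.Agent.Lib.Helper7.IMDim.exists_nat_of_le _ n
    ringKrullDim_nonneg_of_nontrivial hle
  haveI hpd : HasProjectiveDimensionLE
      (ModuleCat.of (X.presheaf.stalk x) ↑(G.presheaf.stalk x)) d :=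
    Groth.Agent.S0563.result (X.presheaf.stalk x) d hd ↑(G.presheaf.stalk x)
  have hz := Groth.Agent.S14414.result (X.presheaf.stalk x)
    (ModuleCat.of (X.presheaf.stalk x) ↑(F.presheaf.stalk x))
    (ModuleCat.of (X.presheaf.stalk x) ↑(G.presheaf.stalk x)) d p (by omega)
  exact ModuleCat.subsingleton_of_isZero hz

end Groth.Agent.S6500
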