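import Groth.Statements.S6503
import Groth.Agent.Lib.Helper5.DiagD

set_option autoImplicit false
universe u
open TensorProduct
open LCI

namespace Groth.Agent.S6503

/-- Suppose A and B are Noetherian local rings and A → B is a local homomorphism making B a flat
A-algebra that is essentially of finite type, and regard B as an algebra over B ⊗_A B via the
multiplication map. If B has finite Tor-dimension over B ⊗_A B (the diagonal is a perfect ring map),
then there are a smooth A-algebra C and a prime ideal q of C such that B is an A-algebra
localization of C at q. -/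
theorem result {A B : Type u} [CommRing A] [CommRing B]
    [Algebra A B] [IsNoetherianRing A] [IsNoetherianRing B] [IsLocalRing A] [IsLocalRing B]
    [IsLocalHom (algebraMap A B)] [Module.Flat A B] [Algebra.EssFiniteType A B]
    [Algebra (B ⊗[A] B) B]
    (hmul : ∀ x y : B, algebraMap (B ⊗[A] B) B (x ⊗ₜ[A] y) = x * y)
    (h : DRing.HasFiniteTorDim (B ⊗[A] B) B) :
    ∃ (C : Type u) (_ : CommRing C) (_ : Algebra A C) (_ : Algebra C B) (_ : IsScalarTower A C B)
      (q : Ideal C) (_ : q.IsPrime), Algebra.Smooth A C ∧ IsLocalization.AtPrime B q := by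
  classical
  have hfs : Algebra.FormallySmooth A B :=
    Groth.Agent.Lib.Helper5.Diag.formallySmooth_of_diagonal hmul h
  let P := Algebra.EssFiniteType.subalgebra A B
  let M := Algebra.EssFiniteType.submonoid A B
  let q₀ : Ideal P := (IsLocalRing.maximalIdeal B).comap (algebraMap P B)
  haveI hq₀ : q₀.IsPrime := Ideal.comap_isPrime _ _
  haveI hloc0 : IsLocalization.AtPrime B q₀ :=
    Groth.Agent.Lib.Helper5.Diag.atPrime_of_isLocalRing M
  haveI hfpP : Algebra.FinitePresentation A P :=
    Algebra.FinitePresentation.of_finiteType.mp inferInstance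
  let e : B ≃ₐ[P] Localization.AtPrime q₀ := IsLocalization.algEquiv q₀.primeCompl _ _
  haveI hsmAt : Algebra.IsSmoothAt A q₀ := Algebra.FormallySmooth.of_equiv (e.restrictScalars A)
  obtain ⟨f, hf, hsm⟩ := Algebra.IsSmoothAt.exists_notMem_smooth A q₀
  have hfu : IsUnit (algebraMap P B f) :=
    IsLocalization.map_units B (⟨f, hf⟩ : q₀.primeCompl)
  letI algCB : Algebra (Localization.Away f) B := (IsLocalization.Away.lift f hfu).toAlgebra
  haveI t1 : IsScalarTower P (Localization.Away f) B :=
    IsScalarTower.of_algebraMap_eq fun x => (IsLocalization.Away.lift_eq f hfu x).symm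
  haveI t2 : IsScalarTower A (Localization.Away f) B :=
    IsScalarTower.of_algebraMap_eq fun a => by
      rw [IsScalarTower.algebraMap_apply A P (Localization.Away f),
        ← IsScalarTower.algebraMap_apply P (Localization.Away f) B,
        ← IsScalarTower.algebraMap_apply A P B]
  haveI hloc1 : IsLocalization ((q₀.primeCompl).map (algebraMap P (Localization.Away f))) B :=
    IsLocalization.isLocalization_of_submonoid_le (Localization.Away f) B (Submonoid.powers f)
      q₀.primeCompl ((Submonoid.powers_le).mpr hf)
  refine ⟨Localization.Away f, inferInstance, inferInstance, algCB, t2,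
    (IsLocalRing.maximalIdeal B).comap (algebraMap (Localization.Away f) B),
    Ideal.comap_isPrime _ _, hsm, ?_⟩
  exact Groth.Agent.Lib.Helper5.Diag.atPrime_of_isLocalRing
    ((q₀.primeCompl).map (algebraMap P (Localization.Away f)))

end Groth.Agent.S6503
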