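import Groth.Statements.S6514
import Groth.Agent.Lib.Helper16.PB1
import Groth.Agent.Lib.Helper16.Stk7
import Groth.Agent.Lib.Helper6.KInjAdj
import Groth.Agent.Lib.Helper1.LanExact

set_option autoImplicit false
universe u
open CategoryTheory
open DCoh

namespace Groth.Agent.S6514

section Helpers

open AlgebraicGeometry CategoryTheory.Limits Groth.Agent.Lib.Helper16.Stk

variable {X Y : Scheme.{u}} (f : X ⟶ Y) [Flat f]

lemma pullback_preservesMono : (Scheme.Modules.pullback f).PreservesMonomorphisms where
  preserves {M N} g _ := by
    apply mono_of_forall_stalk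
    intro x
    haveI : PreservesFiniteLimits (ModuleCat.extendScalars.{u, u, u} (φs f x)) :=
      ModuleCat.preservesFiniteLimits_extendScalars_of_flat (Flat.stalkMap f x)
    haveI : Mono ((stk (f x) ⋙ ModuleCat.extendScalars.{u, u, u} (φs f x)).map g) := by
      show Mono ((ModuleCat.extendScalars.{u, u, u} (φs f x)).map ((stk (f x)).map g))
      infer_instance
    have e := pullbackStkIso f x
    have hn : (stk x).map ((Scheme.Modules.pullback f).map g) =
        e.hom.app M ≫ (stk (f x) ⋙ ModuleCat.extendScalars.{u, u, u} (φs f x)).map g ≫
          e.inv.app N := by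
      have := e.hom.naturality g
      rw [← Category.assoc, ← this]
      simp
    rw [hn]
    have m1 : Mono (e.hom.app M) :=
      @IsIso.mono_of_iso _ _ _ _ (e.hom.app M) (Iso.isIso_hom (e.app M))
    have m3 : Mono (e.inv.app N) :=
      @IsIso.mono_of_iso _ _ _ _ (e.inv.app N) (Iso.isIso_inv (e.app N))
    exact mono_comp' m1 (mono_comp' this m3)

end Helpers

open AlgebraicGeometry in

open AlgebraicGeometry in
/-- If f : X → Y is a flat morphism of schemes and I is a K-injective complex of O_X-modules, then f_* I
(direct image applied termwise) is a K-injective complex of O_Y-modules. (The published statement is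
for flat morphisms of ringed spaces; this row is for flat morphisms of schemes.) -/
theorem result {X Y : Scheme.{u}} (f : X ⟶ Y) [Flat f]
    (I : CochainComplex X.Modules ℤ) (hI : I.IsKInjective) :
    CochainComplex.IsKInjective (((Scheme.Modules.pushforward f).mapHomologicalComplex (ComplexShape.up ℤ)).obj I) := by
  haveI := hI
  haveI : (Scheme.Modules.pullback f).PreservesMonomorphisms := pullback_preservesMono f
  let adj := Scheme.Modules.pullbackPushforwardAdjunction f
  haveI : (Scheme.Modules.pullback f).IsLeftAdjoint := adj.isLeftAdjoint
  haveI : (Scheme.Modules.pushforward f).IsRightAdjoint := adj.isRightAdjoint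
  haveI : (Scheme.Modules.pullback f).Additive := adj.left_adjoint_additive
  haveI : (Scheme.Modules.pushforward f).Additive := adj.right_adjoint_additive
  haveI : Limits.PreservesFiniteColimits (Scheme.Modules.pullback f) := by
    haveI : Limits.PreservesColimitsOfSize.{0, 0} (Scheme.Modules.pullback f) :=
      adj.leftAdjoint_preservesColimits
    exact Limits.PreservesColimitsOfSize.preservesFiniteColimits _
  haveI : Limits.PreservesFiniteLimits (Scheme.Modules.pullback f) :=
    Groth.Agent.Lib.Helper1.LanExact.preservesFiniteLimits_of_preservesMono _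
  exact Groth.Agent.Lib.Helper6.KInjAdj.isKInjective_map_of_adj adj
    (fun K hK => Groth.Agent.Lib.Helper6.KInjAdj.acyclic_map _ K hK) I

end Groth.Agent.S6514
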