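import Groth.Statements.S6532
import Groth.Agent.Lib.Helper7.KosFact

set_option autoImplicit false
universe u
open LCI

namespace Groth.Agent.S6532

/-- Let R' → R be a surjection of Noetherian rings whose kernel is generated by a single element f and
has square zero; let I ⊆ R be the image of the annihilator of f. Let S = R[x_1, …, x_n]/(f_1, …,
f_m) and let ∑ r_j f_j = 0 be a relation in R[x_1, …, x_n] such that (1) every coefficient of every
r_j lies in I, and (2) there are lifts r'_j, f'_j in R'[x_1, …, x_n] and an element g with ∑ r'_j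
f'_j = f g, where g maps to a non-nilpotent element of S/IS. Under these hypotheses, the
Tor-dimension of S over R is infinite (so S fails to be a perfect R-algebra). -/
theorem result {R' R : Type u} [CommRing R'] [CommRing R]
    [IsNoetherianRing R'] [IsNoetherianRing R] (π : R' →+* R) (hπ : Function.Surjective π)
    (f : R') (hker : RingHom.ker π = Ideal.span {f}) (hf : f * f = 0)
    {n m : ℕ} (fs r : Fin m → MvPolynomial (Fin n) R) (hrel : ∑ j, r j * fs j = 0)
    (h1 : ∀ (j : Fin m) (d : Fin n →₀ ℕ),
      MvPolynomial.coeff d (r j) ∈ ((Ideal.span {f}).annihilator).map π)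
    (r' f' : Fin m → MvPolynomial (Fin n) R') (g : MvPolynomial (Fin n) R')
    (hr' : ∀ j, MvPolynomial.map π (r' j) = r j) (hf' : ∀ j, MvPolynomial.map π (f' j) = fs j)
    (hsum : ∑ j, r' j * f' j = MvPolynomial.C f * g)
    (hg : ¬ IsNilpotent (Ideal.Quotient.mk
      (Ideal.span (Set.range fs) ⊔ (((Ideal.span {f}).annihilator).map π).map MvPolynomial.C)
      (MvPolynomial.map π g))) :
    ¬ DRing.HasFiniteTorDim R (MvPolynomial (Fin n) R ⧸ Ideal.span (Set.range fs)) := by
  rintro ⟨d, hd⟩
  letI : Algebra R' R := π.toAlgebra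
  have hπ' : Function.Surjective (algebraMap R' R) := hπ
  have hker' : RingHom.ker (algebraMap R' R) = Ideal.span {f} := hker
  -- lifts of `r j` with coefficients in the annihilator
  have hcomp : (MvPolynomial.map (algebraMap R' R)).comp (MvPolynomial.C (σ := Fin n)) =
      (MvPolynomial.C (σ := Fin n)).comp (algebraMap R' R) :=
    RingHom.ext fun x => MvPolynomial.map_C _ _
  have hmapmap : (((Ideal.span {f}).annihilator).map (algebraMap R' R)).map
      (MvPolynomial.C (σ := Fin n)) =
      (((Ideal.span {f}).annihilator).map (MvPolynomial.C (σ := Fin n))).map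
        (MvPolynomial.map (algebraMap R' R)) := by
    rw [Ideal.map_map, Ideal.map_map, hcomp]
  have hr_mem : ∀ j, r j ∈ (((Ideal.span {f}).annihilator).map
      (MvPolynomial.C (σ := Fin n))).map (MvPolynomial.map (algebraMap R' R)) := by
    intro j
    rw [← hmapmap]
    exact MvPolynomial.mem_map_C_iff.2 (h1 j)
  have hsurj : Function.Surjective (MvPolynomial.map (σ := Fin n) (algebraMap R' R)) :=
    MvPolynomial.map_surjective _ hπ'
  have hex : ∀ j, ∃ a ∈ ((Ideal.span {f}).annihilator).map (MvPolynomial.C (σ := Fin n)),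
      MvPolynomial.map (algebraMap R' R) a = r j := fun j =>
    (Ideal.mem_map_iff_of_surjective _ hsurj).1 (hr_mem j)
  choose a ha hamap using hex
  -- `r' j - a j` is a multiple of `C f`
  have hdiff : ∀ j, ∃ b, b * MvPolynomial.C f = r' j - a j := by
    intro j
    have h2 : r' j - a j ∈ RingHom.ker (MvPolynomial.map (σ := Fin n) (algebraMap R' R)) := by
      rw [RingHom.mem_ker, map_sub, hamap j]
      exact sub_eq_zero.2 (hr' j)
    rw [MvPolynomial.ker_map, hker', Ideal.map_span, Set.image_singleton,
      Ideal.mem_span_singleton'] at h2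
    exact h2
  choose b hb using hdiff
  set g₂ := g - ∑ j, b j * f' j with hg₂
  have hsum₂ : ∑ j, a j * f' j = MvPolynomial.C f * g₂ := by
    have h3 : ∀ j, a j * f' j = r' j * f' j - MvPolynomial.C f * (b j * f' j) := by
      intro j
      have := hb j
      have h4 : a j = r' j - b j * MvPolynomial.C f := by rw [this]; ring
      rw [h4]; ring
    rw [Finset.sum_congr rfl (fun j _ => h3 j), Finset.sum_sub_distrib, hsum, ← Finset.mul_sum,
      hg₂]
    ring
  have hTor : ∀ (N : Type u) [AddCommGroup N] [Module R N],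
      Subsingleton (DRing.Tor R (2 * d + 2)
        (MvPolynomial (Fin n) R ⧸ Ideal.span (Set.range fs)) N) := fun N _ _ =>
    hd N (2 * d + 2) (by omega)
  have hpow := Groth.Agent.Lib.Helper7.KosFact.pow_mem_of_subsingleton_Tor hπ' hker' hf fs a f' g₂
    ha hf' hsum₂ d hTor
  apply hg
  refine ⟨d + 1, ?_⟩
  rw [← map_pow]
  have h5 : Ideal.Quotient.mk
      (Ideal.span (Set.range fs) ⊔ (((Ideal.span {f}).annihilator).map π).map MvPolynomial.C)
      (MvPolynomial.map π g) = Ideal.Quotient.mk _ (MvPolynomial.map π g₂) := by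
    rw [Ideal.Quotient.eq]
    refine Ideal.mem_sup_left ?_
    have h6 : MvPolynomial.map π g - MvPolynomial.map π g₂ =
        ∑ j, MvPolynomial.map π (b j) * fs j := by
      rw [hg₂, map_sub, map_sum]
      simp only [map_mul]
      rw [sub_sub_cancel]
      exact Finset.sum_congr rfl (fun j _ => by rw [hf' j])
    rw [h6]
    refine Ideal.sum_mem _ (fun j _ => ?_)
    exact Ideal.mul_mem_left _ _ (Ideal.subset_span ⟨j, rfl⟩)
  rw [map_pow, h5, ← map_pow]
  exact Ideal.Quotient.eq_zero_iff_mem.2 hpow

end Groth.Agent.S6532
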