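import Groth.Statements.S6540
import Groth.Agent.Lib.Helper8.CurveRR

set_option autoImplicit false
universe u
open CategoryTheory CategoryTheory.Limits AlgebraicGeometry
open Curves

namespace Groth.Agent.S6540

/-- Let X be a proper curve over the field k (proper, integral, of dimension one) with H^0(X, O_X) = k
and genus 0. Then every invertible O_X-module of degree 0 is trivial, i.e. isomorphic to O_X. -/
theorem result (k : Type u) [Field k] (X : Scheme.{u}) [X.Over (Spec (CommRingCat.of k))]
    [IsIntegral X] [IsProper (X ↘ (Spec (CommRingCat.of k)))] (hdim : topologicalKrullDim X = 1)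
    (h0 : Module.finrank k (Coh.HH X (Coh.structureModule X) 0) = 1) (hg : Curv2.genus k X = 0)
    (L : X.Modules) (hL : PicF.IsInvertible L) (hdeg : Curv2.deg k X L 1 = 0) :
    Nonempty (L ≅ Coh.structureModule X) := by
  have hO := Groth.Agent.Lib.Helper8.CurveDeg.isInvertible_structureModule X
  have hcL := Groth.Agent.Lib.Helper6.K0Op.isCoh_of_isInvertible L hL
  have hcO := Groth.Agent.Lib.Helper6.K0Op.isCoh_of_isInvertible (Coh.structureModule X) hO
  have eO := Groth.Agent.Lib.Helper8.CurveRR.euler_eq_sub k X hdim.le (Coh.structureModule X) hcO.1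
  have eL := Groth.Agent.Lib.Helper8.CurveRR.euler_eq_sub k X hdim.le L hcL.1
  have hdeg' := hdeg
  unfold Curv2.genus at hg
  unfold Curv2.deg at hdeg'
  rw [eO, eL, h0, hg] at hdeg'
  haveI := Groth.Agent.Lib.Helper8.EulerK.finite_HH k X L hcL 0
  have hpos : 0 < Module.finrank k (Coh.HH X L 0) := by
    have : (0 : ℤ) < (Module.finrank k (Coh.HH X L 0) : ℤ) := by
      push_cast at hdeg'
      omega
    exact_mod_cast this
  have hnt : Nontrivial (Coh.HH X L 0) := Module.finrank_pos_iff.1 hpos
  obtain ⟨s, hs⟩ := Groth.Agent.Lib.Helper8.CurveRR.exists_section_ne_zero L hnt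
  obtain ⟨h1, h2⟩ := Groth.Agent.Lib.Helper8.CurveDeg.deg_le k X hdim.le (Coh.structureModule X) L
    hO hL s hs
  rw [Groth.Agent.Lib.Helper8.CurveDeg.deg_structureModule k X] at h1 h2
  haveI : IsIso s := h2 hdeg.symm
  exact ⟨(asIso s).symm⟩

end Groth.Agent.S6540
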