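import Groth.Statements.S6542
import Groth.Agent.Lib.Helper8.PointBundle
import Groth.Agent.Lib.Helper8.PointDeg
import Groth.Agent.Lib.Helper8.NormalPt
import Groth.Agent.Lib.Helper8.DegGroup
import Groth.Agent.S6541

set_option autoImplicit false
universe u
open CategoryTheory CategoryTheory.Limits AlgebraicGeometry
attribute [local instance] Curv2.resAlgebra
open Curves

namespace Groth.Agent.S6542

/-- Let X be a proper curve over the field k (proper, integral, of dimension one). If H^1(X, O_X) = 0
and there are closed points x_1, ..., x_n of X whose local rings are normal and whose residue-field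
degrees over k have greatest common divisor 1, then X is isomorphic to P^1_k over k. -/
theorem result (k : Type u) [Field k] (X : Scheme.{u}) [X.Over (Spec (CommRingCat.of k))]
    [IsIntegral X] [IsProper (X ↘ (Spec (CommRingCat.of k)))] (hdim : topologicalKrullDim X = 1)
    (h1 : Subsingleton (Coh.HH X (Coh.structureModule X) 1))
    (s : Finset X) (hcl : ∀ x ∈ s, IsClosed ({x} : Set X)) (hn : ∀ x ∈ s, IsIntegrallyClosed (X.presheaf.stalk x))
    (hgcd : s.gcd (fun x => Module.finrank k (X.residueField x)) = 1) :
    ∃ e : X ≅ CohB1.ProjSpace 1 k, e.hom ≫ CohB1.ProjSpace.toSpec 1 k = X ↘ (Spec (CommRingCat.of k)) := by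
  haveI : IsLocallyNoetherian X := Groth.Agent.Lib.Helper8.EulerK.isLocallyNoetherian k X
  have hmem : ∀ x ∈ s, ((Module.finrank k (X.residueField x) : ℕ) : ℤ) ∈
      Groth.Agent.Lib.Helper8.DegGroup.degSubgroup k X hdim.le := by
    intro x hxs
    have hx := hcl x hxs
    obtain ⟨h1, h2⟩ := Groth.Agent.Lib.Helper8.NormalPt.maximalIdeal_isPrincipal hdim.le x
      (Groth.Agent.Lib.Helper8.NormalPt.ne_genericPoint_of_isClosed hdim x hx) (hn x hxs)
    have hE := Groth.Agent.Lib.Helper8.PointCartier.isEffCartierIdeal_vanishingIdeal_singleton x hx h1 h2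
    obtain ⟨hL, hLD⟩ := Groth.Agent.Lib.Helper8.PointBundle.exists_inverse X _ hE
    have hd := Groth.Agent.Lib.Helper8.PointBundle.deg_inverse k X _ (fun z hz => by
      have hz' : z ∈ ((Scheme.IdealSheafData.vanishingIdeal ⟨{x}, hx⟩).support : Set X) := hz
      rw [Scheme.IdealSheafData.coe_support_vanishingIdeal] at hz'
      have : z = x := hz'
      rw [this]; exact hx) _ hL hLD
    rw [Groth.Agent.Lib.Helper8.PointDeg.finrank_quotMod_eq_finrank_residueField x hx k] at hd
    rw [← hd]
    exact Groth.Agent.Lib.Helper8.DegGroup.mem_degSubgroup k X hdim.le hL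
  have h1mem := Groth.Agent.Lib.Helper8.DegGroup.gcd_mem _ s
    (fun x => Module.finrank k (X.residueField x)) hmem
  rw [hgcd] at h1mem
  obtain ⟨L, hL, hdeg⟩ := h1mem
  exact Groth.Agent.S6541.result k X hdim h1 L hL (by simpa using hdeg)

end Groth.Agent.S6542
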