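import Groth.Statements.S6559
import Groth.Agent.Lib.Helper13.CodimOne

set_option autoImplicit false
universe u
open CategoryTheory CategoryTheory.Limits AlgebraicGeometry
open Curves

namespace Groth.Agent.S6559

/-- Let k be a field, X a curve over k (integral, separated and of finite type over k, of dimension
one), Y a proper variety over k (integral, proper over k), U ⊆ X a nonempty open and f : U → Y a
morphism over k. If the local ring of X at a closed point x is a discrete valuation ring, then f
extends to a k-morphism U' → Y on some open U' ⊇ U of X containing x. -/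
theorem result (k : Type u) [Field k]
    (X Y : Scheme.{u}) [X.Over (Spec (CommRingCat.of k))] [Y.Over (Spec (CommRingCat.of k))]
    [IsIntegral X] [IsSeparated (X ↘ (Spec (CommRingCat.of k)))] [LocallyOfFiniteType (X ↘ (Spec (CommRingCat.of k)))] [QuasiCompact (X ↘ (Spec (CommRingCat.of k)))] (hdX : topologicalKrullDim X = 1)
    [IsIntegral Y] [IsProper (Y ↘ (Spec (CommRingCat.of k)))]
    (U : X.Opens) (hU : (U : Set X).Nonempty) (f : (U : Scheme.{u}) ⟶ Y) (hf : f ≫ (Y ↘ (Spec (CommRingCat.of k))) = U.ι ≫ (X ↘ (Spec (CommRingCat.of k))))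
    (x : X) (hx : IsClosed ({x} : Set X)) (hdvr : IsDiscreteValuationRing (X.presheaf.stalk x)) :
    ∃ (U' : X.Opens) (hUU' : U ≤ U') (f' : (U' : Scheme.{u}) ⟶ Y), x ∈ U' ∧
      f' ≫ (Y ↘ (Spec (CommRingCat.of k))) = U'.ι ≫ (X ↘ (Spec (CommRingCat.of k))) ∧ X.homOfLE hUU' ≫ f' = f := by
  haveI : IsLocallyNoetherian X :=
    LocallyOfFiniteType.isLocallyNoetherian (X ↘ (Spec (CommRingCat.of k)))
  have hUd : Dense (U : Set X) := U.isOpen.dense hU
  have hcl : IsClosedMap (pullback.fst (X ↘ (Spec (CommRingCat.of k)))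
      (Y ↘ (Spec (CommRingCat.of k)))).base :=
    (pullback.fst (X ↘ (Spec (CommRingCat.of k))) (Y ↘ (Spec (CommRingCat.of k)))).isClosedMap
  obtain ⟨U', hUU', s', hs'1, hs'2, hS⟩ :=
    Groth.Agent.Lib.Helper13.CodimOne.exists_extension
      (pullback.fst (X ↘ (Spec (CommRingCat.of k))) (Y ↘ (Spec (CommRingCat.of k)))) hcl U hUd
      (pullback.lift U.ι f hf.symm) (pullback.lift_fst _ _ _) {x}
      (fun y hy => by
        rw [Set.mem_singleton_iff] at hy
        subst hy
        exact ⟨inferInstance, inferInstance⟩)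
  refine ⟨U', hUU', s' ≫ pullback.snd _ _, hS x rfl, ?_, ?_⟩
  · rw [Category.assoc, ← pullback.condition, ← Category.assoc, hs'1]
  · rw [← Category.assoc, hs'2, pullback.lift_snd]

end Groth.Agent.S6559
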