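import Groth.Statements.S6564
import Mathlib
-- import your own Groth.Agent.* helpers here

set_option autoImplicit false
universe u
open CategoryTheory CategoryTheory.Limits AlgebraicGeometry
open Curves

namespace Groth.Agent.S6564

section H
namespace W24

theorem main (k : Type u) [Field k] (X : Scheme.{u}) [X.Over (Spec (CommRingCat.of k))]
    (d r : ℕ) (L : X.Modules) (σ : Fin (r + 1) → LinSer.Sect X L) (hL : LinSer.IsLinSer k X L d r σ)
    (s : ℕ) (hs : s ≤ r) :
    ∃ (L' : X.Modules) (τ : Fin (s + 1) → LinSer.Sect X L'), LinSer.IsLinSer k X L' d s τ := by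
  classical
  obtain ⟨h1, h2, h3⟩ := hL
  have hle : s + 1 ≤ r + 1 := Nat.succ_le_succ hs
  refine ⟨L, fun i => σ (Fin.castLE hle i), h1, h2, ?_⟩
  intro c hc
  -- extend by zero
  let c' : Fin (r + 1) → k := fun j => if h : (j : ℕ) < s + 1 then c ⟨j, h⟩ else 0
  have hc' : c' = 0 := by
    apply h3
    have hinj : Function.Injective (Fin.castLE hle) := Fin.castLE_injective hle
    rw [← Finset.sum_subset (Finset.subset_univ (Finset.univ.image (Fin.castLE hle)))]
    · rw [Finset.sum_image (fun a _ b _ hab => hinj hab)]
      rw [← hc]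
      refine Finset.sum_congr rfl (fun i _ => ?_)
      have : c' (Fin.castLE hle i) = c i := by
        simp only [c', Fin.val_castLE, i.isLt, dif_pos]
      rw [this]
    · intro j _ hj
      have hjs : ¬ ((j : ℕ) < s + 1) := by
        intro hlt
        apply hj
        rw [Finset.mem_image]
        exact ⟨⟨j, hlt⟩, Finset.mem_univ _, Fin.ext rfl⟩
      have : c' j = 0 := by simp only [c', hjs, dif_neg, not_false_iff]
      rw [this, map_zero, zero_smul]
  funext i
  have := congrFun hc' (Fin.castLE hle i)
  simp only [c', Fin.val_castLE, i.isLt, dif_pos, Pi.zero_apply] at this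
  exact this

end W24
end H


/-- Let X be proper over the field k of dimension at most 1. If X has a g^r_d (an invertible module L of
degree d with an ordered family of r + 1 global sections linearly independent over k), then X has a
g^s_d for every 0 ≤ s ≤ r. -/
theorem result (k : Type u) [Field k] (X : Scheme.{u}) [X.Over (Spec (CommRingCat.of k))] [IsProper (X ↘ (Spec (CommRingCat.of k)))] (hdim : topologicalKrullDim X ≤ 1)
    (d r : ℕ) (L : X.Modules) (σ : Fin (r + 1) → LinSer.Sect X L) (hL : LinSer.IsLinSer k X L d r σ)
    (s : ℕ) (hs : s ≤ r) :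
    ∃ (L' : X.Modules) (τ : Fin (s + 1) → LinSer.Sect X L'), LinSer.IsLinSer k X L' d s τ := by
  exact W24.main k X d r L σ hL s hs

end Groth.Agent.S6564
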