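import Groth.Statements.S6580
import Mathlib.Tactic.NoncommRing

set_option autoImplicit false
universe v u
open CategoryTheory CategoryTheory.Limits
open CohDer

namespace Groth.Agent.S6580

open CategoryTheory.Pretriangulated in
/-- Let (X, Y, Z, f, g, h) be a distinguished triangle of a pretriangulated category, and let a : X ⟶ X
and c : Z ⟶ Z be idempotents with h ≫ a⟦1⟧ = c ≫ h. Then there is an idempotent b : Y ⟶ Y such that
(a, b, c) is an endomorphism of the triangle. -/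
theorem result {D : Type u} [Category.{v} D] [Preadditive D] [HasZeroObject D] [HasShift D ℤ]
    [∀ n : ℤ, (shiftFunctor D n).Additive] [Pretriangulated D]
    (T : Triangle D) (hT : T ∈ distinguishedTriangles) (a : T.obj₁ ⟶ T.obj₁) (c : T.obj₃ ⟶ T.obj₃)
    (ha : a ≫ a = a) (hc : c ≫ c = c) (comm : T.mor₃ ≫ (shiftFunctor D (1 : ℤ)).map a = c ≫ T.mor₃) :
    ∃ b : T.obj₂ ⟶ T.obj₂, b ≫ b = b ∧ T.mor₁ ≫ b = a ≫ T.mor₁ ∧ T.mor₂ ≫ c = b ≫ T.mor₂ := by
  obtain ⟨b', hb1, hb2⟩ := complete_distinguished_triangle_morphism₂ T T hT hT a c comm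
  have hb1' : T.mor₁ ≫ b' ≫ b' = a ≫ T.mor₁ := by
    rw [← Category.assoc, hb1, Category.assoc, hb1, ← Category.assoc, ha]
  have hb1'' : T.mor₁ ≫ b' ≫ b' ≫ b' = a ≫ T.mor₁ := by
    rw [← Category.assoc, hb1, Category.assoc, hb1', ← Category.assoc, ha]
  have hb2' : (b' ≫ b') ≫ T.mor₂ = T.mor₂ ≫ c := by
    rw [Category.assoc, ← hb2, ← Category.assoc, ← hb2, Category.assoc, hc]
  have hb2'' : (b' ≫ b' ≫ b') ≫ T.mor₂ = T.mor₂ ≫ c := by
    calc (b' ≫ b' ≫ b') ≫ T.mor₂ = b' ≫ ((b' ≫ b') ≫ T.mor₂) := by simp only [Category.assoc]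
      _ = b' ≫ T.mor₂ ≫ c := by rw [hb2']
      _ = (b' ≫ T.mor₂) ≫ c := by rw [Category.assoc]
      _ = T.mor₂ ≫ c := by rw [← hb2, Category.assoc, hc]
  have hfd : T.mor₁ ≫ (b' ≫ b' - b') = 0 := by
    rw [Preadditive.comp_sub, hb1', hb1, sub_self]
  have hdg : (b' ≫ b' - b') ≫ T.mor₂ = 0 := by
    rw [Preadditive.sub_comp, hb2', hb2, sub_self]
  obtain ⟨d', hd'⟩ := Triangle.yoneda_exact₂ T hT _ hfd
  have hdd : (b' ≫ b' - b') ≫ (b' ≫ b' - b') = 0 := by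
    calc (b' ≫ b' - b') ≫ (b' ≫ b' - b') = (b' ≫ b' - b') ≫ (T.mor₂ ≫ d') := by rw [← hd']
      _ = 0 := by rw [← Category.assoc, hdg, zero_comp]
  let x : End T.obj₂ := b'
  have hx : (x * x - x) * (x * x - x) = 0 := hdd
  let bb : End T.obj₂ := 3 • (x * x) - 2 • (x * x * x)
  have hbb : bb * bb = bb := by
    have key : bb * bb - bb = (x * x - x) * (x * x - x) * (4 • (x * x) - 4 • x - 3) := by
      simp only [bb]
      noncomm_ring
    rw [hx, zero_mul] at key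
    exact sub_eq_zero.mp key
  refine ⟨bb, hbb, ?_, ?_⟩
  · change T.mor₁ ≫ (3 • (b' ≫ b') - 2 • (b' ≫ b' ≫ b')) = a ≫ T.mor₁
    rw [Preadditive.comp_sub, Preadditive.comp_nsmul, Preadditive.comp_nsmul, hb1', hb1'']
    abel
  · change T.mor₂ ≫ c = (3 • (b' ≫ b') - 2 • (b' ≫ b' ≫ b')) ≫ T.mor₂
    rw [Preadditive.sub_comp, Preadditive.nsmul_comp, Preadditive.nsmul_comp, hb2', hb2'']
    abel

end Groth.Agent.S6580
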