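import Groth.Statements.S6583
-- import your own Groth.Agent.* helpers here

set_option autoImplicit false
universe v u v' u'
open CategoryTheory CategoryTheory.Limits
open CohDer
open scoped ZeroObject

namespace Groth.Agent.S6583

open CategoryTheory.Pretriangulated in
/-- Let H : D ⥤ A be a homological functor from a pretriangulated category to an abelian category. The
full subcategory of D on the objects X with H(X⟦n⟧) = 0 for all n ≪ 0 is a strictly full
pretriangulated subcategory (zero object, stable under shifts and isomorphisms, closed under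
extensions) and is saturated: if X ⊞ Y belongs to it then so do X and Y. -/
theorem result {D : Type u} [Category.{v} D] [Preadditive D] [HasZeroObject D] [HasShift D ℤ]
    [∀ n : ℤ, (shiftFunctor D n).Additive] [Pretriangulated D]
    {A : Type u'} [Category.{v'} A] [Abelian A] (H : D ⥤ A) [H.IsHomological] :
    (ObjectProperty.IsTriangulated (fun X : D => ∃ N : ℤ, ∀ n : ℤ, n ≤ N → IsZero (H.obj ((shiftFunctor D n).obj X)))) ∧
    (ObjectProperty.IsClosedUnderIsomorphisms (fun X : D => ∃ N : ℤ, ∀ n : ℤ, n ≤ N → IsZero (H.obj ((shiftFunctor D n).obj X)))) ∧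
    (∀ X Y : D, (∃ N : ℤ, ∀ n : ℤ, n ≤ N → IsZero (H.obj ((shiftFunctor D n).obj (X ⊞ Y)))) →
      (∃ N : ℤ, ∀ n : ℤ, n ≤ N → IsZero (H.obj ((shiftFunctor D n).obj X))) ∧
      (∃ N : ℤ, ∀ n : ℤ, n ≤ N → IsZero (H.obj ((shiftFunctor D n).obj Y)))) := by
  have hiso : ObjectProperty.IsClosedUnderIsomorphisms
      (fun X : D => ∃ N : ℤ, ∀ n : ℤ, n ≤ N → IsZero (H.obj ((shiftFunctor D n).obj X))) :=
    ⟨fun {X Y} e ⟨N, hN⟩ => ⟨N, fun n hn =>
      (hN n hn).of_iso ((shiftFunctor D n ⋙ H).mapIso e.symm)⟩⟩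
  have hretract : ∀ (X Y : D) (i : X ⟶ Y) (r : Y ⟶ X), i ≫ r = 𝟙 X →
      (∃ N : ℤ, ∀ n : ℤ, n ≤ N → IsZero (H.obj ((shiftFunctor D n).obj Y))) →
      (∃ N : ℤ, ∀ n : ℤ, n ≤ N → IsZero (H.obj ((shiftFunctor D n).obj X))) := by
    rintro X Y i r hir ⟨N, hN⟩
    refine ⟨N, fun n hn => ?_⟩
    rw [IsZero.iff_id_eq_zero, ← H.map_id, ← (shiftFunctor D n).map_id, ← hir,
      (shiftFunctor D n).map_comp, H.map_comp,
      (hN n hn).eq_of_tgt (H.map ((shiftFunctor D n).map i)) 0, zero_comp]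
  refine ⟨?_, hiso, ?_⟩
  · exact
    { exists_zero := ⟨(0 : D), isZero_zero D, 0, fun n _ =>
        H.map_isZero ((shiftFunctor D n).map_isZero (isZero_zero D))⟩
      isStableUnderShiftBy := fun a => ⟨fun X ⟨N, hN⟩ => ⟨N - a, fun n hn =>
        (hN (a + n) (by lia)).of_iso (H.mapIso ((shiftFunctorAdd' D a n (a + n) rfl).app X).symm)⟩⟩
      toIsTriangulatedClosed₂ := ObjectProperty.IsTriangulatedClosed₂.mk'
        (fun T hT ⟨N₁, h₁⟩ ⟨N₃, h₃⟩ => ⟨min N₁ N₃, fun n hn =>
          (H.map_distinguished_exact _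
            (Triangle.shift_distinguished T hT n)).isZero_of_both_zeros
              ((h₁ n (le_trans hn (min_le_left _ _))).eq_of_src _ _)
              ((h₃ n (le_trans hn (min_le_right _ _))).eq_of_tgt _ _)⟩) }
  · intro X Y h
    exact ⟨hretract X (X ⊞ Y) biprod.inl biprod.fst (by simp) h,
      hretract Y (X ⊞ Y) biprod.inr biprod.snd (by simp) h⟩

end Groth.Agent.S6583
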