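import Groth.Statements.S6585
import Mathlib.CategoryTheory.Triangulated.Orthogonal

set_option autoImplicit false
universe v u
open CategoryTheory CategoryTheory.Limits
open CohDer

namespace Groth.Agent.S6585

open CategoryTheory.Pretriangulated in
/-- Let D be a triangulated category and E, K objects of D. Then Hom(E, K⟦i⟧) = 0 for all integers i if
and only if Hom(E', K) = 0 for every E' in ⟨E⟩, the smallest strictly full saturated triangulated
subcategory of D containing E (the objects obtained from E by shifts, finite direct sums, direct
summands and extensions). -/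
theorem result {D : Type u} [Category.{v} D] [Preadditive D] [HasZeroObject D] [HasShift D ℤ]
    [∀ n : ℤ, (shiftFunctor D n).Additive] [Pretriangulated D] [IsTriangulated D]
    (E K : D) :
    (∀ (i : ℤ) (f : E ⟶ (shiftFunctor D i).obj K), f = 0) ↔
      ∀ (E' : D), (ObjectProperty.singleton E).triangEnvelope E' → ∀ f : E' ⟶ K, f = 0 := by
  constructor
  · intro h
    let PK : ObjectProperty D := (ObjectProperty.singleton K).shiftClosure ℤ
    have hQr : PK.leftOrthogonal.IsStableUnderRetracts := ⟨fun {X Y} r hY Z f hZ => by
      have h0 : r.r ≫ f = 0 := hY _ hZ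
      calc f = (r.i ≫ r.r) ≫ f := by rw [r.retract, Category.id_comp]
        _ = 0 := by rw [Category.assoc, h0, comp_zero]⟩
    have hQt : PK.leftOrthogonal.IsTriangulated := inferInstance
    have hE : ObjectProperty.singleton E ≤ PK.leftOrthogonal := by
      rw [ObjectProperty.singleton_le_iff]
      rintro Y f ⟨K', i, e, hK'⟩
      rw [ObjectProperty.singleton_iff] at hK'
      subst hK'
      have h1 := h i (f ≫ e.hom)
      rw [← cancel_mono e.hom, h1, zero_comp]
    have h2 := (ObjectProperty.triangEnvelope_le_iff (P := ObjectProperty.singleton E)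
      (Q := PK.leftOrthogonal)).2 hE
    intro E' hE' f
    exact h2 E' hE' f ((ObjectProperty.singleton K).le_shiftClosure (A := ℤ) K ((ObjectProperty.singleton_iff K K).2 rfl))
  · intro h i f
    have h1 : (ObjectProperty.singleton E).triangEnvelope (E⟦-i⟧) :=
      (ObjectProperty.singleton E).triangEnvelope.le_shift (-i) _
        ((ObjectProperty.singleton E).le_triangEnvelope E ((ObjectProperty.singleton_iff E E).2 rfl))
    have h2 := h _ h1 (f⟦-i⟧' ≫ (shiftFunctorCompIsoId D i (-i) (by simp)).hom.app K)
    have h3 : f⟦-i⟧' = 0 := by
      rw [← cancel_mono ((shiftFunctorCompIsoId D i (-i) (by simp)).hom.app K), h2, zero_comp]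
    exact (shiftFunctor D (-i)).map_injective (by rw [h3, Functor.map_zero])

end Groth.Agent.S6585
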