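import Groth.Statements.S6586
-- import your own Groth.Agent.* helpers here
import Mathlib

set_option autoImplicit false
universe v u
open CategoryTheory CategoryTheory.Limits
open CohDer

namespace Groth.Agent.S6586

/-- Fix a triangulated category D together with an object E in it. Suppose E classically generates D,
i.e. ⟨E⟩ = D; then E is a generator of D: an object K with Hom(E, K⟦n⟧) = 0 for all n is zero. -/
theorem result {D : Type u} [Category.{v} D] [Preadditive D] [HasZeroObject D] [HasShift D ℤ]
    [∀ n : ℤ, (shiftFunctor D n).Additive] [Pretriangulated D] [IsTriangulated D]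
    (E : D) (hE : (ObjectProperty.singleton E).IsClassicalTriangulatedGenerator) :
    CohDer.Generates (fun _ : PUnit.{1} => E) := by
  intro K hK
  let P : ObjectProperty D := (ObjectProperty.singleton K).shiftClosure ℤ
  have hretr : P.leftOrthogonal.IsStableUnderRetracts := ⟨fun {X Y} r hY Z f hZ => by
    have h1 : f = r.i ≫ (r.r ≫ f) := by rw [← Category.assoc, r.retract, Category.id_comp]
    rw [h1, hY (r.r ≫ f) hZ, comp_zero]⟩
  have hEQ : ObjectProperty.singleton E ≤ P.leftOrthogonal := by
    intro X hX Z f hZ
    rw [ObjectProperty.singleton_iff] at hX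
    subst hX
    obtain ⟨Y, a, e, hY⟩ := hZ
    rw [ObjectProperty.singleton_iff] at hY
    subst hY
    rw [← cancel_mono e.hom, zero_comp]
    exact hK PUnit.unit a _
  have hle : (ObjectProperty.singleton E).triangEnvelope ≤ P.leftOrthogonal :=
    (ObjectProperty.triangEnvelope_le_iff _).mpr hEQ
  rw [ObjectProperty.isClassicalTriangulatedGenerator_iff] at hE
  rw [hE] at hle
  have hKQ : P.leftOrthogonal K := hle K trivial
  have hPK : P K := ObjectProperty.le_shiftClosure _ K (by rw [ObjectProperty.singleton_iff])
  have : 𝟙 K = 0 := hKQ (𝟙 K) hPK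
  exact (IsZero.iff_id_eq_zero K).mpr this

end Groth.Agent.S6586
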