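import Groth.Statements.S6587
-- import your own Groth.Agent.* helpers here

set_option autoImplicit false
universe v u
open CategoryTheory CategoryTheory.Limits Opposite
open CohDer

namespace Groth.Agent.S6587

open CategoryTheory.Pretriangulated in
/-- Let D be a triangulated category and let X_n → Y_n → Z_n → X_n⟦1⟧ be an inverse system of
distinguished triangles of D indexed by ℕ (levelwise maps f, g, h of inverse systems, each level
distinguished). If the inverse system (Z_n) is pro-zero, then the levelwise map f : (X_n) → (Y_n) is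
a pro-isomorphism. -/
theorem result {D : Type u} [Category.{v} D] [Preadditive D] [HasZeroObject D] [HasShift D ℤ]
    [∀ n : ℤ, (shiftFunctor D n).Additive] [Pretriangulated D] [IsTriangulated D]
    (X Y Z : ARSys.PS D) (f : X ⟶ Y) (g : Y ⟶ Z) (h : Z ⟶ X ⋙ shiftFunctor D (1 : ℤ))
    (hT : ∀ n : ℕ, Triangle.mk (f.app (op n)) (g.app (op n)) (h.app (op n)) ∈ distinguishedTriangles)
    (hZ : DerCA.IsProZero Z) :
    DerCA.IsProIso f := by
  intro n
  obtain ⟨m₂, h₂, hz₂⟩ := hZ n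
  obtain ⟨m₃, h₃, hz₃⟩ := hZ m₂
  -- transition maps compose
  have trX : ARSys.tr X h₃ ≫ ARSys.tr X h₂ = ARSys.tr X (h₂.trans h₃) := by
    rw [← X.map_comp]; rfl
  have trY : ARSys.tr Y h₃ ≫ ARSys.tr Y h₂ = ARSys.tr Y (h₂.trans h₃) := by
    rw [← Y.map_comp]; rfl
  -- step 1: extend tr_X along f_{m₂}
  have hnat : h.app (op m₂) ≫ (ARSys.tr X h₂)⟦(1 : ℤ)⟧' = 0 := by
    have := h.naturality (homOfLE h₂).op
    simp only [Functor.comp_map] at this
    have hz₂' : Z.map (homOfLE h₂).op = 0 := hz₂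
    rw [← this, hz₂', zero_comp]
  obtain ⟨g₁, hg₁⟩ : ∃ g₁ : (Y.obj (op m₂))⟦(1:ℤ)⟧ ⟶ (X.obj (op n))⟦(1:ℤ)⟧,
      (ARSys.tr X h₂)⟦(1 : ℤ)⟧' = (-(f.app (op m₂))⟦(1:ℤ)⟧') ≫ g₁ :=
    Triangle.yoneda_exact₃ _ (rot_of_distTriang _ (hT m₂)) ((ARSys.tr X h₂)⟦(1 : ℤ)⟧') hnat
  have hb₂ : ∃ b₂ : Y.obj (op m₂) ⟶ X.obj (op n), f.app (op m₂) ≫ b₂ = ARSys.tr X h₂ := by
    refine ⟨-(shiftFunctor D (1 : ℤ)).preimage g₁, ?_⟩
    apply (shiftFunctor D (1 : ℤ)).map_injective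
    rw [Functor.map_comp, Functor.map_neg, Functor.map_preimage, hg₁]
    simp
  obtain ⟨b₂, hb₂⟩ := hb₂
  -- step 2: the defect factors through Z_{m₂}
  have hdef : f.app (op m₂) ≫ (b₂ ≫ f.app (op n) - ARSys.tr Y h₂) = 0 := by
    rw [Preadditive.comp_sub, ← Category.assoc, hb₂]
    have := f.naturality (homOfLE h₂).op
    rw [sub_eq_zero]
    exact this
  obtain ⟨w, hw'⟩ : ∃ w : Z.obj (op m₂) ⟶ Y.obj (op n),
      b₂ ≫ f.app (op n) - ARSys.tr Y h₂ = g.app (op m₂) ≫ w :=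
    Triangle.yoneda_exact₂ _ (hT m₂) _ hdef
  -- step 3
  refine ⟨m₃, h₂.trans h₃, ARSys.tr Y h₃ ≫ b₂, ?_, ?_⟩
  · have := f.naturality (homOfLE h₃).op
    have e : f.app (op m₃) ≫ ARSys.tr Y h₃ = ARSys.tr X h₃ ≫ f.app (op m₂) := this.symm
    rw [← Category.assoc, e, Category.assoc, hb₂, trX]
  · have e1 : b₂ ≫ f.app (op n) = ARSys.tr Y h₂ + g.app (op m₂) ≫ w := by
      rw [← hw']; abel
    have e2 : ARSys.tr Y h₃ ≫ g.app (op m₂) = g.app (op m₃) ≫ ARSys.tr Z h₃ :=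
      g.naturality (homOfLE h₃).op
    calc (ARSys.tr Y h₃ ≫ b₂) ≫ f.app (op n) = ARSys.tr Y h₃ ≫ (b₂ ≫ f.app (op n)) :=
          Category.assoc _ _ _
      _ = ARSys.tr Y h₃ ≫ ARSys.tr Y h₂ + (ARSys.tr Y h₃ ≫ g.app (op m₂)) ≫ w := by
          rw [e1, Preadditive.comp_add, Category.assoc]
      _ = ARSys.tr Y (h₂.trans h₃) := by
          rw [trY, e2, hz₃, comp_zero, zero_comp, add_zero]


end Groth.Agent.S6587
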