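import Groth.Statements.S6596
import Groth.Agent.Lib.Helper8.Postnikov

set_option autoImplicit false
universe v u
open CategoryTheory CategoryTheory.Limits
open CohDer

namespace Groth.Agent.S6596

section Aux

open CategoryTheory.Pretriangulated Groth.Agent.Lib.Helper8.Postnikov

variable {D : Type u} [Category.{v} D] [Preadditive D] [HasZeroObject D] [HasShift D ℤ]
    [∀ n : ℤ, (shiftFunctor D n).Additive] [Pretriangulated D]
    (X X' : ChainComplex D ℕ) (φ : X ⟶ X') (n : ℕ)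
    (Y : ℕ → D) (a : ∀ k, Y k ⟶ X.X k) (b : ∀ k, X.X (k + 1) ⟶ Y k)
    (c : ∀ k, Y k ⟶ (shiftFunctor D (1 : ℤ)).obj (Y (k + 1)))
    (h0 : IsIso (a 0))
    (hP : ∀ k, k < n → Triangle.mk (a (k + 1)) (b k) (c k) ∈ distinguishedTriangles ∧ b k ≫ a k = X.d (k + 1) k)
    (qY : ℕ → D) (qa : ∀ k, qY k ⟶ X'.X k) (qb : ∀ k, X'.X (k + 1) ⟶ qY k)
    (qc : ∀ k, qY k ⟶ (shiftFunctor D (1 : ℤ)).obj (qY (k + 1)))
    (qh0 : IsIso (qa 0))
    (qhP : ∀ k, k < n → Triangle.mk (qa (k + 1)) (qb k) (qc k) ∈ distinguishedTriangles ∧ qb k ≫ qa k = X'.d (k + 1) k)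
    (hX : ∀ i j : ℕ, j + 1 < i → i ≤ n → ∀ ψ : (shiftFunctor D ((i : ℤ) - j - 1)).obj (X.X i) ⟶ X'.X j, ψ = 0)

include qh0 qhP hX in
/-- Injectivity of composition with `qa k` on `Hom(X_{k+1}, qY_k)`. -/
lemma inj_qa (k : ℕ) (hk : k < n) (ψ : X.X (k + 1) ⟶ qY k) (hψ : ψ ≫ qa k = 0) : ψ = 0 := by
  cases k with
  | zero =>
    calc ψ = (ψ ≫ qa 0) ≫ inv (qa 0) := by rw [Category.assoc, IsIso.hom_inv_id, Category.comp_id]
      _ = 0 := by rw [hψ, zero_comp]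
  | succ m =>
    obtain ⟨hT, _⟩ := qhP m (by omega)
    refine inj_of_homZero (qa (m + 1)) (qb m) (qc m) hT (X.X (m + 1 + 1)) ?_ ψ hψ
    have key := vanish X' n qY qa qb qc qh0 qhP (X.X (m + 2)) (((m + 2 : ℕ) : ℤ) - 1) m (by omega)
      (fun j' hj' => homZero_congr (by ring) (hX (m + 2) j' (by omega) (by omega))) m le_rfl
    exact homZero_congr (by push_cast; ring) key

include hP qh0 qhP hX in
lemma step (k : ℕ) (hk : k < n) (yk : Y k ⟶ qY k) (hyk : yk ≫ qa k = a k ≫ φ.f k) :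
    ∃ y' : Y (k + 1) ⟶ qY (k + 1), y' ≫ qa (k + 1) = a (k + 1) ≫ φ.f (k + 1) ∧
      b k ≫ yk = φ.f (k + 1) ≫ qb k ∧
      c k ≫ (shiftFunctor D (1 : ℤ)).map y' = yk ≫ qc k := by
  obtain ⟨hT, hd⟩ := hP k hk
  obtain ⟨qhT, qhd⟩ := qhP k hk
  have hsq : b k ≫ yk = φ.f (k + 1) ≫ qb k := by
    rw [← sub_eq_zero]
    apply inj_qa X X' n qY qa qb qc qh0 qhP hX k hk
    rw [Preadditive.sub_comp, Category.assoc, Category.assoc, hyk, qhd, reassoc_of% hd, sub_eq_zero]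
    exact (φ.comm (k + 1) k).symm
  obtain ⟨y', h1, h2⟩ := complete_distinguished_triangle_morphism₁ _ _ hT qhT (φ.f (k + 1)) yk hsq
  exact ⟨y', h1.symm, hsq, h2⟩

include hP qh0 qhP hX in
lemma exists_family :
    ∃ y : ∀ k, Y k ⟶ qY k,
      (∀ k, k ≤ n → y k ≫ qa k = a k ≫ φ.f k) ∧
      (∀ k, k < n → b k ≫ y k = φ.f (k + 1) ≫ qb k ∧ c k ≫ (shiftFunctor D (1 : ℤ)).map (y (k + 1)) = y k ≫ qc k) := by
  classical
  let St := fun k : ℕ => { y : Y k ⟶ qY k // k ≤ n → y ≫ qa k = a k ≫ φ.f k }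
  let nxt : ∀ k, St k → St (k + 1) := fun k s =>
    if hk : k < n then
      ⟨(step X X' φ n Y a b c hP qY qa qb qc qh0 qhP hX k hk s.1 (s.2 hk.le)).choose,
        fun _ => (step X X' φ n Y a b c hP qY qa qb qc qh0 qhP hX k hk s.1 (s.2 hk.le)).choose_spec.1⟩
    else ⟨0, fun h => absurd h (by omega)⟩
  let y0 : St 0 := ⟨a 0 ≫ φ.f 0 ≫ inv (qa 0), fun _ => by
    rw [Category.assoc, Category.assoc, IsIso.inv_hom_id, Category.comp_id]⟩
  let yr : ∀ k, St k := fun k => Nat.rec y0 nxt k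
  refine ⟨fun k => (yr k).1, fun k hk => (yr k).2 hk, fun k hk => ?_⟩
  have hsucc : yr (k + 1) = nxt k (yr k) := rfl
  have hspec := (step X X' φ n Y a b c hP qY qa qb qc qh0 qhP hX k hk (yr k).1 ((yr k).2 hk.le)).choose_spec
  have hval : (yr (k + 1)).1 =
      (step X X' φ n Y a b c hP qY qa qb qc qh0 qhP hX k hk (yr k).1 ((yr k).2 hk.le)).choose := by
    rw [hsucc]
    simp only [nxt, dif_pos hk]
  refine ⟨hspec.2.1, ?_⟩
  change c k ≫ (shiftFunctor D (1 : ℤ)).map (yr (k + 1)).1 = (yr k).1 ≫ qc k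
  rw [hval]
  exact hspec.2.2

end Aux

open CategoryTheory.Pretriangulated in
/-- Let D be a triangulated category and φ : X ⟶ X' a morphism of chain complexes in D considered in
degrees ≤ n, where a Postnikov system for the complex X_n → … → X_0 consists of objects Y_k, an
isomorphism Y_0 ⟶ X_0, and for 0 ≤ k < n distinguished triangles Y_{k+1} ⟶ X_{k+1} ⟶ Y_k ⟶
Y_{k+1}⟦1⟧ with X_{k+1} ⟶ Y_k ⟶ X_k the differential. Suppose X and X' carry Postnikov systems (Y,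
a, b, c) and (Y', a', b', c'). If Hom(X_i⟦i - j - 1⟧, X'_j) = 0 for all j + 1 < i ≤ n, then φ
extends to a morphism of Postnikov systems: morphisms y_k : Y_k ⟶ Y'_k for k ≤ n forming, with the
φ_k, morphisms of the distinguished triangles and compatible with Y_0 ⟶ X_0 and Y'_0 ⟶ X'_0. -/
theorem result {D : Type u} [Category.{v} D] [Preadditive D] [HasZeroObject D] [HasShift D ℤ]
    [∀ n : ℤ, (shiftFunctor D n).Additive] [Pretriangulated D] [IsTriangulated D]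
    (X X' : ChainComplex D ℕ) (φ : X ⟶ X') (n : ℕ)
    (Y : ℕ → D) (a : ∀ k, Y k ⟶ X.X k) (b : ∀ k, X.X (k + 1) ⟶ Y k)
    (c : ∀ k, Y k ⟶ (shiftFunctor D (1 : ℤ)).obj (Y (k + 1)))
    (h0 : IsIso (a 0))
    (hP : ∀ k, k < n → Triangle.mk (a (k + 1)) (b k) (c k) ∈ distinguishedTriangles ∧ b k ≫ a k = X.d (k + 1) k)
    (qY : ℕ → D) (qa : ∀ k, qY k ⟶ X'.X k) (qb : ∀ k, X'.X (k + 1) ⟶ qY k)
    (qc : ∀ k, qY k ⟶ (shiftFunctor D (1 : ℤ)).obj (qY (k + 1)))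
    (qh0 : IsIso (qa 0))
    (qhP : ∀ k, k < n → Triangle.mk (qa (k + 1)) (qb k) (qc k) ∈ distinguishedTriangles ∧ qb k ≫ qa k = X'.d (k + 1) k)
    (hX : ∀ i j : ℕ, j + 1 < i → i ≤ n → ∀ ψ : (shiftFunctor D ((i : ℤ) - j - 1)).obj (X.X i) ⟶ X'.X j, ψ = 0) :
    ∃ y : ∀ k, Y k ⟶ qY k,
      (∀ k, k ≤ n → y k ≫ qa k = a k ≫ φ.f k) ∧
      (∀ k, k < n → b k ≫ y k = φ.f (k + 1) ≫ qb k ∧ c k ≫ (shiftFunctor D (1 : ℤ)).map (y (k + 1)) = y k ≫ qc k) := by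
  exact exists_family X X' φ n Y a b c hP qY qa qb qc qh0 qhP hX

end Groth.Agent.S6596
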