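import Groth.Statements.S6597
import Groth.Agent.Lib.Helper8.Postnikov2

set_option autoImplicit false
universe v u
open CategoryTheory CategoryTheory.Limits
open CohDer

namespace Groth.Agent.S6597

section Aux

open CategoryTheory.Pretriangulated Groth.Agent.Lib.Helper8.Postnikov

variable {D : Type u} [Category.{v} D] [Preadditive D] [HasZeroObject D] [HasShift D ℤ]
    [∀ n : ℤ, (shiftFunctor D n).Additive] [Pretriangulated D]

/-- `Hom(W⟦i⟧, Z⟦n⟧) = 0` implies `Hom(W, Z⟦d⟧) = 0` when `d + i = n`. -/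
lemma homZero_unshift_both {W Z : D} (i d n : ℤ) (h : d + i = n)
    (hv : ∀ ψ : (shiftFunctor D i).obj W ⟶ (shiftFunctor D n).obj Z, ψ = 0) :
    ∀ g : W ⟶ (shiftFunctor D d).obj Z, g = 0 := by
  intro g
  let e := (shiftFunctorAdd' D d i n h).app Z
  have h1 : (shiftFunctor D i).map g ≫ e.inv = 0 := hv _
  have h2 : (shiftFunctor D i).map g = 0 := by
    calc (shiftFunctor D i).map g = ((shiftFunctor D i).map g ≫ e.inv) ≫ e.hom := by
          rw [Category.assoc, Iso.inv_hom_id, Category.comp_id]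
      _ = 0 := by rw [h1, zero_comp]
  exact (shiftFunctor D i).map_injective (h2.trans ((shiftFunctor D i).map_zero _ _).symm)

variable (n : ℕ) (qY : ℕ → D) (qc : ∀ k, qY k ⟶ (shiftFunctor D (1 : ℤ)).obj (qY (k + 1)))

/-- The composite `qY k ⟶ (qY n)⟦d⟧` of the connecting maps, for `k + d = n`. -/
noncomputable def K : ∀ (d k : ℕ), k + d = n → (qY k ⟶ (shiftFunctor D (d : ℤ)).obj (qY n))
  | 0, k, h => (eqToHom (congrArg qY (show k = n by omega)) : qY k ⟶ qY n) ≫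
      (shiftFunctorZero D ℤ).inv.app (qY n)
  | (d + 1), k, h => qc k ≫ (shiftFunctor D (1 : ℤ)).map (K d (k + 1) (by omega)) ≫
      (shiftFunctorAdd' D (d : ℤ) 1 ((d + 1 : ℕ) : ℤ) (by push_cast; ring)).inv.app (qY n)

theorem aux
    (X X' : ChainComplex D ℕ) (φ : X ⟶ X')
    (Y : ℕ → D) (a : ∀ k, Y k ⟶ X.X k) (b : ∀ k, X.X (k + 1) ⟶ Y k)
    (c : ∀ k, Y k ⟶ (shiftFunctor D (1 : ℤ)).obj (Y (k + 1)))
    (hP : ∀ k, k < n → Triangle.mk (a (k + 1)) (b k) (c k) ∈ distinguishedTriangles ∧ b k ≫ a k = X.d (k + 1) k)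
    (qa : ∀ k, qY k ⟶ X'.X k)
    (qh0 : IsIso (qa 0))
    (hv : ∀ i : ℕ, 1 ≤ i → i ≤ n → ∀ ψ : (shiftFunctor D (i : ℤ)).obj (X.X i) ⟶ (shiftFunctor D (n : ℤ)).obj (qY n), ψ = 0)
    (y z : ∀ k, Y k ⟶ qY k)
    (hy : (∀ k, k ≤ n → y k ≫ qa k = a k ≫ φ.f k) ∧
      (∀ k, k < n → c k ≫ (shiftFunctor D (1 : ℤ)).map (y (k + 1)) = y k ≫ qc k))
    (hz : (∀ k, k ≤ n → z k ≫ qa k = a k ≫ φ.f k) ∧
      (∀ k, k < n → c k ≫ (shiftFunctor D (1 : ℤ)).map (z (k + 1)) = z k ≫ qc k)) :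
    y n = z n := by
  let w : ∀ k, Y k ⟶ qY k := fun k => y k - z k
  have W1 : ∀ k, k ≤ n → w k ≫ qa k = 0 := by
    intro k hk
    change (y k - z k) ≫ qa k = 0
    rw [Preadditive.sub_comp, hy.1 k hk, hz.1 k hk, sub_self]
  have W3 : ∀ k, k < n → c k ≫ (shiftFunctor D (1 : ℤ)).map (w (k + 1)) = w k ≫ qc k := by
    intro k hk
    change c k ≫ (shiftFunctor D (1 : ℤ)).map (y (k + 1) - z (k + 1)) = (y k - z k) ≫ qc k
    rw [Functor.map_sub, Preadditive.comp_sub, hy.2 k hk, hz.2 k hk, Preadditive.sub_comp]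
  have key : ∀ k d (h : k + d = n), w k ≫ K n qY qc d k h = 0 := by
    intro k
    induction k with
    | zero =>
      intro d h
      have : w 0 = 0 := by
        calc w 0 = (w 0 ≫ qa 0) ≫ inv (qa 0) := by
              rw [Category.assoc, IsIso.hom_inv_id, Category.comp_id]
          _ = 0 := by rw [W1 0 (by omega), zero_comp]
      rw [this, zero_comp]
    | succ k ih =>
      intro d h
      have h1 := ih (d + 1) (by omega)
      rw [K] at h1
      have h2 : w k ≫ qc k ≫ (shiftFunctor D (1 : ℤ)).map (K n qY qc d (k + 1) (by omega)) = 0 := by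
        have := congrArg (fun f => f ≫
          (shiftFunctorAdd' D (d : ℤ) 1 ((d + 1 : ℕ) : ℤ) (by push_cast; ring)).hom.app (qY n)) h1
        simpa using this
      rw [← Category.assoc, ← W3 k (by omega), Category.assoc, ← Functor.map_comp] at h2
      obtain ⟨hT, _⟩ := hP k (by omega)
      obtain ⟨g, hg⟩ := factors_through_a (a (k + 1)) (b k) (c k) hT _ h2
      have hg0 : g = 0 :=
        homZero_unshift_both ((k + 1 : ℕ) : ℤ) (d : ℤ) (n : ℤ) (by rw [← h]; push_cast; ring)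
          (hv (k + 1) (by omega) (by omega)) g
      rw [hg, hg0, comp_zero]
  have hn := key n 0 (by omega)
  rw [K] at hn
  have hw : w n = 0 := by
    have := congrArg (fun f => f ≫ (shiftFunctorZero D ℤ).hom.app (qY n)) hn
    simpa using this
  exact sub_eq_zero.mp hw

end Aux

open CategoryTheory.Pretriangulated in
/-- Let D be a triangulated category, φ : X ⟶ X' a morphism of chain complexes in D considered in
degrees ≤ n, where a Postnikov system for the complex X_n → … → X_0 consists of objects Y_k, an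
isomorphism Y_0 ⟶ X_0, and for 0 ≤ k < n distinguished triangles Y_{k+1} ⟶ X_{k+1} ⟶ Y_k ⟶
Y_{k+1}⟦1⟧ with X_{k+1} ⟶ Y_k ⟶ X_k the differential; let (Y, a, b, c) and (Y', a', b', c') be
Postnikov systems for X and X'. If Hom(X_i⟦i⟧, Y'_n⟦n⟧) = 0 for i = 1, …, n, then two morphisms of
Postnikov systems extending φ agree on Y_n. (The published statement says there is at most one
morphism of Postnikov systems; the argument, by induction along Y_0 → Y_1⟦1⟧ → … → Y_n⟦n⟧,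
determines the component in degree n, which is what is asserted here.) -/
theorem result {D : Type u} [Category.{v} D] [Preadditive D] [HasZeroObject D] [HasShift D ℤ]
    [∀ n : ℤ, (shiftFunctor D n).Additive] [Pretriangulated D] [IsTriangulated D]
    (X X' : ChainComplex D ℕ) (φ : X ⟶ X') (n : ℕ)
    (Y : ℕ → D) (a : ∀ k, Y k ⟶ X.X k) (b : ∀ k, X.X (k + 1) ⟶ Y k)
    (c : ∀ k, Y k ⟶ (shiftFunctor D (1 : ℤ)).obj (Y (k + 1)))
    (h0 : IsIso (a 0))
    (hP : ∀ k, k < n → Triangle.mk (a (k + 1)) (b k) (c k) ∈ distinguishedTriangles ∧ b k ≫ a k = X.d (k + 1) k)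
    (qY : ℕ → D) (qa : ∀ k, qY k ⟶ X'.X k) (qb : ∀ k, X'.X (k + 1) ⟶ qY k)
    (qc : ∀ k, qY k ⟶ (shiftFunctor D (1 : ℤ)).obj (qY (k + 1)))
    (qh0 : IsIso (qa 0))
    (qhP : ∀ k, k < n → Triangle.mk (qa (k + 1)) (qb k) (qc k) ∈ distinguishedTriangles ∧ qb k ≫ qa k = X'.d (k + 1) k)
    (hv : ∀ i : ℕ, 1 ≤ i → i ≤ n → ∀ ψ : (shiftFunctor D (i : ℤ)).obj (X.X i) ⟶ (shiftFunctor D (n : ℤ)).obj (qY n), ψ = 0)
    (y z : ∀ k, Y k ⟶ qY k)
    (hy : (∀ k, k ≤ n → y k ≫ qa k = a k ≫ φ.f k) ∧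
      (∀ k, k < n → b k ≫ y k = φ.f (k + 1) ≫ qb k ∧ c k ≫ (shiftFunctor D (1 : ℤ)).map (y (k + 1)) = y k ≫ qc k))
    (hz : (∀ k, k ≤ n → z k ≫ qa k = a k ≫ φ.f k) ∧
      (∀ k, k < n → b k ≫ z k = φ.f (k + 1) ≫ qb k ∧ c k ≫ (shiftFunctor D (1 : ℤ)).map (z (k + 1)) = z k ≫ qc k)) :
    y n = z n := by
  exact aux n qY qc X X' φ Y a b c hP qa qh0 hv y z ⟨hy.1, fun k hk => (hy.2 k hk).2⟩ ⟨hz.1, fun k hk => (hz.2 k hk).2⟩

end Groth.Agent.S6597
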