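import Groth.Statements.S6600
import Mathlib.CategoryTheory.Triangulated.Orthogonal

set_option autoImplicit false
universe v u
open CategoryTheory CategoryTheory.Limits
open CohDer
open CategoryTheory.Pretriangulated

namespace Groth.Agent.S6600

open CategoryTheory.Pretriangulated in
/-- Let D be a triangulated category, A ⊂ D a full subcategory invariant under all shifts, and X → Y → Z
→ X⟦1⟧ a distinguished triangle. Then Z lies in the right orthogonal A^⊥ if and only if Hom(A, X) →
Hom(A, Y) is bijective for every object A of A. -/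
theorem result {D : Type u} [Category.{v} D] [Preadditive D] [HasZeroObject D] [HasShift D ℤ]
    [∀ n : ℤ, (shiftFunctor D n).Additive] [Pretriangulated D] [IsTriangulated D]
    (P : ObjectProperty D) [P.IsStableUnderShift ℤ] (T : Triangle D) (hT : T ∈ distinguishedTriangles) :
    P.rightOrthogonal T.obj₃ ↔ ∀ A : D, P A → Function.Bijective (fun u : A ⟶ T.obj₁ => u ≫ T.mor₁) := by
  constructor
  · intro hZ A hA
    have hker : ∀ u : A ⟶ T.obj₁, u ≫ T.mor₁ = 0 → u = 0 := by
      intro u hu
      obtain ⟨g, hg⟩ := Triangle.coyoneda_exact₂ _ (inv_rot_of_distTriang _ hT) u hu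
      have hZ' : P.rightOrthogonal (T.obj₃⟦(-1 : ℤ)⟧) := P.rightOrthogonal.le_shift (-1) _ hZ
      have hg0 : g = 0 := hZ' g hA
      rw [hg, hg0]
      exact zero_comp
    constructor
    · intro u₁ u₂ h12
      have : (u₁ - u₂) ≫ T.mor₁ = 0 := by
        rw [Preadditive.sub_comp]; exact sub_eq_zero.2 h12
      exact sub_eq_zero.1 (hker _ this)
    · intro v
      obtain ⟨u, hu⟩ := Triangle.coyoneda_exact₂ _ hT v (hZ _ hA)
      exact ⟨u, hu.symm⟩
  · intro h A f hA
    have h1 : f ≫ T.mor₃ = 0 := by
      have hA' : P (A⟦(-1 : ℤ)⟧) := P.le_shift (-1) _ hA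
      have hinj := (h _ hA').1
      have e := (shiftFunctorCompIsoId D (1 : ℤ) (-1) (by simp))
      have h2 : ((f ≫ T.mor₃)⟦(-1 : ℤ)⟧' ≫ e.hom.app T.obj₁) ≫ T.mor₁ = 0 ≫ T.mor₁ := by
        have hnat := e.hom.naturality T.mor₁
        simp only [Functor.id_obj, Functor.comp_obj, Functor.id_map, Functor.comp_map] at hnat
        rw [Category.assoc, ← hnat, ← Category.assoc, ← Functor.map_comp, Category.assoc,
          comp_distTriang_mor_zero₃₁ _ hT, comp_zero, Functor.map_zero, zero_comp, zero_comp]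
      have h3 := hinj h2
      have h4 : (f ≫ T.mor₃)⟦(-1 : ℤ)⟧' = 0 := by
        rw [← cancel_mono (e.hom.app T.obj₁), h3, zero_comp]
      exact (shiftFunctor D (-1 : ℤ)).map_injective (by rw [h4, Functor.map_zero])
    obtain ⟨v, hv⟩ := Triangle.coyoneda_exact₃ _ hT f h1
    obtain ⟨u, hu⟩ := (h A hA).2 v
    simp only at hu
    rw [hv, ← hu, Category.assoc, comp_distTriang_mor_zero₁₂ _ hT, comp_zero]

end Groth.Agent.S6600
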