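import Groth.Statements.S6601
import Mathlib.CategoryTheory.Triangulated.Orthogonal

set_option autoImplicit false
universe v u
open CategoryTheory CategoryTheory.Limits
open CohDer
open CategoryTheory.Pretriangulated

namespace Groth.Agent.S6601

open CategoryTheory.Pretriangulated in
/-- Let D be a triangulated category, B ⊂ D a full subcategory invariant under all shifts, and X → Y → Z
→ X⟦1⟧ a distinguished triangle. Then X lies in the left orthogonal ^⊥B if and only if Hom(Z, B) →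
Hom(Y, B) is bijective for every object B of B. -/
theorem result {D : Type u} [Category.{v} D] [Preadditive D] [HasZeroObject D] [HasShift D ℤ]
    [∀ n : ℤ, (shiftFunctor D n).Additive] [Pretriangulated D] [IsTriangulated D]
    (P : ObjectProperty D) [P.IsStableUnderShift ℤ] (T : Triangle D) (hT : T ∈ distinguishedTriangles) :
    P.leftOrthogonal T.obj₁ ↔ ∀ B : D, P B → Function.Bijective (fun u : T.obj₃ ⟶ B => T.mor₂ ≫ u) := by
  constructor
  · intro hX B hB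
    have hker : ∀ u : T.obj₃ ⟶ B, T.mor₂ ≫ u = 0 → u = 0 := by
      intro u hu
      obtain ⟨g, hg⟩ := Triangle.yoneda_exact₃ _ hT u hu
      have hX' : P.leftOrthogonal (T.obj₁⟦(1 : ℤ)⟧) := P.leftOrthogonal.le_shift 1 _ hX
      have hg0 : g = 0 := hX' g hB
      rw [hg, hg0]
      exact comp_zero
    constructor
    · intro u₁ u₂ h12
      have : T.mor₂ ≫ (u₁ - u₂) = 0 := by
        rw [Preadditive.comp_sub]; exact sub_eq_zero.2 h12
      exact sub_eq_zero.1 (hker _ this)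
    · intro v
      obtain ⟨u, hu⟩ := Triangle.yoneda_exact₂ _ hT v (hX _ hB)
      exact ⟨u, hu.symm⟩
  · intro h B f hB
    have hT' := inv_rot_of_distTriang _ hT
    let m₁ : T.obj₃⟦(-1 : ℤ)⟧ ⟶ T.obj₁ := T.invRotate.mor₁
    let ε : T.obj₃ ⟶ (T.obj₃⟦(-1 : ℤ)⟧)⟦(1 : ℤ)⟧ := (shiftEquiv D (1 : ℤ)).counitIso.inv.app T.obj₃
    have hε : IsIso ε := (inferInstance : IsIso ((shiftEquiv D (1 : ℤ)).counitIso.app T.obj₃).inv)
    have h1 : m₁ ≫ f = 0 := by
      have hB' : P (B⟦(1 : ℤ)⟧) := P.le_shift 1 _ hB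
      have hinj := (h _ hB').1
      have h3 : T.mor₂ ≫ ε ≫ m₁⟦(1 : ℤ)⟧' = 0 := by
        have := comp_distTriang_mor_zero₃₁ _ hT'
        rw [← Category.assoc]; exact this
      have h2 : T.mor₂ ≫ (ε ≫ (m₁ ≫ f)⟦(1 : ℤ)⟧') = T.mor₂ ≫ 0 := by
        calc T.mor₂ ≫ (ε ≫ (m₁ ≫ f)⟦(1 : ℤ)⟧') = (T.mor₂ ≫ ε ≫ m₁⟦(1 : ℤ)⟧') ≫ f⟦(1 : ℤ)⟧' := by
              rw [Functor.map_comp]; simp only [Category.assoc]
          _ = T.mor₂ ≫ 0 := by rw [h3, zero_comp, comp_zero]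
      have h5 : ε ≫ (m₁ ≫ f)⟦(1 : ℤ)⟧' = 0 := hinj h2
      have h6 : (m₁ ≫ f)⟦(1 : ℤ)⟧' = 0 := by
        rw [← cancel_epi ε, h5, comp_zero]
      exact (shiftFunctor D (1 : ℤ)).map_injective (by rw [h6, Functor.map_zero])
    obtain ⟨v, hv⟩ : ∃ v : T.obj₂ ⟶ B, f = T.mor₁ ≫ v := Triangle.yoneda_exact₂ _ hT' f h1
    obtain ⟨u, hu⟩ := (h B hB).2 v
    simp only at hu
    rw [hv, ← hu, ← Category.assoc, comp_distTriang_mor_zero₁₂ _ hT, zero_comp]

end Groth.Agent.S6601
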