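import Groth.Statements.S6602
-- import your own Groth.Agent.* helpers here
import Mathlib.CategoryTheory.Triangulated.Orthogonal
import Mathlib.CategoryTheory.Adjunction.Basic

set_option autoImplicit false
universe v u
open CategoryTheory CategoryTheory.Limits
open CohDer

namespace Groth.Agent.S6602

open CategoryTheory.Pretriangulated in
/-- (1) ⇔ (2): let D be a triangulated category and B a full triangulated subcategory. The inclusion
functor B → D has a left adjoint if and only if for every X in D there is a distinguished triangle A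
→ X → B → A⟦1⟧ with B in B and A in the left orthogonal ^⊥B. (The published statement further
asserts that B is then saturated and, when strictly full, equals the right orthogonal of its left
orthogonal; this row asserts only the equivalence.) -/
theorem result {D : Type u} [Category.{v} D] [Preadditive D] [HasZeroObject D] [HasShift D ℤ]
    [∀ n : ℤ, (shiftFunctor D n).Additive] [Pretriangulated D] [IsTriangulated D]
    (P : ObjectProperty D) [P.IsTriangulated] :
    P.ι.IsRightAdjoint ↔ ∀ X : D, ∃ (A B : D) (f : A ⟶ X) (g : X ⟶ B) (h : B ⟶ (shiftFunctor D (1 : ℤ)).obj A),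
      Triangle.mk f g h ∈ distinguishedTriangles ∧ P B ∧ P.leftOrthogonal A := by
  constructor
  · intro hadj
    intro X
    let L := P.ι.leftAdjoint
    let adj : L ⊣ P.ι := Adjunction.ofIsRightAdjoint P.ι
    let η : X ⟶ (L.obj X).obj := adj.unit.app X
    obtain ⟨A, a, c, hT⟩ := Pretriangulated.distinguished_cocone_triangle₁ η
    -- unit bijectivity
    have hsurj : ∀ (Y : D), P Y → ∀ k : X ⟶ Y, ∃ u : (L.obj X).obj ⟶ Y, η ≫ u = k := by
      intro Y hY k
      refine ⟨((adj.homEquiv X ⟨Y, hY⟩).symm k).hom, ?_⟩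
      have := (adj.homEquiv X ⟨Y, hY⟩).apply_symm_apply k
      rw [Adjunction.homEquiv_unit] at this
      exact this
    have hinj : ∀ (Y : D), P Y → ∀ u : (L.obj X).obj ⟶ Y, η ≫ u = 0 → u = 0 := by
      intro Y hY u hu
      have h1 : (adj.homEquiv X ⟨Y, hY⟩) (ObjectProperty.homMk u) =
          (adj.homEquiv X ⟨Y, hY⟩) 0 := by
        rw [Adjunction.homEquiv_unit, Adjunction.homEquiv_unit]
        change η ≫ u = η ≫ (0 : L.obj X ⟶ ⟨Y, hY⟩).hom
        rw [hu]
        have : (0 : L.obj X ⟶ ⟨Y, hY⟩).hom = 0 := rfl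
        rw [this, comp_zero]
      have h2 := (adj.homEquiv X ⟨Y, hY⟩).injective h1
      have h3 := congrArg (fun w => w.hom) h2
      exact h3
    refine ⟨A, (L.obj X).obj, a, η, c, hT, (L.obj X).property, ?_⟩
    intro Y f hY
    have hY1 : P (Y⟦(1 : ℤ)⟧) := P.le_shift 1 _ hY
    have h1 : c ≫ f⟦(1 : ℤ)⟧' = 0 := by
      apply hinj _ hY1
      rw [← Category.assoc]
      have : η ≫ c = 0 := Pretriangulated.comp_distTriang_mor_zero₂₃ _ hT
      rw [this, zero_comp]
    obtain ⟨g, hg⟩ := Pretriangulated.Triangle.yoneda_exact₃ _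
      (Pretriangulated.rot_of_distTriang _ hT) (f⟦(1 : ℤ)⟧') h1
    change X⟦(1 : ℤ)⟧ ⟶ Y⟦(1 : ℤ)⟧ at g
    change f⟦(1 : ℤ)⟧' = (-a⟦(1 : ℤ)⟧') ≫ g at hg
    obtain ⟨u, hu⟩ := hsurj Y hY ((shiftFunctor D (1 : ℤ)).preimage g)
    have h2 : f⟦(1 : ℤ)⟧' = (-(a ≫ (shiftFunctor D (1 : ℤ)).preimage g))⟦(1 : ℤ)⟧' := by
      rw [hg, Functor.map_neg, Functor.map_comp, Functor.map_preimage, Preadditive.neg_comp]
    have h3 := (shiftFunctor D (1 : ℤ)).map_injective h2
    rw [h3, ← hu, ← Category.assoc]
    have : a ≫ η = 0 := Pretriangulated.comp_distTriang_mor_zero₁₂ _ hT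
    rw [this, zero_comp, neg_zero]
  · intro h
    choose A B f g c hT hB hA using h
    let F_obj : D → P.FullSubcategory := fun X => ⟨B X, hB X⟩
    have hbij : ∀ (X : D) (Y : P.FullSubcategory),
        Function.Bijective (fun u : F_obj X ⟶ Y => g X ≫ u.hom) := by
      intro X Y
      constructor
      · intro u u' huu'
        dsimp at huu'
        have h1 : g X ≫ (u.hom - u'.hom) = 0 := by
          rw [Preadditive.comp_sub, huu', sub_self]
        obtain ⟨w, hw⟩ := Pretriangulated.Triangle.yoneda_exact₃ _ (hT X) (u.hom - u'.hom) h1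
        have hw0 : w = 0 := (P.leftOrthogonal.le_shift 1 _ (hA X)) w Y.property
        rw [hw0, comp_zero] at hw
        apply ObjectProperty.hom_ext
        exact sub_eq_zero.mp hw
      · intro k
        have h1 : f X ≫ k = 0 := hA X (f X ≫ k) Y.property
        obtain ⟨u, hu⟩ := Pretriangulated.Triangle.yoneda_exact₂ _ (hT X) k h1
        exact ⟨ObjectProperty.homMk u, hu.symm⟩
    let e : ∀ (X : D) (Y : P.FullSubcategory), (F_obj X ⟶ Y) ≃ (X ⟶ P.ι.obj Y) :=
      fun X Y => Equiv.ofBijective _ (hbij X Y)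
    have he : ∀ X Y Y' g' h', e X Y' (h' ≫ g') = e X Y h' ≫ P.ι.map g' := by
      intro X Y Y' g' h'
      change g X ≫ (h' ≫ g').hom = (g X ≫ h'.hom) ≫ g'.hom
      rw [ObjectProperty.FullSubcategory.comp_hom, Category.assoc]
    exact (Adjunction.adjunctionOfEquivLeft e he).isRightAdjoint

end Groth.Agent.S6602
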