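import Groth.Statements.S6607
import Mathlib.CategoryTheory.Triangulated.Orthogonal
-- import your own Groth.Agent.* helpers here

set_option autoImplicit false
universe v u
open CategoryTheory CategoryTheory.Limits
open CohDer

namespace Groth.Agent.S6607

section Helpers

open CategoryTheory.Pretriangulated ObjectProperty

variable {D : Type u} [Category.{v} D] [Preadditive D] [HasZeroObject D] [HasShift D ℤ]
    [∀ n : ℤ, (shiftFunctor D n).Additive] [Pretriangulated D]

/-- `B * ⊥B ≤ ⊥B * B`: an extension of an object of `⊥B` by an object of `B` splits. -/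
lemma swap_le (B : ObjectProperty D) [B.IsStableUnderShift ℤ] :
    extensionProduct B B.leftOrthogonal ≤ extensionProduct B.leftOrthogonal B := by
  intro X ⟨Y, A, f, g, h, hT, hY, hA⟩
  have h0 : h = 0 := hA h (B.le_shift (1 : ℤ) _ hY)
  subst h0
  obtain ⟨(e : X ≅ Y ⊞ A), -, -⟩ := exists_iso_binaryBiproduct_of_distTriang _ hT rfl
  refine ⟨A, Y, biprod.inr ≫ e.inv, e.hom ≫ biprod.fst, 0, ?_, hA, hY⟩
  refine isomorphic_distinguished _ (binaryBiproductTriangle_distinguished A Y) _ ?_
  refine Triangle.isoMk _ _ (Iso.refl _) (e ≪≫ biprod.braiding Y A) (Iso.refl _) ?_ ?_ ?_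
  · change (biprod.inr ≫ e.inv) ≫ (e.hom ≫ (biprod.braiding Y A).hom) = 𝟙 A ≫ biprod.inl
    simp only [Category.assoc, Iso.inv_hom_id_assoc, Category.id_comp, biprod.braiding_hom]
    exact biprod.hom_ext _ _ (by simp) (by simp)
  · change (e.hom ≫ biprod.fst) ≫ 𝟙 Y = (e.hom ≫ (biprod.braiding Y A).hom) ≫ biprod.snd
    simp
  · change (0 : Y ⟶ _) ≫ _ = 𝟙 Y ≫ 0
    simp

lemma ext_le [IsTriangulated D] (B : ObjectProperty D) [B.IsTriangulated] :
    extensionProduct (extensionProduct B.leftOrthogonal B) (extensionProduct B.leftOrthogonal B) ≤
      extensionProduct B.leftOrthogonal B := by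
  calc extensionProduct (extensionProduct B.leftOrthogonal B) (extensionProduct B.leftOrthogonal B)
      = extensionProduct B.leftOrthogonal
          (extensionProduct B (extensionProduct B.leftOrthogonal B)) :=
        extensionProduct_assoc _ _ _
    _ = extensionProduct B.leftOrthogonal
          (extensionProduct (extensionProduct B B.leftOrthogonal) B) := by
        rw [extensionProduct_assoc]
    _ ≤ extensionProduct B.leftOrthogonal
          (extensionProduct (extensionProduct B.leftOrthogonal B) B) :=
        monotone_extensionProduct_right _ (monotone_extensionProduct_left _ (swap_le B))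
    _ = extensionProduct B.leftOrthogonal
          (extensionProduct B.leftOrthogonal (extensionProduct B B)) := by
        rw [extensionProduct_assoc]
    _ = extensionProduct (extensionProduct B.leftOrthogonal B.leftOrthogonal)
          (extensionProduct B B) := by
        rw [extensionProduct_assoc]
    _ ≤ extensionProduct B.leftOrthogonal.isoClosure B.isoClosure :=
        (monotone_extensionProduct_left _
          (extensionProduct_le_of_isTriangulatedClosed₂' le_rfl le_rfl)).trans
        (monotone_extensionProduct_right _
          (extensionProduct_le_of_isTriangulatedClosed₂' le_rfl le_rfl))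
    _ = extensionProduct B.leftOrthogonal B := by
        rw [extensionProduct_isoClosure_left, extensionProduct_isoClosure_right]

lemma isTriangulated_extensionProduct [IsTriangulated D] (B : ObjectProperty D)
    [B.IsTriangulated] : (extensionProduct B.leftOrthogonal B).IsTriangulated := by
  have h2 : (extensionProduct B.leftOrthogonal B).IsTriangulatedClosed₂ := by
    apply IsTriangulatedClosed₂.mk'
    intro T hT h1 h3
    exact ext_le B _ ⟨_, _, _, _, _, hT, h1, h3⟩
  have h0 : (extensionProduct B.leftOrthogonal B).ContainsZero := by
    obtain ⟨Z, hZ, hBZ⟩ := B.exists_prop_of_containsZero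
    exact ⟨Z, hZ, le_extensionProduct_right (P := B.leftOrthogonal) _ hBZ⟩
  exact { }

end Helpers

open CategoryTheory.Pretriangulated in
/-- Let D be a triangulated category and B a full triangulated subcategory. Let P(X) be the property:
there is a distinguished triangle A → X → B → A⟦1⟧ with B in B and A in ^⊥B. Then P satisfies
two-out-of-three in distinguished triangles, i.e. it is stable under all shifts and closed under
extensions (a triangulated object property). -/
theorem result {D : Type u} [Category.{v} D] [Preadditive D] [HasZeroObject D] [HasShift D ℤ]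
    [∀ n : ℤ, (shiftFunctor D n).Additive] [Pretriangulated D] [IsTriangulated D]
    (B : ObjectProperty D) [B.IsTriangulated] :
    ObjectProperty.IsTriangulated (fun X : D => ∃ (A Y : D) (f : A ⟶ X) (g : X ⟶ Y) (h : Y ⟶ (shiftFunctor D (1 : ℤ)).obj A),
      Triangle.mk f g h ∈ distinguishedTriangles ∧ B Y ∧ B.leftOrthogonal A) := by
  have hLB : (fun X : D => ∃ (A Y : D) (f : A ⟶ X) (g : X ⟶ Y)
      (h : Y ⟶ (shiftFunctor D (1 : ℤ)).obj A),
      Triangle.mk f g h ∈ distinguishedTriangles ∧ B Y ∧ B.leftOrthogonal A) =
      ObjectProperty.extensionProduct B.leftOrthogonal B := by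
    funext X
    apply propext
    constructor
    · rintro ⟨A, Y, f, g, h, hT, hY, hA⟩
      exact ⟨A, Y, f, g, h, hT, hA, hY⟩
    · rintro ⟨A, Y, f, g, h, hT, hA, hY⟩
      exact ⟨A, Y, f, g, h, hT, hY, hA⟩
  rw [hLB]
  exact isTriangulated_extensionProduct B

end Groth.Agent.S6607
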