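import Groth.Statements.S6611
-- import your own Groth.Agent.* helpers here
import Mathlib.Algebra.Homology.HomotopyCategory.KInjective
import Mathlib.Algebra.Homology.HomologySequenceLemmas
import Mathlib.Algebra.Homology.HomologicalComplexAbelian

set_option autoImplicit false
universe v u
open CategoryTheory CategoryTheory.Limits
open CohDer

namespace Groth.Agent.S6611

open CochainComplex.HomComplex

/-- Let A be an abelian category, α : K ⟶ L a quasi-isomorphism of cochain complexes which is injective
in every degree, I a bounded below complex of injective objects and γ : K ⟶ I a morphism. Then there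
is a morphism β : L ⟶ I with α ≫ β = γ. -/
theorem result {A : Type u} [Category.{v} A] [Abelian A]
    (K L I : CochainComplex A ℤ) (α : K ⟶ L) [QuasiIso α] (hα : ∀ n : ℤ, Mono (α.f n))
    (a : ℤ) [I.IsStrictlyGE a] (hI : ∀ n : ℤ, Injective (I.X n)) (γ : K ⟶ I) :
    ∃ β : L ⟶ I, α ≫ β = γ := by
  classical
  haveI : Mono α := HomologicalComplex.mono_of_mono_f α hα
  let S : ShortComplex (CochainComplex A ℤ) :=
    ShortComplex.mk α (cokernel.π α) (cokernel.condition α)
  have hS : S.ShortExact :=
    { exact := ShortComplex.exact_cokernel α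
      mono_f := (inferInstance : Mono α)
      epi_g := (inferInstance : Epi (cokernel.π α)) }
  have hC : (cokernel α).Acyclic := hS.acyclic_X₃ (inferInstance : QuasiIso α)
  haveI : I.IsKInjective := CochainComplex.isKInjective_of_injective I a
  have hSn : ∀ n, (S.map (HomologicalComplex.eval A (ComplexShape.up ℤ) n)).ShortExact :=
    (HomologicalComplex.shortExact_iff_degreewise_shortExact S).1 hS
  let b : Cochain L I 0 := Cochain.ofHoms (fun n =>
    @Injective.factorThru _ _ _ _ _ (hI n) (γ.f n) (α.f n) (hα n))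
  have hb : (Cochain.ofHom α).comp b (add_zero 0) = Cochain.ofHom γ := by
    ext n
    simp [b, Injective.comp_factorThru]
  have hz : (Cochain.ofHom α).comp (δ 0 1 b) (zero_add 1) = 0 := by
    rw [← δ_ofHom_comp, hb, δ_ofHom]
  have hz' : ∀ p q (hpq : p + 1 = q), α.f p ≫ (δ 0 1 b).v p q hpq = 0 := by
    intro p q hpq
    simpa using Cochain.congr_v hz p q hpq
  let ζ : Cochain (cokernel α) I 1 := Cochain.mk (fun p q hpq =>
    haveI := (hSn p).epi_g
    (hSn p).exact.desc ((δ 0 1 b).v p q hpq) (hz' p q hpq))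
  have hζ : (Cochain.ofHom (cokernel.π α)).comp ζ (zero_add 1) = δ 0 1 b := by
    ext p q hpq
    haveI := (hSn p).epi_g
    rw [Cochain.zero_cochain_comp_v, Cochain.ofHom_v]
    exact (hSn p).exact.g_desc ((δ 0 1 b).v p q hpq) (hz' p q hpq)
  have hζ2 : δ 1 2 ζ = 0 := by
    have h : (Cochain.ofHom (cokernel.π α)).comp (δ 1 2 ζ) (zero_add 2) = 0 := by
      rw [← δ_ofHom_comp, hζ, δ_δ]
    ext p q hpq
    haveI : Epi ((cokernel.π α).f p) := (hSn p).epi_g
    rw [← cancel_epi ((cokernel.π α).f p)]
    simpa using Cochain.congr_v h p q hpq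
  obtain ⟨h, hh⟩ := CochainComplex.IsKInjective.eq_δ_of_cocycle
    (Cocycle.mk ζ 2 (by lia) hζ2) hC 0 (by lia)
  replace hh : δ 0 1 h = ζ := hh
  let b' : Cochain L I 0 := b - (Cochain.ofHom (cokernel.π α)).comp h (zero_add 0)
  have hb' : δ 0 1 b' = 0 := by
    dsimp only [b']
    rw [δ_sub, δ_ofHom_comp, hh, hζ, sub_self]
  refine ⟨Cocycle.homOf (Cocycle.mk b' 1 (zero_add 1) hb'), ?_⟩
  ext n
  have h1 : α.f n ≫ b.v n n (add_zero n) = γ.f n := by
    simp [b, Injective.comp_factorThru]
  have h2 : α.f n ≫ (cokernel.π α).f n = 0 := by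
    rw [← HomologicalComplex.comp_f, cokernel.condition, HomologicalComplex.zero_f]
  simp [b', Preadditive.comp_sub, h1, reassoc_of% h2]

end Groth.Agent.S6611
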