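import Groth.Statements.S6612
-- import your own Groth.Agent.* helpers here

set_option autoImplicit false
universe v u
open CategoryTheory CategoryTheory.Limits
open CohDer

namespace Groth.Agent.S6612

/-- Let A be an additive category and 0 → A₂ → B₂ → C₂ → 0 a termwise split exact sequence of complexes.
Given a chain map b from a complex B₁ into B₂ and a chain map b' from B₂ into a complex B₃, suppose
that both composites b ≫ (B₂ → C₂) and (A₂ → B₂) ≫ b' are null-homotopic. Then b ≫ b' is homotopic
to zero. (The published statement has three termwise split sequences Aᵢ → Bᵢ → Cᵢ and asks both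
squares of each diagram to commute up to homotopy; this row keeps only the middle sequence and the
two conditions at B₂ that the argument uses, so it is more general.) -/
theorem result {V : Type u} [Category.{v} V] [Preadditive V] [HasBinaryBiproducts V]
    (S : ShortComplex (CochainComplex V ℤ))
    (σ : ∀ n : ℤ, (S.map (HomologicalComplex.eval V (ComplexShape.up ℤ) n)).Splitting)
    {B₁ B₃ : CochainComplex V ℤ} (b : B₁ ⟶ S.X₂) (b' : S.X₂ ⟶ B₃)
    (hb : Nonempty (Homotopy (b ≫ S.g) 0)) (hb' : Nonempty (Homotopy (S.f ≫ b') 0)) :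
    Nonempty (Homotopy (b ≫ b') 0) := by
  obtain ⟨h⟩ := hb
  obtain ⟨h'⟩ := hb'
  let s : ∀ n, S.X₃.X n ⟶ S.X₂.X n := fun n => (σ n).s
  let r : ∀ n, S.X₂.X n ⟶ S.X₁.X n := fun n => (σ n).r
  have hsg : ∀ n, s n ≫ S.g.f n = 𝟙 _ := fun n => (σ n).s_g
  have hfr : ∀ n, S.f.f n ≫ r n = 𝟙 _ := fun n => (σ n).f_r
  have hrf : ∀ n, r n ≫ S.f.f n = 𝟙 _ - S.g.f n ≫ s n := fun n => (σ n).r_f
  let k : ∀ i j, B₁.X i ⟶ S.X₂.X j := fun i j => h.hom i j ≫ s j
  have hk0 : ∀ i j, ¬ (ComplexShape.up ℤ).Rel j i → k i j = 0 := by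
    intro i j hij
    simp only [k]
    rw [h.zero i j hij, zero_comp]
  let n : B₁ ⟶ S.X₂ := Homotopy.nullHomotopicMap k
  have hn : Homotopy n 0 := Homotopy.nullHomotopy k hk0
  let b₁ : B₁ ⟶ S.X₂ := b - n
  have hb₁ : Homotopy b b₁ :=
    (Homotopy.ofEq (sub_add_cancel b n).symm).trans
      (((Homotopy.refl b₁).add hn).trans (Homotopy.ofEq (add_zero b₁)))
  have e1 : n ≫ S.g = Homotopy.nullHomotopicMap h.hom := by
    rw [Homotopy.nullHomotopicMap_comp]
    congr
    funext i j
    simp only [k]
    rw [Category.assoc, hsg, Category.comp_id]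
  have e2 : b ≫ S.g = Homotopy.nullHomotopicMap h.hom := by
    ext i
    have := h.comm i
    rw [HomologicalComplex.zero_f_apply, add_zero] at this
    exact this
  have hg : b₁ ≫ S.g = 0 := by
    simp only [b₁]
    rw [Preadditive.sub_comp, e1]
    exact sub_eq_zero.2 e2
  have key : ∀ i, b₁.f i ≫ r i ≫ S.f.f i = b₁.f i := by
    intro i
    rw [hrf, Preadditive.comp_sub, Category.comp_id, ← Category.assoc, ← HomologicalComplex.comp_f,
      hg, HomologicalComplex.zero_f_apply, zero_comp, sub_zero]
  let a : B₁ ⟶ S.X₁ :=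
    { f := fun i => b₁.f i ≫ r i
      comm' := by
        intro i j _
        haveI : Mono (S.f.f j) := SplitMono.mono ⟨r j, hfr j⟩
        rw [← cancel_mono (S.f.f j)]
        simp only [Category.assoc]
        rw [key j, ← S.f.comm i j, ← Category.assoc (r i), ← Category.assoc (b₁.f i),
          key i, b₁.comm i j] }
  have haf : a ≫ S.f = b₁ := by
    ext i
    simp only [a, HomologicalComplex.comp_f, Category.assoc]
    exact key i
  refine ⟨(hb₁.compRight b').trans ((Homotopy.ofEq ?_).trans ((h'.compLeft a).trans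
    (Homotopy.ofEq comp_zero)))⟩
  rw [← Category.assoc, haf]

end Groth.Agent.S6612
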