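import Groth.Statements.S6613
-- import your own Groth.Agent.* helpers here

set_option autoImplicit false
universe v u v' u'
open CategoryTheory CategoryTheory.Limits
open CohDer

namespace Groth.Agent.S6613

/-- Let D be a pretriangulated category, D' ⊂ D a full pretriangulated subcategory, S a saturated
multiplicative system of D compatible with the triangulated structure and Q : D → S⁻¹D the
localization. Assume every X in D admits some s : X' ⟶ X in S with X' in D'. Then, with S' = S ∩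
Arrows(D'), the functor (S')⁻¹D' → S⁻¹D is an equivalence; equivalently the composite D' → D → S⁻¹D
is a localization of D' at S'. (The published result additionally claims that the intersection S' =
S ∩ Arrows(D') forms a multiplicative system on D' which is saturated and respects the triangulated
structure of D'; this row asserts only the localization property.) -/
theorem result {D : Type u} [Category.{v} D] [Preadditive D] [HasZeroObject D] [HasShift D ℤ]
    [∀ n : ℤ, (shiftFunctor D n).Additive] [Pretriangulated D]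
    (P : ObjectProperty D) [P.IsTriangulated]
    (S : MorphismProperty D) [S.HasLeftCalculusOfFractions] [S.HasRightCalculusOfFractions] [S.IsCompatibleWithTriangulation]
    {E : Type u'} [Category.{v'} E] (Q : D ⥤ E) [Q.IsLocalization S]
    (hsat : ∀ {X Y : D} (f : X ⟶ Y), IsIso (Q.map f) → S f)
    (hP : ∀ X : D, ∃ (X' : D) (s : X' ⟶ X), P X' ∧ S s) :
    (P.ι ⋙ Q).IsLocalization (S.inverseImage P.ι) := by
  classical
  have hW₁ : (S.inverseImage P.ι).HasRightCalculusOfFractions :=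
    { exists_rightFraction := by
        intro X Y φ
        obtain ⟨ψ, hψ⟩ :=
          (MorphismProperty.LeftFraction.mk (W := S) φ.f.hom φ.s.hom φ.hs).exists_rightFraction
        obtain ⟨X', r, hX', hr⟩ := hP ψ.X'
        refine ⟨{ X' := ⟨X', hX'⟩, s := P.homMk (r ≫ ψ.s), hs := S.comp_mem _ _ hr ψ.hs,
                  f := P.homMk (r ≫ ψ.f) }, ?_⟩
        ext
        simpa using r ≫= hψ
      ext := by
        intro X Y Y' f₁ f₂ s hs h
        obtain ⟨Z, t, ht, fac⟩ := MorphismProperty.HasRightCalculusOfFractions.ext (W := S)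
          f₁.hom f₂.hom s.hom hs (by simpa using congrArg (fun g => g.hom) h)
        obtain ⟨Z', r, hZ', hr⟩ := hP Z
        refine ⟨⟨Z', hZ'⟩, P.homMk (r ≫ t), S.comp_mem _ _ hr ht, ?_⟩
        ext
        simpa using r ≫= fac }
  let W₁ : MorphismProperty P.FullSubcategory := S.inverseImage P.ι
  let Φ : LocalizerMorphism W₁ S := { functor := P.ι, map := fun _ _ _ h => h }
  let L₁ := W₁.Q
  let G := Φ.localizedFunctor L₁ Q
  letI inst : CatCommSq Φ.functor L₁ Q G := Φ.catCommSq L₁ Q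
  let e : P.ι ⋙ Q ≅ L₁ ⋙ G := CatCommSq.iso Φ.functor L₁ Q G
  have hL₁ : L₁.EssSurj := Localization.essSurj L₁ W₁
  have hfull : G.Full := by
    refine G.full_of_comp_essSurj L₁ (fun X₁ X₂ φ ↦ ?_)
    obtain ⟨ρ, hρ⟩ := Localization.exists_rightFraction Q S
      (e.hom.app X₁ ≫ φ ≫ e.inv.app X₂)
    obtain ⟨A', r, hA', hr⟩ := hP ρ.X'
    let ψ : W₁.RightFraction X₁ X₂ :=
      { X' := ⟨A', hA'⟩, s := P.homMk (r ≫ ρ.s), hs := S.comp_mem _ _ hr ρ.hs,
        f := P.homMk (r ≫ ρ.f) }
    refine ⟨ψ.map L₁ (Localization.inverts _ _), ?_⟩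
    have := Localization.inverts L₁ W₁ ψ.s ψ.hs
    rw [← cancel_epi (G.map (L₁.map ψ.s)), ← G.map_comp,
      MorphismProperty.RightFraction.map_s_comp_map]
    have h1 := e.hom.naturality ψ.f
    have h2 := e.hom.naturality ψ.s
    have h3 : Q.map ρ.s ≫ (e.hom.app X₁ ≫ φ ≫ e.inv.app X₂) = Q.map ρ.f := by
      rw [hρ]; exact MorphismProperty.RightFraction.map_s_comp_map _ _ _
    have h3' : Q.map ρ.s ≫ e.hom.app X₁ ≫ φ = Q.map ρ.f ≫ e.hom.app X₂ := by
      rw [← h3]; simp
    rw [← cancel_epi (e.hom.app ψ.X')]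
    have h1' : e.hom.app ψ.X' ≫ G.map (L₁.map ψ.f) = Q.map (r ≫ ρ.f) ≫ e.hom.app X₂ := h1.symm
    have h2' : e.hom.app ψ.X' ≫ G.map (L₁.map ψ.s) = Q.map (r ≫ ρ.s) ≫ e.hom.app X₁ := h2.symm
    rw [h1', reassoc_of% h2', Q.map_comp, Q.map_comp, Category.assoc, Category.assoc, h3']
  have hfaith : G.Faithful := by
    refine G.faithful_of_comp_essSurj L₁ (fun X₁ X₂ f g hfg ↦ ?_)
    obtain ⟨φ, hφ⟩ := Localization.exists_rightFraction L₁ W₁ f
    have := Localization.inverts L₁ W₁ φ.s φ.hs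
    obtain ⟨ψ, hψ⟩ := Localization.exists_rightFraction L₁ W₁ (L₁.map φ.s ≫ g)
    have := Localization.inverts L₁ W₁ ψ.s ψ.hs
    have hf : L₁.map ψ.s ≫ L₁.map φ.s ≫ f = L₁.map (ψ.s ≫ φ.f) := by
      rw [hφ, MorphismProperty.RightFraction.map_s_comp_map, L₁.map_comp]
    have hg : L₁.map ψ.s ≫ L₁.map φ.s ≫ g = L₁.map ψ.f := by
      rw [hψ, MorphismProperty.RightFraction.map_s_comp_map]
    rw [← cancel_epi (L₁.map φ.s), ← cancel_epi (L₁.map ψ.s), hf, hg]
    have hG : G.map (L₁.map (ψ.s ≫ φ.f)) = G.map (L₁.map ψ.f) := by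
      rw [← hf, ← hg]; simp [hfg]
    have hQ : Q.map (ψ.s ≫ φ.f).hom = Q.map ψ.f.hom := by
      have h1 := e.hom.naturality (ψ.s ≫ φ.f)
      have h2 := e.hom.naturality ψ.f
      rw [← cancel_mono (e.hom.app X₂)]
      exact h1.trans ((congrArg (fun x => e.hom.app _ ≫ x) hG).trans h2.symm)
    obtain ⟨Z, z, hz, fac⟩ := (MorphismProperty.map_eq_iff_precomp Q S _ _).1 hQ
    obtain ⟨Z', r, hZ', hr⟩ := hP Z
    let t : (⟨Z', hZ'⟩ : P.FullSubcategory) ⟶ ψ.X' := P.homMk (r ≫ z)
    have ht : W₁ t := S.comp_mem _ _ hr hz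
    have := Localization.inverts L₁ W₁ t ht
    rw [← cancel_epi (L₁.map t), ← L₁.map_comp, ← L₁.map_comp]
    congr 1
    ext
    simpa [t] using r ≫= fac
  have hess : G.EssSurj := ⟨fun Y => by
    have := Localization.essSurj Q S
    obtain ⟨X', r, hX', hr⟩ := hP (Q.objPreimage Y)
    have := Localization.inverts Q S r hr
    exact ⟨L₁.obj ⟨X', hX'⟩,
      ⟨(e.app ⟨X', hX'⟩).symm ≪≫ asIso (Q.map r) ≪≫ Q.objObjPreimageIso Y⟩⟩⟩
  have : G.IsEquivalence := { }
  have : Φ.IsLocalizedEquivalence := LocalizerMorphism.IsLocalizedEquivalence.mk' Φ L₁ Q G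
  exact LocalizerMorphism.IsLocalizedEquivalence.isLocalization Φ Q

end Groth.Agent.S6613
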