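import Groth.Statements.S6614
import Mathlib.Tactic

set_option autoImplicit false
universe v u
open CategoryTheory CategoryTheory.Limits Opposite
open CohDer

namespace Groth.Agent.S6614

section Aux

open CategoryTheory.Pretriangulated

variable {D : Type u} [Category.{v} D] [Preadditive D] [HasZeroObject D] [HasShift D ℤ]
    [∀ n : ℤ, (shiftFunctor D n).Additive] [Pretriangulated D]

lemma split_of_retraction {A X : D} (c : A ⟶ X) (r : X ⟶ A) (h : c ≫ r = 𝟙 A) :
    ∃ (Z : D) (e : X ≅ A ⊞ Z), c ≫ e.hom = biprod.inl ∧ e.hom ≫ biprod.fst = r := by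
  obtain ⟨Z, p, δ, hT⟩ := distinguished_cocone_triangle c
  have hδ : δ = 0 := by
    have h1 : δ ≫ (shiftFunctor D (1 : ℤ)).map c = 0 := comp_distTriang_mor_zero₃₁ _ hT
    have h2 : (shiftFunctor D (1 : ℤ)).map c ≫ (shiftFunctor D (1 : ℤ)).map r = 𝟙 _ := by
      rw [← Functor.map_comp, h, CategoryTheory.Functor.map_id]
    calc δ = δ ≫ (shiftFunctor D (1 : ℤ)).map c ≫ (shiftFunctor D (1 : ℤ)).map r := by
          rw [h2, Category.comp_id]
      _ = 0 := by rw [reassoc_of% h1, zero_comp]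
  have hcp : c ≫ p = 0 := comp_distTriang_mor_zero₁₂ _ hT
  obtain ⟨q, hq⟩ : ∃ q : Z ⟶ X, 𝟙 X - r ≫ c = p ≫ q :=
    Triangle.yoneda_exact₂ _ hT (𝟙 X - r ≫ c) (by
      change c ≫ (𝟙 X - r ≫ c) = 0
      rw [Preadditive.comp_sub, Category.comp_id, reassoc_of% h, sub_self])
  have hqp : q ≫ p = 𝟙 Z := by
    obtain ⟨w, hw⟩ : ∃ w : (shiftFunctor D (1 : ℤ)).obj A ⟶ Z, q ≫ p - 𝟙 Z = δ ≫ w :=
      Triangle.yoneda_exact₃ _ hT (q ≫ p - 𝟙 Z) (by
        change p ≫ (q ≫ p - 𝟙 Z) = 0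
        rw [Preadditive.comp_sub, Category.comp_id, ← Category.assoc, ← hq,
          Preadditive.sub_comp, Category.id_comp, Category.assoc, hcp, comp_zero, sub_zero,
          sub_self])
    rw [hδ, zero_comp, sub_eq_zero] at hw
    exact hw
  have hqr : q ≫ r = 0 := by
    obtain ⟨w, hw⟩ : ∃ w : (shiftFunctor D (1 : ℤ)).obj A ⟶ A, q ≫ r = δ ≫ w :=
      Triangle.yoneda_exact₃ _ hT (q ≫ r) (by
        change p ≫ q ≫ r = 0
        rw [← Category.assoc, ← hq, Preadditive.sub_comp, Category.id_comp, Category.assoc, h,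
          Category.comp_id, sub_self])
    rw [hw, hδ, zero_comp]
  refine ⟨Z, ⟨biprod.lift r p, biprod.desc c q, ?_, ?_⟩, ?_, ?_⟩
  · rw [biprod.lift_desc, ← hq]; abel
  · apply biprod.hom_ext
    · apply biprod.hom_ext' <;> simp [h, hqr]
    · apply biprod.hom_ext' <;> simp [hcp, hqp]
  · apply biprod.hom_ext <;> simp [h, hcp]
  · simp

omit [HasZeroObject D] [∀ n : ℤ, (shiftFunctor D n).Additive] [Pretriangulated D] in
lemma tr_comp (X : ARSys.PS D) {a b c : ℕ} (h1 : a ≤ b) (h2 : b ≤ c) :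
    ARSys.tr X h2 ≫ ARSys.tr X h1 = ARSys.tr X (h1.trans h2) := by
  unfold ARSys.tr
  rw [← X.map_comp]
  rfl

omit [HasZeroObject D] [∀ n : ℤ, (shiftFunctor D n).Additive] [Pretriangulated D] in
lemma cone_tr (X : ARSys.PS D) (A : D) (c : (Functor.const ℕᵒᵖ).obj A ⟶ X) {a b : ℕ} (h : a ≤ b) :
    c.app (op b) ≫ ARSys.tr X h = c.app (op a) := by
  have := c.naturality (homOfLE h).op
  simp only [Functor.const_obj_obj, Functor.const_obj_map, Category.id_comp] at this
  exact this.symm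

theorem aux
    (X : ARSys.PS D) (A : D) (c : (Functor.const ℕᵒᵖ).obj A ⟶ X) (hX : DerCA.IsEssConstant X A c) :
    ∃ (i : ℕ) (Z : ℕ → D) (e : ∀ j : ℕ, X.obj (op (i + j)) ≅ A ⊞ Z j) (z : ∀ j k : ℕ, j ≤ k → (Z k ⟶ Z j)),
      (∀ j : ℕ, c.app (op (i + j)) ≫ (e j).hom = biprod.inl) ∧
      (∀ (j k : ℕ) (hjk : j ≤ k), (e k).inv ≫ ARSys.tr X (Nat.add_le_add_left hjk i) = biprod.map (𝟙 A) (z j k hjk) ≫ (e j).inv) ∧
      (∀ j : ℕ, ∃ (k : ℕ) (hjk : j ≤ k), z j k hjk = 0) := by
  obtain ⟨i, s, hs, hk⟩ := hX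
  let r : ∀ j : ℕ, X.obj (op (i + j)) ⟶ A := fun j => ARSys.tr X (Nat.le_add_right i j) ≫ s
  have hr : ∀ j, c.app (op (i + j)) ≫ r j = 𝟙 A := fun j => by
    change c.app (op (i + j)) ≫ ARSys.tr X (Nat.le_add_right i j) ≫ s = 𝟙 A
    rw [← Category.assoc, cone_tr, hs]
  choose Z e he1 he2 using fun j => split_of_retraction (A := A) (X := X.obj (op (i + j)))
    (c.app (op (i + j))) (r j) (hr j)
  let z : ∀ j k : ℕ, j ≤ k → (Z k ⟶ Z j) := fun j k hjk =>
    biprod.inr ≫ (e k).inv ≫ ARSys.tr X (Nat.add_le_add_left hjk i) ≫ (e j).hom ≫ biprod.snd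
  have hinl : ∀ k, biprod.inl ≫ (e k).inv = c.app (op (i + k)) := fun k => by
    rw [← he1 k, Category.assoc, Iso.hom_inv_id, Category.comp_id]
  have hrr : ∀ (j k : ℕ) (hjk : j ≤ k), ARSys.tr X (Nat.add_le_add_left hjk i) ≫ r j = r k :=
    fun j k hjk => by
      change ARSys.tr X (Nat.add_le_add_left hjk i) ≫ ARSys.tr X (Nat.le_add_right i j) ≫ s = _
      rw [← Category.assoc, tr_comp]
  refine ⟨i, Z, e, z, he1, ?_, ?_⟩
  · intro j k hjk
    have key : (e k).inv ≫ ARSys.tr X (Nat.add_le_add_left hjk i) ≫ (e j).hom =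
        biprod.map (𝟙 A) (z j k hjk) := by
      apply biprod.hom_ext'
      · rw [reassoc_of% (hinl k), ← Category.assoc, cone_tr, he1, biprod.inl_map, Category.id_comp]
      · apply biprod.hom_ext
        · rw [biprod.inr_map, Category.assoc, Category.assoc, Category.assoc, he2, hrr j k hjk,
            ← he2 k, Category.assoc, biprod.inr_fst, comp_zero, Iso.inv_hom_id_assoc,
            biprod.inr_fst]
        · rw [biprod.inr_map, Category.assoc, Category.assoc, Category.assoc, Category.assoc,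
            biprod.inr_snd, Category.comp_id]
    rw [← key, Category.assoc, Category.assoc, Iso.hom_inv_id, Category.comp_id]
  · intro j
    obtain ⟨k', hi, hj, hk'⟩ := hk (i + j)
    obtain ⟨k, rfl⟩ := Nat.exists_eq_add_of_le hi
    have hjk : j ≤ k := by omega
    refine ⟨k, hjk, ?_⟩
    change biprod.inr ≫ (e k).inv ≫ ARSys.tr X (Nat.add_le_add_left hjk i) ≫ (e j).hom ≫ biprod.snd = 0
    have : ARSys.tr X (Nat.add_le_add_left hjk i) = ARSys.tr X hj := rfl
    rw [this, hk']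
    simp only [Category.assoc]
    rw [reassoc_of% (he1 j), biprod.inl_snd, comp_zero, comp_zero, comp_zero, comp_zero]

end Aux

/-- Let D be a triangulated category and (A_n) an ℕ-indexed inverse system of D which is essentially
constant with value A relative to the cone c. Then there are an index i and direct sum
decompositions A_{i+j} ≅ A ⊞ Z_j (j ≥ 0) such that (a) c_{i+j} is the inclusion of the summand A and
the transition maps A_{i+k} → A_{i+j} are 𝟙_A ⊕ (Z_k → Z_j), and (b) for every j there is k ≥ j with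
Z_k → Z_j zero. (The published statement is an equivalence whose converse is given without proof;
this row states only the forward implication.) -/
theorem result {D : Type u} [Category.{v} D] [Preadditive D] [HasZeroObject D] [HasShift D ℤ]
    [∀ n : ℤ, (shiftFunctor D n).Additive] [Pretriangulated D] [IsTriangulated D]
    (X : ARSys.PS D) (A : D) (c : (Functor.const ℕᵒᵖ).obj A ⟶ X) (hX : DerCA.IsEssConstant X A c) :
    ∃ (i : ℕ) (Z : ℕ → D) (e : ∀ j : ℕ, X.obj (op (i + j)) ≅ A ⊞ Z j) (z : ∀ j k : ℕ, j ≤ k → (Z k ⟶ Z j)),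
      (∀ j : ℕ, c.app (op (i + j)) ≫ (e j).hom = biprod.inl) ∧
      (∀ (j k : ℕ) (hjk : j ≤ k), (e k).inv ≫ ARSys.tr X (Nat.add_le_add_left hjk i) = biprod.map (𝟙 A) (z j k hjk) ≫ (e j).inv) ∧
      (∀ j : ℕ, ∃ (k : ℕ) (hjk : j ≤ k), z j k hjk = 0) := by
  exact aux X A c hX

end Groth.Agent.S6614
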