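import Groth.Statements.S6620
import Mathlib.Algebra.Homology.DerivedCategory.RightDerivedFunctorPlus

set_option autoImplicit false
universe w w' v v' u u'
open CategoryTheory CategoryTheory.Limits
open CohDer

namespace Groth.Agent.S6620

/-- Part (1): in the case where A has enough injectives (so that RF is defined on all of D⁺(A)): let F :
A ⥤ B be an additive functor between abelian categories, A with enough injectives, and K ∈ D⁺(A)
with Hⁱ(K) = 0 for i < a. Then Hⁱ(RF(K)) = 0 for i < a. -/
theorem result {A : Type u} [Category.{v} A] [Abelian A] [HasDerivedCategory.{w} A] [EnoughInjectives A]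
    {B : Type u'} [Category.{v'} B] [Abelian B] [HasDerivedCategory.{w'} B]
    (F : A ⥤ B) [F.Additive] (K : DerivedCategory.Plus A) (a : ℤ) [K.IsGE a] :
    (F.rightDerivedFunctorPlus.obj K).IsGE a := by
  obtain ⟨L, hL, ⟨e⟩⟩ := DerivedCategory.Plus.exists_injective_nonempty_iso K a
  let Y : CochainComplex.Plus A := (InjectiveObject.ι A).mapCochainComplexPlus.obj L
  have hu : IsIso (F.rightDerivedFunctorPlusUnit.app ((HomotopyCategory.Plus.quotient A).obj Y)) :=
    inferInstance
  let e' : F.rightDerivedFunctorPlus.obj K ≅
      DerivedCategory.Plus.Qh.obj (F.mapHomotopyCategoryPlus.obj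
        ((HomotopyCategory.Plus.quotient A).obj Y)) :=
    F.rightDerivedFunctorPlus.mapIso e.symm ≪≫
      (asIso (F.rightDerivedFunctorPlusUnit.app ((HomotopyCategory.Plus.quotient A).obj Y))).symm
  have hFY : CochainComplex.IsStrictlyGE
      ((F.mapHomologicalComplex (ComplexShape.up ℤ)).obj Y.obj) a := by
    have : CochainComplex.IsStrictlyGE Y.obj a := by
      change CochainComplex.IsStrictlyGE
        (((InjectiveObject.ι A).mapHomologicalComplex (ComplexShape.up ℤ)).obj L.obj) a
      infer_instance
    infer_instance
  have h1 : (DerivedCategory.Q.obj ((F.mapHomologicalComplex (ComplexShape.up ℤ)).obj Y.obj)).IsGE a :=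
    inferInstance
  have h2 : (DerivedCategory.Plus.Qh.obj (F.mapHomotopyCategoryPlus.obj
        ((HomotopyCategory.Plus.quotient A).obj Y))).IsGE a := by
    rw [← DerivedCategory.Plus.isGE_ι_obj_iff]
    exact DerivedCategory.TStructure.t.isGE_of_iso
      ((DerivedCategory.quotientCompQhIso B).app
        ((F.mapHomologicalComplex (ComplexShape.up ℤ)).obj Y.obj)).symm a
  exact DerivedCategory.Plus.TStructure.t.isGE_of_iso e'.symm a

end Groth.Agent.S6620
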