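import Groth.Statements.S6623
import Groth.Agent.Lib.Helper8.Postnikov2

set_option autoImplicit false
universe v u
open CategoryTheory CategoryTheory.Limits
open CohDer

namespace Groth.Agent.S6623

section Aux

open CategoryTheory.Pretriangulated Groth.Agent.Lib.Helper8.Postnikov

variable {D : Type u} [Category.{v} D] [Preadditive D] [HasZeroObject D] [HasShift D ℤ]
    [∀ n : ℤ, (shiftFunctor D n).Additive] [Pretriangulated D]

lemma homZero_unshift {W Z : D} (h : ∀ ψ : W ⟶ (shiftFunctor D (0 : ℤ)).obj Z, ψ = 0) :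
    ∀ ψ : W ⟶ Z, ψ = 0 := by
  intro ψ
  have h1 : ψ ≫ (shiftFunctorZero D ℤ).inv.app Z = 0 := h _
  calc ψ = (ψ ≫ (shiftFunctorZero D ℤ).inv.app Z) ≫ (shiftFunctorZero D ℤ).hom.app Z := by
        rw [Category.assoc, Iso.inv_hom_id_app]
        exact (Category.comp_id ψ).symm
    _ = 0 := by rw [h1, zero_comp]

theorem aux
    (X X' : ChainComplex D ℕ) (φ : X ⟶ X') (n : ℕ)
    (Y : ℕ → D) (a : ∀ k, Y k ⟶ X.X k) (b : ∀ k, X.X (k + 1) ⟶ Y k)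
    (c : ∀ k, Y k ⟶ (shiftFunctor D (1 : ℤ)).obj (Y (k + 1)))
    (h0 : IsIso (a 0))
    (hP : ∀ k, k < n → Triangle.mk (a (k + 1)) (b k) (c k) ∈ distinguishedTriangles ∧ b k ≫ a k = X.d (k + 1) k)
    (qY : ℕ → D) (qa : ∀ k, qY k ⟶ X'.X k) (qb : ∀ k, X'.X (k + 1) ⟶ qY k)
    (qc : ∀ k, qY k ⟶ (shiftFunctor D (1 : ℤ)).obj (qY (k + 1)))
    (qh0 : IsIso (qa 0))
    (qhP : ∀ k, k < n → Triangle.mk (qa (k + 1)) (qb k) (qc k) ∈ distinguishedTriangles ∧ qb k ≫ qa k = X'.d (k + 1) k)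
    (hv : ∀ i j : ℕ, 0 < i → i ≤ j → j ≤ n →
      (∀ ψ : (shiftFunctor D (1 - (i : ℤ))).obj (X.X (j - i)) ⟶ X'.X j, ψ = 0) ∧
      (∀ ψ : X.X j ⟶ (shiftFunctor D (-(i : ℤ))).obj (X'.X (j - i)), ψ = 0))
    (y z : ∀ k, Y k ⟶ qY k)
    (hy : (∀ k, k ≤ n → y k ≫ qa k = a k ≫ φ.f k) ∧
      (∀ k, k < n → b k ≫ y k = φ.f (k + 1) ≫ qb k ∧ c k ≫ (shiftFunctor D (1 : ℤ)).map (y (k + 1)) = y k ≫ qc k))
    (hz : (∀ k, k ≤ n → z k ≫ qa k = a k ≫ φ.f k) ∧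
      (∀ k, k < n → b k ≫ z k = φ.f (k + 1) ≫ qb k ∧ c k ≫ (shiftFunctor D (1 : ℤ)).map (z (k + 1)) = z k ≫ qc k))
    (k : ℕ) (hk : k ≤ n) :
    y k = z k := by
  let w : ∀ k, Y k ⟶ qY k := fun k => y k - z k
  have W1 : ∀ k, k ≤ n → w k ≫ qa k = 0 := by
    intro k hk
    change (y k - z k) ≫ qa k = 0
    rw [Preadditive.sub_comp, hy.1 k hk, hz.1 k hk, sub_self]
  have W3 : ∀ k, k < n → c k ≫ (shiftFunctor D (1 : ℤ)).map (w (k + 1)) = w k ≫ qc k := by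
    intro k hk
    change c k ≫ (shiftFunctor D (1 : ℤ)).map (y (k + 1) - z (k + 1)) = (y k - z k) ≫ qc k
    rw [Functor.map_sub, Preadditive.comp_sub, (hy.2 k hk).2, (hz.2 k hk).2, Preadditive.sub_comp]
  suffices hw : ∀ k, k ≤ n → w k = 0 from sub_eq_zero.mp (hw k hk)
  intro k
  induction k with
  | zero =>
    intro hk
    calc w 0 = (w 0 ≫ qa 0) ≫ inv (qa 0) := by
          rw [Category.assoc, IsIso.hom_inv_id, Category.comp_id]
      _ = 0 := by rw [W1 0 hk, zero_comp]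
  | succ k ih =>
    intro hk
    have ihk : w k = 0 := ih (by omega)
    obtain ⟨hT, _⟩ := hP k (by omega)
    obtain ⟨qhT, _⟩ := qhP k (by omega)
    obtain ⟨t, ht⟩ := factors_through_a (a (k + 1)) (b k) (c k) hT (w (k + 1)) (by
      rw [W3 k (by omega), ihk, zero_comp])
    obtain ⟨s, hs⟩ : ∃ s : Y k ⟶ X'.X (k + 1), t ≫ qa (k + 1) = b k ≫ s :=
      Triangle.yoneda_exact₂ _ hT (t ≫ qa (k + 1)) (by
        change a (k + 1) ≫ t ≫ qa (k + 1) = 0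
        rw [← Category.assoc, ← ht, W1 (k + 1) hk])
    -- (A): s = 0
    have hs0 : s = 0 := by
      have hA : ∀ j, j ≤ k → ∀ ψ : X.X j ⟶ (shiftFunctor D ((k : ℤ) - (j : ℤ))).obj (X'.X (k + 1)),
          ψ = 0 := by
        intro j hj
        obtain ⟨i, rfl, hi1, hi2⟩ : ∃ i, j = k + 1 - i ∧ 0 < i ∧ i ≤ k + 1 :=
          ⟨k + 1 - j, by omega, by omega, by omega⟩
        refine homZero_adj _ (1 - (i : ℤ)) ?_ (hv i (k + 1) hi1 hi2 hk).1
        rw [Nat.cast_sub hi2]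
        push_cast
        ring
      have := vanishS X n Y a b c h0 hP (X'.X (k + 1)) (k : ℤ) k (by omega) hA k le_rfl
      exact homZero_unshift (homZero_congr' (by ring) this) s
    rw [hs0, comp_zero] at hs
    -- (B): t = 0
    have ht0 : t = 0 := by
      refine inj_of_homZero (qa (k + 1)) (qb k) (qc k) qhT (X.X (k + 1)) ?_ t hs
      have hB : ∀ j, j ≤ k → ∀ ψ : (shiftFunctor D (((k : ℤ) + 1) - (j : ℤ))).obj (X.X (k + 1)) ⟶ X'.X j,
          ψ = 0 := by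
        intro j hj
        obtain ⟨i, rfl, hi1, hi2⟩ : ∃ i, j = k + 1 - i ∧ 0 < i ∧ i ≤ k + 1 :=
          ⟨k + 1 - j, by omega, by omega, by omega⟩
        refine homZero_adj' _ (-(i : ℤ)) ?_ (hv i (k + 1) hi1 hi2 hk).2
        rw [Nat.cast_sub hi2]
        push_cast
        ring
      have := vanish X' n qY qa qb qc qh0 qhP (X.X (k + 1)) ((k : ℤ) + 1) k (by omega) hB k le_rfl
      exact homZero_congr (by ring) this
    rw [ht, ht0, comp_zero]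

end Aux

open CategoryTheory.Pretriangulated in
/-- Let D be a triangulated category, φ : X ⟶ X' a morphism of chain complexes in D considered in
degrees ≤ n, where a Postnikov system for the complex X_n → … → X_0 consists of objects Y_k, an
isomorphism Y_0 ⟶ X_0, and for 0 ≤ k < n distinguished triangles Y_{k+1} ⟶ X_{k+1} ⟶ Y_k ⟶
Y_{k+1}⟦1⟧ with X_{k+1} ⟶ Y_k ⟶ X_k the differential; let (Y, a, b, c) and (Y', a', b', c') be
Postnikov systems for X and X'. If Hom(X_{j-i}⟦1-i⟧, X'_j) = 0 and Hom(X_j, X'_{j-i}⟦-i⟧) = 0 for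
all 0 < i ≤ j ≤ n, then there is at most one morphism of Postnikov systems extending φ: two such
morphisms agree on Y_k for every k ≤ n. -/
theorem result {D : Type u} [Category.{v} D] [Preadditive D] [HasZeroObject D] [HasShift D ℤ]
    [∀ n : ℤ, (shiftFunctor D n).Additive] [Pretriangulated D] [IsTriangulated D]
    (X X' : ChainComplex D ℕ) (φ : X ⟶ X') (n : ℕ)
    (Y : ℕ → D) (a : ∀ k, Y k ⟶ X.X k) (b : ∀ k, X.X (k + 1) ⟶ Y k)
    (c : ∀ k, Y k ⟶ (shiftFunctor D (1 : ℤ)).obj (Y (k + 1)))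
    (h0 : IsIso (a 0))
    (hP : ∀ k, k < n → Triangle.mk (a (k + 1)) (b k) (c k) ∈ distinguishedTriangles ∧ b k ≫ a k = X.d (k + 1) k)
    (qY : ℕ → D) (qa : ∀ k, qY k ⟶ X'.X k) (qb : ∀ k, X'.X (k + 1) ⟶ qY k)
    (qc : ∀ k, qY k ⟶ (shiftFunctor D (1 : ℤ)).obj (qY (k + 1)))
    (qh0 : IsIso (qa 0))
    (qhP : ∀ k, k < n → Triangle.mk (qa (k + 1)) (qb k) (qc k) ∈ distinguishedTriangles ∧ qb k ≫ qa k = X'.d (k + 1) k)
    (hv : ∀ i j : ℕ, 0 < i → i ≤ j → j ≤ n →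
      (∀ ψ : (shiftFunctor D (1 - (i : ℤ))).obj (X.X (j - i)) ⟶ X'.X j, ψ = 0) ∧
      (∀ ψ : X.X j ⟶ (shiftFunctor D (-(i : ℤ))).obj (X'.X (j - i)), ψ = 0))
    (y z : ∀ k, Y k ⟶ qY k)
    (hy : (∀ k, k ≤ n → y k ≫ qa k = a k ≫ φ.f k) ∧
      (∀ k, k < n → b k ≫ y k = φ.f (k + 1) ≫ qb k ∧ c k ≫ (shiftFunctor D (1 : ℤ)).map (y (k + 1)) = y k ≫ qc k))
    (hz : (∀ k, k ≤ n → z k ≫ qa k = a k ≫ φ.f k) ∧
      (∀ k, k < n → b k ≫ z k = φ.f (k + 1) ≫ qb k ∧ c k ≫ (shiftFunctor D (1 : ℤ)).map (z (k + 1)) = z k ≫ qc k))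
    (k : ℕ) (hk : k ≤ n) :
    y k = z k := by
  exact aux X X' φ n Y a b c h0 hP qY qa qb qc qh0 qhP hv y z hy hz k hk

end Groth.Agent.S6623
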