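import Groth.Statements.S6624
import Groth.Agent.Lib.Helper6.RDBridge

set_option autoImplicit false
universe w w' v v' u u'
open CategoryTheory CategoryTheory.Limits
open CohDer

namespace Groth.Agent.S6624

/-- Part (1): in the case where A has enough injectives: let F : A ⥤ B be an additive functor between
abelian categories, A with enough injectives, and X an object of A. Then X is right acyclic for F,
i.e. the canonical map F(X)[0] ⟶ RF(X[0]) is an isomorphism in D⁺(B), if and only if F(X) ⟶ R⁰F(X)
is an isomorphism and RⁱF(X) = 0 for all i > 0. -/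
theorem result {A : Type u} [Category.{v} A] [Abelian A] [HasDerivedCategory.{w} A] [EnoughInjectives A]
    {B : Type u'} [Category.{v'} B] [Abelian B] [HasDerivedCategory.{w'} B]
    (F : A ⥤ B) [F.Additive] (X : A) :
    IsIso (F.rightDerivedFunctorPlusUnit.app ((HomotopyCategory.Plus.singleFunctor A 0).obj X)) ↔
      (IsIso (F.toRightDerivedZero.app X) ∧ ∀ i : ℕ, 0 < i → IsZero ((F.rightDerived i).obj X)) := by
  let R := injectiveResolution X
  let K : CochainComplex.Plus A := ⟨(CochainComplex.singleFunctor A 0).obj X, 0, inferInstance⟩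
  let J : CochainComplex.Plus A := ⟨R.cochainComplex, 0, inferInstance⟩
  let i : K ⟶ J := ObjectProperty.homMk R.ι'
  have hJ : ∀ n, Injective (J.obj.X n) := fun n => inferInstanceAs (Injective (R.cochainComplex.X n))
  have h1 := Groth.Agent.Lib.Helper6.RDBridge.unit_isIso_iff F i
    (inferInstanceAs (QuasiIso R.ι'))
  have h2 := Groth.Agent.Lib.Helper6.RDBridge.quasiIso_map_ι'_iff F R
  have h3 := Groth.Agent.Lib.Helper6.RDBridge.quasiIso_map_ι_iff F R
  have h4 : IsIso (F.toRightDerivedZero.app X) ↔ IsIso (R.toRightDerivedZero' F) := by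
    rw [R.toRightDerivedZero_eq F]
    exact isIso_comp_right_iff _ _
  change IsIso (F.rightDerivedFunctorPlusUnit.app ((HomotopyCategory.Plus.quotient A).obj K)) ↔ _
  rw [h1]
  change QuasiIso ((F.mapHomologicalComplex (ComplexShape.up ℤ)).map R.ι') ↔ _
  rw [h2, h3, h4]
  constructor
  · rintro ⟨a, b⟩
    refine ⟨a, fun i hi => ?_⟩
    obtain ⟨k, rfl⟩ : ∃ k, i = k + 1 := ⟨i - 1, by omega⟩
    exact b k
  · rintro ⟨a, b⟩
    exact ⟨a, fun k => b (k + 1) (Nat.succ_pos k)⟩

end Groth.Agent.S6624
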