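import Groth.Statements.S6630
-- import your own Groth.Agent.* helpers here
import Groth.Agent.Lib.Helper23.PropBInt

set_option autoImplicit false
open CategoryTheory CategoryTheory.Limits AlgebraicGeometry Opposite
universe u
open EtCore

namespace Groth.Agent.S6630

/-- An integral morphism of schemes satisfies condition (B): for every etale V ⟶ Y and every etale
covering of X ×_Y V there is an etale covering of V by schemes V_j such that each X ×_Y V_j is a
disjoint union of open subschemes each mapping into X ×_Y V through a member of the given covering. -/
theorem result {X Y : Scheme.{u}} (f : X ⟶ Y) [IsIntegralHom f] : BigSite.PropB f := by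
  exact Groth.Agent.Lib.Helper23.PropBInt.propB_of_integral f

end Groth.Agent.S6630
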