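import Groth.Statements.S6631
-- import your own Groth.Agent.* helpers here
import Groth.Agent.Lib.Helper23.EtSite

set_option autoImplicit false
open CategoryTheory CategoryTheory.Limits AlgebraicGeometry Opposite
universe u
open EtDesc

namespace Groth.Agent.S6631

open CategoryTheory AlgebraicGeometry Opposite Limits GrothendieckTopology
open Groth.Agent.Lib.Helper23.EtSite

set_option backward.isDefEq.respectTransparency.types false in
set_option backward.isDefEq.respectTransparency false in
/-- Condition (C) gives, for every etale `U` over `X`, an etale `V` over `Y` and a surjective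
morphism `X ×_Y V ⟶ U` in the small etale site of `X`. -/
lemma exists_chart {X Y : Scheme.{u}} (f : X ⟶ Y) (hC : BigSite.PropC f) (U : X.Etale) :
    ∃ (V : Y.Etale) (k : (EtCoh.bc f).obj V ⟶ U), Function.Surjective k.left := by
  obtain ⟨V, v, hv, h, hh, hsurj⟩ := hC U.left U.hom
  let V' : Y.Etale := Scheme.Etale.mk v
  let σ : pullback v f ≅ pullback f v := pullbackSymmetry v f
  have hσ : σ.hom ≫ pullback.fst f v = pullback.snd v f := pullbackSymmetry_hom_comp_fst v f
  let k : (EtCoh.bc f).obj V' ⟶ U := MorphismProperty.Over.homMk (σ.hom ≫ h) (by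
    change (σ.hom ≫ h) ≫ U.hom = pullback.snd v f
    rw [Category.assoc, hh, hσ]) trivial
  refine ⟨V', k, ?_⟩
  intro t
  obtain ⟨a, ha⟩ := hsurj.surj t
  refine ⟨σ.inv a, ?_⟩
  change (σ.hom ≫ h) (σ.inv a) = t
  rw [Scheme.Hom.comp_apply]
  have : σ.hom (σ.inv a) = a := by
    rw [← Scheme.Hom.comp_apply, Iso.inv_hom_id]; rfl
  rw [this, ha]


lemma reflects_mono {X Y : Scheme.{u}} (f : X ⟶ Y) (hC : BigSite.PropC f)
    {F G : EtDesc.Sh X} (φ : F ⟶ G) (h : Mono ((EtDesc.pushSh f).map φ)) : Mono φ := by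
  rw [Groth.Agent.Lib.Helper23.EtSite.mono_iff_injective] at h ⊢
  intro U s s' hss'
  obtain ⟨V, k, hk⟩ := exists_chart f hC U.unop
  apply eq_of_restrict_eq F k hk
  apply h (op V)
  change φ.hom.app (op ((EtCoh.bc f).obj V)) (F.obj.map k.op s) =
    φ.hom.app (op ((EtCoh.bc f).obj V)) (F.obj.map k.op s')
  rw [NatTrans.naturality_apply, NatTrans.naturality_apply]
  exact congrArg _ hss'

lemma reflects_epi {X S : Scheme.{u}} (f : X ⟶ S) (hC : BigSite.PropC f)
    {F G : EtDesc.Sh X} (φ : F ⟶ G) (h : Epi ((EtDesc.pushSh f).map φ)) : Epi φ := by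
  rw [epi_iff_isLocallySurjective] at h ⊢
  refine ⟨fun {U} t => ?_⟩
  obtain ⟨V, k, hk⟩ := exists_chart f hC U
  refine X.smallEtaleTopology.transitive (generate_singleton_mem k hk) _ ?_
  rintro U' g ⟨T', a, k', ⟨_⟩, rfl⟩
  rw [Presheaf.pullback_imageSieve, op_comp, Functor.map_comp]
  change Presheaf.imageSieve φ.hom (G.obj.map a.op (G.obj.map k.op t)) ∈ _
  rw [← Presheaf.pullback_imageSieve]
  apply X.smallEtaleTopology.pullback_stable
  have h1 := Presheaf.imageSieve_mem S.smallEtaleTopology ((EtDesc.pushSh f).map φ).hom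
    (U := op V) (G.obj.map k.op t)
  have h2 := (EtCoh.coverPreserving_bc f).cover_preserve h1
  refine X.smallEtaleTopology.superset_covering ?_ h2
  rintro W c ⟨V'', b, c', ⟨s, hs⟩, rfl⟩
  refine ⟨F.obj.map c'.op s, ?_⟩
  rw [NatTrans.naturality_apply, op_comp, Functor.map_comp]
  change G.obj.map c'.op (φ.hom.app (op ((EtCoh.bc f).obj V'')) s) = _
  exact congrArg _ hs

/-- Let f : X ⟶ Y be a morphism of schemes satisfying condition (C) (for every etale U ⟶ X there are an
etale V ⟶ Y and a surjective X-morphism X ×_Y V ⟶ U). Then the direct image of sheaves of sets on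
the small etale sites along f reflects monomorphisms and epimorphisms. -/
theorem result {X Y : Scheme.{u}} (f : X ⟶ Y) (hC : BigSite.PropC f) :
    (EtDesc.pushSh f).ReflectsMonomorphisms ∧ (EtDesc.pushSh f).ReflectsEpimorphisms := by
  exact ⟨⟨fun φ h => reflects_mono f hC φ h⟩, ⟨fun φ h => reflects_epi f hC φ h⟩⟩


end Groth.Agent.S6631
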