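import Groth.Statements.S6632
-- import your own Groth.Agent.* helpers here
import Groth.Agent.Lib.Helper23.EtGlue2
import Mathlib.AlgebraicGeometry.PullbackCarrier

set_option autoImplicit false
open CategoryTheory CategoryTheory.Limits AlgebraicGeometry Opposite
universe u
open EtCore

namespace Groth.Agent.S6632

open GrothendieckTopology Groth.Agent.Lib.Helper23.EtGlue

set_option backward.isDefEq.respectTransparency.types false in
set_option backward.isDefEq.respectTransparency false in
/-- Condition (C) for the base change `X ×_Y U ⟶ U` gives, for every etale `T ⟶ X ×_Y U`, an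
etale `U' ⟶ U` over `Y` such that `X ×_Y U' ⟶ X ×_Y U` factors through a surjection onto `T`. -/
lemma exists_chart {X Y : Scheme.{u}} (f : X ⟶ Y) (U : Y.Etale)
    (hC : BigSite.PropC (pullback.snd f U.hom)) (T : X.Etale) (g : T ⟶ (EtCoh.bc f).obj U) :
    ∃ (U' : Y.Etale) (a : U' ⟶ U) (k : (EtCoh.bc f).obj U' ⟶ T),
      k ≫ g = (EtCoh.bc f).map a ∧ Function.Surjective k.left := by
  let v : U.left ⟶ Y := U.hom
  let σ : pullback v f ≅ pullback f v := pullbackSymmetry v f
  have hσ1 : σ.hom ≫ pullback.fst f v = pullback.snd v f := pullbackSymmetry_hom_comp_fst v f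
  have hσ2 : σ.hom ≫ pullback.snd f v = pullback.fst v f := pullbackSymmetry_hom_comp_snd v f
  let gl : T.left ⟶ pullback v f := g.left
  have hgl : gl ≫ pullback.snd v f = T.hom := MorphismProperty.Over.w g
  haveI : AlgebraicGeometry.Etale gl := inferInstanceAs (AlgebraicGeometry.Etale g.left)
  obtain ⟨V', v', hv', h, hh, hsurj⟩ := hC T.left (gl ≫ σ.hom)
  haveI := hv'
  haveI : AlgebraicGeometry.Etale v := U.prop
  let U' : Y.Etale := Scheme.Etale.mk (v' ≫ v)
  let a : U' ⟶ U := MorphismProperty.Over.homMk v' rfl trivial
  let l₁ : pullback (v' ≫ v) f ⟶ pullback f v :=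
    pullback.lift (pullback.snd _ _) (pullback.fst _ _ ≫ v')
      (by rw [Category.assoc, ← pullback.condition])
  let l : pullback (v' ≫ v) f ⟶ pullback (pullback.snd f v) v' :=
    pullback.lift l₁ (pullback.fst _ _) (pullback.lift_snd _ _ _)
  have hl : l ≫ pullback.fst (pullback.snd f v) v' = l₁ := pullback.lift_fst _ _ _
  have e0 : (l ≫ h) ≫ gl ≫ σ.hom = l₁ := by
    rw [Category.assoc, hh, hl]
  have ew : (l ≫ h) ≫ T.hom = pullback.snd (v' ≫ v) f := by
    rw [← hgl, ← hσ1, ← Category.assoc gl, ← Category.assoc, e0]
    exact pullback.lift_fst _ _ _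
  let k : (EtCoh.bc f).obj U' ⟶ T := MorphismProperty.Over.homMk (l ≫ h) ew trivial
  refine ⟨U', a, k, ?_, ?_⟩
  · apply hom_ext_of_left
    change (l ≫ h) ≫ gl = ((EtCoh.bc f).map a).left
    rw [← cancel_mono σ.hom, Category.assoc, e0]
    apply pullback.hom_ext
    · rw [pullback.lift_fst, Category.assoc, hσ1]
      exact (MorphismProperty.Over.w ((EtCoh.bc f).map a)).symm
    · rw [pullback.lift_snd, Category.assoc, hσ2]
      exact (EtCoh.isPullback_bc_map f a).w.symm
  · intro t
    obtain ⟨p, hp⟩ := hsurj.surj t
    let li : pullback (pullback.snd f v) v' ⟶ pullback (v' ≫ v) f :=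
      pullback.lift (pullback.snd _ _) (pullback.fst _ _ ≫ pullback.fst f v)
        (by
          rw [← Category.assoc, ← pullback.condition, Category.assoc, Category.assoc,
            pullback.condition])
    have hli : li ≫ l = 𝟙 _ := by
      apply pullback.hom_ext
      · rw [Category.assoc, hl, Category.id_comp]
        apply pullback.hom_ext
        · rw [Category.assoc, pullback.lift_fst, pullback.lift_snd]
        · rw [Category.assoc, pullback.lift_snd, ← Category.assoc, pullback.lift_fst,
            pullback.condition]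
      · rw [Category.assoc, pullback.lift_snd, pullback.lift_fst, Category.id_comp]
    refine ⟨li p, ?_⟩
    change (l ≫ h) (li p) = t
    rw [← Scheme.Hom.comp_apply, ← Category.assoc, hli, Category.id_comp]
    exact hp

/-- Let f : X ⟶ Y be a morphism of schemes such that, for every etale V ⟶ Y, the base change X ×_Y V ⟶ V
satisfies condition (C) (for every etale U ⟶ X ×_Y V there are an etale V' ⟶ V and a surjective
morphism from the base change of V' to U over X ×_Y V) and is closed as a map of topological spaces.
Then the base change functor V ↦ X ×_Y V from the small etale site of Y to that of X is almost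
cocontinuous: every covering sieve of X ×_Y V contains the images of the members of some covering
sieve of V, except for members V' for which X ×_Y V' is covered by the empty sieve. -/
theorem result {X Y : Scheme.{u}} (f : X ⟶ Y)
    (hC : ∀ (V : Scheme.{u}) (v : V ⟶ Y) [Etale v], BigSite.PropC (pullback.snd f v))
    (hcl : ∀ (V : Scheme.{u}) (v : V ⟶ Y) [Etale v], IsClosedMap (pullback.snd f v).base) :
    BigSite.IsAlmostCocontinuous (EtCoh.bc f) Y.smallEtaleTopology X.smallEtaleTopology := by
  intro U R hR
  have hrange : Set.range (pullback.fst U.hom f) = U.hom ⁻¹' Set.range f :=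
    Scheme.Pullback.range_fst U.hom f
  have hclosed : IsClosed (Set.range (pullback.fst U.hom f)) := by
    haveI : AlgebraicGeometry.Etale U.hom := U.prop
    have h1 := hcl U.left U.hom
    have h2 : Set.range (pullback.snd f U.hom) = U.hom ⁻¹' Set.range f :=
      Scheme.Pullback.range_snd f U.hom
    rw [hrange, ← h2]
    exact h1.isClosed_range
  let W₀ : U.left.Opens := ⟨(Set.range (pullback.fst U.hom f))ᶜ, hclosed.isOpen_compl⟩
  let R' : Sieve U :=
    { arrows := fun V g => R ((EtCoh.bc f).map g) ∨ IsEmpty ((EtCoh.bc f).obj V).left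
      downward_closed := by
        intro V V' g hg c
        rcases hg with hg | hg
        · left
          rw [Functor.map_comp]
          exact R.downward_closed hg _
        · right
          exact ⟨fun z => hg.false (((EtCoh.bc f).map c).left z)⟩ }
  refine ⟨R', ?_, ?_⟩
  · apply sieve_mem_of_forall_point
    intro y
    by_cases hy : y ∈ Set.range (pullback.fst U.hom f)
    · obtain ⟨x, rfl⟩ := hy
      obtain ⟨T, g, hg, t, ht⟩ := exists_arrow_of_mem R hR x
      haveI : AlgebraicGeometry.Etale U.hom := U.prop
      obtain ⟨U', a, k, hk, hsurj⟩ := exists_chart f U (hC U.left U.hom) T g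
      obtain ⟨p, hp⟩ := hsurj t
      refine ⟨U', a, Or.inl ?_, ⟨(pullback.fst U'.hom f) p, ?_⟩⟩
      · rw [← hk]
        exact R.downward_closed hg k
      · have e1 := (EtCoh.isPullback_bc_map f a).w
        have e2 : ((EtCoh.bc f).map a).left = k.left ≫ g.left := by
          rw [← hk]; rfl
        have e3 := congrArg (fun φ : ((EtCoh.bc f).obj U').left ⟶ U.left => φ p) e1
        simp only [Scheme.Hom.comp_apply] at e3
        refine e3.symm.trans ?_
        rw [e2, Scheme.Hom.comp_apply, hp, ht]
        rfl
    · refine ⟨opn U W₀, opnι U W₀, Or.inr ?_, ⟨⟨y, hy⟩, rfl⟩⟩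
      refine ⟨fun z => ?_⟩
      have hz : (pullback.fst (W₀.ι ≫ U.hom) f) z ∈ Set.range (pullback.fst (W₀.ι ≫ U.hom) f) :=
        ⟨z, rfl⟩
      rw [Scheme.Pullback.range_fst] at hz
      have hz2 : W₀.ι ((pullback.fst (W₀.ι ≫ U.hom) f) z) ∈ Set.range (pullback.fst U.hom f) := by
        rw [hrange]
        obtain ⟨x, hx⟩ := hz
        exact ⟨x, hx.trans (Scheme.Hom.comp_apply _ _ _)⟩
      exact ((pullback.fst (W₀.ι ≫ U.hom) f) z).2 hz2
  · intro V g hg
    rcases hg with h | h
    · exact Or.inr h
    · haveI := h
      exact Or.inl (bot_mem_of_isEmpty _)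

end Groth.Agent.S6632
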