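import Groth.Statements.S6637


set_option autoImplicit false
open CategoryTheory CategoryTheory.Limits AlgebraicGeometry Opposite
universe u
open BigSite

namespace Groth.Agent.S6637

lemma isIso_lift {C : Type*} [Category C] {X Y : C} (f : X ⟶ Y) [Mono f] {Z : C} (h : Z ⟶ X)
    [HasPullback (h ≫ f) f] :
    IsIso (pullback.lift (𝟙 Z) h (by simp) : Z ⟶ pullback (h ≫ f) f) := by
  refine ⟨pullback.fst _ _, pullback.lift_fst _ _ _, ?_⟩
  apply pullback.hom_ext
  · rw [Category.assoc, pullback.lift_fst, Category.comp_id, Category.id_comp]
  · rw [← cancel_mono f, Category.assoc, Category.assoc, pullback.lift_snd_assoc, Category.id_comp]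
    exact pullback.condition

lemma isIso_unit_app {C : Type*} [Category C] [HasPullbacks C] {X Y : C} (f : X ⟶ Y) [Mono f]
    (U : Over X) : IsIso ((Over.mapPullbackAdj f).unit.app U) := by
  haveI : IsIso ((Over.forget X).map ((Over.mapPullbackAdj f).unit.app U)) := by
    have := isIso_lift f U.hom
    exact this
  exact isIso_of_reflects_iso _ (Over.forget X)

lemma isIso_counit_app {C : Type*} [Category C] [HasPullbacks C] {X Y : C} (f : X ⟶ Y) [Mono f]
    {A : Type*} [Category A]
    (J : GrothendieckTopology (Over X)) (K : GrothendieckTopology (Over Y))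
    [(Over.map f).IsContinuous J K] [(Over.pullback f).IsContinuous K J]
    (F : Sheaf J A) :
    IsIso (((Over.mapPullbackAdj f).sheafPushforwardContinuous (E := A) J K).counit.app F) := by
  haveI : IsIso ((sheafToPresheaf J A).map
      (((Over.mapPullbackAdj f).sheafPushforwardContinuous (E := A) J K).counit.app F)) := by
    haveI : ∀ U, IsIso (((sheafToPresheaf J A).map
      (((Over.mapPullbackAdj f).sheafPushforwardContinuous (E := A) J K).counit.app F)).app U) := by
      intro U
      haveI := isIso_unit_app f U.unop
      change IsIso (𝟙 _ ≫ F.obj.map ((Over.mapPullbackAdj f).unit.app U.unop).op ≫ 𝟙 _)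
      infer_instance
    exact NatIso.isIso_of_isIso_app _
  exact isIso_of_reflects_iso _ (sheafToPresheaf J A)

/-- For the Zariski, etale, smooth and fppf topologies: for a monomorphism of schemes f : X ⟶ Y the
counit f_big⁻¹ f_big,* F ⟶ F is an isomorphism for every sheaf of sets F on the big site of X, and
for every abelian sheaf. (The published statement also covers the syntomic topology; this row treats
the Zariski, etale, smooth and fppf topologies only.) -/
theorem result {X Y : Scheme.{u}} (f : X ⟶ Y) [Mono f]
    (K : Precoverage Scheme.{u}) (hK : K = Scheme.zariskiPrecoverage ∨ K = Scheme.etalePrecoverage ∨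
      K = Scheme.precoverage @Smooth ∨ K = Scheme.fppfPrecoverage) :
    (∀ F : QuotSh.Sh K X, IsIso ((BigSite.bigAdj K f (Type (u + 1))).counit.app F)) ∧
      (∀ F : BigSite.Ab K X, IsIso ((BigSite.bigAdj K f AddCommGrpCat.{u + 1}).counit.app F)) := by
  exact ⟨fun F => isIso_counit_app f _ _ F, fun F => isIso_counit_app f _ _ F⟩

end Groth.Agent.S6637
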