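import Groth.Statements.S6640
-- import your own Groth.Agent.* helpers here
import Groth.Agent.Lib.Helper23.StalkLocal
import Groth.Agent.Lib.Helper23.FlcConn

set_option autoImplicit false
open CategoryTheory CategoryTheory.Limits AlgebraicGeometry Opposite
universe u
open EtCore

namespace Groth.Agent.S6640

open Groth.Agent.Lib.Helper23.FlcLoc Groth.Agent.Lib.Helper23.GenConst

set_option backward.isDefEq.respectTransparency.types false in
set_option backward.isDefEq.respectTransparency false in
set_option maxHeartbeats 1600000 in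
/-- Let X be an irreducible scheme, ξ a geometric point over its generic point, A' an additive subgroup
of an abelian group A, and G an abelian sheaf on the small etale site of X with monomorphisms a :
const A' ⟶ G and b : G ⟶ const A whose composite is the map of constant sheaves induced by the
inclusion. If the stalk of a at ξ is an isomorphism, then a is an isomorphism. -/
theorem result {X : Scheme.{u}} [IrreducibleSpace ↥X]
    {Ω : Type u} [Field Ω] [IsSepClosed Ω] (ξ : Spec (CommRingCat.of Ω) ⟶ X)
    (hξ : ξ.base default = genericPoint ↥X)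
    (A : Type) [AddCommGroup A] (A' : AddSubgroup A) (G : EtCoh.Ab X)
    (a : EtCoh.const X ↥A' ⟶ G) (b : G ⟶ EtCoh.const X A) [Mono a] [Mono b]
    (hab : a ≫ b = (constantSheaf X.smallEtaleTopology AddCommGrpCat.{u + 1}).map
      (AddCommGrpCat.ofHom (AddEquiv.ulift.symm.toAddMonoidHom.comp (A'.subtype.comp AddEquiv.ulift.toAddMonoidHom))))
    (hst : IsIso ((EtCoh.stalk ξ).map a)) : IsIso a := by
  classical
  haveI : Epi a := by
    apply Groth.Agent.Lib.Helper23.StalkLocal.epi_of_local_lift
    intro V s v
    let A₁ : AddCommGrpCat.{u + 1} := AddCommGrpCat.of (ULift.{u + 1} A')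
    let A₂ : AddCommGrpCat.{u + 1} := AddCommGrpCat.of (ULift.{u + 1} A)
    let inc : A₁ ⟶ A₂ := AddCommGrpCat.ofHom (AddEquiv.ulift.symm.toAddMonoidHom.comp
      (A'.subtype.comp AddEquiv.ulift.toAddMonoidHom))
    have hinc : Function.Injective inc := by
      intro x y hxy
      have h1 : ((x.down : A') : A) = ((y.down : A') : A) := congrArg ULift.down hxy
      exact ULift.ext _ _ (Subtype.ext h1)
    -- step 1: the image of the section is locally constant
    obtain ⟨W₁, g₁, w₁, hw₁, hb⟩ := exists_const_of_sections A₂ (V := V) v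
      (fun _ : Unit => b.hom.app (op V) s)
    obtain ⟨a₀, ha₀⟩ := hb ()
    -- step 2: a lift of the generic geometric point to `W₁`
    haveI : Etale W₁.hom := W₁.prop
    have hopen : IsOpen (Set.range W₁.hom) := W₁.hom.isOpenMap.isOpen_range
    have hgen : genericPoint X ∈ Set.range W₁.hom := by
      rw [(genericPoint_spec X).mem_open_set_iff hopen]
      exact ⟨W₁.hom w₁, trivial, w₁, rfl⟩
    obtain ⟨y, hy⟩ := hgen
    obtain ⟨wt, -⟩ := Scheme.pointSmallEtaleFiberObjToPreimage_surjective ξ hξ W₁ ⟨y, hy⟩
    -- step 3: lift on a neighbourhood of the generic geometric point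
    have hsurj : Function.Surjective ((EtCoh.stalk ξ).map a) :=
      (ConcreteCategory.bijective_of_isIso _).2
    obtain ⟨W₂, g₂, wt₂, -, t, ht⟩ := Groth.Agent.Lib.Helper23.StalkLocal.exists_local_lift ξ a hsurj
      W₁ wt (G.obj.map g₁.op s)
    -- step 4: this lift is locally constant
    obtain ⟨W₃, g₃, w₃, -, hb'⟩ := exists_const_of_sections A₁ (V := W₂)
      ((wt₂.left : Spec (CommRingCat.of Ω) ⟶ W₂.left) (default : Spec (CommRingCat.of Ω))) (fun _ : Unit => t)
    obtain ⟨a', ha'⟩ := hb' ()
    -- step 5: comparison of the two constants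
    have hab' : ∀ (W : X.Etale) (x : (EtCoh.const X ↥A').obj.obj (op W)),
        b.hom.app (op W) (a.hom.app (op W) x) =
          ((constantSheaf X.smallEtaleTopology AddCommGrpCat.{u + 1}).map inc).hom.app (op W) x := by
      intro W x
      have := congrArg (fun k => k.hom.app (op W) x) hab
      exact this
    have e1 : ts A₂ W₃ (inc a') = ts A₂ W₃ a₀ := by
      have h1 : b.hom.app (op W₃) (a.hom.app (op W₃) (ts A₁ W₃ a')) = ts A₂ W₃ (inc a') := by
        rw [hab']
        exact ts_naturality_apply inc W₃ a'
      rw [← h1, ha', nat_apply, ht, ← map_comp_apply, ← map_comp_apply, nat_apply,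
        map_comp_apply, ← ha₀, ts_map_apply]
    have e2 : inc a' = a₀ := ts_injective A₂ W₃ w₃ e1
    -- step 6: conclusion over `W₁`
    refine ⟨W₁, g₁, ⟨w₁, hw₁⟩, ts A₁ W₁ a', ?_⟩
    apply injective_of_mono b W₁
    rw [hab', nat_apply, ← ha₀, ← e2]
    exact ts_naturality_apply inc W₁ a'
  exact isIso_of_mono_of_epi a

end Groth.Agent.S6640
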