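import Groth.Statements.S6643
-- import your own Groth.Agent.* helpers here
import Groth.Agent.Lib.Helper23.LocConst.Etale
import Groth.Agent.Lib.Helper23.LocConst.Tensor

set_option autoImplicit false
open CategoryTheory CategoryTheory.Limits AlgebraicGeometry Opposite
universe u
open EtModW

namespace Groth.Agent.S6643

/-- On the small etale site of a scheme X, the tensor product over Λ of two finite type locally constant
sheaves of Λ-modules is finite type locally constant. (The published statement covers all locally
constant sheaves of Λ-modules; this row treats the finite type ones.) -/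
theorem result (Λ : Type (u + 1)) [CommRing Λ] {X : Scheme.{u}} (F G : EtModW.Mod Λ X)
    (hF : EtModW.IsFTLocConst Λ F) (hG : EtModW.IsFTLocConst Λ G) :
    EtModW.IsFTLocConst Λ (((EtModD.tensorBi Λ X).obj F).obj G) := by
  classical
  open Groth.Agent.Lib.Helper23.LocConst in
  rw [isFTLocConst_iff] at hF hG ⊢
  intro x
  obtain ⟨A, a, ha, M, _, _, _, α, hα⟩ := hF x
  obtain ⟨B, b, hb, N, _, _, _, β, hβ⟩ := hG x
  obtain ⟨W, p₁, p₂, w, hw1, hw2⟩ := exists_common_refinement A B a b (ha.trans hb.symm)
  have hα' := hα.restrict p₁
  have hβ' := hβ.restrict p₂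
  have hT := LB.tensor (J := X.smallEtaleTopology) (F := F) (G := G) (T := W) hα' hβ'
  have hwx : W.hom.base w = x := by
    rw [hom_base_of_comp p₁ w, hw1, ha]
  exact ⟨W, w, hwx, TensorProduct Λ M N, inferInstance, inferInstance, inferInstance, _, hT⟩

end Groth.Agent.S6643
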