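import Groth.Statements.S6647
-- import your own Groth.Agent.* helpers here
import Groth.Agent.Lib.Helper23.LocConst.Etale
import Groth.Agent.Lib.Helper23.LocConstAb.Bridge

set_option autoImplicit false
open CategoryTheory CategoryTheory.Limits AlgebraicGeometry Opposite
universe u
open EtCore

namespace Groth.Agent.S6647

/-- Let φ : F ⟶ G be a map of locally constant abelian sheaves on the small etale site of a scheme X,
with F finite locally constant. Then on the members of some etale covering of X the restriction of φ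
is, up to isomorphisms with constant sheaves on both sides, the map of constant sheaves induced by a
homomorphism of abelian groups. -/
theorem result {X : Scheme.{u}} (F G : EtCoh.Ab X) (φ : F ⟶ G)
    (hF : EtCoh.IsFiniteLocallyConstant F) (hG : EtRest.IsLocallyConstant G) :
    ∃ (ι : Type u) (U : ι → X.Etale), EtCoh.Covers U ∧ ∀ i, ∃ (M N : Type (u + 1)) (_ : AddCommGroup M) (_ : AddCommGroup N)
      (h : M →+ N)
      (α : EtCoh.restr F (U i) ≅ (constantSheaf (X.smallEtaleTopology.over (U i)) AddCommGrpCat.{u + 1}).obj (AddCommGrpCat.of M))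
      (β : EtCoh.restr G (U i) ≅ (constantSheaf (X.smallEtaleTopology.over (U i)) AddCommGrpCat.{u + 1}).obj (AddCommGrpCat.of N)),
      (X.smallEtaleTopology.overPullback AddCommGrpCat.{u + 1} (U i)).map φ ≫ β.hom = α.hom ≫ (constantSheaf (X.smallEtaleTopology.over (U i)) AddCommGrpCat.{u + 1}).map (AddCommGrpCat.ofHom h) := by
  classical
  have key : ∀ x : X, ∃ (T : X.Etale) (t : T.left), T.hom.base t = x ∧
      ∃ (M N : Type (u + 1)) (_ : AddCommGroup M) (_ : AddCommGroup N)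
        (α : M →ₗ[ℤ] Lib.Helper23.LocConstAb.Sec F T) (β : N →ₗ[ℤ] Lib.Helper23.LocConstAb.Sec G T)
        (ψ : M →ₗ[ℤ] N),
        Lib.Helper23.LocConstAb.LB X.smallEtaleTopology F T α ∧
        Lib.Helper23.LocConstAb.LB X.smallEtaleTopology G T β ∧
        ∀ m, Lib.Helper23.LocConstAb.app φ T (α m) = β (ψ m) := by
    intro x
    obtain ⟨ι₁, U₁, hU₁, h₁⟩ := hF
    obtain ⟨ι₂, U₂, hU₂, h₂⟩ := hG
    obtain ⟨i, a, ha⟩ := hU₁ x
    obtain ⟨j, b, hb⟩ := hU₂ x
    obtain ⟨M₀, _, _, ⟨e₁⟩⟩ := h₁ i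
    obtain ⟨N, _, ⟨e₂⟩⟩ := h₂ j
    obtain ⟨α, hα⟩ := Lib.Helper23.LocConstAb.exists_LB_of_iso F (U₁ i) (ULift.{u + 1} M₀) e₁
    obtain ⟨β, hβ⟩ := Lib.Helper23.LocConstAb.exists_LB_of_iso G (U₂ j) N e₂
    obtain ⟨W, p₁, p₂, w, hw1, hw2⟩ :=
      Lib.Helper23.LocConst.exists_common_refinement (U₁ i) (U₂ j) a b (ha.trans hb.symm)
    have hα' := hα.restrict p₁
    have hβ' := hβ.restrict p₂
    haveI : Module.Finite ℤ (ULift.{u + 1} M₀) := Module.Finite.of_finite
    obtain ⟨S, hS, hSψ⟩ := Lib.Helper23.LocConstAb.exists_linearMap φ hα' hβ'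
    obtain ⟨T, g, hg, ⟨t, ht⟩⟩ := Lib.Helper23.EtGlue.exists_arrow_of_mem S hS w
    obtain ⟨ψ, hψ⟩ := hSψ g hg
    have htx : T.hom.base t = x := by
      rw [Lib.Helper23.LocConst.hom_base_of_comp g t, Lib.Helper23.LocConst.hom_base_of_comp p₁]
      have : g.left.base t = w := ht
      rw [this, hw1, ha]
    exact ⟨T, t, htx, ULift.{u + 1} M₀, N, _, _, _, _, ψ, hα'.restrict g, hβ'.restrict g,
      fun m => hψ m⟩
  choose T t ht M N i1 i2 α β ψ hα hβ hψ using key
  refine ⟨X, T, fun x => ⟨x, t x, ht x⟩, fun x => ?_⟩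
  refine ⟨M x, N x, i1 x, i2 x, (ψ x).toAddMonoidHom,
    (Lib.Helper23.LocConstAb.isoOfLB (hα x)).symm, (Lib.Helper23.LocConstAb.isoOfLB (hβ x)).symm, ?_⟩
  simp only [Iso.symm_hom]
  rw [Iso.comp_inv_eq, Category.assoc, Iso.eq_inv_comp]
  exact Lib.Helper23.LocConstAb.constSheafMap_comp φ (ψ x) (hψ x)

end Groth.Agent.S6647
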