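import Groth.Statements.S6648
-- import your own Groth.Agent.* helpers here
import Mathlib.AlgebraicGeometry.Morphisms.UniversallyOpen
import Mathlib.FieldTheory.SeparableClosure

set_option autoImplicit false
open CategoryTheory CategoryTheory.Limits AlgebraicGeometry Opposite
universe u
open EtCore

namespace Groth.Agent.S6648

open GrothendieckTopology

lemma one_eq_zero_of_fiber {S : Scheme.{u}} (O : Sheaf S.smallEtaleTopology CommRingCat.{u})
    {Ω : Type u} [Field Ω] [IsSepClosed Ω] (ξ : Spec (CommRingCat.of Ω) ⟶ S) (Y : S.Etale)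
    (y : (Scheme.pointSmallEtale ξ).fiber.obj Y) (h : (1 : O.obj.obj (op Y)) = 0) :
    (1 : ((Scheme.pointSmallEtale ξ).presheafFiber.obj O.obj : CommRingCat.{u})) = 0 := by
  have h1 := map_one ((Scheme.pointSmallEtale ξ).toPresheafFiber Y y O.obj).hom
  have h0 := map_zero ((Scheme.pointSmallEtale ξ).toPresheafFiber Y y O.obj).hom
  rw [← h1, h, h0]

/-- For a sheaf of (commutative) rings O on the small etale site of a scheme S, the set of points s of S
over which some geometric stalk of O is a nonzero ring is closed in S. (Rings are taken in the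
universe of the schemes, as for the structure presheaf of the prelude.) -/
theorem result {S : Scheme.{u}} (O : Sheaf S.smallEtaleTopology CommRingCat.{u}) :
    IsClosed {s : ↥S | ∃ (Ω : Type u) (_ : Field Ω) (_ : IsSepClosed Ω) (ξ : Spec (CommRingCat.of Ω) ⟶ S),
      ξ.base default = s ∧ Nontrivial ↑((Scheme.pointSmallEtale ξ).presheafFiber.obj O.obj)} := by
  rw [← isOpen_compl_iff, isOpen_iff_forall_mem_open]
  intro s hs
  -- a geometric point above `s`
  let Ω := SeparableClosure (S.residueField s)
  let ξ : Spec (CommRingCat.of Ω) ⟶ S :=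
    Spec.map (CommRingCat.ofHom (algebraMap (S.residueField s) Ω)) ≫ S.fromSpecResidueField s
  have hξ : ξ.base default = s := by
    change (S.fromSpecResidueField s) _ = s
    exact Scheme.fromSpecResidueField_apply s _
  have htriv : ¬ Nontrivial ↑((Scheme.pointSmallEtale ξ).presheafFiber.obj O.obj) := by
    intro hn
    exact hs ⟨Ω, inferInstance, inferInstance, ξ, hξ, hn⟩
  rw [not_nontrivial_iff_subsingleton] at htriv
  let T : S.Etale := Scheme.Etale.mk (𝟙 S)
  let x₀ : (Scheme.pointSmallEtale ξ).fiber.obj T := Over.homMk ξ (Category.comp_id _)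
  have h10 : (Scheme.pointSmallEtale ξ).toPresheafFiber T x₀ O.obj (1 : O.obj.obj (op T)) =
      (Scheme.pointSmallEtale ξ).toPresheafFiber T x₀ O.obj (0 : O.obj.obj (op T)) :=
    Subsingleton.elim _ _
  rw [Point.toPresheafFiber_eq_iff'] at h10
  obtain ⟨Y, f, y, hy, hf⟩ := h10
  have hY : (1 : O.obj.obj (op Y)) = 0 := by
    have h1 := map_one (O.obj.map f.op).hom
    have h0 := map_zero (O.obj.map f.op).hom
    rw [← h1, ← h0]
    exact hf
  haveI : AlgebraicGeometry.Etale Y.hom := Y.prop
  refine ⟨Set.range Y.hom.base, ?_, Y.hom.isOpenMap.isOpen_range, ?_⟩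
  · rintro s' ⟨t, rfl⟩ ⟨Ω', _, _, ξ', hξ', hn⟩
    obtain ⟨l, hl, -⟩ := Scheme.exists_fac_of_etale_of_isSepClosed Y.hom ξ' t hξ'.symm
    let y' : (Scheme.pointSmallEtale ξ').fiber.obj Y := Over.homMk l hl
    have := one_eq_zero_of_fiber O ξ' Y y' hY
    exact one_ne_zero this
  · let yl : Spec (CommRingCat.of Ω) ⟶ Y.left := y.left
    refine ⟨yl.base (default : Spec (CommRingCat.of Ω)), ?_⟩
    have hw : yl ≫ Y.hom = ξ := Over.w y
    have := congrArg (fun φ : Spec (CommRingCat.of Ω) ⟶ S => φ.base default) hw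
    exact this.trans hξ

end Groth.Agent.S6648
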