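import Groth.Statements.S6655
-- import your own Groth.Agent.* helpers here
import Groth.Agent.Lib.Helper23.LocConst.Etale

set_option autoImplicit false
open CategoryTheory CategoryTheory.Limits AlgebraicGeometry Opposite
universe u
open EtModW

namespace Groth.Agent.S6655

/-- Part (3): with both sheaves of finite type: let Λ be a commutative ring and φ : F ⟶ G a map of
finite type locally constant sheaves of Λ-modules on the small etale site of a scheme X. Then on the
members of some etale covering of X the restriction of φ is, up to isomorphisms with constant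
sheaves on both sides, the map of constant sheaves induced by a Λ-linear map. (The published
statement allows G to be any locally constant sheaf of Λ-modules; this row assumes G of finite type
as well.) -/
theorem result (Λ : Type (u + 1)) [CommRing Λ] {X : Scheme.{u}} (F G : EtModW.Mod Λ X)
    (φ : F ⟶ G) (hF : EtModW.IsFTLocConst Λ F) (hG : EtModW.IsFTLocConst Λ G) :
    ∃ (ι : Type u) (U : ι → X.Etale), EtCoh.Covers U ∧ ∀ i, ∃ (M N : Type (u + 1)) (_ : AddCommGroup M) (_ : AddCommGroup N)
      (_ : Module Λ M) (_ : Module Λ N) (h : M →ₗ[Λ] N)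
      (α : EtModW.restr Λ F (U i) ≅ (constantSheaf (X.smallEtaleTopology.over (U i)) (ModuleCat.{u + 1} Λ)).obj (ModuleCat.of Λ M))
      (β : EtModW.restr Λ G (U i) ≅ (constantSheaf (X.smallEtaleTopology.over (U i)) (ModuleCat.{u + 1} Λ)).obj (ModuleCat.of Λ N)),
      (X.smallEtaleTopology.overPullback (ModuleCat.{u + 1} Λ) (U i)).map φ ≫ β.hom =
        α.hom ≫ (constantSheaf (X.smallEtaleTopology.over (U i)) (ModuleCat.{u + 1} Λ)).map (ModuleCat.ofHom h) := by
  classical
  open Groth.Agent.Lib.Helper23.LocConst in
  rw [isFTLocConst_iff] at hF hG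
  have key := fun x : X => lcat_hom φ x (hF x) (hG x)
  choose T t ht M N i1 i2 i3 i4 i5 i6 α β ψ hα hβ hψ using key
  refine ⟨X, T, fun x => ⟨x, t x, ht x⟩, fun x => ?_⟩
  refine ⟨M x, N x, i1 x, i2 x, i3 x, i4 x, ψ x, (isoOfLB (hα x)).symm, (isoOfLB (hβ x)).symm, ?_⟩
  simp only [Iso.symm_hom]
  rw [Iso.comp_inv_eq, Category.assoc, Iso.eq_inv_comp]
  exact constSheafMap_comp φ (ψ x) (hψ x)

end Groth.Agent.S6655
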