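import Groth.Statements.S6659
-- import your own Groth.Agent.* helpers here
import Groth.Agent.Lib.Helper23.DerivedFF
import Groth.Agent.Lib.Helper23.EtRecoll
import Groth.Agent.Lib.Helper23.EtJCont

set_option autoImplicit false
universe u
open CategoryTheory CategoryTheory.Limits AlgebraicGeometry Opposite
attribute [local instance] HasDerivedCategory.standard
open EtDual

namespace Groth.Agent.S6659

open Groth.Agent.Lib.Helper23.EtRecoll Groth.Agent.Lib.Helper23.EtRestr
  Groth.Agent.Lib.Helper23.DerivedFF

set_option backward.isDefEq.respectTransparency.types false in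
set_option backward.isDefEq.respectTransparency false in
/-- the unit `H ⟶ i_* i^{-1} H` is invertible iff `j^{-1} H = 0` -/
lemma isIso_unit_iff {Z X U : Scheme.{u}} (i : Z ⟶ X)
    [IsClosedImmersion i] (j : U ⟶ X) [IsOpenImmersion j]
    (hZU : Set.range j.base = (Set.range i.base)ᶜ) (H : EtCoh.Ab X) :
    IsIso ((EtCoh.pullPushAdj i).unit.app H) ↔ IsZero ((EtCoh.pull j).obj H) := by
  obtain ⟨hfull, hfaith⟩ := Groth.Agent.S0067.result i
  rw [(EtCoh.pullPushAdj i).isIso_unit_app_iff_mem_essImage]
  have hiso : IsZero ((EtCoh.pull j).obj H) ↔ IsZero ((EtShriek.restrAlong j).obj H) :=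
    ⟨fun h => h.of_iso ((pullIsoRestr j).app H).symm, fun h => h.of_iso ((pullIsoRestr j).app H)⟩
  rw [hiso]
  constructor
  · rintro ⟨G, ⟨e⟩⟩
    exact (isZero_restr_push i j hZU G).of_iso ((EtShriek.restrAlong j).mapIso e.symm)
  · intro h1
    rw [Groth.Agent.S0068.result]
    intro T hT
    obtain ⟨V, ⟨e⟩⟩ := exists_iso_compEtale i j hZU T ((Groth.Agent.S0068.isEmpty_bc_iff i T).2 hT)
    exact (isZero_sections _ h1 V).of_iso (H.obj.mapIso e.op)

/-- Let i : Z → X be a closed immersion of schemes with open complement j : U → X. The direct image i_*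
of abelian etale sheaves is exact (its right exactness is carried as an instance hypothesis), and
the induced functor D(Z_et) → D(X_et) is fully faithful; an object K of D(X_et) lies in its
essential image if and only if every cohomology sheaf of K has zero restriction to U, i.e. K has
cohomology sheaves supported on Z. (The identification of the quasi-inverse with the derived functor
of sections supported on Z is not part of this row.) -/
theorem result {Z X U : Scheme.{u}} (i : Z ⟶ X)
    [IsClosedImmersion i] (j : U ⟶ X) [IsOpenImmersion j] (hZU : Set.range j = (Set.range i)ᶜ)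
    [PreservesFiniteColimits (EtCoh.push i)] :
    ((EtCoh.push i).mapDerivedCategory.Full ∧ (EtCoh.push i).mapDerivedCategory.Faithful) ∧
      ∀ K : DCoh.DEt X,
        (EtCoh.push i).mapDerivedCategory.essImage K ↔
          ∀ n : ℤ, IsZero ((EtCoh.pull j).obj (DCoh.HDEt K n)) := by
  haveI : PreservesFiniteLimits (EtCoh.push i) := by
    have : PreservesLimitsOfSize.{0, 0} (EtCoh.push i) :=
      (EtCoh.pullPushAdj i).rightAdjoint_preservesLimits
    exact PreservesLimitsOfSize.preservesFiniteLimits _
  obtain ⟨hfull, hfaith⟩ := Groth.Agent.S0067.result i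
  have hc : ∀ M, IsIso ((EtCoh.pullPushAdj i).counit.app M) := fun M => inferInstance
  refine ⟨⟨full (EtCoh.pullPushAdj i) hc, faithful (EtCoh.pullPushAdj i) hc⟩, fun K => ?_⟩
  rw [essImage_iff (EtCoh.pullPushAdj i) hc K]
  refine forall_congr' (fun n => ?_)
  exact isIso_unit_iff i j hZU _


end Groth.Agent.S6659
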