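import Groth.Statements.S6666
import Mathlib
import Groth.Agent.Lib.Helper13.NaOver
import Groth.Agent.Lib.Helper13.DvrAtMax

set_option autoImplicit false
universe u
open CategoryTheory AlgebraicGeometry
open Lim

namespace Groth.Agent.S6666

section helpers
set_option linter.unusedSectionVars false
set_option linter.unusedVariables false
set_option linter.style.haveILetI false
open CategoryTheory CategoryTheory.Limits AlgebraicGeometry TopologicalSpace

open Scheme.IdealSheafData

variable {T : Scheme.{u}}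

lemma over_hom_ext_of_mono {A B : Over T} [Mono B.hom] (φ ψ : A ⟶ B) : φ = ψ := by
  apply Over.OverMorphism.ext
  rw [← cancel_mono B.hom, Over.w, Over.w]

/-- the inclusion functor of a set of ideal sheaves -/
def incl (c : Set T.IdealSheafData) : ↥c ⥤ T.IdealSheafData :=
  Monotone.functor (f := (Subtype.val : ↥c → T.IdealSheafData)) (fun _ _ h => h)

/-- the diagram of closed subschemes of a set of ideal sheaves -/
noncomputable def chainDiag (c : Set T.IdealSheafData) : (↥c)ᵒᵖ ⥤ Over T :=
  (incl c).op ⋙ Scheme.IdealSheafData.subschemeFunctor T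

def supCone (c : Set T.IdealSheafData) : Cone (incl c).op where
  pt := Opposite.op (sSup c)
  π :=
    { app := fun I => (homOfLE (le_sSup I.unop.2)).op
      naturality := fun _ _ _ => Quiver.Hom.unop_inj (Subsingleton.elim _ _) }

noncomputable def chainCone (c : Set T.IdealSheafData) : Cone (chainDiag c) :=
  (Scheme.IdealSheafData.subschemeFunctor T).mapCone (supCone c)

lemma chainCone_pt_hom (c : Set T.IdealSheafData) :
    (chainCone c).pt.hom = (sSup c).subschemeι := rfl

instance (c : Set T.IdealSheafData) (I : (↥c)ᵒᵖ) : Mono ((chainDiag c).obj I).hom := by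
  show Mono (I.unop.1.subschemeι)
  infer_instance

instance (c : Set T.IdealSheafData) : Mono (chainCone c).pt.hom := by
  show Mono ((sSup c).subschemeι)
  infer_instance

lemma le_ker_of_cone (c : Set T.IdealSheafData) (s : Cone (chainDiag c)) :
    sSup c ≤ s.pt.hom.ker := by
  refine sSup_le fun I hI => ?_
  have h1 : (s.π.app (Opposite.op ⟨I, hI⟩)).left ≫ I.subschemeι = s.pt.hom :=
    Over.w (s.π.app (Opposite.op ⟨I, hI⟩))
  rw [← h1]
  calc I = I.subschemeι.ker := (ker_subschemeι I).symm
    _ ≤ _ := Scheme.Hom.le_ker_comp _ _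

noncomputable def liftMap (c : Set T.IdealSheafData) (s : Cone (chainDiag c)) :
    s.pt.left ⟶ (sSup c).subscheme :=
  s.pt.hom.toImage ≫ inclusion (le_ker_of_cone c s)

lemma liftMap_ι (c : Set T.IdealSheafData) (s : Cone (chainDiag c)) :
    liftMap c s ≫ (sSup c).subschemeι = s.pt.hom := by
  rw [liftMap, Category.assoc, inclusion_subschemeι, Scheme.Hom.toImage_imageι]

noncomputable def chainIsLimit (c : Set T.IdealSheafData) : IsLimit (chainCone c) where
  lift s := Over.homMk (V := (chainCone c).pt) (liftMap c s) (liftMap_ι c s)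
  fac s I := over_hom_ext_of_mono _ _
  uniq s m hm := over_hom_ext_of_mono _ _

instance (c : Set T.IdealSheafData) (I : (↥c)ᵒᵖ) : IsClosedImmersion ((chainDiag c).obj I).hom := by
  show IsClosedImmersion (I.unop.1.subschemeι)
  infer_instance

lemma isClosedImmersion_left {A B : Over T} [IsClosedImmersion A.hom] [IsClosedImmersion B.hom]
    (m : A ⟶ B) : IsClosedImmersion m.left := by
  have : IsClosedImmersion (m.left ≫ B.hom) := by rw [Over.w]; infer_instance
  exact IsClosedImmersion.of_comp m.left B.hom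

lemma compactSpace_of_closedImmersion [CompactSpace T] {Z : Scheme.{u}} (a : Z ⟶ T)
    [IsClosedImmersion a] : CompactSpace Z :=
  QuasiCompact.compactSpace_of_compactSpace a

lemma quasiSeparatedSpace_of_closedImmersion [QuasiSeparatedSpace T] {Z : Scheme.{u}} (a : Z ⟶ T)
    [IsClosedImmersion a] : QuasiSeparatedSpace Z :=
  quasiSeparatedSpace_of_quasiSeparated a

section stalk

variable {Z : Scheme.{u}} (z : Z)

/-- affine open neighbourhoods of a point -/
abbrev AffNhd : Type u := {V : Z.Opens // IsAffineOpen V ∧ z ∈ V}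

/-- sections over affine open neighbourhoods -/
noncomputable def secDiag : (AffNhd z)ᵒᵖ ⥤ CommRingCat.{u} :=
  (Monotone.functor (f := (Subtype.val : AffNhd z → Z.Opens)) (fun _ _ h => h)).op ⋙ Z.presheaf

lemma secDiag_obj (V : (AffNhd z)ᵒᵖ) : (secDiag z).obj V = Γ(Z, V.unop.1) := rfl

noncomputable def germCocone : Cocone (secDiag z) where
  pt := Z.presheaf.stalk z
  ι :=
    { app := fun V => Z.presheaf.germ V.unop.1 z V.unop.2.2
      naturality := fun V W m => by
        simp only [Functor.const_obj_obj, Functor.const_obj_map]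
        exact Z.presheaf.germ_res (homOfLE (leOfHom m.unop)) z W.unop.2.2 }

instance : Nonempty (AffNhd z) := by
  obtain ⟨_, ⟨U, hU : IsAffineOpen U, rfl⟩, hzU, -⟩ :=
    Z.isBasis_affineOpens.exists_subset_of_mem_open (Set.mem_univ z) isOpen_univ
  exact ⟨⟨U, hU, hzU⟩⟩

lemma exists_affNhd_le (W : Z.Opens) (hz : z ∈ W) : ∃ V : AffNhd z, V.1 ≤ W := by
  obtain ⟨_, ⟨U, hU : IsAffineOpen U, rfl⟩, hzU, hUW⟩ :=
    Z.isBasis_affineOpens.exists_subset_of_mem_open hz W.2
  exact ⟨⟨U, hU, hzU⟩, hUW⟩

instance : IsDirected (AffNhd z) (· ≥ ·) := ⟨fun a b => by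
  obtain ⟨V, hV⟩ := exists_affNhd_le z (a.1 ⊓ b.1) ⟨a.2.2, b.2.2⟩
  exact ⟨V, hV.trans inf_le_left, hV.trans inf_le_right⟩⟩

instance : IsCofiltered (AffNhd z) := inferInstance

noncomputable def germIsColimit : IsColimit (germCocone z) := by
  haveI : ReflectsColimit (secDiag z) (forget CommRingCat.{u}) :=
    reflectsColimit_of_reflectsIsomorphisms _ _
  apply isColimitOfReflects (forget CommRingCat.{u})
  apply Types.FilteredColimit.isColimitOf
  · intro x
    obtain ⟨U, hzU, s, hs⟩ := Z.presheaf.exists_germ_eq x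
    obtain ⟨V, hV⟩ := exists_affNhd_le z U hzU
    refine ⟨Opposite.op V, Z.presheaf.map (homOfLE hV).op s, ?_⟩
    rw [← hs]
    exact (Z.presheaf.germ_res_apply (homOfLE hV) z V.2.2 s).symm
  · intro V W s t hst
    let s' : Γ(Z, V.unop.1) := s
    let t' : Γ(Z, W.unop.1) := t
    have hst' : Z.presheaf.germ V.unop.1 z V.unop.2.2 s' =
        Z.presheaf.germ W.unop.1 z W.unop.2.2 t' := hst
    obtain ⟨U, hzU, iV, iW, hU⟩ := Z.presheaf.germ_eq z V.unop.2.2 W.unop.2.2 s' t' hst'
    obtain ⟨V', hV'⟩ := exists_affNhd_le z U hzU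
    refine ⟨Opposite.op V', (homOfLE (hV'.trans iV.le) : V' ⟶ V.unop).op,
      (homOfLE (hV'.trans iW.le) : V' ⟶ W.unop).op, ?_⟩
    have e1 : Z.presheaf.map (homOfLE (hV'.trans iV.le)).op =
        Z.presheaf.map iV.op ≫ Z.presheaf.map (homOfLE hV').op := by
      rw [← Functor.map_comp]; rfl
    have e2 : Z.presheaf.map (homOfLE (hV'.trans iW.le)).op =
        Z.presheaf.map iW.op ≫ Z.presheaf.map (homOfLE hV').op := by
      rw [← Functor.map_comp]; rfl
    have h2 : Z.presheaf.map (homOfLE (hV'.trans iV.le)).op s' =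
        Z.presheaf.map (homOfLE (hV'.trans iW.le)).op t' := by
      rw [e1, e2]
      exact congrArg (Z.presheaf.map (homOfLE hV').op) hU
    exact h2

end stalk

section stalk2

open Groth.Agent.Lib.Helper13.NaOver

variable {Z : Scheme.{u}} (z : Z) (a : Z ⟶ T)

/-- the diagram of spectra -/
noncomputable def specDiag : AffNhd z ⥤ Scheme.{u} := (secDiag z).rightOp ⋙ Scheme.Spec

noncomputable def specCone : Cone (specDiag z) :=
  Scheme.Spec.mapCone (coneRightOpOfCocone (germCocone z))

noncomputable def specIsLimit : IsLimit (specCone z) :=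
  isLimitOfPreserves Scheme.Spec (isLimitConeRightOpOfCocone (secDiag z) (germIsColimit z))

/-- the open immersion of a stage -/
noncomputable def stageι (V : AffNhd z) : (specDiag z).obj V ⟶ Z := V.2.1.fromSpec

lemma specDiag_map_stageι {V W : AffNhd z} (m : V ⟶ W) :
    (specDiag z).map m ≫ stageι z W = stageι z V :=
  IsAffineOpen.map_fromSpec W.2.1 V.2.1 (homOfLE (leOfHom m)).op

/-- structure maps -/
noncomputable def strNat : specDiag z ⟶ (Functor.const (AffNhd z)).obj T where
  app V := stageι z V ≫ a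
  naturality V W m := by
    simp only [Functor.const_obj_obj, Functor.const_obj_map, Category.comp_id]
    rw [← Category.assoc, specDiag_map_stageι]

lemma specCone_π_stageι (V : AffNhd z) :
    (specCone z).π.app V ≫ stageι z V = Z.fromSpecStalk z :=
  V.2.1.fromSpecStalk_eq_fromSpecStalk V.2.2

lemma specCone_π_str (V : AffNhd z) :
    (specCone z).π.app V ≫ (strNat z a).app V = Z.fromSpecStalk z ≫ a := by
  show (specCone z).π.app V ≫ stageι z V ≫ a = _
  rw [← Category.assoc, specCone_π_stageι]
  rfl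

theorem P_stalk (P : ∀ ⦃T' : Scheme.{u}⦄, (T' ⟶ T) → Prop)
    (h2 : ∀ ⦃I : Type u⦄ [SmallCategory I] [IsCofiltered I] (D : I ⥤ Over T) (c : Limits.Cone D)
      (_ : Limits.IsLimit c),
      (∀ (i j : I) (m : i ⟶ j), IsAffineHom (D.map m).left) →
      (∀ i, CompactSpace (D.obj i).left ∧ QuasiSeparatedSpace (D.obj i).left) →
      (∀ i, P (D.obj i).hom) → P c.pt.hom)
    (hP : ∀ (V : Z.Opens) (hV : IsAffineOpen V), z ∈ V → P (hV.fromSpec ≫ a)) :
    P (Z.fromSpecStalk z ≫ a) := by
  haveI : IsConnected (AffNhd z) := IsCofiltered.isConnected _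
  have hlim := overIsLimit (specDiag z) (strNat z a) (specCone z).π (Z.fromSpecStalk z ≫ a)
    (specCone_π_str z a) (specIsLimit z)
  refine h2 (overDiag (specDiag z) (strNat z a)) _ hlim ?_ ?_ ?_
  · intro i j m
    show IsAffineHom ((specDiag z).map m)
    show IsAffineHom (Spec.map _)
    infer_instance
  · intro i
    constructor
    · show CompactSpace (Spec _); infer_instance
    · show QuasiSeparatedSpace (Spec _); infer_instance
  · intro i
    exact hP i.1 i.2.1 i.2.2

end stalk2

section main

variable (P : ∀ ⦃T' : Scheme.{u}⦄, (T' ⟶ T) → Prop)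

/-- the set of "good" ideal sheaves -/
def good : Set T.IdealSheafData := {I | Nonempty I.subscheme ∧ P I.subschemeι}

theorem sSup_mem_good [CompactSpace T] [QuasiSeparatedSpace T]
    (h2 : ∀ ⦃I : Type u⦄ [SmallCategory I] [IsCofiltered I] (D : I ⥤ Over T) (c : Limits.Cone D)
      (_ : Limits.IsLimit c),
      (∀ (i j : I) (m : i ⟶ j), IsAffineHom (D.map m).left) →
      (∀ i, CompactSpace (D.obj i).left ∧ QuasiSeparatedSpace (D.obj i).left) →
      (∀ i, P (D.obj i).hom) → P c.pt.hom)
    (c : Set T.IdealSheafData) (hc : c ⊆ good P) (hchain : IsChain (· ≤ ·) c)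
    (hne : c.Nonempty) : sSup c ∈ good P := by
  haveI : Nonempty ↥c := hne.to_subtype
  haveI : IsDirected ↥c (· ≤ ·) := ⟨fun a b => by
    rcases hchain.total a.2 b.2 with h | h
    · exact ⟨b, h, le_rfl⟩
    · exact ⟨a, le_rfl, h⟩⟩
  haveI : IsFiltered ↥c := inferInstance
  haveI : IsCofiltered (↥c)ᵒᵖ := inferInstance
  have haff : ∀ (i j : (↥c)ᵒᵖ) (m : i ⟶ j), IsAffineHom ((chainDiag c).map m).left := by
    intro i j m
    haveI := isClosedImmersion_left ((chainDiag c).map m)
    infer_instance
  have hcq : ∀ i : (↥c)ᵒᵖ, CompactSpace ((chainDiag c).obj i).left ∧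
      QuasiSeparatedSpace ((chainDiag c).obj i).left := fun i =>
    ⟨compactSpace_of_closedImmersion ((chainDiag c).obj i).hom,
      quasiSeparatedSpace_of_closedImmersion ((chainDiag c).obj i).hom⟩
  constructor
  · -- nonempty
    haveI : IsConnected (↥c)ᵒᵖ := IsCofiltered.isConnected _
    have hlim : IsLimit ((Over.forget T).mapCone (chainCone c)) :=
      isLimitOfPreserves (Over.forget T) (chainIsLimit c)
    haveI : ∀ {i j : (↥c)ᵒᵖ} (f : i ⟶ j), IsAffineHom ((chainDiag c ⋙ Over.forget T).map f) :=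
      fun {i j} f => haff i j f
    haveI : ∀ i : (↥c)ᵒᵖ, Nonempty ((chainDiag c ⋙ Over.forget T).obj i) :=
      fun i => (hc i.unop.2).1
    haveI : ∀ i : (↥c)ᵒᵖ, CompactSpace ((chainDiag c ⋙ Over.forget T).obj i) :=
      fun i => (hcq i).1
    exact Scheme.nonempty_of_isLimit (chainDiag c ⋙ Over.forget T) _ hlim
  · exact h2 (chainDiag c) (chainCone c) (chainIsLimit c) haff hcq (fun i => (hc i.unop.2).2)

theorem exists_maximal [CompactSpace T] [QuasiSeparatedSpace T] [Nonempty T]
    (h1 : ∀ ⦃T' T'' : Scheme.{u}⦄ (a : T' ⟶ T) (t : T'' ⟶ T') [IsClosedImmersion t] [Surjective t]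
      [CompactSpace T'] [QuasiSeparatedSpace T'] [CompactSpace T''] [QuasiSeparatedSpace T''],
      P (t ≫ a) ↔ P a)
    (h2 : ∀ ⦃I : Type u⦄ [SmallCategory I] [IsCofiltered I] (D : I ⥤ Over T) (c : Limits.Cone D)
      (_ : Limits.IsLimit c),
      (∀ (i j : I) (m : i ⟶ j), IsAffineHom (D.map m).left) →
      (∀ i, CompactSpace (D.obj i).left ∧ QuasiSeparatedSpace (D.obj i).left) →
      (∀ i, P (D.obj i).hom) → P c.pt.hom)
    (hT : P (𝟙 T)) : ∃ I : T.IdealSheafData, Maximal (· ∈ good P) I := by
  have hbot : (⊥ : T.IdealSheafData) ∈ good P := by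
    constructor
    · obtain ⟨t⟩ := ‹Nonempty T›
      exact ⟨(inv (⊥ : T.IdealSheafData).subschemeι).base t⟩
    · haveI : CompactSpace (⊥ : T.IdealSheafData).subscheme :=
        compactSpace_of_closedImmersion (⊥ : T.IdealSheafData).subschemeι
      haveI : QuasiSeparatedSpace (⊥ : T.IdealSheafData).subscheme :=
        quasiSeparatedSpace_of_closedImmersion (⊥ : T.IdealSheafData).subschemeι
      have := h1 (𝟙 T) (⊥ : T.IdealSheafData).subschemeι
      rw [Category.comp_id] at this
      exact this.mpr hT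
  obtain ⟨m, -, hm⟩ := zorn_le_nonempty₀ (good P) (fun c hc hchain y hy =>
    ⟨sSup c, sSup_mem_good P h2 c hc hchain ⟨y, hy⟩, fun z hz => le_sSup hz⟩) ⊥ hbot
  exact ⟨m, hm⟩

theorem P_open_of_maximal [CompactSpace T] [QuasiSeparatedSpace T]
    (h1 : ∀ ⦃T' T'' : Scheme.{u}⦄ (a : T' ⟶ T) (t : T'' ⟶ T') [IsClosedImmersion t] [Surjective t]
      [CompactSpace T'] [QuasiSeparatedSpace T'] [CompactSpace T''] [QuasiSeparatedSpace T''],
      P (t ≫ a) ↔ P a)
    (h3 : ∀ ⦃T' Z V : Scheme.{u}⦄ (a : T' ⟶ T) [CompactSpace T'] [QuasiSeparatedSpace T']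
      (i : Z ⟶ T') [IsClosedImmersion i] (j : V ⟶ T') [IsOpenImmersion j] [CompactSpace V],
      Set.range j = (Set.range i)ᶜ → P a → P (j ≫ a) ∨ P (i ≫ a))
    (I : T.IdealSheafData) (hI : Maximal (· ∈ good P) I) {V : Scheme.{u}} (j : V ⟶ I.subscheme)
    [IsOpenImmersion j] [CompactSpace V] [Nonempty V] : P (j ≫ I.subschemeι) := by
  let a := I.subschemeι
  haveI : CompactSpace I.subscheme := compactSpace_of_closedImmersion a
  haveI : QuasiSeparatedSpace I.subscheme := quasiSeparatedSpace_of_closedImmersion a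
  haveI : QuasiSeparatedSpace V := quasiSeparatedSpace_of_quasiSeparated j
  let C : Closeds I.subscheme :=
    ⟨(Set.range j.base)ᶜ, j.isOpenEmbedding.isOpen_range.isClosed_compl⟩
  let J' := Scheme.IdealSheafData.vanishingIdeal C
  let i : J'.subscheme ⟶ I.subscheme := J'.subschemeι
  have hrange : Set.range i.base = (Set.range j.base)ᶜ := by
    have := Scheme.IdealSheafData.range_subschemeι J'
    rw [Scheme.IdealSheafData.coe_support_vanishingIdeal] at this
    exact this
  haveI : CompactSpace J'.subscheme := compactSpace_of_closedImmersion (T := I.subscheme) i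
  haveI : QuasiSeparatedSpace J'.subscheme :=
    quasiSeparatedSpace_of_closedImmersion (T := I.subscheme) i
  rcases h3 a i j (by rw [hrange, compl_compl]) hI.prop.2 with h | h
  · exact h
  · by_cases hemp : Nonempty J'.subscheme
    · exfalso
      let K := (i ≫ a).ker
      have hIK : I ≤ K := (ker_subschemeι I).symm.le.trans (Scheme.Hom.le_ker_comp i a)
      haveI : CompactSpace K.subscheme := compactSpace_of_closedImmersion K.subschemeι
      haveI : QuasiSeparatedSpace K.subscheme :=
        quasiSeparatedSpace_of_closedImmersion K.subschemeι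
      have hKgood : K ∈ good P := by
        constructor
        · obtain ⟨w⟩ := hemp
          exact ⟨(i ≫ a).toImage.base w⟩
        · have h4 := h1 K.subschemeι (i ≫ a).toImage
          rw [Scheme.Hom.toImage_imageι] at h4
          exact h4.mp h
      have hKI : K ≤ I := hI.2 hKgood hIK
      have hsupp : (I.support : Set T) ⊆ K.support := Scheme.IdealSheafData.support_antitone hKI
      rw [← Scheme.IdealSheafData.range_subschemeι, Scheme.Hom.support_ker] at hsupp
      have hcl : IsClosed (Set.range (i ≫ a).base) := (i ≫ a).isClosedEmbedding.isClosed_range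
      rw [hcl.closure_eq] at hsupp
      obtain ⟨v⟩ := ‹Nonempty V›
      obtain ⟨w, hw⟩ := hsupp ⟨j.base v, rfl⟩
      have hw' : a.base (i.base w) = a.base (j.base v) := hw
      have h5 : i.base w = j.base v := a.isClosedEmbedding.injective hw'
      have h6 : j.base v ∈ (Set.range j.base)ᶜ := by rw [← hrange, ← h5]; exact ⟨w, rfl⟩
      exact h6 ⟨v, rfl⟩
    · have hsurj : Function.Surjective j.base := by
        intro x
        by_contra hx
        have : x ∈ Set.range i.base := by rw [hrange]; exact hx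
        obtain ⟨w, -⟩ := this
        exact hemp ⟨w⟩
      haveI : Epi j.base := (TopCat.epi_iff_surjective _).mpr hsurj
      haveI : IsIso j := IsOpenImmersion.isIso j
      exact (h1 a j).mpr hI.prop.2

open Groth.Agent.Lib.Helper13.DvrAtMax in
theorem main (T : Scheme.{u}) [CompactSpace T] [QuasiSeparatedSpace T] [Nonempty T]
    (P : ∀ ⦃T' : Scheme.{u}⦄, (T' ⟶ T) → Prop)
    (h1 : ∀ ⦃T' T'' : Scheme.{u}⦄ (a : T' ⟶ T) (t : T'' ⟶ T') [IsClosedImmersion t] [Surjective t]
      [CompactSpace T'] [QuasiSeparatedSpace T'] [CompactSpace T''] [QuasiSeparatedSpace T''],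
      P (t ≫ a) ↔ P a)
    (h2 : ∀ ⦃I : Type u⦄ [SmallCategory I] [IsCofiltered I] (D : I ⥤ Over T) (c : Limits.Cone D)
      (_ : Limits.IsLimit c),
      (∀ (i j : I) (m : i ⟶ j), IsAffineHom (D.map m).left) →
      (∀ i, CompactSpace (D.obj i).left ∧ QuasiSeparatedSpace (D.obj i).left) →
      (∀ i, P (D.obj i).hom) → P c.pt.hom)
    (h3 : ∀ ⦃T' Z V : Scheme.{u}⦄ (a : T' ⟶ T) [CompactSpace T'] [QuasiSeparatedSpace T']
      (i : Z ⟶ T') [IsClosedImmersion i] (j : V ⟶ T') [IsOpenImmersion j] [CompactSpace V],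
      Set.range j = (Set.range i)ᶜ → P a → P (j ≫ a) ∨ P (i ≫ a))
    (hT : P (𝟙 T)) :
    ∃ (K : Type u) (_ : Field K) (t : Spec (CommRingCat.of K) ⟶ T), P t := by
  obtain ⟨I, hI⟩ := exists_maximal P h1 h2 hT
  let Z := I.subscheme
  let a : Z ⟶ T := I.subschemeι
  haveI : CompactSpace Z := compactSpace_of_closedImmersion a
  haveI : QuasiSeparatedSpace Z := quasiSeparatedSpace_of_closedImmersion a
  obtain ⟨x⟩ : Nonempty Z := hI.prop.1
  obtain ⟨z, -, hz⟩ := exists_isMaxPt_specializes x
  have hPst : P (Z.fromSpecStalk z ≫ a) := by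
    apply P_stalk z a P h2
    intro V hV hzV
    haveI : Nonempty (Spec Γ(Z, V)) := by
      have : z ∈ Set.range hV.fromSpec.base := by rw [hV.range_fromSpec]; exact hzV
      obtain ⟨w, -⟩ := this
      exact ⟨w⟩
    exact P_open_of_maximal P h1 h3 I hI hV.fromSpec
  let κ := Z.residueField z
  let t₀ : Spec κ ⟶ Spec (Z.presheaf.stalk z) := Spec.map (Z.residue z)
  haveI : IsClosedImmersion t₀ :=
    IsClosedImmersion.spec_of_surjective _ (Z.residue_surjective z)
  have hsingle : ∀ p : Spec (Z.presheaf.stalk z), p = IsLocalRing.closedPoint _ := by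
    intro p
    have h1' : (Z.fromSpecStalk z).base p ⤳ z := by
      have := (IsLocalRing.specializes_closedPoint p).map (Z.fromSpecStalk z).continuous
      rwa [Scheme.fromSpecStalk_closedPoint] at this
    have h2' := hz _ h1'
    apply (Z.fromSpecStalk z).isEmbedding.injective
    rw [h2', Scheme.fromSpecStalk_closedPoint]
  haveI : Surjective t₀ := ⟨fun p => by
    obtain ⟨q⟩ : Nonempty (Spec κ) := inferInstance
    exact ⟨q, (hsingle _).trans (hsingle p).symm⟩⟩
  have hfin := (h1 (Z.fromSpecStalk z ≫ a) t₀).mpr hPst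
  exact ⟨κ, inferInstance, t₀ ≫ Z.fromSpecStalk z ≫ a, hfin⟩

end main


end helpers

/-- Let T be a nonempty quasi-compact quasi-separated scheme and P a property of schemes over T (applied
to quasi-compact quasi-separated ones). Assume: (1) for every thickening T'' → T' (a surjective
closed immersion) of quasi-compact quasi-separated schemes over T, P(T'') if and only if P(T'); (2)
if a scheme T' over T is a limit (in schemes over T) of a cofiltered system of quasi-compact
quasi-separated schemes over T with affine transition morphisms and P holds for every member, then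
P(T'); (3) if T' is quasi-compact quasi-separated over T with P(T') and Z ⊂ T' is a closed subscheme
whose open complement V is quasi-compact, then P(V) or P(Z). Then P(T) implies P(Spec K → T) for
some field K and some morphism Spec K → T. (The published statement does not require T nonempty; for
T empty and P identically true there is no morphism from the spectrum of a field to T, so
nonemptiness is assumed here.) -/
theorem result (T : Scheme.{u}) [CompactSpace T] [QuasiSeparatedSpace T]
    [Nonempty T] (P : ∀ ⦃T' : Scheme.{u}⦄, (T' ⟶ T) → Prop)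
    (h1 : ∀ ⦃T' T'' : Scheme.{u}⦄ (a : T' ⟶ T) (t : T'' ⟶ T') [IsClosedImmersion t] [Surjective t]
      [CompactSpace T'] [QuasiSeparatedSpace T'] [CompactSpace T''] [QuasiSeparatedSpace T''], P (t ≫ a) ↔ P a)
    (h2 : ∀ ⦃I : Type u⦄ [SmallCategory I] [IsCofiltered I] (D : I ⥤ Over T) (c : Limits.Cone D) (_ : Limits.IsLimit c),
      (∀ (i j : I) (m : i ⟶ j), IsAffineHom (D.map m).left) →
      (∀ i, CompactSpace (D.obj i).left ∧ QuasiSeparatedSpace (D.obj i).left) →
      (∀ i, P (D.obj i).hom) → P c.pt.hom)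
    (h3 : ∀ ⦃T' Z V : Scheme.{u}⦄ (a : T' ⟶ T) [CompactSpace T'] [QuasiSeparatedSpace T'] (i : Z ⟶ T') [IsClosedImmersion i]
      (j : V ⟶ T') [IsOpenImmersion j] [CompactSpace V], Set.range j = (Set.range i)ᶜ → P a → P (j ≫ a) ∨ P (i ≫ a))
    (hT : P (𝟙 T)) :
    ∃ (K : Type u) (_ : Field K) (t : Spec (CommRingCat.of K) ⟶ T), P t := by
  exact main T P h1 h2 h3 hT

end Groth.Agent.S6666
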