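import Groth.Statements.S6708
-- import your own Groth.Agent.* helpers here

set_option autoImplicit false
universe v u
open CategoryTheory
open DEquiv

namespace Groth.Agent.S6708

open CategoryTheory.Limits CategoryTheory.Pretriangulated in
/-- Let D be a pretriangulated category, D' ⊆ D a full triangulated subcategory (given as a property of
objects that is triangulated in Mathlib's sense) and X an object of D. Then the category of arrows E
⟶ X with E in D' is filtered. -/
theorem result
    {D : Type u} [Category.{v} D] [Preadditive D] [HasZeroObject D] [HasShift D ℤ]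
    [∀ n : ℤ, (shiftFunctor D n).Additive] [Pretriangulated D]
    (P : ObjectProperty D) [P.IsTriangulated] (X : D) :
    IsFiltered (CostructuredArrow P.ι X) := by
  have hne : Nonempty (CostructuredArrow P.ι X) := by
    obtain ⟨Z, hZ0, hZ⟩ := P.exists_prop_of_containsZero
    exact ⟨CostructuredArrow.mk (Y := (⟨Z, hZ⟩ : P.FullSubcategory)) (0 : Z ⟶ X)⟩
  have : IsFilteredOrEmpty (CostructuredArrow P.ι X) := by
    constructor
    · intro A B
      obtain ⟨Y, hY, ⟨e₀⟩⟩ := P.ext_of_isTriangulatedClosed₂' _
        (binaryBiproductTriangle_distinguished A.left.obj B.left.obj) A.left.property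
        B.left.property
      have e : A.left.obj ⊞ B.left.obj ≅ Y := e₀
      obtain ⟨a₁, ha₁⟩ : ∃ a₁ : A.left.obj ⟶ X, a₁ = A.hom := ⟨_, rfl⟩
      obtain ⟨a₂, ha₂⟩ : ∃ a₂ : B.left.obj ⟶ X, a₂ = B.hom := ⟨_, rfl⟩
      refine ⟨CostructuredArrow.mk (Y := (⟨Y, hY⟩ : P.FullSubcategory))
          (e.inv ≫ biprod.desc a₁ a₂),
        CostructuredArrow.homMk (ObjectProperty.homMk (biprod.inl ≫ e.hom)) ?_,
        CostructuredArrow.homMk (ObjectProperty.homMk (biprod.inr ≫ e.hom)) ?_, trivial⟩
      · change (biprod.inl ≫ e.hom) ≫ e.inv ≫ biprod.desc a₁ a₂ = A.hom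
        rw [Category.assoc, e.hom_inv_id_assoc, biprod.inl_desc, ha₁]
      · change (biprod.inr ≫ e.hom) ≫ e.inv ≫ biprod.desc a₁ a₂ = B.hom
        rw [Category.assoc, e.hom_inv_id_assoc, biprod.inr_desc, ha₂]
    · intro A B f g
      obtain ⟨Z, hZ, b, c, hT⟩ := P.distinguished_cocone_triangle (f.left.hom - g.left.hom)
        A.left.property B.left.property
      have hf : f.left.hom ≫ B.hom = A.hom := CostructuredArrow.w f
      have hg : g.left.hom ≫ B.hom = A.hom := CostructuredArrow.w g
      obtain ⟨d, hd⟩ := Triangle.yoneda_exact₂ _ hT B.hom (by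
        change (f.left.hom - g.left.hom) ≫ B.hom = 0
        rw [Preadditive.sub_comp, hf, hg, sub_self])
      refine ⟨CostructuredArrow.mk (Y := (⟨Z, hZ⟩ : P.FullSubcategory)) d,
        CostructuredArrow.homMk (ObjectProperty.homMk b) hd.symm, ?_⟩
      ext
      have h0 : (f.left.hom - g.left.hom) ≫ b = 0 := comp_distTriang_mor_zero₁₂ _ hT
      rw [Preadditive.sub_comp, sub_eq_zero] at h0
      simpa using h0
  exact { }

end Groth.Agent.S6708
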