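import Groth.Statements.S6718
import Mathlib.LinearAlgebra.PerfectPairing.Basic

set_option autoImplicit false
universe w v u
open CategoryTheory
open DEquiv

namespace Groth.Agent.S6718

section

variable {k : Type w} [Field k] {T : Type u} [Category.{v} T] [Preadditive T] [Linear k T]
  [∀ X Y : T, Module.Finite k (X ⟶ Y)]

/-- postcomposition with an isomorphism as a linear equivalence -/
def postIso (Y : T) {A B : T} (i : A ≅ B) : (Y ⟶ A) ≃ₗ[k] (Y ⟶ B) :=
  LinearEquiv.ofLinear (Linear.rightComp k Y i.hom) (Linear.rightComp k Y i.inv)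
    (by ext f; simp) (by ext f; simp)

lemma postIso_apply (Y : T) {A B : T} (i : A ≅ B) (f : Y ⟶ A) :
    postIso (k := k) Y i f = f ≫ i.hom := rfl

section Construct

variable (Sob : T → T) (e : ∀ X Y : T, (Y ⟶ Sob X) ≃ₗ[k] Module.Dual k (X ⟶ Y))
  (he : ∀ (X Y Y' : T) (g : Y' ⟶ Y) (f : Y ⟶ Sob X),
    e X Y' (g ≫ f) = (e X Y f) ∘ₗ Linear.rightComp k X g)

/-- the trace functional -/
def tr (X : T) : Module.Dual k (X ⟶ Sob X) := e X (Sob X) (𝟙 _)

include he in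
lemma e_apply {X Y : T} (f : Y ⟶ Sob X) (φ : X ⟶ Y) : e X Y f φ = tr Sob e X (φ ≫ f) := by
  have := he X (Sob X) Y f (𝟙 _)
  rw [Category.comp_id] at this
  rw [this]
  rfl

include he in
lemma hom_ext_tr {X Y : T} {f f' : Y ⟶ Sob X}
    (h : ∀ φ : X ⟶ Y, tr Sob e X (φ ≫ f) = tr Sob e X (φ ≫ f')) : f = f' := by
  apply (e X Y).injective
  ext φ
  rw [e_apply Sob e he, e_apply Sob e he, h]

/-- the action on morphisms -/
noncomputable def Smap {X' X : T} (a : X' ⟶ X) : Sob X' ⟶ Sob X :=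
  (e X (Sob X')).symm (tr Sob e X' ∘ₗ Linear.leftComp k (Sob X') a)

include he in
lemma tr_Smap {X' X : T} (a : X' ⟶ X) (φ : X ⟶ Sob X') :
    tr Sob e X (φ ≫ Smap Sob e a) = tr Sob e X' (a ≫ φ) := by
  rw [← e_apply Sob e he]
  unfold Smap
  rw [LinearEquiv.apply_symm_apply]
  rfl

/-- the functor -/
noncomputable def Sfun : T ⥤ T where
  obj := Sob
  map a := Smap Sob e a
  map_id X := by
    apply hom_ext_tr Sob e he
    intro φ
    rw [tr_Smap Sob e he, Category.id_comp, Category.comp_id]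
  map_comp a b := by
    apply hom_ext_tr Sob e he
    intro φ
    rw [tr_Smap Sob e he, ← Category.assoc, tr_Smap Sob e he, ← Category.assoc,
      tr_Smap Sob e he, Category.assoc]

include he in
lemma Smap_add {X' X : T} (a b : X' ⟶ X) :
    Smap Sob e (a + b) = Smap Sob e a + Smap Sob e b := by
  apply hom_ext_tr Sob e he
  intro φ
  rw [tr_Smap Sob e he, Preadditive.comp_add, map_add, tr_Smap Sob e he, tr_Smap Sob e he,
    Preadditive.add_comp, map_add]

include he in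
lemma Smap_smul {X' X : T} (r : k) (a : X' ⟶ X) :
    Smap Sob e (r • a) = r • Smap Sob e a := by
  apply hom_ext_tr Sob e he
  intro φ
  rw [tr_Smap Sob e he, Linear.comp_smul, map_smul, tr_Smap Sob e he, Linear.smul_comp,
    map_smul]

/-- the Serre pairing isomorphisms -/
noncomputable def cc (X Y : T) : (X ⟶ Y) ≃ₗ[k] Module.Dual k (Y ⟶ Sob X) := (e X Y).flip

include he in
lemma cc_apply {X Y : T} (φ : X ⟶ Y) (f : Y ⟶ Sob X) :
    cc Sob e X Y φ f = tr Sob e X (φ ≫ f) := by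
  unfold cc
  rw [LinearEquiv.flip_apply, e_apply Sob e he]

include he in
lemma Smap_eq {X' X : T} (a : X' ⟶ X) :
    Smap Sob e a = (e X (Sob X')).symm (cc Sob e X' X a) := by
  unfold Smap
  congr 1
  ext φ
  rw [cc_apply Sob e he]
  rfl

include he in
lemma Smap_bijective (X' X : T) :
    Function.Bijective (fun a : X' ⟶ X => Smap Sob e a) := by
  have : (fun a : X' ⟶ X => Smap Sob e a) =
      (e X (Sob X')).symm ∘ (cc Sob e X' X) := by
    funext a
    exact Smap_eq Sob e he a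
  rw [this]
  exact (e X (Sob X')).symm.bijective.comp (cc Sob e X' X).bijective

include he in
lemma cc_hc₁ (X Y Y' : T) (f : X ⟶ Y) (g : Y ⟶ Y') :
    cc Sob e X Y' (f ≫ g) = (cc Sob e X Y f) ∘ₗ Linear.leftComp k (Sob X) g := by
  ext h
  rw [cc_apply Sob e he, LinearMap.comp_apply, cc_apply Sob e he, Category.assoc]
  rfl

include he in
lemma cc_hc₂ (X' X Y : T) (a : X' ⟶ X) (f : X ⟶ Y) :
    cc Sob e X' Y (a ≫ f) = (cc Sob e X Y f) ∘ₗ Linear.rightComp k Y (Smap Sob e a) := by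
  ext h
  rw [cc_apply Sob e he, LinearMap.comp_apply, cc_apply Sob e he]
  show tr Sob e X' ((a ≫ f) ≫ h) = tr Sob e X (f ≫ h ≫ Smap Sob e a)
  rw [← Category.assoc f, tr_Smap Sob e he, Category.assoc]

end Construct

section EssSurj

variable (Sob : T → T) (e : ∀ X Y : T, (Y ⟶ Sob X) ≃ₗ[k] Module.Dual k (X ⟶ Y))
  (he : ∀ (X Y Y' : T) (g : Y' ⟶ Y) (f : Y ⟶ Sob X),
    e X Y' (g ≫ f) = (e X Y f) ∘ₗ Linear.rightComp k X g)
  {X RX : T} (e' : ∀ Y : T, (RX ⟶ Y) ≃ₗ[k] Module.Dual k (Y ⟶ X))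
  (he' : ∀ (Y Y' : T) (g : Y ⟶ Y') (f : RX ⟶ Y),
    e' Y' (f ≫ g) = (e' Y f) ∘ₗ Linear.leftComp k X g)

/-- the comparison `Hom(Y, S RX) ≃ Hom(Y, X)` -/
noncomputable def Θ (Y : T) : (Y ⟶ Sob RX) ≃ₗ[k] (Y ⟶ X) :=
  (e RX Y).trans (e' Y).flip.symm

lemma Θ_spec (Y : T) (f : Y ⟶ Sob RX) (φ : RX ⟶ Y) :
    e' Y φ (Θ Sob e e' Y f) = e RX Y f φ := by
  have h : (e' Y).flip (Θ Sob e e' Y f) = e RX Y f := by
    unfold Θ
    rw [LinearEquiv.trans_apply, LinearEquiv.apply_symm_apply]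
  rw [← h, LinearEquiv.flip_apply]

include he he' in
lemma Θ_natural {Y Y' : T} (g : Y' ⟶ Y) (f : Y ⟶ Sob RX) :
    Θ Sob e e' Y' (g ≫ f) = g ≫ Θ Sob e e' Y f := by
  apply (e' Y').flip.injective
  ext φ'
  rw [LinearEquiv.flip_apply, LinearEquiv.flip_apply, Θ_spec, he RX Y Y' g f]
  have := he' Y' Y g φ'
  have h2 : e' Y' φ' (g ≫ Θ Sob e e' Y f) = e' Y (φ' ≫ g) (Θ Sob e e' Y f) := by
    rw [this]
    rfl
  rw [h2, Θ_spec]
  rfl

include he he' in
/-- `S (R X) ≅ X` -/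
noncomputable def isoSR : Sob RX ≅ X where
  hom := Θ Sob e e' (Sob RX) (𝟙 _)
  inv := (Θ Sob e e' X).symm (𝟙 X)
  hom_inv_id := by
    apply (Θ Sob e e' (Sob RX)).injective
    rw [Θ_natural Sob e he e' he', LinearEquiv.apply_symm_apply, Category.comp_id]
  inv_hom_id := by
    have := Θ_natural Sob e he e' he' ((Θ Sob e e' X).symm (𝟙 X)) (𝟙 (Sob RX))
    rw [Category.comp_id, LinearEquiv.apply_symm_apply] at this
    exact this.symm

end EssSurj

end


open CategoryTheory.Limits CategoryTheory.Pretriangulated in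
/-- Let k be a field and T a k-linear (pre)triangulated category with dim_k Hom(X, Y) < ∞ for all X, Y.
The following are equivalent: (1) there are a k-linear equivalence S : T ⥤ T and k-linear
isomorphisms c_{X,Y} : Hom(X, Y) ≅ Hom(Y, S X)^∨ natural in X and in Y; (2) for every object X the
functor Y ↦ Hom(X, Y)^∨ is representable and the functor Y ↦ Hom(Y, X)^∨ is corepresentable, by
k-linear isomorphisms natural in Y. (Here V^∨ is the k-linear dual.) -/
theorem result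
    {k : Type w} [Field k]
    {T : Type u} [Category.{v} T] [Preadditive T] [Linear k T] [HasZeroObject T] [HasShift T ℤ]
    [∀ n : ℤ, (shiftFunctor T n).Additive] [∀ n : ℤ, (shiftFunctor T n).Linear k] [Pretriangulated T]
    [∀ X Y : T, Module.Finite k (X ⟶ Y)] :
    (∃ (S : T ≌ T) (_ : S.functor.Additive) (_ : S.functor.Linear k)
        (c : ∀ X Y : T, (X ⟶ Y) ≃ₗ[k] Module.Dual k (Y ⟶ S.functor.obj X)),
        (∀ (X Y Y' : T) (f : X ⟶ Y) (g : Y ⟶ Y'),
          c X Y' (f ≫ g) = (c X Y f) ∘ₗ Linear.leftComp k (S.functor.obj X) g) ∧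
        (∀ (X' X Y : T) (a : X' ⟶ X) (f : X ⟶ Y),
          c X' Y (a ≫ f) = (c X Y f) ∘ₗ Linear.rightComp k Y (S.functor.map a))) ↔
    ((∀ X : T, ∃ (SX : T) (e : ∀ Y : T, (Y ⟶ SX) ≃ₗ[k] Module.Dual k (X ⟶ Y)),
        ∀ (Y Y' : T) (g : Y' ⟶ Y) (f : Y ⟶ SX),
          e Y' (g ≫ f) = (e Y f) ∘ₗ Linear.rightComp k X g) ∧
      (∀ X : T, ∃ (RX : T) (e : ∀ Y : T, (RX ⟶ Y) ≃ₗ[k] Module.Dual k (Y ⟶ X)),
        ∀ (Y Y' : T) (g : Y ⟶ Y') (f : RX ⟶ Y),
          e Y' (f ≫ g) = (e Y f) ∘ₗ Linear.leftComp k X g)) := by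
  constructor
  · rintro ⟨S, _, _, c, hc₁, hc₂⟩
    refine ⟨fun X => ⟨S.functor.obj X, fun Y => (c X Y).flip, ?_⟩,
      fun X => ⟨S.inverse.obj X, fun Y => (c (S.inverse.obj X) Y).trans
        (postIso (k := k) Y (S.counitIso.app X).symm).dualMap, ?_⟩⟩
    · intro Y Y' g f
      ext φ'
      rw [LinearEquiv.flip_apply, LinearMap.comp_apply, LinearEquiv.flip_apply]
      have := hc₁ X Y' Y φ' g
      show c X Y' φ' (g ≫ f) = c X Y (φ' ≫ g) f
      rw [this]
      rfl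
    · intro Y Y' g f
      ext ψ'
      have := hc₁ (S.inverse.obj X) Y Y' f g
      show c (S.inverse.obj X) Y' (f ≫ g) (ψ' ≫ (S.counitIso.app X).symm.hom) =
        c (S.inverse.obj X) Y f ((g ≫ ψ') ≫ (S.counitIso.app X).symm.hom)
      rw [this, Category.assoc]
      rfl
  · rintro ⟨h1, h2⟩
    choose Sob e he using h1
    choose Rob e' he' using h2
    let F : T ⥤ T := Sfun Sob e he
    haveI : F.Faithful := ⟨fun {X Y} a b hab => (Smap_bijective Sob e he X Y).1 hab⟩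
    haveI : F.Full := ⟨fun {X Y} f => (Smap_bijective Sob e he X Y).2 f⟩
    haveI : F.EssSurj := ⟨fun X => ⟨Rob X, ⟨isoSR Sob e he (e' X) (he' X)⟩⟩⟩
    haveI : F.IsEquivalence := {}
    refine ⟨F.asEquivalence, ⟨fun {X Y} {a b} => Smap_add Sob e he a b⟩,
      ⟨fun {X Y} a r => Smap_smul Sob e he r a⟩, cc Sob e, cc_hc₁ Sob e he, cc_hc₂ Sob e he⟩

end Groth.Agent.S6718
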