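import Groth.Statements.S6725
import Mathlib

set_option autoImplicit false
universe u v' u'
open CategoryTheory CategoryTheory.Limits
open FunMor

namespace Groth.Agent.S6725

section HomK

variable {A : Type u} [CommRing A] {B : Type u'} [Category.{v'} B] [Preadditive B]
  (K : B) (κ : A →+* End K)

/-- `Hom(K, X)` with its `A`-module structure through `κ` -/
def HomK (_κ : A →+* End K) (X : B) : Type v' := K ⟶ X

instance (X : B) : AddCommGroup (HomK K κ X) := inferInstanceAs (AddCommGroup (K ⟶ X))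

lemma κ_mul_comp {X : B} (a b : A) (φ : K ⟶ X) : κ (a * b) ≫ φ = κ a ≫ κ b ≫ φ := by
  rw [mul_comm, map_mul, End.mul_def, Category.assoc]

instance (X : B) : Module A (HomK K κ X) where
  smul a φ := (κ a ≫ (φ : K ⟶ X) : K ⟶ X)
  one_smul φ := by
    show κ 1 ≫ (φ : K ⟶ X) = φ
    rw [map_one]; exact Category.id_comp _
  mul_smul a b φ := κ_mul_comp K κ a b φ
  smul_zero a := Limits.comp_zero
  smul_add a φ ψ := Preadditive.comp_add _ _ _ _ _ _
  add_smul a b φ := by
    have h : κ (a + b) = κ a + κ b := map_add κ a b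
    exact (congrArg (fun t : K ⟶ K => (t ≫ (id φ : K ⟶ X) : K ⟶ X)) h).trans
      (Preadditive.add_comp _ _ _ (κ a) (κ b) (id φ : K ⟶ X))
  zero_smul φ := by
    have h : κ 0 = 0 := map_zero κ
    exact (congrArg (fun t : K ⟶ K => (t ≫ (id φ : K ⟶ X) : K ⟶ X)) h).trans
      (Limits.zero_comp (f := (id φ : K ⟶ X)))

lemma smul_def {X : B} (a : A) (φ : HomK K κ X) : a • φ = (κ a ≫ (φ : K ⟶ X) : K ⟶ X) := rfl

/-- post-composition -/
def HomK.map {X Y : B} (g : X ⟶ Y) : HomK K κ X →ₗ[A] HomK K κ Y where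
  toFun φ := ((φ : K ⟶ X) ≫ g : K ⟶ Y)
  map_add' φ ψ := Preadditive.add_comp _ _ _ _ _ _
  map_smul' a φ := Category.assoc (κ a) (id φ : K ⟶ X) g

lemma HomK.map_apply {X Y : B} (g : X ⟶ Y) (φ : HomK K κ X) :
    HomK.map K κ g φ = ((φ : K ⟶ X) ≫ g : K ⟶ Y) := rfl

/-- the underlying morphism -/
def HomK.hom {X : B} (φ : HomK K κ X) : K ⟶ X := φ

/-- a morphism as an element of `HomK` -/
def HomK.mk {X : B} (φ : K ⟶ X) : HomK K κ X := φ

@[simp] lemma HomK.hom_mk {X : B} (φ : K ⟶ X) : (HomK.mk K κ φ).hom = φ := rfl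
@[simp] lemma HomK.mk_hom {X : B} (φ : HomK K κ X) : HomK.mk K κ φ.hom = φ := rfl
@[simp] lemma HomK.hom_add {X : B} (φ ψ : HomK K κ X) : (φ + ψ).hom = φ.hom + ψ.hom := rfl
@[simp] lemma HomK.hom_zero {X : B} : (0 : HomK K κ X).hom = 0 := rfl
@[simp] lemma HomK.hom_smul {X : B} (a : A) (φ : HomK K κ X) : (a • φ).hom = κ a ≫ φ.hom := rfl
@[simp] lemma HomK.hom_map {X Y : B} (g : X ⟶ Y) (φ : HomK K κ X) :
    (HomK.map K κ g φ).hom = φ.hom ≫ g := rfl

lemma HomK.ext {X : B} {φ ψ : HomK K κ X} (h : φ.hom = ψ.hom) : φ = ψ := h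

/-- `hom` as an additive map -/
def HomK.homAddHom (X : B) : HomK K κ X →+ (K ⟶ X) where
  toFun φ := φ.hom
  map_zero' := rfl
  map_add' _ _ := rfl

lemma HomK.hom_sum {X : B} {ι : Type*} (s : Finset ι) (φ : ι → HomK K κ X) :
    (∑ i ∈ s, φ i).hom = ∑ i ∈ s, (φ i).hom :=
  map_sum (HomK.homAddHom K κ X) φ s

/-- corepresenting data for `X ↦ Hom_A(M, Hom(K, X))` -/
structure Corep (M : Type u) [AddCommGroup M] [Module A M] where
  obj : B
  η : M →ₗ[A] HomK K κ obj
  bij : ∀ X : B, Function.Bijective (fun g : obj ⟶ X => (HomK.map K κ g).comp η)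

/-- the standard vectors -/
def E {n : ℕ} (i : Fin n) : Fin n → A := fun j => if i = j then 1 else 0

lemma lin_apply {n : ℕ} {N : Type*} [AddCommGroup N] [Module A N] (L : (Fin n → A) →ₗ[A] N)
    (x : Fin n → A) : L x = ∑ i, x i • L (E i) :=
  LinearMap.pi_apply_eq_sum_univ L x

theorem nonempty_corep [HasFiniteBiproducts B] [HasCokernels B] (M : Type u) [AddCommGroup M]
    [Module A M] [Module.FinitePresentation A M] : Nonempty (Corep K κ M) := by
  classical
  obtain ⟨n, m, f, g, hf, hex⟩ := Module.FinitePresentation.exists_fin' A M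
  let c : Fin m → Fin n → A := fun j i => g (E j) i
  let ρ : (⨁ fun _ : Fin m => K) ⟶ ⨁ fun _ : Fin n => K :=
    biproduct.desc (fun j => ∑ i, κ (c j i) ≫ biproduct.ι (fun _ : Fin n => K) i)
  let x : Fin n → HomK K κ (cokernel ρ) :=
    fun i => HomK.mk K κ (biproduct.ι (fun _ : Fin n => K) i ≫ cokernel.π ρ)
  let ηt : (Fin n → A) →ₗ[A] HomK K κ (cokernel ρ) :=
    ∑ i, (LinearMap.proj i : (Fin n → A) →ₗ[A] A).smulRight (x i)
  have hηt : ∀ v, ηt v = ∑ i, v i • x i := by
    intro v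
    simp [ηt, LinearMap.sum_apply]
  have hηtE : ∀ i, ηt (E i) = x i := by
    intro i
    rw [hηt]
    simp [E]
  have hρ : ∀ j, biproduct.ι (fun _ : Fin m => K) j ≫ ρ =
      ∑ i, κ (c j i) ≫ biproduct.ι (fun _ : Fin n => K) i := fun j => biproduct.ι_desc _ j
  have hker : ∀ w, ηt (g w) = 0 := by
    intro w
    have h1 : ∀ j, ηt (g (E j)) = 0 := by
      intro j
      apply HomK.ext
      rw [hηt, HomK.hom_sum, HomK.hom_zero]
      have h2 : ∑ i, (g (E j) i • x i).hom =
          (∑ i, κ (c j i) ≫ biproduct.ι (fun _ : Fin n => K) i) ≫ cokernel.π ρ := by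
        rw [Preadditive.sum_comp]
        refine Finset.sum_congr rfl (fun i _ => ?_)
        simp [x, c]
      rw [h2, ← hρ, Category.assoc, cokernel.condition, Limits.comp_zero]
    have h3 := lin_apply (ηt.comp g) w
    simp only [LinearMap.comp_apply] at h3
    rw [h3]
    simp [h1]
  have hle : LinearMap.ker f ≤ LinearMap.ker ηt := by
    intro v hv
    obtain ⟨w, rfl⟩ := (hex v).1 hv
    exact hker w
  let η : M →ₗ[A] HomK K κ (cokernel ρ) :=
    ((LinearMap.ker f).liftQ ηt hle).comp (f.quotKerEquivOfSurjective hf).symm.toLinearMap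
  have hη : ∀ v, η (f v) = ηt v := by
    intro v
    have : (f.quotKerEquivOfSurjective hf).symm (f v) = Submodule.Quotient.mk v := by
      rw [LinearEquiv.symm_apply_eq]
      rfl
    simp only [η, LinearMap.comp_apply, LinearEquiv.coe_coe, this]
    rfl
  refine ⟨⟨cokernel ρ, η, fun X => ⟨?_, ?_⟩⟩⟩
  · intro g₁ g₂ h
    have h' : ∀ m', (HomK.map K κ g₁ (η m')).hom = (HomK.map K κ g₂ (η m')).hom := fun m' =>
      congrArg (HomK.hom K κ) (LinearMap.congr_fun h m')
    apply (cancel_epi (cokernel.π ρ)).1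
    apply biproduct.hom_ext'
    intro i
    have := h' (f (E i))
    rw [HomK.hom_map, HomK.hom_map, hη, hηtE] at this
    simpa [x] using this
  · intro ψ
    let t : (⨁ fun _ : Fin n => K) ⟶ X := biproduct.desc (fun i => (ψ (f (E i))).hom)
    have hψ : ∀ v : Fin n → A, (ψ (f v)).hom =
        ∑ i, κ (v i) ≫ (ψ (f (E i))).hom := by
      intro v
      have h3 := lin_apply (ψ.comp f) v
      simp only [LinearMap.comp_apply] at h3
      rw [h3, HomK.hom_sum]
      rfl
    have ht : ρ ≫ t = 0 := by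
      apply biproduct.hom_ext'
      intro j
      rw [← Category.assoc, hρ, Preadditive.sum_comp, Limits.comp_zero]
      have h4 : ∀ i, (κ (c j i) ≫ biproduct.ι (fun _ : Fin n => K) i) ≫ t =
          κ (c j i) ≫ (ψ (f (E i))).hom := by
        intro i
        rw [Category.assoc, biproduct.ι_desc]
      rw [Finset.sum_congr rfl (fun i _ => h4 i), ← hψ]
      have : f (g (E j)) = 0 := (hex _).2 ⟨_, rfl⟩
      rw [this, map_zero, HomK.hom_zero]
    refine ⟨cokernel.desc ρ t ht, ?_⟩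
    apply LinearMap.ext
    intro m'
    obtain ⟨v, rfl⟩ := hf m'
    apply HomK.ext
    show (HomK.map K κ (cokernel.desc ρ t ht) (η (f v))).hom = (ψ (f v)).hom
    rw [HomK.hom_map, hη, hηt, HomK.hom_sum, Preadditive.sum_comp, hψ]
    refine Finset.sum_congr rfl (fun i _ => ?_)
    simp [x, t]

end HomK

section Functor

variable {A : Type u} [CommRing A] {B : Type u'} [Category.{v'} B] [Preadditive B]
  [HasFiniteBiproducts B] [HasCokernels B] (K : B) (κ : A →+* End K)

lemma HomK.map_id (X : B) : HomK.map K κ (𝟙 X) = LinearMap.id := by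
  apply LinearMap.ext
  intro φ
  exact Category.comp_id _

lemma HomK.map_comp {X Y Z : B} (a : X ⟶ Y) (b : Y ⟶ Z) :
    HomK.map K κ (a ≫ b) = (HomK.map K κ b).comp (HomK.map K κ a) := by
  apply LinearMap.ext
  intro φ
  exact (Category.assoc _ _ _).symm

/-- the category of finitely presented modules -/
abbrev FP (A : Type u) [CommRing A] :=
  ObjectProperty.FullSubcategory (fun M : ModuleCat.{u} A => Module.FinitePresentation A M)

/-- chosen corepresenting data -/
noncomputable def cr (M : FP A) : Corep K κ M.obj :=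
  haveI : Module.FinitePresentation A M.obj := M.property
  (nonempty_corep K κ M.obj).some

/-- the bijection `Hom(F M, X) ≃ Hom_A(M, Hom(K, X))` -/
noncomputable def Φ (M : FP A) {X : B} (g : (cr K κ M).obj ⟶ X) : M.obj →ₗ[A] HomK K κ X :=
  (HomK.map K κ g).comp (cr K κ M).η

lemma Φ_bij (M : FP A) (X : B) : Function.Bijective (Φ K κ M (X := X)) := (cr K κ M).bij X

/-- the inverse -/
noncomputable def desc (M : FP A) {X : B} (ψ : M.obj →ₗ[A] HomK K κ X) : (cr K κ M).obj ⟶ X :=
  ((Φ_bij K κ M X).2 ψ).choose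

@[simp] lemma Φ_desc (M : FP A) {X : B} (ψ : M.obj →ₗ[A] HomK K κ X) :
    Φ K κ M (desc K κ M ψ) = ψ := ((Φ_bij K κ M X).2 ψ).choose_spec

lemma Φ_ext (M : FP A) {X : B} {g g' : (cr K κ M).obj ⟶ X} (h : Φ K κ M g = Φ K κ M g') :
    g = g' := (Φ_bij K κ M X).1 h

lemma Φ_comp (M : FP A) {X Y : B} (g : (cr K κ M).obj ⟶ X) (b : X ⟶ Y) :
    Φ K κ M (g ≫ b) = (HomK.map K κ b).comp (Φ K κ M g) := by
  unfold Φ
  rw [HomK.map_comp, LinearMap.comp_assoc]

/-- the functor `M ↦ M ⊗_A K` -/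
noncomputable def Ffun : FP A ⥤ B where
  obj M := (cr K κ M).obj
  map {M N} h := desc K κ M ((cr K κ N).η.comp h.hom.hom)
  map_id M := by
    apply Φ_ext
    rw [Φ_desc]
    unfold Φ
    rw [HomK.map_id]
    rfl
  map_comp {M N P} h k := by
    apply Φ_ext
    rw [Φ_desc, Φ_comp, Φ_desc, ← LinearMap.comp_assoc]
    show _ = (Φ K κ N (desc K κ N ((cr K κ P).η.comp k.hom.hom))).comp h.hom.hom
    rw [Φ_desc]
    rfl

lemma Φ_map {M N : FP A} (h : M ⟶ N) {X : B} (g : (cr K κ N).obj ⟶ X) :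
    Φ K κ M ((Ffun K κ).map h ≫ g) = (Φ K κ N g).comp h.hom.hom := by
  show Φ K κ M (desc K κ M ((cr K κ N).η.comp h.hom.hom) ≫ g) = _
  rw [Φ_comp, Φ_desc]
  rfl

end Functor

section FPcat

variable (A : Type u) [CommRing A]

instance : HasZeroObject (FP A) := by
  refine ⟨⟨⟨ModuleCat.of A PUnit, inferInstance⟩, ?_⟩⟩
  rw [IsZero.iff_id_eq_zero]
  ext x

/-- the product as a binary bicone -/
noncomputable def bicone (X Y : FP A) : BinaryBicone X Y where
  pt := ⟨ModuleCat.of A (X.obj × Y.obj),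
    haveI : Module.FinitePresentation A X.obj := X.property
    haveI : Module.FinitePresentation A Y.obj := Y.property
    inferInstance⟩
  fst := ObjectProperty.homMk (ModuleCat.ofHom (LinearMap.fst A X.obj Y.obj))
  snd := ObjectProperty.homMk (ModuleCat.ofHom (LinearMap.snd A X.obj Y.obj))
  inl := ObjectProperty.homMk (ModuleCat.ofHom (LinearMap.inl A X.obj Y.obj))
  inr := ObjectProperty.homMk (ModuleCat.ofHom (LinearMap.inr A X.obj Y.obj))
  inl_fst := by ext x; rfl
  inl_snd := by ext x; rfl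
  inr_fst := by ext x; rfl
  inr_snd := by ext x; rfl

instance : HasBinaryBiproducts (FP A) where
  has_binary_biproduct X Y := HasBinaryBiproduct.mk
    { bicone := bicone A X Y
      isBilimit := isBinaryBilimitOfTotal _ (by
        ext x
        show ((x.1, (0 : Y.obj)) + ((0 : X.obj), x.2) : X.obj × Y.obj) = x
        exact Prod.ext (add_zero _) (zero_add _)) }

end FPcat

section Coker

variable (A : Type u) [CommRing A]

/-- the cokernel object -/
noncomputable def cokObj {X Y : FP A} (f : X ⟶ Y) : FP A :=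
  ⟨ModuleCat.of A (Y.obj ⧸ LinearMap.range f.hom.hom), by
    haveI : Module.FinitePresentation A X.obj := X.property
    haveI : Module.FinitePresentation A Y.obj := Y.property
    refine Module.finitePresentation_of_surjective (LinearMap.range f.hom.hom).mkQ
      (Submodule.mkQ_surjective _) ?_
    rw [Submodule.ker_mkQ, LinearMap.range_eq_map]
    exact Module.Finite.fg_top.map _⟩

/-- the projection to the cokernel -/
noncomputable def cokπ {X Y : FP A} (f : X ⟶ Y) : Y ⟶ cokObj A f :=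
  ObjectProperty.homMk (ModuleCat.ofHom (LinearMap.range f.hom.hom).mkQ)

lemma cok_w {X Y : FP A} (f : X ⟶ Y) : f ≫ cokπ A f = 0 ≫ cokπ A f := by
  rw [zero_comp]
  ext x
  exact (Submodule.Quotient.mk_eq_zero _).2 ⟨x, rfl⟩

lemma range_le_ker {X Y Z : FP A} (f : X ⟶ Y) (t : Y ⟶ Z) (h : f ≫ t = 0) :
    LinearMap.range f.hom.hom ≤ LinearMap.ker t.hom.hom := by
  rintro _ ⟨x, rfl⟩
  have := congrArg (fun a : X ⟶ Z => a.hom.hom x) h
  exact this

/-- the cokernel cofork is a colimit -/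
noncomputable def cokIsColimit {X Y : FP A} (f : X ⟶ Y) :
    IsColimit (Cofork.ofπ (cokπ A f) (cok_w A f)) :=
  Cofork.IsColimit.mk' _ (fun s =>
    ⟨ObjectProperty.homMk (ModuleCat.ofHom ((LinearMap.range f.hom.hom).liftQ s.π.hom.hom
        (range_le_ker A f s.π (by rw [s.condition, zero_comp])))),
      by
        ext x
        rfl,
      by
        intro m hm
        ext x
        obtain ⟨y, rfl⟩ := Submodule.mkQ_surjective _ x
        have := congrArg (fun a : Y ⟶ s.pt => a.hom.hom y) hm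
        exact this⟩)

instance : HasCokernels (FP A) := ⟨fun f => ⟨⟨⟨_, cokIsColimit A f⟩⟩⟩⟩

instance : HasCoequalizers (FP A) := Preadditive.hasCoequalizers_of_hasCokernels

instance : HasFiniteCoproducts (FP A) := hasFiniteCoproducts_of_has_binary_and_initial

end Coker

section Pres

variable {A : Type u} [CommRing A] {B : Type u'} [Category.{v'} B] [Preadditive B]
  [HasFiniteBiproducts B] [HasCokernels B] (K : B) (κ : A →+* End K)

lemma Ffun_map_zero (M N : FP A) : (Ffun K κ).map (0 : M ⟶ N) = 0 := by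
  apply Φ_ext K κ M
  show Φ K κ M (desc K κ M ((cr K κ N).η.comp (0 : M ⟶ N).hom.hom)) = Φ K κ M 0
  rw [Φ_desc]
  apply LinearMap.ext
  intro x
  apply HomK.ext
  show ((cr K κ N).η ((0 : M ⟶ N).hom.hom x)).hom = ((cr K κ M).η x).hom ≫ 0
  rw [Limits.comp_zero]
  have : (0 : M ⟶ N).hom.hom x = 0 := rfl
  rw [this, map_zero]
  rfl

instance : (Ffun K κ).PreservesZeroMorphisms := ⟨fun M N => Ffun_map_zero K κ M N⟩

/-- the functor preserves the standard cokernel coforks -/
noncomputable def presCok {X Y : FP A} (f : X ⟶ Y) :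
    IsColimit ((Ffun K κ).mapCocone (Cofork.ofπ (cokπ A f) (cok_w A f))) := by
  refine (isColimitMapCoconeCoforkEquiv (Ffun K κ) (cok_w A f)).symm
    (Cofork.IsColimit.mk' _ (fun s => ?_))
  let sπ : (cr K κ Y).obj ⟶ s.pt := s.π
  have hsπ : sπ = s.π := rfl
  have hcond : (Ffun K κ).map f ≫ sπ = 0 := by
    rw [hsπ]
    calc (Ffun K κ).map f ≫ s.π = (Ffun K κ).map 0 ≫ s.π := s.condition
      _ = 0 ≫ s.π := congrArg (fun t => t ≫ s.π) (Ffun_map_zero K κ X Y)
      _ = 0 := zero_comp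
  have hψ : (Φ K κ Y sπ).comp f.hom.hom = 0 := by
    calc (Φ K κ Y sπ).comp f.hom.hom = Φ K κ X ((Ffun K κ).map f ≫ sπ) := (Φ_map K κ f sπ).symm
      _ = Φ K κ X 0 := congrArg (Φ K κ X) hcond
      _ = 0 := by
        apply LinearMap.ext
        intro x
        apply HomK.ext
        exact Limits.comp_zero
  have hle : LinearMap.range f.hom.hom ≤ LinearMap.ker (Φ K κ Y sπ) := by
    rintro _ ⟨x, rfl⟩
    exact LinearMap.congr_fun hψ x
  let ψQ : (cokObj A f).obj →ₗ[A] HomK K κ s.pt :=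
    (LinearMap.range f.hom.hom).liftQ (Φ K κ Y sπ) hle
  have hψQ : ψQ.comp (cokπ A f).hom.hom = Φ K κ Y sπ := by
    apply LinearMap.ext
    intro y
    rfl
  refine ⟨desc K κ (cokObj A f) ψQ, ?_, ?_⟩
  · rw [← hsπ]
    apply Φ_ext K κ Y
    calc Φ K κ Y ((Ffun K κ).map (cokπ A f) ≫ desc K κ (cokObj A f) ψQ)
        = (Φ K κ (cokObj A f) (desc K κ (cokObj A f) ψQ)).comp (cokπ A f).hom.hom :=
          Φ_map K κ (cokπ A f) _
      _ = ψQ.comp (cokπ A f).hom.hom := by rw [Φ_desc]
      _ = Φ K κ Y sπ := hψQ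
  · intro m hm
    let m' : (cr K κ (cokObj A f)).obj ⟶ s.pt := m
    have hm' : m' = m := rfl
    rw [← hm']
    apply Φ_ext K κ (cokObj A f)
    rw [Φ_desc]
    apply LinearMap.ext
    intro x
    obtain ⟨y, rfl⟩ := Submodule.mkQ_surjective _ x
    have h0 : (Ffun K κ).map (cokπ A f) ≫ m' = sπ := by rw [hm', hsπ]; exact hm
    have h1 : Φ K κ Y ((Ffun K κ).map (cokπ A f) ≫ m') = Φ K κ Y sπ := congrArg (Φ K κ Y) h0
    have h2 := Φ_map K κ (cokπ A f) m'
    rw [h2] at h1
    exact LinearMap.congr_fun h1 y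

instance {X Y : FP A} (f : X ⟶ Y) : PreservesColimit (parallelPair f 0) (Ffun K κ) :=
  preservesColimit_of_preserves_colimit_cocone (cokIsColimit A f) (presCok K κ f)

instance : PreservesFiniteColimits (Ffun K κ) :=
  Functor.preservesFiniteColimits_of_preservesCokernels (Ffun K κ)

/-- `A` as a finitely presented module -/
abbrev MA (A : Type u) [CommRing A] : FP A := ⟨ModuleCat.of A A, inferInstance⟩

/-- `a ↦ κ a` -/
noncomputable def ψ₀ : A →ₗ[A] HomK K κ K :=
  LinearMap.toSpanSingleton A (HomK K κ K) (HomK.mk K κ (𝟙 K))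

lemma ψ₀_hom (a : A) : (ψ₀ K κ a).hom = κ a := by
  show κ a ≫ 𝟙 K = κ a
  exact Category.comp_id _

/-- `F(A) ≅ K` -/
noncomputable def eA : (Ffun K κ).obj (MA A) ≅ K where
  hom := desc K κ (MA A) (ψ₀ K κ)
  inv := ((cr K κ (MA A)).η (1 : A)).hom
  hom_inv_id := by
    apply Φ_ext K κ (MA A)
    show Φ K κ (MA A) (desc K κ (MA A) (ψ₀ K κ) ≫ ((cr K κ (MA A)).η (1 : A)).hom) =
      Φ K κ (MA A) (𝟙 (cr K κ (MA A)).obj)
    rw [Φ_comp, Φ_desc]
    apply LinearMap.ext
    intro a
    apply HomK.ext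
    show (ψ₀ K κ a).hom ≫ ((cr K κ (MA A)).η (1 : A)).hom = ((cr K κ (MA A)).η a).hom ≫ 𝟙 _
    rw [ψ₀_hom, Category.comp_id, ← HomK.hom_smul, ← map_smul, smul_eq_mul, mul_one]
  inv_hom_id := by
    have h := LinearMap.congr_fun (Φ_desc K κ (MA A) (ψ₀ K κ)) (1 : A)
    have h2 : ((cr K κ (MA A)).η (1 : A)).hom ≫ desc K κ (MA A) (ψ₀ K κ) =
        (ψ₀ K κ (1 : A)).hom := congrArg (HomK.hom K κ) h
    exact h2.trans ((ψ₀_hom K κ 1).trans (map_one κ))

theorem eA_compat (a : A) :
    (Ffun K κ).map (ObjectProperty.homMk (ModuleCat.ofHom (LinearMap.lsmul A A a)) :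
      MA A ⟶ MA A) ≫ (eA K κ).hom = (eA K κ).hom ≫ κ a := by
  apply Φ_ext K κ (MA A)
  show Φ K κ (MA A) ((Ffun K κ).map _ ≫ desc K κ (MA A) (ψ₀ K κ)) =
    Φ K κ (MA A) (desc K κ (MA A) (ψ₀ K κ) ≫ κ a)
  rw [Φ_map, Φ_comp, Φ_desc]
  apply LinearMap.ext
  intro b
  apply HomK.ext
  show (ψ₀ K κ (a * b)).hom = (ψ₀ K κ b).hom ≫ κ a
  rw [ψ₀_hom, ψ₀_hom, map_mul, End.mul_def]

end Pres


/-- Essential surjectivity of the functor F ↦ (F(A), induced A-action): let A be a commutative ring and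
B an additive category with cokernels. For every object K of B and ring map κ : A → End(K) there
exist a right exact functor F from the category of finitely presented A-modules to B and an
isomorphism F(A) ≅ K carrying F(multiplication by a) to κ(a) for every a ∈ A. -/
theorem result
    (A : Type u) [CommRing A] {B : Type u'} [Category.{v'} B] [Preadditive B] [HasFiniteBiproducts B]
    [HasCokernels B] (K : B) (κ : A →+* End K) :
    ∃ (F : (ObjectProperty.FullSubcategory (fun M : ModuleCat.{u} A => Module.FinitePresentation A M)) ⥤ B) (_ : PreservesFiniteColimits F)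
      (e : F.obj (⟨ModuleCat.of A A, inferInstance⟩ : (ObjectProperty.FullSubcategory (fun M : ModuleCat.{u} A => Module.FinitePresentation A M))) ≅ K),
      ∀ a : A, F.map (ObjectProperty.homMk (ModuleCat.ofHom (LinearMap.lsmul A A a)) : (⟨ModuleCat.of A A, inferInstance⟩ : (ObjectProperty.FullSubcategory (fun M : ModuleCat.{u} A => Module.FinitePresentation A M))) ⟶ (⟨ModuleCat.of A A, inferInstance⟩ : (ObjectProperty.FullSubcategory (fun M : ModuleCat.{u} A => Module.FinitePresentation A M)))) ≫ e.hom = e.hom ≫ κ a := by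
  exact ⟨Ffun K κ, inferInstance, eA K κ, fun a => eA_compat K κ a⟩

end Groth.Agent.S6725
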