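import Groth.Statements.S6726
import Groth.Agent.S6725

set_option autoImplicit false
universe u v' u'
open CategoryTheory CategoryTheory.Limits
open FunMor

namespace Groth.Agent.S6726

open Groth.Agent.S6725

section
variable {A : Type u} [CommRing A] {B : Type u'} [Category.{v'} B] [Preadditive B]
  [HasFiniteBiproducts B] [HasCokernels B]

lemma addF (F : FP A ⥤ B) [PreservesFiniteColimits F] : F.Additive := by
  have : HasZeroObject B := hasZeroObject_of_hasFiniteBiproducts B
  have : F.PreservesZeroMorphisms := inferInstance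
  have : PreservesBinaryBiproducts F := preservesBinaryBiproducts_of_preservesBinaryCoproducts F
  exact Functor.additive_of_preservesBinaryBiproducts F

/-- the free object of rank n -/
noncomputable def Fr (A : Type u) [CommRing A] (n : ℕ) : FP A :=
  ⟨ModuleCat.of A (Fin n → A), inferInstance⟩

noncomputable def inj (n : ℕ) (j : Fin n) : MA A ⟶ Fr A n :=
  ObjectProperty.homMk (ModuleCat.ofHom (LinearMap.single A (fun _ => A) j))

noncomputable def prj (n : ℕ) (j : Fin n) : Fr A n ⟶ MA A :=
  ObjectProperty.homMk (ModuleCat.ofHom (LinearMap.proj j))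

lemma inj_prj (n : ℕ) (i j : Fin n) :
    inj (A := A) n i ≫ prj n j = if i = j then 𝟙 _ else 0 := by
  split_ifs with h
  · subst h
    ext
    show (Pi.single i (1 : A) : Fin n → A) i = 1
    simp
  · ext
    show (Pi.single i (1 : A) : Fin n → A) j = 0
    simp [Ne.symm h]

/-- evaluation of a sum of morphisms in FP -/
lemma sum_hom_apply {X Y : FP A} {ι : Type*} (s : Finset ι) (f : ι → (X ⟶ Y)) (x : X.obj) :
    (∑ i ∈ s, f i).hom.hom x = ∑ i ∈ s, (f i).hom.hom x := by
  classical
  induction s using Finset.induction_on with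
  | empty =>
    rw [Finset.sum_empty, Finset.sum_empty]
    rfl
  | insert a s ha ih =>
    rw [Finset.sum_insert ha, Finset.sum_insert ha, ← ih]
    rfl

lemma sum_prj_inj (n : ℕ) : ∑ j : Fin n, prj (A := A) n j ≫ inj n j = 𝟙 (Fr A n) := by
  apply ObjectProperty.hom_ext
  apply ModuleCat.hom_ext
  apply LinearMap.ext
  intro x
  rw [sum_hom_apply]
  show ∑ j : Fin n, (Pi.single j (x j) : Fin n → A) = x
  exact Finset.univ_sum_single x

variable (F F' : FP A ⥤ B) [PreservesFiniteColimits F] [PreservesFiniteColimits F']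

lemma map_sum_id (n : ℕ) :
    ∑ j : Fin n, F.map (prj n j) ≫ F.map (inj n j) = 𝟙 (F.obj (Fr A n)) := by
  haveI := addF F
  rw [← F.map_id, ← sum_prj_inj, F.map_sum]
  refine Finset.sum_congr rfl (fun j _ => ?_)
  rw [F.map_comp]

lemma ext_inj (n : ℕ) {X : B} (x y : F.obj (Fr A n) ⟶ X)
    (h : ∀ j, F.map (inj n j) ≫ x = F.map (inj n j) ≫ y) : x = y := by
  rw [← Category.id_comp x, ← Category.id_comp y, ← map_sum_id, Preadditive.sum_comp,
    Preadditive.sum_comp]
  refine Finset.sum_congr rfl (fun j _ => ?_)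
  rw [Category.assoc, Category.assoc, h]

lemma ext_prj (n : ℕ) {X : B} (x y : X ⟶ F.obj (Fr A n))
    (h : ∀ j, x ≫ F.map (prj n j) = y ≫ F.map (prj n j)) : x = y := by
  rw [← Category.comp_id x, ← Category.comp_id y, ← map_sum_id, Preadditive.comp_sum,
    Preadditive.comp_sum]
  refine Finset.sum_congr rfl (fun j _ => ?_)
  rw [← Category.assoc, ← Category.assoc, h]

/-- the diagonal extension of φ -/
noncomputable def Φ (φ : F.obj (MA A) ⟶ F'.obj (MA A)) (n : ℕ) :
    F.obj (Fr A n) ⟶ F'.obj (Fr A n) :=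
  ∑ j : Fin n, F.map (prj n j) ≫ φ ≫ F'.map (inj n j)

lemma map_inj_prj (n : ℕ) (i j : Fin n) :
    F.map (inj n i) ≫ F.map (prj n j) = if i = j then 𝟙 _ else 0 := by
  haveI := addF F
  rw [← F.map_comp, inj_prj]
  split_ifs
  · exact F.map_id _
  · exact F.map_zero _ _

lemma inj_Φ (φ : F.obj (MA A) ⟶ F'.obj (MA A)) (n : ℕ) (j : Fin n) :
    F.map (inj n j) ≫ Φ F F' φ n = φ ≫ F'.map (inj n j) := by
  classical
  unfold Φ
  rw [Preadditive.comp_sum, Finset.sum_eq_single j]
  · rw [← Category.assoc, map_inj_prj, if_pos rfl, Category.id_comp]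
  · intro i _ hij
    rw [← Category.assoc, map_inj_prj, if_neg (Ne.symm hij), zero_comp]
  · intro h
    exact absurd (Finset.mem_univ j) h

lemma Φ_prj (φ : F.obj (MA A) ⟶ F'.obj (MA A)) (n : ℕ) (j : Fin n) :
    Φ F F' φ n ≫ F'.map (prj n j) = F.map (prj n j) ≫ φ := by
  classical
  unfold Φ
  rw [Preadditive.sum_comp, Finset.sum_eq_single j]
  · rw [Category.assoc, Category.assoc, map_inj_prj, if_pos rfl, Category.comp_id]
  · intro i _ hij
    rw [Category.assoc, Category.assoc, map_inj_prj, if_neg hij, comp_zero, comp_zero]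
  · intro h
    exact absurd (Finset.mem_univ j) h

lemma Φ_nat (φ : F.obj (MA A) ⟶ F'.obj (MA A))
    (hφ : ∀ h : MA A ⟶ MA A, F.map h ≫ φ = φ ≫ F'.map h) {m n : ℕ} (R : Fr A m ⟶ Fr A n) :
    F.map R ≫ Φ F F' φ n = Φ F F' φ m ≫ F'.map R := by
  apply ext_inj F m
  intro j
  apply ext_prj F' n
  intro i
  calc (F.map (inj m j) ≫ F.map R ≫ Φ F F' φ n) ≫ F'.map (prj n i)
      = F.map (inj m j) ≫ F.map R ≫ (Φ F F' φ n ≫ F'.map (prj n i)) := by
        simp only [Category.assoc]
    _ = F.map (inj m j ≫ R ≫ prj n i) ≫ φ := by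
        rw [Φ_prj]; simp only [Functor.map_comp, Category.assoc]
    _ = φ ≫ F'.map (inj m j ≫ R ≫ prj n i) := hφ _
    _ = (F.map (inj m j) ≫ Φ F F' φ m) ≫ F'.map R ≫ F'.map (prj n i) := by
        rw [inj_Φ]; simp only [Functor.map_comp, Category.assoc]
    _ = (F.map (inj m j) ≫ Φ F F' φ m ≫ F'.map R) ≫ F'.map (prj n i) := by
        simp only [Category.assoc]

/-- descent of a linear map along a presentation -/
noncomputable def descLin {X Y M Z : FP A} (R : X ⟶ Y) (π : Y ⟶ M)
    (hs : Function.Surjective π.hom.hom)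
    (hr : LinearMap.range R.hom.hom = LinearMap.ker π.hom.hom) (t : Y ⟶ Z) (ht : R ≫ t = 0) :
    M.obj →ₗ[A] Z.obj :=
  ((LinearMap.ker π.hom.hom).liftQ t.hom.hom (hr ▸ range_le_ker A R t ht)).comp
    (LinearMap.quotKerEquivOfSurjective π.hom.hom hs).symm.toLinearMap

lemma descLin_apply {X Y M Z : FP A} (R : X ⟶ Y) (π : Y ⟶ M)
    (hs : Function.Surjective π.hom.hom)
    (hr : LinearMap.range R.hom.hom = LinearMap.ker π.hom.hom) (t : Y ⟶ Z) (ht : R ≫ t = 0)
    (y : Y.obj) : descLin R π hs hr t ht (π.hom.hom y) = t.hom.hom y := by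
  have : (LinearMap.quotKerEquivOfSurjective π.hom.hom hs).symm (π.hom.hom y)
      = Submodule.Quotient.mk y := by
    rw [LinearEquiv.symm_apply_eq]
    rfl
  unfold descLin
  rw [LinearMap.comp_apply]
  erw [this]
  rfl

/-- a surjection with kernel the range of `R` is a cokernel of `R` in `FP A` -/
noncomputable def presIsColimit {X Y M : FP A} (R : X ⟶ Y) (π : Y ⟶ M)
    (hs : Function.Surjective π.hom.hom)
    (hr : LinearMap.range R.hom.hom = LinearMap.ker π.hom.hom) (w : R ≫ π = 0 ≫ π) :
    IsColimit (Cofork.ofπ π w) :=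
  Cofork.IsColimit.mk' _ (fun s =>
    have hz : R ≫ s.π = 0 := by rw [s.condition, zero_comp]
    ⟨ObjectProperty.homMk (ModuleCat.ofHom (descLin R π hs hr s.π hz)),
      by
        ext x
        exact descLin_apply R π hs hr s.π hz x,
      by
        intro t ht
        ext x
        obtain ⟨y, rfl⟩ := hs x
        have h1 := congrArg (fun a : Y ⟶ s.pt => a.hom.hom y) ht
        exact h1.trans (descLin_apply R π hs hr s.π hz y).symm⟩)

lemma exists_pres (M : FP A) : ∃ (n m : ℕ) (π : Fr A n ⟶ M) (R : Fr A m ⟶ Fr A n),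
    Function.Surjective π.hom.hom ∧ LinearMap.range R.hom.hom = LinearMap.ker π.hom.hom := by
  haveI : Module.FinitePresentation A M.obj := M.property
  obtain ⟨n, f, hf⟩ := Module.Finite.exists_fin' A M.obj
  have hk := Module.FinitePresentation.fg_ker f hf
  haveI : Module.Finite A (LinearMap.ker f) := Module.Finite.iff_fg.2 hk
  obtain ⟨m, g, hg⟩ := Module.Finite.exists_fin' A (LinearMap.ker f)
  refine ⟨n, m, ObjectProperty.homMk (ModuleCat.ofHom f),
    ObjectProperty.homMk (ModuleCat.ofHom ((LinearMap.ker f).subtype.comp g)), hf, ?_⟩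
  show LinearMap.range ((LinearMap.ker f).subtype.comp g) = LinearMap.ker f
  rw [LinearMap.range_comp, LinearMap.range_eq_top.2 hg, Submodule.map_top,
    Submodule.range_subtype]

lemma pres_w {X Y M : FP A} (R : X ⟶ Y) (π : Y ⟶ M)
    (hr : LinearMap.range R.hom.hom = LinearMap.ker π.hom.hom) : R ≫ π = 0 := by
  ext x
  have : R.hom.hom x ∈ LinearMap.ker π.hom.hom := hr ▸ ⟨x, rfl⟩
  exact this

lemma exists_lift {n : ℕ} {M N : FP A} (π : Fr A n ⟶ M) (f : M ⟶ N) {k : ℕ} (π' : Fr A k ⟶ N)
    (hs : Function.Surjective π'.hom.hom) : ∃ g : Fr A n ⟶ Fr A k, g ≫ π' = π ≫ f := by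
  haveI : Module.Projective A (Fr A n).obj := (inferInstance : Module.Projective A (Fin n → A))
  obtain ⟨h, hh⟩ := Module.projective_lifting_property π'.hom.hom (π ≫ f).hom.hom hs
  refine ⟨ObjectProperty.homMk (ModuleCat.ofHom h), ?_⟩
  ext x
  exact LinearMap.congr_fun hh x

lemma hom_MA (h : MA A ⟶ MA A) :
    h = ObjectProperty.homMk (ModuleCat.ofHom (LinearMap.lsmul A A (h.hom.hom (1 : A)))) := by
  ext
  show h.hom.hom (1 : A) = h.hom.hom (1 : A) * 1
  rw [mul_one]

end


/-- Full faithfulness of the functor F ↦ (F(A), induced A-action): let A be a commutative ring, B an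
additive category with cokernels, and F, F' right exact functors from the category of finitely
presented A-modules to B. Then two natural transformations F ⟶ F' with the same component at A are
equal, and a morphism φ : F(A) ⟶ F'(A) is the component at A of a natural transformation as soon as
it commutes with F and F' applied to multiplication by every a ∈ A. -/
theorem result
    (A : Type u) [CommRing A] {B : Type u'} [Category.{v'} B] [Preadditive B] [HasFiniteBiproducts B]
    [HasCokernels B] (F F' : (ObjectProperty.FullSubcategory (fun M : ModuleCat.{u} A => Module.FinitePresentation A M)) ⥤ B)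
    [PreservesFiniteColimits F] [PreservesFiniteColimits F'] :
    (∀ t t' : F ⟶ F', t.app (⟨ModuleCat.of A A, inferInstance⟩ : (ObjectProperty.FullSubcategory (fun M : ModuleCat.{u} A => Module.FinitePresentation A M))) = t'.app (⟨ModuleCat.of A A, inferInstance⟩ : (ObjectProperty.FullSubcategory (fun M : ModuleCat.{u} A => Module.FinitePresentation A M))) → t = t') ∧
    ∀ φ : F.obj (⟨ModuleCat.of A A, inferInstance⟩ : (ObjectProperty.FullSubcategory (fun M : ModuleCat.{u} A => Module.FinitePresentation A M))) ⟶ F'.obj (⟨ModuleCat.of A A, inferInstance⟩ : (ObjectProperty.FullSubcategory (fun M : ModuleCat.{u} A => Module.FinitePresentation A M))),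
      (∀ a : A, F.map (ObjectProperty.homMk (ModuleCat.ofHom (LinearMap.lsmul A A a)) : (⟨ModuleCat.of A A, inferInstance⟩ : (ObjectProperty.FullSubcategory (fun M : ModuleCat.{u} A => Module.FinitePresentation A M))) ⟶ (⟨ModuleCat.of A A, inferInstance⟩ : (ObjectProperty.FullSubcategory (fun M : ModuleCat.{u} A => Module.FinitePresentation A M)))) ≫ φ = φ ≫ F'.map (ObjectProperty.homMk (ModuleCat.ofHom (LinearMap.lsmul A A a)) : (⟨ModuleCat.of A A, inferInstance⟩ : (ObjectProperty.FullSubcategory (fun M : ModuleCat.{u} A => Module.FinitePresentation A M))) ⟶ (⟨ModuleCat.of A A, inferInstance⟩ : (ObjectProperty.FullSubcategory (fun M : ModuleCat.{u} A => Module.FinitePresentation A M))))) →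
      ∃ t : F ⟶ F', t.app (⟨ModuleCat.of A A, inferInstance⟩ : (ObjectProperty.FullSubcategory (fun M : ModuleCat.{u} A => Module.FinitePresentation A M))) = φ := by
  haveI := addF F
  haveI := addF F'
  -- epi-ness of F.map π for a presentation
  have hepi : ∀ {n m : ℕ} {M : FP A} (π : Fr A n ⟶ M) (R : Fr A m ⟶ Fr A n)
      (_ : Function.Surjective π.hom.hom)
      (_ : LinearMap.range R.hom.hom = LinearMap.ker π.hom.hom), Epi (F.map π) := by
    intro n m M π R hs hr
    have w : R ≫ π = 0 ≫ π := by rw [pres_w R π hr, zero_comp]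
    have hc := presIsColimit R π hs hr w
    have hc' := CokernelCofork.mapIsColimit (Cofork.ofπ π w) hc F
    exact epi_of_isColimit_cofork hc'
  refine ⟨?_, ?_⟩
  · intro t t' h
    ext M
    obtain ⟨n, m, π, R, hs, hr⟩ := exists_pres M
    haveI := hepi π R hs hr
    rw [← cancel_epi (F.map π), t.naturality, t'.naturality]
    congr 1
    apply ext_inj F n
    intro j
    rw [t.naturality, t'.naturality, h]
  · intro φ hφ0
    have hφ : ∀ h : MA A ⟶ MA A, F.map h ≫ φ = φ ≫ F'.map h := by
      intro h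
      rw [hom_MA h]
      exact hφ0 _
    choose n m π R hs hr using (exists_pres (A := A))
    have hw : ∀ M, R M ≫ π M = 0 ≫ π M := fun M => by rw [pres_w (R M) (π M) (hr M), zero_comp]
    have hcol : ∀ M, IsColimit (CokernelCofork.map (Cofork.ofπ (π M) (hw M)) F) :=
      fun M => CokernelCofork.mapIsColimit (Cofork.ofπ (π M) (hw M))
        (presIsColimit (R M) (π M) (hs M) (hr M) (hw M)) F
    have hcond : ∀ M, F.map (R M) ≫ (Φ F F' φ (n M) ≫ F'.map (π M)) = 0 := by
      intro M
      rw [← Category.assoc, Φ_nat F F' φ hφ, Category.assoc, ← F'.map_comp,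
        pres_w (R M) (π M) (hr M), F'.map_zero, comp_zero]
    let tM : ∀ M, F.obj M ⟶ F'.obj M := fun M =>
      (hcol M).desc (CokernelCofork.ofπ (Φ F F' φ (n M) ≫ F'.map (π M)) (hcond M))
    have htM : ∀ M, F.map (π M) ≫ tM M = Φ F F' φ (n M) ≫ F'.map (π M) := fun M =>
      (hcol M).fac (CokernelCofork.ofπ (Φ F F' φ (n M) ≫ F'.map (π M)) (hcond M))
        WalkingParallelPair.one
    refine ⟨{ app := tM, naturality := ?_ }, ?_⟩
    · intro M N f
      haveI := hepi (π M) (R M) (hs M) (hr M)
      obtain ⟨g, hg⟩ := exists_lift (π M) f (π N) (hs N)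
      rw [← cancel_epi (F.map (π M))]
      calc F.map (π M) ≫ F.map f ≫ tM N
          = F.map (g ≫ π N) ≫ tM N := by rw [hg, F.map_comp, Category.assoc]
        _ = F.map g ≫ Φ F F' φ (n N) ≫ F'.map (π N) := by
            rw [F.map_comp, Category.assoc, htM]
        _ = Φ F F' φ (n M) ≫ F'.map (g ≫ π N) := by
            rw [← Category.assoc, Φ_nat F F' φ hφ, Category.assoc, F'.map_comp]
        _ = (F.map (π M) ≫ tM M) ≫ F'.map f := by
            rw [hg, F'.map_comp, htM, Category.assoc]
        _ = F.map (π M) ≫ tM M ≫ F'.map f := Category.assoc _ _ _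
    · show tM (MA A) = φ
      haveI := hepi (π (MA A)) (R (MA A)) (hs (MA A)) (hr (MA A))
      rw [← cancel_epi (F.map (π (MA A))), htM]
      apply ext_inj F
      intro j
      rw [← Category.assoc, inj_Φ, Category.assoc, ← F'.map_comp, ← hφ, ← Category.assoc,
        ← F.map_comp]

end Groth.Agent.S6726
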