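import Groth.Statements.S6731
import Mathlib.Tactic

set_option autoImplicit false
universe w v u
open CategoryTheory
open DEquiv

namespace Groth.Agent.S6731

section
variable {k : Type w} [Field k] {T : Type u} [Category.{v} T] [Preadditive T] [Linear k T]
  [∀ X Y : T, Module.Finite k (X ⟶ Y)]
  (S : T ⥤ T)
  (c : ∀ X Y : T, (X ⟶ Y) ≃ₗ[k] Module.Dual k (Y ⟶ S.obj X))

/-- the trace functional -/
def tr (X : T) : Module.Dual k (X ⟶ S.obj X) := c X X (𝟙 X)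

variable (hc₁ : ∀ (X Y Y' : T) (f : X ⟶ Y) (g : Y ⟶ Y'),
      c X Y' (f ≫ g) = (c X Y f) ∘ₗ Linear.leftComp k (S.obj X) g)
  (hc₂ : ∀ (X' X Y : T) (a : X' ⟶ X) (f : X ⟶ Y),
      c X' Y (a ≫ f) = (c X Y f) ∘ₗ Linear.rightComp k Y (S.map a))

include hc₁ in
lemma c_eq (X Y : T) (f : X ⟶ Y) (h : Y ⟶ S.obj X) : c X Y f h = tr S c X (f ≫ h) := by
  have := hc₁ X X Y (𝟙 X) f
  rw [Category.id_comp] at this
  rw [this]
  rfl

include hc₁ hc₂ in
lemma tr_nat {X' X : T} (a : X' ⟶ X) (h : X ⟶ S.obj X') :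
    tr S c X (h ≫ S.map a) = tr S c X' (a ≫ h) := by
  have := hc₂ X' X X a (𝟙 X)
  rw [Category.comp_id] at this
  rw [← c_eq S c hc₁ X' X a h, this]
  rfl

include hc₁ in
lemma sep {X Y : T} (ψ ψ' : Y ⟶ S.obj X)
    (h : ∀ g : X ⟶ Y, tr S c X (g ≫ ψ) = tr S c X (g ≫ ψ')) : ψ = ψ' := by
  rw [← sub_eq_zero]
  rw [← Module.forall_dual_apply_eq_zero_iff k]
  intro θ
  obtain ⟨g, rfl⟩ := (c X Y).surjective θ
  rw [map_sub, c_eq S c hc₁, c_eq S c hc₁, h g, sub_self]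

/-- the transpose map -/
def transp (X Y : T) : (Y ⟶ S.obj X) →ₗ[k] Module.Dual k (X ⟶ Y) :=
  ((c X Y : (X ⟶ Y) →ₗ[k] Module.Dual k (Y ⟶ S.obj X))).flip

include hc₁ in
lemma transp_apply (X Y : T) (ψ : Y ⟶ S.obj X) (g : X ⟶ Y) :
    transp S c X Y ψ g = tr S c X (g ≫ ψ) := by
  change c X Y g ψ = _
  rw [c_eq S c hc₁]

include hc₁ in
lemma transp_bijective (X Y : T) : Function.Bijective (transp S c X Y) := by
  have hinj : Function.Injective (transp S c X Y) := by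
    intro ψ ψ' h
    apply sep S c hc₁
    intro g
    rw [← transp_apply S c hc₁, ← transp_apply S c hc₁, h]
  refine ⟨hinj, ?_⟩
  have hfr : Module.finrank k (Y ⟶ S.obj X) = Module.finrank k (Module.Dual k (X ⟶ Y)) := by
    rw [Subspace.dual_finrank_eq, (c X Y).finrank_eq, Subspace.dual_finrank_eq]
  exact (LinearMap.injective_iff_surjective_of_finrank_eq_finrank hfr).mp hinj

include hc₁ in
lemma exists_rep (X Y : T) (θ : Module.Dual k (X ⟶ Y)) :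
    ∃! ψ : Y ⟶ S.obj X, ∀ g : X ⟶ Y, tr S c X (g ≫ ψ) = θ g := by
  obtain ⟨ψ, hψ⟩ := (transp_bijective S c hc₁ X Y).2 θ
  refine ⟨ψ, ?_, ?_⟩
  · intro g
    rw [← transp_apply S c hc₁, hψ]
  · intro ψ' hψ'
    apply sep S c hc₁
    intro g
    rw [hψ' g, ← transp_apply S c hc₁, hψ]


end

section
variable {k : Type w} [Field k] {T : Type u} [Category.{v} T] [Preadditive T] [Linear k T]
  [∀ X Y : T, Module.Finite k (X ⟶ Y)]
  (S : T ⥤ T)
  (c : ∀ X Y : T, (X ⟶ Y) ≃ₗ[k] Module.Dual k (Y ⟶ S.obj X))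
  (hc₁ : ∀ (X Y Y' : T) (f : X ⟶ Y) (g : Y ⟶ Y'),
      c X Y' (f ≫ g) = (c X Y f) ∘ₗ Linear.leftComp k (S.obj X) g)
  (hc₂ : ∀ (X' X Y : T) (a : X' ⟶ X) (f : X ⟶ Y),
      c X' Y (a ≫ f) = (c X Y f) ∘ₗ Linear.rightComp k Y (S.map a))
  (S' : T ⥤ T)
  (c' : ∀ X Y : T, (X ⟶ Y) ≃ₗ[k] Module.Dual k (Y ⟶ S'.obj X))
  (hc'₁ : ∀ (X Y Y' : T) (f : X ⟶ Y) (g : Y ⟶ Y'),
      c' X Y' (f ≫ g) = (c' X Y f) ∘ₗ Linear.leftComp k (S'.obj X) g)
  (hc'₂ : ∀ (X' X Y : T) (a : X' ⟶ X) (f : X ⟶ Y),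
      c' X' Y (a ≫ f) = (c' X Y f) ∘ₗ Linear.rightComp k Y (S'.map a))

/-- the comparison map -/
noncomputable def cmp (X : T) : S.obj X ⟶ S'.obj X :=
  (exists_rep S' c' hc'₁ X (S.obj X) (tr S c X)).choose

include hc'₁ in
lemma cmp_spec (X : T) (g : X ⟶ S.obj X) :
    tr S' c' X (g ≫ cmp S c S' c' hc'₁ X) = tr S c X g :=
  (exists_rep S' c' hc'₁ X (S.obj X) (tr S c X)).choose_spec.1 g

lemma cmp_unique (X : T) (ψ : S.obj X ⟶ S'.obj X)
    (h : ∀ g : X ⟶ S.obj X, tr S' c' X (g ≫ ψ) = tr S c X g) : ψ = cmp S c S' c' hc'₁ X :=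
  (exists_rep S' c' hc'₁ X (S.obj X) (tr S c X)).choose_spec.2 ψ h

include hc₁ hc₂ hc'₂ in
lemma cmp_nat {X' X : T} (a : X' ⟶ X) :
    S.map a ≫ cmp S c S' c' hc'₁ X = cmp S c S' c' hc'₁ X' ≫ S'.map a := by
  apply sep S' c' hc'₁
  intro g
  rw [← Category.assoc, cmp_spec S c S' c' hc'₁, tr_nat S c hc₁ hc₂,
    ← Category.assoc, tr_nat S' c' hc'₁ hc'₂, ← Category.assoc, cmp_spec S c S' c' hc'₁]

include hc₁ in
lemma cmp_inv (X : T) :
    cmp S c S' c' hc'₁ X ≫ cmp S' c' S c hc₁ X = 𝟙 (S.obj X) := by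
  apply sep S c hc₁
  intro g
  rw [← Category.assoc, cmp_spec S' c' S c hc₁, cmp_spec S c S' c' hc'₁, Category.comp_id]

end

open CategoryTheory.Limits CategoryTheory.Pretriangulated in


open CategoryTheory.Limits CategoryTheory.Pretriangulated in
/-- Let k be a field and T a k-linear triangulated category with dim_k Hom(X, Y) < ∞ for all X, Y. Let
(S, c) and (S', c') be Serre functors: k-linear equivalences T ⥤ T with k-linear isomorphisms
c_{X,Y} : Hom(X, Y) ≅ Hom(Y, S X)^∨ natural in X and Y (likewise c'). Then there is a unique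
isomorphism of functors φ : S ≅ S' compatible with c and c', i.e. c_{X,Y}(f) is c'_{X,Y}(f) composed
with postcomposition by φ_X. -/
theorem result
    {k : Type w} [Field k]
    {T : Type u} [Category.{v} T] [Preadditive T] [Linear k T] [HasZeroObject T] [HasShift T ℤ]
    [∀ n : ℤ, (shiftFunctor T n).Additive] [∀ n : ℤ, (shiftFunctor T n).Linear k] [Pretriangulated T]
    [IsTriangulated T] [∀ X Y : T, Module.Finite k (X ⟶ Y)]
    (S : T ≌ T) [S.functor.Additive] [S.functor.Linear k]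
    (c : ∀ X Y : T, (X ⟶ Y) ≃ₗ[k] Module.Dual k (Y ⟶ S.functor.obj X))
    (hc₁ : ∀ (X Y Y' : T) (f : X ⟶ Y) (g : Y ⟶ Y'),
      c X Y' (f ≫ g) = (c X Y f) ∘ₗ Linear.leftComp k (S.functor.obj X) g)
    (hc₂ : ∀ (X' X Y : T) (a : X' ⟶ X) (f : X ⟶ Y),
      c X' Y (a ≫ f) = (c X Y f) ∘ₗ Linear.rightComp k Y (S.functor.map a))
    (S' : T ≌ T) [S'.functor.Additive] [S'.functor.Linear k]
    (c' : ∀ X Y : T, (X ⟶ Y) ≃ₗ[k] Module.Dual k (Y ⟶ S'.functor.obj X))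
    (hc'₁ : ∀ (X Y Y' : T) (f : X ⟶ Y) (g : Y ⟶ Y'),
      c' X Y' (f ≫ g) = (c' X Y f) ∘ₗ Linear.leftComp k (S'.functor.obj X) g)
    (hc'₂ : ∀ (X' X Y : T) (a : X' ⟶ X) (f : X ⟶ Y),
      c' X' Y (a ≫ f) = (c' X Y f) ∘ₗ Linear.rightComp k Y (S'.functor.map a)) :
    ∃! φ : S.functor ≅ S'.functor, ∀ (X Y : T) (f : X ⟶ Y),
      c X Y f = (c' X Y f) ∘ₗ Linear.rightComp k Y (φ.hom.app X) := by
  let φ : S.functor ≅ S'.functor := NatIso.ofComponents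
    (fun X => ⟨cmp S.functor c S'.functor c' hc'₁ X, cmp S'.functor c' S.functor c hc₁ X,
      cmp_inv S.functor c hc₁ S'.functor c' hc'₁ X, cmp_inv S'.functor c' hc'₁ S.functor c hc₁ X⟩)
    (fun {X' X} a => cmp_nat S.functor c hc₁ hc₂ S'.functor c' hc'₁ hc'₂ a)
  refine ⟨φ, ?_, ?_⟩
  · intro X Y f
    apply LinearMap.ext
    intro h
    change c X Y f h = c' X Y f (h ≫ cmp S.functor c S'.functor c' hc'₁ X)
    rw [c_eq S.functor c hc₁, c_eq S'.functor c' hc'₁, ← Category.assoc,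
      cmp_spec S.functor c S'.functor c' hc'₁]
  · intro φ₁ hφ₁
    apply Iso.ext
    apply NatTrans.ext
    funext X
    change φ₁.hom.app X = cmp S.functor c S'.functor c' hc'₁ X
    apply cmp_unique
    intro g
    have := LinearMap.congr_fun (hφ₁ X X (𝟙 X)) g
    exact this.symm

end Groth.Agent.S6731
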