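import Groth.Statements.S6732
import Mathlib

set_option autoImplicit false
universe w v u
open CategoryTheory
open DEquiv

namespace Groth.Agent.S6732

section

open CategoryTheory.Limits CategoryTheory.Pretriangulated

variable {k : Type w} [Field k]
    {T : Type u} [Category.{v} T] [Preadditive T] [Linear k T] [HasZeroObject T] [HasShift T ℤ]
    [∀ n : ℤ, (shiftFunctor T n).Additive] [∀ n : ℤ, (shiftFunctor T n).Linear k] [Pretriangulated T]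
    [∀ X Y : T, Module.Finite k (X ⟶ Y)]
    (S : T ≌ T) [S.functor.Additive] [S.functor.Linear k]
    (c : ∀ X Y : T, (X ⟶ Y) ≃ₗ[k] Module.Dual k (Y ⟶ S.functor.obj X))
    (hc₁ : ∀ (X Y Y' : T) (f : X ⟶ Y) (g : Y ⟶ Y'),
      c X Y' (f ≫ g) = (c X Y f) ∘ₗ Linear.leftComp k (S.functor.obj X) g)
    (hc₂ : ∀ (X' X Y : T) (a : X' ⟶ X) (f : X ⟶ Y),
      c X' Y (a ≫ f) = (c X Y f) ∘ₗ Linear.rightComp k Y (S.functor.map a))

/-- the trace functional -/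
def tr (X : T) : Module.Dual k (X ⟶ S.functor.obj X) := c X X (𝟙 X)

include hc₁ in
lemma c_apply {X Y : T} (f : X ⟶ Y) (h : Y ⟶ S.functor.obj X) :
    c X Y f h = tr S c X (f ≫ h) := by
  have := hc₁ X X Y (𝟙 X) f
  rw [Category.id_comp] at this
  rw [this]; rfl

include hc₁ hc₂ in
lemma tr_cyc {X' X : T} (a : X' ⟶ X) (h : X ⟶ S.functor.obj X') :
    tr S c X' (a ≫ h) = tr S c X (h ≫ S.functor.map a) := by
  have := hc₂ X' X X a (𝟙 X)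
  rw [Category.comp_id] at this
  rw [← c_apply S c hc₁, this]; rfl

include hc₁ in
lemma hom_ext_tr {X Y : T} {h h' : Y ⟶ S.functor.obj X}
    (H : ∀ f : X ⟶ Y, tr S c X (f ≫ h) = tr S c X (f ≫ h')) : h = h' := by
  apply (c X Y).flip.injective
  ext f
  rw [LinearEquiv.flip_apply, LinearEquiv.flip_apply, c_apply S c hc₁, c_apply S c hc₁, H]

include hc₁ in
lemma exists_rep {X Y : T} (l : Module.Dual k (X ⟶ Y)) :
    ∃ h : Y ⟶ S.functor.obj X, ∀ f : X ⟶ Y, tr S c X (f ≫ h) = l f := by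
  refine ⟨(c X Y).flip.symm l, fun f => ?_⟩
  rw [← c_apply S c hc₁, ← LinearEquiv.flip_apply, LinearEquiv.apply_symm_apply]

/-- the shift as a linear equivalence on Hom spaces -/
noncomputable def sh (X Y : T) : (X ⟶ Y) ≃ₗ[k] (X⟦(1:ℤ)⟧ ⟶ Y⟦(1:ℤ)⟧) :=
  LinearEquiv.ofBijective ((shiftFunctor T (1:ℤ)).mapLinearMap k)
    ⟨(shiftFunctor T (1:ℤ)).map_injective, (shiftFunctor T (1:ℤ)).map_surjective⟩

lemma sh_apply {X Y : T} (u : X ⟶ Y) : sh (k := k) X Y u = u⟦(1:ℤ)⟧' := rfl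

lemma sh_symm_shift {X Y : T} (u : X ⟶ Y) : (sh (k := k) X Y).symm (u⟦(1:ℤ)⟧') = u :=
  (sh (k := k) X Y).symm_apply_apply u

/-- the shifted trace -/
noncomputable def tau (X : T) :
    Module.Dual k (X⟦(1:ℤ)⟧ ⟶ (S.functor.obj X)⟦(1:ℤ)⟧) :=
  (tr S c X) ∘ₗ (sh X (S.functor.obj X)).symm.toLinearMap

lemma tau_shift (X : T) (u : X ⟶ S.functor.obj X) :
    tau S c X (u⟦(1:ℤ)⟧') = tr S c X u := by
  unfold tau
  rw [LinearMap.comp_apply]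
  congr 1
  exact sh_symm_shift u

/-- the comparison `(S X)[1] ⟶ S (X[1])` -/
noncomputable def eta (X : T) : (S.functor.obj X)⟦(1:ℤ)⟧ ⟶ S.functor.obj (X⟦(1:ℤ)⟧) :=
  (c (X⟦(1:ℤ)⟧) ((S.functor.obj X)⟦(1:ℤ)⟧)).flip.symm (- tau S c X)

include hc₁ in
lemma tr_eta (X : T) (f : X⟦(1:ℤ)⟧ ⟶ (S.functor.obj X)⟦(1:ℤ)⟧) :
    tr S c (X⟦(1:ℤ)⟧) (f ≫ eta S c X) = - tau S c X f := by
  unfold eta
  rw [← c_apply S c hc₁, ← LinearEquiv.flip_apply, LinearEquiv.apply_symm_apply]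
  rfl

include hc₁ hc₂ in
lemma eta_naturality {X' X : T} (a : X' ⟶ X) :
    (S.functor.map a)⟦(1:ℤ)⟧' ≫ eta S c X = eta S c X' ≫ S.functor.map (a⟦(1:ℤ)⟧') := by
  apply hom_ext_tr S c hc₁
  intro f
  obtain ⟨u, rfl⟩ := (shiftFunctor T (1:ℤ)).map_surjective f
  have h1 : tr S c (X⟦(1:ℤ)⟧) ((shiftFunctor T (1:ℤ)).map u ≫
      (S.functor.map a)⟦(1:ℤ)⟧' ≫ eta S c X) = - tr S c X (u ≫ S.functor.map a) := by
    rw [← Category.assoc, tr_eta S c hc₁, ← Functor.map_comp, tau_shift]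
  have h2 : tr S c (X⟦(1:ℤ)⟧) ((shiftFunctor T (1:ℤ)).map u ≫
      eta S c X' ≫ S.functor.map (a⟦(1:ℤ)⟧')) = - tr S c X' (a ≫ u) := by
    rw [← Category.assoc, ← tr_cyc S c hc₁ hc₂, ← Category.assoc, tr_eta S c hc₁,
      ← Functor.map_comp, tau_shift]
  rw [h1, h2, tr_cyc S c hc₁ hc₂ a u]

include hc₁ in
lemma eta_inj (X Z : T) (g : Z⟦(1:ℤ)⟧ ⟶ (S.functor.obj X)⟦(1:ℤ)⟧)
    (hg : g ≫ eta S c X = 0) : g = 0 := by
  obtain ⟨v, rfl⟩ := (shiftFunctor T (1:ℤ)).map_surjective g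
  have hv : v = 0 := by
    apply hom_ext_tr S c hc₁
    intro u
    have := tr_eta S c hc₁ X (u⟦(1:ℤ)⟧' ≫ v⟦(1:ℤ)⟧')
    rw [Category.assoc, hg, comp_zero, map_zero, ← Functor.map_comp, tau_shift] at this
    rw [comp_zero, map_zero]
    exact (neg_eq_zero.mp this.symm)
  rw [hv, Functor.map_zero]

include c in
lemma finrank_hom_eq (X Z : T) :
    Module.finrank k (Z⟦(1:ℤ)⟧ ⟶ (S.functor.obj X)⟦(1:ℤ)⟧) =
      Module.finrank k (Z⟦(1:ℤ)⟧ ⟶ S.functor.obj (X⟦(1:ℤ)⟧)) := by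
  rw [← LinearEquiv.finrank_eq (sh (k := k) Z (S.functor.obj X)),
    LinearEquiv.finrank_eq (LinearEquiv.flip (c X Z)),
    Subspace.dual_finrank_eq, LinearEquiv.finrank_eq (sh (k := k) X Z),
    ← Subspace.dual_finrank_eq,
    ← LinearEquiv.finrank_eq (LinearEquiv.flip (c (X⟦(1:ℤ)⟧) (Z⟦(1:ℤ)⟧)))]

include hc₁ in
lemma eta_bij_shift (X Z : T) :
    Function.Bijective (fun g : Z⟦(1:ℤ)⟧ ⟶ (S.functor.obj X)⟦(1:ℤ)⟧ => g ≫ eta S c X) := by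
  let L : (Z⟦(1:ℤ)⟧ ⟶ (S.functor.obj X)⟦(1:ℤ)⟧) →ₗ[k] (Z⟦(1:ℤ)⟧ ⟶ S.functor.obj (X⟦(1:ℤ)⟧)) :=
    Linear.rightComp k _ (eta S c X)
  have hinj : Function.Injective L := by
    rw [← LinearMap.ker_eq_bot, LinearMap.ker_eq_bot']
    intro g hg
    exact eta_inj S c hc₁ X Z g hg
  exact ⟨hinj, (LinearMap.injective_iff_surjective_of_finrank_eq_finrank
    (finrank_hom_eq S c X Z)).mp hinj⟩

include hc₁ in
lemma isIso_eta (X : T) : IsIso (eta S c X) := by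
  apply isIso_of_yoneda_map_bijective
  intro Y
  let i := (shiftFunctor T (1:ℤ)).objObjPreimageIso Y
  obtain ⟨hi, hs⟩ := eta_bij_shift S c hc₁ X ((shiftFunctor T (1:ℤ)).objPreimage Y)
  constructor
  · intro g₁ g₂ h
    dsimp only at h
    have : i.hom ≫ g₁ = i.hom ≫ g₂ := hi (by simp only [Category.assoc, h])
    exact (cancel_epi i.hom).mp this
  · intro q
    obtain ⟨g', hg'⟩ := hs (i.hom ≫ q)
    refine ⟨i.inv ≫ g', ?_⟩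
    dsimp only at hg' ⊢
    rw [Category.assoc, hg', Iso.inv_hom_id_assoc]

include hc₁ hc₂ in
lemma consistency (T₀ : Triangle T) (hT₀ : T₀ ∈ distTriang T) {C' : T}
    (φ : S.functor.obj T₀.obj₂ ⟶ C') (ψ : C' ⟶ (S.functor.obj T₀.obj₁)⟦(1:ℤ)⟧)
    (hD : Triangle.mk (S.functor.map T₀.mor₁) φ ψ ∈ distTriang T)
    (w₁ : T₀.obj₃ ⟶ S.functor.obj T₀.obj₂) (w₂ : T₀.obj₁⟦(1:ℤ)⟧ ⟶ C')
    (hw : w₁ ≫ φ + T₀.mor₃ ≫ w₂ = 0) :
    tr S c T₀.obj₂ (T₀.mor₂ ≫ w₁) = tau S c T₀.obj₁ (w₂ ≫ ψ) := by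
  have hR2 : Triangle.mk T₀.mor₃ (-T₀.mor₁⟦(1:ℤ)⟧') (-T₀.mor₂⟦(1:ℤ)⟧') ∈ distTriang T :=
    rot_of_distTriang _ (rot_of_distTriang _ hT₀)
  have hRD : Triangle.mk φ ψ (-(S.functor.map T₀.mor₁)⟦(1:ℤ)⟧') ∈ distTriang T :=
    rot_of_distTriang _ hD
  obtain ⟨c₁, h₁, h₂⟩ := complete_distinguished_triangle_morphism _ _ hR2 hRD w₁ (-w₂)
    (by
      change T₀.mor₃ ≫ (-w₂) = w₁ ≫ φ
      rw [Preadditive.comp_neg]; exact (eq_neg_of_add_eq_zero_left hw).symm)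
  change T₀.obj₂⟦(1:ℤ)⟧ ⟶ (S.functor.obj T₀.obj₁)⟦(1:ℤ)⟧ at c₁
  change (-T₀.mor₁⟦(1:ℤ)⟧') ≫ c₁ = (-w₂) ≫ ψ at h₁
  change (-T₀.mor₂⟦(1:ℤ)⟧') ≫ w₁⟦(1:ℤ)⟧' = c₁ ≫ (-(S.functor.map T₀.mor₁)⟦(1:ℤ)⟧') at h₂
  obtain ⟨c₀, rfl⟩ := (shiftFunctor T (1:ℤ)).map_surjective c₁
  simp only [Preadditive.neg_comp, Preadditive.comp_neg, neg_inj] at h₁ h₂
  rw [← Functor.map_comp] at h₁
  rw [← Functor.map_comp, ← Functor.map_comp] at h₂
  have h₃ := (shiftFunctor T (1:ℤ)).map_injective h₂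
  rw [h₃, ← h₁, tau_shift, tr_cyc S c hc₁ hc₂ T₀.mor₁ c₀]

include hc₁ hc₂ in
lemma exists_xi (T₀ : Triangle T) (hT₀ : T₀ ∈ distTriang T) {C' : T}
    (φ : S.functor.obj T₀.obj₂ ⟶ C') (ψ : C' ⟶ (S.functor.obj T₀.obj₁)⟦(1:ℤ)⟧)
    (hD : Triangle.mk (S.functor.map T₀.mor₁) φ ψ ∈ distTriang T) :
    ∃ ξ : C' ⟶ S.functor.obj T₀.obj₃, φ ≫ ξ = S.functor.map T₀.mor₂ ∧
      ξ ≫ S.functor.map T₀.mor₃ = ψ ≫ eta S c T₀.obj₁ := by
  let Φ : ((T₀.obj₃ ⟶ S.functor.obj T₀.obj₂) × (T₀.obj₁⟦(1:ℤ)⟧ ⟶ C')) →ₗ[k] (T₀.obj₃ ⟶ C') :=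
    (Linear.rightComp k T₀.obj₃ φ).coprod (Linear.leftComp k C' T₀.mor₃)
  let μ : Module.Dual k ((T₀.obj₃ ⟶ S.functor.obj T₀.obj₂) × (T₀.obj₁⟦(1:ℤ)⟧ ⟶ C')) :=
    ((tr S c T₀.obj₂) ∘ₗ (Linear.leftComp k (S.functor.obj T₀.obj₂) T₀.mor₂)).coprod
      (-((tau S c T₀.obj₁) ∘ₗ (Linear.rightComp k (T₀.obj₁⟦(1:ℤ)⟧) ψ)))
  have hμ : μ ∈ LinearMap.range Φ.dualMap := by
    rw [LinearMap.range_dualMap_eq_dualAnnihilator_ker, Submodule.mem_dualAnnihilator]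
    rintro ⟨w₁, w₂⟩ hw
    have hw' : w₁ ≫ φ + T₀.mor₃ ≫ w₂ = 0 := hw
    change tr S c T₀.obj₂ (T₀.mor₂ ≫ w₁) + -(tau S c T₀.obj₁ (w₂ ≫ ψ)) = 0
    rw [consistency S c hc₁ hc₂ T₀ hT₀ φ ψ hD w₁ w₂ hw', add_neg_cancel]
  obtain ⟨l, hl⟩ := hμ
  have hl' : ∀ w₁ w₂, l (w₁ ≫ φ + T₀.mor₃ ≫ w₂) =
      tr S c T₀.obj₂ (T₀.mor₂ ≫ w₁) + -(tau S c T₀.obj₁ (w₂ ≫ ψ)) := by
    intro w₁ w₂
    exact LinearMap.congr_fun hl (w₁, w₂)
  obtain ⟨ξ, hξ⟩ := exists_rep S c hc₁ l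
  refine ⟨ξ, ?_, ?_⟩
  · apply hom_ext_tr S c hc₁
    intro w
    rw [← Category.assoc, hξ, ← tr_cyc S c hc₁ hc₂ T₀.mor₂ w]
    have := hl' w 0
    simpa using this
  · apply hom_ext_tr S c hc₁
    intro w
    rw [← Category.assoc w ξ, ← tr_cyc S c hc₁ hc₂ T₀.mor₃ (w ≫ ξ), ← Category.assoc, hξ,
      ← Category.assoc, tr_eta S c hc₁]
    have := hl' 0 w
    simpa using this

lemma exact_S (T₀ : Triangle T) (hT₀ : T₀ ∈ distTriang T) {Y : T}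
    (p : Y ⟶ S.functor.obj T₀.obj₂) (hp : p ≫ S.functor.map T₀.mor₂ = 0) :
    ∃ r : Y ⟶ S.functor.obj T₀.obj₁, p = r ≫ S.functor.map T₀.mor₁ := by
  let i : S.functor.obj (S.inverse.obj Y) ≅ Y := S.counitIso.app Y
  obtain ⟨p₀, hp₀⟩ := S.functor.map_surjective (i.hom ≫ p)
  have h0 : p₀ ≫ T₀.mor₂ = 0 := by
    apply S.functor.map_injective
    rw [Functor.map_comp, hp₀, Category.assoc, hp, comp_zero, Functor.map_zero]
  obtain ⟨r₀, hr₀⟩ := Triangle.coyoneda_exact₂ T₀ hT₀ p₀ h0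
  refine ⟨i.inv ≫ S.functor.map r₀, ?_⟩
  rw [Category.assoc, ← Functor.map_comp, ← hr₀, hp₀, Iso.inv_hom_id_assoc]

include hc₁ hc₂ in
lemma isIso_xi (T₀ : Triangle T) (hT₀ : T₀ ∈ distTriang T) {C' : T}
    (φ : S.functor.obj T₀.obj₂ ⟶ C') (ψ : C' ⟶ (S.functor.obj T₀.obj₁)⟦(1:ℤ)⟧)
    (hD : Triangle.mk (S.functor.map T₀.mor₁) φ ψ ∈ distTriang T)
    (ξ : C' ⟶ S.functor.obj T₀.obj₃) (h1 : φ ≫ ξ = S.functor.map T₀.mor₂)
    (h2 : ξ ≫ S.functor.map T₀.mor₃ = ψ ≫ eta S c T₀.obj₁) : IsIso ξ := by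
  have := isIso_eta S c hc₁ T₀.obj₁
  have := isIso_eta S c hc₁ T₀.obj₂
  apply isIso_of_yoneda_map_bijective
  intro Y
  constructor
  · intro q₁ q₂ hq
    dsimp only at hq
    have hq0 : (q₁ - q₂) ≫ ξ = 0 := by rw [Preadditive.sub_comp, hq, sub_self]
    have hψ : (q₁ - q₂) ≫ ψ = 0 := by
      have h3 : ((q₁ - q₂) ≫ ψ) ≫ eta S c T₀.obj₁ = 0 ≫ eta S c T₀.obj₁ := by
        rw [Category.assoc, ← h2, ← Category.assoc, hq0, zero_comp, zero_comp]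
      exact (cancel_mono (eta S c T₀.obj₁)).mp h3
    obtain ⟨p, hp⟩ := Triangle.coyoneda_exact₃ _ hD (q₁ - q₂) hψ
    change Y ⟶ S.functor.obj T₀.obj₂ at p
    change q₁ - q₂ = p ≫ φ at hp
    have hp0 : p ≫ S.functor.map T₀.mor₂ = 0 := by rw [← h1, ← Category.assoc, ← hp, hq0]
    obtain ⟨r, hr⟩ := exact_S S T₀ hT₀ p hp0
    have h4 : S.functor.map T₀.mor₁ ≫ φ = 0 := comp_distTriang_mor_zero₁₂ _ hD
    have h5 : q₁ - q₂ = 0 := by rw [hp, hr, Category.assoc, h4, comp_zero]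
    exact sub_eq_zero.mp h5
  · intro q
    have hnat : inv (eta S c T₀.obj₁) ≫ (S.functor.map T₀.mor₁)⟦(1:ℤ)⟧' =
        S.functor.map (T₀.mor₁⟦(1:ℤ)⟧') ≫ inv (eta S c T₀.obj₂) := by
      rw [IsIso.inv_comp_eq, ← Category.assoc, IsIso.eq_comp_inv,
        eta_naturality S c hc₁ hc₂]
    have h0 : (q ≫ S.functor.map T₀.mor₃ ≫ inv (eta S c T₀.obj₁)) ≫
        (S.functor.map T₀.mor₁)⟦(1:ℤ)⟧' = 0 := by
      rw [Category.assoc, Category.assoc, hnat, ← Category.assoc (S.functor.map T₀.mor₃),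
        ← Functor.map_comp, comp_distTriang_mor_zero₃₁ _ hT₀, Functor.map_zero, zero_comp,
        comp_zero]
    obtain ⟨q'', hq''⟩ := Triangle.coyoneda_exact₁ _ hD _ h0
    change Y ⟶ C' at q''
    change q ≫ S.functor.map T₀.mor₃ ≫ inv (eta S c T₀.obj₁) = q'' ≫ ψ at hq''
    have h3 : (q - q'' ≫ ξ) ≫ S.functor.map T₀.mor₃ = 0 := by
      rw [Preadditive.sub_comp, Category.assoc, h2, ← Category.assoc q'' ψ, ← hq'']
      simp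
    have hR : Triangle.mk T₀.mor₂ T₀.mor₃ (-T₀.mor₁⟦(1:ℤ)⟧') ∈ distTriang T :=
      rot_of_distTriang _ hT₀
    obtain ⟨p, hp⟩ := exact_S S _ hR (q - q'' ≫ ξ) h3
    change Y ⟶ S.functor.obj T₀.obj₂ at p
    change q - q'' ≫ ξ = p ≫ S.functor.map T₀.mor₂ at hp
    refine ⟨q'' + p ≫ φ, ?_⟩
    dsimp only
    rw [Preadditive.add_comp, Category.assoc, h1, ← hp]
    abel

end


open CategoryTheory.Limits CategoryTheory.Pretriangulated in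
/-- Let k be a field and T a k-linear triangulated category with dim_k Hom(X, Y) < ∞ for all X, Y, and
let (S, c) be a Serre functor: a k-linear equivalence T ⥤ T with k-linear isomorphisms c_{X,Y} :
Hom(X, Y) ≅ Hom(Y, S X)^∨ natural in X and Y. Then S is an exact functor of triangulated categories:
there is an isomorphism of functors S ∘ ⟦1⟧ ≅ ⟦1⟧ ∘ S such that for every distinguished triangle (A,
B, C, f, g, h) the triangle (S A, S B, S C, S f, S g, S h followed by that isomorphism at A) is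
distinguished. -/
theorem result
    {k : Type w} [Field k]
    {T : Type u} [Category.{v} T] [Preadditive T] [Linear k T] [HasZeroObject T] [HasShift T ℤ]
    [∀ n : ℤ, (shiftFunctor T n).Additive] [∀ n : ℤ, (shiftFunctor T n).Linear k] [Pretriangulated T]
    [IsTriangulated T] [∀ X Y : T, Module.Finite k (X ⟶ Y)]
    (S : T ≌ T) [S.functor.Additive] [S.functor.Linear k]
    (c : ∀ X Y : T, (X ⟶ Y) ≃ₗ[k] Module.Dual k (Y ⟶ S.functor.obj X))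
    (hc₁ : ∀ (X Y Y' : T) (f : X ⟶ Y) (g : Y ⟶ Y'),
      c X Y' (f ≫ g) = (c X Y f) ∘ₗ Linear.leftComp k (S.functor.obj X) g)
    (hc₂ : ∀ (X' X Y : T) (a : X' ⟶ X) (f : X ⟶ Y),
      c X' Y (a ≫ f) = (c X Y f) ∘ₗ Linear.rightComp k Y (S.functor.map a)) :
    ∃ e : shiftFunctor T (1 : ℤ) ⋙ S.functor ≅ S.functor ⋙ shiftFunctor T (1 : ℤ),
      ∀ T' ∈ distTriang T,
        Triangle.mk (S.functor.map T'.mor₁) (S.functor.map T'.mor₂)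
          (S.functor.map T'.mor₃ ≫ e.hom.app T'.obj₁) ∈ distTriang T := by
  have : ∀ X, IsIso (eta S c X) := isIso_eta S c hc₁
  let e : shiftFunctor T (1 : ℤ) ⋙ S.functor ≅ S.functor ⋙ shiftFunctor T (1 : ℤ) :=
    NatIso.ofComponents (fun X => (asIso (eta S c X)).symm) (by
      intro X' X a
      dsimp
      rw [IsIso.comp_inv_eq, Category.assoc, IsIso.eq_inv_comp, eta_naturality S c hc₁ hc₂])
  refine ⟨e, fun T₀ hT₀ => ?_⟩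
  obtain ⟨C', φ, ψ, hD⟩ := distinguished_cocone_triangle (S.functor.map T₀.mor₁)
  obtain ⟨ξ, h1, h2⟩ := exists_xi S c hc₁ hc₂ T₀ hT₀ φ ψ hD
  have := isIso_xi S c hc₁ hc₂ T₀ hT₀ φ ψ hD ξ h1 h2
  refine isomorphic_distinguished _ hD _
    (Triangle.isoMk _ _ (Iso.refl _) (Iso.refl _) (asIso ξ).symm ?_ ?_ ?_)
  · change S.functor.map T₀.mor₁ ≫ 𝟙 _ = 𝟙 _ ≫ S.functor.map T₀.mor₁
    rw [Category.comp_id, Category.id_comp]
  · change S.functor.map T₀.mor₂ ≫ inv ξ = 𝟙 _ ≫ φ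
    rw [Category.id_comp, IsIso.comp_inv_eq, h1]
  · change (S.functor.map T₀.mor₃ ≫ inv (eta S c T₀.obj₁)) ≫ (𝟙 _)⟦(1:ℤ)⟧' = inv ξ ≫ ψ
    rw [CategoryTheory.Functor.map_id, Category.comp_id, IsIso.eq_inv_comp, ← Category.assoc, IsIso.comp_inv_eq,
      h2]

end Groth.Agent.S6732
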