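import Groth.Statements.S6769
import Groth.Agent.Lib.helper11.EWNat

set_option autoImplicit false
universe u
open CategoryTheory CategoryTheory.Limits TensorProduct
open scoped ModuleCat.Algebra
open FunMor

namespace Groth.Agent.S6769

/-- Let R be a commutative ring and A, B commutative R-algebras; Mod_A and Mod_B are R-linear
categories. Suppose F, F' : Mod_A ⥤ Mod_B are R-linear functors, each of which preserves finite
colimits (so is right exact) and also preserves direct sums indexed by any set. Then: (i) there is
an A ⊗_R B-module K — a module over A and over B with commuting actions on which the two R-actions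
agree — and B-linear isomorphisms K ⊗_A M ≅ F(M) natural in the A-module M; (ii) a natural
transformation F ⟶ F' is determined by its component at A, and a B-linear map φ : F(A) ⟶ F'(A) is
the component at A of some natural transformation F ⟶ F' if and only if it commutes with the
A-actions, i.e. F(a · id_A) ≫ φ = φ ≫ F'(a · id_A) for all a ∈ A. (Together: K ↦ (- ⊗_A K) is an
equivalence from Mod_{A ⊗_R B} onto the category of such functors.) -/
theorem result
    (R : Type u) [CommRing R] (A B : Type u) [CommRing A] [CommRing B] [Algebra R A] [Algebra R B]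
    (F F' : ModuleCat.{u} A ⥤ ModuleCat.{u} B) [F.Additive] [F.Linear R] [F'.Additive] [F'.Linear R]
    [PreservesFiniteColimits F] [∀ J : Type u, PreservesColimitsOfShape (Discrete J) F]
    [PreservesFiniteColimits F'] [∀ J : Type u, PreservesColimitsOfShape (Discrete J) F'] :
    (∃ (K : Type u) (_ : AddCommGroup K) (_ : Module A K) (_ : Module B K) (_ : SMulCommClass A B K),
      (∀ (r : R) (x : K), algebraMap R A r • x = algebraMap R B r • x) ∧
      ∃ η : ∀ M : ModuleCat.{u} A, (K ⊗[A] M) ≃ₗ[B] F.obj M,
        ∀ (M N : ModuleCat.{u} A) (f : M ⟶ N) (x : K ⊗[A] M),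
          η N (LinearMap.lTensor K f.hom x) = F.map f (η M x)) ∧
    (∀ t t' : F ⟶ F', t.app (ModuleCat.of A A) = t'.app (ModuleCat.of A A) → t = t') ∧
    (∀ φ : F.obj (ModuleCat.of A A) ⟶ F'.obj (ModuleCat.of A A),
      (∃ t : F ⟶ F', t.app (ModuleCat.of A A) = φ) ↔
        ∀ a : A, F.map (a • 𝟙 (ModuleCat.of A A)) ≫ φ = φ ≫ F'.map (a • 𝟙 (ModuleCat.of A A))) := by
  refine ⟨⟨Groth.Agent.Lib.helper11.EWGen.KK F, inferInstance, inferInstance, inferInstance,
    inferInstance, ?_, Groth.Agent.Lib.helper11.EWGen.η F,
    fun M N f x => Groth.Agent.Lib.helper11.EWGen.η_naturality F f x⟩, ?_, ?_⟩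
  · intro r x
    rw [Groth.Agent.Lib.helper11.EWGen.smul_def]
    have h2 := CategoryTheory.Functor.map_smul F r (𝟙 (ModuleCat.of A A))
    rw [CategoryTheory.Functor.map_id] at h2
    have h3 : F.map (Groth.Agent.Lib.helper11.EW.theta (M := ModuleCat.of A A)
        (algebraMap R A r)) = _ :=
      (congrArg F.map (by
        ext
        rw [Groth.Agent.Lib.helper11.EW.theta_apply]
        change _ = algebraMap R A r • (1 : A)
        simp)).trans h2
    rw [h3]
    rfl
  · intro t t' h
    exact Groth.Agent.Lib.helper11.EWGen.nat_ext t t' h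
  · intro φ
    rw [Groth.Agent.Lib.helper11.EWGen.exists_nat_iff φ]
    simp only [Groth.Agent.Lib.helper11.EW.theta_one_smul]

end Groth.Agent.S6769
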