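import Groth.Statements.S6775
-- import your own Groth.Agent.* helpers here

set_option autoImplicit false
open CategoryTheory CategoryTheory.Limits
universe v u
open CategoryTheory CategoryTheory.Abelian

namespace Groth.Agent.S6775

/-- In an abelian category a cartesian square whose bottom arrow `k` is an epimorphism is also
cocartesian, and the arrow `f` opposite to `k` is an epimorphism. -/
theorem result {A : Type u} [Category.{v} A] [Abelian A] {w x y z : A} (f : w ⟶ y) (g : w ⟶ x) (h : y ⟶ z) (k : x ⟶ z) (sq : IsPullback f g h k) [Epi k] : IsPushout f g h k ∧ Epi f := by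
  have hf : Epi f := Abelian.epi_fst_of_isLimit (f := h) (g := k) sq.isLimit
  refine ⟨?_, hf⟩
  -- the kernel of k lifts to w
  obtain ⟨t, ht₁, ht₂⟩ := sq.exists_lift (0 : kernel k ⟶ y) (kernel.ι k) (by simp)
  have key : ∀ s : PushoutCocone f g, kernel.ι k ≫ s.inr = 0 := by
    intro s
    rw [← ht₂, Category.assoc, ← s.condition, reassoc_of% ht₁, zero_comp]
  refine ⟨sq.toCommSq, ⟨PushoutCocone.IsColimit.mk sq.w
    (fun s => Abelian.epiDesc k s.inr (key s)) ?_ ?_ ?_⟩⟩
  · intro s
    rw [← cancel_epi f, reassoc_of% sq.w, Abelian.comp_epiDesc, s.condition]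
  · intro s
    exact Abelian.comp_epiDesc k s.inr (key s)
  · intro s m _ hm
    rw [← cancel_epi k, hm, Abelian.comp_epiDesc]

end Groth.Agent.S6775
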