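import Groth.Statements.S6776
-- import your own Groth.Agent.* helpers here

set_option autoImplicit false
open CategoryTheory CategoryTheory.Limits
universe v u
open CategoryTheory CategoryTheory.Abelian

namespace Groth.Agent.S6776

/-- In an abelian category a cocartesian square whose left arrow `g` is a monomorphism is also
cartesian, and the arrow `h` opposite to `g` is a monomorphism. -/
theorem result {A : Type u} [Category.{v} A] [Abelian A] {w x y z : A} (f : w ⟶ y) (g : w ⟶ x) (h : y ⟶ z) (k : x ⟶ z) (sq : IsPushout f g h k) [Mono g] : IsPullback f g h k ∧ Mono h := by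
  have hh : Mono h := Abelian.mono_inl_of_isColimit (f := f) (g := g) sq.isColimit
  refine ⟨?_, hh⟩
  obtain ⟨t, ht₁, ht₂⟩ := sq.exists_desc (0 : y ⟶ cokernel g) (cokernel.π g) (by simp)
  have key : ∀ s : PullbackCone h k, s.snd ≫ cokernel.π g = 0 := by
    intro s
    rw [← ht₂, ← Category.assoc, ← s.condition, Category.assoc, ht₁, comp_zero]
  refine ⟨sq.toCommSq, ⟨PullbackCone.IsLimit.mk sq.w
    (fun s => Abelian.monoLift g s.snd (key s)) ?_ ?_ ?_⟩⟩
  · intro s
    rw [← cancel_mono h, Category.assoc, sq.w, ← Category.assoc, Abelian.monoLift_comp,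
      s.condition]
  · intro s
    exact Abelian.monoLift_comp g s.snd (key s)
  · intro s m _ hm
    rw [← cancel_mono g, hm, Abelian.monoLift_comp]

end Groth.Agent.S6776
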