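import Groth.Statements.S6787
import Mathlib.CategoryTheory.CofilteredSystem
-- import your own Groth.Agent.* helpers here

set_option autoImplicit false
open CategoryTheory CategoryTheory.Limits
universe u
open HomAlg3

namespace Groth.Agent.S6787

open Opposite in
/-- transition maps as additive maps -/
noncomputable def T (X : ℕᵒᵖ ⥤ AddCommGrpCat.{u}) {j k : ℕ} (h : j ≤ k) : X.obj (op k) →+ X.obj (op j) :=
  (X.map (homOfLE h).op).hom

open Opposite in
theorem T_comp (X : ℕᵒᵖ ⥤ AddCommGrpCat.{u}) {i j k : ℕ} (h1 : i ≤ j) (h2 : j ≤ k) (x : X.obj (op k)) :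
    T X h1 (T X h2 x) = T X (h1.trans h2) x := by
  unfold T
  have : (homOfLE (h1.trans h2)).op = (homOfLE h2).op ≫ (homOfLE h1).op := rfl
  rw [this, X.map_comp]
  rfl

open Opposite in
theorem T_nat {X Y : ℕᵒᵖ ⥤ AddCommGrpCat.{u}} (a : X ⟶ Y) {j k : ℕ} (h : j ≤ k) (x : X.obj (op k)) :
    (a.app (op j)).hom (T X h x) = T Y h ((a.app (op k)).hom x) := by
  unfold T
  have := a.naturality (homOfLE h).op
  have := congrArg (fun φ => φ.hom x) this
  simpa using this.symm

open Opposite in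
theorem ml_iff (X : ℕᵒᵖ ⥤ AddCommGrpCat.{u}) :
    (X ⋙ forget AddCommGrpCat).IsMittagLeffler ↔
      ∀ j : ℕ, ∃ (m : ℕ) (hm : j ≤ m), ∀ (k : ℕ) (hk : m ≤ k) (x : X.obj (op m)),
        ∃ y : X.obj (op k), T X (hm.trans hk) y = T X hm x := by
  constructor
  · intro h j
    obtain ⟨i, f, hf⟩ := h (op j)
    have hm : j ≤ i.unop := leOfHom f.unop
    refine ⟨i.unop, hm, fun k hk x => ?_⟩
    have := hf (homOfLE (hm.trans hk)).op ⟨x, rfl⟩
    obtain ⟨y, hy⟩ := this
    refine ⟨y, ?_⟩
    have e : f = (homOfLE hm).op := Subsingleton.elim _ _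
    rw [e] at hy
    exact hy
  · intro h j
    obtain ⟨m, hm, hmk⟩ := h j.unop
    refine ⟨op m, (homOfLE hm).op, fun k g => ?_⟩
    rintro _ ⟨x, rfl⟩
    have hjk : j.unop ≤ k.unop := leOfHom g.unop
    have eg : g = (homOfLE hjk).op := Subsingleton.elim _ _
    rcases le_total m k.unop with hk | hk
    · obtain ⟨y, hy⟩ := hmk k.unop hk x
      exact ⟨y, by rw [eg]; exact hy⟩
    · refine ⟨T X hk x, ?_⟩
      rw [eg]
      exact T_comp X hjk hk x

open Opposite in
theorem T_cone {C : ℕᵒᵖ ⥤ AddCommGrpCat.{u}} {C₀ : AddCommGrpCat.{u}}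
    (c : (Functor.const ℕᵒᵖ).obj C₀ ⟶ C) {j k : ℕ} (h : j ≤ k) (t : C₀) :
    T C h ((c.app (op k)).hom t) = (c.app (op j)).hom t := by
  unfold T
  have := c.naturality (homOfLE h).op
  have := congrArg (fun φ => φ.hom t) this
  simpa using this.symm

/-- Take inverse systems `(A_i)`, `(B_i)`, `(C_i)` of abelian groups over `ℕ`, with morphisms of systems
`(A_i) ⟶ (B_i) ⟶ (C_i)` that give a short exact sequence at every index, and suppose `(C_i)` is
essentially constant. Then `(A_i)` is Mittag-Leffler if and only if `(B_i)` is. -/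
theorem result {A B C : ℕᵒᵖ ⥤ AddCommGrpCat.{u}} (a : A ⟶ B) (b : B ⟶ C) (ha : ∀ i, Function.Injective (a.app i).hom) (hb : ∀ i, Function.Surjective (b.app i).hom) (hex : ∀ i, (b.app i).hom.ker = (a.app i).hom.range) (hC : ∃ (C₀ : AddCommGrpCat.{u}) (c : (Functor.const ℕᵒᵖ).obj C₀ ⟶ C), DerCA.IsEssConstant C C₀ c) : (A ⋙ forget AddCommGrpCat).IsMittagLeffler ↔ (B ⋙ forget AddCommGrpCat).IsMittagLeffler := by
  obtain ⟨C₀, c, i, s, hcs, hess⟩ := hC
  -- essential constancy in elementwise form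
  have hess' : ∀ j : ℕ, ∃ (k : ℕ) (hi : i ≤ k) (hj : j ≤ k), ∀ w : C.obj (Opposite.op k),
      T C hj w = (c.app (Opposite.op j)).hom (s.hom (T C hi w)) := by
    intro j
    obtain ⟨k, hi, hj, h⟩ := hess j
    refine ⟨k, hi, hj, fun w => ?_⟩
    have := congrArg (fun φ => φ.hom w) h
    simpa [T] using this
  rw [ml_iff, ml_iff]
  constructor
  · intro hA j
    obtain ⟨p, hp, hAp⟩ := hA j
    obtain ⟨q, hi, hq, hCq⟩ := hess' p
    refine ⟨q, hp.trans hq, fun k hk x => ?_⟩
    -- w' ∈ C_k with w'|_p = (b x)|_p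
    set w' : C.obj (Opposite.op k) := (c.app (Opposite.op k)).hom (s.hom (T C hi ((b.app (Opposite.op q)).hom x))) with hw'
    have hw'p : T C (hq.trans hk) w' = T C hq ((b.app (Opposite.op q)).hom x) := by
      rw [hw', T_cone, hCq]
    obtain ⟨y, hy⟩ := hb (Opposite.op k) w'
    -- difference at level p comes from A_p
    have hker : T B hq x - T B (hq.trans hk) y ∈ (b.app (Opposite.op p)).hom.ker := by
      rw [AddMonoidHom.mem_ker, map_sub, T_nat b, T_nat b, hy, hw'p, sub_self]
    rw [hex] at hker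
    obtain ⟨u, hu⟩ := hker
    obtain ⟨v, hv⟩ := hAp k (hq.trans hk) u
    refine ⟨y + (a.app (Opposite.op k)).hom v, ?_⟩
    rw [map_add, ← T_nat a, hv, T_nat a, hu, map_sub, T_comp, T_comp]
    abel
  · intro hB j
    have hjp : j ≤ max i j := le_max_right _ _
    have hip : i ≤ max i j := le_max_left _ _
    obtain ⟨m, hm, hBm⟩ := hB (max i j)
    refine ⟨m, hjp.trans hm, fun k hk x => ?_⟩
    obtain ⟨k', hi', hkk', hCk⟩ := hess' k
    obtain ⟨y, hy⟩ := hBm k' (hk.trans hkk') ((a.app (Opposite.op m)).hom x)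
    -- b y restricted to level i vanishes
    have h0 : T C hi' ((b.app (Opposite.op k')).hom y) = 0 := by
      have e1 : T C hi' ((b.app (Opposite.op k')).hom y) =
          T C hip (T C (hm.trans (hk.trans hkk')) ((b.app (Opposite.op k')).hom y)) := by
        rw [T_comp]
      rw [e1, ← T_nat b, hy, T_nat b]
      have hba : (b.app (Opposite.op m)).hom ((a.app (Opposite.op m)).hom x) = 0 := by
        have : (a.app (Opposite.op m)).hom x ∈ (b.app (Opposite.op m)).hom.ker := by
          rw [hex]; exact ⟨x, rfl⟩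
        exact this
      rw [hba, map_zero, map_zero]
    have hker : T B hkk' y ∈ (b.app (Opposite.op k)).hom.ker := by
      rw [AddMonoidHom.mem_ker, T_nat b, hCk, h0, map_zero, map_zero]
    rw [hex] at hker
    obtain ⟨z, hz⟩ := hker
    refine ⟨z, ?_⟩
    have hzp : T A (hm.trans hk) z = T A hm x := by
      apply ha (Opposite.op (max i j))
      rw [T_nat a, T_nat a, hz, T_comp, hy]
    have := congrArg (T A hjp) hzp
    rw [T_comp, T_comp] at this
    exact this


end Groth.Agent.S6787
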