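import Groth.Statements.S6790
-- import your own Groth.Agent.* helpers here

set_option autoImplicit false
open CategoryTheory CategoryTheory.Limits MonoidalCategory
universe v u
open CategoryTheory CategoryTheory.Monoidal

namespace Groth.Agent.S6790

section Helpers

open ExactPairing

variable {C : Type u} [Category.{v} C] [MonoidalCategory C]

/-- an exact pairing on retracts, given compatible idempotents -/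
@[instance_reducible]
noncomputable def exactPairingOfRetract {X Y X₁ Y₁ : C} [ExactPairing X Y] (i : X₁ ⟶ X) (p : X ⟶ X₁)
    (hip : i ≫ p = 𝟙 X₁) (j : Y₁ ⟶ Y) (q : Y ⟶ Y₁) (hjq : j ≫ q = 𝟙 Y₁)
    (h1 : η_ X Y ≫ X ◁ (q ≫ j) = η_ X Y ≫ (p ≫ i) ▷ Y)
    (h2 : (q ≫ j) ▷ X ≫ ε_ X Y = Y ◁ (p ≫ i) ≫ ε_ X Y) : ExactPairing X₁ Y₁ where
  coevaluation' := η_ X Y ≫ p ▷ Y ≫ X₁ ◁ q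
  evaluation' := j ▷ X₁ ≫ Y ◁ i ≫ ε_ X Y
  evaluation_coevaluation' := by
    calc
      _ = η_ X Y ▷ X₁ ⊗≫ p ▷ Y ▷ X₁ ⊗≫ X₁ ◁ ((q ≫ j) ▷ X₁ ≫ Y ◁ i) ⊗≫ X₁ ◁ ε_ X Y := by
        monoidal
      _ = η_ X Y ▷ X₁ ⊗≫ p ▷ Y ▷ X₁ ⊗≫ X₁ ◁ (Y ◁ i ≫ (q ≫ j) ▷ X) ⊗≫ X₁ ◁ ε_ X Y := by
        rw [← whisker_exchange]
      _ = η_ X Y ▷ X₁ ⊗≫ p ▷ Y ▷ X₁ ⊗≫ X₁ ◁ Y ◁ i ⊗≫ X₁ ◁ ((q ≫ j) ▷ X ≫ ε_ X Y) := by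
        monoidal
      _ = η_ X Y ▷ X₁ ⊗≫ p ▷ Y ▷ X₁ ⊗≫ X₁ ◁ Y ◁ i ⊗≫ X₁ ◁ (Y ◁ (p ≫ i) ≫ ε_ X Y) := by
        rw [h2]
      _ = η_ X Y ▷ X₁ ⊗≫ p ▷ Y ▷ X₁ ⊗≫ X₁ ◁ Y ◁ ((i ≫ p) ≫ i) ⊗≫ X₁ ◁ ε_ X Y := by
        monoidal
      _ = η_ X Y ▷ X₁ ⊗≫ (p ▷ (Y ⊗ X₁) ≫ X₁ ◁ (Y ◁ i)) ⊗≫ X₁ ◁ ε_ X Y := by
        rw [hip, Category.id_comp]; monoidal
      _ = 𝟙 _ ⊗≫ (η_ X Y ▷ X₁ ≫ (X ⊗ Y) ◁ i) ⊗≫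
          (p ▷ (Y ⊗ X) ≫ X₁ ◁ ε_ X Y) ⊗≫ 𝟙 _ := by
        rw [← whisker_exchange]; monoidal
      _ = 𝟙 _ ⊗≫ i ⊗≫ (η_ X Y ▷ X ⊗≫ X ◁ ε_ X Y) ⊗≫ p ⊗≫ 𝟙 _ := by
        rw [← whisker_exchange, ← whisker_exchange]; monoidal
      _ = 𝟙 _ ⊗≫ (i ≫ p) ⊗≫ 𝟙 _ := by
        rw [evaluation_coevaluation'']; monoidal
      _ = (λ_ X₁).hom ≫ (ρ_ X₁).inv := by
        rw [hip]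
        monoidal
  coevaluation_evaluation' := by
    calc
      _ = Y₁ ◁ η_ X Y ⊗≫ Y₁ ◁ p ▷ Y ⊗≫ (Y₁ ◁ (X₁ ◁ q) ≫ j ▷ (X₁ ⊗ Y₁)) ⊗≫
          (Y ◁ i) ▷ Y₁ ⊗≫ ε_ X Y ▷ Y₁ := by
        monoidal
      _ = Y₁ ◁ η_ X Y ⊗≫ Y₁ ◁ p ▷ Y ⊗≫ (j ▷ (X₁ ⊗ Y) ≫ Y ◁ (X₁ ◁ q)) ⊗≫
          (Y ◁ i) ▷ Y₁ ⊗≫ ε_ X Y ▷ Y₁ := by
        rw [whisker_exchange]
      _ = Y₁ ◁ η_ X Y ⊗≫ (Y₁ ◁ (p ▷ Y) ≫ j ▷ (X₁ ⊗ Y)) ⊗≫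
          ((Y ⊗ X₁) ◁ q ≫ (Y ◁ i) ▷ Y₁) ⊗≫ ε_ X Y ▷ Y₁ := by
        monoidal
      _ = Y₁ ◁ η_ X Y ⊗≫ (j ▷ (X ⊗ Y) ≫ Y ◁ (p ▷ Y)) ⊗≫
          ((Y ◁ i) ▷ Y ≫ (Y ⊗ X) ◁ q) ⊗≫ ε_ X Y ▷ Y₁ := by
        rw [whisker_exchange, whisker_exchange]
      _ = (Y₁ ◁ η_ X Y ≫ j ▷ (X ⊗ Y)) ⊗≫ Y ◁ ((p ≫ i) ▷ Y) ⊗≫ (Y ⊗ X) ◁ q ⊗≫ ε_ X Y ▷ Y₁ := by
        monoidal
      _ = (j ▷ 𝟙_ C ≫ Y ◁ η_ X Y) ⊗≫ Y ◁ ((p ≫ i) ▷ Y) ⊗≫ (Y ⊗ X) ◁ q ⊗≫ ε_ X Y ▷ Y₁ := by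
        rw [whisker_exchange]
      _ = j ▷ 𝟙_ C ⊗≫ Y ◁ (η_ X Y ≫ (p ≫ i) ▷ Y) ⊗≫ (Y ⊗ X) ◁ q ⊗≫ ε_ X Y ▷ Y₁ := by
        monoidal
      _ = j ▷ 𝟙_ C ⊗≫ Y ◁ (η_ X Y ≫ X ◁ (q ≫ j)) ⊗≫ (Y ⊗ X) ◁ q ⊗≫ ε_ X Y ▷ Y₁ := by
        rw [h1]
      _ = j ▷ 𝟙_ C ⊗≫ Y ◁ η_ X Y ⊗≫ Y ◁ X ◁ (q ≫ (j ≫ q)) ⊗≫ ε_ X Y ▷ Y₁ := by
        monoidal
      _ = j ▷ 𝟙_ C ⊗≫ Y ◁ η_ X Y ⊗≫ ((Y ⊗ X) ◁ q ≫ ε_ X Y ▷ Y₁) := by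
        rw [hjq, Category.comp_id]; monoidal
      _ = 𝟙 _ ⊗≫ j ⊗≫ (Y ◁ η_ X Y ⊗≫ ε_ X Y ▷ Y) ⊗≫ q ⊗≫ 𝟙 _ := by
        rw [whisker_exchange]; monoidal
      _ = 𝟙 _ ⊗≫ (j ≫ q) ⊗≫ 𝟙 _ := by
        rw [coevaluation_evaluation'']; monoidal
      _ = (ρ_ Y₁).hom ≫ (λ_ Y₁).inv := by
        rw [hjq]
        monoidal

end Helpers

/-- In an idempotent-complete additive monoidal category, a direct summand of an object admitting a dual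
(with coevaluation `𝟙_ A ⟶ X ⊗ Y` and evaluation `Y ⊗ X ⟶ 𝟙_ A`) again admits such a dual. -/
theorem result {A : Type u} [Category.{v} A] [Preadditive A] [HasFiniteBiproducts A] [MonoidalCategory A] [MonoidalPreadditive A] [IsIdempotentComplete A] {X X₁ : A} (i : X₁ ⟶ X) (p : X ⟶ X₁) (hip : i ≫ p = 𝟙 X₁) [HasRightDual X] : Nonempty (HasRightDual X₁) := by
  have hidem : (p ≫ i) ≫ (p ≫ i) = p ≫ i := by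
    rw [Category.assoc, ← Category.assoc i, hip, Category.id_comp]
  obtain ⟨Y₁, j, q, hjq, hqj⟩ := IsIdempotentComplete.idempotents_split (Xᘁ) ((p ≫ i)ᘁ) (by
    rw [← comp_rightAdjointMate, hidem])
  exact ⟨{ rightDual := Y₁
           exact := exactPairingOfRetract i p hip j q hjq
            (by rw [hqj, coevaluation_comp_rightAdjointMate])
            (by rw [hqj, rightAdjointMate_comp_evaluation]) }⟩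

end Groth.Agent.S6790
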