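import Groth.Statements.S6792
import Groth.Agent.Lib.Helper1.FilCxBasic

set_option autoImplicit false
open CategoryTheory
universe v u
open SpSeq SpSeq.FilCx

namespace Groth.Agent.S6792

open Groth.Agent.Lib.Helper1.FilCxBasic CategoryTheory.Limits

/-- For a filtered complex whose filtration is finite in each degree, the associated spectral sequence
is bounded (from page `0` on), the induced filtration on each cohomology object is finite, and the
spectral sequence converges to the cohomology. -/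
theorem result {A : Type u} [Category.{v} A] [Abelian A] (K : SpSeq.FilCx A) (hK : ∀ n : ℤ, (K.XFil n).IsFinite) : K.IsBounded 0 ∧ (∀ n : ℤ, (K.HFil n).IsFinite) ∧ K.Converges := by
  have hA : ∀ n : ℤ, ∃ a : ℤ, K.filX a n = ⊤ := fun n => (hK n).1
  have hB : ∀ n : ℤ, ∃ b : ℤ, K.filX b n = ⊥ := fun n => (hK n).2
  have hfin : ∀ n : ℤ, (K.HFil n).IsFinite := by
    intro n
    obtain ⟨a, ha⟩ := hA n
    obtain ⟨b, hb⟩ := hB n
    exact ⟨⟨a, filH_eq_top K a n ha⟩, ⟨b, filH_eq_bot K b n hb⟩⟩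
  refine ⟨?_, hfin, ?_, ⟨?_, ?_⟩, ?_⟩
  · intro n
    obtain ⟨a, ha⟩ := hA n
    obtain ⟨b, hb⟩ := hB n
    refine (Set.finite_Ico a b).subset ?_
    intro p hp
    simp only [Set.mem_setOf_eq] at hp
    by_contra hcon
    apply hp
    simp only [Set.mem_Ico, not_and_or, not_le, not_lt] at hcon
    apply subquot_isZero_of_eq
    rcases hcon with h | h
    · have h1 : K.filX (p + 1) n = ⊤ := filX_eq_top_of_le K n ha (by omega)
      unfold BSub ZSub
      rw [h1, sup_top_eq, sup_top_eq]
    · have h1 : K.filX (p + 1) n = ⊥ := filX_eq_bot_of_le K n hb (by omega)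
      have h2 : K.filX p n = ⊥ := filX_eq_bot_of_le K n hb h
      unfold BSub ZSub
      rw [h1, h2, bot_inf_eq, bot_inf_eq]
  · intro p n
    obtain ⟨b, hb⟩ := hB (n + 1)
    refine ⟨(b - p).toNat, fun r hr => ?_⟩
    rw [ZSub_eq_ZTop K r p n (filX_eq_bot_of_le K _ hb (by omega)),
      ZSub_eq_ZTop K _ p n (filX_eq_bot_of_le K _ hb (by omega))]
  · intro p n
    constructor
    · obtain ⟨b, hb⟩ := hB (n + 1)
      refine IsLeast.isGLB ⟨⟨(b - p).toNat, ?_⟩, ?_⟩
      · exact ZSub_eq_ZTop K _ p n (filX_eq_bot_of_le K _ hb (by omega))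
      · rintro _ ⟨r, rfl⟩
        exact ZTop_le_ZSub K r p n
    · obtain ⟨a, ha⟩ := hA (n - 1)
      refine IsGreatest.isLUB ⟨⟨(p + 1 - a).toNat, ?_⟩, ?_⟩
      · exact BSub_eq_BBot K _ p n (filX_eq_top_of_le K _ ha (by omega))
      · rintro _ ⟨r, rfl⟩
        exact BSub_le_BBot K r p n
  · intro n
    exact ⟨isSeparated_of_discrete _ (hfin n).2, isExhaustive_of_codiscrete _ (hfin n).1⟩
  · intro n
    exact isComplete_of_discrete _ (hfin n).2

end Groth.Agent.S6792
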