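import Groth.Statements.S6793
import Groth.Agent.Lib.Helper1.FilCxAbut

set_option autoImplicit false
open CategoryTheory CategoryTheory.Limits
universe v u
open SpSeq SpSeq.FilCx

namespace Groth.Agent.S6793

open Groth.Agent.Lib.Helper1.FilCxBasic Groth.Agent.Lib.Helper1.FilCxPage
  Groth.Agent.Lib.Helper1.FilCxAbut Groth.Agent.Lib.Helper1.Subquot CategoryTheory.Limits

/-- For a filtered complex with degreewise finite filtration, if all terms of some page of its spectral
sequence lie in a weak Serre class `P`, then so does each cohomology object. -/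
theorem result {A : Type u} [Category.{v} A] [Abelian A] (K : SpSeq.FilCx A) (hK : ∀ n : ℤ, (K.XFil n).IsFinite) (P : ObjectProperty A) [P.IsClosedUnderIsomorphisms] (h0 : ∃ Z : A, IsZero Z ∧ P Z) (hP : ∀ S : ComposableArrows A 4, S.Exact → P (S.obj 0) → P (S.obj 1) → P (S.obj 3) → P (S.obj 4) → P (S.obj 2)) (r : ℕ) (hr : ∀ p n : ℤ, P (K.E r p n)) (n : ℤ) : P (K.obj.homology n) := by
  have hW : IsWeakSerre P := ⟨h0, hP⟩
  refine homology_mem hW (hK n) (fun p => ?_)
  obtain ⟨b, hb⟩ := (hK (n + 1)).2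
  obtain ⟨a, ha⟩ := (hK (n - 1)).1
  change K.filX b (n + 1) = ⊥ at hb
  change K.filX a (n - 1) = ⊤ at ha
  let s : ℕ := max r (max (b - p).toNat (p + 1 - a).toNat)
  have hs : P (K.E s p n) := page_mem_of_le hW r hr s (le_max_left _ _) p n
  have hZ : K.ZSub s p n = K.ZTop p n :=
    ZSub_eq_ZTop K s p n (filX_eq_bot_of_le K _ hb (by omega))
  have hB : K.BSub s p n = K.BBot p n :=
    BSub_eq_BBot K s p n (filX_eq_top_of_le K _ ha (by omega))
  obtain ⟨e⟩ := subquot_congr (K.BSub_le_ZSub s p n) (BBot_le_ZTop K n p) hZ hB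
  exact P.prop_of_iso e hs

end Groth.Agent.S6793
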