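import Groth.Statements.S6794
import Groth.Agent.Lib.Helper1.FilCxElem

set_option autoImplicit false
open CategoryTheory CategoryTheory.Limits
universe v u
open SpSeq SpSeq.FilCx

namespace Groth.Agent.S6794

open Groth.Agent.Lib.Helper1.FilCxBasic Groth.Agent.Lib.Helper1.FilCxElem CategoryTheory.Limits

/-- If the cohomology of the filtration steps of a filtered complex vanishes in each degree for large
filtration index and maps isomorphically to the cohomology of the whole complex for small filtration
index, then the spectral sequence is bounded from page `1` on, the induced filtrations on cohomology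
are finite, and the spectral sequence converges. (The published statement asserts boundedness
without naming a page, which read from page `0` fails for an acyclic complex with an infinite
filtration by acyclic subcomplexes; this row asserts boundedness from page `1`, which is what the
published proof shows.) -/
theorem result {A : Type u} [Category.{v} A] [Abelian A] (K : SpSeq.FilCx A) (h0 : ∀ n : ℤ, ∃ p₀ : ℤ, ∀ p : ℤ, p₀ ≤ p → IsZero ((K.fil p : CochainComplex A ℤ).homology n)) (h1 : ∀ n : ℤ, ∃ p₁ : ℤ, ∀ p : ℤ, p ≤ p₁ → IsIso (HomologicalComplex.homologyMap (K.fil p).arrow n)) : K.IsBounded 1 ∧ (∀ n : ℤ, (K.HFil n).IsFinite) ∧ K.Converges := by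
  have hfin : ∀ n : ℤ, (K.HFil n).IsFinite := by
    intro n
    obtain ⟨p₀, hp₀⟩ := h0 n
    obtain ⟨p₁, hp₁⟩ := h1 n
    refine ⟨⟨p₁, filH_eq_top_of_epi K p₁ n ?_⟩, ⟨p₀, filH_eq_bot_of_isZero K p₀ n (hp₀ p₀ le_rfl)⟩⟩
    have := hp₁ p₁ le_rfl
    infer_instance
  refine ⟨?_, hfin, ?_, ⟨?_, ?_⟩, ?_⟩
  · intro n
    obtain ⟨p₀, hp₀⟩ := h0 n
    obtain ⟨p₀', hp₀'⟩ := h0 (n + 1)
    obtain ⟨p₁, hp₁⟩ := h1 n
    obtain ⟨p₁', hp₁'⟩ := h1 (n + 1)
    refine (Set.finite_Ico (min p₁ p₁') (max p₀ p₀')).subset ?_
    intro p hp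
    simp only [Set.mem_setOf_eq] at hp
    by_contra hcon
    apply hp
    simp only [Set.mem_Ico, not_and_or, not_le, not_lt] at hcon
    rcases hcon with h | h
    · have a1 := hp₁' (p + 1) (by omega)
      have a2 := hp₁ (p + 1) (by omega)
      have a3 := hp₁ p (by omega)
      exact E_one_isZero_of_iso K p n inferInstance inferInstance inferInstance
    · exact E_one_isZero_of_isZero K p n (hp₀' (p + 1) (by omega)) (hp₀ p (by omega))
  · intro p n
    obtain ⟨b, hb⟩ := h0 (n + 1)
    refine ⟨max 1 (b - p).toNat, fun r hr => ?_⟩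
    rw [ZSub_eq_ZTop_of_mono K r (by omega) p n
        (mono_homologyMap_of_isZero K _ _ (hb _ (by omega))),
      ZSub_eq_ZTop_of_mono K _ (le_max_left _ _) p n
        (mono_homologyMap_of_isZero K _ _ (hb _ (by omega)))]
  · intro p n
    constructor
    · obtain ⟨b, hb⟩ := h0 (n + 1)
      refine IsLeast.isGLB ⟨⟨max 1 (b - p).toNat, ?_⟩, ?_⟩
      · exact ZSub_eq_ZTop_of_mono K _ (le_max_left _ _) p n
          (mono_homologyMap_of_isZero K _ _ (hb _ (by omega)))
      · rintro _ ⟨r, rfl⟩
        exact ZTop_le_ZSub K r p n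
    · obtain ⟨a, ha⟩ := h1 n
      refine IsGreatest.isLUB ⟨⟨max 1 (p + 1 - a).toNat, ?_⟩, ?_⟩
      · have := ha (p - ((max 1 (p + 1 - a).toNat : ℕ) : ℤ) + 1) (by omega)
        exact BSub_eq_BBot_of_mono K _ (le_max_left _ _) p n inferInstance
      · rintro _ ⟨r, rfl⟩
        exact BSub_le_BBot K r p n
  · intro n
    exact ⟨isSeparated_of_discrete _ (hfin n).2, isExhaustive_of_codiscrete _ (hfin n).1⟩
  · intro n
    exact isComplete_of_discrete _ (hfin n).2

end Groth.Agent.S6794
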