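import Groth.Statements.S6796
-- import your own Groth.Agent.* helpers here
import Mathlib.CategoryTheory.Idempotents.Basic
import Mathlib.CategoryTheory.Limits.Shapes.Kernels
import Mathlib.CategoryTheory.Limits.Shapes.Countable
import Mathlib.CategoryTheory.Preadditive.Basic

set_option autoImplicit false
open CategoryTheory CategoryTheory.Limits
universe v u
open CategoryTheory CategoryTheory.Preadditive

namespace Groth.Agent.S6796

/-- A preadditive category with countable coproducts in which split monomorphisms have cokernels is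
idempotent complete (Karoubian). -/
theorem result {D : Type u} [Category.{v} D] [Preadditive D] [HasCountableCoproducts D] (hk : ∀ ⦃X Y : D⦄ (f : X ⟶ Y), IsSplitMono f → HasCokernel f) : IsIdempotentComplete D := by
  refine ⟨fun X e he => ?_⟩
  let F : ℕ → D := fun _ => X
  let S : D := ∐ F
  let ι : ∀ n, X ⟶ S := fun n => Sigma.ι F n
  let u : S ⟶ S := Sigma.desc (fun n => ι n - e ≫ ι (n + 1))
  have hιu : ∀ n, ι n ≫ u = ι n - e ≫ ι (n + 1) := fun n => Sigma.ι_desc _ _
  -- the retraction of `u`
  let rn : ℕ → (X ⟶ S) := fun n => (𝟙 _ - e) ≫ ι n - ∑ k ∈ Finset.range n, e ≫ ι k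
  let r : S ⟶ S := Sigma.desc rn
  have hr : ∀ n, ι n ≫ r = rn n := fun n => Sigma.ι_desc _ _
  have hur : u ≫ r = 𝟙 S := by
    apply Sigma.hom_ext
    intro n
    change ι n ≫ u ≫ r = ι n ≫ 𝟙 S
    rw [← Category.assoc, hιu, Preadditive.sub_comp, Category.assoc, hr, hr, Category.comp_id]
    simp only [rn, Preadditive.comp_sub, Preadditive.sub_comp, Category.id_comp,
      Preadditive.comp_add, Preadditive.comp_sum, Finset.sum_range_succ]
    simp only [← Category.assoc, he]
    abel
  haveI : HasCokernel u := hk u (IsSplitMono.mk' ⟨r, hur⟩)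
  let Y : D := cokernel u
  let v : S ⟶ Y := cokernel.π u
  have huv : u ≫ v = 0 := cokernel.condition u
  let a : S ⟶ X := Sigma.desc (fun _ => e)
  have hιa : ∀ n, ι n ≫ a = e := fun n => Sigma.ι_desc _ _
  have hua : u ≫ a = 0 := by
    apply Sigma.hom_ext
    intro n
    change ι n ≫ u ≫ a = ι n ≫ 0
    rw [← Category.assoc, hιu, Preadditive.sub_comp, Category.assoc, hιa, hιa, he, sub_self,
      comp_zero]
  let i : Y ⟶ X := cokernel.desc u a hua
  have hi : a = v ≫ i := (cokernel.π_desc u a hua).symm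
  have h1 : ∀ n, ι n ≫ v = e ≫ ι (n + 1) ≫ v := by
    intro n
    have := congrArg (fun z => ι n ≫ z) huv
    simp only [comp_zero] at this
    rw [← Category.assoc, hιu, Preadditive.sub_comp, Category.assoc] at this
    exact sub_eq_zero.mp this
  have h2 : ∀ n, e ≫ ι n ≫ v = ι n ≫ v := by
    intro n
    rw [h1 n, ← Category.assoc e e, he]
  have h3 : ∀ n, ι n ≫ v = ι 0 ≫ v := by
    intro n
    induction n with
    | zero => rfl
    | succ n ih => rw [← ih, h1 n, h2 (n + 1)]
  refine ⟨Y, i, ι 0 ≫ v, ?_, ?_⟩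
  · rw [← cancel_epi v]
    apply Sigma.hom_ext
    intro n
    change ι n ≫ v ≫ i ≫ ι 0 ≫ v = ι n ≫ v ≫ 𝟙 Y
    rw [Category.comp_id, ← Category.assoc v, ← hi, ← Category.assoc (ι n), hιa, h2 0, h3 n]
  · rw [Category.assoc, ← hi, hιa]

end Groth.Agent.S6796
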