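import Groth.Statements.S6795
-- import your own Groth.Agent.* helpers here
import Groth.Agent.S6796
import Mathlib.CategoryTheory.Preadditive.Opposite
import Mathlib.CategoryTheory.Limits.Shapes.Opposites.Kernels
import Mathlib.CategoryTheory.Limits.Shapes.Opposites.Products

set_option autoImplicit false
open CategoryTheory CategoryTheory.Limits
universe v u
open CategoryTheory CategoryTheory.Preadditive

namespace Groth.Agent.S6795

/-- A preadditive category with countable products in which split epimorphisms have kernels is
idempotent complete (Karoubian). -/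
theorem result {D : Type u} [Category.{v} D] [Preadditive D] [HasCountableProducts D] (hk : ∀ ⦃X Y : D⦄ (f : X ⟶ Y), IsSplitEpi f → HasKernel f) : IsIdempotentComplete D := by
  have hcop : HasCountableCoproducts Dᵒᵖ := ⟨fun J _ => by
    haveI : HasProductsOfShape J D := HasCountableProducts.out J
    exact hasCoproductsOfShape_opposite J⟩
  apply Idempotents.isIdempotentComplete_of_isIdempotentComplete_opposite
  apply Groth.Agent.S6796.result (D := Dᵒᵖ)
  intro X Y f hf
  obtain ⟨⟨r, hr⟩⟩ := hf
  have hepi : IsSplitEpi f.unop := IsSplitEpi.mk' ⟨r.unop, by rw [← unop_comp, hr]; rfl⟩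
  haveI : HasKernel f.unop := hk f.unop hepi
  have hlim := KernelFork.IsLimit.ofιOp (kernel.ι f.unop) (kernel.condition f.unop)
    (kernelIsKernel f.unop)
  exact ⟨⟨⟨_, hlim⟩⟩⟩

end Groth.Agent.S6795
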