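import Groth.Statements.S6801
-- import your own Groth.Agent.* helpers here

set_option autoImplicit false
open CategoryTheory
universe v u
open SpSeq SpSeq.FilObj

namespace Groth.Agent.S6801

open CategoryTheory.Limits in
lemma image_comp_mono {A : Type u} [Category.{v} A] [Abelian A] {X Y Z : A} (h : X ⟶ Y) (g : Y ⟶ Z)
    [Mono g] : imageSubobject (h ≫ g) = (Subobject.map g).obj (imageSubobject h) := by
  unfold imageSubobject
  rw [Subobject.map_mk]
  symm
  refine Subobject.mk_eq_mk_of_comm _ _
    (image.isoStrongEpiMono (factorThruImage h) (image.ι h ≫ g) (by simp)) ?_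
  simp

/-- The composite of two strict morphisms of filtered objects is strict when the second one is a
monomorphism. (In general a composite of strict morphisms is not strict.) -/
theorem result {A : Type u} [Category.{v} A] [Abelian A] {K L M : SpSeq.FilObj A} (f : K ⟶ L) (g : L ⟶ M) (hf : SpSeq.FilObj.IsStrict f) (hg : SpSeq.FilObj.IsStrict g) [Mono g.hom] : SpSeq.FilObj.IsStrict (f ≫ g) := by
  intro p
  have hfp := hf p
  have hgp := hg p
  change Limits.imageSubobject ((K.fil p).arrow ≫ f.hom ≫ g.hom) =
    Limits.imageSubobject (f.hom ≫ g.hom) ⊓ M.fil p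
  have e1 : Limits.imageSubobject ((K.fil p).arrow ≫ f.hom ≫ g.hom) =
      Limits.imageSubobject (((K.fil p).arrow ≫ f.hom) ≫ g.hom) := by
    congr 1
    rw [Category.assoc]
  rw [e1, image_comp_mono, hfp, image_comp_mono f.hom g.hom]
  rw [image_comp_mono] at hgp
  have hg1 : Limits.imageSubobject g.hom = (Subobject.map g.hom).obj ⊤ := by
    have := image_comp_mono (𝟙 _) g.hom
    rw [Category.id_comp] at this
    rw [this]
    congr 1
    rw [Limits.imageSubobject_mono, Subobject.top_eq_id]
  rw [Subobject.inf_map]
  have hle : (Subobject.map g.hom).obj (Limits.imageSubobject f.hom) ≤ Limits.imageSubobject g.hom := by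
    rw [hg1]
    exact ((Subobject.map g.hom).map (homOfLE le_top)).le
  have : (Subobject.map g.hom).obj (L.fil p) = Limits.imageSubobject g.hom ⊓ M.fil p := by
    rw [← hgp]
    congr 1
    rw [Limits.imageSubobject_mono, Subobject.mk_arrow]
  rw [this, ← inf_assoc, inf_eq_left.mpr hle]

end Groth.Agent.S6801
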