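import Groth.Statements.S6802
import Mathlib
-- import your own Groth.Agent.* helpers here

set_option autoImplicit false
open CategoryTheory
universe v u
open SpSeq SpSeq.FilObj

namespace Groth.Agent.S6802

open CategoryTheory.Limits

theorem imageSubobject_epi_comp {A : Type u} [Category.{v} A] [Abelian A] {X' X Y : A}
    (h : X' ⟶ X) [Epi h] (f : X ⟶ Y) : imageSubobject (h ≫ f) = imageSubobject f := by
  apply le_antisymm (imageSubobject_comp_le h f)
  have : IsIso (Subobject.ofLE _ _ (imageSubobject_comp_le h f)) :=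
    isIso_of_mono_of_epi _
  exact Subobject.le_of_comm (inv (Subobject.ofLE _ _ (imageSubobject_comp_le h f)))
    (by rw [IsIso.inv_comp_eq, Subobject.ofLE_arrow])

theorem imageSubobject_eq_top_of_epi {A : Type u} [Category.{v} A] [Abelian A] {X Y : A}
    (f : X ⟶ Y) [Epi f] : imageSubobject f = ⊤ := by
  have h := imageSubobject_epi_comp f (𝟙 Y)
  rw [Category.comp_id] at h
  rw [h, imageSubobject_mono, Subobject.mk_eq_top_of_isIso]

theorem image_arrow_comp {A : Type u} [Category.{v} A] [Abelian A] {X Y Z : A}
    (u : X ⟶ Y) (g : Y ⟶ Z) (S : Subobject Y) (hS : imageSubobject u = S) :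
    imageSubobject (u ≫ g) = imageSubobject (S.arrow ≫ g) := by
  subst hS
  conv_lhs => rw [← imageSubobject_arrow_comp u, Category.assoc]
  exact imageSubobject_epi_comp _ _

/-- The composite of two strict morphisms of filtered objects is strict when the first one is an
epimorphism. -/
theorem result {A : Type u} [Category.{v} A] [Abelian A] {K L M : SpSeq.FilObj A} (f : K ⟶ L) (g : L ⟶ M) (hf : SpSeq.FilObj.IsStrict f) (hg : SpSeq.FilObj.IsStrict g) [Epi f.hom] : SpSeq.FilObj.IsStrict (f ≫ g) := by
  intro p
  have h1 : imageSubobject ((K.fil p).arrow ≫ f.hom) = L.fil p := by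
    rw [hf p, imageSubobject_eq_top_of_epi, top_inf_eq]
  change imageSubobject ((K.fil p).arrow ≫ f.hom ≫ g.hom) = imageSubobject (f.hom ≫ g.hom) ⊓ M.fil p
  rw [imageSubobject_epi_comp f.hom g.hom, ← Category.assoc,
    image_arrow_comp _ g.hom _ h1, hg p]

end Groth.Agent.S6802
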