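import Groth.Statements.S6803
import Mathlib
import Groth.Agent.Lib.Helper14.GenElem

set_option autoImplicit false
open CategoryTheory CategoryTheory.Limits
universe v u
open SpSeq SpSeq.FilObj

namespace Groth.Agent.S6803

open Groth.Agent.Lib.Helper14 Groth.Agent.Lib.Helper14.GenElem

section

variable {A : Type u} [Category.{v} A] [Abelian A]

lemma comp_hom {K L M : FilObj A} (f : K ⟶ L) (g : L ⟶ M) : (f ≫ g).hom = f.hom ≫ g.hom := rfl

/-- a filtered morphism maps generalized elements of `F p` into `F p` -/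
lemma factors_map {K L : FilObj A} (f : K ⟶ L) (p : ℤ) {T : A} (y : T ⟶ K.obj)
    (hy : (K.fil p).Factors y) : (L.fil p).Factors (y ≫ f.hom) :=
  (GenElem.pullback_factors_iff f.hom (L.fil p) y).1 (Subobject.factors_of_le y (f.compat p) hy)

lemma image_fil_anti (N : FilObj A) {Y : A} (h : N.obj ⟶ Y) {p q : ℤ} (hpq : p ≤ q) :
    imageSubobject ((N.fil q).arrow ≫ h) ≤ imageSubobject ((N.fil p).arrow ≫ h) := by
  have h1 : (N.fil q).arrow = Subobject.ofLE _ _ (N.anti hpq) ≫ (N.fil p).arrow :=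
    (Subobject.ofLE_arrow _).symm
  rw [h1, Category.assoc]
  exact imageSubobject_comp_le _ _

variable {K L M : FilObj A} (f : K ⟶ L) (g : K ⟶ M)

/-- the pushout filtered object -/
noncomputable abbrev po : FilObj A where
  obj := pushout f.hom g.hom
  fil p := imageSubobject ((L.fil p).arrow ≫ pushout.inl f.hom g.hom) ⊔
    imageSubobject ((M.fil p).arrow ≫ pushout.inr f.hom g.hom)
  anti := fun _ _ h => sup_le_sup (image_fil_anti L _ h) (image_fil_anti M _ h)

lemma image_fil_factors_iff (N : FilObj A) {Y : A} (h : N.obj ⟶ Y) (p : ℤ) {T : A} (y : T ⟶ Y) :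
    (imageSubobject ((N.fil p).arrow ≫ h)).Factors y ↔
      ∃ (T' : A) (π : T' ⟶ T) (_ : Epi π) (l : T' ⟶ N.obj), (N.fil p).Factors l ∧
        π ≫ y = l ≫ h := by
  rw [image_factors_iff]
  constructor
  · rintro ⟨T', π, hπ, x, hx⟩
    exact ⟨T', π, hπ, x ≫ (N.fil p).arrow, Subobject.factors_comp_arrow _, by
      rw [hx, Category.assoc]⟩
  · rintro ⟨T', π, hπ, l, hl, hx⟩
    refine ⟨T', π, hπ, (N.fil p).factorThru l hl, ?_⟩
    rw [← Category.assoc, Subobject.factorThru_arrow, hx]

lemma po_factors_iff (p : ℤ) {T : A} (y : T ⟶ pushout f.hom g.hom) :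
    ((po f g).fil p).Factors y ↔
      ∃ (T' : A) (π : T' ⟶ T) (_ : Epi π) (l : T' ⟶ L.obj) (m : T' ⟶ M.obj),
        (L.fil p).Factors l ∧ (M.fil p).Factors m ∧
          π ≫ y = l ≫ pushout.inl f.hom g.hom + m ≫ pushout.inr f.hom g.hom := by
  change (_ ⊔ _ : Subobject (pushout f.hom g.hom)).Factors y ↔ _
  rw [sup_factors_iff]
  constructor
  · rintro ⟨T', π, hπ, a, b, ha, hb, hab⟩
    obtain ⟨T₁, π₁, hπ₁, l, hl, hla⟩ := (image_fil_factors_iff L _ p a).1 ha
    obtain ⟨T₂, π₂, hπ₂, m, hm, hmb⟩ := (image_fil_factors_iff M _ p b).1 hb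
    have : Epi ((pullback.fst π₁ π₂ ≫ π₁) ≫ π) := epi_comp _ _
    refine ⟨pullback π₁ π₂, (pullback.fst π₁ π₂ ≫ π₁) ≫ π, inferInstance,
      pullback.fst π₁ π₂ ≫ l, pullback.snd π₁ π₂ ≫ m,
      Subobject.factors_of_factors_right _ hl, Subobject.factors_of_factors_right _ hm, ?_⟩
    rw [Category.assoc, hab, Preadditive.comp_add, Category.assoc, hla, Category.assoc]
    congr 1
    · rw [Category.assoc]
    · rw [← Category.assoc, pullback.condition, Category.assoc, hmb, Category.assoc]
  · rintro ⟨T', π, hπ, l, m, hl, hm, h⟩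
    refine ⟨T', π, hπ, l ≫ pushout.inl f.hom g.hom, m ≫ pushout.inr f.hom g.hom, ?_, ?_, h⟩
    · exact (image_fil_factors_iff L _ p _).2 ⟨T', 𝟙 _, inferInstance, l, hl, Category.id_comp _⟩
    · exact (image_fil_factors_iff M _ p _).2 ⟨T', 𝟙 _, inferInstance, m, hm, Category.id_comp _⟩

/-- first inclusion -/
noncomputable abbrev poInl : L ⟶ po f g := ⟨pushout.inl f.hom g.hom, fun p => by
  rw [le_iff_forall_factors]
  intro T y hy
  rw [GenElem.pullback_factors_iff]
  exact Subobject.factors_of_le _ le_sup_left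
    ((image_fil_factors_iff L _ p _).2 ⟨T, 𝟙 _, inferInstance, y, hy, Category.id_comp _⟩)⟩

/-- second inclusion -/
noncomputable abbrev poInr : M ⟶ po f g := ⟨pushout.inr f.hom g.hom, fun p => by
  rw [le_iff_forall_factors]
  intro T y hy
  rw [GenElem.pullback_factors_iff]
  exact Subobject.factors_of_le _ le_sup_right
    ((image_fil_factors_iff M _ p _).2 ⟨T, 𝟙 _, inferInstance, y, hy, Category.id_comp _⟩)⟩

lemma po_condition : f ≫ poInl f g = g ≫ poInr f g :=
  FilObj.Hom.ext pushout.condition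

/-- the descent map -/
noncomputable def poDesc (s : PushoutCocone f g) : po f g ⟶ s.pt :=
  ⟨pushout.desc s.inl.hom s.inr.hom (congrArg FilObj.Hom.hom s.condition), fun p => by
    rw [le_iff_forall_factors]
    intro T y hy
    rw [GenElem.pullback_factors_iff]
    obtain ⟨T', π, hπ, l, m, hl, hm, h⟩ := (po_factors_iff f g p y).1 hy
    apply factors_of_epi_comp _ π
    rw [← Category.assoc, h, Preadditive.add_comp, Category.assoc, Category.assoc,
      pushout.inl_desc, pushout.inr_desc]
    exact Subobject.factors_add _ _ (factors_map s.inl p l hl) (factors_map s.inr p m hm)⟩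

/-- the pushout cocone is a colimit -/
noncomputable def poIsColimit :
    IsColimit (PushoutCocone.mk (poInl f g) (poInr f g) (po_condition f g)) :=
  PushoutCocone.IsColimit.mk _ (fun s => poDesc f g s)
    (fun s => FilObj.Hom.ext (pushout.inl_desc _ _ _))
    (fun s => FilObj.Hom.ext (pushout.inr_desc _ _ _))
    (fun s m h₁ h₂ => FilObj.Hom.ext (by
      apply pushout.hom_ext
      · exact (congrArg FilObj.Hom.hom h₁).trans (pushout.inl_desc _ _ _).symm
      · exact (congrArg FilObj.Hom.hom h₂).trans (pushout.inr_desc _ _ _).symm))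

/-- the pushout lemma : if `a ≫ inl = b ≫ inr` then, after refinement, `a` comes from `K` -/
lemma pushout_refine {X Y Z : A} (u : X ⟶ Y) (w : X ⟶ Z) {T : A} (a : T ⟶ Y) (b : T ⟶ Z)
    (h : a ≫ pushout.inl u w = b ≫ pushout.inr u w) :
    ∃ (T' : A) (σ : T' ⟶ T) (_ : Epi σ) (k : T' ⟶ X), σ ≫ a = k ≫ u := by
  let S : ShortComplex A := ShortComplex.mk (biprod.lift u (-w))
    (Abelian.BiproductToPushoutIsCokernel.biproductToPushout u w) (by
      rw [biprod.lift_desc, Preadditive.neg_comp, pushout.condition, add_neg_cancel])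
  have hS : S.Exact := ShortComplex.exact_of_g_is_cokernel S
    (Abelian.BiproductToPushoutIsCokernel.isColimitBiproductToPushout u w)
  obtain ⟨T', σ, hσ, k, hk⟩ := hS.exact_up_to_refinements (biprod.lift a (-b)) (by
    change biprod.lift a (-b) ≫ biprod.desc _ _ = 0
    rw [biprod.lift_desc, Preadditive.neg_comp, h, add_neg_cancel])
  refine ⟨T', σ, hσ, k, ?_⟩
  have : (σ ≫ biprod.lift a (-b)) ≫ biprod.fst = (k ≫ biprod.lift u (-w)) ≫ biprod.fst :=
    congrArg (fun t => t ≫ biprod.fst) hk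
  simpa using this

lemma poInr_strict (hf : IsStrict f) : IsStrict (poInr f g) := by
  intro p
  change imageSubobject ((M.fil p).arrow ≫ pushout.inr f.hom g.hom) =
    imageSubobject (pushout.inr f.hom g.hom) ⊓ (po f g).fil p
  rw [eq_iff_forall_factors]
  intro T y
  rw [Subobject.inf_factors]
  constructor
  · intro hy
    obtain ⟨T', π, hπ, m, hm, hx⟩ := (image_fil_factors_iff M _ p y).1 hy
    constructor
    · exact (image_factors_iff _ y).2 ⟨T', π, hπ, m, hx⟩
    · refine (po_factors_iff f g p y).2 ⟨T', π, hπ, 0, m, Subobject.factors_zero, hm, ?_⟩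
      rw [hx, zero_comp, zero_add]
  · rintro ⟨hy₁, hy₂⟩
    obtain ⟨T₁, π₁, hπ₁, m₀, hm₀⟩ := (image_factors_iff _ y).1 hy₁
    obtain ⟨T₂, π₂, hπ₂, l, m, hl, hm, hlm⟩ := (po_factors_iff f g p y).1 hy₂
    have hab : (pullback.snd π₁ π₂ ≫ l) ≫ pushout.inl f.hom g.hom =
        (pullback.fst π₁ π₂ ≫ m₀ - pullback.snd π₁ π₂ ≫ m) ≫ pushout.inr f.hom g.hom := by
      have e1 : pullback.fst π₁ π₂ ≫ m₀ ≫ pushout.inr f.hom g.hom =
          pullback.snd π₁ π₂ ≫ (l ≫ pushout.inl f.hom g.hom + m ≫ pushout.inr f.hom g.hom) := by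
        rw [← hm₀, ← hlm, ← Category.assoc, pullback.condition, Category.assoc]
      rw [Preadditive.sub_comp, Category.assoc, Category.assoc, Category.assoc, e1,
        Preadditive.comp_add, add_sub_cancel_right]
    obtain ⟨Q, σ, hσ, k, hk⟩ := pushout_refine f.hom g.hom _ _ hab
    have h1 : (imageSubobject f.hom ⊓ L.fil p).Factors (σ ≫ pullback.snd π₁ π₂ ≫ l) := by
      rw [Subobject.inf_factors]
      constructor
      · exact (image_factors_iff _ _).2 ⟨Q, 𝟙 _, inferInstance, k, by rw [Category.id_comp, hk]⟩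
      · exact Subobject.factors_of_factors_right _ (Subobject.factors_of_factors_right _ hl)
    rw [← hf p] at h1
    obtain ⟨R, τ, hτ, k', hk', hkk⟩ := (image_fil_factors_iff K _ p _).1 h1
    have e1 : Epi (pullback.snd π₁ π₂ ≫ π₂) := epi_comp _ _
    have e2 : Epi (σ ≫ pullback.snd π₁ π₂ ≫ π₂) := epi_comp _ _
    have e3 : Epi (τ ≫ σ ≫ pullback.snd π₁ π₂ ≫ π₂) := epi_comp _ _
    refine (image_fil_factors_iff M _ p y).2 ⟨R, τ ≫ σ ≫ pullback.snd π₁ π₂ ≫ π₂, e3,
      k' ≫ g.hom + (τ ≫ σ ≫ pullback.snd π₁ π₂) ≫ m,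
      Subobject.factors_add _ _ (factors_map g p k' hk')
        (Subobject.factors_of_factors_right _ hm), ?_⟩
    rw [Preadditive.add_comp, Category.assoc k', ← pushout.condition, ← Category.assoc k',
      ← hkk]
    simp only [Category.assoc]
    rw [hlm, Preadditive.comp_add, Preadditive.comp_add, Preadditive.comp_add]

/-- postcomposition with an isomorphism preserves strictness -/
lemma strict_comp_iso {P P' : FilObj A} (h : M ⟶ P) (e : P ≅ P') (hh : IsStrict h) :
    IsStrict (h ≫ e.hom) := by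
  have h1 : e.hom.hom ≫ e.inv.hom = 𝟙 _ := congrArg FilObj.Hom.hom e.hom_inv_id
  have h2 : e.inv.hom ≫ e.hom.hom = 𝟙 _ := congrArg FilObj.Hom.hom e.inv_hom_id
  intro p
  rw [eq_iff_forall_factors]
  intro T y
  have key : ∀ {X : A} (s : X ⟶ M.obj),
      (imageSubobject (s ≫ (h ≫ e.hom).hom)).Factors y ↔
        (imageSubobject (s ≫ h.hom)).Factors (y ≫ e.inv.hom) := by
    intro X s
    rw [image_factors_iff, image_factors_iff]
    constructor
    · rintro ⟨T', π, hπ, x, hx⟩
      refine ⟨T', π, hπ, x, ?_⟩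
      rw [← Category.assoc, hx, comp_hom]
      simp only [Category.assoc]
      rw [h1, Category.comp_id]
    · rintro ⟨T', π, hπ, x, hx⟩
      refine ⟨T', π, hπ, x, ?_⟩
      rw [comp_hom, ← Category.assoc s, ← Category.assoc x, ← hx]
      simp only [Category.assoc]
      rw [h2, Category.comp_id]
  have key2 : (P'.fil p).Factors y ↔ (P.fil p).Factors (y ≫ e.inv.hom) := by
    constructor
    · exact factors_map e.inv p y
    · intro hy
      have := factors_map e.hom p _ hy
      rwa [Category.assoc, h2, Category.comp_id] at this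
  have key3 := key (𝟙 M.obj)
  rw [Category.id_comp, Category.id_comp] at key3
  rw [Subobject.inf_factors, key, hh p, Subobject.inf_factors, key3, key2]

end


/-- Pushouts exist in the category of filtered objects of an abelian category, and the pushout of a
strict morphism is strict. -/
theorem result {A : Type u} [Category.{v} A] [Abelian A] {K L M : SpSeq.FilObj A} (f : K ⟶ L) (g : K ⟶ M) : HasPushout f g ∧ ∀ (P : SpSeq.FilObj A) (g' : L ⟶ P) (f' : M ⟶ P), IsPushout f g g' f' → SpSeq.FilObj.IsStrict f → SpSeq.FilObj.IsStrict f' := by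
  refine ⟨⟨⟨⟨_, poIsColimit f g⟩⟩⟩, ?_⟩
  intro P g' f' sq hf
  let e : po f g ≅ P := (poIsColimit f g).coconePointUniqueUpToIso sq.isColimit
  have he : poInr f g ≫ e.hom = f' :=
    (poIsColimit f g).comp_coconePointUniqueUpToIso_hom sq.isColimit WalkingSpan.right
  rw [← he]
  exact strict_comp_iso (poInr f g) e (poInr_strict f g hf)

end Groth.Agent.S6803
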