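import Groth.Statements.S6804
import Mathlib
import Groth.Agent.Lib.Helper14.GenElem

set_option autoImplicit false
open CategoryTheory CategoryTheory.Limits
universe v u
open SpSeq SpSeq.FilObj

namespace Groth.Agent.S6804

open Groth.Agent.Lib.Helper14 Groth.Agent.Lib.Helper14.GenElem

section

variable {A : Type u} [Category.{v} A] [Abelian A]

lemma comp_hom {K L M : FilObj A} (f : K ⟶ L) (g : L ⟶ M) : (f ≫ g).hom = f.hom ≫ g.hom := rfl

lemma id_hom (K : FilObj A) : (𝟙 K : K ⟶ K).hom = 𝟙 K.obj := rfl

/-- a filtered morphism maps generalized elements of `F p` into `F p` -/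
lemma factors_map {K L : FilObj A} (f : K ⟶ L) (p : ℤ) {T : A} (y : T ⟶ K.obj)
    (hy : (K.fil p).Factors y) : (L.fil p).Factors (y ≫ f.hom) :=
  (GenElem.pullback_factors_iff f.hom (L.fil p) y).1 (Subobject.factors_of_le y (f.compat p) hy)

variable {K L M : FilObj A} (f : L ⟶ K) (g : M ⟶ K)

/-- the pullback filtered object -/
noncomputable abbrev pb : FilObj A where
  obj := pullback f.hom g.hom
  fil p := (Subobject.pullback (pullback.fst f.hom g.hom)).obj (L.fil p) ⊓
    (Subobject.pullback (pullback.snd f.hom g.hom)).obj (M.fil p)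
  anti := fun _ _ h => inf_le_inf ((Subobject.pullback _).monotone (L.anti h))
    ((Subobject.pullback _).monotone (M.anti h))

lemma pb_factors_iff (p : ℤ) {T : A} (y : T ⟶ pullback f.hom g.hom) :
    ((pb f g).fil p).Factors y ↔
      (L.fil p).Factors (y ≫ pullback.fst f.hom g.hom) ∧
        (M.fil p).Factors (y ≫ pullback.snd f.hom g.hom) := by
  change (_ ⊓ _ : Subobject (pullback f.hom g.hom)).Factors y ↔ _
  rw [Subobject.inf_factors, GenElem.pullback_factors_iff, GenElem.pullback_factors_iff]

/-- first projection -/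
noncomputable abbrev pbFst : pb f g ⟶ L := ⟨pullback.fst f.hom g.hom, fun _ => inf_le_left⟩

/-- second projection -/
noncomputable abbrev pbSnd : pb f g ⟶ M := ⟨pullback.snd f.hom g.hom, fun _ => inf_le_right⟩

lemma pb_condition : pbFst f g ≫ f = pbSnd f g ≫ g :=
  FilObj.Hom.ext pullback.condition

/-- the lift -/
noncomputable def pbLift (s : PullbackCone f g) : s.pt ⟶ pb f g :=
  ⟨pullback.lift s.fst.hom s.snd.hom (congrArg FilObj.Hom.hom s.condition), fun p => by
    rw [le_iff_forall_factors]
    intro T y hy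
    rw [GenElem.pullback_factors_iff, pb_factors_iff, Category.assoc, Category.assoc,
      pullback.lift_fst, pullback.lift_snd]
    exact ⟨factors_map s.fst p y hy, factors_map s.snd p y hy⟩⟩

/-- the pullback cone is a limit -/
noncomputable def pbIsLimit : IsLimit (PullbackCone.mk (pbFst f g) (pbSnd f g) (pb_condition f g)) :=
  PullbackCone.IsLimit.mk _ (fun s => pbLift f g s)
    (fun s => FilObj.Hom.ext (pullback.lift_fst _ _ _))
    (fun s => FilObj.Hom.ext (pullback.lift_snd _ _ _))
    (fun s m h₁ h₂ => FilObj.Hom.ext (by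
      apply pullback.hom_ext
      · exact (congrArg FilObj.Hom.hom h₁).trans (pullback.lift_fst _ _ _).symm
      · exact (congrArg FilObj.Hom.hom h₂).trans (pullback.lift_snd _ _ _).symm))

lemma pbSnd_strict (hf : IsStrict f) : IsStrict (pbSnd f g) := by
  intro p
  change imageSubobject (((pb f g).fil p).arrow ≫ pullback.snd f.hom g.hom) =
    imageSubobject (pullback.snd f.hom g.hom) ⊓ M.fil p
  rw [eq_iff_forall_factors]
  intro T y
  rw [Subobject.inf_factors]
  constructor
  · intro hy
    obtain ⟨T', π, hπ, x, hx⟩ := (image_factors_iff _ y).1 hy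
    constructor
    · exact (image_factors_iff _ y).2 ⟨T', π, hπ, x ≫ ((pb f g).fil p).arrow,
        by rw [hx, Category.assoc]⟩
    · apply factors_of_epi_comp _ π
      rw [hx]
      have h1 : ((pb f g).fil p).Factors (x ≫ ((pb f g).fil p).arrow) :=
        Subobject.factors_comp_arrow _
      have := ((pb_factors_iff f g p _).1 h1).2
      rw [Category.assoc] at this
      exact this
  · rintro ⟨hy₁, hy₂⟩
    obtain ⟨T', π, hπ, x, hx⟩ := (image_factors_iff _ y).1 hy₁
    -- the element `π ≫ y ≫ g` of `K` lies in `im f ⊓ F^p K`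
    have h1 : (imageSubobject f.hom ⊓ K.fil p).Factors (π ≫ y ≫ g.hom) := by
      rw [Subobject.inf_factors]
      constructor
      · refine (image_factors_iff _ _).2 ⟨T', 𝟙 _, inferInstance, x ≫ pullback.fst f.hom g.hom, ?_⟩
        rw [Category.id_comp, ← Category.assoc, hx, Category.assoc, Category.assoc,
          pullback.condition]
      · rw [← Category.assoc]
        exact factors_map g p _ (Subobject.factors_of_factors_right π hy₂)
    rw [← hf p] at h1
    obtain ⟨T'', π', hπ', l, hl⟩ := (image_factors_iff _ _).1 h1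
    -- the lift to the pullback
    let z : T'' ⟶ pullback f.hom g.hom :=
      pullback.lift (l ≫ (L.fil p).arrow) (π' ≫ π ≫ y) (by
        rw [Category.assoc, ← hl, Category.assoc, Category.assoc])
    have hz : ((pb f g).fil p).Factors z := by
      rw [pb_factors_iff, pullback.lift_fst, pullback.lift_snd]
      exact ⟨Subobject.factors_comp_arrow _,
        Subobject.factors_of_factors_right _ (Subobject.factors_of_factors_right _ hy₂)⟩
    have : Epi (π' ≫ π) := epi_comp _ _
    refine (image_factors_iff _ y).2 ⟨T'', π' ≫ π, inferInstance,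
      ((pb f g).fil p).factorThru z hz, ?_⟩
    rw [← Category.assoc (((pb f g).fil p).factorThru z hz), Subobject.factorThru_arrow,
      pullback.lift_snd, Category.assoc]

/-- precomposition with an isomorphism preserves strictness -/
lemma strict_iso_comp {P P' : FilObj A} (e : P ≅ P') (h : P' ⟶ M) (hh : IsStrict h) :
    IsStrict (e.hom ≫ h) := by
  have h1 : e.hom.hom ≫ e.inv.hom = 𝟙 _ := congrArg FilObj.Hom.hom e.hom_inv_id
  have h2 : e.inv.hom ≫ e.hom.hom = 𝟙 _ := congrArg FilObj.Hom.hom e.inv_hom_id
  have : IsIso e.hom.hom := ⟨e.inv.hom, h1, h2⟩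
  intro p
  have himg : imageSubobject (e.hom ≫ h).hom = imageSubobject h.hom :=
    imageSubobject_iso_comp e.hom.hom h.hom
  rw [himg, ← hh p, eq_iff_forall_factors]
  intro T y
  rw [image_factors_iff, image_factors_iff]
  constructor
  · rintro ⟨T', π, hπ, x, hx⟩
    have hx' : (P'.fil p).Factors ((x ≫ (P.fil p).arrow) ≫ e.hom.hom) :=
      factors_map e.hom p _ (Subobject.factors_comp_arrow _)
    refine ⟨T', π, hπ, (P'.fil p).factorThru _ hx', ?_⟩
    rw [← Category.assoc ((P'.fil p).factorThru _ hx'), Subobject.factorThru_arrow, hx]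
    simp only [comp_hom, Category.assoc]
  · rintro ⟨T', π, hπ, x, hx⟩
    have hx' : (P.fil p).Factors ((x ≫ (P'.fil p).arrow) ≫ e.inv.hom) :=
      factors_map e.inv p _ (Subobject.factors_comp_arrow _)
    refine ⟨T', π, hπ, (P.fil p).factorThru _ hx', ?_⟩
    rw [← Category.assoc ((P.fil p).factorThru _ hx'), Subobject.factorThru_arrow, hx, comp_hom]
    simp only [Category.assoc]
    rw [← Category.assoc e.inv.hom, h2, Category.id_comp]

end


/-- Fibre products exist in the category of filtered objects of an abelian category, and the base change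
of a strict morphism is strict. -/
theorem result {A : Type u} [Category.{v} A] [Abelian A] {K L M : SpSeq.FilObj A} (f : L ⟶ K) (g : M ⟶ K) : HasPullback f g ∧ ∀ (P : SpSeq.FilObj A) (g' : P ⟶ L) (f' : P ⟶ M), IsPullback g' f' f g → SpSeq.FilObj.IsStrict f → SpSeq.FilObj.IsStrict f' := by
  refine ⟨⟨⟨⟨_, pbIsLimit f g⟩⟩⟩, ?_⟩
  intro P g' f' sq hf
  let e : P ≅ pb f g := sq.isLimit.conePointUniqueUpToIso (pbIsLimit f g)
  have he : e.hom ≫ pbSnd f g = f' :=
    sq.isLimit.conePointUniqueUpToIso_hom_comp (pbIsLimit f g) WalkingCospan.right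
  rw [← he]
  exact strict_iso_comp e (pbSnd f g) (pbSnd_strict f g hf)

end Groth.Agent.S6804
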