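import Groth.Statements.S6831
import Groth.Agent.Lib.Helper1.StalkEpi
import Mathlib.Topology.Sheaves.Points

set_option autoImplicit false
universe u
open CategoryTheory CategoryTheory.Limits TopologicalSpace
open ModSite

namespace Groth.Agent.S6831

/-- Let (X, O) be a ringed space, φ : G → F a map of O-modules with F of finite type, and x a point such
that the map of stalks φ_x : G_x → F_x is surjective (stalks are taken at the point of the site of
opens of X given by x). Then φ|_U is surjective for some open neighbourhood U of x. -/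
theorem result {X : TopCat.{u}} (O : TopCat.Sheaf CommRingCat.{u} X)
    {G F : ModSite.Mod O} (φ : G ⟶ F) [SheafOfModules.IsFiniteType (R := ModSite.ringSh O) F] (x : X)
    (hx : Function.Surjective (ModSite.stalkMap (Opens.pointGrothendieckTopology x) φ).hom) :
    ∃ U : Opens X, x ∈ U ∧ Epi ((ModSite.restr O U).map φ) := by
  obtain ⟨σ, hσ⟩ := SheafOfModules.IsFiniteType.exists_localGeneratorsData (R := ModSite.ringSh O) F
  have hcov := σ.coversTop ⊤
  obtain ⟨V, f, hf, hxV⟩ := hcov x (by trivial)
  obtain ⟨i, ⟨hi⟩⟩ := (Sieve.mem_ofObjects_iff ..).mp hf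
  have hxi : x ∈ σ.X i := leOfHom hi hxV
  haveI := hσ.isFiniteType i
  haveI : Finite (σ.generators i).I := inferInstance
  haveI : Fintype (σ.generators i).I := Fintype.ofFinite _
  have hepi₀ : Epi (σ.generators i).π := (σ.generators i).epi
  obtain ⟨W, q, y, -, hepi⟩ := @Groth.Agent.Lib.Helper1.StalkEpi.epi_restr_of_stalk_surj _ _ _
    (Opens.pointGrothendieckTopology x) _ _ _ φ (σ.X i) ⟨⟨hxi⟩⟩ _ _ (σ.generators i).π hepi₀ hx
  exact ⟨W, y.down.down, hepi⟩

end Groth.Agent.S6831
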