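import Groth.Statements.S6842
import Groth.Agent.Lib.Helper1.CoprodSections2

set_option autoImplicit false
universe u
open CategoryTheory CategoryTheory.Limits TopologicalSpace
open ModSite

namespace Groth.Agent.S6842

lemma siteQc_of_isCompact {X : TopCat.{u}} (U : Opens X) (hU : IsCompact (U : Set X)) :
    Groth.Agent.Lib.Helper1.CoprodSections.SiteQc (Opens.grothendieckTopology X) U := by
  intro S hS
  choose V f hf hxV using fun x : {x // x ∈ U} => hS x.1 x.2
  obtain ⟨t, ht⟩ := hU.elim_finite_subcover (fun x => (V x : Set X)) (fun x => (V x).isOpen)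
    (fun x hx => Set.mem_iUnion.2 ⟨⟨x, hx⟩, hxV ⟨x, hx⟩⟩)
  refine ⟨t, inferInstance, fun k => V k.1, fun k => f k.1, fun k => hf k.1, ?_⟩
  intro x hx
  obtain ⟨k, hk⟩ := Set.mem_iUnion.1 (ht hx)
  obtain ⟨hkt, hxk⟩ := Set.mem_iUnion.1 hk
  exact ⟨V k, f k, ⟨_, 𝟙 _, f k, ⟨(⟨k, hkt⟩ : t)⟩, by simp⟩, hxk⟩

/-- Let (X, O) be a ringed space, (F_i)_{i ∈ I} a family of O-modules and U ⊆ X a quasi-compact open.
Then the canonical map ⊕_i F_i(U) → (⊕_i F_i)(U) is bijective: every section of the direct sum over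
U is a finite sum of images of sections of the F_i over U (surjectivity), and such a finite sum
vanishes only if each term's section is zero (injectivity). -/
theorem result {X : TopCat.{u}} (O : TopCat.Sheaf CommRingCat.{u} X)
    {I : Type u} (F : I → ModSite.Mod O) [HasCoproduct F] (U : Opens X) (hU : IsCompact (U : Set X)) :
    (∀ s : ModSite.sect (∐ F) U, ∃ (S : Finset I) (t : ∀ i, ModSite.sect (F i) U),
        s = ∑ i ∈ S, ((Sigma.ι F i).val.app (Opposite.op U)).hom (t i)) ∧
      ∀ (S : Finset I) (t : ∀ i, ModSite.sect (F i) U),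
        ∑ i ∈ S, ((Sigma.ι F i).val.app (Opposite.op U)).hom (t i) = 0 → ∀ i ∈ S, t i = 0 := by
  let c : Cofan F := Cofan.mk (∐ F) (Sigma.ι F)
  have hc : IsColimit c := coproductIsCoproduct F
  refine ⟨fun s => ?_, fun S t h i hi => ?_⟩
  · obtain ⟨T, hT⟩ := Groth.Agent.Lib.Helper1.CoprodSections.exists_finset_sum_proj O hc
      (siteQc_of_isCompact U hU) s
    exact ⟨T, fun i => (Groth.Agent.Lib.Helper1.CoprodSections.proj O hc i).val.app (Opposite.op U) s, hT⟩
  · have h1 := Groth.Agent.Lib.Helper1.CoprodSections.proj_sum_of_mem O hc S t hi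
    rw [← h1]
    have h2 : ∑ i ∈ S, (c.inj i).val.app (Opposite.op U) (t i) = 0 := h
    rw [h2, map_zero]

end Groth.Agent.S6842
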