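import Groth.Statements.S6862
import Mathlib.Algebra.Module.Projective
import Mathlib.RingTheory.Finiteness.Prod
-- import your own Groth.Agent.* helpers here

set_option autoImplicit false
universe u
open CAlg

namespace Groth.Agent.S6862

section aux
variable {R : Type u} [CommRing R] {A B : Type u} [AddCommGroup A] [Module R A]
  [AddCommGroup B] [Module R B]

lemma prod_stablyFree (hA : Module.IsStablyFree R A) (hB : Module.IsStablyFree R B) :
    Module.IsStablyFree R (A × B) := by
  obtain ⟨NA, _, _, _, _, hfa⟩ := Module.IsStablyFree.exist_free_prod R A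
  obtain ⟨NB, _, _, _, _, hfb⟩ := Module.IsStablyFree.exist_free_prod R B
  have : Module.Free R ((A × B) × (NA × NB)) :=
    Module.Free.of_equiv (LinearEquiv.prodProdProdComm R A NA B NB)
  exact Module.IsStablyFree.of_free_prod R (A × B) (NA × NB)

/-- explicit rearrangement -/
def rearr (NA N : Type u) [AddCommGroup NA] [Module R NA] [AddCommGroup N] [Module R N] :
    (((A × B) × N) × NA) ≃ₗ[R] (B × ((A × NA) × N)) where
  toFun y := (y.1.1.2, ((y.1.1.1, y.2), y.1.2))
  invFun x := (((x.2.1.1, x.1), x.2.2), x.2.1.2)
  map_add' _ _ := rfl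
  map_smul' _ _ := rfl
  left_inv _ := rfl
  right_inv _ := rfl

lemma cancel_stablyFree [Module.Finite R A] (hA : Module.IsStablyFree R A)
    (hAB : Module.IsStablyFree R (A × B)) : Module.IsStablyFree R B := by
  obtain ⟨NA, _, _, _, _, hfa⟩ := Module.IsStablyFree.exist_free_prod R A
  obtain ⟨N, _, _, _, _, hfab⟩ := Module.IsStablyFree.exist_free_prod R (A × B)
  have h1 : Module.Free R (((A × B) × N) × NA) := inferInstance
  have h2 : Module.Free R (B × ((A × NA) × N)) := Module.Free.of_equiv (rearr NA N)
  exact Module.IsStablyFree.of_free_prod R B ((A × NA) × N)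

end aux

/-- Let `R` be a commutative ring and `P'`, `P`, `P''` finitely generated projective `R`-modules in an
exact sequence `0 → P' → P → P'' → 0`. Whenever two of the three are stably free, the remaining one
is stably free too (all three cases are stated). -/
theorem result {R : Type u} [CommRing R] {P' P P'' : Type u}
    [AddCommGroup P'] [Module R P'] [Module.Finite R P'] [Module.Projective R P']
    [AddCommGroup P] [Module R P] [Module.Finite R P] [Module.Projective R P]
    [AddCommGroup P''] [Module R P''] [Module.Finite R P''] [Module.Projective R P'']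
    (f : P' →ₗ[R] P) (g : P →ₗ[R] P'') (hf : Function.Injective f) (hg : Function.Surjective g)
    (hfg : Function.Exact f g) :
    (Module.IsStablyFree R P' → Module.IsStablyFree R P → Module.IsStablyFree R P'') ∧
    (Module.IsStablyFree R P' → Module.IsStablyFree R P'' → Module.IsStablyFree R P) ∧
    (Module.IsStablyFree R P → Module.IsStablyFree R P'' → Module.IsStablyFree R P') := by
  obtain ⟨l, hl⟩ := Module.projective_lifting_property g LinearMap.id hg
  obtain ⟨e, -, -⟩ := (hfg.splitSurjectiveEquiv hf ⟨l, hl⟩)
  refine ⟨fun h1 h2 => ?_, fun h1 h2 => ?_, fun h1 h2 => ?_⟩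
  · exact cancel_stablyFree h1 (Module.IsStablyFree.equiv e)
  · have := prod_stablyFree h1 h2
    exact Module.IsStablyFree.equiv e.symm
  · have : Module.IsStablyFree R (P'' × P') :=
      Module.IsStablyFree.equiv (e.trans (LinearEquiv.prodComm R P' P''))
    exact cancel_stablyFree h2 this

end Groth.Agent.S6862
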