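import Groth.Statements.S6863
import Mathlib.RingTheory.Nakayama
import Mathlib.RingTheory.Finiteness.Prod
import Mathlib.LinearAlgebra.TensorProduct.Quotient
import Mathlib.RingTheory.FiniteType
import Mathlib.RingTheory.OrzechProperty
import Mathlib.LinearAlgebra.FreeModule.Finite.Basic
import Mathlib.Tactic.Abel

set_option autoImplicit false
universe u
open TensorProduct
open CAlg

namespace Groth.Agent.S6863


private lemma lemB {R : Type u} [CommRing R] (I : Ideal R)
    {X : Type u} [AddCommGroup X] [Module (R ⧸ I) X] [Module R X]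
    [IsScalarTower R (R ⧸ I) X]
    {ι : Type u} [Finite ι] (b : Module.Basis ι (R ⧸ I) X) :
    Function.Surjective (Finsupp.linearCombination R (b : ι → X)) ∧
    LinearMap.ker (Finsupp.linearCombination R (b : ι → X)) ≤ I • ⊤ := by
  classical
  have key : ∀ x : ι →₀ R, Finsupp.linearCombination R (b : ι → X) x
      = Finsupp.linearCombination (R ⧸ I) (b : ι → X)
          (x.mapRange (Ideal.Quotient.mk I) (map_zero _)) := by
    intro x
    rw [Finsupp.linearCombination_apply, Finsupp.linearCombination_apply,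
      Finsupp.sum_mapRange_index (by simp)]
    apply Finsupp.sum_congr
    intro j _
    rw [← algebraMap_smul (R ⧸ I) (x j) (b j)]
    rfl
  constructor
  · intro y
    obtain ⟨x, hx⟩ := Finsupp.mapRange_surjective (Ideal.Quotient.mk I) (map_zero _)
      Ideal.Quotient.mk_surjective (b.repr y)
    exact ⟨x, by rw [key, hx, b.linearCombination_repr]⟩
  · intro x hx
    rw [LinearMap.mem_ker, key] at hx
    have h0 := linearIndependent_iff.1 b.linearIndependent _ hx
    have hxI : ∀ j, x j ∈ I := fun j => by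
      have := DFunLike.congr_fun h0 j
      simpa [Ideal.Quotient.eq_zero_iff_mem] using this
    rw [← Finsupp.sum_single x]
    apply Submodule.sum_mem
    intro j _
    rw [← mul_one (x j), ← smul_eq_mul, ← Finsupp.smul_single]
    exact Submodule.smul_mem_smul (hxI j) trivial

private lemma lemA {R : Type u} [CommRing R] (I : Ideal R) (hI : I ≤ Ideal.jacobson (⊥ : Ideal R))
    {E N : Type u} [AddCommGroup E] [Module R E] [AddCommGroup N] [Module R N]
    (hE : ∀ i ∈ I, ∀ e : E, i • e = 0)
    {ιa ιb : Type u} [Finite ιa] [Finite ιb]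
    (p : (ιb →₀ R) →ₗ[R] E × N) (p' : (ιa →₀ R) →ₗ[R] N)
    (hp : Function.Surjective p) (hp' : Function.Surjective p')
    (hkp : LinearMap.ker p ≤ I • ⊤) (hkp' : LinearMap.ker p' ≤ I • ⊤) :
    ∃ (M : Type u) (_ : AddCommGroup M) (_ : Module R M), Module.Finite R M ∧
      Module.IsStablyFree R M ∧
      Nonempty ((M ⧸ (I • ⊤ : Submodule R M)) ≃ₗ[R] E) := by
  classical
  obtain ⟨σ, hσ⟩ := Module.projective_lifting_property p ((LinearMap.inr R E N).comp p') hp
  obtain ⟨G, hG⟩ := Module.projective_lifting_property p' ((LinearMap.snd R E N).comp p) hp'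
  have hσ' : ∀ y, p (σ y) = (0, p' y) := fun y => LinearMap.congr_fun hσ y
  have hG' : ∀ x, p' (G x) = (p x).2 := fun x => LinearMap.congr_fun hG x
  have hGσ : ∀ y, p' (G (σ y)) = p' y := by
    intro y
    rw [hG', hσ']
  have hsurj : Function.Surjective (G.comp σ) := by
    rw [← LinearMap.range_eq_top, eq_top_iff]
    apply Submodule.le_of_le_smul_of_le_jacobson_bot Module.Finite.fg_top hI
    intro x _
    have h1 : G (σ x) - x ∈ LinearMap.ker p' := by
      rw [LinearMap.mem_ker, map_sub, hGσ, sub_self]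
    have h3 := hkp' h1
    have h4 : x = G (σ x) - (G (σ x) - x) := by abel
    rw [h4]
    exact Submodule.sub_mem _ (Submodule.mem_sup_left ⟨x, rfl⟩) (Submodule.mem_sup_right h3)
  have hinj : Function.Injective (G.comp σ) :=
    OrzechProperty.injective_of_surjective_endomorphism _ hsurj
  let e : (ιa →₀ R) ≃ₗ[R] (ιa →₀ R) := LinearEquiv.ofBijective (G.comp σ) ⟨hinj, hsurj⟩
  let τ : (ιb →₀ R) →ₗ[R] (ιa →₀ R) := e.symm.toLinearMap.comp G
  have hτσ : ∀ y, τ (σ y) = y := fun y => by
    show e.symm (G (σ y)) = y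
    exact e.symm_apply_apply y
  refine ⟨(ιb →₀ R) ⧸ LinearMap.range σ, inferInstance, inferInstance, inferInstance, ?_, ?_⟩
  · let Φ : (ιb →₀ R) →ₗ[R] ((ιb →₀ R) ⧸ LinearMap.range σ) × (ιa →₀ R) :=
      (LinearMap.range σ).mkQ.prod τ
    have hΦ : Function.Bijective Φ := by
      constructor
      · rw [← LinearMap.ker_eq_bot, eq_bot_iff]
        intro x hx
        rw [LinearMap.mem_ker] at hx
        have h1 : (LinearMap.range σ).mkQ x = 0 := congrArg Prod.fst hx
        have h2 : τ x = 0 := congrArg Prod.snd hx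
        rw [Submodule.mkQ_apply, Submodule.Quotient.mk_eq_zero] at h1
        obtain ⟨y, rfl⟩ := h1
        rw [hτσ] at h2
        rw [h2, map_zero]
        exact Submodule.zero_mem _
      · rintro ⟨m, y⟩
        obtain ⟨x, rfl⟩ := Submodule.Quotient.mk_surjective _ m
        refine ⟨x - σ (τ x) + σ y, ?_⟩
        show ((LinearMap.range σ).mkQ (x - σ (τ x) + σ y), τ (x - σ (τ x) + σ y)) = _
        have hm : ∀ z, (LinearMap.range σ).mkQ (σ z) = 0 := fun z => by
          rw [Submodule.mkQ_apply, Submodule.Quotient.mk_eq_zero]; exact ⟨z, rfl⟩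
        rw [map_add, map_sub, map_add, map_sub, hm, hm, hτσ, hτσ]
        simp
    haveI : Module.Free R (((ιb →₀ R) ⧸ LinearMap.range σ) × (ιa →₀ R)) :=
      Module.Free.of_equiv (LinearEquiv.ofBijective Φ hΦ)
    exact Module.IsStablyFree.of_free_prod R _ (ιa →₀ R)
  · let ψ : (ιb →₀ R) →ₗ[R] E := (LinearMap.fst R E N).comp p
    have hψσ : LinearMap.range σ ≤ LinearMap.ker ψ := by
      rintro _ ⟨y, rfl⟩
      show (p (σ y)).1 = 0
      rw [hσ']
    let ψ' : ((ιb →₀ R) ⧸ LinearMap.range σ) →ₗ[R] E := (LinearMap.range σ).liftQ ψ hψσ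
    have hψ's : Function.Surjective ψ' := by
      intro e0
      obtain ⟨x, hx⟩ := hp (e0, 0)
      refine ⟨Submodule.Quotient.mk x, ?_⟩
      show (p x).1 = e0
      rw [hx]
    have hker : LinearMap.ker ψ' = I • ⊤ := by
      apply le_antisymm
      · intro m hm
        obtain ⟨x, rfl⟩ := Submodule.Quotient.mk_surjective _ m
        have hx : (p x).1 = 0 := hm
        obtain ⟨y, hy⟩ := hp' (p x).2
        have h1 : x - σ y ∈ LinearMap.ker p := by
          rw [LinearMap.mem_ker, map_sub, hσ', hy]
          ext <;> simp [hx]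
        have h3 := hkp h1
        have h4 : (Submodule.Quotient.mk x : (ιb →₀ R) ⧸ LinearMap.range σ)
            = (LinearMap.range σ).mkQ (x - σ y) := by
          rw [map_sub]
          have : (LinearMap.range σ).mkQ (σ y) = 0 := by
            rw [Submodule.mkQ_apply, Submodule.Quotient.mk_eq_zero]; exact ⟨y, rfl⟩
          rw [this, sub_zero]; rfl
        rw [h4]
        have h5 := Submodule.mem_map_of_mem (f := (LinearMap.range σ).mkQ) h3
        rw [Submodule.map_smul''] at h5
        exact Submodule.smul_mono le_rfl le_top h5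
      · rw [Submodule.smul_le]
        intro i hi m _
        rw [LinearMap.mem_ker, map_smul]
        exact hE i hi _
    exact ⟨(Submodule.quotEquivOfEq _ _ hker.symm).trans
      (LinearMap.quotKerEquivOfSurjective ψ' hψ's)⟩

/-- Let `I` be an ideal of a commutative ring `R` contained in the Jacobson radical (equivalently, `1 +
i` is a unit for each `i ∈ I`). Then each finitely generated stably free module `E` over `R/I`
lifts: there is a finite stably free `R`-module `M` with `M/IM ≅ E` (existence of an isomorphism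
only; the published statement names no map). -/
theorem result {R : Type u} [CommRing R] (I : Ideal R)
    (hI : I ≤ Ideal.jacobson (⊥ : Ideal R)) (E : Type u) [AddCommGroup E] [Module (R ⧸ I) E]
    [Module.Finite (R ⧸ I) E] [Module.IsStablyFree (R ⧸ I) E] :
    ∃ (M : Type u) (_ : AddCommGroup M) (_ : Module R M), Module.Finite R M ∧ Module.IsStablyFree R M ∧
      Nonempty ((R ⧸ I) ⊗[R] M ≃ₗ[R ⧸ I] E) := by
  classical
  letI : Module R E := Module.compHom E (Ideal.Quotient.mk I)
  haveI : IsScalarTower R (R ⧸ I) E := IsScalarTower.of_algebraMap_smul fun r x => rfl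
  obtain ⟨N, hNc, hNm, hNfin, hNfree, hfree⟩ := Module.IsStablyFree.exist_free_prod (R ⧸ I) E
  letI : Module R N := Module.compHom N (Ideal.Quotient.mk I)
  haveI : IsScalarTower R (R ⧸ I) N := IsScalarTower.of_algebraMap_smul fun r x => rfl
  have hE : ∀ i ∈ I, ∀ e : E, i • e = 0 := by
    intro i hi e
    show Ideal.Quotient.mk I i • e = 0
    rw [Ideal.Quotient.eq_zero_iff_mem.2 hi, zero_smul]
  haveI hfin1 : Module.Finite (R ⧸ I) (E × N) := inferInstance
  haveI hfin2 : Finite (Module.Free.ChooseBasisIndex (R ⧸ I) (E × N)) :=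
    @Finite.of_fintype _ (Module.Free.ChooseBasisIndex.fintype (R ⧸ I) (E × N))
  haveI hfin3 : Finite (Module.Free.ChooseBasisIndex (R ⧸ I) N) :=
    @Finite.of_fintype _ (Module.Free.ChooseBasisIndex.fintype (R ⧸ I) N)
  let bb := Module.Free.chooseBasis (R ⧸ I) (E × N)
  let ba := Module.Free.chooseBasis (R ⧸ I) N
  obtain ⟨hp, hkp⟩ := lemB I bb
  obtain ⟨hp', hkp'⟩ := lemB I ba
  obtain ⟨M, hMc, hMm, hMfin, hMsf, ⟨eM⟩⟩ := lemA I hI hE _ _ hp hp' hkp hkp'
  refine ⟨M, hMc, hMm, hMfin, hMsf, ?_⟩
  let φ : (R ⧸ I) ⊗[R] M ≃ₗ[R] E := (TensorProduct.quotTensorEquivQuotSMul M I).trans eM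
  refine ⟨{ φ with map_smul' := ?_ }⟩
  intro s x
  obtain ⟨r, rfl⟩ := Ideal.Quotient.mk_surjective s
  show φ (Ideal.Quotient.mk I r • x) = Ideal.Quotient.mk I r • φ x
  have h1 : Ideal.Quotient.mk I r • x = r • x := algebraMap_smul (R ⧸ I) r x
  rw [h1, map_smul]
  rfl

end Groth.Agent.S6863
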