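import Groth.Statements.S6864
import Mathlib.RingTheory.Nakayama
import Mathlib.LinearAlgebra.TensorProduct.Quotient
-- import your own Groth.Agent.* helpers here

set_option autoImplicit false
universe u
open TensorProduct
open CAlg

namespace Groth.Agent.S6864

lemma mem_smul_top_of_one_tmul_eq_zero {R : Type u} [CommRing R] (I : Ideal R) {M : Type u}
    [AddCommGroup M] [Module R M] (x : M)
    (hx : (1 : R ⧸ I) ⊗ₜ[R] x = 0) : x ∈ I • (⊤ : Submodule R M) := by
  have := congrArg (TensorProduct.quotTensorEquivQuotSMul M I) hx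
  rw [map_zero, TensorProduct.quotTensorEquivQuotSMul_mk_one_tmul,
    Submodule.Quotient.mk_eq_zero] at this
  exact this

lemma exists_one_tmul {R : Type u} [CommRing R] (I : Ideal R) {M : Type u}
    [AddCommGroup M] [Module R M] (t : (R ⧸ I) ⊗[R] M) : ∃ p : M, (1 : R ⧸ I) ⊗ₜ[R] p = t := by
  obtain ⟨p, hp⟩ := Submodule.Quotient.mk_surjective _
    (TensorProduct.quotTensorEquivQuotSMul M I t)
  exact ⟨p, by rw [← TensorProduct.quotTensorEquivQuotSMul_symm_mk I p, hp,
    LinearEquiv.symm_apply_apply]⟩

/-- Let `I` be an ideal of a commutative ring `R` contained in the Jacobson radical and let `φ : P → P'`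
be an `R`-linear map between finite projective `R`-modules. If the induced map `P/IP → P'/IP'` is
bijective, then `φ` is bijective. -/
theorem result {R : Type u} [CommRing R] (I : Ideal R)
    (hI : I ≤ Ideal.jacobson (⊥ : Ideal R)) {P P' : Type u}
    [AddCommGroup P] [Module R P] [Module.Finite R P] [Module.Projective R P]
    [AddCommGroup P'] [Module R P'] [Module.Finite R P'] [Module.Projective R P'] (φ : P →ₗ[R] P')
    (h : Function.Bijective (φ.baseChange (R ⧸ I))) : Function.Bijective φ := by
  obtain ⟨hinj, hsurj⟩ := h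
  have hsurjφ : Function.Surjective φ := by
    rw [← LinearMap.range_eq_top, eq_top_iff]
    apply Submodule.le_of_le_smul_of_le_jacobson_bot (Module.finite_def.mp inferInstance) hI
    intro p' _
    obtain ⟨t, ht⟩ := hsurj (1 ⊗ₜ p')
    obtain ⟨p, rfl⟩ := exists_one_tmul I t
    rw [LinearMap.baseChange_tmul] at ht
    have h0 : (1 : R ⧸ I) ⊗ₜ[R] (p' - φ p) = 0 := by rw [tmul_sub, ht, sub_self]
    have hmem := mem_smul_top_of_one_tmul_eq_zero I _ h0
    rw [Submodule.mem_sup]
    exact ⟨φ p, ⟨p, rfl⟩, p' - φ p, hmem, by abel⟩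
  refine ⟨?_, hsurjφ⟩
  obtain ⟨s, hs⟩ := Module.projective_lifting_property φ LinearMap.id hsurjφ
  let π : P →ₗ[R] P := LinearMap.id - s ∘ₗ φ
  have hπ : ∀ x, π x ∈ LinearMap.ker φ := by
    intro x
    have := LinearMap.congr_fun hs (φ x)
    simp only [LinearMap.coe_comp, Function.comp_apply, LinearMap.id_coe, id_eq] at this
    simp [π, LinearMap.mem_ker, map_sub, this]
  have hπk : ∀ k ∈ LinearMap.ker φ, π k = k := by
    intro k hk
    simp [π, LinearMap.mem_ker.mp hk]
  have hKfg : (LinearMap.ker φ).FG := by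
    have : LinearMap.ker φ = (⊤ : Submodule R P).map π := by
      ext k; constructor
      · intro hk; exact ⟨k, trivial, hπk k hk⟩
      · rintro ⟨x, -, rfl⟩; exact hπ x
    rw [this]; exact (Module.finite_def.mp inferInstance).map π
  have hK : LinearMap.ker φ = ⊥ := by
    apply Submodule.eq_bot_of_le_smul_of_le_jacobson_bot I _ hKfg _ hI
    intro k hk
    have h0 : (1 : R ⧸ I) ⊗ₜ[R] k = 0 := by
      apply hinj
      rw [LinearMap.baseChange_tmul, LinearMap.mem_ker.mp hk, tmul_zero, map_zero]
    have hmem := mem_smul_top_of_one_tmul_eq_zero I k h0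
    have h1 : π k ∈ (I • (⊤ : Submodule R P)).map π := Submodule.mem_map_of_mem hmem
    rw [Submodule.map_smul'', hπk k hk] at h1
    refine Submodule.smul_mono le_rfl ?_ h1
    rintro _ ⟨x, -, rfl⟩; exact hπ x
  exact LinearMap.ker_eq_bot.mp hK

end Groth.Agent.S6864
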