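import Groth.Statements.S6866
import Groth.Agent.Lib.Helper15.TorsionFreeEmbed
import Mathlib.Algebra.Module.Torsion.Pi
import Mathlib.LinearAlgebra.TensorProduct.Finiteness
import Mathlib.LinearAlgebra.TensorProduct.Pi
import Mathlib.RingTheory.Flat.Basic
-- import your own Groth.Agent.* helpers here

set_option autoImplicit false
universe u
open TensorProduct
open CAlg

namespace Groth.Agent.S6866

/-- If `M` is a torsion free module over a domain `R` and `R → R'` is a flat ring map to another domain,
then `R' ⊗_R M` is torsion free over `R'`. -/
theorem result (R R' : Type u) [CommRing R] [IsDomain R] [CommRing R']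
    [IsDomain R'] [Algebra R R'] [Module.Flat R R'] (M : Type u) [AddCommGroup M] [Module R M]
    [Module.IsTorsionFree R M] : Module.IsTorsionFree R' (R' ⊗[R] M) := by
  classical
  apply Module.IsTorsionFree.of_smul_eq_zero
  intro r' z hz
  by_cases hr : r' = 0
  · left; exact hr
  right
  obtain ⟨N, hNfin, hN⟩ := TensorProduct.exists_finite_submodule_right_of_setFinite
    ({z} : Set (R' ⊗[R] M)) (Set.finite_singleton z)
  obtain ⟨y, rfl⟩ := hN (Set.mem_singleton z)
  haveI : Module.IsTorsionFree R N :=
    Function.Injective.moduleIsTorsionFree N.subtype (Submodule.injective_subtype N)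
      (fun r m => map_smul _ r m)
  obtain ⟨n, f, hf⟩ :=
    Groth.Agent.Lib.Helper15.TFE.exists_injective_of_isTorsionFree (R := R) (M := N)
  have h1 : Function.Injective (N.subtype.baseChange R') := by
    rw [LinearMap.baseChange_eq_ltensor]
    exact Module.Flat.lTensor_preserves_injective_linearMap _ (Submodule.injective_subtype N)
  have h2 : Function.Injective (f.baseChange R') := by
    rw [LinearMap.baseChange_eq_ltensor]
    exact Module.Flat.lTensor_preserves_injective_linearMap _ hf
  have hy : r' • y = 0 := by
    apply h1
    rw [map_smul, map_zero]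
    exact hz
  have hw : r' • (TensorProduct.piScalarRight R R' R' (Fin n) (f.baseChange R' y)) = 0 := by
    rw [← map_smul, ← map_smul, hy, map_zero, map_zero]
  have hw0 : TensorProduct.piScalarRight R R' R' (Fin n) (f.baseChange R' y) = 0 :=
    (smul_eq_zero_iff_right hr).mp hw
  have hy0 : y = 0 := by
    apply h2
    rw [map_zero]
    exact (LinearEquiv.map_eq_zero_iff _).mp hw0
  rw [hy0, map_zero]

end Groth.Agent.S6866
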