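import Groth.Statements.S6868
import Mathlib
import Groth.Agent.Lib.Helper21.DepthKit11
import Groth.Agent.S2085

set_option autoImplicit false
universe u
open CAlg

namespace Groth.Agent.S6868

open RingTheory.Sequence IsLocalRing Module Pointwise
open Groth.Agent.Lib.Helper21.DepthKit

section
variable {R : Type u} [CommRing R] [IsDomain R] [IsNoetherianRing R] {M : Type u} [AddCommGroup M]
  [Module R M] [Module.Finite R M] [Nontrivial M]

theorem torsionFree_iff_ass : Module.IsTorsionFree R M ↔ associatedPrimes R M = {⊥} := by
  constructor
  · intro h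
    have hsub : ∀ P ∈ associatedPrimes R M, P = ⊥ := by
      intro P hP
      rw [eq_bot_iff]
      intro x hx
      by_contra hx0
      have hreg : IsSMulRegular M x := h.isSMulRegular (IsRegular.of_ne_zero hx0)
      exact notMem_of_isSMulRegular_of_mem_associatedPrimes hreg hP hx
    obtain ⟨P, hP⟩ := associatedPrimes.nonempty R M
    ext Q
    constructor
    · intro hQ; exact hsub Q hQ
    · intro hQ
      rw [Set.mem_singleton_iff] at hQ
      rw [hQ, ← hsub P hP]; exact hP
  · intro h
    constructor
    intro r hr
    by_contra hnr
    obtain ⟨P, hP, hrP⟩ := exists_mem_associatedPrimes_of_not_isSMulRegular hnr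
    rw [h, Set.mem_singleton_iff] at hP
    rw [hP, Ideal.mem_bot] at hrP
    exact hr.ne_zero hrP

end


/-- (1) ⇔ (3) ⇔ (4): for a Noetherian domain `R` and a nonzero finite `R`-module `M`, torsion-freeness
of `M` is equivalent to `(0)` being the unique associated prime of `M`, and also to the conjunction:
`(0)` belongs to the support of `M` and `M` satisfies Serre's condition `(S_1)`. (The published
statement also lists embedding into a finite free module and the absence of embedded associated
primes; this row states the other three conditions.) -/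
theorem result (R : Type u) [CommRing R]
    [IsDomain R] [IsNoetherianRing R] (M : Type u) [AddCommGroup M] [Module R M] [Module.Finite R M] [Nontrivial M] :
    (Module.IsTorsionFree R M ↔ associatedPrimes R M = {⊥}) ∧
    (Module.IsTorsionFree R M ↔
      (⟨⊥, Ideal.isPrime_bot⟩ : PrimeSpectrum R) ∈ Module.support R M ∧ LocCoh.HasSk 1 R M) := by
  refine ⟨torsionFree_iff_ass, ?_⟩
  rw [torsionFree_iff_ass, ← Groth.Agent.S2085.result]
  constructor
  · intro h
    have hbot : (⊥ : Ideal R) ∈ associatedPrimes R M := by rw [h]; rfl
    have hS : (⟨⊥, Ideal.isPrime_bot⟩ : PrimeSpectrum R) ∈ Module.support R M :=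
      mem_support_of_mem_associatedPrimes hbot
    refine ⟨hS, ?_⟩
    intro P hP
    rw [h, Set.mem_singleton_iff] at hP
    rw [hP]
    exact ⟨⟨Ideal.isPrime_bot, Module.annihilator_le_of_mem_support hS⟩, fun Q _ _ => bot_le⟩
  · rintro ⟨hS, h⟩
    have hsub : ∀ P ∈ associatedPrimes R M, P = ⊥ := by
      intro P hP
      have hmin := h P hP
      rw [eq_bot_iff]
      exact hmin.2 ⟨Ideal.isPrime_bot, Module.annihilator_le_of_mem_support hS⟩ bot_le
    obtain ⟨P, hP⟩ := associatedPrimes.nonempty R M
    ext Q
    constructor
    · intro hQ; exact hsub Q hQ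
    · intro hQ
      rw [Set.mem_singleton_iff] at hQ
      rw [hQ, ← hsub P hP]; exact hP

end Groth.Agent.S6868
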