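import Groth.Statements.S6869
import Groth.Agent.Lib.Helper15.TorsionFreeEmbed
import Mathlib.Algebra.Module.Torsion.Pi
-- import your own Groth.Agent.* helpers here

set_option autoImplicit false
universe u
open CAlg

namespace Groth.Agent.S6869

/-- For a domain `R` and a finite `R`-module `M`, the evaluation map `M → M**` into the double dual is
injective exactly when `M` is torsion free. -/
theorem result (R : Type u) [CommRing R] [IsDomain R] (M : Type u)
    [AddCommGroup M] [Module R M] [Module.Finite R M] :
    Function.Injective (Module.Dual.eval R M) ↔ Module.IsTorsionFree R M := by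
  constructor
  · intro h
    have h1 : Module.IsTorsionFree R (Module.Dual R (Module.Dual R M)) :=
      Function.Injective.moduleIsTorsionFree
        (fun φ : Module.Dual R (Module.Dual R M) => (φ : Module.Dual R M → R))
        DFunLike.coe_injective (fun r m => rfl)
    exact Function.Injective.moduleIsTorsionFree (Module.Dual.eval R M) h
      (fun r m => map_smul _ r m)
  · intro h
    obtain ⟨n, f, hf⟩ :=
      Groth.Agent.Lib.Helper15.TFE.exists_injective_of_isTorsionFree (R := R) (M := M)
    rw [← LinearMap.ker_eq_bot, Submodule.eq_bot_iff]
    intro x hx
    apply hf
    rw [map_zero]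
    funext i
    have := LinearMap.congr_fun (LinearMap.mem_ker.mp hx) ((LinearMap.proj i).comp f)
    simpa using this

end Groth.Agent.S6869
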