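import Groth.Statements.S6870
import Groth.Agent.Lib.Helper15.TorsionFreeEmbed
-- import your own Groth.Agent.* helpers here

set_option autoImplicit false
universe u
open CAlg

namespace Groth.Agent.S6870

/-- Let `R` be a domain, `M` a finite `R`-module and `j : M → M**` the evaluation map into the double
dual. Then one nonzero `c ∈ R` kills the kernel of `j` and multiplies `M**` into the image of `j`.
(The published statement says only that the kernel and cokernel of `j` are torsion; this row gives
one such `c` for both.) -/
theorem result (R : Type u) [CommRing R] [IsDomain R] (M : Type u)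
    [AddCommGroup M] [Module R M] [Module.Finite R M] :
    ∃ c : R, c ≠ 0 ∧ (∀ x : M, Module.Dual.eval R M x = 0 → c • x = 0) ∧
      ∀ y : Module.Dual R (Module.Dual R M), c • y ∈ LinearMap.range (Module.Dual.eval R M) := by
  classical
  obtain ⟨n, v, s, hv, hs, hmem⟩ :=
    Groth.Agent.Lib.Helper15.TFE.exists_linearIndependent_smul_mem (R := R) (M := M)
  let g : M →ₗ[R] Submodule.span R (Set.range v) :=
    LinearMap.codRestrict _ (LinearMap.lsmul R M s) hmem
  let coord : M →ₗ[R] (Fin n →₀ R) := hv.repr ∘ₗ g
  have hcoord : ∀ m : M, Finsupp.linearCombination R v (coord m) = s • m := by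
    intro m
    exact hv.linearCombination_repr (g m)
  let φ : Fin n → Module.Dual R M := fun i => (Finsupp.lapply i) ∘ₗ coord
  have hφ : ∀ i m, φ i m = coord m i := fun i m => rfl
  have hsum : ∀ m : M, ∑ i, (coord m i) • v i = s • m := by
    intro m
    rw [← hcoord m, Finsupp.linearCombination_apply, Finsupp.sum_fintype]
    intro i; simp
  refine ⟨s, hs, ?_, ?_⟩
  · intro x hx
    have h0 : ∀ i, coord x i = 0 := by
      intro i
      have := LinearMap.congr_fun hx (φ i)
      simpa [hφ] using this
    rw [← hsum x]
    simp [h0]
  · intro y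
    refine ⟨∑ i, y (φ i) • v i, ?_⟩
    ext ψ
    have hψ : s • ψ = ∑ i, ψ (v i) • φ i := by
      ext m
      simp only [LinearMap.smul_apply, LinearMap.sum_apply, hφ, smul_eq_mul]
      calc s * ψ m = ψ (s • m) := by rw [map_smul, smul_eq_mul]
        _ = ψ (∑ i, (coord m i) • v i) := by rw [hsum m]
        _ = ∑ i, ψ (v i) * coord m i := by
          rw [map_sum]
          refine Finset.sum_congr rfl (fun i _ => ?_)
          rw [map_smul, smul_eq_mul, mul_comm]
    calc (Module.Dual.eval R M (∑ i, y (φ i) • v i)) ψ
        = ψ (∑ i, y (φ i) • v i) := rfl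
      _ = ∑ i, y (φ i) * ψ (v i) := by
          rw [map_sum]
          refine Finset.sum_congr rfl (fun i _ => ?_)
          rw [map_smul, smul_eq_mul]
      _ = y (∑ i, ψ (v i) • φ i) := by
          rw [map_sum]
          refine Finset.sum_congr rfl (fun i _ => ?_)
          rw [map_smul, smul_eq_mul, mul_comm]
      _ = y (s • ψ) := by rw [hψ]
      _ = (s • y) ψ := by rw [map_smul]; rfl

end Groth.Agent.S6870
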