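import Groth.Statements.S6871
import Mathlib
import Groth.Agent.Lib.Helper21.EvalLoc

set_option autoImplicit false
universe u
open CAlg

namespace Groth.Agent.S6871

open Groth.Agent.Lib.Helper21.EvalLoc


/-- Let `R` be a Noetherian domain and `M` a finite `R`-module. Then `M` is reflexive if and only if
`M_𝔭` is a reflexive `R_𝔭`-module for every prime `𝔭`, if and only if `M_𝔪` is a reflexive
`R_𝔪`-module for every maximal ideal `𝔪`. -/
theorem result (R : Type u) [CommRing R] [IsDomain R] [IsNoetherianRing R] (M : Type u)
    [AddCommGroup M] [Module R M] [Module.Finite R M] :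
    (Module.IsReflexive R M ↔
      ∀ (p : Ideal R) [p.IsPrime], Module.IsReflexive (Localization.AtPrime p) (LocalizedModule p.primeCompl M)) ∧
    (Module.IsReflexive R M ↔
      ∀ (m : Ideal R) (_ : m.IsMaximal),
        Module.IsReflexive (Localization.AtPrime m) (LocalizedModule m.primeCompl M)) := by
  refine ⟨⟨fun h p _ => isReflexive_localization M p, fun h => ?_⟩,
    ⟨fun h m hm => isReflexive_localization M m, fun h => ?_⟩⟩
  · exact isReflexive_of_localization_maximal M (fun m hm => h m)
  · exact isReflexive_of_localization_maximal M h

end Groth.Agent.S6871
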