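import Groth.Statements.S6874
import Groth.Agent.S6866
import Groth.Agent.Lib.helper19.ReflexiveEmbed
import Mathlib.LinearAlgebra.TensorProduct.RightExactness
-- import your own Groth.Agent.* helpers here

set_option autoImplicit false
universe u
open TensorProduct
open CAlg

namespace Groth.Agent.S6874

/-- For a flat ring map `R → R'` between Noetherian domains and a finite reflexive `R`-module `M`, the
base change `R' ⊗_R M` is a (finite) reflexive `R'`-module. -/
theorem result (R R' : Type u) [CommRing R] [IsDomain R]
    [IsNoetherianRing R] [CommRing R'] [IsDomain R'] [IsNoetherianRing R'] [Algebra R R'] [Module.Flat R R']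
    (M : Type u) [AddCommGroup M] [Module R M] [Module.Finite R M] [Module.IsReflexive R M] :
    Module.IsReflexive R' (R' ⊗[R] M) := by
  classical
  obtain ⟨n, f, hf, htf⟩ :=
    (Groth.Agent.Lib.helper19.isReflexive_iff_exists_injective_torsionFree_coker (R := R) M).mp
      inferInstance
  haveI : Module.IsTorsionFree R ((Fin n → R) ⧸ LinearMap.range f) := htf
  haveI : Module.IsTorsionFree R' (R' ⊗[R] ((Fin n → R) ⧸ LinearMap.range f)) :=
    Groth.Agent.S6866.result R R' ((Fin n → R) ⧸ LinearMap.range f)
  let e := TensorProduct.piScalarRight R R' R' (Fin n)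
  let f' : R' ⊗[R] M →ₗ[R'] (Fin n → R') := e.toLinearMap ∘ₗ f.baseChange R'
  let g' : (Fin n → R') →ₗ[R'] R' ⊗[R] ((Fin n → R) ⧸ LinearMap.range f) :=
    ((LinearMap.range f).mkQ.baseChange R') ∘ₗ e.symm.toLinearMap
  have hfb : Function.Injective (f.baseChange R') := by
    rw [LinearMap.baseChange_eq_ltensor]
    exact Module.Flat.lTensor_preserves_injective_linearMap _ hf
  have hf' : Function.Injective f' := e.injective.comp hfb
  have hexact0 : Function.Exact (f.baseChange R') ((LinearMap.range f).mkQ.baseChange R') := by
    have := lTensor_exact R' (LinearMap.exact_map_mkQ_range f) (Submodule.mkQ_surjective _)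
    intro x
    rw [LinearMap.baseChange_eq_ltensor, LinearMap.baseChange_eq_ltensor]
    exact this x
  have hexact : Function.Exact f' g' := by
    intro x
    simp only [f', g', LinearMap.coe_comp, LinearEquiv.coe_coe, Function.comp_apply]
    rw [hexact0 (e.symm x)]
    constructor
    · rintro ⟨y, hy⟩
      refine ⟨y, ?_⟩
      show e (LinearMap.baseChange R' f y) = x
      rw [hy, LinearEquiv.apply_symm_apply]
    · rintro ⟨y, hy⟩
      refine ⟨y, ?_⟩
      have hy' : e (LinearMap.baseChange R' f y) = x := hy
      rw [← hy', LinearEquiv.symm_apply_apply]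
  have hg' : Function.Surjective g' := by
    have h1 : Function.Surjective ((LinearMap.range f).mkQ.baseChange R') := by
      rw [LinearMap.baseChange_eq_ltensor]
      exact LinearMap.lTensor_surjective _ (Submodule.mkQ_surjective _)
    exact h1.comp e.symm.surjective
  let eq := hexact.linearEquivOfSurjective hg'
  haveI : Module.IsTorsionFree R' ((Fin n → R') ⧸ LinearMap.range f') :=
    Function.Injective.moduleIsTorsionFree eq eq.injective (fun r m => map_smul eq r m)
  exact (Groth.Agent.Lib.helper19.isReflexive_iff_exists_injective_torsionFree_coker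
    (R := R') (R' ⊗[R] M)).mpr ⟨n, f', hf', inferInstance⟩

end Groth.Agent.S6874
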