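import Groth.Statements.S6879
import Mathlib
import Groth.Agent.Lib.Helper21.EvalLoc
import Groth.Agent.Lib.Helper21.DepthKit11
import Groth.Agent.S2090

set_option autoImplicit false
universe u
open CAlg

namespace Groth.Agent.S6879

open Module
open Groth.Agent.Lib.Helper21.EvalLoc Groth.Agent.Lib.Helper21.DepthKit

section
variable {R : Type u} [CommRing R] [IsNoetherianRing R] (M : Type u) [AddCommGroup M]
  [Module R M] [Module.Finite R M] (p : Ideal R) [p.IsPrime]

/-- the two localizations of the evaluation map differ by an isomorphism. -/
theorem bijective_localizedMap_eval_iff :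
    Function.Bijective (LocalizedModule.map p.primeCompl (Dual.eval R M)) ↔
      Module.IsReflexive (Localization.AtPrime p) (LocalizedModule p.primeCompl M) := by
  rw [← bijective_eval_localization_iff]
  have key : IsLocalizedModule.map p.primeCompl (LocalizedModule.mkLinearMap p.primeCompl M) (D2 M p)
      (Dual.eval R M) =
      (IsLocalizedModule.linearEquiv p.primeCompl
        (LocalizedModule.mkLinearMap p.primeCompl (Dual R (Dual R M))) (D2 M p)).toLinearMap ∘ₗ
      IsLocalizedModule.map p.primeCompl (LocalizedModule.mkLinearMap p.primeCompl M)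
        (LocalizedModule.mkLinearMap p.primeCompl (Dual R (Dual R M))) (Dual.eval R M) := by
    apply IsLocalizedModule.linearMap_ext p.primeCompl (LocalizedModule.mkLinearMap p.primeCompl M)
      (D2 M p)
    ext m : 1
    simp only [LinearMap.coe_comp, Function.comp_apply, LinearEquiv.coe_coe,
      IsLocalizedModule.map_apply, IsLocalizedModule.linearEquiv_apply]
  rw [key]
  have h1 : ∀ x, LocalizedModule.map p.primeCompl (Dual.eval R M) x =
      IsLocalizedModule.map p.primeCompl (LocalizedModule.mkLinearMap p.primeCompl M)
        (LocalizedModule.mkLinearMap p.primeCompl (Dual R (Dual R M))) (Dual.eval R M) x :=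
    fun x => rfl
  constructor
  · intro h
    rw [LinearMap.coe_comp]
    refine (LinearEquiv.bijective _).comp ?_
    exact ⟨fun a b hab => h.1 ((h1 a).trans (hab.trans (h1 b).symm)),
      fun y => (h.2 y).imp fun a ha => (h1 a).symm.trans ha⟩
  · intro h
    rw [LinearMap.coe_comp] at h
    have h2 := (Function.Bijective.of_comp_iff' (LinearEquiv.bijective _) _).1 h
    exact ⟨fun a b hab => h2.1 ((h1 a).symm.trans (hab.trans (h1 b))),
      fun y => (h2.2 y).imp fun a ha => (h1 a).trans ha⟩

end

/-- a trivial module is reflexive. -/
theorem isReflexive_of_subsingleton {A : Type u} [CommRing A] {X : Type u} [AddCommGroup X]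
    [Module A X] [Subsingleton X] : Module.IsReflexive A X := by
  constructor
  haveI : Subsingleton (Dual A X) :=
    ⟨fun f g => by ext x; rw [Subsingleton.elim x 0]; simp⟩
  haveI : Subsingleton (Dual A (Dual A X)) :=
    ⟨fun f g => by ext x; rw [Subsingleton.elim x 0]; simp⟩
  exact ⟨fun a b _ => Subsingleton.elim _ _, fun y => ⟨0, Subsingleton.elim _ _⟩⟩

/-- over a Noetherian domain the only possible associated prime of a dual module is `⊥`. -/
theorem eq_bot_of_mem_associatedPrimes_dual {R : Type u} [CommRing R] [IsDomain R]
    [IsNoetherianRing R] (X : Type u) [AddCommGroup X] [Module R X] {P : Ideal R}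
    (hP : P ∈ associatedPrimes R (Dual R X)) : P = ⊥ := by
  rw [eq_bot_iff]
  intro x hx
  by_contra hx0
  have hx0' : x ≠ 0 := hx0
  have hreg : IsSMulRegular (Dual R X) x := by
    intro f g hfg
    ext y
    have := LinearMap.congr_fun hfg y
    simp only [LinearMap.smul_apply, smul_eq_mul] at this
    exact mul_left_cancel₀ hx0' this
  exact notMem_of_isSMulRegular_of_mem_associatedPrimes hreg hP hx


/-- Let `R` be a Noetherian domain and `M` a finite `R`-module. Then `M` is reflexive if and only if for
every prime `𝔭` of `R` either `M_𝔭` is a reflexive `R_𝔭`-module or `depth(M_𝔭) ≥ 2`. -/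
theorem result (R : Type u) [CommRing R] [IsDomain R]
    [IsNoetherianRing R] (M : Type u) [AddCommGroup M] [Module R M] [Module.Finite R M] :
    Module.IsReflexive R M ↔ ∀ (p : Ideal R) [p.IsPrime],
      Module.IsReflexive (Localization.AtPrime p) (LocalizedModule p.primeCompl M) ∨
        2 ≤ LocCoh.depth (Localization.AtPrime p) (LocalizedModule p.primeCompl M) := by
  constructor
  · intro h p _
    exact Or.inl (isReflexive_localization M p)
  · intro h
    constructor
    apply Groth.Agent.S2090.result (Dual.eval R M)
    intro p _
    rcases h p with hr | hd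
    · exact Or.inl ((bijective_localizedMap_eval_iff M p).2 hr)
    · by_cases hp : p = ⊥
      · left
        rw [bijective_localizedMap_eval_iff]
        have hsub : Subsingleton (LocalizedModule p.primeCompl M) := by
          by_contra hns
          rw [not_subsingleton_iff_nontrivial] at hns
          have h1 := depth_le_supportDim (A := Localization.AtPrime p)
            (M := LocalizedModule p.primeCompl M)
          have h2 : supportDim (Localization.AtPrime p) (LocalizedModule p.primeCompl M) ≤
              ringKrullDim (Localization.AtPrime p) := supportDim_le_ringKrullDim _ _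
          have h3 : ringKrullDim (Localization.AtPrime p) = p.height :=
            IsLocalization.AtPrime.ringKrullDim_eq_height p _
          have h4 : p.height = 0 := by rw [hp]; exact Ideal.height_bot
          have h5 : (((2 : ℕ∞)) : WithBot ℕ∞) ≤ (((0 : ℕ∞)) : WithBot ℕ∞) :=
            (WithBot.coe_le_coe.2 hd).trans (h1.trans (h2.trans (by rw [h3, h4])))
          have h6 : (2 : ℕ∞) ≤ 0 := WithBot.coe_le_coe.1 h5
          exact absurd h6 (by norm_num)
        exact isReflexive_of_subsingleton
      · right
        exact ⟨hd, fun hP => hp (eq_bot_of_mem_associatedPrimes_dual _ hP)⟩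

end Groth.Agent.S6879
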