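import Groth.Statements.S6882
import Mathlib.LinearAlgebra.FreeModule.PID
import Mathlib.LinearAlgebra.Dual.Lemmas
import Mathlib.Algebra.Module.Torsion.Basic

set_option autoImplicit false
universe u
open CAlg

namespace Groth.Agent.S6882

/-- For a finite module `M` over a discrete valuation ring `R`, the evaluation map from `M` to its
double dual `M**` is surjective. -/
theorem result (R : Type u) [CommRing R] [IsDomain R]
    [IsDiscreteValuationRing R] (M : Type u) [AddCommGroup M] [Module R M] [Module.Finite R M] :
    Function.Surjective (Module.Dual.eval R M) := by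
  classical
  let T := Submodule.torsion R M
  let π : M →ₗ[R] M ⧸ T := T.mkQ
  have hπ : Function.Surjective π := T.mkQ_surjective
  have hfree : Module.Free R (M ⧸ T) := Module.free_of_finite_type_torsion_free'
  have hrefl : Module.IsReflexive R (M ⧸ T) := Module.IsReflexive.of_finite_of_free _ _
  -- π* is surjective
  have hsurj : Function.Surjective π.dualMap := by
    intro φ
    have hle : T ≤ LinearMap.ker φ := by
      intro t ht
      obtain ⟨a, ha⟩ := (Submodule.mem_torsion_iff t).mp ht
      have h1 : (a : R) * φ t = 0 := by
        rw [← smul_eq_mul, ← map_smul]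
        have : (a : R) • t = 0 := ha
        rw [this, map_zero]
      rcases mul_eq_zero.mp h1 with h | h
      · exact absurd h (nonZeroDivisors.coe_ne_zero a)
      · exact h
    refine ⟨T.liftQ φ hle, ?_⟩
    ext m
    simp [π]
  have hinj : Function.Injective π.dualMap.dualMap := by
    intro ξ ξ' h
    ext φ
    obtain ⟨ψ, rfl⟩ := hsurj φ
    exact LinearMap.congr_fun h ψ
  intro ξ
  obtain ⟨y, hy⟩ := (Module.IsReflexive.bijective_dual_eval' (R := R) (M := M ⧸ T)).2
    (π.dualMap.dualMap ξ)
  obtain ⟨m, rfl⟩ := hπ y
  refine ⟨m, hinj ?_⟩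
  rw [← hy]
  ext ψ
  simp

end Groth.Agent.S6882
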