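import Groth.Statements.S6887
import Mathlib.LinearAlgebra.Matrix.Charpoly.LinearMap

set_option autoImplicit false
universe u
open Polynomial
open CAlg

namespace Groth.Agent.S6887

theorem aeval_charpoly_of_represents {ι : Type*} [Fintype ι] [DecidableEq ι] {R M : Type*}
    [CommRing R] [AddCommGroup M] [Module R M] (b : ι → M)
    (hb : Submodule.span R (Set.range b) = ⊤) (T : Matrix ι ι R) (f : Module.End R M)
    (h : T.Represents b f) : Polynomial.aeval f T.charpoly = 0 := by
  have := Matrix.isRepresentation.eq_toEnd_of_represents R b hb ⟨T, f, h⟩ h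
  rw [← this, Polynomial.aeval_algHom_apply, ← map_zero (Matrix.isRepresentation.toEnd R b hb)]
  congr 1
  ext1
  rw [Polynomial.aeval_subalgebra_coe, Matrix.aeval_self_charpoly, Subalgebra.coe_zero]


/-- Let `(A, I)` be a Zariski pair (`I` inside the Jacobson radical) and `A → B` a finite ring map.
Suppose `B/IB ≅ B₁ × B₂` as `A`-algebras with `A → B₁` surjective, and `b ∈ B` maps to `(1, 0)`.
Then there is a monic `f ∈ A[x]` with `f(b) = 0` whose reduction modulo `I` is `(x - 1) x^d` for
some `d ≥ 1`. -/
theorem result (A B : Type u) [CommRing A] [CommRing B]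
    [Algebra A B] [Module.Finite A B] (I : Ideal A) (hI : I ≤ Ideal.jacobson (⊥ : Ideal A))
    (B₁ B₂ : Type u) [CommRing B₁] [CommRing B₂] [Algebra A B₁] [Algebra A B₂]
    (e : (B ⧸ I.map (algebraMap A B)) ≃ₐ[A] B₁ × B₂) (h₁ : Function.Surjective (algebraMap A B₁)) (b : B)
    (hb : e (Ideal.Quotient.mk (I.map (algebraMap A B)) b) = (1, 0)) :
    ∃ (f : A[X]) (d : ℕ), f.Monic ∧ Polynomial.aeval b f = 0 ∧ 1 ≤ d ∧
      f.map (Ideal.Quotient.mk I) = (X - 1) * X ^ d := by
  classical
  obtain ⟨n, s, hs⟩ := Module.Finite.exists_fin (R := A) (M := B)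
  -- first components of the generators lift to `A`
  have ha : ∀ j, ∃ a : A, algebraMap A B₁ a = (e (Ideal.Quotient.mk _ (s j))).1 := fun j => h₁ _
  choose a ha using ha
  let g : Option (Fin n) → B := fun k => k.elim b (fun j => s j - a j • b)
  have hg : Submodule.span A (Set.range g) = ⊤ := by
    rw [eq_top_iff, ← hs, Submodule.span_le]
    rintro _ ⟨j, rfl⟩
    have : s j = g (some j) + a j • g none := by simp [g]
    rw [this]
    exact Submodule.add_mem _ (Submodule.subset_span ⟨_, rfl⟩)
      (Submodule.smul_mem _ _ (Submodule.subset_span ⟨_, rfl⟩))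
  let d : Option (Fin n) → A := fun k => k.elim 1 (fun _ => 0)
  -- `b * g k - d k • g k ∈ IB`
  let φ : B →ₐ[A] B₁ × B₂ := e.toAlgHom.comp (Ideal.Quotient.mkₐ A (I.map (algebraMap A B)))
  have hφb : φ b = (1, 0) := hb
  have hφs : ∀ j, (φ (s j)).1 = algebraMap A B₁ (a j) := fun j => (ha j).symm
  have hφg : ∀ j, φ (g (some j)) = (0, (φ (s j)).2) := by
    intro j
    have : g (some j) = s j - a j • b := rfl
    rw [this, map_sub, map_smul, hφb]
    ext
    · simp [hφs j, Algebra.smul_def]
    · simp
  have hmem : ∀ k, b * g k - d k • g k ∈ I.map (algebraMap A B) := by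
    intro k
    rw [← Ideal.Quotient.eq_zero_iff_mem]
    apply e.injective
    rw [map_zero]
    show φ (b * g k - d k • g k) = 0
    rw [map_sub, map_mul, map_smul, hφb]
    cases k with
    | none =>
      have : g none = b := rfl
      have hd : d none = 1 := rfl
      rw [this, hd, hφb, one_smul]
      ext <;> simp
    | some j =>
      have hd : d (some j) = 0 := rfl
      rw [hφg j, hd, zero_smul, sub_zero]
      ext <;> simp
  have hmem' : ∀ k, b * g k - d k • g k ∈ I • Submodule.span A (Set.range g) := by
    intro k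
    rw [hg, Ideal.smul_top_eq_map]
    exact hmem k
  have hc : ∀ k, ∃ c : Option (Fin n) → A, (∀ l, c l ∈ I) ∧ ∑ l, c l • g l = b * g k - d k • g k := by
    intro k
    obtain ⟨c, hcI, hcs⟩ := (Submodule.mem_ideal_smul_span_iff_exists_sum I g _).1 (hmem' k)
    refine ⟨c, hcI, ?_⟩
    rw [← hcs, Finsupp.sum_fintype]
    intro i; exact zero_smul _ _
  choose c hcI hcs using hc
  let T : Matrix (Option (Fin n)) (Option (Fin n)) A := Matrix.diagonal d + Matrix.of fun i j => c j i
  have hrep : T.Represents g (Algebra.lmul A B b) := by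
    rw [Matrix.represents_iff']
    intro j
    simp only [T, Matrix.add_apply, Matrix.of_apply, add_smul, Finset.sum_add_distrib, hcs j]
    rw [Finset.sum_eq_single j]
    · simp
    · intro i _ hij
      rw [Matrix.diagonal_apply_ne _ hij, zero_smul]
    · intro h; exact absurd (Finset.mem_univ j) h
  have hCH := aeval_charpoly_of_represents g hg T _ hrep
  have hroot : Polynomial.aeval b T.charpoly = 0 := by
    rw [Polynomial.aeval_algHom_apply] at hCH
    have := LinearMap.congr_fun hCH 1
    simpa using this
  have hmap : T.charpoly.map (Ideal.Quotient.mk I) = (X - 1) * X ^ n := by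
    rw [← Matrix.charpoly_map]
    have hT : T.map (Ideal.Quotient.mk I) =
        Matrix.diagonal (fun k => Ideal.Quotient.mk I (d k)) := by
      ext i j
      simp only [T, Matrix.map_apply, Matrix.add_apply, Matrix.of_apply, map_add,
        Ideal.Quotient.eq_zero_iff_mem.2 (hcI j i), add_zero]
      by_cases hij : i = j
      · subst hij; simp
      · simp [Matrix.diagonal_apply_ne _ hij]
    rw [hT, Matrix.charpoly_diagonal, Fintype.prod_option]
    simp [d]
  refine ⟨X * T.charpoly, n + 1, monic_X.mul (Matrix.charpoly_monic T), ?_, by omega, ?_⟩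
  · rw [map_mul, hroot, mul_zero]
  · rw [Polynomial.map_mul, Polynomial.map_X, hmap]
    ring

end Groth.Agent.S6887
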