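import Groth.Statements.S6888
import Mathlib.Tactic

set_option autoImplicit false
universe u
open Polynomial
open CAlg

namespace Groth.Agent.S6888

section aux

variable {A : Type u} [CommRing A] (I : Ideal A)

theorem idem_unique (hI : I ≤ Ideal.jacobson (⊥ : Ideal A)) {x y : A}
    (hx : IsIdempotentElem x) (hy : IsIdempotentElem y) (hxy : x - y ∈ I) : x = y := by
  have hx' : x * x = x := hx
  have hy' : y * y = y := hy
  set d := x - y with hd
  have hd3 : d * (d * (-d) + 1) = 0 := by
    have : d * (d * (-d) + 1) = (x - y) - (x * x * x - 3 * (x * x) * y + 3 * x * (y * y) - y * y * y) := by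
      rw [hd]; ring
    rw [this, hx', hx', hy', hy']
    ring
  have hu : IsUnit (d * (-d) + 1) := Ideal.mem_jacobson_bot.mp (hI hxy) (-d)
  have : d = 0 := (hu.mul_left_eq_zero).mp hd3
  exact sub_eq_zero.mp this

theorem key (hI : I ≤ Ideal.jacobson (⊥ : Ideal A))
    (hidem : ∀ e : A ⧸ I, IsIdempotentElem e →
      ∃ e' : A, IsIdempotentElem e' ∧ Ideal.Quotient.mk I e' = e)
    (n : ℕ) (a : Fin n → A) (a₀ : A) (h0 : ∏ i, (a₀ - a i) ∈ I)
    (hu : IsUnit (Ideal.Quotient.mk I (∑ j, ∏ i ∈ Finset.univ.erase j, (a₀ - a i)))) :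
    ∃ a' : A, ∏ i, (a' - a i) = 0 ∧ a' - a₀ ∈ I := by
  classical
  set π := Ideal.Quotient.mk I with hπ
  set u : Fin n → A ⧸ I := fun i => π (a₀ - a i) with hu_def
  have hP : ∏ i, u i = 0 := by
    rw [hu_def]
    simp only
    rw [← map_prod]
    exact Ideal.Quotient.eq_zero_iff_mem.mpr h0
  obtain ⟨w, hw⟩ := hu
  have hv : (w : A ⧸ I) = ∑ j, ∏ i ∈ Finset.univ.erase j, u i := by
    rw [hw, map_sum]
    refine Finset.sum_congr rfl fun j _ => ?_
    rw [map_prod]
  set e : Fin n → A ⧸ I := fun j => (↑w⁻¹ : A ⧸ I) * ∏ i ∈ Finset.univ.erase j, u i with he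
  have hsum : ∑ j, e j = 1 := by
    rw [he]
    simp only
    rw [← Finset.mul_sum, ← hv, Units.inv_mul]
  have heu : ∀ j, e j * u j = 0 := by
    intro j
    rw [he]
    simp only
    rw [mul_assoc, Finset.prod_erase_mul _ _ (Finset.mem_univ j), hP, mul_zero]
  have horth : ∀ j k, j ≠ k → e j * e k = 0 := by
    intro j k hjk
    have hk : k ∈ Finset.univ.erase j := Finset.mem_erase.mpr ⟨hjk.symm, Finset.mem_univ k⟩
    have h1 : ∏ i ∈ Finset.univ.erase j, u i = u k * ∏ i ∈ (Finset.univ.erase j).erase k, u i :=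
      (Finset.mul_prod_erase _ _ hk).symm
    have h2 : e j * e k = (↑w⁻¹ : A ⧸ I) * (∏ i ∈ (Finset.univ.erase j).erase k, u i) * (e k * u k) := by
      rw [he]
      simp only
      rw [h1]
      ring
    rw [h2, heu, mul_zero]
  have hidem_e : ∀ j, IsIdempotentElem (e j) := by
    intro j
    have : e j = e j * ∑ k, e k := by rw [hsum, mul_one]
    rw [Finset.mul_sum, Finset.sum_eq_single j (fun k _ hk => horth j k hk.symm)
      (fun h => absurd (Finset.mem_univ j) h)] at this
    exact this.symm
  choose E hE1 hE2 using fun j => hidem (e j) (hidem_e j)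
  have hEorth : ∀ j k, j ≠ k → E j * E k = 0 := by
    intro j k hjk
    apply idem_unique I hI ((hE1 j).mul (hE1 k)) IsIdempotentElem.zero
    rw [sub_zero, ← Ideal.Quotient.eq_zero_iff_mem, map_mul, hE2, hE2, horth j k hjk]
  have hEsum : ∑ j, E j = 1 := by
    apply idem_unique I hI _ IsIdempotentElem.one
    · rw [← Ideal.Quotient.eq_zero_iff_mem, map_sub, map_sum, map_one]
      rw [Finset.sum_congr rfl (fun j _ => hE2 j), hsum, sub_self]
    · change (∑ j, E j) * (∑ j, E j) = ∑ j, E j
      rw [Finset.sum_mul]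
      refine Finset.sum_congr rfl fun j _ => ?_
      rw [Finset.mul_sum, Finset.sum_eq_single j (fun k _ hk => hEorth j k hk.symm)
        (fun h => absurd (Finset.mem_univ j) h)]
      exact hE1 j
  refine ⟨∑ j, E j * a j, ?_, ?_⟩
  · have hk : ∀ k, E k * ∏ i, ((∑ j, E j * a j) - a i) = 0 := by
      intro k
      have h1 : E k * ((∑ j, E j * a j) - a k) = 0 := by
        rw [mul_sub, Finset.mul_sum, Finset.sum_eq_single k]
        · rw [← mul_assoc, (hE1 k).eq, sub_self]
        · intro j _ hj
          rw [← mul_assoc, hEorth k j hj.symm, zero_mul]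
        · intro h; exact absurd (Finset.mem_univ k) h
      rw [← Finset.mul_prod_erase _ _ (Finset.mem_univ k), ← mul_assoc, h1, zero_mul]
    calc ∏ i, ((∑ j, E j * a j) - a i) = (∑ k, E k) * ∏ i, ((∑ j, E j * a j) - a i) := by
          rw [hEsum, one_mul]
      _ = 0 := by
          rw [Finset.sum_mul]
          exact Finset.sum_eq_zero fun k _ => hk k
  · rw [← Ideal.Quotient.eq_zero_iff_mem, map_sub, map_sum]
    have : π a₀ = ∑ j, e j * π a₀ := by rw [← Finset.sum_mul, hsum, one_mul]
    rw [this, ← Finset.sum_sub_distrib]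
    refine Finset.sum_eq_zero fun j _ => ?_
    rw [map_mul, hE2]
    have := heu j
    rw [hu_def] at this
    simp only [map_sub] at this
    rw [mul_sub] at this
    rw [← neg_sub, this, neg_zero]

theorem factor_index (s : Multiset A) :
    ∃ (n : ℕ) (a : Fin n → A), (s.map fun a => (X - C a : A[X])).prod = ∏ i, (X - C (a i)) := by
  induction s using Quotient.inductionOn with
  | h l =>
    refine ⟨l.length, l.get, ?_⟩
    rw [Multiset.quot_mk_to_coe, Multiset.map_coe, Multiset.prod_coe, ← List.prod_ofFn]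
    congr 1
    conv_lhs => rw [← List.ofFn_get l]
    rw [List.map_ofFn]
    rfl

end aux

/-- Let `A` be absolutely integrally closed (every monic polynomial over `A` is a product of linear
factors) and `I ⊆ A` an ideal contained in the Jacobson radical such that `A → A/I` is surjective
(hence bijective) on idempotents. Then `(A, I)` is a henselian pair. (The published statement also
records the converse, which holds for every henselian pair; this row states the sufficiency only.) -/
theorem result (A : Type u) [CommRing A]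
    (hA : ∀ f : A[X], f.Monic → ∃ s : Multiset A, f = (s.map fun a => X - C a).prod) (I : Ideal A)
    (hI : I ≤ Ideal.jacobson (⊥ : Ideal A))
    (hidem : ∀ e : A ⧸ I, IsIdempotentElem e → ∃ e' : A, IsIdempotentElem e' ∧ Ideal.Quotient.mk I e' = e) :
    HenselianRing A I := by
  classical
  refine ⟨hI, ?_⟩
  intro f hf a₀ h0 hu
  obtain ⟨s, hs⟩ := hA f hf
  obtain ⟨n, a, ha⟩ := factor_index s
  rw [ha] at hs
  have heval : ∀ x : A, f.eval x = ∏ i, (x - a i) := by
    intro x
    rw [hs, Polynomial.eval_prod]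
    simp
  have hderiv : f.derivative.eval a₀ = ∑ j, ∏ i ∈ Finset.univ.erase j, (a₀ - a i) := by
    rw [hs, Polynomial.derivative_prod_finset, Polynomial.eval_finsetSum]
    refine Finset.sum_congr rfl fun j _ => ?_
    rw [Polynomial.eval_mul, Polynomial.eval_prod]
    simp
  rw [heval] at h0
  rw [hderiv] at hu
  obtain ⟨a', h1, h2⟩ := key I hI hidem n a a₀ h0 hu
  refine ⟨a', ?_, h2⟩
  rw [Polynomial.IsRoot, heval, h1]

end Groth.Agent.S6888
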