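import Groth.Statements.S6893
-- import your own Groth.Agent.* helpers here
import Groth.Agent.Lib.Helper23.MilnorFlat2

set_option autoImplicit false
universe u
open TensorProduct
open CAlg

namespace Groth.Agent.S6893

/-- Let `M` be a module over a ring `R` and `I₁, I₂ ⊆ R` ideals. Suppose flatness of `M/I₁M` as an
`R/I₁`-module holds, and likewise `M/I₂M` is a flat `R/I₂`-module; then the quotient `M/(I₁ ∩ I₂)M`
is also flat as a module over `R/(I₁ ∩ I₂)`. -/
theorem result {R : Type u} [CommRing R] (M : Type u) [AddCommGroup M] [Module R M]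
    (I₁ I₂ : Ideal R) [Module.Flat (R ⧸ I₁) ((R ⧸ I₁) ⊗[R] M)] [Module.Flat (R ⧸ I₂) ((R ⧸ I₂) ⊗[R] M)] :
    Module.Flat (R ⧸ (I₁ ⊓ I₂)) ((R ⧸ (I₁ ⊓ I₂)) ⊗[R] M) := by
  classical
  let B' := R ⧸ (I₁ ⊓ I₂)
  let B := R ⧸ I₁
  let A' := R ⧸ I₂
  let A := R ⧸ (I₁ ⊔ I₂)
  letI algB'B : Algebra B' B := (Ideal.Quotient.factor (inf_le_left : I₁ ⊓ I₂ ≤ I₁)).toAlgebra
  letI algB'A' : Algebra B' A' := (Ideal.Quotient.factor (inf_le_right : I₁ ⊓ I₂ ≤ I₂)).toAlgebra
  letI algBA : Algebra B A := (Ideal.Quotient.factor (le_sup_left : I₁ ≤ I₁ ⊔ I₂)).toAlgebra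
  letI algA'A : Algebra A' A := (Ideal.Quotient.factor (le_sup_right : I₂ ≤ I₁ ⊔ I₂)).toAlgebra
  letI algB'A : Algebra B' A :=
    (Ideal.Quotient.factor ((inf_le_left : I₁ ⊓ I₂ ≤ I₁).trans le_sup_left)).toAlgebra
  have hB'B : ∀ x : R, algebraMap B' B (Ideal.Quotient.mk _ x) = Ideal.Quotient.mk _ x := fun x => rfl
  have hB'A' : ∀ x : R, algebraMap B' A' (Ideal.Quotient.mk _ x) = Ideal.Quotient.mk _ x :=
    fun x => rfl
  have hBA : ∀ x : R, algebraMap B A (Ideal.Quotient.mk _ x) = Ideal.Quotient.mk _ x := fun x => rfl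
  have hA'A : ∀ x : R, algebraMap A' A (Ideal.Quotient.mk _ x) = Ideal.Quotient.mk _ x := fun x => rfl
  have hB'A : ∀ x : R, algebraMap B' A (Ideal.Quotient.mk _ x) = Ideal.Quotient.mk _ x := fun x => rfl
  haveI : IsScalarTower B' B A := IsScalarTower.of_algebraMap_eq (by
    intro x
    obtain ⟨x, rfl⟩ := Ideal.Quotient.mk_surjective x
    rw [hB'A, hB'B, hBA])
  haveI : IsScalarTower B' A' A := IsScalarTower.of_algebraMap_eq (by
    intro x
    obtain ⟨x, rfl⟩ := Ideal.Quotient.mk_surjective x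
    rw [hB'A, hB'A', hA'A])
  haveI : IsScalarTower R B' B := IsScalarTower.of_algebraMap_eq (fun x => rfl)
  haveI : IsScalarTower R B' A' := IsScalarTower.of_algebraMap_eq (fun x => rfl)
  have hsq : EtMil.IsFibreSquare B' B A' A := by
    refine ⟨?_, ?_⟩
    · intro a
      obtain ⟨x, rfl⟩ := Ideal.Quotient.mk_surjective a
      exact ⟨Ideal.Quotient.mk _ x, hA'A x⟩
    · intro b a' hba
      obtain ⟨x, rfl⟩ := Ideal.Quotient.mk_surjective b
      obtain ⟨y, rfl⟩ := Ideal.Quotient.mk_surjective a'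
      rw [hBA, hA'A, Ideal.Quotient.eq] at hba
      obtain ⟨i₁, hi₁, i₂, hi₂, hsum⟩ := Submodule.mem_sup.mp hba
      refine ⟨Ideal.Quotient.mk _ (x - i₁), ⟨?_, ?_⟩, ?_⟩
      · rw [hB'B, Ideal.Quotient.eq]
        have : x - i₁ - x = -i₁ := by ring
        rw [this]
        exact I₁.neg_mem hi₁
      · rw [hB'A', Ideal.Quotient.eq]
        have : x - i₁ - y = i₂ := by linear_combination (-1 : R) * hsum
        rw [this]
        exact hi₂
      · rintro z ⟨hz1, hz2⟩
        obtain ⟨z, rfl⟩ := Ideal.Quotient.mk_surjective z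
        rw [hB'B, Ideal.Quotient.eq] at hz1
        rw [hB'A', Ideal.Quotient.eq] at hz2
        rw [Ideal.Quotient.eq]
        refine ⟨?_, ?_⟩
        · have : z - (x - i₁) = (z - x) + i₁ := by ring
          rw [this]
          exact I₁.add_mem hz1 hi₁
        · have : z - (x - i₁) = (z - y) - i₂ := by linear_combination hsum
          rw [this]
          exact I₂.sub_mem hz2 hi₂
  haveI : Module.Flat B (B ⊗[B'] (B' ⊗[R] M)) :=
    Module.Flat.of_linearEquiv
      (TensorProduct.AlgebraTensorModule.cancelBaseChange R B' B B M)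
  haveI : Module.Flat A' (A' ⊗[B'] (B' ⊗[R] M)) :=
    Module.Flat.of_linearEquiv
      (TensorProduct.AlgebraTensorModule.cancelBaseChange R B' A' A' M)
  exact Helper23.MF.flat_of_fibreSquare hsq (B' ⊗[R] M)

end Groth.Agent.S6893
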