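import Groth.Statements.S6898
import Mathlib.Tactic
import Mathlib.RingTheory.Flat.EquationalCriterion
import Mathlib.LinearAlgebra.TensorProduct.Quotient

set_option autoImplicit false
universe u
open TensorProduct
open CAlg

namespace Groth.Agent.S6898

section
variable {A : Type u} [CommRing A] {M : Type u} [AddCommGroup M] [Module A M]

/-- finite representation of elements of `L • ⊤` -/
lemma exists_repr (L : Ideal A) (z : M) (hz : z ∈ L • (⊤ : Submodule A M)) :
    ∃ (t : ℕ) (b : Fin t → A) (n : Fin t → M), (∀ l, b l ∈ L) ∧ z = ∑ l, b l • n l := by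
  refine Submodule.smul_induction_on hz ?_ ?_
  · intro r hr n _
    exact ⟨1, fun _ => r, fun _ => n, fun _ => hr, by simp⟩
  · intro x y hx hy
    obtain ⟨t₁, b₁, n₁, hb₁, rfl⟩ := hx
    obtain ⟨t₂, b₂, n₂, hb₂, rfl⟩ := hy
    refine ⟨t₁ + t₂, Fin.append b₁ b₂, Fin.append n₁ n₂, ?_, ?_⟩
    · intro l
      refine Fin.addCases (fun i => ?_) (fun i => ?_) l
      · simpa using hb₁ i
      · simpa using hb₂ i
    · rw [Fin.sum_univ_add]
      simp

lemma exists_fg (I : Ideal A) (x : M) (hx : x ∈ I • (⊤ : Submodule A M)) :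
    ∃ I₀ : Ideal A, I₀ ≤ I ∧ I₀.FG ∧ x ∈ I₀ • (⊤ : Submodule A M) := by
  obtain ⟨t, b, n, hb, rfl⟩ := exists_repr I x hx
  refine ⟨Ideal.span (Set.range b), ?_, ?_, ?_⟩
  · rw [Ideal.span_le]; rintro _ ⟨l, rfl⟩; exact hb l
  · exact Submodule.fg_span (Set.finite_range b)
  · apply Submodule.sum_mem
    intro l _
    exact Submodule.smul_mem_smul (Ideal.subset_span ⟨l, rfl⟩) trivial

/-- colon via flatness -/
lemma colon_flat [Module.Flat A M] (L : Ideal A) (a : A) (n : M)
    (h : a • n ∈ L • (⊤ : Submodule A M)) :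
    ∃ (s : ℕ) (c : Fin s → A) (y : Fin s → M), n = ∑ j, c j • y j ∧ ∀ j, a * c j ∈ L := by
  obtain ⟨t, b, n', hb, hsum⟩ := exists_repr L _ h
  have hrel : ∑ i : Option (Fin t), (Option.elim i a (fun l => - b l)) • (Option.elim i n n') = 0 := by
    rw [Fintype.sum_option]
    simp only [Option.elim_none, Option.elim_some, neg_smul, Finset.sum_neg_distrib]
    rw [hsum, add_neg_cancel]
  obtain ⟨k, α, y, hx, hα⟩ := Module.Flat.isTrivialRelation_of_sum_smul_eq_zero hrel
  refine ⟨k, α none, y, by simpa using hx none, fun j => ?_⟩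
  have := hα j
  rw [Fintype.sum_option] at this
  simp only [Option.elim_none, Option.elim_some, neg_mul, Finset.sum_neg_distrib] at this
  have h2 : a * α none j = ∑ l, b l * α (some l) j := by linear_combination this
  rw [h2]
  exact Ideal.sum_mem _ (fun l _ => Ideal.mul_mem_right _ _ (hb l))

lemma one_tmul_eq_zero_iff [IsLocalRing A] (m₀ : M) :
    ((1 : IsLocalRing.ResidueField A) ⊗ₜ[A] m₀ = 0) ↔
      m₀ ∈ IsLocalRing.maximalIdeal A • (⊤ : Submodule A M) := by
  have h1 := TensorProduct.quotTensorEquivQuotSMul_mk_one_tmul (M := M) (IsLocalRing.maximalIdeal A) m₀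
  constructor
  · intro h
    have h2 : (TensorProduct.quotTensorEquivQuotSMul M (IsLocalRing.maximalIdeal A))
        ((1 : A ⧸ IsLocalRing.maximalIdeal A) ⊗ₜ[A] m₀) = 0 := by
      have : ((1 : A ⧸ IsLocalRing.maximalIdeal A) ⊗ₜ[A] m₀) = 0 := h
      rw [this, map_zero]
    rw [h1, Submodule.Quotient.mk_eq_zero] at h2
    exact h2
  · intro h
    have h2 : (TensorProduct.quotTensorEquivQuotSMul M (IsLocalRing.maximalIdeal A))
        ((1 : A ⧸ IsLocalRing.maximalIdeal A) ⊗ₜ[A] m₀) = 0 := by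
      rw [h1, Submodule.Quotient.mk_eq_zero]; exact h
    exact (LinearEquiv.map_eq_zero_iff _).mp h2

end


/-- Let `(A, 𝔪)` be a local ring and `u : M → N` a linear map between flat `A`-modules whose reduction
`M/𝔪M → N/𝔪N` is injective. If `I` is the content ideal of some `x ∈ M` (the least ideal `I` with `x
∈ IM`), then `I` is also the least ideal `J` with `u(x) ∈ J·N`. -/
theorem result {A : Type u} [CommRing A] [IsLocalRing A] {M N : Type u}
    [AddCommGroup M] [Module A M] [Module.Flat A M] [AddCommGroup N] [Module A N] [Module.Flat A N] (u : M →ₗ[A] N)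
    (hu : Function.Injective (u.baseChange (IsLocalRing.ResidueField A))) (x : M) (I : Ideal A)
    (hx : IsLeast {J : Ideal A | x ∈ J • (⊤ : Submodule A M)} I) :
    IsLeast {J : Ideal A | u x ∈ J • (⊤ : Submodule A N)} I := by
  obtain ⟨hxI, hleast⟩ := hx
  have hxI' : x ∈ I • (⊤ : Submodule A M) := hxI
  have map_mem : ∀ (L : Ideal A) (z : M), z ∈ L • (⊤ : Submodule A M) →
      u z ∈ L • (⊤ : Submodule A N) := by
    intro L z hz
    have : u z ∈ (L • (⊤ : Submodule A M)).map u := Submodule.mem_map_of_mem hz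
    rw [Submodule.map_smul''] at this
    exact Submodule.smul_mono le_rfl le_top this
  refine ⟨map_mem I x hxI', ?_⟩
  intro J hJ
  have hJ' : u x ∈ J • (⊤ : Submodule A N) := hJ
  -- I is finitely generated
  have hIfg : I.FG := by
    obtain ⟨I₀, hI₀, hfg, hx₀⟩ := exists_fg I x hxI'
    have : I ≤ I₀ := hleast hx₀
    rw [le_antisymm this hI₀]; exact hfg
  set 𝔪 := IsLocalRing.maximalIdeal A with h𝔪
  -- Nakayama
  apply Submodule.le_of_le_smul_of_le_jacobson_bot hIfg (IsLocalRing.maximalIdeal_le_jacobson ⊥)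
  by_contra hnot
  set K : Ideal A := I ⊓ (J ⊔ 𝔪 • I) with hK
  have hmIK : 𝔪 • I ≤ K := by
    rw [hK]
    refine le_inf ?_ le_sup_right
    rw [smul_eq_mul]; exact (Ideal.mul_le_right : 𝔪 * I ≤ I)
  have : Module.Finite A ↥I := Module.Finite.iff_fg.mpr hIfg
  set K' : Submodule A ↥I := Submodule.comap I.subtype K with hK'
  have hK'ne : K' ≠ ⊤ := by
    intro htop
    apply hnot
    intro z hz
    have : (⟨z, hz⟩ : ↥I) ∈ K' := by rw [htop]; trivial
    exact (Submodule.mem_inf.mp this).2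
  obtain ⟨H', hH'coatom, hK'H'⟩ := (eq_top_or_exists_le_coatom K').resolve_left hK'ne
  obtain ⟨a', -, ha'⟩ := SetLike.exists_of_lt (lt_top_iff_ne_top.mpr hH'coatom.1)
  have hsup : H' ⊔ Submodule.span A {a'} = ⊤ := by
    apply hH'coatom.2
    apply lt_of_le_of_ne le_sup_left
    intro heq
    apply ha'
    rw [heq]
    exact Submodule.mem_sup_right (Submodule.mem_span_singleton_self a')
  set H : Ideal A := H'.map I.subtype with hH
  set a : A := (a' : A) with ha
  have haI : a ∈ I := a'.2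
  have haH : a ∉ H := by
    intro h
    obtain ⟨b, hb, hba⟩ := Submodule.mem_map.mp h
    have : b = a' := Subtype.ext hba
    exact ha' (this ▸ hb)
  have hIH : I ≤ H ⊔ Ideal.span {a} := by
    intro z hz
    have : (⟨z, hz⟩ : ↥I) ∈ H' ⊔ Submodule.span A {a'} := by rw [hsup]; trivial
    obtain ⟨h', hh', w, hw, hsum⟩ := Submodule.mem_sup.mp this
    obtain ⟨c, rfl⟩ := Submodule.mem_span_singleton.mp hw
    have hz' : z = (h' : A) + c * a := by
      have := congrArg Subtype.val hsum
      simpa using this.symm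
    rw [hz']
    exact Submodule.add_mem_sup (Submodule.mem_map_of_mem hh')
      (Ideal.mul_mem_left _ _ (Ideal.mem_span_singleton_self a))
  have hKH : K ≤ H := by
    intro z hz
    have hzI : z ∈ I := (Submodule.mem_inf.mp hz).1
    have : (⟨z, hzI⟩ : ↥I) ∈ H' := hK'H' hz
    exact Submodule.mem_map.mpr ⟨⟨z, hzI⟩, this, rfl⟩
  -- decompose x
  have hx1 : x ∈ H • (⊤ : Submodule A M) ⊔ (Ideal.span {a}) • (⊤ : Submodule A M) := by
    rw [← Submodule.sup_smul]
    exact Submodule.smul_mono hIH le_rfl hxI'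
  obtain ⟨h, hh, z, hz, hxz⟩ := Submodule.mem_sup.mp hx1
  rw [Submodule.ideal_span_singleton_smul, Submodule.mem_smul_pointwise_iff_exists] at hz
  obtain ⟨m₀, -, rfl⟩ := hz
  -- a • u m₀ ∈ (J ⊔ H) • ⊤
  have h1 : a • u m₀ ∈ (J ⊔ H) • (⊤ : Submodule A N) := by
    have e : a • u m₀ = u x - u h := by
      rw [← hxz, map_add, map_smul]; abel
    rw [e, Submodule.sup_smul]
    exact Submodule.sub_mem _ (Submodule.mem_sup_left hJ') (Submodule.mem_sup_right (map_mem H h hh))
  obtain ⟨s, c, y, hum, hc⟩ := colon_flat (J ⊔ H) a (u m₀) h1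
  have haJH : a ∉ J ⊔ H := by
    intro h2
    obtain ⟨j₀, hj₀, h₀, hh₀, hsum⟩ := Submodule.mem_sup.mp h2
    have hh₀I : h₀ ∈ I := Submodule.map_subtype_le I H' hh₀
    have hj₀I : j₀ ∈ I := by
      have : j₀ = a - h₀ := by rw [← hsum]; ring
      rw [this]; exact Submodule.sub_mem _ haI hh₀I
    have hj₀K : j₀ ∈ K := Submodule.mem_inf.mpr ⟨hj₀I, Submodule.mem_sup_left hj₀⟩
    apply haH
    rw [← hsum]
    exact Submodule.add_mem _ (hKH hj₀K) hh₀
  have hcm : ∀ j, c j ∈ 𝔪 := by
    intro j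
    by_contra hcj
    have hunit : IsUnit (c j) := by
      by_contra hnu
      exact hcj ((IsLocalRing.mem_maximalIdeal _).mpr hnu)
    obtain ⟨v, hv⟩ := hunit
    apply haJH
    have : a = (↑v⁻¹ : A) * (a * c j) := by
      rw [← hv]; rw [mul_comm a, ← mul_assoc, Units.inv_mul, one_mul]
    rw [this]
    exact Ideal.mul_mem_left _ _ (hc j)
  have humm : u m₀ ∈ 𝔪 • (⊤ : Submodule A N) := by
    rw [hum]
    exact Submodule.sum_mem _ (fun j _ => Submodule.smul_mem_smul (hcm j) trivial)
  have hm₀ : m₀ ∈ 𝔪 • (⊤ : Submodule A M) := by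
    rw [← one_tmul_eq_zero_iff]
    apply hu
    rw [LinearMap.baseChange_tmul, map_zero]
    exact (one_tmul_eq_zero_iff (u m₀)).mpr humm
  have ham₀ : a • m₀ ∈ H • (⊤ : Submodule A M) := by
    refine Submodule.smul_induction_on hm₀ ?_ ?_
    · intro t ht n _
      rw [smul_smul]
      refine Submodule.smul_mem_smul ?_ Submodule.mem_top
      apply hKH
      apply hmIK
      rw [mul_comm, smul_eq_mul]
      exact Ideal.mul_mem_mul ht haI
    · intro p q hp hq
      rw [smul_add]; exact Submodule.add_mem _ hp hq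
  have hxH : x ∈ H • (⊤ : Submodule A M) := by
    rw [← hxz]; exact Submodule.add_mem _ hh ham₀
  exact haH (hleast hxH haI)

end Groth.Agent.S6898
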