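import Groth.Statements.S6899
-- import your own Groth.Agent.* helpers here
import Mathlib
import Groth.Agent.Lib.Helper23.Milnor

set_option autoImplicit false
universe u
open TensorProduct
open EtAlg

namespace Groth.Agent.S6899

/-- Let `B' = B ×_A A'` be a fibre square of rings with `A' → A` surjective, and let `(N₁, M₁', φ₁) →
(N₂, M₂', φ₂)` be a morphism of glueing data (a `B`-linear `u : N₁ → N₂` and an `A'`-linear `v : M₁'
→ M₂'` compatible with the `φ_i`) with `u` and `v` surjective. Then the induced map of glued modules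
`N₁ ×_{φ₁} M₁' → N₂ ×_{φ₂} M₂'` is surjective. -/
theorem result (B' B A' A : Type u) [CommRing B'] [CommRing B] [CommRing A'] [CommRing A]
    [Algebra B' B] [Algebra B' A'] [Algebra B A] [Algebra A' A] [Algebra B' A] [IsScalarTower B' B A] [IsScalarTower B' A' A]
    (hsq : EtMil.IsFibreSquare B' B A' A)
    {N₁ N₂ M₁' M₂' : Type u} [AddCommGroup N₁] [Module B N₁] [Module B' N₁] [IsScalarTower B' B N₁]
    [AddCommGroup N₂] [Module B N₂] [Module B' N₂] [IsScalarTower B' B N₂]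
    [AddCommGroup M₁'] [Module A' M₁'] [Module B' M₁'] [IsScalarTower B' A' M₁']
    [AddCommGroup M₂'] [Module A' M₂'] [Module B' M₂'] [IsScalarTower B' A' M₂']
    (φ₁ : A ⊗[B] N₁ ≃ₗ[A] A ⊗[A'] M₁') (φ₂ : A ⊗[B] N₂ ≃ₗ[A] A ⊗[A'] M₂') (u : N₁ →ₗ[B] N₂) (v : M₁' →ₗ[A'] M₂')
    (hc : (v.baseChange A).comp φ₁.toLinearMap = φ₂.toLinearMap.comp (u.baseChange A))
    (hu : Function.Surjective u) (hv : Function.Surjective v) :
    ∀ y : N₂ × M₂', y ∈ EtMil.glue B' φ₂ → ∃ x : N₁ × M₁', x ∈ EtMil.glue B' φ₁ ∧ u x.1 = y.1 ∧ v x.2 = y.2 := by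
  rintro ⟨n₂, m₂⟩ hy
  have hy' : φ₂ ((1 : A) ⊗ₜ[B] n₂) = (1 : A) ⊗ₜ[A'] m₂ := hy
  obtain ⟨n₁, rfl⟩ := hu n₂
  obtain ⟨m₁, hm₁⟩ := Helper23.Mil.exists_one_tmul hsq.1 (φ₁ ((1 : A) ⊗ₜ[B] n₁))
  have h1 : (1 : A) ⊗ₜ[A'] v m₁ = (1 : A) ⊗ₜ[A'] m₂ := by
    have := LinearMap.congr_fun hc ((1 : A) ⊗ₜ[B] n₁)
    simp only [LinearMap.comp_apply, LinearEquiv.coe_coe, LinearMap.baseChange_tmul] at this
    rw [← hm₁, LinearMap.baseChange_tmul, hy'] at this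
    exact this
  have h2 : v m₁ - m₂ ∈ (RingHom.ker (algebraMap A' A)) • (⊤ : Submodule A' M₂') := by
    rw [← Helper23.Mil.one_tmul_eq_zero_iff hsq.1, TensorProduct.tmul_sub, h1, sub_self]
  have h3 : ∀ z ∈ (RingHom.ker (algebraMap A' A)) • (⊤ : Submodule A' M₂'),
      ∃ d ∈ (RingHom.ker (algebraMap A' A)) • (⊤ : Submodule A' M₁'), v d = z := by
    intro z hz
    refine Submodule.smul_induction_on (p := fun z => ∃ d ∈ (RingHom.ker (algebraMap A' A)) •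
      (⊤ : Submodule A' M₁'), v d = z) hz ?_ ?_
    · intro j hj μ _
      obtain ⟨μ', rfl⟩ := hv μ
      exact ⟨j • μ', Submodule.smul_mem_smul hj Submodule.mem_top, map_smul _ _ _⟩
    · rintro x y ⟨d₁, hd₁, rfl⟩ ⟨d₂, hd₂, rfl⟩
      exact ⟨d₁ + d₂, add_mem hd₁ hd₂, map_add _ _ _⟩
  obtain ⟨d, hd, hvd⟩ := h3 _ h2
  refine ⟨(n₁, m₁ - d), ?_, rfl, ?_⟩
  · change φ₁ ((1 : A) ⊗ₜ[B] n₁) = (1 : A) ⊗ₜ[A'] (m₁ - d)
    rw [TensorProduct.tmul_sub, (Helper23.Mil.one_tmul_eq_zero_iff hsq.1 d).mpr hd, sub_zero, hm₁]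
  · change v (m₁ - d) = m₂
    rw [map_sub, hvd]
    abel

end Groth.Agent.S6899
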