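import Groth.Statements.S6909
import Mathlib.Tactic

set_option autoImplicit false
universe u
open CAlg

namespace Groth.Agent.S6909

section aux

variable {A : Type u} [CommRing A] (I : Ideal A)

theorem map_pow_smul_mem {P Q : Type u} [AddCommGroup P] [Module A P] [AddCommGroup Q] [Module A Q]
    (h : P →ₗ[A] Q) (m : ℕ) (hh : ∀ x, h x ∈ I ^ m • (⊤ : Submodule A Q)) (k : ℕ) {x : P}
    (hx : x ∈ I ^ k • (⊤ : Submodule A P)) : h x ∈ I ^ (k + m) • (⊤ : Submodule A Q) := by
  have h1 : Submodule.map h (I ^ k • ⊤) ≤ I ^ (k + m) • ⊤ := by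
    rw [Submodule.map_smul'', pow_add, Submodule.mul_smul]
    apply Submodule.smul_mono le_rfl
    rintro _ ⟨y, -, rfl⟩
    exact hh y
  exact h1 (Submodule.mem_map_of_mem hx)

theorem pow_smul_anti {P : Type u} [AddCommGroup P] [Module A P] {k l : ℕ} (hkl : k ≤ l) :
    I ^ l • (⊤ : Submodule A P) ≤ I ^ k • (⊤ : Submodule A P) :=
  Submodule.smul_mono_left (Ideal.pow_le_pow_right hkl)

theorem step {L M N : Type u} [AddCommGroup L] [Module A L]
    [AddCommGroup M] [Module A M] [AddCommGroup N] [Module A N]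
    (f f' : L →ₗ[A] M) (g g' : M →ₗ[A] N) (c : ℕ) (hgf' : g'.comp f' = 0)
    (hf : (∀ n : ℕ, c ≤ n → LinearMap.range f ⊓ (I ^ n • (⊤ : Submodule A M)) ≤ Submodule.map f (I ^ (n - c) • (⊤ : Submodule A L))))
    (hg : (∀ n : ℕ, c ≤ n → LinearMap.range g ⊓ (I ^ n • (⊤ : Submodule A N)) ≤ Submodule.map g (I ^ (n - c) • (⊤ : Submodule A M))))
    (hex : Function.Exact f g)
    (hff' : ∀ x : L, f x - f' x ∈ I ^ (c + 1) • (⊤ : Submodule A M))
    (hgg' : ∀ y : M, g y - g' y ∈ I ^ (c + 1) • (⊤ : Submodule A N))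
    (n : ℕ) (hn : c ≤ n) (a : M) (ha : g' a ∈ I ^ n • (⊤ : Submodule A N)) :
    ∀ r, r ≤ n - c → ∃ b : L, a - f' b ∈ I ^ r • (⊤ : Submodule A M) := by
  intro r
  induction r with
  | zero => intro _; exact ⟨0, by simp⟩
  | succ r ih =>
    intro hr
    obtain ⟨b, hb⟩ := ih (by omega)
    set ar := a - f' b with har
    have hg'ar : g' ar = g' a := by
      have : g' (f' b) = 0 := LinearMap.congr_fun hgf' b
      rw [har, map_sub, this, sub_zero]
    have h1 : (g - g') ar ∈ I ^ (r + (c + 1)) • (⊤ : Submodule A N) :=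
      map_pow_smul_mem I (g - g') (c + 1) (fun y => by simpa using hgg' y) r hb
    have h2 : g ar ∈ I ^ (r + (c + 1)) • (⊤ : Submodule A N) := by
      have : g ar = g' ar + (g - g') ar := by simp
      rw [this, hg'ar]
      exact Submodule.add_mem _ (pow_smul_anti I (by omega) ha) h1
    have h3 := hg (r + (c + 1)) (by omega) ⟨⟨ar, rfl⟩, h2⟩
    have hrc : r + (c + 1) - c = r + 1 := by omega
    rw [hrc] at h3
    obtain ⟨a1, ha1, hga1⟩ := h3
    have h4 : g (ar - a1) = 0 := by rw [map_sub, hga1, sub_self]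
    obtain ⟨b0, hb0⟩ := (hex (ar - a1)).mp h4
    have h5 : f b0 ∈ I ^ r • (⊤ : Submodule A M) := by
      rw [hb0]
      exact Submodule.sub_mem _ hb (pow_smul_anti I (by omega) ha1)
    have h6 : ∃ b1 : L, f b1 = ar - a1 ∧ (f - f') b1 ∈ I ^ (r + 1) • (⊤ : Submodule A M) := by
      by_cases hcr : c ≤ r
      · obtain ⟨b1, hb1, hfb1⟩ := hf r hcr ⟨⟨b0, rfl⟩, h5⟩
        refine ⟨b1, hfb1.trans hb0, ?_⟩
        have := map_pow_smul_mem I (f - f') (c + 1) (fun y => by simpa using hff' y) (r - c) hb1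
        have e : r - c + (c + 1) = r + 1 := by omega
        rwa [e] at this
      · refine ⟨b0, hb0, ?_⟩
        have : (f - f') b0 ∈ I ^ (c + 1) • (⊤ : Submodule A M) := by simpa using hff' b0
        exact pow_smul_anti I (by omega) this
    obtain ⟨b1, hb1, hb1'⟩ := h6
    refine ⟨b + b1, ?_⟩
    have : a - f' (b + b1) = a1 + (f - f') b1 := by
      have e1 : a - f' (b + b1) = ar - f' b1 := by rw [har, map_add]; abel
      have e2 : (f - f') b1 = f b1 - f' b1 := by simp
      rw [e1, e2, hb1]; abel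
    rw [this]
    exact Submodule.add_mem _ ha1 hb1'

end aux

/-- Let `A` be a Noetherian ring, `I ⊆ A` an ideal inside the Jacobson radical, and `L → M → N` two
complexes `(f, g)` and `(f', g')` of finite `A`-modules with `f' ≡ f` modulo `I^{c+1}M` and `g' ≡ g`
modulo `I^{c+1}N`. If `c` works in the Artin–Rees lemma for `f` and for `g` (that is `f(L) ∩ IⁿM ⊆
f(I^{n-c}L)` for `n ≥ c`, and likewise for `g`) and `(f, g)` is exact, then `c` works for `g'` and
`(f', g')` is exact. -/
theorem result {A : Type u} [CommRing A] [IsNoetherianRing A] (I : Ideal A)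
    (hI : I ≤ Ideal.jacobson (⊥ : Ideal A)) {L M N : Type u} [AddCommGroup L] [Module A L] [Module.Finite A L]
    [AddCommGroup M] [Module A M] [Module.Finite A M] [AddCommGroup N] [Module A N] [Module.Finite A N]
    (f f' : L →ₗ[A] M) (g g' : M →ₗ[A] N) (c : ℕ) (hgf : g.comp f = 0) (hgf' : g'.comp f' = 0)
    (hf : (∀ n : ℕ, c ≤ n → LinearMap.range f ⊓ (I ^ n • (⊤ : Submodule A M)) ≤ Submodule.map f (I ^ (n - c) • (⊤ : Submodule A L))))
    (hg : (∀ n : ℕ, c ≤ n → LinearMap.range g ⊓ (I ^ n • (⊤ : Submodule A N)) ≤ Submodule.map g (I ^ (n - c) • (⊤ : Submodule A M))))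
    (hex : Function.Exact f g)
    (hff' : ∀ x : L, f x - f' x ∈ I ^ (c + 1) • (⊤ : Submodule A M))
    (hgg' : ∀ y : M, g y - g' y ∈ I ^ (c + 1) • (⊤ : Submodule A N)) :
    (∀ n : ℕ, c ≤ n → LinearMap.range g' ⊓ (I ^ n • (⊤ : Submodule A N)) ≤ Submodule.map g' (I ^ (n - c) • (⊤ : Submodule A M))) ∧
    Function.Exact f' g' := by
  have hstep := fun n hn a ha => step I f f' g g' c hgf' hf hg hex hff' hgg' n hn a ha
  refine ⟨?_, ?_⟩
  · rintro n hn _ ⟨⟨a, rfl⟩, ha⟩
    obtain ⟨b, hb⟩ := hstep n hn a ha (n - c) le_rfl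
    refine ⟨a - f' b, hb, ?_⟩
    have : g' (f' b) = 0 := LinearMap.congr_fun hgf' b
    rw [map_sub, this, sub_zero]
  · intro a
    constructor
    · intro ha
      have hq : (LinearMap.range f').mkQ a ∈ (⨅ i : ℕ, I ^ i • ⊤ : Submodule A (M ⧸ LinearMap.range f')) := by
        rw [Submodule.mem_iInf]
        intro i
        obtain ⟨b, hb⟩ := hstep (i + c) (by omega) a (by rw [ha]; exact Submodule.zero_mem _) i (by omega)
        have e : (LinearMap.range f').mkQ a = (LinearMap.range f').mkQ (a - f' b) := by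
          rw [map_sub]
          have : (LinearMap.range f').mkQ (f' b) = 0 := by
            rw [Submodule.mkQ_apply, Submodule.Quotient.mk_eq_zero]
            exact ⟨b, rfl⟩
          rw [this, sub_zero]
        rw [e]
        have := Submodule.mem_map_of_mem (f := (LinearMap.range f').mkQ) hb
        rwa [Submodule.map_smul'', Submodule.map_top, Submodule.range_mkQ] at this
      rw [Ideal.iInf_pow_smul_eq_bot_of_le_jacobson I hI, Submodule.mem_bot, Submodule.mkQ_apply,
        Submodule.Quotient.mk_eq_zero] at hq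
      exact hq
    · rintro ⟨b, rfl⟩
      exact LinearMap.congr_fun hgf' b

end Groth.Agent.S6909
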