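import Groth.Statements.S6931
import Mathlib.LinearAlgebra.Dimension.Localization
import Mathlib.RingTheory.Localization.BaseChange
import Mathlib.LinearAlgebra.Dimension.Constructions
import Mathlib.LinearAlgebra.Dimension.Free
-- import your own Groth.Agent.* helpers here

set_option autoImplicit false
universe u
open TensorProduct
open CAlg

namespace Groth.Agent.S6931


open TensorProduct nonZeroDivisors in
theorem rank_fractionRing_tensor (R : Type u) [CommRing R] [IsDomain R] (M : Type u)
    [AddCommGroup M] [Module R M] :
    Module.rank (FractionRing R) (FractionRing R ⊗[R] M) = Module.rank R M := by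
  have h1 : Module.rank (FractionRing R) (FractionRing R ⊗[R] M) =
      Module.rank R (FractionRing R ⊗[R] M) := IsLocalization.rank_eq (FractionRing R) R⁰ le_rfl
  have : IsLocalizedModule R⁰ (TensorProduct.mk R (FractionRing R) M 1) :=
    (isLocalizedModule_iff_isBaseChange R⁰ (FractionRing R) _).2
      (TensorProduct.isBaseChange R M (FractionRing R))
  have h2 := IsLocalizedModule.rank_eq R⁰ (le_rfl) (TensorProduct.mk R (FractionRing R) M 1)
  rw [h1, h2]

/-- For an injective map of domains `R → R'` and any `R`-module `M`, the rank of `R' ⊗_R M` over `R'`
equals the rank of `M` over `R` (rank over a domain = dimension over the fraction field after base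
change). -/
theorem result (R R' : Type u) [CommRing R] [IsDomain R] [CommRing R'] [IsDomain R']
    [Algebra R R'] (h : Function.Injective (algebraMap R R')) (M : Type u) [AddCommGroup M] [Module R M] :
    Module.rank R' (R' ⊗[R] M) = Module.rank R M := by
  have : FaithfulSMul R R' := (faithfulSMul_iff_algebraMap_injective R R').2 h
  have : FaithfulSMul R (FractionRing R') := by
    rw [faithfulSMul_iff_algebraMap_injective, IsScalarTower.algebraMap_eq R R' (FractionRing R')]
    exact (IsFractionRing.injective R' (FractionRing R')).comp h
  let _ := FractionRing.liftAlgebra R (FractionRing R')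
  have := FractionRing.isScalarTower_liftAlgebra R (FractionRing R')
  let e := TensorProduct.AlgebraTensorModule.cancelBaseChange R R' (FractionRing R') (FractionRing R') M
  let e' := TensorProduct.AlgebraTensorModule.cancelBaseChange R (FractionRing R) (FractionRing R')
    (FractionRing R') M
  rw [← rank_fractionRing_tensor R' (R' ⊗[R] M), e.rank_eq, ← e'.rank_eq, Module.rank_baseChange,
    Cardinal.lift_id, rank_fractionRing_tensor]

end Groth.Agent.S6931
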