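import Groth.Statements.S6912
import Groth.Agent.S6931
import Mathlib.Algebra.Module.FinitePresentation
import Mathlib.LinearAlgebra.FreeModule.Finite.Matrix
import Mathlib.RingTheory.Flat.Localization
-- import your own Groth.Agent.* helpers here

set_option autoImplicit false
universe u
open TensorProduct
open CAlg

namespace Groth.Agent.S6912

/-- Let `R` be a domain and `M`, `N` two `R`-modules; rank means dimension over the fraction field after
base change. Then `rank (M ⊗_R N) = rank M · rank N`, and when `M` is finitely presented also `rank
Hom_R(M, N) = rank M · rank N`. -/
theorem result (R : Type u) [CommRing R] [IsDomain R] (M N : Type u)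
    [AddCommGroup M] [Module R M] [AddCommGroup N] [Module R N] :
    Module.rank R (M ⊗[R] N) = Module.rank R M * Module.rank R N ∧
    (Module.FinitePresentation R M → Module.rank R (M →ₗ[R] N) = Module.rank R M * Module.rank R N) := by
  constructor
  · rw [← Groth.Agent.S6931.rank_fractionRing_tensor R (M ⊗[R] N),
      (TensorProduct.AlgebraTensorModule.distribBaseChange R (FractionRing R) M N).rank_eq,
      rank_tensorProduct', Groth.Agent.S6931.rank_fractionRing_tensor,
      Groth.Agent.S6931.rank_fractionRing_tensor]
  · intro hM
    have hbc := Module.FinitePresentation.isBaseChange_map R M N (FractionRing R)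
    rw [← Groth.Agent.S6931.rank_fractionRing_tensor R (M →ₗ[R] N), hbc.equiv.rank_eq,
      Module.rank_linearMap, Cardinal.lift_id, Cardinal.lift_id,
      Groth.Agent.S6931.rank_fractionRing_tensor, Groth.Agent.S6931.rank_fractionRing_tensor]

end Groth.Agent.S6912
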