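import Groth.Statements.S6913
import Mathlib

set_option autoImplicit false
universe u
open CAlg

namespace Groth.Agent.S6913

/-- Let `R` be a domain and `M` a finite `R`-module, of (finite) rank `r`. Then: some linear map `M →
R^r` has torsion kernel and torsion cokernel; some nonzero `f ∈ R` makes `M_f` free of rank `r` over
`R_f`; and some injective linear map `R^r → M` has torsion cokernel. -/
theorem result (R : Type u) [CommRing R] [IsDomain R] (M : Type u) [AddCommGroup M]
    [Module R M] [Module.Finite R M] :
    (∃ h : M →ₗ[R] (Fin (Module.finrank R M) → R),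
      (∀ x : M, h x = 0 → ∃ c : R, c ≠ 0 ∧ c • x = 0) ∧
      (∀ y : Fin (Module.finrank R M) → R, ∃ c : R, c ≠ 0 ∧ c • y ∈ LinearMap.range h)) ∧
    (∃ f : R, f ≠ 0 ∧ Module.Free (Localization.Away f) (LocalizedModule (Submonoid.powers f) M) ∧
      Module.finrank (Localization.Away f) (LocalizedModule (Submonoid.powers f) M) = Module.finrank R M) ∧
    (∃ g : (Fin (Module.finrank R M) → R) →ₗ[R] M, Function.Injective g ∧
      ∀ x : M, ∃ c : R, c ≠ 0 ∧ c • x ∈ LinearMap.range g) := by
  classical
  obtain ⟨v, hv⟩ := exists_linearIndependent_of_le_finrank (R := R) (M := M) (le_refl _)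
  -- the map g
  have hginj : Function.Injective (Fintype.linearCombination R v) :=
    linearIndependent_iff_injective_fintypeLinearCombination.mp hv
  have hrange : LinearMap.range (Fintype.linearCombination R v) = Submodule.span R (Set.range v) :=
    Fintype.range_linearCombination R v
  -- torsion cokernel
  have htors : ∀ x : M, ∃ c : R, c ≠ 0 ∧ c • x ∈ LinearMap.range (Fintype.linearCombination R v) := by
    intro x
    by_contra hcon
    push Not at hcon
    have hli : LinearIndependent R (Fin.cons x v : Fin (Module.finrank R M).succ → M) := by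
      refine LinearIndependent.finCons' x v hv ?_
      intro c y hy hcy
      by_contra hc
      refine hcon c hc ?_
      rw [hrange]
      have : c • x = -y := eq_neg_of_add_eq_zero_left hcy
      rw [this]
      exact Submodule.neg_mem _ hy
    have := hli.fintype_card_le_finrank
    simp at this
  -- a common denominator
  obtain ⟨f, hf0, hf⟩ : ∃ f : R, f ≠ 0 ∧
      ∀ x : M, f • x ∈ LinearMap.range (Fintype.linearCombination R v) := by
    obtain ⟨S, hS⟩ := (Module.Finite.fg_top : (⊤ : Submodule R M).FG)
    choose c hc0 hc using htors
    refine ⟨∏ s ∈ S, c s, Finset.prod_ne_zero_iff.mpr fun s _ => hc0 s, ?_⟩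
    intro x
    have hx : x ∈ Submodule.span R (S : Set M) := by rw [hS]; trivial
    induction hx using Submodule.span_induction with
    | mem y hy =>
      have hy' : y ∈ S := hy
      rw [← Finset.mul_prod_erase S c hy', mul_comm, mul_smul]
      exact Submodule.smul_mem _ _ (hc y)
    | zero => rw [smul_zero]; exact Submodule.zero_mem _
    | add y z _ _ hy hz => rw [smul_add]; exact Submodule.add_mem _ hy hz
    | smul a y _ hy => rw [smul_comm]; exact Submodule.smul_mem _ _ hy
  refine ⟨?_, ?_, ⟨Fintype.linearCombination R v, hginj, htors⟩⟩
  · -- h = g⁻¹ ∘ (f • ·)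
    let e := LinearEquiv.ofInjective (Fintype.linearCombination R v) hginj
    let φ : M →ₗ[R] LinearMap.range (Fintype.linearCombination R v) :=
      LinearMap.codRestrict _ (f • LinearMap.id) (fun x => hf x)
    refine ⟨e.symm.toLinearMap ∘ₗ φ, ?_, ?_⟩
    · intro x hx
      refine ⟨f, hf0, ?_⟩
      have h1 : φ x = 0 := by
        have : e.symm (φ x) = 0 := hx
        simpa using this
      have := congrArg Subtype.val h1
      simpa [φ] using this
    · intro y
      refine ⟨f, hf0, ⟨Fintype.linearCombination R v y, ?_⟩⟩
      have h2 : φ (Fintype.linearCombination R v y) = e (f • y) := by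
        apply Subtype.ext
        simp [φ, e]
      change e.symm (φ (Fintype.linearCombination R v y)) = f • y
      rw [h2, LinearEquiv.symm_apply_apply]
  · refine ⟨f, hf0, ?_⟩
    have hle : Submonoid.powers f ≤ nonZeroDivisors R :=
      Submonoid.powers_le.mpr (mem_nonZeroDivisors_of_ne_zero hf0)
    have : IsDomain (Localization.Away f) :=
      IsLocalization.isDomain_localization hle
    have hli' : LinearIndependent (Localization.Away f)
        (LocalizedModule.mkLinearMap (Submonoid.powers f) M ∘ v) :=
      hv.of_isLocalizedModule (Localization.Away f) (Submonoid.powers f) _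
    have hspan : ⊤ ≤ Submodule.span (Localization.Away f)
        (Set.range (LocalizedModule.mkLinearMap (Submonoid.powers f) M ∘ v)) := by
      intro z _
      induction z using LocalizedModule.induction_on with
      | h m s =>
        have hfm : (⟨f, Submonoid.mem_powers f⟩ : Submonoid.powers f) = ⟨f, Submonoid.mem_powers f⟩ := rfl
        rw [← LocalizedModule.mk_cancel_common_left (⟨f, Submonoid.mem_powers f⟩ : Submonoid.powers f) s m]
        have h3 : LocalizedModule.mk ((⟨f, Submonoid.mem_powers f⟩ : Submonoid.powers f) • m)
            ((⟨f, Submonoid.mem_powers f⟩ : Submonoid.powers f) * s) =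
            Localization.mk 1 ((⟨f, Submonoid.mem_powers f⟩ : Submonoid.powers f) * s) •
              LocalizedModule.mkLinearMap (Submonoid.powers f) M (f • m) := by
          rw [LocalizedModule.mkLinearMap_apply, LocalizedModule.mk_smul_mk, one_smul, mul_one]
          rfl
        rw [h3]
        refine Submodule.smul_mem _ _ ?_
        obtain ⟨y, hy⟩ := hf m
        rw [← hy, Fintype.linearCombination_apply, map_sum]
        refine Submodule.sum_mem _ fun i _ => ?_
        rw [map_smul, ← algebraMap_smul (Localization.Away f)]
        exact Submodule.smul_mem _ _ (Submodule.subset_span ⟨i, rfl⟩)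
    let b := Module.Basis.mk hli' hspan
    refine ⟨Module.Free.of_basis b, ?_⟩
    rw [Module.finrank_eq_card_basis b, Fintype.card_fin]

end Groth.Agent.S6913
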