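import Groth.Statements.S6917
-- import your own Groth.Agent.* helpers here
import Groth.Agent.Lib.Helper23.MilnorSpec
import Groth.Agent.Lib.Helper23.TopPushout

set_option autoImplicit false
universe u
open CategoryTheory
open EtAlg

namespace Groth.Agent.S6917

/-- Let `B' = B ×_A A'` be a fibre square of rings with `A' → A` surjective. Then `Spec(B') = Spec(B)
⨿_{Spec(A)} Spec(A')`: the square of prime spectra is a pushout of topological spaces. -/
theorem result (B' B A' A : Type u) [CommRing B'] [CommRing B] [CommRing A'] [CommRing A]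
    [Algebra B' B] [Algebra B' A'] [Algebra B A] [Algebra A' A] [Algebra B' A] [IsScalarTower B' B A] [IsScalarTower B' A' A]
    (hsq : EtMil.IsFibreSquare B' B A' A) :
    IsPushout (TopCat.ofHom (ContinuousMap.mk (PrimeSpectrum.comap (algebraMap B A)) (PrimeSpectrum.continuous_comap _))) (TopCat.ofHom (ContinuousMap.mk (PrimeSpectrum.comap (algebraMap A' A)) (PrimeSpectrum.continuous_comap _)))
      (TopCat.ofHom (ContinuousMap.mk (PrimeSpectrum.comap (algebraMap B' B)) (PrimeSpectrum.continuous_comap _)))
      (TopCat.ofHom (ContinuousMap.mk (PrimeSpectrum.comap (algebraMap B' A')) (PrimeSpectrum.continuous_comap _))) := by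
  have w : TopCat.ofHom (ContinuousMap.mk (PrimeSpectrum.comap (algebraMap B A))
        (PrimeSpectrum.continuous_comap _)) ≫
      TopCat.ofHom (ContinuousMap.mk (PrimeSpectrum.comap (algebraMap B' B))
        (PrimeSpectrum.continuous_comap _)) =
      TopCat.ofHom (ContinuousMap.mk (PrimeSpectrum.comap (algebraMap A' A))
        (PrimeSpectrum.continuous_comap _)) ≫
      TopCat.ofHom (ContinuousMap.mk (PrimeSpectrum.comap (algebraMap B' A'))
        (PrimeSpectrum.continuous_comap _)) := by
    apply TopCat.ext
    intro p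
    exact Helper23.MSp.comm_sq (B' := B') (B := B) (A' := A') p
  refine Helper23.TopPushout.isPushout_of _ _ _ _ w ?_ ?_
  · have : Mono ((forget TopCat).map (TopCat.ofHom (ContinuousMap.mk
        (PrimeSpectrum.comap (algebraMap B' B)) (PrimeSpectrum.continuous_comap _)))) := by
      rw [mono_iff_injective]
      exact Helper23.MSp.rB_injective hsq
    refine Limits.Types.isPushout_of_isPullback_of_mono' ?_ ?_ ?_
    · rw [Limits.Types.isPullback_iff]
      refine ⟨?_, ?_, ?_⟩
      · rw [← Functor.map_comp, ← Functor.map_comp, w]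
      · rintro x y ⟨_, h2⟩
        exact Helper23.MSp.lA_injective hsq h2
      · intro q p' h
        exact Helper23.MSp.exists_of_eq hsq q p' h
    · rw [Set.eq_univ_iff_forall]
      intro P
      rcases Helper23.MSp.mem_range_or hsq P with ⟨q, hq⟩ | ⟨p', hp'⟩
      · exact Or.inl ⟨q, hq⟩
      · exact Or.inr ⟨p', hp'⟩
    · intro p₁ p₂ h₁ _ h
      exact Helper23.MSp.inj_off hsq p₁ p₂ h₁ h
  · intro Z h1 h2
    exact Helper23.MSp.isClosed_of_preimages hsq Z h1 h2

end Groth.Agent.S6917
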