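import Groth.Statements.S6919
import Mathlib
import Groth.Agent.Lib.Helper5.StalkBCF
import Groth.Agent.Lib.Helper17.FlatTensor
import Groth.Agent.Lib.Helper26.FlatLocBase

set_option autoImplicit false
universe u
open FlatMor

namespace Groth.Agent.S6919

open TensorProduct

theorem flat_localization_of_pushout {R S R' S' : Type u} [CommRing R] [CommRing S] [CommRing R']
    [CommRing S'] [Algebra R S] [Algebra R R'] [Algebra S S'] [Algebra R' S'] [Algebra R S']
    [IsScalarTower R S S'] [IsScalarTower R R' S'] [Algebra.IsPushout R S R' S']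
    (p' : Ideal R') [p'.IsPrime] (q' : Ideal S') [q'.IsPrime]
    (hq' : q'.comap (algebraMap R' S') = p')
    [Module.Flat R (Localization.AtPrime p')] : Module.Flat S (Localization.AtPrime q') := by
  let Rp' := Localization.AtPrime p'
  let N := S' ⊗[R'] Rp'
  let e : N ≃ₗ[S] S ⊗[R] Rp' := Algebra.IsPushout.cancelBaseChange R S R' S' Rp'
  haveI : Module.Flat S N := Module.Flat.of_linearEquiv e
  let T := q'.primeCompl
  have hunits : ∀ s : p'.primeCompl,
      IsUnit (algebraMap R' (Module.End R' (LocalizedModule T S')) s) := by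
    intro s
    have hs : algebraMap R' S' s ∈ T := by
      show algebraMap R' S' s ∉ q'
      intro hmem
      have h2 : (s : R') ∈ q'.comap (algebraMap R' S') := hmem
      rw [hq'] at h2
      exact s.2 h2
    have h1 := IsLocalizedModule.map_units (LocalizedModule.mkLinearMap T S')
      ⟨algebraMap R' S' s, hs⟩
    rw [Module.End.isUnit_iff] at h1 ⊢
    convert h1 using 1
    ext x
    simp only [Module.algebraMap_end_apply]
    rw [algebraMap_smul]
  let ψ : R' →ₗ[R'] LocalizedModule T S' :=
    ((LocalizedModule.mkLinearMap T S').restrictScalars R') ∘ₗ (Algebra.linearMap R' S')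
  let φ : Rp' →ₗ[R'] LocalizedModule T S' :=
    IsLocalizedModule.lift p'.primeCompl (Algebra.linearMap R' Rp') ψ hunits
  let lam : N →ₗ[S'] LocalizedModule T S' := LinearMap.liftBaseChange S' φ
  let g : S' →ₗ[S'] N := LinearMap.toSpanSingleton S' N (1 ⊗ₜ 1)
  have hφ1 : φ 1 = LocalizedModule.mkLinearMap T S' 1 := by
    have := IsLocalizedModule.lift_apply p'.primeCompl (Algebra.linearMap R' Rp') ψ hunits 1
    simpa [φ, ψ] using this
  have hlg : ∀ m, lam (g m) = LocalizedModule.mkLinearMap T S' m := by
    intro m
    have h3 : lam ((1 : S') ⊗ₜ[R'] (1 : Rp')) = φ 1 := by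
      show (LinearMap.liftBaseChange S' φ) ((1 : S') ⊗ₜ[R'] (1 : Rp')) = φ 1
      rw [LinearMap.liftBaseChange_tmul, one_smul]
    simp only [g, LinearMap.toSpanSingleton_apply, map_smul]
    rw [h3, hφ1, ← map_smul, smul_eq_mul, mul_one]
  exact Groth.Agent.Lib.Helper26.FlatLocBase.flat_localized_of_factor (R' := S) T g lam hlg

theorem flat_descent {R A A' : Type u} [CommRing R] [CommRing A] [CommRing A'] [Algebra R A]
    [Algebra A A'] [Algebra R A'] [IsScalarTower R A A'] [Module.FaithfullyFlat A A']
    {X L : Type u} [AddCommGroup X] [Module A X] [Module R X] [IsScalarTower R A X]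
    [AddCommGroup L] [Module A' L] [Module A L] [IsScalarTower A A' L] [Module R L]
    [IsScalarTower R A' L]
    (l : X →ₗ[A] L) (hl : IsBaseChange A' l) [Module.Flat R L] : Module.Flat R X := by
  have e : A' ⊗[A] X ≃ₗ[R] L := hl.equiv.restrictScalars R
  have : Module.Flat R (A' ⊗[A] X) := Module.Flat.of_linearEquiv e
  exact Groth.Agent.Lib.Helper17.FlatTensor.flat_of_flat_tensor X this

theorem main {R S R' S' : Type u} [CommRing R] [CommRing S] [CommRing R'] [CommRing S']
    [Algebra R S] [Algebra R R'] [Algebra S S'] [Algebra R' S'] [Algebra R S'] [IsScalarTower R S S']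
    [IsScalarTower R R' S'] [Algebra.IsPushout R S R' S']
    (I : Ideal R) (I' : Ideal R') (hII' : I.map (algebraMap R R') ≤ I')
    {M M' : Type u} [AddCommGroup M] [Module S M] [Module R M] [IsScalarTower R S M]
    [AddCommGroup M'] [Module S' M'] [Module R' M'] [IsScalarTower R' S' M'] [Module S M'] [IsScalarTower S S' M']
    (f : M →ₗ[S] M') (hf : IsBaseChange S' f) (J : Ideal S)
    (hsurj : ∀ (p : Ideal R) [p.IsPrime], I ≤ p → ∃ (p' : Ideal R') (_ : p'.IsPrime), I' ≤ p' ∧ p'.comap (algebraMap R R') = p)
    (hflat : ∀ (p' : Ideal R') [p'.IsPrime], I' ≤ p' → Module.Flat R (Localization.AtPrime p'))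
    (h : (∀ (q : Ideal S') [q.IsPrime], I'.map (algebraMap R' S') ⊔ J.map (algebraMap S S') ≤ q → FlatCA.FlatAt R' q M')) :
    (∀ (q : Ideal S) [q.IsPrime], I.map (algebraMap R S) ⊔ J ≤ q → FlatCA.FlatAt R q M) := by
  intro q _ hq
  set p : Ideal R := q.comap (algebraMap R S) with hp
  haveI : p.IsPrime := Ideal.comap_isPrime _ _
  have hIp : I ≤ p := by
    intro i hi
    show algebraMap R S i ∈ q
    exact hq (Ideal.mem_sup_left (Ideal.mem_map_of_mem _ hi))
  obtain ⟨p', hp'prime, hI'p', hp'p⟩ := hsurj p hIp
  haveI := hp'prime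
  obtain ⟨q', hq'prime, hq'q, hq'p'⟩ :=
    Groth.Agent.Lib.Helper5.StalkBC.exists_prime_of_isPushout R S R' S' q p' (by rw [hp'p])
  haveI := hq'prime
  have hq'big : I'.map (algebraMap R' S') ⊔ J.map (algebraMap S S') ≤ q' := by
    refine sup_le ?_ ?_
    · rw [Ideal.map_le_iff_le_comap, hq'p']; exact hI'p'
    · rw [Ideal.map_le_iff_le_comap, hq'q]; exact le_trans le_sup_right hq
  have hL : Module.Flat R' (LocalizedModule q'.primeCompl M') := h q' hq'big
  haveI : Module.Flat R (Localization.AtPrime p') := hflat p' hI'p'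
  haveI : q'.LiesOver q := ⟨hq'q.symm⟩
  haveI : q'.LiesOver p' := ⟨hq'p'.symm⟩
  letI algAA' : Algebra (Localization.AtPrime q) (Localization.AtPrime q') :=
    Localization.AtPrime.algebraOfLiesOver q q'
  letI algPA' : Algebra (Localization.AtPrime p') (Localization.AtPrime q') :=
    Localization.AtPrime.algebraOfLiesOver p' q'
  -- flatness of A'
  haveI hSA' : Module.Flat S (Localization.AtPrime q') :=
    flat_localization_of_pushout (R := R) (S := S) p' q' hq'p'
  haveI hAA' : Module.Flat (Localization.AtPrime q) (Localization.AtPrime q') :=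
    (Module.flat_iff_of_isLocalization (Localization.AtPrime q) q.primeCompl _).mpr hSA'
  haveI : IsLocalHom (algebraMap (Localization.AtPrime q) (Localization.AtPrime q')) :=
    Localization.isLocalHom_localRingHom q q' (algebraMap S S') Ideal.LiesOver.over
  haveI : Module.FaithfullyFlat (Localization.AtPrime q) (Localization.AtPrime q') :=
    Module.FaithfullyFlat.of_flat_of_isLocalHom
  -- the module L and its structures
  let A := Localization.AtPrime q
  let A' := Localization.AtPrime q'
  let Rp' := Localization.AtPrime p'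
  let Mq := LocalizedModule q.primeCompl M
  let L := LocalizedModule q'.primeCompl M'
  letI modAL : Module A L := Module.compHom L (algebraMap A A')
  haveI towAA'L : IsScalarTower A A' L := IsScalarTower.of_algebraMap_smul fun r x => rfl
  letI modRL : Module R L := Module.compHom L (algebraMap R A')
  haveI towRA'L : IsScalarTower R A' L := IsScalarTower.of_algebraMap_smul fun r x => rfl
  letI modPL : Module Rp' L := Module.compHom L (algebraMap Rp' A')
  haveI towPA'L : IsScalarTower Rp' A' L := IsScalarTower.of_algebraMap_smul fun r x => rfl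
  haveI towR'PL : IsScalarTower R' Rp' L := by
    refine IsScalarTower.of_algebraMap_smul fun r x => ?_
    show algebraMap Rp' A' (algebraMap R' Rp' r) • x = r • x
    rw [← IsScalarTower.algebraMap_apply R' Rp' A', algebraMap_smul]
  haveI towRPL : IsScalarTower R Rp' L := by
    refine IsScalarTower.of_algebraMap_smul fun r x => ?_
    show algebraMap Rp' A' (algebraMap R Rp' r) • x = algebraMap R A' r • x
    rw [← IsScalarTower.algebraMap_apply R Rp' A']
  haveI flatPL : Module.Flat Rp' L :=
    (Module.flat_iff_of_isLocalization Rp' p'.primeCompl L).mpr hL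
  haveI flatRL : Module.Flat R L := Module.Flat.trans R Rp' L
  haveI towSAL : IsScalarTower S A L := by
    refine IsScalarTower.of_algebraMap_smul fun r x => ?_
    show algebraMap A A' (algebraMap S A r) • x = r • x
    rw [← IsScalarTower.algebraMap_apply S A A', algebraMap_smul]
  -- the map l
  have hunits : ∀ s : q.primeCompl, IsUnit (algebraMap S
      (Module.End S (LocalizedModule q'.primeCompl M')) s) := by
    intro s
    have hs : algebraMap S S' s ∈ q'.primeCompl := by
      show algebraMap S S' s ∉ q'
      intro hmem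
      have h2 : (s : S) ∈ q'.comap (algebraMap S S') := hmem
      rw [hq'q] at h2
      exact s.2 h2
    have h1 := IsLocalizedModule.map_units (LocalizedModule.mkLinearMap q'.primeCompl M')
      ⟨algebraMap S S' s, hs⟩
    rw [Module.End.isUnit_iff] at h1 ⊢
    convert h1 using 1
    ext x
    simp only [Module.algebraMap_end_apply]
    rw [algebraMap_smul]
  let l₀ : Mq →ₗ[S] L :=
    IsLocalizedModule.lift q.primeCompl (LocalizedModule.mkLinearMap q.primeCompl M)
      (((LocalizedModule.mkLinearMap q'.primeCompl M').restrictScalars S) ∘ₗ f) hunits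
  let l : Mq →ₗ[A] L := LinearMap.extendScalarsOfIsLocalization q.primeCompl A l₀
  have h₁ : IsBaseChange A (LocalizedModule.mkLinearMap q.primeCompl M) :=
    IsLocalizedModule.isBaseChange q.primeCompl A _
  have h₂ : IsBaseChange A' (LocalizedModule.mkLinearMap q'.primeCompl M') :=
    IsLocalizedModule.isBaseChange q'.primeCompl A' _
  have h₃ : IsBaseChange A' (((LocalizedModule.mkLinearMap q'.primeCompl M').restrictScalars S).comp f) :=
    hf.comp h₂
  have hl : IsBaseChange A' l := by
    refine IsBaseChange.of_comp h₁ ?_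
    have : (l : Mq →ₗ[S] L) ∘ₗ (LocalizedModule.mkLinearMap q.primeCompl M) =
        ((LocalizedModule.mkLinearMap q'.primeCompl M').restrictScalars S).comp f := by
      ext x
      simp [l, l₀, IsLocalizedModule.lift_apply]
    rw [this]
    exact h₃
  exact flat_descent (R := R) (A := A) (A' := A') l hl


/-- Let `R → S` be a ring map, `J ⊆ S` an ideal, `M` an `S`-module and `I ⊆ R` an ideal; let `R → R'` be
a ring map and `I' ⊆ R'` an ideal containing `IR'`, and put `S' = S ⊗_R R'`, `M' = M ⊗_R R'`. Assume
that every prime of `R` containing `I` is the contraction of a prime of `R'` containing `I'`, and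
that `R'_{𝔭'}` is flat over `R` for every prime `𝔭' ⊇ I'`. If `M'_{𝔮'}` is flat over `R'` for every
prime `𝔮' ⊇ I'S' + JS'` of `S'`, then `M_𝔮` is flat over `R` for every prime `𝔮 ⊇ IS + J` of `S`.
(The published statement descends from a pair `(R'', I'')` to an arbitrary pair `(R', I')` over `R`;
this row takes `(R', I') = (R, I)`.) -/
theorem result {R S R' S' : Type u} [CommRing R] [CommRing S] [CommRing R'] [CommRing S']
    [Algebra R S] [Algebra R R'] [Algebra S S'] [Algebra R' S'] [Algebra R S'] [IsScalarTower R S S']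
    [IsScalarTower R R' S'] [Algebra.IsPushout R S R' S']
    (I : Ideal R) (I' : Ideal R') (hII' : I.map (algebraMap R R') ≤ I')
    {M M' : Type u} [AddCommGroup M] [Module S M] [Module R M] [IsScalarTower R S M]
    [AddCommGroup M'] [Module S' M'] [Module R' M'] [IsScalarTower R' S' M'] [Module S M'] [IsScalarTower S S' M']
    (f : M →ₗ[S] M') (hf : IsBaseChange S' f) (J : Ideal S)
    (hsurj : ∀ (p : Ideal R) [p.IsPrime], I ≤ p → ∃ (p' : Ideal R') (_ : p'.IsPrime), I' ≤ p' ∧ p'.comap (algebraMap R R') = p)
    (hflat : ∀ (p' : Ideal R') [p'.IsPrime], I' ≤ p' → Module.Flat R (Localization.AtPrime p'))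
    (h : (∀ (q : Ideal S') [q.IsPrime], I'.map (algebraMap R' S') ⊔ J.map (algebraMap S S') ≤ q → FlatCA.FlatAt R' q M')) :
    (∀ (q : Ideal S) [q.IsPrime], I.map (algebraMap R S) ⊔ J ≤ q → FlatCA.FlatAt R q M) := by
  exact main I I' hII' f hf J hsurj hflat h

end Groth.Agent.S6919
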