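import Groth.Statements.S6920
import Groth.Agent.Lib.helper10.EpiLinear

set_option autoImplicit false
universe u
open CategoryTheory CategoryTheory.Limits MonoidalCategory
open DRing

namespace Groth.Agent.S6920
open Groth.Agent.Lib.helper10.EpiLinear

theorem result (R S : Type u) [CommRing R] [CommRing S] (φ : R →+* S)
    (hφ : Epi (CommRingCat.ofHom φ)) (I : DRing.Cx S)
    [CochainComplex.IsKInjective ((DRing.restrictCx φ).obj I)] : CochainComplex.IsKInjective I := by
  refine ⟨fun {K} f hK => ?_⟩
  obtain ⟨h⟩ := CochainComplex.IsKInjective.nonempty_homotopy_zero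
    ((DRing.restrictCx φ).map f) (restrictCx_acyclic φ K hK)
  choose g hg using fun i j => restrictScalars_map_surjective φ hφ (K.X i) (I.X j) (h.hom i j)
  refine ⟨{ hom := g, zero := ?_, comm := ?_ }⟩
  · intro i j hij
    apply (ModuleCat.restrictScalars φ).map_injective
    rw [hg, h.zero i j hij]
    exact ((ModuleCat.restrictScalars φ).map_zero _ _).symm
  · intro i
    apply (ModuleCat.restrictScalars φ).map_injective
    have := h.comm i
    change (ModuleCat.restrictScalars φ).map (f.f i) = _ at this
    rw [this]
    simp only [dNext_eq _ (show (ComplexShape.up ℤ).Rel i (i+1) from rfl),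
      prevD_eq _ (show (ComplexShape.up ℤ).Rel (i-1) i by simp), Functor.map_add, Functor.map_comp,
      hg, HomologicalComplex.zero_f, Functor.map_zero]
    rfl

end Groth.Agent.S6920
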