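import Groth.Statements.S6929
import Mathlib.RingTheory.Adjoin.Tower
import Mathlib.RingTheory.FiniteType
-- import your own Groth.Agent.* helpers here

set_option autoImplicit false
universe u
open EtAlg

namespace Groth.Agent.S6929


theorem finiteType_pi (R : Type*) [CommRing R] {ι : Type*} [Fintype ι] (A : ι → Type*)
    [∀ i, CommRing (A i)] [∀ i, Algebra R (A i)] (hA : ∀ i, Algebra.FiniteType R (A i)) :
    Algebra.FiniteType R (∀ i, A i) := by
  classical
  choose s hs using fun i => (hA i).out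
  refine ⟨⟨(Finset.univ.image fun i : ι => (Pi.single i (1 : A i) : ∀ i, A i)) ∪
    (Finset.univ.biUnion fun i : ι => (s i).image fun g => (Pi.single i g : ∀ i, A i)), ?_⟩⟩
  set T := Algebra.adjoin R (↑((Finset.univ.image fun i : ι => (Pi.single i (1 : A i) : ∀ i, A i)) ∪
    (Finset.univ.biUnion fun i : ι => (s i).image fun g => (Pi.single i g : ∀ i, A i))) :
      Set (∀ i, A i)) with hT
  have h1 : ∀ i : ι, (Pi.single i (1 : A i) : ∀ i, A i) ∈ T := fun i =>
    Algebra.subset_adjoin (by simp)
  have hg : ∀ i : ι, ∀ g ∈ s i, (Pi.single i g : ∀ i, A i) ∈ T := fun i g hg =>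
    Algebra.subset_adjoin (by
      rw [Finset.coe_union]
      refine Or.inr ?_
      rw [Finset.mem_coe, Finset.mem_biUnion]
      exact ⟨i, Finset.mem_univ _, Finset.mem_image.2 ⟨g, hg, rfl⟩⟩)
  have hall : ∀ i : ι, ∀ a : A i, (Pi.single i a : ∀ i, A i) ∈ T := by
    intro i a
    have ha : a ∈ Algebra.adjoin R (↑(s i) : Set (A i)) := by rw [hs i]; trivial
    induction ha using Algebra.adjoin_induction with
    | mem x hx => exact hg i x hx
    | algebraMap r =>
      have : (Pi.single i (algebraMap R (A i) r) : ∀ i, A i) = r • Pi.single i (1 : A i) := by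
        rw [← Pi.single_smul, Algebra.smul_def, mul_one]
      rw [this]
      exact T.smul_mem (h1 i) r
    | add x y _ _ hx hy =>
      rw [Pi.single_add]
      exact T.add_mem hx hy
    | mul x y _ _ hx hy =>
      rw [Pi.single_mul]
      exact T.mul_mem hx hy
  rw [eq_top_iff]
  intro f _
  rw [← Finset.univ_sum_single f]
  exact T.sum_mem fun i _ => hall i (f i)

/-- Let `R` be a Noetherian ring, `ι` a finite index type, and `φ_i : A_i → B_i`, `ψ_i : Q → B_i`
surjective `R`-algebra maps, where `Q` and all `A_i`, `B_i` are `R`-algebras of finite type. Then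
the fibre product ring `P = Q ×_{∏ B_i} ∏ A_i` (pairs `(q, a)` with `ψ_i(q) = φ_i(a_i)` for all `i`)
is an `R`-algebra of finite type. -/
theorem result (R : Type u) [CommRing R] [IsNoetherianRing R] {ι : Type u} [Fintype ι]
    (Q : Type u) [CommRing Q] [Algebra R Q] [Algebra.FiniteType R Q] (A B : ι → Type u) [∀ i, CommRing (A i)]
    [∀ i, CommRing (B i)] [∀ i, Algebra R (A i)] [∀ i, Algebra R (B i)] (hA : ∀ i, Algebra.FiniteType R (A i))
    (hB : ∀ i, Algebra.FiniteType R (B i)) (φ : ∀ i, A i →ₐ[R] B i) (ψ : ∀ i, Q →ₐ[R] B i)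
    (hφ : ∀ i, Function.Surjective (φ i)) (hψ : ∀ i, Function.Surjective (ψ i)) :
    Algebra.FiniteType R ↥(AlgHom.equalizer ((AlgHom.pi ψ).comp (AlgHom.fst R Q (∀ i, A i)))
      ((AlgHom.pi fun i => (φ i).comp (Pi.evalAlgHom R A i)).comp (AlgHom.snd R Q (∀ i, A i)))) := by
  classical
  set E := AlgHom.equalizer ((AlgHom.pi ψ).comp (AlgHom.fst R Q (∀ i, A i)))
      ((AlgHom.pi fun i => (φ i).comp (Pi.evalAlgHom R A i)).comp (AlgHom.snd R Q (∀ i, A i))) with hE
  have hmem : ∀ x : Q × (∀ i, A i), x ∈ E ↔ ∀ i, ψ i x.1 = φ i (x.2 i) := by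
    intro x
    simp only [hE, AlgHom.mem_equalizer]
    constructor
    · intro h i
      exact congr_fun h i
    · intro h
      funext i
      exact h i
  have hAfin : Algebra.FiniteType R (∀ i, A i) := finiteType_pi R A hA
  refine ⟨fg_of_fg_of_fg (A := R) (B := E) (C := Q × (∀ i, A i)) (Algebra.FiniteType.out) ?_
    Subtype.val_injective⟩
  choose lφ hlφ using hφ
  choose lψ hlψ using hψ
  refine ⟨insert ((1 : Q), (0 : ∀ i, A i)) (Finset.univ.image fun i : ι =>
    ((0 : Q), (Pi.single i (1 : A i) : ∀ i, A i))), ?_⟩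
  rw [eq_top_iff]
  rintro ⟨q, a⟩ -
  set S := Submodule.span E (↑(insert ((1 : Q), (0 : ∀ i, A i)) (Finset.univ.image fun i : ι =>
    ((0 : Q), (Pi.single i (1 : A i) : ∀ i, A i)))) : Set (Q × (∀ i, A i))) with hS
  have h10 : ((1 : Q), (0 : ∀ i, A i)) ∈ S := Submodule.subset_span (by simp)
  have hgen : ∀ i : ι, ((0 : Q), (Pi.single i (1 : A i) : ∀ i, A i)) ∈ S := fun i =>
    Submodule.subset_span (by
      simp only [Finset.coe_insert, Finset.coe_image, Finset.coe_univ, Set.image_univ,
        Set.mem_insert_iff, Set.mem_range]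
      exact Or.inr ⟨i, rfl⟩)
  have hq : (q, (0 : ∀ i, A i)) ∈ S := by
    have hmemE : (q, fun i => lφ i (ψ i q)) ∈ E := by
      rw [hmem]; intro i; exact (hlφ i _).symm
    have := S.smul_mem (⟨_, hmemE⟩ : E) h10
    simpa [Subalgebra.smul_def] using this
  have hai : ∀ i : ι, ((0 : Q), (Pi.single i (a i) : ∀ i, A i)) ∈ S := by
    intro i
    set qi := lψ i (φ i (a i)) with hqi
    have hmemE : (qi, Function.update (fun k => lφ k (ψ k qi)) i (a i)) ∈ E := by
      rw [hmem]
      intro k
      by_cases hk : k = i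
      · subst hk
        simp only [Function.update_self]
        exact hlψ k _
      · simp only [Function.update_of_ne hk]
        exact (hlφ k _).symm
    have := S.smul_mem (⟨_, hmemE⟩ : E) (hgen i)
    have heq : (⟨_, hmemE⟩ : E) • ((0 : Q), (Pi.single i (1 : A i) : ∀ i, A i)) =
        ((0 : Q), (Pi.single i (a i) : ∀ i, A i)) := by
      rw [Subalgebra.smul_def]
      ext k
      · simp
      · simp only [smul_eq_mul, Prod.mk_mul_mk, Pi.mul_apply]
        by_cases hk : k = i
        · subst hk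
          simp
        · simp [Pi.single_eq_of_ne hk]
    rw [heq] at this
    exact this
  have hsum : (q, a) = (q, (0 : ∀ i, A i)) + ∑ i : ι, ((0 : Q), (Pi.single i (a i) : ∀ i, A i)) := by
    ext k
    · simp [Prod.fst_sum]
    · simp [Prod.snd_sum, Finset.sum_apply, Finset.sum_pi_single]
  rw [hsum]
  exact S.add_mem hq (S.sum_mem fun i _ => hai i)

end Groth.Agent.S6929
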