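import Groth.Statements.S6933
import Mathlib.Algebra.Category.Grp.EpiMono
-- import your own Groth.Agent.* helpers here

set_option autoImplicit false
universe u
open CategoryTheory
open InjHull

namespace Groth.Agent.S6933

/-- An abelian group `J` that is injective as an object of the category of abelian groups is divisible:
`n J = J` for every nonzero integer `n`. (The published statement is an equivalence; this row states
the implication from injective to divisible.) -/
theorem result (J : Type u) [AddCommGroup J] (hJ : Injective (AddCommGrpCat.of J))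
    (n : ℤ) (hn : n ≠ 0) (x : J) : ∃ y : J, n • y = x := by
  let Z := ULift.{u} ℤ
  let i : Z →+ Z := (n • AddMonoidHom.id Z)
  let φ : Z →+ J := (zmultiplesHom J x).comp (AddEquiv.ulift (α := ℤ)).toAddMonoidHom
  have hi : Function.Injective i := by
    intro a b hab
    have h1 : n • a = n • b := hab
    have h2 : n * a.down = n * b.down := by
      have := congrArg ULift.down h1
      exact this
    exact ULift.ext _ _ (mul_left_cancel₀ hn h2)
  have hmono : Mono (AddCommGrpCat.ofHom i) := (AddCommGrpCat.mono_iff_injective _).2 hi
  have : Injective (AddCommGrpCat.of J) := hJ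
  let ψ := Injective.factorThru (AddCommGrpCat.ofHom φ) (AddCommGrpCat.ofHom i)
  have hψ : AddCommGrpCat.ofHom i ≫ ψ = AddCommGrpCat.ofHom φ := Injective.comp_factorThru _ _
  refine ⟨ψ.hom ⟨1⟩, ?_⟩
  have h1 := congrArg (fun g => g.hom (⟨1⟩ : Z)) hψ
  simp only [AddCommGrpCat.hom_comp, AddCommGrpCat.hom_ofHom, AddMonoidHom.comp_apply] at h1
  have h2 : i ⟨1⟩ = n • (⟨1⟩ : Z) := rfl
  rw [h2, map_zsmul] at h1
  rw [h1]
  show ((1 : ℤ) • x) = x
  exact one_zsmul x

end Groth.Agent.S6933
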