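import Groth.Statements.S6934
-- import your own Groth.Agent.* helpers here
import Mathlib.RingTheory.Localization.Away.Basic

set_option autoImplicit false
universe u
open EtAlg

namespace Groth.Agent.S6934

/-- Let `s : B → R`, `t : R' → R` be ring maps and `B' = B ×_R R'` the fibre product ring, i.e. a ring
`B'` with maps `p : B' → B`, `q : B' → R'`, `s ∘ p = t ∘ q`, such that `(p, q)` is injective with
image the pairs `(b, r')` with `s(b) = t(r')`. Let `h ∈ B'` with images `g = p(h)`, `f = q(h)`. Then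
the square of localizations `B'_h → B_g`, `B'_h → R'_f`, `B_g → R_{s(g)}`, `R'_f → R_{t(f)} =
R_{s(g)}` (the induced maps) is cartesian as well: `B'_h = B_g ×_{R_{s(g)}} R'_f`. -/
theorem result {B R R' B' : Type u} [CommRing B] [CommRing R] [CommRing R'] [CommRing B']
    (s : B →+* R) (t : R' →+* R) (p : B' →+* B) (q : B' →+* R') (hc : s.comp p = t.comp q)
    (hinj : ∀ x y : B', p x = p y → q x = q y → x = y) (hsurj : ∀ (b : B) (r' : R'), s b = t r' → ∃ x : B', p x = b ∧ q x = r')
    (h : B') (Bh Bg Rf Rsg : Type u) [CommRing Bh] [CommRing Bg] [CommRing Rf] [CommRing Rsg]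
    [Algebra B' Bh] [IsLocalization.Away h Bh] [Algebra B Bg] [IsLocalization.Away (p h) Bg]
    [Algebra R' Rf] [IsLocalization.Away (q h) Rf] [Algebra R Rsg] [IsLocalization.Away (s (p h)) Rsg]
    (pL : Bh →+* Bg) (qL : Bh →+* Rf) (sL : Bg →+* Rsg) (tL : Rf →+* Rsg)
    (hp : pL.comp (algebraMap B' Bh) = (algebraMap B Bg).comp p) (hq : qL.comp (algebraMap B' Bh) = (algebraMap R' Rf).comp q)
    (hs : sL.comp (algebraMap B Bg) = (algebraMap R Rsg).comp s) (ht : tL.comp (algebraMap R' Rf) = (algebraMap R Rsg).comp t) :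
    (∀ x y : Bh, pL x = pL y → qL x = qL y → x = y) ∧
    (∀ (b : Bg) (r : Rf), sL b = tL r → ∃ x : Bh, pL x = b ∧ qL x = r) := by
  have hpa : ∀ a : B', pL (algebraMap B' Bh a) = algebraMap B Bg (p a) := fun a =>
    RingHom.congr_fun hp a
  have hqa : ∀ a : B', qL (algebraMap B' Bh a) = algebraMap R' Rf (q a) := fun a =>
    RingHom.congr_fun hq a
  have hsa : ∀ a : B, sL (algebraMap B Bg a) = algebraMap R Rsg (s a) := fun a =>
    RingHom.congr_fun hs a
  have hta : ∀ a : R', tL (algebraMap R' Rf a) = algebraMap R Rsg (t a) := fun a =>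
    RingHom.congr_fun ht a
  have hfs : t (q h) = s (p h) := (RingHom.congr_fun hc h).symm
  have key : ∀ z : Bh, pL z = 0 → qL z = 0 → z = 0 := by
    intro z h1 h2
    obtain ⟨n, a, ha⟩ := IsLocalization.Away.surj h z
    have e1 : algebraMap B Bg (p a) = algebraMap B Bg 0 := by
      rw [← hpa, ← ha, map_mul, h1, zero_mul, map_zero]
    have e2 : algebraMap R' Rf (q a) = algebraMap R' Rf 0 := by
      rw [← hqa, ← ha, map_mul, h2, zero_mul, map_zero]
    obtain ⟨k, hk⟩ := IsLocalization.Away.exists_of_eq (p h) e1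
    obtain ⟨l, hl⟩ := IsLocalization.Away.exists_of_eq (q h) e2
    rw [mul_zero] at hk hl
    have e3 : h ^ (k + l) * a = 0 := by
      apply hinj
      · rw [map_mul, map_pow, map_zero, pow_add, mul_comm (p h ^ k), mul_assoc, hk, mul_zero]
      · rw [map_mul, map_pow, map_zero, pow_add, mul_assoc, hl, mul_zero]
    have e4 : algebraMap B' Bh a = 0 := by
      have := congrArg (algebraMap B' Bh) e3
      rw [map_mul, map_pow, map_zero] at this
      exact (IsLocalization.Away.algebraMap_pow_isUnit h (k + l)).mul_right_eq_zero.mp this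
    rw [e4] at ha
    exact (IsLocalization.Away.algebraMap_pow_isUnit h n).mul_left_eq_zero.mp ha
  refine ⟨?_, ?_⟩
  · intro x y h1 h2
    rw [← sub_eq_zero]
    apply key
    · rw [map_sub, h1, sub_self]
    · rw [map_sub, h2, sub_self]
  · intro b r hbr
    obtain ⟨n1, b0, hb0⟩ := IsLocalization.Away.surj (p h) b
    obtain ⟨n2, r0, hr0⟩ := IsLocalization.Away.surj (q h) r
    have hb1 : b * algebraMap B Bg (p h) ^ (n1 + n2) = algebraMap B Bg (b0 * p h ^ n2) := by
      rw [pow_add, ← mul_assoc, hb0, map_mul, map_pow]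
    have hr1 : r * algebraMap R' Rf (q h) ^ (n1 + n2) = algebraMap R' Rf (r0 * q h ^ n1) := by
      rw [pow_add, mul_comm (algebraMap R' Rf (q h) ^ n1), ← mul_assoc, hr0, map_mul, map_pow]
    have e1 : algebraMap R Rsg (s (b0 * p h ^ n2)) = algebraMap R Rsg (t (r0 * q h ^ n1)) := by
      rw [← hsa, ← hta, ← hb1, ← hr1, map_mul, map_mul, map_pow, map_pow, hsa, hta, hfs, hbr]
    obtain ⟨k, hk⟩ := IsLocalization.Away.exists_of_eq (s (p h)) e1
    have e2 : s (p h ^ k * (b0 * p h ^ n2)) = t (q h ^ k * (r0 * q h ^ n1)) := by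
      rw [map_mul, map_pow, map_mul t, map_pow t, hfs, hk]
    obtain ⟨x0, hx1, hx2⟩ := hsurj _ _ e2
    obtain ⟨u, hu⟩ := (IsLocalization.Away.algebraMap_pow_isUnit (S := Bh) h (n1 + n2 + k)).exists_left_inv
    refine ⟨algebraMap B' Bh x0 * u, ?_, ?_⟩
    · have hunit := IsLocalization.Away.algebraMap_pow_isUnit (S := Bg) (p h) (n1 + n2 + k)
      apply hunit.mul_left_injective
      show pL (algebraMap B' Bh x0 * u) * algebraMap B Bg (p h) ^ (n1 + n2 + k) =
        b * algebraMap B Bg (p h) ^ (n1 + n2 + k)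
      have : pL (algebraMap B' Bh x0 * u) * algebraMap B Bg (p h) ^ (n1 + n2 + k) =
          pL (algebraMap B' Bh x0 * (u * algebraMap B' Bh h ^ (n1 + n2 + k))) := by
        simp only [map_mul, map_pow, hpa]
        ring
      rw [this, hu, mul_one, hpa, hx1, map_mul, map_pow, ← hb1]
      ring
    · have hunit := IsLocalization.Away.algebraMap_pow_isUnit (S := Rf) (q h) (n1 + n2 + k)
      apply hunit.mul_left_injective
      show qL (algebraMap B' Bh x0 * u) * algebraMap R' Rf (q h) ^ (n1 + n2 + k) =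
        r * algebraMap R' Rf (q h) ^ (n1 + n2 + k)
      have : qL (algebraMap B' Bh x0 * u) * algebraMap R' Rf (q h) ^ (n1 + n2 + k) =
          qL (algebraMap B' Bh x0 * (u * algebraMap B' Bh h ^ (n1 + n2 + k))) := by
        simp only [map_mul, map_pow, hqa]
        ring
      rw [this, hu, mul_one, hqa, hx2, map_mul, map_pow, ← hr1]
      ring

end Groth.Agent.S6934
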