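import Groth.Statements.S6948
import Groth.Agent.Lib.Helper16.FlatAcyc2
import Groth.Agent.Lib.Helper16.PC12
-- import your own Groth.Agent.* helpers here

set_option autoImplicit false
universe u
open CategoryTheory CategoryTheory.Limits
attribute [local instance] HasDerivedCategory.standard
open DRing

namespace Groth.Agent.S6948

open DerivedCategory Groth.Agent.Lib.Helper16.LDer Groth.Agent.Lib.Helper16.PC
  Groth.Agent.Lib.Helper16.FlatAcyc


/-- Let A → B be a homomorphism of commutative rings such that the derived base change D(A) → D(B)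
exists, and let K be an object of D(A) with tor amplitude in [a, b]. Then K ⊗^L_A B has tor
amplitude in [a, b] as an object of D(B). -/
theorem result {A B : Type u} [CommRing A] [CommRing B] (φ : A →+* B)
    [DRing.HasLBaseChange φ] (K : Dual.D A) (a b : ℤ) (hK : DRing.HasTorAmplitudeIn A a b K) :
    DRing.HasTorAmplitudeIn B a b ((DRing.LBaseChange φ).obj K) := by
  obtain ⟨F, hF, hflat, ⟨e⟩⟩ := hK
  have hFle : F.IsStrictlyLE b :=
    (CochainComplex.isStrictlyLE_iff _ _).2 (fun i hi => hF i (Or.inr hi))
  have hb : (Q.obj F).IsLE b := by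
    rw [isLE_Q_obj_iff]
    infer_instance
  obtain ⟨E, f, hE, hproj, hf⟩ := exists_projective_resolution F b hb
  have hproj' : ∀ i, Module.Projective A (E.X i) := fun i =>
    haveI := hproj i
    ModuleCat.projective_of_module_projective (E.X i)
  have hEflat : DRing.TermwiseFlat E := fun i => by
    have := hproj' i
    infer_instance
  have h1 : IsIso (Q.map ((extCx φ).map f)) :=
    isIso_Q_map_ext φ f hf b hE (fun i hi => hF i (Or.inr hi)) hEflat hflat
  have h2 : IsIso (Q.map f) := by
    rw [isIso_Q_map_iff_quasiIso]
    exact hf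
  refine ⟨(extCx φ).obj F, fun i hi => extCx_isZero φ F i (hF i hi), fun i => ?_, ⟨?_⟩⟩
  · have := hflat i
    exact ext_flat φ (F.X i)
  · exact (asIso (Q.map ((extCx φ).map f))).symm ≪≫ (lBaseChangeIso' φ E b hE hproj').symm ≪≫
      (DRing.LBaseChange φ).mapIso (asIso (Q.map f) ≪≫ e)

end Groth.Agent.S6948
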