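import Groth.Statements.S6951
import Groth.Agent.Lib.Helper16.WEtTor
import Groth.Agent.Lib.Helper16.FlatBC3
import Groth.Agent.Lib.Helper8.RGam10

set_option autoImplicit false
universe u
open CategoryTheory CategoryTheory.Limits
attribute [local instance] HasDerivedCategory.standard
open DRing

namespace Groth.Agent.S6951

/-- Let R → A → B be homomorphisms of commutative rings with A → B faithfully flat, such that the
derived base change D(A) → D(B) exists, and let K be an object of D(A). Then for all integers a, b,
the following are equivalent: the restriction of K to D(R) is of tor amplitude within [a, b]; the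
restriction of K ⊗^L_A B to D(R) is of tor amplitude within [a, b]. -/
theorem result {R A B : Type u}
    [CommRing R] [CommRing A] [CommRing B] [Algebra R A] [Algebra A B] [Algebra R B] [IsScalarTower R A B]
    [Module.FaithfullyFlat A B] [DRing.HasLBaseChange (algebraMap A B)] (K : Dual.D A) (a b : ℤ) :
    DRing.HasTorAmplitudeIn R a b ((DRing.restrictD (algebraMap R A)).obj K) ↔
      DRing.HasTorAmplitudeIn R a b ((DRing.restrictD (algebraMap R B)).obj ((DRing.LBaseChange (algebraMap A B)).obj K)) := by
  let X := DerivedCategory.Q.objPreimage K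
  let e : DerivedCategory.Q.obj X ≅ K := DerivedCategory.Q.objObjPreimageIso K
  have hβ : (algebraMap A B).Flat := (RingHom.flat_algebraMap_iff).2 inferInstance
  have e1 : (DRing.restrictD (algebraMap R A)).obj K ≅
      DRing.toD ((Groth.Agent.Lib.Helper16.TorLoc.resCx (algebraMap R A)).obj X) :=
    (DRing.restrictD (algebraMap R A)).mapIso e.symm ≪≫
      Groth.Agent.Lib.Helper16.RestrictD.restrictQIso (algebraMap R A) X
  have e2 : (DRing.restrictD (algebraMap R B)).obj ((DRing.LBaseChange (algebraMap A B)).obj K) ≅
      DRing.toD ((Groth.Agent.Lib.Helper16.TorLoc.resCx (algebraMap R B)).obj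
        ((Groth.Agent.Lib.Helper16.LDer.extCx (algebraMap A B)).obj X)) :=
    (DRing.restrictD (algebraMap R B)).mapIso
      ((Groth.Agent.Lib.Helper8.RGam.lBaseChangeIsoε (algebraMap A B)).app K ≪≫
        (Groth.Agent.Lib.Helper16.FlatBC.ε (algebraMap A B)).mapIso e.symm ≪≫
        Groth.Agent.Lib.Helper16.FlatBC.εQIso (algebraMap A B) X) ≪≫
      Groth.Agent.Lib.Helper16.RestrictD.restrictQIso (algebraMap R B) _
  have hsq : (algebraMap A B).comp (algebraMap R A) = (algebraMap R B).comp (RingHom.id R) := by
    rw [RingHom.comp_id]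
    exact (IsScalarTower.algebraMap_eq R A B).symm
  have hid : (RingHom.id R).Flat := RingHom.Flat.id R
  constructor
  · intro h
    have h1 := Groth.Agent.Lib.Helper16.TorAmp.hasTorAmplitudeIn_of_iso e1 a b h
    have hloc : ∀ N' : ModuleCat.{u} R, Nonempty ((ModuleCat.extendScalars.{u, u, u} (RingHom.id R)).obj
        ((ModuleCat.restrictScalars.{u} (RingHom.id R)).obj N') ≅ N') := fun N' =>
      ⟨(ModuleCat.extendScalarsId R).app _ ≪≫ (ModuleCat.restrictScalarsId R).app N'⟩
    have h2 := Groth.Agent.Lib.Helper16.TorLoc.torAmp_down (algebraMap R A) (algebraMap R B)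
      (RingHom.id R) (algebraMap A B) hsq hid hβ hloc X a b h1
    exact Groth.Agent.Lib.Helper16.TorAmp.hasTorAmplitudeIn_of_iso e2.symm a b h2
  · intro h
    have h1 := Groth.Agent.Lib.Helper16.TorAmp.hasTorAmplitudeIn_of_iso e2 a b h
    have hcons : ∀ Y : ModuleCat.{u} A,
        (∀ _ : Unit, IsZero ((ModuleCat.extendScalars.{u, u, u} (algebraMap A B)).obj Y)) →
          IsZero Y := by
      intro Y hY
      have h0 := hY ()
      rw [ModuleCat.isZero_iff_subsingleton] at h0 ⊢
      exact Groth.Agent.Lib.Helper16.FlatBC.subsingleton_of_ext (B := B) Y h0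
    have h2 := Groth.Agent.Lib.Helper16.TorLoc.torAmp_up (algebraMap R A)
      (fun _ : Unit => algebraMap R B) (fun _ => RingHom.id R) (fun _ => algebraMap A B)
      (fun _ => hsq) (fun _ => hid) (fun _ => hβ) hcons X a b (fun _ => h1)
    exact Groth.Agent.Lib.Helper16.TorAmp.hasTorAmplitudeIn_of_iso e1.symm a b h2

end Groth.Agent.S6951
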