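import Groth.Statements.S6953
import Groth.Agent.Lib.Helper16.TorLoc4
import Groth.Agent.Lib.Helper16.TensInd2
import Groth.Agent.Lib.Helper16.RestrictD

set_option autoImplicit false
universe u
open CategoryTheory CategoryTheory.Limits
attribute [local instance] HasDerivedCategory.standard
open DRing

namespace Groth.Agent.S6953

/-- Let A → B be a homomorphism of commutative rings, K an object of D(B) with tor amplitude in [a, b]
over B, and L a cochain complex of B-modules whose restriction of scalars to A lies in D(A) with tor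
amplitude contained in [c, d]. Assume the derived tensor product - ⊗^L_B L exists on D(B). Then K
⊗^L_B L, with scalars restricted to A, has tor amplitude in [a + c, b + d] over A. -/
theorem result {A B : Type u} [CommRing A] [CommRing B] [Algebra A B]
    (K : Dual.D B) (a b c d : ℤ) (hK : DRing.HasTorAmplitudeIn B a b K) (L : DRing.Cx B)
    (hL : DRing.HasTorAmplitudeIn A c d (DRing.toD ((DRing.restrictCx (algebraMap A B)).obj L)))
    [DRing.HasLTensorCx B L] :
    DRing.HasTorAmplitudeIn A (a + c) (b + d)
      ((DRing.restrictD (algebraMap A B)).obj ((DRing.LTensorCx B L).obj K)) := by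
  obtain ⟨E, hE, hfl, ⟨eK⟩⟩ := hK
  have hEK : DRing.IsKFlat B E :=
    Groth.Agent.Lib.Helper16.KF.isKFlat_of_boundedAbove E b (fun j hj => hE j (Or.inr hj)) hfl
  have e1 : (DRing.restrictD (algebraMap A B)).obj ((DRing.LTensorCx B L).obj K) ≅
      DRing.toD ((Groth.Agent.Lib.Helper16.TorLoc.resCx (algebraMap A B)).obj
        (MonoidalCategory.tensorObj E L)) :=
    (DRing.restrictD (algebraMap A B)).mapIso ((DRing.LTensorCx B L).mapIso eK.symm ≪≫
      Groth.Agent.Lib.Helper16.TensInd.lTensorCxIsoOfKFlat L E hEK) ≪≫
    Groth.Agent.Lib.Helper16.RestrictD.restrictQIso (algebraMap A B) _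
  exact Groth.Agent.Lib.Helper16.TorAmp.hasTorAmplitudeIn_of_iso e1.symm _ _
    (Groth.Agent.Lib.Helper16.TorLoc.torAmp_restrict_tensor (algebraMap A B) E L a b c d hE hfl hL)

end Groth.Agent.S6953
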