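import Groth.Statements.S6955
import Mathlib
import Groth.Agent.Lib.Helper16.PC11
import Groth.Agent.Lib.Helper16.TorAmp7
import Groth.Agent.Lib.Helper21.ExactRes

set_option autoImplicit false
universe u
open CategoryTheory CategoryTheory.Limits
attribute [local instance] HasDerivedCategory.standard
open DRing

namespace Groth.Agent.S6955

open DerivedCategory

section

variable {R : Type u} [CommRing R]

lemma finite_projective_of_iso {X Y : ModuleCat.{u} R} (e : X ≅ Y)
    (h : Module.Finite R X ∧ Module.Projective R X) :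
    Module.Finite R Y ∧ Module.Projective R Y := by
  obtain ⟨h1, h2⟩ := h
  exact ⟨Module.Finite.equiv e.toLinearEquiv, Module.Projective.of_equiv e.toLinearEquiv⟩

lemma finite_projective_of_isZero {X : ModuleCat.{u} R} (h : IsZero X) :
    Module.Finite R X ∧ Module.Projective R X := by
  have := ModuleCat.subsingleton_of_isZero h
  exact ⟨inferInstance, inferInstance⟩

/-- (⇐) -/
lemma perfect_of_res (M : Type u) [AddCommGroup M] [Module R M]
    (P : ProjectiveResolution (ModuleCat.of R M)) (d : ℕ)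
    (hz : ∀ i : ℕ, d < i → IsZero (P.complex.X i))
    (hf : ∀ i : ℕ, Module.Finite R (P.complex.X i)) :
    DRing.IsPerfectModule R M := by
  let e := ComplexShape.embeddingDownNat
  let E : DRing.Cx R := P.complex.extend e
  let φ : E ⟶ (HomologicalComplex.single (ModuleCat.{u} R) (ComplexShape.up ℤ) 0).obj
      (ModuleCat.of R M) :=
    HomologicalComplex.extendMap P.π e ≫
      (HomologicalComplex.extendSingleIso e (ModuleCat.of R M) 0 0 rfl).hom
  have hφ : QuasiIso φ := by
    have : QuasiIso (HomologicalComplex.extendMap P.π e) := inferInstance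
    infer_instance
  have hQ : IsIso (Q.map φ) := by
    rw [DerivedCategory.isIso_Q_map_iff_quasiIso]
    exact hφ
  refine ⟨E, -(d : ℤ), 0, ?_, ?_,
    ⟨asIso (Q.map φ) ≪≫ ((singleFunctorIsoCompQ (ModuleCat.{u} R) 0).app _).symm⟩⟩
  · intro i hi
    by_cases h : ∃ n : ℕ, e.f n = i
    · obtain ⟨n, hn⟩ := h
      have hn' : -(n : ℤ) = i := hn
      have hdn : d < n := by omega
      exact (hz n hdn).of_iso (P.complex.extendXIso e hn)
    · exact P.complex.isZero_extend_X e i (fun n hn => h ⟨n, hn⟩)
  · intro i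
    by_cases h : ∃ n : ℕ, e.f n = i
    · obtain ⟨n, hn⟩ := h
      refine finite_projective_of_iso (P.complex.extendXIso e hn).symm ⟨hf n, ?_⟩
      have := P.projective n
      exact (IsProjective.iff_projective (R := R) (P.complex.X n)).2 this
    · exact finite_projective_of_isZero
        (P.complex.isZero_extend_X e i (fun n hn => h ⟨n, hn⟩))

open Groth.Agent.Lib.Helper16 Groth.Agent.Lib.Helper21

/-- a perfect module has a finite projective model in degrees `[a, 0]` -/
lemma exists_model_le_zero (M : Type u) [AddCommGroup M] [Module R M]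
    (h : DRing.IsPerfectModule R M) :
    ∃ (a : ℤ) (E : DRing.Cx R), DRing.VanishesOutside E a 0 ∧
      DRing.TermwiseFiniteProjective E ∧ Nonempty (DRing.toD E ≅ Dual.inD R M) := by
  have hpc : DRing.IsPseudoCoherent' R (Dual.inD R M) := PC.pc'_of_perfect _ h
  obtain ⟨E, a, b, hE, hfp, ⟨e⟩⟩ := h
  have hta : DRing.HasTorAmplitudeIn R a b (Dual.inD R M) :=
    ⟨E, hE, fun i => by have := (hfp i).2; infer_instance, ⟨e⟩⟩
  obtain ⟨P0, hP0, hproj, ⟨e0⟩⟩ :=
    TorAmp.exists_projective_model (Dual.inD R M) 0 inferInstance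
  have hflat := TorAmp.termwiseFlat_of_projective P0 hproj
  have h1 := (TorAmp.torAmp_iff_exactAt_tensCx P0 0 hP0 hflat a b).1
    (TorAmp.hasTorAmplitudeIn_of_iso e0.symm a b hta)
  have h2 : DRing.HasTorAmplitudeIn R (min a 0) 0 (DRing.toD P0) := by
    rw [TorAmp.torAmp_iff_exactAt_tensCx P0 0 hP0 hflat]
    intro N i hi
    rcases hi with hi | hi
    · exact h1 N i (Or.inl (lt_of_lt_of_le hi (min_le_left _ _)))
    · apply ShortComplex.exact_of_isZero_X₂
      exact (MonoidalCategory.tensorRight N).map_isZero (hP0 i hi)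
  obtain ⟨E', hE', hfp', he'⟩ := PC.perfAmp_of_pc'_torAmp _ (min a 0) 0 hpc
    (TorAmp.hasTorAmplitudeIn_of_iso e0 _ _ h2)
  exact ⟨min a 0, E', hE', hfp', he'⟩

section Res

variable (M : Type u) [AddCommGroup M] [Module R M] (E : DRing.Cx R)
  (e : DRing.toD E ≅ Dual.inD R M)

include e in
lemma exactAt_of_ne (i : ℤ) (hi : i ≠ 0) : E.ExactAt i := by
  rw [HomologicalComplex.exactAt_iff_isZero_homology]
  have e1 : (homologyFunctor (ModuleCat.{u} R) i).obj (Dual.inD R M) ≅ E.homology i :=
    (homologyFunctor (ModuleCat.{u} R) i).mapIso e.symm ≪≫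
      (homologyFunctorFactors (ModuleCat.{u} R) i).app E
  refine IsZero.of_iso ?_ e1.symm
  rcases lt_or_gt_of_ne hi with h | h
  · exact isZero_of_isGE _ 0 i h
  · exact isZero_of_isLE _ 0 i h

/-- `H⁰(E) ≅ M` -/
noncomputable def h0Iso : E.homology 0 ≅ ModuleCat.of R M :=
  ((homologyFunctorFactors (ModuleCat.{u} R) 0).app E).symm ≪≫
    (homologyFunctor (ModuleCat.{u} R) 0).mapIso e ≪≫
      (singleFunctorCompHomologyFunctorIso (ModuleCat.{u} R) 0).app (ModuleCat.of R M)

variable (hE1 : IsZero (E.X 1))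

/-- the augmentation `E⁰ ⟶ M` -/
noncomputable def aug : E.X 0 ⟶ ModuleCat.of R M :=
  E.pOpcycles 0 ≫ (E.isoHomologyι 0 1 (by simp) (hE1.eq_of_tgt _ _)).inv ≫ (h0Iso M E e).hom

instance : Epi (aug M E e hE1) := by
  unfold aug
  infer_instance

lemma d_aug : E.d (-1) 0 ≫ aug M E e hE1 = 0 := by
  unfold aug
  rw [HomologicalComplex.d_pOpcycles_assoc, zero_comp]

lemma aug_exact : (ShortComplex.mk (E.d (-1) 0) (aug M E e hE1) (d_aug M E e hE1)).Exact := by
  have h1 : (ShortComplex.mk (E.d (-1) 0) (E.pOpcycles 0) (E.d_pOpcycles _ _)).Exact :=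
    ShortComplex.exact_of_g_is_cokernel _ (E.opcyclesIsCokernel (-1) 0 (by simp))
  refine ShortComplex.exact_of_iso ?_ h1
  exact ShortComplex.isoMk (Iso.refl _) (Iso.refl _)
    ((E.isoHomologyι 0 1 (by simp) (hE1.eq_of_tgt _ _)).symm ≪≫ h0Iso M E e)
    (by simp) (by simp [aug])

end Res

section Data

variable (M : Type u) [AddCommGroup M] [Module R M] (E : DRing.Cx R)
  (e : DRing.toD E ≅ Dual.inD R M) (hE1 : IsZero (E.X 1))
  (hproj : ∀ i : ℤ, Module.Projective R (E.X i))

/-- the exact data attached to a non-positively graded projective model of `M[0]` -/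
noncomputable def exactData : ExactRes.ExactData (ModuleCat.of R M) where
  X i := E.X (-(i : ℤ))
  proj i := by
    have := hproj (-(i : ℤ))
    exact (IsProjective.iff_projective (R := R) (E.X (-(i : ℤ)))).1 this
  d i := E.d (-((i + 1 : ℕ) : ℤ)) (-(i : ℤ))
  ε := (E.XIsoOfEq (show -((0 : ℕ) : ℤ) = 0 by simp)).hom ≫ aug M E e hE1
  epi := inferInstance
  w0 := by
    rw [HomologicalComplex.d_comp_XIsoOfEq_hom_assoc]
    have : (-((0 + 1 : ℕ) : ℤ)) = -1 := by simp
    rw [this]
    exact d_aug M E e hE1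
  ex0 := by
    refine ShortComplex.exact_of_iso ?_ (aug_exact M E e hE1)
    exact ShortComplex.isoMk (E.XIsoOfEq (by simp)) (E.XIsoOfEq (by simp)) (Iso.refl _)
      (by simp) (by simp)
  w i := E.d_comp_d _ _ _
  ex i := by
    have h := exactAt_of_ne M E e (-((i + 1 : ℕ) : ℤ)) (by
      have : (0 : ℤ) < ((i + 1 : ℕ) : ℤ) := by exact_mod_cast Nat.succ_pos i
      omega)
    rw [HomologicalComplex.exactAt_iff' _ (-((i + 1 + 1 : ℕ) : ℤ)) (-((i + 1 : ℕ) : ℤ))
      (-(i : ℤ)) (by simp; omega) (by simp)] at h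
    exact h

end Data

end


/-- Let R be a commutative ring and M an R-module. Then M is perfect (M[0] is isomorphic in D(R) to a
bounded complex of finite projective modules) if and only if M admits a projective resolution of
finite length whose terms are finitely generated, i.e. a resolution 0 → F_d → ... → F_0 → M → 0 by
finite projective modules. -/
theorem result (R : Type u) [CommRing R] (M : Type u)
    [AddCommGroup M] [Module R M] :
    DRing.IsPerfectModule R M ↔
      ∃ (P : ProjectiveResolution (ModuleCat.of R M)) (d : ℕ),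
        (∀ i : ℕ, d < i → IsZero (P.complex.X i)) ∧ ∀ i : ℕ, Module.Finite R (P.complex.X i) := by
  constructor
  · intro h
    obtain ⟨a, E, hE, hfp, ⟨e⟩⟩ := exists_model_le_zero M h
    let D := exactData M E e (hE 1 (Or.inr one_pos)) (fun i => (hfp i).2)
    refine ⟨D.toRes, (-a).toNat, ?_, ?_⟩
    · intro i hi
      change IsZero (E.X (-(i : ℤ)))
      apply hE
      left
      omega
    · intro i
      change Module.Finite R (E.X (-(i : ℤ)))
      exact (hfp _).1
  · rintro ⟨P, d, hz, hf⟩
    exact perfect_of_res M P d hz hf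

end Groth.Agent.S6955
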