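import Groth.Statements.S6960
import Groth.Agent.Lib.Helper16.FlatBC5
import Groth.Agent.Lib.Helper16.PC11
import Groth.Agent.Lib.Helper16.TorAmp9
-- import your own Groth.Agent.* helpers here

set_option autoImplicit false
universe u
open CategoryTheory CategoryTheory.Limits
attribute [local instance] HasDerivedCategory.standard
open DRing

namespace Groth.Agent.S6960

open Groth.Agent.Lib.Helper16.FlatBC Groth.Agent.Lib.Helper16.PC Groth.Agent.Lib.Helper16.TorAmp


/-- Let R be a commutative ring, f_1, ..., f_r elements generating the unit ideal and K a cochain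
complex of R-modules. If for every i the termwise localization K ⊗_R R_(f_i) is a perfect object of
D(R_(f_i)), then K is a perfect object of D(R). -/
theorem result {R : Type u} [CommRing R] {r : ℕ} (f : Fin r → R)
    (hf : Ideal.span (Set.range f) = ⊤) (K : DRing.Cx R)
    (hK : ∀ i, DRing.IsPerfect (Localization.Away (f i))
      (DRing.toD (((ModuleCat.extendScalars (algebraMap R (Localization.Away (f i)))).mapHomologicalComplex
        (ComplexShape.up ℤ)).obj K))) :
    DRing.IsPerfect R (DRing.toD K) := by
  have h := jff_localizationAway f hf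
  simp only [isPerfect_iff_pc'_and_finiteTorDim] at hK
  rw [isPerfect_iff_pc'_and_finiteTorDim]
  constructor
  · refine pc'_of_pc (fun m => h.pc (DRing.toD K) m (fun i => ?_))
    exact pc_of_iso (pc_of_pc' (hK i).1 m) (εQIso (algebraMap R (Localization.Away (f i))) K).symm
  · have hab : ∀ i, ∃ a b : ℤ, DRing.HasTorAmplitudeIn (Localization.Away (f i)) a b
        (DRing.toD (((ModuleCat.extendScalars (algebraMap R (Localization.Away (f i)))).mapHomologicalComplex
        (ComplexShape.up ℤ)).obj K)) := fun i => (hK i).2
    choose ai bi hi using hab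
    obtain ⟨b, hb⟩ := Finite.exists_le bi
    obtain ⟨a, ha⟩ := Finite.exists_ge ai
    exact ⟨a, b, h.torAmp K a b (fun i => torAmp_mono _ _ _ _ _ (ha i) (hb i) (hi i))⟩

end Groth.Agent.S6960
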