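import Groth.Statements.S6969
import Mathlib.LinearAlgebra.Finsupp.Supported
import Mathlib.LinearAlgebra.FreeModule.Basic
import Mathlib.RingTheory.Finiteness.Basic
import Mathlib.RingTheory.Finiteness.Finsupp
-- import your own Groth.Agent.* helpers here

set_option autoImplicit false
universe u
open CAlg

namespace Groth.Agent.S6969

/-- Let R be a commutative ring and φ : M → N an R-linear map which factors through a projective
R-module. If M is finitely generated, then φ factors through a finitely generated projective
R-module. -/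
theorem result (R : Type u) [CommRing R] {M N : Type u} [AddCommGroup M]
    [Module R M] [Module.Finite R M] [AddCommGroup N] [Module R N] (φ : M →ₗ[R] N)
    (h : ∃ (P : Type u) (_ : AddCommGroup P) (_ : Module R P) (_ : Module.Projective R P) (f : M →ₗ[R] P)
      (g : P →ₗ[R] N), g ∘ₗ f = φ) :
    ∃ (P : Type u) (_ : AddCommGroup P) (_ : Module R P) (_ : Module.Projective R P) (_ : Module.Finite R P)
      (f : M →ₗ[R] P) (g : P →ₗ[R] N), g ∘ₗ f = φ := by
  classical
  obtain ⟨P, _, _, hP, f, g, hgf⟩ := h
  obtain ⟨s, hs⟩ := Module.projective_def'.1 hP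
  obtain ⟨t, ht⟩ := (Module.Finite.fg_top : (⊤ : Submodule R M).FG)
  let T : Finset P := t.biUnion (fun m => (s (f m)).support)
  let F' := Finsupp.supported R R (T : Set P)
  have hle : Submodule.map (s ∘ₗ f) ⊤ ≤ F' := by
    rw [← ht, Submodule.map_span, Submodule.span_le]
    rintro _ ⟨m, hm, rfl⟩
    show s (f m) ∈ Finsupp.supported R R (T : Set P)
    rw [Finsupp.mem_supported]
    intro x hx
    exact Finset.mem_biUnion.2 ⟨m, hm, hx⟩
  have hrange : ∀ m, (s ∘ₗ f) m ∈ F' := fun m => hle ⟨m, trivial, rfl⟩
  let e : F' ≃ₗ[R] ((T : Set P) →₀ R) := Finsupp.supportedEquivFinsupp (T : Set P)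
  have hproj : Module.Projective R F' := Module.Projective.of_equiv e.symm
  have hfin : Module.Finite R F' := Module.Finite.equiv e.symm
  refine ⟨F', inferInstance, inferInstance, hproj, hfin,
    LinearMap.codRestrict F' (s ∘ₗ f) hrange,
    g ∘ₗ (Finsupp.linearCombination R id) ∘ₗ F'.subtype, ?_⟩
  ext m
  have h1 := LinearMap.congr_fun hs (f m)
  simp only [LinearMap.comp_apply, LinearMap.id_apply] at h1
  simp only [LinearMap.comp_apply, Submodule.subtype_apply, LinearMap.codRestrict_apply]
  rw [h1, ← hgf]
  rfl

end Groth.Agent.S6969
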