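import Groth.Statements.S6973
import Groth.Agent.Lib.Helper8.Lift8
import Groth.Agent.S0534

set_option autoImplicit false
universe u
open CategoryTheory CategoryTheory.Limits
attribute [local instance] HasDerivedCategory.standard
open DRing

namespace Groth.Agent.S6973

/-- Let (R, I) be a henselian pair such that the derived base change D(R) → D(R/I) exists, K a
pseudo-coherent object of D(R), and E a bounded above cochain complex of finite projective
R/I-modules which is isomorphic in D(R/I) to K ⊗^L_R R/I. Then there is a bounded above cochain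
complex P of finite projective R-modules, isomorphic to K in D(R), whose termwise reduction P ⊗_R
R/I is isomorphic to E as a complex, and such that P^i is free for every i for which E^i is free. -/
theorem result (R : Type u) [CommRing R]
    (I : Ideal R) [HenselianRing R I] [DRing.HasLBaseChange (Ideal.Quotient.mk I)] (K : Dual.D R)
    (hK : DRing.IsPseudoCoherent' R K) (E : DRing.Cx (R ⧸ I)) (b : ℤ) (hEb : DRing.VanishesAbove E b)
    (hEp : DRing.TermwiseFiniteProjective E)
    (hE : Nonempty (DRing.toD E ≅ (DRing.LBaseChange (Ideal.Quotient.mk I)).obj K)) :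
    ∃ (P : DRing.Cx R) (b' : ℤ), DRing.VanishesAbove P b' ∧ DRing.TermwiseFiniteProjective P ∧
      Nonempty (DRing.toD P ≅ K) ∧ Nonempty ((((ModuleCat.extendScalars (Ideal.Quotient.mk I)).mapHomologicalComplex (ComplexShape.up ℤ)).obj P) ≅ E) ∧
      ∀ i : ℤ, Module.Free (R ⧸ I) (E.X i) → Module.Free R (P.X i) := by
  classical
  have hI : I ≤ Ideal.jacobson (⊥ : Ideal R) := HenselianRing.jac
  let Pc : ObjectProperty (ModuleCat.{u} R) := fun X => Module.Finite R X ∧ Module.Projective R X
  have hPc_iso : Pc.IsClosedUnderIsomorphisms := ⟨fun {X Y} e hX => by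
    have := hX.1
    have := hX.2
    exact ⟨Module.Finite.equiv e.toLinearEquiv, Module.Projective.of_equiv e.toLinearEquiv⟩⟩
  have h1 : ∀ X : ModuleCat.{u} R, Pc X → Module.Projective R X := fun X hX => hX.2
  have h2 : ∀ X Y : ModuleCat.{u} R, Pc X → (Pc (ModuleCat.of R (X × Y)) ↔ Pc Y) := by
    intro X Y hX
    have := hX.1
    have := hX.2
    constructor
    · intro hXY
      have : Module.Finite R (X × Y) := hXY.1
      have : Module.Projective R (X × Y) := hXY.2
      exact ⟨Module.Finite.of_surjective (LinearMap.snd R X Y) LinearMap.snd_surjective,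
        Module.Projective.of_split (LinearMap.inr R X Y) (LinearMap.snd R X Y) (by ext; simp)⟩
    · intro hY
      have := hY.1
      have := hY.2
      exact ⟨inferInstanceAs (Module.Finite R (X × Y)),
        inferInstanceAs (Module.Projective R (X × Y))⟩
  have h3 : ∀ (X Y : ModuleCat.{u} R) (f : X ⟶ Y), Pc X → Pc Y →
      LinearMap.range f.hom ⊔ I • (⊤ : Submodule R Y) = ⊤ → Function.Surjective f.hom := by
    intro X Y f _ hY h
    have := hY.1
    rw [← LinearMap.range_eq_top, eq_top_iff]
    exact Submodule.le_of_le_smul_of_le_jacobson_bot (Module.finite_def.1 inferInstance) hI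
      (by rw [h])
  have H := Groth.Agent.Lib.Helper8.Lift.hyp' (I := I) Pc h1 h2 h3
  obtain ⟨Q, c, hQc, hQff, ⟨eQ⟩⟩ := hK
  have hfree : ∀ (X : ModuleCat.{u} R) [Module.Finite R X] [Module.Free R X], Pc X :=
    fun X _ _ => ⟨inferInstance, inferInstance⟩
  have hEt : ∀ i : ℤ, ∃ X : ModuleCat.{u} R, Pc X ∧
      Nonempty (TensorProduct R (R ⧸ I) X ≃ₗ[R ⧸ I] E.X i) := by
    intro i
    have := (hEp i).1
    have := (hEp i).2
    obtain ⟨P, _, _, hfin, hproj, ⟨e⟩⟩ := Groth.Agent.S0534.result R I (E.X i)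
    exact ⟨ModuleCat.of R P, ⟨hfin, hproj⟩, ⟨e⟩⟩
  obtain ⟨P, b', hP0, hP, hPK, ⟨ePE⟩⟩ :=
    Groth.Agent.Lib.Helper8.Lift.exists_representative_lifting Pc h1 h2 h3 K
      ⟨Q, c, hQc, fun i => by
        have := (hQff i).1
        have := (hQff i).2
        exact hfree (Q.X i), ⟨eQ⟩⟩ E b hEb hEt hE
  refine ⟨P, b', hP0, hP, hPK, ⟨ePE⟩, fun i hfr => ?_⟩
  have := hfr
  have := (hEp i).1
  obtain ⟨L, hLfree, hLfin, ⟨ψ⟩⟩ := Groth.Agent.Lib.Helper8.Lift.exists_free_lift I (E.X i)
  have ei : (Groth.Agent.Lib.Helper8.Lift.Fq I).obj (P.X i) ≅ E.X i :=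
    (HomologicalComplex.eval _ (ComplexShape.up ℤ) i).mapIso ePE
  obtain ⟨e⟩ := Groth.Agent.Lib.Helper8.Lift.nonempty_iso_of_map_iso H.toHyp (P.X i) L (hP i)
    (hfree L) (ei ≪≫ ψ.symm)
  exact Module.Free.of_equiv e.symm.toLinearEquiv

end Groth.Agent.S6973
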