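import Groth.Statements.S6974
import Groth.Agent.Lib.Helper16.GlobPerf
-- import your own Groth.Agent.* helpers here

set_option autoImplicit false
universe u
open CategoryTheory CategoryTheory.Limits
attribute [local instance] HasDerivedCategory.standard
open DRing

namespace Groth.Agent.S6974

open Groth.Agent.Lib.Helper16.KPR Groth.Agent.Lib.Helper16.TorAmp Groth.Agent.Lib.Helper16.LDer DerivedCategory


/-- Let R be a commutative ring such that the derived base change D(R) → D(R/m) exists for every ideal
m, let K be a pseudo-coherent object of D(R) and a, b integers. If for every maximal ideal m of R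
the cohomology H^i(K ⊗^L_R R/m) vanishes for all i outside [a, b], then K is perfect and has tor
amplitude in [a, b]. -/
theorem result (R : Type u) [CommRing R]
    [∀ m : Ideal R, DRing.HasLBaseChange (Ideal.Quotient.mk m)] (K : Dual.D R)
    (hK : DRing.IsPseudoCoherent' R K) (a b : ℤ)
    (h : ∀ (m : Ideal R), m.IsMaximal → ∀ i : ℤ, (i < a ∨ b < i) →
      Subsingleton (Dual.HD (R ⧸ m) ((DRing.LBaseChange (Ideal.Quotient.mk m)).obj K) i)) :
    DRing.IsPerfect R K ∧ DRing.HasTorAmplitudeIn R a b K := by
  have key : DRing.HasTorAmplitudeIn R a b K := by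
    obtain ⟨E, b', hE, hff, ⟨e⟩⟩ := id hK
    have hproj : ∀ i, Module.Projective R (E.X i) := fun i =>
      haveI := (hff i).2
      Module.Projective.of_free
    haveI : E.IsKProjective := isKProjective_of_bddAbove_projective E b' hE hproj
    refine hasTorAmplitudeIn_of_iso e a b (torAmp_of_fibres E b' hE hff a b ?_)
    intro m hm i hi
    exact (exactAt_tensCx_of_iso (asModQuotIso m) E i).1
      ((subsingleton_HD_LBaseChange_iff (Ideal.Quotient.mk m) E e i).1 (h m hm i hi))
  exact ⟨(Groth.Agent.Lib.Helper16.PC.isPerfect_iff_pc'_and_finiteTorDim K).2 ⟨hK, a, b, key⟩, key⟩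

end Groth.Agent.S6974
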