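import Groth.Statements.S6977
import Groth.Agent.Lib.Helper16.LocFree4
import Groth.Agent.Lib.Helper16.RelBC1
import Groth.Agent.Lib.Helper16.TorAmp9
import Groth.Agent.Lib.Helper16.TorLoc9
import Groth.Agent.Lib.Helper16.PC11
import Groth.Agent.Lib.Helper16.KF8
import Groth.Agent.Lib.helper11.GlDimRegular

set_option autoImplicit false
universe u
open CategoryTheory CategoryTheory.Limits
attribute [local instance] HasDerivedCategory.standard
open DRing

namespace Groth.Agent.S6977

open Groth.Agent.Lib.Helper16 TensorProduct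

/-- Let A → B be a flat local homomorphism of local commutative rings such that B/m_A B is a regular
local ring of dimension d, and assume the derived base change D(A) → D(κ_A) to the residue field of
A exists. Let a, b be integers and K a pseudo-coherent object of D(B) such that H^i((K regarded in
D(A)) ⊗^L_A κ_A) = 0 for every i outside [a, b]. Then K is perfect as an object of D(B) and has tor
amplitude in [a - d, b] over B. -/
theorem result {A B : Type u} [CommRing A] [CommRing B] [IsLocalRing A]
    [IsLocalRing B] [Algebra A B] [IsLocalHom (algebraMap A B)] [Module.Flat A B] (d : ℕ)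
    [IsRegularLocalRing (B ⧸ (IsLocalRing.maximalIdeal A).map (algebraMap A B))]
    (hd : ringKrullDim (B ⧸ (IsLocalRing.maximalIdeal A).map (algebraMap A B)) = d)
    [DRing.HasLBaseChange (IsLocalRing.residue A)] (a b : ℤ) (K : Dual.D B) (hK : DRing.IsPseudoCoherent' B K)
    (h : ∀ i : ℤ, (i < a ∨ b < i) → Subsingleton (Dual.HD (IsLocalRing.ResidueField A)
      ((DRing.LBaseChange (IsLocalRing.residue A)).obj ((DRing.restrictD (algebraMap A B)).obj K)) i)) :
    DRing.IsPerfect B K ∧ DRing.HasTorAmplitudeIn B (a - d) b K := by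
  classical
  obtain ⟨P, b', hP, hff, ⟨e⟩⟩ := hK
  -- `P` restricted to `A` is K-flat
  have hKF : DRing.IsKFlat A ((TorLoc.resCx (algebraMap A B)).obj P) := by
    refine KF.isKFlat_of_boundedAbove _ b' (fun i hi => ?_) (fun i => ?_)
    · exact (ModuleCat.restrictScalars.{u} (algebraMap A B)).map_isZero (hP i hi)
    · haveI := (hff i).2
      haveI : Module.Flat B (P.X i) := inferInstance
      change Module.Flat A ((ModuleCat.restrictScalars.{u} (algebraMap A B)).obj (P.X i))
      letI : Module A (P.X i) := Module.compHom _ (algebraMap A B)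
      haveI : IsScalarTower A B (P.X i) := IsScalarTower.of_algebraMap_smul fun _ _ => rfl
      exact Module.Flat.trans A B (P.X i)
  -- Step 1: the fibre over the residue field of `A`
  have h1 : ∀ i : ℤ, i < a ∨ b < i →
      ((TorLoc.extCx (IsLocalRing.residue A)).obj ((TorLoc.resCx (algebraMap A B)).obj P)).ExactAt i := by
    intro i hi
    refine (TorAmp.subsingleton_HD_iff_exactAt _ ?_ i).1 (h i hi)
    exact (DRing.LBaseChange (IsLocalRing.residue A)).mapIso
      ((DRing.restrictD (algebraMap A B)).mapIso e.symm ≪≫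
        RestrictD.restrictQIso (algebraMap A B) P) ≪≫
      RelBC.lBaseChangeIsoOfKFlat (IsLocalRing.residue A) _ hKF
  -- Step 2: the fibre ring as a tensor product
  have h2 : ∀ i : ℤ, i < a ∨ b < i →
      ((TorLoc.extCx (RelBC.ι A B (IsLocalRing.ResidueField A))).obj P).ExactAt i := by
    intro i hi
    rw [← TorLoc.exactAt_resCx_iff (algebraMap (IsLocalRing.ResidueField A)
      (IsLocalRing.ResidueField A ⊗[A] B))]
    exact (h1 i hi).of_iso (RelBC.bcCxIso A B (IsLocalRing.ResidueField A) P).symm
  -- Step 3: the fibre ring as a quotient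
  let ρ : IsLocalRing.ResidueField A ⊗[A] B →+*
      B ⧸ (IsLocalRing.maximalIdeal A).map (algebraMap A B) :=
    (Algebra.TensorProduct.quotIdealMapEquivQuotTensor B
      (IsLocalRing.maximalIdeal A)).symm.toRingEquiv.toRingHom
  have hρ : ρ.comp (RelBC.ι A B (IsLocalRing.ResidueField A)) =
      Ideal.Quotient.mk ((IsLocalRing.maximalIdeal A).map (algebraMap A B)) := by
    ext x
    change (Algebra.TensorProduct.quotIdealMapEquivQuotTensor B
      (IsLocalRing.maximalIdeal A)).symm (1 ⊗ₜ[A] x) = _
    rw [← Algebra.TensorProduct.quotIdealMapEquivQuotTensor_mk, AlgEquiv.symm_apply_apply]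
  have hρfl : ρ.Flat := RingHom.Flat.of_bijective
    (Algebra.TensorProduct.quotIdealMapEquivQuotTensor B
      (IsLocalRing.maximalIdeal A)).symm.bijective
  have h3 : ∀ i : ℤ, i < a ∨ b < i →
      ((TorLoc.extCx (Ideal.Quotient.mk ((IsLocalRing.maximalIdeal A).map
        (algebraMap A B)))).obj P).ExactAt i := by
    intro i hi
    have h4 := (TorLoc.exactAt_extCx_of_flat ρ hρfl _ i (h2 i hi)).of_iso
      ((TorLoc.extCxCompIso (RelBC.ι A B (IsLocalRing.ResidueField A)) ρ).app P).symm
    rwa [hρ] at h4
  -- Step 4: tor amplitude over the regular fibre ring (Serre)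
  have h5 : DRing.HasTorAmplitudeIn (B ⧸ (IsLocalRing.maximalIdeal A).map (algebraMap A B))
      (a - d) b (DRing.toD ((TorLoc.extCx (algebraMap B
        (B ⧸ (IsLocalRing.maximalIdeal A).map (algebraMap A B)))).obj P)) := by
    refine TorAmp.torAmp_of_globalDim d (fun M _ _ =>
      Groth.Agent.Lib.helper11.GlDimRegular.hasProjectiveDimensionLT_of_isRegularLocalRing d hd
        (ModuleCat.of _ M)) _ a b (fun i hi => ?_)
    exact (TorAmp.subsingleton_HD_iff_exactAt _ (Iso.refl _) i).2 (h3 i hi)
  -- Step 5: descent along the local homomorphism `B → B/m_A B`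
  haveI : IsLocalHom (algebraMap B (B ⧸ (IsLocalRing.maximalIdeal A).map (algebraMap A B))) :=
    IsLocalHom.of_surjective _ Ideal.Quotient.mk_surjective
  have h6 : DRing.HasTorAmplitudeIn B (a - d) b K :=
    TorAmp.hasTorAmplitudeIn_of_iso e (a - d) b
      (LocFree.torAmp_of_extCx_local P b' hP hff (a - d) b h5)
  exact ⟨(PC.isPerfect_iff_pc'_and_finiteTorDim K).2 ⟨⟨P, b', hP, hff, ⟨e⟩⟩, a - d, b, h6⟩, h6⟩

end Groth.Agent.S6977
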