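import Groth.Statements.S9035
import Groth.Agent.Lib.Helper1.CompactRetract
import Groth.Agent.Lib.Helper1.CompactRetract2

set_option autoImplicit false
universe v u
open CategoryTheory CategoryTheory.Limits Opposite
open CohDer

namespace Groth.Agent.S9035

open Groth.Agent.Lib.Helper1 Groth.Agent.Lib.Helper1.CellRes
  Groth.Agent.Lib.Helper1.SumClosure Groth.Agent.Lib.Helper1.CompactRetract2
  Groth.Agent.Lib.Helper8.Compact

section

variable {A : Type u} [Category.{v} A] [Abelian A] [HasCoproducts.{v} A]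
  (S : Set A)
  (h1 : ∀ X : A, ∃ (ι : Type v) (E : ι → A) (π : ∐ E ⟶ X), (∀ i, E i ∈ S) ∧ Epi π)

/-- index type of the chosen cover, empty on zero objects -/
abbrev Idx (X : A) : Type v := { _i : (h1 X).choose // ¬ IsZero X }

/-- the summands of the chosen cover -/
noncomputable abbrev fam (X : A) : Idx S h1 X → A := fun i => (h1 X).choose_spec.choose i.1

lemma fam_mem (X : A) (i : Idx S h1 X) : fam S h1 X i ∈ S :=
  (h1 X).choose_spec.choose_spec.choose_spec.1 i.1

/-- the chosen cover -/
noncomputable abbrev cvπ (X : A) : ∐ (fam S h1 X) ⟶ X :=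
  Sigma.desc (fun i => Sigma.ι (h1 X).choose_spec.choose i.1 ≫
    (h1 X).choose_spec.choose_spec.choose)

lemma epi_cvπ (X : A) : Epi (cvπ S h1 X) := by
  by_cases hz : IsZero X
  · exact ⟨fun u v _ => hz.eq_of_src u v⟩
  · haveI : Epi (h1 X).choose_spec.choose_spec.choose :=
      (h1 X).choose_spec.choose_spec.choose_spec.2
    constructor
    intro Z u v huv
    rw [← cancel_epi (h1 X).choose_spec.choose_spec.choose]
    apply Sigma.hom_ext
    intro i
    have := Sigma.ι (fam S h1 X) ⟨i, hz⟩ ≫= huv
    simpa using this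

/-- the chosen covers -/
noncomputable def cv : Cov A where
  obj X := ∐ (fam S h1 X)
  π := cvπ S h1
  epi := epi_cvπ S h1

lemma isZero_cv (X : A) (h : IsZero X) : IsZero ((cv S h1).obj X) :=
  isZero_sigma' _ (fun i => (i.2 h).elim)

lemma isSumOf_cv (X : A) : IsSumOf.{v} (· ∈ S) ((cv S h1).obj X) :=
  ⟨Idx S h1 X, fam S h1 X, fam_mem S h1 X, ⟨Iso.refl _⟩⟩

end

/-- Let A be a Grothendieck abelian category and S a set of objects such that (1) every object of A is a
quotient of a direct sum of members of S and (2) for every E in S the functor Hom(E, -)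
(abelian-group valued) preserves direct sums. Then every compact object K of the derived category
D(A) is a retract in D(A) of the image of a bounded cochain complex whose terms are finite direct
sums of members of S. The derived category, the existence of direct sums in it, and the (automatic)
finite biproduct and direct sum structure of A are taken as instance hypotheses. -/
theorem result
    {A : Type u} [Category.{v} A] [Abelian A] [IsGrothendieckAbelian.{v} A] [HasCoproducts.{v} A] [HasFiniteBiproducts A]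
    [HasDerivedCategory.{v} A] [HasCoproducts.{v} (DerivedCategory A)]
    (S : Set A)
    (h1 : ∀ X : A, ∃ (ι : Type v) (E : ι → A) (π : ∐ E ⟶ X), (∀ i, E i ∈ S) ∧ Epi π)
    (h2 : ∀ E ∈ S, ∀ ι : Type v, PreservesColimitsOfShape (Discrete ι) (preadditiveCoyoneda.obj (op E)))
    (K : DerivedCategory A) (hK : CohDer.IsCompactObject K) :
    ∃ (L : CochainComplex A ℤ) (a b : ℤ),
      (∀ i : ℤ, i < a ∨ b < i → IsZero (L.X i)) ∧
      (∀ i : ℤ, ∃ (n : ℕ) (E : Fin n → A), (∀ j, E j ∈ S) ∧ Nonempty (L.X i ≅ ⨁ E)) ∧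
      Nonempty (Retract K (DerivedCategory.Q.obj L)) := by
  haveI : ∀ ι : Type v, HasExactColimitsOfShape (Discrete ι) A := fun ι => inferInstance
  haveI : HasColimitsOfShape (Discrete ℕ) A :=
    hasColimitsOfShape_of_equivalence
      (Discrete.equivalence (Equiv.ulift.{v} : ULift.{v} ℕ ≃ ℕ))
  haveI : HasExactColimitsOfShape (Discrete ℕ) A :=
    HasExactColimitsOfShape.of_domain_equivalence A
      (Discrete.equivalence (Equiv.ulift.{v} : ULift.{v} ℕ ≃ ℕ))
  haveI : HasColimitsOfShape ℕ A := by
    haveI : HasColimitsOfSize.{0, 0} A := hasColimitsOfSizeShrink.{0, 0, v, v} A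
    infer_instance
  haveI : HasExactColimitsOfShape ℕ A := by
    haveI : HasFilteredColimitsOfSize.{0, 0} A := ⟨fun J _ _ => inferInstance⟩
    haveI : AB5OfSize.{0, 0} A := AB5OfSize_of_univLE.{0, 0, v, v} A
    infer_instance
  obtain ⟨L, a, b, φ, ψ, hφψ, hz, hL⟩ := CompactRetract.exists_bounded_retract (cv S h1)
    (isZero_cv S h1) (IsSumOf.{v} (· ∈ S)) (fun e h => IsSumOf.of_iso e h) (isSumOf_cv S h1)
    (fun h₁ h₂ => IsSumOf.biprod h₁ h₂) (fun X h => IsSumOf.sigma_nat X h)
    (fun X h => IsSumOf.of_isZero X h) K hK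
  obtain ⟨L', φ', ψ', h', hz', hF'⟩ := exists_finite_retract (· ∈ S)
    (fun E' hE' ι E g => by
      haveI := h2 E' hE' ι
      exact exists_cS_of_preserves E E' g) hK L a b φ ψ hφψ hz hL
  exact ⟨L', a, b, hz', hF', ⟨⟨φ', ψ', h'⟩⟩⟩

end Groth.Agent.S9035
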