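import Groth.Statements.S6978
import Groth.Agent.S9035
import Groth.Agent.Lib.Helper1.CompactRetract3
import Groth.Agent.Lib.Helper1.PerfCompactMod2
import Groth.Agent.Lib.Helper16.PerfSummand

set_option autoImplicit false
universe u
open CategoryTheory CategoryTheory.Limits
attribute [local instance] HasDerivedCategory.standard
open DRing

namespace Groth.Agent.S6978

open Groth.Agent.Lib.Helper1 Groth.Agent.Lib.Helper1.PerfCompactMod
  Groth.Agent.Lib.Helper1.SumClosure Groth.Agent.Lib.Helper1.CompactRetract2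
  Groth.Agent.Lib.Helper8.Compact DerivedCategory

/-- the class of finite projective modules -/
def FP (R : Type u) [CommRing R] : Set (ModuleCat.{u} R) :=
  {M | Module.Finite R M ∧ Module.Projective R M}

lemma exists_cover (R : Type u) [CommRing R] (X : ModuleCat.{u} R) :
    ∃ (ι : Type u) (E : ι → ModuleCat.{u} R) (π : ∐ E ⟶ X), (∀ i, E i ∈ FP R) ∧ Epi π := by
  refine ⟨X, fun _ => ModuleCat.of R R,
    Sigma.desc (fun m => ModuleCat.ofHom (LinearMap.toSpanSingleton R X m)),
    fun _ => ⟨inferInstanceAs (Module.Finite R R), inferInstanceAs (Module.Projective R R)⟩, ?_⟩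
  rw [ModuleCat.epi_iff_surjective]
  intro m
  refine ⟨(Sigma.ι (fun _ : X => ModuleCat.of R R) m).hom (1 : R), ?_⟩
  change ((Sigma.ι (fun _ : X => ModuleCat.of R R) m ≫
    Sigma.desc (fun m => ModuleCat.ofHom (LinearMap.toSpanSingleton R X m))).hom) (1 : R) = m
  rw [Sigma.ι_desc]
  simp

lemma fp_of_isFinSumOf (R : Type u) [CommRing R] (X : ModuleCat.{u} R)
    (h : IsFinSumOf (· ∈ FP R) X) : Module.Finite R X ∧ Module.Projective R X := by
  obtain ⟨n, E, hE, ⟨e⟩⟩ := h
  haveI : ∀ j, Module.Finite R (E j) := fun j => (hE j).1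
  haveI : ∀ j, Module.Projective R (E j) := fun j => (hE j).2
  let e' : X ≅ ModuleCat.of R (∀ j, E j) := e ≪≫ ModuleCat.biproductIsoPi E
  let l : (∀ j, E j) ≃ₗ[R] X := e'.symm.toLinearEquiv
  haveI : ∀ j, Projective (E j) := fun j => (IsProjective.iff_projective (R := R) (E j)).1 (hE j).2
  have hp' : Projective (⨁ E) :=
    ⟨fun f g _ => ⟨biproduct.desc fun b => Projective.factorThru (biproduct.ι E b ≫ f) g, by
      apply biproduct.hom_ext'
      intro b
      rw [biproduct.ι_desc_assoc, Projective.factorThru_comp]⟩⟩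
  have hp : Projective X := Projective.of_iso e.symm hp'
  exact ⟨Module.Finite.equiv l, (IsProjective.iff_projective (R := R) X).2 hp⟩

/-- Let R be a commutative ring and K an object of D(R). Then K is perfect if and only if K is a compact
object of D(R): for every family (E_i) of objects of D(R) indexed by a small type, the canonical map
from the direct sum of the Hom(K, E_i) to Hom(K, ⊕ E_i) is bijective. -/
theorem result (R : Type u) [CommRing R] (K : Dual.D R) :
    DRing.IsPerfect R K ↔
      ∀ (I : Type u) (E : I → Dual.D R) [HasCoproduct fun i : ULift.{u + 1} I => E i.down],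
        Function.Bijective (CohDer.homSumToHomCoprod K (fun i : ULift.{u + 1} I => E i.down)) := by
  haveI : HasExactColimitsOfShape ℕ (ModuleCat.{u} R) := by
    haveI : AB5OfSize.{0, 0} (ModuleCat.{u} R) := AB5OfSize_of_univLE.{0, 0, u, u} _
    infer_instance
  constructor
  · rintro ⟨E₀, a, b, hz, hfp, ⟨e⟩⟩
    haveI : E₀.IsStrictlyLE b := (CochainComplex.isStrictlyLE_iff _ _).2 (fun i hi => hz i (Or.inr hi))
    haveI : ∀ n, Projective (E₀.X n) := fun n =>
      (IsProjective.iff_projective (R := R) (E₀.X n)).1 (hfp n).2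
    haveI : E₀.IsKProjective := CochainComplex.isKProjective_of_projective E₀ b
    exact dsc_of_bounded_kprojective E₀ a b hz
      (fun n ι Z g => by
        haveI : Module.Finite R (E₀.X n) := (hfp n).1
        exact exists_cS_of_finite Z (E₀.X n) g) e
  · intro hK
    have hK' : DSC K := hK
    obtain ⟨L, a, b, φ, ψ, hφψ, hz, hL⟩ := CompactRetract3.exists_bounded_retract'
      (Groth.Agent.S9035.cv (FP R) (exists_cover R)) (Groth.Agent.S9035.isZero_cv (FP R) (exists_cover R))
      (IsSumOf.{u} (· ∈ FP R)) (fun e h => IsSumOf.of_iso e h)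
      (Groth.Agent.S9035.isSumOf_cv (FP R) (exists_cover R))
      (fun h₁ h₂ => IsSumOf.biprod h₁ h₂) (fun X h => IsSumOf.sigma_nat X h)
      (fun X h => IsSumOf.of_isZero X h) K (fun L c hc φ => hK'.factors_through_stage L c hc φ)
    obtain ⟨L', φ', ψ', h', hz', hF'⟩ := CompactRetract3.exists_finite_retract' (· ∈ FP R)
      (fun E' hE' ι E g => by
        haveI : Module.Finite R E' := hE'.1
        exact exists_cS_of_finite E E' g)
      (fun ι E c θ => hK'.finite_support_single ι E c θ) L a b φ ψ hφψ hz hL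
    -- `K` is a direct summand of the perfect object `Q L'`
    obtain ⟨K', δ₂, δ₃, hT⟩ := Pretriangulated.distinguished_cocone_triangle φ'
    have h3 : δ₃ = 0 := by
      have h4 : δ₃ ≫ φ'⟦(1 : ℤ)⟧' = 0 := Pretriangulated.comp_distTriang_mor_zero₃₁ _ hT
      have h5 : φ'⟦(1 : ℤ)⟧' ≫ ψ'⟦(1 : ℤ)⟧' = 𝟙 _ := by
        rw [← Functor.map_comp, h', CategoryTheory.Functor.map_id]
      calc δ₃ = δ₃ ≫ φ'⟦(1 : ℤ)⟧' ≫ ψ'⟦(1 : ℤ)⟧' := by rw [h5, Category.comp_id]
        _ = 0 := by rw [reassoc_of% h4, zero_comp]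
    obtain ⟨eb, -, -⟩ := Pretriangulated.exists_iso_binaryBiproduct_of_distTriang _ hT h3
    have hperf : DRing.IsPerfect R (K ⊞ K') :=
      ⟨L', a, b, hz', fun i => fp_of_isFinSumOf R _ (hF' i), ⟨eb⟩⟩
    exact (Groth.Agent.Lib.Helper16.PerfSummand.isPerfect_of_biprod K K' hperf).1

end Groth.Agent.S6978
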