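import Groth.Statements.S6979
import Groth.Agent.Lib.Helper16.NilPC
import Groth.Agent.Lib.Helper16.PC11
-- import your own Groth.Agent.* helpers here

set_option autoImplicit false
universe u
open CategoryTheory CategoryTheory.Limits
attribute [local instance] HasDerivedCategory.standard
open DRing

namespace Groth.Agent.S6979

/-- Let R be a commutative ring and I a nilpotent ideal of R such that the derived base change D(R) →
D(R/I) exists, and let K be an object of D(R). If K ⊗^L_R R/I is a perfect object of D(R/I), then K
is a perfect object of D(R). -/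
theorem result (R : Type u) [CommRing R] (I : Ideal R)
    (hI : IsNilpotent I) [DRing.HasLBaseChange (Ideal.Quotient.mk I)] (K : Dual.D R)
    (hK : DRing.IsPerfect (R ⧸ I) ((DRing.LBaseChange (Ideal.Quotient.mk I)).obj K)) :
    DRing.IsPerfect R K := by
  have hsurj : Function.Surjective (Ideal.Quotient.mk I) := Ideal.Quotient.mk_surjective
  have hnil : IsNilpotent (RingHom.ker (Ideal.Quotient.mk I)) := by rwa [Ideal.mk_ker]
  rw [Groth.Agent.Lib.Helper16.PC.isPerfect_iff_pc'_and_finiteTorDim] at hK ⊢
  obtain ⟨h1, a, b, h2⟩ := hK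
  exact ⟨Groth.Agent.Lib.Helper16.KPR.pc'_of_pc'_LBaseChange_of_nilpotent _ hsurj hnil K h1,
    a, b, Groth.Agent.Lib.Helper16.KPR.hasTorAmplitudeIn_of_LBaseChange_of_nilpotent _ hsurj hnil K a b h2⟩

end Groth.Agent.S6979
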