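import Groth.Statements.S6981
import Groth.Agent.Lib.Helper16.RestrictD3
-- import your own Groth.Agent.* helpers here

set_option autoImplicit false
universe u
open CategoryTheory CategoryTheory.Limits
attribute [local instance] HasDerivedCategory.standard
open DRing

namespace Groth.Agent.S6981

open CategoryTheory CategoryTheory.Limits DerivedCategory CategoryTheory.Pretriangulated
open Groth.Agent.Lib.Helper16.PC Groth.Agent.Lib.Helper16.RestrictD Polynomial

lemma hB (R : Type u) [CommRing R] :
    letI : Algebra (Polynomial R) R := (Polynomial.evalRingHom (0 : R)).toAlgebra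
    ∀ m : ℤ, DRing.IsPseudoCoherent (Polynomial R) m (Dual.inD (Polynomial R) R) := by
  letI : Algebra (Polynomial R) R := (Polynomial.evalRingHom (0 : R)).toAlgebra
  intro m
  let f : Polynomial R →ₗ[Polynomial R] Polynomial R := LinearMap.mulLeft (Polynomial R) X
  let g : Polynomial R →ₗ[Polynomial R] R := Algebra.linearMap (Polynomial R) R
  have hg : ∀ p : Polynomial R, g p = p.eval 0 := fun p => rfl
  let S : ShortComplex (ModuleCat.{u} (Polynomial R)) :=
    ShortComplex.mk (ModuleCat.ofHom f) (ModuleCat.ofHom g) (by
      ext p
      simp [f, hg])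
  have hS : S.ShortExact := by
    refine ShortComplex.ShortExact.mk' ?_ ?_ ?_
    · rw [ShortComplex.ShortExact.moduleCat_exact_iff_function_exact]
      intro p
      change g p = 0 ↔ p ∈ Set.range f
      rw [hg, ← coeff_zero_eq_eval_zero, ← X_dvd_iff]
      constructor
      · rintro ⟨q, rfl⟩
        exact ⟨q, rfl⟩
      · rintro ⟨q, rfl⟩
        exact ⟨q, rfl⟩
    · rw [ModuleCat.mono_iff_injective]
      exact (isRegular_X (R := R)).left
    · rw [ModuleCat.epi_iff_surjective]
      intro r
      exact ⟨C r, by change g (C r) = r; rw [hg, eval_C]⟩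
  have hT := hS.singleTriangle_distinguished
  have h1 : ∀ m' : ℤ, DRing.IsPseudoCoherent (Polynomial R) m'
      ((singleFunctor (ModuleCat.{u} (Polynomial R)) 0).obj (ModuleCat.of (Polynomial R) (Polynomial R))) :=
    fun m' => (isPseudoCoherent_iff _ _).2
      (isPC_single finFree_zero finFree_iso _
        ⟨(inferInstance : Module.Finite (Polynomial R) (Polynomial R)),
          (inferInstance : Module.Free (Polynomial R) (Polynomial R))⟩ 0 m')
  exact (isPseudoCoherent_two_of_three _ hT m).1 (h1 (m + 1)) (h1 m)



/-- Let R be a commutative ring, K an object of D(R), m an integer, and R[x] → R the R-algebra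
homomorphism sending x to 0. Then K is m-pseudo-coherent over R if and only if K, regarded as an
object of D(R[x]) by restriction of scalars along this map, is m-pseudo-coherent over R[x]. -/
theorem result (R : Type u) [CommRing R] (K : Dual.D R)
    (m : ℤ) :
    DRing.IsPseudoCoherent R m K ↔
      DRing.IsPseudoCoherent (Polynomial R) m ((DRing.restrictD (Polynomial.evalRingHom (0 : R))).obj K) := by
  letI : Algebra (Polynomial R) R := (Polynomial.evalRingHom (0 : R)).toAlgebra
  exact ⟨pc_restrict_of_pc (hB R) K m, pc_of_pc_restrict (hB R) K m⟩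

end Groth.Agent.S6981
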