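import Groth.Statements.S6995
import Groth.Agent.Lib.Helper16.GlDim2
import Groth.Agent.Lib.Helper16.PC11
import Groth.Agent.Lib.Helper16.TorAmp7
-- import your own Groth.Agent.* helpers here

set_option autoImplicit false
universe u
open CategoryTheory CategoryTheory.Limits
attribute [local instance] HasDerivedCategory.standard
open DRing

namespace Groth.Agent.S6995

/-- Let R be a Noetherian regular commutative ring of finite Krull dimension d ≥ 1, K a perfect object
of D(R) and k an integer such that H^i(K) = 0 for every i with k - d + 2 ≤ i ≤ k. Then K splits in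
D(R) as the direct sum of its canonical truncations: there is an isomorphism K ≅ τ_(≤ k-d+1) K ⊕
τ_(≥ k+1) K under which the truncation map τ_(≤ k-d+1) K → K becomes the first inclusion and K →
τ_(≥ k+1) K the second projection. -/
theorem result (R : Type u) [CommRing R] [IsNoetherianRing R]
    (hreg : ∀ p : PrimeSpectrum R, IsRegularLocalRing (Localization.AtPrime p.asIdeal)) (d : ℕ) (hd1 : 1 ≤ d)
    (hd : ringKrullDim R = d) (K : Dual.D R) (hK : DRing.IsPerfect R K) (k : ℤ)
    (hgap : ∀ i : ℤ, k - d + 2 ≤ i → i ≤ k → Subsingleton (Dual.HD R K i))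
    [HasBinaryBiproduct
      (((DerivedCategory.TStructure.t : Triangulated.TStructure (Dual.D R)).truncLT (k - d + 2)).obj K)
      (((DerivedCategory.TStructure.t : Triangulated.TStructure (Dual.D R)).truncGE (k + 1)).obj K)] :
    ∃ e : K ≅
      ((DerivedCategory.TStructure.t : Triangulated.TStructure (Dual.D R)).truncLT (k - d + 2)).obj K ⊞
        ((DerivedCategory.TStructure.t : Triangulated.TStructure (Dual.D R)).truncGE (k + 1)).obj K,
      ((DerivedCategory.TStructure.t : Triangulated.TStructure (Dual.D R)).truncLTι (k - d + 2)).app K ≫ e.hom =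
          biprod.inl ∧
        e.hom ≫ biprod.snd =
          ((DerivedCategory.TStructure.t : Triangulated.TStructure (Dual.D R)).truncGEπ (k + 1)).app K := by
  exact by
    obtain ⟨a, b, hab⟩ := ((Groth.Agent.Lib.Helper16.PC.isPerfect_iff_pc'_and_finiteTorDim K).1 hK).2
    haveI : DerivedCategory.IsLE K b := Groth.Agent.Lib.Helper16.TorAmp.isLE_of_torAmp K a b hab
    have hgl := Groth.Agent.Lib.Helper16.GlDim.hasProjectiveDimensionLT_of_regular hreg d hd.le
    exact Groth.Agent.Lib.Helper16.GlDim.split_of_gap d hgl K b k (k - d + 2) rfl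
      (by have : (1 : ℤ) ≤ d := by exact_mod_cast hd1
          omega)
      (fun i hi1 hi2 => by
        have := hgap i hi1 hi2
        exact ModuleCat.isZero_of_subsingleton _)

end Groth.Agent.S6995
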