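import Groth.Statements.S6998
import Groth.Agent.Lib.Helper16.TIBC3

set_option autoImplicit false
universe u
open CategoryTheory CategoryTheory.Limits
attribute [local instance] HasDerivedCategory.standard
open DerCA

namespace Groth.Agent.S6998

/-- Let R → A be a finite type homomorphism of commutative rings and R → R' a ring homomorphism such
that Tor_p^R(A, R') = 0 for every p > 0; put A' = R' ⊗_R A and assume the derived base change D(A) →
D(A') exists. Let K be an object of D(A) and m an integer. If K is m-pseudo-coherent relative to R,
then K ⊗^L_A A' is m-pseudo-coherent relative to R'; if K is pseudo-coherent relative to R, then K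
⊗^L_A A' is pseudo-coherent relative to R'. -/
theorem result {R A R' : Type u} [CommRing R] [CommRing A]
    [CommRing R'] [Algebra R A] [Algebra.FiniteType R A] [Algebra R R']
    (htor : ∀ p : ℕ, 0 < p → Subsingleton (DRing.Tor R p A R'))
    [DRing.HasLBaseChange (Algebra.TensorProduct.includeRight : A →ₐ[R] TensorProduct R R' A).toRingHom]
    (K : Dual.D A) (m : ℤ) :
    (DerCA.IsRelPseudoCoherent R A m K → DerCA.IsRelPseudoCoherent R' (TensorProduct R R' A) m
      ((DRing.LBaseChange (Algebra.TensorProduct.includeRight : A →ₐ[R] TensorProduct R R' A).toRingHom).obj K)) ∧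
      (DerCA.IsRelPseudoCoherentAll R A K → DerCA.IsRelPseudoCoherentAll R' (TensorProduct R R' A)
        ((DRing.LBaseChange (Algebra.TensorProduct.includeRight : A →ₐ[R] TensorProduct R R' A).toRingHom).obj K)) := by
  letI : Algebra A (TensorProduct R R' A) := Algebra.TensorProduct.rightAlgebra
  haveI : Algebra.IsPushout R A R' (TensorProduct R R' A) := TensorProduct.isPushout'
  haveI : DRing.HasLBaseChange (algebraMap A (TensorProduct R R' A)) :=
    ‹DRing.HasLBaseChange
      (Algebra.TensorProduct.includeRight : A →ₐ[R] TensorProduct R R' A).toRingHom›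
  have hti : Groth.Agent.Lib.Helper16.TIBC.tiProp R R' (ModuleCat.of R A) := by
    intro q
    have h1 := (Groth.Agent.Lib.Helper16.TorBal.subsingleton_Tor_iff (R := R) A R' q).1
      (htor (q + 1) (by omega))
    have e : (-((q + 1 : ℕ) : ℤ)) = -((q : ℤ) + 1) := by push_cast; ring
    rw [e] at h1
    let eM : R' ≃ₗ[R] ((ModuleCat.restrictScalars.{u} (algebraMap R R')).obj (ModuleCat.of R' R')) :=
      { toFun := fun s => s
        invFun := fun s => s
        map_add' := fun _ _ => rfl
        map_smul' := fun c s => Algebra.smul_def c s
        left_inv := fun _ => rfl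
        right_inv := fun _ => rfl }
    exact Groth.Agent.Lib.Helper16.TorBal.torVan_of_iso₁ eM.toModuleIso _ _ h1
  refine ⟨fun h => ?_, fun h m' => ?_⟩
  · exact Groth.Agent.Lib.Helper16.TIBC.rel_lBaseChange_of_ti hti K m h
  · exact Groth.Agent.Lib.Helper16.TIBC.rel_lBaseChange_of_ti hti K m' (h m')

end Groth.Agent.S6998
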