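import Groth.Statements.S7007
import Groth.Agent.Lib.Helper15.RelFP3
-- import your own Groth.Agent.* helpers here

set_option autoImplicit false
universe u
open CAlg

namespace Groth.Agent.S7007

/-- Let R → A be a finite type homomorphism of commutative rings with a surjective R-algebra
homomorphism α : R[x_1, ..., x_n] → A, M an A-module, f_1, ..., f_r elements of A generating the
unit ideal, and for each i a surjective R-algebra homomorphism γ_i : R[z_1, ..., z_(k_i)] → A_(f_i).
Then M is finitely presented as an R[x_1, ..., x_n]-module through α if and only if, for every i,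
the localization M_(f_i) is finitely presented as an R[z_1, ..., z_(k_i)]-module through γ_i. -/
theorem result {R A : Type u} [CommRing R] [CommRing A] [Algebra R A]
    {n : ℕ} (α : MvPolynomial (Fin n) R →ₐ[R] A) (hα : Function.Surjective α) (M : Type u) [AddCommGroup M]
    [Module A M] {r : ℕ} (f : Fin r → A) (hf : Ideal.span (Set.range f) = ⊤) (k : Fin r → ℕ)
    (γ : ∀ i, MvPolynomial (Fin (k i)) R →ₐ[R] Localization.Away (f i)) (hγ : ∀ i, Function.Surjective (γ i)) :
    @Module.FinitePresentation (MvPolynomial (Fin n) R) (M) _ _ (Module.compHom (M) α.toRingHom) ↔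
      ∀ i, @Module.FinitePresentation (MvPolynomial (Fin (k i)) R) (LocalizedModule (Submonoid.powers (f i)) M) _ _ (Module.compHom (LocalizedModule (Submonoid.powers (f i)) M) (γ i).toRingHom) := by
  classical
  obtain ⟨F, rfl⟩ : ∃ F : Fin r → MvPolynomial (Fin n) R, f = fun i => α (F i) :=
    ⟨fun i => (hα (f i)).choose, funext fun i => (hα (f i)).choose_spec.symm⟩
  letI : Algebra (MvPolynomial (Fin n) R) A := α.toRingHom.toAlgebra
  letI : Module (MvPolynomial (Fin n) R) M := Module.compHom M α.toRingHom
  haveI : IsScalarTower (MvPolynomial (Fin n) R) A M := ⟨fun p a m => by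
    show (α p * a) • m = α p • (a • m)
    rw [mul_smul]⟩
  haveI : IsScalarTower R (MvPolynomial (Fin n) R) A :=
    IsScalarTower.of_algebraMap_eq (fun r => (α.commutes r).symm)
  have key : ∀ i, Module.FinitePresentation (Localization.Away (F i))
      (LocalizedModule (Submonoid.powers (F i)) M) ↔
      @Module.FinitePresentation (MvPolynomial (Fin (k i)) R)
        (LocalizedModule (Submonoid.powers (α (F i))) M) _ _
        (Module.compHom (LocalizedModule (Submonoid.powers (α (F i))) M) (γ i).toRingHom) := by
    intro i
    have h2 := @Groth.Agent.Lib.Helper15.RelFP.fp_localizedModule_iff_fpvia R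
      (MvPolynomial (Fin n) R) A M (MvPolynomial (Fin (k i)) R) _ _ _ _ _ _ _ _ _ _ _ _ _ _ _
    have h3 := h2 hα (F i)
    have h4 := h3 (γ i)
    exact h4 (hγ i)
  constructor
  · intro hM i
    haveI : Module.FinitePresentation (MvPolynomial (Fin n) R) M := hM
    exact (key i).mp inferInstance
  · intro h
    have h' : ∀ i, Module.FinitePresentation (Localization.Away (F i))
        (LocalizedModule (Submonoid.powers (F i)) M) := fun i => (key i).mpr (h i)
    -- find `h0 ∈ ker α` with `span (range F ∪ {h0}) = ⊤`
    have hJ : Ideal.span (Set.range F) ⊔ RingHom.ker α.toRingHom = ⊤ := by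
      have h1 : Ideal.map α.toRingHom (Ideal.span (Set.range F)) = ⊤ := by
        rw [Ideal.map_span, ← hf]
        congr 1
        ext a
        simp only [Set.mem_image, Set.mem_range, exists_exists_eq_and]
        rfl
      have h2 := Ideal.comap_map_of_surjective α.toRingHom hα (Ideal.span (Set.range F))
      rw [h1, Ideal.comap_top] at h2
      exact h2.symm
    obtain ⟨j, hj, h0, hh0, hsum⟩ := Submodule.mem_sup.mp
      (hJ ▸ Submodule.mem_top : (1 : MvPolynomial (Fin n) R) ∈
        Ideal.span (Set.range F) ⊔ RingHom.ker α.toRingHom)
    have hs : Ideal.span (Set.range F ∪ {h0}) = ⊤ := by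
      rw [Ideal.eq_top_iff_one, ← hsum]
      exact Ideal.add_mem _ (Ideal.span_mono Set.subset_union_left hj)
        (Ideal.subset_span (Set.mem_union_right _ rfl))
    refine Module.FinitePresentation.of_localizationSpan (Set.range F ∪ {h0}) hs ?_
    rintro ⟨g, hg | hg⟩
    · obtain ⟨i, rfl⟩ := hg
      exact h' i
    · have hg0 : g = h0 := hg
      subst hg0
      haveI : Subsingleton (LocalizedModule (Submonoid.powers g) M) := by
        rw [LocalizedModule.subsingleton_iff]
        intro m
        refine ⟨g, Submonoid.mem_powers g, ?_⟩
        show α g • m = 0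
        rw [show α g = 0 from hh0, zero_smul]
      infer_instance

end Groth.Agent.S7007
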