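import Groth.Statements.S7008
import Groth.Agent.Lib.Helper15.RelPC8
import Groth.Agent.S6985
-- import your own Groth.Agent.* helpers here

set_option autoImplicit false
universe u
open CategoryTheory CategoryTheory.Limits
attribute [local instance] HasDerivedCategory.standard
open DerCA

namespace Groth.Agent.S7008

section H
namespace W1
open Groth.Agent.Lib.Helper16.RelPC Groth.Agent.Lib.Helper16.LDer Groth.Agent.Lib.Helper15.RelPC7
  Groth.Agent.Lib.Helper15.RelPC8

theorem step {R A : Type u} [CommRing R] [CommRing A] (f : R) [Algebra R A]
    [Algebra (Localization.Away f) A] [IsScalarTower R (Localization.Away f) A]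
    [Algebra.FiniteType (Localization.Away f) A] (g : A) (K : DRing.Cx A) (m : ℤ)
    (h : DerCA.IsRelPseudoCoherent (Localization.Away f) A m (DRing.toD K)) :
    DerCA.IsRelPseudoCoherent R (Localization.Away g) m
      (DRing.toD (((ModuleCat.extendScalars (algebraMap A (Localization.Away g))).mapHomologicalComplex
        (ComplexShape.up ℤ)).obj K)) := by
  obtain ⟨n, α, hα, hv⟩ := h
  obtain ⟨g', hg'⟩ := hα g
  haveI : IsLocalization.Away (α g') (Localization.Away g) := by rw [hg']; infer_instance
  have h1 : DerCA.IsRelPseudoCoherent (Localization.Away f) (Localization.Away g) m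
      (DRing.toD ((extCx (algebraMap A (Localization.Away g))).obj K)) :=
    ⟨n + 1, locPres α g' _, locPres_surjective α g' _ hα, via_locPres_of_via α g' _ K m hv⟩
  haveI : Algebra.FiniteType (Localization.Away f) (Localization.Away g) :=
    Algebra.FiniteType.trans (inferInstance : Algebra.FiniteType (Localization.Away f) A)
      (inferInstance : Algebra.FiniteType A (Localization.Away g))
  haveI : Algebra.FiniteType R (Localization.Away f) := inferInstance
  haveI : Algebra.FiniteType R (Localization.Away g) :=
    Algebra.FiniteType.trans (inferInstance : Algebra.FiniteType R (Localization.Away f))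
      (inferInstance : Algebra.FiniteType (Localization.Away f) (Localization.Away g))
  exact ((Groth.Agent.S6985.result (R := R) (A := Localization.Away f) (B := Localization.Away g)
    (relPCModuleAll_away f (Localization.Away f)) _ m).1).1 h1

theorem main {R A : Type u} [CommRing R] [CommRing A] (f : R) [Algebra R A]
    [Algebra (Localization.Away f) A] [IsScalarTower R (Localization.Away f) A]
    [Algebra.FiniteType (Localization.Away f) A] (g : A) (K : DRing.Cx A) (m : ℤ) :
    (DerCA.IsRelPseudoCoherent (Localization.Away f) A m (DRing.toD K) →
      DerCA.IsRelPseudoCoherent R (Localization.Away g) m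
        (DRing.toD (((ModuleCat.extendScalars (algebraMap A (Localization.Away g))).mapHomologicalComplex
          (ComplexShape.up ℤ)).obj K))) ∧
      (DerCA.IsRelPseudoCoherentAll (Localization.Away f) A (DRing.toD K) →
        DerCA.IsRelPseudoCoherentAll R (Localization.Away g)
          (DRing.toD (((ModuleCat.extendScalars (algebraMap A (Localization.Away g))).mapHomologicalComplex
            (ComplexShape.up ℤ)).obj K))) :=
  ⟨step f g K m, fun h m' => step f g K m' (h m')⟩

end W1
end H


/-- Let R be a commutative ring, f an element of R, A a finite type R_f-algebra, g an element of A, K a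
cochain complex of A-modules and m an integer; write K_g for the termwise localization K ⊗_A A_g, a
complex over the finite type R-algebra A_g. Suppose K is m-pseudo-coherent relative to R_f; then K_g
is m-pseudo-coherent relative to R. Suppose K is pseudo-coherent relative to R_f in every degree;
then so is K_g relative to R. -/
theorem result {R A : Type u} [CommRing R] [CommRing A] (f : R) [Algebra R A]
    [Algebra (Localization.Away f) A] [IsScalarTower R (Localization.Away f) A]
    [Algebra.FiniteType (Localization.Away f) A] (g : A) (K : DRing.Cx A) (m : ℤ) :
    (DerCA.IsRelPseudoCoherent (Localization.Away f) A m (DRing.toD K) →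
      DerCA.IsRelPseudoCoherent R (Localization.Away g) m
        (DRing.toD (((ModuleCat.extendScalars (algebraMap A (Localization.Away g))).mapHomologicalComplex
          (ComplexShape.up ℤ)).obj K))) ∧
      (DerCA.IsRelPseudoCoherentAll (Localization.Away f) A (DRing.toD K) →
        DerCA.IsRelPseudoCoherentAll R (Localization.Away g)
          (DRing.toD (((ModuleCat.extendScalars (algebraMap A (Localization.Away g))).mapHomologicalComplex
            (ComplexShape.up ℤ)).obj K))) := by
  exact W1.main f g K m

end Groth.Agent.S7008
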