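import Groth.Statements.S7010
import Mathlib.Algebra.Homology.DerivedCategory.SingleTriangle
import Mathlib.Algebra.Homology.DerivedCategory.ShortExact
import Mathlib.RingTheory.Finiteness.Projective
import Mathlib.Algebra.Category.ModuleCat.Biproducts
import Mathlib.Algebra.Homology.HomologicalComplexLimits
-- import your own Groth.Agent.* helpers here

set_option autoImplicit false
universe u
open CategoryTheory CategoryTheory.Limits
attribute [local instance] HasDerivedCategory.standard
open DRing

namespace Groth.Agent.S7010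

open CategoryTheory.Pretriangulated DerivedCategory

section
variable {R : Type u} [CommRing R]

/-- splitting of a retraction -/
noncomputable def splitEquiv {F M : Type u} [AddCommGroup F] [Module R F] [AddCommGroup M] [Module R M]
    (f : F →ₗ[R] M) (g : M →ₗ[R] F) (h : f ∘ₗ g = LinearMap.id) :
    F ≃ₗ[R] M × LinearMap.ker f where
  toFun x := (f x, ⟨x - g (f x), by
    have := LinearMap.congr_fun h (f x)
    simp only [LinearMap.comp_apply, LinearMap.id_apply] at this
    simp [LinearMap.mem_ker, this]⟩)
  map_add' x y := by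
    refine Prod.ext (by simp) (Subtype.ext ?_)
    simp only [map_add, Prod.snd_add, Submodule.coe_add]
    abel
  map_smul' r x := by
    ext
    · simp
    · simp [smul_sub]
  invFun p := g p.1 + p.2.1
  left_inv x := by simp
  right_inv p := by
    have h1 := LinearMap.congr_fun h p.1
    simp only [LinearMap.comp_apply, LinearMap.id_apply] at h1
    have h2 : f p.2.1 = 0 := p.2.2
    ext
    · simp [h1, h2]
    · simp [h1, h2]

noncomputable def consEquiv (n : ℕ) : (Fin (n + 1) → R) ≃ₗ[R] R × (Fin n → R) where
  toFun v := (v 0, fun i => v i.succ)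
  map_add' _ _ := rfl
  map_smul' _ _ := rfl
  invFun p := Fin.cons p.1 p.2
  left_inv v := by
    funext i
    refine Fin.cases ?_ (fun j => ?_) i <;> simp
  right_inv p := by
    ext <;> simp

end


section
variable {R : Type u} [CommRing R]
  (P : ObjectProperty (Dual.D R)) [P.IsClosedUnderIsomorphisms]

attribute [local instance] preservesBinaryBiproducts_of_preservesBiproducts

/-- `M[0]`. -/
noncomputable abbrev sg (M : ModuleCat.{u} R) : Dual.D R :=
  (DerivedCategory.singleFunctor (ModuleCat.{u} R) 0).obj M

noncomputable def sgProdIso (M N : ModuleCat.{u} R) :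
    sg (ModuleCat.of R (M × N)) ≅ sg M ⊞ sg N :=
  (DerivedCategory.singleFunctor (ModuleCat.{u} R) 0).mapIso (ModuleCat.biprodIsoProd M N).symm ≪≫
    (DerivedCategory.singleFunctor (ModuleCat.{u} R) 0).mapBiprod M N

lemma P_zero (hsum : ∀ (X Y : Dual.D R) [HasBinaryBiproduct X Y], P (X ⊞ Y) → P X)
    (hR : P (Dual.inD R R)) (Z : Dual.D R) (hZ : IsZero Z) : P Z :=
  hsum Z (Dual.inD R R) (P.prop_of_iso (isoZeroBiprod hZ) hR)

lemma P_biprod (hext : ∀ T : Triangle (Dual.D R), T ∈ distinguishedTriangles → P T.obj₁ → P T.obj₃ → P T.obj₂)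
    (X Y : Dual.D R) (hX : P X) (hY : P Y) : P (X ⊞ Y) :=
  hext _ (binaryBiproductTriangle_distinguished X Y) hX hY

lemma P_free (hext : ∀ T : Triangle (Dual.D R), T ∈ distinguishedTriangles → P T.obj₁ → P T.obj₃ → P T.obj₂)
    (hsum : ∀ (X Y : Dual.D R) [HasBinaryBiproduct X Y], P (X ⊞ Y) → P X)
    (hR : P (Dual.inD R R)) : ∀ n : ℕ, P (sg (ModuleCat.of R (Fin n → R)))
  | 0 => by
    refine P_zero P hsum hR _ ?_
    refine Functor.map_isZero _ ?_
    exact ModuleCat.isZero_of_subsingleton _
  | n + 1 => by
    have e : sg (ModuleCat.of R (Fin (n + 1) → R)) ≅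
        sg (ModuleCat.of R R) ⊞ sg (ModuleCat.of R (Fin n → R)) :=
      (DerivedCategory.singleFunctor (ModuleCat.{u} R) 0).mapIso (consEquiv (R := R) n).toModuleIso ≪≫
        sgProdIso (ModuleCat.of R R) (ModuleCat.of R (Fin n → R))
    exact P.prop_of_iso e.symm (P_biprod P hext _ _ hR (P_free hext hsum hR n))

lemma P_proj (hext : ∀ T : Triangle (Dual.D R), T ∈ distinguishedTriangles → P T.obj₁ → P T.obj₃ → P T.obj₂)
    (hsum : ∀ (X Y : Dual.D R) [HasBinaryBiproduct X Y], P (X ⊞ Y) → P X)
    (hR : P (Dual.inD R R)) (M : ModuleCat.{u} R) [Module.Finite R M] [Module.Projective R M] :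
    P (sg M) := by
  obtain ⟨n, f, g, -, -, hfg⟩ := Module.Finite.exists_comp_eq_id_of_projective R M
  have e : sg (ModuleCat.of R (Fin n → R)) ≅ sg M ⊞ sg (ModuleCat.of R (LinearMap.ker f)) :=
    (DerivedCategory.singleFunctor (ModuleCat.{u} R) 0).mapIso (splitEquiv f g hfg).toModuleIso ≪≫
      sgProdIso M (ModuleCat.of R (LinearMap.ker f))
  exact hsum _ _ (P.prop_of_iso e (P_free P hext hsum hR n))


lemma P_single (hshift : ∀ (K : Dual.D R) (n : ℤ), P K → P ((shiftFunctor (Dual.D R) n).obj K))
    (hext : ∀ T : Triangle (Dual.D R), T ∈ distinguishedTriangles → P T.obj₁ → P T.obj₃ → P T.obj₂)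
    (hsum : ∀ (X Y : Dual.D R) [HasBinaryBiproduct X Y], P (X ⊞ Y) → P X)
    (hR : P (Dual.inD R R)) (M : ModuleCat.{u} R) [Module.Finite R M] [Module.Projective R M] (a : ℤ) :
    P (Q.obj ((CochainComplex.singleFunctor (ModuleCat.{u} R) a).obj M)) := by
  have h1 := hshift _ (-a) (P_proj P hext hsum hR M)
  have e : (shiftFunctor (Dual.D R) (-a)).obj (sg M) ≅
      (DerivedCategory.singleFunctor (ModuleCat.{u} R) a).obj M :=
    ((DerivedCategory.singleFunctors (ModuleCat.{u} R)).shiftIso (-a) a 0 (by omega)).app M
  exact P.prop_of_iso (e ≪≫ (singleFunctorIsoCompQ (ModuleCat.{u} R) a).app M) h1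

theorem main (hshift : ∀ (K : Dual.D R) (n : ℤ), P K → P ((shiftFunctor (Dual.D R) n).obj K))
    (hext : ∀ T : Triangle (Dual.D R), T ∈ distinguishedTriangles → P T.obj₁ → P T.obj₃ → P T.obj₂)
    (hsum : ∀ (X Y : Dual.D R) [HasBinaryBiproduct X Y], P (X ⊞ Y) → P X)
    (hR : P (Dual.inD R R)) : ∀ (n : ℕ) (a : ℤ) (E : CochainComplex (ModuleCat.{u} R) ℤ),
      (∀ i : ℤ, i < a ∨ a + n ≤ i → IsZero (E.X i)) → TermwiseFiniteProjective E → P (Q.obj E) := by
  intro n
  induction n with
  | zero =>
    intro a E hE _
    refine P_zero P hsum hR _ (Functor.map_isZero _ ?_)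
    rw [IsZero.iff_id_eq_zero]
    ext i : 1
    exact (hE i (by omega)).eq_of_src _ _
  | succ n ih =>
    intro a E hE hfp
    let π : E ⟶ (CochainComplex.singleFunctor (ModuleCat.{u} R) a).obj (E.X a) :=
      HomologicalComplex.mkHomToSingle (𝟙 (E.X a)) (fun i hi => by
        have : IsZero (E.X i) := hE i (Or.inl (by simp at hi; omega))
        exact this.eq_of_src _ _)
    have hπa : IsIso (π.f a) := by
      have : π.f a = 𝟙 _ ≫ (HomologicalComplex.singleObjXSelf (ComplexShape.up ℤ) a (E.X a)).inv :=
        HomologicalComplex.mkHomToSingle_f _ _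
      rw [this, Category.id_comp]
      exact Iso.isIso_inv _
    have hπz : ∀ i, i ≠ a →
        IsZero (((CochainComplex.singleFunctor (ModuleCat.{u} R) a).obj (E.X a)).X i) := fun i hi =>
      HomologicalComplex.isZero_single_obj_X (ComplexShape.up ℤ) a (E.X a) i hi
    have : Epi π := by
      refine HomologicalComplex.epi_of_epi_f _ (fun i => ?_)
      by_cases hi : i = a
      · subst hi; infer_instance
      · exact ⟨fun _ _ _ => (hπz i hi).eq_of_src _ _⟩
    let S : ShortComplex (CochainComplex (ModuleCat.{u} R) ℤ) :=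
      ShortComplex.mk (kernel.ι π) π (kernel.condition π)
    have hS : S.ShortExact :=
      { exact := ShortComplex.exact_of_f_is_kernel S (kernelIsKernel π)
        mono_f := inferInstanceAs (Mono (kernel.ι π))
        epi_g := inferInstanceAs (Epi π) }
    have hSi : ∀ i : ℤ, (S.map (HomologicalComplex.eval _ (ComplexShape.up ℤ) i)).ShortExact :=
      fun i => hS.map_of_exact _
    -- terms of the kernel
    have hKa : IsZero ((kernel π).X a) := by
      have := (hSi a).isIso_g_iff.1 hπa
      exact this
    have hKi : ∀ i, i ≠ a → IsIso ((kernel.ι π).f i) := fun i hi =>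
      (hSi i).isIso_f_iff.2 (hπz i hi)
    have hK1 : ∀ i : ℤ, i < a + 1 ∨ (a + 1) + n ≤ i → IsZero ((kernel π).X i) := by
      intro i hi
      by_cases hia : i = a
      · subst hia; exact hKa
      · have := hKi i hia
        exact (hE i (by push_cast; omega)).of_iso (asIso ((kernel.ι π).f i))
    have hK2 : TermwiseFiniteProjective (kernel π) := by
      intro i
      by_cases hia : i = a
      · subst hia
        have : Subsingleton ((kernel π).X i) := ModuleCat.subsingleton_of_isZero hKa
        exact ⟨inferInstance, inferInstance⟩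
      · have := hKi i hia
        let e : (kernel π).X i ≃ₗ[R] E.X i := (asIso ((kernel.ι π).f i)).toLinearEquiv
        have := (hfp i).1
        have := (hfp i).2
        exact ⟨Module.Finite.equiv e.symm, Module.Projective.of_equiv e.symm⟩
    have hT := triangleOfSES_distinguished hS
    have := (hfp a).1
    have := (hfp a).2
    exact hext _ hT (ih (a + 1) (kernel π) hK1 hK2) (P_single P hshift hext hsum hR (E.X a) a)


end


open CategoryTheory.Pretriangulated in
/-- The inclusion of the perfect objects in the subcategory generated by R: let R be a commutative ring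
and P a property of objects of D(R) which is closed under isomorphisms, holds for R[0], is stable
under all shifts, is closed under extensions (if it holds for the outer terms of a distinguished
triangle it holds for the middle term) and is closed under taking direct summands. Then P holds for
every perfect object of D(R). -/
theorem result (R : Type u) [CommRing R]
    (P : ObjectProperty (Dual.D R)) [P.IsClosedUnderIsomorphisms] (hR : P (Dual.inD R R))
    (hshift : ∀ (K : Dual.D R) (n : ℤ), P K → P ((shiftFunctor (Dual.D R) n).obj K))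
    (hext : ∀ T : Triangle (Dual.D R), T ∈ distinguishedTriangles → P T.obj₁ → P T.obj₃ → P T.obj₂)
    (hsum : ∀ (X Y : Dual.D R) [HasBinaryBiproduct X Y], P (X ⊞ Y) → P X)
    (K : Dual.D R) (hK : DRing.IsPerfect R K) : P K := by
  obtain ⟨E, a, b, hE, hfp, ⟨e⟩⟩ := hK
  refine P.prop_of_iso e ?_
  refine main P hshift hext hsum hR (b + 1 - a).toNat a E (fun i hi => hE i ?_) hfp
  rcases hi with hi | hi
  · exact Or.inl hi
  · right
    have := Int.self_le_toNat (b + 1 - a)
    omega

end Groth.Agent.S7010
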