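import Groth.Statements.S7015
import Mathlib.Algebra.Category.ModuleCat.Monoidal.Basic
import Mathlib.CategoryTheory.Monoidal.Rigid.Basic
import Mathlib.LinearAlgebra.TensorProduct.Finiteness
import Mathlib.Algebra.Module.Projective
import Mathlib.RingTheory.Finiteness.Basic
import Mathlib.LinearAlgebra.FreeModule.Basic
import Mathlib.LinearAlgebra.FreeModule.Finite.Basic
import Mathlib.LinearAlgebra.StdBasis

set_option autoImplicit false
universe u
open CategoryTheory MonoidalCategory
open DRing

namespace Groth.Agent.S7015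

open TensorProduct

section
variable {R : Type*} [CommRing R] {M N : Type*} [AddCommGroup M] [Module R M]
  [AddCommGroup N] [Module R N]

theorem retract {ι : Type*} [Fintype ι] (i : M →ₗ[R] (ι → R)) (s : (ι → R) →ₗ[R] M)
    (H : s ∘ₗ i = LinearMap.id) : Module.Finite R M ∧ Module.Projective R M := by
  classical
  refine ⟨?_, Module.Projective.of_split i s H⟩
  have hs : Function.Surjective s := fun m => ⟨i m, LinearMap.congr_fun H m⟩
  exact Module.Finite.of_surjective s hs

theorem coreM (t : M ⊗[R] N) (ev : N ⊗[R] M →ₗ[R] R)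
    (h : ∀ m, TensorProduct.rid R M (LinearMap.lTensor M ev (TensorProduct.assoc R M N M (t ⊗ₜ m))) = m) :
    Module.Finite R M ∧ Module.Projective R M := by
  classical
  obtain ⟨S, hS⟩ := TensorProduct.exists_finset t
  refine retract (ι := S) (LinearMap.pi (fun x => ev ∘ₗ (TensorProduct.mk R N M x.1.2)))
    (Fintype.linearCombination R (fun x : S => x.1.1)) ?_
  ext m
  have := h m
  rw [hS, TensorProduct.sum_tmul, map_sum, map_sum, map_sum] at this
  simp only [TensorProduct.assoc_tmul, LinearMap.lTensor_tmul, TensorProduct.rid_tmul] at this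
  rw [LinearMap.comp_apply, Fintype.linearCombination_apply, LinearMap.id_apply]
  conv_rhs => rw [← this, ← Finset.sum_coe_sort]
  rfl

theorem coreN (t : M ⊗[R] N) (ev : N ⊗[R] M →ₗ[R] R)
    (h : ∀ n, TensorProduct.lid R N (LinearMap.rTensor N ev ((TensorProduct.assoc R N M N).symm (n ⊗ₜ t))) = n) :
    Module.Finite R N ∧ Module.Projective R N := by
  classical
  obtain ⟨S, hS⟩ := TensorProduct.exists_finset t
  refine retract (ι := S) (LinearMap.pi (fun x => ev ∘ₗ (TensorProduct.mk R N M).flip x.1.1))
    (Fintype.linearCombination R (fun x : S => x.1.2)) ?_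
  ext n
  have := h n
  rw [hS, TensorProduct.tmul_sum, map_sum, map_sum, map_sum] at this
  simp only [TensorProduct.assoc_symm_tmul, LinearMap.rTensor_tmul, TensorProduct.lid_tmul] at this
  rw [LinearMap.comp_apply, Fintype.linearCombination_apply, LinearMap.id_apply]
  conv_rhs => rw [← this, ← Finset.sum_coe_sort]
  rfl

end

open CategoryTheory MonoidalCategory

/-- Let R be a commutative ring and M, N R-modules such that N is a left dual of M for the tensor
product of R-modules, i.e. there are a coevaluation R → M ⊗ N and an evaluation N ⊗ M → R satisfying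
the triangle identities (an exact pairing). Then M and N are finitely generated projective
R-modules. -/
theorem result (R : Type u) [CommRing R] (M N : Type u) [AddCommGroup M]
    [Module R M] [AddCommGroup N] [Module R N] [ExactPairing (ModuleCat.of R M) (ModuleCat.of R N)] :
    Module.Finite R M ∧ Module.Projective R M ∧ Module.Finite R N ∧ Module.Projective R N := by
  let X := ModuleCat.of R M
  let Y := ModuleCat.of R N
  let coev : R →ₗ[R] M ⊗[R] N := (ExactPairing.coevaluation' (X := X) (Y := Y)).hom
  let ev : N ⊗[R] M →ₗ[R] R := (ExactPairing.evaluation' (X := X) (Y := Y)).hom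
  have h1 := ExactPairing.evaluation_coevaluation' (X := X) (Y := Y)
  have h2 := ExactPairing.coevaluation_evaluation' (X := X) (Y := Y)
  have hM := coreM (coev 1) ev (by
    intro m
    have := LinearMap.congr_fun (congrArg ModuleCat.Hom.hom h1) ((1 : R) ⊗ₜ[R] m)
    simp only [ModuleCat.hom_comp, LinearMap.comp_apply] at this
    have e : (ModuleCat.Hom.hom (ρ_ X).inv) ((ModuleCat.Hom.hom (λ_ X).hom) ((1 : R) ⊗ₜ[R] m)) =
        m ⊗ₜ[R] (1 : R) := by
      rw [ModuleCat.hom_inv_rightUnitor, ModuleCat.hom_hom_leftUnitor]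
      change (TensorProduct.rid R M).symm ((TensorProduct.lid R M) ((1 : R) ⊗ₜ[R] m)) = _
      simp
    have key : (LinearMap.lTensor M ev) ((TensorProduct.assoc R M N M) (coev 1 ⊗ₜ[R] m)) =
        m ⊗ₜ[R] (1 : R) := this.trans e
    rw [key]
    simp)
  have hN := coreN (coev 1) ev (by
    intro n
    have := LinearMap.congr_fun (congrArg ModuleCat.Hom.hom h2) (n ⊗ₜ[R] (1 : R))
    simp only [ModuleCat.hom_comp, LinearMap.comp_apply] at this
    have e : (ModuleCat.Hom.hom (λ_ Y).inv) ((ModuleCat.Hom.hom (ρ_ Y).hom) (n ⊗ₜ[R] (1 : R))) =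
        (1 : R) ⊗ₜ[R] n := by
      rw [ModuleCat.hom_inv_leftUnitor, ModuleCat.hom_hom_rightUnitor]
      change (TensorProduct.lid R N).symm ((TensorProduct.rid R N) (n ⊗ₜ[R] (1 : R))) = _
      simp
    have key : (LinearMap.rTensor N ev) ((TensorProduct.assoc R N M N).symm (n ⊗ₜ[R] coev 1)) =
        (1 : R) ⊗ₜ[R] n := this.trans e
    rw [key]
    simp)
  exact ⟨hM.1, hM.2, hN.1, hN.2⟩

end Groth.Agent.S7015
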