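import Groth.Statements.S7022
import Groth.Agent.Lib.Helper16.PC5
-- import your own Groth.Agent.* helpers here

set_option autoImplicit false
universe u
open CategoryTheory CategoryTheory.Limits
attribute [local instance] HasDerivedCategory.standard
open DerCA

namespace Groth.Agent.S7022

open CategoryTheory.Limits DerivedCategory Groth.Agent.Lib.Helper16.PC

lemma via_of_biprod {R A : Type u} [CommRing R] [CommRing A] [Algebra R A] {n : ℕ}
    (α : MvPolynomial (Fin n) R →ₐ[R] A) (m : ℤ) (K L : Dual.D A) [HasBinaryBiproduct K L]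
    (h : DerCA.IsRelPseudoCoherentVia α m (K ⊞ L)) :
    DerCA.IsRelPseudoCoherentVia α m K ∧ DerCA.IsRelPseudoCoherentVia α m L := by
  let F := DRing.restrictD (α : MvPolynomial (Fin n) R →+* A)
  constructor
  · refine pc_of_retract (F.map (biprod.inl : K ⟶ K ⊞ L)) (F.map biprod.fst) ?_ h
    rw [← F.map_comp, biprod.inl_fst, F.map_id]
  · refine pc_of_retract (F.map (biprod.inr : L ⟶ K ⊞ L)) (F.map biprod.snd) ?_ h
    rw [← F.map_comp, biprod.inr_snd, F.map_id]



/-- Let R → A be a finite type homomorphism of commutative rings, m an integer and K, L objects of the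
derived category D(A). Whenever the direct sum K ⊕ L is pseudo-coherent relative to R in degree m,
both summands K and L are too; likewise, relative pseudo-coherence of K ⊕ L (in every degree) passes
to K and to L. -/
theorem result {R A : Type u} [CommRing R] [CommRing A] [Algebra R A] [Algebra.FiniteType R A] (m : ℤ) (K L : Dual.D A) [HasBinaryBiproduct K L] :
    (DerCA.IsRelPseudoCoherent R A m (K ⊞ L) → DerCA.IsRelPseudoCoherent R A m K ∧ DerCA.IsRelPseudoCoherent R A m L) ∧
      (DerCA.IsRelPseudoCoherentAll R A (K ⊞ L) →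
        DerCA.IsRelPseudoCoherentAll R A K ∧ DerCA.IsRelPseudoCoherentAll R A L) := by
  have key : ∀ m : ℤ, DerCA.IsRelPseudoCoherent R A m (K ⊞ L) →
      DerCA.IsRelPseudoCoherent R A m K ∧ DerCA.IsRelPseudoCoherent R A m L := by
    rintro m ⟨n, α, hα, h⟩
    obtain ⟨h1, h2⟩ := via_of_biprod α m K L h
    exact ⟨⟨n, α, hα, h1⟩, ⟨n, α, hα, h2⟩⟩
  exact ⟨key m, fun h => ⟨fun m => (key m (h m)).1, fun m => (key m (h m)).2⟩⟩

end Groth.Agent.S7022
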