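import Groth.Statements.S7023
import Groth.Agent.Lib.Helper16.RelPC3
-- import your own Groth.Agent.* helpers here

set_option autoImplicit false
universe u
open CategoryTheory CategoryTheory.Limits
attribute [local instance] HasDerivedCategory.standard
open DerCA

namespace Groth.Agent.S7023

open CategoryTheory.Limits DerivedCategory CategoryTheory.Pretriangulated
open Groth.Agent.Lib.Helper16.PC Groth.Agent.Lib.Helper16.RelPC Groth.Agent.Lib.Helper16.RestrictD

lemma via_of_termwise {R A : Type u} [CommRing R] [CommRing A] [Algebra R A] {n : ℕ}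
    (α : MvPolynomial (Fin n) R →ₐ[R] A) (m : ℤ) (K : DRing.Cx A) (b : ℤ)
    (hb : DRing.VanishesAbove K b)
    (h : ∀ i : ℤ, DerCA.IsRelPseudoCoherentVia α (m - i) (Dual.inD A (K.X i))) :
    DerCA.IsRelPseudoCoherentVia α m (DRing.toD K) := by
  let φ : MvPolynomial (Fin n) R →+* A := (α : MvPolynomial (Fin n) R →+* A)
  refine pc_of_iso ?_ (restrictQIso φ K).symm
  refine pc_of_termwise m _ b (fun i hi => ?_) (fun i => ?_)
  · exact Functor.map_isZero (ModuleCat.restrictScalars.{u} φ) (hb i hi)
  · exact pc_of_iso (h i) (((ModuleCat.restrictScalars.{u} φ).mapDerivedCategorySingleFunctor 0).app _)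



/-- Let R → A be a finite type homomorphism of commutative rings, m an integer and K a bounded above
cochain complex of A-modules such that the module K^i is (m - i)-pseudo-coherent relative to R for
every i. Then K is m-pseudo-coherent relative to R. Moreover, K is pseudo-coherent over R as soon as
each of its terms K^i is so. -/
theorem result {R A : Type u} [CommRing R] [CommRing A] [Algebra R A] [Algebra.FiniteType R A] (m : ℤ) (K : DRing.Cx A) (b : ℤ)
    (hb : DRing.VanishesAbove K b) :
    ((∀ i : ℤ, DerCA.IsRelPseudoCoherentModule R A (m - i) (K.X i)) → DerCA.IsRelPseudoCoherent R A m (DRing.toD K)) ∧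
      ((∀ i : ℤ, DerCA.IsRelPseudoCoherentModuleAll R A (K.X i)) →
        DerCA.IsRelPseudoCoherentAll R A (DRing.toD K)) := by
  obtain ⟨n, α, hα⟩ := exists_presentation R A
  unfold DerCA.IsRelPseudoCoherentModuleAll DerCA.IsRelPseudoCoherentModule
  simp only [relAll_iff_via α hα, rel_iff_via α hα]
  exact ⟨fun h => via_of_termwise α m K b hb h,
    fun h m' => via_of_termwise α m' K b hb (fun i => h i (m' - i))⟩

end Groth.Agent.S7023
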