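import Groth.Statements.S7024
import Groth.Agent.Lib.Helper16.RelPC3
-- import your own Groth.Agent.* helpers here

set_option autoImplicit false
universe u
open CategoryTheory CategoryTheory.Limits
attribute [local instance] HasDerivedCategory.standard
open DerCA

namespace Groth.Agent.S7024

open CategoryTheory.Limits DerivedCategory CategoryTheory.Pretriangulated
open Groth.Agent.Lib.Helper16.PC Groth.Agent.Lib.Helper16.RelPC Groth.Agent.Lib.Helper16.RestrictD

lemma via_of_homology {R A : Type u} [CommRing R] [CommRing A] [Algebra R A] {n : ℕ}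
    (α : MvPolynomial (Fin n) R →ₐ[R] A) (m : ℤ) (K : Dual.D A)
    (hb : ∃ b : ℤ, ∀ i : ℤ, b < i → Subsingleton (Dual.HD A K i))
    (h : ∀ i : ℤ, DerCA.IsRelPseudoCoherentVia α (m - i) (Dual.inD A (Dual.HD A K i))) :
    DerCA.IsRelPseudoCoherentVia α m K := by
  obtain ⟨b, hb⟩ := hb
  let φ : MvPolynomial (Fin n) R →+* A := (α : MvPolynomial (Fin n) R →+* A)
  have hK : K.IsLE b := by
    rw [isLE_iff]
    intro i hi
    have := hb i hi
    exact ModuleCat.isZero_of_subsingleton _
  have hK' := restrict_isLE φ K b hK
  refine pc_of_homology_modules m _ b hK' (fun i => ?_)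
  obtain ⟨e⟩ := nonempty_restrictHomologyIso φ K i
  refine pc_of_iso (h i) ?_
  exact ((ModuleCat.restrictScalars.{u} φ).mapDerivedCategorySingleFunctor 0).app _ ≪≫
    (singleFunctor (ModuleCat.{u} (MvPolynomial (Fin n) R)) 0).mapIso e.symm



/-- Let R → A be a finite type homomorphism of commutative rings, m an integer and K an object of D(A)
whose cohomology vanishes in large degrees. If the module H^i(K) is (m - i)-pseudo-coherent relative
to R for every i, then K is m-pseudo-coherent relative to R. Moreover, K is relatively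
pseudo-coherent over R as soon as each cohomology module H^i(K) has this property over R. -/
theorem result {R A : Type u} [CommRing R] [CommRing A] [Algebra R A] [Algebra.FiniteType R A] (m : ℤ) (K : Dual.D A)
    (hb : ∃ b : ℤ, ∀ i : ℤ, b < i → Subsingleton (Dual.HD A K i)) :
    ((∀ i : ℤ, DerCA.IsRelPseudoCoherentModule R A (m - i) (Dual.HD A K i)) → DerCA.IsRelPseudoCoherent R A m K) ∧
      ((∀ i : ℤ, DerCA.IsRelPseudoCoherentModuleAll R A (Dual.HD A K i)) → DerCA.IsRelPseudoCoherentAll R A K) := by
  obtain ⟨n, α, hα⟩ := exists_presentation R A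
  unfold DerCA.IsRelPseudoCoherentModuleAll DerCA.IsRelPseudoCoherentModule
  simp only [relAll_iff_via α hα, rel_iff_via α hα]
  exact ⟨fun h => via_of_homology α m K hb h,
    fun h m' => via_of_homology α m' K hb (fun i => h i (m' - i))⟩

end Groth.Agent.S7024
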