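import Groth.Statements.S7026
import Groth.Agent.Lib.Helper16.RelPC3
import Groth.Agent.Lib.Helper16.PCNoeth
import Groth.Agent.S6942
-- import your own Groth.Agent.* helpers here

set_option autoImplicit false
universe u
open CategoryTheory CategoryTheory.Limits
attribute [local instance] HasDerivedCategory.standard
open DerCA

namespace Groth.Agent.S7026

open CategoryTheory.Limits DerivedCategory CategoryTheory.Pretriangulated
open Groth.Agent.Lib.Helper16.PC Groth.Agent.Lib.Helper16.RelPC Groth.Agent.Lib.Helper16.RestrictD

lemma finite_restrict_of_surjective {P A : Type u} [CommRing P] [CommRing A] (φ : P →+* A)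
    (hφ : Function.Surjective φ) (N : ModuleCat.{u} A) (h : Module.Finite A N) :
    Module.Finite P ((ModuleCat.restrictScalars.{u} φ).obj N) := by
  letI : Algebra P A := φ.toAlgebra
  letI : Module P N := Module.compHom N φ
  haveI : IsScalarTower P A N := IsScalarTower.of_algebraMap_smul (fun r x => rfl)
  haveI : Module.Finite P A := Module.Finite.of_surjective (Algebra.linearMap P A) hφ
  exact (Module.Finite.trans A N : Module.Finite P N)

lemma finite_restrict_iff {P A : Type u} [CommRing P] [CommRing A] (φ : P →+* A)
    (hφ : Function.Surjective φ) (K : Dual.D A) (i : ℤ) :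
    Module.Finite P ((homologyFunctor (ModuleCat.{u} P) i).obj ((DRing.restrictD φ).obj K)) ↔
      Module.Finite A ((homologyFunctor (ModuleCat.{u} A) i).obj K) := by
  obtain ⟨e⟩ := nonempty_restrictHomologyIso φ K i
  constructor
  · exact finite_homology_of_restrict φ K i
  · intro h
    have := finite_restrict_of_surjective φ hφ _ h
    exact Module.Finite.equiv e.symm.toLinearEquiv

lemma subsingleton_restrict_iff {P A : Type u} [CommRing P] [CommRing A] (φ : P →+* A)
    (K : Dual.D A) (i : ℤ) :
    Subsingleton ((homologyFunctor (ModuleCat.{u} P) i).obj ((DRing.restrictD φ).obj K)) ↔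
      Subsingleton ((homologyFunctor (ModuleCat.{u} A) i).obj K) := by
  obtain ⟨e⟩ := nonempty_restrictHomologyIso φ K i
  exact e.toLinearEquiv.toEquiv.subsingleton_congr



/-- Let R be a Noetherian commutative ring, R → A a finite type ring homomorphism, m an integer, K an
object of D(A) and M an A-module. Then: m-pseudo-coherence of K relative to R is equivalent to
H^i(K) vanishing for all large i together with H^i(K) being a finitely generated A-module for each i
≥ m; pseudo-coherence of K relative to R (every degree) is equivalent to the same with H^i(K)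
finitely generated for every i; and the A-module M is pseudo-coherent relative to R exactly when M
is finitely generated. -/
theorem result {R A : Type u} [CommRing R]
    [IsNoetherianRing R] [CommRing A] [Algebra R A] [Algebra.FiniteType R A] (m : ℤ) (K : Dual.D A)
    (M : Type u) [AddCommGroup M] [Module A M] :
    (DerCA.IsRelPseudoCoherent R A m K ↔
      (∃ b : ℤ, ∀ i : ℤ, b < i → Subsingleton (Dual.HD A K i)) ∧ ∀ i : ℤ, m ≤ i → Module.Finite A (Dual.HD A K i)) ∧
    (DerCA.IsRelPseudoCoherentAll R A K ↔
      (∃ b : ℤ, ∀ i : ℤ, b < i → Subsingleton (Dual.HD A K i)) ∧ ∀ i : ℤ, Module.Finite A (Dual.HD A K i)) ∧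
    (DerCA.IsRelPseudoCoherentModuleAll R A M ↔ Module.Finite A M) := by
  obtain ⟨n, α, hα⟩ := exists_presentation R A
  let φ : MvPolynomial (Fin n) R →+* A := (α : MvPolynomial (Fin n) R →+* A)
  have hφ : Function.Surjective φ := hα
  have part1 : ∀ (m : ℤ) (K : Dual.D A), DerCA.IsRelPseudoCoherent R A m K ↔
      (∃ b : ℤ, ∀ i : ℤ, b < i → Subsingleton (Dual.HD A K i)) ∧
        ∀ i : ℤ, m ≤ i → Module.Finite A (Dual.HD A K i) := by
    intro m K
    rw [rel_iff_via α hα]
    unfold DerCA.IsRelPseudoCoherentVia
    rw [(Groth.Agent.S6942.result (MvPolynomial (Fin n) R) m ((DRing.restrictD φ).obj K)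
      (MvPolynomial (Fin n) R)).1]
    simp only [Dual.HD, subsingleton_restrict_iff φ K, finite_restrict_iff φ hφ K]
  have part2 : ∀ K : Dual.D A, DerCA.IsRelPseudoCoherentAll R A K ↔
      (∃ b : ℤ, ∀ i : ℤ, b < i → Subsingleton (Dual.HD A K i)) ∧
        ∀ i : ℤ, Module.Finite A (Dual.HD A K i) := by
    intro K
    constructor
    · intro h
      exact ⟨((part1 0 K).1 (h 0)).1, fun i => ((part1 i K).1 (h i)).2 i le_rfl⟩
    · rintro ⟨h1, h2⟩ m'
      exact (part1 m' K).2 ⟨h1, fun i _ => h2 i⟩
  refine ⟨part1 m K, part2 K, ?_⟩
  unfold DerCA.IsRelPseudoCoherentModuleAll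
  rw [part2]
  constructor
  · rintro ⟨-, h⟩
    have := h 0
    exact Module.Finite.equiv (homologySingleIso (ModuleCat.of A M)).toLinearEquiv
  · intro h
    refine ⟨⟨0, fun i hi => ?_⟩, fun i => ?_⟩
    · exact ModuleCat.subsingleton_of_isZero
        (Groth.Agent.Lib.Helper8.PAmp.isZero_homology_single 0 (ModuleCat.of A M) i (by omega))
    · by_cases hi : i = 0
      · subst hi
        exact Module.Finite.equiv (homologySingleIso (ModuleCat.of A M)).symm.toLinearEquiv
      · have := ModuleCat.subsingleton_of_isZero
          (Groth.Agent.Lib.Helper8.PAmp.isZero_homology_single 0 (ModuleCat.of A M) i hi)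
        exact Module.Finite.of_finite

end Groth.Agent.S7026
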