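import Groth.Statements.S7031
import Groth.Agent.Lib.helper11.PerfectRegular
import Groth.Agent.Lib.Helper8.Perf3

set_option autoImplicit false
universe u
open CategoryTheory CategoryTheory.Limits
attribute [local instance] HasDerivedCategory.standard
open DRing

namespace Groth.Agent.S7031

/-- Let R be a regular commutative ring (Noetherian, with regular local rings at all primes) such that
the derived tensor product - ⊗^L_R M exists on D(R) for every R-module M, and let K be an object of
D(R). Then K is perfect if and only if H^i(K) = 0 outside a bounded range of degrees and every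
H^i(K) is a finitely generated R-module. -/
theorem result (R : Type u) [CommRing R] [IsNoetherianRing R]
    (hreg : ∀ p : PrimeSpectrum R, IsRegularLocalRing (Localization.AtPrime p.asIdeal)) [∀ M : ModuleCat.{u} R, DRing.HasLTensor R M] (K : Dual.D R) :
    DRing.IsPerfect R K ↔
      (∃ a b : ℤ, ∀ i : ℤ, (i < a ∨ b < i) → Subsingleton (Dual.HD R K i)) ∧ ∀ i : ℤ, Module.Finite R (Dual.HD R K i) := by
  haveI : IsRegularRing R := isRegularRing_iff.mpr fun p hp => hreg ⟨p, hp⟩
  constructor
  · rintro ⟨E, a, b, h1, h2, ⟨e⟩⟩
    have hiso : ∀ i : ℤ, Dual.HD R K i ≃ₗ[R] E.homology i := fun i =>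
      ((DerivedCategory.homologyFunctor (ModuleCat.{u} R) i).mapIso e.symm ≪≫
        Groth.Agent.Lib.helper11.PerfectRegular.hdIso E i).toLinearEquiv
    refine ⟨⟨a, b, fun i hi => ?_⟩, fun i => ?_⟩
    · have hz : IsZero (E.homology i) :=
        ShortComplex.isZero_homology_of_isZero_X₂ _ (h1 i hi)
      haveI : Subsingleton (E.homology i) := ModuleCat.subsingleton_of_isZero hz
      exact (hiso i).toEquiv.subsingleton
    · haveI : Module.Finite R (E.sc i).X₂ := (h2 i).1
      have h3 : Module.Finite R (E.homology i) :=
        Groth.Agent.Lib.helper11.PerfectRegular.finite_homology (E.sc i)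
      exact Module.Finite.equiv (hiso i).symm
  · rintro ⟨hb, hfin⟩
    apply Groth.Agent.Lib.Helper8.Perf.isPerfect_of_bounded_perfect_homology K hb
    intro i
    haveI := hfin i
    obtain ⟨d, hd⟩ := Groth.Agent.Lib.helper11.RegularRingPD.exists_hasProjectiveDimensionLE
      (ModuleCat.of R (Dual.HD R K i))
    exact Groth.Agent.Lib.helper11.PerfectRegular.isPerfectModule_of_hasProjectiveDimensionLT d _ hd

end Groth.Agent.S7031
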