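import Groth.Statements.S7035
import Groth.Agent.Lib.Helper16.GlobPerf
import Groth.Agent.Lib.Helper16.RelBC1
import Groth.Agent.Lib.Helper16.TorAmp9
import Groth.Agent.Lib.Helper16.TorLoc9
import Groth.Agent.Lib.Helper16.PC11
import Groth.Agent.Lib.Helper16.KF8
import Groth.Agent.Lib.Helper16.KPR7

set_option autoImplicit false
universe u
open CategoryTheory CategoryTheory.Limits
attribute [local instance] HasDerivedCategory.standard
open DRing

namespace Groth.Agent.S7035

open Groth.Agent.Lib.Helper16 TensorProduct

/-- the residue field at a maximal ideal, as a module over the ring. -/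
noncomputable def asModResidueFieldIso {B : Type u} [CommRing B] (m : Ideal B) [m.IsMaximal] :
    KPR.asMod (algebraMap B m.ResidueField) ≅ ModuleCat.of B (B ⧸ m) :=
  (LinearEquiv.toModuleIso
    (LinearEquiv.ofBijective
      ({ toFun := fun x => (algebraMap (B ⧸ m) m.ResidueField x : m.ResidueField)
         map_add' := fun x y => map_add _ x y
         map_smul' := fun r x => by
          change algebraMap (B ⧸ m) m.ResidueField (r • x) =
            algebraMap B m.ResidueField r * algebraMap (B ⧸ m) m.ResidueField x
          rw [Algebra.smul_def, map_mul]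
          rfl } : (B ⧸ m) →ₗ[B] (KPR.asMod (algebraMap B m.ResidueField)))
      (Ideal.bijective_algebraMap_quotient_residueField m))).symm

/-- Let A → B be a flat homomorphism of commutative rings and d a natural number such that for every
prime p of A, with residue field κ(p), every module over κ(p) ⊗_A B has projective dimension at most
d; assume the derived tensor products - ⊗^L M exist on D(κ(p) ⊗_A B) for all p and the derived base
changes D(B) → D(B/m) exist for all ideals m of B. Let a, b be integers and K an object of D(B)
which is pseudo-coherent over B and, with scalars restricted to A, has tor amplitude in [a, b]. Then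
K is perfect over B and has tor amplitude in [a - d, b] over B. -/
theorem result {A B : Type u} [CommRing A] [CommRing B] [Algebra A B]
    [Module.Flat A B] (d : ℕ)
    (hgl : ∀ (p : PrimeSpectrum A) (M : Type u) [AddCommGroup M]
      [Module (TensorProduct A p.asIdeal.ResidueField B) M],
      HasProjectiveDimensionLT (ModuleCat.of (TensorProduct A p.asIdeal.ResidueField B) M) (d + 1))
    [∀ (p : PrimeSpectrum A) (M : ModuleCat.{u} (TensorProduct A p.asIdeal.ResidueField B)),
      DRing.HasLTensor (TensorProduct A p.asIdeal.ResidueField B) M]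
    [∀ m : Ideal B, DRing.HasLBaseChange (Ideal.Quotient.mk m)] (a b : ℤ) (K : Dual.D B)
    (hK : DRing.IsPseudoCoherent' B K)
    (hKa : DRing.HasTorAmplitudeIn A a b ((DRing.restrictD (algebraMap A B)).obj K)) :
    DRing.IsPerfect B K ∧ DRing.HasTorAmplitudeIn B (a - d) b K := by
  classical
  obtain ⟨P, b', hP, hff, ⟨e⟩⟩ := hK
  -- `P` restricted to `A` is a bounded above complex of flat modules
  have hPA : DRing.VanishesAbove ((TorLoc.resCx (algebraMap A B)).obj P) b' := fun i hi =>
    (ModuleCat.restrictScalars.{u} (algebraMap A B)).map_isZero (hP i hi)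
  have hflA : DRing.TermwiseFlat ((TorLoc.resCx (algebraMap A B)).obj P) := fun i => by
    haveI := (hff i).2
    haveI : Module.Flat B (P.X i) := inferInstance
    change Module.Flat A ((ModuleCat.restrictScalars.{u} (algebraMap A B)).obj (P.X i))
    letI : Module A (P.X i) := Module.compHom _ (algebraMap A B)
    haveI : IsScalarTower A B (P.X i) := IsScalarTower.of_algebraMap_smul fun _ _ => rfl
    exact Module.Flat.trans A B (P.X i)
  have hampA : DRing.HasTorAmplitudeIn A a b
      (DRing.toD ((TorLoc.resCx (algebraMap A B)).obj P)) :=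
    TorAmp.hasTorAmplitudeIn_of_iso ((DRing.restrictD (algebraMap A B)).mapIso e.symm ≪≫
      RestrictD.restrictQIso (algebraMap A B) P) a b hKa
  have hPfl : DRing.TermwiseFlat P := fun i => by
    haveI := (hff i).2
    infer_instance
  have key : DRing.HasTorAmplitudeIn B (a - d) b (DRing.toD P) := by
    refine KPR.torAmp_of_fibres P b' hP hff (a - d) b (fun m hm i hi => ?_)
    -- the prime of `A` below `m`
    let p : Ideal A := m.comap (algebraMap A B)
    haveI : p.IsPrime := Ideal.comap_isPrime _ _
    let pp : PrimeSpectrum A := ⟨p, inferInstance⟩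
    -- the fibre over `κ(p)`
    have h1 : ∀ j : ℤ, j < a ∨ b < j →
        ((TorLoc.extCx (RelBC.ι A B p.ResidueField)).obj P).ExactAt j := by
      intro j hj
      rw [← TorLoc.exactAt_resCx_iff (algebraMap p.ResidueField (p.ResidueField ⊗[A] B))]
      refine HomologicalComplex.ExactAt.of_iso ?_ (RelBC.bcCxIso A B p.ResidueField P).symm
      exact (KPR.exactAt_extCx_iff (algebraMap A p.ResidueField) _ j).2
        (TorAmp.exactAt_tensCx_of_torAmp _ b' hPA hflA a b hampA _ j hj)
    -- tor amplitude over the fibre ring
    have h2 : DRing.HasTorAmplitudeIn (p.ResidueField ⊗[A] B) (a - d) b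
        (DRing.toD ((TorLoc.extCx (RelBC.ι A B p.ResidueField)).obj P)) :=
      TorAmp.torAmp_of_globalDim d (hgl pp) _ a b (fun j hj =>
        (TorAmp.subsingleton_HD_iff_exactAt _ (Iso.refl _) j).2 (h1 j hj))
    -- the residue field of `m` as an algebra over the fibre ring
    let χ : p.ResidueField ⊗[A] B →+* m.ResidueField :=
      (Algebra.TensorProduct.lift
        (Ideal.ResidueField.mapₐ p m (Algebra.ofId A B) rfl)
        (IsScalarTower.toAlgHom A B m.ResidueField) (fun _ _ => Commute.all _ _)).toRingHom
    have hχ : χ.comp (RelBC.ι A B p.ResidueField) = algebraMap B m.ResidueField := by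
      ext x
      change (Algebra.TensorProduct.lift
        (Ideal.ResidueField.mapₐ p m (Algebra.ofId A B) rfl)
        (IsScalarTower.toAlgHom A B m.ResidueField) (fun _ _ => Commute.all _ _))
          (1 ⊗ₜ[A] x) = _
      rw [Algebra.TensorProduct.lift_tmul, map_one, one_mul]
      rfl
    have hb1 : DRing.VanishesAbove ((TorLoc.extCx (RelBC.ι A B p.ResidueField)).obj P) b' :=
      fun j hj => Functor.map_isZero (ModuleCat.extendScalars.{u, u, u} _) (hP j hj)
    have hfl1 : DRing.TermwiseFlat ((TorLoc.extCx (RelBC.ι A B p.ResidueField)).obj P) :=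
      fun j => by
        haveI := hPfl j
        exact LDer.ext_flat _ (P.X j)
    have h3 : ((TorLoc.extCx χ).obj
        ((TorLoc.extCx (RelBC.ι A B p.ResidueField)).obj P)).ExactAt i :=
      (KPR.exactAt_extCx_iff χ _ i).2
        (TorAmp.exactAt_tensCx_of_torAmp _ b' hb1 hfl1 (a - d) b h2 _ i hi)
    have h4 : ((TorLoc.extCx (algebraMap B m.ResidueField)).obj P).ExactAt i := by
      have := h3.of_iso ((TorLoc.extCxCompIso (RelBC.ι A B p.ResidueField) χ).app P).symm
      rwa [hχ] at this
    exact (KPR.exactAt_tensCx_of_iso (asModResidueFieldIso m) P i).1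
      ((KPR.exactAt_extCx_iff (algebraMap B m.ResidueField) P i).1 h4)
  have h6 : DRing.HasTorAmplitudeIn B (a - d) b K :=
    TorAmp.hasTorAmplitudeIn_of_iso e (a - d) b key
  exact ⟨(PC.isPerfect_iff_pc'_and_finiteTorDim K).2 ⟨⟨P, b', hP, hff, ⟨e⟩⟩, a - d, b, h6⟩, h6⟩

end Groth.Agent.S7035
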