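import Groth.Statements.S7039
-- import your own Groth.Agent.* helpers here

set_option autoImplicit false
universe u
open LocCoh

namespace Groth.Agent.S7039

/-- For a finitely generated ideal I of a commutative ring R and any R-module M, the quotient of M by
its submodule of I-power torsion elements has no nonzero element annihilated by I. -/
theorem result {R : Type u} [CommRing R] (I : Ideal R) (hI : I.FG)
    (M : Type u) [AddCommGroup M] [Module R M] :
    LocCoh.torsionBy I (M ⧸ DRing.torsionSub I M) = ⊥ := by
  classical
  rw [eq_bot_iff]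
  intro x hx
  rw [Submodule.mem_bot]
  obtain ⟨m, rfl⟩ := Submodule.Quotient.mk_surjective _ x
  rw [Submodule.Quotient.mk_eq_zero]
  have hx' : ∀ a ∈ I, a • m ∈ DRing.torsionSub I M := by
    intro a ha
    have := (Submodule.mem_torsionBySet_iff _ _).mp hx ⟨a, ha⟩
    rw [← Submodule.Quotient.mk_smul, Submodule.Quotient.mk_eq_zero] at this
    exact this
  obtain ⟨s, hs⟩ := hI
  have hsI : ∀ a ∈ s, a ∈ I := fun a ha => hs ▸ Ideal.subset_span ha
  choose! n hn using hx'
  let N := s.sup n
  have key : ∀ b ∈ I ^ N, ∀ a ∈ I, b • (a • m) = 0 := by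
    intro b hb a ha
    rw [← hs] at ha
    induction ha using Submodule.span_induction with
    | mem a has =>
      exact hn a (hsI a has) b (Ideal.pow_le_pow_right (Finset.le_sup has) hb)
    | zero => rw [zero_smul, smul_zero]
    | add a a' _ _ h h' => rw [add_smul, smul_add, h, h', add_zero]
    | smul c a _ h => rw [smul_eq_mul, mul_smul, smul_comm, h, smul_zero]
  refine ⟨N + 1, fun c hc => ?_⟩
  rw [pow_succ] at hc
  induction hc using Submodule.mul_induction_on' with
  | mem_mul_mem b hb a ha => rw [mul_smul]; exact key b hb a ha
  | add c _ c' _ h h' => rw [add_smul, h, h', add_zero]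

end Groth.Agent.S7039
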