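import Groth.Statements.S7040
import Mathlib.Algebra.Homology.ShortComplex.ModuleCat
import Mathlib.Algebra.Category.ModuleCat.EpiMono

set_option autoImplicit false
universe u
open CategoryTheory
open LocCoh

namespace Groth.Agent.S7040

/-- extension closure at the level of linear maps -/
theorem ext_closed {R : Type u} [CommRing R] (I : Ideal R) (hI : I.FG)
    {M₁ M₂ M₃ : Type u} [AddCommGroup M₁] [Module R M₁] [AddCommGroup M₂] [Module R M₂]
    [AddCommGroup M₃] [Module R M₃] (f : M₁ →ₗ[R] M₂) (g : M₂ →ₗ[R] M₃)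
    (hex : ∀ x : M₂, g x = 0 → ∃ y, f y = x)
    (h₁ : IsPowerTorsion I M₁) (h₃ : IsPowerTorsion I M₃) : IsPowerTorsion I M₂ := by
  intro m
  obtain ⟨n, hn⟩ := h₃ (g m)
  have key : ∀ b : R, ∃ k : ℕ, b ∈ I ^ n → ∀ c ∈ I ^ k, c • b • m = 0 := by
    intro b
    by_cases hb : b ∈ I ^ n
    · obtain ⟨y, hy⟩ := hex (b • m) (by rw [map_smul, hn b hb])
      obtain ⟨k, hk⟩ := h₁ y
      exact ⟨k, fun _ c hc => by rw [← hy, ← map_smul, hk c hc, map_zero]⟩
    · exact ⟨0, fun h => absurd h hb⟩
  choose k hk using key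
  obtain ⟨s, hs⟩ := (Ideal.FG.pow (n := n) hI)
  let n' := s.sup k
  have h2 : ∀ b ∈ I ^ n, ∀ c ∈ I ^ n', c • b • m = 0 := by
    intro b hb
    rw [← hs] at hb
    induction hb using Submodule.span_induction with
    | mem b hb' =>
      intro c hc
      have hbI : b ∈ I ^ n := by rw [← hs]; exact Submodule.subset_span hb'
      exact hk b hbI c (Ideal.pow_le_pow_right (Finset.le_sup (f := k) hb') hc)
    | zero => intro c _; rw [zero_smul, smul_zero]
    | add x y _ _ hx hy => intro c hc; rw [add_smul, smul_add, hx c hc, hy c hc, add_zero]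
    | smul r x _ hx =>
      intro c hc
      rw [smul_eq_mul, mul_smul, smul_comm c r, hx c hc, smul_zero]
  refine ⟨n' + n, fun a ha => ?_⟩
  rw [pow_add] at ha
  induction ha using Submodule.mul_induction_on' with
  | mem_mul_mem c hc b hb => rw [mul_smul]; exact h2 b hb c hc
  | add x _ y _ hx hy => rw [add_smul, hx, hy, add_zero]

theorem aux {R : Type u} [CommRing R] (I : Ideal R) (hI : I.FG) :
    ObjectProperty.IsSerreClass (C := ModuleCat.{u} R) (fun M => LocCoh.IsPowerTorsion I M) where
  exists_zero := ⟨ModuleCat.of R PUnit, ModuleCat.isZero_of_subsingleton _,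
    fun m => ⟨0, fun a _ => Subsingleton.elim _ _⟩⟩
  prop_of_mono {M N} f hf hN := by
    rw [ModuleCat.mono_iff_injective] at hf
    intro m
    obtain ⟨n, hn⟩ := hN (f m)
    exact ⟨n, fun a ha => hf (by rw [map_smul, hn a ha, map_zero])⟩
  prop_of_epi {M N} f hf hM := by
    rw [ModuleCat.epi_iff_surjective] at hf
    intro m
    obtain ⟨x, rfl⟩ := hf m
    obtain ⟨n, hn⟩ := hM x
    exact ⟨n, fun a ha => by rw [← map_smul, hn a ha, map_zero]⟩
  prop_X₂_of_shortExact {S} hS h₁ h₃ :=
    ext_closed I hI S.f.hom S.g.hom ((ShortComplex.moduleCat_exact_iff S).1 hS.exact) h₁ h₃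

/-- For a finitely generated ideal I of a commutative ring R, the property of being an I-power torsion
module (every element killed by a power of I) is a Serre class in the category of R-modules: it
holds for 0 and is closed under subobjects, quotients and extensions. -/
theorem result {R : Type u} [CommRing R] (I : Ideal R) (hI : I.FG) :
    ObjectProperty.IsSerreClass (C := ModuleCat.{u} R) (fun M => LocCoh.IsPowerTorsion I M) := by
  exact aux I hI

end Groth.Agent.S7040
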