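import Groth.Statements.S7041
import Mathlib.RingTheory.TensorProduct.DirectLimitFG

set_option autoImplicit false
universe u
open TensorProduct
open LocCoh

namespace Groth.Agent.S7041

section
variable {R R' : Type u} [CommRing R] [CommRing R'] [Algebra R R']

/-- elements of `J R'` kill `m` in the tensor product when `J` kills `m`. -/
theorem tmul_eq_zero_of_mem_map {M : Type u} [AddCommGroup M] [Module R M] (J : Ideal R) (m : M)
    (hm : ∀ a ∈ J, a • m = 0) (y : R') (hy : y ∈ Ideal.map (algebraMap R R') J) :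
    y ⊗ₜ[R] m = 0 := by
  have key : ∀ s : R', (s * y) ⊗ₜ[R] m = 0 := by
    unfold Ideal.map at hy
    induction hy using Submodule.span_induction with
    | mem x hx =>
      obtain ⟨a, ha, rfl⟩ := hx
      intro s
      rw [mul_comm, ← Algebra.smul_def, TensorProduct.smul_tmul, hm a ha, tmul_zero]
    | zero => intro s; rw [mul_zero, zero_tmul]
    | add x y _ _ hx hy => intro s; rw [mul_add, add_tmul, hx, hy, add_zero]
    | smul c x _ hx => intro s; rw [smul_eq_mul, ← mul_assoc]; exact hx (s * c)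
  simpa using key 1

theorem surj (I : Ideal R)
    (hq : ∀ n : ℕ, 0 < n → Function.Surjective
      (Ideal.quotientMap (Ideal.map (algebraMap R R') (I ^ n)) (algebraMap R R') Ideal.le_comap_map))
    (M : Type u) [AddCommGroup M] [Module R M] (hM : LocCoh.IsPowerTorsion I M) :
    Function.Surjective (fun m : M => (1 : R') ⊗ₜ[R] m) := by
  intro x
  induction x with
  | zero => exact ⟨0, tmul_zero _ _⟩
  | add x y hx hy =>
    obtain ⟨m1, h1⟩ := hx
    obtain ⟨m2, h2⟩ := hy
    exact ⟨m1 + m2, by simp only at h1 h2 ⊢; rw [tmul_add, h1, h2]⟩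
  | tmul r' m =>
    obtain ⟨n, hn⟩ := hM m
    have hn' : ∀ a ∈ I ^ (n + 1), a • m = 0 := fun a ha => hn a (Ideal.pow_le_pow_right (Nat.le_succ n) ha)
    obtain ⟨x, hx⟩ := hq (n + 1) (Nat.succ_pos n) (Ideal.Quotient.mk _ r')
    obtain ⟨r, rfl⟩ := Ideal.Quotient.mk_surjective x
    rw [Ideal.quotientMap_mk, Ideal.Quotient.eq] at hx
    have h0 := tmul_eq_zero_of_mem_map (I ^ (n + 1)) m hn' _ hx
    refine ⟨r • m, ?_⟩
    simp only
    rw [sub_tmul, sub_eq_zero] at h0
    rw [← h0, ← TensorProduct.smul_tmul, Algebra.smul_def, mul_one]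

/-- fg submodule of power torsion module is killed by a single positive power. -/
theorem exists_pow_kill (I : Ideal R) (M : Type u) [AddCommGroup M] [Module R M]
    (hM : LocCoh.IsPowerTorsion I M) (Q : Submodule R M) (hQ : Q.FG) :
    ∃ n : ℕ, 0 < n ∧ ∀ a ∈ I ^ n, ∀ q ∈ Q, a • q = 0 := by
  obtain ⟨s, rfl⟩ := hQ
  choose k hk using hM
  refine ⟨s.sup k + 1, Nat.succ_pos _, fun a ha q hq => ?_⟩
  induction hq using Submodule.span_induction with
  | mem x hx =>
    exact hk x a (Ideal.pow_le_pow_right ((Finset.le_sup (f := k) hx).trans (Nat.le_succ _)) ha)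
  | zero => rw [smul_zero]
  | add x y _ _ hx hy => rw [smul_add, hx, hy, add_zero]
  | smul c x _ hx => rw [smul_comm, hx, smul_zero]

/-- retraction `Q ⊗ R' → Q` when `Q` is killed by `J` and `R/J → R'/JR'` is bijective. -/
theorem inj_of_kill (J : Ideal R)
    (hq : Function.Bijective
      (Ideal.quotientMap (Ideal.map (algebraMap R R') J) (algebraMap R R') Ideal.le_comap_map))
    (Q : Type u) [AddCommGroup Q] [Module R Q] (hQ : ∀ a ∈ J, ∀ q : Q, a • q = 0) (q : Q)
    (h : q ⊗ₜ[R] (1 : R') = 0) : q = 0 := by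
  let g := Ideal.quotientMap (Ideal.map (algebraMap R R') J) (algebraMap R R') Ideal.le_comap_map
  let ge : R ⧸ J ≃+* R' ⧸ Ideal.map (algebraMap R R') J := RingEquiv.ofBijective g hq
  let ψ₀ : R' →+* R ⧸ J := ge.symm.toRingHom.comp (Ideal.Quotient.mk _)
  have hψalg : ∀ r : R, ψ₀ (algebraMap R R' r) = Ideal.Quotient.mk J r := by
    intro r
    change ge.symm (Ideal.Quotient.mk _ (algebraMap R R' r)) = _
    rw [RingEquiv.symm_apply_eq]
    change _ = g (Ideal.Quotient.mk J r)
    rw [Ideal.quotientMap_mk]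
  let ψ : R' →ₗ[R] R ⧸ J :=
    { toFun := ψ₀
      map_add' := map_add ψ₀
      map_smul' := fun r x => by
        rw [Algebra.smul_def, map_mul, hψalg, RingHom.id_apply, Algebra.smul_def]
        rfl }
  let φ : R ⧸ J →ₗ[R] (Q →ₗ[R] Q) := Submodule.liftQ J (LinearMap.lsmul R Q) (fun a ha => by
    rw [LinearMap.mem_ker]; ext x; simp [hQ a ha x])
  let L : Q ⊗[R] R' →ₗ[R] Q := TensorProduct.lift (φ.comp ψ).flip
  have hL : L (q ⊗ₜ[R] (1 : R')) = q := by
    change φ (ψ₀ 1) q = q
    rw [map_one]
    change φ (Submodule.Quotient.mk (1 : R)) q = q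
    rw [Submodule.liftQ_apply]
    simp
  rw [← hL, h, map_zero]

theorem inj (I : Ideal R)
    (hq : ∀ n : ℕ, 0 < n → Function.Bijective
      (Ideal.quotientMap (Ideal.map (algebraMap R R') (I ^ n)) (algebraMap R R') Ideal.le_comap_map))
    (M : Type u) [AddCommGroup M] [Module R M] (hM : LocCoh.IsPowerTorsion I M) :
    Function.Injective (fun m : M => (1 : R') ⊗ₜ[R] m) := by
  have key : ∀ m : M, (1 : R') ⊗ₜ[R] m = 0 → m = 0 := by
    intro m hm
    have hm' : m ⊗ₜ[R] (1 : R') = 0 := by
      have := congrArg (TensorProduct.comm R R' M) hm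
      simpa using this
    let P : Submodule R M := Submodule.span R {m}
    have hP : P.FG := Submodule.fg_span_singleton m
    let t : P ⊗[R] R' := ⟨m, Submodule.mem_span_singleton_self m⟩ ⊗ₜ 1
    have ht : LinearMap.rTensor R' P.subtype t = 0 := by
      simpa [t] using hm'
    obtain ⟨Q, hPQ, hQfg, hQ0⟩ := TensorProduct.eq_zero_of_fg_of_subtype_eq_zero hP ht
    obtain ⟨n, hn, hkill⟩ := exists_pow_kill I M hM Q hQfg
    have hQ0' : (⟨m, hPQ (Submodule.mem_span_singleton_self m)⟩ : Q) ⊗ₜ[R] (1 : R') = 0 := by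
      have h1 : LinearMap.rTensor R' (Submodule.inclusion hPQ) t =
          (⟨m, hPQ (Submodule.mem_span_singleton_self m)⟩ : Q) ⊗ₜ[R] (1 : R') := rfl
      rw [← h1]; exact hQ0
    have := inj_of_kill (I ^ n) (hq n hn) Q
      (fun a ha q => Subtype.ext (by simpa using hkill a ha q.1 q.2)) _ hQ0'
    exact congrArg Subtype.val this
  intro m1 m2 h
  simp only at h
  have : (1 : R') ⊗ₜ[R] (m1 - m2) = 0 := by rw [tmul_sub, h, sub_self]
  exact sub_eq_zero.1 (key _ this)

end

theorem aux {R R' : Type u} [CommRing R] [CommRing R'] [Algebra R R']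
    (I : Ideal R)
    (hq : ∀ n : ℕ, 0 < n → Function.Bijective
      (Ideal.quotientMap (Ideal.map (algebraMap R R') (I ^ n)) (algebraMap R R') Ideal.le_comap_map))
    (M : Type u) [AddCommGroup M] [Module R M] (hM : LocCoh.IsPowerTorsion I M) :
    Function.Bijective (fun m : M => (1 : R') ⊗ₜ[R] m) :=
  ⟨inj I hq M hM, surj I (fun n hn => (hq n hn).2) M hM⟩

/-- Let R → R' be a homomorphism of commutative rings and I an ideal of R such that the induced map
R/I^n → R'/I^n R' is bijective for every n > 0. Then for every R-module M in which every element is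
killed by a power of I, the map M → R' ⊗_R M sending m to 1 ⊗ m is bijective. -/
theorem result {R R' : Type u} [CommRing R] [CommRing R'] [Algebra R R']
    (I : Ideal R)
    (hq : ∀ n : ℕ, 0 < n → Function.Bijective
      (Ideal.quotientMap (Ideal.map (algebraMap R R') (I ^ n)) (algebraMap R R') Ideal.le_comap_map))
    (M : Type u) [AddCommGroup M] [Module R M] (hM : LocCoh.IsPowerTorsion I M) :
    Function.Bijective (fun m : M => (1 : R') ⊗ₜ[R] m) := by
  exact aux I hq M hM

end Groth.Agent.S7041
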