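import Groth.Statements.S7043
-- import your own Groth.Agent.* helpers here
import Mathlib.Algebra.Homology.DerivedCategory.FullyFaithful
import Mathlib.Algebra.Module.LocalizedModule.IsLocalization

set_option autoImplicit false
universe u
attribute [local instance] HasDerivedCategory.standard
open DRing

namespace Groth.Agent.S7043

open CategoryTheory in
/-- `Hom_A(A_f, M) = 0` for a module `M` that is derived complete w.r.t. `(f)`. -/
lemma hom_eq_zero {A : Type u} [CommRing A] (f : A) (M : Type u) [AddCommGroup M] [Module A M]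
    (hc : DRing.IsDerivedComplete (Ideal.span {f}) (Dual.inD A M))
    (ψ : Localization.Away f →ₗ[A] M) : ψ = 0 := by
  have h := hc f (Ideal.mem_span_singleton_self f) 0
  have e : (DerivedCategory.singleFunctor (ModuleCat.{u} A) 0).map (ModuleCat.ofHom ψ) ≫
      (shiftFunctorZero (Dual.D A) ℤ).inv.app (Dual.inD A M) =
      0 ≫ (shiftFunctorZero (Dual.D A) ℤ).inv.app (Dual.inD A M) := h.elim _ _
  have e2 : (DerivedCategory.singleFunctor (ModuleCat.{u} A) 0).map (ModuleCat.ofHom ψ) = 0 :=
    (cancel_mono _).mp e
  have e3 : ModuleCat.ofHom ψ = 0 :=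
    (DerivedCategory.singleFunctor (ModuleCat.{u} A) 0).map_injective (by rw [e2, Functor.map_zero])
  have e4 := congrArg ModuleCat.Hom.hom e3
  simpa using e4

/-- Compatible sequences `u n = f • u (n+1)`. -/
def compat {A : Type u} [CommRing A] (f : A) (M : Type u) [AddCommGroup M] [Module A M] :
    Submodule A (ℕ → M) where
  carrier := {u | ∀ n, u n = f • u (n + 1)}
  add_mem' := by
    intro u v hu hv n
    simp only [Pi.add_apply, smul_add]
    rw [← hu n, ← hv n]
  zero_mem' := by intro n; simp
  smul_mem' := by
    intro c u hu n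
    simp only [Pi.smul_apply]
    rw [smul_comm f c, ← hu n]

/-- the shift on compatible sequences -/
def shiftC {A : Type u} [CommRing A] (f : A) (M : Type u) [AddCommGroup M] [Module A M] :
    compat f M →ₗ[A] compat f M where
  toFun u := ⟨fun n => u.1 (n + 1), fun n => u.2 (n + 1)⟩
  map_add' := by intro u v; rfl
  map_smul' := by intro c u; rfl

lemma isUnit_f {A : Type u} [CommRing A] (f : A) (M : Type u) [AddCommGroup M] [Module A M] :
    IsUnit (algebraMap A (Module.End A (compat f M)) f) := by
  refine ⟨⟨algebraMap A (Module.End A (compat f M)) f, shiftC f M, ?_, ?_⟩, rfl⟩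
  · ext u n
    change f • u.1 (n + 1) = u.1 n
    exact (u.2 n).symm
  · ext u n
    change (f • u).1 (n + 1) = u.1 n
    change f • u.1 (n + 1) = u.1 n
    exact (u.2 n).symm

/-- From a compatible sequence we get a map `A_f → M` sending `1` to `u 0`. -/
lemma exists_hom {A : Type u} [CommRing A] (f : A) (M : Type u) [AddCommGroup M] [Module A M]
    (u : compat f M) : ∃ ψ : Localization.Away f →ₗ[A] M, ψ 1 = u.1 0 := by
  have h : ∀ x : Submonoid.powers f, IsUnit (algebraMap A (Module.End A (compat f M)) x) := by
    rintro ⟨_, k, rfl⟩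
    simp only [map_pow]
    exact (isUnit_f f M).pow k
  let g : A →ₗ[A] compat f M := LinearMap.toSpanSingleton A _ u
  let L := IsLocalizedModule.lift (Submonoid.powers f)
    (Algebra.linearMap A (Localization.Away f)) g h
  let ev : compat f M →ₗ[A] M := (LinearMap.proj 0).comp (compat f M).subtype
  refine ⟨ev.comp L, ?_⟩
  have h1 : L (Algebra.linearMap A (Localization.Away f) 1) = g 1 :=
    IsLocalizedModule.lift_apply _ _ g h 1
  have h2 : (Algebra.linearMap A (Localization.Away f) 1) = 1 := by simp
  rw [h2] at h1
  simp only [LinearMap.comp_apply, h1]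
  simp [g, ev]

/-- Let f be an element of a commutative ring A and let M be an A-module which, placed in degree 0, is
derived complete with respect to the ideal (f). Then the ideal J = ⋂ f^n A annihilates the submodule
⋂ f^n M, which is the kernel of M → lim M/f^n M. (The case M = A says that J has square zero when A
itself is derived complete.) -/
theorem result {A : Type u} [CommRing A] (f : A)
    (M : Type u) [AddCommGroup M] [Module A M]
    (hc : DRing.IsDerivedComplete (Ideal.span {f}) (Dual.inD A M)) :
    (⨅ n : ℕ, Ideal.span {f ^ n}) • (⨅ n : ℕ, (Ideal.span {f ^ n}) • (⊤ : Submodule A M)) = (⊥ : Submodule A M) := by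
  rw [eq_bot_iff, Submodule.smul_le]
  intro a ha x hx
  rw [Submodule.mem_bot]
  have ha' : ∀ n : ℕ, ∃ c, c * f ^ n = a := fun n =>
    Ideal.mem_span_singleton'.mp ((Ideal.mem_iInf.mp ha) n)
  have hx' : ∀ n : ℕ, ∃ y : M, f ^ n • y = x := by
    intro n
    have := (Submodule.mem_iInf _).mp hx n
    rw [Submodule.ideal_span_singleton_smul, Submodule.mem_smul_pointwise_iff_exists] at this
    obtain ⟨y, -, hy⟩ := this
    exact ⟨y, hy⟩
  choose c hc' using ha'
  choose y hy using hx'
  have hu : (fun n => c n • x) ∈ compat f M := by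
    intro n
    change c n • x = f • c (n + 1) • x
    rw [← sub_eq_zero, smul_smul, ← sub_smul]
    nth_rw 1 [← hy n]
    rw [smul_smul]
    have : (c n - f * c (n + 1)) * f ^ n = 0 := by
      have h1 := hc' n
      have h2 := hc' (n + 1)
      rw [pow_succ] at h2
      rw [sub_mul, h1, ← h2]
      ring
    rw [this, zero_smul]
  obtain ⟨ψ, hψ⟩ := exists_hom f M ⟨_, hu⟩
  rw [hom_eq_zero f M hc ψ] at hψ
  have h0 : c 0 = a := by simpa using hc' 0
  simp only [LinearMap.zero_apply] at hψ
  rw [← h0]
  exact hψ.symm

end Groth.Agent.S7043
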