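import Groth.Statements.S7046
import Groth.Agent.Lib.Helper16.DComp3
import Groth.Agent.Lib.Helper16.DComp7
-- import your own Groth.Agent.* helpers here

set_option autoImplicit false
universe u
attribute [local instance] HasDerivedCategory.standard
open DRing

namespace Groth.Agent.S7046

open Groth.Agent.Lib.Helper16.DComp


/-- A reduced commutative ring A which, placed in degree 0 of D(A), is derived complete with respect to
a finitely generated ideal I is I-adically complete, i.e. separated and complete for the I-adic
topology. -/
theorem result {A : Type u} [CommRing A] [IsReduced A]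
    (I : Ideal A) (hI : I.FG) (hc : DRing.IsDerivedComplete I (Dual.inD A A)) :
    IsAdicComplete I A := by
  rw [isDerivedComplete_inD_iff] at hc
  have hp : IsPrecomplete I A := isPrecomplete_of_fg I hI hc
  obtain ⟨s, rfl⟩ := hI
  have hJ := iInf_pow_pow_eq_bot s.card A s le_rfl (fun f hf => hc f (Ideal.subset_span hf))
  have hh : IsHausdorff (Ideal.span (s : Set A)) A := by
    refine ⟨fun x hx => ?_⟩
    have hxJ : x ∈ ⨅ n : ℕ, (Ideal.span (s : Set A)) ^ n := by
      rw [Ideal.mem_iInf]
      intro n
      have := hx n
      rw [SModEq.sub_mem, sub_zero, smul_eq_mul, Ideal.mul_top] at this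
      exact this
    have : x ^ (2 ^ s.card) = 0 := by
      have := Ideal.pow_mem_pow hxJ (2 ^ s.card)
      rw [hJ] at this
      exact this
    exact IsReduced.eq_zero x ⟨_, this⟩
  exact { toIsHausdorff := hh, toIsPrecomplete := hp }

end Groth.Agent.S7046
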