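import Groth.Statements.S7062
import Mathlib
import Groth.Agent.Lib.Helper21.GlueTor

set_option autoImplicit false
universe u
open EtGlue

namespace Groth.Agent.S7062

section helpers
open Groth.Agent.Lib.Helper21.TorShift Groth.Agent.Lib.Helper21.GlueTor TensorProduct

theorem main {R R' : Type u} [CommRing R] [CommRing R'] [Algebra R R']
    (f : R) (h : EtGlue.IsGlueingPair R R' f) (n : ℕ) (hn : 0 < n) :
    Subsingleton (TorT R 1 R' ↥(Ideal.span ({f ^ n} : Set R))) := by
  let q : R →ₗ[R] ↥(Ideal.span ({f ^ n} : Set R)) :=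
    LinearMap.codRestrict (Ideal.span ({f ^ n} : Set R)) (LinearMap.mulRight R (f ^ n))
      (fun r => Ideal.mem_span_singleton'.2 ⟨r, rfl⟩)
  have hq : Function.Surjective q := by
    rintro ⟨y, hy⟩
    obtain ⟨a, rfl⟩ := Ideal.mem_span_singleton'.1 hy
    exact ⟨a, rfl⟩
  let J : Ideal R := LinearMap.ker q
  have hJ : ∀ t ∈ J, ∃ k : ℕ, f ^ k * t = 0 := by
    intro t ht
    refine ⟨n, ?_⟩
    have h1 : q t = 0 := ht
    have h2 := congrArg Subtype.val h1
    change t * f ^ n = 0 at h2
    rw [mul_comm]; exact h2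
  rw [subsingleton_tor_one_iff R' J.subtype q J.injective_subtype
    (LinearMap.exact_subtype_ker_map q) hq]
  exact injective_lTensor_of_torsion f h J hJ

end helpers


/-- For a glueing pair (R → R', f), i.e. R/f^nR → R'/f^nR' is bijective for all n > 0 and the sequence 0
→ R → R' ⊕ R_f → R'_f → 0 is exact, the group Tor_1^R(R', f^n R) vanishes for every n > 0 (Tor
computed by resolving the second argument, the ideal f^n R). -/
theorem result {R R' : Type u} [CommRing R] [CommRing R'] [Algebra R R']
    (f : R) (h : EtGlue.IsGlueingPair R R' f) (n : ℕ) (hn : 0 < n) :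
    Subsingleton (DRing.Tor R 1 R' ↥(Ideal.span ({f ^ n} : Set R))) := by
  exact main f h n hn

end Groth.Agent.S7062
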