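import Groth.Statements.S7063
import Mathlib
import Groth.Agent.Lib.Helper21.GlueTor

set_option autoImplicit false
universe u
open EtGlue

namespace Groth.Agent.S7063

section helpers
open Groth.Agent.Lib.Helper21.TorShift Groth.Agent.Lib.Helper21.GlueTor TensorProduct

theorem main {R R' : Type u} [CommRing R] [CommRing R']
    [Algebra R R'] (f : R) (h : EtGlue.IsGlueingPair R R' f) :
    Subsingleton (TorT R 1 R' (R ⧸ DRing.torsionSub (Ideal.span ({f} : Set R)) R)) := by
  let T : Ideal R := DRing.torsionSub (Ideal.span ({f} : Set R)) R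
  have hT : ∀ t ∈ T, ∃ k : ℕ, f ^ k * t = 0 := by
    intro t ht
    have ht' : ∃ n : ℕ, ∀ a ∈ (Ideal.span ({f} : Set R)) ^ n, a • t = 0 := ht
    obtain ⟨k, hk⟩ := ht'
    refine ⟨k, ?_⟩
    have hmem : f ^ k ∈ (Ideal.span ({f} : Set R)) ^ k :=
      Ideal.pow_mem_pow (Ideal.subset_span (Set.mem_singleton f)) k
    have := hk (f ^ k) hmem
    rw [smul_eq_mul] at this
    exact this
  rw [subsingleton_tor_one_iff R' T.subtype T.mkQ T.injective_subtype
    (LinearMap.exact_subtype_mkQ T) T.mkQ_surjective]
  exact injective_lTensor_of_torsion f h T hT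

end helpers


/-- For a glueing pair (R → R', f), the group Tor_1^R(R', R/R[f^∞]) vanishes, where R[f^∞] is the
submodule of elements of R killed by a power of f (Tor computed by resolving the second argument). -/
theorem result {R R' : Type u} [CommRing R] [CommRing R']
    [Algebra R R'] (f : R) (h : EtGlue.IsGlueingPair R R' f) :
    Subsingleton (DRing.Tor R 1 R' (R ⧸ DRing.torsionSub (Ideal.span ({f} : Set R)) R)) := by
  exact main f h

end Groth.Agent.S7063
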