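import Groth.Statements.S7064
-- import your own Groth.Agent.* helpers here
import Mathlib
import Groth.Agent.Lib.Helper23.BLTor
import Groth.Agent.Lib.Helper21.TorShift

set_option autoImplicit false
universe u
open EtGlue

namespace Groth.Agent.S7064

theorem tor_aux {R R' : Type u} [CommRing R] [CommRing R'] [Algebra R R'] (f : R)
    (h : EtGlue.IsGlueingPair R R' f) (Q : Type u) [AddCommGroup Q] [Module R Q]
    (hQ : ∀ x : Q, ∃ n : ℕ, f ^ n • x = 0) :
    Subsingleton (Groth.Agent.Lib.Helper21.TorShift.TorT R 1 R' Q) := by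
  classical
  have hq : Function.Surjective (Finsupp.linearCombination R (id : Q → Q)) :=
    Finsupp.linearCombination_id_surjective R Q
  have hK : ∀ p : Q →₀ R, ∃ n : ℕ,
      f ^ n • p ∈ LinearMap.ker (Finsupp.linearCombination R (id : Q → Q)) := by
    intro p
    obtain ⟨n, hn⟩ := hQ (Finsupp.linearCombination R (id : Q → Q) p)
    exact ⟨n, by rw [LinearMap.mem_ker, map_smul, hn]⟩
  have hinj := Helper23.BL.lTensor_subtype_injective h
    (fun p hp h0 => Helper23.BL.eq_zero_of_tmul_eq_zero_finsupp h p hp h0)
    (LinearMap.ker (Finsupp.linearCombination R (id : Q → Q))) hK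
  have h1 := Groth.Agent.Lib.Helper21.TorShift.subsingleton_tor_one_iff (R := R) R'
    (K := ↥(LinearMap.ker (Finsupp.linearCombination R (id : Q → Q)))) (P := Q →₀ R) (N := Q)
    (LinearMap.ker (Finsupp.linearCombination R (id : Q → Q))).subtype
    (Finsupp.linearCombination R (id : Q → Q))
    (Submodule.injective_subtype _) (LinearMap.exact_subtype_ker_map _) hq
  exact h1.mpr hinj


/-- For a glueing pair (R → R', f) and any R-module M, the group Tor_1^R(R', Coker(M → M_f)) vanishes,
where M_f is the localization of M at the powers of f (Tor computed by resolving the second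
argument). -/
theorem result {R R' : Type u} [CommRing R] [CommRing R']
    [Algebra R R'] (f : R) (h : EtGlue.IsGlueingPair R R' f) (M : Type u) [AddCommGroup M] [Module R M] :
    Subsingleton (DRing.Tor R 1 R'
      (LocalizedModule (Submonoid.powers f) M ⧸
        LinearMap.range (LocalizedModule.mkLinearMap (Submonoid.powers f) M))) := by
  apply tor_aux f h
  intro x
  obtain ⟨y, rfl⟩ := Submodule.mkQ_surjective _ x
  obtain ⟨⟨m, ⟨_, k, rfl⟩⟩, rfl⟩ := IsLocalizedModule.mk'_surjective (Submonoid.powers f)
    (LocalizedModule.mkLinearMap (Submonoid.powers f) M) y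
  refine ⟨k, ?_⟩
  simp only [Function.uncurry_apply_pair]
  rw [← map_smul, Submodule.mkQ_apply, Submodule.Quotient.mk_eq_zero]
  refine ⟨m, ?_⟩
  have := IsLocalizedModule.mk'_cancel' (LocalizedModule.mkLinearMap (Submonoid.powers f) M) m
    (⟨f ^ k, k, rfl⟩ : Submonoid.powers f)
  rw [Submonoid.smul_def] at this
  exact this.symm

end Groth.Agent.S7064
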