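import Groth.Statements.S7065
import Mathlib.RingTheory.Spectrum.Prime.Topology

set_option autoImplicit false
universe u
open EtGlue

namespace Groth.Agent.S7065

/-- Let R → R' be a homomorphism of commutative rings and f an element of R such that the induced map
R/fR → R'/fR' is bijective. Then Spec(R') ⊔ Spec(R_f) → Spec(R) is surjective: every prime of R is
the contraction of a prime of R' or of a prime of R_f. -/
theorem result {R R' : Type u} [CommRing R] [CommRing R']
    [Algebra R R'] (f : R)
    (hq : Function.Bijective
      (Ideal.quotientMap (Ideal.map (algebraMap R R') (Ideal.span {f})) (algebraMap R R') Ideal.le_comap_map))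
    (p : PrimeSpectrum R) :
    (∃ q : PrimeSpectrum R', PrimeSpectrum.comap (algebraMap R R') q = p) ∨
      ∃ q : PrimeSpectrum (Localization.Away f), PrimeSpectrum.comap (algebraMap R (Localization.Away f)) q = p := by
  by_cases hf : f ∈ p.asIdeal
  · left
    set I : Ideal R := Ideal.span {f} with hI
    set J : Ideal R' := Ideal.map (algebraMap R R') I with hJ
    set φ := Ideal.quotientMap J (algebraMap R R') Ideal.le_comap_map with hφ
    have hIp : I ≤ p.asIdeal := (Ideal.span_singleton_le_iff_mem _).mpr hf
    have h1 : p ∈ Set.range (PrimeSpectrum.comap (Ideal.Quotient.mk I)) := by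
      rw [range_comap_of_surjective _ _ Ideal.Quotient.mk_surjective,
        Ideal.mk_ker]
      exact hIp
    obtain ⟨pbar, hpbar⟩ := h1
    let e : (R ⧸ I) ≃+* (R' ⧸ J) := RingEquiv.ofBijective φ hq
    let qbar : PrimeSpectrum (R' ⧸ J) := PrimeSpectrum.comap (e.symm : (R' ⧸ J) →+* (R ⧸ I)) pbar
    have h2 : PrimeSpectrum.comap φ qbar = pbar := by
      rw [← PrimeSpectrum.comap_comp_apply]
      have : (e.symm : (R' ⧸ J) →+* (R ⧸ I)).comp φ = RingHom.id _ := by
        ext x
        exact e.symm_apply_apply x
      rw [this, PrimeSpectrum.comap_id]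
    refine ⟨PrimeSpectrum.comap (Ideal.Quotient.mk J) qbar, ?_⟩
    rw [← PrimeSpectrum.comap_comp_apply,
      ← Ideal.quotientMap_comp_mk (J := I) (I := J) (f := algebraMap R R') Ideal.le_comap_map,
      PrimeSpectrum.comap_comp_apply, h2, hpbar]
  · right
    have : p ∈ Set.range (PrimeSpectrum.comap (algebraMap R (Localization.Away f))) := by
      rw [PrimeSpectrum.localization_away_comap_range (Localization.Away f) f]
      exact hf
    exact this

end Groth.Agent.S7065
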