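import Groth.Statements.S7069
import Groth.Agent.Lib.Helper16.GlDim1
import Groth.Agent.Lib.Helper16.TorBal6
import Groth.Agent.Lib.Helper16.PCNoeth
import Groth.Agent.Lib.Helper16.PC7e
-- import your own Groth.Agent.* helpers here

set_option autoImplicit false
universe u
attribute [local instance] HasDerivedCategory.standard
open MoreMor

namespace Groth.Agent.S7069

/-- A finite type homomorphism of commutative rings A → B, where A is a regular ring of finite Krull
dimension, is perfect: pseudo-coherent with B of finite tor dimension as an A-module. -/
theorem result (A B : Type u) [CommRing A] [CommRing B] [Algebra A B]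
    [IsRegularRing A] (hdim : ringKrullDim A < ⊤) [Algebra.FiniteType A B] : MoreMor.IsPerfectHom A B := by
  exact by
    refine ⟨?_, ?_⟩
    · obtain ⟨n, φ, hφ⟩ := Algebra.FiniteType.iff_quotient_mvPolynomial''.mp
        (inferInstance : Algebra.FiniteType A B)
      refine ⟨n, φ, hφ, ?_⟩
      letI := φ.toRingHom.toAlgebra
      have hfin : Module.Finite (MvPolynomial (Fin n) A) B :=
        Module.Finite.of_surjective (Algebra.linearMap (MvPolynomial (Fin n) A) B) hφ
      exact Groth.Agent.Lib.Helper16.PC.pc'_of_pc fun m =>
        Groth.Agent.Lib.Helper16.PC.pc_single_of_finite (ModuleCat.of _ B) hfin m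
    · -- finite tor dimension from finite global dimension
      obtain ⟨d, hd⟩ : ∃ d : ℕ, ringKrullDim A ≤ d := by
        cases h : ringKrullDim A with
        | bot => exact ⟨0, bot_le⟩
        | coe x =>
          rw [h] at hdim
          cases x with
          | top => exact absurd hdim (lt_irrefl _)
          | coe m => exact ⟨m, le_rfl⟩
      have hreg : ∀ p : PrimeSpectrum A, IsRegularLocalRing (Localization.AtPrime p.asIdeal) :=
        fun p => IsRegularRing.isRegularLocalRing_localization p.asIdeal
      have hgl := Groth.Agent.Lib.Helper16.GlDim.hasProjectiveDimensionLT_of_regular hreg d hd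
      refine ⟨d, (Groth.Agent.Lib.Helper16.TorBal.hasTorDimLE_iff_torAmp B d).2 ?_⟩
      haveI := hgl (ModuleCat.of A B)
      exact Groth.Agent.Lib.Helper16.TorAmp.torAmp_of_projDim (ModuleCat.of A B) d

end Groth.Agent.S7069
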