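import Groth.Statements.S7073
import Groth.Agent.Lib.Helper16.RelPerf1
import Groth.Agent.Lib.Helper16.PC11
import Groth.Agent.Lib.Helper16.RestrictD

set_option autoImplicit false
universe u
attribute [local instance] HasDerivedCategory.standard
open Dual2

namespace Groth.Agent.S7073

/-- For a flat homomorphism of finite presentation R → A of commutative rings, every perfect object of
D(A) is R-perfect, i.e. pseudo-coherent over A and of finite tor dimension as a complex of
R-modules. -/
theorem result (R A : Type u) [CommRing R] [CommRing A] [Algebra R A]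
    [Module.Flat R A] [Algebra.FinitePresentation R A] (K : Dual.D A) (hK : DRing.IsPerfect A K) :
    Dual2.IsRelPerfect R A K := by
  refine ⟨Groth.Agent.Lib.Helper16.PC.pc'_of_perfect K hK, ?_⟩
  obtain ⟨E, a, b, hE, hfp, ⟨e⟩⟩ := hK
  refine ⟨a, b, ((ModuleCat.restrictScalars.{u} (algebraMap R A)).mapHomologicalComplex
    (ComplexShape.up ℤ)).obj E, fun i hi => ?_, fun i => ?_, ⟨?_⟩⟩
  · exact (ModuleCat.restrictScalars.{u} (algebraMap R A)).map_isZero (hE i hi)
  · haveI := (hfp i).1
    haveI := (hfp i).2
    haveI : Module.Flat A (E.X i) := Module.Flat.of_projective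
    change Module.Flat R ((ModuleCat.restrictScalars.{u} (algebraMap R A)).obj (E.X i))
    letI : Module R (E.X i) := Module.compHom _ (algebraMap R A)
    haveI : IsScalarTower R A (E.X i) := IsScalarTower.of_algebraMap_smul fun _ _ => rfl
    exact Module.Flat.trans R A (E.X i)
  · exact (Groth.Agent.Lib.Helper16.RestrictD.restrictQIso (algebraMap R A) E).symm ≪≫
      (DRing.restrictD (algebraMap R A)).mapIso e

end Groth.Agent.S7073
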