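import Groth.Statements.S7075
import Groth.Agent.Lib.Helper16.RelBC1
import Groth.Agent.Lib.Helper16.NilPC
import Groth.Agent.Lib.Helper16.RelPerf1

set_option autoImplicit false
universe u
attribute [local instance] HasDerivedCategory.standard
open TensorProduct
open Dual2

namespace Groth.Agent.S7075

/-- Let R → A be a flat homomorphism of finite presentation of commutative rings, R → R' any ring map
and A' = R' ⊗_R A. If K in D(A) is R-perfect then its derived base change K ⊗^L_A A' (the total left
derived functor of extension of scalars, assumed to exist) is R'-perfect in D(A'). -/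
theorem result (R A R' : Type u) [CommRing R] [CommRing A] [Algebra R A] [CommRing R'] [Algebra R R']
    [Module.Flat R A] [Algebra.FinitePresentation R A]
    [DRing.HasLBaseChange (Algebra.TensorProduct.includeRight.toRingHom : A →+* R' ⊗[R] A)]
    (K : Dual.D A) (hK : Dual2.IsRelPerfect R A K) :
    Dual2.IsRelPerfect R' (R' ⊗[R] A)
      ((DRing.LBaseChange (Algebra.TensorProduct.includeRight.toRingHom : A →+* R' ⊗[R] A)).obj K) := by
  open Groth.Agent.Lib.Helper16 CategoryTheory in
  haveI : DRing.HasLBaseChange (algebraMap R R') := DRE.hasLBaseChange _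
  obtain ⟨hpc, a, b, htor⟩ := hK
  refine ⟨KPR.pc'_LBaseChange _ K hpc, a, b, ?_⟩
  obtain ⟨F, c, hFc, hFf, ⟨e⟩⟩ := hpc
  obtain ⟨e2⟩ := RelBC.nonempty_restrict_LBaseChange_iso R A R' F c hFc (fun i => by
    haveI := (hFf i).2
    infer_instance)
  have e3 : (DRing.restrictD (algebraMap R' (R' ⊗[R] A))).obj
      ((DRing.LBaseChange (Algebra.TensorProduct.includeRight.toRingHom : A →+* R' ⊗[R] A)).obj K) ≅
      (DRing.LBaseChange (algebraMap R R')).obj ((DRing.restrictD (algebraMap R A)).obj K) :=
    (DRing.restrictD (algebraMap R' (R' ⊗[R] A))).mapIso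
      ((DRing.LBaseChange (Algebra.TensorProduct.includeRight.toRingHom : A →+* R' ⊗[R] A)).mapIso e.symm) ≪≫
      e2 ≪≫ (DRing.LBaseChange (algebraMap R R')).mapIso
        ((DRing.restrictD (algebraMap R A)).mapIso e)
  exact TorAmp.hasTorAmplitudeIn_of_iso e3.symm a b
    (KPR.hasTorAmplitudeIn_LBaseChange (algebraMap R R') _ a b htor)

end Groth.Agent.S7075
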