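import Groth.Statements.S7076
import Groth.Agent.Lib.Helper16.RelBC2
import Groth.Agent.Lib.Helper16.NilPC
import Groth.Agent.Lib.Helper16.RelPerf1

set_option autoImplicit false
universe u
attribute [local instance] HasDerivedCategory.standard
open TensorProduct
open Dual2

namespace Groth.Agent.S7076

/-- Let R' → A' be a flat homomorphism of finite presentation of commutative rings, R' → R a surjective
homomorphism of rings with nilpotent kernel, A = R ⊗_{R'} A', and K' an object of D(A'). If the
derived base change K' ⊗^L_{A'} A (total left derived functor of extension of scalars, assumed to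
exist) is R-perfect in D(A), then K' is R'-perfect in D(A'). -/
theorem result (R' A' R : Type u) [CommRing R'] [CommRing A'] [Algebra R' A']
    [CommRing R] [Algebra R' R] [Module.Flat R' A'] [Algebra.FinitePresentation R' A']
    (hs : Function.Surjective (algebraMap R' R)) (hn : IsNilpotent (RingHom.ker (algebraMap R' R)))
    [DRing.HasLBaseChange (Algebra.TensorProduct.includeRight.toRingHom : A' →+* R ⊗[R'] A')]
    (K' : Dual.D A')
    (hK : Dual2.IsRelPerfect R (R ⊗[R'] A')
      ((DRing.LBaseChange (Algebra.TensorProduct.includeRight.toRingHom : A' →+* R ⊗[R'] A')).obj K')) :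
    Dual2.IsRelPerfect R' A' K' := by
  open Groth.Agent.Lib.Helper16 CategoryTheory in
  haveI : DRing.HasLBaseChange (algebraMap R' R) := DRE.hasLBaseChange _
  obtain ⟨hpc, a, b, htor⟩ := hK
  have hpc' : DRing.IsPseudoCoherent' A' K' :=
    KPR.pc'_of_pc'_LBaseChange_of_nilpotent
      (Algebra.TensorProduct.includeRight.toRingHom : A' →+* R ⊗[R'] A')
      (RelBC.ι_surjective R' A' R hs) (RelBC.isNilpotent_ker_ι R' A' R hs hn) K' hpc
  refine ⟨hpc', a, b, ?_⟩
  obtain ⟨F, c, hFc, hFf, ⟨e⟩⟩ := hpc'
  obtain ⟨e2⟩ := RelBC.nonempty_restrict_LBaseChange_iso R' A' R F c hFc (fun i => by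
    haveI := (hFf i).2
    infer_instance)
  have e3 : (DRing.restrictD (algebraMap R (R ⊗[R'] A'))).obj
      ((DRing.LBaseChange (Algebra.TensorProduct.includeRight.toRingHom : A' →+* R ⊗[R'] A')).obj K') ≅
      (DRing.LBaseChange (algebraMap R' R)).obj ((DRing.restrictD (algebraMap R' A')).obj K') :=
    (DRing.restrictD (algebraMap R (R ⊗[R'] A'))).mapIso
      ((DRing.LBaseChange (Algebra.TensorProduct.includeRight.toRingHom : A' →+* R ⊗[R'] A')).mapIso e.symm) ≪≫
      e2 ≪≫ (DRing.LBaseChange (algebraMap R' R)).mapIso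
        ((DRing.restrictD (algebraMap R' A')).mapIso e)
  exact KPR.hasTorAmplitudeIn_of_LBaseChange_of_nilpotent (algebraMap R' R) hs hn _ a b
    (TorAmp.hasTorAmplitudeIn_of_iso e3 a b htor)

end Groth.Agent.S7076
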