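import Groth.Statements.S7077
import Groth.Agent.Lib.Helper8.DRing5

set_option autoImplicit false
universe u
attribute [local instance] HasDerivedCategory.standard
open CategoryTheory
open DRing

namespace Groth.Agent.S7077

/-- (1)⇔(2): let R be a commutative ring and K an object of D(R) whose cohomology modules vanish outside
degrees -1 and 0. Then H^{-1}(K) vanishes and H^0(K) is a projective R-module if and only if
Ext^1_R(K, M) = Hom_{D(R)}(K, M[1]) vanishes for every R-module M. -/
theorem result {R : Type u} [CommRing R] (K : Dual.D R)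
    (hK : ∀ i : ℤ, i ≠ -1 → i ≠ 0 → Subsingleton (Dual.HD R K i)) :
    (Subsingleton (Dual.HD R K (-1)) ∧ Module.Projective R (Dual.HD R K 0)) ↔
      ∀ (M : Type u) [AddCommGroup M] [Module R M], Subsingleton (K ⟶ (Dual.inD R M)⟦(1 : ℤ)⟧) := by
  have hz : ∀ i : ℤ, i ≠ -1 → i ≠ 0 →
      Limits.IsZero ((DerivedCategory.homologyFunctor (ModuleCat.{u} R) i).obj K) := fun i h1 h0 =>
    ModuleCat.isZero_iff_subsingleton.2 (hK i h1 h0)
  haveI : K.IsGE (-1) := (DerivedCategory.isGE_iff K (-1)).2 (fun i hi => hz i (by omega) (by omega))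
  haveI : K.IsLE 0 := (DerivedCategory.isLE_iff K 0).2 (fun i hi => hz i (by omega) (by omega))
  have key := Groth.Agent.Lib.Helper8.DRing5.twoTerm_ext_vanishing_iff K
  rw [← ModuleCat.isZero_iff_subsingleton, IsProjective.iff_projective]
  rw [key]
  constructor
  · intro H M _ _
    exact ⟨fun a b => (H (ModuleCat.of R M) a).trans (H (ModuleCat.of R M) b).symm⟩
  · intro H N ξ
    exact (H N).elim _ _

end Groth.Agent.S7077
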