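import Groth.Statements.S7080
import Groth.Agent.Lib.Helper8.DRing8

set_option autoImplicit false
universe u
attribute [local instance] HasDerivedCategory.standard
open CategoryTheory
open DRing

namespace Groth.Agent.S7080

/-- Let R be a commutative ring and α : K → K' a morphism in D(R) between objects whose cohomology
vanishes outside degrees -1 and 0, such that H^0(α) is an isomorphism and H^{-1}(α) is surjective.
If multiplication by an element f of R is the zero endomorphism of K in D(R), then it is also the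
zero endomorphism of K'. -/
theorem result {R : Type u} [CommRing R] {K K' : Dual.D R} (α : K ⟶ K')
    (hK : ∀ i : ℤ, i ≠ -1 → i ≠ 0 → Subsingleton (Dual.HD R K i))
    (hK' : ∀ i : ℤ, i ≠ -1 → i ≠ 0 → Subsingleton (Dual.HD R K' i))
    (h0 : IsIso ((DerivedCategory.homologyFunctor (ModuleCat.{u} R) 0).map α))
    (h1 : Epi ((DerivedCategory.homologyFunctor (ModuleCat.{u} R) (-1)).map α))
    (f : R) (hf : f • (𝟙 K) = 0) : f • (𝟙 K') = 0 := by
  have hz : ∀ (X : Dual.D R), (∀ i : ℤ, i ≠ -1 → i ≠ 0 → Subsingleton (Dual.HD R X i)) →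
      X.IsGE (-1) ∧ X.IsLE 0 := fun X hX =>
    ⟨(DerivedCategory.isGE_iff X (-1)).2 (fun i hi =>
        ModuleCat.isZero_iff_subsingleton.2 (hX i (by omega) (by omega))),
      (DerivedCategory.isLE_iff X 0).2 (fun i hi =>
        ModuleCat.isZero_iff_subsingleton.2 (hX i (by omega) (by omega)))⟩
  obtain ⟨_, _⟩ := hz K hK
  obtain ⟨_, _⟩ := hz K' hK'
  refine Groth.Agent.Lib.Helper8.DRing8.eq_zero_of_comp_eq_zero α h0 h1 (f • 𝟙 K') ?_
  rw [Linear.comp_smul, Category.comp_id, ← Category.id_comp α, ← Linear.smul_comp, hf, Limits.zero_comp]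

end Groth.Agent.S7080
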