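import Groth.Statements.S7081
import Groth.Agent.Lib.Helper8.DRing8

set_option autoImplicit false
universe u
attribute [local instance] HasDerivedCategory.standard
open CategoryTheory
open DRing

namespace Groth.Agent.S7081

/-- Let R be a commutative ring and φ : K₁ → K₂, ψ : K₂ → K₃ morphisms in D(R) between objects whose
cohomology vanishes outside degrees -1 and 0. If φ induces the zero map on H^0 and ψ induces the
zero map on H^{-1}, then the composite K₁ → K₃ is zero. -/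
theorem result {R : Type u} [CommRing R] {K₁ K₂ K₃ : Dual.D R}
    (φ : K₁ ⟶ K₂) (ψ : K₂ ⟶ K₃)
    (h₁ : ∀ i : ℤ, i ≠ -1 → i ≠ 0 → Subsingleton (Dual.HD R K₁ i))
    (h₂ : ∀ i : ℤ, i ≠ -1 → i ≠ 0 → Subsingleton (Dual.HD R K₂ i))
    (h₃ : ∀ i : ℤ, i ≠ -1 → i ≠ 0 → Subsingleton (Dual.HD R K₃ i))
    (hφ : (DerivedCategory.homologyFunctor (ModuleCat.{u} R) 0).map φ = 0)
    (hψ : (DerivedCategory.homologyFunctor (ModuleCat.{u} R) (-1)).map ψ = 0) :
    φ ≫ ψ = 0 := by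
  have hz : ∀ (X : Dual.D R), (∀ i : ℤ, i ≠ -1 → i ≠ 0 → Subsingleton (Dual.HD R X i)) →
      X.IsGE (-1) ∧ X.IsLE 0 := fun X hX =>
    ⟨(DerivedCategory.isGE_iff X (-1)).2 (fun i hi =>
        ModuleCat.isZero_iff_subsingleton.2 (hX i (by omega) (by omega))),
      (DerivedCategory.isLE_iff X 0).2 (fun i hi =>
        ModuleCat.isZero_iff_subsingleton.2 (hX i (by omega) (by omega)))⟩
  obtain ⟨_, _⟩ := hz K₁ h₁
  obtain ⟨_, _⟩ := hz K₂ h₂
  obtain ⟨_, _⟩ := hz K₃ h₃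
  exact Groth.Agent.Lib.Helper8.DRing8.comp_eq_zero_of_homology φ ψ hφ hψ

end Groth.Agent.S7081
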