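import Groth.Statements.S7085
-- import your own Groth.Agent.* helpers here

set_option autoImplicit false
universe u
open LocCoh

namespace Groth.Agent.S7085

section
variable {R : Type u} [CommRing R] (M : Type u) [AddCommGroup M] [Module R M]

theorem tors_eq_bot_iff (J : Ideal R) :
    LocCoh.torsionBy J M = ⊥ ↔ ∀ m : M, (∀ a ∈ J, a • m = 0) → m = 0 := by
  rw [Submodule.eq_bot_iff]
  refine forall_congr' fun m => ?_
  rw [Submodule.mem_torsionBySet_iff]
  constructor
  · intro h h'; exact h (fun a => h' a a.2)
  · intro h h'; exact h (fun a ha => h' ⟨a, ha⟩)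

theorem part1 (I : Ideal R) :
    (LocCoh.torsionBy I M = ⊥ ↔ ∀ n : ℕ, 1 ≤ n → LocCoh.torsionBy (I ^ n) M = ⊥) := by
  constructor
  · intro h n hn
    rw [tors_eq_bot_iff] at h ⊢
    induction n, hn using Nat.le_induction with
    | base => simpa using h
    | succ n _ ih =>
      intro m hm
      apply ih
      intro b hb
      apply h
      intro a ha
      rw [← mul_smul]
      apply hm
      rw [pow_succ, mul_comm (I ^ n) I]
      exact Ideal.mul_mem_mul ha hb
  · intro h
    have := h 1 le_rfl
    rwa [pow_one] at this

theorem part2 {t : ℕ} (f : Fin t → R) (I : Ideal R) (hI : Ideal.span (Set.range f) = I) :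
    (LocCoh.torsionBy I M = ⊥ ↔
      ∀ m : M, (∀ i : Fin t, LocalizedModule.mkLinearMap (Submonoid.powers (f i)) M m = 0) → m = 0) := by
  rw [tors_eq_bot_iff]
  have hloc : ∀ (i : Fin t) (m : M), LocalizedModule.mkLinearMap (Submonoid.powers (f i)) M m = 0 ↔
      ∃ k : ℕ, f i ^ k • m = 0 := by
    intro i m
    rw [IsLocalizedModule.eq_zero_iff (Submonoid.powers (f i))]
    constructor
    · rintro ⟨⟨_, k, rfl⟩, hk⟩; exact ⟨k, hk⟩
    · rintro ⟨k, hk⟩; exact ⟨⟨_, k, rfl⟩, hk⟩
  constructor
  · intro h
    -- strong induction on the total exponent
    have key : ∀ (N : ℕ) (n : Fin t → ℕ), (∑ i, n i) = N → ∀ m : M, (∀ i, f i ^ n i • m = 0) → m = 0 := by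
      intro N
      induction N with
      | zero =>
        intro n hn m hm
        apply h
        intro a ha
        rw [← hI] at ha
        induction ha using Submodule.span_induction with
        | mem x hx =>
          obtain ⟨j, rfl⟩ := hx
          have : n j = 0 := by
            have := Finset.sum_eq_zero_iff.1 hn j (Finset.mem_univ j)
            exact this
          have h2 := hm j
          rw [this, pow_zero, one_smul] at h2
          rw [h2, smul_zero]
        | zero => rw [zero_smul]
        | add x y _ _ hx hy => rw [add_smul, hx, hy, add_zero]
        | smul r x _ hx => rw [smul_eq_mul, mul_smul, hx, smul_zero]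
      | succ N ih =>
        intro n hn m hm
        apply h
        intro a ha
        rw [← hI] at ha
        induction ha using Submodule.span_induction with
        | mem x hx =>
          obtain ⟨j, rfl⟩ := hx
          by_cases hj : n j = 0
          · have h2 := hm j
            rw [hj, pow_zero, one_smul] at h2
            rw [h2, smul_zero]
          · apply ih (Function.update n j (n j - 1))
            · have h1 : ∑ i, n i = ∑ i, Function.update n j (n j - 1) i + 1 := by
                rw [← Finset.add_sum_erase _ _ (Finset.mem_univ j),
                  ← Finset.add_sum_erase (a := j) _ (Function.update n j (n j - 1)) (Finset.mem_univ j)]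
                rw [Function.update_self]
                have : ∑ x ∈ Finset.univ.erase j, Function.update n j (n j - 1) x =
                    ∑ x ∈ Finset.univ.erase j, n x := by
                  apply Finset.sum_congr rfl
                  intro x hx
                  rw [Function.update_of_ne (Finset.ne_of_mem_erase hx)]
                rw [this]
                omega
              omega
            · intro i
              by_cases hij : i = j
              · subst hij
                rw [Function.update_self, ← mul_smul, ← pow_succ]
                have : n i - 1 + 1 = n i := by omega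
                rw [this]; exact hm i
              · rw [Function.update_of_ne hij, smul_comm, hm i, smul_zero]
        | zero => rw [zero_smul]
        | add x y _ _ hx hy => rw [add_smul, hx, hy, add_zero]
        | smul r x _ hx => rw [smul_eq_mul, mul_smul, hx, smul_zero]
    intro m hm
    have hm' : ∀ i, ∃ k : ℕ, f i ^ k • m = 0 := fun i => (hloc i m).1 (hm i)
    choose n hn using hm'
    exact key _ n rfl m hn
  · intro h m hm
    apply h
    intro i
    rw [hloc]
    refine ⟨1, ?_⟩
    rw [pow_one]
    apply hm
    rw [← hI]
    exact Submodule.subset_span ⟨i, rfl⟩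

end

theorem aux {R : Type u} [CommRing R] {t : ℕ} (f : Fin t → R)
    (I : Ideal R) (hI : Ideal.span (Set.range f) = I) (M : Type u) [AddCommGroup M] [Module R M] :
    (LocCoh.torsionBy I M = ⊥ ↔ ∀ n : ℕ, 1 ≤ n → LocCoh.torsionBy (I ^ n) M = ⊥) ∧
    (LocCoh.torsionBy I M = ⊥ ↔
      ∀ m : M, (∀ i : Fin t, LocalizedModule.mkLinearMap (Submonoid.powers (f i)) M m = 0) → m = 0) :=
  ⟨part1 M I, part2 M f I hI⟩

/-- Let R be a commutative ring, I an ideal generated by finitely many elements f_1, …, f_t, and M an
R-module. Then: M has no nonzero element killed by I if and only if it has no nonzero element killed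
by I^n for every n ≥ 1; and M has no nonzero element killed by I if and only if an element of M
vanishing in every localization M_{f_i} is zero. -/
theorem result {R : Type u} [CommRing R] {t : ℕ} (f : Fin t → R)
    (I : Ideal R) (hI : Ideal.span (Set.range f) = I) (M : Type u) [AddCommGroup M] [Module R M] :
    (LocCoh.torsionBy I M = ⊥ ↔ ∀ n : ℕ, 1 ≤ n → LocCoh.torsionBy (I ^ n) M = ⊥) ∧
    (LocCoh.torsionBy I M = ⊥ ↔
      ∀ m : M, (∀ i : Fin t, LocalizedModule.mkLinearMap (Submonoid.powers (f i)) M m = 0) → m = 0) := by
  exact aux f I hI M

end Groth.Agent.S7085
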