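import Groth.Statements.S7099
import Groth.Agent.Lib.Helper8.RHomK2

set_option autoImplicit false
universe u
attribute [local instance] HasDerivedCategory.standard
open CategoryTheory
open DRing

namespace Groth.Agent.S7099

/-- Let A be a commutative ring, f and g elements of A, and K an object of D(A). Assuming the derived
functors RHom_A(A_f, −), RHom_A(A_g, −) and RHom_A(A_{fg}, −) (total right derived functors of the
Hom complexes out of the localizations placed in degree 0) exist, RHom_A(A_f, RHom_A(A_g, K)) is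
isomorphic in D(A) to RHom_A(A_{fg}, K). (Existence of an isomorphism only.) -/
theorem result {A : Type u} [CommRing A] (f g : A)
    [DRing.HasRHomCx ((HomologicalComplex.single (ModuleCat.{u} A) (ComplexShape.up ℤ) 0).obj
      (ModuleCat.of A (Localization.Away f)))]
    [DRing.HasRHomCx ((HomologicalComplex.single (ModuleCat.{u} A) (ComplexShape.up ℤ) 0).obj
      (ModuleCat.of A (Localization.Away g)))]
    [DRing.HasRHomCx ((HomologicalComplex.single (ModuleCat.{u} A) (ComplexShape.up ℤ) 0).obj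
      (ModuleCat.of A (Localization.Away (f * g))))]
    (K : Dual.D A) :
    Nonempty ((DRing.RHomCx ((HomologicalComplex.single (ModuleCat.{u} A) (ComplexShape.up ℤ) 0).obj
        (ModuleCat.of A (Localization.Away f)))).obj
      ((DRing.RHomCx ((HomologicalComplex.single (ModuleCat.{u} A) (ComplexShape.up ℤ) 0).obj
        (ModuleCat.of A (Localization.Away g)))).obj K) ≅
      (DRing.RHomCx ((HomologicalComplex.single (ModuleCat.{u} A) (ComplexShape.up ℤ) 0).obj
        (ModuleCat.of A (Localization.Away (f * g))))).obj K) := by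
  classical
  open Groth.Agent.Lib.Helper8.RHomK Groth.Agent.Lib.Helper8 DerivedCategory in
  obtain ⟨I, hI, ⟨e⟩⟩ := KInjM.exists_kinj_rep K
  let Mf : ModuleCat.{u} A := ModuleCat.of A (Localization.Away f)
  let Mg : ModuleCat.{u} A := ModuleCat.of A (Localization.Away g)
  let Mfg : ModuleCat.{u} A := ModuleCat.of A (Localization.Away (f * g))
  let e1 : (DRing.RHomCx (sgM Mg)).obj K ≅ Q.obj (DRing.homCx (sgM Mg) I) :=
    (DRing.RHomCx (sgM Mg)).mapIso e.symm ≪≫ rhomIso (sgM Mg) I
  let e2 : (DRing.RHomCx (sgM Mf)).obj ((DRing.RHomCx (sgM Mg)).obj K) ≅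
      Q.obj (DRing.homCx (sgM Mf) (DRing.homCx (sgM Mg) I)) :=
    (DRing.RHomCx (sgM Mf)).mapIso e1 ≪≫ rhomIso (sgM Mf) (DRing.homCx (sgM Mg) I)
  let c : DRing.homCx (sgM Mf) (DRing.homCx (sgM Mg) I) ≅ DRing.homCx (sgM Mfg) I :=
    singleHomIso Mf _ ≪≫
      ((CategoryTheory.ihom Mf).mapHomologicalComplex (ComplexShape.up ℤ)).mapIso
        (singleHomIso Mg I) ≪≫
      ihomCxCompIso Mg Mf Mfg (awayMulIso f g) I ≪≫ (singleHomIso Mfg I).symm
  let e3 : (DRing.RHomCx (sgM Mfg)).obj K ≅ Q.obj (DRing.homCx (sgM Mfg) I) :=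
    (DRing.RHomCx (sgM Mfg)).mapIso e.symm ≪≫ rhomIso (sgM Mfg) I
  exact ⟨e2 ≪≫ Q.mapIso c ≪≫ e3.symm⟩

end Groth.Agent.S7099
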