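import Groth.Statements.S7100
import Groth.Agent.S7068
import Groth.Agent.Lib.Helper15.RelPC16
import Groth.Agent.Lib.Helper16.RestrictD3
import Groth.Agent.Lib.Helper16.PC7e

set_option autoImplicit false
universe u
attribute [local instance] HasDerivedCategory.standard
open DerCA

namespace Groth.Agent.S7100

/-- (1)⇔(4): let R → B → A be homomorphisms of commutative rings with B → A surjective and with R → B
and R → A both flat and of finite presentation. Then an object K of D(A) is pseudo-coherent
(isomorphic in D(A) to a bounded above complex of finite free modules) if and only if its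
restriction of scalars to D(B) is pseudo-coherent; and for every integer m, K is m-pseudo-coherent
if and only if its restriction of scalars to D(B) is m-pseudo-coherent. -/
theorem result (R B A : Type u) [CommRing R] [CommRing B] [CommRing A]
    [Algebra R B] [Algebra R A] [Algebra B A] [IsScalarTower R B A]
    (hφ : Function.Surjective (algebraMap B A))
    [Module.Flat R B] [Algebra.FinitePresentation R B] [Module.Flat R A] [Algebra.FinitePresentation R A]
    (K : Dual.D A) :
    (DRing.IsPseudoCoherent' A K ↔ DRing.IsPseudoCoherent' B ((DRing.restrictD (algebraMap B A)).obj K)) ∧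
      ∀ m : ℤ, (DRing.IsPseudoCoherent A m K ↔
        DRing.IsPseudoCoherent B m ((DRing.restrictD (algebraMap B A)).obj K)) := by
  have key : ∀ m : ℤ, (DRing.IsPseudoCoherent A m K ↔
      DRing.IsPseudoCoherent B m ((DRing.restrictD (algebraMap B A)).obj K)) := by
    intro m
    obtain ⟨nA, αA, hαA, hpcA⟩ := (Groth.Agent.S7068.result R A).1
    obtain ⟨nB, αB, hαB, hpcB⟩ := (Groth.Agent.S7068.result R B).1
    let φ : B →ₐ[R] A := IsScalarTower.toAlgHom R B A
    have hφ' : Function.Surjective φ := hφ
    have h1 : DRing.IsPseudoCoherent A m K ↔ DerCA.IsRelPseudoCoherentVia αA m K := by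
      letI := αA.toRingHom.toAlgebra
      have hB' : ∀ m : ℤ, DRing.IsPseudoCoherent (MvPolynomial (Fin nA) R) m
          (Dual.inD (MvPolynomial (Fin nA) R) A) :=
        fun m => Groth.Agent.Lib.Helper16.PC.pc_of_pc' hpcA m
      exact ⟨Groth.Agent.Lib.Helper16.RestrictD.pc_restrict_of_pc hB' K m,
        Groth.Agent.Lib.Helper16.RestrictD.pc_of_pc_restrict hB' K m⟩
    have h3 : DRing.IsPseudoCoherent B m ((DRing.restrictD (algebraMap B A)).obj K) ↔
        DerCA.IsRelPseudoCoherentVia αB m ((DRing.restrictD (algebraMap B A)).obj K) := by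
      letI := αB.toRingHom.toAlgebra
      have hB' : ∀ m : ℤ, DRing.IsPseudoCoherent (MvPolynomial (Fin nB) R) m
          (Dual.inD (MvPolynomial (Fin nB) R) B) :=
        fun m => Groth.Agent.Lib.Helper16.PC.pc_of_pc' hpcB m
      exact ⟨Groth.Agent.Lib.Helper16.RestrictD.pc_restrict_of_pc hB' _ m,
        Groth.Agent.Lib.Helper16.RestrictD.pc_of_pc_restrict hB' _ m⟩
    have h2 := Groth.Agent.Lib.Helper15.RelPC16.rel_iff_of_surjective φ hφ' m K
    rw [h1, h3, ← Groth.Agent.Lib.Helper16.RelPC.rel_iff_via αA hαA,
      ← Groth.Agent.Lib.Helper16.RelPC.rel_iff_via αB hαB]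
    exact h2
  refine ⟨⟨fun h => ?_, fun h => ?_⟩, key⟩
  · exact Groth.Agent.Lib.Helper16.PC.pc'_of_pc
      (fun m => (key m).1 (Groth.Agent.Lib.Helper16.PC.pc_of_pc' h m))
  · exact Groth.Agent.Lib.Helper16.PC.pc'_of_pc
      (fun m => (key m).2 (Groth.Agent.Lib.Helper16.PC.pc_of_pc' h m))

end Groth.Agent.S7100
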