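import Groth.Statements.S7102
import Groth.Agent.Lib.Helper16.TensInd
import Groth.Agent.Lib.Helper16.RelPerf1

set_option autoImplicit false
universe u
attribute [local instance] HasDerivedCategory.standard
open Dual2

namespace Groth.Agent.S7102

/-- Let R → A be a flat homomorphism of finite presentation of commutative rings, E a bounded cochain
complex of finite projective A-modules (a perfect object of D(A)) for which the derived functor −
⊗^L_A E exists, and M an R-perfect object of D(A). Then M ⊗^L_A E is R-perfect. -/
theorem result (R A : Type u) [CommRing R] [CommRing A] [Algebra R A]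
    [Module.Flat R A] [Algebra.FinitePresentation R A] (E : DRing.Cx A) (a b : ℤ)
    (hEb : DRing.VanishesOutside E a b) (hEp : DRing.TermwiseFiniteProjective E) [DRing.HasLTensorCx A E]
    (M : Dual.D A) (hM : Dual2.IsRelPerfect R A M) :
    Dual2.IsRelPerfect R A ((DRing.LTensorCx A E).obj M) := by
  open Groth.Agent.Lib.Helper16 Groth.Agent.Lib.Helper16.RelPerf CategoryTheory MonoidalCategory in
  have hS : TensInd.Thick (A := A) (fun K => Dual2.IsRelPerfect R A K) :=
    { iso := fun e h => relPerfect_of_iso e h
      zero := fun X hX => relPerfect_of_isZero X hX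
      ext := fun T hT h1 h3 => relPerfect_obj₂ T hT h1 h3
      shift := fun X n h => relPerfect_shift X n h
      summand := fun X Y h => relPerfect_of_biprod X Y h }
  obtain ⟨F, c, hFc, hFf, ⟨e⟩⟩ := hM.1
  have hFfl : DRing.TermwiseFlat F := fun i => by
    haveI := (hFf i).2
    exact Module.Flat.of_free
  have hFK : DRing.IsKFlat A F := KF.isKFlat_of_boundedAbove F c hFc hFfl
  haveI := DRE.isIso_app_of_isKFlat (DRE.invertsKFlat_tensorCxQ E)
    ((DRing.tensorCxQ A E).totalLeftDerivedCounit DerivedCategory.Q (DRE.qis A)) F hFK
  have e2 : (DRing.LTensorCx A E).obj (DerivedCategory.Q.obj F) ≅ DerivedCategory.Q.obj (F ⊗ E) :=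
    asIso (((DRing.tensorCxQ A E).totalLeftDerivedCounit DerivedCategory.Q (DRE.qis A)).app F)
  refine relPerfect_of_iso (e2.symm ≪≫ (DRing.LTensorCx A E).mapIso e) ?_
  exact TensInd.S_tensor hS F (relPerfect_of_iso e.symm hM) E a b hEb hEp

end Groth.Agent.S7102
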