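import Groth.Statements.S7107
import Mathlib.LinearAlgebra.Finsupp.SumProd
import Mathlib.LinearAlgebra.Finsupp.Pi
import Mathlib.LinearAlgebra.Finsupp.LSum
import Mathlib.LinearAlgebra.Finsupp.Defs
import Mathlib.SetTheory.Cardinal.Arithmetic
import Mathlib.Logic.Equiv.Nat

set_option autoImplicit false
universe u
open CAlg

namespace Groth.Agent.S7107

section
variable (R : Type*) [CommRing R] (α : Type*) (M N : Type*) [AddCommGroup M] [Module R M]
  [AddCommGroup N] [Module R N]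

/-- finitely supported functions into a product. -/
noncomputable def finsuppProdLEquiv : (α →₀ M × N) ≃ₗ[R] (α →₀ M) × (α →₀ N) :=
  LinearEquiv.ofLinearMap
    (LinearMap.prod (Finsupp.mapRange.linearMap (LinearMap.fst R M N))
      (Finsupp.mapRange.linearMap (LinearMap.snd R M N)))
    (LinearMap.coprod (Finsupp.mapRange.linearMap (LinearMap.inl R M N))
      (Finsupp.mapRange.linearMap (LinearMap.inr R M N)))
    (by
      apply LinearMap.ext
      rintro ⟨g, h⟩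
      refine Prod.ext ?_ ?_
      · ext a; simp
      · ext a; simp)
    (by
      apply LinearMap.ext
      intro f
      ext a <;> simp)

/-- shifting: `M × (ℕ →₀ M) ≃ (ℕ →₀ M)`. -/
noncomputable def shiftLEquiv : (M × (ℕ →₀ M)) ≃ₗ[R] (ℕ →₀ M) :=
  ((Finsupp.uniqueLinearEquiv (α := PUnit.{1}) R M PUnit.unit).symm.prodCongr (LinearEquiv.refl R (ℕ →₀ M))) ≪≫ₗ
    (Finsupp.sumFinsuppLEquivProdFinsupp R).symm ≪≫ₗ
    Finsupp.domLCongr ((Equiv.sumComm _ _).trans Equiv.natSumPUnitEquivNat)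

/-- the core of the Eilenberg swindle. -/
noncomputable def swindleCore : (M × (ℕ →₀ M × N)) ≃ₗ[R] (ℕ →₀ M × N) :=
  (LinearEquiv.refl R M).prodCongr (finsuppProdLEquiv R ℕ M N) ≪≫ₗ
    (LinearEquiv.prodAssoc R M (ℕ →₀ M) (ℕ →₀ N)).symm ≪≫ₗ
    (shiftLEquiv R M).prodCongr (LinearEquiv.refl R (ℕ →₀ N)) ≪≫ₗ
    (finsuppProdLEquiv R ℕ M N).symm

end

theorem nonempty_equiv_nat_prod (ι : Type u) [Infinite ι] : Nonempty (ι ≃ ℕ × ι) := by
  rw [← Cardinal.eq]
  simp [Cardinal.mk_prod, Cardinal.aleph0_mul_eq (Cardinal.aleph0_le_mk ι)]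

/-- Let R be a ring and P, Q modules such that P ⊕ Q is isomorphic to a free module F on an infinite
basis. Then P ⊕ F is isomorphic to F. -/
theorem result (R : Type u) [CommRing R] (P Q : Type u) [AddCommGroup P] [Module R P]
    [AddCommGroup Q] [Module R Q] (ι : Type u) [Infinite ι] (e : (P × Q) ≃ₗ[R] (ι →₀ R)) :
    Nonempty ((P × (ι →₀ R)) ≃ₗ[R] (ι →₀ R)) := by
  obtain ⟨σ⟩ := nonempty_equiv_nat_prod ι
  -- F ≃ ℕ →₀ F ≃ ℕ →₀ P × Q
  let Φ : (ι →₀ R) ≃ₗ[R] (ℕ →₀ P × Q) :=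
    Finsupp.domLCongr σ ≪≫ₗ Finsupp.curryLinearEquiv R ≪≫ₗ Finsupp.mapRange.linearEquiv e.symm
  exact ⟨(LinearEquiv.refl R P).prodCongr Φ ≪≫ₗ swindleCore R P Q ≪≫ₗ Φ.symm⟩

end Groth.Agent.S7107
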