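import Groth.Statements.S7108
import Groth.Agent.S7107
import Mathlib.Algebra.Module.Projective
import Mathlib.LinearAlgebra.FreeModule.Basic

set_option autoImplicit false
universe u
open CAlg

namespace Groth.Agent.S7108

/-- a split surjection decomposes the source. -/
noncomputable def splitEquiv {R : Type*} [CommRing R] {E P : Type*} [AddCommGroup E] [Module R E]
    [AddCommGroup P] [Module R P] (f : E →ₗ[R] P) (s : P →ₗ[R] E) (h : f ∘ₗ s = LinearMap.id) :
    E ≃ₗ[R] P × LinearMap.ker f :=
  LinearEquiv.ofLinearMap
    (LinearMap.prod f (LinearMap.codRestrict (LinearMap.ker f) (LinearMap.id - s ∘ₗ f) (by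
      intro x
      have := LinearMap.congr_fun h (f x)
      simp only [LinearMap.comp_apply, LinearMap.id_apply] at this
      simp [this])))
    (LinearMap.coprod s (LinearMap.ker f).subtype)
    (by
      apply LinearMap.ext
      rintro ⟨p, q⟩
      have hp := LinearMap.congr_fun h p
      simp only [LinearMap.comp_apply, LinearMap.id_apply] at hp
      have hq : f q.1 = 0 := q.2
      refine Prod.ext ?_ (Subtype.ext ?_)
      · simp [hp, hq]
      · simp [hp, hq])
    (by
      apply LinearMap.ext
      intro x
      simp)

theorem free_of_equiv (R : Type u) [CommRing R] (P : Type u) [AddCommGroup P] [Module R P]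
    (Q : Type u) [AddCommGroup Q] [Module R Q] (ψ : (P →₀ R) ≃ₗ[R] P × Q) :
    Module.Free R (P × (ℕ × P →₀ R)) := by
  let Φ : (ℕ × P →₀ R) ≃ₗ[R] (ℕ →₀ P × Q) :=
    Finsupp.curryLinearEquiv R ≪≫ₗ Finsupp.mapRange.linearEquiv ψ
  exact Module.Free.of_equiv
    ((LinearEquiv.refl R P).prodCongr Φ ≪≫ₗ Groth.Agent.S7107.swindleCore R P Q ≪≫ₗ Φ.symm).symm

/-- Every projective module P over a ring R becomes free after adding a suitable free module: P ⊕ F is
free for some free module F (here F is the free module on some index type). -/
theorem result (R : Type u) [CommRing R] (P : Type u) [AddCommGroup P]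
    [Module R P] [Module.Projective R P] : ∃ ι : Type u, Module.Free R (P × (ι →₀ R)) := by
  obtain ⟨s, hs⟩ := Module.projective_def'.mp (inferInstance : Module.Projective R P)
  exact ⟨ℕ × P, free_of_equiv R P (LinearMap.ker (Finsupp.linearCombination R (id : P → P)))
    (splitEquiv (Finsupp.linearCombination R (id : P → P)) s hs)⟩

end Groth.Agent.S7108
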