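import Groth.Statements.S7109
import Mathlib.Algebra.Module.Projective
import Mathlib.LinearAlgebra.FreeModule.Basic
import Mathlib.LinearAlgebra.FreeModule.Finite.Basic
import Mathlib.LinearAlgebra.Prod
import Mathlib.LinearAlgebra.Finsupp.LinearCombination

set_option autoImplicit false
universe u
open CAlg

namespace Groth.Agent.S7109

/-- abstract version: maps `α`, `β` with `α (β s) = s`. -/
theorem aux (R : Type u) [CommRing R] (P : Type u) [AddCommGroup P] [Module R P] (s : P) (n : ℕ)
    (α : (Fin n → R) →ₗ[R] P) (β : P →ₗ[R] (Fin n → R)) (h : α (β s) = s) :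
    ∃ (K K' : Submodule R ((Fin n → R) × P)), IsCompl K K' ∧ Module.Free R K ∧ Module.Finite R K ∧
      ((0, s) : (Fin n → R) × P) ∈ K := by
  let E₁ : ((Fin n → R) × P) ≃ₗ[R] ((Fin n → R) × P) :=
    (LinearEquiv.refl R (Fin n → R)).skewProd (LinearEquiv.refl R P) α
  let E₂ : ((Fin n → R) × P) ≃ₗ[R] ((Fin n → R) × P) :=
    (LinearEquiv.prodComm R (Fin n → R) P) ≪≫ₗ
      ((LinearEquiv.refl R P).skewProd (LinearEquiv.refl R (Fin n → R)) (-β)) ≪≫ₗ
      (LinearEquiv.prodComm R P (Fin n → R))
  let E := E₁ ≪≫ₗ E₂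
  let K₀ := LinearMap.range (LinearMap.inl R (Fin n → R) P)
  let e : (Fin n → R) ≃ₗ[R] K₀.map (E : ((Fin n → R) × P) →ₗ[R] ((Fin n → R) × P)) :=
    (LinearEquiv.ofInjective (LinearMap.inl R (Fin n → R) P) LinearMap.inl_injective) ≪≫ₗ
      E.submoduleMap K₀
  refine ⟨K₀.map (E : ((Fin n → R) × P) →ₗ[R] ((Fin n → R) × P)),
    (LinearMap.range (LinearMap.inr R (Fin n → R) P)).map
      (E : ((Fin n → R) × P) →ₗ[R] ((Fin n → R) × P)), ?_, ?_, ?_, ?_⟩
  · exact (Submodule.orderIsoMapComap E).isCompl LinearMap.isCompl_range_inl_inr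
  · exact Module.Free.of_equiv e
  · exact Module.Finite.equiv e
  · refine ⟨(β s, 0), ⟨β s, rfl⟩, ?_⟩
    simp [E, E₁, E₂, h]

/-- Let P be a projective module over a ring R and s an element of P. Then there are a finite free
module R^n and a direct summand K of R^n ⊕ P which is finite free and contains (0, s). -/
theorem result (R : Type u) [CommRing R] (P : Type u) [AddCommGroup P]
    [Module R P] [Module.Projective R P] (s : P) :
    ∃ (n : ℕ) (K K' : Submodule R ((Fin n → R) × P)), IsCompl K K' ∧ Module.Free R K ∧ Module.Finite R K ∧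
      ((0, s) : (Fin n → R) × P) ∈ K := by
  classical
  obtain ⟨σ, hσ⟩ := Module.projective_def'.mp (inferInstance : Module.Projective R P)
  set c := σ s with hc
  let n := c.support.card
  let pk : Fin n → P := fun k => (c.support.equivFin.symm k : P)
  refine ⟨n, aux R P s n (Fintype.linearCombination R pk)
    (LinearMap.pi (fun k => (Finsupp.lapply (pk k)) ∘ₗ σ)) ?_⟩
  have hs : Finsupp.linearCombination R (id : P → P) c = s := by
    have := LinearMap.congr_fun hσ s
    simpa using this
  rw [Fintype.linearCombination_apply]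
  simp only [LinearMap.pi_apply, LinearMap.comp_apply, Finsupp.lapply_apply]
  rw [← hc]
  conv_rhs => rw [← hs, Finsupp.linearCombination_apply, Finsupp.sum, ← Finset.sum_coe_sort]
  exact Equiv.sum_comp c.support.equivFin.symm (fun x : c.support => c (x : P) • (id (x : P) : P))

end Groth.Agent.S7109
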