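import Groth.Statements.S7111
import Groth.Agent.Lib.helper10.BigProjC

set_option autoImplicit false
universe u
open CAlg

namespace Groth.Agent.S7111

/-- Let R be a ring whose quotient by its Jacobson radical is Noetherian and P a projective R-module
such that for every maximal ideal m the localization P_m is not finitely generated over R_m (P has
infinite rank everywhere). Then every element s of P lies in a direct summand of P which is a finite
stably free module. -/
theorem result (R : Type u) [CommRing R]
    [IsNoetherianRing (R ⧸ (⊥ : Ideal R).jacobson)]
    (P : Type u) [AddCommGroup P] [Module R P] [Module.Projective R P]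
    (hP : ∀ (m : Ideal R) [m.IsMaximal],
      ¬ Module.Finite (Localization.AtPrime m) (LocalizedModule m.primeCompl P))
    (s : P) :
    ∃ (K K' : Submodule R P), IsCompl K K' ∧ Module.Finite R K ∧ Module.IsStablyFree R K ∧ s ∈ K := by
  obtain ⟨d, hd⟩ := Groth.Agent.Lib.helper10.BigProjC.exists_split_mem hP s
  refine ⟨LinearMap.range d.i, LinearMap.ker d.r, d.isCompl, ?_, ?_, hd⟩
  · exact Module.Finite.range d.i
  · haveI : Module.Free R (LinearMap.range d.i) :=
      Module.Free.of_equiv (LinearEquiv.ofInjective d.i d.i_injective)
    infer_instance

end Groth.Agent.S7111
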