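import Groth.Statements.S7114
import Mathlib.RingTheory.Length
import Mathlib.LinearAlgebra.Quotient.Basic

set_option autoImplicit false
universe u
open CAlg

namespace Groth.Agent.S7114

section
variable {R : Type u} [CommRing R] (x : R) (n : ℕ)

/-- multiplication by `x ^ n` from `R/(x)` to `R/(x^(n+1))`. -/
noncomputable def mu : (R ⧸ Ideal.span {x}) →ₗ[R] (R ⧸ Ideal.span {x ^ (n + 1)}) :=
  Submodule.mapQ (Ideal.span {x}) (Ideal.span {x ^ (n + 1)}) (LinearMap.mulLeft R (x ^ n)) (by
    intro r hr
    rw [Ideal.mem_span_singleton] at hr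
    obtain ⟨a, rfl⟩ := hr
    rw [Submodule.mem_comap, LinearMap.mulLeft_apply, Ideal.mem_span_singleton]
    exact ⟨a, by ring⟩)

theorem mu_mk (r : R) : mu x n (Submodule.Quotient.mk r) = Submodule.Quotient.mk (x ^ n * r) := rfl

theorem hle : (Ideal.span {x ^ (n + 1)} : Ideal R) ≤ Ideal.span {x ^ n} := by
  rw [Ideal.span_singleton_le_span_singleton]
  exact ⟨x, pow_succ x n⟩

theorem range_mu : LinearMap.range (mu x n) = LinearMap.ker (Submodule.factor (hle x n)) := by
  ext y
  obtain ⟨r, rfl⟩ := Submodule.mkQ_surjective _ y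
  rw [LinearMap.mem_ker, Submodule.factor_mk, Submodule.mkQ_apply, Submodule.mkQ_apply,
    Submodule.Quotient.mk_eq_zero]
  constructor
  · rintro ⟨z, hz⟩
    obtain ⟨s, rfl⟩ := Submodule.mkQ_surjective _ z
    rw [Submodule.mkQ_apply, mu_mk, Submodule.Quotient.eq] at hz
    have h1 : x ^ n * s - r ∈ Ideal.span {x ^ n} := hle x n hz
    have h2 : x ^ n * s ∈ Ideal.span {x ^ n} := Ideal.mem_span_singleton.mpr ⟨s, rfl⟩
    have : r = x ^ n * s - (x ^ n * s - r) := by ring
    rw [this]
    exact Ideal.sub_mem _ h2 h1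
  · intro hr
    rw [Ideal.mem_span_singleton] at hr
    obtain ⟨s, rfl⟩ := hr
    exact ⟨Submodule.Quotient.mk s, rfl⟩

theorem mu_injective (hx : x ∈ nonZeroDivisors R) : Function.Injective (mu x n) := by
  rw [← LinearMap.ker_eq_bot, LinearMap.ker_eq_bot']
  intro y hy
  obtain ⟨r, rfl⟩ := Submodule.mkQ_surjective _ y
  rw [Submodule.mkQ_apply, mu_mk, Submodule.Quotient.mk_eq_zero, Ideal.mem_span_singleton] at hy
  obtain ⟨s, hs⟩ := hy
  rw [Submodule.mkQ_apply, Submodule.Quotient.mk_eq_zero, Ideal.mem_span_singleton]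
  refine ⟨s, ?_⟩
  have hxn : x ^ n ∈ nonZeroDivisors R := pow_mem hx n
  have : x ^ n * (r - x * s) = 0 := by rw [mul_sub, hs]; ring
  have := (mul_left_mem_nonZeroDivisors_eq_zero_iff hxn).mp this
  exact sub_eq_zero.mp this

theorem length_succ :
    Module.length R (R ⧸ Ideal.span {x ^ (n + 1)}) =
      Module.length R (LinearMap.range (mu x n)) + Module.length R (R ⧸ Ideal.span {x ^ n}) := by
  rw [range_mu]
  exact Module.length_eq_add_of_exact (LinearMap.ker (Submodule.factor (hle x n))).subtype
    (Submodule.factor (hle x n)) (Submodule.subtype_injective _)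
    (Submodule.factor_surjective (hle x n)) (LinearMap.exact_subtype_ker_map _)

theorem length_pow_le :
    Module.length R (R ⧸ Ideal.span {x ^ n}) ≤ (n : ℕ∞) * Module.length R (R ⧸ Ideal.span {x}) := by
  induction n with
  | zero =>
    have : Subsingleton (R ⧸ Ideal.span {x ^ 0}) := by
      rw [pow_zero, Ideal.span_singleton_one]
      exact Submodule.Quotient.subsingleton_iff.mpr rfl
    rw [Module.length_eq_zero]
    exact bot_le
  | succ n ih =>
    rw [length_succ, Nat.cast_succ, add_mul, one_mul, add_comm]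
    refine add_le_add ih ?_
    exact Module.length_le_of_surjective (mu x n).rangeRestrict (LinearMap.surjective_rangeRestrict _)

theorem length_pow_eq (hx : x ∈ nonZeroDivisors R) :
    Module.length R (R ⧸ Ideal.span {x ^ n}) = (n : ℕ∞) * Module.length R (R ⧸ Ideal.span {x}) := by
  induction n with
  | zero =>
    have : Subsingleton (R ⧸ Ideal.span {x ^ 0}) := by
      rw [pow_zero, Ideal.span_singleton_one]
      exact Submodule.Quotient.subsingleton_iff.mpr rfl
    rw [Module.length_eq_zero]
    simp
  | succ n ih =>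
    rw [length_succ, Nat.cast_succ, add_mul, one_mul, add_comm, ih]
    congr 1
    exact (LinearEquiv.ofInjective (mu x n) (mu_injective x n hx)).length_eq.symm

end

/-- Let R be a Noetherian local ring of Krull dimension one and x an element of the maximal ideal lying
in no minimal prime of R. Then for every n the length of R/xⁿR is at most n times the length of
R/xR, and equality holds when x is a nonzerodivisor. -/
theorem result (R : Type u) [CommRing R] [IsNoetherianRing R] [IsLocalRing R]
    (hdim : ringKrullDim R = 1) (x : R) (hx : x ∈ IsLocalRing.maximalIdeal R)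
    (hmin : ∀ p ∈ minimalPrimes R, x ∉ p) (n : ℕ) :
    Module.length R (R ⧸ Ideal.span {x ^ n}) ≤ (n : ℕ∞) * Module.length R (R ⧸ Ideal.span {x}) ∧
      (x ∈ nonZeroDivisors R →
        Module.length R (R ⧸ Ideal.span {x ^ n}) = (n : ℕ∞) * Module.length R (R ⧸ Ideal.span {x})) := by
  exact ⟨length_pow_le x n, length_pow_eq x n⟩

end Groth.Agent.S7114
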