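import Groth.Statements.S7115
import Mathlib
import Groth.Agent.S4742

set_option autoImplicit false
universe u
open CAlg

namespace Groth.Agent.S7115

/-- Let R be a Noetherian local ring of Krull dimension d > 1 with maximal ideal m, let f be an element
of m contained in no minimal prime, and let k be a natural number. Then there are elements g_1, ...,
g_{d-1} of m lying in m^k such that f, g_1, ..., g_{d-1} form a system of parameters: these d
elements of m generate an ideal whose radical is m. -/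
theorem result (R : Type u) [CommRing R] [IsNoetherianRing R] [IsLocalRing R]
    (d : ℕ) (hd : ringKrullDim R = d) (h1 : 1 < d) (f : R) (hf : f ∈ IsLocalRing.maximalIdeal R)
    (hmin : ∀ p ∈ minimalPrimes R, f ∉ p) (k : ℕ) :
    ∃ g : Fin (d - 1) → R, (∀ i, g i ∈ IsLocalRing.maximalIdeal R ^ k) ∧ (∀ i, g i ∈ IsLocalRing.maximalIdeal R) ∧
      IsLocalRing.maximalIdeal R ≤ (Ideal.span (insert f (Set.range g))).radical := by
  classical
  set 𝔪 := IsLocalRing.maximalIdeal R with h𝔪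
  set I₀ : Ideal R := Ideal.span {f} with hI₀
  have hI₀𝔪 : I₀ ≤ 𝔪 := (Ideal.span_singleton_le_iff_mem _).2 hf
  let π := Ideal.Quotient.mk I₀
  have hsurj : Function.Surjective π := Ideal.Quotient.mk_surjective
  have hker : RingHom.ker π = I₀ := Ideal.mk_ker
  haveI h𝔪bar : (𝔪.map π).IsPrime :=
    Ideal.map_isPrime_of_surjective hsurj (by rw [hker]; exact hI₀𝔪)
  -- heights
  have hht𝔪 : (𝔪.height : WithBot ℕ∞) = d := by
    rw [h𝔪, IsLocalRing.maximalIdeal_height_eq_ringKrullDim, hd]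
  have hht𝔪' : 𝔪.height = d := by exact_mod_cast hht𝔪
  have h1le : (𝔪.map π).height + 1 ≤ d := by
    rw [← hht𝔪']
    exact Groth.Agent.S4742.height_map_add_one_le f hmin 𝔪 hf
  have h2le : ((d - 1 : ℕ) : ℕ∞) ≤ (𝔪.map π).height := by
    have h3 : 𝔪.height ≤ (𝔪.map π).height + I₀.spanFinrank :=
      Ideal.height_le_height_add_spanFinrank_of_le hI₀𝔪
    have h4 : I₀.spanFinrank ≤ 1 := by
      have := Submodule.spanFinrank_span_le_ncard_of_finite (R := R) (s := ({f} : Set R))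
        (Set.finite_singleton f)
      simpa using this
    rw [hht𝔪'] at h3
    have hfin : (𝔪.map π).height ≠ ⊤ := Ideal.height_ne_top h𝔪bar.ne_top
    obtain ⟨a, ha⟩ := ENat.ne_top_iff_exists.1 hfin
    rw [← ha] at h3 ⊢
    have h5 : (d : ℕ∞) ≤ ((a + I₀.spanFinrank : ℕ) : ℕ∞) := by exact_mod_cast h3
    have h6 : d ≤ a + I₀.spanFinrank := by exact_mod_cast h5
    have : d - 1 ≤ a := by omega
    exact_mod_cast this
  -- every prime of the quotient lies below `𝔪.map π`
  have hle𝔪bar : ∀ p : Ideal (R ⧸ I₀), p.IsPrime → p ≤ 𝔪.map π := by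
    intro p hp
    have h1 : p.comap π ≤ 𝔪 := IsLocalRing.le_maximalIdeal (Ideal.comap_ne_top π hp.ne_top)
    calc p = (p.comap π).map π := (Ideal.map_comap_of_surjective π hsurj p).symm
      _ ≤ 𝔪.map π := Ideal.map_mono h1
  -- the ideal `I`
  set I : Ideal (R ⧸ I₀) := (𝔪 ^ (k + 1)).map π with hI
  have hIht : ((d - 1 : ℕ) : ℕ∞) ≤ I.height := by
    rw [Ideal.height_eq_inf_minimalPrimes]
    refine le_iInf₂ fun p hp => ?_
    haveI hpp : p.IsPrime := hp.1.1
    have hIp : I ≤ p := hp.1.2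
    have h𝔪p : 𝔪.map π ≤ p := by
      rw [hI, Ideal.map_pow] at hIp
      exact hpp.le_of_pow_le hIp
    have hpeq : p = 𝔪.map π := le_antisymm (hle𝔪bar p hpp) h𝔪p
    rw [hpeq]
    exact h2le
  obtain ⟨J, hJI, hJr, hJh⟩ := _root_.exists_spanRank_le_and_le_height_of_le_height I (d - 1) hIht
  have hJfg : J.FG := IsNoetherian.noetherian J
  have hJr' : J.spanFinrank ≤ d - 1 := (Submodule.FG.spanRank_le_iff hJfg (d - 1)).1 hJr
  obtain ⟨s, hscard, hsspan⟩ := Submodule.FG.exists_span_finset_card_eq_spanFinrank hJfg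
  -- only prime containing `J` is `𝔪.map π`
  have hJprime : ∀ p : Ideal (R ⧸ I₀), p.IsPrime → J ≤ p → p = 𝔪.map π := by
    intro p hp hJp
    haveI := hp
    by_contra hne
    have hlt : p < 𝔪.map π := lt_of_le_of_ne (hle𝔪bar p hp) hne
    have h1 := Ideal.height_add_one_le_of_lt_of_isPrime hlt
    have h2 : ((d - 1 : ℕ) : ℕ∞) ≤ p.height := hJh.trans (Ideal.height_mono hJp)
    have h3 : ((d - 1 : ℕ) : ℕ∞) + 1 + 1 ≤ d :=
      ((add_le_add_left (add_le_add_left h2 1) 1).trans (add_le_add_left h1 1)).trans h1le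
    have h4 : (((d - 1 + 1 + 1 : ℕ)) : ℕ∞) ≤ d := by exact_mod_cast h3
    have h5 : d - 1 + 1 + 1 ≤ d := by exact_mod_cast h4
    omega
  -- lifts of the generators
  have hlift : ∀ x : (R ⧸ I₀), x ∈ s → ∃ y : R, y ∈ 𝔪 ^ (k + 1) ∧ π y = x := by
    intro x hx
    have hxJ : x ∈ J := by
      rw [← hsspan]
      exact Submodule.subset_span hx
    have hxI : x ∈ I := hJI hxJ
    rw [hI] at hxI
    exact (Ideal.mem_map_iff_of_surjective π hsurj).1 hxI
  choose! lift hlift1 hlift2 using hlift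
  let e := s.equivFin
  have hsle : s.card ≤ d - 1 := by rw [hscard]; exact hJr'
  let g : Fin (d - 1) → R := fun i =>
    if h : (i : ℕ) < s.card then lift ((e.symm ⟨i, h⟩ : s) : R ⧸ I₀) else 0
  have hgmem : ∀ i, g i ∈ 𝔪 ^ (k + 1) := by
    intro i
    simp only [g]
    split_ifs with h
    · exact hlift1 _ (e.symm ⟨i, h⟩).2
    · exact zero_mem _
  have hpow_le : 𝔪 ^ (k + 1) ≤ 𝔪 ^ k := Ideal.pow_le_pow_right (Nat.le_succ k)
  have hpow_le' : 𝔪 ^ (k + 1) ≤ 𝔪 := by
    calc 𝔪 ^ (k + 1) ≤ 𝔪 ^ 1 := Ideal.pow_le_pow_right (Nat.succ_le_succ (Nat.zero_le k))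
      _ = 𝔪 := pow_one _
  refine ⟨g, fun i => hpow_le (hgmem i), fun i => hpow_le' (hgmem i), ?_⟩
  -- `J ≤ (span (range g)).map π`
  have hJle : J ≤ (Ideal.span (Set.range g)).map π := by
    rw [← hsspan]
    change Ideal.span (s : Set (R ⧸ I₀)) ≤ _
    rw [Ideal.span_le]
    intro x hx
    have hx' : x ∈ s := hx
    let j := e ⟨x, hx'⟩
    have hj : (j : ℕ) < d - 1 := lt_of_lt_of_le j.2 hsle
    have hgj : g ⟨j, hj⟩ = lift x := by
      simp only [g]
      rw [dif_pos j.2]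
      have : e.symm ⟨(j : ℕ), j.2⟩ = ⟨x, hx'⟩ := by
        simp [j]
      rw [this]
    have : π (g ⟨j, hj⟩) = x := by rw [hgj]; exact hlift2 x hx'
    rw [← this]
    exact Ideal.mem_map_of_mem π (Ideal.subset_span ⟨⟨j, hj⟩, rfl⟩)
  intro x hx
  -- `π x ∈ radical J`
  have hrad : π x ∈ J.radical := by
    rw [Ideal.radical_eq_sInf, Ideal.mem_sInf]
    rintro p ⟨hJp, hp⟩
    rw [hJprime p hp hJp]
    exact Ideal.mem_map_of_mem π hx
  obtain ⟨N, hN⟩ := hrad
  refine ⟨N, ?_⟩
  have h1 : π (x ^ N) ∈ (Ideal.span (Set.range g)).map π := by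
    rw [map_pow]; exact hJle hN
  have h2 : x ^ N ∈ ((Ideal.span (Set.range g)).map π).comap π := h1
  rw [Ideal.comap_map_of_surjective π hsurj, ← RingHom.ker_eq_comap_bot, hker] at h2
  have h3 : Ideal.span (Set.range g) ⊔ I₀ ≤ Ideal.span (insert f (Set.range g)) := by
    refine sup_le (Ideal.span_mono (Set.subset_insert _ _)) ?_
    rw [hI₀]
    exact Ideal.span_mono (Set.singleton_subset_iff.2 (Set.mem_insert _ _))
  exact h3 h2

end Groth.Agent.S7115
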