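import Groth.Statements.S7116
import Groth.Agent.S5808
import Mathlib.RingTheory.Nakayama

set_option autoImplicit false
universe u
open CAlg

namespace Groth.Agent.S7116

/-- Let R be a Noetherian local ring of Krull dimension d with maximal ideal m and let f be an element
of m contained in no minimal prime. Then there are g_1, ..., g_{d-1} in m and a natural number N
such that f, g_1, ..., g_{d-1} is a system of parameters (these d elements of m generate an ideal
with radical m) and, for every h in m^N, the elements f + h, g_1, ..., g_{d-1} again form a system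
of parameters and the lengths of R/(f, g_1, ..., g_{d-1}) and R/(f + h, g_1, ..., g_{d-1}) agree. -/
theorem result (R : Type u) [CommRing R] [IsNoetherianRing R] [IsLocalRing R]
    (d : ℕ) (hd : ringKrullDim R = d) (f : R) (hf : f ∈ IsLocalRing.maximalIdeal R)
    (hmin : ∀ p ∈ minimalPrimes R, f ∉ p) :
    ∃ (g : Fin (d - 1) → R) (N : ℕ), (∀ i, g i ∈ IsLocalRing.maximalIdeal R) ∧
      IsLocalRing.maximalIdeal R ≤ (Ideal.span (insert f (Set.range g))).radical ∧
      ∀ h ∈ IsLocalRing.maximalIdeal R ^ N,
        IsLocalRing.maximalIdeal R ≤ (Ideal.span (insert (f + h) (Set.range g))).radical ∧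
        Module.length R (R ⧸ Ideal.span (insert f (Set.range g))) =
          Module.length R (R ⧸ Ideal.span (insert (f + h) (Set.range g))) := by
  classical
  set m := IsLocalRing.maximalIdeal R with hm
  have hjac : Ring.jacobson R = m := by
    rw [← Ideal.jacobson_bot]; exact IsLocalRing.jacobson_eq_maximalIdeal ⊥ bot_ne_top
  have hfj : f ∈ Ring.jacobson R := hjac ▸ hf
  have hsd : Module.supportDim R R = ((d : ℕ) : WithBot ℕ∞) := by
    rw [Module.supportDim_self_eq_ringKrullDim, hd]
  -- dimension drops by one modulo f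
  have h1 : Module.supportDim R (QuotSMulTop f R) + 1 = Module.supportDim R R := by
    rw [Groth.Agent.S5767.result R R f hfj]
    intro p _ hdim hfp
    rw [Groth.Agent.S5768.ringKrullDim_quotient_eq_coheight, hsd] at hdim
    have hco : Order.coheight p = (d : ℕ∞) := by exact_mod_cast hdim
    have h2 := Groth.Agent.S5808.height_add_coheight_le p
    rw [hco, hd] at h2
    have h3 : p.asIdeal.height + d ≤ (d : ℕ∞) := by exact_mod_cast h2
    have h4 : p.asIdeal.height = 0 := by
      by_contra hne
      have : 1 ≤ p.asIdeal.height := Order.one_le_iff_pos.mpr (pos_iff_ne_zero.mpr hne)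
      have h5 : (1 : ℕ∞) + d ≤ d := le_trans (by gcongr) h3
      have : 1 + d ≤ d := by exact_mod_cast h5
      omega
    exact hmin _ (Ideal.height_eq_zero_iff.mp h4) hfp
  have h1' : Module.supportDim R (R ⧸ (Ideal.ofList [f] • (⊤ : Submodule R R))) +
      ([f] : List R).length = Module.supportDim R R := by
    rw [← h1]
    congr 1
    apply Groth.Agent.S5768.supportDim_congr
    rw [Module.support_quotient, Module.support_quotSMulTop, Ideal.ofList_singleton,
      PrimeSpectrum.zeroLocus_span]
  obtain ⟨ys, hys, hlen, hfl⟩ :=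
    (Groth.Agent.S5768.result R R [f] (by simpa using hfj)).mp h1'
  have hlen' : ys.length = d - 1 := by
    rw [hsd] at hlen
    have : ([f] ++ ys).length = d := by exact_mod_cast hlen
    simp at this
    omega
  let g : Fin (d - 1) → R := fun j => ys.get (j.cast hlen'.symm)
  have hrange : Set.range g = {y | y ∈ ys} := by
    ext y
    constructor
    · rintro ⟨j, rfl⟩
      exact List.get_mem _ _
    · intro hy
      obtain ⟨n, hn⟩ := List.get_of_mem hy
      exact ⟨n.cast hlen', by simpa [g] using hn⟩
  have hgm : ∀ i, g i ∈ m := fun i => hjac ▸ hys _ (List.get_mem _ _)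
  set I := Ideal.span (insert f (Set.range g)) with hI
  have hIeq : I = Ideal.ofList ([f] ++ ys) := by
    rw [hI, Ideal.span_insert, Ideal.ofList_append, Ideal.ofList_singleton, hrange]
  have hIm : I ≤ m := by
    rw [hI, Ideal.span_le]
    intro z hz
    rcases hz with rfl | ⟨j, rfl⟩
    · exact hf
    · exact hgm j
  have hdim0 : Module.supportDim R (R ⧸ (I • (⊤ : Submodule R R))) ≤ 0 := by
    rw [hIeq]
    exact Groth.Agent.S5768.supportDim_le_zero_of_isFiniteLength _ hfl
  have hrad : m ≤ I.radical := by
    rw [Ideal.radical_eq_sInf]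
    refine le_sInf fun P hP => ?_
    obtain ⟨hIP, hPprime⟩ := hP
    have hPm : P ≤ m := IsLocalRing.le_maximalIdeal hPprime.ne_top
    by_contra hmP
    have hlt : P < m := lt_of_le_of_ne hPm (fun h => hmP (h ▸ le_rfl))
    let P' : Module.support R (R ⧸ (I • (⊤ : Submodule R R))) :=
      ⟨⟨P, hPprime⟩, (Groth.Agent.S5808.mem_support_quot_iff I _).mpr hIP⟩
    let m' : Module.support R (R ⧸ (I • (⊤ : Submodule R R))) :=
      ⟨⟨m, inferInstance⟩, (Groth.Agent.S5808.mem_support_quot_iff I _).mpr hIm⟩
    have hlt' : P' < m' := hlt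
    have : (1 : WithBot ℕ∞) ≤ Module.supportDim R (R ⧸ (I • (⊤ : Submodule R R))) :=
      Order.one_le_krullDim_iff.mpr ⟨P', m', hlt'⟩
    have h01 : (1 : WithBot ℕ∞) ≤ 0 := this.trans hdim0
    exact absurd h01 (by decide)
  obtain ⟨k, hk⟩ := Ideal.exists_pow_le_of_le_radical_of_fg_radical hrad
    (IsNoetherian.noetherian _)
  refine ⟨g, k + 1, hgm, hrad, ?_⟩
  intro h hh
  have hhI : h ∈ m * I := by
    rw [pow_succ'] at hh
    exact Ideal.mul_mono_right hk hh
  have hhI' : h ∈ I := Ideal.mul_le_left (I := I) (J := m) (Ideal.mul_comm m I ▸ hhI)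
  set I' := Ideal.span (insert (f + h) (Set.range g)) with hI'
  have hfI : f ∈ I := Ideal.subset_span (Set.mem_insert _ _)
  have hle1 : I' ≤ I := by
    rw [hI', Ideal.span_le]
    intro z hz
    rcases hz with rfl | hz
    · exact I.add_mem hfI hhI'
    · exact Ideal.subset_span (Set.mem_insert_of_mem _ hz)
  have hle2 : I ≤ I' := by
    refine Submodule.le_of_le_smul_of_le_jacobson_bot (I := m) (IsNoetherian.noetherian _)
      (by rw [Ideal.jacobson_bot, hjac]) ?_
    have hsub : insert f (Set.range g) ⊆ ((I' ⊔ m • I : Ideal R) : Set R) := by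
      intro z hz
      rcases hz with hzf | hz
      · have : z = (f + h) - h := by rw [hzf]; ring
        rw [this]
        exact Submodule.sub_mem _
          (Submodule.mem_sup_left (Ideal.subset_span (Set.mem_insert _ _)))
          (Submodule.mem_sup_right hhI)
      · exact Submodule.mem_sup_left (Ideal.subset_span (Set.mem_insert_of_mem _ hz))
    exact Ideal.span_le.mpr hsub
  have heq : I' = I := le_antisymm hle1 hle2
  rw [heq]
  exact ⟨hrad, rfl⟩

end Groth.Agent.S7116
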