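import Groth.Statements.S7119
import Mathlib
import Groth.Agent.Lib.Helper12.SqFreeC

set_option autoImplicit false
universe u
open CAlg

namespace Groth.Agent.S7119

/-- Let R be a Noetherian normal local domain of Krull dimension 2 and let p_1, ..., p_r be finitely
many prime ideals of height one. Then there is a nonzero element f lying in all the p_i such that
R/fR is reduced. -/
theorem result (R : Type u) [CommRing R] [IsDomain R]
    [IsNoetherianRing R] [IsLocalRing R] [IsIntegrallyClosed R] (hdim : ringKrullDim R = 2)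
    (s : Finset (Ideal R)) (hs : ∀ p ∈ s, p.IsPrime ∧ p.height = 1) :
    ∃ f : R, f ≠ 0 ∧ (∀ p ∈ s, f ∈ p) ∧ IsReduced (R ⧸ Ideal.span {f}) := by
  classical
  have hmht : (IsLocalRing.maximalIdeal R).height = 2 := by
    have h1 := IsLocalRing.maximalIdeal_height_eq_ringKrullDim (R := R)
    rw [hdim] at h1
    have h2 : ((IsLocalRing.maximalIdeal R).height : WithBot ℕ∞) = ((2 : ℕ∞) : WithBot ℕ∞) := h1
    exact WithBot.coe_injective h2
  have hI : (∏ p ∈ s, p) * IsLocalRing.maximalIdeal R ≠ ⊥ := by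
    rw [← Ideal.zero_eq_bot]
    refine mul_ne_zero (Finset.prod_ne_zero_iff.2 fun p hp => ?_) ?_
    · rw [Ideal.zero_eq_bot]
      intro h0
      have hht := (hs p hp).2
      rw [h0] at hht
      have h2 : (⊥ : Ideal R).height = 0 := by
        rw [Ideal.height_eq_zero_iff_eq_bot]
      rw [h2] at hht
      exact absurd hht (by decide)
    · rw [Ideal.zero_eq_bot]
      intro h0
      rw [h0] at hmht
      have h2 : (⊥ : Ideal R).height = 0 := by
        rw [Ideal.height_eq_zero_iff_eq_bot]
      rw [h2] at hmht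
      exact absurd hmht (by decide)
  obtain ⟨f₀, hf₀I, hf₀⟩ := Submodule.exists_mem_ne_zero_of_ne_bot hI
  have hf₀m : f₀ ∈ IsLocalRing.maximalIdeal R := Ideal.mul_le_right hf₀I
  have hf₀p : ∀ p ∈ s, f₀ ∈ p := by
    intro p hp
    have h1 : (∏ p ∈ s, p) ≤ p := Ideal.le_of_dvd (Finset.dvd_prod_of_mem _ hp)
    exact h1 (Ideal.mul_le_left hf₀I)
  obtain ⟨f, hfrad, hf0, hred⟩ :=
    Groth.Agent.Lib.Helper12.SqFree.exists_reduced_in_radical R hdim f₀ hf₀ hf₀m
  refine ⟨f, hf0, fun p hp => ?_, hred⟩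
  haveI := (hs p hp).1
  have h1 : (Ideal.span {f₀}).radical ≤ p := by
    rw [Ideal.IsPrime.radical_le_iff (hs p hp).1, Ideal.span_singleton_le_iff_mem]
    exact hf₀p p hp
  exact h1 hfrad

end Groth.Agent.S7119
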