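import Groth.Statements.S7120
-- import your own Groth.Agent.* helpers here
import Groth.Agent.Lib.Helper23.BezoutFree

set_option autoImplicit false
universe u
open CAlg

namespace Groth.Agent.S7120

/-- Over a Bézout domain, a finitely generated submodule of a free module is itself free of finite rank. -/
theorem result (R : Type u) [CommRing R] [IsDomain R] [IsBezout R]
    (F : Type u) [AddCommGroup F] [Module R F] [Module.Free R F] (N : Submodule R F) (hN : N.FG) :
    Module.Free R N ∧ Module.Finite R N := by
  classical
  let b := Module.Free.chooseBasis R F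
  obtain ⟨S, hS⟩ := hN
  let s : Finset (Module.Free.ChooseBasisIndex R F) := S.biUnion fun x => (b.repr x).support
  have hsupp : ∀ x ∈ N, ∀ i ∉ s, b.repr x i = 0 := by
    intro x hx
    rw [← hS] at hx
    induction hx using Submodule.span_induction with
    | mem x hx =>
      intro i hi
      by_contra hne
      apply hi
      simp only [s, Finset.mem_biUnion]
      exact ⟨x, hx, Finsupp.mem_support_iff.mpr hne⟩
    | zero => intro i _; simp
    | add x y _ _ hx hy => intro i hi; rw [map_add, Finsupp.add_apply, hx i hi, hy i hi, add_zero]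
    | smul c x _ hx => intro i hi; rw [map_smul, Finsupp.smul_apply, hx i hi, smul_zero]
  let j0 : N →ₗ[R] (s → R) :=
    LinearMap.pi fun i : s => (Finsupp.lapply i.1) ∘ₗ b.repr.toLinearMap ∘ₗ N.subtype
  have hj0 : ∀ (x : N) (i : s), j0 x i = b.repr x.1 i.1 := fun x i => rfl
  have hj0inj : Function.Injective j0 := by
    rw [← LinearMap.ker_eq_bot, LinearMap.ker_eq_bot']
    intro x hx
    apply Subtype.ext
    apply b.repr.injective
    rw [ZeroMemClass.coe_zero, map_zero]
    ext i
    by_cases hi : i ∈ s
    · have := congrFun hx ⟨i, hi⟩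
      rw [hj0] at this
      simpa using this
    · simpa using hsupp x.1 x.2 i hi
  let e : (s → R) ≃ₗ[R] (Fin (Fintype.card s) → R) :=
    LinearEquiv.funCongrLeft R R (Fintype.equivFin s).symm
  haveI : Module.Finite R N := Module.Finite.iff_fg.mpr ⟨S, hS⟩
  obtain ⟨r, ⟨eN⟩⟩ := Helper23.Bez.free_of_injective R (Fintype.card s) N (e.toLinearMap ∘ₗ j0)
    (e.injective.comp hj0inj)
  exact ⟨Module.Free.of_equiv eN.symm, inferInstance⟩

end Groth.Agent.S7120
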