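import Groth.Statements.S7121
-- import your own Groth.Agent.* helpers here
import Groth.Agent.Lib.Helper23.BezoutFree

set_option autoImplicit false
universe u
open CAlg

namespace Groth.Agent.S7121

/-- Over a Bézout domain R, a finitely presented module M splits as R^r ⊕ M_tors for some r, and its
torsion part M_tors is a retract (direct summand) of R/f_1R ⊕ … ⊕ R/f_nR for some nonzero f_1, …,
f_n. -/
theorem result (R : Type u) [CommRing R] [IsDomain R] [IsBezout R]
    (M : Type u) [AddCommGroup M] [Module R M] [Module.FinitePresentation R M] :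
    (∃ r : ℕ, Nonempty (M ≃ₗ[R] ((Fin r → R) × Submodule.torsion R M))) ∧
      ∃ (n : ℕ) (f : Fin n → R), (∀ j, f j ≠ 0) ∧
        ∃ (i : Submodule.torsion R M →ₗ[R] ((j : Fin n) → R ⧸ Ideal.span {f j}))
          (p : ((j : Fin n) → R ⧸ Ideal.span {f j}) →ₗ[R] Submodule.torsion R M),
          p ∘ₗ i = LinearMap.id := by
  classical
  obtain ⟨n, f, N, _, _, ⟨e⟩⟩ := Helper23.Cyc.exists_summand_decomp
    (fun m _ => Helper23.Bez.dvd_total_localization R m) M
  let f' : Fin n → R := fun i => if f i = 0 then 1 else f i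
  have hf' : ∀ i, f' i ≠ 0 := by
    intro i
    simp only [f']
    split_ifs with h
    · exact one_ne_zero
    · exact h
  have hf'eq : ∀ i, f i ≠ 0 → f' i = f i := by
    intro i h
    simp only [f', if_neg h]
  let r0 : R := ∏ i, f' i
  have hr0 : r0 ≠ 0 := Finset.prod_ne_zero_iff.mpr (fun i _ => hf' i)
  have hr0dvd : ∀ i, f' i ∣ r0 := fun i => Finset.dvd_prod_of_mem f' (Finset.mem_univ i)
  let P := (i : Fin n) → R ⧸ Ideal.span {f i}
  let ι : M →ₗ[R] P := e.toLinearMap ∘ₗ LinearMap.inl R M N
  have hι : Function.Injective ι := e.injective.comp LinearMap.inl_injective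
  let κ : P →ₗ[R] M := LinearMap.fst R M N ∘ₗ e.symm.toLinearMap
  have hκι : ∀ m, κ (ι m) = m := by
    intro m
    simp [κ, ι]
  -- killing by r0
  have hkill : ∀ x : P, (∀ i, f i = 0 → x i = 0) → r0 • x = 0 := by
    intro x hx
    funext i
    rw [Pi.smul_apply, Pi.zero_apply]
    by_cases hi : f i = 0
    · rw [hx i hi, smul_zero]
    · obtain ⟨t, ht⟩ := Submodule.Quotient.mk_surjective _ (x i)
      rw [← ht, ← Submodule.Quotient.mk_smul, Submodule.Quotient.mk_eq_zero]
      obtain ⟨c, hc⟩ := hr0dvd i
      rw [hf'eq i hi] at hc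
      rw [smul_eq_mul, hc]
      exact Ideal.mem_span_singleton.mpr ⟨c * t, by ring⟩
  have hzero : ∀ (x : P) (c : R), c ≠ 0 → c • x = 0 → ∀ i, f i = 0 → x i = 0 := by
    intro x c hc hcx i hi
    have h1 : c • x i = 0 := congrFun hcx i
    obtain ⟨t, ht⟩ := Submodule.Quotient.mk_surjective _ (x i)
    rw [← ht, ← Submodule.Quotient.mk_smul, Submodule.Quotient.mk_eq_zero, hi] at h1
    have h2 : c * t = 0 := by simpa using h1
    have h3 : t = 0 := (mul_eq_zero.mp h2).resolve_left hc
    rw [← ht, h3, Submodule.Quotient.mk_zero]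
  have hT : ∀ m : M, m ∈ Submodule.torsion R M ↔ ∀ i, f i = 0 → ι m i = 0 := by
    intro m
    constructor
    · intro hm
      rw [Submodule.mem_torsion_iff] at hm
      obtain ⟨c, hcm⟩ := hm
      have hc0 : (c : R) ≠ 0 := nonZeroDivisors.ne_zero c.2
      apply hzero (ι m) c hc0
      rw [← map_smul]
      have : (c : R) • m = 0 := hcm
      rw [this, map_zero]
    · intro hm
      rw [Submodule.mem_torsion_iff]
      refine ⟨⟨r0, mem_nonZeroDivisors_of_ne_zero hr0⟩, ?_⟩
      change r0 • m = 0
      apply hι
      rw [map_smul, map_zero]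
      exact hkill _ hm
  refine ⟨?_, ?_⟩
  · -- free part
    let a : Fin n → R := fun i => if f i = 0 then 1 else 0
    have ha : ∀ i, Ideal.span {f i} ≤ LinearMap.ker (a i • (LinearMap.id : R →ₗ[R] R)) := by
      intro i
      rw [Ideal.span_le, Set.singleton_subset_iff]
      change (a i • (LinearMap.id : R →ₗ[R] R)) (f i) = 0
      simp only [a, LinearMap.smul_apply, LinearMap.id_apply, smul_eq_mul]
      split_ifs with h
      · rw [h, mul_zero]
      · rw [zero_mul]
    let c : ∀ i, (R ⧸ Ideal.span {f i}) →ₗ[R] R := fun i =>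
      (Ideal.span {f i} : Submodule R R).liftQ (a i • LinearMap.id) (ha i)
    have hc : ∀ i (t : R), c i (Submodule.Quotient.mk t) = a i * t := by
      intro i t
      simp only [c, Submodule.liftQ_apply, LinearMap.smul_apply, LinearMap.id_apply, smul_eq_mul]
    let g : M →ₗ[R] (Fin n → R) := LinearMap.pi fun i => c i ∘ₗ LinearMap.proj i ∘ₗ ι
    have hg : ∀ m i, g m i = c i (ι m i) := fun m i => rfl
    have hker : LinearMap.ker g = Submodule.torsion R M := by
      ext m
      rw [LinearMap.mem_ker, hT]
      constructor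
      · intro hm i hi
        have h1 : c i (ι m i) = 0 := by rw [← hg, hm]; rfl
        obtain ⟨t, ht⟩ := Submodule.Quotient.mk_surjective _ (ι m i)
        rw [← ht, hc] at h1
        simp only [a, if_pos hi, one_mul] at h1
        rw [← ht, h1, Submodule.Quotient.mk_zero]
      · intro hm
        funext i
        rw [hg, Pi.zero_apply]
        by_cases hi : f i = 0
        · rw [hm i hi, map_zero]
        · obtain ⟨t, ht⟩ := Submodule.Quotient.mk_surjective _ (ι m i)
          rw [← ht, hc]
          simp only [a, if_neg hi, zero_mul]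
    let F := M ⧸ Submodule.torsion R M
    let gF : F →ₗ[R] (Fin n → R) := (Submodule.torsion R M).liftQ g (le_of_eq hker.symm)
    have hgF : Function.Injective gF := by
      rw [← LinearMap.ker_eq_bot]
      exact Submodule.ker_liftQ_eq_bot _ _ _ (le_of_eq hker)
    obtain ⟨r, ⟨eF⟩⟩ := Helper23.Bez.free_of_injective R n F gF hgF
    -- section of the quotient map
    let q : M →ₗ[R] (Fin r → R) := eF.toLinearMap ∘ₗ (Submodule.torsion R M).mkQ
    have hq : Function.Surjective q := eF.surjective.comp (Submodule.mkQ_surjective _)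
    obtain ⟨s, hs⟩ := Module.projective_lifting_property q LinearMap.id hq
    have hqs : ∀ v, q (s v) = v := fun v => LinearMap.congr_fun hs v
    have hqker : ∀ m, q m = 0 ↔ m ∈ Submodule.torsion R M := by
      intro m
      simp only [q, LinearMap.comp_apply, LinearEquiv.coe_coe,
        LinearEquiv.map_eq_zero_iff]
      rw [Submodule.mkQ_apply, Submodule.Quotient.mk_eq_zero]
    let Φ : ((Fin r → R) × Submodule.torsion R M) →ₗ[R] M :=
      LinearMap.coprod s (Submodule.torsion R M).subtype
    have hΦ : Function.Bijective Φ := by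
      constructor
      · rw [← LinearMap.ker_eq_bot, LinearMap.ker_eq_bot']
        rintro ⟨v, t⟩ h
        have h' : s v + t.1 = 0 := by simpa [Φ] using h
        have ht : q t.1 = 0 := (hqker _).mpr t.2
        have hv : v = 0 := by
          have := congrArg q h'
          rwa [map_add, hqs, ht, add_zero, map_zero] at this
        have ht0 : t = 0 := by
          apply Subtype.ext
          rw [hv, map_zero, zero_add] at h'
          exact h'
        rw [hv, ht0]; rfl
      · intro m
        have hm : m - s (q m) ∈ Submodule.torsion R M := by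
          rw [← hqker, map_sub, hqs, sub_self]
        refine ⟨(q m, ⟨m - s (q m), hm⟩), ?_⟩
        simp [Φ]
    exact ⟨r, ⟨(LinearEquiv.ofBijective Φ hΦ).symm⟩⟩
  · -- torsion part
    refine ⟨n, f', hf', ?_⟩
    let P' := (i : Fin n) → R ⧸ Ideal.span {f' i}
    have hle : ∀ i, Ideal.span {f i} ≤ Ideal.span {f' i} := by
      intro i
      rw [Ideal.span_le, Set.singleton_subset_iff]
      by_cases hi : f i = 0
      · rw [hi]; exact Submodule.zero_mem _
      · rw [hf'eq i hi]; exact Ideal.mem_span_singleton_self _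
    let u : ∀ i, (R ⧸ Ideal.span {f i}) →ₗ[R] (R ⧸ Ideal.span {f' i}) := fun i =>
      (Ideal.span {f i} : Submodule R R).mapQ (Ideal.span {f' i}) LinearMap.id (hle i)
    have hu : ∀ i (t : R), u i (Submodule.Quotient.mk t) = Submodule.Quotient.mk t := by
      intro i t
      simp only [u, Submodule.mapQ_apply, LinearMap.id_apply]
    let b : Fin n → R := fun i => if f i = 0 then 0 else 1
    have hb : ∀ i, Ideal.span {f' i} ≤
        LinearMap.ker (b i • (Ideal.span {f i} : Submodule R R).mkQ) := by
      intro i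
      rw [Ideal.span_le, Set.singleton_subset_iff]
      change (b i • (Ideal.span {f i} : Submodule R R).mkQ) (f' i) = 0
      rw [LinearMap.smul_apply, Submodule.mkQ_apply]
      by_cases hi : f i = 0
      · simp only [b, if_pos hi, zero_smul]
      · simp only [b, if_neg hi, one_smul]
        rw [hf'eq i hi, Submodule.Quotient.mk_eq_zero]
        exact Ideal.mem_span_singleton_self _
    let v : ∀ i, (R ⧸ Ideal.span {f' i}) →ₗ[R] (R ⧸ Ideal.span {f i}) := fun i =>
      (Ideal.span {f' i} : Submodule R R).liftQ (b i • (Ideal.span {f i} : Submodule R R).mkQ) (hb i)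
    have hv : ∀ i (t : R), v i (Submodule.Quotient.mk t) = b i • Submodule.Quotient.mk t := by
      intro i t
      simp only [v, Submodule.liftQ_apply, LinearMap.smul_apply, Submodule.mkQ_apply]
    let U : P →ₗ[R] P' := LinearMap.pi fun i => u i ∘ₗ LinearMap.proj i
    let V : P' →ₗ[R] P := LinearMap.pi fun i => v i ∘ₗ LinearMap.proj i
    have hVU : ∀ x : P, (∀ i, f i = 0 → x i = 0) → V (U x) = x := by
      intro x hx
      funext i
      change v i (u i (x i)) = x i
      by_cases hi : f i = 0
      · rw [hx i hi, map_zero, map_zero]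
      · obtain ⟨t, ht⟩ := Submodule.Quotient.mk_surjective _ (x i)
        rw [← ht, hu, hv]
        simp only [b, if_neg hi, one_smul]
    have hP' : ∀ y : P', r0 • y = 0 := by
      intro y
      funext i
      rw [Pi.smul_apply, Pi.zero_apply]
      obtain ⟨t, ht⟩ := Submodule.Quotient.mk_surjective _ (y i)
      rw [← ht, ← Submodule.Quotient.mk_smul, Submodule.Quotient.mk_eq_zero]
      obtain ⟨c, hc⟩ := hr0dvd i
      rw [smul_eq_mul, hc]
      exact Ideal.mem_span_singleton.mpr ⟨c * t, by ring⟩
    let i₀ : Submodule.torsion R M →ₗ[R] P' := U ∘ₗ ι ∘ₗ (Submodule.torsion R M).subtype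
    have hp₀ : ∀ y : P', κ (V y) ∈ Submodule.torsion R M := by
      intro y
      rw [Submodule.mem_torsion_iff]
      refine ⟨⟨r0, mem_nonZeroDivisors_of_ne_zero hr0⟩, ?_⟩
      change r0 • κ (V y) = 0
      rw [← map_smul, ← map_smul, hP', map_zero, map_zero]
    let p₀ : P' →ₗ[R] Submodule.torsion R M :=
      LinearMap.codRestrict (Submodule.torsion R M) (κ ∘ₗ V) hp₀
    refine ⟨i₀, p₀, ?_⟩
    ext ⟨m, hm⟩
    change κ (V (U (ι m))) = m
    rw [hVU _ ((hT m).mp hm), hκι]

end Groth.Agent.S7121
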