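import Groth.Statements.S7123
-- import your own Groth.Agent.* helpers here
import Groth.Agent.Lib.Helper23.CycDecomp

set_option autoImplicit false
universe u
open CAlg

namespace Groth.Agent.S7123

open DirectSum in
/-- For a module P over a ring R these two conditions are equivalent: (1) P is a retract (direct
summand) of a direct sum of cyclic modules R/fR, f ranging over R; (2) for every surjection of
R-modules π : B → C whose kernel A satisfies fA = A ∩ fB for every f in R, each linear map P → C
lifts through π. -/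
theorem result (R : Type u) [CommRing R] (P : Type u)
    [AddCommGroup P] [Module R P] :
    (∃ (ι : Type u) (f : ι → R) (i : P →ₗ[R] (⨁ j, R ⧸ Ideal.span {f j}))
        (p : (⨁ j, R ⧸ Ideal.span {f j}) →ₗ[R] P), p ∘ₗ i = LinearMap.id) ↔
      ∀ (B C : Type u) [AddCommGroup B] [Module R B] [AddCommGroup C] [Module R C] (π : B →ₗ[R] C),
        Function.Surjective π →
        (∀ (f : R) (b : B), π (f • b) = 0 → ∃ a : B, π a = 0 ∧ f • a = f • b) →
        ∀ ψ : P →ₗ[R] C, ∃ φ : P →ₗ[R] B, π ∘ₗ φ = ψ := by
  classical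
  constructor
  · rintro ⟨ι, f, i, p, hpi⟩ B C _ _ _ _ π hπ hRD ψ
    have hex : ∀ j, ∃ b : B,
        π b = ψ (p (DirectSum.lof R ι (fun j => R ⧸ Ideal.span {f j}) j
          (Submodule.Quotient.mk 1))) ∧ f j • b = 0 := by
      intro j
      set c := ψ (p (DirectSum.lof R ι (fun j => R ⧸ Ideal.span {f j}) j
          (Submodule.Quotient.mk 1))) with hc
      obtain ⟨b, hb⟩ := hπ c
      have hfc : f j • c = 0 := by
        rw [hc, ← map_smul, ← map_smul, ← map_smul, ← Submodule.Quotient.mk_smul, smul_eq_mul,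
          mul_one, (Submodule.Quotient.mk_eq_zero _).mpr (Ideal.mem_span_singleton_self _),
          map_zero, map_zero, map_zero]
      obtain ⟨a, ha0, ha⟩ := hRD (f j) b (by rw [map_smul, hb, hfc])
      exact ⟨b - a, by rw [map_sub, ha0, sub_zero, hb], by rw [smul_sub, ha, sub_self]⟩
    choose b hb1 hb2 using hex
    have hle : ∀ j, (Ideal.span {f j} : Submodule R R) ≤
        LinearMap.ker (LinearMap.toSpanSingleton R B (b j)) := by
      intro j
      rw [Ideal.span_le, Set.singleton_subset_iff]
      change LinearMap.toSpanSingleton R B (b j) (f j) = 0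
      rw [LinearMap.toSpanSingleton_apply, hb2]
    let g : ∀ j, (R ⧸ Ideal.span {f j}) →ₗ[R] B := fun j =>
      (Ideal.span {f j} : Submodule R R).liftQ (LinearMap.toSpanSingleton R B (b j)) (hle j)
    let Φ : (DirectSum ι fun j => R ⧸ Ideal.span {f j}) →ₗ[R] B := DirectSum.toModule R ι B g
    refine ⟨Φ ∘ₗ i, ?_⟩
    have hΦ : π ∘ₗ Φ = ψ ∘ₗ p := by
      apply DirectSum.linearMap_ext
      intro j
      apply LinearMap.ext
      intro y
      obtain ⟨t, rfl⟩ := Submodule.Quotient.mk_surjective _ y
      simp only [LinearMap.comp_apply, Φ, DirectSum.toModule_lof, g, Submodule.liftQ_apply,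
        LinearMap.toSpanSingleton_apply]
      rw [map_smul, hb1]
      rw [← map_smul, ← map_smul, ← map_smul, ← Submodule.Quotient.mk_smul, smul_eq_mul, mul_one]
    rw [← LinearMap.comp_assoc, hΦ, LinearMap.comp_assoc, hpi, LinearMap.comp_id]
  · intro h
    let ι := {xf : P × R // xf.2 • xf.1 = 0}
    let f : ι → R := fun j => j.1.2
    have hle : ∀ j : ι, (Ideal.span {f j} : Submodule R R) ≤
        LinearMap.ker (LinearMap.toSpanSingleton R P j.1.1) := by
      intro j
      rw [Ideal.span_le, Set.singleton_subset_iff]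
      change LinearMap.toSpanSingleton R P j.1.1 (f j) = 0
      rw [LinearMap.toSpanSingleton_apply]
      exact j.2
    let g : ∀ j : ι, (R ⧸ Ideal.span {f j}) →ₗ[R] P := fun j =>
      (Ideal.span {f j} : Submodule R R).liftQ (LinearMap.toSpanSingleton R P j.1.1) (hle j)
    let π : (DirectSum ι fun j => R ⧸ Ideal.span {f j}) →ₗ[R] P := DirectSum.toModule R ι P g
    have hπe : ∀ j : ι, π (DirectSum.lof R ι (fun j => R ⧸ Ideal.span {f j}) j
        (Submodule.Quotient.mk 1)) = j.1.1 := by
      intro j
      simp only [π, DirectSum.toModule_lof, g, Submodule.liftQ_apply,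
        LinearMap.toSpanSingleton_apply, one_smul]
    have hsurj : Function.Surjective π := by
      intro x
      exact ⟨DirectSum.lof R ι (fun j => R ⧸ Ideal.span {f j}) ⟨(x, 0), zero_smul R x⟩
        (Submodule.Quotient.mk 1), hπe _⟩
    have hRD : ∀ (r : R) (b : DirectSum ι fun j => R ⧸ Ideal.span {f j}),
        π (r • b) = 0 → ∃ a, π a = 0 ∧ r • a = r • b := by
      intro r b hb
      let j : ι := ⟨(π b, r), by rw [← map_smul]; exact hb⟩
      refine ⟨b - DirectSum.lof R ι (fun j => R ⧸ Ideal.span {f j}) j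
        (Submodule.Quotient.mk 1), by rw [map_sub, hπe, sub_self], ?_⟩
      have hz : (Submodule.Quotient.mk (r • (1 : R)) : R ⧸ Ideal.span {f j}) = 0 := by
        rw [Submodule.Quotient.mk_eq_zero, smul_eq_mul, mul_one]
        exact Ideal.mem_span_singleton_self _
      rw [smul_sub, ← map_smul, ← Submodule.Quotient.mk_smul, hz, map_zero, sub_zero]
    obtain ⟨φ, hφ⟩ := h _ P π hsurj hRD LinearMap.id
    exact ⟨ι, f, φ, π, hφ⟩

end Groth.Agent.S7123
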