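import Groth.Statements.S7125
import Mathlib
import Groth.Agent.Lib.Helper12.WUnrC

set_option autoImplicit false
universe u
open CAlg

namespace Groth.Agent.S7125

/-- Let A and B be Noetherian local normal domains and A → B a flat homomorphism that is local, and let
f in A, h in B, n > 1 and a unit w of B satisfy f = w·hⁿ in B. Assume that for every height-one
prime p of A there is a height-one prime q of B lying over p such that A_p ⊆ B_q is weakly
unramified, i.e. p generates the maximal ideal of B_q. Then f = u·gⁿ for some g in A and some unit u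
of A. -/
theorem result (A B : Type u) [CommRing A] [IsDomain A]
    [IsNoetherianRing A] [IsLocalRing A] [IsIntegrallyClosed A] [CommRing B] [IsDomain B] [IsNoetherianRing B]
    [IsLocalRing B] [IsIntegrallyClosed B] [Algebra A B] [IsLocalHom (algebraMap A B)] [Module.Flat A B]
    (f : A) (h : B) (n : ℕ) (hn : 1 < n) (w : Bˣ) (hf : algebraMap A B f = (w : B) * h ^ n)
    (hram : ∀ (p : Ideal A) [p.IsPrime], p.height = 1 →
      ∃ (q : Ideal B) (_ : q.IsPrime), q.height = 1 ∧ q.comap (algebraMap A B) = p ∧
        Ideal.map (algebraMap B (Localization.AtPrime q)) (Ideal.map (algebraMap A B) p) =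
          IsLocalRing.maximalIdeal (Localization.AtPrime q)) :
    ∃ (g : A) (u : Aˣ), f = (u : A) * g ^ n := by
  classical
  by_cases hf0 : f = 0
  · exact ⟨0, 1, by rw [hf0, zero_pow (by omega), mul_zero]⟩
  haveI : Module.FaithfullyFlat A B := Module.FaithfullyFlat.of_flat_of_isLocalHom
  have hinjAB : Function.Injective (algebraMap A B) := FaithfulSMul.algebraMap_injective A B
  have hh0 : h ≠ 0 := by
    rintro rfl
    rw [zero_pow (by omega), mul_zero, map_eq_zero_iff _ hinjAB] at hf
    exact hf0 hf
  have hmem := Groth.Agent.Lib.Helper12.WUnr.mem_map_comap A B f h n hn w hf hinjAB hf0 hram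
  have hex : ∃ a ∈ (Ideal.span {h}).comap (algebraMap A B), ∃ b : B, IsUnit b ∧
      algebraMap A B a = h * b := by
    by_contra hcon
    push Not at hcon
    have hle : ((Ideal.span {h}).comap (algebraMap A B)).map (algebraMap A B) ≤
        Ideal.span {h} * IsLocalRing.maximalIdeal B := by
      rw [Ideal.map_le_iff_le_comap]
      intro a ha
      obtain ⟨b, hb⟩ := Ideal.mem_span_singleton'.mp ha
      rw [Ideal.mem_comap, Ideal.mem_span_singleton_mul]
      refine ⟨b, ?_, by rw [mul_comm, hb]⟩
      rw [IsLocalRing.mem_maximalIdeal, mem_nonunits_iff]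
      intro hbu
      exact hcon a ha b hbu (by rw [← hb, mul_comm])
    obtain ⟨m, hm, hhm⟩ := Ideal.mem_span_singleton_mul.mp (hle hmem)
    have h0 : h * (1 - m) = 0 := by linear_combination -hhm
    rcases mul_eq_zero.mp h0 with h1 | h1
    · exact hh0 h1
    · have hu : IsUnit (1 - m) := by
        rcases IsLocalRing.isUnit_or_isUnit_one_sub_self m with h2 | h2
        · exact absurd h2 ((IsLocalRing.mem_maximalIdeal _).mp hm)
        · exact h2
      rw [h1] at hu
      exact not_isUnit_zero hu
  obtain ⟨g, hgI, b, hb, hgb⟩ := hex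
  obtain ⟨bu, rfl⟩ := hb
  have hbb : (bu : B) * ↑bu⁻¹ = 1 := Units.mul_inv bu
  have hww : (w : B) * ↑w⁻¹ = 1 := Units.mul_inv w
  have h1 : f ∈ (Ideal.span {g ^ n} : Ideal A) := by
    rw [← Ideal.comap_map_eq_self_of_faithfullyFlat (B := B) (Ideal.span {g ^ n}), Ideal.mem_comap,
      Ideal.map_span, Set.image_singleton, Ideal.mem_span_singleton, map_pow, hgb, hf]
    refine ⟨w * (↑bu⁻¹) ^ n, ?_⟩
    have : ((bu : B) * ↑bu⁻¹) ^ n = 1 := by rw [hbb, one_pow]
    rw [mul_pow] at this
    linear_combination (-(w : B) * h ^ n) * this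
  have h2 : g ^ n ∈ (Ideal.span {f} : Ideal A) := by
    rw [← Ideal.comap_map_eq_self_of_faithfullyFlat (B := B) (Ideal.span {f}), Ideal.mem_comap,
      Ideal.map_span, Set.image_singleton, Ideal.mem_span_singleton, map_pow, hgb, hf]
    refine ⟨↑w⁻¹ * (bu : B) ^ n, ?_⟩
    linear_combination (-(h ^ n) * (bu : B) ^ n) * hww + (h * ↑bu) ^ n - h ^ n * (bu : B) ^ n
  obtain ⟨u, hu⟩ := Ideal.mem_span_singleton'.mp h1
  obtain ⟨u', hu'⟩ := Ideal.mem_span_singleton'.mp h2
  have huu : u * u' = 1 := by
    have h3 : f * (u * u' - 1) = 0 := by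
      have : u * (u' * f) = f := by rw [hu', hu]
      linear_combination this
    rcases mul_eq_zero.mp h3 with h4 | h4
    · exact absurd h4 hf0
    · exact sub_eq_zero.mp h4
  exact ⟨g, ⟨u, u', huu, by rw [mul_comm]; exact huu⟩, hu.symm⟩

end Groth.Agent.S7125
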