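import Groth.Statements.S7127
import Mathlib
import Groth.Agent.S7126
-- import your own Groth.Agent.* helpers here

set_option autoImplicit false
universe u
open EtAlg

namespace Groth.Agent.S7127

theorem flat_of_surjective_comp {R R' S : Type u} [CommRing R] [CommRing R'] [CommRing S]
    (φ : R →+* R') (hφ : Function.Surjective φ) (g : R' →+* S) (h : (g.comp φ).Flat) :
    g.Flat := by
  unfold RingHom.Flat at h ⊢
  letI algR' : Algebra R' S := g.toAlgebra
  letI algR : Algebra R S := (g.comp φ).toAlgebra
  have hflat : Module.Flat R S := h
  rw [Module.Flat.iff_forall_isTrivialRelation]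
  intro l f x hrel
  choose r hr using fun i => hφ (f i)
  obtain ⟨k', a, y, hxy, hfa⟩ := (Module.Flat.iff_forall_isTrivialRelation
    (R := R) (M := S)).mp hflat (l := l) (f := r) (x := x) (by
      have : ∀ i, r i • x i = f i • x i := by
        intro i
        change g (φ (r i)) * x i = g (f i) * x i
        rw [hr i]
      rw [Finset.sum_congr rfl fun i _ => this i]
      exact hrel)
  refine ⟨k', fun i j => φ (a i j), y, ?_, ?_⟩
  · intro i
    rw [hxy i]
    rfl
  · intro j
    have := congrArg φ (hfa j)
    rw [map_sum, map_zero] at this
    rw [← this]
    refine Finset.sum_congr rfl fun i _ => ?_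
    rw [map_mul, hr i]

/-- Let A be a ring and B → C an A-algebra homomorphism between weakly étale A-algebras. Then C is
weakly étale over B. -/
theorem result (A B C : Type u) [CommRing A] [CommRing B] [CommRing C]
    [Algebra A B] [Algebra A C] [Algebra B C] [IsScalarTower A B C] [Algebra.WeaklyEtale A B]
    [Algebra.WeaklyEtale A C] : Algebra.WeaklyEtale B C := by
  refine ⟨?_, ?_⟩
  · exact Groth.Agent.S7126.result A B (Algebra.WeaklyEtale.flat_lmul' A B) C
  · have key : RingHom.Flat (((Algebra.TensorProduct.lmul' B (S := C)).toRingHom).comp
        ((Algebra.TensorProduct.mapOfCompatibleSMul B A A C C).toRingHom)) := by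
      have hcomp : ((Algebra.TensorProduct.lmul' B (S := C)).toRingHom).comp
          ((Algebra.TensorProduct.mapOfCompatibleSMul B A A C C).toRingHom) =
          (Algebra.TensorProduct.lmul' A (S := C)).toRingHom := by
        refine RingHom.ext fun x => ?_
        induction x using TensorProduct.induction_on with
        | zero => simp
        | tmul c c' => simp
        | add x y hx hy => rw [map_add, map_add, hx, hy]
      rw [hcomp]
      exact Algebra.WeaklyEtale.flat_lmul' A C
    exact flat_of_surjective_comp
      ((Algebra.TensorProduct.mapOfCompatibleSMul B A A C C).toRingHom)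
      (Algebra.TensorProduct.mapOfCompatibleSMul_surjective B A A C C) _ key

end Groth.Agent.S7127
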