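import Groth.Statements.S7131
import Mathlib
import Groth.Agent.S7126
import Groth.Agent.Lib.Helper21.TorClass
import Groth.Agent.Lib.Helper8.TorBal6

set_option autoImplicit false
universe u
open EtAlg

namespace Groth.Agent.S7131

open CategoryTheory CategoryTheory.Limits
open Groth.Agent.Lib.Helper21 Groth.Agent.Lib.Helper21.TorClass Groth.Agent.Lib.Helper21.TorLES
  Groth.Agent.Lib.Helper21.TorShift

section general

variable (R : Type u) [CommRing R]

/-- tor dimension `≤ d`, in `IsZero` form. -/
def TD (d : ℕ) (M : Type u) [AddCommGroup M] [Module R M] : Prop :=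
  ∀ (X : Type u) [AddCommGroup X] [Module R X] (p : ℕ), d < p →
    IsZero (((Tor (ModuleCat.{u} R) p).obj (ModuleCat.of R M)).obj (ModuleCat.of R X))

lemma TD_iff (d : ℕ) (M : Type u) [AddCommGroup M] [Module R M] :
    TD R d M ↔ DRing.HasTorDimLE R d M := by
  constructor
  · intro h X _ _ p hp
    exact ModuleCat.subsingleton_of_isZero (h X p hp)
  · intro h X _ _ p hp
    have := h X p hp
    exact ModuleCat.isZero_of_subsingleton _

lemma flat_of_TD_zero (M : Type u) [AddCommGroup M] [Module R M] (h : TD R 0 M) :
    Module.Flat R M := by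
  have hall : ∀ (T : Type u) [AddCommGroup T] [Module R T],
      IsZero (((Tor (ModuleCat.{u} R) 1).obj (ModuleCat.of R T)).obj (ModuleCat.of R M)) := by
    intro T _ _
    obtain ⟨e⟩ := Groth.Agent.Lib.Helper8.TorBal6.main R 1
    exact IsZero.of_iso (h T 1 Nat.one_pos)
      ((e.app (ModuleCat.of R T)).app (ModuleCat.of R M))
  rw [Module.Flat.iff_rTensor_preserves_injective_linearMap'.{u, u, u}]
  intro N N' _ _ _ _ φ hφ
  have hS := shortExact_of φ (LinearMap.range φ).mkQ hφ (LinearMap.exact_map_mkQ_range φ)
    (Submodule.mkQ_surjective _)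
  exact (isZero_tor_one_iff_of_isZero _ _ _ hS (ModuleCat.of R M) (hall N')).1
    (hall (N' ⧸ LinearMap.range φ))

lemma TD_zero_of_flat (M : Type u) [AddCommGroup M] [Module R M] [Module.Flat R M] :
    TD R 0 M := by
  intro X _ _ p hp
  haveI : Module.Flat R (ModuleCat.of R M) := inferInstanceAs (Module.Flat R M)
  exact isZero_tor_of_flat_left _ _ p hp

variable {R}
variable {K F N : Type u} [AddCommGroup K] [Module R K] [AddCommGroup F] [Module R F]
  [AddCommGroup N] [Module R N] (i : K →ₗ[R] F) (q : F →ₗ[R] N)
  (hi : Function.Injective i) (hex : Function.Exact i q) (hq : Function.Surjective q)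

include hi hex hq in
lemma TD_shift_down [Module.Flat R F] (d : ℕ) (h : TD R (d + 1) N) : TD R d K := by
  intro X _ _ p hp
  obtain ⟨n, rfl⟩ : ∃ n, p = n + 1 := ⟨p - 1, by omega⟩
  have hS := shortExact_of i q hi hex hq
  haveI : Module.Flat R (ModuleCat.of R F) := inferInstanceAs (Module.Flat R F)
  exact IsZero.of_iso (h X (n + 2) (by omega))
    (torFirstShiftIso _ _ _ hS (ModuleCat.of R X) n).symm

include hi hex hq in
lemma TD_shift_up [Module.Flat R F] (d : ℕ) (h : TD R d K) : TD R (d + 1) N := by
  intro X _ _ p hp
  obtain ⟨n, rfl⟩ : ∃ n, p = n + 2 := ⟨p - 2, by omega⟩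
  have hS := shortExact_of i q hi hex hq
  haveI : Module.Flat R (ModuleCat.of R F) := inferInstanceAs (Module.Flat R F)
  exact IsZero.of_iso (h X (n + 1) (by omega))
    (torFirstShiftIso _ _ _ hS (ModuleCat.of R X) n)

end general

section main

variable (A B : Type u) [CommRing A] [CommRing B] [Algebra A B] [Algebra.WeaklyEtale A B]

theorem main : ∀ (d : ℕ) (N : Type u) [AddCommGroup N] [Module B N] [Module A N]
    [IsScalarTower A B N], TD A d N → TD B d N := by
  intro d
  induction d with
  | zero =>
    intro N _ _ _ _ h
    haveI := flat_of_TD_zero A N h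
    haveI : Module.Flat B N :=
      Groth.Agent.S7126.result A B (Algebra.WeaklyEtale.flat_lmul' A B) N
    exact TD_zero_of_flat B N
  | succ d ih =>
    intro N _ _ _ _ h
    let q : (N →₀ B) →ₗ[B] N := Finsupp.linearCombination B id
    have hq : Function.Surjective q := Finsupp.linearCombination_id_surjective B N
    let K : Submodule B (N →₀ B) := LinearMap.ker q
    have hex : Function.Exact K.subtype q := LinearMap.exact_subtype_ker_map q
    haveI : Module.Flat A (N →₀ B) := Module.Flat.trans A B (N →₀ B)
    have hK : TD A d K :=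
      TD_shift_down (K.subtype.restrictScalars A) (q.restrictScalars A) Subtype.val_injective
        hex hq d h
    have hK' : TD B d K := ih K hK
    exact TD_shift_up K.subtype q Subtype.val_injective hex hq d hK'

end main


/-- Suppose A → B is weakly étale and every A-module has tor dimension at most d. Then every B-module
has tor dimension at most d over B (weak dimension at most d ascends along weakly étale maps). -/
theorem result (A B : Type u) [CommRing A] [CommRing B] [Algebra A B]
    [Algebra.WeaklyEtale A B] (d : ℕ)
    (hA : ∀ (M : Type u) [AddCommGroup M] [Module A M], DRing.HasTorDimLE A d M)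
    (N : Type u) [AddCommGroup N] [Module B N] : DRing.HasTorDimLE B d N := by
  letI : Module A N := Module.compHom N (algebraMap A B)
  haveI : IsScalarTower A B N := IsScalarTower.of_algebraMap_smul (fun r x => rfl)
  rw [← TD_iff]
  exact main A B d N ((TD_iff A d N).2 (hA N))

end Groth.Agent.S7131
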