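import Groth.Statements.S7132
import Mathlib

set_option autoImplicit false
universe u
open EtAlg

namespace Groth.Agent.S7132



section Helpers
open IsLocalRing

variable {A B K L : Type u} [CommRing A] [IsDomain A]
    [IsDiscreteValuationRing A] [CommRing B] [IsDomain B] [IsDiscreteValuationRing B] [Algebra A B]
    [IsLocalHom (algebraMap A B)]
    [Field K] [Field L] [Algebra A K] [IsFractionRing A K] [Algebra B L] [IsFractionRing B L]
    [Algebra K L] [Algebra A L] [IsScalarTower A K L] [IsScalarTower A B L]

theorem key (ϖ : B) (hϖ : Irreducible ϖ) (e : ℕ)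
    (hmap : ∀ a ∈ maximalIdeal A, ϖ ^ e ∣ algebraMap A B a)
    {ι : Type} [Fintype ι] [DecidableEq ι] (b : ι → B)
    (hb : LinearIndependent (ResidueField A) (fun i => residue B (b i))) :
    LinearIndependent K (fun x : ι × Fin e => algebraMap B L (b x.1 * ϖ ^ (x.2 : ℕ))) := by
  classical
  rw [linearIndependent_iff']
  intro s g hsum x0 hx0
  by_contra hgx0
  obtain ⟨a, hint, x1, hx1s, hx1⟩ :=
    Ideal.exist_integer_multiples_notMem (A := A) (K := K) (J := maximalIdeal A)
      (Ideal.IsPrime.ne_top inferInstance) s g hx0 hgx0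
  choose! c hc using hint
  let c' : ι × Fin e → A := fun x => if x ∈ s then c x else 0
  have hc' : ∀ x ∈ s, algebraMap A K (c' x) = a * g x := fun x hx => by
    simp only [c', if_pos hx]; exact hc x hx
  have hc'0 : ∀ x, x ∉ s → c' x = 0 := fun x hx => by simp only [c', if_neg hx]
  have hx1' : c' x1 ∉ maximalIdeal A := by
    intro hmem
    apply hx1
    rw [FractionalIdeal.mem_coeIdeal]
    exact ⟨c' x1, hmem, hc' x1 hx1s⟩
  -- relation in B
  have hrelL : ∑ x, algebraMap B L (algebraMap A B (c' x) * (b x.1 * ϖ ^ (x.2 : ℕ))) = 0 := by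
    rw [← Finset.sum_subset (Finset.subset_univ s)]
    · have h1 := congrArg (fun y => a • y) hsum
      simp only [Finset.smul_sum, smul_zero, smul_smul] at h1
      rw [← h1]
      refine Finset.sum_congr rfl fun x hx => ?_
      rw [map_mul, ← IsScalarTower.algebraMap_apply A B L, IsScalarTower.algebraMap_apply A K L,
        hc' x hx, Algebra.smul_def]
    · intro x _ hx
      rw [hc'0 x hx, map_zero, zero_mul, map_zero]
  have hrelB : ∑ x, algebraMap A B (c' x) * (b x.1 * ϖ ^ (x.2 : ℕ)) = 0 := by
    apply IsFractionRing.injective B L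
    rw [map_sum, map_zero]; exact hrelL
  let S : Fin e → B := fun j => ∑ i, algebraMap A B (c' (i, j)) * b i
  have hT : ∑ j, S j * ϖ ^ (j : ℕ) = 0 := by
    rw [← hrelB, Fintype.sum_prod_type, Finset.sum_comm]
    refine Finset.sum_congr rfl fun j _ => ?_
    rw [Finset.sum_mul]
    refine Finset.sum_congr rfl fun i _ => ?_
    ring
  -- F2
  have hF2 : ∀ j, ϖ ∣ S j → ∀ i, c' (i, j) ∈ maximalIdeal A := by
    intro j hj i
    have hres : residue B (S j) = 0 := by
      rw [residue_eq_zero_iff, hϖ.maximalIdeal_eq, Ideal.mem_span_singleton]; exact hj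
    have hsum' : ∑ i, residue A (c' (i, j)) • residue B (b i) = 0 := by
      rw [← hres, map_sum]
      refine Finset.sum_congr rfl fun i _ => ?_
      rw [map_mul, Algebra.smul_def, ResidueField.algebraMap_residue]
    have := Fintype.linearIndependent_iff.mp hb (fun i => residue A (c' (i, j))) hsum' i
    exact (residue_eq_zero_iff _).mp this
  -- induction
  have hall : ∀ (n : ℕ) (j : Fin e), (j : ℕ) = n → ∀ i, c' (i, j) ∈ maximalIdeal A := by
    intro n
    induction n using Nat.strong_induction_on with
    | _ n ih =>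
      intro j hjn
      apply hF2 j
      have hdvd : ϖ ^ ((j : ℕ) + 1) ∣ S j * ϖ ^ (j : ℕ) := by
        have h1 : S j * ϖ ^ (j : ℕ) = - ∑ j' ∈ Finset.univ.erase j, S j' * ϖ ^ (j' : ℕ) := by
          rw [eq_neg_iff_add_eq_zero,
            Finset.add_sum_erase Finset.univ (fun j' : Fin e => S j' * ϖ ^ (j' : ℕ)) (Finset.mem_univ j)]
          exact hT
        rw [h1]
        refine (dvd_neg).mpr (Finset.dvd_sum fun j' hj' => ?_)
        have hne : j' ≠ j := Finset.ne_of_mem_erase hj'
        rcases lt_or_gt_of_ne (fun h => hne (Fin.ext h) : (j' : ℕ) ≠ (j : ℕ)) with hlt | hgt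
        · have hSj' : ϖ ^ e ∣ S j' := by
            refine Finset.dvd_sum fun i _ => ?_
            exact Dvd.dvd.mul_right (hmap _ (ih (j' : ℕ) (by omega) j' rfl i)) _
          exact Dvd.dvd.mul_right ((pow_dvd_pow ϖ (by have := j.2; omega)).trans hSj') _
        · exact Dvd.dvd.mul_left (pow_dvd_pow ϖ (by omega)) _
      rw [pow_succ, mul_comm (S j)] at hdvd
      exact (mul_dvd_mul_iff_left (pow_ne_zero _ hϖ.ne_zero)).mp hdvd
  exact hx1' (hall _ x1.2 rfl x1.1)

end Helpers

/-- For an injective local homomorphism A → B of discrete valuation rings whose fraction fields K ⊆ L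
form a finite extension, the residue field of B is finite over that of A, and the ramification index
e times the residue degree f is at most [L : K]. -/
theorem result (A B K L : Type u) [CommRing A] [IsDomain A]
    [IsDiscreteValuationRing A] [CommRing B] [IsDomain B] [IsDiscreteValuationRing B] [Algebra A B]
    (hinj : Function.Injective (algebraMap A B)) [IsLocalHom (algebraMap A B)]
    [Field K] [Field L] [Algebra A K] [IsFractionRing A K] [Algebra B L] [IsFractionRing B L]
    [Algebra K L] [Algebra A L] [IsScalarTower A K L] [IsScalarTower A B L] [FiniteDimensional K L] :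
    Module.Finite (IsLocalRing.ResidueField A) (IsLocalRing.ResidueField B) ∧
      Ideal.ramificationIdx' (IsLocalRing.maximalIdeal A) (IsLocalRing.maximalIdeal B) *
          Module.finrank (IsLocalRing.ResidueField A) (IsLocalRing.ResidueField B) ≤
        Module.finrank K L := by
  classical
  obtain ⟨π, hπ⟩ := IsDiscreteValuationRing.exists_irreducible A
  obtain ⟨ϖ, hϖ⟩ := IsDiscreteValuationRing.exists_irreducible B
  set φ := algebraMap A B with hφ
  have hφπ : φ π ≠ 0 := fun h => hπ.ne_zero (hinj (by rw [h, map_zero]))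
  obtain ⟨e, u, hu⟩ := IsDiscreteValuationRing.eq_unit_mul_pow_irreducible hφπ hϖ
  have hram : Ideal.ramificationIdx' (IsLocalRing.maximalIdeal A) (IsLocalRing.maximalIdeal B) = e := by
    have hmap : Ideal.map φ (IsLocalRing.maximalIdeal A) = Ideal.span {ϖ ^ e} := by
      rw [hπ.maximalIdeal_eq, Ideal.map_span, Set.image_singleton, hu]
      exact Ideal.span_singleton_eq_span_singleton.mpr
        (associated_unit_mul_left _ _ u.isUnit)
    apply Ideal.ramificationIdx'_spec
    · rw [hmap, hϖ.maximalIdeal_eq, Ideal.span_singleton_pow]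
    · rw [hmap, hϖ.maximalIdeal_eq, Ideal.span_singleton_pow, Ideal.span_singleton_le_span_singleton,
        pow_dvd_pow_iff hϖ.ne_zero hϖ.not_isUnit]
      omega
  have he : 1 ≤ e := by
    by_contra h
    have h0 : e = 0 := by omega
    rw [h0, pow_zero, mul_one] at hu
    have : IsUnit (φ π) := hu ▸ u.isUnit
    exact hπ.not_isUnit (isUnit_of_map_unit φ π this)
  have hmapdvd : ∀ a ∈ IsLocalRing.maximalIdeal A, ϖ ^ e ∣ algebraMap A B a := by
    intro a ha
    rw [hπ.maximalIdeal_eq, Ideal.mem_span_singleton] at ha
    obtain ⟨a', rfl⟩ := ha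
    rw [map_mul]
    refine Dvd.dvd.mul_right ?_ _
    show ϖ ^ e ∣ φ π
    rw [hu]
    exact Dvd.intro_left _ rfl
  have hbound : ∀ (ι : Type) [Fintype ι] [DecidableEq ι] (v : ι → IsLocalRing.ResidueField B),
      LinearIndependent (IsLocalRing.ResidueField A) v → Fintype.card ι * e ≤ Module.finrank K L := by
    intro ι _ _ v hv
    have hsurj : ∀ i, ∃ b : B, IsLocalRing.residue B b = v i :=
      fun i => IsLocalRing.residue_surjective (v i)
    choose b hb using hsurj
    have hv' : LinearIndependent (IsLocalRing.ResidueField A) (fun i => IsLocalRing.residue B (b i)) := by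
      simpa only [hb] using hv
    have := (key (K := K) (L := L) ϖ hϖ e hmapdvd b hv').fintype_card_le_finrank
    simpa using this
  have hrank : Module.rank (IsLocalRing.ResidueField A) (IsLocalRing.ResidueField B)
      ≤ (Module.finrank K L : ℕ) := by
    apply rank_le
    intro s hs
    have h1 := hbound (Fin s.card) (fun i => ((s.equivFin.symm i : s) : IsLocalRing.ResidueField B))
      (hs.comp _ s.equivFin.symm.injective)
    rw [Fintype.card_fin] at h1
    nlinarith
  have hfin : Module.Finite (IsLocalRing.ResidueField A) (IsLocalRing.ResidueField B) := by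
    rw [← Module.rank_lt_aleph0_iff]
    exact lt_of_le_of_lt hrank Cardinal.natCast_lt_aleph0
  refine ⟨hfin, ?_⟩
  rw [hram]
  have hbasis := Module.finBasis (IsLocalRing.ResidueField A) (IsLocalRing.ResidueField B)
  have h2 := hbound (Fin (Module.finrank (IsLocalRing.ResidueField A) (IsLocalRing.ResidueField B)))
    hbasis hbasis.linearIndependent
  rw [Fintype.card_fin] at h2
  rw [mul_comm]; exact h2

end Groth.Agent.S7132
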