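import Groth.Statements.S7133
import Mathlib

set_option autoImplicit false
universe u
open EtAlg

namespace Groth.Agent.S7133




/-- For an injective local homomorphism A → B of discrete valuation rings whose fields of fractions are
K ⊆ L: if K has characteristic p > 0 and L/K is purely inseparable, then the ramification index of B
over A is a power of p. -/
theorem result (A B K L : Type u) [CommRing A] [IsDomain A]
    [IsDiscreteValuationRing A] [CommRing B] [IsDomain B] [IsDiscreteValuationRing B] [Algebra A B]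
    (hinj : Function.Injective (algebraMap A B)) [IsLocalHom (algebraMap A B)]
    [Field K] [Field L] [Algebra A K] [IsFractionRing A K] [Algebra B L] [IsFractionRing B L]
    [Algebra K L] [Algebra A L] [IsScalarTower A K L] [IsScalarTower A B L]
    (p : ℕ) (hp : p.Prime) [CharP K p] [IsPurelyInseparable K L] :
    ∃ k : ℕ, Ideal.ramificationIdx' (IsLocalRing.maximalIdeal A) (IsLocalRing.maximalIdeal B) =
      p ^ k := by
  classical
  obtain ⟨π, hπ⟩ := IsDiscreteValuationRing.exists_irreducible A
  obtain ⟨ϖ, hϖ⟩ := IsDiscreteValuationRing.exists_irreducible B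
  set φ := algebraMap A B with hφ
  have hφπ : φ π ≠ 0 := fun h => hπ.ne_zero (hinj (by rw [h, map_zero]))
  obtain ⟨e, u, hu⟩ := IsDiscreteValuationRing.eq_unit_mul_pow_irreducible hφπ hϖ
  -- ramification index = e
  have hram : Ideal.ramificationIdx' (IsLocalRing.maximalIdeal A) (IsLocalRing.maximalIdeal B) = e := by
    have hmap : Ideal.map φ (IsLocalRing.maximalIdeal A) = Ideal.span {ϖ ^ e} := by
      rw [hπ.maximalIdeal_eq, Ideal.map_span, Set.image_singleton, hu]
      exact Ideal.span_singleton_eq_span_singleton.mpr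
        (associated_unit_mul_left _ _ u.isUnit)
    apply Ideal.ramificationIdx'_spec
    · rw [hmap, hϖ.maximalIdeal_eq, Ideal.span_singleton_pow]
    · rw [hmap, hϖ.maximalIdeal_eq, Ideal.span_singleton_pow, Ideal.span_singleton_le_span_singleton,
        pow_dvd_pow_iff hϖ.ne_zero hϖ.not_isUnit]
      omega
  -- pure inseparability
  have : ExpChar K p := ExpChar.prime hp
  obtain ⟨n, x, hx⟩ := IsPurelyInseparable.pow_mem K p (algebraMap B L ϖ)
  obtain ⟨a, s, hs, hxas⟩ := IsFractionRing.div_surjective (A := A) x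
  have hs0 : s ≠ 0 := nonZeroDivisors.ne_zero hs
  have hsK : algebraMap A K s ≠ 0 := by
    rw [Ne, IsFractionRing.to_map_eq_zero_iff]; exact hs0
  have hϖL : algebraMap B L ϖ ≠ 0 := by
    rw [Ne, IsFractionRing.to_map_eq_zero_iff]; exact hϖ.ne_zero
  have hx0 : x ≠ 0 := by
    rintro rfl
    rw [map_zero] at hx
    exact pow_ne_zero _ hϖL hx.symm
  have ha0 : a ≠ 0 := by
    rintro rfl
    rw [map_zero, zero_div] at hxas
    exact hx0 hxas.symm
  have hKeq : algebraMap A K a = x * algebraMap A K s := by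
    rw [← hxas, div_mul_cancel₀ _ hsK]
  have hLeq : algebraMap B L (φ a) = algebraMap B L (ϖ ^ (p ^ n) * φ s) := by
    rw [map_mul, map_pow, ← hx, hφ, ← IsScalarTower.algebraMap_apply A B L,
      ← IsScalarTower.algebraMap_apply A B L, IsScalarTower.algebraMap_apply A K L,
      IsScalarTower.algebraMap_apply A K L s, hKeq, map_mul]
  have hBeq : φ a = ϖ ^ (p ^ n) * φ s := IsFractionRing.injective B L hLeq
  obtain ⟨i, ua, hua⟩ := IsDiscreteValuationRing.eq_unit_mul_pow_irreducible ha0 hπ
  obtain ⟨j, us, hus⟩ := IsDiscreteValuationRing.eq_unit_mul_pow_irreducible hs0 hπ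
  have h1 : φ a = ((Units.map φ.toMonoidHom ua * u ^ i : Bˣ) : B) * ϖ ^ (e * i) := by
    rw [hua, map_mul, map_pow, hu, mul_pow, ← pow_mul]
    simp only [Units.val_mul, Units.val_pow_eq_pow_val, Units.coe_map, RingHom.toMonoidHom_eq_coe,
      MonoidHom.coe_coe]
    ring
  have h2 : ϖ ^ (p ^ n) * φ s = ((Units.map φ.toMonoidHom us * u ^ j : Bˣ) : B) * ϖ ^ (p ^ n + e * j) := by
    rw [hus, map_mul, map_pow, hu, mul_pow, ← pow_mul, pow_add]
    simp only [Units.val_mul, Units.val_pow_eq_pow_val, Units.coe_map, RingHom.toMonoidHom_eq_coe,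
      MonoidHom.coe_coe]
    ring
  have h3 := IsDiscreteValuationRing.unit_mul_pow_congr_pow hϖ hϖ _ _ _ _ (h1.symm.trans (hBeq.trans h2))
  have hdvd : e ∣ p ^ n := by
    refine ⟨i - j, ?_⟩
    rw [Nat.mul_sub]
    omega
  obtain ⟨k, -, hk⟩ := (Nat.dvd_prime_pow hp).mp hdvd
  exact ⟨k, hram.trans hk⟩

end Groth.Agent.S7133
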