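import Groth.Statements.S7134
import Groth.Agent.Lib.Helper5.DvrSmooth
import Groth.Agent.Lib.helper19.RegularLocal

set_option autoImplicit false
universe u
open EtAlg

namespace Groth.Agent.S7134

/-- For an injective local homomorphism A → B of discrete valuation rings, A → B is formally smooth for
the adic topology of the maximal ideal of B if and only if A → B is weakly unramified and the
residue field of B is a separable (possibly transcendental, i.e. geometrically reduced) extension of
the residue field of A. -/
theorem result (A B : Type u) [CommRing A]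
    [IsDomain A] [IsDiscreteValuationRing A] [CommRing B] [IsDomain B] [IsDiscreteValuationRing B] [Algebra A B]
    (hinj : Function.Injective (algebraMap A B)) [IsLocalHom (algebraMap A B)] :
    CAlgX.IsAdicFormallySmooth A B (IsLocalRing.maximalIdeal B) ↔
      EtRam.IsWeaklyUnramified A B ∧
        Algebra.IsGeometricallyReduced (IsLocalRing.ResidueField A) (IsLocalRing.ResidueField B) := by
  have hle : (IsLocalRing.maximalIdeal A).map (algebraMap A B) ≤ IsLocalRing.maximalIdeal B :=
    ((IsLocalRing.local_hom_TFAE (algebraMap A B)).out 0 2).mp ‹IsLocalHom (algebraMap A B)›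
  constructor
  · intro h
    have hmap : (IsLocalRing.maximalIdeal A).map (algebraMap A B) = IsLocalRing.maximalIdeal B := by
      obtain ⟨hloc, hreg⟩ := Groth.Agent.Lib.Helper5.DvrSmooth.fibre_regular h
      have hdom : IsDomain (B ⧸ (IsLocalRing.maximalIdeal A).map (algebraMap A B)) :=
        Groth.Agent.Lib.helper19.isDomain_of_isRegularLocalRing _
      have hprime : ((IsLocalRing.maximalIdeal A).map (algebraMap A B)).IsPrime :=
        (Ideal.Quotient.isDomain_iff_prime _).mp hdom
      have hne : (IsLocalRing.maximalIdeal A).map (algebraMap A B) ≠ ⊥ := by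
        intro hbot
        obtain ⟨ϖ, hϖ⟩ := IsDiscreteValuationRing.exists_irreducible A
        have h1 : ϖ ∈ IsLocalRing.maximalIdeal A := by
          rw [IsLocalRing.mem_maximalIdeal, mem_nonunits_iff]
          exact hϖ.not_isUnit
        have h2 : algebraMap A B ϖ ∈ (IsLocalRing.maximalIdeal A).map (algebraMap A B) :=
          Ideal.mem_map_of_mem _ h1
        rw [hbot, Ideal.mem_bot] at h2
        have h3 : ϖ = 0 := hinj (by rw [h2, map_zero])
        exact hϖ.ne_zero h3
      have hmax : ((IsLocalRing.maximalIdeal A).map (algebraMap A B)).IsMaximal :=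
        hprime.isMaximal hne
      exact IsLocalRing.eq_maximalIdeal hmax
    exact ⟨hmap, Groth.Agent.Lib.Helper5.DvrSmooth.geomReduced_of_adicSmooth hmap h⟩
  · rintro ⟨hmap, hgr⟩
    have htf : Module.IsTorsionFree A B :=
      Module.isTorsionFree_iff_algebraMap_injective.mpr hinj
    have hflat : Module.Flat A B := inferInstance
    exact Groth.Agent.Lib.Helper5.DvrSmooth.adicSmooth_of_flat_of_map_eq hmap

end Groth.Agent.S7134
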