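import Groth.Statements.S7135
import Groth.Agent.Lib.Helper2.HomAR

set_option autoImplicit false
universe u
open CAlg

namespace Groth.Agent.S7135

/-- Let A be a Noetherian ring, I an ideal and M, N finite A-modules. If M/IⁿM and N/IⁿN are isomorphic
for every n, then the I-adic completions of M and N are isomorphic as modules over the I-adic
completion of A. -/
theorem result (A : Type u) [CommRing A] [IsNoetherianRing A] (I : Ideal A)
    (M N : Type u) [AddCommGroup M] [Module A M] [Module.Finite A M] [AddCommGroup N] [Module A N]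
    [Module.Finite A N]
    (h : ∀ n : ℕ, Nonempty ((M ⧸ (I ^ n • ⊤ : Submodule A M)) ≃ₗ[A] (N ⧸ (I ^ n • ⊤ : Submodule A N)))) :
    Nonempty (AdicCompletion I M ≃ₗ[AdicCompletion I A] AdicCompletion I N) := by
  obtain ⟨c, _, hE2⟩ := Groth.Agent.Lib.Helper2.HomAR.exists_const I M N
  obtain ⟨e⟩ := h (1 + c)
  let ψ : M →ₗ[A] N ⧸ (I ^ (1 + c) • ⊤ : Submodule A N) :=
    e.toLinearMap ∘ₗ (I ^ (1 + c) • ⊤ : Submodule A M).mkQ
  obtain ⟨φ, hφ⟩ := hE2 1 ψ
  have hsurj1 : Function.Surjective ((I • ⊤ : Submodule A N).mkQ ∘ₗ φ) := by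
    intro y
    obtain ⟨y, rfl⟩ := Submodule.Quotient.mk_surjective _ y
    obtain ⟨m, hm⟩ := Submodule.Quotient.mk_surjective _ (e.symm (Submodule.Quotient.mk y))
    refine ⟨m, ?_⟩
    have h1 : ψ m = Submodule.Quotient.mk y := by
      show e (Submodule.Quotient.mk m) = _
      rw [hm, LinearEquiv.apply_symm_apply]
    have h2 := hφ m y h1
    rw [pow_one] at h2
    rw [LinearMap.comp_apply, Submodule.mkQ_apply, Submodule.Quotient.eq]
    exact h2
  have hsurj : Function.Surjective (AdicCompletion.map I φ) :=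
    AdicCompletion.map_surjective_of_mkQ_comp_surjective hsurj1
  -- levelwise bijectivity
  have hlevel_surj : ∀ n, Function.Surjective (φ.reduceModIdeal (I ^ n)) := by
    intro n y
    obtain ⟨z, hz⟩ := AdicCompletion.eval_surjective I N n y
    obtain ⟨x, hx⟩ := hsurj z
    refine ⟨x.val n, ?_⟩
    rw [← AdicCompletion.map_val_apply, hx]
    exact hz
  have hlevel_inj : ∀ n, Function.Injective (φ.reduceModIdeal (I ^ n)) := by
    intro n
    obtain ⟨en⟩ := h n
    let g : (N ⧸ (I ^ n • ⊤ : Submodule A N)) →ₗ[A] (N ⧸ (I ^ n • ⊤ : Submodule A N)) :=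
      ((φ.reduceModIdeal (I ^ n)).restrictScalars A) ∘ₗ en.symm.toLinearMap
    have hg : Function.Surjective g := (hlevel_surj n).comp en.symm.surjective
    have hginj : Function.Injective g :=
      OrzechProperty.injective_of_surjective_endomorphism g hg
    intro x y hxy
    have : g (en x) = g (en y) := by
      show φ.reduceModIdeal (I ^ n) (en.symm (en x)) = φ.reduceModIdeal (I ^ n) (en.symm (en y))
      rw [LinearEquiv.symm_apply_apply, LinearEquiv.symm_apply_apply, hxy]
    exact en.injective (hginj this)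
  have hinj : Function.Injective (AdicCompletion.map I φ) := by
    rw [injective_iff_map_eq_zero]
    intro x hx
    apply AdicCompletion.ext
    intro n
    have h1 : φ.reduceModIdeal (I ^ n) (x.val n) = 0 := by
      rw [← AdicCompletion.map_val_apply, hx]
      rfl
    apply hlevel_inj n
    rw [h1, AdicCompletion.val_zero_apply, map_zero]
  exact ⟨LinearEquiv.ofBijective (AdicCompletion.map I φ) ⟨hinj, hsurj⟩⟩

end Groth.Agent.S7135
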