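import Groth.Statements.S7136
import Groth.Agent.Lib.Helper2.HomAR

set_option autoImplicit false
universe u
open CAlg

namespace Groth.Agent.S7136

/-- Let A be a Noetherian ring, I an ideal, and M, N finite A-modules; write N_n = N/IⁿN, so that
Hom_A(M/IⁿM, N_n) = Hom_A(M, N_n). Then (1) the inverse system (Hom_A(M, N_n))_n, with transition
maps induced by the projections N_k → N_n, is Mittag-Leffler; (2) there is c ≥ 0 such that for all n
the kernel and the cokernel of Hom_A(M, N)/IⁿHom_A(M, N) → Hom_A(M, N_n) are annihilated by I^c. -/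
theorem result (A : Type u) [CommRing A] [IsNoetherianRing A]
    (I : Ideal A) (M N : Type u) [AddCommGroup M] [Module A M] [Module.Finite A M] [AddCommGroup N] [Module A N]
    [Module.Finite A N] :
    let Nq : ℕ → Submodule A N := fun n => I ^ n • ⊤
    let pr : ∀ n k : ℕ, n ≤ k → (N ⧸ Nq k) →ₗ[A] (N ⧸ Nq n) :=
      fun n k hnk => Submodule.mapQ (Nq k) (Nq n) (LinearMap.id : N →ₗ[A] N) (Submodule.smul_mono_left (Ideal.pow_le_pow_right hnk))
    let red : ∀ n : ℕ, (M →ₗ[A] N) → (M →ₗ[A] N ⧸ Nq n) := fun n φ => (Nq n).mkQ ∘ₗ φ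
    (∀ n : ℕ, ∃ m : ℕ, n ≤ m ∧ ∀ (k : ℕ) (hmk : m ≤ k) (hnm : n ≤ m) (ψ : M →ₗ[A] N ⧸ Nq m),
        ∃ ψ' : M →ₗ[A] N ⧸ Nq k, pr n k (hnm.trans hmk) ∘ₗ ψ' = pr n m hnm ∘ₗ ψ) ∧
    ∃ c : ℕ, ∀ n : ℕ,
      (∀ φ : M →ₗ[A] N, red n φ = 0 → ∀ a ∈ I ^ c, a • φ ∈ (I ^ n • ⊤ : Submodule A (M →ₗ[A] N))) ∧
      (∀ (ψ : M →ₗ[A] N ⧸ Nq n), ∀ a ∈ I ^ c, ∃ φ : M →ₗ[A] N, red n φ = a • ψ) := by
  intro Nq pr red
  obtain ⟨c, hE1, hE2⟩ := Groth.Agent.Lib.Helper2.HomAR.exists_const I M N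
  have hpow : ∀ (d : ℕ) (P : Type u) [AddCommGroup P] [Module A P] (a : A) (_ : a ∈ I ^ c)
      (x : P) (_ : x ∈ I ^ d • (⊤ : Submodule A P)), a • x ∈ I ^ (d + c) • (⊤ : Submodule A P) := by
    intro d P _ _ a ha x hx
    have := Submodule.smul_mem_smul ha hx
    rwa [← Submodule.mul_smul, ← pow_add, add_comm] at this
  refine ⟨?_, c, fun n => ⟨?_, ?_⟩⟩
  · intro n
    refine ⟨n + c, by omega, ?_⟩
    intro k hmk hnm ψ
    obtain ⟨φ, hφ⟩ := hE2 n ψ
    refine ⟨(Nq k).mkQ ∘ₗ φ, ?_⟩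
    ext m
    obtain ⟨x₀, hx₀⟩ := Submodule.Quotient.mk_surjective _ (ψ m)
    simp only [LinearMap.comp_apply, Submodule.mkQ_apply, pr]
    rw [← hx₀, Submodule.mapQ_apply, Submodule.mapQ_apply, LinearMap.id_apply,
      LinearMap.id_apply, Submodule.Quotient.eq]
    exact hφ m x₀ hx₀.symm
  · intro φ hred a ha
    by_cases hn : n ≤ c
    · exact Submodule.smul_mem_smul (Ideal.pow_le_pow_right hn ha) Submodule.mem_top
    · obtain ⟨d, rfl⟩ : ∃ d, n = d + c := ⟨n - c, by omega⟩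
      have h1 : ∀ m, φ m ∈ I ^ (d + c) • (⊤ : Submodule A N) := by
        intro m
        have := LinearMap.congr_fun hred m
        simp only [red, LinearMap.comp_apply, Submodule.mkQ_apply, LinearMap.zero_apply] at this
        rwa [Submodule.Quotient.mk_eq_zero] at this
      exact hpow d (M →ₗ[A] N) a ha φ (hE1 d φ h1)
  · intro ψ a ha
    by_cases hn : n ≤ c
    · refine ⟨0, ?_⟩
      ext m
      obtain ⟨x₀, hx₀⟩ := Submodule.Quotient.mk_surjective _ (ψ m)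
      simp only [red, LinearMap.comp_apply, LinearMap.smul_apply]
      rw [LinearMap.zero_apply, map_zero, ← hx₀, ← Submodule.Quotient.mk_smul, eq_comm,
        Submodule.Quotient.mk_eq_zero]
      exact Submodule.smul_mem_smul (Ideal.pow_le_pow_right hn ha) Submodule.mem_top
    · obtain ⟨d, rfl⟩ : ∃ d, n = d + c := ⟨n - c, by omega⟩
      obtain ⟨φ₀, hφ₀⟩ := hE2 d ψ
      refine ⟨a • φ₀, ?_⟩
      ext m
      obtain ⟨x₀, hx₀⟩ := Submodule.Quotient.mk_surjective _ (ψ m)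
      simp only [red, LinearMap.comp_apply, Submodule.mkQ_apply, LinearMap.smul_apply]
      rw [← hx₀, ← Submodule.Quotient.mk_smul, Submodule.Quotient.eq, ← smul_sub]
      exact hpow d N a ha _ (hφ₀ m x₀ hx₀.symm)

end Groth.Agent.S7136
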