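import Groth.Statements.S7137
import Groth.Agent.Lib.helper11.PDQuotient
import Groth.Agent.Lib.helper11.ABFormula
import Groth.Agent.Lib.Helper21.DepthKit12
import Groth.Agent.Lib.helper19.RegularLocal

set_option autoImplicit false
universe u
open CategoryTheory
open CAlg

namespace Groth.Agent.S7137

/-- Take a Noetherian local ring R, an ideal I and a finite module E ≠ 0 over R/I. Suppose that R/I, as
an R-module, and E, as an R/I-module, both have finite projective dimension. Then E, as an R-module,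
has finite projective dimension too, and it equals pd_R(R/I) + pd_{R/I}(E). -/
theorem result (R : Type u) [CommRing R] [IsNoetherianRing R] [IsLocalRing R]
    (I : Ideal R) (E : Type u) [AddCommGroup E] [Module (R ⧸ I) E] [Module R E] [IsScalarTower R (R ⧸ I) E]
    [Module.Finite (R ⧸ I) E] [Nontrivial E]
    (h1 : projectiveDimension (ModuleCat.of R (R ⧸ I)) ≠ ⊤)
    (h2 : projectiveDimension (ModuleCat.of (R ⧸ I) E) ≠ ⊤) :
    projectiveDimension (ModuleCat.of R E) ≠ ⊤ ∧
      projectiveDimension (ModuleCat.of R E) =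
        projectiveDimension (ModuleCat.of R (R ⧸ I)) + projectiveDimension (ModuleCat.of (R ⧸ I) E) := by
  classical
  have hI : I ≠ ⊤ := by
    rintro rfl
    haveI : Subsingleton (R ⧸ (⊤ : Ideal R)) := Ideal.Quotient.subsingleton_iff.mpr rfl
    haveI : Subsingleton E := Module.subsingleton (R ⧸ (⊤ : Ideal R)) E
    exact not_subsingleton E inferInstance
  haveI : IsLocalRing (R ⧸ I) := Groth.Agent.Lib.helper19.isLocalRing_quotient I hI
  haveI : Nontrivial (R ⧸ I) := inferInstance
  haveI : Module.Finite R (R ⧸ I) := Module.Finite.of_surjective (Algebra.linearMap R (R ⧸ I))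
    Ideal.Quotient.mk_surjective
  haveI : Module.Finite R E := Module.Finite.trans (R ⧸ I) E
  have hs : Function.Surjective (algebraMap R (R ⧸ I)) := Ideal.Quotient.mk_surjective
  -- exact projective dimensions
  obtain ⟨e1, he1, he1'⟩ := Groth.Agent.Lib.helper11.PDQuotient.exists_exact_pd
    (ModuleCat.of R (R ⧸ I)) (fun hz => not_subsingleton (R ⧸ I)
      (ModuleCat.subsingleton_of_isZero hz)) ((projectiveDimension_ne_top_iff _).mp h1)
  obtain ⟨e2, he2, he2'⟩ := Groth.Agent.Lib.helper11.PDQuotient.exists_exact_pd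
    (ModuleCat.of (R ⧸ I) E) (fun hz => not_subsingleton E
      (ModuleCat.subsingleton_of_isZero hz)) ((projectiveDimension_ne_top_iff _).mp h2)
  have hfin : ∃ n, HasProjectiveDimensionLT (ModuleCat.of R E) (n + 1) :=
    ⟨e1 + e2, Groth.Agent.Lib.helper11.PDQuotient.hasProjectiveDimensionLT_restrictScalars
      e1 he1 e2 E he2⟩
  obtain ⟨e3, he3, he3'⟩ := Groth.Agent.Lib.helper11.PDQuotient.exists_exact_pd
    (ModuleCat.of R E) (fun hz => not_subsingleton E
      (ModuleCat.subsingleton_of_isZero hz)) hfin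
  -- Auslander–Buchsbaum, three times
  have hAB1 := Groth.Agent.Lib.helper11.ABFormula.depth_eq_add_depth (R ⧸ I) e1 he1 he1'
  have hAB2 := Groth.Agent.Lib.helper11.ABFormula.depth_eq_add_depth (R := R ⧸ I) E e2 he2 he2'
  have hAB3 := Groth.Agent.Lib.helper11.ABFormula.depth_eq_add_depth (R := R) E e3 he3 he3'
  have hd1 : LocCoh.depth R (R ⧸ I) = LocCoh.depth (R ⧸ I) (R ⧸ I) :=
    Groth.Agent.Lib.Helper21.DepthKit.depth_eq_of_surjective (R ⧸ I) hs
  have hd2 : LocCoh.depth R E = LocCoh.depth (R ⧸ I) E :=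
    Groth.Agent.Lib.Helper21.DepthKit.depth_eq_of_surjective E hs
  obtain ⟨dE, hdE⟩ := Groth.Agent.Lib.Helper21.DepthKit.exists_nat_depth (A := R ⧸ I) (M := E)
  rw [hd1, hAB2, hdE] at hAB1
  rw [hd2, hdE, hAB1] at hAB3
  have hnat : e1 + (e2 + dE) = e3 + dE := by exact_mod_cast hAB3
  have he : e3 = e1 + e2 := by omega
  rw [Groth.Agent.Lib.helper11.PDQuotient.projectiveDimension_eq_of_exact _ e3 he3 he3',
    Groth.Agent.Lib.helper11.PDQuotient.projectiveDimension_eq_of_exact _ e1 he1 he1',
    Groth.Agent.Lib.helper11.PDQuotient.projectiveDimension_eq_of_exact _ e2 he2 he2']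
  refine ⟨by
    intro h
    exact ENat.coe_ne_top e3 (WithBot.coe_injective h), ?_⟩
  rw [he]
  push_cast
  rfl

end Groth.Agent.S7137
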