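import Groth.Statements.S7141
-- import your own Groth.Agent.* helpers here
import Groth.Agent.Lib.helper10.WEField5

set_option autoImplicit false
universe u
open EtAlg

namespace Groth.Agent.S7141

/-- Let K be a field and, for a K-algebra A, let B_max(A) be its largest weakly étale K-subalgebra. (2)
For a K-subalgebra A' ⊆ A one has B_max(A') = B_max(A) ∩ A'. (4) The quotient map A → A_red =
A/nilradical restricts to a bijection B_max(A) → B_max(A_red). (6) If A ≠ 0 and its only idempotents
are 0 and 1, then B_max(A) is a field, algebraic and separable over K. (The published statement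
omits A ≠ 0; this row assumes it, since for A = 0 the largest weakly étale subalgebra is the zero
ring.) -/
theorem result (K : Type u) [Field K] (A : Type u) [CommRing A] [Algebra K A] :
    (∀ A' : Subalgebra K A,
      (EtAlgD.maxWeaklyEtale K A').map A'.val = EtAlgD.maxWeaklyEtale K A ⊓ A') ∧
    (Set.BijOn (Ideal.Quotient.mkₐ K (nilradical A)) (EtAlgD.maxWeaklyEtale K A)
      (EtAlgD.maxWeaklyEtale K (A ⧸ nilradical A))) ∧
    ((∀ e : A, IsIdempotentElem e → e = 0 ∨ e = 1) → Nontrivial A →
      IsField (EtAlgD.maxWeaklyEtale K A) ∧ Algebra.IsSeparable K (EtAlgD.maxWeaklyEtale K A)) := by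
  open Groth.Agent.Lib.helper10.WEField in
  refine ⟨fun A' => ?_, ⟨?_, ?_, ?_⟩, fun hconn hnt => ?_⟩
  · ext a
    rw [Subalgebra.mem_map, Algebra.mem_inf]
    constructor
    · rintro ⟨a', ha', rfl⟩
      refine ⟨?_, a'.2⟩
      rw [mem_maxWeaklyEtale_iff] at ha'
      exact mem_maxWeaklyEtale_iff.mpr ((isSepElem_coe_iff A' a').mpr ha')
    · rintro ⟨ha, ha'⟩
      refine ⟨⟨a, ha'⟩, ?_, rfl⟩
      rw [mem_maxWeaklyEtale_iff] at ha
      exact mem_maxWeaklyEtale_iff.mpr ((isSepElem_coe_iff A' ⟨a, ha'⟩).mp ha)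
  · intro a ha
    have ha' : IsSepElem K a := mem_maxWeaklyEtale_iff.mp ha
    exact mem_maxWeaklyEtale_iff.mpr (ha'.map (Ideal.Quotient.mkₐ K (nilradical A)))
  · intro a ha b hb hab
    have ha' : IsSepElem K a := mem_maxWeaklyEtale_iff.mp ha
    have hb' : IsSepElem K b := mem_maxWeaklyEtale_iff.mp hb
    have hsub : IsSepElem K (a - b) :=
      (mem_sepSubalgebra).mp (sub_mem (mem_sepSubalgebra.mpr ha') (mem_sepSubalgebra.mpr hb'))
    have hnil : IsNilpotent (a - b) := by
      rw [← mem_nilradical, ← Ideal.Quotient.eq]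
      exact hab
    exact sub_eq_zero.mp (hsub.eq_zero_of_isNilpotent hnil)
  · intro c hc
    have hc' : IsSepElem K c := mem_maxWeaklyEtale_iff.mp hc
    obtain ⟨a, ha, hac⟩ := hc'.exists_lift
    exact ⟨a, mem_maxWeaklyEtale_iff.mpr ha, hac⟩
  · have := hnt
    exact ⟨isField_maxWeaklyEtale_of_connected hconn, isSeparable_maxWeaklyEtale⟩

end Groth.Agent.S7141
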