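import Groth.Statements.S7145
-- import your own Groth.Agent.* helpers here
import Groth.Agent.Lib.helper10.FinSubCx

set_option autoImplicit false
universe u
open CategoryTheory CategoryTheory.Limits
open CAlg

namespace Groth.Agent.S7145

/-- Let R be a ring and F a cochain complex of free R-modules that is zero in all sufficiently large
degrees. Given finitely many elements f_i of F, f_i lying in degree n_i, there is a subcomplex G of
F (a map of complexes G → F injective in every degree) through which every f_i passes, such that G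
is zero outside a finite range of degrees and each term of G is a finitely generated free R-module. -/
theorem result (R : Type u) [CommRing R]
    (F : CochainComplex (ModuleCat.{u} R) ℤ) (hfree : ∀ n : ℤ, Module.Free R (F.X n))
    (b : ℤ) (hb : ∀ n : ℤ, b < n → IsZero (F.X n))
    (N : ℕ) (deg : Fin N → ℤ) (f : ∀ i : Fin N, F.X (deg i)) :
    ∃ (G : CochainComplex (ModuleCat.{u} R) ℤ) (ι : G ⟶ F),
      (∀ n : ℤ, Function.Injective (ι.f n)) ∧
      (∃ a c : ℤ, ∀ n : ℤ, (n < a ∨ c < n) → IsZero (G.X n)) ∧
      (∀ n : ℤ, Module.Finite R (G.X n) ∧ Module.Free R (G.X n)) ∧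
      ∀ i : Fin N, f i ∈ Set.range (ι.f (deg i)) := by
  classical
  let B : ∀ n : ℤ, Module.Basis (Module.Free.ChooseBasisIndex R (F.X n)) R (F.X n) := fun n =>
    haveI := hfree n
    Module.Free.chooseBasis R (F.X n)
  let a : ℤ := -(∑ i : Fin N, ((deg i).natAbs : ℤ))
  have ha : ∀ i, a ≤ deg i := by
    intro i
    have h1 : ((deg i).natAbs : ℤ) ≤ ∑ j : Fin N, ((deg j).natAbs : ℤ) :=
      Finset.single_le_sum (f := fun j : Fin N => ((deg j).natAbs : ℤ))
        (fun j _ => Int.natCast_nonneg _) (Finset.mem_univ i)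
    have h2 : -((deg i).natAbs : ℤ) ≤ deg i := by omega
    change -(∑ j : Fin N, ((deg j).natAbs : ℤ)) ≤ deg i
    omega
  refine ⟨Groth.Agent.Lib.helper10.FinSubCx.G F B deg f a,
    Groth.Agent.Lib.helper10.FinSubCx.ι F B deg f a,
    Groth.Agent.Lib.helper10.FinSubCx.ι_injective F B deg f a, ⟨a, b, ?_⟩,
    Groth.Agent.Lib.helper10.FinSubCx.finite_free F B deg f a, ?_⟩
  · rintro n (h | h)
    · exact Groth.Agent.Lib.helper10.FinSubCx.isZero_of_lt F B deg f a n h
    · exact Groth.Agent.Lib.helper10.FinSubCx.isZero_of_isZero F B deg f a n (hb n h)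
  · intro i
    exact ⟨⟨f i, Groth.Agent.Lib.helper10.FinSubCx.f_mem F B deg f a ha i⟩, rfl⟩

end Groth.Agent.S7145
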