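import Groth.Statements.S7147
import Mathlib

set_option autoImplicit false
universe u
open CAlg

namespace Groth.Agent.S7147

section helpers

variable {R : Type u} [CommRing R] {M : Type u} [AddCommGroup M] [Module R M] (x : Ideal R)

/-- the submodule of elements on which all linear forms take values in `x` -/
def B : Submodule R M where
  carrier := {m | ∀ φ : M →ₗ[R] R, φ m ∈ x}
  add_mem' ha hb φ := by rw [map_add]; exact x.add_mem (ha φ) (hb φ)
  zero_mem' φ := by rw [map_zero]; exact x.zero_mem
  smul_mem' c m hm φ := by rw [map_smul]; exact x.mul_mem_left c (hm φ)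

lemma mem_B (m : M) : m ∈ B (M := M) x ↔ ∀ φ : M →ₗ[R] R, φ m ∈ x := Iff.rfl

lemma smul_top_le_B : (x • ⊤ : Submodule R M) ≤ B x := by
  rw [Submodule.smul_le]
  intro a ha m _ φ
  rw [map_smul, smul_eq_mul]
  exact x.mul_mem_right _ ha

/-- `B(x)` inside `M/xM` -/
def Bx : Submodule (R ⧸ x) (M ⧸ (x • ⊤ : Submodule R M)) :=
  Submodule.span (R ⧸ x) ((x • ⊤ : Submodule R M).mkQ '' {m : M | ∀ φ : M →ₗ[R] R, φ m ∈ x})

lemma exists_of_mem_Bx (y : M ⧸ (x • ⊤ : Submodule R M)) (hy : y ∈ Bx (M := M) x) :
    ∃ m ∈ B (M := M) x, (x • ⊤ : Submodule R M).mkQ m = y := by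
  induction hy using Submodule.span_induction with
  | mem y hy =>
    obtain ⟨m, hm, rfl⟩ := hy
    exact ⟨m, hm, rfl⟩
  | zero => exact ⟨0, (B x).zero_mem, map_zero _⟩
  | add y z _ _ hy hz =>
    obtain ⟨m, hm, rfl⟩ := hy
    obtain ⟨m', hm', rfl⟩ := hz
    exact ⟨m + m', (B x).add_mem hm hm', map_add _ _ _⟩
  | smul c y _ hy =>
    obtain ⟨m, hm, rfl⟩ := hy
    obtain ⟨c, rfl⟩ := Ideal.Quotient.mk_surjective c
    exact ⟨c • m, (B x).smul_mem c hm, rfl⟩

lemma mkQ_mem_Bx_iff (m : M) : (x • ⊤ : Submodule R M).mkQ m ∈ Bx (M := M) x ↔ m ∈ B x := by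
  constructor
  · intro h
    obtain ⟨m', hm', hmm'⟩ := exists_of_mem_Bx x _ h
    have h1 : m' - m ∈ (x • ⊤ : Submodule R M) := by
      rw [← Submodule.Quotient.mk_eq_zero, Submodule.Quotient.mk_sub]
      exact sub_eq_zero.mpr hmm'
    have h2 := smul_top_le_B x h1
    have : m = m' - (m' - m) := by abel
    rw [this]
    exact (B x).sub_mem hm' h2
  · intro h
    exact Submodule.subset_span ⟨m, h, rfl⟩

variable {r : ℕ} (s : Fin r → M)

lemma sum_smul_eq (c : Fin r → R) :
    ∑ i, (Ideal.Quotient.mk x (c i)) • (Bx x).mkQ ((x • ⊤ : Submodule R M).mkQ (s i)) =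
      (Bx x).mkQ ((x • ⊤ : Submodule R M).mkQ (∑ i, c i • s i)) := by
  rw [map_sum, map_sum]
  refine Finset.sum_congr rfl (fun i _ => ?_)
  rw [← map_smul]
  rfl

lemma li_iff :
    LinearIndependent (R ⧸ x) (fun i => (Bx x).mkQ ((x • ⊤ : Submodule R M).mkQ (s i))) ↔
      ∀ c : Fin r → R, (∑ i, c i • s i) ∈ B (M := M) x → ∀ i, c i ∈ x := by
  rw [Fintype.linearIndependent_iff]
  constructor
  · intro h c hc i
    have h1 := h (fun i => Ideal.Quotient.mk x (c i)) (by
      rw [sum_smul_eq, Submodule.mkQ_apply, Submodule.Quotient.mk_eq_zero]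
      exact (mkQ_mem_Bx_iff x _).mpr hc) i
    exact Ideal.Quotient.eq_zero_iff_mem.mp h1
  · intro h g hg i
    choose c hc using fun i => Ideal.Quotient.mk_surjective (g i)
    have hg' : ∑ i, (Ideal.Quotient.mk x (c i)) •
        (Bx x).mkQ ((x • ⊤ : Submodule R M).mkQ (s i)) = 0 := by
      rw [← hg]
      exact Finset.sum_congr rfl (fun i _ => by rw [hc])
    rw [sum_smul_eq, Submodule.mkQ_apply, Submodule.Quotient.mk_eq_zero, mkQ_mem_Bx_iff] at hg'
    rw [← hc i]
    exact Ideal.Quotient.eq_zero_iff_mem.mpr (h c hg' i)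

lemma exists_forms [hx : x.IsMaximal]
    (h : ∀ c : Fin r → R, (∑ i, c i • s i) ∈ B (M := M) x → ∀ i, c i ∈ x) :
    ∃ φ : Fin r → (M →ₗ[R] R), ∀ j i,
      Ideal.Quotient.mk x (φ j (s i)) = (Pi.single j 1 : Fin r → R ⧸ x) i := by
  classical
  letI : Field (R ⧸ x) := Ideal.Quotient.field x
  let ev : (M →ₗ[R] R) → (Fin r → R ⧸ x) := fun φ i => Ideal.Quotient.mk x (φ (s i))
  let U : Submodule (R ⧸ x) (Fin r → R ⧸ x) := Submodule.span (R ⧸ x) (Set.range ev)
  have hU : ∀ v ∈ U, ∃ φ, ev φ = v := by
    intro v hv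
    induction hv using Submodule.span_induction with
    | mem v hv => exact hv
    | zero => exact ⟨0, by funext i; simp [ev]⟩
    | add v w _ _ hv hw =>
      obtain ⟨φ, rfl⟩ := hv
      obtain ⟨φ', rfl⟩ := hw
      exact ⟨φ + φ', by funext i; simp [ev]⟩
    | smul c v _ hv =>
      obtain ⟨φ, rfl⟩ := hv
      obtain ⟨c, rfl⟩ := Ideal.Quotient.mk_surjective c
      exact ⟨c • φ, by funext i; simp [ev]⟩
  have hUtop : U = ⊤ := by
    by_contra hne
    obtain ⟨F, hF0, hF⟩ := Submodule.exists_le_ker_of_lt_top U (lt_top_iff_ne_top.mpr hne)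
    choose c hc using fun i => Ideal.Quotient.mk_surjective
      (F (fun j => if i = j then 1 else 0))
    have hm : (∑ i, c i • s i) ∈ B (M := M) x := by
      intro φ
      rw [← Ideal.Quotient.eq_zero_iff_mem, map_sum, map_sum]
      have h1 : F (ev φ) = 0 := hF (Submodule.subset_span ⟨φ, rfl⟩)
      rw [LinearMap.pi_apply_eq_sum_univ F (ev φ)] at h1
      rw [← h1]
      refine Finset.sum_congr rfl (fun i _ => ?_)
      rw [map_smul, smul_eq_mul, map_mul, hc, smul_eq_mul, mul_comm]
    have hc0 := h c hm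
    apply hF0
    refine LinearMap.ext (fun v => ?_)
    rw [LinearMap.pi_apply_eq_sum_univ F v, LinearMap.zero_apply]
    refine Finset.sum_eq_zero (fun i _ => ?_)
    rw [← hc, Ideal.Quotient.eq_zero_iff_mem.mpr (hc0 i), smul_zero]
  have hex : ∀ j : Fin r, ∃ φ, ev φ = (Pi.single j 1 : Fin r → R ⧸ x) := by
    intro j
    apply hU
    rw [hUtop]
    exact Submodule.mem_top
  choose φ hφ using hex
  exact ⟨φ, fun j i => congrFun (hφ j) i⟩

lemma split_of_forms (φ : Fin r → (M →ₗ[R] R)) (f : R)
    (hf : f = (Matrix.of fun j i => φ j (s i)).det) :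
    ∃ g : LocalizedModule (Submonoid.powers f) M →ₗ[Localization.Away f]
        (Fin r → Localization.Away f),
      g ∘ₗ Fintype.linearCombination (Localization.Away f)
        (fun i => LocalizedModule.mkLinearMap (Submonoid.powers f) M (s i)) = LinearMap.id := by
  classical
  let P₀ : Matrix (Fin r) (Fin r) R := Matrix.of fun j i => φ j (s i)
  let P : Matrix (Fin r) (Fin r) (Localization.Away f) :=
    P₀.map (algebraMap R (Localization.Away f))
  have hdet : IsUnit P.det := by
    have h1 : P.det = algebraMap R (Localization.Away f) P₀.det := (RingHom.map_det _ _).symm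
    have h2 : P₀.det = f := hf.symm
    rw [h1, h2]
    exact IsLocalization.Away.algebraMap_isUnit f
  let g₀ : Fin r → (LocalizedModule (Submonoid.powers f) M →ₗ[Localization.Away f]
      Localization.Away f) := fun j =>
    LinearMap.extendScalarsOfIsLocalization (Submonoid.powers f) (Localization.Away f)
      (IsLocalizedModule.map (Submonoid.powers f)
        (LocalizedModule.mkLinearMap (Submonoid.powers f) M)
        (Algebra.linearMap R (Localization.Away f)) (φ j))
  have hg₀ : ∀ j m, g₀ j (LocalizedModule.mkLinearMap (Submonoid.powers f) M m) =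
      algebraMap R (Localization.Away f) (φ j m) := by
    intro j m
    exact IsLocalizedModule.map_apply (Submonoid.powers f)
      (LocalizedModule.mkLinearMap (Submonoid.powers f) M)
      (Algebra.linearMap R (Localization.Away f)) (φ j) m
  let G : LocalizedModule (Submonoid.powers f) M →ₗ[Localization.Away f]
      (Fin r → Localization.Away f) := LinearMap.pi g₀
  refine ⟨(Matrix.toLin' P⁻¹) ∘ₗ G, ?_⟩
  apply LinearMap.pi_ext
  intro i c
  have e1 : (Pi.single i c : Fin r → Localization.Away f) = c • Pi.single i 1 := by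
    rw [← Pi.single_smul, smul_eq_mul, mul_one]
  rw [e1, map_smul, map_smul]
  congr 1
  rw [LinearMap.comp_apply, LinearMap.comp_apply, Fintype.linearCombination_apply_single,
    one_smul, LinearMap.id_apply, Matrix.toLin'_apply]
  have hG : G (LocalizedModule.mkLinearMap (Submonoid.powers f) M (s i)) =
      P.mulVec (Pi.single i 1) := by
    rw [Matrix.mulVec_single_one]
    funext j
    show g₀ j _ = _
    rw [hg₀]
    rfl
  rw [hG, Matrix.mulVec_mulVec, Matrix.nonsing_inv_mul P hdet, Matrix.one_mulVec]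

lemma mem_of_split [Module.FinitePresentation R M] [hx : x.IsMaximal] (f : R) (hf : f ∉ x)
    (g : LocalizedModule (Submonoid.powers f) M →ₗ[Localization.Away f]
      (Fin r → Localization.Away f))
    (hg : g ∘ₗ Fintype.linearCombination (Localization.Away f)
        (fun i => LocalizedModule.mkLinearMap (Submonoid.powers f) M (s i)) = LinearMap.id)
    (c : Fin r → R) (hc : (∑ i, c i • s i) ∈ B (M := M) x) (j : Fin r) : c j ∈ x := by
  classical
  let γ : M →ₗ[R] Localization.Away f :=
    ((LinearMap.proj j ∘ₗ g).restrictScalars R) ∘ₗ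
      LocalizedModule.mkLinearMap (Submonoid.powers f) M
  obtain ⟨φ, t, hφ⟩ := Module.FinitePresentation.exists_lift_of_isLocalizedModule
    (Submonoid.powers f) (Algebra.linearMap R (Localization.Away f)) γ
  have hgs : ∀ i, g (LocalizedModule.mkLinearMap (Submonoid.powers f) M (s i)) =
      Pi.single i 1 := by
    intro i
    have := LinearMap.congr_fun hg (Pi.single i 1)
    rwa [LinearMap.comp_apply, Fintype.linearCombination_apply_single, one_smul,
      LinearMap.id_apply] at this
  have hγs : ∀ i, γ (s i) = (Pi.single i 1 : Fin r → Localization.Away f) j := by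
    intro i
    show (g (LocalizedModule.mkLinearMap (Submonoid.powers f) M (s i))) j = _
    rw [hgs]
  have hγ : γ (∑ i, c i • s i) = algebraMap R (Localization.Away f) (c j) := by
    rw [map_sum, Finset.sum_eq_single j]
    · rw [map_smul, hγs, Pi.single_eq_same, Algebra.smul_def, mul_one]
    · intro i _ hij
      rw [map_smul, hγs, Pi.single_eq_of_ne (Ne.symm hij), smul_zero]
    · intro h
      exact absurd (Finset.mem_univ j) h
  have h1 := LinearMap.congr_fun hφ (∑ i, c i • s i)
  rw [LinearMap.comp_apply, LinearMap.smul_apply, hγ, Algebra.linearMap_apply,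
    Submonoid.smul_def, Algebra.smul_def, ← map_mul] at h1
  obtain ⟨u, hu⟩ := (IsLocalization.eq_iff_exists (Submonoid.powers f) _).mp h1
  have h2 : (u : R) * φ (∑ i, c i • s i) ∈ x := x.mul_mem_left _ (hc φ)
  rw [hu] at h2
  have hpow : ∀ v : Submonoid.powers f, (v : R) ∉ x := by
    rintro ⟨_, n, rfl⟩ hmem
    exact hf (hx.isPrime.mem_of_pow_mem n hmem)
  rcases hx.isPrime.mem_or_mem h2 with h | h
  · exact absurd h (hpow u)
  · rcases hx.isPrime.mem_or_mem h with h | h
    · exact absurd h (hpow t)
    · exact h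

end helpers

end Groth.Agent.S7147

namespace Groth.Agent.S7147

/-- Let R be a ring, M a finitely presented R-module and x a maximal ideal of R with residue field κ(x);
write M(x) = M/xM and let B(x) ⊆ M(x) be the orthogonal of the image of Hom_R(M, R) in the dual of
M(x), i.e. the classes of those m in M with φ(m) in x for every linear form φ on M, and V(x) =
M(x)/B(x). For s_1, ..., s_r in M the following are equivalent: (1) there is f in R, f not in x,
such that the map R_f^r → M_f given by the s_i is the inclusion of a direct summand; (2) the images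
of s_1, ..., s_r in V(x) are linearly independent over κ(x). -/
theorem result (R : Type u) [CommRing R] (M : Type u)
    [AddCommGroup M] [Module R M] [Module.FinitePresentation R M] (x : Ideal R) [x.IsMaximal]
    (r : ℕ) (s : Fin r → M) :
    let Mx := M ⧸ (x • ⊤ : Submodule R M)
    let Bx : Submodule (R ⧸ x) Mx :=
      Submodule.span (R ⧸ x) ((x • ⊤ : Submodule R M).mkQ '' {m : M | ∀ φ : M →ₗ[R] R, φ m ∈ x})
    (∃ f : R, f ∉ x ∧
      ∃ g : LocalizedModule (Submonoid.powers f) M →ₗ[Localization.Away f] (Fin r → Localization.Away f),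
        g ∘ₗ Fintype.linearCombination (Localization.Away f)
            (fun i => LocalizedModule.mkLinearMap (Submonoid.powers f) M (s i)) = LinearMap.id) ↔
    LinearIndependent (R ⧸ x) (fun i => Bx.mkQ ((x • ⊤ : Submodule R M).mkQ (s i))) := by
  intro Mx Bx'
  classical
  show _ ↔ LinearIndependent (R ⧸ x)
    (fun i => (Bx x).mkQ ((x • ⊤ : Submodule R M).mkQ (s i)))
  rw [li_iff]
  constructor
  · rintro ⟨f, hf, g, hg⟩ c hc j
    exact mem_of_split x s f hf g hg c hc j
  · intro h
    obtain ⟨φ, hφ⟩ := exists_forms x s h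
    refine ⟨(Matrix.of fun j i => φ j (s i)).det, ?_, split_of_forms s φ _ rfl⟩
    intro hmem
    have h1 : Ideal.Quotient.mk x (Matrix.of fun j i => φ j (s i)).det = 0 :=
      Ideal.Quotient.eq_zero_iff_mem.mpr hmem
    rw [RingHom.map_det] at h1
    have h2 : (Ideal.Quotient.mk x).mapMatrix (Matrix.of fun j i => φ j (s i)) = 1 := by
      ext j i
      rw [RingHom.mapMatrix_apply, Matrix.map_apply, Matrix.of_apply, hφ, Matrix.one_apply,
        Pi.single_apply]
      by_cases hji : j = i
      · simp [hji]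
      · rw [if_neg hji, if_neg (Ne.symm hji)]
    rw [h2, Matrix.det_one] at h1
    haveI : Nontrivial (R ⧸ x) := Ideal.Quotient.nontrivial_iff.mpr (Ideal.IsMaximal.ne_top ‹_›)
    exact one_ne_zero h1

end Groth.Agent.S7147
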