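import Groth.Statements.S7150
import Mathlib
import Groth.Agent.Lib.Helper12.CohenStructB
import Groth.Agent.Lib.Helper5.SepSmooth
import Groth.Agent.Lib.Helper22.WittLiftProj

set_option autoImplicit false
universe u
open EtAlg

namespace Groth.Agent.S7150

/-- Suppose p is a prime with p·1 = 0 in the local ring A and some power of the maximal ideal of A is
zero. Then the residue map A → κ_A has a section σ : κ_A → A that is a ring map. If moreover A → A'
is a local homomorphism to another local ring whose maximal ideal has a vanishing power, and the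
residue field extension κ_{A'}/κ_A is separable (possibly transcendental, i.e. geometrically
reduced), then for any such σ there is a section σ' : κ_{A'} → A' compatible with σ. -/
theorem result (p : ℕ) (hp : p.Prime) (A : Type u) [CommRing A]
    [IsLocalRing A] [CharP A p] (hnil : ∃ n : ℕ, IsLocalRing.maximalIdeal A ^ n = ⊥) :
    (∃ σ : IsLocalRing.ResidueField A →+* A, (IsLocalRing.residue A).comp σ = RingHom.id _) ∧
    ∀ (A' : Type u) [CommRing A'] [IsLocalRing A'] [Algebra A A'] [IsLocalHom (algebraMap A A')],
      (∃ n : ℕ, IsLocalRing.maximalIdeal A' ^ n = ⊥) →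
      Algebra.IsGeometricallyReduced (IsLocalRing.ResidueField A) (IsLocalRing.ResidueField A') →
      ∀ σ : IsLocalRing.ResidueField A →+* A, (IsLocalRing.residue A).comp σ = RingHom.id _ →
        ∃ σ' : IsLocalRing.ResidueField A' →+* A', (IsLocalRing.residue A').comp σ' = RingHom.id _ ∧
          σ'.comp (IsLocalRing.ResidueField.map (algebraMap A A')) = (algebraMap A A').comp σ := by
  classical
  haveI : Fact p.Prime := ⟨hp⟩
  refine ⟨?_, ?_⟩
  · -- existence of a section
    obtain ⟨n, hn⟩ := hnil
    haveI : IsAdicComplete (IsLocalRing.maximalIdeal A) A :=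
      Groth.Agent.Lib.Helper22.WittLiftProj.isAdicComplete_of_pow_eq_bot _ n hn
    haveI : CharP (IsLocalRing.ResidueField A) p := by
      obtain ⟨q, hq⟩ := CharP.exists (IsLocalRing.ResidueField A)
      have h0 : ((p : ℕ) : IsLocalRing.ResidueField A) = 0 := by
        rw [← map_natCast (IsLocalRing.residue A), CharP.cast_eq_zero A p, map_zero]
      have hdvd : q ∣ p := (CharP.cast_eq_zero_iff (IsLocalRing.ResidueField A) q p).mp h0
      rcases (Nat.dvd_prime hp).mp hdvd with h1 | h1
      · exfalso
        subst h1
        exact CharP.char_ne_one (IsLocalRing.ResidueField A) 1 rfl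
      · subst h1
        exact hq
    obtain ⟨Λ, _, _, _, v, -, hm, e, he⟩ :=
      Groth.Agent.Lib.Helper12.CohenStruct.exists_coefficientRing_of_charP A p
    have hker : ∀ x ∈ IsLocalRing.maximalIdeal Λ, v x = 0 := by
      intro x hx
      rw [hm, Ideal.mem_span_singleton] at hx
      obtain ⟨y, rfl⟩ := hx
      rw [map_mul, map_natCast, CharP.cast_eq_zero A p, zero_mul]
    let vbar : IsLocalRing.ResidueField Λ →+* A := Ideal.Quotient.lift _ v hker
    have hvbar : ∀ x : Λ, vbar (IsLocalRing.residue Λ x) = v x := fun x => rfl
    refine ⟨vbar.comp (e.symm : IsLocalRing.ResidueField A →+* IsLocalRing.ResidueField Λ), ?_⟩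
    refine RingHom.ext fun c => ?_
    obtain ⟨x, hx⟩ := IsLocalRing.residue_surjective (e.symm c)
    rw [RingHom.comp_apply, RingHom.comp_apply, RingHom.id_apply]
    show IsLocalRing.residue A (vbar (e.symm c)) = c
    rw [← hx, hvbar, he, hx, RingEquiv.apply_symm_apply]
  · -- the relative version
    intro A' _ _ _ _ hnil' hgr σ hσ
    obtain ⟨n, hn⟩ := hnil'
    have hnilp : IsNilpotent (IsLocalRing.maximalIdeal A') := ⟨n, hn⟩
    haveI : Algebra.FormallySmooth (IsLocalRing.ResidueField A) (IsLocalRing.ResidueField A') :=
      Groth.Agent.Lib.Helper5.SepSmooth.formallySmooth_of_geomReduced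
    letI algKA' : Algebra (IsLocalRing.ResidueField A) A' := ((algebraMap A A').comp σ).toAlgebra
    have hσ' : ∀ c, IsLocalRing.residue A (σ c) = c := fun c => RingHom.congr_fun hσ c
    have hmap : ∀ c : IsLocalRing.ResidueField A,
        algebraMap (IsLocalRing.ResidueField A) (IsLocalRing.ResidueField A') c =
          IsLocalRing.residue A' (algebraMap A A' (σ c)) := by
      intro c
      conv_lhs => rw [← hσ' c]
      rfl
    let g : IsLocalRing.ResidueField A' →ₐ[IsLocalRing.ResidueField A]
        A' ⧸ IsLocalRing.maximalIdeal A' :=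
      { (RingHom.id (IsLocalRing.ResidueField A') :
          IsLocalRing.ResidueField A' →+* A' ⧸ IsLocalRing.maximalIdeal A') with
        commutes' := by
          intro c
          show algebraMap (IsLocalRing.ResidueField A) (IsLocalRing.ResidueField A') c = _
          rw [hmap]
          rfl }
    obtain ⟨f, hf⟩ := Algebra.FormallySmooth.exists_lift (IsLocalRing.maximalIdeal A') hnilp g
    refine ⟨f.toRingHom, ?_, ?_⟩
    · refine RingHom.ext fun x => ?_
      have := AlgHom.congr_fun hf x
      exact this
    · refine RingHom.ext fun c => ?_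
      rw [RingHom.comp_apply, RingHom.comp_apply]
      have h1 : IsLocalRing.ResidueField.map (algebraMap A A') c =
          algebraMap (IsLocalRing.ResidueField A) (IsLocalRing.ResidueField A') c := by
        obtain ⟨a, rfl⟩ := IsLocalRing.residue_surjective c
        rfl
      rw [h1]
      show f (algebraMap _ _ c) = _
      rw [f.commutes]
      rfl

end Groth.Agent.S7150
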