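import Groth.Statements.S7153
import Mathlib.RingTheory.Filtration

set_option autoImplicit false
universe u
open CAlg

namespace Groth.Agent.S7153

theorem artinRees_le {A : Type u} [CommRing A] [IsNoetherianRing A] (I : Ideal A)
    {P : Type u} [AddCommGroup P] [Module A P] [Module.Finite A P] (N : Submodule A P) :
    ∃ k : ℕ, ∀ c, k ≤ c → ∀ n : ℕ, I ^ (n + c) • ⊤ ⊓ N ≤ I ^ n • N := by
  obtain ⟨k, hk⟩ := Ideal.exists_pow_inf_eq_pow_smul I N
  refine ⟨k, fun c hc n => ?_⟩
  have h1 : I ^ (n + c) • (⊤ : Submodule A P) ≤ I ^ (n + k) • ⊤ :=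
    Submodule.smul_mono_left (Ideal.pow_le_pow_right (by omega))
  refine (inf_le_inf_right N h1).trans ?_
  rw [hk (n + k) (by omega), Nat.add_sub_cancel]
  exact Submodule.smul_mono le_rfl inf_le_right

/-- Let A be a Noetherian ring, I an ideal and K → L → M a complex of finite A-modules with maps α, β
and homology H = Ker β / Im α; for n ≥ 0 let H_n be the homology of the induced complex K/IⁿK →
L/IⁿL → M/IⁿM, which is β⁻¹(IⁿM)/(Im α + IⁿL). Then there is c > 0 such that for every n: (i) the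
image of H_(n+c) → H_n is contained in, hence equal to, the image of H → H_n; (ii) the kernel and
the cokernel of H/IⁿH → H_n are annihilated by I^c. Everything is phrased with representatives in L. -/
theorem result (A : Type u) [CommRing A] [IsNoetherianRing A] (I : Ideal A)
    (K L M : Type u) [AddCommGroup K] [Module A K] [Module.Finite A K] [AddCommGroup L] [Module A L]
    [Module.Finite A L] [AddCommGroup M] [Module A M] [Module.Finite A M]
    (α : K →ₗ[A] L) (β : L →ₗ[A] M) (hαβ : β ∘ₗ α = 0) :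
    ∃ c : ℕ, 0 < c ∧ ∀ n : ℕ,
      (∀ y ∈ (I ^ (n + c) • ⊤ : Submodule A M).comap β,
        ∃ z ∈ LinearMap.ker β, y - z ∈ LinearMap.range α ⊔ (I ^ n • ⊤ : Submodule A L)) ∧
      (∀ z ∈ LinearMap.ker β, z ∈ LinearMap.range α ⊔ (I ^ n • ⊤ : Submodule A L) →
        ∀ a ∈ I ^ c, a • z ∈ LinearMap.range α ⊔ I ^ n • LinearMap.ker β) ∧
      (∀ y ∈ (I ^ n • ⊤ : Submodule A M).comap β, ∀ a ∈ I ^ c,
        ∃ z ∈ LinearMap.ker β, a • y - z ∈ LinearMap.range α ⊔ (I ^ n • ⊤ : Submodule A L)) := by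
  obtain ⟨c₁, h₁⟩ := artinRees_le I (LinearMap.range β)
  obtain ⟨c₂, h₂⟩ := artinRees_le I (LinearMap.ker β)
  have hβα : ∀ k, β (α k) = 0 := fun k => by
    have := LinearMap.congr_fun hαβ k
    simpa using this
  -- key consequence of Artin-Rees for the image of β
  have key₁ : ∀ n : ℕ, ∀ m ∈ (I ^ (n + (c₁ + c₂ + 1)) • ⊤ : Submodule A M), m ∈ LinearMap.range β →
      ∃ l ∈ (I ^ n • ⊤ : Submodule A L), β l = m := by
    intro n m hm hmr
    have h := h₁ (c₁ + c₂ + 1) (by omega) n ⟨hm, hmr⟩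
    have h' : m ∈ Submodule.map β (I ^ n • ⊤) := by
      rw [Submodule.map_smul'', Submodule.map_top]; exact h
    obtain ⟨l, hl, rfl⟩ := h'
    exact ⟨l, hl, rfl⟩
  refine ⟨c₁ + c₂ + 1, by omega, fun n => ⟨?_, ?_, ?_⟩⟩
  · intro y hy
    obtain ⟨l, hl, hly⟩ := key₁ n (β y) hy ⟨y, rfl⟩
    refine ⟨y - l, ?_, ?_⟩
    · rw [LinearMap.mem_ker, map_sub, hly, sub_self]
    · rw [sub_sub_cancel]; exact Submodule.mem_sup_right hl
  · intro z hz hzs a ha
    obtain ⟨_, ⟨k, rfl⟩, l, hl, rfl⟩ := Submodule.mem_sup.mp hzs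
    have hlk : l ∈ LinearMap.ker β := by
      have : β (α k + l) = 0 := hz
      rw [map_add, hβα, zero_add] at this
      exact this
    have hal : a • l ∈ (I ^ (n + (c₁ + c₂ + 1)) • ⊤ : Submodule A L) := by
      rw [add_comm n, pow_add, mul_smul]
      exact Submodule.smul_mem_smul ha hl
    have := h₂ (c₁ + c₂ + 1) (by omega) n ⟨hal, (LinearMap.ker β).smul_mem a hlk⟩
    rw [smul_add]
    exact Submodule.add_mem_sup ⟨a • k, by simp⟩ this
  · intro y hy a ha
    have hay : β (a • y) ∈ (I ^ (n + (c₁ + c₂ + 1)) • ⊤ : Submodule A M) := by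
      rw [map_smul, add_comm n, pow_add, mul_smul]
      exact Submodule.smul_mem_smul ha hy
    obtain ⟨l, hl, hly⟩ := key₁ n (β (a • y)) hay ⟨a • y, rfl⟩
    refine ⟨a • y - l, ?_, ?_⟩
    · rw [LinearMap.mem_ker, map_sub, hly, sub_self]
    · rw [sub_sub_cancel]; exact Submodule.mem_sup_right hl

end Groth.Agent.S7153
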