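import Groth.Statements.S7164
import Groth.Agent.Lib.Helper16.ExtAR
-- import your own Groth.Agent.* helpers here

set_option autoImplicit false
universe u
open CategoryTheory
attribute [local instance] HasDerivedCategory.standard
open CAlg

namespace Groth.Agent.S7164

open Groth.Agent.Lib.Helper16.ExtRep Groth.Agent.Lib.Helper16.ExtAR DerivedCategory CategoryTheory.Limits

lemma lift_mkQ {A : Type u} [CommRing A] {F : ModuleCat.{u} A} [Module.Projective A F]
    {M : Type u} [AddCommGroup M] [Module A M] (N : Submodule A M)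
    (g : F ⟶ ModuleCat.of A (M ⧸ N)) :
    ∃ g' : F ⟶ ModuleCat.of A M, g' ≫ ModuleCat.ofHom N.mkQ = g := by
  obtain ⟨l, hl⟩ := Module.projective_lifting_property N.mkQ g.hom N.mkQ_surjective
  exact ⟨ModuleCat.ofHom l, ModuleCat.hom_ext hl⟩

lemma mem_of_comp_mkQ_eq_zero {A : Type u} [CommRing A] {F : ModuleCat.{u} A}
    {M : Type u} [AddCommGroup M] [Module A M] (N : Submodule A M)
    (φ : F ⟶ ModuleCat.of A M) (h : φ ≫ ModuleCat.ofHom N.mkQ = 0) (y : F) : φ.hom y ∈ N := by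
  have := congrArg (fun f => f.hom y) h
  simpa using this

lemma comp_mkQ_eq_zero {A : Type u} [CommRing A] {F : ModuleCat.{u} A}
    {M : Type u} [AddCommGroup M] [Module A M] (N : Submodule A M)
    (φ : F ⟶ ModuleCat.of A M) (h : ∀ y, φ.hom y ∈ N) : φ ≫ ModuleCat.ofHom N.mkQ = 0 := by
  ext y
  simpa using h y


/-- Let A be a Noetherian ring, I an ideal, K a pseudo-coherent object of D(A) and a an integer. Assume
that for every finite A-module M and every i ≥ a the module Ext^i_A(K, M) is I-power torsion. Then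
for i ≥ a and M finite the inverse system (Ext^i_A(K, M/IⁿM))_n is essentially constant with value
Ext^i_A(K, M) (so that Ext^i_A(K, M) = lim Ext^i_A(K, M/IⁿM)): concretely, some comparison map
Ext^i(K, M) → Ext^i(K, M/I^mM) is injective and for every n there is m' ≥ n such that the image of
the transition map Ext^i(K, M/I^(m')M) → Ext^i(K, M/IⁿM) is contained in the image of Ext^i(K, M).
Here Ext^i(K, X) = Hom_{D(A)}(K, X[i]). -/
theorem result (A : Type u) [CommRing A] [IsNoetherianRing A]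
    (I : Ideal A) (K : Dual.D A) (hK : DRing.IsPseudoCoherent' A K) (a : ℤ)
    (htors : ∀ (M : Type u) [AddCommGroup M] [Module A M], Module.Finite A M → ∀ i : ℤ, a ≤ i →
      ∀ e : K ⟶ (Dual.inD A M)⟦i⟧, ∃ n : ℕ, ∀ x ∈ I ^ n, x • e = 0)
    (M : Type u) [AddCommGroup M] [Module A M] [Module.Finite A M] (i : ℤ) (hi : a ≤ i) :
    let Mq : ℕ → Submodule A M := fun n => I ^ n • ⊤
    let c : ∀ n : ℕ, (K ⟶ (Dual.inD A M)⟦i⟧) → (K ⟶ (Dual.inD A (M ⧸ Mq n))⟦i⟧) :=
      fun n e => e ≫ ((DerivedCategory.singleFunctor (ModuleCat.{u} A) 0).map (ModuleCat.ofHom (Mq n).mkQ))⟦i⟧'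
    let t : ∀ n m : ℕ, n ≤ m → (K ⟶ (Dual.inD A (M ⧸ Mq m))⟦i⟧) → (K ⟶ (Dual.inD A (M ⧸ Mq n))⟦i⟧) :=
      fun n m hnm e => e ≫ ((DerivedCategory.singleFunctor (ModuleCat.{u} A) 0).map (ModuleCat.ofHom
        (Submodule.mapQ (Mq m) (Mq n) (LinearMap.id : M →ₗ[A] M) (Submodule.smul_mono_left (Ideal.pow_le_pow_right hnm)))))⟦i⟧'
    (∃ m : ℕ, Function.Injective (c m)) ∧
      ∀ n : ℕ, ∃ (m' : ℕ) (hnm : n ≤ m'), Set.range (t n m' hnm) ⊆ Set.range (c n) := by
  intro Mq c t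
  obtain ⟨E, b, hb, hfree, ⟨u⟩⟩ := hK
  have hproj : ∀ k, Module.Projective A (E.X k) := fun k => by
    haveI := (hfree k).2
    infer_instance
  haveI : E.IsKProjective :=
    Groth.Agent.Lib.Helper16.LDer.isKProjective_of_bddAbove_projective E b hb hproj
  -- torsion hypothesis transported to `Q.obj E`
  have htors' : ∀ i' : ℤ, a ≤ i' → ∀ e : Q.obj E ⟶ (Dual.inD A M)⟦i'⟧,
      ∃ n : ℕ, ∀ x ∈ I ^ n, x • e = 0 := by
    intro i' hi' e
    obtain ⟨n, hn⟩ := htors M inferInstance i' hi' (u.inv ≫ e)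
    refine ⟨n, fun x hx => ?_⟩
    have := hn x hx
    rw [← Linear.comp_smul] at this
    rw [← cancel_epi u.inv, this, comp_zero]
  constructor
  · obtain ⟨c₁, hc₁⟩ := key I E hfree M i (-i) (by omega) (-i - 1) (by omega) (-i + 1) rfl
      (htors' i hi)
    refine ⟨c₁, fun e₁ e₂ heq => ?_⟩
    rw [← sub_eq_zero]
    have he : (e₁ - e₂) ≫ ((DerivedCategory.singleFunctor (ModuleCat.{u} A) 0).map
        (ModuleCat.ofHom (Mq c₁).mkQ))⟦i⟧' = 0 := by
      rw [Preadditive.sub_comp, sub_eq_zero]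
      exact heq
    generalize e₁ - e₂ = e at he
    obtain ⟨φ, hφ, hcls⟩ := cls_surjective E (ModuleCat.of A M) i (-i) (by omega) (-i - 1)
      (by omega) (u.hom ≫ e)
    have h0 : cls E (ModuleCat.of A (M ⧸ Mq c₁)) i (-i) (by omega) (-i - 1) (by omega)
        (φ ≫ ModuleCat.ofHom (Mq c₁).mkQ) (by rw [reassoc_of% hφ, zero_comp]) = 0 := by
      rw [← cls_comp E _ _ _ i (-i) _ (-i - 1) _ φ hφ, hcls, Category.assoc, he, comp_zero]
    rw [cls_eq_zero_iff _ _ _ _ _ _ _ _ _ (-i + 1) rfl] at h0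
    obtain ⟨gbar, hgbar⟩ := h0
    haveI := hproj (-i + 1)
    obtain ⟨g, hg⟩ := lift_mkQ (Mq c₁) gbar
    have hφ' : E.d (-i - 1) (-i) ≫ (φ - E.d (-i) (-i + 1) ≫ g) = 0 := by
      rw [Preadditive.comp_sub, hφ, HomologicalComplex.d_comp_d_assoc, zero_comp, sub_zero]
    have hφ'q : (φ - E.d (-i) (-i + 1) ≫ g) ≫ ModuleCat.ofHom (Mq c₁).mkQ = 0 := by
      rw [Preadditive.sub_comp, Category.assoc, hg, hgbar, sub_self]
    obtain ⟨ψ, -, hψ⟩ := hc₁ 0 _ hφ' (fun y => by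
      rw [zero_add]
      exact mem_of_comp_mkQ_eq_zero (Mq c₁) _ hφ'q y)
    have hfin : cls E (ModuleCat.of A M) i (-i) (by omega) (-i - 1) (by omega) φ hφ = 0 := by
      rw [cls_eq_zero_iff _ _ _ _ _ _ _ _ _ (-i + 1) rfl]
      refine ⟨g + ψ, ?_⟩
      rw [Preadditive.comp_add, hψ]
      abel
    rw [hcls] at hfin
    rw [← cancel_epi u.hom, hfin, comp_zero]
  · intro n
    obtain ⟨c₂, hc₂⟩ := key I E hfree M (i + 1) (-i - 1) (by omega) (-i - 1 - 1) (by omega) (-i)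
      (by omega) (htors' (i + 1) (by omega))
    refine ⟨n + c₂, Nat.le_add_right n c₂, ?_⟩
    rintro _ ⟨e', rfl⟩
    obtain ⟨φ', hφ', hcls⟩ := cls_surjective E (ModuleCat.of A (M ⧸ Mq (n + c₂))) i (-i)
      (by omega) (-i - 1) (by omega) (u.hom ≫ e')
    haveI := hproj (-i)
    obtain ⟨φt, hφt⟩ := lift_mkQ (Mq (n + c₂)) φ'
    have hθq : (E.d (-i - 1) (-i) ≫ φt) ≫ ModuleCat.ofHom (Mq (n + c₂)).mkQ = 0 := by
      rw [Category.assoc, hφt, hφ']
    obtain ⟨ψ, hψI, hψ⟩ := hc₂ n (E.d (-i - 1) (-i) ≫ φt)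
      (by rw [HomologicalComplex.d_comp_d_assoc, zero_comp])
      (fun y => mem_of_comp_mkQ_eq_zero (Mq (n + c₂)) _ hθq y)
    have hφ : E.d (-i - 1) (-i) ≫ (φt - ψ) = 0 := by
      rw [Preadditive.comp_sub, hψ, sub_self]
    refine ⟨u.inv ≫ cls E (ModuleCat.of A M) i (-i) (by omega) (-i - 1) (by omega) (φt - ψ) hφ, ?_⟩
    have he' : e' = u.inv ≫ (u.hom ≫ e') := by rw [Iso.inv_hom_id_assoc]
    change (u.inv ≫ _) ≫ _ = e' ≫ _
    rw [he', ← hcls, Category.assoc, Category.assoc, cls_comp, cls_comp]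
    congr 1
    apply cls_congr
    rw [Preadditive.sub_comp, comp_mkQ_eq_zero (Mq n) ψ hψI, sub_zero, ← hφt, Category.assoc]
    congr 1

end Groth.Agent.S7164
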