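import Groth.Statements.S7165
import Mathlib
import Groth.Agent.Lib.Helper21.KAProd

set_option autoImplicit false
universe u
open EtAlg

namespace Groth.Agent.S7165

open TensorProduct in
/-- Let A → B be an injective local homomorphism of discrete valuation rings whose fields of fractions
are K ⊆ L, the A-algebra B being essentially of finite type. Let K' ⊇ K be an algebraic extension
field for which A', the integral closure of A in K', is a Noetherian ring, and let L' = (L ⊗_K
K')_red. Then B', the integral closure of B in L', is a Noetherian ring. (The published statement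
also asserts that Spec B' → Spec A' is surjective and that the residue field extensions are finitely
generated; this row states only that B' is Noetherian.) -/
theorem result (A B K L : Type u) [CommRing A] [IsDomain A]
    [IsDiscreteValuationRing A] [CommRing B] [IsDomain B] [IsDiscreteValuationRing B] [Algebra A B]
    (hinj : Function.Injective (algebraMap A B)) [IsLocalHom (algebraMap A B)] [Algebra.EssFiniteType A B]
    [Field K] [Field L] [Algebra A K] [IsFractionRing A K] [Algebra B L] [IsFractionRing B L]
    [Algebra K L] [Algebra A L] [IsScalarTower A K L] [IsScalarTower A B L]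
    (K' : Type u) [Field K'] [Algebra K K'] [Algebra A K'] [IsScalarTower A K K'] [Algebra.IsAlgebraic K K']
    (hA' : IsNoetherianRing (integralClosure A K'))
    (L' : Type u) [CommRing L'] [IsReduced L'] [Algebra K L'] [Algebra L L'] [Algebra K' L'] [Algebra B L']
    [IsScalarTower K L L'] [IsScalarTower K K' L'] [IsScalarTower B L L']
    (q : L ⊗[K] K' →ₐ[K] L') (hq : Function.Surjective q) (hker : RingHom.ker q.toRingHom = nilradical (L ⊗[K] K'))
    (hqL : ∀ y : L, q (y ⊗ₜ 1) = algebraMap L L' y) (hqK : ∀ z : K', q (1 ⊗ₜ z) = algebraMap K' L' z) :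
    IsNoetherianRing (integralClosure B L') := by
  classical
  -- the `A`-algebra structure of `L'`
  letI : Algebra A L' := ((algebraMap B L').comp (algebraMap A B)).toAlgebra
  haveI : IsScalarTower A B L' := IsScalarTower.of_algebraMap_eq (fun _ => rfl)
  have hAL' : ∀ a : A, algebraMap A L' a = algebraMap K' L' (algebraMap A K' a) := by
    intro a
    show algebraMap B L' (algebraMap A B a) = _
    rw [IsScalarTower.algebraMap_apply B L L', ← IsScalarTower.algebraMap_apply A B L,
      IsScalarTower.algebraMap_apply A K L, ← IsScalarTower.algebraMap_apply K L L',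
      IsScalarTower.algebraMap_apply K K' L', ← IsScalarTower.algebraMap_apply A K K']
  have hBL' : ∀ b : B, algebraMap B L' b = algebraMap L L' (algebraMap B L b) := fun b =>
    IsScalarTower.algebraMap_apply B L L' b
  haveI := hA'
  -- the map `B ⊗ A' → L'`
  let g : integralClosure A K' →ₐ[A] L' :=
    { toRingHom := (algebraMap K' L').comp (integralClosure A K').val.toRingHom
      commutes' := fun a => (hAL' a).symm }
  have hg : ∀ x : integralClosure A K', g x = algebraMap K' L' (x : K') := fun _ => rfl
  let φ : B ⊗[A] (integralClosure A K') →ₐ[B] L' :=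
    Algebra.TensorProduct.lift (Algebra.ofId B L') g (fun _ _ => Commute.all _ _)
  have hφ : ∀ (b : B) (x : integralClosure A K'),
      φ (b ⊗ₜ x) = algebraMap B L' b * algebraMap K' L' (x : K') := by
    intro b x
    simp only [φ, Algebra.TensorProduct.lift_tmul]
    rfl
  -- Noetherianity of the rings involved
  haveI : IsNoetherianRing ((integralClosure A K') ⊗[A] B) :=
    Algebra.EssFiniteType.isNoetherianRing (integralClosure A K') _
  haveI : IsNoetherianRing (B ⊗[A] (integralClosure A K')) :=
    isNoetherianRing_of_ringEquiv ((integralClosure A K') ⊗[A] B)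
      (Algebra.TensorProduct.comm A (integralClosure A K') B).toRingEquiv
  haveI : Algebra.EssFiniteType B L :=
    Algebra.EssFiniteType.of_isLocalization L (nonZeroDivisors B)
  haveI : Algebra.EssFiniteType A L := Algebra.EssFiniteType.comp A B L
  haveI : Algebra.EssFiniteType K L := Algebra.EssFiniteType.of_comp A K L
  haveI : IsNoetherianRing (K' ⊗[K] L) := Algebra.EssFiniteType.isNoetherianRing K' _
  haveI : IsNoetherianRing (L ⊗[K] K') :=
    isNoetherianRing_of_ringEquiv (K' ⊗[K] L) (Algebra.TensorProduct.comm K K' L).toRingEquiv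
  haveI : IsNoetherianRing L' := isNoetherianRing_of_surjective (L ⊗[K] K') L' q.toRingHom hq
  -- dimension
  have hdim : ∀ P : Ideal (B ⊗[A] (integralClosure A K')), P.IsPrime →
      Ring.KrullDimLE 1 ((B ⊗[A] (integralClosure A K')) ⧸ P) := fun P _ =>
    Groth.Agent.Lib.Helper21.KAProd.krullDimLE_one_quotient_of_isIntegral B _ P
  -- fractions
  have hunit : ∀ b : B, b ≠ 0 → IsUnit (algebraMap B L' b) := by
    intro b hb
    rw [hBL']
    have h1 : algebraMap B L b ≠ 0 := by
      rw [Ne, IsFractionRing.to_map_eq_zero_iff]
      exact hb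
    exact (IsUnit.mk0 _ h1).map (algebraMap L L')
  have hfrac : ∀ t : L', ∃ r s : B ⊗[A] (integralClosure A K'),
      IsUnit (φ s) ∧ t * φ s = φ r := by
    intro t
    obtain ⟨x, rfl⟩ := hq t
    induction x using TensorProduct.induction_on with
    | zero => exact ⟨0, 1, by rw [map_one]; exact isUnit_one, by rw [map_zero, map_zero, zero_mul]⟩
    | tmul l k' =>
      obtain ⟨b, s₁, hs₁, rfl⟩ := IsFractionRing.div_surjective (A := B) l
      have hs₁0 : s₁ ≠ 0 := nonZeroDivisors.ne_zero hs₁
      have halg : IsAlgebraic A k' :=
        (IsFractionRing.isAlgebraic_iff A K K').2 (Algebra.IsAlgebraic.isAlgebraic k')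
      obtain ⟨t₁, ht₁, hint⟩ := halg.exists_integral_multiple
      have ht₁B : algebraMap A B t₁ ≠ 0 := fun h => ht₁ (hinj (h.trans (map_zero _).symm))
      refine ⟨b ⊗ₜ ⟨t₁ • k', hint⟩, (s₁ * algebraMap A B t₁) ⊗ₜ 1, ?_, ?_⟩
      · rw [hφ, OneMemClass.coe_one, map_one, mul_one]
        exact hunit _ (mul_ne_zero hs₁0 ht₁B)
      · rw [hφ, hφ, OneMemClass.coe_one, map_one, mul_one]
        have h1 : (algebraMap B L b / algebraMap B L s₁) ⊗ₜ[K] k' =
            ((algebraMap B L b / algebraMap B L s₁) ⊗ₜ[K] (1 : K')) *
              ((1 : L) ⊗ₜ[K] k') := by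
          rw [Algebra.TensorProduct.tmul_mul_tmul, mul_one, one_mul]
        rw [h1, map_mul, hqL, hqK, map_mul, hBL' s₁, hBL' b,
          ← IsScalarTower.algebraMap_apply A B L', hAL']
        have h2 : algebraMap B L s₁ ≠ 0 := by
          rw [Ne, IsFractionRing.to_map_eq_zero_iff]
          exact hs₁0
        have h3 : algebraMap L L' (algebraMap B L b / algebraMap B L s₁) *
            algebraMap L L' (algebraMap B L s₁) = algebraMap L L' (algebraMap B L b) := by
          rw [← map_mul, div_mul_cancel₀ _ h2]
        have h4 : algebraMap K' L' k' * algebraMap K' L' (algebraMap A K' t₁) =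
            algebraMap K' L' (t₁ • k') := by
          rw [← map_mul, Algebra.smul_def, mul_comm]
        calc algebraMap L L' (algebraMap B L b / algebraMap B L s₁) * algebraMap K' L' k' *
              (algebraMap L L' (algebraMap B L s₁) * algebraMap K' L' (algebraMap A K' t₁))
            = (algebraMap L L' (algebraMap B L b / algebraMap B L s₁) *
                algebraMap L L' (algebraMap B L s₁)) *
              (algebraMap K' L' k' * algebraMap K' L' (algebraMap A K' t₁)) := by ring
          _ = _ := by rw [h3, h4]
    | add x y hx hy =>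
      obtain ⟨r₁, s₁, hu₁, h₁⟩ := hx
      obtain ⟨r₂, s₂, hu₂, h₂⟩ := hy
      refine ⟨r₁ * s₂ + r₂ * s₁, s₁ * s₂, ?_, ?_⟩
      · rw [map_mul]
        exact hu₁.mul hu₂
      · rw [map_add, map_add, map_mul, map_mul, map_mul, ← h₁, ← h₂]
        ring
  -- the integral closure contains the image
  have hC : φ.toRingHom.range ≤ (integralClosure B L').toSubring := by
    rintro _ ⟨r, rfl⟩
    exact (Algebra.IsIntegral.isIntegral (R := B) r).map φ
  exact Groth.Agent.Lib.Helper21.KAProd.isNoetherianRing_subring φ.toRingHom hdim hfrac
    (integralClosure B L').toSubring hC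

end Groth.Agent.S7165
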