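import Groth.Statements.S7168
import Groth.Agent.Lib.Helper15.RelPC14
-- import your own Groth.Agent.* helpers here

set_option autoImplicit false
universe u
attribute [local instance] HasDerivedCategory.standard
open FlatMor

namespace Groth.Agent.S7168

section H
namespace W1
open AlgebraicGeometry CategoryTheory Limits Groth.Agent.Lib.Helper15.RelPC14 Groth.Agent.Lib.Helper15.RelPC12

theorem main {X S : Scheme.{u}} (f : X ⟶ S) (hf : MoreMor.IsPseudoCoherentMor f) :
    LocallyOfFinitePresentation f := locallyOfFinitePresentation_of_isPseudoCoherentMor f hf
end W1
end H


open AlgebraicGeometry CategoryTheory Limits in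
/-- A pseudo-coherent morphism of schemes is locally of finite presentation. -/
theorem result {X S : Scheme.{u}} (f : X ⟶ S) (hf : MoreMor.IsPseudoCoherentMor f) :
    LocallyOfFinitePresentation f := by
  exact W1.main f hf

end Groth.Agent.S7168
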