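import Groth.Statements.S7170
import Mathlib
import Groth.Prelude.Def_MoreMor
import Groth.Prelude.Def_Mor2
import Groth.Prelude.Def_LCI2
import Groth.Agent.Lib.Helper15.RelPC16
import Groth.Agent.Lib.Helper15.RelPC11
import Groth.Agent.S2066
-- import your own Groth.Agent.* helpers here

set_option autoImplicit false
universe u
attribute [local instance] HasDerivedCategory.standard
open FlatMor

namespace Groth.Agent.S7170

section H
namespace W1
open AlgebraicGeometry CategoryTheory Limits
open Groth.Agent.Lib.Helper15.RelPC16 Groth.Agent.Lib.Helper15.RelPC9 Groth.Agent.Lib.Helper15.RelPC11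
  Groth.Agent.Lib.Helper16.PC Groth.Agent.Lib.Helper16.RelPC Groth.Agent.Lib.Helper16.RestrictD

lemma rel_self_iff {A : Type u} [CommRing A] (m : ℤ) (L : Dual.D A) :
    DerCA.IsRelPseudoCoherent A A m L ↔ DRing.IsPseudoCoherent A m L := by
  let α₀ : MvPolynomial (Fin 0) A →ₐ[A] A := (MvPolynomial.isEmptyAlgEquiv A (Fin 0)).toAlgHom
  have hbij : Function.Bijective α₀ := (MvPolynomial.isEmptyAlgEquiv A (Fin 0)).bijective
  rw [rel_iff_via α₀ hbij.surjective]
  unfold DerCA.IsRelPseudoCoherentVia
  exact (pc_iff_of_pcHom (pcHom_of_bijective _ hbij) L m).symm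

theorem pch_iff_module_of_finite {A B : Type u} [CommRing A] [CommRing B] [Algebra A B]
    [Module.Finite A B] :
    MoreMor.IsPseudoCoherentHom A B ↔ DRing.IsPseudoCoherentModule' A B := by
  rw [pch_iff_relAll]
  unfold DerCA.IsRelPseudoCoherentModuleAll DerCA.IsRelPseudoCoherentAll
    DRing.IsPseudoCoherentModule'
  rw [← (Groth.Agent.S2066.result _).1]
  refine forall_congr' fun m => ?_
  rw [rel_iff_restrict_of_finite (R := A) (A := A) (B := B), rel_self_iff]
  have e := restrictInDIso' (A := A) (B := B) (C := B)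
  exact ⟨fun h => pc_of_iso h e, fun h => pc_of_iso h e.symm⟩

theorem main {X S : Scheme.{u}} (f : X ⟶ S) [IsFinite f] :
    MoreMor.IsPseudoCoherentMor f ↔ ∀ (V : S.Opens), IsAffineOpen V →
      (letI := (f.app V).hom.toAlgebra
       DRing.IsPseudoCoherentModule' Γ(S, V) Γ(X, f ⁻¹ᵁ V)) := by
  have key : ∀ (V : S.Opens), IsAffineOpen V →
      (PCH (f.app V).hom ↔ (letI := (f.app V).hom.toAlgebra
        DRing.IsPseudoCoherentModule' Γ(S, V) Γ(X, f ⁻¹ᵁ V))) := by
    intro V hV
    letI := (f.app V).hom.toAlgebra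
    haveI : Module.Finite Γ(S, V) Γ(X, f ⁻¹ᵁ V) := f.finite_app V hV
    exact pch_iff_module_of_finite
  constructor
  · intro h V hV
    rw [← key V hV]
    have h1 := h (f ⁻¹ᵁ V) V (hV.preimage f) hV le_rfl
    rw [Scheme.Hom.appLE_eq_app] at h1
    exact h1
  · intro h
    rw [isPseudoCoherentMor_iff, HasRingHomProperty.iff_exists_appLE (P := affineLocally @PCH)
      (pch_stableUnderComposition.stableUnderCompositionWithLocalizationAway
        pch_holdsForLocalizationAway).left]
    intro x
    obtain ⟨V, hV, hxV, -⟩ := TopologicalSpace.Opens.isBasis_iff_nbhd.mp S.isBasis_affineOpens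
      (TopologicalSpace.Opens.mem_top (f x))
    refine ⟨⟨V, hV⟩, ⟨f ⁻¹ᵁ V, hV.preimage f⟩, hxV, le_rfl, ?_⟩
    rw [Scheme.Hom.appLE_eq_app]
    exact (key V hV).2 (h V hV)

end W1
end H


open AlgebraicGeometry CategoryTheory Limits in
/-- For a finite morphism f : X → S, pseudo-coherence of f is equivalent to pseudo-coherence of the
O_S-module f_* O_X; as f is affine, the latter means that O_X(f⁻¹ V) is a pseudo-coherent
O_S(V)-module for every affine open V of S, the form used here. -/
theorem result {X S : Scheme.{u}} (f : X ⟶ S) [IsFinite f] :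
    MoreMor.IsPseudoCoherentMor f ↔ ∀ (V : S.Opens), IsAffineOpen V →
      (letI := (f.app V).hom.toAlgebra
       DRing.IsPseudoCoherentModule' Γ(S, V) Γ(X, f ⁻¹ᵁ V)) := by
  exact W1.main f

end Groth.Agent.S7170
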