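import Groth.Statements.S7173
import Groth.Agent.S1503
import Groth.Agent.Lib.Helper16.GlDim1
import Groth.Agent.Lib.Helper16.TorAmp9
import Groth.Agent.Lib.Helper16.TorBal6
-- import your own Groth.Agent.* helpers here

set_option autoImplicit false
universe u
attribute [local instance] HasDerivedCategory.standard
open FlatMor

namespace Groth.Agent.S7173

section H
namespace W1
open AlgebraicGeometry CategoryTheory Limits Groth.Agent.Lib.Helper16.TorAmp Groth.Agent.Lib.Helper16.TorBal

theorem main {X S : Scheme.{u}} (f : X ⟶ S) [LocallyOfFiniteType f] [IsLocallyNoetherian S]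
    (hreg : ∀ s : S, IsRegularLocalRing (S.presheaf.stalk s))
    (hdim : ∀ V : S.Opens, IsAffineOpen V → ringKrullDim Γ(S, V) < ⊤) :
    MoreMor.IsPerfectMor f := by
  have hpc := (Groth.Agent.S1503.result f).2 inferInstance
  intro U V hU hV e
  refine ⟨hpc U V hU hV e, ?_⟩
  letI := (f.appLE V U e).hom.toAlgebra
  haveI : IsNoetherianRing Γ(S, V) := IsLocallyNoetherian.component_noetherian ⟨V, hV⟩
  obtain ⟨d, hd⟩ : ∃ d : ℕ, ringKrullDim Γ(S, V) ≤ d := by
    have h := hdim V hV
    generalize ringKrullDim Γ(S, V) = k at h
    induction k using WithBot.recBotCoe with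
    | bot => exact ⟨0, bot_le⟩
    | coe n =>
      have hn : n ≠ ⊤ := by
        rintro rfl
        exact lt_irrefl _ h
      refine ⟨n.toNat, ?_⟩
      rw [← ENat.natCast_toNat hn]
      rfl
  have hreg' : ∀ p : PrimeSpectrum Γ(S, V),
      IsRegularLocalRing (Localization.AtPrime p.asIdeal) := by
    intro p
    have hy : hV.fromSpec p ∈ V := (hV.isoSpec.inv p).2
    letI : Algebra Γ(S, V) (S.presheaf.stalk (hV.fromSpec p)) :=
      TopCat.Presheaf.algebra_section_stalk S.presheaf ⟨hV.fromSpec p, hy⟩
    haveI : IsLocalization p.asIdeal.primeCompl (S.presheaf.stalk (hV.fromSpec p)) :=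
      hV.isLocalization_stalk' p hy
    haveI := hreg (hV.fromSpec p)
    exact IsRegularLocalRing.of_ringEquiv
      (IsLocalization.algEquiv p.asIdeal.primeCompl (S.presheaf.stalk (hV.fromSpec p))
        (Localization.AtPrime p.asIdeal)).toRingEquiv
  haveI := Groth.Agent.Lib.Helper16.GlDim.hasProjectiveDimensionLT_of_regular hreg' d hd
    (ModuleCat.of Γ(S, V) Γ(X, U))
  exact ⟨d, (hasTorDimLE_iff_torAmp _ d).2 (torAmp_of_projDim (ModuleCat.of _ Γ(X, U)) d)⟩
end W1
end H


open AlgebraicGeometry CategoryTheory Limits in
/-- A morphism locally of finite type to a regular scheme S (locally Noetherian with all local rings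
regular) whose affine opens have finite Krull dimension is perfect. (The published statement carries
no dimension hypothesis; its proof is the ring statement for a finite type algebra over a regular
ring of finite dimension, so finite Krull dimension of the affine opens of S is assumed here.) -/
theorem result {X S : Scheme.{u}} (f : X ⟶ S) [LocallyOfFiniteType f] [IsLocallyNoetherian S]
    (hreg : ∀ s : S, IsRegularLocalRing (S.presheaf.stalk s))
    (hdim : ∀ V : S.Opens, IsAffineOpen V → ringKrullDim Γ(S, V) < ⊤) :
    MoreMor.IsPerfectMor f := by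
  exact W1.main f hreg hdim

end Groth.Agent.S7173
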