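import Groth.Statements.S7174
import Groth.Agent.Lib.Helper15.RelPC24
-- import your own Groth.Agent.* helpers here

set_option autoImplicit false
universe u
attribute [local instance] HasDerivedCategory.standard
open FlatMor

namespace Groth.Agent.S7174

section H
namespace W1

open AlgebraicGeometry CategoryTheory Limits
open Groth.Agent.Lib.Helper15.RelPC9 Groth.Agent.Lib.Helper15.RelPC11
  Groth.Agent.Lib.Helper15.RelPC17 Groth.Agent.Lib.Helper15.RelPC21
  Groth.Agent.Lib.Helper15.RelPC22 Groth.Agent.Lib.Helper15.RelPC23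
  Groth.Agent.Lib.Helper15.RelPC24
  Groth.Agent.Lib.Helper16.TorAmp Groth.Agent.Lib.Helper16.TorBal

/-- the local statement: around a point of an affine chart. -/
theorem exists_ftd_away {X S : Scheme.{u}} (f : X ⟶ S) (V : S.Opens) (hV : IsAffineOpen V)
    (U : X.Opens) (hU : IsAffineOpen U) (e : U ≤ f ⁻¹ᵁ V)
    (hpc : letI := (f.appLE V U e).hom.toAlgebra
      MoreMor.IsPseudoCoherentHom Γ(S, V) Γ(X, U))
    (y : PrimeSpectrum Γ(X, U))
    (h : letI := (f.stalkMap (hU.fromSpec y)).hom.toAlgebra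
      DRing.HasFiniteTorDim ↑(S.presheaf.stalk (f (hU.fromSpec y)))
        ↑(X.presheaf.stalk (hU.fromSpec y))) :
    ∃ g : Γ(X, U), g ∉ y.asIdeal ∧
      FTD ((algebraMap Γ(X, U) (Localization.Away g)).comp (f.appLE V U e).hom) := by
  letI a0 : Algebra Γ(S, V) Γ(X, U) := (f.appLE V U e).hom.toAlgebra
  have hx : hU.fromSpec y ∈ U := by
    have := Set.mem_range_self (f := hU.fromSpec) y
    rw [hU.range_fromSpec] at this
    exact this
  set x := hU.fromSpec y with hxdef
  letI aB : Algebra Γ(X, U) (X.presheaf.stalk x) := X.presheaf.algebra_section_stalk ⟨x, hx⟩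
  haveI lB : IsLocalization.AtPrime (X.presheaf.stalk x) y.asIdeal :=
    hU.isLocalization_stalk' y hx
  letI aA : Algebra Γ(S, V) (X.presheaf.stalk x) :=
    ((algebraMap Γ(X, U) (X.presheaf.stalk x)).comp (algebraMap Γ(S, V) Γ(X, U))).toAlgebra
  haveI t1 : IsScalarTower Γ(S, V) Γ(X, U) (X.presheaf.stalk x) :=
    .of_algebraMap_eq (fun _ => rfl)
  letI a1 : Algebra Γ(S, V) (S.presheaf.stalk (f x)) :=
    S.presheaf.algebra_section_stalk ⟨f x, e hx⟩
  haveI l1 : IsLocalization.AtPrime (S.presheaf.stalk (f x))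
      (hV.primeIdealOf ⟨f x, e hx⟩).asIdeal := hV.isLocalization_stalk ⟨f x, e hx⟩
  letI a3 : Algebra (S.presheaf.stalk (f x)) (X.presheaf.stalk x) := (f.stalkMap x).hom.toAlgebra
  haveI t2 : IsScalarTower Γ(S, V) (S.presheaf.stalk (f x)) (X.presheaf.stalk x) := by
    refine .of_algebraMap_eq (fun a => ?_)
    change X.presheaf.germ U x hx ((f.appLE V U e).hom a) =
      (f.stalkMap x).hom (S.presheaf.germ V (f x) (e hx) a)
    rw [Scheme.Hom.appLE]
    erw [Scheme.Hom.germ_stalkMap_apply]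
    simp only [CommRingCat.hom_comp, RingHom.coe_comp, Function.comp_apply]
    exact TopCat.Presheaf.germ_res_apply X.presheaf _ x hx _
  haveI : Module.Flat Γ(S, V) (S.presheaf.stalk (f x)) :=
    IsLocalization.flat _ (hV.primeIdealOf ⟨f x, e hx⟩).asIdeal.primeCompl
  obtain ⟨d', hd'⟩ := h
  have h1 : DRing.HasTorDimLE Γ(S, V) (d' + 0) (X.presheaf.stalk x) :=
    hasTorDimLE_trans (A := Γ(S, V)) (B := S.presheaf.stalk (f x)) (C := X.presheaf.stalk x) 0 d'
      ((tdle_algebraMap 0).1 tdle_of_flat) hd'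
  obtain ⟨n, φ, hφ, hpcm⟩ := hpc
  letI aP : Algebra (MvPolynomial (Fin n) Γ(S, V)) Γ(X, U) := φ.toRingHom.toAlgebra
  haveI tP : IsScalarTower Γ(S, V) (MvPolynomial (Fin n) Γ(S, V)) Γ(X, U) :=
    .of_algebraMap_eq (fun a => (φ.commutes a).symm)
  let φ' : MvPolynomial (Fin n) Γ(S, V) →ₐ[Γ(S, V)] (X.presheaf.stalk x) :=
    (IsScalarTower.toAlgHom Γ(S, V) Γ(X, U) (X.presheaf.stalk x)).comp φ
  letI aPq : Algebra (MvPolynomial (Fin n) Γ(S, V)) (X.presheaf.stalk x) :=
    (φ' : MvPolynomial (Fin n) Γ(S, V) →+* (X.presheaf.stalk x)).toAlgebra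
  haveI tPq : IsScalarTower (MvPolynomial (Fin n) Γ(S, V)) Γ(X, U) (X.presheaf.stalk x) :=
    .of_algebraMap_eq (fun _ => rfl)
  obtain ⟨d, hd⟩ : DRing.HasFiniteTorDim (MvPolynomial (Fin n) Γ(S, V)) (X.presheaf.stalk x) :=
    ftd_presentation ⟨_, h1⟩ φ'
  let q : Ideal (MvPolynomial (Fin n) Γ(S, V)) := y.asIdeal.comap φ
  haveI : q.IsPrime := Ideal.IsPrime.comap φ
  have hsub : Algebra.algebraMapSubmonoid Γ(X, U) q.primeCompl = y.asIdeal.primeCompl := by
    ext b
    constructor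
    · rintro ⟨p, hp, rfl⟩
      exact hp
    · intro hb
      obtain ⟨p, rfl⟩ := hφ b
      exact ⟨p, hb, rfl⟩
  haveI : IsLocalization (Algebra.algebraMapSubmonoid Γ(X, U) q.primeCompl)
      (X.presheaf.stalk x) := by
    rw [hsub]
    exact lB
  obtain ⟨g, hg, hgd⟩ := exists_away_hasTorDimLE hpcm q d (X.presheaf.stalk x) hd
  refine ⟨φ g, hg, ?_⟩
  have h5 : DRing.HasTorDimLE Γ(S, V) (d + 0) (Localization.Away (φ g)) :=
    hasTorDimLE_trans (A := Γ(S, V)) (B := MvPolynomial (Fin n) Γ(S, V))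
      (C := Localization.Away (φ g)) 0 d ((tdle_algebraMap 0).1 tdle_of_flat) hgd
  have hh : ((algebraMap Γ(X, U) (Localization.Away (φ g))).comp (f.appLE V U e).hom).toAlgebra =
      (inferInstance : Algebra Γ(S, V) (Localization.Away (φ g))) :=
    Algebra.algebra_ext _ _ (fun x => (IsScalarTower.algebraMap_apply Γ(S, V) Γ(X, U) _ x).symm)
  unfold FTD
  rw [hh]
  exact ⟨_, h5⟩

theorem main {X S : Scheme.{u}} (f : X ⟶ S) (hf : MoreMor.IsPseudoCoherentMor f) :
    MoreMor.IsPerfectMor f ↔ ∀ x : X,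
      (letI := (f.stalkMap x).hom.toAlgebra
       DRing.HasFiniteTorDim ↑(S.presheaf.stalk (f x)) ↑(X.presheaf.stalk x)) := by
  constructor
  · intro h x
    obtain ⟨V, hV, hxV, -⟩ := exists_isAffineOpen_mem_and_subset (x := f x) (U := ⊤) trivial
    obtain ⟨U, hU, hxU, hUV'⟩ := exists_isAffineOpen_mem_and_subset (x := x) (U := f ⁻¹ᵁ V) hxV
    have hUV : U ≤ f ⁻¹ᵁ V := hUV'
    obtain ⟨-, d, hd⟩ := h U V hU hV hUV
    exact ⟨d, hasTorDimLE_stalk_of_appLE f V hV U hU hUV hxU d hd⟩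
  · intro h U V hU hV e
    refine ⟨hf U V hU hV e, ?_⟩
    change FTD (f.appLE V U e).hom
    let s : Set Γ(X, U) :=
      {g | FTD ((algebraMap Γ(X, U) (Localization.Away g)).comp (f.appLE V U e).hom)}
    refine ftd_ofLocalizationSpanTarget (f.appLE V U e).hom s ?_ (fun r => r.2)
    by_contra hne
    obtain ⟨m, hm, hle⟩ := Ideal.exists_le_maximal _ hne
    let y : PrimeSpectrum Γ(X, U) := ⟨m, hm.isPrime⟩
    obtain ⟨g, hg, hgs⟩ := exists_ftd_away f V hV U hU e (hf U V hU hV e) y (h _)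
    exact hg (hle (Ideal.subset_span hgs))

end W1
end H


open AlgebraicGeometry CategoryTheory Limits in
/-- (1) ⇔ (3): for a pseudo-coherent f : X → S, f is perfect exactly when, at every point x of X, the
stalk O_{X,x}, viewed as a module over O_{S,f(x)} through the stalk map, is of finite tor dimension.
(The intermediate condition on the structure sheaf as a sheaf of f⁻¹O_S-modules is not restated.) -/
theorem result {X S : Scheme.{u}} (f : X ⟶ S) (hf : MoreMor.IsPseudoCoherentMor f) :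
    MoreMor.IsPerfectMor f ↔ ∀ x : X,
      (letI := (f.stalkMap x).hom.toAlgebra
       DRing.HasFiniteTorDim ↑(S.presheaf.stalk (f x)) ↑(X.presheaf.stalk x)) := by
  exact W1.main f hf

end Groth.Agent.S7174
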