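import Groth.Statements.S7175
import Groth.Agent.S7170
import Groth.Agent.S1105
import Groth.Agent.S6954
import Groth.Agent.Lib.Helper16.AffRed10
import Groth.Agent.Lib.Helper16.AffRed7
import Groth.Agent.Lib.Helper16.TorBal6
import Groth.Agent.Lib.Helper16.RS12

set_option autoImplicit false
universe u
attribute [local instance] HasDerivedCategory.standard
open FlatMor

namespace Groth.Agent.S7175

open AlgebraicGeometry CategoryTheory Limits in
/-- For a perfect closed immersion i : Z → X, the O_X-module i_* O_Z is a perfect object of D(O_X). -/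
theorem result {Z X : Scheme.{u}} (i : Z ⟶ X) [IsClosedImmersion i]
    (hi : MoreMor.IsPerfectMor i) :
    DCoh.IsPerfect (DCoh.inD X ((Coh.push i).obj (Coh.structureModule Z))) := by
  have hpc := (Groth.Agent.S7170.result i).1 (fun U V hU hV hUV => (hi U V hU hV hUV).1)
  apply Groth.Agent.Lib.Helper16.AffRed.isPerfect_of_cover
  intro x
  obtain ⟨V, hV, hxV, -⟩ := exists_isAffineOpen_mem_and_subset (x := x) (U := ⊤) trivial
  have hW : IsAffineOpen (i ⁻¹ᵁ V) := hV.preimage i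
  have key : ∀ (ψ : Γ(X, V) ⟶ Γ(Z, i ⁻¹ᵁ V)), ψ = i.appLE V (i ⁻¹ᵁ V) le_rfl →
      (letI := ψ.hom.toAlgebra
       MoreMor.IsPerfectHom Γ(X, V) Γ(Z, i ⁻¹ᵁ V)) := by
    rintro _ rfl
    exact hi _ _ hW hV le_rfl
  have hperf := key (i.app V) (Scheme.Hom.app_eq_appLE i)
  have hpcV := hpc V hV
  letI : Algebra Γ(X, V) Γ(Z, i ⁻¹ᵁ V) := (i.app V).hom.toAlgebra
  let a : Spec (CommRingCat.of Γ(Z, i ⁻¹ᵁ V)) ≅ ((i ⁻¹ᵁ V : Z.Opens) : Scheme.{u}) :=
    hW.isoSpec.symm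
  let b : Spec (CommRingCat.of Γ(X, V)) ≅ (V : Scheme.{u}) := hV.isoSpec.symm
  have sq : a.hom ≫ (i ∣_ V) =
      Spec.map (CommRingCat.ofHom (algebraMap Γ(X, V) Γ(Z, i ⁻¹ᵁ V))) ≫ b.hom := by
    rw [← cancel_mono V.ι]
    have h1 := IsAffineOpen.SpecMap_appLE_fromSpec i hV hW le_rfl
    rw [Scheme.Hom.appLE_eq_app] at h1
    simp only [Category.assoc, morphismRestrict_ι]
    exact h1.symm
  refine ⟨_, b.hom ≫ V.ι, inferInstance,
    Groth.Agent.Lib.Helper16.AffRed.mem_range_chart V b x hxV, ?_⟩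
  refine Groth.Agent.Lib.Helper16.RS.isPerfect_of_iso
    (Groth.Agent.Lib.Helper16.AffRed.chartPushUnitIso i V a b sq).symm ?_
  rw [Groth.Agent.S1105.result, Groth.Agent.S6954.result]
  refine ⟨hpcV, ?_⟩
  obtain ⟨d, hd⟩ := hperf.2
  exact ⟨-(d : ℤ), 0, (Groth.Agent.Lib.Helper16.TorBal.hasTorDimLE_iff_torAmp _ d).1 hd⟩

end Groth.Agent.S7175
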