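import Groth.Statements.S7176
import Groth.Agent.Lib.Helper7.AvrImm
import Groth.Agent.Lib.Helper7.RegAtKind
import Groth.Agent.Lib.Helper5.RegSchImm

set_option autoImplicit false
universe u
attribute [local instance] HasDerivedCategory.standard
open FlatMor
open AlgebraicGeometry CategoryTheory Limits Groth.Agent.Lib.Helper5.Lci
  Groth.Agent.Lib.Helper5.RegImmA Groth.Agent.Lib.Helper7.RegAtKind

namespace Groth.Agent.S7176

open AlgebraicGeometry CategoryTheory Limits in
/-- Let i : Z → Y and j : Y → X be immersions with X locally Noetherian, j ∘ i a regular immersion and i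
perfect. Then i is a regular immersion and j is a regular immersion at every point i(z), z in Z.
(The published statement concludes that j is a regular immersion outright; its proof works in the
local rings of X at points of Z, and for Z empty the hypotheses hold for every immersion j, so the
conclusion on j is stated at the points of i(Z) only.) Over a locally Noetherian scheme the four
kinds of regular immersion agree; the kind is a parameter here. -/
theorem result {Z Y X : Scheme.{u}} (i : Z ⟶ Y) (j : Y ⟶ X) [IsImmersion i] [IsImmersion j]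
    [IsLocallyNoetherian X] (k : RegImm.Kind) (h : RegImm.IsRegularImmersion k (i ≫ j)) (hi : MoreMor.IsPerfectMor i) :
    RegImm.IsRegularImmersion k i ∧ ∀ z : Z, RegImm.IsRegularImmersionAt k j (i z) := by
  haveI : IsLocallyNoetherian Y := LocallyOfFiniteType.isLocallyNoetherian j
  have key : ∀ z : Z, RegImm.IsRegularImmersionAt RegImm.Kind.koszul i z ∧
      RegImm.IsRegularImmersionAt RegImm.Kind.koszul j (i z) := by
    intro z
    obtain ⟨⟨U, hU⟩, hzU, hc, rs, hrs, hker⟩ := at_regular_of_at (i ≫ j) z k (h.2 z)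
    have hzU' : j (i z) ∈ U := hzU
    have hxO : j (i z) ∈ j.coborderRange := subset_coborder ⟨i z, rfl⟩
    obtain ⟨a, ha, hxa⟩ := hU.exists_basicOpen_le (V := j.coborderRange) ⟨j (i z), hxO⟩ hzU'
    have hW : IsAffineOpen (X.basicOpen a) := hU.basicOpen a
    have hcj : IsClosedImmersion (j ∣_ X.basicOpen a) :=
      Groth.Agent.Lib.Helper5.RegSchImm.isClosedImmersion_restrict_of_le_coborderRange j ha
    haveI : IsClosedImmersion ((i ≫ j) ∣_ U) := hc
    have hcij : IsClosedImmersion ((i ≫ j) ∣_ X.basicOpen a) :=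
      isClosedImmersion_restrict_of_le (i ≫ j) (X.basicOpen_le a)
    have hn : Nontrivial Γ(Z, (i ≫ j) ⁻¹ᵁ X.basicOpen a) := by
      have : Nonempty ↥((i ≫ j) ⁻¹ᵁ X.basicOpen a) := ⟨⟨z, hxa⟩⟩
      infer_instance
    obtain ⟨hreg, hkerW⟩ := Groth.Agent.Lib.Helper5.RegComp.shrinkReg (i ≫ j) hU hW
      (X.basicOpen_le a) rs hrs hker hn
    have hV : IsAffineOpen (j ⁻¹ᵁ X.basicOpen a) := isAffineOpen_preimage_of_restrict j hW
    have hφ := app_surjective_of_restrict j hW
    have hci : IsClosedImmersion (i ∣_ (j ⁻¹ᵁ X.basicOpen a)) := by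
      have h1 : IsClosedImmersion (i ∣_ (j ⁻¹ᵁ X.basicOpen a) ≫ j ∣_ X.basicOpen a) := by
        rw [← morphismRestrict_comp]
        exact hcij
      exact IsClosedImmersion.of_comp (i ∣_ (j ⁻¹ᵁ X.basicOpen a)) (j ∣_ X.basicOpen a)
    have hT : IsAffineOpen (i ⁻¹ᵁ (j ⁻¹ᵁ X.basicOpen a)) := isAffineOpen_preimage_of_restrict i hV
    have hψ := app_surjective_of_restrict i hV
    have hperf := hi (i ⁻¹ᵁ (j ⁻¹ᵁ X.basicOpen a)) (j ⁻¹ᵁ X.basicOpen a) hT hV le_rfl
    have hftd : Groth.Agent.Lib.Helper15.RelPC11.FTD (i.app (j ⁻¹ᵁ X.basicOpen a)).hom := by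
      have h2 := hperf.2
      rw [← Scheme.Hom.app_eq_appLE] at h2
      exact h2
    have hcomp : (i.app (j ⁻¹ᵁ X.basicOpen a)).hom.comp (j.app (X.basicOpen a)).hom =
        ((i ≫ j).app (X.basicOpen a)).hom := by
      rw [Scheme.Hom.comp_app]
      rfl
    have hK0 : LCI.IsKoszulRegularIdeal (RingHom.ker ((i ≫ j).app (X.basicOpen a)).hom) := by
      rw [hkerW]
      exact isKoszulRegularIdeal_ofList _ (koszul_of_regular _ hreg)
    have hK : LCI.IsKoszulRegularIdeal (RingHom.ker
        ((i.app (j ⁻¹ᵁ X.basicOpen a)).hom.comp (j.app (X.basicOpen a)).hom)) := hK0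
    haveI : IsNoetherianRing Γ(X, X.basicOpen a) :=
      IsLocallyNoetherian.component_noetherian ⟨_, hW⟩
    obtain ⟨h1, h2⟩ := Groth.Agent.Lib.Helper7.AvrImm.avramov_surj (j.app (X.basicOpen a)).hom hφ
      (i.app (j ⁻¹ᵁ X.basicOpen a)).hom hψ hK hftd
    refine ⟨isRegularImmersionAt_of_kr_ideal i hV h1 z hxa, ?_⟩
    have hle : RingHom.ker ((i.app (j ⁻¹ᵁ X.basicOpen a)).hom.comp (j.app (X.basicOpen a)).hom) ≤
        (hW.primeIdealOf ⟨j (i z), hxa⟩).asIdeal := by
      exact ker_le_primeIdealOf (i ≫ j) hW (isAffineOpen_preimage_of_restrict (i ≫ j) hW) z hxa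
    obtain ⟨g, hg, l, hl, hJ⟩ := h2 (hW.primeIdealOf ⟨j (i z), hxa⟩).asIdeal hle
    obtain ⟨hU₁, hc₁, hz₁, loc₁, -, hk₁⟩ :=
      Groth.Agent.Lib.Helper5.RegSpreadSch.step j hW (i z) hxa g hg
    obtain ⟨l', hl', hJ'⟩ := Groth.Agent.Lib.Helper7.AvrImm.kr_transport g
      Γ(X, X.basicOpen g) (RingHom.ker (j.app (X.basicOpen a)).hom) _ hl hJ
    exact ⟨⟨X.basicOpen g, hU₁⟩, hz₁, hc₁, l', hl', hk₁.trans hJ'⟩
  exact ⟨⟨inferInstance, fun z => at_of_at i z _ k (key z).1⟩,
    fun z => at_of_at j (i z) _ k (key z).2⟩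

end Groth.Agent.S7176
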