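import Groth.Statements.S7184
import Groth.Agent.Lib.Helper28.AmpleFamily

set_option autoImplicit false
universe u
open FlatMor

open AlgebraicGeometry CategoryTheory CategoryTheory.Limits Groth.Agent.Lib.Helper28.GenLocus Groth.Agent.Lib.Helper28.AmpleFamily Groth.Agent.Lib.Helper28.AmpleUnit Groth.Agent.Lib.Helper28.AmpleIso

namespace Groth.Agent.S7184

open AlgebraicGeometry CategoryTheory Limits in
/-- If f : X → Y is affine or quasi-affine and Y has an ample family of invertible modules, then X has
an ample family of invertible modules. -/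
theorem result {X Y : Scheme.{u}} (f : X ⟶ Y) (hf : IsAffineHom f ∨ Mor2.IsQuasiAffine f)
    (hY : MoreMor.HasAmpleFamily Y) : MoreMor.HasAmpleFamily X := by
  classical
  have key : ∀ V : Y.Opens, IsAffineOpen V → Scheme.IsQuasiAffine (f ⁻¹ᵁ V : Scheme.{u}) := by
    intro V hV
    rcases hf with hf | hf
    · have h1 : IsAffineOpen (f ⁻¹ᵁ V) := hV.preimage f
      have : IsAffine (f ⁻¹ᵁ V : Scheme.{u}) := h1
      infer_instance
    · exact hf.2 V hV
  have hqc : QuasiCompact f := by
    rcases hf with hf | hf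
    · infer_instance
    · exact hf.1
  refine hasAmpleFamily_of_isRelAmple f hY (Coh.structureModule X) ⟨hqc, fun V => ?_⟩
  have hQ := key V.1 V.2
  have hc : CompactSpace ↥(f ⁻¹ᵁ V.1) := hQ.toCompactSpace
  have hA : CohB1.IsAmple (Coh.structureModule (f ⁻¹ᵁ V.1 : Scheme.{u})) :=
    (isQuasiAffine_iff_isAmple_unit _).1 hQ
  exact isAmple_of_iso (Scheme.Modules.restrictUnitIso (f ⁻¹ᵁ V.1).ι).symm hA

end Groth.Agent.S7184
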