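import Groth.Statements.S7210
import Groth.Agent.Lib.Helper16.CI21

set_option autoImplicit false
universe u
open CategoryTheory CategoryTheory.Limits AlgebraicGeometry Opposite TopologicalSpace
attribute [local instance] HasDerivedCategory.standard
open FlatMor

namespace Groth.Agent.S7210

/-- Let p : X ⟶ S and q : Y ⟶ S be locally of finite type and π : X ⟶ Y a finite morphism over S (π ≫ q
= p). Let E be an object of D(O_X) all of whose cohomology sheaves are quasi-coherent, and m an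
integer. Then, Rπ_* being assumed to exist, relative m-pseudo-coherence of E with respect to p is
equivalent to relative m-pseudo-coherence of Rπ_* E with respect to q (chart form). -/
theorem result {X Y S : Scheme.{u}} (p : X ⟶ S) (q : Y ⟶ S)
    [LocallyOfFiniteType p] [LocallyOfFiniteType q] (π : X ⟶ Y) [IsFinite π] (w : π ≫ q = p)
    [DCoh.HasRpush π] (m : ℤ) (E : DCoh.D X) (hE : DCoh.IsQCohD E) :
    DerSch.IsPseudoCoherentRel p m E ↔ DerSch.IsPseudoCoherentRel q m ((DCoh.Rpush π).obj E) := by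
  subst w
  constructor
  · intro h
    refine Groth.Agent.Lib.Helper16.CI.isPseudoCoherentRel_of_forall q m _ (fun W V hWV => ?_)
    have hU : IsAffineOpen (π ⁻¹ᵁ (W : Y.Opens)) := W.2.preimage π
    have hUV : π ⁻¹ᵁ (W : Y.Opens) ≤ (π ≫ q) ⁻¹ᵁ (V : S.Opens) := fun x hx => hWV hx
    obtain ⟨n', ψ, hψ⟩ := Groth.Agent.Lib.Helper16.CI.exists_isChart q W.2 V.2 hWV
    obtain ⟨n, φ, hφ⟩ := Groth.Agent.Lib.Helper16.CI.exists_isChart (π ≫ q) hU V.2 hUV
    exact ⟨n', ψ, hψ, (Groth.Agent.Lib.Helper16.CI.chartPC_Rpush_iff q π m E hE W.2 V.2 hWV hUV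
      φ hφ ψ hψ).1
      (Groth.Agent.Lib.Helper16.CI.chartPC_of_isPseudoCoherentRel (π ≫ q) m E h hU V.2 hUV φ hφ)⟩
  · intro h
    refine ⟨inferInstance, Set.univ, ?_, fun V _ => ?_⟩
    · have := Groth.Agent.Lib.Helper16.CI.iSup_affineOpens_le (⊤ : S.Opens)
      simpa using this
    · refine ⟨{U : X.affineOpens | ∃ W : Y.affineOpens, (W : Y.Opens) ≤ q ⁻¹ᵁ (V : S.Opens) ∧
          (U : X.Opens) = π ⁻¹ᵁ (W : Y.Opens)}, ?_, ?_⟩
      · apply le_antisymm
        · refine iSup₂_le fun U hU => ?_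
          obtain ⟨W, hWV, hUW⟩ := hU
          rw [hUW]
          exact fun x hx => hWV hx
        · intro x hx
          have hx' : π x ∈ q ⁻¹ᵁ (V : S.Opens) := hx
          obtain ⟨_, ⟨W, hW, rfl⟩, hxW, hWV⟩ :=
            (Y.isBasis_affineOpens).exists_subset_of_mem_open hx' (q ⁻¹ᵁ (V : S.Opens)).isOpen
          rw [TopologicalSpace.Opens.mem_iSup]
          refine ⟨⟨π ⁻¹ᵁ W, IsAffineOpen.preimage hW π⟩, ?_⟩
          rw [TopologicalSpace.Opens.mem_iSup]
          exact ⟨⟨⟨W, hW⟩, hWV, rfl⟩, hxW⟩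
      · rintro ⟨U, hU⟩ ⟨W, hWV, hUW⟩ hUV
        change U = π ⁻¹ᵁ (W : Y.Opens) at hUW
        subst hUW
        obtain ⟨n', ψ, hψ⟩ := Groth.Agent.Lib.Helper16.CI.exists_isChart q W.2 V.2 hWV
        obtain ⟨n, φ, hφ⟩ := Groth.Agent.Lib.Helper16.CI.exists_isChart (π ≫ q) hU V.2 hUV
        exact ⟨n, φ, hφ, (Groth.Agent.Lib.Helper16.CI.chartPC_Rpush_iff q π m E hE W.2 V.2 hWV
          hUV φ hφ ψ hψ).2
          (Groth.Agent.Lib.Helper16.CI.chartPC_of_isPseudoCoherentRel q m _ h W.2 V.2 hWV ψ hψ)⟩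

end Groth.Agent.S7210
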