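import Groth.Statements.S7212
import Groth.Agent.Lib.Helper16.CI25

set_option autoImplicit false
universe u
open CategoryTheory CategoryTheory.Limits AlgebraicGeometry Opposite TopologicalSpace
attribute [local instance] HasDerivedCategory.standard
open FlatMor

namespace Groth.Agent.S7212

/-- Let f : X ⟶ S be locally of finite type and M an O_X-module, viewed in degree 0 of D(O_X); relative
pseudo-coherence is in chart form. Then (1) M is m-pseudo-coherent relative to f for every integer m
> 0; (2) M is 0-pseudo-coherent relative to f if and only if M is an O_X-module of finite type; (3)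
M is (-1)-pseudo-coherent relative to f if and only if M is quasi-coherent and finitely presented
relative to f (on the members of suitable affine open covers of S and of the preimages, the module
of sections is finitely presented over the base ring through a polynomial surjection). -/
theorem result {X S : Scheme.{u}} (f : X ⟶ S)
    [LocallyOfFiniteType f] (M : X.Modules) :
    (∀ m : ℤ, 0 < m → DerSch.IsPseudoCoherentRel f m (DCoh.inD X M)) ∧
      (DerSch.IsPseudoCoherentRel f 0 (DCoh.inD X M) ↔ CohB1.IsFT M) ∧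
      (DerSch.IsPseudoCoherentRel f (-1) (DCoh.inD X M) ↔ (Coh.IsQCoh M ∧ Flatn.IsRelFP f M)) := by
  refine ⟨fun m hm => ?_, ?_, ?_⟩
  · exact Groth.Agent.Lib.Helper16.CI.isPseudoCoherentRel_of_isLE f m _
      ((DerivedCategory.TStructure.t).isLE_of_le (DCoh.inD X M) 0 (m - 1) (by omega))
  · rw [Groth.Agent.Lib.Helper16.CI.isPseudoCoherentRel_zero_inD_iff]
    exact (Groth.Agent.S6518.result M).1
  · constructor
    · intro h
      haveI hq := Groth.Agent.Lib.Helper16.CI.isQuasicoherent_of_isPseudoCoherentRel f M h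
      refine ⟨hq, ?_⟩
      obtain ⟨_, 𝒱, hcov, H⟩ := h
      refine ⟨𝒱, hcov, fun V hV => ?_⟩
      obtain ⟨𝒰, h𝒰, H2⟩ := H V hV
      refine ⟨𝒰, h𝒰, fun U hU hle => ?_⟩
      obtain ⟨n, φ, hφ, hc⟩ := H2 U hU hle
      have h1 := (Groth.Agent.Lib.Helper16.CI.chartPC_negOne_inD_iff f M U.2 hle φ hφ).1 hc
      letI := (f.appLE (V : S.Opens) (U : X.Opens) hle).hom.toAlgebra
      let α : MvPolynomial (Fin n) Γ(S, (V : S.Opens)) →ₐ[Γ(S, (V : S.Opens))]
          Γ(X, (U : X.Opens)) :=
        { φ with commutes' := fun r => congrArg (fun g => g r) hφ.2 }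
      exact ⟨n, α, hφ.1, h1⟩
    · rintro ⟨hq, 𝒱, hcov, H⟩
      haveI : M.IsQuasicoherent := hq
      refine ⟨inferInstance, 𝒱, hcov, fun V hV => ?_⟩
      obtain ⟨𝒰, h𝒰, H2⟩ := H V hV
      refine ⟨𝒰, h𝒰, fun U hU hle => ?_⟩
      letI := (f.appLE (V : S.Opens) (U : X.Opens) hle).hom.toAlgebra
      obtain ⟨n, α, hα, hfp⟩ := H2 U hU hle
      have hφ : DerSch.IsChart f (U : X.Opens) (V : S.Opens) hle α.toRingHom :=
        ⟨hα, RingHom.ext (fun r => α.commutes r)⟩
      exact ⟨n, α.toRingHom, hφ,
        (Groth.Agent.Lib.Helper16.CI.chartPC_negOne_inD_iff f M U.2 hle α.toRingHom hφ).2 hfp⟩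

end Groth.Agent.S7212
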