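import Groth.Statements.S7214
import Groth.Agent.Lib.Helper1.LocPC3

set_option autoImplicit false
universe u
open CategoryTheory CategoryTheory.Limits AlgebraicGeometry Opposite TopologicalSpace
attribute [local instance] HasDerivedCategory.standard
open FlatMor

namespace Groth.Agent.S7214

open Groth.Agent.Lib.Helper1.LocPC Groth.Agent.Lib.Helper16.RS

lemma isPseudoCoherentD_of_iso {Z : Scheme.{u}} {m : ℤ} {K K' : DCoh.D Z} (e : K ≅ K')
    (h : DCoh.IsPseudoCoherentD m K) : DCoh.IsPseudoCoherentD m K' := by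
  rw [isPseudoCoherentD_iff] at h ⊢
  exact fun x => (h x).of_iso e

attribute [local instance] preservesBinaryBiproducts_of_preservesBiproducts in
lemma chartPC_of_biprod {X S : Scheme.{u}} (m : ℤ) (E K : DCoh.D X)
    [HasBinaryBiproduct E K] (U : X.Opens) (V : S.Opens) {n : ℕ}
    (φ : MvPolynomial (Fin n) Γ(S, V) →+* Γ(X, U))
    (h : DerSch.ChartPC m (E ⊞ K) U V φ) : DerSch.ChartPC m E U V φ := by
  rintro G ⟨e⟩
  obtain ⟨G', ⟨e'⟩⟩ := exists_rep K
  let F : CochainComplex X.Modules ℤ ⥤ CochainComplex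
      (Spec (CommRingCat.of (MvPolynomial (Fin n) Γ(S, V)))).Modules ℤ :=
    DCoh.restrictCx U ⋙ DerSch.pushCx (DerSch.chartImm U φ)
  have h1 := h (G ⊞ G') ⟨DerivedCategory.Q.mapBiprod G G' ≪≫ biprod.mapIso e e'⟩
  have h2 : DCoh.IsPseudoCoherentD m
      (DerivedCategory.Q.obj (F.obj G) ⊞ DerivedCategory.Q.obj (F.obj G')) :=
    isPseudoCoherentD_of_iso
      (DerivedCategory.Q.mapIso (F.mapBiprod G G') ≪≫ DerivedCategory.Q.mapBiprod _ _) h1
  exact ((isPseudoCoherentD_iff m _).2 fun x =>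
    (PCAt.of_biprod m _ _ x ((isPseudoCoherentD_iff m _).1 h2 x)).1)

/-- Let f : X ⟶ S be a morphism of schemes, m an integer, and E, K objects of D(O_X). If the direct sum
E ⊕ K is m-pseudo-coherent relative to f (chart form; in particular f is locally of finite type),
then so are E and K. -/
theorem result {X S : Scheme.{u}} (f : X ⟶ S) (m : ℤ) (E K : DCoh.D X)
    [HasBinaryBiproduct E K] (h : DerSch.IsPseudoCoherentRel f m (E ⊞ K)) :
    DerSch.IsPseudoCoherentRel f m E ∧ DerSch.IsPseudoCoherentRel f m K := by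
  obtain ⟨hf, 𝒱, h𝒱, h⟩ := h
  constructor
  · refine ⟨hf, 𝒱, h𝒱, fun V hV => ?_⟩
    obtain ⟨𝒰, h𝒰, hU⟩ := h V hV
    refine ⟨𝒰, h𝒰, fun U hU' hle => ?_⟩
    obtain ⟨n, φ, hφ, hc⟩ := hU U hU' hle
    exact ⟨n, φ, hφ, chartPC_of_biprod m E K _ _ φ hc⟩
  · refine ⟨hf, 𝒱, h𝒱, fun V hV => ?_⟩
    obtain ⟨𝒰, h𝒰, hU⟩ := h V hV
    refine ⟨𝒰, h𝒰, fun U hU' hle => ?_⟩
    obtain ⟨n, φ, hφ, hc⟩ := hU U hU' hle
    refine ⟨n, φ, hφ, chartPC_of_biprod m K E _ _ φ ?_⟩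
    rintro G ⟨e⟩
    exact hc G ⟨e ≪≫ biprod.braiding K E⟩

end Groth.Agent.S7214
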