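import Groth.Statements.S7217
import Groth.Agent.Lib.Helper16.CI19

set_option autoImplicit false
universe u
open CategoryTheory CategoryTheory.Limits AlgebraicGeometry Opposite TopologicalSpace
attribute [local instance] HasDerivedCategory.standard
open FlatMor

namespace Groth.Agent.S7217

/-- Let f : X ⟶ S be a morphism of schemes, U ⊆ X and V ⊆ S affine opens with f(U) ⊆ V such that Γ(S, V)
→ Γ(X, U) is of finite type, E an object of D(O_X), m an integer, and g_1, …, g_k ∈ Γ(X, U) elements
generating the unit ideal, so that the basic opens D(g_j) form a standard affine open covering of U.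
Then the following are equivalent: for every j there is a surjection from a polynomial ring Γ(S,
V)[x_1, …, x_n] onto Γ(X, D(g_j)), compatible with f, along whose closed immersion into affine space
over V the direct image of E restricted to D(g_j) is m-pseudo-coherent; there is such a surjection
onto Γ(X, U) along whose closed immersion the direct image of E|_U is m-pseudo-coherent. -/
theorem result {X S : Scheme.{u}} (f : X ⟶ S) (U : X.affineOpens)
    (V : S.affineOpens) (h : (U : X.Opens) ≤ f ⁻¹ᵁ (V : S.Opens))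
    (hft : (f.appLE (V : S.Opens) (U : X.Opens) h).hom.FiniteType) (m : ℤ) (E : DCoh.D X)
    {k : ℕ} (g : Fin k → Γ(X, (U : X.Opens))) (hg : Ideal.span (Set.range g) = ⊤) :
    (∀ j : Fin k, ∃ (n : ℕ) (φ : MvPolynomial (Fin n) Γ(S, (V : S.Opens)) →+* Γ(X, X.basicOpen (g j))),
        DerSch.IsChart f (X.basicOpen (g j)) (V : S.Opens) ((X.basicOpen_le (g j)).trans h) φ ∧
          DerSch.ChartPC m E (X.basicOpen (g j)) (V : S.Opens) φ) ↔
      ∃ (n : ℕ) (φ : MvPolynomial (Fin n) Γ(S, (V : S.Opens)) →+* Γ(X, (U : X.Opens))),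
        DerSch.IsChart f (U : X.Opens) (V : S.Opens) h φ ∧ DerSch.ChartPC m E (U : X.Opens) (V : S.Opens) φ := by
  have hU : IsAffineOpen (U : X.Opens) := U.2
  have hV : IsAffineOpen (V : S.Opens) := V.2
  constructor
  · intro H
    obtain ⟨n, φ, hφ⟩ := Groth.Agent.Lib.Helper16.CI.exists_isChart_of_finiteType f h hft
    refine ⟨n, φ, hφ, ?_⟩
    refine Groth.Agent.Lib.Helper16.CI.chartPC_of_cover f m E hU hV h φ hφ (fun x hx => ?_)
    -- the point of `Spec Γ(X, U)` over `x`
    have hxr : x ∈ Set.range hU.fromSpec := by rw [hU.range_fromSpec]; exact hx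
    obtain ⟨y, rfl⟩ := hxr
    have hex : ∃ j, g j ∉ y.asIdeal := by
      by_contra hcon
      push Not at hcon
      have : Ideal.span (Set.range g) ≤ y.asIdeal := by
        rw [Ideal.span_le]
        rintro _ ⟨j, rfl⟩
        exact hcon j
      rw [hg] at this
      exact y.isPrime.ne_top (top_le_iff.1 this)
    obtain ⟨j, hj⟩ := hex
    obtain ⟨n₀, φ₀, hφ₀, hc₀⟩ := H j
    refine ⟨X.basicOpen (g j), hU.basicOpen (g j), V, hV, _, n₀, φ₀, hφ₀, hc₀, ?_⟩
    have h3 : hU.fromSpec y ∈ X.basicOpen (g j) ↔ y ∈ PrimeSpectrum.basicOpen (g j) := by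
      rw [← hU.fromSpec_preimage_basicOpen]
      rfl
    exact h3.2 hj
  · rintro ⟨n, φ, hφ, hc⟩ j
    have hW : IsAffineOpen (X.basicOpen (g j)) := hU.basicOpen (g j)
    have hWU : X.basicOpen (g j) ≤ (U : X.Opens) := X.basicOpen_le (g j)
    have hWV : X.basicOpen (g j) ≤ f ⁻¹ᵁ (V : S.Opens) := hWU.trans h
    obtain ⟨n₀, φ₀, hφ₀⟩ := Groth.Agent.Lib.Helper16.CI.exists_isChart_of_finiteType f hWV (by
      have e : f.appLE (V : S.Opens) (X.basicOpen (g j)) hWV =
          f.appLE (V : S.Opens) (U : X.Opens) h ≫ X.presheaf.map (homOfLE hWU).op :=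
        (f.appLE_map h (homOfLE hWU).op).symm
      rw [e]
      exact RingHom.FiniteType.comp
        (Groth.Agent.Lib.Helper16.CI.finiteType_res_basicOpen hU (g j)) hft)
    refine ⟨n₀, φ₀, hφ₀, ?_⟩
    refine Groth.Agent.Lib.Helper16.CI.chartPC_of_cover f m E hW hV hWV φ₀ hφ₀ (fun x hx => ?_)
    exact ⟨U, hU, V, hV, h, n, φ, hφ, hc, hWU hx⟩

end Groth.Agent.S7217
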