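import Groth.Statements.S7234
import Groth.Agent.Lib.Helper16.CI14
import Groth.Agent.S0997

set_option autoImplicit false
universe u
open CategoryTheory CategoryTheory.Limits AlgebraicGeometry Opposite TopologicalSpace
attribute [local instance] HasDerivedCategory.standard
open FlatMor

namespace Groth.Agent.S7234

open Groth.Agent.Lib.Helper16.CI Groth.Agent.Lib.Helper16.RS Groth.Agent.Lib.Helper16.AffRed
  Groth.Agent.Lib.Helper1.LocPC

lemma isQCohD_of_iso {Z : Scheme.{u}} {K K' : DCoh.D Z} (e : K ≅ K') (h : DCoh.IsQCohD K) :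
    DCoh.IsQCohD K' := by
  intro i
  haveI : (DCoh.HD K i).IsQuasicoherent := h i
  exact (SheafOfModules.isQuasicoherent Z.ringCatSheaf).prop_of_iso
    ((DerivedCategory.homologyFunctor Z.Modules i).mapIso e) (h i)

/-- (1) ⇔ (3): let f : X ⟶ S be locally of finite type, E an object of D(O_X) all of whose cohomology
sheaves are quasi-coherent, and m an integer. Then E is m-pseudo-coherent relative to f (chart form)
if and only if for every affine open U of X mapping into an affine open V of S the complex RΓ(U, E),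
viewed in D(Γ(X, U)), is m-pseudo-coherent relative to Γ(S, V) in the ring-level sense. Here RΓ(U,
E) is expressed through the equivalence of D(Γ(X, U)) with the quasi-coherent derived category of
the affine scheme U: the condition is asked of every object M of D(Γ(X, U)) whose associated complex
of modules on Spec Γ(X, U) is isomorphic to E|_U carried along U ≅ Spec Γ(X, U) (the functor M ↦ M~
being assumed left exact, which it is). -/
theorem result {X S : Scheme.{u}} (f : X ⟶ S)
    [LocallyOfFiniteType f] [∀ U : X.affineOpens, PreservesFiniteLimits (tilde.functor (X.presheaf.obj (op (U : X.Opens))))]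
    (E : DCoh.D X) (hE : DCoh.IsQCohD E) (m : ℤ) :
    DerSch.IsPseudoCoherentRel f m E ↔
      ∀ (U : X.affineOpens) (V : S.affineOpens) (h : (U : X.Opens) ≤ f ⁻¹ᵁ (V : S.Opens))
        (G : CochainComplex X.Modules ℤ), Nonempty (DCoh.toD X G ≅ E) →
        ∀ M : Dual.D Γ(X, (U : X.Opens)),
          Nonempty ((DCoh.tildeD (X.presheaf.obj (op (U : X.Opens)))).obj M ≅
            DCoh.toD _ ((DerSch.pushCx U.2.isoSpec.hom).obj ((DCoh.restrictCx (U : X.Opens)).obj G))) →
          letI := (f.appLE (V : S.Opens) (U : X.Opens) h).hom.toAlgebra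
          DerCA.IsRelPseudoCoherent Γ(S, (V : S.Opens)) Γ(X, (U : X.Opens)) m M := by
  constructor
  · intro hrel U V h G ⟨eG⟩ M ⟨eM⟩
    letI := (f.appLE (V : S.Opens) (U : X.Opens) h).hom.toAlgebra
    obtain ⟨n, φ, hφ⟩ := exists_isChart f U.2 V.2 h
    have c := chartPC_of_isPseudoCoherentRel f m E hrel U.2 V.2 h φ hφ
    have r := (chartPC_iff_ring m E U.2 (V : S.Opens) φ hφ.1 G eG M eM).1 c
    let α : MvPolynomial (Fin n) Γ(S, (V : S.Opens)) →ₐ[Γ(S, (V : S.Opens))] Γ(X, (U : X.Opens)) :=
      { φ with commutes' := fun r => congrArg (fun g => g r) hφ.2 }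
    exact ⟨n, α, hφ.1, r⟩
  · intro H
    refine isPseudoCoherentRel_of_forall f m E (fun U V h => ?_)
    obtain ⟨G, ⟨eG⟩⟩ := exists_rep E
    have hU : IsAffineOpen (U : X.Opens) := U.2
    obtain ⟨e1⟩ := nonempty_toD_pushCx_isoSpec_iso hU E G eG
    have hq : DCoh.IsQCohD (DCoh.toD _ ((DerSch.pushCx U.2.isoSpec.hom).obj
        ((DCoh.restrictCx (U : X.Opens)).obj G))) :=
      isQCohD_of_iso e1.symm (isQCohD_RD hU.fromSpec E hE)
    obtain ⟨M, ⟨eM⟩⟩ := ((Groth.Agent.S0997.result (X.presheaf.obj (op (U : X.Opens)))).2.2 _).1 hq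
    letI := (f.appLE (V : S.Opens) (U : X.Opens) h).hom.toAlgebra
    obtain ⟨n, α, hα, hvia⟩ := H U V h G ⟨eG⟩ M ⟨eM⟩
    refine ⟨n, (α : MvPolynomial (Fin n) Γ(S, (V : S.Opens)) →+* Γ(X, (U : X.Opens))),
      ⟨hα, ?_⟩, ?_⟩
    · ext r
      exact α.commutes r
    · exact (chartPC_iff_ring m E U.2 (V : S.Opens) _ hα G eG M eM).2 hvia

end Groth.Agent.S7234
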