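import Groth.Statements.S7244
import Groth.Agent.Lib.Helper16.TorAmp5
import Groth.Agent.Lib.Helper16.KD3
import Groth.Agent.Lib.Helper16.KD7
import Groth.Agent.Lib.Helper16.PB1
import Groth.Agent.Lib.Helper16.Fl2
import Groth.Agent.S6200

set_option autoImplicit false
universe u
open CategoryTheory CategoryTheory.Limits AlgebraicGeometry
attribute [local instance] HasDerivedCategory.standard
open Perf

namespace Groth.Agent.S7244

open Groth.Agent.Lib.Helper16 Groth.Agent.Lib.Helper16.Stk DerivedCategory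

/-- Let f : X ⟶ Y be a flat and surjective morphism of schemes, E ∈ D(O_Y) and a, b ∈ ℤ. Assuming the
derived pullback Lf^* exists, if Lf^*E has tor amplitude in [a, b] then so does E; tor amplitude is
stated in the flat-representative form (isomorphic to a complex of flat modules vanishing outside
[a, b]), equivalent to the derived-tensor form. (The converse, that derived pullback preserves tor
amplitude, holds for any f.) -/
theorem result {X Y : Scheme.{u}} (f : X ⟶ Y) [Flat f] [Surjective f]
    [DCoh.HasLpull f] (E : DCoh.D Y) (a b : ℤ) (h : DCoh.HasFlatAmplitudeIn a b ((DCoh.Lpull f).obj E)) :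
    DCoh.HasFlatAmplitudeIn a b E := by
  -- a K-flat representative of `E`
  let F₀ := Q.objPreimage E
  let e₀ : Q.obj F₀ ≅ E := Q.objObjPreimageIso E
  obtain ⟨G, q, hGK, -, hq, -⟩ := exists_kFlat_resolution F₀
  haveI := hq
  haveI : IsIso (Q.map q) := by rw [isIso_Q_map_iff_quasiIso]; infer_instance
  let e₁ : Q.obj G ≅ E := asIso (Q.map q) ≪≫ e₀
  have h' : DCoh.HasFlatAmplitudeIn a b (DCoh.toD X ((KD.pullCx f).obj G)) := by
    obtain ⟨E', h1, h2, ⟨e'⟩⟩ := h
    exact ⟨E', h1, h2, ⟨e' ≪≫ (DCoh.Lpull f).mapIso e₁.symm ≪≫ KD.LpullIso f G hGK⟩⟩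
  -- stalkwise tor amplitude, by faithfully flat descent
  have hst : ∀ y : Y, DRing.HasTorAmplitudeIn (Y.presheaf.stalk y) a b
      (DRing.toD (stkCx y G)) := by
    intro y
    obtain ⟨x, rfl⟩ := f.surjective y
    have h1 := Groth.Agent.S6200.forward _ a b h' x
    letI : Algebra (Y.presheaf.stalk (f.base x)) (X.presheaf.stalk x) :=
      (f.stalkMap x).hom.toAlgebra
    haveI : Module.Flat (Y.presheaf.stalk (f.base x)) (X.presheaf.stalk x) := Flat.stalkMap f x
    haveI : IsLocalHom (algebraMap (Y.presheaf.stalk (f.base x)) (X.presheaf.stalk x)) :=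
      inferInstanceAs (IsLocalHom (f.stalkMap x).hom)
    haveI : Module.FaithfullyFlat (Y.presheaf.stalk (f.base x)) (X.presheaf.stalk x) :=
      Module.FaithfullyFlat.of_flat_of_isLocalHom
    exact TorAmp.torAmp_descent (B := X.presheaf.stalk x) _ a b
      (TorAmp.hasTorAmplitudeIn_of_iso (Q.mapIso (pullbackStkCxIso f x G)) a b h1)
  -- boundedness above
  have hex : ∀ i : ℤ, b < i → G.ExactAt i := fun i hi =>
    (KD.exactAt_iff_forall_stalk G i).2
      (fun y => TorAmp.exactAt_of_torAmp _ a b (hst y) i (Or.inr hi))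
  haveI : (DCoh.toD Y G).IsLE b := by
    change (Q.obj G).IsLE b
    rw [DerivedCategory.isLE_Q_obj_iff, CochainComplex.isLE_iff]
    exact hex
  obtain ⟨E', h1, h2, ⟨e'⟩⟩ := Groth.Agent.S6200.backward G b a b hst
  exact ⟨E', h1, h2, ⟨e' ≪≫ e₁⟩⟩

end Groth.Agent.S7244
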