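import Groth.Statements.S7250
import Groth.Agent.Lib.Helper16.RelAmp1
import Groth.Agent.Lib.Helper1.LocPC3

set_option autoImplicit false
universe u
open CategoryTheory CategoryTheory.Limits AlgebraicGeometry
attribute [local instance] HasDerivedCategory.standard
open Perf

namespace Groth.Agent.S7250

open Groth.Agent.Lib.Helper16.RelAmp Groth.Agent.Lib.Helper1.LocPC ZeroObject
  CategoryTheory.Pretriangulated

variable {X S : Scheme.{u}}

/-- the property "S-perfect", in pointwise form. -/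
def SPerf (f : X ⟶ S) (E : DCoh.D X) : Prop :=
  (∀ (m : ℤ) (x : X), PCAt m E x) ∧ LocTorAt f E

lemma sperf_iff (f : X ⟶ S) [Flat f] (E : DCoh.D X) :
    ((∀ m : ℤ, DCoh.IsPseudoCoherentD m E) ∧ DCoh.LocHasFiniteRelTorDim f E) ↔ SPerf f E :=
  and_congr (forall_congr' fun m => isPseudoCoherentD_iff m E) (locHasFiniteRelTorDim_iff f E)

lemma sperf_of_iso (f : X ⟶ S) {K L : DCoh.D X} (e : K ≅ L) (h : SPerf f K) : SPerf f L :=
  ⟨fun m x => (h.1 m x).of_iso e, locTorAt_of_iso f e h.2⟩

lemma sperf_of_isZero (f : X ⟶ S) (K : DCoh.D X) (hK : IsZero K) : SPerf f K := by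
  refine ⟨fun m x => ⟨⊤, trivial, ?_⟩, locTorAt_of_isZero f K hK⟩
  have hz : IsZero ((Groth.Agent.Lib.Helper16.RS.RD (⊤ : X.Opens).ι).obj K) :=
    Functor.map_isZero _ hK
  exact (PCat.of_isLE _ (m - 1) (DerivedCategory.TStructure.t.isLE_of_isZero hz _)).of_le
    (by omega)

lemma sperf_shift (f : X ⟶ S) (K : DCoh.D X) (n : ℤ) (h : SPerf f K) : SPerf f (K⟦n⟧) :=
  ⟨fun m x => (h.1 (m + n) x).shift n m rfl, locTorAt_shift f K n h.2⟩

lemma sperf_obj₂ (f : X ⟶ S) (T : Triangle (DCoh.D X)) (hT : T ∈ distTriang (DCoh.D X))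
    (h1 : SPerf f T.obj₁) (h3 : SPerf f T.obj₃) : SPerf f T.obj₂ :=
  ⟨fun m x => (PCAt.two_of_three T hT m x).2.1 (h1.1 m x) (h3.1 m x),
    locTorAt_obj₂ f T hT h1.2 h3.2⟩

lemma sperf_of_biprod (f : X ⟶ S) (K L : DCoh.D X) (h : SPerf f (K ⊞ L)) : SPerf f K :=
  ⟨fun m x => (PCAt.of_biprod m K L x (h.1 m x)).1, (locTorAt_of_biprod f K L h.2).1⟩

/-- Let f : X ⟶ S be flat and locally of finite presentation. The S-perfect objects of D(O_X)
(pseudo-coherent and locally of finite tor dimension over f⁻¹O_S, the latter in the form: locally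
represented by a bounded complex of O_X-modules flat over S) form a saturated triangulated
subcategory: the property contains zero, is stable under all shifts, is closed under the middle term
of distinguished triangles, and is stable under retracts. -/
theorem result {X S : Scheme.{u}} (f : X ⟶ S) [Flat f] [LocallyOfFinitePresentation f] :
    ObjectProperty.IsTriangulated (fun E : DCoh.D X => (∀ m : ℤ, DCoh.IsPseudoCoherentD m E) ∧ DCoh.LocHasFiniteRelTorDim f E) ∧
    ObjectProperty.IsStableUnderRetracts (fun E : DCoh.D X => (∀ m : ℤ, DCoh.IsPseudoCoherentD m E) ∧ DCoh.LocHasFiniteRelTorDim f E) := by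
  have hP : (fun E : DCoh.D X => (∀ m : ℤ, DCoh.IsPseudoCoherentD m E) ∧
      DCoh.LocHasFiniteRelTorDim f E) = SPerf f := funext fun E => propext (sperf_iff f E)
  rw [hP]
  constructor
  · haveI : ObjectProperty.ContainsZero (SPerf f) :=
      ⟨⟨0, isZero_zero _, sperf_of_isZero f _ (isZero_zero _)⟩⟩
    haveI : ObjectProperty.IsStableUnderShift (SPerf f) ℤ :=
      ⟨fun n => ⟨fun K hK => sperf_shift f K n hK⟩⟩
    haveI : ObjectProperty.IsTriangulatedClosed₂ (SPerf f) :=
      ⟨fun T hT h1 h3 => ObjectProperty.le_isoClosure _ _ (sperf_obj₂ f T hT h1 h3)⟩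
    exact {}
  · exact ⟨fun {K M} h hM => by
      obtain ⟨K', ⟨e⟩⟩ := exists_biprod_iso_of_retract h
      exact sperf_of_biprod f K K' (sperf_of_iso f e hM)⟩

end Groth.Agent.S7250
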