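import Groth.Statements.S7260
import Groth.Agent.Lib.Helper23.Tower.QCohRlim

set_option autoImplicit false
universe u
open CategoryTheory CategoryTheory.Limits AlgebraicGeometry
attribute [local instance] HasDerivedCategory.standard
open Perf

namespace Groth.Agent.S7260

/-- Let X be a scheme and (F_n)_{n ≥ 0} an inverse system of quasi-coherent O_X-modules whose transition
maps F_{n+1} ⟶ F_n are surjective for n ≥ 1. Then R lim F_n = lim F_n, that is, lim F_n placed in
degree 0 is a derived limit in D(O_X) of the system (F_n[0]) (granted the countable product exists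
there), and H^p(U, lim F_n) = 0 for every affine open U ⊆ X and every p > 0. (The published
statement is phrased for the system of q-th cohomology sheaves of an inverse system in D_QCoh(O_X);
the proof uses only that these form an inverse system of quasi-coherent modules with surjective
transition maps, which is the form stated here.) -/
theorem result {X : Scheme.{u}} (F : ℕ → X.Modules)
    (hF : ∀ n, Coh.IsQCoh (F n)) (t : ∀ n, F (n + 1) ⟶ F n) (ht : ∀ n, 1 ≤ n → Epi (t n))
    [HasProduct fun n => DCoh.inD X (F n)] :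
    DCoh.IsRlim (fun n => DCoh.inD X (F n)) (fun n => (DerivedCategory.singleFunctor X.Modules 0).map (t n))
        (DCoh.inD X (Limits.limit (Functor.ofOpSequence t))) ∧
      ∀ (U : X.Opens), IsAffineOpen U → ∀ p : ℕ, 0 < p →
        Subsingleton (Coh.HHon X (Limits.limit (Functor.ofOpSequence t)) U p) := by
  have hF' : ∀ n, (F n).IsQuasicoherent := hF
  have hcov : ∀ (Y : Scheme.{u}), Groth.Agent.Lib.Helper23.Tower.Covers
      (Opens.grothendieckTopology Y) {V : Y.Opens | IsAffineOpen V} := by
    intro Y W
    refine ⟨{V : Y.Opens // IsAffineOpen V ∧ V ≤ W}, fun i => i.1,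
      fun i => CategoryTheory.homOfLE i.2.2, ?_, fun i => i.2.1⟩
    intro x hx
    obtain ⟨V, hV, hxV, hVW⟩ := TopologicalSpace.Opens.isBasis_iff_nbhd.1 Y.isBasis_affineOpens hx
    exact ⟨V, CategoryTheory.homOfLE hVW,
      CategoryTheory.Sieve.ofArrows_mk _ _ (⟨V, hV, hVW⟩ : {V : Y.Opens // IsAffineOpen V ∧ V ≤ W}),
      hxV⟩
  refine ⟨?_, ?_⟩
  · haveI : IsGrothendieckAbelian.{u} (SheafOfModules.{u} X.ringCatSheaf) :=
      Groth.Agent.Lib.Helper8.SheafModGroth.main _ _
    haveI : HasExt.{u} (SheafOfModules.{u} X.ringCatSheaf) := inferInstance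
    have ht' : ∀ n, Groth.Agent.Lib.Helper23.Tower.tMap (Functor.ofOpSequence t) n = t n :=
      fun n => CategoryTheory.Functor.ofOpSequence_map_homOfLE_succ t n
    haveI : HasProduct fun n => (DerivedCategory.singleFunctor (SheafOfModules.{u} X.ringCatSheaf) 0).obj
        (Groth.Agent.Lib.Helper23.Tower.tObj (Functor.ofOpSequence t) n) :=
      ‹HasProduct fun n => DCoh.inD X (F n)›
    have key := Groth.Agent.Lib.Helper23.Tower.isRlim_mod X.ringCatSheaf
      {V : X.Opens | IsAffineOpen V} (Functor.ofOpSequence t) (hcov X) (limit.isLimit _)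
      (Groth.Agent.Lib.Helper23.Tower.rlim_h1 F t hF')
      (Groth.Agent.Lib.Helper23.Tower.rlim_h2 F t hF' ht)
    have key' : DCoh.IsRlim (fun n => DCoh.inD X (F n))
        (fun n => (DerivedCategory.singleFunctor X.Modules 0).map
          (show F (n + 1) ⟶ F n from
            Groth.Agent.Lib.Helper23.Tower.tMap (Functor.ofOpSequence t) n))
        (DCoh.inD X (Limits.limit (Functor.ofOpSequence t))) := key
    have hfun : (fun n => (DerivedCategory.singleFunctor X.Modules 0).map
        (show F (n + 1) ⟶ F n from
          Groth.Agent.Lib.Helper23.Tower.tMap (Functor.ofOpSequence t) n)) =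
        fun n => (DerivedCategory.singleFunctor X.Modules 0).map (t n) :=
      funext fun n => congrArg (DerivedCategory.singleFunctor X.Modules 0).map (ht' n)
    rw [hfun] at key'
    exact key'
  · intro U hU p hp
    obtain ⟨j, rfl⟩ : ∃ j, p = j + 1 := ⟨p - 1, by omega⟩
    haveI : IsAffine (U : Scheme.{u}) := hU
    have hc' : IsLimit ((SheafOfModules.toSheaf.{u} (U : Scheme.{u}).ringCatSheaf).mapCone
        ((Scheme.Modules.restrictFunctor U.ι).mapCone (limit.cone (Functor.ofOpSequence t)))) :=
      isLimitOfPreserves (SheafOfModules.toSheaf.{u} (U : Scheme.{u}).ringCatSheaf)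
        (isLimitOfPreserves (Scheme.Modules.restrictFunctor U.ι) (limit.isLimit _))
    have h1' : ∀ V ∈ {V : (U : Scheme.{u}).Opens | IsAffineOpen V}, ∀ (p n : ℕ), Subsingleton
        (CohSite.HU ((Groth.Agent.Lib.Helper23.Tower.abTower
          (Functor.ofOpSequence t ⋙ Scheme.Modules.restrictFunctor U.ι)).obj (Opposite.op n))
          (p + 1) V) := by
      intro V hV p n
      haveI : ((F n).restrict U.ι).IsQuasicoherent := by
        haveI := hF' n
        infer_instance
      exact Groth.Agent.Lib.Helper17.AffineVanish.subsingleton_HU_of_isAffineOpen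
        ((F n).restrict U.ι) hV p
    have h2' : ∀ V ∈ {V : (U : Scheme.{u}).Opens | IsAffineOpen V},
        Groth.Agent.Lib.Helper23.Tower.SecLimOneZero (Groth.Agent.Lib.Helper23.Tower.abTower
          (Functor.ofOpSequence t ⋙ Scheme.Modules.restrictFunctor U.ι)) V :=
      fun V hV => Groth.Agent.Lib.Helper23.Tower.rlim_h2 F t hF' ht (U.ι ''ᵁ V)
        (hV.image_of_isOpenImmersion U.ι)
    have h3 := Groth.Agent.Lib.Helper23.Tower.subsingleton_HU_lim
      (Groth.Agent.Lib.Helper23.Tower.abTower
        (Functor.ofOpSequence t ⋙ Scheme.Modules.restrictFunctor U.ι))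
      {V : (U : Scheme.{u}).Opens | IsAffineOpen V} (hcov U) hc' h1' h2' ⊤
      (isAffineOpen_top (U : Scheme.{u})) j
    exact @Equiv.subsingleton _ _
      (Groth.Agent.Lib.Helper17.HCompare.topHEquiv _ (j + 1)).toEquiv h3

end Groth.Agent.S7260
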