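import Groth.Statements.S7290
-- import your own Groth.Agent.* helpers here
import Mathlib

set_option autoImplicit false
open CategoryTheory CategoryTheory.Limits AlgebraicGeometry Opposite
universe u
open ProEtW

namespace Groth.Agent.S7290

open PrimeSpectrum

/-- All ring elements occurring in a piece of constructible-set data. -/
noncomputable def elems {A : Type u} [CommRing A] (S : ConstructibleSetData A) : Finset A :=
  by
    classical
    exact S.biUnion fun C => insert C.f (Finset.univ.image C.g)

theorem mem_toSet_iff {A : Type u} [CommRing A] (S : ConstructibleSetData A) (x : PrimeSpectrum A) :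
    x ∈ S.toSet ↔ ∃ C ∈ S, (∀ j, C.g j ∈ x.asIdeal) ∧ C.f ∉ x.asIdeal := by
  simp only [ConstructibleSetData.toSet, BasicConstructibleSetData.toSet, Set.mem_iUnion,
    Set.mem_sdiff, mem_zeroLocus, Set.range_subset_iff, Set.singleton_subset_iff, SetLike.mem_coe,
    exists_prop]

theorem same_pattern {A : Type u} [CommRing A] (S : ConstructibleSetData A)
    (x y : PrimeSpectrum A) (h : ∀ f ∈ elems S, f ∈ x.asIdeal ↔ f ∈ y.asIdeal) :
    x ∈ S.toSet → y ∈ S.toSet := by
  classical
  rw [mem_toSet_iff, mem_toSet_iff]
  rintro ⟨C, hC, hg, hf⟩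
  refine ⟨C, hC, fun j => ?_, fun hfy => hf ?_⟩
  · refine (h (C.g j) ?_).1 (hg j)
    unfold elems
    exact Finset.mem_biUnion.2 ⟨C, hC, Finset.mem_insert_of_mem
      (Finset.mem_image_of_mem _ (Finset.mem_univ j))⟩
  · refine (h C.f ?_).2 hfy
    unfold elems
    exact Finset.mem_biUnion.2 ⟨C, hC, Finset.mem_insert_self _ _⟩

/-- Let A be a ring and let Spec A be the disjoint union of finitely many constructible subsets T_i.
Then there is a finite subset E of A such that the stratification of Spec A according to which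
elements of E vanish at a point refines the given one: each nonempty stratum, consisting of the
primes whose intersection with E is a prescribed subset, is contained in one of the T_i. -/
theorem result (A : Type u) [CommRing A] {ι : Type u} [Finite ι]
    (T : ι → Set (PrimeSpectrum A)) (hT : ∀ i, Topology.IsConstructible (T i))
    (hcov : ⋃ i, T i = Set.univ) (hdisj : Pairwise fun i j => Disjoint (T i) (T j)) :
    ∃ E : Finset A, ∀ E'' : Finset A, E'' ⊆ E →
      ∀ x : PrimeSpectrum A, (∀ f ∈ E, f ∈ x.asIdeal ↔ f ∈ E'') →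
        ∃ i, {y : PrimeSpectrum A | ∀ f ∈ E, f ∈ y.asIdeal ↔ f ∈ E''} ⊆ T i := by
  classical
  haveI : Fintype ι := Fintype.ofFinite ι
  have hS : ∀ i, ∃ S : ConstructibleSetData A, S.toSet = T i := fun i =>
    exists_constructibleSetData_iff.2 (hT i)
  choose S hS using hS
  refine ⟨Finset.univ.biUnion fun i => elems (S i), ?_⟩
  intro E'' _ x hx
  have hxmem : x ∈ ⋃ i, T i := by rw [hcov]; trivial
  obtain ⟨i, hi⟩ := Set.mem_iUnion.1 hxmem
  refine ⟨i, fun y hy => ?_⟩
  rw [← hS i] at hi ⊢
  refine same_pattern (S i) x y (fun f hf => ?_) hi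
  have hfE : f ∈ Finset.univ.biUnion fun i => elems (S i) :=
    Finset.mem_biUnion.2 ⟨i, Finset.mem_univ i, hf⟩
  rw [hx f hfE, hy f hfE]

end Groth.Agent.S7290
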