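import Groth.Statements.S7318
import Mathlib.Tactic.Linarith
import Mathlib.Tactic.NormNum
import Mathlib.Algebra.Order.BigOperators.Group.Finset

set_option autoImplicit false
open Finset
open Models Models.NumericalType

namespace Groth.Agent.S7318

/-- edges with both endpoints in `I`. -/
def E {n : ℕ} (T : Models.NumericalType n) (I : Finset (Fin n)) : Finset (Fin n × Fin n) :=
  univ.filter fun p : Fin n × Fin n => p.1 < p.2 ∧ 0 < T.a p.1 p.2 ∧ p.1 ∈ I ∧ p.2 ∈ I

theorem grow {n : ℕ} (T : Models.NumericalType n) :
    ∀ k : ℕ, k + 1 ≤ n → ∃ I : Finset (Fin n), I.card = k + 1 ∧ k ≤ (E T I).card := by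
  intro k
  induction k with
  | zero =>
    intro _
    exact ⟨{⟨0, T.pos⟩}, Finset.card_singleton _, Nat.zero_le _⟩
  | succ k ih =>
    intro hk
    obtain ⟨I, hI, hE⟩ := ih (by omega)
    have hne : I.Nonempty := Finset.card_pos.mp (by omega)
    have huniv : I ≠ univ := by
      intro h
      rw [h, Finset.card_univ, Fintype.card_fin] at hI
      omega
    obtain ⟨i, hi, j, hj, hij⟩ := T.connected I hne huniv
    have hne' : i ≠ j := fun h => hj (h ▸ hi)
    have hpos : 0 < T.a i j := lt_of_le_of_ne (T.offDiag_nonneg i j hne') (Ne.symm hij)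
    have hpos' : 0 < T.a j i := by
      have : T.a j i = T.a i j := by
        have := T.symm
        exact (Matrix.IsSymm.apply this i j)
      rw [this]; exact hpos
    refine ⟨insert j I, by rw [Finset.card_insert_of_notMem hj, hI], ?_⟩
    -- the new edge
    obtain ⟨p, hp1, hp2⟩ : ∃ p : Fin n × Fin n, p ∈ E T (insert j I) ∧ p ∉ E T I := by
      rcases lt_or_gt_of_ne hne' with hlt | hgt
      · refine ⟨(i, j), ?_, ?_⟩
        · simp only [E, Finset.mem_filter, Finset.mem_univ, true_and]
          exact ⟨hlt, hpos, Finset.mem_insert_of_mem hi, Finset.mem_insert_self _ _⟩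
        · simp only [E, Finset.mem_filter, Finset.mem_univ, true_and, not_and]
          intro _ _ _
          exact hj
      · refine ⟨(j, i), ?_, ?_⟩
        · simp only [E, Finset.mem_filter, Finset.mem_univ, true_and]
          exact ⟨hgt, hpos', Finset.mem_insert_self _ _, Finset.mem_insert_of_mem hi⟩
        · simp only [E, Finset.mem_filter, Finset.mem_univ, true_and, not_and]
          intro _ _ h
          exact absurd h hj
    have hsub : insert p (E T I) ⊆ E T (insert j I) := by
      intro q hq
      rcases Finset.mem_insert.mp hq with rfl | hq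
      · exact hp1
      · simp only [E, Finset.mem_filter, Finset.mem_univ, true_and] at hq ⊢
        exact ⟨hq.1, hq.2.1, Finset.mem_insert_of_mem hq.2.2.1, Finset.mem_insert_of_mem hq.2.2.2⟩
    have := Finset.card_le_card hsub
    rw [Finset.card_insert_of_notMem hp2] at this
    omega

/-- For a numerical type T on n indices with e pairs i < j such that a_ij > 0, the topological genus 1 -
n + e is ≥ 0. -/
theorem result {n : ℕ} (T : Models.NumericalType n) : 0 ≤ T.topGenus := by
  obtain ⟨I, hI, hE⟩ := grow T (n - 1) (by have := T.pos; omega)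
  have hsub : E T I ⊆ univ.filter fun p : Fin n × Fin n => p.1 < p.2 ∧ 0 < T.a p.1 p.2 := by
    intro q hq
    simp only [E, Finset.mem_filter, Finset.mem_univ, true_and] at hq ⊢
    exact ⟨hq.1, hq.2.1⟩
  have := Finset.card_le_card hsub
  have hpos := T.pos
  unfold Models.NumericalType.topGenus Models.NumericalType.edgeCount
  have h2 : n - 1 ≤ (univ.filter fun p : Fin n × Fin n => p.1 < p.2 ∧ 0 < T.a p.1 p.2).card := by
    omega
  omega

end Groth.Agent.S7318
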