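import Groth.Statements.S7341
import Groth.Agent.Lib.Helper29.NumTypeNeg

set_option autoImplicit false
open Finset
open Models Models.NumericalType

namespace Groth.Agent.S7341

open Groth.Agent.Lib.Helper29.NumType

/-- embedding of three distinct indices -/
def emb3 {n : ℕ} (i j k : Fin n) (hij : i ≠ j) (hjk : j ≠ k) (hik : i ≠ k) : Fin 3 ↪ Fin n :=
  ⟨![i, j, k], by
    intro a b h
    fin_cases a <;> fin_cases b <;> simp_all [Ne.symm hij, Ne.symm hjk, Ne.symm hik]⟩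

lemma neg3' {n : ℕ} (T : NumericalType n) (hn : 3 < n) (i j k : Fin n) (hij : i ≠ j) (hjk : j ≠ k)
    (hik : i ≠ k) (x y z : ℤ) (hx : x ≠ 0 ∨ y ≠ 0 ∨ z ≠ 0) :
    T.a i i * x * x + T.a j j * y * y + T.a k k * z * z +
      2 * (T.a i j * x * y + T.a i k * x * z + T.a j k * y * z) < 0 :=
  neg3 T hn (emb3 i j k hij hjk hik) x y z hx

lemma row3' {n : ℕ} (T : NumericalType n) (i j k : Fin n) (hij : i ≠ j) (hjk : j ≠ k)
    (hik : i ≠ k) :
    T.a i i * T.m i + T.a i j * T.m j + T.a i k * T.m k ≤ 0 ∧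
    T.a i j * T.m i + T.a j j * T.m j + T.a j k * T.m k ≤ 0 ∧
    T.a i k * T.m i + T.a j k * T.m j + T.a k k * T.m k ≤ 0 := by
  have r0 := row_le T (emb3 i j k hij hjk hik) 0
  have r1 := row_le T (emb3 i j k hij hjk hik) 1
  have r2 := row_le T (emb3 i j k hij hjk hik) 2
  simp only [Fin.sum_univ_three] at r0 r1 r2
  refine ⟨r0, ?_, ?_⟩
  · rw [a_symm T i j]; exact r1
  · rw [a_symm T i k, a_symm T j k]; exact r2

lemma cases_rs {r s : ℤ} (hr : 1 ≤ r) (hs : 1 ≤ s) (h : r * s < 3) :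
    (r = 1 ∧ s = 1) ∨ (r = 1 ∧ s = 2) ∨ (r = 2 ∧ s = 1) := by
  have b3 : r ≤ r * s := le_mul_of_one_le_right (by omega) hs
  have b4 : s ≤ r * s := le_mul_of_one_le_left (by omega) hr
  have hr2 : r ≤ 2 := by omega
  have hs2 : s ≤ 2 := by omega
  clear b3 b4
  interval_cases r <;> interval_cases s <;> simp_all

/-- the chain classification when the first edge is simple -/
lemma aux {n : ℕ} (T : Models.NumericalType n) (hn : 3 < n) (i j k : Fin n)
    (hij : i ≠ j) (hjk : j ≠ k) (hik : i ≠ k) (hi : T.IsMinusTwo i) (hj : T.IsMinusTwo j)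
    (hk : T.IsMinusTwo k) (h2 : 0 < T.a j k) (wij : T.w i = T.w j) (e1 : T.a i j = T.w j) :
    T.a i k = 0 ∧ ∃ w : ℤ,
      ((T.w i = w ∧ T.w j = w ∧ T.w k = w ∧ T.a i j = w ∧ T.a j k = w ∧
          T.m j ≤ 2 * T.m i ∧ T.m i + T.m k ≤ 2 * T.m j ∧ T.m j ≤ 2 * T.m k) ∨
        (T.w i = w ∧ T.w j = w ∧ T.w k = 2 * w ∧ T.a i j = w ∧ T.a j k = 2 * w ∧
          T.m j ≤ 2 * T.m i ∧ T.m i + 2 * T.m k ≤ 2 * T.m j ∧ T.m j ≤ 2 * T.m k) ∨
        (T.w i = 2 * w ∧ T.w j = 2 * w ∧ T.w k = w ∧ T.a i j = 2 * w ∧ T.a j k = 2 * w ∧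
          T.m j ≤ 2 * T.m i ∧ T.m i + T.m k ≤ 2 * T.m j ∧ T.m j ≤ T.m k)) := by
  obtain ⟨r, s, hr, hs, e2, f2⟩ := exists_quot T _ _ h2
  have hneg := neg3' T hn i j k hij hjk hik 1 2 s (Or.inl (by norm_num))
  have di := hi.2
  have dj := hj.2
  have dk := hk.2
  have nik := T.offDiag_nonneg i k hik
  have hwj := T.w_pos j
  have hwk := T.w_pos k
  obtain ⟨ri, rj, rk⟩ := row3' T i j k hij hjk hik
  rw [di, dj, dk, e1, wij] at hneg
  rw [di, e1, wij] at ri
  rw [dj, e1] at rj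
  rw [dk] at rk
  have cik : 0 ≤ T.a i k * s := by positivity
  have g2 : T.w k * s * s = T.a j k * s := by rw [f2]; ring
  have k2 : T.a j k * s = (r * s) * T.w j := by rw [e2]; ring
  have hmain : (r * s) * T.w j + T.a i k * s < 3 * T.w j := by linarith
  have hsum : (r * s) * T.w j < 3 * T.w j := by linarith
  have hsum' : r * s < 3 := lt_of_mul_lt_mul_right hsum hwj.le
  have dvi : T.w j ∣ T.a i k := wij ▸ T.w_dvd i k
  have dvk : T.w k ∣ T.a i k := by rw [a_symm T i k]; exact T.w_dvd k i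
  rcases cases_rs hr hs hsum' with ⟨rfl, rfl⟩ | ⟨rfl, rfl⟩ | ⟨rfl, rfl⟩
  · -- (1,1): A3
    simp only [one_mul, mul_one] at *
    have wkj : T.w k = T.w j := by rw [← f2, e2]
    have hlt : T.a i k < 2 * T.w j := by linarith
    have hz : T.a i k = 0 := by
      obtain ⟨c, hc⟩ := dvi
      have hc0 : 0 ≤ c := by
        by_contra h
        push Not at h
        have : T.w j * c < 0 := mul_neg_of_pos_of_neg hwj h
        omega
      have hc2 : c < 2 := by
        by_contra h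
        push Not at h
        have : T.w j * 2 ≤ T.w j * c := mul_le_mul_of_nonneg_left h hwj.le
        omega
      interval_cases c
      · omega
      · exfalso
        have hneg2 := neg3' T hn i j k hij hjk hik 1 1 1 (Or.inl (by norm_num))
        rw [di, dj, dk, e1, e2, hc, wij, wkj] at hneg2
        linarith
    refine ⟨hz, T.w j, Or.inl ⟨wij, rfl, wkj, e1, e2, ?_, ?_, ?_⟩⟩
    · rw [hz] at ri
      have : T.w j * T.m j ≤ T.w j * (2 * T.m i) := by linarith
      exact le_of_mul_le_mul_left this hwj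
    · rw [e2] at rj
      have : T.w j * (T.m i + T.m k) ≤ T.w j * (2 * T.m j) := by linarith
      exact le_of_mul_le_mul_left this hwj
    · rw [e2, hz, wkj] at rk
      have : T.w j * T.m j ≤ T.w j * (2 * T.m k) := by linarith
      exact le_of_mul_le_mul_left this hwj
  · -- (r,s) = (1,2): a_jk = w_j = 2 w_k : B3 with w = w_k
    simp only [one_mul, mul_one] at *
    have wjk : T.w j = 2 * T.w k := by rw [← e2, f2]
    have hz : T.a i k = 0 := by
      apply eq_zero_of_dvd_of_lt dvk nik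
      rw [wjk] at hmain
      linarith
    refine ⟨hz, T.w k, Or.inr (Or.inr ⟨wij.trans wjk, wjk, rfl, e1.trans wjk, f2, ?_, ?_, ?_⟩)⟩
    · rw [hz] at ri
      have : T.w j * T.m j ≤ T.w j * (2 * T.m i) := by linarith
      exact le_of_mul_le_mul_left this hwj
    · rw [e2] at rj
      have : T.w j * (T.m i + T.m k) ≤ T.w j * (2 * T.m j) := by linarith
      exact le_of_mul_le_mul_left this hwj
    · rw [f2, hz] at rk
      have : T.w k * T.m j ≤ T.w k * T.m k := by linarith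
      exact le_of_mul_le_mul_left this hwk
  · -- (r,s) = (2,1): a_jk = 2 w_j = w_k : C3 with w = w_j
    simp only [one_mul, mul_one] at *
    have wkj : T.w k = 2 * T.w j := by rw [← f2, e2]
    have hz : T.a i k = 0 := by
      apply eq_zero_of_dvd_of_lt dvi nik
      linarith
    refine ⟨hz, T.w j, Or.inr (Or.inl ⟨wij, rfl, wkj, e1, e2, ?_, ?_, ?_⟩)⟩
    · rw [hz] at ri
      have : T.w j * T.m j ≤ T.w j * (2 * T.m i) := by linarith
      exact le_of_mul_le_mul_left this hwj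
    · rw [e2] at rj
      have : T.w j * (T.m i + 2 * T.m k) ≤ T.w j * (2 * T.m j) := by linarith
      exact le_of_mul_le_mul_left this hwj
    · rw [e2, hz, wkj] at rk
      have : T.w j * T.m j ≤ T.w j * (2 * T.m k) := by linarith
      exact le_of_mul_le_mul_left this hwj

/-- Classification of proper subgraphs which are chains of three vertices: let T be a numerical type on
n > 3 indices and i, j, k distinct (-2)-indices with a_ij > 0 and a_jk > 0. Then a_ik = 0 and, up to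
reversing the order of i, j, k, one of the following holds for some integer w: (A3) w_i = w_j = w_k
= w, a_ij = a_jk = w, with 2 m_i ≥ m_j, 2 m_j ≥ m_i + m_k, 2 m_k ≥ m_j; (C3) w_i = w_j = w, w_k =
2w, a_ij = w, a_jk = 2w, with 2 m_i ≥ m_j, 2 m_j ≥ m_i + 2 m_k, 2 m_k ≥ m_j; (B3) w_i = w_j = 2w,
w_k = w, a_ij = a_jk = 2w, with 2 m_i ≥ m_j, 2 m_j ≥ m_i + m_k, m_k ≥ m_j. -/
theorem result {n : ℕ} (T : Models.NumericalType n) (hn : 3 < n) (i j k : Fin n)
    (hij : i ≠ j) (hjk : j ≠ k) (hik : i ≠ k) (hi : T.IsMinusTwo i) (hj : T.IsMinusTwo j) (hk : T.IsMinusTwo k)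
    (h1 : 0 < T.a i j) (h2 : 0 < T.a j k) :
    T.a i k = 0 ∧ ∃ (i' k' : Fin n) (w : ℤ), ((i' = i ∧ k' = k) ∨ (i' = k ∧ k' = i)) ∧
      ((T.w i' = w ∧ T.w j = w ∧ T.w k' = w ∧ T.a i' j = w ∧ T.a j k' = w ∧
          T.m j ≤ 2 * T.m i' ∧ T.m i' + T.m k' ≤ 2 * T.m j ∧ T.m j ≤ 2 * T.m k') ∨
        (T.w i' = w ∧ T.w j = w ∧ T.w k' = 2 * w ∧ T.a i' j = w ∧ T.a j k' = 2 * w ∧
          T.m j ≤ 2 * T.m i' ∧ T.m i' + 2 * T.m k' ≤ 2 * T.m j ∧ T.m j ≤ 2 * T.m k') ∨
        (T.w i' = 2 * w ∧ T.w j = 2 * w ∧ T.w k' = w ∧ T.a i' j = 2 * w ∧ T.a j k' = 2 * w ∧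
          T.m j ≤ 2 * T.m i' ∧ T.m i' + T.m k' ≤ 2 * T.m j ∧ T.m j ≤ T.m k')) := by
  obtain ⟨p, q, hp, hq, e1, f1⟩ := exists_quot T _ _ h1
  obtain ⟨r, s, hr, hs, e2, f2⟩ := exists_quot T _ _ h2
  have hneg := neg3' T hn i j k hij hjk hik p 2 s (Or.inr (Or.inl (by norm_num)))
  have di := hi.2
  have dj := hj.2
  have dk := hk.2
  have nik := T.offDiag_nonneg i k hik
  have hwj := T.w_pos j
  rw [di, dj, dk] at hneg
  have cik : 0 ≤ T.a i k * p * s := by positivity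
  have g1 : T.w i * p * p = T.a i j * p := by rw [e1]; ring
  have g2 : T.w k * s * s = T.a j k * s := by rw [f2]; ring
  have k1 : T.a i j * p = (p * q) * T.w j := by rw [f1]; ring
  have k2 : T.a j k * s = (r * s) * T.w j := by rw [e2]; ring
  have hsum : (p * q + r * s) * T.w j < 4 * T.w j := by linarith
  have hsum' : p * q + r * s < 4 := lt_of_mul_lt_mul_right hsum hwj.le
  have P1 := pq_ge_one hp hq
  have P2 := pq_ge_one hr hs
  by_cases hpq : p * q = 1
  · obtain ⟨rfl, rfl⟩ := pq_one hp hq hpq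
    simp only [one_mul] at e1 f1
    obtain ⟨hz, w, hw⟩ := aux T hn i j k hij hjk hik hi hj hk h2 (by rw [← e1, f1]) f1
    exact ⟨hz, i, k, w, Or.inl ⟨rfl, rfl⟩, hw⟩
  · have hrs : r * s = 1 := by omega
    obtain ⟨rfl, rfl⟩ := pq_one hr hs hrs
    simp only [one_mul] at e2 f2
    have h1' : 0 < T.a j i := by rw [a_symm T j i]; exact h1
    obtain ⟨hz, w, hw⟩ := aux T hn k j i hjk.symm hij.symm hik.symm hk hj hi h1'
      (by rw [← f2, e2]) (by rw [a_symm T k j]; exact e2)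
    refine ⟨by rw [a_symm T i k]; exact hz, k, i, w, Or.inr ⟨rfl, rfl⟩, ?_⟩
    exact hw

end Groth.Agent.S7341
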