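import Groth.Statements.S7342
import Groth.Agent.Lib.Helper29.NumTypeD

set_option autoImplicit false
open Finset
open Models Models.NumericalType

namespace Groth.Agent.S7342

open Groth.Agent.Lib.Helper29.NumType


/-- Let T be a numerical type on n indices, t ≥ 4 and n > t + 2. Then no t + 2 (-2)-indices of T,
pairwise distinct and numbered i_0, …, i_{t+1}, satisfy: a_{i_j i_{j+1}} > 0 for 1 ≤ j ≤ t - 1,
a_{i_0 i_2} > 0 and a_{i_{t-1} i_{t+1}} > 0. -/
theorem result {n : ℕ} (T : Models.NumericalType n) (t : ℕ) (ht : 4 ≤ t) (hn : t + 2 < n)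
    (v : Fin (t + 2) ↪ Fin n) (hv : ∀ j, T.IsMinusTwo (v j))
    (hchain : ∀ j j' : Fin (t + 2), 1 ≤ j.val → j.val + 1 ≤ t → j'.val = j.val + 1 → 0 < T.a (v j) (v j'))
    (h02 : ∀ j j' : Fin (t + 2), j.val = 0 → j'.val = 2 → 0 < T.a (v j) (v j'))
    (hlast : ∀ j j' : Fin (t + 2), j.val = t - 1 → j'.val = t + 1 → 0 < T.a (v j) (v j')) : False := by
  obtain ⟨r, rfl⟩ : ∃ r, t = r + 3 := ⟨t - 3, by omega⟩
  have hr : 1 ≤ r := by omega
  let e : Fin (r + 4) ↪ Fin (r + 3 + 2) := Fin.succEmb (r + 4)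
  have he : ∀ j : Fin (r + 4), (e j).val = j.val + 1 := fun j => rfl
  obtain ⟨w, hall⟩ := dinv_all T r (by omega) (e.trans v) (fun j => hv (e j))
    (by
      intro j j' hjj' hj'
      exact (hchain (e j) (e j') (by rw [he]; omega) (by rw [he]; omega)
        (by rw [he, he, hjj'])).ne')
    (by
      intro j j' hj hj'
      exact (hlast (e j) (e j') (by rw [he]; omega) (by rw [he]; omega)).ne')
  obtain ⟨c1, h1⟩ := hall 1 hr
  have i0 : 0 < r + 4 := by omega
  have i1 : 1 < r + 4 := by omega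
  set u : Fin (r + 4) := ⟨0, i0⟩ with hu
  set z : Fin (r + 4) := ⟨1, i1⟩ with hz
  have hwz : T.w ((e.trans v) z) = w := h1.hw z (le_refl _)
  obtain ⟨wu, auz, hzero, hL⟩ := ext_fork T (e.trans v) (by omega) (fun j => hv (e j)) c1
    h1.nonneg u z (h1.zero u (by simp [hu])) (h1.two z rfl)
    (by
      exact (hchain (e u) (e z) (by rw [he]) (by rw [he]; simp [hu])
        (by rw [he, he])).ne')
    (by rw [hwz]; exact h1.hQ)
  rw [hwz] at wu auz hL
  -- the vector with coefficient one at the first vertex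
  set c2 : Fin (r + 4) → ℤ := c1 + (1 : ℤ) • (Pi.single u (1 : ℤ) : Fin (r + 4) → ℤ) with hc2
  have hQ2 : -2 * w ≤ Qv T (e.trans v) c2 := by
    have hd : T.a ((e.trans v) u) ((e.trans v) u) = -2 * T.w ((e.trans v) u) := (hv (e u)).2
    rw [hc2, Qv_add_single, hL, hd, wu]
    have := h1.hQ
    linarith
  have hc2nn : ∀ j, 0 ≤ c2 j := by
    intro j
    have := h1.nonneg j
    by_cases hj : j = u
    · subst hj; simp [hc2]; omega
    · simp [hc2, hj]; exact this
  have hc2z : c2 z = 2 := by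
    have hne : z ≠ u := by
      intro h; simp [hu, hz] at h
    simp [hc2, hne]
    exact h1.two z rfl
  -- extend to the whole configuration
  have j0 : 0 < r + 3 + 2 := by omega
  have j2 : 2 < r + 3 + 2 := by omega
  have hez : e z = ⟨2, j2⟩ := Fin.ext (by rw [he])
  apply ext_contra T v hn hv (extendZ e c2) (extendZ_nonneg e c2 hc2nn) ⟨0, j0⟩ ⟨2, j2⟩
  · apply extendZ_apply_of_forall_ne
    intro i h
    have := congrArg Fin.val h
    rw [he] at this
    simp at this
  · rw [← hez, extendZ_apply_emb]; exact hc2z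
  · exact (h02 ⟨0, j0⟩ ⟨2, j2⟩ rfl rfl).ne'
  · rw [Qv_extend, ← hez]
    show -2 * T.w ((e.trans v) z) ≤ _
    rw [hwz]
    exact hQ2

end Groth.Agent.S7342
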