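import Groth.Statements.S7347
import Groth.Agent.Lib.Helper29.NumTypeExt
import Groth.Agent.S7346

set_option autoImplicit false
open Finset
open Models Models.NumericalType

namespace Groth.Agent.S7347

open Groth.Agent.Lib.Helper29.NumType


/-- Classification of proper subgraphs of type D5 (a chain i_1 i_2 i_3 with i_4 and i_5 both joined to
i_3): let T be a numerical type on n > 5 indices and i_1, …, i_5 distinct (-2)-indices with a_{12},
a_{23}, a_{34}, a_{35} nonzero. Then for some integer w all w_{i_j} equal w, these intersection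
numbers equal w, all other a_{i_j i_k} (j ≠ k) vanish, and 2 m_1 ≥ m_2, 2 m_2 ≥ m_1 + m_3, 2 m_3 ≥
m_2 + m_4 + m_5, 2 m_4 ≥ m_3, 2 m_5 ≥ m_3. -/
theorem result {n : ℕ} (T : Models.NumericalType n) (hn : 5 < n)
    (v : Fin 5 ↪ Fin n) (hv : ∀ j, T.IsMinusTwo (v j)) (h01 : T.a (v 0) (v 1) ≠ 0) (h12 : T.a (v 1) (v 2) ≠ 0) (h23 : T.a (v 2) (v 3) ≠ 0) (h24 : T.a (v 2) (v 4) ≠ 0) :
    ∃ w : ℤ, (∀ j : Fin 5, T.w (v j) = w) ∧
      T.a (v 0) (v 1) = w ∧
      T.a (v 1) (v 2) = w ∧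
      T.a (v 2) (v 3) = w ∧
      T.a (v 2) (v 4) = w ∧
      T.a (v 0) (v 2) = 0 ∧
      T.a (v 0) (v 3) = 0 ∧
      T.a (v 0) (v 4) = 0 ∧
      T.a (v 1) (v 3) = 0 ∧
      T.a (v 1) (v 4) = 0 ∧
      T.a (v 3) (v 4) = 0 ∧
      T.m (v 1) ≤ 2 * T.m (v 0) ∧
      T.m (v 0) + T.m (v 2) ≤ 2 * T.m (v 1) ∧
      T.m (v 1) + T.m (v 3) + T.m (v 4) ≤ 2 * T.m (v 2) ∧
      T.m (v 2) ≤ 2 * T.m (v 3) ∧
      T.m (v 2) ≤ 2 * T.m (v 4) := by
  -- D4 at centre 2
  let e : Fin 4 ↪ Fin 5 := ⟨![2, 1, 3, 4], by decide⟩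
  obtain ⟨w, hw, a21, a23, a24, a13, a14, a34, m2, m21, m23, m24⟩ :=
    Groth.Agent.S7346.result T (by omega) (e.trans v) (fun j => hv (e j))
      (by rw [a_symm T]; exact h12) h23 h24
  have w2 : T.w (v 2) = w := hw 0
  have w1 : T.w (v 1) = w := hw 1
  have w3 : T.w (v 3) = w := hw 2
  have w4 : T.w (v 4) = w := hw 3
  have a21' : T.a (v 2) (v 1) = w := a21
  have a12 : T.a (v 1) (v 2) = w := by rw [a_symm T]; exact a21'
  have a23' : T.a (v 2) (v 3) = w := a23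
  have a24' : T.a (v 2) (v 4) = w := a24
  have a13' : T.a (v 1) (v 3) = 0 := a13
  have a14' : T.a (v 1) (v 4) = 0 := a14
  have a34' : T.a (v 3) (v 4) = 0 := a34
  have m2' : T.m (v 1) + T.m (v 3) + T.m (v 4) ≤ 2 * T.m (v 2) := m2
  have m23' : T.m (v 2) ≤ 2 * T.m (v 3) := m23
  have m24' : T.m (v 2) ≤ 2 * T.m (v 4) := m24
  -- extension at vertex 0
  have hQ : -4 * T.w (v 1) ≤ Qv T v ![0, 2, 2, 1, 1] := by
    unfold Qv
    simp only [Fin.sum_univ_five, Matrix.cons_val]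
    rw [(hv 1).2, (hv 2).2, (hv 3).2, (hv 4).2, w1, w2, w3, w4, a12, a21', a23', a24', a13', a14', a34',
      a_symm T (v 3) (v 1), a13', a_symm T (v 4) (v 1), a14', a_symm T (v 3) (v 2), a23',
      a_symm T (v 4) (v 2), a24', a_symm T (v 4) (v 3), a34']
    linarith
  obtain ⟨w0, a01, hzero, hL⟩ := ext_fork T v hn hv ![0, 2, 2, 1, 1]
    (by intro i; fin_cases i <;> simp) 0 1 (by simp) (by simp) h01 hQ
  rw [w1] at w0 a01
  have a02 : T.a (v 0) (v 2) = 0 := hzero 2 (by decide) (by simp)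
  have a03 : T.a (v 0) (v 3) = 0 := hzero 3 (by decide) (by simp)
  have a04 : T.a (v 0) (v 4) = 0 := hzero 4 (by decide) (by simp)
  have hwpos : 0 < w := by rw [← w1]; exact T.w_pos _
  have r0 := row_le T v 0
  have r1 := row_le T v 1
  simp only [Fin.sum_univ_five] at r0 r1
  rw [(hv 0).2, a01, a02, a03, a04, w0] at r0
  rw [(hv 1).2, a_symm T (v 1) (v 0), a01, a12, a13', a14', w1] at r1
  refine ⟨w, ?_, a01, a12, a23', a24', a02, a03, a04, a13', a14', a34', ?_, ?_, m2', m23', m24'⟩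
  · intro j
    fin_cases j
    · exact w0
    · exact w1
    · exact w2
    · exact w3
    · exact w4
  · have : w * T.m (v 1) ≤ w * (2 * T.m (v 0)) := by linarith
    exact le_of_mul_le_mul_left this hwpos
  · have : w * (T.m (v 0) + T.m (v 2)) ≤ w * (2 * T.m (v 1)) := by linarith
    exact le_of_mul_le_mul_left this hwpos

end Groth.Agent.S7347
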