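import Groth.Statements.S7348
import Groth.Agent.Lib.Helper29.NumTypeExt
import Groth.Agent.S7347

set_option autoImplicit false
open Finset
open Models Models.NumericalType

namespace Groth.Agent.S7348

open Groth.Agent.Lib.Helper29.NumType


/-- Classification of proper subgraphs of type E6 (a chain i_1 … i_5 with i_6 joined to i_3): let T be a
numerical type on n > 6 indices and i_1, …, i_6 distinct (-2)-indices with a_{12}, a_{23}, a_{34},
a_{45}, a_{36} nonzero. Then for some integer w all w_{i_j} equal w, these intersection numbers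
equal w, all other a_{i_j i_k} (j ≠ k) vanish, and 2 m_1 ≥ m_2, 2 m_2 ≥ m_1 + m_3, 2 m_3 ≥ m_2 + m_4
+ m_6, 2 m_4 ≥ m_3 + m_5, 2 m_5 ≥ m_4, 2 m_6 ≥ m_3. (The published list of inequalities has 2 m_5 ≥
m_3 where the intersection matrix gives 2 m_5 ≥ m_4; the former fails for the extended E8
configuration of multiplicities 4, 5, 6, 4, 2 with 3 attached to the third vertex, so 2 m_5 ≥ m_4 is
stated.) -/
theorem result {n : ℕ} (T : Models.NumericalType n) (hn : 6 < n)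
    (v : Fin 6 ↪ Fin n) (hv : ∀ j, T.IsMinusTwo (v j)) (h01 : T.a (v 0) (v 1) ≠ 0) (h12 : T.a (v 1) (v 2) ≠ 0) (h23 : T.a (v 2) (v 3) ≠ 0) (h34 : T.a (v 3) (v 4) ≠ 0) (h25 : T.a (v 2) (v 5) ≠ 0) :
    ∃ w : ℤ, (∀ j : Fin 6, T.w (v j) = w) ∧
      T.a (v 0) (v 1) = w ∧
      T.a (v 1) (v 2) = w ∧
      T.a (v 2) (v 3) = w ∧
      T.a (v 3) (v 4) = w ∧
      T.a (v 2) (v 5) = w ∧
      T.a (v 0) (v 2) = 0 ∧
      T.a (v 0) (v 3) = 0 ∧
      T.a (v 0) (v 4) = 0 ∧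
      T.a (v 0) (v 5) = 0 ∧
      T.a (v 1) (v 3) = 0 ∧
      T.a (v 1) (v 4) = 0 ∧
      T.a (v 1) (v 5) = 0 ∧
      T.a (v 2) (v 4) = 0 ∧
      T.a (v 3) (v 5) = 0 ∧
      T.a (v 4) (v 5) = 0 ∧
      T.m (v 1) ≤ 2 * T.m (v 0) ∧
      T.m (v 0) + T.m (v 2) ≤ 2 * T.m (v 1) ∧
      T.m (v 1) + T.m (v 3) + T.m (v 5) ≤ 2 * T.m (v 2) ∧
      T.m (v 2) + T.m (v 4) ≤ 2 * T.m (v 3) ∧
      T.m (v 3) ≤ 2 * T.m (v 4) ∧
      T.m (v 2) ≤ 2 * T.m (v 5) := by
  let e1 : Fin 5 ↪ Fin 6 := ⟨![0, 1, 2, 3, 5], by decide⟩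
  let e2 : Fin 5 ↪ Fin 6 := ⟨![4, 3, 2, 1, 5], by decide⟩
  obtain ⟨w, hw, a01, a12, a23, a25, a02, a03, a05, a13, a15, a35, m0, m1, m2, m3, m5⟩ :=
    Groth.Agent.S7347.result T (by omega) (e1.trans v) (fun j => hv (e1 j)) h01 h12 h23 h25
  obtain ⟨w', hw', a43, a32, a21, a25', a42, a41, a45, a31, a35', a15', n4, n3, n2, n1, n5⟩ :=
    Groth.Agent.S7347.result T (by omega) (e2.trans v) (fun j => hv (e2 j))
      (by rw [a_symm T]; exact h34) (by rw [a_symm T]; exact h23) (by rw [a_symm T]; exact h12) h25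
  have w0 : T.w (v 0) = w := hw 0
  have w1 : T.w (v 1) = w := hw 1
  have w2 : T.w (v 2) = w := hw 2
  have w3 : T.w (v 3) = w := hw 3
  have w5 : T.w (v 5) = w := hw 4
  have w2' : T.w (v 2) = w' := hw' 2
  have hww : w' = w := by rw [← w2', w2]
  subst hww
  have w4 : T.w (v 4) = w' := hw' 0
  have b01 : T.a (v 0) (v 1) = w' := a01
  have b12 : T.a (v 1) (v 2) = w' := a12
  have b23 : T.a (v 2) (v 3) = w' := a23
  have b25 : T.a (v 2) (v 5) = w' := a25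
  have b02 : T.a (v 0) (v 2) = 0 := a02
  have b03 : T.a (v 0) (v 3) = 0 := a03
  have b05 : T.a (v 0) (v 5) = 0 := a05
  have b13 : T.a (v 1) (v 3) = 0 := a13
  have b15 : T.a (v 1) (v 5) = 0 := a15
  have b35 : T.a (v 3) (v 5) = 0 := a35
  have b43 : T.a (v 4) (v 3) = w' := a43
  have b34 : T.a (v 3) (v 4) = w' := by rw [a_symm T]; exact b43
  have b42 : T.a (v 4) (v 2) = 0 := a42
  have b24 : T.a (v 2) (v 4) = 0 := by rw [a_symm T]; exact b42
  have b41 : T.a (v 4) (v 1) = 0 := a41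
  have b14 : T.a (v 1) (v 4) = 0 := by rw [a_symm T]; exact b41
  have b45 : T.a (v 4) (v 5) = 0 := a45
  have hwpos : 0 < w' := by rw [← w2]; exact T.w_pos _
  -- the cycle 0-1-2-3-4
  have b04 : T.a (v 0) (v 4) = 0 := by
    have hneg := neg6 T hn v 1 1 1 1 1 0 (Or.inl (by norm_num))
    rw [(hv 0).2, (hv 1).2, (hv 2).2, (hv 3).2, (hv 4).2, w0, w1, w2, w3, w4, b01, b12, b23, b34,
      b02, b03, b13, b14, b24] at hneg
    apply eq_zero_of_dvd_of_lt (w0 ▸ T.w_dvd (v 0) (v 4))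
      (a_nonneg_emb T v (show (0 : Fin 6) ≠ 4 by decide))
    linarith
  refine ⟨w', ?_, b01, b12, b23, b34, b25, b02, b03, b04, b05, b13, b14, b15, b24, b35, b45,
    m0, m1, m2, ?_, n4, m5⟩
  · intro j
    fin_cases j
    · exact w0
    · exact w1
    · exact w2
    · exact w3
    · exact w4
    · exact w5
  · have : T.m (v 4) + T.m (v 2) ≤ 2 * T.m (v 3) := n3
    linarith

end Groth.Agent.S7348
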