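import Groth.Statements.S7343
import Groth.Agent.Lib.Helper29.NumTypeQv
import Groth.Agent.S7348

set_option autoImplicit false
open Finset
open Models Models.NumericalType

namespace Groth.Agent.S7343

open Groth.Agent.Lib.Helper29.NumType


/-- Let T be a numerical type on n > 7 indices. Then no seven (-2)-indices of T, pairwise distinct and
named f, g, h, i, j, k, l, have a_fg, a_gh, a_ij, a_jh, a_kl and a_lh all nonzero (three chains of
length two attached to h). -/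
theorem result {n : ℕ} (T : Models.NumericalType n) (hn : 7 < n)
    (v : Fin 7 ↪ Fin n) (hv : ∀ j, T.IsMinusTwo (v j))
    (h01 : T.a (v 0) (v 1) ≠ 0) (h12 : T.a (v 1) (v 2) ≠ 0) (h34 : T.a (v 3) (v 4) ≠ 0)
    (h42 : T.a (v 4) (v 2) ≠ 0) (h56 : T.a (v 5) (v 6) ≠ 0) (h62 : T.a (v 6) (v 2) ≠ 0) : False := by
  let e : Fin 6 ↪ Fin 7 := ⟨![0, 1, 2, 4, 3, 6], by decide⟩
  obtain ⟨w, hw, a01, a12, a24, a43, a26, a02, a04, a03, a06, a14, a13, a16, a23, a46, a36,
    -, -, -, -, -, -⟩ :=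
    Groth.Agent.S7348.result T (by omega) (e.trans v) (fun j => hv (e j)) h01 h12
      (by rw [a_symm T]; exact h42) (by rw [a_symm T]; exact h34) (by rw [a_symm T]; exact h62)
  have w0 : T.w (v 0) = w := hw 0
  have w1 : T.w (v 1) = w := hw 1
  have w2 : T.w (v 2) = w := hw 2
  have w4 : T.w (v 4) = w := hw 3
  have w3 : T.w (v 3) = w := hw 4
  have w6 : T.w (v 6) = w := hw 5
  have b01 : T.a (v 0) (v 1) = w := a01
  have b12 : T.a (v 1) (v 2) = w := a12
  have b24 : T.a (v 2) (v 4) = w := a24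
  have b43 : T.a (v 4) (v 3) = w := a43
  have b34 : T.a (v 3) (v 4) = w := by rw [a_symm T]; exact b43
  have b26 : T.a (v 2) (v 6) = w := a26
  have b02 : T.a (v 0) (v 2) = 0 := a02
  have b04 : T.a (v 0) (v 4) = 0 := a04
  have b03 : T.a (v 0) (v 3) = 0 := a03
  have b06 : T.a (v 0) (v 6) = 0 := a06
  have b14 : T.a (v 1) (v 4) = 0 := a14
  have b13 : T.a (v 1) (v 3) = 0 := a13
  have b16 : T.a (v 1) (v 6) = 0 := a16
  have b23 : T.a (v 2) (v 3) = 0 := a23
  have b46 : T.a (v 4) (v 6) = 0 := a46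
  have b36 : T.a (v 3) (v 6) = 0 := a36
  have hQ : -2 * T.w (v 6) ≤ Qv T v ![1, 2, 3, 1, 2, 0, 2] := by
    rw [Qv_eq7, (hv 0).2, (hv 1).2, (hv 2).2, (hv 3).2, (hv 4).2, (hv 6).2, w0, w1, w2, w3, w4, w6,
      b01, b12, b24, b34, b26, b02, b04, b03, b06, b14, b13, b16, b23, b46, b36]
    linarith
  exact ext_contra T v hn hv ![1, 2, 3, 1, 2, 0, 2]
    (by intro i; fin_cases i <;> simp) 5 6 (by simp) (by simp) h56 hQ

end Groth.Agent.S7343
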