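import Groth.Statements.S7349
import Groth.Agent.Lib.Helper29.NumTypeQv
import Groth.Agent.S7348

set_option autoImplicit false
open Finset
open Models Models.NumericalType

namespace Groth.Agent.S7349

open Groth.Agent.Lib.Helper29.NumType


/-- Classification of proper subgraphs of type E7 (a chain i_1 … i_6 with i_7 joined to i_4): let T be a
numerical type on n > 7 indices and i_1, …, i_7 distinct (-2)-indices with a_{12}, a_{23}, a_{34},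
a_{45}, a_{56}, a_{47} nonzero. Then for some integer w all w_{i_j} equal w, these intersection
numbers equal w, all other a_{i_j i_k} (j ≠ k) vanish, and 2 m_1 ≥ m_2, 2 m_2 ≥ m_1 + m_3, 2 m_3 ≥
m_2 + m_4, 2 m_4 ≥ m_3 + m_5 + m_7, 2 m_5 ≥ m_4 + m_6, 2 m_6 ≥ m_5, 2 m_7 ≥ m_4. -/
theorem result {n : ℕ} (T : Models.NumericalType n) (hn : 7 < n)
    (v : Fin 7 ↪ Fin n) (hv : ∀ j, T.IsMinusTwo (v j)) (h01 : T.a (v 0) (v 1) ≠ 0) (h12 : T.a (v 1) (v 2) ≠ 0) (h23 : T.a (v 2) (v 3) ≠ 0) (h34 : T.a (v 3) (v 4) ≠ 0) (h45 : T.a (v 4) (v 5) ≠ 0) (h36 : T.a (v 3) (v 6) ≠ 0) :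
    ∃ w : ℤ, (∀ j : Fin 7, T.w (v j) = w) ∧
      T.a (v 0) (v 1) = w ∧
      T.a (v 1) (v 2) = w ∧
      T.a (v 2) (v 3) = w ∧
      T.a (v 3) (v 4) = w ∧
      T.a (v 4) (v 5) = w ∧
      T.a (v 3) (v 6) = w ∧
      T.a (v 0) (v 2) = 0 ∧
      T.a (v 0) (v 3) = 0 ∧
      T.a (v 0) (v 4) = 0 ∧
      T.a (v 0) (v 5) = 0 ∧
      T.a (v 0) (v 6) = 0 ∧
      T.a (v 1) (v 3) = 0 ∧
      T.a (v 1) (v 4) = 0 ∧
      T.a (v 1) (v 5) = 0 ∧
      T.a (v 1) (v 6) = 0 ∧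
      T.a (v 2) (v 4) = 0 ∧
      T.a (v 2) (v 5) = 0 ∧
      T.a (v 2) (v 6) = 0 ∧
      T.a (v 3) (v 5) = 0 ∧
      T.a (v 4) (v 6) = 0 ∧
      T.a (v 5) (v 6) = 0 ∧
      T.m (v 1) ≤ 2 * T.m (v 0) ∧
      T.m (v 0) + T.m (v 2) ≤ 2 * T.m (v 1) ∧
      T.m (v 1) + T.m (v 3) ≤ 2 * T.m (v 2) ∧
      T.m (v 2) + T.m (v 4) + T.m (v 6) ≤ 2 * T.m (v 3) ∧
      T.m (v 3) + T.m (v 5) ≤ 2 * T.m (v 4) ∧
      T.m (v 4) ≤ 2 * T.m (v 5) ∧
      T.m (v 3) ≤ 2 * T.m (v 6) := by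
  let e : Fin 6 ↪ Fin 7 := ⟨![1, 2, 3, 4, 5, 6], by decide⟩
  obtain ⟨w, hw, a12, a23, a34, a45, a36, a13, a14, a15, a16, a24, a25, a26, a35, a46, a56,
    m1, m2, m3, m4, m5, m6⟩ :=
    Groth.Agent.S7348.result T (by omega) (e.trans v) (fun j => hv (e j)) h12 h23 h34 h45 h36
  have w1 : T.w (v 1) = w := hw 0
  have w2 : T.w (v 2) = w := hw 1
  have w3 : T.w (v 3) = w := hw 2
  have w4 : T.w (v 4) = w := hw 3
  have w5 : T.w (v 5) = w := hw 4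
  have w6 : T.w (v 6) = w := hw 5
  have b12 : T.a (v 1) (v 2) = w := a12
  have b23 : T.a (v 2) (v 3) = w := a23
  have b34 : T.a (v 3) (v 4) = w := a34
  have b45 : T.a (v 4) (v 5) = w := a45
  have b36 : T.a (v 3) (v 6) = w := a36
  have b13 : T.a (v 1) (v 3) = 0 := a13
  have b14 : T.a (v 1) (v 4) = 0 := a14
  have b15 : T.a (v 1) (v 5) = 0 := a15
  have b16 : T.a (v 1) (v 6) = 0 := a16
  have b24 : T.a (v 2) (v 4) = 0 := a24
  have b25 : T.a (v 2) (v 5) = 0 := a25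
  have b26 : T.a (v 2) (v 6) = 0 := a26
  have b35 : T.a (v 3) (v 5) = 0 := a35
  have b46 : T.a (v 4) (v 6) = 0 := a46
  have b56 : T.a (v 5) (v 6) = 0 := a56
  have hwpos : 0 < w := by rw [← w1]; exact T.w_pos _
  have hQ : -4 * T.w (v 1) ≤ Qv T v ![0, 2, 2, 2, 1, 0, 1] := by
    rw [Qv_eq7, (hv 1).2, (hv 2).2, (hv 3).2, (hv 4).2, (hv 6).2, w1, w2, w3, w4, w6, b12, b23, b34,
      b36, b13, b14, b16, b24, b26, b46]
    linarith
  obtain ⟨w0, a01, hzero, hL⟩ := ext_fork T v hn hv ![0, 2, 2, 2, 1, 0, 1]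
    (by intro i; fin_cases i <;> simp) 0 1 (by simp) (by simp) h01 hQ
  rw [w1] at w0 a01
  have b02 : T.a (v 0) (v 2) = 0 := hzero 2 (by decide) (by simp)
  have b03 : T.a (v 0) (v 3) = 0 := hzero 3 (by decide) (by simp)
  have b04 : T.a (v 0) (v 4) = 0 := hzero 4 (by decide) (by simp)
  have b06 : T.a (v 0) (v 6) = 0 := hzero 6 (by decide) (by simp)
  have b05 : T.a (v 0) (v 5) = 0 := by
    have hneg := neg7 T hn v 1 1 1 1 1 1 0 (Or.inl (by norm_num))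
    rw [(hv 0).2, (hv 1).2, (hv 2).2, (hv 3).2, (hv 4).2, (hv 5).2, w0, w1, w2, w3, w4, w5,
      a01, b12, b23, b34, b45, b02, b03, b04, b13, b14, b15, b24, b25, b35] at hneg
    apply eq_zero_of_dvd_of_lt (w0 ▸ T.w_dvd (v 0) (v 5))
      (a_nonneg_emb T v (show (0 : Fin 7) ≠ 5 by decide))
    linarith
  have r0 := row_le T v 0
  have r1 := row_le T v 1
  simp only [Fin.sum_univ_seven] at r0 r1
  rw [(hv 0).2, a01, b02, b03, b04, b05, b06, w0] at r0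
  rw [(hv 1).2, a_symm T (v 1) (v 0), a01, b12, b13, b14, b15, b16, w1] at r1
  refine ⟨w, ?_, a01, b12, b23, b34, b45, b36, b02, b03, b04, b05, b06, b13, b14, b15, b16, b24,
    b25, b26, b35, b46, b56, ?_, ?_, m2, m3, m4, m5, m6⟩
  · intro j
    fin_cases j
    · exact w0
    · exact w1
    · exact w2
    · exact w3
    · exact w4
    · exact w5
    · exact w6
  · have : w * T.m (v 1) ≤ w * (2 * T.m (v 0)) := by linarith
    exact le_of_mul_le_mul_left this hwpos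
  · have : w * (T.m (v 0) + T.m (v 2)) ≤ w * (2 * T.m (v 1)) := by linarith
    exact le_of_mul_le_mul_left this hwpos

end Groth.Agent.S7349
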