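import Groth.Statements.S7344
import Groth.Agent.Lib.Helper29.NumTypeQv
import Groth.Agent.S7349

set_option autoImplicit false
open Finset
open Models Models.NumericalType

namespace Groth.Agent.S7344

open Groth.Agent.Lib.Helper29.NumType


/-- Let T be a numerical type on n > 8 indices. Then no eight (-2)-indices of T, pairwise distinct and
named e, f, g, h, i, j, k, l, have a_ef, a_fg, a_gh, a_hi, a_ij, a_jk and a_lh all nonzero (a chain
of seven, e to k, with l joined to its fourth vertex h). -/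
theorem result {n : ℕ} (T : Models.NumericalType n) (hn : 8 < n)
    (v : Fin 8 ↪ Fin n) (hv : ∀ j, T.IsMinusTwo (v j))
    (h01 : T.a (v 0) (v 1) ≠ 0) (h12 : T.a (v 1) (v 2) ≠ 0) (h23 : T.a (v 2) (v 3) ≠ 0)
    (h34 : T.a (v 3) (v 4) ≠ 0) (h45 : T.a (v 4) (v 5) ≠ 0) (h56 : T.a (v 5) (v 6) ≠ 0)
    (h73 : T.a (v 7) (v 3) ≠ 0) : False := by
  let e : Fin 7 ↪ Fin 8 := ⟨![0, 1, 2, 3, 4, 5, 7], by decide⟩
  obtain ⟨w, hw, a01, a12, a23, a34, a45, a37, a02, a03, a04, a05, a07, a13, a14, a15, a17, a24,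
    a25, a27, a35, a47, a57, -, -, -, -, -, -, -⟩ :=
    Groth.Agent.S7349.result T (by omega) (e.trans v) (fun j => hv (e j)) h01 h12 h23 h34 h45
      (by rw [a_symm T]; exact h73)
  have w0 : T.w (v 0) = w := hw 0
  have w1 : T.w (v 1) = w := hw 1
  have w2 : T.w (v 2) = w := hw 2
  have w3 : T.w (v 3) = w := hw 3
  have w4 : T.w (v 4) = w := hw 4
  have w5 : T.w (v 5) = w := hw 5
  have w7 : T.w (v 7) = w := hw 6
  have b01 : T.a (v 0) (v 1) = w := a01
  have b12 : T.a (v 1) (v 2) = w := a12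
  have b23 : T.a (v 2) (v 3) = w := a23
  have b34 : T.a (v 3) (v 4) = w := a34
  have b45 : T.a (v 4) (v 5) = w := a45
  have b37 : T.a (v 3) (v 7) = w := a37
  have b02 : T.a (v 0) (v 2) = 0 := a02
  have b03 : T.a (v 0) (v 3) = 0 := a03
  have b04 : T.a (v 0) (v 4) = 0 := a04
  have b05 : T.a (v 0) (v 5) = 0 := a05
  have b07 : T.a (v 0) (v 7) = 0 := a07
  have b13 : T.a (v 1) (v 3) = 0 := a13
  have b14 : T.a (v 1) (v 4) = 0 := a14
  have b15 : T.a (v 1) (v 5) = 0 := a15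
  have b17 : T.a (v 1) (v 7) = 0 := a17
  have b24 : T.a (v 2) (v 4) = 0 := a24
  have b25 : T.a (v 2) (v 5) = 0 := a25
  have b27 : T.a (v 2) (v 7) = 0 := a27
  have b35 : T.a (v 3) (v 5) = 0 := a35
  have b47 : T.a (v 4) (v 7) = 0 := a47
  have b57 : T.a (v 5) (v 7) = 0 := a57
  have hQ : -2 * T.w (v 5) ≤ Qv T v ![1, 2, 3, 4, 3, 2, 0, 2] := by
    rw [Qv_eq8, (hv 0).2, (hv 1).2, (hv 2).2, (hv 3).2, (hv 4).2, (hv 5).2, (hv 7).2,
      w0, w1, w2, w3, w4, w5, w7,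
      b01, b12, b23, b34, b45, b37, b02, b03, b04, b05, b07, b13, b14, b15, b17, b24, b25, b27,
      b35, b47, b57]
    linarith
  exact ext_contra T v hn hv ![1, 2, 3, 4, 3, 2, 0, 2]
    (by intro i; fin_cases i <;> simp) 6 5 (by simp) (by simp)
    (by rw [a_symm T]; exact h56) hQ

end Groth.Agent.S7344
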