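import Groth.Statements.S7350
import Groth.Agent.Lib.Helper29.NumTypeQv
import Groth.Agent.S7349

set_option autoImplicit false
open Finset
open Models Models.NumericalType

namespace Groth.Agent.S7350

open Groth.Agent.Lib.Helper29.NumType


/-- Classification of proper subgraphs of type E8 (a chain i_1 … i_7 with i_8 joined to i_5): let T be a
numerical type on n > 8 indices and i_1, …, i_8 distinct (-2)-indices with a_{12}, a_{23}, a_{34},
a_{45}, a_{56}, a_{67}, a_{58} nonzero. Then for some integer w all w_{i_j} equal w, these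
intersection numbers equal w, all other a_{i_j i_k} (j ≠ k) vanish, and 2 m_1 ≥ m_2, 2 m_2 ≥ m_1 +
m_3, 2 m_3 ≥ m_2 + m_4, 2 m_4 ≥ m_3 + m_5, 2 m_5 ≥ m_4 + m_6 + m_8, 2 m_6 ≥ m_5 + m_7, 2 m_7 ≥ m_6,
2 m_8 ≥ m_5. (The published statement lists a_{65} and a_{57} among the nonzero entries, which
contradicts its own conclusion a_{57} = 0; this row uses the edges of the E8 graph, a_{67} and
a_{58}, as the pictured graph and the matrix give them.) -/
theorem result {n : ℕ} (T : Models.NumericalType n) (hn : 8 < n)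
    (v : Fin 8 ↪ Fin n) (hv : ∀ j, T.IsMinusTwo (v j)) (h01 : T.a (v 0) (v 1) ≠ 0) (h12 : T.a (v 1) (v 2) ≠ 0) (h23 : T.a (v 2) (v 3) ≠ 0) (h34 : T.a (v 3) (v 4) ≠ 0) (h45 : T.a (v 4) (v 5) ≠ 0) (h56 : T.a (v 5) (v 6) ≠ 0) (h47 : T.a (v 4) (v 7) ≠ 0) :
    ∃ w : ℤ, (∀ j : Fin 8, T.w (v j) = w) ∧
      T.a (v 0) (v 1) = w ∧
      T.a (v 1) (v 2) = w ∧
      T.a (v 2) (v 3) = w ∧
      T.a (v 3) (v 4) = w ∧
      T.a (v 4) (v 5) = w ∧
      T.a (v 5) (v 6) = w ∧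
      T.a (v 4) (v 7) = w ∧
      T.a (v 0) (v 2) = 0 ∧
      T.a (v 0) (v 3) = 0 ∧
      T.a (v 0) (v 4) = 0 ∧
      T.a (v 0) (v 5) = 0 ∧
      T.a (v 0) (v 6) = 0 ∧
      T.a (v 0) (v 7) = 0 ∧
      T.a (v 1) (v 3) = 0 ∧
      T.a (v 1) (v 4) = 0 ∧
      T.a (v 1) (v 5) = 0 ∧
      T.a (v 1) (v 6) = 0 ∧
      T.a (v 1) (v 7) = 0 ∧
      T.a (v 2) (v 4) = 0 ∧
      T.a (v 2) (v 5) = 0 ∧
      T.a (v 2) (v 6) = 0 ∧
      T.a (v 2) (v 7) = 0 ∧
      T.a (v 3) (v 5) = 0 ∧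
      T.a (v 3) (v 6) = 0 ∧
      T.a (v 3) (v 7) = 0 ∧
      T.a (v 4) (v 6) = 0 ∧
      T.a (v 5) (v 7) = 0 ∧
      T.a (v 6) (v 7) = 0 ∧
      T.m (v 1) ≤ 2 * T.m (v 0) ∧
      T.m (v 0) + T.m (v 2) ≤ 2 * T.m (v 1) ∧
      T.m (v 1) + T.m (v 3) ≤ 2 * T.m (v 2) ∧
      T.m (v 2) + T.m (v 4) ≤ 2 * T.m (v 3) ∧
      T.m (v 3) + T.m (v 5) + T.m (v 7) ≤ 2 * T.m (v 4) ∧
      T.m (v 4) + T.m (v 6) ≤ 2 * T.m (v 5) ∧
      T.m (v 5) ≤ 2 * T.m (v 6) ∧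
      T.m (v 4) ≤ 2 * T.m (v 7) := by
  let e : Fin 7 ↪ Fin 8 := ⟨![1, 2, 3, 4, 5, 6, 7], by decide⟩
  obtain ⟨w, hw, a12, a23, a34, a45, a56, a47, a13, a14, a15, a16, a17, a24, a25, a26, a27, a35,
    a36, a37, a46, a57, a67, m1, m2, m3, m4, m5, m6, m7⟩ :=
    Groth.Agent.S7349.result T (by omega) (e.trans v) (fun j => hv (e j)) h12 h23 h34 h45 h56 h47
  have w1 : T.w (v 1) = w := hw 0
  have w2 : T.w (v 2) = w := hw 1
  have w3 : T.w (v 3) = w := hw 2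
  have w4 : T.w (v 4) = w := hw 3
  have w5 : T.w (v 5) = w := hw 4
  have w6 : T.w (v 6) = w := hw 5
  have w7 : T.w (v 7) = w := hw 6
  have b12 : T.a (v 1) (v 2) = w := a12
  have b23 : T.a (v 2) (v 3) = w := a23
  have b34 : T.a (v 3) (v 4) = w := a34
  have b45 : T.a (v 4) (v 5) = w := a45
  have b56 : T.a (v 5) (v 6) = w := a56
  have b47 : T.a (v 4) (v 7) = w := a47
  have b13 : T.a (v 1) (v 3) = 0 := a13
  have b14 : T.a (v 1) (v 4) = 0 := a14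
  have b15 : T.a (v 1) (v 5) = 0 := a15
  have b16 : T.a (v 1) (v 6) = 0 := a16
  have b17 : T.a (v 1) (v 7) = 0 := a17
  have b24 : T.a (v 2) (v 4) = 0 := a24
  have b25 : T.a (v 2) (v 5) = 0 := a25
  have b26 : T.a (v 2) (v 6) = 0 := a26
  have b27 : T.a (v 2) (v 7) = 0 := a27
  have b35 : T.a (v 3) (v 5) = 0 := a35
  have b36 : T.a (v 3) (v 6) = 0 := a36
  have b37 : T.a (v 3) (v 7) = 0 := a37
  have b46 : T.a (v 4) (v 6) = 0 := a46
  have b57 : T.a (v 5) (v 7) = 0 := a57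
  have b67 : T.a (v 6) (v 7) = 0 := a67
  have hwpos : 0 < w := by rw [← w1]; exact T.w_pos _
  have hQ : -4 * T.w (v 1) ≤ Qv T v ![0, 2, 2, 2, 2, 1, 0, 1] := by
    rw [Qv_eq8, (hv 1).2, (hv 2).2, (hv 3).2, (hv 4).2, (hv 5).2, (hv 7).2, w1, w2, w3, w4, w5, w7,
      b12, b23, b34, b45, b47, b13, b14, b15, b17, b24, b25, b27, b35, b37, b57]
    linarith
  obtain ⟨w0, a01, hzero, hL⟩ := ext_fork T v hn hv ![0, 2, 2, 2, 2, 1, 0, 1]
    (by intro i; fin_cases i <;> simp) 0 1 (by simp) (by simp) h01 hQ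
  rw [w1] at w0 a01
  have b02 : T.a (v 0) (v 2) = 0 := hzero 2 (by decide) (by simp)
  have b03 : T.a (v 0) (v 3) = 0 := hzero 3 (by decide) (by simp)
  have b04 : T.a (v 0) (v 4) = 0 := hzero 4 (by decide) (by simp)
  have b05 : T.a (v 0) (v 5) = 0 := hzero 5 (by decide) (by simp)
  have b07 : T.a (v 0) (v 7) = 0 := hzero 7 (by decide) (by simp)
  have b06 : T.a (v 0) (v 6) = 0 := by
    have hneg := neg8 T hn v 1 1 1 1 1 1 1 0 (Or.inl (by norm_num))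
    rw [(hv 0).2, (hv 1).2, (hv 2).2, (hv 3).2, (hv 4).2, (hv 5).2, (hv 6).2, w0, w1, w2, w3, w4, w5,
      w6, a01, b12, b23, b34, b45, b56, b02, b03, b04, b05, b13, b14, b15, b16, b24, b25, b26, b35,
      b36, b46] at hneg
    apply eq_zero_of_dvd_of_lt (w0 ▸ T.w_dvd (v 0) (v 6))
      (a_nonneg_emb T v (show (0 : Fin 8) ≠ 6 by decide))
    linarith
  have r0 := row_le T v 0
  have r1 := row_le T v 1
  simp only [Fin.sum_univ_eight] at r0 r1
  rw [(hv 0).2, a01, b02, b03, b04, b05, b06, b07, w0] at r0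
  rw [(hv 1).2, a_symm T (v 1) (v 0), a01, b12, b13, b14, b15, b16, b17, w1] at r1
  refine ⟨w, ?_, a01, b12, b23, b34, b45, b56, b47, b02, b03, b04, b05, b06, b07, b13, b14, b15, b16,
    b17, b24, b25, b26, b27, b35, b36, b37, b46, b57, b67, ?_, ?_, m2, m3, m4, m5, m6, m7⟩
  · intro j
    fin_cases j
    · exact w0
    · exact w1
    · exact w2
    · exact w3
    · exact w4
    · exact w5
    · exact w6
    · exact w7
  · have : w * T.m (v 1) ≤ w * (2 * T.m (v 0)) := by linarith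
    exact le_of_mul_le_mul_left this hwpos
  · have : w * (T.m (v 0) + T.m (v 2)) ≤ w * (2 * T.m (v 1)) := by linarith
    exact le_of_mul_le_mul_left this hwpos

end Groth.Agent.S7350
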