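import Groth.Statements.S7345
import Groth.Agent.Lib.Helper29.NumTypeQv
import Groth.Agent.S7350

set_option autoImplicit false
open Finset
open Models Models.NumericalType

namespace Groth.Agent.S7345

open Groth.Agent.Lib.Helper29.NumType


/-- Let T be a numerical type on n > 9 indices. Then no nine (-2)-indices of T, pairwise distinct and
named d, e, f, g, h, i, j, k, l, have a_de, a_ef, a_fg, a_gh, a_hi, a_ij, a_jk and a_li all nonzero
(a chain of eight, d to k, with l joined to its sixth vertex i). (The published list of nonzero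
entries ends with a_lh, joining l to the fifth vertex h; that configuration already contains the
completed E7 configuration on eight of the indices and is impossible for that reason alone. The
pictured graph and the argument for it join l to the sixth vertex i, and this row states that case.) -/
theorem result {n : ℕ} (T : Models.NumericalType n) (hn : 9 < n)
    (v : Fin 9 ↪ Fin n) (hv : ∀ j, T.IsMinusTwo (v j))
    (h01 : T.a (v 0) (v 1) ≠ 0) (h12 : T.a (v 1) (v 2) ≠ 0) (h23 : T.a (v 2) (v 3) ≠ 0)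
    (h34 : T.a (v 3) (v 4) ≠ 0) (h45 : T.a (v 4) (v 5) ≠ 0) (h56 : T.a (v 5) (v 6) ≠ 0)
    (h67 : T.a (v 6) (v 7) ≠ 0) (h85 : T.a (v 8) (v 5) ≠ 0) : False := by
  let e : Fin 8 ↪ Fin 9 := ⟨![1, 2, 3, 4, 5, 6, 7, 8], by decide⟩
  obtain ⟨w, hw, a12, a23, a34, a45, a56, a67, a58, a13, a14, a15, a16, a17, a18, a24, a25, a26,
    a27, a28, a35, a36, a37, a38, a46, a47, a48, a57, a68, a78, -, -, -, -, -, -, -, -⟩ :=
    Groth.Agent.S7350.result T (by omega) (e.trans v) (fun j => hv (e j)) h12 h23 h34 h45 h56 h67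
      (by rw [a_symm T]; exact h85)
  have w1 : T.w (v 1) = w := hw 0
  have w2 : T.w (v 2) = w := hw 1
  have w3 : T.w (v 3) = w := hw 2
  have w4 : T.w (v 4) = w := hw 3
  have w5 : T.w (v 5) = w := hw 4
  have w6 : T.w (v 6) = w := hw 5
  have w7 : T.w (v 7) = w := hw 6
  have w8 : T.w (v 8) = w := hw 7
  have b12 : T.a (v 1) (v 2) = w := a12
  have b23 : T.a (v 2) (v 3) = w := a23
  have b34 : T.a (v 3) (v 4) = w := a34
  have b45 : T.a (v 4) (v 5) = w := a45
  have b56 : T.a (v 5) (v 6) = w := a56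
  have b67 : T.a (v 6) (v 7) = w := a67
  have b58 : T.a (v 5) (v 8) = w := a58
  have b13 : T.a (v 1) (v 3) = 0 := a13
  have b14 : T.a (v 1) (v 4) = 0 := a14
  have b15 : T.a (v 1) (v 5) = 0 := a15
  have b16 : T.a (v 1) (v 6) = 0 := a16
  have b17 : T.a (v 1) (v 7) = 0 := a17
  have b18 : T.a (v 1) (v 8) = 0 := a18
  have b24 : T.a (v 2) (v 4) = 0 := a24
  have b25 : T.a (v 2) (v 5) = 0 := a25
  have b26 : T.a (v 2) (v 6) = 0 := a26
  have b27 : T.a (v 2) (v 7) = 0 := a27
  have b28 : T.a (v 2) (v 8) = 0 := a28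
  have b35 : T.a (v 3) (v 5) = 0 := a35
  have b36 : T.a (v 3) (v 6) = 0 := a36
  have b37 : T.a (v 3) (v 7) = 0 := a37
  have b38 : T.a (v 3) (v 8) = 0 := a38
  have b46 : T.a (v 4) (v 6) = 0 := a46
  have b47 : T.a (v 4) (v 7) = 0 := a47
  have b48 : T.a (v 4) (v 8) = 0 := a48
  have b57 : T.a (v 5) (v 7) = 0 := a57
  have b68 : T.a (v 6) (v 8) = 0 := a68
  have b78 : T.a (v 7) (v 8) = 0 := a78
  have hQ : -2 * T.w (v 1) ≤ Qv T v ![0, 2, 3, 4, 5, 6, 4, 2, 3] := by
    rw [Qv_eq9, (hv 1).2, (hv 2).2, (hv 3).2, (hv 4).2, (hv 5).2, (hv 6).2, (hv 7).2, (hv 8).2,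
      w1, w2, w3, w4, w5, w6, w7, w8,
      b12, b23, b34, b45, b56, b67, b58, b13, b14, b15, b16, b17, b18, b24, b25, b26, b27, b28,
      b35, b36, b37, b38, b46, b47, b48, b57, b68, b78]
    linarith
  exact ext_contra T v hn hv ![0, 2, 3, 4, 5, 6, 4, 2, 3]
    (by intro i; fin_cases i <;> simp) 0 1 (by simp) (by simp) h01 hQ

end Groth.Agent.S7345
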