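import Groth.Statements.S7351
import Groth.Agent.Lib.Helper29.NumTypeNeg

set_option autoImplicit false
open Finset
open Models Models.NumericalType

namespace Groth.Agent.S7351

open Groth.Agent.Lib.Helper29.NumType

/-- Let T be a numerical type on n > 5 indices. There do not exist five distinct (-2)-indices h, i, j,
k, l with a_hi > 0, a_hj > 0, a_hk > 0 and a_hl > 0. -/
theorem result {n : ℕ} (T : Models.NumericalType n) (hn : 5 < n)
    (v : Fin 5 ↪ Fin n) (hv : ∀ j, T.IsMinusTwo (v j))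
    (h01 : 0 < T.a (v 0) (v 1)) (h02 : 0 < T.a (v 0) (v 2)) (h03 : 0 < T.a (v 0) (v 3)) (h04 : 0 < T.a (v 0) (v 4)) : False := by
  obtain ⟨p1, q1, hp1, hq1, e1, f1⟩ := exists_quot T _ _ h01
  obtain ⟨p2, q2, hp2, hq2, e2, f2⟩ := exists_quot T _ _ h02
  obtain ⟨p3, q3, hp3, hq3, e3, f3⟩ := exists_quot T _ _ h03
  obtain ⟨p4, q4, hp4, hq4, e4, f4⟩ := exists_quot T _ _ h04
  have hneg := neg5 T hn v 2 q1 q2 q3 q4 (Or.inl (by norm_num))
  have d0 := (hv 0).2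
  have d1 := (hv 1).2
  have d2 := (hv 2).2
  have d3 := (hv 3).2
  have d4 := (hv 4).2
  have n12 := a_nonneg_emb T v (show (1 : Fin 5) ≠ 2 by decide)
  have n13 := a_nonneg_emb T v (show (1 : Fin 5) ≠ 3 by decide)
  have n14 := a_nonneg_emb T v (show (1 : Fin 5) ≠ 4 by decide)
  have n23 := a_nonneg_emb T v (show (2 : Fin 5) ≠ 3 by decide)
  have n24 := a_nonneg_emb T v (show (2 : Fin 5) ≠ 4 by decide)
  have n34 := a_nonneg_emb T v (show (3 : Fin 5) ≠ 4 by decide)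
  have hw0 := T.w_pos (v 0)
  rw [d0, d1, d2, d3, d4] at hneg
  have c12 : 0 ≤ T.a (v 1) (v 2) * q1 * q2 := by positivity
  have c13 : 0 ≤ T.a (v 1) (v 3) * q1 * q3 := by positivity
  have c14 : 0 ≤ T.a (v 1) (v 4) * q1 * q4 := by positivity
  have c23 : 0 ≤ T.a (v 2) (v 3) * q2 * q3 := by positivity
  have c24 : 0 ≤ T.a (v 2) (v 4) * q2 * q4 := by positivity
  have c34 : 0 ≤ T.a (v 3) (v 4) * q3 * q4 := by positivity
  -- w_k q_k^2 = a_0k q_k
  have g1 : T.w (v 1) * q1 * q1 = T.a (v 0) (v 1) * q1 := by rw [f1]; ring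
  have g2 : T.w (v 2) * q2 * q2 = T.a (v 0) (v 2) * q2 := by rw [f2]; ring
  have g3 : T.w (v 3) * q3 * q3 = T.a (v 0) (v 3) * q3 := by rw [f3]; ring
  have g4 : T.w (v 4) * q4 * q4 = T.a (v 0) (v 4) * q4 := by rw [f4]; ring
  have k1 : T.a (v 0) (v 1) ≤ T.a (v 0) (v 1) * q1 := le_mul_of_one_le_right h01.le hq1
  have k2 : T.a (v 0) (v 2) ≤ T.a (v 0) (v 2) * q2 := le_mul_of_one_le_right h02.le hq2
  have k3 : T.a (v 0) (v 3) ≤ T.a (v 0) (v 3) * q3 := le_mul_of_one_le_right h03.le hq3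
  have k4 : T.a (v 0) (v 4) ≤ T.a (v 0) (v 4) * q4 := le_mul_of_one_le_right h04.le hq4
  have l1 : T.w (v 0) ≤ T.a (v 0) (v 1) := by rw [e1]; exact le_mul_of_one_le_left hw0.le hp1
  have l2 : T.w (v 0) ≤ T.a (v 0) (v 2) := by rw [e2]; exact le_mul_of_one_le_left hw0.le hp2
  have l3 : T.w (v 0) ≤ T.a (v 0) (v 3) := by rw [e3]; exact le_mul_of_one_le_left hw0.le hp3
  have l4 : T.w (v 0) ≤ T.a (v 0) (v 4) := by rw [e4]; exact le_mul_of_one_le_left hw0.le hp4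
  linarith

end Groth.Agent.S7351
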