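import Groth.Statements.S7352
import Groth.Agent.Lib.Helper29.NumTypeChain

set_option autoImplicit false
open Finset
open Models Models.NumericalType

namespace Groth.Agent.S7352

open Groth.Agent.Lib.Helper29.NumType

set_option maxHeartbeats 4000000 in
/-- Classification of proper subgraphs which are chains of four vertices: let T be a numerical type on n
> 4 indices and i_1, …, i_4 distinct (-2)-indices with a_{i_j i_{j+1}} nonzero for j < 4. Then
a_{i_j i_l} = 0 for |j - l| ≥ 2 and, after possibly reversing the order of the indices, for some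
integer w one of the following holds: (A4) w = (w, w, w, w), consecutive a = (w, w, w), with 2m_1 ≥
m_2, 2m_2 ≥ m_1 + m_3, 2m_3 ≥ m_2 + m_4, 2m_4 ≥ m_3; (C4) w = (w, w, w, 2w), consecutive a = (w, w,
2w), with 2m_1 ≥ m_2, 2m_2 ≥ m_1 + m_3, 2m_3 ≥ m_2 + 2m_4, 2m_4 ≥ m_3; (B4) w = (2w, 2w, 2w, w),
consecutive a = (2w, 2w, 2w), with 2m_1 ≥ m_2, 2m_2 ≥ m_1 + m_3, 2m_3 ≥ m_2 + m_4, m_4 ≥ m_3; (F4) w
= (w, w, 2w, 2w), consecutive a = (w, 2w, 2w), with 2m_1 ≥ m_2, 2m_2 ≥ m_1 + 2m_3, 2m_3 ≥ m_2 + m_4,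
2m_4 ≥ m_3. -/
theorem result {n : ℕ} (T : Models.NumericalType n) (hn : 4 < n)
    (v : Fin 4 ↪ Fin n) (hv : ∀ j, T.IsMinusTwo (v j)) (h01 : T.a (v 0) (v 1) ≠ 0) (h12 : T.a (v 1) (v 2) ≠ 0) (h23 : T.a (v 2) (v 3) ≠ 0) :
    (T.a (v 0) (v 2) = 0 ∧ T.a (v 0) (v 3) = 0 ∧ T.a (v 1) (v 3) = 0) ∧
    ∃ (u : Fin 4 → Fin n) (w : ℤ), ((∀ j, u j = v j) ∨ (∀ j, u j = v (Fin.rev j))) ∧
      ((T.w (u 0) = w ∧ T.w (u 1) = w ∧ T.w (u 2) = w ∧ T.w (u 3) = w ∧ T.a (u 0) (u 1) = w ∧ T.a (u 1) (u 2) = w ∧ T.a (u 2) (u 3) = w ∧ T.m (u 1) ≤ 2 * T.m (u 0) ∧ T.m (u 0) + T.m (u 2) ≤ 2 * T.m (u 1) ∧ T.m (u 1) + T.m (u 3) ≤ 2 * T.m (u 2) ∧ T.m (u 2) ≤ 2 * T.m (u 3)) ∨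
      (T.w (u 0) = w ∧ T.w (u 1) = w ∧ T.w (u 2) = w ∧ T.w (u 3) = 2 * w ∧ T.a (u 0) (u 1) = w ∧ T.a (u 1) (u 2) = w ∧ T.a (u 2) (u 3) = 2 * w ∧ T.m (u 1) ≤ 2 * T.m (u 0) ∧ T.m (u 0) + T.m (u 2) ≤ 2 * T.m (u 1) ∧ T.m (u 1) + 2 * T.m (u 3) ≤ 2 * T.m (u 2) ∧ T.m (u 2) ≤ 2 * T.m (u 3)) ∨
      (T.w (u 0) = 2 * w ∧ T.w (u 1) = 2 * w ∧ T.w (u 2) = 2 * w ∧ T.w (u 3) = w ∧ T.a (u 0) (u 1) = 2 * w ∧ T.a (u 1) (u 2) = 2 * w ∧ T.a (u 2) (u 3) = 2 * w ∧ T.m (u 1) ≤ 2 * T.m (u 0) ∧ T.m (u 0) + T.m (u 2) ≤ 2 * T.m (u 1) ∧ T.m (u 1) + T.m (u 3) ≤ 2 * T.m (u 2) ∧ T.m (u 2) ≤ T.m (u 3)) ∨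
      (T.w (u 0) = w ∧ T.w (u 1) = w ∧ T.w (u 2) = 2 * w ∧ T.w (u 3) = 2 * w ∧ T.a (u 0) (u 1) = w ∧ T.a (u 1) (u 2) = 2 * w ∧ T.a (u 2) (u 3) = 2 * w ∧ T.m (u 1) ≤ 2 * T.m (u 0) ∧ T.m (u 0) + 2 * T.m (u 2) ≤ 2 * T.m (u 1) ∧ T.m (u 1) + T.m (u 3) ≤ 2 * T.m (u 2) ∧ T.m (u 2) ≤ 2 * T.m (u 3))) := by
  have P0 := a_pos_emb T v (show (0 : Fin 4) ≠ 1 by decide) h01
  have P1 := a_pos_emb T v (show (1 : Fin 4) ≠ 2 by decide) h12
  have P2 := a_pos_emb T v (show (2 : Fin 4) ≠ 3 by decide) h23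
  have z02 : T.a (v 0) (v 2) = 0 := by
    let e : Fin 3 ↪ Fin 4 := ⟨![0, 1, 2], by decide⟩
    exact chain_ends_zero T (e.trans v) (by omega) (fun j => hv (e j)) (by norm_num) (by
      intro j j' hjj'
      fin_cases j <;> fin_cases j' <;> first | (exfalso; revert hjj'; decide) | exact h01 | exact h12)
  have z03 : T.a (v 0) (v 3) = 0 :=
    chain_ends_zero T v hn hv (by norm_num) (by
      intro j j' hjj'
      fin_cases j <;> fin_cases j' <;> first | (exfalso; revert hjj'; decide) | exact h01 | exact h12 | exact h23)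
  have z13 : T.a (v 1) (v 3) = 0 := by
    let e : Fin 3 ↪ Fin 4 := ⟨![1, 2, 3], by decide⟩
    exact chain_ends_zero T (e.trans v) (by omega) (fun j => hv (e j)) (by norm_num) (by
      intro j j' hjj'
      fin_cases j <;> fin_cases j' <;> first | (exfalso; revert hjj'; decide) | exact h12 | exact h23)
  obtain ⟨p0, q0, hp0, hq0, e0, f0⟩ := exists_quot T _ _ P0
  obtain ⟨p1, q1, hp1, hq1, e1, f1⟩ := exists_quot T _ _ P1
  obtain ⟨p2, q2, hp2, hq2, e2, f2⟩ := exists_quot T _ _ P2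
  have d0 := (hv 0).2
  have hw0 := T.w_pos (v 0)
  have d1 := (hv 1).2
  have hw1 := T.w_pos (v 1)
  have d2 := (hv 2).2
  have hw2 := T.w_pos (v 2)
  have d3 := (hv 3).2
  have hw3 := T.w_pos (v 3)
  have adj1 : p0 * q0 + p1 * q1 < 4 := by
    have hneg := neg4 T hn v p0 2 q1 0 (Or.inr (Or.inl (by norm_num)))
    rw [d0, d1, d2, d3, z02, z03, z13] at hneg
    have g1 : T.w (v 0) * p0 * p0 = T.a (v 0) (v 1) * p0 := by rw [e0]; ring
    have g2 : T.w (v 2) * q1 * q1 = T.a (v 1) (v 2) * q1 := by rw [f1]; ring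
    have k1 : T.a (v 0) (v 1) * p0 = (p0 * q0) * T.w (v 1) := by rw [f0]; ring
    have k2 : T.a (v 1) (v 2) * q1 = (p1 * q1) * T.w (v 1) := by rw [e1]; ring
    have hsum : (p0 * q0 + p1 * q1) * T.w (v 1) < 4 * T.w (v 1) := by linarith
    exact lt_of_mul_lt_mul_right hsum hw1.le
  have adj2 : p1 * q1 + p2 * q2 < 4 := by
    have hneg := neg4 T hn v 0 p1 2 q2 (Or.inr (Or.inr (Or.inl (by norm_num))))
    rw [d0, d1, d2, d3, z02, z03, z13] at hneg
    have g1 : T.w (v 1) * p1 * p1 = T.a (v 1) (v 2) * p1 := by rw [e1]; ring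
    have g2 : T.w (v 3) * q2 * q2 = T.a (v 2) (v 3) * q2 := by rw [f2]; ring
    have k1 : T.a (v 1) (v 2) * p1 = (p1 * q1) * T.w (v 2) := by rw [f1]; ring
    have k2 : T.a (v 2) (v 3) * q2 = (p2 * q2) * T.w (v 2) := by rw [e2]; ring
    have hsum : (p1 * q1 + p2 * q2) * T.w (v 2) < 4 * T.w (v 2) := by linarith
    exact lt_of_mul_lt_mul_right hsum hw2.le
  have T0 := pq_ge_one hp0 hq0
  have bp0 : p0 ≤ p0 * q0 := le_mul_of_one_le_right (by omega) hq0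
  have bq0 : q0 ≤ p0 * q0 := le_mul_of_one_le_left (by omega) hp0
  have T1 := pq_ge_one hp1 hq1
  have bp1 : p1 ≤ p1 * q1 := le_mul_of_one_le_right (by omega) hq1
  have bq1 : q1 ≤ p1 * q1 := le_mul_of_one_le_left (by omega) hp1
  have T2 := pq_ge_one hp2 hq2
  have bp2 : p2 ≤ p2 * q2 := le_mul_of_one_le_right (by omega) hq2
  have bq2 : q2 ≤ p2 * q2 := le_mul_of_one_le_left (by omega) hp2
  have up0 : p0 ≤ 2 := by omega
  have uq0 : q0 ≤ 2 := by omega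
  have up1 : p1 ≤ 2 := by omega
  have uq1 : q1 ≤ 2 := by omega
  have up2 : p2 ≤ 2 := by omega
  have uq2 : q2 ≤ 2 := by omega
  clear bp0 bq0 T0 bp1 bq1 T1 bp2 bq2 T2
  have r0 := row_le T v 0
  have r1 := row_le T v 1
  have r2 := row_le T v 2
  have r3 := row_le T v 3
  simp only [Fin.sum_univ_four] at r0 r1 r2 r3
  rw [d0, z02, z03] at r0
  rw [a_symm T (v 1) (v 0), d1, z13] at r1
  rw [a_symm T (v 2) (v 0), a_symm T (v 2) (v 1), d2, z02] at r2
  rw [a_symm T (v 3) (v 0), a_symm T (v 3) (v 1), a_symm T (v 3) (v 2), d3, z03, z13] at r3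
  interval_cases p0 <;> interval_cases q0 <;> interval_cases p1 <;> interval_cases q1 <;> interval_cases p2 <;> interval_cases q2 <;> try omega
  · -- (1, 1, 1, 1, 1, 1) weights [1, 1, 1, 1] pattern 0 rev=False
    obtain ⟨w, hw⟩ : ∃ w, w = T.w (v 0) := ⟨_, rfl⟩
    have hwpos : 0 < w := by rw [hw]; exact T.w_pos _
    have W0 : T.w (v 0) = 1 * w := by linarith
    have W1 : T.w (v 1) = 1 * w := by linarith
    have W2 : T.w (v 2) = 1 * w := by linarith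
    have W3 : T.w (v 3) = 1 * w := by linarith
    have A0 : T.a (v 0) (v 1) = 1 * w := by linarith
    have S0 : T.a (v 1) (v 0) = 1 * w := by rw [a_symm T]; exact A0
    have A1 : T.a (v 1) (v 2) = 1 * w := by linarith
    have S1 : T.a (v 2) (v 1) = 1 * w := by rw [a_symm T]; exact A1
    have A2 : T.a (v 2) (v 3) = 1 * w := by linarith
    have S2 : T.a (v 3) (v 2) = 1 * w := by rw [a_symm T]; exact A2
    rw [W0, A0] at r0
    rw [W1, A0, A1] at r1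
    rw [W2, A1, A2] at r2
    rw [W3, A2] at r3
    refine ⟨⟨z02, z03, z13⟩, ![v 0, v 1, v 2, v 3], w, Or.inl (by intro j; fin_cases j <;> rfl), ?_⟩
    simp only [Matrix.cons_val]
    refine Or.inl ⟨?_, ?_, ?_, ?_, ?_, ?_, ?_, ?_, ?_, ?_, ?_⟩
    all_goals first | linarith | exact cancel_w hwpos (by linarith)
  · -- (1, 1, 1, 1, 1, 2) weights [2, 2, 2, 1] pattern 2 rev=False
    obtain ⟨w, hw⟩ : ∃ w, w = T.w (v 3) := ⟨_, rfl⟩
    have hwpos : 0 < w := by rw [hw]; exact T.w_pos _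
    have W0 : T.w (v 0) = 2 * w := by linarith
    have W1 : T.w (v 1) = 2 * w := by linarith
    have W2 : T.w (v 2) = 2 * w := by linarith
    have W3 : T.w (v 3) = 1 * w := by linarith
    have A0 : T.a (v 0) (v 1) = 2 * w := by linarith
    have S0 : T.a (v 1) (v 0) = 2 * w := by rw [a_symm T]; exact A0
    have A1 : T.a (v 1) (v 2) = 2 * w := by linarith
    have S1 : T.a (v 2) (v 1) = 2 * w := by rw [a_symm T]; exact A1
    have A2 : T.a (v 2) (v 3) = 2 * w := by linarith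
    have S2 : T.a (v 3) (v 2) = 2 * w := by rw [a_symm T]; exact A2
    rw [W0, A0] at r0
    rw [W1, A0, A1] at r1
    rw [W2, A1, A2] at r2
    rw [W3, A2] at r3
    refine ⟨⟨z02, z03, z13⟩, ![v 0, v 1, v 2, v 3], w, Or.inl (by intro j; fin_cases j <;> rfl), ?_⟩
    simp only [Matrix.cons_val]
    refine Or.inr (Or.inr (Or.inl ⟨?_, ?_, ?_, ?_, ?_, ?_, ?_, ?_, ?_, ?_, ?_⟩))
    all_goals first | linarith | exact cancel_w hwpos (by linarith)
  · -- (1, 1, 1, 1, 2, 1) weights [1, 1, 1, 2] pattern 1 rev=False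
    obtain ⟨w, hw⟩ : ∃ w, w = T.w (v 0) := ⟨_, rfl⟩
    have hwpos : 0 < w := by rw [hw]; exact T.w_pos _
    have W0 : T.w (v 0) = 1 * w := by linarith
    have W1 : T.w (v 1) = 1 * w := by linarith
    have W2 : T.w (v 2) = 1 * w := by linarith
    have W3 : T.w (v 3) = 2 * w := by linarith
    have A0 : T.a (v 0) (v 1) = 1 * w := by linarith
    have S0 : T.a (v 1) (v 0) = 1 * w := by rw [a_symm T]; exact A0
    have A1 : T.a (v 1) (v 2) = 1 * w := by linarith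
    have S1 : T.a (v 2) (v 1) = 1 * w := by rw [a_symm T]; exact A1
    have A2 : T.a (v 2) (v 3) = 2 * w := by linarith
    have S2 : T.a (v 3) (v 2) = 2 * w := by rw [a_symm T]; exact A2
    rw [W0, A0] at r0
    rw [W1, A0, A1] at r1
    rw [W2, A1, A2] at r2
    rw [W3, A2] at r3
    refine ⟨⟨z02, z03, z13⟩, ![v 0, v 1, v 2, v 3], w, Or.inl (by intro j; fin_cases j <;> rfl), ?_⟩
    simp only [Matrix.cons_val]
    refine Or.inr (Or.inl ⟨?_, ?_, ?_, ?_, ?_, ?_, ?_, ?_, ?_, ?_, ?_⟩)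
    all_goals first | linarith | exact cancel_w hwpos (by linarith)
  · -- (1, 1, 1, 2, 1, 1) weights [2, 2, 1, 1] pattern 3 rev=True
    obtain ⟨w, hw⟩ : ∃ w, w = T.w (v 2) := ⟨_, rfl⟩
    have hwpos : 0 < w := by rw [hw]; exact T.w_pos _
    have W0 : T.w (v 0) = 2 * w := by linarith
    have W1 : T.w (v 1) = 2 * w := by linarith
    have W2 : T.w (v 2) = 1 * w := by linarith
    have W3 : T.w (v 3) = 1 * w := by linarith
    have A0 : T.a (v 0) (v 1) = 2 * w := by linarith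
    have S0 : T.a (v 1) (v 0) = 2 * w := by rw [a_symm T]; exact A0
    have A1 : T.a (v 1) (v 2) = 2 * w := by linarith
    have S1 : T.a (v 2) (v 1) = 2 * w := by rw [a_symm T]; exact A1
    have A2 : T.a (v 2) (v 3) = 1 * w := by linarith
    have S2 : T.a (v 3) (v 2) = 1 * w := by rw [a_symm T]; exact A2
    rw [W0, A0] at r0
    rw [W1, A0, A1] at r1
    rw [W2, A1, A2] at r2
    rw [W3, A2] at r3
    refine ⟨⟨z02, z03, z13⟩, ![v 3, v 2, v 1, v 0], w, Or.inr (by intro j; fin_cases j <;> rfl), ?_⟩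
    simp only [Matrix.cons_val]
    refine Or.inr (Or.inr (Or.inr (⟨?_, ?_, ?_, ?_, ?_, ?_, ?_, ?_, ?_, ?_, ?_⟩)))
    all_goals first | linarith | exact cancel_w hwpos (by linarith)
  · -- (1, 1, 2, 1, 1, 1) weights [1, 1, 2, 2] pattern 3 rev=False
    obtain ⟨w, hw⟩ : ∃ w, w = T.w (v 0) := ⟨_, rfl⟩
    have hwpos : 0 < w := by rw [hw]; exact T.w_pos _
    have W0 : T.w (v 0) = 1 * w := by linarith
    have W1 : T.w (v 1) = 1 * w := by linarith
    have W2 : T.w (v 2) = 2 * w := by linarith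
    have W3 : T.w (v 3) = 2 * w := by linarith
    have A0 : T.a (v 0) (v 1) = 1 * w := by linarith
    have S0 : T.a (v 1) (v 0) = 1 * w := by rw [a_symm T]; exact A0
    have A1 : T.a (v 1) (v 2) = 2 * w := by linarith
    have S1 : T.a (v 2) (v 1) = 2 * w := by rw [a_symm T]; exact A1
    have A2 : T.a (v 2) (v 3) = 2 * w := by linarith
    have S2 : T.a (v 3) (v 2) = 2 * w := by rw [a_symm T]; exact A2
    rw [W0, A0] at r0
    rw [W1, A0, A1] at r1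
    rw [W2, A1, A2] at r2
    rw [W3, A2] at r3
    refine ⟨⟨z02, z03, z13⟩, ![v 0, v 1, v 2, v 3], w, Or.inl (by intro j; fin_cases j <;> rfl), ?_⟩
    simp only [Matrix.cons_val]
    refine Or.inr (Or.inr (Or.inr (⟨?_, ?_, ?_, ?_, ?_, ?_, ?_, ?_, ?_, ?_, ?_⟩)))
    all_goals first | linarith | exact cancel_w hwpos (by linarith)
  · -- (1, 2, 1, 1, 1, 1) weights [2, 1, 1, 1] pattern 1 rev=True
    obtain ⟨w, hw⟩ : ∃ w, w = T.w (v 1) := ⟨_, rfl⟩
    have hwpos : 0 < w := by rw [hw]; exact T.w_pos _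
    have W0 : T.w (v 0) = 2 * w := by linarith
    have W1 : T.w (v 1) = 1 * w := by linarith
    have W2 : T.w (v 2) = 1 * w := by linarith
    have W3 : T.w (v 3) = 1 * w := by linarith
    have A0 : T.a (v 0) (v 1) = 2 * w := by linarith
    have S0 : T.a (v 1) (v 0) = 2 * w := by rw [a_symm T]; exact A0
    have A1 : T.a (v 1) (v 2) = 1 * w := by linarith
    have S1 : T.a (v 2) (v 1) = 1 * w := by rw [a_symm T]; exact A1
    have A2 : T.a (v 2) (v 3) = 1 * w := by linarith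
    have S2 : T.a (v 3) (v 2) = 1 * w := by rw [a_symm T]; exact A2
    rw [W0, A0] at r0
    rw [W1, A0, A1] at r1
    rw [W2, A1, A2] at r2
    rw [W3, A2] at r3
    refine ⟨⟨z02, z03, z13⟩, ![v 3, v 2, v 1, v 0], w, Or.inr (by intro j; fin_cases j <;> rfl), ?_⟩
    simp only [Matrix.cons_val]
    refine Or.inr (Or.inl ⟨?_, ?_, ?_, ?_, ?_, ?_, ?_, ?_, ?_, ?_, ?_⟩)
    all_goals first | linarith | exact cancel_w hwpos (by linarith)
  · -- (1, 2, 1, 1, 1, 2) weights [4, 2, 2, 1] excluded by (1, 2, 2, 2)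
    exfalso
    have hneg := neg4 T hn v 1 2 2 2 (Or.inl (by norm_num))
    rw [d0, d1, d2, d3, z02, z03, z13] at hneg
    linarith
  · -- (1, 2, 1, 1, 2, 1) weights [2, 1, 1, 2] excluded by (1, 2, 2, 1)
    exfalso
    have hneg := neg4 T hn v 1 2 2 1 (Or.inl (by norm_num))
    rw [d0, d1, d2, d3, z02, z03, z13] at hneg
    linarith
  · -- (2, 1, 1, 1, 1, 1) weights [1, 2, 2, 2] pattern 2 rev=True
    obtain ⟨w, hw⟩ : ∃ w, w = T.w (v 0) := ⟨_, rfl⟩
    have hwpos : 0 < w := by rw [hw]; exact T.w_pos _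
    have W0 : T.w (v 0) = 1 * w := by linarith
    have W1 : T.w (v 1) = 2 * w := by linarith
    have W2 : T.w (v 2) = 2 * w := by linarith
    have W3 : T.w (v 3) = 2 * w := by linarith
    have A0 : T.a (v 0) (v 1) = 2 * w := by linarith
    have S0 : T.a (v 1) (v 0) = 2 * w := by rw [a_symm T]; exact A0
    have A1 : T.a (v 1) (v 2) = 2 * w := by linarith
    have S1 : T.a (v 2) (v 1) = 2 * w := by rw [a_symm T]; exact A1
    have A2 : T.a (v 2) (v 3) = 2 * w := by linarith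
    have S2 : T.a (v 3) (v 2) = 2 * w := by rw [a_symm T]; exact A2
    rw [W0, A0] at r0
    rw [W1, A0, A1] at r1
    rw [W2, A1, A2] at r2
    rw [W3, A2] at r3
    refine ⟨⟨z02, z03, z13⟩, ![v 3, v 2, v 1, v 0], w, Or.inr (by intro j; fin_cases j <;> rfl), ?_⟩
    simp only [Matrix.cons_val]
    refine Or.inr (Or.inr (Or.inl ⟨?_, ?_, ?_, ?_, ?_, ?_, ?_, ?_, ?_, ?_, ?_⟩))
    all_goals first | linarith | exact cancel_w hwpos (by linarith)
  · -- (2, 1, 1, 1, 1, 2) weights [1, 2, 2, 1] excluded by (1, 1, 1, 1)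
    exfalso
    have hneg := neg4 T hn v 1 1 1 1 (Or.inl (by norm_num))
    rw [d0, d1, d2, d3, z02, z03, z13] at hneg
    linarith
  · -- (2, 1, 1, 1, 2, 1) weights [1, 2, 2, 4] excluded by (2, 2, 2, 1)
    exfalso
    have hneg := neg4 T hn v 2 2 2 1 (Or.inl (by norm_num))
    rw [d0, d1, d2, d3, z02, z03, z13] at hneg
    linarith

end Groth.Agent.S7352
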