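import Groth.Statements.S7354
import Groth.Agent.Lib.Helper29.NumTypeChain
import Groth.Agent.S7353

set_option autoImplicit false
open Finset
open Models Models.NumericalType

namespace Groth.Agent.S7354

open Groth.Agent.Lib.Helper29.NumType


/-- embedding of a segment of indices -/
def segEmb {t : ℕ} (a len : ℕ) (h : a + len ≤ t) : Fin len ↪ Fin t :=
  ⟨fun i => ⟨a + i.val, by have := i.2; omega⟩, by
    intro i j hij
    simp only [Fin.mk.injEq] at hij
    exact Fin.ext (by omega)⟩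

@[simp] lemma segEmb_val {t : ℕ} (a len : ℕ) (h : a + len ≤ t) (i : Fin len) :
    (segEmb a len h i).val = a + i.val := rfl

/-- information extracted from the classification of chains of five vertices -/
lemma five_info {n : ℕ} (T : Models.NumericalType n) (hn : 5 < n)
    (v : Fin 5 ↪ Fin n) (hv : ∀ j, T.IsMinusTwo (v j)) (h01 : T.a (v 0) (v 1) ≠ 0)
    (h12 : T.a (v 1) (v 2) ≠ 0) (h23 : T.a (v 2) (v 3) ≠ 0) (h34 : T.a (v 3) (v 4) ≠ 0) :
    T.w (v 1) = T.w (v 2) ∧ T.w (v 3) = T.w (v 2) ∧ T.a (v 1) (v 2) = T.w (v 2) ∧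
      T.a (v 2) (v 3) = T.w (v 2) ∧
      ((T.w (v 0) = T.w (v 2) ∧ T.a (v 0) (v 1) = T.w (v 2)) ∨
        (T.w (v 0) = 2 * T.w (v 2) ∧ T.a (v 0) (v 1) = 2 * T.w (v 2)) ∨
        (2 * T.w (v 0) = T.w (v 2) ∧ T.a (v 0) (v 1) = T.w (v 2))) ∧
      ((T.w (v 4) = T.w (v 2) ∧ T.a (v 3) (v 4) = T.w (v 2)) ∨
        (T.w (v 4) = 2 * T.w (v 2) ∧ T.a (v 3) (v 4) = 2 * T.w (v 2)) ∨
        (2 * T.w (v 4) = T.w (v 2) ∧ T.a (v 3) (v 4) = T.w (v 2))) := by
  obtain ⟨-, u, w, hu, hpat⟩ := Groth.Agent.S7353.result T hn v hv h01 h12 h23 h34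
  have s10 := a_symm T (v 1) (v 0)
  have s21 := a_symm T (v 2) (v 1)
  have s32 := a_symm T (v 3) (v 2)
  have s43 := a_symm T (v 4) (v 3)
  rcases hu with hu | hu
  · rw [hu 0, hu 1, hu 2, hu 3, hu 4] at hpat
    rcases hpat with ⟨w0, w1, w2, w3, w4, a0, a1, a2, a3, -⟩ | ⟨w0, w1, w2, w3, w4, a0, a1, a2, a3, -⟩ |
      ⟨w0, w1, w2, w3, w4, a0, a1, a2, a3, -⟩
    · refine ⟨by linarith, by linarith, by linarith, by linarith, Or.inl ⟨by linarith, by linarith⟩,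
        Or.inl ⟨by linarith, by linarith⟩⟩
    · refine ⟨by linarith, by linarith, by linarith, by linarith, Or.inl ⟨by linarith, by linarith⟩,
        Or.inr (Or.inl ⟨by linarith, by linarith⟩)⟩
    · refine ⟨by linarith, by linarith, by linarith, by linarith, Or.inl ⟨by linarith, by linarith⟩,
        Or.inr (Or.inr ⟨by linarith, by linarith⟩)⟩
  · have r0 : (Fin.rev 0 : Fin 5) = 4 := rfl
    have r1 : (Fin.rev 1 : Fin 5) = 3 := rfl
    have r2 : (Fin.rev 2 : Fin 5) = 2 := rfl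
    have r3 : (Fin.rev 3 : Fin 5) = 1 := rfl
    have r4 : (Fin.rev 4 : Fin 5) = 0 := rfl
    rw [hu 0, hu 1, hu 2, hu 3, hu 4, r0, r1, r2, r3, r4] at hpat
    rcases hpat with ⟨w0, w1, w2, w3, w4, a0, a1, a2, a3, -⟩ | ⟨w0, w1, w2, w3, w4, a0, a1, a2, a3, -⟩ |
      ⟨w0, w1, w2, w3, w4, a0, a1, a2, a3, -⟩
    · refine ⟨by linarith, by linarith, by linarith, by linarith, Or.inl ⟨by linarith, by linarith⟩,
        Or.inl ⟨by linarith, by linarith⟩⟩
    · refine ⟨by linarith, by linarith, by linarith, by linarith,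
        Or.inr (Or.inl ⟨by linarith, by linarith⟩), Or.inl ⟨by linarith, by linarith⟩⟩
    · refine ⟨by linarith, by linarith, by linarith, by linarith,
        Or.inr (Or.inr ⟨by linarith, by linarith⟩), Or.inl ⟨by linarith, by linarith⟩⟩

section
variable {n : ℕ} (T : Models.NumericalType n) (t : ℕ) (ht : 5 < t) (hn : t < n)
    (v : Fin t ↪ Fin n) (hv : ∀ j, T.IsMinusTwo (v j))
    (hchain : ∀ j j' : Fin t, j'.val = j.val + 1 → T.a (v j) (v j') ≠ 0)

include hn hv hchain in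
/-- non-adjacent vertices of the chain are not joined -/
lemma F1 (j k : Fin t) (hjk : j.val + 1 < k.val) : T.a (v j) (v k) = 0 := by
  have hk := k.2
  have hlen : j.val + (k.val - j.val + 1) ≤ t := by omega
  have := chain_ends_zero T ((segEmb j.val (k.val - j.val + 1) hlen).trans v) (by omega)
    (fun i => hv _) (by omega) (by
      intro i i' hii'
      apply hchain
      simp only [segEmb_val]
      omega)
  have e1 : (segEmb j.val (k.val - j.val + 1) hlen) ⟨0, by omega⟩ = j := Fin.ext (by simp)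
  have e2 : (segEmb j.val (k.val - j.val + 1) hlen) ⟨k.val - j.val + 1 - 1, by omega⟩ = k :=
    Fin.ext (by simp; omega)
  simp only [Function.Embedding.trans_apply] at this
  rw [e1, e2] at this
  exact this

include ht hn hv hchain in
/-- the information of the window starting at `a` -/
lemma window (a : ℕ) (ha : a + 5 ≤ t) :
    let x : Fin 5 → Fin t := fun i => ⟨a + i.val, by have := i.2; omega⟩
    T.w (v (x 1)) = T.w (v (x 2)) ∧ T.w (v (x 3)) = T.w (v (x 2)) ∧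
      T.a (v (x 1)) (v (x 2)) = T.w (v (x 2)) ∧
      T.a (v (x 2)) (v (x 3)) = T.w (v (x 2)) ∧
      ((T.w (v (x 0)) = T.w (v (x 2)) ∧ T.a (v (x 0)) (v (x 1)) = T.w (v (x 2))) ∨
        (T.w (v (x 0)) = 2 * T.w (v (x 2)) ∧ T.a (v (x 0)) (v (x 1)) = 2 * T.w (v (x 2))) ∨
        (2 * T.w (v (x 0)) = T.w (v (x 2)) ∧ T.a (v (x 0)) (v (x 1)) = T.w (v (x 2)))) ∧
      ((T.w (v (x 4)) = T.w (v (x 2)) ∧ T.a (v (x 3)) (v (x 4)) = T.w (v (x 2))) ∨
        (T.w (v (x 4)) = 2 * T.w (v (x 2)) ∧ T.a (v (x 3)) (v (x 4)) = 2 * T.w (v (x 2))) ∨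
        (2 * T.w (v (x 4)) = T.w (v (x 2)) ∧ T.a (v (x 3)) (v (x 4)) = T.w (v (x 2)))) := by
  intro x
  exact five_info T (by omega) ((segEmb a 5 ha).trans v) (fun i => hv _)
    (hchain _ _ rfl) (hchain _ _ rfl) (hchain _ _ rfl) (hchain _ _ rfl)

end

section
variable {n : ℕ} (T : Models.NumericalType n) (t : ℕ) (ht : 5 < t) (hn : t < n)
    (v : Fin t ↪ Fin n) (hv : ∀ j, T.IsMinusTwo (v j))
    (hchain : ∀ j j' : Fin t, j'.val = j.val + 1 → T.a (v j) (v j') ≠ 0)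

include ht hn hv hchain in
lemma mid (a : ℕ) (ha : a + 5 ≤ t) :
    T.w (v ⟨a + 1, by omega⟩) = T.w (v ⟨1, by omega⟩) ∧
    T.w (v ⟨a + 2, by omega⟩) = T.w (v ⟨1, by omega⟩) ∧
    T.w (v ⟨a + 3, by omega⟩) = T.w (v ⟨1, by omega⟩) ∧
    T.a (v ⟨a + 1, by omega⟩) (v ⟨a + 2, by omega⟩) = T.w (v ⟨1, by omega⟩) ∧
    T.a (v ⟨a + 2, by omega⟩) (v ⟨a + 3, by omega⟩) = T.w (v ⟨1, by omega⟩) := by
  induction a with
  | zero =>
    obtain ⟨h1, h2, h3, h4, -, -⟩ := window T t ht hn v hv hchain 0 ha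
    have h1' : T.w (v ⟨0 + 1, by omega⟩) = T.w (v ⟨0 + 2, by omega⟩) := h1
    have h2' : T.w (v ⟨0 + 3, by omega⟩) = T.w (v ⟨0 + 2, by omega⟩) := h2
    have h3' : T.a (v ⟨0 + 1, by omega⟩) (v ⟨0 + 2, by omega⟩) = T.w (v ⟨0 + 2, by omega⟩) := h3
    have h4' : T.a (v ⟨0 + 2, by omega⟩) (v ⟨0 + 3, by omega⟩) = T.w (v ⟨0 + 2, by omega⟩) := h4
    have h0 : T.w (v ⟨0 + 1, by omega⟩) = T.w (v ⟨1, by omega⟩) := rfl
    refine ⟨h0, ?_, ?_, ?_, ?_⟩
    · rw [← h1', h0]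
    · rw [h2', ← h1', h0]
    · rw [h3', ← h1', h0]
    · rw [h4', ← h1', h0]
  | succ a ih =>
    obtain ⟨i1, i2, i3, i4, i5⟩ := ih (by omega)
    obtain ⟨h1, h2, h3, h4, -, -⟩ := window T t ht hn v hv hchain (a + 1) ha
    have h1' : T.w (v ⟨a + 2, by omega⟩) = T.w (v ⟨a + 3, by omega⟩) := h1
    have h2' : T.w (v ⟨a + 1 + 3, by omega⟩) = T.w (v ⟨a + 3, by omega⟩) := h2
    have h3' : T.a (v ⟨a + 1 + 1, by omega⟩) (v ⟨a + 1 + 2, by omega⟩) = T.w (v ⟨a + 3, by omega⟩) := h3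
    have h4' : T.a (v ⟨a + 1 + 2, by omega⟩) (v ⟨a + 1 + 3, by omega⟩) = T.w (v ⟨a + 3, by omega⟩) := h4
    have g1 : T.w (v ⟨a + 1 + 1, by omega⟩) = T.w (v ⟨1, by omega⟩) := i2
    have g2 : T.w (v ⟨a + 1 + 2, by omega⟩) = T.w (v ⟨1, by omega⟩) := i3
    refine ⟨g1, g2, ?_, ?_, ?_⟩
    · rw [h2', i3]
    · rw [h3', i3]
    · rw [h4', i3]

end

section
variable {n : ℕ} (T : Models.NumericalType n) (t : ℕ) (ht : 5 < t) (hn : t < n)
    (v : Fin t ↪ Fin n) (hv : ∀ j, T.IsMinusTwo (v j))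
    (hchain : ∀ j j' : Fin t, j'.val = j.val + 1 → T.a (v j) (v j') ≠ 0)

lemma Qv_smul {k : ℕ} (v : Fin k ↪ Fin n) (s : ℤ) (c : Fin k → ℤ) :
    Qv T v (s • c) = s ^ 2 * Qv T v c := by
  unfold Qv
  simp only [Pi.smul_apply, smul_eq_mul, Finset.mul_sum]
  exact Finset.sum_congr rfl fun j _ => Finset.sum_congr rfl fun j' _ => by ring

include ht hn hv hchain in
/-- interior weights -/
lemma F2 (j : Fin t) (h1 : 1 ≤ j.val) (h2 : j.val + 2 ≤ t) :
    T.w (v j) = T.w (v ⟨1, by omega⟩) := by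
  by_cases hj : j.val + 4 ≤ t
  · obtain ⟨m1, -, -, -, -⟩ := mid T t ht hn v hv hchain (j.val - 1) (by omega)
    have e : (⟨j.val - 1 + 1, by omega⟩ : Fin t) = j := Fin.ext (by simp; omega)
    rw [e] at m1
    exact m1
  · obtain ⟨-, m2, m3, -, -⟩ := mid T t ht hn v hv hchain (t - 5) (by omega)
    by_cases hj' : j.val + 3 = t
    · have e : (⟨t - 5 + 2, by omega⟩ : Fin t) = j := Fin.ext (by simp; omega)
      rw [e] at m2
      exact m2
    · have e : (⟨t - 5 + 3, by omega⟩ : Fin t) = j := Fin.ext (by simp; omega)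
      rw [e] at m3
      exact m3

include ht hn hv hchain in
/-- interior edges -/
lemma F3 (j j' : Fin t) (hjj' : j'.val = j.val + 1) (h1 : 1 ≤ j.val) (h2 : j'.val + 2 ≤ t) :
    T.a (v j) (v j') = T.w (v ⟨1, by omega⟩) := by
  by_cases hj : j.val + 4 ≤ t
  · obtain ⟨-, -, -, m4, -⟩ := mid T t ht hn v hv hchain (j.val - 1) (by omega)
    have e : (⟨j.val - 1 + 1, by omega⟩ : Fin t) = j := Fin.ext (by simp; omega)
    have e' : (⟨j.val - 1 + 2, by omega⟩ : Fin t) = j' := Fin.ext (by simp; omega)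
    rw [e, e'] at m4
    exact m4
  · obtain ⟨-, -, -, -, m5⟩ := mid T t ht hn v hv hchain (t - 5) (by omega)
    have e : (⟨t - 5 + 2, by omega⟩ : Fin t) = j := Fin.ext (by simp; omega)
    have e' : (⟨t - 5 + 3, by omega⟩ : Fin t) = j' := Fin.ext (by simp; omega)
    rw [e, e'] at m5
    exact m5

include ht hn hv hchain in
/-- the first edge -/
lemma F4 (j j' : Fin t) (hj : j.val = 0) (hj' : j'.val = 1) :
    (T.w (v j) = T.w (v ⟨1, by omega⟩) ∧ T.a (v j) (v j') = T.w (v ⟨1, by omega⟩)) ∨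
      (T.w (v j) = 2 * T.w (v ⟨1, by omega⟩) ∧ T.a (v j) (v j') = 2 * T.w (v ⟨1, by omega⟩)) ∨
      (2 * T.w (v j) = T.w (v ⟨1, by omega⟩) ∧ T.a (v j) (v j') = T.w (v ⟨1, by omega⟩)) := by
  obtain ⟨h1, -, -, -, h5, -⟩ := window T t ht hn v hv hchain 0 (by omega)
  have e0 : (⟨0 + (0 : Fin 5).val, by omega⟩ : Fin t) = j := Fin.ext (by simp; omega)
  have e1 : (⟨0 + (1 : Fin 5).val, by omega⟩ : Fin t) = j' := Fin.ext (by simp; omega)
  have ej' : (⟨1, by omega⟩ : Fin t) = j' := Fin.ext (by simp; omega)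
  simp only at h1 h5
  rw [← h1, e0, e1] at h5
  rw [ej']
  exact h5

include ht hn hv hchain in
/-- the last edge -/
lemma F5 (j j' : Fin t) (hj : j.val + 1 = t) (hj' : j'.val + 2 = t) :
    (T.w (v j) = T.w (v ⟨1, by omega⟩) ∧ T.a (v j') (v j) = T.w (v ⟨1, by omega⟩)) ∨
      (T.w (v j) = 2 * T.w (v ⟨1, by omega⟩) ∧ T.a (v j') (v j) = 2 * T.w (v ⟨1, by omega⟩)) ∨
      (2 * T.w (v j) = T.w (v ⟨1, by omega⟩) ∧ T.a (v j') (v j) = T.w (v ⟨1, by omega⟩)) := by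
  obtain ⟨-, h2, -, -, -, h6⟩ := window T t ht hn v hv hchain (t - 5) (by omega)
  have e4 : (⟨t - 5 + (4 : Fin 5).val, by omega⟩ : Fin t) = j := Fin.ext (by simp; omega)
  have e3 : (⟨t - 5 + (3 : Fin 5).val, by omega⟩ : Fin t) = j' := Fin.ext (by simp; omega)
  simp only at h2 h6
  rw [← h2, e4, e3] at h6
  have := F2 T t ht hn v hv hchain j' (by omega) (by omega)
  rw [← this]
  exact h6


include ht hn hv hchain in
/-- if the first edge is not simple, the last one is -/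
lemma F6 (j0 j1 jl jl' : Fin t) (h0 : j0.val = 0) (h1 : j1.val = 1) (hl : jl.val + 1 = t)
    (hl' : jl'.val + 2 = t) (p : ℤ) (hp : 0 ≤ p)
    (hfirst : 4 * T.w (v ⟨1, by omega⟩) ≤ 4 * p * T.a (v j0) (v j1) - 2 * p ^ 2 * T.w (v j0)) :
    T.w (v jl) = T.w (v ⟨1, by omega⟩) ∧ T.a (v jl') (v jl) = T.w (v ⟨1, by omega⟩) := by
  classical
  set W := T.w (v ⟨1, by omega⟩) with hW
  have hlen : 1 + (t - 2) ≤ t := by omega
  set e : Fin (t - 2) ↪ Fin t := segEmb 1 (t - 2) hlen with he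
  have hr : t - 3 < t - 2 := by omega
  have hge := Qv_initSeg_ge T (e.trans v) (fun i => hv _) (by
    intro i i' hii'
    apply hchain
    simp only [he, segEmb_val]
    omega) (t - 3) hr
  have ew : T.w ((e.trans v) ⟨t - 3, hr⟩) = W :=
    F2 T t ht hn v hv hchain _ (by simp [he]) (by simp [he]; omega)
  rw [ew, ← Qv_extend] at hge
  set c0 : Fin t → ℤ := extendZ e (initSeg (t - 3)) with hc0
  set c1 : Fin t → ℤ := (2 : ℤ) • c0 with hc1
  have hQ1 : Qv T v c1 = 4 * Qv T v c0 := by rw [hc1, Qv_smul]; norm_num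
  have c0nn : ∀ i, 0 ≤ c0 i := extendZ_nonneg e _ (fun i => initSeg_nonneg _ i)
  have c1nn : ∀ i, 0 ≤ c1 i := by
    intro i
    have := c0nn i
    simp only [hc1, Pi.smul_apply, smul_eq_mul]
    omega
  have c0_out : ∀ j : Fin t, (j.val = 0 ∨ j.val + 1 = t) → c0 j = 0 := by
    intro j hj
    apply extendZ_apply_of_forall_ne
    intro i h
    have := congrArg Fin.val h
    have hi := i.2
    simp only [he, segEmb_val] at this
    omega
  have c0_in : ∀ j : Fin t, 1 ≤ j.val → j.val + 2 ≤ t → c0 j = 1 := by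
    intro j hj1 hj2
    have ej : e ⟨j.val - 1, by omega⟩ = j := Fin.ext (by simp [he]; omega)
    rw [← ej, hc0, extendZ_apply_emb]
    unfold initSeg
    rw [if_pos]
    simp only
    omega
  have c1_j0 : c1 j0 = 0 := by simp [hc1, c0_out j0 (Or.inl h0)]
  have c1_jl : c1 jl = 0 := by simp [hc1, c0_out jl (Or.inr hl)]
  have c1_j1 : c1 j1 = 2 := by simp [hc1, c0_in j1 (by omega) (by omega)]
  have c1_jl' : c1 jl' = 2 := by simp [hc1, c0_in jl' (by omega) (by omega)]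
  set c2 : Fin t → ℤ := c1 + p • (Pi.single j0 (1 : ℤ) : Fin t → ℤ) with hc2
  have hQ2 := Qv_add_single T v c1 j0 p
  rw [← hc2, (hv j0).2] at hQ2
  have hL := Lv_ge_one T v j0 j1 c1 c1nn c1_j0
  rw [c1_j1] at hL
  have hne_l : jl ≠ j0 := fun h => by have := congrArg Fin.val h; omega
  have hne_l' : jl' ≠ j0 := fun h => by have := congrArg Fin.val h; omega
  have c2_jl : c2 jl = 0 := by simp [hc2, c1_jl, hne_l]
  have c2_jl' : c2 jl' = 2 := by simp [hc2, c1_jl', hne_l']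
  have c2nn : ∀ i, 0 ≤ c2 i := by
    intro i
    have := c1nn i
    simp only [hc2, Pi.add_apply, Pi.smul_apply, smul_eq_mul, Pi.single_apply]
    split_ifs <;> omega
  have hwl' : T.w (v jl') = W := F2 T t ht hn v hv hchain jl' (by omega) (by omega)
  have hall : T.a (v jl) (v jl') ≠ 0 := by
    rw [a_symm]
    exact hchain jl' jl (by omega)
  have hmulL : 2 * p * (T.a (v j0) (v j1) * 2) ≤ 2 * p * Lv T v j0 c1 :=
    mul_le_mul_of_nonneg_left hL (by positivity)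
  have hfork := ext_fork T v hn hv c2 c2nn jl jl' c2_jl c2_jl' hall (by
    rw [hwl', hQ2, hQ1]
    nlinarith)
  obtain ⟨f1, f2, -, -⟩ := hfork
  rw [hwl'] at f1 f2
  rw [a_symm] at f2
  exact ⟨f1, f2⟩


end

/-- assembling the conclusion from the structural facts (first edge simple) -/
lemma assemble {n : ℕ} (T : Models.NumericalType n) (t : ℕ) (ht : 5 < t) (u : Fin t → Fin n) (W : ℤ)
    (hint : ∀ j : Fin t, 1 ≤ j.val → j.val + 2 ≤ t → T.w (u j) = W)
    (hedge : ∀ j j' : Fin t, j'.val = j.val + 1 → 1 ≤ j.val → j'.val + 2 ≤ t → T.a (u j) (u j') = W)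
    (hfirst : ∀ j j' : Fin t, j.val = 0 → j'.val = 1 → T.w (u j) = W ∧ T.a (u j) (u j') = W)
    (hlast : ∀ j j' : Fin t, j.val + 1 = t → j'.val + 2 = t →
      (T.w (u j) = W ∧ T.a (u j') (u j) = W) ∨ (T.w (u j) = 2 * W ∧ T.a (u j') (u j) = 2 * W) ∨
        (2 * T.w (u j) = W ∧ T.a (u j') (u j) = W)) :
    ∃ w : ℤ,
      ((∀ j : Fin t, T.w (u j) = w) ∧ (∀ j j' : Fin t, j'.val = j.val + 1 → T.a (u j) (u j') = w) ∨
        ((∀ j : Fin t, j.val + 1 < t → T.w (u j) = w) ∧ (∀ j : Fin t, j.val + 1 = t → T.w (u j) = 2 * w) ∧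
          (∀ j j' : Fin t, j'.val = j.val + 1 → j'.val + 1 < t → T.a (u j) (u j') = w) ∧
          (∀ j j' : Fin t, j'.val = j.val + 1 → j'.val + 1 = t → T.a (u j) (u j') = 2 * w)) ∨
        ((∀ j : Fin t, j.val + 1 < t → T.w (u j) = 2 * w) ∧ (∀ j : Fin t, j.val + 1 = t → T.w (u j) = w) ∧
          (∀ j j' : Fin t, j'.val = j.val + 1 → T.a (u j) (u j') = 2 * w))) := by
  have hw : ∀ j : Fin t, j.val + 1 < t → T.w (u j) = W := by
    intro j hj
    by_cases h0 : j.val = 0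
    · exact (hfirst j ⟨1, by omega⟩ h0 rfl).1
    · exact hint j (by omega) (by omega)
  have ha : ∀ j j' : Fin t, j'.val = j.val + 1 → j'.val + 1 < t → T.a (u j) (u j') = W := by
    intro j j' hjj' hj'
    by_cases h0 : j.val = 0
    · exact (hfirst j j' h0 (by omega)).2
    · exact hedge j j' hjj' (by omega) (by omega)
  have hjl : ∀ j : Fin t, j.val + 1 = t → j = ⟨t - 1, by omega⟩ := fun j hj => Fin.ext (by simp; omega)
  rcases hlast ⟨t - 1, by omega⟩ ⟨t - 2, by omega⟩ (by simp; omega) (by simp; omega) with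
    ⟨l1, l2⟩ | ⟨l1, l2⟩ | ⟨l1, l2⟩
  · refine ⟨W, Or.inl ⟨?_, ?_⟩⟩
    · intro j
      by_cases hj : j.val + 1 < t
      · exact hw j hj
      · rw [hjl j (by omega)]; exact l1
    · intro j j' hjj'
      by_cases hj : j'.val + 1 < t
      · exact ha j j' hjj' hj
      · have e1 := hjl j' (by omega)
        have e2 : j = ⟨t - 2, by omega⟩ := Fin.ext (by simp; omega)
        rw [e1, e2]; exact l2
  · refine ⟨W, Or.inr (Or.inl ⟨hw, ?_, ha, ?_⟩)⟩
    · intro j hj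
      rw [hjl j hj]; exact l1
    · intro j j' hjj' hj
      have e1 := hjl j' hj
      have e2 : j = ⟨t - 2, by omega⟩ := Fin.ext (by simp; omega)
      rw [e1, e2]; exact l2
  · refine ⟨T.w (u ⟨t - 1, by omega⟩), Or.inr (Or.inr ⟨?_, ?_, ?_⟩)⟩
    · intro j hj
      rw [l1]; exact hw j hj
    · intro j hj
      rw [hjl j hj]
    · intro j j' hjj'
      rw [l1]
      by_cases hj : j'.val + 1 < t
      · exact ha j j' hjj' hj
      · have e1 := hjl j' (by omega)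
        have e2 : j = ⟨t - 2, by omega⟩ := Fin.ext (by simp; omega)
        rw [e1, e2]; exact l2


/-- Let T be a numerical type on n indices, t > 5 with n > t, and i_1, …, i_t distinct (-2)-indices with
a_{i_j i_{j+1}} nonzero for j = 1, …, t - 1. Then, after possibly reversing the order of the
indices, for some integer w either (A) w_{i_1} = … = w_{i_t} = w and a_{i_j i_{j+1}} = w for all j;
or (C) w_{i_1} = … = w_{i_{t-1}} = w, w_{i_t} = 2w, a_{i_j i_{j+1}} = w for j < t - 1 and a_{i_{t-1}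
i_t} = 2w; or (B) w_{i_1} = … = w_{i_{t-1}} = 2w, w_{i_t} = w and a_{i_j i_{j+1}} = 2w for all j;
and in every case a_{i_j i_k} = 0 whenever k > j + 1. -/
theorem result {n : ℕ} (T : Models.NumericalType n) (t : ℕ) (ht : 5 < t) (hn : t < n)
    (v : Fin t ↪ Fin n) (hv : ∀ j, T.IsMinusTwo (v j))
    (hchain : ∀ j j' : Fin t, j'.val = j.val + 1 → T.a (v j) (v j') ≠ 0) :
    ∃ (u : Fin t → Fin n) (w : ℤ), ((∀ j, u j = v j) ∨ (∀ j, u j = v (Fin.rev j))) ∧
      (∀ j k : Fin t, j.val + 1 < k.val → T.a (u j) (u k) = 0) ∧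
      ((∀ j : Fin t, T.w (u j) = w) ∧ (∀ j j' : Fin t, j'.val = j.val + 1 → T.a (u j) (u j') = w) ∨
        ((∀ j : Fin t, j.val + 1 < t → T.w (u j) = w) ∧ (∀ j : Fin t, j.val + 1 = t → T.w (u j) = 2 * w) ∧
          (∀ j j' : Fin t, j'.val = j.val + 1 → j'.val + 1 < t → T.a (u j) (u j') = w) ∧
          (∀ j j' : Fin t, j'.val = j.val + 1 → j'.val + 1 = t → T.a (u j) (u j') = 2 * w)) ∨
        ((∀ j : Fin t, j.val + 1 < t → T.w (u j) = 2 * w) ∧ (∀ j : Fin t, j.val + 1 = t → T.w (u j) = w) ∧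
          (∀ j j' : Fin t, j'.val = j.val + 1 → T.a (u j) (u j') = 2 * w))) := by
  -- BEGIN PROOF
  have hF1 := F1 T t hn v hv hchain
  have hF2 := F2 T t ht hn v hv hchain
  have hF3 := F3 T t ht hn v hv hchain
  have hF4 := F4 T t ht hn v hv hchain
  have hF5 := F5 T t ht hn v hv hchain
  have hF6 := F6 T t ht hn v hv hchain
  set W := T.w (v ⟨1, by omega⟩) with hW
  have hWpos : 0 < W := T.w_pos _
  -- the reversed case
  have hrev : T.w (v ⟨t - 1, by omega⟩) = W ∧ T.a (v ⟨t - 2, by omega⟩) (v ⟨t - 1, by omega⟩) = W →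
      ∃ (u : Fin t → Fin n) (w : ℤ), ((∀ j, u j = v j) ∨ (∀ j, u j = v (Fin.rev j))) ∧
      (∀ j k : Fin t, j.val + 1 < k.val → T.a (u j) (u k) = 0) ∧
      ((∀ j : Fin t, T.w (u j) = w) ∧ (∀ j j' : Fin t, j'.val = j.val + 1 → T.a (u j) (u j') = w) ∨
        ((∀ j : Fin t, j.val + 1 < t → T.w (u j) = w) ∧ (∀ j : Fin t, j.val + 1 = t → T.w (u j) = 2 * w) ∧
          (∀ j j' : Fin t, j'.val = j.val + 1 → j'.val + 1 < t → T.a (u j) (u j') = w) ∧
          (∀ j j' : Fin t, j'.val = j.val + 1 → j'.val + 1 = t → T.a (u j) (u j') = 2 * w)) ∨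
        ((∀ j : Fin t, j.val + 1 < t → T.w (u j) = 2 * w) ∧ (∀ j : Fin t, j.val + 1 = t → T.w (u j) = w) ∧
          (∀ j j' : Fin t, j'.val = j.val + 1 → T.a (u j) (u j') = 2 * w))) := by
    rintro ⟨l1, l2⟩
    obtain ⟨w, hw⟩ := assemble T t ht (fun j => v (Fin.rev j)) W
      (fun j h1 h2 => hF2 _ (by rw [Fin.val_rev]; omega) (by rw [Fin.val_rev]; omega))
      (fun j j' hjj' h1 h2 => by
        show T.a (v (Fin.rev j)) (v (Fin.rev j')) = W
        rw [a_symm]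
        exact hF3 _ _ (by rw [Fin.val_rev, Fin.val_rev]; omega) (by rw [Fin.val_rev]; omega)
          (by rw [Fin.val_rev]; omega))
      (fun j j' h0 h1 => by
        show T.w (v (Fin.rev j)) = W ∧ T.a (v (Fin.rev j)) (v (Fin.rev j')) = W
        have e1 : Fin.rev j = ⟨t - 1, by omega⟩ := Fin.ext (by rw [Fin.val_rev]; simp; omega)
        have e2 : Fin.rev j' = ⟨t - 2, by omega⟩ := Fin.ext (by rw [Fin.val_rev]; simp; omega)
        rw [e1, e2, a_symm T (v ⟨t - 1, by omega⟩)]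
        exact ⟨l1, l2⟩)
      (fun j j' hl hl' => by
        show (T.w (v (Fin.rev j)) = W ∧ T.a (v (Fin.rev j')) (v (Fin.rev j)) = W) ∨
          (T.w (v (Fin.rev j)) = 2 * W ∧ T.a (v (Fin.rev j')) (v (Fin.rev j)) = 2 * W) ∨
          (2 * T.w (v (Fin.rev j)) = W ∧ T.a (v (Fin.rev j')) (v (Fin.rev j)) = W)
        rw [a_symm T (v (Fin.rev j'))]
        exact hF4 _ _ (by rw [Fin.val_rev]; omega) (by rw [Fin.val_rev]; omega))
    refine ⟨fun j => v (Fin.rev j), w, Or.inr fun j => rfl, ?_, hw⟩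
    intro j k hjk
    show T.a (v (Fin.rev j)) (v (Fin.rev k)) = 0
    rw [a_symm]
    exact hF1 _ _ (by rw [Fin.val_rev, Fin.val_rev]; omega)
  rcases hF4 ⟨0, by omega⟩ ⟨1, by omega⟩ rfl rfl with ⟨f1, f2⟩ | ⟨f1, f2⟩ | ⟨f1, f2⟩
  · obtain ⟨w, hw⟩ := assemble T t ht (fun j => v j) W hF2 hF3
      (fun j j' h0 h1 => by
        have e0 : j = ⟨0, by omega⟩ := Fin.ext h0
        have e1 : j' = ⟨1, by omega⟩ := Fin.ext h1
        rw [e0, e1]
        exact ⟨f1, f2⟩) hF5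
    exact ⟨fun j => v j, w, Or.inl fun j => rfl, hF1, hw⟩
  · apply hrev
    have := hF6 ⟨0, by omega⟩ ⟨1, by omega⟩ ⟨t - 1, by omega⟩ ⟨t - 2, by omega⟩ rfl rfl
      (by simp; omega) (by simp; omega) 1 (by norm_num) (by rw [f1, f2]; linarith)
    exact this
  · apply hrev
    have := hF6 ⟨0, by omega⟩ ⟨1, by omega⟩ ⟨t - 1, by omega⟩ ⟨t - 2, by omega⟩ rfl rfl
      (by simp; omega) (by simp; omega) 2 (by norm_num) (by rw [f2]; linarith)
    exact this
  -- END PROOF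

end Groth.Agent.S7354
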