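import Groth.Statements.S7362
import Mathlib
import Groth.Agent.Lib.Helper22.NumType

set_option autoImplicit false
open Finset
open Models Models.NumericalType

namespace Groth.Agent.S7362

open Groth.Agent.Lib.Helper22.NumType

/-- Genus one classification: case n = 2: let T be a minimal numerical type of genus 1 on two indices.
Then for some ordering i, j of the indices and some integers m, w, either m_i = m_j = m, a_ii = a_jj
= -2w, a_ij = 2w, w_i = w_j = w, g_i = g_j = 0; or m_i = 2m, m_j = m, a_ii = -2w, a_ij = 4w, a_jj =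
-8w, w_i = w, w_j = 4w, g_i = g_j = 0. Only the classification direction is stated. -/
theorem result (T : Models.NumericalType 2) (hmin : T.IsMinimal) (hg : T.genus = 1) :
    ∃ (i j : Fin 2) (m w : ℤ), i ≠ j ∧ T.g i = 0 ∧ T.g j = 0 ∧
      ((T.m i = m ∧ T.m j = m ∧ T.a i i = -2 * w ∧ T.a i j = 2 * w ∧ T.a j j = -2 * w ∧ T.w i = w ∧ T.w j = w) ∨
        (T.m i = 2 * m ∧ T.m j = m ∧ T.a i i = -2 * w ∧ T.a i j = 4 * w ∧ T.a j j = -8 * w ∧ T.w i = w ∧ T.w j = 4 * w)) := by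
  obtain ⟨hg0, ha0⟩ := minusTwo_of_genus_one T le_rfl hmin hg 0
  obtain ⟨hg1, ha1⟩ := minusTwo_of_genus_one T le_rfl hmin hg 1
  have hr0 := row_sum T 0
  have hr1 := row_sum T 1
  rw [Fin.sum_univ_two] at hr0 hr1
  have hsym : T.a 1 0 = T.a 0 1 := by
    have := T.symm
    exact congrFun (congrFun this 0) 1
  obtain ⟨c₀, hc₀⟩ := T.w_dvd 0 1
  obtain ⟨c₁, hc₁⟩ := T.w_dvd 1 0
  rw [hsym] at hc₁ hr1
  have hm0 := T.m_pos 0
  have hm1 := T.m_pos 1
  have hw0 := T.w_pos 0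
  have hw1 := T.w_pos 1
  rw [ha0, hc₀] at hr0
  rw [ha1, hc₁] at hr1
  -- 2 m₀ = c₀ m₁ and c₁ m₀ = 2 m₁
  have e0 : 2 * T.m 0 = c₀ * T.m 1 := by
    have : T.w 0 * (c₀ * T.m 1 - 2 * T.m 0) = 0 := by linarith
    rcases mul_eq_zero.mp this with h | h
    · exact absurd h hw0.ne'
    · linarith
  have e1 : c₁ * T.m 0 = 2 * T.m 1 := by
    have : T.w 1 * (c₁ * T.m 0 - 2 * T.m 1) = 0 := by linarith
    rcases mul_eq_zero.mp this with h | h
    · exact absurd h hw1.ne'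
    · linarith
  have hc0pos : 0 < c₀ := by
    by_contra h
    push Not at h
    nlinarith
  have hc1pos : 0 < c₁ := by
    by_contra h
    push Not at h
    nlinarith
  have hprod : c₀ * c₁ = 4 := by
    have h1 : (c₀ * c₁ - 4) * (T.m 0 * T.m 1) = 0 := by
      have : c₀ * c₁ * (T.m 0 * T.m 1) = (c₀ * T.m 1) * (c₁ * T.m 0) := by ring
      rw [sub_mul, this, ← e0, e1]; ring
    rcases mul_eq_zero.mp h1 with h | h
    · linarith
    · exact absurd h (mul_pos hm0 hm1).ne'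
  have hc0le : c₀ ≤ 4 := by nlinarith
  have hww : T.w 0 * c₀ = T.w 1 * c₁ := by rw [← hc₀, ← hc₁]
  interval_cases c₀
  · -- c₀ = 1, c₁ = 4
    have hc1 : c₁ = 4 := by linarith
    subst hc1
    refine ⟨1, 0, T.m 0, T.w 1, by decide, hg1, hg0, Or.inr ⟨by linarith, rfl, ha1, ?_, ?_, rfl, by linarith⟩⟩
    · rw [hsym, hc₁]; ring
    · rw [ha0]; linarith
  · -- c₀ = 2, c₁ = 2
    have hc1 : c₁ = 2 := by linarith
    subst hc1
    have hw : T.w 0 = T.w 1 := by linarith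
    refine ⟨0, 1, T.m 0, T.w 0, by decide, hg0, hg1, Or.inl ⟨rfl, by linarith, ha0, ?_, ?_, rfl, hw.symm⟩⟩
    · rw [hc₀]; ring
    · rw [ha1, hw]
  · -- c₀ = 3 impossible
    omega
  · -- c₀ = 4, c₁ = 1
    have hc1 : c₁ = 1 := by linarith
    subst hc1
    refine ⟨0, 1, T.m 1, T.w 0, by decide, hg0, hg1, Or.inr ⟨by linarith, rfl, ha0, ?_, ?_, rfl, by linarith⟩⟩
    · rw [hc₀]; ring
    · rw [ha1]; linarith

end Groth.Agent.S7362
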