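import Groth.Statements.S7363
import Groth.Agent.Lib.Helper22.NumType
import Groth.Agent.Lib.Helper29.G1Cyc
import Groth.Agent.Lib.Helper29.G1CC
import Groth.Agent.Lib.Helper29.G1G2
import Groth.Agent.Lib.Helper29.G1Pair

set_option autoImplicit false
open Finset
open Models Models.NumericalType

namespace Groth.Agent.S7363

open Groth.Agent.Lib.Helper29.NumType Groth.Agent.Lib.Helper29.G1

lemma sum_fin3 (f : Fin 3 → ℤ) (i j k : Fin 3) (hij : i ≠ j) (hjk : j ≠ k) (hik : i ≠ k) :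
    ∑ l, f l = f i + f j + f k := by
  rw [Fin.sum_univ_three]
  fin_cases i <;> fin_cases j <;> fin_cases k <;> simp at hij hjk hik ⊢ <;> ring

/-- a path `i - j - k` in a numerical type on three indices -/
lemma exists_path3 (T : Models.NumericalType 3) :
    ∃ i j k : Fin 3, i ≠ j ∧ j ≠ k ∧ i ≠ k ∧ T.a i j ≠ 0 ∧ T.a j k ≠ 0 := by
  classical
  obtain ⟨i, hi, j, hj, h0j⟩ := T.connected {0} (Finset.singleton_nonempty 0) (by
    intro h
    have := congrArg Finset.card h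
    simp at this)
  rw [Finset.mem_singleton] at hi
  subst hi
  have hj0 : j ≠ 0 := fun h => hj (by rw [h]; exact Finset.mem_singleton_self _)
  obtain ⟨i', hi', k, hk, hik⟩ := T.connected {0, j} ⟨0, by simp⟩ (by
    intro h
    have := congrArg Finset.card h
    rw [Finset.card_pair (Ne.symm hj0)] at this
    simp at this)
  have hk0 : k ≠ 0 := fun h => hk (by rw [h]; simp)
  have hkj : k ≠ j := fun h => hk (by rw [h]; simp)
  rw [Finset.mem_insert, Finset.mem_singleton] at hi'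
  rcases hi' with rfl | rfl
  · exact ⟨j, 0, k, hj0, Ne.symm hk0, Ne.symm hkj, by rw [a_symm]; exact h0j, hik⟩
  · exact ⟨0, i', k, Ne.symm hj0, Ne.symm hkj, Ne.symm hk0, h0j, hik⟩

lemma cartan_pair {n : ℕ} (T : Models.NumericalType n) (hn : 2 < n) {i j : Fin n} (hij : i ≠ j)
    (hi : T.IsMinusTwo i) (hj : T.IsMinusTwo j) (ha : T.a i j ≠ 0) :
    ∃ p q : ℤ, T.a i j = p * T.w i ∧ T.a i j = q * T.w j ∧
      ((p = 1 ∧ q = 1) ∨ (p = 2 ∧ q = 1) ∨ (p = 1 ∧ q = 2) ∨ (p = 3 ∧ q = 1) ∨ (p = 1 ∧ q = 3)) := by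
  rcases pair_types T hn hij hi hj ha with ⟨h1, h2⟩ | ⟨h1, h2⟩ | ⟨h1, h2⟩ | ⟨h1, h2⟩ | ⟨h1, h2⟩
  · exact ⟨1, 1, by linarith, by linarith, Or.inl ⟨rfl, rfl⟩⟩
  · exact ⟨2, 1, by linarith, by linarith, Or.inr (Or.inl ⟨rfl, rfl⟩)⟩
  · exact ⟨1, 2, by linarith, by linarith, Or.inr (Or.inr (Or.inl ⟨rfl, rfl⟩))⟩
  · exact ⟨3, 1, by linarith, by linarith, Or.inr (Or.inr (Or.inr (Or.inl ⟨rfl, rfl⟩)))⟩
  · exact ⟨1, 3, by linarith, by linarith, Or.inr (Or.inr (Or.inr (Or.inr ⟨rfl, rfl⟩)))⟩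

lemma chain3 (i j k : Fin 3) (hij : i ≠ j) (hjk : j ≠ k) (hik : i ≠ k) (T : Models.NumericalType 3)
    (aij : T.a i j ≠ 0) (ajk : T.a j k ≠ 0) :
    ∀ a b : Fin 3, b.val = a.val + 1 →
      T.a (emb3 i j k hij hjk hik a) (emb3 i j k hij hjk hik b) ≠ 0 := by
  intro a b hab
  fin_cases a <;> fin_cases b <;> simp at hab ⊢
  · exact aij
  · exact ajk
/-- the six types on three indices, in terms of a permutation -/
def Out3 (T : Models.NumericalType 3) (σ : Equiv.Perm (Fin 3)) (m w : ℤ) : Prop :=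
      ((T.m (σ 0) = m ∧ T.m (σ 1) = m ∧ T.m (σ 2) = m ∧ T.a (σ 0) (σ 0) = -2 * w ∧ T.a (σ 1) (σ 1) = -2 * w ∧ T.a (σ 2) (σ 2) = -2 * w ∧
          T.a (σ 0) (σ 1) = w ∧ T.a (σ 0) (σ 2) = w ∧ T.a (σ 1) (σ 2) = w ∧ T.w (σ 0) = w ∧ T.w (σ 1) = w ∧ T.w (σ 2) = w) ∨
        (T.m (σ 0) = m ∧ T.m (σ 1) = 2 * m ∧ T.m (σ 2) = m ∧ T.a (σ 0) (σ 0) = -2 * w ∧ T.a (σ 0) (σ 1) = w ∧ T.a (σ 0) (σ 2) = 0 ∧ T.a (σ 1) (σ 1) = -2 * w ∧
          T.a (σ 1) (σ 2) = 3 * w ∧ T.a (σ 2) (σ 2) = -6 * w ∧ T.w (σ 0) = w ∧ T.w (σ 1) = w ∧ T.w (σ 2) = 3 * w) ∨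
        (T.m (σ 0) = m ∧ T.m (σ 1) = 2 * m ∧ T.m (σ 2) = 3 * m ∧ T.a (σ 0) (σ 0) = -6 * w ∧ T.a (σ 0) (σ 1) = 3 * w ∧ T.a (σ 0) (σ 2) = 0 ∧ T.a (σ 1) (σ 1) = -6 * w ∧
          T.a (σ 1) (σ 2) = 3 * w ∧ T.a (σ 2) (σ 2) = -2 * w ∧ T.w (σ 0) = 3 * w ∧ T.w (σ 1) = 3 * w ∧ T.w (σ 2) = w) ∨
        (T.m (σ 0) = 2 * m ∧ T.m (σ 1) = 2 * m ∧ T.m (σ 2) = m ∧ T.a (σ 0) (σ 0) = -2 * w ∧ T.a (σ 0) (σ 1) = 2 * w ∧ T.a (σ 0) (σ 2) = 0 ∧ T.a (σ 1) (σ 1) = -4 * w ∧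
          T.a (σ 1) (σ 2) = 4 * w ∧ T.a (σ 2) (σ 2) = -8 * w ∧ T.w (σ 0) = w ∧ T.w (σ 1) = 2 * w ∧ T.w (σ 2) = 4 * w) ∨
        (T.m (σ 0) = m ∧ T.m (σ 1) = m ∧ T.m (σ 2) = m ∧ T.a (σ 0) (σ 0) = -2 * w ∧ T.a (σ 0) (σ 1) = 2 * w ∧ T.a (σ 0) (σ 2) = 0 ∧ T.a (σ 1) (σ 1) = -4 * w ∧
          T.a (σ 1) (σ 2) = 2 * w ∧ T.a (σ 2) (σ 2) = -2 * w ∧ T.w (σ 0) = w ∧ T.w (σ 1) = 2 * w ∧ T.w (σ 2) = w) ∨
        (T.m (σ 0) = m ∧ T.m (σ 1) = 2 * m ∧ T.m (σ 2) = m ∧ T.a (σ 0) (σ 0) = -4 * w ∧ T.a (σ 0) (σ 1) = 2 * w ∧ T.a (σ 0) (σ 2) = 0 ∧ T.a (σ 1) (σ 1) = -2 * w ∧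
          T.a (σ 1) (σ 2) = 2 * w ∧ T.a (σ 2) (σ 2) = -4 * w ∧ T.w (σ 0) = 2 * w ∧ T.w (σ 1) = w ∧ T.w (σ 2) = 2 * w))

/-- Genus one classification: case n = 3: let T be a minimal numerical type of genus 1 on three indices.
Then all g = 0 and, for some ordering i, j, k of the indices and some integers m, w, the data (m; a;
w) is one of: (m,m,m; a_ii = a_jj = a_kk = -2w, a_ij = a_ik = a_jk = w; w,w,w); (m,2m,m; a_ii = -2w,
a_ij = w, a_ik = 0, a_jj = -2w, a_jk = 3w, a_kk = -6w; w,w,3w); (m,2m,3m; a_ii = -6w, a_ij = 3w,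
a_ik = 0, a_jj = -6w, a_jk = 3w, a_kk = -2w; 3w,3w,w); (2m,2m,m; a_ii = -2w, a_ij = 2w, a_ik = 0,
a_jj = -4w, a_jk = 4w, a_kk = -8w; w,2w,4w); (m,m,m; a_ii = -2w, a_ij = 2w, a_ik = 0, a_jj = -4w,
a_jk = 2w, a_kk = -2w; w,2w,w); (m,2m,m; a_ii = -4w, a_ij = 2w, a_ik = 0, a_jj = -2w, a_jk = 2w,
a_kk = -4w; 2w,w,2w). Only the classification direction is stated. -/
theorem result (T : Models.NumericalType 3) (hmin : T.IsMinimal) (hg : T.genus = 1) :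
    ∃ (i j k : Fin 3) (m w : ℤ), i ≠ j ∧ j ≠ k ∧ i ≠ k ∧ T.g i = 0 ∧ T.g j = 0 ∧ T.g k = 0 ∧
      ((T.m i = m ∧ T.m j = m ∧ T.m k = m ∧ T.a i i = -2 * w ∧ T.a j j = -2 * w ∧ T.a k k = -2 * w ∧
          T.a i j = w ∧ T.a i k = w ∧ T.a j k = w ∧ T.w i = w ∧ T.w j = w ∧ T.w k = w) ∨
        (T.m i = m ∧ T.m j = 2 * m ∧ T.m k = m ∧ T.a i i = -2 * w ∧ T.a i j = w ∧ T.a i k = 0 ∧ T.a j j = -2 * w ∧
          T.a j k = 3 * w ∧ T.a k k = -6 * w ∧ T.w i = w ∧ T.w j = w ∧ T.w k = 3 * w) ∨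
        (T.m i = m ∧ T.m j = 2 * m ∧ T.m k = 3 * m ∧ T.a i i = -6 * w ∧ T.a i j = 3 * w ∧ T.a i k = 0 ∧ T.a j j = -6 * w ∧
          T.a j k = 3 * w ∧ T.a k k = -2 * w ∧ T.w i = 3 * w ∧ T.w j = 3 * w ∧ T.w k = w) ∨
        (T.m i = 2 * m ∧ T.m j = 2 * m ∧ T.m k = m ∧ T.a i i = -2 * w ∧ T.a i j = 2 * w ∧ T.a i k = 0 ∧ T.a j j = -4 * w ∧
          T.a j k = 4 * w ∧ T.a k k = -8 * w ∧ T.w i = w ∧ T.w j = 2 * w ∧ T.w k = 4 * w) ∨
        (T.m i = m ∧ T.m j = m ∧ T.m k = m ∧ T.a i i = -2 * w ∧ T.a i j = 2 * w ∧ T.a i k = 0 ∧ T.a j j = -4 * w ∧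
          T.a j k = 2 * w ∧ T.a k k = -2 * w ∧ T.w i = w ∧ T.w j = 2 * w ∧ T.w k = w) ∨
        (T.m i = m ∧ T.m j = 2 * m ∧ T.m k = m ∧ T.a i i = -4 * w ∧ T.a i j = 2 * w ∧ T.a i k = 0 ∧ T.a j j = -2 * w ∧
          T.a j k = 2 * w ∧ T.a k k = -4 * w ∧ T.w i = 2 * w ∧ T.w j = w ∧ T.w k = 2 * w)) := by
  classical
  have hM : ∀ i, T.IsMinusTwo i := fun i =>
    Groth.Agent.Lib.Helper22.NumType.minusTwo_of_genus_one T (by norm_num) hmin hg i
  have hg0 : ∀ i, T.g i = 0 := fun i => (hM i).1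
  have hd : ∀ i, T.a i i = -2 * T.w i := fun i => (hM i).2
  -- output from a permutation-type result
  suffices hmain : ∃ (σ : Equiv.Perm (Fin 3)) (m w : ℤ), Out3 T σ m w by
    obtain ⟨σ, m, w, h⟩ := hmain
    exact ⟨σ 0, σ 1, σ 2, m, w, fun e => by simpa using σ.injective e,
      fun e => by simpa using σ.injective e, fun e => by simpa using σ.injective e,
      hg0 _, hg0 _, hg0 _, h⟩
  obtain ⟨i, j, k, hij, hjk, hik, aij, ajk⟩ := exists_path3 T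
  by_cases aik : T.a i k = 0
  swap
  · -- a triangle
    obtain ⟨σ, m, w, h1, h2, h3, h4, h5⟩ := cyc_exact T (k := 3) (by norm_num) (emb3 i j k hij hjk hik) hM
      (chain3 i j k hij hjk hik T aij ajk) (by
        intro a b ha hb
        fin_cases a <;> fin_cases b <;> simp at ha hb ⊢
        exact aik)
    refine ⟨σ, m, w, ?_⟩
    left
    refine ⟨h1 0, h1 1, h1 2, by rw [hd, h2], by rw [hd, h2], by rw [hd, h2],
      h3 0 1 (by decide) (by decide), h4 0 2 (by decide) (by decide), h3 1 2 (by decide) (by decide),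
      h2 0, h2 1, h2 2⟩
  -- a chain: Cartan integers
  obtain ⟨p1, q1, e1, f1, c1⟩ := cartan_pair T (by norm_num) hij (hM i) (hM j) aij
  obtain ⟨p2, q2, e2, f2, c2⟩ := cartan_pair T (by norm_num) hjk (hM j) (hM k) ajk
  have ri := Groth.Agent.Lib.Helper22.NumType.row_sum T i
  have rj := Groth.Agent.Lib.Helper22.NumType.row_sum T j
  have rk := Groth.Agent.Lib.Helper22.NumType.row_sum T k
  rw [sum_fin3 _ i j k hij hjk hik] at ri rj rk
  rw [hd, aik, e1] at ri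
  rw [hd, a_symm T j i, f1, e2] at rj
  rw [hd, a_symm T k i, aik, a_symm T k j, f2] at rk
  have hwi := T.w_pos i
  have hwj := T.w_pos j
  have hwk := T.w_pos k
  have hmi := T.m_pos i
  have hmj := T.m_pos j
  have hmk := T.m_pos k
  have r1 : 2 * T.m i = p1 * T.m j := by
    have : T.w i * (p1 * T.m j - 2 * T.m i) = 0 := by linarith
    rcases mul_eq_zero.mp this with h | h
    · omega
    · linarith
  have r2 : 2 * T.m j = q1 * T.m i + p2 * T.m k := by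
    have : T.w j * (q1 * T.m i + p2 * T.m k - 2 * T.m j) = 0 := by linarith
    rcases mul_eq_zero.mp this with h | h
    · omega
    · linarith
  have r3 : 2 * T.m k = q2 * T.m j := by
    have : T.w k * (q2 * T.m j - 2 * T.m k) = 0 := by linarith
    rcases mul_eq_zero.mp this with h | h
    · omega
    · linarith
  have hsum : p1 * q1 + p2 * q2 = 4 := by
    have : (p1 * q1 + p2 * q2 - 4) * T.m j = 0 := by
      have h1 : q1 * (2 * T.m i) = q1 * (p1 * T.m j) := by rw [r1]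
      have h2 : p2 * (2 * T.m k) = p2 * (q2 * T.m j) := by rw [r3]
      nlinarith
    rcases mul_eq_zero.mp this with h | h
    · linarith
    · omega
  -- chain hypotheses in both directions
  have hch := chain3 i j k hij hjk hik T aij ajk
  have hch' := chain3 k j i (Ne.symm hjk) (Ne.symm hij) (Ne.symm hik) T
    (by rw [a_symm]; exact ajk) (by rw [a_symm]; exact aij)
  -- outputs of the three chain families
  have outLH : (∃ σ m w, CCLHP T σ m w) → ∃ (σ : Equiv.Perm (Fin 3)) (m w : ℤ), Out3 T σ m w := by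
    rintro ⟨σ, m, w, h1, h2, h3, h4, h5, h6, h7, h8⟩
    refine ⟨σ, m, w, ?_⟩
    right; right; right; left
    have w0 := h3 0 (by decide)
    have w1 := h4 1 (by decide)
    have w2 := h5 2 (by decide)
    exact ⟨h1 0 (by decide), h1 1 (by decide), h2 2 (by decide), by rw [hd, w0],
      h6 0 1 (by decide) (by decide), h8 0 2 (by decide) (by decide) (by decide),
      by rw [hd, w1]; ring, h7 1 2 (by decide) (by decide), by rw [hd, w2]; ring, w0, w1, w2⟩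
  have outLL : (∃ σ m w, CCLLP T σ m w) → ∃ (σ : Equiv.Perm (Fin 3)) (m w : ℤ), Out3 T σ m w := by
    rintro ⟨σ, m, w, h1, h2, h3, h4, h5, h6⟩
    refine ⟨σ, m, w, ?_⟩
    right; right; right; right; left
    have w0 := h2 0 (by decide)
    have w1 := h3 1 (by decide)
    have w2 := h4 2 (by decide)
    exact ⟨h1 0, h1 1, h1 2, by rw [hd, w0],
      h5 0 1 (by decide) (by decide), h6 0 2 (by decide) (by decide),
      by rw [hd, w1]; ring, h5 1 2 (by decide) (by decide), by rw [hd, w2], w0, w1, w2⟩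
  have outHH : (∃ σ m w, CCHHP T σ m w) → ∃ (σ : Equiv.Perm (Fin 3)) (m w : ℤ), Out3 T σ m w := by
    rintro ⟨σ, m, w, h1, h2, h3, h4, h5, h6, h7, h8, h9, h10⟩
    refine ⟨σ, m, w, ?_⟩
    right; right; right; right; right
    have w0 := h4 0 (by decide)
    have w1 := h5 1 (by decide)
    have w2 := h6 2 (by decide)
    exact ⟨h1 0 (by decide), h2 1 (by decide), h3 2 (by decide), by rw [hd, w0]; ring,
      h7 0 1 (by decide) (by decide), h10 0 2 (by decide) (by decide) (by decide) (by decide),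
      by rw [hd, w1], h9 1 2 (by decide) (by decide), by rw [hd, w2]; ring, w0, w1, w2⟩
  rcases c1 with ⟨rfl, rfl⟩ | ⟨rfl, rfl⟩ | ⟨rfl, rfl⟩ | ⟨rfl, rfl⟩ | ⟨rfl, rfl⟩ <;>
  rcases c2 with ⟨rfl, rfl⟩ | ⟨rfl, rfl⟩ | ⟨rfl, rfl⟩ | ⟨rfl, rfl⟩ | ⟨rfl, rfl⟩ <;>
  norm_num at hsum
  · -- (1,1),(3,1)
    obtain ⟨-, hsurj, m1, m2, w1, w2, a01, a02, a12⟩ := g2_heavy T (emb3 i j k hij hjk hik) hM aij
      (by simp only [emb3_one, emb3_two]; linarith)
    simp only [emb3_zero, emb3_one, emb3_two] at m1 m2 w1 w2 a01 a02 a12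
    have dj : T.a j j = -2 * T.w i := by rw [hd, w1]
    have dk : T.a k k = -6 * T.w i := by rw [hd, w2]; ring
    exact ⟨permOfSurj (emb3 i j k hij hjk hik) hsurj, T.m i, T.w i, Or.inr (Or.inl
      ⟨rfl, m1, m2, hd i, a01, a02, dj, a12, dk, rfl, w1, w2⟩)⟩
  · -- (1,1),(1,3)
    obtain ⟨-, hsurj, m1, m2, w1, w2, a01, a02, a12⟩ := g2_light T (emb3 i j k hij hjk hik) hM aij
      (by simp only [emb3_one, emb3_two]; linarith)
    simp only [emb3_zero, emb3_one, emb3_two] at m1 m2 w1 w2 a01 a02 a12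
    have di : T.a i i = -6 * T.w k := by rw [hd, w1]; ring
    have dj : T.a j j = -6 * T.w k := by rw [hd, w2]; ring
    exact ⟨permOfSurj (emb3 i j k hij hjk hik) hsurj, T.m i, T.w k, Or.inr (Or.inr (Or.inl
      ⟨rfl, m1, m2, di, a01, a02, dj, a12, hd k, w1, w2, rfl⟩))⟩
  · -- (2,1),(2,1)
    apply outLH
    apply cc_LH T (k := 3) (by norm_num) (emb3 i j k hij hjk hik) hM hch
    · intro a b ha hb
      fin_cases a <;> fin_cases b <;> simp at ha hb ⊢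
      linarith
    · intro a b ha hb
      fin_cases a <;> fin_cases b <;> simp at ha hb ⊢
      rw [a_symm]; linarith
  · -- (2,1),(1,2)
    apply outLL
    apply cc_LL T (k := 3) (by norm_num) (emb3 i j k hij hjk hik) hM hch
    · intro a b ha hb
      fin_cases a <;> fin_cases b <;> simp at ha hb ⊢
      linarith
    · intro a b ha hb
      fin_cases a <;> fin_cases b <;> simp at ha hb ⊢
      rw [a_symm]; linarith
  · -- (1,2),(2,1)
    apply outHH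
    apply cc_HH T (k := 3) (by norm_num) (emb3 i j k hij hjk hik) hM hch
    · intro a b ha hb
      fin_cases a <;> fin_cases b <;> simp at ha hb ⊢
      linarith
    · intro a b ha hb
      fin_cases a <;> fin_cases b <;> simp at ha hb ⊢
      rw [a_symm]; linarith
  · -- (1,2),(1,2)
    apply outLH
    apply cc_LH T (k := 3) (by norm_num) (emb3 k j i (Ne.symm hjk) (Ne.symm hij) (Ne.symm hik)) hM hch'
    · intro a b ha hb
      fin_cases a <;> fin_cases b <;> simp at ha hb ⊢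
      rw [a_symm]; linarith
    · intro a b ha hb
      fin_cases a <;> fin_cases b <;> simp at ha hb ⊢
      linarith
  · -- (3,1),(1,1)
    obtain ⟨-, hsurj, m1, m2, w1, w2, a01, a02, a12⟩ := g2_light T
      (emb3 k j i (Ne.symm hjk) (Ne.symm hij) (Ne.symm hik)) hM (by rw [emb3_zero, emb3_one, a_symm]; exact ajk)
      (by simp only [emb3_one, emb3_two]; rw [a_symm]; linarith)
    simp only [emb3_zero, emb3_one, emb3_two] at m1 m2 w1 w2 a01 a02 a12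
    have dk : T.a k k = -6 * T.w i := by rw [hd, w1]; ring
    have dj : T.a j j = -6 * T.w i := by rw [hd, w2]; ring
    exact ⟨permOfSurj (emb3 k j i (Ne.symm hjk) (Ne.symm hij) (Ne.symm hik)) hsurj, T.m k, T.w i,
      Or.inr (Or.inr (Or.inl
      ⟨rfl, m1, m2, dk, a01, a02, dj, a12, hd i, w1, w2, rfl⟩))⟩
  · -- (1,3),(1,1)
    obtain ⟨-, hsurj, m1, m2, w1, w2, a01, a02, a12⟩ := g2_heavy T
      (emb3 k j i (Ne.symm hjk) (Ne.symm hij) (Ne.symm hik)) hM (by rw [emb3_zero, emb3_one, a_symm]; exact ajk)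
      (by simp only [emb3_one, emb3_two]; rw [a_symm]; linarith)
    simp only [emb3_zero, emb3_one, emb3_two] at m1 m2 w1 w2 a01 a02 a12
    have dj : T.a j j = -2 * T.w k := by rw [hd, w1]
    have di : T.a i i = -6 * T.w k := by rw [hd, w2]; ring
    exact ⟨permOfSurj (emb3 k j i (Ne.symm hjk) (Ne.symm hij) (Ne.symm hik)) hsurj, T.m k, T.w k,
      Or.inr (Or.inl
      ⟨rfl, m1, m2, hd k, a01, a02, dj, a12, di, rfl, w1, w2⟩)⟩

end Groth.Agent.S7363
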