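import Groth.Statements.S7364
import Groth.Agent.Lib.Helper22.NumType
import Groth.Agent.Lib.Helper29.G1Classify

set_option autoImplicit false
open Finset
open Models Models.NumericalType

namespace Groth.Agent.S7364

open Groth.Agent.Lib.Helper29.NumType Groth.Agent.Lib.Helper29.G1

set_option maxHeartbeats 1600000
lemma fixed_card {n : ℕ} (T : Models.NumericalType n) {k : ℕ} {X Wt : Fin k → ℤ} {A : Fin k → Fin k → ℤ}
    (h : FixedType T k X Wt A) : k = n := by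
  obtain ⟨v, hs, -⟩ := h
  exact card_eq_of_surj v hs
lemma dd_four (T : Models.NumericalType 4) (hd : ∀ i, T.a i i = -2 * T.w i) :
    ¬ ∃ (σ : Equiv.Perm (Fin 4)) (m w : ℤ), DDP T σ m w := by
  rintro ⟨σ, m, w, c1, c2, c3, c4, c5, c6, c7, c8, c9⟩
  have hr := Row_m T (σ 0)
  unfold Row at hr
  rw [← Equiv.sum_comp σ, Fin.sum_univ_four] at hr
  rw [hd, c4 0, c9 0 1 (by decide) (by decide) (by decide) (by decide) (by decide),
    c5 0 2 (by decide) (by decide),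
    c9 0 3 (by decide) (by decide) (by decide) (by decide) (by decide),
    c1 0 (by decide), c3 2 (by decide)] at hr
  have hw : 0 < w := by rw [← c4 0]; exact T.w_pos _
  have hm : 0 < m := by rw [← c1 0 (by decide)]; exact T.m_pos _
  nlinarith [mul_pos hw hm]


/-- Genus one classification: case n = 4: let T be a minimal numerical type of genus 1 on 4 indices.
Then all g_i = 0 and, for some permutation σ of the indices and some integers m, w, the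
multiplicities, weights and intersection matrix (m_{σ(i)}, w_{σ(i)}, a_{σ(i)σ(j)}) are those of one
of the following 6 types: [four cycle] m = (m, m, m, m), w = (w, w, w, w), a = (-2 * w w 0 w / w -2
* w w 0 / 0 w -2 * w w / w 0 w -2 * w); [up equal up] m = (2 * m, 2 * m, 2 * m, m), w = (w, 2 * w, 2
* w, 4 * w), a = (-2 * w 2 * w 0 0 / 2 * w -4 * w 2 * w 0 / 0 2 * w -4 * w 4 * w / 0 0 4 * w -8 *
w); [up equal down] m = (m, m, m, m), w = (w, 2 * w, 2 * w, w), a = (-2 * w 2 * w 0 0 / 2 * w -4 * w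
2 * w 0 / 0 2 * w -4 * w 2 * w / 0 0 2 * w -2 * w); [down equal up] m = (m, 2 * m, 2 * m, m), w = (2
* w, w, w, 2 * w), a = (-4 * w 2 * w 0 0 / 2 * w -2 * w w 0 / 0 w -2 * w 2 * w / 0 0 2 * w -4 * w);
[triple with up] m = (2 * m, m, m, m), w = (w, w, w, 2 * w), a = (-2 * w w w 2 * w / w -2 * w 0 0 /
w 0 -2 * w 0 / 2 * w 0 0 -4 * w); [triple with down] m = (2 * m, m, m, 2 * m), w = (2 * w, 2 * w, 2
* w, w), a = (-4 * w 2 * w 2 * w 2 * w / 2 * w -4 * w 0 0 / 2 * w 0 -4 * w 0 / 2 * w 0 0 -2 * w).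
Only the classification direction is stated. -/
theorem result (T : Models.NumericalType 4) (hmin : T.IsMinimal) (hg : T.genus = 1) :
    (∀ i, T.g i = 0) ∧ ∃ (σ : Equiv.Perm (Fin 4)) (m w : ℤ),
      ((T.m (σ 0) = m ∧ T.m (σ 1) = m ∧ T.m (σ 2) = m ∧ T.m (σ 3) = m ∧ T.w (σ 0) = w ∧ T.w (σ 1) = w ∧ T.w (σ 2) = w ∧ T.w (σ 3) = w ∧ T.a (σ 0) (σ 0) = -2 * w ∧ T.a (σ 0) (σ 1) = w ∧ T.a (σ 0) (σ 2) = 0 ∧ T.a (σ 0) (σ 3) = w ∧ T.a (σ 1) (σ 1) = -2 * w ∧ T.a (σ 1) (σ 2) = w ∧ T.a (σ 1) (σ 3) = 0 ∧ T.a (σ 2) (σ 2) = -2 * w ∧ T.a (σ 2) (σ 3) = w ∧ T.a (σ 3) (σ 3) = -2 * w) ∨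
      (T.m (σ 0) = 2 * m ∧ T.m (σ 1) = 2 * m ∧ T.m (σ 2) = 2 * m ∧ T.m (σ 3) = m ∧ T.w (σ 0) = w ∧ T.w (σ 1) = 2 * w ∧ T.w (σ 2) = 2 * w ∧ T.w (σ 3) = 4 * w ∧ T.a (σ 0) (σ 0) = -2 * w ∧ T.a (σ 0) (σ 1) = 2 * w ∧ T.a (σ 0) (σ 2) = 0 ∧ T.a (σ 0) (σ 3) = 0 ∧ T.a (σ 1) (σ 1) = -4 * w ∧ T.a (σ 1) (σ 2) = 2 * w ∧ T.a (σ 1) (σ 3) = 0 ∧ T.a (σ 2) (σ 2) = -4 * w ∧ T.a (σ 2) (σ 3) = 4 * w ∧ T.a (σ 3) (σ 3) = -8 * w) ∨
      (T.m (σ 0) = m ∧ T.m (σ 1) = m ∧ T.m (σ 2) = m ∧ T.m (σ 3) = m ∧ T.w (σ 0) = w ∧ T.w (σ 1) = 2 * w ∧ T.w (σ 2) = 2 * w ∧ T.w (σ 3) = w ∧ T.a (σ 0) (σ 0) = -2 * w ∧ T.a (σ 0) (σ 1) = 2 * w ∧ T.a (σ 0) (σ 2) = 0 ∧ T.a (σ 0) (σ 3) = 0 ∧ T.a (σ 1) (σ 1) = -4 * w ∧ T.a (σ 1) (σ 2) = 2 * w ∧ T.a (σ 1) (σ 3) = 0 ∧ T.a (σ 2) (σ 2) = -4 * w ∧ T.a (σ 2) (σ 3) = 2 * w ∧ T.a (σ 3) (σ 3) = -2 * w) ∨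
      (T.m (σ 0) = m ∧ T.m (σ 1) = 2 * m ∧ T.m (σ 2) = 2 * m ∧ T.m (σ 3) = m ∧ T.w (σ 0) = 2 * w ∧ T.w (σ 1) = w ∧ T.w (σ 2) = w ∧ T.w (σ 3) = 2 * w ∧ T.a (σ 0) (σ 0) = -4 * w ∧ T.a (σ 0) (σ 1) = 2 * w ∧ T.a (σ 0) (σ 2) = 0 ∧ T.a (σ 0) (σ 3) = 0 ∧ T.a (σ 1) (σ 1) = -2 * w ∧ T.a (σ 1) (σ 2) = w ∧ T.a (σ 1) (σ 3) = 0 ∧ T.a (σ 2) (σ 2) = -2 * w ∧ T.a (σ 2) (σ 3) = 2 * w ∧ T.a (σ 3) (σ 3) = -4 * w) ∨
      (T.m (σ 0) = 2 * m ∧ T.m (σ 1) = m ∧ T.m (σ 2) = m ∧ T.m (σ 3) = m ∧ T.w (σ 0) = w ∧ T.w (σ 1) = w ∧ T.w (σ 2) = w ∧ T.w (σ 3) = 2 * w ∧ T.a (σ 0) (σ 0) = -2 * w ∧ T.a (σ 0) (σ 1) = w ∧ T.a (σ 0) (σ 2) = w ∧ T.a (σ 0) (σ 3) = 2 * w ∧ T.a (σ 1) (σ 1) = -2 * w ∧ T.a (σ 1) (σ 2) = 0 ∧ T.a (σ 1) (σ 3) = 0 ∧ T.a (σ 2) (σ 2) = -2 * w ∧ T.a (σ 2) (σ 3) = 0 ∧ T.a (σ 3) (σ 3) = -4 * w) ∨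
      (T.m (σ 0) = 2 * m ∧ T.m (σ 1) = m ∧ T.m (σ 2) = m ∧ T.m (σ 3) = 2 * m ∧ T.w (σ 0) = 2 * w ∧ T.w (σ 1) = 2 * w ∧ T.w (σ 2) = 2 * w ∧ T.w (σ 3) = w ∧ T.a (σ 0) (σ 0) = -4 * w ∧ T.a (σ 0) (σ 1) = 2 * w ∧ T.a (σ 0) (σ 2) = 2 * w ∧ T.a (σ 0) (σ 3) = 2 * w ∧ T.a (σ 1) (σ 1) = -4 * w ∧ T.a (σ 1) (σ 2) = 0 ∧ T.a (σ 1) (σ 3) = 0 ∧ T.a (σ 2) (σ 2) = -4 * w ∧ T.a (σ 2) (σ 3) = 0 ∧ T.a (σ 3) (σ 3) = -2 * w)) := by
  have hM : ∀ i, T.IsMinusTwo i := fun i =>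
    Groth.Agent.Lib.Helper22.NumType.minusTwo_of_genus_one T (by norm_num) hmin hg i
  have hd : ∀ i, T.a i i = -2 * T.w i := fun i => (hM i).2
  refine ⟨fun i => (hM i).1, ?_⟩
  rcases classify (by norm_num) hM with h | h | h | h | h | h | h | h | h | h | h | h
  · obtain ⟨σ', m, w, c1, c2, c3, c4, c5⟩ := h
    exact ⟨σ', m, w, Or.inl ⟨(c1 0),
        (c1 1),
        (c1 2),
        (c1 3),
        (c2 0),
        (c2 1),
        (c2 2),
        (c2 3),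
        (by rw [hd, c2 0] <;> ring),
        (c3 0 1 (by decide) (by decide)),
        (c5 0 2 (by decide) (by decide) (by decide)),
        (c4 0 3 (by decide) (by decide)),
        (by rw [hd, c2 1] <;> ring),
        (c3 1 2 (by decide) (by decide)),
        (c5 1 3 (by decide) (by decide) (by decide)),
        (by rw [hd, c2 2] <;> ring),
        (c3 2 3 (by decide) (by decide)),
        (by rw [hd, c2 3] <;> ring)⟩⟩
  · obtain ⟨σ', m, w, c1, c2, c3, c4, c5, c6, c7, c8⟩ := h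
    exact ⟨σ', m, w, Or.inr (Or.inl ⟨(c1 0 (by decide)),
        (c1 1 (by decide)),
        (c1 2 (by decide)),
        (c2 3 (by decide)),
        (c3 0 (by decide)),
        (c4 1 (by decide)),
        (c4 2 (by decide)),
        (c5 3 (by decide)),
        (by rw [hd, c3 0 (by decide)] <;> ring),
        (c6 0 1 (by decide) (by decide)),
        (c8 0 2 (by decide) (by decide) (by decide)),
        (c8 0 3 (by decide) (by decide) (by decide)),
        (by rw [hd, c4 1 (by decide)] <;> ring),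
        (c6 1 2 (by decide) (by decide)),
        (c8 1 3 (by decide) (by decide) (by decide)),
        (by rw [hd, c4 2 (by decide)] <;> ring),
        (c7 2 3 (by decide) (by decide)),
        (by rw [hd, c5 3 (by decide)] <;> ring)⟩)⟩
  · obtain ⟨σ', m, w, c1, c2, c3, c4, c5, c6⟩ := h
    exact ⟨σ', m, w, Or.inr (Or.inr (Or.inl ⟨(c1 0),
        (c1 1),
        (c1 2),
        (c1 3),
        (c2 0 (by decide)),
        (c3 1 (by decide)),
        (c3 2 (by decide)),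
        (c4 3 (by decide)),
        (by rw [hd, c2 0 (by decide)] <;> ring),
        (c5 0 1 (by decide) (by decide)),
        (c6 0 2 (by decide) (by decide)),
        (c6 0 3 (by decide) (by decide)),
        (by rw [hd, c3 1 (by decide)] <;> ring),
        (c5 1 2 (by decide) (by decide)),
        (c6 1 3 (by decide) (by decide)),
        (by rw [hd, c3 2 (by decide)] <;> ring),
        (c5 2 3 (by decide) (by decide)),
        (by rw [hd, c4 3 (by decide)] <;> ring)⟩))⟩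
  · obtain ⟨σ', m, w, c1, c2, c3, c4, c5, c6, c7, c8, c9, c10⟩ := h
    exact ⟨σ', m, w, Or.inr (Or.inr (Or.inr (Or.inl ⟨(c1 0 (by decide)),
        (c2 1 (by decide)),
        (c2 2 (by decide)),
        (c3 3 (by decide)),
        (c4 0 (by decide)),
        (c5 1 (by decide)),
        (c5 2 (by decide)),
        (c6 3 (by decide)),
        (by rw [hd, c4 0 (by decide)] <;> ring),
        (c7 0 1 (by decide) (by decide)),
        (c10 0 2 (by decide) (by decide) (by decide) (by decide)),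
        (c10 0 3 (by decide) (by decide) (by decide) (by decide)),
        (by rw [hd, c5 1 (by decide)] <;> ring),
        (c8 1 2 (by decide) (by decide)),
        (c10 1 3 (by decide) (by decide) (by decide) (by decide)),
        (by rw [hd, c5 2 (by decide)] <;> ring),
        (c9 2 3 (by decide) (by decide)),
        (by rw [hd, c6 3 (by decide)] <;> ring)⟩)))⟩
  · obtain ⟨σ', m, w, c1, c2, c3, c4, c5, c6, c7, c8, c9⟩ := h
    let πe : Equiv.Perm (Fin 4) := ⟨![1, 2, 3, 0], ![3, 0, 1, 2], by decide, by decide⟩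
    refine ⟨πe.trans σ', m, w, ?_⟩
    have e0 : (πe.trans σ') 0 = σ' 1 := rfl
    have e1 : (πe.trans σ') 1 = σ' 2 := rfl
    have e2 : (πe.trans σ') 2 = σ' 3 := rfl
    have e3 : (πe.trans σ') 3 = σ' 0 := rfl
    simp only [e0, e1, e2, e3]
    exact Or.inr (Or.inr (Or.inr (Or.inr (Or.inl ⟨(c2 1 (by decide)),
        (c3 2 (by decide)),
        (c3 3 (by decide)),
        (c1 0 (by decide)),
        (c5 1 (by decide)),
        (c5 2 (by decide)),
        (c5 3 (by decide)),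
        (c4 0 (by decide)),
        (by rw [hd, c5 1 (by decide)] <;> ring),
        (c7 1 2 (by decide) (by decide)),
        (c8 1 3 (by decide) (by decide)),
        ((a_symm T _ _).trans (c6 0 1 (by decide) (by decide))),
        (by rw [hd, c5 2 (by decide)] <;> ring),
        (c9 2 3 (by decide) (by decide) (by decide) (by decide)),
        ((a_symm T _ _).trans (c9 0 2 (by decide) (by decide) (by decide) (by decide))),
        (by rw [hd, c5 3 (by decide)] <;> ring),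
        ((a_symm T _ _).trans (c9 0 3 (by decide) (by decide) (by decide) (by decide))),
        (by rw [hd, c4 0 (by decide)] <;> ring)⟩))))
  · obtain ⟨σ', m, w, c1, c2, c3, c4, c5, c6, c7⟩ := h
    let πe : Equiv.Perm (Fin 4) := ⟨![1, 2, 3, 0], ![3, 0, 1, 2], by decide, by decide⟩
    refine ⟨πe.trans σ', m, w, ?_⟩
    have e0 : (πe.trans σ') 0 = σ' 1 := rfl
    have e1 : (πe.trans σ') 1 = σ' 2 := rfl
    have e2 : (πe.trans σ') 2 = σ' 3 := rfl
    have e3 : (πe.trans σ') 3 = σ' 0 := rfl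
    simp only [e0, e1, e2, e3]
    exact Or.inr (Or.inr (Or.inr (Or.inr (Or.inr (⟨(c1 1 (by decide)),
        (c2 2 (by decide)),
        (c2 3 (by decide)),
        (c1 0 (by decide)),
        (c4 1 (by decide)),
        (c4 2 (by decide)),
        (c4 3 (by decide)),
        (c3 0 (by decide)),
        (by rw [hd, c4 1 (by decide)] <;> ring),
        (c5 1 2 (by decide) (by decide)),
        (c6 1 3 (by decide) (by decide)),
        ((a_symm T _ _).trans (c5 0 1 (by decide) (by decide))),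
        (by rw [hd, c4 2 (by decide)] <;> ring),
        (c7 2 3 (by decide) (by decide) (by decide)),
        ((a_symm T _ _).trans (c7 0 2 (by decide) (by decide) (by decide))),
        (by rw [hd, c4 3 (by decide)] <;> ring),
        ((a_symm T _ _).trans (c7 0 3 (by decide) (by decide) (by decide))),
        (by rw [hd, c3 0 (by decide)] <;> ring)⟩)))))
  · exact absurd h (dd_four T hd)
  · have := fixed_card T h; omega
  · have := fixed_card T h; omega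
  · have := fixed_card T h; omega
  · have := fixed_card T h; omega
  · have := fixed_card T h; omega

end Groth.Agent.S7364
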