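import Groth.Statements.S7369
import Groth.Agent.Lib.Helper22.NumType
import Groth.Agent.Lib.Helper29.G1Classify

set_option autoImplicit false
open Finset
open Models Models.NumericalType

namespace Groth.Agent.S7369

open Groth.Agent.Lib.Helper29.NumType Groth.Agent.Lib.Helper29.G1

set_option maxHeartbeats 1600000
lemma fixed_card {n : ℕ} (T : Models.NumericalType n) {k : ℕ} {X Wt : Fin k → ℤ} {A : Fin k → Fin k → ℤ}
    (h : FixedType T k X Wt A) : k = n := by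
  obtain ⟨v, hs, -⟩ := h
  exact card_eq_of_surj v hs


/-- Genus one classification: case n = 8: let T be a minimal numerical type of genus 1 on 8 indices.
Then all g_i = 0 and, for some permutation σ of the indices and some integers m, w, the
multiplicities, weights and intersection matrix (m_{σ(i)}, w_{σ(i)}, a_{σ(i)σ(j)}) are those of one
of the following 8 types: [cycle] m = (m, m, m, m, m, m, m, m), w = (w, w, w, w, w, w, w, w), a =
(-2 * w w 0 0 0 0 0 w / w -2 * w w 0 0 0 0 0 / 0 w -2 * w w 0 0 0 0 / 0 0 w -2 * w w 0 0 0 / 0 0 0 w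
-2 * w w 0 0 / 0 0 0 0 w -2 * w w 0 / 0 0 0 0 0 w -2 * w w / w 0 0 0 0 0 w -2 * w); [up chain equal
up] m = (2 * m, 2 * m, 2 * m, 2 * m, 2 * m, 2 * m, 2 * m, m), w = (w, 2 * w, 2 * w, 2 * w, 2 * w, 2
* w, 2 * w, 4 * w), a = (-2 * w 2 * w 0 0 0 0 0 0 / 2 * w -4 * w 2 * w 0 0 0 0 0 / 0 2 * w -4 * w 2
* w 0 0 0 0 / 0 0 2 * w -4 * w 2 * w 0 0 0 / 0 0 0 2 * w -4 * w 2 * w 0 0 / 0 0 0 0 2 * w -4 * w 2 *
w 0 / 0 0 0 0 0 2 * w -4 * w 4 * w / 0 0 0 0 0 0 4 * w -8 * w); [up chain equal down] m = (m, m, m,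
m, m, m, m, m), w = (w, 2 * w, 2 * w, 2 * w, 2 * w, 2 * w, 2 * w, w), a = (-2 * w 2 * w 0 0 0 0 0 0
/ 2 * w -4 * w 2 * w 0 0 0 0 0 / 0 2 * w -4 * w 2 * w 0 0 0 0 / 0 0 2 * w -4 * w 2 * w 0 0 0 / 0 0 0
2 * w -4 * w 2 * w 0 0 / 0 0 0 0 2 * w -4 * w 2 * w 0 / 0 0 0 0 0 2 * w -4 * w 2 * w / 0 0 0 0 0 0 2
* w -2 * w); [down chain equal up] m = (m, 2 * m, 2 * m, 2 * m, 2 * m, 2 * m, 2 * m, m), w = (2 * w,
w, w, w, w, w, w, 2 * w), a = (-4 * w 2 * w 0 0 0 0 0 0 / 2 * w -2 * w w 0 0 0 0 0 / 0 w -2 * w w 0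
0 0 0 / 0 0 w -2 * w w 0 0 0 / 0 0 0 w -2 * w w 0 0 / 0 0 0 0 w -2 * w w 0 / 0 0 0 0 0 w -2 * w 2 *
w / 0 0 0 0 0 0 2 * w -4 * w); [D extended up] m = (m, 2 * m, 2 * m, 2 * m, 2 * m, 2 * m, m, m), w =
(2 * w, w, w, w, w, w, w, w), a = (-4 * w 2 * w 0 0 0 0 0 0 / 2 * w -2 * w w 0 0 0 0 0 / 0 w -2 * w
w 0 0 0 0 / 0 0 w -2 * w w 0 0 0 / 0 0 0 w -2 * w w 0 0 / 0 0 0 0 w -2 * w w w / 0 0 0 0 0 w -2 * w
0 / 0 0 0 0 0 w 0 -2 * w); [D extended down] m = (2 * m, 2 * m, 2 * m, 2 * m, 2 * m, 2 * m, m, m), w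
= (w, 2 * w, 2 * w, 2 * w, 2 * w, 2 * w, 2 * w, 2 * w), a = (-2 * w 2 * w 0 0 0 0 0 0 / 2 * w -4 * w
2 * w 0 0 0 0 0 / 0 2 * w -4 * w 2 * w 0 0 0 0 / 0 0 2 * w -4 * w 2 * w 0 0 0 / 0 0 0 2 * w -4 * w 2
* w 0 0 / 0 0 0 0 2 * w -4 * w 2 * w 2 * w / 0 0 0 0 0 2 * w -4 * w 0 / 0 0 0 0 0 2 * w 0 -4 * w);
[double triple] m = (m, m, 2 * m, 2 * m, 2 * m, 2 * m, m, m), w = (w, w, w, w, w, w, w, w), a = (-2
* w 0 w 0 0 0 0 0 / 0 -2 * w w 0 0 0 0 0 / w w -2 * w w 0 0 0 0 / 0 0 w -2 * w w 0 0 0 / 0 0 0 w -2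
* w w 0 0 / 0 0 0 0 w -2 * w w w / 0 0 0 0 0 w -2 * w 0 / 0 0 0 0 0 w 0 -2 * w); [E7 completed] m =
(m, 2 * m, 3 * m, 4 * m, 3 * m, 2 * m, m, 2 * m), w = (w, w, w, w, w, w, w, w), a = (-2 * w w 0 0 0
0 0 0 / w -2 * w w 0 0 0 0 0 / 0 w -2 * w w 0 0 0 0 / 0 0 w -2 * w w 0 0 w / 0 0 0 w -2 * w w 0 0 /
0 0 0 0 w -2 * w w 0 / 0 0 0 0 0 w -2 * w 0 / 0 0 0 w 0 0 0 -2 * w). Only the classification
direction is stated. (In the family with weights (w, 2w, …, 2w, w) the consecutive intersection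
numbers are 2w, as divisibility by the weights forces; the published list prints w there, and omits
m_{n-2} = 2m in the two D-type families.) -/
theorem result (T : Models.NumericalType 8) (hmin : T.IsMinimal) (hg : T.genus = 1) :
    (∀ i, T.g i = 0) ∧ ∃ (σ : Equiv.Perm (Fin 8)) (m w : ℤ),
      ((T.m (σ 0) = m ∧ T.m (σ 1) = m ∧ T.m (σ 2) = m ∧ T.m (σ 3) = m ∧ T.m (σ 4) = m ∧ T.m (σ 5) = m ∧ T.m (σ 6) = m ∧ T.m (σ 7) = m ∧ T.w (σ 0) = w ∧ T.w (σ 1) = w ∧ T.w (σ 2) = w ∧ T.w (σ 3) = w ∧ T.w (σ 4) = w ∧ T.w (σ 5) = w ∧ T.w (σ 6) = w ∧ T.w (σ 7) = w ∧ T.a (σ 0) (σ 0) = -2 * w ∧ T.a (σ 0) (σ 1) = w ∧ T.a (σ 0) (σ 2) = 0 ∧ T.a (σ 0) (σ 3) = 0 ∧ T.a (σ 0) (σ 4) = 0 ∧ T.a (σ 0) (σ 5) = 0 ∧ T.a (σ 0) (σ 6) = 0 ∧ T.a (σ 0) (σ 7) = w ∧ T.a (σ 1) (σ 1) = -2 * w ∧ T.a (σ 1) (σ 2) = w ∧ T.a (σ 1) (σ 3) = 0 ∧ T.a (σ 1) (σ 4) = 0 ∧ T.a (σ 1) (σ 5) = 0 ∧ T.a (σ 1) (σ 6) = 0 ∧ T.a (σ 1) (σ 7) = 0 ∧ T.a (σ 2) (σ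 2) = -2 * w ∧ T.a (σ 2) (σ 3) = w ∧ T.a (σ 2) (σ 4) = 0 ∧ T.a (σ 2) (σ 5) = 0 ∧ T.a (σ 2) (σ 6) = 0 ∧ T.a (σ 2) (σ 7) = 0 ∧ T.a (σ 3) (σ 3) = -2 * w ∧ T.a (σ 3) (σ 4) = w ∧ T.a (σ 3) (σ 5) = 0 ∧ T.a (σ 3) (σ 6) = 0 ∧ T.a (σ 3) (σ 7) = 0 ∧ T.a (σ 4) (σ 4) = -2 * w ∧ T.a (σ 4) (σ 5) = w ∧ T.a (σ 4) (σ 6) = 0 ∧ T.a (σ 4) (σ 7) = 0 ∧ T.a (σ 5) (σ 5) = -2 * w ∧ T.a (σ 5) (σ 6) = w ∧ T.a (σ 5) (σ 7) = 0 ∧ T.a (σ 6) (σ 6) = -2 * w ∧ T.a (σ 6) (σ 7) = w ∧ T.a (σ 7) (σ 7) = -2 * w) ∨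
      (T.m (σ 0) = 2 * m ∧ T.m (σ 1) = 2 * m ∧ T.m (σ 2) = 2 * m ∧ T.m (σ 3) = 2 * m ∧ T.m (σ 4) = 2 * m ∧ T.m (σ 5) = 2 * m ∧ T.m (σ 6) = 2 * m ∧ T.m (σ 7) = m ∧ T.w (σ 0) = w ∧ T.w (σ 1) = 2 * w ∧ T.w (σ 2) = 2 * w ∧ T.w (σ 3) = 2 * w ∧ T.w (σ 4) = 2 * w ∧ T.w (σ 5) = 2 * w ∧ T.w (σ 6) = 2 * w ∧ T.w (σ 7) = 4 * w ∧ T.a (σ 0) (σ 0) = -2 * w ∧ T.a (σ 0) (σ 1) = 2 * w ∧ T.a (σ 0) (σ 2) = 0 ∧ T.a (σ 0) (σ 3) = 0 ∧ T.a (σ 0) (σ 4) = 0 ∧ T.a (σ 0) (σ 5) = 0 ∧ T.a (σ 0) (σ 6) = 0 ∧ T.a (σ 0) (σ 7) = 0 ∧ T.a (σ 1) (σ 1) = -4 * w ∧ T.a (σ 1) (σ 2) = 2 * w ∧ T.a (σ 1) (σ 3) = 0 ∧ T.a (σ 1) (σ 4) = 0 ∧ T.a (σ 1) (σ 5) = 0 ∧ T.a (σ 1) (σ 6) = 0 ∧ T.a (σ 1) (σ 7) = 0 ∧ T.a (σ 2) (σ 2) = -4 * w ∧ T.a (σ 2) (σ 3) = 2 * w ∧ T.a (σ 2) (σ 4) = 0 ∧ T.a (σ 2) (σ 5) = 0 ∧ T.a (σ 2) (σ 6) = 0 ∧ T.a (σ 2) (σ 7) = 0 ∧ T.a (σ 3) (σ 3) = -4 * w ∧ T.a (σ 3) (σ 4) = 2 * w ∧ T.a (σ 3) (σ 5) = 0 ∧ T.a (σ 3) (σ 6) = 0 ∧ T.a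 (σ 3) (σ 7) = 0 ∧ T.a (σ 4) (σ 4) = -4 * w ∧ T.a (σ 4) (σ 5) = 2 * w ∧ T.a (σ 4) (σ 6) = 0 ∧ T.a (σ 4) (σ 7) = 0 ∧ T.a (σ 5) (σ 5) = -4 * w ∧ T.a (σ 5) (σ 6) = 2 * w ∧ T.a (σ 5) (σ 7) = 0 ∧ T.a (σ 6) (σ 6) = -4 * w ∧ T.a (σ 6) (σ 7) = 4 * w ∧ T.a (σ 7) (σ 7) = -8 * w) ∨
      (T.m (σ 0) = m ∧ T.m (σ 1) = m ∧ T.m (σ 2) = m ∧ T.m (σ 3) = m ∧ T.m (σ 4) = m ∧ T.m (σ 5) = m ∧ T.m (σ 6) = m ∧ T.m (σ 7) = m ∧ T.w (σ 0) = w ∧ T.w (σ 1) = 2 * w ∧ T.w (σ 2) = 2 * w ∧ T.w (σ 3) = 2 * w ∧ T.w (σ 4) = 2 * w ∧ T.w (σ 5) = 2 * w ∧ T.w (σ 6) = 2 * w ∧ T.w (σ 7) = w ∧ T.a (σ 0) (σ 0) = -2 * w ∧ T.a (σ 0) (σ 1) = 2 * w ∧ T.a (σ 0) (σ 2) = 0 ∧ T.a (σ 0) (σ 3) = 0 ∧ T.a (σ 0) (σ 4) = 0 ∧ T.a (σ 0) (σ 5) = 0 ∧ T.a (σ 0) (σ 6) = 0 ∧ T.a (σ 0) (σ 7) = 0 ∧ T.a (σ 1) (σ 1) = -4 * w ∧ T.a (σ 1) (σ 2) = 2 * w ∧ T.a (σ 1) (σ 3) = 0 ∧ T.a (σ 1) (σ 4) = 0 ∧ T.a (σ 1) (σ 5) = 0 ∧ T.a (σ 1) (σ 6) = 0 ∧ T.a (σ 1) (σ 7) = 0 ∧ T.a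 (σ 2) (σ 2) = -4 * w ∧ T.a (σ 2) (σ 3) = 2 * w ∧ T.a (σ 2) (σ 4) = 0 ∧ T.a (σ 2) (σ 5) = 0 ∧ T.a (σ 2) (σ 6) = 0 ∧ T.a (σ 2) (σ 7) = 0 ∧ T.a (σ 3) (σ 3) = -4 * w ∧ T.a (σ 3) (σ 4) = 2 * w ∧ T.a (σ 3) (σ 5) = 0 ∧ T.a (σ 3) (σ 6) = 0 ∧ T.a (σ 3) (σ 7) = 0 ∧ T.a (σ 4) (σ 4) = -4 * w ∧ T.a (σ 4) (σ 5) = 2 * w ∧ T.a (σ 4) (σ 6) = 0 ∧ T.a (σ 4) (σ 7) = 0 ∧ T.a (σ 5) (σ 5) = -4 * w ∧ T.a (σ 5) (σ 6) = 2 * w ∧ T.a (σ 5) (σ 7) = 0 ∧ T.a (σ 6) (σ 6) = -4 * w ∧ T.a (σ 6) (σ 7) = 2 * w ∧ T.a (σ 7) (σ 7) = -2 * w) ∨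
      (T.m (σ 0) = m ∧ T.m (σ 1) = 2 * m ∧ T.m (σ 2) = 2 * m ∧ T.m (σ 3) = 2 * m ∧ T.m (σ 4) = 2 * m ∧ T.m (σ 5) = 2 * m ∧ T.m (σ 6) = 2 * m ∧ T.m (σ 7) = m ∧ T.w (σ 0) = 2 * w ∧ T.w (σ 1) = w ∧ T.w (σ 2) = w ∧ T.w (σ 3) = w ∧ T.w (σ 4) = w ∧ T.w (σ 5) = w ∧ T.w (σ 6) = w ∧ T.w (σ 7) = 2 * w ∧ T.a (σ 0) (σ 0) = -4 * w ∧ T.a (σ 0) (σ 1) = 2 * w ∧ T.a (σ 0) (σ 2) = 0 ∧ T.a (σ 0) (σ 3) = 0 ∧ T.a (σ 0) (σ 4) = 0 ∧ T.a (σ 0) (σ 5) = 0 ∧ T.a (σ 0) (σ 6) = 0 ∧ T.a (σ 0) (σ 7) = 0 ∧ T.a (σ 1) (σ 1) = -2 * w ∧ T.a (σ 1) (σ 2) = w ∧ T.a (σ 1) (σ 3) = 0 ∧ T.a (σ 1) (σ 4) = 0 ∧ T.a (σ 1) (σ 5) = 0 ∧ T.a (σ 1) (σ 6) = 0 ∧ T.a (σ 1) (σ 7) = 0 ∧ T.a (σ 2) (σ 2) = -2 * w ∧ T.a (σ 2) (σ 3) = w ∧ T.a (σ 2) (σ 4) = 0 ∧ T.a (σ 2) (σ 5) = 0 ∧ T.a (σ 2) (σ 6) = 0 ∧ T.a (σ 2) (σ 7) = 0 ∧ T.a (σ 3) (σ 3) = -2 * w ∧ T.a (σ 3) (σ 4) = w ∧ T.a (σ 3) (σ 5) = 0 ∧ T.a (σ 3) (σ 6) = 0 ∧ T.a (σ 3) (σ 7) = 0 ∧ T.a (σ 4) (σ 4) =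 -2 * w ∧ T.a (σ 4) (σ 5) = w ∧ T.a (σ 4) (σ 6) = 0 ∧ T.a (σ 4) (σ 7) = 0 ∧ T.a (σ 5) (σ 5) = -2 * w ∧ T.a (σ 5) (σ 6) = w ∧ T.a (σ 5) (σ 7) = 0 ∧ T.a (σ 6) (σ 6) = -2 * w ∧ T.a (σ 6) (σ 7) = 2 * w ∧ T.a (σ 7) (σ 7) = -4 * w) ∨
      (T.m (σ 0) = m ∧ T.m (σ 1) = 2 * m ∧ T.m (σ 2) = 2 * m ∧ T.m (σ 3) = 2 * m ∧ T.m (σ 4) = 2 * m ∧ T.m (σ 5) = 2 * m ∧ T.m (σ 6) = m ∧ T.m (σ 7) = m ∧ T.w (σ 0) = 2 * w ∧ T.w (σ 1) = w ∧ T.w (σ 2) = w ∧ T.w (σ 3) = w ∧ T.w (σ 4) = w ∧ T.w (σ 5) = w ∧ T.w (σ 6) = w ∧ T.w (σ 7) = w ∧ T.a (σ 0) (σ 0) = -4 * w ∧ T.a (σ 0) (σ 1) = 2 * w ∧ T.a (σ 0) (σ 2) = 0 ∧ T.a (σ 0) (σ 3) = 0 ∧ T.a (σ 0) (σ 4) = 0 ∧ T.a (σ 0) (σ 5) = 0 ∧ T.a (σ 0) (σ 6) = 0 ∧ T.a (σ 0) (σ 7) = 0 ∧ T.a (σ 1) (σ 1) = -2 * w ∧ T.a (σ 1) (σ 2) = w ∧ T.a (σ 1) (σ 3) = 0 ∧ T.a (σ 1) (σ 4) = 0 ∧ T.a (σ 1) (σ 5) = 0 ∧ T.a (σ 1) (σ 6) = 0 ∧ T.a (σ 1) (σ 7) = 0 ∧ T.a (σ 2) (σ 2) = -2 * w ∧ T.a (σ 2) (σ 3) = w ∧ T.a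 (σ 2) (σ 4) = 0 ∧ T.a (σ 2) (σ 5) = 0 ∧ T.a (σ 2) (σ 6) = 0 ∧ T.a (σ 2) (σ 7) = 0 ∧ T.a (σ 3) (σ 3) = -2 * w ∧ T.a (σ 3) (σ 4) = w ∧ T.a (σ 3) (σ 5) = 0 ∧ T.a (σ 3) (σ 6) = 0 ∧ T.a (σ 3) (σ 7) = 0 ∧ T.a (σ 4) (σ 4) = -2 * w ∧ T.a (σ 4) (σ 5) = w ∧ T.a (σ 4) (σ 6) = 0 ∧ T.a (σ 4) (σ 7) = 0 ∧ T.a (σ 5) (σ 5) = -2 * w ∧ T.a (σ 5) (σ 6) = w ∧ T.a (σ 5) (σ 7) = w ∧ T.a (σ 6) (σ 6) = -2 * w ∧ T.a (σ 6) (σ 7) = 0 ∧ T.a (σ 7) (σ 7) = -2 * w) ∨
      (T.m (σ 0) = 2 * m ∧ T.m (σ 1) = 2 * m ∧ T.m (σ 2) = 2 * m ∧ T.m (σ 3) = 2 * m ∧ T.m (σ 4) = 2 * m ∧ T.m (σ 5) = 2 * m ∧ T.m (σ 6) = m ∧ T.m (σ 7) = m ∧ T.w (σ 0) = w ∧ T.w (σ 1) = 2 * w ∧ T.w (σ 2) = 2 * w ∧ T.w (σ 3) = 2 * w ∧ T.w (σ 4) = 2 * w ∧ T.w (σ 5) = 2 * w ∧ T.w (σ 6) = 2 * w ∧ T.w (σ 7) = 2 * w ∧ T.a (σ 0) (σ 0) = -2 * w ∧ T.a (σ 0) (σ 1) = 2 * w ∧ T.a (σ 0) (σ 2) = 0 ∧ T.a (σ 0) (σ 3) = 0 ∧ T.a (σ 0) (σ 4) = 0 ∧ T.a (σ 0) (σ 5) = 0 ∧ T.a (σ 0) (σ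 6) = 0 ∧ T.a (σ 0) (σ 7) = 0 ∧ T.a (σ 1) (σ 1) = -4 * w ∧ T.a (σ 1) (σ 2) = 2 * w ∧ T.a (σ 1) (σ 3) = 0 ∧ T.a (σ 1) (σ 4) = 0 ∧ T.a (σ 1) (σ 5) = 0 ∧ T.a (σ 1) (σ 6) = 0 ∧ T.a (σ 1) (σ 7) = 0 ∧ T.a (σ 2) (σ 2) = -4 * w ∧ T.a (σ 2) (σ 3) = 2 * w ∧ T.a (σ 2) (σ 4) = 0 ∧ T.a (σ 2) (σ 5) = 0 ∧ T.a (σ 2) (σ 6) = 0 ∧ T.a (σ 2) (σ 7) = 0 ∧ T.a (σ 3) (σ 3) = -4 * w ∧ T.a (σ 3) (σ 4) = 2 * w ∧ T.a (σ 3) (σ 5) = 0 ∧ T.a (σ 3) (σ 6) = 0 ∧ T.a (σ 3) (σ 7) = 0 ∧ T.a (σ 4) (σ 4) = -4 * w ∧ T.a (σ 4) (σ 5) = 2 * w ∧ T.a (σ 4) (σ 6) = 0 ∧ T.a (σ 4) (σ 7) = 0 ∧ T.a (σ 5) (σ 5) = -4 * w ∧ T.a (σ 5) (σ 6) = 2 * w ∧ T.a (σ 5) (σ 7) = 2 * w ∧ T.a (σ 6) (σ 6) = -4 * w ∧ T.a (σ 6) (σ 7) = 0 ∧ T.a (σ 7) (σ 7) = -4 * w) ∨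
      (T.m (σ 0) = m ∧ T.m (σ 1) = m ∧ T.m (σ 2) = 2 * m ∧ T.m (σ 3) = 2 * m ∧ T.m (σ 4) = 2 * m ∧ T.m (σ 5) = 2 * m ∧ T.m (σ 6) = m ∧ T.m (σ 7) = m ∧ T.w (σ 0) = w ∧ T.w (σ 1) = w ∧ T.w (σ 2) = w ∧ T.w (σ 3) = w ∧ T.w (σ 4) = w ∧ T.w (σ 5) = w ∧ T.w (σ 6) = w ∧ T.w (σ 7) = w ∧ T.a (σ 0) (σ 0) = -2 * w ∧ T.a (σ 0) (σ 1) = 0 ∧ T.a (σ 0) (σ 2) = w ∧ T.a (σ 0) (σ 3) = 0 ∧ T.a (σ 0) (σ 4) = 0 ∧ T.a (σ 0) (σ 5) = 0 ∧ T.a (σ 0) (σ 6) = 0 ∧ T.a (σ 0) (σ 7) = 0 ∧ T.a (σ 1) (σ 1) = -2 * w ∧ T.a (σ 1) (σ 2) = w ∧ T.a (σ 1) (σ 3) = 0 ∧ T.a (σ 1) (σ 4) = 0 ∧ T.a (σ 1) (σ 5) = 0 ∧ T.a (σ 1) (σ 6) = 0 ∧ T.a (σ 1) (σ 7) = 0 ∧ T.a (σ 2) (σ 2) = -2 * w ∧ T.a (σ 2) (σ 3) = w ∧ T.a (σ 2) (σ 4) = 0 ∧ T.a (σ 2) (σ 5) = 0 ∧ T.a (σ 2) (σ 6) = 0 ∧ T.a (σ 2) (σ 7) = 0 ∧ T.a (σ 3) (σ 3) = -2 * w ∧ T.a (σ 3) (σ 4) = w ∧ T.a (σ 3) (σ 5) = 0 ∧ T.a (σ 3) (σ 6) = 0 ∧ T.a (σ 3) (σ 7) = 0 ∧ T.a (σ 4) (σ 4) = -2 * w ∧ T.a (σ 4) (σ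 5) = w ∧ T.a (σ 4) (σ 6) = 0 ∧ T.a (σ 4) (σ 7) = 0 ∧ T.a (σ 5) (σ 5) = -2 * w ∧ T.a (σ 5) (σ 6) = w ∧ T.a (σ 5) (σ 7) = w ∧ T.a (σ 6) (σ 6) = -2 * w ∧ T.a (σ 6) (σ 7) = 0 ∧ T.a (σ 7) (σ 7) = -2 * w) ∨
      (T.m (σ 0) = m ∧ T.m (σ 1) = 2 * m ∧ T.m (σ 2) = 3 * m ∧ T.m (σ 3) = 4 * m ∧ T.m (σ 4) = 3 * m ∧ T.m (σ 5) = 2 * m ∧ T.m (σ 6) = m ∧ T.m (σ 7) = 2 * m ∧ T.w (σ 0) = w ∧ T.w (σ 1) = w ∧ T.w (σ 2) = w ∧ T.w (σ 3) = w ∧ T.w (σ 4) = w ∧ T.w (σ 5) = w ∧ T.w (σ 6) = w ∧ T.w (σ 7) = w ∧ T.a (σ 0) (σ 0) = -2 * w ∧ T.a (σ 0) (σ 1) = w ∧ T.a (σ 0) (σ 2) = 0 ∧ T.a (σ 0) (σ 3) = 0 ∧ T.a (σ 0) (σ 4) = 0 ∧ T.a (σ 0) (σ 5) = 0 ∧ T.a (σ 0) (σ 6) = 0 ∧ T.a (σ 0) (σ 7) = 0 ∧ T.a (σ 1) (σ 1) = -2 * w ∧ T.a (σ 1) (σ 2) = w ∧ T.a (σ 1) (σ 3) = 0 ∧ T.a (σ 1) (σ 4) = 0 ∧ T.a (σ 1) (σ 5) = 0 ∧ T.a (σ 1) (σ 6) = 0 ∧ T.a (σ 1) (σ 7) = 0 ∧ T.a (σ 2) (σ 2) = -2 * w ∧ T.a (σ 2) (σ 3) = w ∧ T.a (σ 2) (σ 4) = 0 ∧ T.a (σ 2)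 (σ 5) = 0 ∧ T.a (σ 2) (σ 6) = 0 ∧ T.a (σ 2) (σ 7) = 0 ∧ T.a (σ 3) (σ 3) = -2 * w ∧ T.a (σ 3) (σ 4) = w ∧ T.a (σ 3) (σ 5) = 0 ∧ T.a (σ 3) (σ 6) = 0 ∧ T.a (σ 3) (σ 7) = w ∧ T.a (σ 4) (σ 4) = -2 * w ∧ T.a (σ 4) (σ 5) = w ∧ T.a (σ 4) (σ 6) = 0 ∧ T.a (σ 4) (σ 7) = 0 ∧ T.a (σ 5) (σ 5) = -2 * w ∧ T.a (σ 5) (σ 6) = w ∧ T.a (σ 5) (σ 7) = 0 ∧ T.a (σ 6) (σ 6) = -2 * w ∧ T.a (σ 6) (σ 7) = 0 ∧ T.a (σ 7) (σ 7) = -2 * w)) := by
  have hM : ∀ i, T.IsMinusTwo i := fun i =>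
    Groth.Agent.Lib.Helper22.NumType.minusTwo_of_genus_one T (by norm_num) hmin hg i
  have hd : ∀ i, T.a i i = -2 * T.w i := fun i => (hM i).2
  refine ⟨fun i => (hM i).1, ?_⟩
  rcases classify (by norm_num) hM with h | h | h | h | h | h | h | h | h | h | h | h
  · obtain ⟨σ', m, w, c1, c2, c3, c4, c5⟩ := h
    exact ⟨σ', m, w, Or.inl ⟨(c1 0),
        (c1 1),
        (c1 2),
        (c1 3),
        (c1 4),
        (c1 5),
        (c1 6),
        (c1 7),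
        (c2 0),
        (c2 1),
        (c2 2),
        (c2 3),
        (c2 4),
        (c2 5),
        (c2 6),
        (c2 7),
        (by rw [hd, c2 0] <;> ring),
        (c3 0 1 (by decide) (by decide)),
        (c5 0 2 (by decide) (by decide) (by decide)),
        (c5 0 3 (by decide) (by decide) (by decide)),
        (c5 0 4 (by decide) (by decide) (by decide)),
        (c5 0 5 (by decide) (by decide) (by decide)),
        (c5 0 6 (by decide) (by decide) (by decide)),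
        (c4 0 7 (by decide) (by decide)),
        (by rw [hd, c2 1] <;> ring),
        (c3 1 2 (by decide) (by decide)),
        (c5 1 3 (by decide) (by decide) (by decide)),
        (c5 1 4 (by decide) (by decide) (by decide)),
        (c5 1 5 (by decide) (by decide) (by decide)),
        (c5 1 6 (by decide) (by decide) (by decide)),
        (c5 1 7 (by decide) (by decide) (by decide)),
        (by rw [hd, c2 2] <;> ring),
        (c3 2 3 (by decide) (by decide)),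
        (c5 2 4 (by decide) (by decide) (by decide)),
        (c5 2 5 (by decide) (by decide) (by decide)),
        (c5 2 6 (by decide) (by decide) (by decide)),
        (c5 2 7 (by decide) (by decide) (by decide)),
        (by rw [hd, c2 3] <;> ring),
        (c3 3 4 (by decide) (by decide)),
        (c5 3 5 (by decide) (by decide) (by decide)),
        (c5 3 6 (by decide) (by decide) (by decide)),
        (c5 3 7 (by decide) (by decide) (by decide)),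
        (by rw [hd, c2 4] <;> ring),
        (c3 4 5 (by decide) (by decide)),
        (c5 4 6 (by decide) (by decide) (by decide)),
        (c5 4 7 (by decide) (by decide) (by decide)),
        (by rw [hd, c2 5] <;> ring),
        (c3 5 6 (by decide) (by decide)),
        (c5 5 7 (by decide) (by decide) (by decide)),
        (by rw [hd, c2 6] <;> ring),
        (c3 6 7 (by decide) (by decide)),
        (by rw [hd, c2 7] <;> ring)⟩⟩
  · obtain ⟨σ', m, w, c1, c2, c3, c4, c5, c6, c7, c8⟩ := h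
    exact ⟨σ', m, w, Or.inr (Or.inl ⟨(c1 0 (by decide)),
        (c1 1 (by decide)),
        (c1 2 (by decide)),
        (c1 3 (by decide)),
        (c1 4 (by decide)),
        (c1 5 (by decide)),
        (c1 6 (by decide)),
        (c2 7 (by decide)),
        (c3 0 (by decide)),
        (c4 1 (by decide)),
        (c4 2 (by decide)),
        (c4 3 (by decide)),
        (c4 4 (by decide)),
        (c4 5 (by decide)),
        (c4 6 (by decide)),
        (c5 7 (by decide)),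
        (by rw [hd, c3 0 (by decide)] <;> ring),
        (c6 0 1 (by decide) (by decide)),
        (c8 0 2 (by decide) (by decide) (by decide)),
        (c8 0 3 (by decide) (by decide) (by decide)),
        (c8 0 4 (by decide) (by decide) (by decide)),
        (c8 0 5 (by decide) (by decide) (by decide)),
        (c8 0 6 (by decide) (by decide) (by decide)),
        (c8 0 7 (by decide) (by decide) (by decide)),
        (by rw [hd, c4 1 (by decide)] <;> ring),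
        (c6 1 2 (by decide) (by decide)),
        (c8 1 3 (by decide) (by decide) (by decide)),
        (c8 1 4 (by decide) (by decide) (by decide)),
        (c8 1 5 (by decide) (by decide) (by decide)),
        (c8 1 6 (by decide) (by decide) (by decide)),
        (c8 1 7 (by decide) (by decide) (by decide)),
        (by rw [hd, c4 2 (by decide)] <;> ring),
        (c6 2 3 (by decide) (by decide)),
        (c8 2 4 (by decide) (by decide) (by decide)),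
        (c8 2 5 (by decide) (by decide) (by decide)),
        (c8 2 6 (by decide) (by decide) (by decide)),
        (c8 2 7 (by decide) (by decide) (by decide)),
        (by rw [hd, c4 3 (by decide)] <;> ring),
        (c6 3 4 (by decide) (by decide)),
        (c8 3 5 (by decide) (by decide) (by decide)),
        (c8 3 6 (by decide) (by decide) (by decide)),
        (c8 3 7 (by decide) (by decide) (by decide)),
        (by rw [hd, c4 4 (by decide)] <;> ring),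
        (c6 4 5 (by decide) (by decide)),
        (c8 4 6 (by decide) (by decide) (by decide)),
        (c8 4 7 (by decide) (by decide) (by decide)),
        (by rw [hd, c4 5 (by decide)] <;> ring),
        (c6 5 6 (by decide) (by decide)),
        (c8 5 7 (by decide) (by decide) (by decide)),
        (by rw [hd, c4 6 (by decide)] <;> ring),
        (c7 6 7 (by decide) (by decide)),
        (by rw [hd, c5 7 (by decide)] <;> ring)⟩)⟩
  · obtain ⟨σ', m, w, c1, c2, c3, c4, c5, c6⟩ := h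
    exact ⟨σ', m, w, Or.inr (Or.inr (Or.inl ⟨(c1 0),
        (c1 1),
        (c1 2),
        (c1 3),
        (c1 4),
        (c1 5),
        (c1 6),
        (c1 7),
        (c2 0 (by decide)),
        (c3 1 (by decide)),
        (c3 2 (by decide)),
        (c3 3 (by decide)),
        (c3 4 (by decide)),
        (c3 5 (by decide)),
        (c3 6 (by decide)),
        (c4 7 (by decide)),
        (by rw [hd, c2 0 (by decide)] <;> ring),
        (c5 0 1 (by decide) (by decide)),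
        (c6 0 2 (by decide) (by decide)),
        (c6 0 3 (by decide) (by decide)),
        (c6 0 4 (by decide) (by decide)),
        (c6 0 5 (by decide) (by decide)),
        (c6 0 6 (by decide) (by decide)),
        (c6 0 7 (by decide) (by decide)),
        (by rw [hd, c3 1 (by decide)] <;> ring),
        (c5 1 2 (by decide) (by decide)),
        (c6 1 3 (by decide) (by decide)),
        (c6 1 4 (by decide) (by decide)),
        (c6 1 5 (by decide) (by decide)),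
        (c6 1 6 (by decide) (by decide)),
        (c6 1 7 (by decide) (by decide)),
        (by rw [hd, c3 2 (by decide)] <;> ring),
        (c5 2 3 (by decide) (by decide)),
        (c6 2 4 (by decide) (by decide)),
        (c6 2 5 (by decide) (by decide)),
        (c6 2 6 (by decide) (by decide)),
        (c6 2 7 (by decide) (by decide)),
        (by rw [hd, c3 3 (by decide)] <;> ring),
        (c5 3 4 (by decide) (by decide)),
        (c6 3 5 (by decide) (by decide)),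
        (c6 3 6 (by decide) (by decide)),
        (c6 3 7 (by decide) (by decide)),
        (by rw [hd, c3 4 (by decide)] <;> ring),
        (c5 4 5 (by decide) (by decide)),
        (c6 4 6 (by decide) (by decide)),
        (c6 4 7 (by decide) (by decide)),
        (by rw [hd, c3 5 (by decide)] <;> ring),
        (c5 5 6 (by decide) (by decide)),
        (c6 5 7 (by decide) (by decide)),
        (by rw [hd, c3 6 (by decide)] <;> ring),
        (c5 6 7 (by decide) (by decide)),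
        (by rw [hd, c4 7 (by decide)] <;> ring)⟩))⟩
  · obtain ⟨σ', m, w, c1, c2, c3, c4, c5, c6, c7, c8, c9, c10⟩ := h
    exact ⟨σ', m, w, Or.inr (Or.inr (Or.inr (Or.inl ⟨(c1 0 (by decide)),
        (c2 1 (by decide)),
        (c2 2 (by decide)),
        (c2 3 (by decide)),
        (c2 4 (by decide)),
        (c2 5 (by decide)),
        (c2 6 (by decide)),
        (c3 7 (by decide)),
        (c4 0 (by decide)),
        (c5 1 (by decide)),
        (c5 2 (by decide)),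
        (c5 3 (by decide)),
        (c5 4 (by decide)),
        (c5 5 (by decide)),
        (c5 6 (by decide)),
        (c6 7 (by decide)),
        (by rw [hd, c4 0 (by decide)] <;> ring),
        (c7 0 1 (by decide) (by decide)),
        (c10 0 2 (by decide) (by decide) (by decide) (by decide)),
        (c10 0 3 (by decide) (by decide) (by decide) (by decide)),
        (c10 0 4 (by decide) (by decide) (by decide) (by decide)),
        (c10 0 5 (by decide) (by decide) (by decide) (by decide)),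
        (c10 0 6 (by decide) (by decide) (by decide) (by decide)),
        (c10 0 7 (by decide) (by decide) (by decide) (by decide)),
        (by rw [hd, c5 1 (by decide)] <;> ring),
        (c8 1 2 (by decide) (by decide)),
        (c10 1 3 (by decide) (by decide) (by decide) (by decide)),
        (c10 1 4 (by decide) (by decide) (by decide) (by decide)),
        (c10 1 5 (by decide) (by decide) (by decide) (by decide)),
        (c10 1 6 (by decide) (by decide) (by decide) (by decide)),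
        (c10 1 7 (by decide) (by decide) (by decide) (by decide)),
        (by rw [hd, c5 2 (by decide)] <;> ring),
        (c8 2 3 (by decide) (by decide)),
        (c10 2 4 (by decide) (by decide) (by decide) (by decide)),
        (c10 2 5 (by decide) (by decide) (by decide) (by decide)),
        (c10 2 6 (by decide) (by decide) (by decide) (by decide)),
        (c10 2 7 (by decide) (by decide) (by decide) (by decide)),
        (by rw [hd, c5 3 (by decide)] <;> ring),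
        (c8 3 4 (by decide) (by decide)),
        (c10 3 5 (by decide) (by decide) (by decide) (by decide)),
        (c10 3 6 (by decide) (by decide) (by decide) (by decide)),
        (c10 3 7 (by decide) (by decide) (by decide) (by decide)),
        (by rw [hd, c5 4 (by decide)] <;> ring),
        (c8 4 5 (by decide) (by decide)),
        (c10 4 6 (by decide) (by decide) (by decide) (by decide)),
        (c10 4 7 (by decide) (by decide) (by decide) (by decide)),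
        (by rw [hd, c5 5 (by decide)] <;> ring),
        (c8 5 6 (by decide) (by decide)),
        (c10 5 7 (by decide) (by decide) (by decide) (by decide)),
        (by rw [hd, c5 6 (by decide)] <;> ring),
        (c9 6 7 (by decide) (by decide)),
        (by rw [hd, c6 7 (by decide)] <;> ring)⟩)))⟩
  · obtain ⟨σ', m, w, c1, c2, c3, c4, c5, c6, c7, c8, c9⟩ := h
    exact ⟨σ', m, w, Or.inr (Or.inr (Or.inr (Or.inr (Or.inl ⟨(c1 0 (by decide)),
        (c2 1 (by decide)),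
        (c2 2 (by decide)),
        (c2 3 (by decide)),
        (c2 4 (by decide)),
        (c2 5 (by decide)),
        (c3 6 (by decide)),
        (c3 7 (by decide)),
        (c4 0 (by decide)),
        (c5 1 (by decide)),
        (c5 2 (by decide)),
        (c5 3 (by decide)),
        (c5 4 (by decide)),
        (c5 5 (by decide)),
        (c5 6 (by decide)),
        (c5 7 (by decide)),
        (by rw [hd, c4 0 (by decide)] <;> ring),
        (c6 0 1 (by decide) (by decide)),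
        (c9 0 2 (by decide) (by decide) (by decide) (by decide)),
        (c9 0 3 (by decide) (by decide) (by decide) (by decide)),
        (c9 0 4 (by decide) (by decide) (by decide) (by decide)),
        (c9 0 5 (by decide) (by decide) (by decide) (by decide)),
        (c9 0 6 (by decide) (by decide) (by decide) (by decide)),
        (c9 0 7 (by decide) (by decide) (by decide) (by decide)),
        (by rw [hd, c5 1 (by decide)] <;> ring),
        (c7 1 2 (by decide) (by decide)),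
        (c9 1 3 (by decide) (by decide) (by decide) (by decide)),
        (c9 1 4 (by decide) (by decide) (by decide) (by decide)),
        (c9 1 5 (by decide) (by decide) (by decide) (by decide)),
        (c9 1 6 (by decide) (by decide) (by decide) (by decide)),
        (c9 1 7 (by decide) (by decide) (by decide) (by decide)),
        (by rw [hd, c5 2 (by decide)] <;> ring),
        (c7 2 3 (by decide) (by decide)),
        (c9 2 4 (by decide) (by decide) (by decide) (by decide)),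
        (c9 2 5 (by decide) (by decide) (by decide) (by decide)),
        (c9 2 6 (by decide) (by decide) (by decide) (by decide)),
        (c9 2 7 (by decide) (by decide) (by decide) (by decide)),
        (by rw [hd, c5 3 (by decide)] <;> ring),
        (c7 3 4 (by decide) (by decide)),
        (c9 3 5 (by decide) (by decide) (by decide) (by decide)),
        (c9 3 6 (by decide) (by decide) (by decide) (by decide)),
        (c9 3 7 (by decide) (by decide) (by decide) (by decide)),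
        (by rw [hd, c5 4 (by decide)] <;> ring),
        (c7 4 5 (by decide) (by decide)),
        (c9 4 6 (by decide) (by decide) (by decide) (by decide)),
        (c9 4 7 (by decide) (by decide) (by decide) (by decide)),
        (by rw [hd, c5 5 (by decide)] <;> ring),
        (c7 5 6 (by decide) (by decide)),
        (c8 5 7 (by decide) (by decide)),
        (by rw [hd, c5 6 (by decide)] <;> ring),
        (c9 6 7 (by decide) (by decide) (by decide) (by decide)),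
        (by rw [hd, c5 7 (by decide)] <;> ring)⟩))))⟩
  · obtain ⟨σ', m, w, c1, c2, c3, c4, c5, c6, c7⟩ := h
    exact ⟨σ', m, w, Or.inr (Or.inr (Or.inr (Or.inr (Or.inr (Or.inl ⟨(c1 0 (by decide)),
        (c1 1 (by decide)),
        (c1 2 (by decide)),
        (c1 3 (by decide)),
        (c1 4 (by decide)),
        (c1 5 (by decide)),
        (c2 6 (by decide)),
        (c2 7 (by decide)),
        (c3 0 (by decide)),
        (c4 1 (by decide)),
        (c4 2 (by decide)),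
        (c4 3 (by decide)),
        (c4 4 (by decide)),
        (c4 5 (by decide)),
        (c4 6 (by decide)),
        (c4 7 (by decide)),
        (by rw [hd, c3 0 (by decide)] <;> ring),
        (c5 0 1 (by decide) (by decide)),
        (c7 0 2 (by decide) (by decide) (by decide)),
        (c7 0 3 (by decide) (by decide) (by decide)),
        (c7 0 4 (by decide) (by decide) (by decide)),
        (c7 0 5 (by decide) (by decide) (by decide)),
        (c7 0 6 (by decide) (by decide) (by decide)),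
        (c7 0 7 (by decide) (by decide) (by decide)),
        (by rw [hd, c4 1 (by decide)] <;> ring),
        (c5 1 2 (by decide) (by decide)),
        (c7 1 3 (by decide) (by decide) (by decide)),
        (c7 1 4 (by decide) (by decide) (by decide)),
        (c7 1 5 (by decide) (by decide) (by decide)),
        (c7 1 6 (by decide) (by decide) (by decide)),
        (c7 1 7 (by decide) (by decide) (by decide)),
        (by rw [hd, c4 2 (by decide)] <;> ring),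
        (c5 2 3 (by decide) (by decide)),
        (c7 2 4 (by decide) (by decide) (by decide)),
        (c7 2 5 (by decide) (by decide) (by decide)),
        (c7 2 6 (by decide) (by decide) (by decide)),
        (c7 2 7 (by decide) (by decide) (by decide)),
        (by rw [hd, c4 3 (by decide)] <;> ring),
        (c5 3 4 (by decide) (by decide)),
        (c7 3 5 (by decide) (by decide) (by decide)),
        (c7 3 6 (by decide) (by decide) (by decide)),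
        (c7 3 7 (by decide) (by decide) (by decide)),
        (by rw [hd, c4 4 (by decide)] <;> ring),
        (c5 4 5 (by decide) (by decide)),
        (c7 4 6 (by decide) (by decide) (by decide)),
        (c7 4 7 (by decide) (by decide) (by decide)),
        (by rw [hd, c4 5 (by decide)] <;> ring),
        (c5 5 6 (by decide) (by decide)),
        (c6 5 7 (by decide) (by decide)),
        (by rw [hd, c4 6 (by decide)] <;> ring),
        (c7 6 7 (by decide) (by decide) (by decide)),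
        (by rw [hd, c4 7 (by decide)] <;> ring)⟩)))))⟩
  · obtain ⟨σ', m, w, c1, c2, c3, c4, c5, c6, c7, c8, c9⟩ := h
    exact ⟨σ', m, w, Or.inr (Or.inr (Or.inr (Or.inr (Or.inr (Or.inr (Or.inl ⟨(c1 0 (by decide)),
        (c1 1 (by decide)),
        (c2 2 (by decide)),
        (c2 3 (by decide)),
        (c2 4 (by decide)),
        (c2 5 (by decide)),
        (c3 6 (by decide)),
        (c3 7 (by decide)),
        (c4 0),
        (c4 1),
        (c4 2),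
        (c4 3),
        (c4 4),
        (c4 5),
        (c4 6),
        (c4 7),
        (by rw [hd, c4 0] <;> ring),
        (c9 0 1 (by decide) (by decide) (by decide) (by decide) (by decide)),
        (c5 0 2 (by decide) (by decide)),
        (c9 0 3 (by decide) (by decide) (by decide) (by decide) (by decide)),
        (c9 0 4 (by decide) (by decide) (by decide) (by decide) (by decide)),
        (c9 0 5 (by decide) (by decide) (by decide) (by decide) (by decide)),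
        (c9 0 6 (by decide) (by decide) (by decide) (by decide) (by decide)),
        (c9 0 7 (by decide) (by decide) (by decide) (by decide) (by decide)),
        (by rw [hd, c4 1] <;> ring),
        (c6 1 2 (by decide) (by decide)),
        (c9 1 3 (by decide) (by decide) (by decide) (by decide) (by decide)),
        (c9 1 4 (by decide) (by decide) (by decide) (by decide) (by decide)),
        (c9 1 5 (by decide) (by decide) (by decide) (by decide) (by decide)),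
        (c9 1 6 (by decide) (by decide) (by decide) (by decide) (by decide)),
        (c9 1 7 (by decide) (by decide) (by decide) (by decide) (by decide)),
        (by rw [hd, c4 2] <;> ring),
        (c7 2 3 (by decide) (by decide)),
        (c9 2 4 (by decide) (by decide) (by decide) (by decide) (by decide)),
        (c9 2 5 (by decide) (by decide) (by decide) (by decide) (by decide)),
        (c9 2 6 (by decide) (by decide) (by decide) (by decide) (by decide)),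
        (c9 2 7 (by decide) (by decide) (by decide) (by decide) (by decide)),
        (by rw [hd, c4 3] <;> ring),
        (c7 3 4 (by decide) (by decide)),
        (c9 3 5 (by decide) (by decide) (by decide) (by decide) (by decide)),
        (c9 3 6 (by decide) (by decide) (by decide) (by decide) (by decide)),
        (c9 3 7 (by decide) (by decide) (by decide) (by decide) (by decide)),
        (by rw [hd, c4 4] <;> ring),
        (c7 4 5 (by decide) (by decide)),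
        (c9 4 6 (by decide) (by decide) (by decide) (by decide) (by decide)),
        (c9 4 7 (by decide) (by decide) (by decide) (by decide) (by decide)),
        (by rw [hd, c4 5] <;> ring),
        (c7 5 6 (by decide) (by decide)),
        (c8 5 7 (by decide) (by decide)),
        (by rw [hd, c4 6] <;> ring),
        (c9 6 7 (by decide) (by decide) (by decide) (by decide) (by decide)),
        (by rw [hd, c4 7] <;> ring)⟩))))))⟩
  · have := fixed_card T h; omega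
  · obtain ⟨v, hs, m, w, H⟩ := h
    refine ⟨permOfSurj v hs, m, w, ?_⟩
    simp only [permOfSurj_apply]
    exact Or.inr (Or.inr (Or.inr (Or.inr (Or.inr (Or.inr (Or.inr (⟨(by have h0 := (H 0).1; rw [(by decide : XE7 0 = 1)] at h0; linarith),
        (by have h0 := (H 1).1; rw [(by decide : XE7 1 = 2)] at h0; linarith),
        (by have h0 := (H 2).1; rw [(by decide : XE7 2 = 3)] at h0; linarith),
        (by have h0 := (H 3).1; rw [(by decide : XE7 3 = 4)] at h0; linarith),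
        (by have h0 := (H 4).1; rw [(by decide : XE7 4 = 3)] at h0; linarith),
        (by have h0 := (H 5).1; rw [(by decide : XE7 5 = 2)] at h0; linarith),
        (by have h0 := (H 6).1; rw [(by decide : XE7 6 = 1)] at h0; linarith),
        (by have h0 := (H 7).1; rw [(by decide : XE7 7 = 2)] at h0; linarith),
        (by have h0 := (H 0).2.1; simp only [mul_one] at h0; linarith),
        (by have h0 := (H 1).2.1; simp only [mul_one] at h0; linarith),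
        (by have h0 := (H 2).2.1; simp only [mul_one] at h0; linarith),
        (by have h0 := (H 3).2.1; simp only [mul_one] at h0; linarith),
        (by have h0 := (H 4).2.1; simp only [mul_one] at h0; linarith),
        (by have h0 := (H 5).2.1; simp only [mul_one] at h0; linarith),
        (by have h0 := (H 6).2.1; simp only [mul_one] at h0; linarith),
        (by have h0 := (H 7).2.1; simp only [mul_one] at h0; linarith),
        (by have h0 := (H 0).2.1; simp only [mul_one] at h0; rw [hd, h0]),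
        (by have h0 := (H 0).2.2 1 (by decide); rw [(by decide : AE7 0 1 = 1)] at h0; linarith),
        (by have h0 := (H 0).2.2 2 (by decide); rw [(by decide : AE7 0 2 = 0)] at h0; linarith),
        (by have h0 := (H 0).2.2 3 (by decide); rw [(by decide : AE7 0 3 = 0)] at h0; linarith),
        (by have h0 := (H 0).2.2 4 (by decide); rw [(by decide : AE7 0 4 = 0)] at h0; linarith),
        (by have h0 := (H 0).2.2 5 (by decide); rw [(by decide : AE7 0 5 = 0)] at h0; linarith),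
        (by have h0 := (H 0).2.2 6 (by decide); rw [(by decide : AE7 0 6 = 0)] at h0; linarith),
        (by have h0 := (H 0).2.2 7 (by decide); rw [(by decide : AE7 0 7 = 0)] at h0; linarith),
        (by have h0 := (H 1).2.1; simp only [mul_one] at h0; rw [hd, h0]),
        (by have h0 := (H 1).2.2 2 (by decide); rw [(by decide : AE7 1 2 = 1)] at h0; linarith),
        (by have h0 := (H 1).2.2 3 (by decide); rw [(by decide : AE7 1 3 = 0)] at h0; linarith),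
        (by have h0 := (H 1).2.2 4 (by decide); rw [(by decide : AE7 1 4 = 0)] at h0; linarith),
        (by have h0 := (H 1).2.2 5 (by decide); rw [(by decide : AE7 1 5 = 0)] at h0; linarith),
        (by have h0 := (H 1).2.2 6 (by decide); rw [(by decide : AE7 1 6 = 0)] at h0; linarith),
        (by have h0 := (H 1).2.2 7 (by decide); rw [(by decide : AE7 1 7 = 0)] at h0; linarith),
        (by have h0 := (H 2).2.1; simp only [mul_one] at h0; rw [hd, h0]),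
        (by have h0 := (H 2).2.2 3 (by decide); rw [(by decide : AE7 2 3 = 1)] at h0; linarith),
        (by have h0 := (H 2).2.2 4 (by decide); rw [(by decide : AE7 2 4 = 0)] at h0; linarith),
        (by have h0 := (H 2).2.2 5 (by decide); rw [(by decide : AE7 2 5 = 0)] at h0; linarith),
        (by have h0 := (H 2).2.2 6 (by decide); rw [(by decide : AE7 2 6 = 0)] at h0; linarith),
        (by have h0 := (H 2).2.2 7 (by decide); rw [(by decide : AE7 2 7 = 0)] at h0; linarith),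
        (by have h0 := (H 3).2.1; simp only [mul_one] at h0; rw [hd, h0]),
        (by have h0 := (H 3).2.2 4 (by decide); rw [(by decide : AE7 3 4 = 1)] at h0; linarith),
        (by have h0 := (H 3).2.2 5 (by decide); rw [(by decide : AE7 3 5 = 0)] at h0; linarith),
        (by have h0 := (H 3).2.2 6 (by decide); rw [(by decide : AE7 3 6 = 0)] at h0; linarith),
        (by have h0 := (H 3).2.2 7 (by decide); rw [(by decide : AE7 3 7 = 1)] at h0; linarith),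
        (by have h0 := (H 4).2.1; simp only [mul_one] at h0; rw [hd, h0]),
        (by have h0 := (H 4).2.2 5 (by decide); rw [(by decide : AE7 4 5 = 1)] at h0; linarith),
        (by have h0 := (H 4).2.2 6 (by decide); rw [(by decide : AE7 4 6 = 0)] at h0; linarith),
        (by have h0 := (H 4).2.2 7 (by decide); rw [(by decide : AE7 4 7 = 0)] at h0; linarith),
        (by have h0 := (H 5).2.1; simp only [mul_one] at h0; rw [hd, h0]),
        (by have h0 := (H 5).2.2 6 (by decide); rw [(by decide : AE7 5 6 = 1)] at h0; linarith),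
        (by have h0 := (H 5).2.2 7 (by decide); rw [(by decide : AE7 5 7 = 0)] at h0; linarith),
        (by have h0 := (H 6).2.1; simp only [mul_one] at h0; rw [hd, h0]),
        (by have h0 := (H 6).2.2 7 (by decide); rw [(by decide : AE7 6 7 = 0)] at h0; linarith),
        (by have h0 := (H 7).2.1; simp only [mul_one] at h0; rw [hd, h0])⟩)))))))
  · have := fixed_card T h; omega
  · have := fixed_card T h; omega
  · have := fixed_card T h; omega

end Groth.Agent.S7369
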