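import Groth.Statements.S7390
import Groth.Agent.Lib.Helper28.SecPow
import Mathlib
set_option backward.isDefEq.respectTransparency.types false

set_option autoImplicit false
universe u
open CategoryTheory AlgebraicGeometry
open Mor

namespace Groth.Agent.S7390
open Groth.Agent.Lib.Helper28 Groth.Agent.Lib.Helper28.GenLocus CategoryTheory.Limits


/-- Let `X` be a scheme such that every point lies in some affine open `X_s`, the locus where a global
section `s` generates an invertible `O_X`-module `L` (both depending on the point). Then the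
diagonal of `X` is an affine morphism. -/
theorem result (X : Scheme.{u})
    (h : ∀ x : X, ∃ (L : X.Modules) (s : Coh.structureModule X ⟶ L), PicF.IsInvertible L ∧
      x ∈ CohB1.genLocus L s ∧ IsAffineOpen (CohB1.genLocus L s)) :
    IsAffineHom (Limits.pullback.diagonal (Limits.terminal.from X)) := by
  choose L s hL hx haff using h
  let 𝒰X : X.OpenCover := X.openCoverOfIsOpenCover (fun x : X => CohB1.genLocus (L x) (s x))
    (TopologicalSpace.IsOpenCover.mk (by
      rw [eq_top_iff]
      intro x _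
      exact TopologicalSpace.Opens.mem_iSup.2 ⟨x, hx x⟩))
  let 𝒰' := 𝒰X.pushforwardIso (inv (pullback.fst (f := terminal.from X) (g := 𝟙 _)))
  haveI : ∀ j, IsAffine (𝒰'.X j) := fun j => haff j
  refine HasAffineProperty.diagonal_of_openCover.{u, u, u} @IsAffineHom (terminal.from X)
    (Scheme.coverOfIsIso (𝟙 _)) (fun _ => 𝒰') ?_
  intro i j k
  show IsAffine _
  have hrange : ∀ j : X, (𝒰'.f j).opensRange =
      (pullback.fst (terminal.from X) (𝟙 (⊤_ Scheme))) ⁻¹ᵁ CohB1.genLocus (L j) (s j) := by
    intro j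
    ext z
    show z ∈ Set.range ((CohB1.genLocus (L j) (s j)).ι ≫
      inv (pullback.fst (terminal.from X) (𝟙 (⊤_ Scheme)))) ↔ _
    constructor
    · rintro ⟨u, rfl⟩
      show (pullback.fst (terminal.from X) (𝟙 (⊤_ Scheme)))
        (((CohB1.genLocus (L j) (s j)).ι ≫ inv (pullback.fst (terminal.from X) (𝟙 (⊤_ Scheme)))) u) ∈
          CohB1.genLocus (L j) (s j)
      rw [← Scheme.Hom.comp_apply, Category.assoc, IsIso.inv_hom_id, Category.comp_id]
      exact u.2
    · intro hz
      refine ⟨⟨_, hz⟩, ?_⟩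
      show (inv (pullback.fst (terminal.from X) (𝟙 (⊤_ Scheme))))
        ((pullback.fst (terminal.from X) (𝟙 (⊤_ Scheme))) z) = z
      rw [← Scheme.Hom.comp_apply, IsIso.hom_inv_id]
      rfl
  have h1 : IsAffineOpen (pullback.fst (𝒰'.f j) (𝒰'.f k) ≫ 𝒰'.f j).opensRange := by
    have h2 : (pullback.fst (𝒰'.f j) (𝒰'.f k) ≫ 𝒰'.f j).opensRange =
        (𝒰'.f j).opensRange ⊓ (𝒰'.f k).opensRange :=
      TopologicalSpace.Opens.ext (IsOpenImmersion.range_pullback_to_base_of_left _ _)
    rw [h2, hrange, hrange, ← Scheme.Hom.preimage_inf]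
    refine IsAffineOpen.preimage_of_isIso ?_ _
    rw [inf_comm]
    exact isAffineOpen_genLocus_inf (hL k) (s k) (haff j)
  change IsAffine _ at h1
  exact .of_isIso (pullback.fst (𝒰'.f j) (𝒰'.f k) ≫ 𝒰'.f j).isoOpensRange.hom

end Groth.Agent.S7390
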