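import Groth.Statements.S7392
import Groth.Agent.Lib.Helper29.TildeBridge2
import Groth.Agent.Lib.Helper17.ModPullback

set_option autoImplicit false
universe u
open CategoryTheory AlgebraicGeometry
open Opposite
open Mor

namespace Groth.Agent.S7392

open TensorProduct
open Groth.Agent.Lib.Helper28.QCohLoc Groth.Agent.Lib.Helper29.QCohStalk Groth.Agent.Lib.Helper29.TildeBridge

attribute [local instance] RingHomInvPair.of_ringEquiv RingHomInvPair.of_ringEquiv_symm


/-- For a ring `A` and an `A`-module `M`, the module `M~` on `Spec A` is locally projective (projective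
sections over every affine open) if and only if `M` is a projective `A`-module. -/
theorem result (A : CommRingCat.{u}) (M : ModuleCat.{u} A) :
    (∀ U : (Spec A).Opens, IsAffineOpen U →
      Module.Projective ((Spec A).ringCatSheaf.obj.obj (op U)) ((tilde M).val.obj (op U))) ↔
      Module.Projective A M := by
  constructor
  · intro h
    have h1 : Module.Projective Γ(Spec A, ⊤) Γ(tilde M, ⊤) := h ⊤ (isAffineOpen_top _)
    exact Module.Projective.of_equiv (eEquiv M).symm
  · intro h U hU
    haveI h1 : Module.Projective Γ(Spec A, ⊤) Γ(tilde M, ⊤) := Module.Projective.of_equiv (eEquiv M)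
    have hle : U ≤ (𝟙 (Spec A)) ⁻¹ᵁ (⊤ : (Spec A).Opens) := le_top
    letI := ((𝟙 (Spec A) : Spec A ⟶ Spec A).appLE ⊤ U hle).hom.toAlgebra
    obtain ⟨l⟩ := Groth.Agent.Lib.Helper17.ModPullback.nonempty_linearEquiv_pullback_sections
      (𝟙 (Spec A)) (tilde M) hU (isAffineOpen_top (Spec A)) hle
    have l2 : Γ(tilde M, U) ≃ₗ[Γ(Spec A, U)] (Γ(Spec A, U) ⊗[Γ(Spec A, ⊤)] Γ(tilde M, ⊤)) :=
      (sectionsEquivOfIso ((Scheme.Modules.pullbackId (Spec A)).app (tilde M)).symm U).trans l
    have h3 : Module.Projective Γ(Spec A, U) Γ(tilde M, U) := Module.Projective.of_equiv' l2.symm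
    exact h3



end Groth.Agent.S7392
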