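import Groth.Statements.S7405
import Groth.Agent.Lib.Helper9.FilteredUnder

set_option autoImplicit false
universe u
open CategoryTheory AlgebraicGeometry
open Mor

namespace Groth.Agent.S7405

open Groth.Agent.Lib.Helper9.UnivHomeoRing in
theorem aux {A : CommRingCat.{u}} {J : Type u} [SmallCategory J]
    [IsFiltered J] (F : J ⥤ Under A) (c : Limits.Cocone F) (hc : Limits.IsColimit c) :
    ((∀ j, (F.obj j).hom.hom.IsIntegral) → c.pt.hom.hom.IsIntegral) ∧
    ((∀ j, IsRadicial (F.obj j).hom.hom) → IsRadicial c.pt.hom.hom) ∧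
    ((∀ j, ResSurj (F.obj j).hom.hom) → ResSurj c.pt.hom.hom) ∧
    (c.pt.hom.hom.IsIntegral → (∀ j, Function.Surjective (PrimeSpectrum.comap (F.obj j).hom.hom)) →
      Function.Surjective (PrimeSpectrum.comap c.pt.hom.hom)) := by
  have hcomp : ∀ j, ((c.ι.app j).right.hom).comp (F.obj j).hom.hom = c.pt.hom.hom := by
    intro j
    have := Under.w (c.ι.app j)
    exact congrArg CommRingCat.Hom.hom this
  have hsurj := under_jointly_surjective F c hc
  refine ⟨?_, ?_, ?_, ?_⟩
  · exact isIntegral_of_jointly_surjective _ (fun j => (F.obj j).right) (fun j => (F.obj j).hom.hom)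
      (fun j => (c.ι.app j).right.hom) hcomp hsurj
  · exact isRadicial_of_jointly_surjective _ (fun j => (F.obj j).right) (fun j => (F.obj j).hom.hom)
      (fun j => (c.ι.app j).right.hom) hcomp hsurj
  · exact resSurj_of_jointly_surjective _ (fun j => (F.obj j).right) (fun j => (F.obj j).hom.hom)
      (fun j => (c.ι.app j).right.hom) hcomp hsurj
  · intro hint hs
    refine comap_surjective_of_jointly_surjective _ (fun j => (F.obj j).right)
      (fun j => (F.obj j).hom.hom) (fun j => (c.ι.app j).right.hom) hint ?_ hs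
    intro a ha
    obtain ⟨j⟩ := IsFiltered.nonempty (C := J)
    have h1 : (c.ι.app j).right.hom ((F.obj j).hom.hom a) = 0 := by
      rw [← RingHom.comp_apply, hcomp j, ha]
    obtain ⟨k, f, hf⟩ := under_eq_zero F c hc j _ h1
    refine ⟨k, ?_⟩
    have h2 : ((F.map f).right.hom).comp (F.obj j).hom.hom = (F.obj k).hom.hom :=
      congrArg CommRingCat.Hom.hom (Under.w (F.map f))
    rw [← h2, RingHom.comp_apply, hf]

/-- Let `A` be a ring and `B` the colimit of a filtered diagram `j ↦ B_j` of `A`-algebras. Each of the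
following properties, when it holds for every `Spec B_j → Spec A`, holds for `Spec B → Spec A`:
being a universal homeomorphism; being a universal homeomorphism with trivial residue field
extensions; being universally closed; being both universally closed and universally injective. -/
theorem result (A : CommRingCat.{u}) {J : Type u} [SmallCategory J]
    [IsFiltered J] (F : J ⥤ Under A) (c : Limits.Cocone F) (hc : Limits.IsColimit c) :
    ((∀ j, FlatMor.IsUnivHomeo (Spec.map (F.obj j).hom)) → FlatMor.IsUnivHomeo (Spec.map c.pt.hom)) ∧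
    ((∀ j, FlatMor.IsUnivHomeo (Spec.map (F.obj j).hom) ∧
        ∀ x : Spec (F.obj j).right, Function.Surjective ((Spec.map (F.obj j).hom).residueFieldMap x)) →
      FlatMor.IsUnivHomeo (Spec.map c.pt.hom) ∧
        ∀ x : Spec c.pt.right, Function.Surjective ((Spec.map c.pt.hom).residueFieldMap x)) ∧
    ((∀ j, UniversallyClosed (Spec.map (F.obj j).hom)) → UniversallyClosed (Spec.map c.pt.hom)) ∧
    ((∀ j, UniversallyClosed (Spec.map (F.obj j).hom) ∧ UniversallyInjective (Spec.map (F.obj j).hom)) →
      UniversallyClosed (Spec.map c.pt.hom) ∧ UniversallyInjective (Spec.map c.pt.hom)) := by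

  obtain ⟨hI, hR, hS, hC⟩ := aux F c hc
  have eUH : ∀ (X : Under A), FlatMor.IsUnivHomeo (Spec.map X.hom) ↔
      X.hom.hom.IsIntegral ∧ Function.Surjective (PrimeSpectrum.comap X.hom.hom) ∧
        Groth.Agent.Lib.Helper9.UnivHomeoRing.IsRadicial X.hom.hom :=
    fun X => Groth.Agent.Lib.Helper9.UnivHomeoRing.isUnivHomeo_SpecMap_iff' X.hom.hom
  have eUC : ∀ (X : Under A), UniversallyClosed (Spec.map X.hom) ↔ X.hom.hom.IsIntegral :=
    fun X => Groth.Agent.Lib.Helper9.UnivHomeoRing.universallyClosed_SpecMap_iff X.hom.hom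
  have eUI : ∀ (X : Under A), UniversallyInjective (Spec.map X.hom) ↔
      Groth.Agent.Lib.Helper9.UnivHomeoRing.IsRadicial X.hom.hom :=
    fun X => Groth.Agent.Lib.Helper9.UnivHomeoRing.universallyInjective_SpecMap_iff X.hom.hom
  have eRS : ∀ (X : Under A), (∀ x : Spec X.right,
      Function.Surjective ((Spec.map X.hom).residueFieldMap x)) ↔
      Groth.Agent.Lib.Helper9.UnivHomeoRing.ResSurj X.hom.hom :=
    fun X => (Groth.Agent.Lib.Helper9.UnivHomeoRing.resSurj_iff_SpecMap X.hom.hom).symm
  have hUH : (∀ j, FlatMor.IsUnivHomeo (Spec.map (F.obj j).hom)) →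
      FlatMor.IsUnivHomeo (Spec.map c.pt.hom) := by
    intro h
    have h' := fun j => (eUH (F.obj j)).mp (h j)
    have hint := hI fun j => (h' j).1
    exact (eUH c.pt).mpr ⟨hint, hC hint fun j => (h' j).2.1, hR fun j => (h' j).2.2⟩
  refine ⟨hUH, ?_, ?_, ?_⟩
  · intro h
    refine ⟨hUH fun j => (h j).1, ?_⟩
    rw [eRS]
    exact hS fun j => (eRS (F.obj j)).mp (h j).2
  · intro h
    rw [eUC]
    exact hI fun j => (eUC (F.obj j)).mp (h j)
  · intro h
    rw [eUC, eUI]
    exact ⟨hI fun j => (eUC (F.obj j)).mp (h j).1, hR fun j => (eUI (F.obj j)).mp (h j).2⟩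

end Groth.Agent.S7405
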