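import Groth.Statements.S7407
import Mathlib
-- import your own Groth.Agent.* helpers here

set_option autoImplicit false
universe u
open CategoryTheory AlgebraicGeometry
open Desc

namespace Groth.Agent.S7407

section H
namespace W26
set_option backward.isDefEq.respectTransparency.types false

theorem T1 (k K K' : Type u) [Field k] [Field K] [Field K'] (φ : k →+* K) (ψ : K →+* K')
    (halg : letI := ψ.toAlgebra; Algebra.IsAlgebraic K K') :
    @Algebra.trdeg k K _ _ φ.toAlgebra = @Algebra.trdeg k K' _ _ (ψ.comp φ).toAlgebra := by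
  letI := φ.toAlgebra
  letI := ψ.toAlgebra
  letI := (ψ.comp φ).toAlgebra
  haveI : IsScalarTower k K K' := IsScalarTower.of_algebraMap_eq' rfl
  haveI : Algebra.IsAlgebraic K K' := halg
  have h1 := trdeg_add_eq (R := k) (S := K) (A := K')
  rw [trdeg_eq_zero (R := K) (A := K'), add_zero] at h1
  exact h1

theorem T2 (k k' K' : Type u) [Field k] [Field k'] [Field K'] (φ : k →+* k') (ψ : k' →+* K')
    (halg : letI := φ.toAlgebra; Algebra.IsAlgebraic k k') :
    @Algebra.trdeg k K' _ _ (ψ.comp φ).toAlgebra = @Algebra.trdeg k' K' _ _ ψ.toAlgebra := by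
  letI := φ.toAlgebra
  letI := ψ.toAlgebra
  letI := (ψ.comp φ).toAlgebra
  haveI : IsScalarTower k k' K' := IsScalarTower.of_algebraMap_eq' rfl
  haveI : Algebra.IsAlgebraic k k' := halg
  have h1 := trdeg_add_eq (R := k) (S := k') (A := K')
  rw [trdeg_eq_zero (R := k) (A := k'), zero_add] at h1
  exact h1.symm

theorem alg_of_etale {X Y : Scheme.{u}} (f : X ⟶ Y) [Etale f] (x : X) :
    letI := (f.residueFieldMap x).hom.toAlgebra
    Algebra.IsAlgebraic (Y.residueField (f x)) (X.residueField x) := by
  letI := (f.residueFieldMap x).hom.toAlgebra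
  haveI : Algebra.IsSeparable (Y.residueField (f x)) (X.residueField x) := inferInstance
  exact Algebra.IsSeparable.isAlgebraic _ _

theorem congr_aux {U' V : Scheme.{u}} (g₁ g₂ : U' ⟶ V) (hg : g₁ = g₂) (u' : U') :
    @Algebra.trdeg (V.residueField (g₁ u')) (U'.residueField u') _ _
      (g₁.residueFieldMap u').hom.toAlgebra =
    @Algebra.trdeg (V.residueField (g₂ u')) (U'.residueField u') _ _
      (g₂.residueFieldMap u').hom.toAlgebra := by
  subst hg; rfl

theorem main {U U' V V' : Scheme.{u}} (h : U ⟶ V) (h' : U' ⟶ V') (a : U' ⟶ U)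
    (b : V' ⟶ V) [Etale a] [Etale b] (comm : h' ≫ b = a ≫ h) (u' : U') :
    @Algebra.trdeg (V.residueField (h (a u'))) (U.residueField (a u')) _ _ (h.residueFieldMap (a u')).hom.toAlgebra =
      @Algebra.trdeg (V'.residueField (h' u')) (U'.residueField u') _ _ (h'.residueFieldMap u').hom.toAlgebra := by
  have e1 := T1 _ _ _ (h.residueFieldMap (a u')).hom (a.residueFieldMap u').hom (alg_of_etale a u')
  have e2 := T2 _ _ _ (b.residueFieldMap (h' u')).hom (h'.residueFieldMap u').hom
    (alg_of_etale b (h' u'))
  have e3 := congr_aux (h' ≫ b) (a ≫ h) comm u'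
  have c1 : ((a ≫ h).residueFieldMap u').hom =
      (a.residueFieldMap u').hom.comp (h.residueFieldMap (a u')).hom := by
    rw [Scheme.residueFieldMap_comp]; rfl
  have c2 : ((h' ≫ b).residueFieldMap u').hom =
      (h'.residueFieldMap u').hom.comp (b.residueFieldMap (h' u')).hom := by
    rw [Scheme.residueFieldMap_comp]; rfl
  rw [e1, ← e2]
  rw [c1, c2] at e3
  exact e3.symm

end W26
end H


/-- The transcendence degree of the residue field extension `κ(x)/κ(s)` of a morphism of germs `(X, x) →
(S, s)` is étale local on the source-and-target: for a commutative square with horizontal maps `h' :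
U' → V'`, `h : U → V`, étale vertical maps `a : U' → U`, `b : V' → V` and `u' ∈ U'` with `u =
a(u')`, the transcendence degree of `κ(u)` over `κ(h(u))` equals that of `κ(u')` over `κ(h'(u'))`. -/
theorem result {U U' V V' : Scheme.{u}} (h : U ⟶ V) (h' : U' ⟶ V') (a : U' ⟶ U)
    (b : V' ⟶ V) [Etale a] [Etale b] (comm : h' ≫ b = a ≫ h) (u' : U') :
    @Algebra.trdeg (V.residueField (h (a u'))) (U.residueField (a u')) _ _ (h.residueFieldMap (a u')).hom.toAlgebra =
      @Algebra.trdeg (V'.residueField (h' u')) (U'.residueField u') _ _ (h'.residueFieldMap u').hom.toAlgebra := by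
  exact W26.main h h' a b comm u'

end Groth.Agent.S7407
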