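import Groth.Statements.S7428
import Groth.Agent.Lib.Helper9.RelClosure
import Mathlib.RingTheory.Spectrum.Prime.Topology

set_option autoImplicit false
universe u
open CategoryTheory AlgebraicGeometry
open Mor

namespace Groth.Agent.S7428

/-- Let `A → B` be a ring map with `Spec B → Spec A` dominant. Then some `A`-subalgebra `B' ⊆ B` has
`Spec B' → Spec A` a universal homeomorphism with trivial residue field extensions and contains the
image of `C → B` for every `A`-algebra `C` with an `A`-algebra map `C → B` such that `Spec C → Spec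
A` is a universal homeomorphism with trivial residue field extensions. (Trivial residue field
extensions: every residue field map of the morphism of spectra is surjective. The test algebras `C`
range over the universe of `A` and `B`.) -/
theorem result {A B : Type u} [CommRing A] [CommRing B] [Algebra A B]
    [IsDominant (Spec.map (CommRingCat.ofHom (algebraMap A B)))] :
    ∃ B' : Subalgebra A B, (FlatMor.IsUnivHomeo (Spec.map (CommRingCat.ofHom (algebraMap A B'))) ∧
      ∀ x : Spec (CommRingCat.of B'),
        Function.Surjective ((Spec.map (CommRingCat.ofHom (algebraMap A B'))).residueFieldMap x)) ∧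
      ∀ (C : Type u) [CommRing C] [Algebra A C] (g : C →ₐ[A] B),
        FlatMor.IsUnivHomeo (Spec.map (CommRingCat.ofHom (algebraMap A C))) →
        (∀ x : Spec (CommRingCat.of C),
          Function.Surjective ((Spec.map (CommRingCat.ofHom (algebraMap A C))).residueFieldMap x)) →
        g.range ≤ B' := by
  have hd : DenseRange (PrimeSpectrum.comap (algebraMap A B)) :=
    (Spec.map (CommRingCat.ofHom (algebraMap A B))).denseRange
  have hker : RingHom.ker (algebraMap A B) ≤ nilradical A :=
    (PrimeSpectrum.denseRange_comap_iff_ker_le_nilRadical (algebraMap A B)).mp hd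
  have hE := Groth.Agent.Lib.Helper9.UnivHomeoRing.isUnivHomeo_relWeakClosure A B hker
  have hEint := ((Groth.Agent.Lib.Helper9.UnivHomeoRing.isUnivHomeo_SpecMap_iff' _).mp hE).1
  have h1 := Groth.Agent.Lib.Helper9.UnivHomeoRing.isUnivHomeo_snPart A
    (Groth.Agent.Lib.Helper9.UnivHomeoRing.relWeakClosure A B) hE
  have h2 := Groth.Agent.Lib.Helper9.UnivHomeoRing.resSurj_snPart A
    (Groth.Agent.Lib.Helper9.UnivHomeoRing.relWeakClosure A B) hEint
  let e := Subalgebra.equivMapOfInjective (Groth.Agent.Lib.Helper9.UnivHomeoRing.snPart A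
    (Groth.Agent.Lib.Helper9.UnivHomeoRing.relWeakClosure A B))
    (Groth.Agent.Lib.Helper9.UnivHomeoRing.relWeakClosure A B).val Subtype.val_injective
  have h3 : e.toRingEquiv.toRingHom.comp (algebraMap A (Groth.Agent.Lib.Helper9.UnivHomeoRing.snPart A
      (Groth.Agent.Lib.Helper9.UnivHomeoRing.relWeakClosure A B))) =
      algebraMap A ((Groth.Agent.Lib.Helper9.UnivHomeoRing.snPart A
        (Groth.Agent.Lib.Helper9.UnivHomeoRing.relWeakClosure A B)).map
        (Groth.Agent.Lib.Helper9.UnivHomeoRing.relWeakClosure A B).val) := by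
    refine RingHom.ext fun a => ?_
    exact e.commutes a
  have h1' := Groth.Agent.Lib.Helper9.UnivHomeoRing.isUnivHomeo_comp_ringEquiv _ e.toRingEquiv h1
  have h2' := Groth.Agent.Lib.Helper9.UnivHomeoRing.resSurj_comp_ringEquiv _ e.toRingEquiv h2
  rw [h3] at h1' h2'
  refine ⟨(Groth.Agent.Lib.Helper9.UnivHomeoRing.snPart A
    (Groth.Agent.Lib.Helper9.UnivHomeoRing.relWeakClosure A B)).map
    (Groth.Agent.Lib.Helper9.UnivHomeoRing.relWeakClosure A B).val, ⟨h1', ?_⟩, ?_⟩
  · exact (Groth.Agent.Lib.Helper9.UnivHomeoRing.resSurj_iff_SpecMap _).mp h2'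
  · intro C _ _ g hC hres
    obtain ⟨hi1, -, hi3⟩ := (Groth.Agent.Lib.Helper9.UnivHomeoRing.isUnivHomeo_SpecMap_iff' _).mp hC
    have hle := Groth.Agent.Lib.Helper9.UnivHomeoRing.range_le_relWeakClosure A B C g hi1 hi3
    let g₁ : C →ₐ[A] Groth.Agent.Lib.Helper9.UnivHomeoRing.relWeakClosure A B :=
      g.codRestrict _ (fun x => hle ⟨x, rfl⟩)
    have hle' := Groth.Agent.Lib.Helper9.UnivHomeoRing.range_le_snPart A
      (Groth.Agent.Lib.Helper9.UnivHomeoRing.relWeakClosure A B) C g₁
      ((Groth.Agent.Lib.Helper9.UnivHomeoRing.resSurj_iff_SpecMap _).mpr hres)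
    rintro _ ⟨x, rfl⟩
    exact ⟨g₁ x, hle' ⟨x, rfl⟩, rfl⟩

end Groth.Agent.S7428
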