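import Groth.Statements.S7432
import Groth.Agent.Lib.Helper21.FibVan10
import Groth.Agent.Lib.Helper4.RpushCoh
import Mathlib

set_option backward.isDefEq.respectTransparency.types false
set_option linter.style.haveILetI false

set_option autoImplicit false
universe u
open Lim

namespace Groth.Agent.S7432

open AlgebraicGeometry CategoryTheory in
/-- Assume `f : X → Y` is a proper morphism whose fibres all have dimension no greater than `d`, and
consider an `O_X`-module `F` that is quasi-coherent and of finite type. Then `R^d f_* F` is again an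
`O_Y`-module that is quasi-coherent and of finite type. (Being 'quasi-coherent of finite type' is
expressed via the prelude's predicate `Coh.IsCoh`, which on an arbitrary scheme means precisely
this; `R^d f_*` denotes the right derived functor of `f_*` on `O`-modules, defined under the
instance binder asserting that `O_X`-modules admit injective resolutions.) -/
theorem result {X Y : Scheme.{u}} (f : X ⟶ Y) [IsProper f] (d : ℕ)
    (hd : ∀ y : Y, topologicalKrullDim ↥(f.fiber y) ≤ d) [HasInjectiveResolutions X.Modules] (M : X.Modules)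
    (hM : Coh.IsCoh M) : Coh.IsCoh ((Coh.Rpush f d).obj M) := by
  haveI : M.IsQuasicoherent := hM.1
  haveI hqc : ((Coh.Rpush f d).obj M).IsQuasicoherent :=
    Groth.Agent.Lib.Helper2.RpushQC6.isQuasicoherent_Rpush f M d
  refine ⟨hqc, ?_⟩
  choose V hyV hV hgood using fun y =>
    Groth.Agent.Lib.Helper21.FibVan.exists_egood_nhd f y d (hd y)
  have key : ∀ y : Y, ∃ G : (((Coh.Rpush f d).obj M).restrict (V y).ι).GeneratingSections,
      G.IsFiniteType := by
    intro y
    haveI : IsAffine ((V y : Y.Opens) : Scheme.{u}) := hV y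
    obtain ⟨e⟩ := Groth.Agent.Lib.Helper2.RpushQC6.nonempty_restrict_Rpush_iso f (V y) M d
    have hM' : Coh.IsCoh (M.restrict (f ⁻¹ᵁ V y).ι) :=
      Groth.Agent.Lib.Helper6.K0LocC.isCoh_restrict _ M hM
    haveI : (M.restrict (f ⁻¹ᵁ V y).ι).IsQuasicoherent := hM'.1
    haveI : ((Coh.Rpush (f ∣_ V y) d).obj (M.restrict (f ⁻¹ᵁ V y).ι)).IsQuasicoherent :=
      Groth.Agent.Lib.Helper2.RpushQC6.isQuasicoherent_Rpush _ _ d
    letI : (↑(f ⁻¹ᵁ V y) : Scheme.{u}).Over
        (Spec (CommRingCat.of Γ(((V y : Y.Opens) : Scheme.{u}), ⊤))) :=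
      ⟨(f ∣_ V y) ≫ (((V y : Y.Opens) : Scheme.{u})).isoSpec.hom⟩
    have hfinHH := Groth.Agent.Lib.Helper21.FibVan.finite_HH_of_egood (f ∣_ V y) d (hgood y) rfl
      (M.restrict (f ⁻¹ᵁ V y).ι) hM'
    have hfin := Groth.Agent.Lib.Helper4.LinLeray.finite_sections (f ∣_ V y) rfl
      (M.restrict (f ⁻¹ᵁ V y).ι) d hfinHH
    obtain ⟨G, hG⟩ := Groth.Agent.Lib.Helper17.FinTypeConv.exists_generatingSections_of_finite
      (X := ((V y : Y.Opens) : Scheme.{u})) _ hfin
    exact ⟨G.ofEpi e.inv, inferInstance⟩
  choose G hG using key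
  refine Groth.Agent.Lib.Helper17.FinTypeConv.isFiniteType_of_generatingSections_cover _
    (fun y : Y => V y) ?_ G hG
  exact eq_top_iff.mpr fun y _ => TopologicalSpace.Opens.mem_iSup.mpr ⟨y, hyV y⟩

end Groth.Agent.S7432
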