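import Groth.Statements.S7435
-- import your own Groth.Agent.* helpers here

set_option autoImplicit false
universe u
open CategoryTheory AlgebraicGeometry
open BddFib

namespace Groth.Agent.S7435

/-- If `f` is finite locally free of degree `d`, then `d` bounds the degrees of the fibres of `f`. -/
theorem result {X Y : Scheme.{u}} (f : X ⟶ Y) (d : ℕ) (hf : Mor2.IsFinLocFreeOfDeg d f) :
    BddFib.FibreDegLE f d := by
  obtain ⟨⟨hfin, hflat, hfp⟩, hdeg⟩ := hf
  intro y
  have hpfin : IsFinite (f.fiberToSpecResidueField y) :=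
    inferInstanceAs (IsFinite (Limits.pullback.snd f (Y.fromSpecResidueField y)))
  have hpflat : Flat (f.fiberToSpecResidueField y) :=
    inferInstanceAs (Flat (Limits.pullback.snd f (Y.fromSpecResidueField y)))
  have haff : IsAffine (f.fiber y) := isAffine_of_isAffineHom (f.fiberToSpecResidueField y)
  -- the ring map `κ(y) ⟶ Γ(X_y)`
  let ψ : Y.residueField y ⟶ Γ(f.fiber y, ⊤) :=
    (Scheme.ΓSpecIso (Y.residueField y)).inv ≫ (f.fiberToSpecResidueField y).appTop
  have hψfin : ψ.hom.Finite := by
    have h1 : (f.fiberToSpecResidueField y).appTop.hom.Finite :=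
      (f.fiberToSpecResidueField y).finite_appTop
    have h2 : (Scheme.ΓSpecIso (Y.residueField y)).inv.hom.Finite :=
      RingHom.Finite.of_surjective _ (ConcreteCategory.bijective_of_isIso _).surjective
    exact h1.comp h2
  have hψflat : ψ.hom.Flat := by
    let _ : Algebra (Y.residueField y) Γ(f.fiber y, ⊤) := ψ.hom.toAlgebra
    show Module.Flat (Y.residueField y) Γ(f.fiber y, ⊤)
    infer_instance
  have hp : f.fiberToSpecResidueField y = (f.fiber y).isoSpec.hom ≫ Spec.map ψ := by
    have h1 := Scheme.isoSpec_hom_naturality (f.fiberToSpecResidueField y)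
    rw [Scheme.isoSpec_Spec_hom] at h1
    have h2 : Spec.map ψ = Spec.map (f.fiberToSpecResidueField y).appTop ≫
        Spec.map (Scheme.ΓSpecIso (Y.residueField y)).inv := by
      rw [← Spec.map_comp]
    rw [h2, reassoc_of% h1, ← Spec.map_comp, Iso.inv_hom_id, Spec.map_id, Category.comp_id]
  have hSfin : IsFinite (Spec.map ψ) := (IsFinite.SpecMap_iff ψ).mpr hψfin
  have hSflat : Flat (Spec.map ψ) := Flat.SpecMap_iff.mpr hψflat
  refine ⟨haff, hψfin, ?_⟩
  let _ : Algebra (Y.residueField y) Γ(f.fiber y, ⊤) := ψ.hom.toAlgebra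
  show Module.finrank (Y.residueField y) Γ(f.fiber y, ⊤) ≤ d
  -- compute the rank at the unique point of `Spec κ(y)`
  let x₀ : Spec (Y.residueField y) := IsLocalRing.closedPoint (Y.residueField y)
  have e1 : (f.fiberToSpecResidueField y).finrank x₀ = d := by
    have := Scheme.Hom.finrank_pullback_snd f (Y.fromSpecResidueField y) x₀
    rw [Scheme.fromSpecResidueField_apply, hdeg] at this
    exact this
  have e2 : (f.fiberToSpecResidueField y).finrank x₀ = ψ.hom.finrank x₀ := by
    rw [hp, Scheme.Hom.finrank_comp_left_of_isIso, Scheme.Hom.finrank_SpecMap_eq_finrank hψfin hψflat]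
  have e3 : ψ.hom.finrank x₀ = Module.finrank (Y.residueField y) Γ(f.fiber y, ⊤) := by
    show Module.rankAtStalk Γ(f.fiber y, ⊤) x₀ = _
    rw [Module.rankAtStalk_eq_finrank_of_free]
    rfl
  rw [← e3, ← e2, e1]

end Groth.Agent.S7435
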