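import Groth.Statements.S7443
import Groth.Agent.Lib.Helper9.FPColim2
import Groth.Agent.Lib.Helper9.FPColim4

set_option autoImplicit false
universe u
open CategoryTheory AlgebraicGeometry
open Mor

namespace Groth.Agent.S7443

/-- Let `φ : A → B` be a ring map with `Spec B → Spec A` a universal homeomorphism. Then `B`, as an
`A`-algebra, is the colimit of a filtered diagram of finitely presented `A`-algebras `B_i`, and
every `Spec B_i → Spec A` is again a universal homeomorphism. (The colimit is taken in the category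
of rings under `A`, over a small filtered index category.) -/
theorem result {A B : Type u} [CommRing A] [CommRing B] (φ : A →+* B)
    (hφ : FlatMor.IsUnivHomeo (Spec.map (CommRingCat.ofHom φ))) :
    ∃ (J : Type u) (_ : SmallCategory J) (_ : IsFiltered J) (F : J ⥤ Under (CommRingCat.of A))
      (c : Limits.Cocone F) (_ : Limits.IsColimit c),
      (∀ j, (F.obj j).hom.hom.FinitePresentation ∧ FlatMor.IsUnivHomeo (Spec.map (F.obj j).hom)) ∧
      Nonempty (c.pt ≅ Under.mk (CommRingCat.ofHom φ)) := by

  letI : Algebra A B := φ.toAlgebra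
  have hU : FlatMor.IsUnivHomeo (Spec.map (CommRingCat.ofHom (algebraMap A B))) := hφ
  obtain ⟨J, i1, i2, F, c, hc, hF, hpt⟩ := Groth.Agent.Lib.Helper9.FPColim.exists_presentation
    (A := A) (B := B)
    (fun j => FlatMor.IsUnivHomeo (Spec.map (CommRingCat.ofHom (R := A)
      (S := Groth.Agent.Lib.Helper9.FPColim.Q j)
      (algebraMap A (Groth.Agent.Lib.Helper9.FPColim.Q j)))))
    (Groth.Agent.Lib.Helper9.FPColim.cofinal_WN hU)
  refine ⟨J, i1, i2, F, c, hc, ?_, ?_⟩
  · intro j
    obtain ⟨i, hP, h⟩ := hF j
    rw [h]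
    refine ⟨?_, hP⟩
    exact (RingHom.finitePresentation_algebraMap (A := A)
      (B := Groth.Agent.Lib.Helper9.FPColim.Q i)).mpr
      (Groth.Agent.Lib.Helper9.FPColim.finitePresentation_Q i)
  · rw [hpt]
    exact ⟨Iso.refl _⟩

end Groth.Agent.S7443
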