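import Groth.Statements.S7447
import Groth.Agent.Lib.lead.NaInd

set_option autoImplicit false
universe u
open CategoryTheory AlgebraicGeometry
open Opposite
open Lim

namespace Groth.Agent.S7447

open Groth.Agent.Lib.lead.NaMain

/-- Noetherian approximation relative to a quasi-compact open: let `S` be quasi-compact and
quasi-separated, `V ⊆ S` a quasi-compact open, and `V = lim V_i` the limit of an inverse system,
over a nonempty directed set `I`, of schemes of finite type over `ℤ` with affine transition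
morphisms. Then there are a nonempty directed set `J`, an inverse system `(S_j)` of schemes of
finite type over `ℤ` with affine transition morphisms and `S = lim S_j`, an order preserving map `α
: J → I`, opens `V'_j ⊆ S_j` and isomorphisms `V'_j ≅ V_{α(j)}` such that: the transition maps
satisfy `g_{jj'}⁻¹(V'_{j'}) = V'_j`; `V` is the inverse image of each `V'_j` under `S → S_j` (which
identifies `V` with `lim V'_j`); the composite `V → V'_j → V_{α(j)}` is the projection; and the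
squares `V'_j → V_{α(j)} → V_{α(j')}`, `V'_j → V'_{j'} → V_{α(j')}` commute. -/
theorem result (S : Scheme.{u}) [CompactSpace S] [QuasiSeparatedSpace S]
    (V : S.Opens) (hV : IsCompact (V : Set S)) (I : Type u) [Preorder I] [IsDirected I (fun a b => a ≤ b)] [Nonempty I]
    (DV : Iᵒᵖ ⥤ Scheme.{u}) (haff : ∀ (i i' : Iᵒᵖ) (a : i ⟶ i'), IsAffineHom (DV.map a))
    (hft : ∀ i, CompactSpace (DV.obj i) ∧ LocallyOfFiniteType (Limits.IsTerminal.from specULiftZIsTerminal (DV.obj i)))
    (cV : Limits.Cone DV) (hcV : Limits.IsLimit cV) (eV : cV.pt ≅ (V : Scheme.{u})) :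
    ∃ (J : Type u) (_ : Preorder J) (_ : IsDirected J (fun a b => a ≤ b)) (_ : Nonempty J)
      (DS : Jᵒᵖ ⥤ Scheme.{u}) (cS : Limits.Cone DS) (_ : Limits.IsLimit cS) (eS : cS.pt ≅ S)
      (α : J →o I) (V' : ∀ j : J, (DS.obj (op j)).Opens)
      (φ : ∀ j : J, (V' j : Scheme.{u}) ≅ DV.obj (op (α j))),
      (∀ (j j' : Jᵒᵖ) (a : j ⟶ j'), IsAffineHom (DS.map a)) ∧
      (∀ j, CompactSpace (DS.obj j) ∧ LocallyOfFiniteType (Limits.IsTerminal.from specULiftZIsTerminal (DS.obj j))) ∧
      (∀ (j j' : J) (h : j' ≤ j), (DS.map (homOfLE h).op) ⁻¹ᵁ (V' j') = V' j) ∧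
      (∀ j : J, (eS.inv ≫ cS.π.app (op j)) ⁻¹ᵁ (V' j) = V) ∧
      (∀ j : J, ∃ ρ : (V : Scheme.{u}) ⟶ (V' j : Scheme.{u}),
        ρ ≫ (V' j).ι = V.ι ≫ eS.inv ≫ cS.π.app (op j) ∧ ρ ≫ (φ j).hom = eV.inv ≫ cV.π.app (op (α j))) ∧
      (∀ (j j' : J) (h : j' ≤ j), ∃ τ : (V' j : Scheme.{u}) ⟶ (V' j' : Scheme.{u}),
        τ ≫ (V' j').ι = (V' j).ι ≫ DS.map (homOfLE h).op ∧
        (φ j).hom ≫ DV.map (homOfLE (α.mono h)).op = τ ≫ (φ j').hom) := by
  obtain ⟨R⟩ := exists_relApprox DV (fun {i j} f => haff i j f) hft cV hcV (eV.hom ≫ V.ι)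
  haveI : ∀ j, IsOpenImmersion (R.ψ.app j) := R.oi
  let α : R.J →o I :=
    { toFun := fun j => (R.α.obj (op j)).unop
      monotone' := fun j j' h => leOfHom (R.α.map (homOfLE h).op).unop }
  let V' : ∀ j : R.J, (R.DS.obj (op j)).Opens := fun j => (R.ψ.app (op j)).opensRange
  let φ : ∀ j : R.J, (V' j : Scheme.{u}) ≅ DV.obj (op (α j)) := fun j =>
    (R.ψ.app (op j)).isoOpensRange.symm
  have hrange : Set.range (eV.hom ≫ V.ι) = (V : Set S) := by
    rw [← Scheme.Hom.coe_opensRange, Scheme.Hom.opensRange_comp_of_isIso, Scheme.Opens.opensRange_ι]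
  have hthin : ∀ {j j' : R.J} (h : j' ≤ j),
      DV.map (homOfLE (α.mono h)).op = DV.map (R.α.map (homOfLE h).op) := by
    intro j j' h
    congr 1
  refine ⟨R.J, R.pre, R.dir, R.ne, R.DS, R.cS, R.hcS, R.eS, α, V', φ,
    fun j j' a => R.aff a, R.ft, ?_, ?_, ?_, ?_⟩
  · intro j j' h
    ext s
    exact R.pre_iff (homOfLE h).op s
  · intro j
    ext s
    have h := R.cpre_iff (op j) s
    rw [hrange] at h
    exact h
  · intro j
    refine ⟨eV.inv ≫ cV.π.app (op (α j)) ≫ (R.ψ.app (op j)).isoOpensRange.hom, ?_, ?_⟩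
    · rw [Category.assoc, Category.assoc, Scheme.Hom.isoOpensRange_hom_ι]
      have h := R.comm (op j)
      change cV.π.app (op (α j)) ≫ R.ψ.app (op j) = _ at h
      rw [h, Category.assoc, Iso.inv_hom_id_assoc]
    · change (eV.inv ≫ cV.π.app (op (α j)) ≫ (R.ψ.app (op j)).isoOpensRange.hom) ≫
        (R.ψ.app (op j)).isoOpensRange.inv = _
      rw [Category.assoc, Category.assoc, Iso.hom_inv_id, Category.comp_id]
  · intro j j' h
    refine ⟨(φ j).hom ≫ DV.map (homOfLE (α.mono h)).op ≫ (φ j').inv, ?_, ?_⟩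
    · change ((R.ψ.app (op j)).isoOpensRange.inv ≫ DV.map (homOfLE (α.mono h)).op ≫
        (R.ψ.app (op j')).isoOpensRange.hom) ≫ (R.ψ.app (op j')).opensRange.ι =
        (R.ψ.app (op j)).opensRange.ι ≫ R.DS.map (homOfLE h).op
      rw [Category.assoc, Category.assoc, Scheme.Hom.isoOpensRange_hom_ι, hthin h]
      have hn := R.ψ.naturality (homOfLE h).op
      change DV.map (R.α.map (homOfLE h).op) ≫ R.ψ.app (op j') =
        R.ψ.app (op j) ≫ R.DS.map (homOfLE h).op at hn
      rw [hn, ← Category.assoc, Scheme.Hom.isoOpensRange_inv_comp]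
    · rw [Category.assoc, Category.assoc, Iso.inv_hom_id, Category.comp_id]

end Groth.Agent.S7447
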