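import Groth.Statements.S7448
import Groth.Agent.S11319
import Groth.Agent.S0032
import Groth.Agent.S0012
import Groth.Agent.Lib.Helper2.RpushQC6
import Groth.Agent.Lib.Helper6.CohTopSheafify
import Groth.Agent.Lib.Helper6.CohTopRestr
import Groth.Agent.Lib.Helper17.RelAffine
import Groth.Agent.Lib.Helper28.QCohPush

set_option autoImplicit false
universe u
open Lim

namespace Groth.Agent.S7448

open AlgebraicGeometry CategoryTheory Limits Opposite TopologicalSpace in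
/-- local vanishing: over an affine `V'` of `Y'` lying over an affine `V` of `Y`. -/
lemma subsingleton_HU {X Y X' Y' : Scheme.{u}} (f : X ⟶ Y) [CompactSpace X]
    [QuasiSeparatedSpace X] [QuasiSeparatedSpace Y] (d : ℕ)
    (hvan : ∀ (M : X.Modules) (i : ℕ), Coh.IsQCoh M → d < i →
      Limits.IsZero ((Coh.RpushAb f i).obj (Coh.toAb M)))
    (g : Y' ⟶ Y) (f' : X' ⟶ Y') (g' : X' ⟶ X) (sq : IsPullback g' f' f g)
    (M' : X'.Modules) [Coh.IsQCoh M'] (i : ℕ) (hi : d < i)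
    (V : Y.Opens) (hV : IsAffineOpen V) (V' : Y'.Opens) (hV' : IsAffineOpen V')
    (hle : V' ≤ g ⁻¹ᵁ V) :
    Subsingleton (CohTop.HU (Coh.toAb M') i (f' ⁻¹ᵁ V')) := by
  let W : X.Opens := f ⁻¹ᵁ V
  let W' : X'.Opens := f' ⁻¹ᵁ V'
  have hW' : W' ≤ g' ⁻¹ᵁ W := by
    change f' ⁻¹ᵁ V' ≤ g' ⁻¹ᵁ (f ⁻¹ᵁ V)
    rw [← Scheme.Hom.comp_preimage, sq.w, Scheme.Hom.comp_preimage]
    exact f'.preimage_mono hle
  let p' : (W' : Scheme.{u}) ⟶ (W : Scheme.{u}) := g'.resLE W W' hW'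
  have hpb : IsPullback p' (f'.resLE V' W' le_rfl) (f.resLE V W le_rfl) (g.resLE V V' hle) :=
    Scheme.Hom.isPullback_resLE sq hle le_rfl (inf_eq_right.2 hW').symm
  haveI : IsAffine (V : Scheme.{u}) := hV
  haveI : IsAffine (V' : Scheme.{u}) := hV'
  haveI : IsAffineHom p' :=
    MorphismProperty.of_isPullback (P := @IsAffineHom) hpb.flip inferInstance
  let N' : (W' : Scheme.{u}).Modules := M'.restrict W'.ι
  haveI : Coh.IsQCoh N' :=
    inferInstanceAs ((Scheme.Modules.restrictFunctor W'.ι).obj M').IsQuasicoherent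
  let G : (W : Scheme.{u}).Modules := (Coh.push p').obj N'
  haveI hG : Coh.IsQCoh G := Groth.Agent.Lib.Helper28.QCohLoc.isQuasicoherent_pushforward p' N'
  haveI : QuasiCompact W.ι := by
    have hsq := isPullback_morphismRestrict f V
    haveI : QuasiCompact V.ι := inferInstance
    exact MorphismProperty.of_isPullback (P := @QuasiCompact) hsq inferInstance
  let F : X.Modules := (Coh.push W.ι).obj G
  haveI hF : Coh.IsQCoh F := Groth.Agent.Lib.Helper28.QCohLoc.isQuasicoherent_pushforward W.ι G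
  -- vanishing
  have h1 : IsZero ((Coh.Rpush f i).obj F) := by
    obtain ⟨e⟩ := Groth.Agent.S11319.result f F i
    exact Groth.Agent.Lib.Helper2.RpushQC4.isZero_of_isZero_toAb _ ((hvan F i hF hi).of_iso e)
  obtain ⟨e2⟩ := Groth.Agent.Lib.Helper2.RpushQC6.nonempty_restrict_Rpush_iso f V F i
  have h2 : IsZero ((Coh.Rpush (f ∣_ V) i).obj (F.restrict W.ι)) :=
    IsZero.of_iso ((Scheme.Modules.restrictFunctor V.ι).map_isZero h1) e2.symm
  let e3 : F.restrict W.ι ≅ G := (Scheme.Modules.restrictFunctorAdjCounitIso W.ι).app G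
  have h3 : IsZero ((Coh.Rpush (f ∣_ V) i).obj G) :=
    h2.of_iso ((Coh.Rpush (f ∣_ V) i).mapIso e3).symm
  obtain ⟨e4⟩ := Groth.Agent.S11319.result (f ∣_ V) G i
  have h4 : IsZero ((Coh.RpushAb (f ∣_ V) i).obj (Coh.toAb G)) :=
    IsZero.of_iso ((SheafOfModules.toSheaf _).map_isZero h3) e4.symm
  obtain ⟨e5⟩ := Groth.Agent.S0032.result (f ∣_ V) G i
  have h5 : Subsingleton (Coh.HH (W : Scheme.{u}) G i) := by
    have hz : IsZero (((Coh.RpushAb (f ∣_ V) i).obj (Coh.toAb G)).obj.obj (op ⊤)) :=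
      (sheafToPresheaf _ _ ⋙ (evaluation _ _).obj (op ⊤)).map_isZero h4
    haveI : Subsingleton ↑(((Coh.RpushAb (f ∣_ V) i).obj (Coh.toAb G)).obj.obj (op ⊤)) :=
      AddCommGrpCat.subsingleton_of_isZero hz
    exact e5.toEquiv.subsingleton
  obtain ⟨e6⟩ := Groth.Agent.S0012.result p' N' i
  have h6 : Subsingleton (Coh.HH (W' : Scheme.{u}) N' i) := e6.toEquiv.subsingleton
  obtain ⟨e7⟩ := Groth.Agent.Lib.Helper6.CohTopRestr.nonempty_HU_addEquiv W' (Coh.toAb M') i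
  exact @Equiv.subsingleton _ _ e7.toEquiv h6

open AlgebraicGeometry CategoryTheory in
/-- Let `f : X → Y` be a morphism with `X`, `Y` quasi-compact and quasi-separated, and `d ≥ 0` such that
`R^i f_* F = 0` for all `i > d` and all quasi-coherent `F`. Then for every cartesian square with
base change `f' : X' → Y'` of `f`, `R^i f'_* F' = 0` for all `i > d` and all quasi-coherent
`O_{X'}`-modules `F'`. -/
theorem result {X Y X' Y' : Scheme.{u}} (f : X ⟶ Y) [CompactSpace X]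
    [QuasiSeparatedSpace X] [CompactSpace Y] [QuasiSeparatedSpace Y] (d : ℕ)
    (hvan : ∀ (M : X.Modules) (i : ℕ), Coh.IsQCoh M → d < i → Limits.IsZero ((Coh.RpushAb f i).obj (Coh.toAb M)))
    (g : Y' ⟶ Y) (f' : X' ⟶ Y') (g' : X' ⟶ X) (sq : IsPullback g' f' f g) (M' : X'.Modules) [Coh.IsQCoh M']
    (i : ℕ) (hi : d < i) : Limits.IsZero ((Coh.RpushAb f' i).obj (Coh.toAb M')) := by
  obtain ⟨e⟩ := Groth.Agent.Lib.Helper6.CohTopSheafify.nonempty_Rpush_iso_sheafify f'.base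
    (Coh.toAb M') i
  refine Limits.IsZero.of_iso ?_ e
  refine Groth.Agent.Lib.Helper17.RelAffine.isZero_sheafify_of_basis _
    {V' : Y'.Opens | IsAffineOpen V' ∧ ∃ V : Y.Opens, IsAffineOpen V ∧ V' ≤ g ⁻¹ᵁ V} ?_ ?_
  · intro T y hy
    obtain ⟨_, ⟨V, hV, rfl⟩, hyV, -⟩ :=
      Y.isBasis_affineOpens.exists_subset_of_mem_open (Set.mem_univ (g y)) isOpen_univ
    have hy2 : y ∈ (g ⁻¹ᵁ V ⊓ T : Y'.Opens) := ⟨hyV, hy⟩
    obtain ⟨_, ⟨V', hV', rfl⟩, hyV', hV'T⟩ :=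
      Y'.isBasis_affineOpens.exists_subset_of_mem_open hy2 (g ⁻¹ᵁ V ⊓ T : Y'.Opens).2
    exact ⟨V', ⟨hV', V, hV, fun z hz => (hV'T hz).1⟩, hyV', fun z hz => (hV'T hz).2⟩
  · rintro V' ⟨hV', V, hV, hle⟩
    exact subsingleton_HU f d hvan g f' g' sq M' i hi V hV V' hV' hle

end Groth.Agent.S7448
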