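import Groth.Statements.S7456
-- import your own Groth.Agent.* helpers here

set_option autoImplicit false
universe u
open CategoryTheory CategoryTheory.Limits AlgebraicGeometry
open Grpd

namespace Groth.Agent.S7456

theorem c_s {S : Scheme.{u}} (G : Grpd.GroupoidScheme S) :
    G.c ≫ G.s = pullback.snd G.s G.t ≫ G.s := by
  have h := G.comp_s (pullback.fst G.s G.t) (pullback.snd G.s G.t) pullback.condition
  have h1 : pullback.lift (pullback.fst G.s G.t) (pullback.snd G.s G.t) pullback.condition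
      = 𝟙 _ := by
    apply pullback.hom_ext <;> simp
  rw [h1, Category.id_comp] at h
  exact h

theorem c_t {S : Scheme.{u}} (G : Grpd.GroupoidScheme S) :
    G.c ≫ G.t = pullback.fst G.s G.t ≫ G.t := by
  have h := G.comp_t (pullback.fst G.s G.t) (pullback.snd G.s G.t) pullback.condition
  have h1 : pullback.lift (pullback.fst G.s G.t) (pullback.snd G.s G.t) pullback.condition
      = 𝟙 _ := by
    apply pullback.hom_ext <;> simp
  rw [h1, Category.id_comp] at h
  exact h

/-- composition on points -/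
theorem exists_comp {S : Scheme.{u}} (G : Grpd.GroupoidScheme S) (a b : G.R)
    (h : G.s a = G.t b) : ∃ r : G.R, G.s r = G.s b ∧ G.t r = G.t a := by
  obtain ⟨p, hp1, hp2⟩ := Scheme.Pullback.exists_preimage_pullback (f := G.s) (g := G.t) a b h
  refine ⟨G.c p, ?_, ?_⟩
  · have := congrArg (fun f => f p) (congrArg (fun f : _ ⟶ G.U => (⇑f : _ → G.U)) (c_s G))
    simp only [Scheme.Hom.comp_apply] at this
    rw [this, hp2]
  · have := congrArg (fun f => f p) (congrArg (fun f : _ ⟶ G.U => (⇑f : _ → G.U)) (c_t G))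
    simp only [Scheme.Hom.comp_apply] at this
    rw [this, hp1]

theorem i_s_apply {S : Scheme.{u}} (G : Grpd.GroupoidScheme S) (a : G.R) :
    G.s (G.i a) = G.t a := by
  rw [← Scheme.Hom.comp_apply, G.i_s]

theorem i_t_apply {S : Scheme.{u}} (G : Grpd.GroupoidScheme S) (a : G.R) :
    G.t (G.i a) = G.s a := by
  rw [← Scheme.Hom.comp_apply, G.i_t]

theorem e_s_apply {S : Scheme.{u}} (G : Grpd.GroupoidScheme S) (a : G.U) :
    G.s (G.e a) = a := by
  rw [← Scheme.Hom.comp_apply, G.e_s]; rfl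

theorem e_t_apply {S : Scheme.{u}} (G : Grpd.GroupoidScheme S) (a : G.U) :
    G.t (G.e a) = a := by
  rw [← Scheme.Hom.comp_apply, G.e_t]; rfl

theorem part1 {S : Scheme.{u}} (G : Grpd.GroupoidScheme S) (W : Set G.U) :
    ⇑G.s ⁻¹' (⇑G.t '' (⇑G.s ⁻¹' W)) = ⇑G.t ⁻¹' (⇑G.t '' (⇑G.s ⁻¹' W)) := by
  ext r
  simp only [Set.mem_preimage, Set.mem_image]
  constructor
  · rintro ⟨r', hr'W, hr'⟩
    -- s r = t r'
    obtain ⟨r'', h1, h2⟩ := exists_comp G r r' hr'.symm
    exact ⟨r'', by rw [h1]; exact hr'W, h2⟩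
  · rintro ⟨r', hr'W, hr'⟩
    -- t r' = t r ; want r'' with s r'' ∈ W, t r'' = s r : r'' = i r ∘ r'
    obtain ⟨r'', h1, h2⟩ := exists_comp G (G.i r) r' (by rw [i_s_apply, hr'])
    exact ⟨r'', by rw [h1]; exact hr'W, by rw [h2, i_t_apply]⟩

/-- Let (U, R, s, t, c) be a groupoid scheme over S. For every subset W of U, the subset t(s^{-1}(W)) is
set-theoretically R-invariant: its preimages under s and t coincide. If moreover s and t are open
maps and quasi-compact, then U is covered by R-invariant quasi-compact open subsets. (The published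
statement also asserts that this set is open when W is open and s, t are open maps; this row omits
that clause.) (A groupoid scheme carries U, R, s, t, c, e, i over S with the groupoid axioms on
T-points; c is defined on the fibre product of s and t and sends a pair (a, b) with s(a) = t(b) to a
composed with b.) -/
theorem result (S : Scheme.{u}) (G : Grpd.GroupoidScheme S) : (∀ W : Set G.U, ⇑G.s ⁻¹' (⇑G.t '' (⇑G.s ⁻¹' W)) = ⇑G.t ⁻¹' (⇑G.t '' (⇑G.s ⁻¹' W))) ∧ (IsOpenMap ⇑G.s → IsOpenMap ⇑G.t → QuasiCompact G.s → QuasiCompact G.t → ∀ u : G.U, ∃ W : G.U.Opens, IsCompact (W : Set G.U) ∧ u ∈ W ∧ G.s ⁻¹ᵁ W = G.t ⁻¹ᵁ W) := by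
  refine ⟨part1 G, ?_⟩
  intro hs ht qs qt u
  obtain ⟨V, hV, huV, -⟩ := exists_isAffineOpen_mem_and_subset (x := u) (U := ⊤) trivial
  have hopen : IsOpen (⇑G.t '' (⇑G.s ⁻¹' (V : Set G.U))) :=
    ht _ (V.2.preimage G.s.continuous)
  refine ⟨⟨_, hopen⟩, ?_, ?_, ?_⟩
  · exact (qs.isCompact_preimage _ V.2 hV.isCompact).image G.t.continuous
  · exact ⟨G.e u, by simpa [e_s_apply] using huV, e_t_apply G u⟩
  · ext r
    exact Set.ext_iff.mp (part1 G (V : Set G.U)) r

end Groth.Agent.S7456
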