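import Groth.Statements.S7457
import Groth.Agent.S7456

set_option autoImplicit false
universe u
open CategoryTheory CategoryTheory.Limits AlgebraicGeometry
open Grpd

namespace Groth.Agent.S7457

section
variable {S : Scheme.{u}} (G : Grpd.GroupoidScheme S) {T : Scheme.{u}}

/-- composition of T-points -/
noncomputable def cmp (a b : T ⟶ G.R) (h : a ≫ G.s = b ≫ G.t) : T ⟶ G.R :=
  pullback.lift a b h ≫ G.c

theorem cmp_congr {a a' b b' : T ⟶ G.R} (h : a ≫ G.s = b ≫ G.t) (ha : a = a') (hb : b = b') :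
    cmp G a b h = cmp G a' b' (ha ▸ hb ▸ h) := by
  subst ha hb; rfl

theorem pre_cmp {T' : Scheme.{u}} (f : T' ⟶ T) (a b : T ⟶ G.R) (h : a ≫ G.s = b ≫ G.t) :
    f ≫ cmp G a b h = cmp G (f ≫ a) (f ≫ b) (by simp [h]) := by
  unfold cmp
  rw [← Category.assoc]
  congr 1
  apply pullback.hom_ext <;> simp [pullback.lift_fst, pullback.lift_snd]

theorem comp_c_eq (m : T ⟶ pullback G.s G.t) :
    m ≫ G.c = cmp G (m ≫ pullback.fst _ _) (m ≫ pullback.snd _ _)
      (by simp [pullback.condition]) := by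
  unfold cmp
  congr 1
  apply pullback.hom_ext <;> simp [pullback.lift_fst, pullback.lift_snd]

theorem cmp_s (a b : T ⟶ G.R) (h : a ≫ G.s = b ≫ G.t) : cmp G a b h ≫ G.s = b ≫ G.s :=
  G.comp_s a b h

theorem cmp_t (a b : T ⟶ G.R) (h : a ≫ G.s = b ≫ G.t) : cmp G a b h ≫ G.t = a ≫ G.t :=
  G.comp_t a b h

/-- (a ∘ b) ∘ b⁻¹ = a -/
theorem lemA (a b : T ⟶ G.R) (h : a ≫ G.s = b ≫ G.t)
    (h' : cmp G a b h ≫ G.s = (b ≫ G.i) ≫ G.t) :
    cmp G (cmp G a b h) (b ≫ G.i) h' = a := by
  have h2 : b ≫ G.s = (b ≫ G.i) ≫ G.t := by rw [Category.assoc, G.i_t]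
  have e1 := G.assoc a b (b ≫ G.i) h h2
  have e2 : cmp G b (b ≫ G.i) h2 = b ≫ G.t ≫ G.e := G.comp_i b
  have e3 : b ≫ G.t ≫ G.e = a ≫ G.s ≫ G.e := by rw [← Category.assoc, ← h, Category.assoc]
  calc cmp G (cmp G a b h) (b ≫ G.i) h' = cmp G a (cmp G b (b ≫ G.i) h2) _ := e1
    _ = cmp G a (a ≫ G.s ≫ G.e) _ := cmp_congr G _ rfl (e2.trans e3)
    _ = a := G.comp_e a

/-- (x ∘ b⁻¹) ∘ b = x -/
theorem lemB (x b : T ⟶ G.R) (h : x ≫ G.s = (b ≫ G.i) ≫ G.t)
    (h' : cmp G x (b ≫ G.i) h ≫ G.s = b ≫ G.t) :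
    cmp G (cmp G x (b ≫ G.i) h) b h' = x := by
  have h2 : (b ≫ G.i) ≫ G.s = b ≫ G.t := by rw [Category.assoc, G.i_s]
  have e1 := G.assoc x (b ≫ G.i) b h h2
  have e2 : cmp G (b ≫ G.i) b h2 = b ≫ G.s ≫ G.e := G.i_comp b
  have e3 : b ≫ G.s ≫ G.e = x ≫ G.s ≫ G.e := by
    rw [← Category.assoc x, h, Category.assoc b, G.i_t, Category.assoc]
  calc cmp G (cmp G x (b ≫ G.i) h) b h' = cmp G x (cmp G (b ≫ G.i) b h2) _ := e1
    _ = cmp G x (x ≫ G.s ≫ G.e) _ := cmp_congr G _ rfl (e2.trans e3)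
    _ = x := G.comp_e x

/-- a ∘ (a⁻¹ ∘ b) = b -/
theorem lemC (a b : T ⟶ G.R) (h : (a ≫ G.i) ≫ G.s = b ≫ G.t)
    (h' : a ≫ G.s = cmp G (a ≫ G.i) b h ≫ G.t) :
    cmp G a (cmp G (a ≫ G.i) b h) h' = b := by
  have h1 : a ≫ G.s = (a ≫ G.i) ≫ G.t := by rw [Category.assoc, G.i_t]
  have e1 := G.assoc a (a ≫ G.i) b h1 h
  have e2 : cmp G a (a ≫ G.i) h1 = a ≫ G.t ≫ G.e := G.comp_i a
  have e3 : a ≫ G.t ≫ G.e = b ≫ G.t ≫ G.e := by
    rw [← Category.assoc b, ← h, Category.assoc a, G.i_s, Category.assoc]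
  calc cmp G a (cmp G (a ≫ G.i) b h) h' = cmp G (cmp G a (a ≫ G.i) h1) b _ := e1.symm
    _ = cmp G (b ≫ G.t ≫ G.e) b _ := cmp_congr G _ (e2.trans e3) rfl
    _ = b := G.e_comp b

/-- a⁻¹ ∘ (a ∘ b) = b -/
theorem lemD (a b : T ⟶ G.R) (h : a ≫ G.s = b ≫ G.t)
    (h' : (a ≫ G.i) ≫ G.s = cmp G a b h ≫ G.t) :
    cmp G (a ≫ G.i) (cmp G a b h) h' = b := by
  have h1 : (a ≫ G.i) ≫ G.s = a ≫ G.t := by rw [Category.assoc, G.i_s]
  have e1 := G.assoc (a ≫ G.i) a b h1 h
  have e2 : cmp G (a ≫ G.i) a h1 = a ≫ G.s ≫ G.e := G.i_comp a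
  have e3 : a ≫ G.s ≫ G.e = b ≫ G.t ≫ G.e := by
    rw [← Category.assoc a, h, Category.assoc b]
  calc cmp G (a ≫ G.i) (cmp G a b h) h' = cmp G (cmp G (a ≫ G.i) a h1) b _ := e1.symm
    _ = cmp G (b ≫ G.t ≫ G.e) b _ := cmp_congr G _ (e2.trans e3) rfl
    _ = b := G.e_comp b

end

/-- Let (U, R, s, t, c) be a groupoid scheme over S. Let φ : R x_(t,U,t) R -> R x_(s,U,t) R be the
morphism sending a pair (a, b) with the same target to (a, a^{-1} composed with b), that is, the
morphism whose first component is the first projection and whose second component is c applied to (i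
composed after the first projection, second projection). Then φ is an isomorphism and composed with
c it gives the second projection. Moreover the square with sides c, the second projection R
x_(s,U,t) R -> R, s and s is cartesian. (A groupoid scheme carries U, R, s, t, c, e, i over S with
the groupoid axioms on T-points; c is defined on the fibre product of s and t and sends a pair (a,
b) with s(a) = t(b) to a composed with b.) -/
theorem result (S : Scheme.{u}) (G : Grpd.GroupoidScheme S) : (∀ φ : pullback G.t G.t ⟶ pullback G.s G.t, φ ≫ pullback.fst G.s G.t = pullback.fst G.t G.t → φ ≫ pullback.snd G.s G.t = pullback.lift (pullback.fst G.t G.t ≫ G.i) (pullback.snd G.t G.t) ((Category.assoc _ _ _).trans ((congrArg (fun x => pullback.fst G.t G.t ≫ x) G.i_s).trans pullback.condition)) ≫ G.c → IsIso φ ∧ φ ≫ G.c = pullback.snd G.t G.t) ∧ IsPullback G.c (pullback.snd G.s G.t) G.s G.s := by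
  refine ⟨?_, ?_⟩
  · intro φ h1 h2
    have hcond : (pullback.fst G.t G.t ≫ G.i) ≫ G.s = pullback.snd G.t G.t ≫ G.t := by
      rw [Category.assoc, G.i_s]; exact pullback.condition
    have h2' : φ ≫ pullback.snd G.s G.t =
        cmp G (pullback.fst G.t G.t ≫ G.i) (pullback.snd G.t G.t) hcond := h2
    have hc : φ ≫ G.c = pullback.snd G.t G.t := by
      rw [comp_c_eq G φ]
      calc cmp G (φ ≫ pullback.fst G.s G.t) (φ ≫ pullback.snd G.s G.t) _
          = cmp G (pullback.fst G.t G.t)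
              (cmp G (pullback.fst G.t G.t ≫ G.i) (pullback.snd G.t G.t) hcond) _ :=
            cmp_congr G _ h1 h2'
        _ = pullback.snd G.t G.t := lemC G _ _ hcond _
    refine ⟨⟨⟨pullback.lift (pullback.fst G.s G.t) G.c (by rw [Groth.Agent.S7456.c_t]), ?_, ?_⟩⟩, hc⟩
    · apply pullback.hom_ext
      · rw [Category.assoc, pullback.lift_fst, h1, Category.id_comp]
      · rw [Category.assoc, pullback.lift_snd, hc, Category.id_comp]
    · apply pullback.hom_ext
      · rw [Category.assoc, h1, pullback.lift_fst, Category.id_comp]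
      · rw [Category.assoc, h2', pre_cmp, Category.id_comp]
        have hc0 : G.c = cmp G (pullback.fst G.s G.t) (pullback.snd G.s G.t) pullback.condition := by
          have := comp_c_eq G (𝟙 (pullback G.s G.t))
          rw [Category.id_comp] at this
          exact this.trans (cmp_congr G _ (Category.id_comp _) (Category.id_comp _))
        calc _ = cmp G (pullback.fst G.s G.t ≫ G.i)
              (cmp G (pullback.fst G.s G.t) (pullback.snd G.s G.t) pullback.condition) _ :=
              cmp_congr G _ (by rw [← Category.assoc, pullback.lift_fst])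
                (by rw [pullback.lift_snd]; exact hc0)
          _ = pullback.snd G.s G.t := lemD G _ _ _ _
  · have hA : ∀ s : PullbackCone G.s G.s, s.fst ≫ G.s = (s.snd ≫ G.i) ≫ G.t := fun s => by
      rw [Category.assoc, G.i_t]; exact s.condition
    have hB : ∀ s : PullbackCone G.s G.s,
        cmp G s.fst (s.snd ≫ G.i) (hA s) ≫ G.s = s.snd ≫ G.t := fun s => by
      rw [cmp_s, Category.assoc, G.i_s]
    refine IsPullback.of_isLimit (PullbackCone.IsLimit.mk (Groth.Agent.S7456.c_s G)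
      (fun s => pullback.lift (cmp G s.fst (s.snd ≫ G.i) (hA s)) s.snd (hB s)) ?_ ?_ ?_)
    · intro s
      rw [comp_c_eq]
      calc _ = cmp G (cmp G s.fst (s.snd ≫ G.i) (hA s)) s.snd (hB s) :=
            cmp_congr G _ (pullback.lift_fst _ _ _) (pullback.lift_snd _ _ _)
        _ = s.fst := lemB G _ _ _ _
    · intro s
      exact pullback.lift_snd _ _ _
    · intro s m hm1 hm2
      apply pullback.hom_ext
      · rw [pullback.lift_fst]
        have hm : m ≫ pullback.fst G.s G.t ≫ G.s = m ≫ pullback.snd G.s G.t ≫ G.t := by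
          rw [pullback.condition]
        have e1 : s.fst = cmp G (m ≫ pullback.fst G.s G.t) (m ≫ pullback.snd G.s G.t)
            (by simpa using hm) := by
          rw [← hm1, comp_c_eq]
        symm
        calc cmp G s.fst (s.snd ≫ G.i) (hA s)
            = cmp G (cmp G (m ≫ pullback.fst G.s G.t) (m ≫ pullback.snd G.s G.t)
                (by simpa using hm)) ((m ≫ pullback.snd G.s G.t) ≫ G.i) _ :=
              cmp_congr G _ e1 (by rw [hm2])
          _ = m ≫ pullback.fst G.s G.t := lemA G _ _ _ _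
      · rw [pullback.lift_snd]; exact hm2

end Groth.Agent.S7457
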