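import Groth.Statements.S7455
import Mathlib
import Groth.Agent.Lib.Helper24.Unibranch.Main
import Groth.Agent.Lib.Helper4.GrpdDense
import Groth.Agent.S2155
import Groth.Prelude.Def_Grpd

set_option autoImplicit false
universe u
open CategoryTheory CategoryTheory.Limits AlgebraicGeometry
open Grpd

namespace Groth.Agent.S7455

section helpers
set_option linter.style.haveILetI false
open CategoryTheory AlgebraicGeometry Limits


open Grpd Groth.Agent.Lib.Helper4.GrpdCalc Groth.Agent.Lib.Helper24.Unibranch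

theorem smoothLocus_congr {X Y : Scheme.{u}} {q q' : X ⟶ Y} (h : q = q')
    [LocallyOfFinitePresentation q] [LocallyOfFinitePresentation q'] :
    q.smoothLocus = q'.smoothLocus := by
  subst h; rfl

variable {S : Scheme.{u}} (G : GroupoidScheme S) (k : Type u) [Field k]
  (eU : G.U ≅ Spec (CommRingCat.of k)) [LocallyOfFinitePresentation G.t]

/-- the identity point of `R_σ` is a smooth point of `R_σ → Spec K` -/
def PS {K : Type u} [Field K] (σ : Spec (CommRingCat.of K) ⟶ G.U) : Prop :=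
  ∀ x : ↥(Spec (CommRingCat.of K)), eps G σ x ∈ (pullback.snd G.t σ).smoothLocus

section BC

variable {K K' : Type u} [Field K] [Field K']
  (j : Spec (CommRingCat.of K') ⟶ Spec (CommRingCat.of K))
  {σ : Spec (CommRingCat.of K) ⟶ G.U} {σ' : Spec (CommRingCat.of K') ⟶ G.U} (h : j ≫ σ = σ')

theorem smoothLocus_bc : (pullback.snd G.t σ').smoothLocus =
    (bc G j h) ⁻¹ᵁ (pullback.snd G.t σ).smoothLocus :=
  Groth.Agent.S2155.result (pullback.snd G.t σ) j (pullback.snd G.t σ') (bc G j h)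
    (isPullback_bc G j h) (Or.inr inferInstance)

include j h in
theorem PS_bc : PS G σ ↔ PS G σ' := by
  constructor
  · intro hP x'
    rw [smoothLocus_bc G j h, Scheme.Hom.mem_preimage, bc_eps_apply G j h x' (j x')]
    exact hP _
  · intro hP x
    obtain ⟨x'⟩ := (inferInstance : Nonempty ↥(Spec (CommRingCat.of K')))
    have := hP x'
    rw [smoothLocus_bc G j h, Scheme.Hom.mem_preimage] at this
    rwa [bc_eps_apply G j h x' x] at this

end BC

include eU in
theorem PS_ind {K₁ K₂ : Type u} [Field K₁] [Field K₂]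
    (σ₁ : Spec (CommRingCat.of K₁) ⟶ G.U) (σ₂ : Spec (CommRingCat.of K₂) ⟶ G.U) :
    PS G σ₁ ↔ PS G σ₂ := by
  haveI := subsingleton_U G k eU
  obtain ⟨x₁⟩ := (inferInstance : Nonempty ↥(Spec (CommRingCat.of K₁)))
  obtain ⟨x₂⟩ := (inferInstance : Nonempty ↥(Spec (CommRingCat.of K₂)))
  obtain ⟨w, -, -⟩ := Scheme.Pullback.exists_preimage_pullback (f := σ₁) (g := σ₂) x₁ x₂
    (Subsingleton.elim _ _)
  let Ω := AlgebraicClosure ((pullback σ₁ σ₂).residueField w)
  let m : Spec (CommRingCat.of Ω) ⟶ pullback σ₁ σ₂ :=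
    Spec.map (CommRingCat.ofHom (algebraMap ((pullback σ₁ σ₂).residueField w) Ω)) ≫
      (pullback σ₁ σ₂).fromSpecResidueField w
  have h : (m ≫ pullback.fst σ₁ σ₂) ≫ σ₁ = (m ≫ pullback.snd σ₁ σ₂) ≫ σ₂ := by
    simp only [Category.assoc, pullback.condition]
  exact (PS_bc G (m ≫ pullback.fst σ₁ σ₂) rfl).trans
    (PS_bc G (m ≫ pullback.snd σ₁ σ₂) h.symm).symm

/-- translation transports the smooth locus -/
theorem mem_smoothLocus_trans {T : Scheme.{u}} (ρ : T ⟶ G.R) (z : ↥(pullback G.t (ρ ≫ G.s))) :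
    z ∈ (pullback.snd G.t (ρ ≫ G.s)).smoothLocus ↔
      trans G ρ z ∈ (pullback.snd G.t (ρ ≫ G.t)).smoothLocus := by
  have h1 := Scheme.Hom.preimage_smoothLocus_eq (trans G ρ) (pullback.snd G.t (ρ ≫ G.t))
  have h2 : (trans G ρ ≫ pullback.snd G.t (ρ ≫ G.t)).smoothLocus =
      (pullback.snd G.t (ρ ≫ G.s)).smoothLocus := smoothLocus_congr (trans_snd G ρ)
  rw [← h2, ← h1]
  rfl

include eU in
theorem nonempty_smoothLocus_t [PerfectField k] [IsReduced G.R] :
    (G.t.smoothLocus : Set G.R).Nonempty := by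
  haveI : LocallyOfFinitePresentation (G.t ≫ eU.hom) := inferInstance
  have hd := (G.t ≫ eU.hom).dense_smoothLocus_of_perfectField
  have hpb : IsPullback (𝟙 G.R) G.t (G.t ≫ eU.hom) eU.hom :=
    IsPullback.of_horiz_isIso ⟨by simp⟩
  have h1 := Groth.Agent.S2155.result (G.t ≫ eU.hom) eU.hom G.t (𝟙 G.R) hpb (Or.inr inferInstance)
  obtain ⟨u⟩ : Nonempty G.U := ⟨eU.inv (IsLocalRing.closedPoint k)⟩
  haveI : Nonempty G.R := ⟨G.e u⟩
  obtain ⟨y, hy⟩ := hd.nonempty
  refine ⟨y, ?_⟩
  rw [h1]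
  exact hy

include eU in
theorem exists_PS [PerfectField k] [IsReduced G.R] :
    ∃ (K' : Type u) (_ : Field K') (σ' : Spec (CommRingCat.of K') ⟶ G.U), PS G σ' := by
  haveI := subsingleton_U G k eU
  let K₀ := AlgebraicClosure k
  let σ₀ : Spec (CommRingCat.of K₀) ⟶ G.U :=
    Spec.map (CommRingCat.ofHom (algebraMap k K₀)) ≫ eU.inv
  obtain ⟨pt₀⟩ := (inferInstance : Nonempty ↥(Spec (CommRingCat.of K₀)))
  obtain ⟨y, hy⟩ := nonempty_smoothLocus_t G k eU
  obtain ⟨η', hη'1, -⟩ := Scheme.Pullback.exists_preimage_pullback (f := G.t) (g := σ₀) y pt₀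
    (Subsingleton.elim _ _)
  haveI : Flat σ₀ := flat_toU G k eU σ₀
  have hη' : η' ∈ (pullback.snd G.t σ₀).smoothLocus := by
    rw [Groth.Agent.S2155.result G.t σ₀ (pullback.snd G.t σ₀) (pullback.fst G.t σ₀)
      (IsPullback.of_hasPullback _ _) (Or.inr inferInstance), Scheme.Hom.mem_preimage, hη'1]
    exact hy
  let R₀ := pullback G.t σ₀
  let K' := AlgebraicClosure (R₀.residueField η')
  let x₀ : Spec (CommRingCat.of K') ⟶ R₀ :=
    Spec.map (CommRingCat.ofHom (algebraMap (R₀.residueField η') K')) ≫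
      R₀.fromSpecResidueField η'
  have hx₀ : ∀ x, x₀ x = η' := by
    intro x
    rw [Scheme.Hom.comp_apply]
    exact Scheme.fromSpecResidueField_apply _ _
  let ρ' : Spec (CommRingCat.of K') ⟶ G.R := x₀ ≫ pullback.fst G.t σ₀
  let j' : Spec (CommRingCat.of K') ⟶ Spec (CommRingCat.of K₀) := x₀ ≫ pullback.snd G.t σ₀
  have h : j' ≫ σ₀ = ρ' ≫ G.t := by
    simp only [j', ρ', Category.assoc]
    rw [pullback.condition]
  let x' : Spec (CommRingCat.of K') ⟶ pullback G.t (ρ' ≫ G.t) :=
    pullback.lift ρ' (𝟙 _) (Category.id_comp _).symm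
  have hx' : x' ≫ bc G j' h = x₀ := by
    apply pullback.hom_ext
    · rw [Category.assoc, bc_fst, pullback.lift_fst]
    · rw [Category.assoc, bc_snd, pullback.lift_snd_assoc]
      exact Category.id_comp _
  refine ⟨K', inferInstance, ρ' ≫ G.s, ?_⟩
  intro x
  have h1 : bc G j' h (x' x) ∈ (pullback.snd G.t σ₀).smoothLocus := by
    rw [← Scheme.Hom.comp_apply, hx', hx₀]
    exact hη'
  have h2 : x' x ∈ (pullback.snd G.t (ρ' ≫ G.t)).smoothLocus := by
    rw [smoothLocus_bc G j' h]
    exact h1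
  have h3 : x' = eps G (ρ' ≫ G.s) ≫ trans G ρ' := (eps_trans G ρ').symm
  rw [h3, Scheme.Hom.comp_apply, ← mem_smoothLocus_trans] at h2
  exact h2

include eU in
theorem PS_all [PerfectField k] [IsReduced G.R] {K : Type u} [Field K]
    (σ : Spec (CommRingCat.of K) ⟶ G.U) : PS G σ := by
  obtain ⟨K', _, σ', h⟩ := exists_PS G k eU
  exact (PS_ind G k eU σ' σ).mp h

include eU in
theorem smooth_t [PerfectField k] [IsReduced G.R] : Smooth G.t := by
  rw [← Scheme.Hom.smoothLocus_eq_top_iff]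
  ext r
  simp only [TopologicalSpace.Opens.coe_top, Set.mem_univ, iff_true]
  let K := AlgebraicClosure (G.R.residueField r)
  let ρ : Spec (CommRingCat.of K) ⟶ G.R :=
    Spec.map (CommRingCat.ofHom (algebraMap (G.R.residueField r) K)) ≫
      G.R.fromSpecResidueField r
  obtain ⟨pt⟩ := (inferInstance : Nonempty ↥(Spec (CommRingCat.of K)))
  have hρ : ρ pt = r := by
    rw [Scheme.Hom.comp_apply]
    exact Scheme.fromSpecResidueField_apply _ _
  have h1 := PS_all G k eU (ρ ≫ G.s) pt
  rw [mem_smoothLocus_trans, ← Scheme.Hom.comp_apply, eps_trans] at h1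
  haveI : Flat (ρ ≫ G.t) := flat_toU G k eU _
  rw [Groth.Agent.S2155.result G.t (ρ ≫ G.t) (pullback.snd G.t (ρ ≫ G.t))
    (pullback.fst G.t (ρ ≫ G.t)) (IsPullback.of_hasPullback _ _) (Or.inr inferInstance),
    Scheme.Hom.mem_preimage, ← Scheme.Hom.comp_apply, pullback.lift_fst, hρ] at h1
  exact h1

theorem main (S : Scheme.{u}) (G : Grpd.GroupoidScheme S) (k : Type u) [Field k] [PerfectField k]
    (eU : G.U ≅ Spec (CommRingCat.of k)) [LocallyOfFiniteType G.s] [LocallyOfFiniteType G.t]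
    [IsReduced G.R] : Smooth G.s ∧ Smooth G.t := by
  haveI : IsLocallyNoetherian G.U := isLocallyNoetherian_of_isOpenImmersion eU.hom
  haveI : LocallyOfFinitePresentation G.t := inferInstance
  have ht : Smooth G.t := smooth_t G k eU
  refine ⟨?_, ht⟩
  haveI := Groth.Agent.Lib.Helper4.GrpdDense.isIso_i G
  rw [← G.i_t]
  infer_instance


end helpers

/-- Let (U, R, s, t, c) be a groupoid scheme over S with U the spectrum of a perfect field, s and t
locally of finite type, and R reduced. Then s and t are smooth. (A groupoid scheme carries U, R, s,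
t, c, e, i over S with the groupoid axioms on T-points; c is defined on the fibre product of s and t
and sends a pair (a, b) with s(a) = t(b) to a composed with b.) -/
theorem result (S : Scheme.{u}) (G : Grpd.GroupoidScheme S) (k : Type u) [Field k] [PerfectField k] (eU : G.U ≅ Spec (CommRingCat.of k)) [LocallyOfFiniteType G.s] [LocallyOfFiniteType G.t] [IsReduced G.R] : Smooth G.s ∧ Smooth G.t := by
  exact main S G k eU

end Groth.Agent.S7455
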