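import Groth.Statements.S7454
import Mathlib
import Groth.Agent.Lib.Helper13.GrpdCartier
import Groth.Agent.Lib.Helper4.RedNbhd
import Groth.Agent.S7455
import Groth.Prelude.Def_Grpd

set_option autoImplicit false
universe u
open CategoryTheory CategoryTheory.Limits AlgebraicGeometry
open Grpd

namespace Groth.Agent.S7454

section helpers

open CategoryTheory AlgebraicGeometry Limits IsLocalRing

open Grpd Groth.Agent.Lib.Helper4.GrpdCalc Groth.Agent.Lib.Helper13.GrpdCartier

variable {S : Scheme.{u}} (G : GroupoidScheme S) (k : Type u) [Field k]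
  (eU : G.U ≅ Spec (CommRingCat.of k))

open Groth.Agent.S7455 Groth.Agent.Lib.Helper24.Unibranch in
include eU in
theorem nonempty_smoothLocus_t [CharZero k] [LocallyOfFiniteType G.s]
    [LocallyOfFinitePresentation G.t] :
    (G.t.smoothLocus : Set G.R).Nonempty := by
  haveI : PerfectField k := PerfectField.ofCharZero
  haveI : LocallyOfFinitePresentation (G.t ≫ eU.hom) := inferInstance
  haveI := isReduced_stalk_uPt G k eU
  obtain ⟨y, hy⟩ := Groth.Agent.Lib.Helper4.RedNbhd.nonempty_smoothLocus_of_isReduced_stalk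
    (G.t ≫ eU.hom) (uPt G k eU)
  have hpb : IsPullback (𝟙 G.R) G.t (G.t ≫ eU.hom) eU.hom :=
    IsPullback.of_horiz_isIso ⟨by simp⟩
  have h1 := Groth.Agent.S2155.result (G.t ≫ eU.hom) eU.hom G.t (𝟙 G.R) hpb (Or.inr inferInstance)
  refine ⟨y, ?_⟩
  rw [h1]
  exact hy


open Groth.Agent.S7455 Groth.Agent.Lib.Helper24.Unibranch in
include eU in
theorem exists_PS [LocallyOfFinitePresentation G.t] (hne : (G.t.smoothLocus : Set G.R).Nonempty) :
    ∃ (K' : Type u) (_ : Field K') (σ' : Spec (CommRingCat.of K') ⟶ G.U), PS G σ' := by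
  haveI := subsingleton_U G k eU
  let K₀ := AlgebraicClosure k
  let σ₀ : Spec (CommRingCat.of K₀) ⟶ G.U :=
    Spec.map (CommRingCat.ofHom (algebraMap k K₀)) ≫ eU.inv
  obtain ⟨pt₀⟩ := (inferInstance : Nonempty ↥(Spec (CommRingCat.of K₀)))
  obtain ⟨y, hy⟩ := hne
  obtain ⟨η', hη'1, -⟩ := Scheme.Pullback.exists_preimage_pullback (f := G.t) (g := σ₀) y pt₀
    (Subsingleton.elim _ _)
  haveI : Flat σ₀ := flat_toU G k eU σ₀
  have hη' : η' ∈ (pullback.snd G.t σ₀).smoothLocus := by
    rw [Groth.Agent.S2155.result G.t σ₀ (pullback.snd G.t σ₀) (pullback.fst G.t σ₀)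
      (IsPullback.of_hasPullback _ _) (Or.inr inferInstance), Scheme.Hom.mem_preimage, hη'1]
    exact hy
  let R₀ := pullback G.t σ₀
  let K' := AlgebraicClosure (R₀.residueField η')
  let x₀ : Spec (CommRingCat.of K') ⟶ R₀ :=
    Spec.map (CommRingCat.ofHom (algebraMap (R₀.residueField η') K')) ≫
      R₀.fromSpecResidueField η'
  have hx₀ : ∀ x, x₀ x = η' := by
    intro x
    rw [Scheme.Hom.comp_apply]
    exact Scheme.fromSpecResidueField_apply _ _
  let ρ' : Spec (CommRingCat.of K') ⟶ G.R := x₀ ≫ pullback.fst G.t σ₀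
  let j' : Spec (CommRingCat.of K') ⟶ Spec (CommRingCat.of K₀) := x₀ ≫ pullback.snd G.t σ₀
  have h : j' ≫ σ₀ = ρ' ≫ G.t := by
    simp only [j', ρ', Category.assoc]
    rw [pullback.condition]
  let x' : Spec (CommRingCat.of K') ⟶ pullback G.t (ρ' ≫ G.t) :=
    pullback.lift ρ' (𝟙 _) (Category.id_comp _).symm
  have hx' : x' ≫ bc G j' h = x₀ := by
    apply pullback.hom_ext
    · rw [Category.assoc, bc_fst, pullback.lift_fst]
    · rw [Category.assoc, bc_snd, pullback.lift_snd_assoc]
      exact Category.id_comp _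
  refine ⟨K', inferInstance, ρ' ≫ G.s, ?_⟩
  intro x
  have h1 : bc G j' h (x' x) ∈ (pullback.snd G.t σ₀).smoothLocus := by
    rw [← Scheme.Hom.comp_apply, hx', hx₀]
    exact hη'
  have h2 : x' x ∈ (pullback.snd G.t (ρ' ≫ G.t)).smoothLocus := by
    rw [smoothLocus_bc G j' h]
    exact h1
  have h3 : x' = eps G (ρ' ≫ G.s) ≫ trans G ρ' := (eps_trans G ρ').symm
  rw [h3, Scheme.Hom.comp_apply, ← mem_smoothLocus_trans] at h2
  exact h2

open Groth.Agent.S7455 Groth.Agent.Lib.Helper24.Unibranch in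
include eU in
theorem smooth_t [LocallyOfFinitePresentation G.t] (hne : (G.t.smoothLocus : Set G.R).Nonempty) :
    Smooth G.t := by
  rw [← Scheme.Hom.smoothLocus_eq_top_iff]
  ext r
  simp only [TopologicalSpace.Opens.coe_top, Set.mem_univ, iff_true]
  let K := AlgebraicClosure (G.R.residueField r)
  let ρ : Spec (CommRingCat.of K) ⟶ G.R :=
    Spec.map (CommRingCat.ofHom (algebraMap (G.R.residueField r) K)) ≫
      G.R.fromSpecResidueField r
  obtain ⟨pt⟩ := (inferInstance : Nonempty ↥(Spec (CommRingCat.of K)))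
  have hρ : ρ pt = r := by
    rw [Scheme.Hom.comp_apply]
    exact Scheme.fromSpecResidueField_apply _ _
  obtain ⟨K', _, σ', hσ'⟩ := exists_PS G k eU hne
  have h1 := (PS_ind G k eU σ' (ρ ≫ G.s)).mp hσ' pt
  rw [mem_smoothLocus_trans, ← Scheme.Hom.comp_apply, eps_trans] at h1
  haveI : Flat (ρ ≫ G.t) := flat_toU G k eU _
  rw [Groth.Agent.S2155.result G.t (ρ ≫ G.t) (pullback.snd G.t (ρ ≫ G.t))
    (pullback.fst G.t (ρ ≫ G.t)) (IsPullback.of_hasPullback _ _) (Or.inr inferInstance),
    Scheme.Hom.mem_preimage, ← Scheme.Hom.comp_apply, pullback.lift_fst, hρ] at h1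
  exact h1

theorem main (S : Scheme.{u}) (G : Grpd.GroupoidScheme S) (k : Type u) [Field k] [CharZero k]
    (eU : G.U ≅ Spec (CommRingCat.of k)) [LocallyOfFiniteType G.s] [LocallyOfFiniteType G.t] :
    Smooth G.s ∧ Smooth G.t := by
  haveI : IsLocallyNoetherian G.U := isLocallyNoetherian_of_isOpenImmersion eU.hom
  haveI : LocallyOfFinitePresentation G.t := inferInstance
  have ht : Smooth G.t := smooth_t G k eU (nonempty_smoothLocus_t G k eU)
  refine ⟨?_, ht⟩
  haveI := Groth.Agent.Lib.Helper4.GrpdDense.isIso_i G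
  rw [← G.i_t]
  infer_instance


end helpers

/-- Let (U, R, s, t, c) be a groupoid scheme over S with U the spectrum of a field of characteristic
zero and s, t locally of finite type. Then s and t are smooth. (A groupoid scheme carries U, R, s,
t, c, e, i over S with the groupoid axioms on T-points; c is defined on the fibre product of s and t
and sends a pair (a, b) with s(a) = t(b) to a composed with b.) -/
theorem result (S : Scheme.{u}) (G : Grpd.GroupoidScheme S) (k : Type u) [Field k] [CharZero k] (eU : G.U ≅ Spec (CommRingCat.of k)) [LocallyOfFiniteType G.s] [LocallyOfFiniteType G.t] : Smooth G.s ∧ Smooth G.t := by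
  exact main S G k eU

end Groth.Agent.S7454
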