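import Groth.Statements.S7462
import Groth.Agent.Lib.Helper15.ClosureProd
-- import your own Groth.Agent.* helpers here

set_option autoImplicit false
universe u
open CategoryTheory CategoryTheory.Limits AlgebraicGeometry
open Grpd

namespace Groth.Agent.S7462

section H
open CategoryTheory CategoryTheory.Limits AlgebraicGeometry
namespace W29
set_option backward.isDefEq.respectTransparency.types false

theorem field_like {U : Scheme.{u}} (k : Type u) [Field k] (eU : U ≅ Spec (CommRingCat.of k)) :
    IsIntegral U ∧ Subsingleton U := by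
  have hsub : Subsingleton U := by
    have : Subsingleton (Spec (CommRingCat.of k)) := inferInstanceAs (Subsingleton (PrimeSpectrum k))
    exact eU.hom.homeomorph.injective.subsingleton
  have hne : Nonempty U := by
    have : Nonempty (Spec (CommRingCat.of k)) := inferInstanceAs (Nonempty (PrimeSpectrum k))
    exact ⟨eU.inv (Classical.arbitrary _)⟩
  exact ⟨isIntegral_of_isOpenImmersion eU.hom, hsub⟩

theorem main (S : Scheme.{u}) (G₁ G₂ : Grpd.GroupoidScheme S) (f : Grpd.GroupoidScheme.Hom G₁ G₂) [IsIso f.fU] (k : Type u) [Field k] (eU : G₂.U ≅ Spec (CommRingCat.of k)) (p : ↑(pullback G₂.s G₂.t)) (h₁ : pullback.fst G₂.s G₂.t p ∈ closure (Set.range ⇑f.fR)) (h₂ : pullback.snd G₂.s G₂.t p ∈ closure (Set.range ⇑f.fR)) : G₂.c p ∈ closure (Set.range ⇑f.fR) := by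
  obtain ⟨hi, hs⟩ := field_like k eU
  refine Groth.Agent.Lib.Helper15.ClosureProd.core f.fU G₁.s G₁.t G₂.s G₂.t f.fR f.comm_s.symm
    f.comm_t.symm G₁.c G₂.c ?_ p h₁ h₂
  have h := f.comm_c (pullback.fst G₁.s G₁.t) (pullback.snd G₁.s G₁.t) pullback.condition
  have e1 : pullback.lift (pullback.fst G₁.s G₁.t) (pullback.snd G₁.s G₁.t) pullback.condition =
      𝟙 _ := by
    apply pullback.hom_ext <;> simp
  rw [e1, Category.id_comp] at h
  rw [h]

end W29
end H


/-- Consider two groupoid schemes (U, R_1, s_1, t_1, c_1) and (U, R_2, s_2, t_2, c_2) over S, where U is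
the spectrum of a field, together with a map a : R_1 -> R_2 respecting source, target and
composition (in the Lean: a morphism of groupoid schemes whose object-scheme component is an
isomorphism). Write Z for the closure in R_2 of the image of a. Then, as a map of sets, c_2 sends Z
x_(s_2,U,t_2) Z into Z: any point of R_2 x_(s_2,U,t_2) R_2 with both projections in Z has its
c_2-image in Z. (Here a groupoid scheme over S consists of U, R, s, t, c, e, i satisfying the
groupoid axioms on T-points; c lives on the fibre product of s and t and takes a pair (a, b) with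
s(a) = t(b) to the composite of a with b.) -/
theorem result (S : Scheme.{u}) (G₁ G₂ : Grpd.GroupoidScheme S) (f : Grpd.GroupoidScheme.Hom G₁ G₂) [IsIso f.fU] (k : Type u) [Field k] (eU : G₂.U ≅ Spec (CommRingCat.of k)) (p : ↑(pullback G₂.s G₂.t)) (h₁ : pullback.fst G₂.s G₂.t p ∈ closure (Set.range ⇑f.fR)) (h₂ : pullback.snd G₂.s G₂.t p ∈ closure (Set.range ⇑f.fR)) : G₂.c p ∈ closure (Set.range ⇑f.fR) := by
  exact W29.main S G₁ G₂ f k eU p h₁ h₂

end Groth.Agent.S7462
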