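import Groth.Statements.S7463
import Groth.Agent.Lib.Helper15.ClosureProd
-- import your own Groth.Agent.* helpers here

set_option autoImplicit false
universe u
open CategoryTheory CategoryTheory.Limits AlgebraicGeometry
open Grpd

namespace Groth.Agent.S7463

section H
open CategoryTheory CategoryTheory.Limits AlgebraicGeometry
namespace W30
set_option backward.isDefEq.respectTransparency.types false

theorem field_like {U : Scheme.{u}} (k : Type u) [Field k] (eU : U ≅ Spec (CommRingCat.of k)) :
    IsIntegral U ∧ Subsingleton U := by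
  have hsub : Subsingleton U := by
    have : Subsingleton (Spec (CommRingCat.of k)) := inferInstanceAs (Subsingleton (PrimeSpectrum k))
    exact eU.hom.homeomorph.injective.subsingleton
  have hne : Nonempty U := by
    have : Nonempty (Spec (CommRingCat.of k)) := inferInstanceAs (Nonempty (PrimeSpectrum k))
    exact ⟨eU.inv (Classical.arbitrary _)⟩
  exact ⟨isIntegral_of_isOpenImmersion eU.hom, hsub⟩

theorem main (S : Scheme.{u}) (G : Grpd.GroupoidScheme S) (k : Type u) [Field k] (eU : G.U ≅ Spec (CommRingCat.of k)) (pr02 : pullback (pullback.snd G.pU G.pU) (pullback.fst G.pU G.pU) ⟶ pullback G.pU G.pU) (h0 : pr02 ≫ pullback.fst G.pU G.pU = pullback.fst (pullback.snd G.pU G.pU) (pullback.fst G.pU G.pU) ≫ pullback.fst G.pU G.pU) (h1 : pr02 ≫ pullback.snd G.pU G.pU = pullback.snd (pullback.snd G.pU G.pU) (pullback.fst G.pU G.pU) ≫ pullback.snd G.pU G.pU) (p : ↑(pullback (pullback.snd G.pU G.pU) (pullback.fst G.pU G.pU))) (h₁ : pullback.fst (pullback.snd G.pU G.pU) (pullback.fst G.pU G.pU) p ∈ closure (Set.range ⇑G.j)) (h₂ : pullback.snd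 (pullback.snd G.pU G.pU) (pullback.fst G.pU G.pU) p ∈ closure (Set.range ⇑G.j)) : pr02 p ∈ closure (Set.range ⇑G.j) := by
  obtain ⟨hi, hs⟩ := field_like k eU
  have hjs : G.s ≫ 𝟙 G.U = G.j ≫ pullback.snd G.pU G.pU := by
    rw [Category.comp_id, Grpd.GroupoidScheme.j, pullback.lift_snd]
  have hjt : G.t ≫ 𝟙 G.U = G.j ≫ pullback.fst G.pU G.pU := by
    rw [Category.comp_id, Grpd.GroupoidScheme.j, pullback.lift_fst]
  refine Groth.Agent.Lib.Helper15.ClosureProd.core (𝟙 G.U) G.s G.t (pullback.snd G.pU G.pU)
    (pullback.fst G.pU G.pU) G.j hjs hjt G.c pr02 ?_ p h₁ h₂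
  have e1 : pullback.lift (pullback.fst G.s G.t) (pullback.snd G.s G.t) pullback.condition =
      𝟙 _ := by
    apply pullback.hom_ext <;> simp
  have ht := G.comp_t (pullback.fst G.s G.t) (pullback.snd G.s G.t) pullback.condition
  have hs' := G.comp_s (pullback.fst G.s G.t) (pullback.snd G.s G.t) pullback.condition
  rw [e1, Category.id_comp] at ht hs'
  apply pullback.hom_ext
  · rw [Category.assoc, h0, pullback.lift_fst_assoc, Category.assoc, Category.assoc]
    rw [← hjt, Category.comp_id, ht]
  · rw [Category.assoc, h1, pullback.lift_snd_assoc, Category.assoc, Category.assoc]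
    rw [← hjs, Category.comp_id, hs']

end W30
end H


/-- Consider a groupoid scheme (U, R, s, t, c) over S in which U is the spectrum of a field, and write Z
for the closure of the image of the morphism j = (t, s) : R -> U x_S U. Then, set-theoretically,
pr_02 carries Z x_(pr_1,U,pr_0) Z into Z: given the morphism pr_02 from (U x_S U) x_(pr_1,U,pr_0) (U
x_S U) to U x_S U, whose components are pr_0 of the first factor and pr_1 of the second, any point
both of whose projections land in Z is mapped to a point of Z. (A groupoid scheme consists of U, R,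
s, t, c, e, i over S satisfying the groupoid axioms on T-points; c is defined on the fibre product
of s and t and takes a pair (a, b) with s(a) = t(b) to the composite of a with b.) -/
theorem result (S : Scheme.{u}) (G : Grpd.GroupoidScheme S) (k : Type u) [Field k] (eU : G.U ≅ Spec (CommRingCat.of k)) (pr02 : pullback (pullback.snd G.pU G.pU) (pullback.fst G.pU G.pU) ⟶ pullback G.pU G.pU) (h0 : pr02 ≫ pullback.fst G.pU G.pU = pullback.fst (pullback.snd G.pU G.pU) (pullback.fst G.pU G.pU) ≫ pullback.fst G.pU G.pU) (h1 : pr02 ≫ pullback.snd G.pU G.pU = pullback.snd (pullback.snd G.pU G.pU) (pullback.fst G.pU G.pU) ≫ pullback.snd G.pU G.pU) (p : ↑(pullback (pullback.snd G.pU G.pU) (pullback.fst G.pU G.pU))) (h₁ : pullback.fst (pullback.snd G.pU G.pU) (pullback.fst G.pU G.pU) p ∈ closure (Set.range ⇑G.j)) (h₂ : pullback.snd (pullback.snd G.pU G.pU) (pullback.fst G.pU G.pU) p ∈ closure (Set.range ⇑G.j)) : pr02 p ∈ closure (Set.range ⇑G.j) := by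
  exact W30.main S G k eU pr02 h0 h1 p h₁ h₂

end Groth.Agent.S7463
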