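import Groth.Statements.S7464
import Groth.Agent.S7456
import Mathlib.AlgebraicGeometry.Morphisms.QuasiFinite

set_option autoImplicit false
universe u
open CategoryTheory CategoryTheory.Limits AlgebraicGeometry
open Grpd

namespace Groth.Agent.S7464

/-- Let (U, R, s, t, c) be a groupoid scheme over S with s and t finite, and let u, u' be distinct
points of U in the same orbit, say u = s(r) and u' = t(r). Then u' does not lie in the closure of u.
(The published statement calls u, u' points of R; this row takes them to be points of U, as the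
orbit condition and the proof require.) (A groupoid scheme carries U, R, s, t, c, e, i over S with
the groupoid axioms on T-points; c is defined on the fibre product of s and t and sends a pair (a,
b) with s(a) = t(b) to a composed with b.) -/
theorem result (S : Scheme.{u}) (G : Grpd.GroupoidScheme S) [IsFinite G.s] [IsFinite G.t] (r : G.R) (hne : G.s r ≠ G.t r) : ¬ (G.s r ⤳ G.t r) := by
  intro hsp
  have hOfin : (⇑G.t '' (⇑G.s ⁻¹' {G.s r})).Finite :=
    (G.s.finite_preimage_singleton (G.s r)).image _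
  have hOne : (⇑G.t '' (⇑G.s ⁻¹' {G.s r})).Nonempty := ⟨G.t r, r, rfl, rfl⟩
  have step : ∀ w ∈ (⇑G.t '' (⇑G.s ⁻¹' {G.s r})),
      ∃ w' ∈ (⇑G.t '' (⇑G.s ⁻¹' {G.s r})), w ⤳ w' ∧ w ≠ w' := by
    rintro w ⟨ρ, hρs, rfl⟩
    have hρs' : G.s ρ = G.s r := hρs
    have h1 : G.s ρ ⤳ G.t r := by rw [hρs']; exact hsp
    obtain ⟨ρ', hρρ', hρ'⟩ := (G.s.isClosedMap.specializingMap) h1
    refine ⟨G.t ρ', ?_, hρρ'.map G.t.continuous, ?_⟩
    · obtain ⟨ρ'', h1, h2⟩ := Groth.Agent.S7456.exists_comp G ρ' r hρ'
      exact ⟨ρ'', h1, h2⟩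
    · intro heq
      have hd := G.t.isDiscrete_preimage_singleton (G.t ρ)
      have := hd.to_subtype
      have h2 : (⟨ρ, rfl⟩ : ↥(⇑G.t ⁻¹' {G.t ρ})) ⤳ ⟨ρ', heq.symm⟩ :=
        (subtype_specializes_iff _ _).mpr hρρ'
      have h3 := specializes_iff_eq.mp h2
      have h4 : ρ = ρ' := congrArg Subtype.val h3
      apply hne
      rw [← hρs', h4, hρ']
  let _ := specializationPreorder G.U
  obtain ⟨w, hw⟩ := hOfin.exists_minimal hOne
  obtain ⟨w', hw'O, hww', hne'⟩ := step w hw.1
  have h5 : w' ⤳ w := hw.2 hw'O hww'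
  exact hne' ((hww'.antisymm h5).eq)

end Groth.Agent.S7464
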