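import Groth.Statements.S7494
-- import your own Groth.Agent.* helpers here

set_option autoImplicit false
universe u
open CategoryTheory MonoidalCategory CartesianMonoidalCategory MonObj GrpObj AlgebraicGeometry
open AlgGrp

namespace Groth.Agent.S7494

/-- Let G be a group scheme over S acting on a scheme X over S by a. The action is free, meaning that
for every scheme T over S and all T-points g of G and x of X with g · x = x one has g = 1, if and
only if the morphism G x_S X -> X x_S X, (g, x) ↦ (a(g, x), x), is a monomorphism of schemes. -/
theorem result {S : Scheme.{u}} (G X : Over S) [GrpObj G] (a : AlgGrp.Action G X) : (∀ (T : Over S) (g : T ⟶ G) (x : T ⟶ X), lift g x ≫ a.act = x → g = toUnit T ≫ η[G]) ↔ Mono (lift a.act (snd G X)).left := by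
  classical
  -- action laws on T-points
  have hone : ∀ {T : Over S} (x : T ⟶ X), lift (1 : T ⟶ G) x ≫ a.act = x := by
    intro T x
    have h := congrArg (fun q => lift (toUnit T) x ≫ q) a.one_act
    simp only [lift_whiskerRight_assoc, lift_leftUnitor_hom] at h
    rw [Hom.one_def]; exact h
  have hmul : ∀ {T : Over S} (g h : T ⟶ G) (x : T ⟶ X),
      lift (g * h) x ≫ a.act = lift g (lift h x ≫ a.act) ≫ a.act := by
    intro T g h x
    have e := congrArg (fun q => lift (lift g h) x ≫ q) a.mul_act
    simp only [lift_whiskerRight_assoc, lift_lift_associator_hom_assoc, lift_whiskerLeft_assoc] at e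
    rw [Hom.mul_def]; exact e
  constructor
  · intro hfree
    have : Mono (lift a.act (snd G X)) := by
      constructor
      intro T p₁ p₂ hp
      have h1 := congrArg (· ≫ fst X X) hp
      have h2 := congrArg (· ≫ snd X X) hp
      simp only [Category.assoc, lift_fst, lift_snd] at h1 h2
      -- write pᵢ = lift gᵢ x
      have e₁ : p₁ = lift (p₁ ≫ fst G X) (p₁ ≫ snd G X) := (lift_comp_fst_snd p₁).symm
      have e₂ : p₂ = lift (p₂ ≫ fst G X) (p₁ ≫ snd G X) := by
        rw [h2]; exact (lift_comp_fst_snd p₂).symm
      set g₁ := p₁ ≫ fst G X
      set g₂ := p₂ ≫ fst G X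
      set x := p₁ ≫ snd G X
      rw [e₁, e₂] at h1
      have key : lift (g₂⁻¹ * g₁) x ≫ a.act = x := by
        rw [hmul, h1, ← hmul, inv_mul_cancel, hone]
      have := hfree T (g₂⁻¹ * g₁) x key
      rw [← Hom.one_def] at this
      have hg : g₁ = g₂ := by
        have := congrArg (fun q => g₂ * q) this
        simpa using this
      rw [e₁, e₂, hg]
    infer_instance
  · intro hmono T g x hgx
    have : Mono (lift a.act (snd G X)) := Over.mono_of_mono_left _
    have e : lift g x ≫ lift a.act (snd G X) = lift (1 : T ⟶ G) x ≫ lift a.act (snd G X) := by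
      apply CartesianMonoidalCategory.hom_ext
      · simp only [Category.assoc, lift_fst, hgx, hone]
      · simp only [Category.assoc, lift_snd]
    have := (cancel_mono _).1 e
    have := congrArg (· ≫ fst G X) this
    simp only [lift_fst] at this
    rw [this, Hom.one_def]

end Groth.Agent.S7494
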