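import Groth.Statements.S7499
import Groth.Agent.S7456
import Groth.Agent.Lib.lead.ChevD

set_option autoImplicit false
set_option maxHeartbeats 800000
universe u
open CategoryTheory CategoryTheory.Limits AlgebraicGeometry
open Grpd

namespace Groth.Agent.S7499

open Groth.Agent.S7456 in
theorem aux (S : Scheme.{u}) (G : Grpd.GroupoidScheme S) [IsIntegralHom G.s] [IsIntegralHom G.t] (U' : Scheme.{u}) (g : U' ⟶ G.U) [IsIntegralHom g] (horb : ∀ u : G.U, ∃ r : G.R, G.s r = u ∧ G.t r ∈ Set.range ⇑g) (u' : U') (W' : U'.Opens) (hW' : IsAffineOpen W') (hu' : u' ∈ W') (hinv : (pullback.fst (pullback.snd g G.t ≫ G.s) g ≫ pullback.fst g G.t) ⁻¹ᵁ W' = (pullback.snd (pullback.snd g G.t ≫ G.s) g) ⁻¹ᵁ W') : ∃ W : G.U.Opens, IsAffineOpen W ∧ g u' ∈ W ∧ G.s ⁻¹ᵁ W = G.t ⁻¹ᵁ W := by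
  -- notation
  set pr0 : pullback g G.t ⟶ U' := pullback.fst g G.t with hpr0
  set pr1 : pullback g G.t ⟶ G.R := pullback.snd g G.t with hpr1
  set h : pullback g G.t ⟶ G.U := pr1 ≫ G.s with hh
  -- points of R̃
  have mkpt : ∀ (a : U') (r : G.R), g a = G.t r → ∃ x : ↥(pullback g G.t), pr0 x = a ∧ pr1 x = r := by
    intro a r har
    exact Scheme.Pullback.exists_preimage_pullback (f := g) (g := G.t) a r har
  have happ : ∀ x : ↥(pullback g G.t), h x = G.s (pr1 x) := fun x => by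
    rw [hh, Scheme.Hom.comp_apply]
  have hcond : ∀ x : ↥(pullback g G.t), g (pr0 x) = G.t (pr1 x) := fun x => by
    rw [← Scheme.Hom.comp_apply, ← Scheme.Hom.comp_apply, hpr0, hpr1, pullback.condition]
  -- Claim A
  have claimA : ∀ x y : ↥(pullback g G.t), pr0 x ∈ W' → h y = h x → pr0 y ∈ W' := by
    intro x y hx hxy
    rw [happ, happ] at hxy
    obtain ⟨r, hr1, hr2⟩ := exists_comp G (pr1 x) (G.i (pr1 y)) (by rw [i_t_apply, hxy])
    rw [i_s_apply] at hr1
    obtain ⟨z, hz0, hz1⟩ := mkpt (pr0 x) r (by rw [hr2, hcond])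
    obtain ⟨w, hw1, hw2⟩ := Scheme.Pullback.exists_preimage_pullback (f := h) (g := g) z (pr0 y)
      (by rw [happ, hz1, hr1, hcond])
    have hmem : w ∈ (pullback.fst h g ≫ pr0) ⁻¹ᵁ W' := by
      change (pullback.fst h g ≫ pr0) w ∈ W'
      rw [Scheme.Hom.comp_apply, hw1, hz0]; exact hx
    rw [hinv] at hmem
    change (pullback.snd h g) w ∈ W' at hmem
    rwa [hw2] at hmem
  -- h surjective
  have hsurj : Function.Surjective h := by
    intro u
    obtain ⟨r, hr, a, ha⟩ := horb u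
    obtain ⟨x, hx0, hx1⟩ := mkpt a r ha
    exact ⟨x, by rw [happ, hx1, hr]⟩
  haveI : IsIntegralHom pr1 := by rw [hpr1]; infer_instance
  haveI : IsIntegralHom pr0 := by rw [hpr0]; infer_instance
  haveI : IsIntegralHom h := by rw [hh]; infer_instance
  have hclosed : IsClosedMap h := h.isClosedMap
  -- the saturated open
  set Wt : (pullback g G.t).Opens := pr0 ⁻¹ᵁ W' with hWt
  have hpre : h ⁻¹' (h '' (Wt : Set ↥(pullback g G.t))) = (Wt : Set ↥(pullback g G.t)) := by
    apply Set.Subset.antisymm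
    · rintro y ⟨x, hx, hxy⟩
      exact claimA x y hx hxy.symm
    · exact Set.subset_preimage_image _ _
  have hopen : IsOpen (h '' (Wt : Set ↥(pullback g G.t))) := by
    rw [← isClosed_compl_iff]
    have : (h '' (Wt : Set ↥(pullback g G.t)))ᶜ = h '' ((Wt : Set ↥(pullback g G.t))ᶜ) := by
      apply Set.Subset.antisymm
      · intro u hu
        obtain ⟨x, rfl⟩ := hsurj u
        refine ⟨x, fun hx => hu ⟨x, hx, rfl⟩, rfl⟩
      · rintro _ ⟨x, hx, rfl⟩ hmem
        apply hx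
        rw [← hpre]; exact hmem
    rw [this]
    exact hclosed _ Wt.isOpen.isClosed_compl
  let W : G.U.Opens := ⟨h '' (Wt : Set ↥(pullback g G.t)), hopen⟩
  have hWpre : h ⁻¹ᵁ W = Wt := by
    ext1
    exact hpre
  have hmemW : ∀ u : G.U, u ∈ W ↔ ∃ x : ↥(pullback g G.t), pr0 x ∈ W' ∧ h x = u := by
    intro u
    constructor
    · rintro ⟨x, hx, rfl⟩; exact ⟨x, hx, rfl⟩
    · rintro ⟨x, hx, rfl⟩; exact ⟨x, hx, rfl⟩
  -- forward invariance
  have hfw : ∀ r : G.R, G.s r ∈ W → G.t r ∈ W := by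
    intro r hr
    obtain ⟨x, hx, hxr⟩ := (hmemW _).1 hr
    obtain ⟨r₀, hr₀, a, ha⟩ := horb (G.t r)
    obtain ⟨ρ, hρ1, hρ2⟩ := exists_comp G r₀ r hr₀
    obtain ⟨y, hy0, hy1⟩ := mkpt a ρ (by rw [hρ2, ha])
    have hya : a ∈ W' := by
      have := claimA x y hx (by rw [happ y, hy1, hρ1, hxr])
      rwa [hy0] at this
    obtain ⟨y₀, hy₀0, hy₀1⟩ := mkpt a r₀ ha
    refine (hmemW _).2 ⟨y₀, by rw [hy₀0]; exact hya, by rw [happ, hy₀1, hr₀]⟩
  refine ⟨W, ?_, ?_, ?_⟩
  · -- affine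
    have hsrc : IsAffineOpen (h ⁻¹ᵁ W) := by
      rw [hWpre, hWt]
      exact hW'.preimage pr0
    haveI : IsAffine (h ⁻¹ᵁ W).toScheme := hsrc
    haveI : IsIntegralHom (h ∣_ W) := inferInstance
    haveI : Surjective h := ⟨hsurj⟩
    haveI : Surjective (h ∣_ W) := IsZariskiLocalAtTarget.restrict (P := @Surjective) ‹_› W
    exact Groth.Agent.Lib.lead.ChevD.isAffine_of_isIntegralHom_of_surjective (h ∣_ W)
  · obtain ⟨x, hx0, hx1⟩ := mkpt u' (G.e (g u')) (by rw [e_t_apply])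
    exact (hmemW _).2 ⟨x, by rw [hx0]; exact hu', by rw [happ, hx1, e_s_apply]⟩
  · ext r
    change G.s r ∈ W ↔ G.t r ∈ W
    constructor
    · exact hfw r
    · intro hr
      have := hfw (G.i r) (by rw [i_s_apply]; exact hr)
      rwa [i_t_apply] at this


/-- Let (U, R, s, t, c) be a groupoid scheme over S with s and t integral, and g : U' -> U an integral
morphism such that every R-orbit of U meets the image of g. Let R' = (U' x_(g,U,t) R) x_(s pr, U, g)
U' be the restriction of R to U', with t' the projection to the first factor U' and s' the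
projection to the last. If u' is a point of U' contained in an affine open W' of U' with t'^{-1}(W')
= s'^{-1}(W'), then g(u') is contained in an affine open W of U with s^{-1}(W) = t^{-1}(W). (A
groupoid scheme carries U, R, s, t, c, e, i over S with the groupoid axioms on T-points; c is
defined on the fibre product of s and t and sends a pair (a, b) with s(a) = t(b) to a composed with
b.) -/
theorem result (S : Scheme.{u}) (G : Grpd.GroupoidScheme S) [IsIntegralHom G.s] [IsIntegralHom G.t] (U' : Scheme.{u}) (g : U' ⟶ G.U) [IsIntegralHom g] (horb : ∀ u : G.U, ∃ r : G.R, G.s r = u ∧ G.t r ∈ Set.range ⇑g) (u' : U') (W' : U'.Opens) (hW' : IsAffineOpen W') (hu' : u' ∈ W') (hinv : (pullback.fst (pullback.snd g G.t ≫ G.s) g ≫ pullback.fst g G.t) ⁻¹ᵁ W' = (pullback.snd (pullback.snd g G.t ≫ G.s) g) ⁻¹ᵁ W') : ∃ W : G.U.Opens, IsAffineOpen W ∧ g u' ∈ W ∧ G.s ⁻¹ᵁ W = G.t ⁻¹ᵁ W := by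
  exact aux S G U' g horb u' W' hW' hu' hinv

end Groth.Agent.S7499
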