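import Groth.Statements.S7500
import Groth.Agent.Lib.lead.GpdSch

set_option autoImplicit false
universe u
open CategoryTheory CategoryTheory.Limits AlgebraicGeometry
open Grpd

namespace Groth.Agent.S7500


open Groth.Agent.Lib.lead.GpdSch

section
variable {S : Scheme.{u}} (G : Grpd.GroupoidScheme S)

private lemma j_t : G.j ≫ pullback.fst G.pU G.pU = G.t := by
  unfold Grpd.GroupoidScheme.j; rw [pullback.lift_fst]

private lemma j_s : G.j ≫ pullback.snd G.pU G.pU = G.s := by
  unfold Grpd.GroupoidScheme.j; rw [pullback.lift_snd]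

private lemma diag_fst : G.diag ≫ pullback.fst G.pU G.pU = 𝟙 _ := by
  unfold Grpd.GroupoidScheme.diag; rw [pullback.lift_fst]

private lemma diag_snd : G.diag ≫ pullback.snd G.pU G.pU = 𝟙 _ := by
  unfold Grpd.GroupoidScheme.diag; rw [pullback.lift_snd]

/-- the arrow underlying a point of the stabilizer -/
private noncomputable def σR : G.stabilizer ⟶ G.R := pullback.fst G.j G.diag

private lemma stab_cond : σR G ≫ G.j = G.stabilizerToU ≫ G.diag :=
  pullback.condition (f := G.j) (g := G.diag)

private lemma stab_t : σR G ≫ G.t = G.stabilizerToU := by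
  have h := congrArg (· ≫ pullback.fst G.pU G.pU) (stab_cond G)
  simpa only [Category.assoc, j_t, diag_fst, Category.comp_id] using h

private lemma stab_s : σR G ≫ G.s = G.stabilizerToU := by
  have h := congrArg (· ≫ pullback.snd G.pU G.pU) (stab_cond G)
  simpa only [Category.assoc, j_s, diag_snd, Category.comp_id] using h

private lemma stab_hom_ext {T : Scheme.{u}} (f g : T ⟶ G.stabilizer)
    (h1 : f ≫ σR G = g ≫ σR G) (h2 : f ≫ G.stabilizerToU = g ≫ G.stabilizerToU) : f = g :=
  pullback.hom_ext (f := G.j) (g := G.diag) h1 h2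

private noncomputable def stabLift {T : Scheme.{u}} (γ : T ⟶ G.R) (w : T ⟶ G.U)
    (hs : γ ≫ G.s = w) (ht : γ ≫ G.t = w) : T ⟶ G.stabilizer :=
  pullback.lift (f := G.j) (g := G.diag) γ w (by
    apply pullback.hom_ext
    · simp only [Category.assoc, j_t, diag_fst, Category.comp_id, ht]
    · simp only [Category.assoc, j_s, diag_snd, Category.comp_id, hs])

private lemma stabLift_σR {T : Scheme.{u}} (γ : T ⟶ G.R) (w : T ⟶ G.U)
    (hs : γ ≫ G.s = w) (ht : γ ≫ G.t = w) : stabLift G γ w hs ht ≫ σR G = γ :=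
  pullback.lift_fst (f := G.j) (g := G.diag) _ _ _

private lemma stabLift_toU {T : Scheme.{u}} (γ : T ⟶ G.R) (w : T ⟶ G.U)
    (hs : γ ≫ G.s = w) (ht : γ ≫ G.t = w) : stabLift G γ w hs ht ≫ G.stabilizerToU = w :=
  pullback.lift_snd (f := G.j) (g := G.diag) _ _ _

private lemma jj_t : pullback.fst G.j G.j ≫ G.t = pullback.snd G.j G.j ≫ G.t := by
  have h := congrArg (· ≫ pullback.fst G.pU G.pU) (pullback.condition (f := G.j) (g := G.j))
  simpa only [Category.assoc, j_t] using h

private lemma jj_s : pullback.fst G.j G.j ≫ G.s = pullback.snd G.j G.j ≫ G.s := by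
  have h := congrArg (· ≫ pullback.snd G.pU G.pU) (pullback.condition (f := G.j) (g := G.j))
  simpa only [Category.assoc, j_s] using h

end

/-- Let (U, R, s, t, c) be a groupoid scheme over S and G -> U its stabilizer group scheme (the base
change of j = (t, s) along the diagonal). The action of G on R by composition, base changed to G_0 =
G x_(U, pr_0) (U x_S U), makes R a pseudo G_0-torsor over U x_S U. Concretely: let α : G x_(U, t) R
-> R x_(s, U, t) R be the morphism with components (γ viewed in R, r) and β : G x_(U, t) R -> R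
x_(j, U x_S U, j) R the morphism with components (c ∘ α, r); then β is an isomorphism. (A groupoid
scheme carries U, R, s, t, c, e, i over S with the groupoid axioms on T-points; c is defined on the
fibre product of s and t and sends a pair (a, b) with s(a) = t(b) to a composed with b.) -/
theorem result (S : Scheme.{u}) (G : Grpd.GroupoidScheme S) (α : pullback G.stabilizerToU G.t ⟶ pullback G.s G.t) (hα₁ : α ≫ pullback.fst G.s G.t = pullback.fst G.stabilizerToU G.t ≫ pullback.fst G.j G.diag) (hα₂ : α ≫ pullback.snd G.s G.t = pullback.snd G.stabilizerToU G.t) (β : pullback G.stabilizerToU G.t ⟶ pullback G.j G.j) (hβ₁ : β ≫ pullback.fst G.j G.j = α ≫ G.c) (hβ₂ : β ≫ pullback.snd G.j G.j = pullback.snd G.stabilizerToU G.t) : IsIso β := by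
  have hα₁' : α ≫ pullback.fst G.s G.t = pullback.fst G.stabilizerToU G.t ≫ σR G := hα₁
  have hγr : (pullback.fst G.stabilizerToU G.t ≫ σR G) ≫ G.s
      = pullback.snd G.stabilizerToU G.t ≫ G.t := by
    rw [Category.assoc, stab_s]
    exact pullback.condition
  have hαc : α ≫ G.c = m G (pullback.fst G.stabilizerToU G.t ≫ σR G)
      (pullback.snd G.stabilizerToU G.t) hγr := by
    rw [comp_c G α]
    exact m_congr G hα₁' hα₂ _ _
  have h5 : pullback.fst G.j G.j ≫ G.s = (pullback.snd G.j G.j ≫ G.i) ≫ G.t := by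
    rw [Category.assoc, G.i_t]; exact jj_s G
  have h6s : m G (pullback.fst G.j G.j) (pullback.snd G.j G.j ≫ G.i) h5 ≫ G.s
      = pullback.snd G.j G.j ≫ G.t := by
    rw [m_s, Category.assoc, G.i_s]
  have h6t : m G (pullback.fst G.j G.j) (pullback.snd G.j G.j ≫ G.i) h5 ≫ G.t
      = pullback.snd G.j G.j ≫ G.t := by
    rw [m_t]; exact jj_t G
  let ψσ : pullback G.j G.j ⟶ G.stabilizer :=
    stabLift G (m G (pullback.fst G.j G.j) (pullback.snd G.j G.j ≫ G.i) h5)
      (pullback.snd G.j G.j ≫ G.t) h6s h6t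
  have hψσ1 : ψσ ≫ σR G
      = m G (pullback.fst G.j G.j) (pullback.snd G.j G.j ≫ G.i) h5 := stabLift_σR G _ _ _ _
  have hψσ2 : ψσ ≫ G.stabilizerToU = pullback.snd G.j G.j ≫ G.t := stabLift_toU G _ _ _ _
  let ψ : pullback G.j G.j ⟶ pullback G.stabilizerToU G.t :=
    pullback.lift ψσ (pullback.snd G.j G.j) hψσ2
  have hψ1 : ψ ≫ pullback.fst G.stabilizerToU G.t = ψσ := pullback.lift_fst _ _ _
  have hψ2 : ψ ≫ pullback.snd G.stabilizerToU G.t = pullback.snd G.j G.j :=
    pullback.lift_snd _ _ _
  refine ⟨⟨ψ, ?_, ?_⟩⟩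
  · -- β ≫ ψ = 𝟙
    apply pullback.hom_ext
    · rw [Category.assoc, hψ1, Category.id_comp]
      apply stab_hom_ext
      · rw [Category.assoc, hψσ1, m_pre]
        have e1 : β ≫ pullback.fst G.j G.j
            = m G (pullback.fst G.stabilizerToU G.t ≫ σR G)
              (pullback.snd G.stabilizerToU G.t) hγr := hβ₁.trans hαc
        have e2 : β ≫ pullback.snd G.j G.j ≫ G.i
            = pullback.snd G.stabilizerToU G.t ≫ G.i := by
          rw [← Category.assoc, hβ₂]
        have h2 : pullback.snd G.stabilizerToU G.t ≫ G.s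
            = (pullback.snd G.stabilizerToU G.t ≫ G.i) ≫ G.t := by
          rw [Category.assoc, G.i_t]
        refine (m_congr G e1 e2 _ ((m_s G _ _ hγr).trans h2)).trans ?_
        refine (m_assoc G _ _ _ hγr h2).trans ?_
        refine m_e_right G _ _ ?_ _
        rw [m_i_right G (pullback.snd G.stabilizerToU G.t) _ rfl h2, ← Category.assoc, ← hγr,
          Category.assoc]
      · rw [Category.assoc, hψσ2, ← Category.assoc, hβ₂]
        exact pullback.condition.symm
    · rw [Category.assoc, hψ2, hβ₂, Category.id_comp]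
  · -- ψ ≫ β = 𝟙
    apply pullback.hom_ext
    · rw [Category.assoc, hβ₁, hαc, m_pre, Category.id_comp]
      have e1 : ψ ≫ pullback.fst G.stabilizerToU G.t ≫ σR G
          = m G (pullback.fst G.j G.j) (pullback.snd G.j G.j ≫ G.i) h5 := by
        rw [← Category.assoc, hψ1, hψσ1]
      have h2 : (pullback.snd G.j G.j ≫ G.i) ≫ G.s = pullback.snd G.j G.j ≫ G.t := by
        rw [Category.assoc, G.i_s]
      refine (m_congr G e1 hψ2 _ ((m_s G _ _ h5).trans h2)).trans ?_
      refine (m_assoc G _ _ _ h5 h2).trans ?_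
      refine m_e_right G _ _ ?_ _
      rw [m_i_left G (pullback.snd G.j G.j) _ rfl h2, ← Category.assoc, ← jj_s G, Category.assoc]
    · rw [Category.assoc, hβ₂, hψ2, Category.id_comp]

end Groth.Agent.S7500
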