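import Groth.Statements.S7521
import Groth.Agent.Lib.Helper9.Sat6
import Groth.Agent.Lib.Helper28.AmpleFinite

set_option autoImplicit false
open CategoryTheory CategoryTheory.Limits AlgebraicGeometry
universe u
open Desc

namespace Groth.Agent.S7521

/-- Let p : X -> Y be a surjective finite locally free morphism and V a scheme over X which has an
invertible module ample relative to V -> X. Then every descent datum on V relative to p is
effective. (A quasi-projective morphism V -> X, in particular a projective one, carries such a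
module.) (Descent data are taken in functor-of-points form.) -/
theorem result {X Y : Scheme.{u}} (p : X ⟶ Y) [Surjective p] [IsFinite p] [Flat p] [LocallyOfFinitePresentation p] (D : Desc.SchDD p) (L : D.obj.left.Modules) (hL : RelAmple.IsRelAmple D.obj.hom L) : ∃ W : Over Y, Nonempty ((Desc.toDD p).obj W ≅ D) := by
  apply Groth.Agent.Lib.Helper9.DescAff.effective_of_fam
  refine Groth.Agent.Lib.Helper9.Sat.isEffective_of_orbit_affine p _ (fun v => ?_)
  have hfin := Groth.Agent.Lib.Helper9.Sat.finite_satSet_singleton p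
    ((Desc.SchDDFam.ofSchDD.{u} p).obj D) v
  obtain ⟨Y₀, hY₀, hy, -⟩ :=
    exists_isAffineOpen_mem_and_subset (x := p (D.obj.hom v)) (U := ⊤) trivial
  have hX₀ : IsAffineOpen (p ⁻¹ᵁ Y₀) := hY₀.preimage p
  obtain ⟨V₀, hV₀⟩ : ∃ V₀ : D.obj.left.Opens, V₀ = D.obj.hom ⁻¹ᵁ (p ⁻¹ᵁ Y₀) := ⟨_, rfl⟩
  have hA : CohB1.IsAmple (L.restrict V₀.ι) := by
    rw [hV₀]; exact hL.2 ⟨p ⁻¹ᵁ Y₀, hX₀⟩
  have hsub : ∀ v' ∈ Groth.Agent.Lib.Helper9.Sat.satSet ((Desc.SchDDFam.ofSchDD.{u} p).obj D) {v},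
      v' ∈ V₀ := fun v' hv' => by
    rw [hV₀]
    exact Groth.Agent.Lib.Helper9.Sat.base_of_mem_satSet ((Desc.SchDDFam.ofSchDD.{u} p).obj D) {v}
      (Y₀ : Set Y)
      (fun w hw => by rw [Set.mem_singleton_iff] at hw; rw [hw]; exact hy) v' hv'
  have hZ : (V₀.ι ⁻¹'
      Groth.Agent.Lib.Helper9.Sat.satSet ((Desc.SchDDFam.ofSchDD.{u} p).obj D) {v}).Finite :=
    hfin.preimage (V₀.ι.injective.injOn)
  obtain ⟨n, s, hZs, -, haff⟩ :=
    Groth.Agent.Lib.Helper28.GenLocus.exists_affine_genLocus_of_finite hA _ hZ ⊤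
      (fun _ _ => trivial)
  have himg : IsAffineOpen (V₀.ι ''ᵁ (CohB1.genLocus _ s)) :=
    haff.image_of_isOpenImmersion V₀.ι
  refine ⟨V₀.ι ''ᵁ (CohB1.genLocus _ s), himg, fun v' hv' => ?_⟩
  exact ⟨⟨v', hsub v' hv'⟩, hZs (by exact hv'), rfl⟩

end Groth.Agent.S7521
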