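import Groth.Statements.S7522
import Mathlib
-- import your own Groth.Agent.* helpers here

set_option autoImplicit false
universe u
open CategoryTheory CategoryTheory.Limits AlgebraicGeometry
open Grpd

namespace Groth.Agent.S7522

/-- Let S be a scheme, U a scheme over S and j : R -> U x_S U a pre-equivalence relation, that is a
morphism such that for every scheme T the image of the T-points of R in pairs of T-points of U is an
equivalence relation; write t = pr_0 ∘ j and s = pr_1 ∘ j. Then the relation on the points of U in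
which x ∼ y when some point r of R has t(r) = x and s(r) = y is an equivalence relation. -/
theorem result {S U R : Scheme.{u}} (pU : U ⟶ S) (j : R ⟶ pullback pU pU) (hj : ∀ T : Scheme.{u}, Equivalence (fun a b : T ⟶ U => ∃ r : T ⟶ R, r ≫ j ≫ pullback.fst pU pU = a ∧ r ≫ j ≫ pullback.snd pU pU = b)) : Equivalence (fun x y : ↥U => ∃ r : R, (j ≫ pullback.fst pU pU) r = x ∧ (j ≫ pullback.snd pU pU) r = y) := by
  classical
  set t : R ⟶ U := j ≫ pullback.fst pU pU with ht
  set s : R ⟶ U := j ≫ pullback.snd pU pU with hs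
  refine ⟨?_, ?_, ?_⟩
  · -- reflexive
    intro x
    let a : Spec (U.residueField x) ⟶ U := U.fromSpecResidueField x
    obtain ⟨r, hr1, hr2⟩ := (hj (Spec (U.residueField x))).refl a
    let pt : Spec (U.residueField x) := IsLocalRing.closedPoint (U.residueField x)
    refine ⟨r pt, ?_, ?_⟩
    · change t (r pt) = x
      rw [← Scheme.Hom.comp_apply]
      change (r ≫ j ≫ pullback.fst pU pU) pt = x
      rw [hr1]
      exact Scheme.fromSpecResidueField_apply x pt
    · change s (r pt) = x
      rw [← Scheme.Hom.comp_apply]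
      change (r ≫ j ≫ pullback.snd pU pU) pt = x
      rw [hr2]
      exact Scheme.fromSpecResidueField_apply x pt
  · -- symmetric
    rintro x y ⟨r₀, hx, hy⟩
    let ρ : Spec (R.residueField r₀) ⟶ R := R.fromSpecResidueField r₀
    have hrel : ∃ r : Spec (R.residueField r₀) ⟶ R,
        r ≫ j ≫ pullback.fst pU pU = ρ ≫ t ∧ r ≫ j ≫ pullback.snd pU pU = ρ ≫ s := ⟨ρ, rfl, rfl⟩
    obtain ⟨r', hr1, hr2⟩ := (hj (Spec (R.residueField r₀))).symm hrel
    let pt : Spec (R.residueField r₀) := IsLocalRing.closedPoint (R.residueField r₀)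
    have hρ : ρ pt = r₀ := Scheme.fromSpecResidueField_apply r₀ pt
    refine ⟨r' pt, ?_, ?_⟩
    · change t (r' pt) = y
      rw [← Scheme.Hom.comp_apply]
      change (r' ≫ j ≫ pullback.fst pU pU) pt = y
      rw [hr1, Scheme.Hom.comp_apply, hρ]
      exact hy
    · change s (r' pt) = x
      rw [← Scheme.Hom.comp_apply]
      change (r' ≫ j ≫ pullback.snd pU pU) pt = x
      rw [hr2, Scheme.Hom.comp_apply, hρ]
      exact hx
  · -- transitive
    rintro x y z ⟨r₁, hx, hy⟩ ⟨r₂, hy', hz⟩
    have hcond : s r₁ = t r₂ := hy.trans hy'.symm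
    obtain ⟨w, hw1, hw2⟩ := Scheme.Pullback.exists_preimage_pullback (f := s) (g := t) r₁ r₂ hcond
    let ω : Spec ((pullback s t).residueField w) ⟶ pullback s t :=
      (pullback s t).fromSpecResidueField w
    let T := Spec ((pullback s t).residueField w)
    let a₁ : T ⟶ R := ω ≫ pullback.fst s t
    let a₂ : T ⟶ R := ω ≫ pullback.snd s t
    have hcomm : a₁ ≫ s = a₂ ≫ t := by
      simp only [a₁, a₂, Category.assoc, pullback.condition]
    have h1 : ∃ r : T ⟶ R, r ≫ j ≫ pullback.fst pU pU = a₁ ≫ t ∧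
        r ≫ j ≫ pullback.snd pU pU = a₁ ≫ s := ⟨a₁, rfl, rfl⟩
    have h2 : ∃ r : T ⟶ R, r ≫ j ≫ pullback.fst pU pU = a₁ ≫ s ∧
        r ≫ j ≫ pullback.snd pU pU = a₂ ≫ s := ⟨a₂, hcomm.symm, rfl⟩
    obtain ⟨r₃, hr1, hr2⟩ := (hj T).trans h1 h2
    let pt : T := IsLocalRing.closedPoint ((pullback s t).residueField w)
    have hω : ω pt = w := Scheme.fromSpecResidueField_apply w pt
    refine ⟨r₃ pt, ?_, ?_⟩
    · change t (r₃ pt) = x
      rw [← Scheme.Hom.comp_apply]
      change (r₃ ≫ j ≫ pullback.fst pU pU) pt = x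
      rw [hr1]
      change (ω ≫ pullback.fst s t ≫ t) pt = x
      rw [Scheme.Hom.comp_apply, Scheme.Hom.comp_apply, hω, hw1]
      exact hx
    · change s (r₃ pt) = z
      rw [← Scheme.Hom.comp_apply]
      change (r₃ ≫ j ≫ pullback.snd pU pU) pt = z
      rw [hr2]
      change (ω ≫ pullback.snd s t ≫ s) pt = z
      rw [Scheme.Hom.comp_apply, Scheme.Hom.comp_apply, hω, hw2]
      exact hz

end Groth.Agent.S7522
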