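import Groth.Statements.S7523
import Groth.Agent.Lib.Helper24.Constructible

set_option autoImplicit false
universe u
open SpecSp

namespace Groth.Agent.S7523

/-- For a spectral map f : X → Y between spectral spaces, (1) f remains continuous once X and Y are both
given their constructible topologies, (2) every fibre of f is quasi-compact, and (3) f(X) is a
closed subset of Y for the constructible topology. -/
theorem result {X Y : Type u} [TopologicalSpace X] [TopologicalSpace Y]
    [SpectralSpace X] [SpectralSpace Y] (f : X → Y) (hf : IsSpectralMap f) :
    @Continuous X Y (constructibleTopology X) (constructibleTopology Y) f ∧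
    (∀ y : Y, IsCompact (f ⁻¹' {y})) ∧
    @IsClosed Y (constructibleTopology Y) (Set.range f) := by
  have hc := Groth.Agent.Lib.Helper24.continuous_constructible_of_isSpectralMap hf
  have t2Y : @T2Space Y (constructibleTopology Y) := Groth.Agent.Lib.Helper24.t2Space_constructible
  have cX : @CompactSpace X (constructibleTopology X) :=
    Groth.Agent.Lib.Helper24.compactSpace_constructible
  refine ⟨hc, ?_, ?_⟩
  · intro y
    apply Groth.Agent.Lib.Helper24.isCompact_of_isClosed_constructible
    have hy : @IsClosed Y (constructibleTopology Y) {y} :=
      @isClosed_singleton Y (constructibleTopology Y) _ y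
    exact @IsClosed.preimage X Y (constructibleTopology X) (constructibleTopology Y) f hc _ hy
  · exact @IsCompact.isClosed Y (constructibleTopology Y) t2Y _
      (@isCompact_range X Y (constructibleTopology X) (constructibleTopology Y) cX f hc)

end Groth.Agent.S7523
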