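import Groth.Statements.S7526
import Groth.Agent.Lib.Helper24.Constructible

set_option autoImplicit false
universe u
open SpecSp

namespace Groth.Agent.S7526

open Groth.Agent.Lib.Helper24 in
theorem exists_specializes {X : Type u} [TopologicalSpace X] [SpectralSpace X]
    (E : Set X) (hE : @IsClosed X (constructibleTopology X) E) (x : X) (hx : x ∈ closure E) :
    ∃ e ∈ E, e ⤳ x := by
  have cX : @CompactSpace X (constructibleTopology X) := compactSpace_constructible
  have hEc : @IsCompact X (constructibleTopology X) E :=
    @IsClosed.isCompact X (constructibleTopology X) E cX hE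
  let ι := {U : Set X // IsOpen U ∧ IsCompact U ∧ x ∈ U}
  have key := @IsCompact.inter_iInter_nonempty X (constructibleTopology X) E ι hEc
    (fun U => U.1) (fun U => isClosed_constructible_of_isCompact_isOpen U.2.2.1 U.2.1) (by
      intro u
      have ho : IsOpen (⋂ i ∈ u, (i : Set X)) := isOpen_biInter_finset fun i _ => i.2.1
      have hxm : x ∈ ⋂ i ∈ u, (i : Set X) := by
        simp only [Set.mem_iInter]
        intro i _
        exact i.2.2.2
      obtain ⟨y, hy1, hy2⟩ := mem_closure_iff.mp hx _ ho hxm
      exact ⟨y, hy2, hy1⟩)
  obtain ⟨e, heE, he⟩ := key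
  refine ⟨e, heE, ?_⟩
  rw [specializes_iff_forall_open]
  intro s hs hxs
  obtain ⟨V, ⟨hVo, hVc⟩, hxV, hVs⟩ :=
    (PrespectralSpace.isTopologicalBasis (X := X)).exists_subset_of_mem_open hxs hs
  apply hVs
  have := Set.mem_iInter.mp he ⟨V, hVo, hVc, hxV⟩
  exact this

/-- Let X be a spectral space. If E ⊆ X is closed in the constructible topology then (1) every point of
the closure of E is a specialization of some point of E, and (2) E is closed as soon as it is also
stable under specialization. (3) Any E' ⊆ X that is stable under generalization and constructibly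
open is open. -/
theorem result {X : Type u} [TopologicalSpace X] [SpectralSpace X] :
    (∀ E : Set X, @IsClosed X (constructibleTopology X) E →
      (∀ x ∈ closure E, ∃ e ∈ E, e ⤳ x) ∧ (StableUnderSpecialization E → IsClosed E)) ∧
    (∀ E' : Set X, @IsOpen X (constructibleTopology X) E' → StableUnderGeneralization E' → IsOpen E') := by
  have h1 : ∀ E : Set X, @IsClosed X (constructibleTopology X) E →
      (∀ x ∈ closure E, ∃ e ∈ E, e ⤳ x) ∧ (StableUnderSpecialization E → IsClosed E) := by
    intro E hE
    refine ⟨fun x hx => exists_specializes E hE x hx, fun hs => ?_⟩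
    rw [← closure_subset_iff_isClosed]
    intro x hx
    obtain ⟨e, he, hex⟩ := exists_specializes E hE x hx
    exact hs hex he
  refine ⟨h1, ?_⟩
  intro E' hE' hg
  rw [← isClosed_compl_iff]
  apply (h1 E'ᶜ ?_).2 hg.compl
  exact @IsOpen.isClosed_compl X (constructibleTopology X) E' hE'

end Groth.Agent.S7526
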