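import Groth.Statements.S7527
import Groth.Agent.Lib.Helper27.Spectral

set_option autoImplicit false
universe u
open SpecSp

namespace Groth.Agent.S7527

/-- Let X be a spectral space and x, y ∈ X. Then either there is a third point specializing to both x
and y, or there are disjoint open neighbourhoods of x and of y. -/
theorem result {X : Type u} [TopologicalSpace X] [SpectralSpace X] (x y : X) :
    (∃ z : X, z ⤳ x ∧ z ⤳ y) ∨
    (∃ U V : Set X, IsOpen U ∧ IsOpen V ∧ x ∈ U ∧ y ∈ V ∧ Disjoint U V) := by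
  by_cases hdisj : ∃ U V : Set X, IsOpen U ∧ IsOpen V ∧ x ∈ U ∧ y ∈ V ∧ Disjoint U V
  · exact Or.inr hdisj
  left
  have hcs := Groth.Agent.Lib.Helper27.compactSpace_constructibleTopology (X := X)
  let I := {p : Set X × Set X // IsOpen p.1 ∧ IsCompact p.1 ∧ x ∈ p.1 ∧
    IsOpen p.2 ∧ IsCompact p.2 ∧ y ∈ p.2}
  have : Nonempty I := ⟨⟨(Set.univ, Set.univ), isOpen_univ, isCompact_univ, Set.mem_univ _,
    isOpen_univ, isCompact_univ, Set.mem_univ _⟩⟩
  let t : I → Set X := fun p => p.1.1 ∩ p.1.2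
  have hcl : ∀ p, @IsClosed X (constructibleTopology X) (t p) := fun p =>
    @IsClosed.inter X _ _ (constructibleTopology X)
      (Groth.Agent.Lib.Helper27.isClosed_constructibleTopology_of_isOpen_isCompact p.2.1 p.2.2.1)
      (Groth.Agent.Lib.Helper27.isClosed_constructibleTopology_of_isOpen_isCompact
        p.2.2.2.2.1 p.2.2.2.2.2.1)
  have hdir : Directed (· ⊇ ·) t := by
    intro p q
    refine ⟨⟨(p.1.1 ∩ q.1.1, p.1.2 ∩ q.1.2), p.2.1.inter q.2.1,
      p.2.2.1.inter_of_isOpen q.2.2.1 p.2.1 q.2.1, ⟨p.2.2.2.1, q.2.2.2.1⟩,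
      p.2.2.2.2.1.inter q.2.2.2.2.1,
      p.2.2.2.2.2.1.inter_of_isOpen q.2.2.2.2.2.1 p.2.2.2.2.1 q.2.2.2.2.1,
      ⟨p.2.2.2.2.2.2, q.2.2.2.2.2.2⟩⟩, ?_, ?_⟩
    · intro z hz
      exact ⟨hz.1.1, hz.2.1⟩
    · intro z hz
      exact ⟨hz.1.2, hz.2.2⟩
  have hne : (⋂ p, t p).Nonempty := by
    by_contra hemp
    rw [Set.not_nonempty_iff_eq_empty] at hemp
    obtain ⟨p, hp⟩ := @IsCompact.elim_directed_family_closed X (constructibleTopology X) _ I _
      (@isCompact_univ X (constructibleTopology X) hcs) t hcl (by rw [Set.univ_inter, hemp]) hdir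
    rw [Set.univ_inter] at hp
    apply hdisj
    exact ⟨p.1.1, p.1.2, p.2.1, p.2.2.2.2.1, p.2.2.2.1, p.2.2.2.2.2.2,
      Set.disjoint_iff_inter_eq_empty.mpr hp⟩
  obtain ⟨z, hz⟩ := hne
  rw [Set.mem_iInter] at hz
  refine ⟨z, ?_, ?_⟩
  · rw [specializes_iff_forall_open]
    intro s hs hxs
    obtain ⟨U, ⟨hUo, hUc⟩, hxU, hUs⟩ :=
      PrespectralSpace.isTopologicalBasis.exists_subset_of_mem_open hxs hs
    exact hUs (hz ⟨(U, Set.univ), hUo, hUc, hxU, isOpen_univ, isCompact_univ, Set.mem_univ _⟩).1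
  · rw [specializes_iff_forall_open]
    intro s hs hys
    obtain ⟨U, ⟨hUo, hUc⟩, hyU, hUs⟩ :=
      PrespectralSpace.isTopologicalBasis.exists_subset_of_mem_open hys hs
    exact hUs (hz ⟨(Set.univ, U), isOpen_univ, isCompact_univ, Set.mem_univ _, hUo, hUc, hyU⟩).2

end Groth.Agent.S7527
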