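import Groth.Statements.S7540
import Groth.Agent.Lib.Helper27.Spectral

set_option autoImplicit false
universe u
open SpecSp

namespace Groth.Agent.S7540

/-- Let X be a spectral space, I a nonempty index set and U_i ⊆ X quasi-compact opens such that for all
i, j some U_k lies in U_i ∩ U_j; put W = ⋂ U_i. Then every open subset of X containing W contains
some U_i. The published statement also asserts that W is spectral and is the limit of the U_i; this
row states the neighbourhood property. -/
theorem result {X : Type u} [TopologicalSpace X] [SpectralSpace X]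
    {I : Type u} [Nonempty I] (U : I → Set X) (hU : ∀ i, IsOpen (U i) ∧ IsCompact (U i))
    (hdir : ∀ i j, ∃ k, U k ⊆ U i ∩ U j) :
    ∀ V : Set X, IsOpen V → (⋂ i, U i) ⊆ V → ∃ i, U i ⊆ V := by
  intro V hV hWV
  have hcs := Groth.Agent.Lib.Helper27.compactSpace_constructibleTopology (X := X)
  have hcl : ∀ i, @IsClosed X (constructibleTopology X) (U i ∩ Vᶜ) := fun i =>
    @IsClosed.inter X _ _ (constructibleTopology X)
      (Groth.Agent.Lib.Helper27.isClosed_constructibleTopology_of_isOpen_isCompact (hU i).1 (hU i).2)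
      (Groth.Agent.Lib.Helper27.isClosed_constructibleTopology_of_isClosed hV.isClosed_compl)
  have hdir' : Directed (· ⊇ ·) (fun i => U i ∩ Vᶜ) := by
    intro i j
    obtain ⟨k, hk⟩ := hdir i j
    exact ⟨k, Set.inter_subset_inter_left _ (hk.trans Set.inter_subset_left),
      Set.inter_subset_inter_left _ (hk.trans Set.inter_subset_right)⟩
  have hemp : (Set.univ ∩ ⋂ i, (U i ∩ Vᶜ)) = ∅ := by
    rw [Set.univ_inter, ← Set.iInter_inter, Set.eq_empty_iff_forall_notMem]
    rintro x ⟨hx1, hx2⟩
    exact hx2 (hWV hx1)
  obtain ⟨i, hi⟩ := @IsCompact.elim_directed_family_closed X (constructibleTopology X) _ I _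
    (@isCompact_univ X (constructibleTopology X) hcs) (fun i => U i ∩ Vᶜ) hcl hemp hdir'
  refine ⟨i, fun x hx => ?_⟩
  by_contra hxV
  have : x ∈ Set.univ ∩ (U i ∩ Vᶜ) := ⟨Set.mem_univ x, hx, hxV⟩
  rw [hi] at this
  exact this

end Groth.Agent.S7540
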