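import Groth.Statements.S7542
-- import your own Groth.Agent.* helpers here

set_option autoImplicit false
universe u
open ConstrTop

namespace Groth.Agent.S7542

/-- Let X be a topological space such that the quasi-compact opens form a basis for the topology, and
let T ⊆ X be retrocompact in X. Then for any constructible subset E ⊆ X, the intersection E ∩ T is
constructible in T (with the induced topology). -/
theorem result {X : Type u} [TopologicalSpace X] [PrespectralSpace X]
    (T : Set X) (hT : IsRetrocompact T) (E : Set X) (hE : Topology.IsConstructible E) :
    Topology.IsConstructible ((Subtype.val : T → X) ⁻¹' E) := by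
  refine hE.preimage continuous_subtype_val (fun s hso hsr U hUc hUo => ?_)
  obtain ⟨U', hU'o, rfl⟩ := isOpen_induced_iff.mp hUo
  obtain ⟨W, hWc, hWo, hKW, hWU'⟩ := PrespectralSpace.exists_isCompact_and_isOpen_between
    (hUc.image continuous_subtype_val) hU'o (by
      rintro _ ⟨t, ht, rfl⟩
      exact ht)
  have hUW : (Subtype.val : T → X) ⁻¹' U' = Subtype.val ⁻¹' W := by
    ext t
    constructor
    · intro ht
      exact hKW ⟨t, ht, rfl⟩
    · intro ht
      exact hWU' ht
  rw [hUW, ← Set.preimage_inter, Subtype.isCompact_iff, Subtype.image_preimage_coe]
  exact hT (hsr hWc hWo) (hso.inter hWo)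

end Groth.Agent.S7542
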