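import Groth.Statements.S7546
import Groth.Agent.Lib.helper11.ConstrTop2

set_option autoImplicit false
universe u
open ConstrTop

namespace Groth.Agent.S7546

/-- Let X be a topological space, Z ⊆ X irreducible and E ⊆ X a finite union of locally closed subsets
(for instance a constructible set). Then E ∩ Z is dense in Z if and only if E ∩ Z contains a subset
of the form U ∩ Z, U open in X, which is dense in Z. If moreover ξ ∈ Z is a generic point of Z,
these conditions are equivalent to ξ ∈ E. -/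
theorem result {X : Type u} [TopologicalSpace X] (Z : Set X) (hZ : IsIrreducible Z)
    {n : ℕ} (L : Fin n → Set X) (hL : ∀ i, IsLocallyClosed (L i)) (E : Set X) (hE : E = ⋃ i, L i) :
    (Z ⊆ closure (E ∩ Z) ↔ ∃ U : Set X, IsOpen U ∧ U ∩ Z ⊆ E ∧ Z ⊆ closure (U ∩ Z)) ∧
    (∀ ξ : X, ξ ∈ Z → Z ⊆ closure {ξ} → (Z ⊆ closure (E ∩ Z) ↔ ξ ∈ E)) := by
  have hD : Groth.Agent.Lib.helper11.ConstrTop.Dich Z E := by
    rw [hE]
    exact Groth.Agent.Lib.helper11.ConstrTop.Dich.iUnion_fintype hZ L
      (fun i => Groth.Agent.Lib.helper11.ConstrTop.Dich.of_isLocallyClosed hZ (hL i))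
  constructor
  · constructor
    · intro hd
      obtain ⟨U, hU, hne, hsub⟩ := hD.exists_open_of_dense hd
      exact ⟨U, hU, hsub,
        Groth.Agent.Lib.helper11.ConstrTop.subset_closure_of_open_inter hZ hU hne⟩
    · rintro ⟨U, _, hsub, hd⟩
      exact hd.trans (closure_mono (fun x hx => ⟨hsub hx, hx.2⟩))
  · intro ξ hξZ hξ
    constructor
    · intro hd
      obtain ⟨U, hU, ⟨y, hyU, hyZ⟩, hsub⟩ := hD.exists_open_of_dense hd
      have hy : y ∈ closure {ξ} := hξ hyZ
      rw [mem_closure_iff] at hy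
      obtain ⟨z, hzU, hz⟩ := hy U hU hyU
      rw [Set.mem_singleton_iff] at hz
      subst hz
      exact hsub ⟨hzU, hξZ⟩
    · intro hξE
      exact hξ.trans (closure_mono (Set.singleton_subset_iff.mpr ⟨hξE, hξZ⟩))

end Groth.Agent.S7546
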