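import Groth.Statements.S7547
-- import your own Groth.Agent.* helpers here

set_option autoImplicit false
universe u
open PtTop

namespace Groth.Agent.S7547

/-- Let X be a Kolmogorov topological space whose quasi-compact opens form a basis for the topology. If
X is not Jacobson, there is a point x ∈ X which is not closed but such that {x} is locally closed. -/
theorem result {X : Type u} [TopologicalSpace X]
    [T0Space X] [PrespectralSpace X] (hX : ¬ JacobsonSpace X) :
    ∃ x : X, ¬ IsClosed ({x} : Set X) ∧ IsLocallyClosed ({x} : Set X) := by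
  rw [jacobsonSpace_iff_locallyClosed] at hX
  push Not at hX
  obtain ⟨Z, ⟨z, hz⟩, ⟨U, C, hU, hC, rfl⟩, hemp⟩ := hX
  obtain ⟨V, ⟨hVo, hVc⟩, hzV, hVU⟩ :=
    PrespectralSpace.isTopologicalBasis.exists_subset_of_mem_open hz.1 hU
  have : CompactSpace ↥V := isCompact_iff_compactSpace.mp hVc
  have hS : IsClosed ((Subtype.val : ↥V → X) ⁻¹' C) := hC.preimage continuous_subtype_val
  have hSne : ((Subtype.val : ↥V → X) ⁻¹' C).Nonempty := ⟨⟨z, hzV⟩, hz.2⟩
  obtain ⟨x, hxS, hx⟩ := hS.exists_closed_singleton hSne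
  obtain ⟨D, hD, hDx⟩ := isClosed_induced_iff.mp hx
  have heq : ({x.1} : Set X) = V ∩ D := by
    ext y
    constructor
    · rintro rfl
      refine ⟨x.2, ?_⟩
      have : x ∈ (Subtype.val : ↥V → X) ⁻¹' D := by rw [hDx]; rfl
      exact this
    · rintro ⟨hyV, hyD⟩
      have : (⟨y, hyV⟩ : ↥V) ∈ (Subtype.val : ↥V → X) ⁻¹' D := hyD
      rw [hDx] at this
      exact congrArg Subtype.val this
  refine ⟨x.1, ?_, ?_⟩
  · intro hcl
    have : x.1 ∈ (U ∩ C) ∩ closedPoints X := ⟨⟨hVU x.2, hxS⟩, hcl⟩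
    rw [hemp] at this
    exact this
  · rw [heq]
    exact hVo.isLocallyClosed.inter hD.isLocallyClosed

end Groth.Agent.S7547
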