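import Groth.Statements.S7548
-- import your own Groth.Agent.* helpers here

set_option autoImplicit false
universe u
open PtTop

namespace Groth.Agent.S7548

/-- Let X be a Jacobson space and let T = ⋃ T_i be a union of subsets T_i ⊆ X each locally closed in X
(open, closed, locally closed and constructible subsets are of this form). Then T is Jacobson and
every point of T closed in T is closed in X. -/
theorem result {X : Type u} [TopologicalSpace X] [JacobsonSpace X]
    {ι : Type u} (T : ι → Set X) (hT : ∀ i, IsLocallyClosed (T i)) :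
    JacobsonSpace ↥(⋃ i, T i) ∧
      closedPoints ↥(⋃ i, T i) ⊆ (Subtype.val : ↥(⋃ i, T i) → X) ⁻¹' closedPoints X := by
  constructor
  · rw [jacobsonSpace_iff_locallyClosed]
    rintro Z ⟨z, hz⟩ ⟨U, Z₀, hU, hZ₀, rfl⟩
    obtain ⟨U', hU', rfl⟩ := isOpen_induced_iff.mp hU
    obtain ⟨C', hC', rfl⟩ := isClosed_induced_iff.mp hZ₀
    obtain ⟨i, hi⟩ := Set.mem_iUnion.mp z.2
    have hlc : IsLocallyClosed ((U' ∩ C') ∩ T i) :=
      (hU'.isLocallyClosed.inter hC'.isLocallyClosed).inter (hT i)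
    have hne : ((U' ∩ C') ∩ T i).Nonempty := ⟨z.1, ⟨hz.1, hz.2⟩, hi⟩
    obtain ⟨y, ⟨⟨hyU, hyC⟩, hyT⟩, hy⟩ := nonempty_inter_closedPoints hne hlc
    have hyT' : y ∈ ⋃ i, T i := Set.mem_iUnion.mpr ⟨i, hyT⟩
    refine ⟨⟨y, hyT'⟩, ⟨hyU, hyC⟩, ?_⟩
    have hcl : IsClosed ((Subtype.val : ↥(⋃ i, T i) → X) ⁻¹' {y}) :=
      (mem_closedPoints_iff.mp hy).preimage continuous_subtype_val
    have heq : (Subtype.val : ↥(⋃ i, T i) → X) ⁻¹' {y} = {⟨y, hyT'⟩} := by
      ext w
      simp [Subtype.ext_iff]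
    rw [mem_closedPoints_iff, ← heq]
    exact hcl
  · intro x hx
    rw [mem_closedPoints_iff] at hx
    obtain ⟨C, hC, hCx⟩ := isClosed_induced_iff.mp hx
    obtain ⟨i, hi⟩ := Set.mem_iUnion.mp x.2
    have heq : ({x.1} : Set X) = T i ∩ C := by
      ext y
      constructor
      · rintro rfl
        refine ⟨hi, ?_⟩
        have : x ∈ (Subtype.val : ↥(⋃ i, T i) → X) ⁻¹' C := by rw [hCx]; rfl
        exact this
      · rintro ⟨hyT, hyC⟩
        have hyT' : y ∈ ⋃ i, T i := Set.mem_iUnion.mpr ⟨i, hyT⟩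
        have : (⟨y, hyT'⟩ : ↥(⋃ i, T i)) ∈ (Subtype.val : ↥(⋃ i, T i) → X) ⁻¹' C := hyC
        rw [hCx] at this
        exact congrArg Subtype.val this
    change IsClosed ({x.1} : Set X)
    apply isClosed_singleton_of_isLocallyClosed_singleton
    rw [heq]
    exact (hT i).inter hC.isLocallyClosed

end Groth.Agent.S7548
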