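import Groth.Statements.S7550
-- import your own Groth.Agent.* helpers here

set_option autoImplicit false
universe u
open PtTop

namespace Groth.Agent.S7550

/-- Let f : X → Y be a continuous and open map of topological spaces, with X Noetherian, every
irreducible closed subset of X having a generic point, and Y Kolmogorov. Then generalizations lift
along f. (Part (1), closed maps are specializing, is a library fact.) -/
theorem result {X Y : Type u} [TopologicalSpace X] [TopologicalSpace Y]
    [TopologicalSpace.NoetherianSpace X] [QuasiSober X] [T0Space Y]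
    (f : X → Y) (hf : Continuous f) (hfo : IsOpenMap f) :
    GeneralizingMap f := by
  intro x y' h
  set T : Set X := f ⁻¹' {y'} with hTdef
  -- `x` lies in the closure of the fibre
  have hxT : x ∈ closure T := by
    rw [mem_closure_iff]
    intro U hU hxU
    have : y' ∈ f '' U := h.mem_open (hfo U hU) ⟨x, hxU, rfl⟩
    obtain ⟨u, huU, hu⟩ := this
    exact ⟨u, huU, hu⟩
  -- minimal closed set `C` with `x ∈ closure (T ∩ C)`
  let S : Set (TopologicalSpace.Closeds X) := {C | x ∈ closure (T ∩ (C : Set X))}
  have hS : S.Nonempty := ⟨⊤, by simpa [S] using hxT⟩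
  obtain ⟨C, hC, hmin⟩ := wellFounded_lt.has_min S hS
  have hCx : x ∈ closure (T ∩ (C : Set X)) := hC
  have hmin' : ∀ W : Set X, IsClosed W → W ⊆ (C : Set X) → x ∈ closure (T ∩ W) →
      (C : Set X) ⊆ W := by
    intro W hW hWC hxW
    by_contra hne
    have hlt : (⟨W, hW⟩ : TopologicalSpace.Closeds X) < C := by
      rw [← SetLike.coe_ssubset_coe]
      exact ⟨hWC, hne⟩
    exact hmin ⟨W, hW⟩ hxW hlt
  have hCc : IsClosed (C : Set X) := C.isClosed
  have hCeq : (C : Set X) = closure (T ∩ (C : Set X)) := by
    apply subset_antisymm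
    · apply hmin' _ isClosed_closure (closure_minimal Set.inter_subset_right hCc)
      have hsub : T ∩ (C : Set X) ⊆ T ∩ closure (T ∩ (C : Set X)) :=
        fun z hz => ⟨hz.1, subset_closure hz⟩
      exact closure_mono hsub hCx
    · exact closure_minimal Set.inter_subset_right hCc
  have hxC : x ∈ (C : Set X) := by rw [hCeq]; exact hCx
  have hCirr : IsIrreducible (C : Set X) := by
    refine ⟨⟨x, hxC⟩, ?_⟩
    rw [isPreirreducible_iff_isClosed_union_isClosed]
    intro z₁ z₂ hz₁ hz₂ hsub
    have hcov : T ∩ (C : Set X) ⊆ (T ∩ ((C : Set X) ∩ z₁)) ∪ (T ∩ ((C : Set X) ∩ z₂)) := by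
      rintro z ⟨hzT, hzC⟩
      rcases hsub hzC with hz | hz
      · exact Or.inl ⟨hzT, hzC, hz⟩
      · exact Or.inr ⟨hzT, hzC, hz⟩
    have := closure_mono hcov hCx
    rw [closure_union] at this
    rcases this with hx1 | hx2
    · left
      exact (hmin' _ (hCc.inter hz₁) Set.inter_subset_left hx1).trans Set.inter_subset_right
    · right
      exact (hmin' _ (hCc.inter hz₂) Set.inter_subset_left hx2).trans Set.inter_subset_right
  obtain ⟨ξ, hξ⟩ := QuasiSober.sober hCirr hCc
  refine ⟨ξ, hξ.specializes hxC, ?_⟩
  have h1 : y' ⤳ f ξ := by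
    rw [specializes_iff_mem_closure]
    have hξC : ξ ∈ closure (T ∩ (C : Set X)) := by rw [← hCeq]; exact hξ.mem
    have := image_closure_subset_closure_image hf ⟨ξ, hξC, rfl⟩
    refine closure_mono ?_ this
    rintro _ ⟨z, ⟨hzT, _⟩, rfl⟩
    exact hzT
  have hne : (T ∩ (C : Set X)).Nonempty := by
    by_contra hemp
    rw [Set.not_nonempty_iff_eq_empty] at hemp
    rw [hemp, closure_empty] at hCx
    exact hCx
  obtain ⟨t, htT, htC⟩ := hne
  have h2 : f ξ ⤳ y' := by
    have := (hξ.specializes htC).map hf
    rwa [show f t = y' from htT] at this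
  exact (h2.antisymm h1).eq

end Groth.Agent.S7550
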