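import Groth.Statements.S7551
import Mathlib

set_option autoImplicit false
universe u
open PtTop

namespace Groth.Agent.S7551

/-- Let s, t : R → U and π : U → X be continuous maps between topological spaces satisfying: (1) π is an
open map, (2) U is a sober space, (3) s and t have finite fibres, (4) generalizations lift along s
and along t, and (5) the image of (t, s) : R → U × U is an equivalence relation on U and π
identifies X, as a set, with the quotient of U by it. Then X is Kolmogorov. -/
theorem result {R U X : Type u}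
    [TopologicalSpace R] [TopologicalSpace U] [TopologicalSpace X] [QuasiSober U] [T0Space U]
    (s t : R → U) (π : U → X) (hs : Continuous s) (ht : Continuous t) (hπ : Continuous π)
    (hπo : IsOpenMap π) (hsf : ∀ u, (s ⁻¹' {u}).Finite) (htf : ∀ u, (t ⁻¹' {u}).Finite)
    (hsg : GeneralizingMap s) (htg : GeneralizingMap t)
    (hE : Equivalence fun u u' : U => ∃ r, t r = u ∧ s r = u')
    (hπs : Function.Surjective π) (hπq : ∀ u u' : U, π u = π u' ↔ ∃ r, t r = u ∧ s r = u') :
    T0Space X := by
  classical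
  have hfib : ∀ x : X, (π ⁻¹' {x}).Finite := by
    intro x
    obtain ⟨u₀, rfl⟩ := hπs x
    refine ((htf u₀).image s).subset ?_
    intro u hu
    have hu' : π u₀ = π u := by
      have : π u = π u₀ := hu
      exact this.symm
    obtain ⟨r, hr1, hr2⟩ := (hπq u₀ u).1 hu'
    exact ⟨r, hr1, hr2⟩
  have lift : ∀ x x' : X, Inseparable x x' → ∀ u, π u = x → ∃ u', π u' = x' ∧ u' ⤳ u := by
    intro x x' hxx' u hu
    have hcl : u ∈ closure (π ⁻¹' {x'}) := by
      rw [mem_closure_iff]
      intro V hV huV
      have hx' : x' ∈ π '' V := by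
        rw [← (inseparable_iff_forall_isOpen.1 hxx') (π '' V) (hπo V hV)]
        exact ⟨u, huV, hu⟩
      obtain ⟨v, hvV, hv⟩ := hx'
      exact ⟨v, hvV, hv⟩
    rw [← Set.biUnion_of_singleton (π ⁻¹' {x'}), (hfib x').closure_biUnion] at hcl
    simp only [Set.mem_iUnion] at hcl
    obtain ⟨u', hu', hcl'⟩ := hcl
    exact ⟨u', hu', specializes_iff_mem_closure.2 hcl'⟩
  rw [t0Space_iff_inseparable]
  intro x x' hxx'
  letI := specializationPreorder U
  have hfin : (π ⁻¹' {x} ∪ π ⁻¹' {x'}).Finite := (hfib x).union (hfib x')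
  obtain ⟨u₀, hu₀⟩ := hπs x
  obtain ⟨m, hmF, hmax⟩ := hfin.exists_maximal ⟨u₀, Or.inl hu₀⟩
  rcases hmF with hm | hm
  · have hm' : π m = x := hm
    obtain ⟨u', hu', hsp⟩ := lift x x' hxx' m hm'
    have h2 : m ⤳ u' := hmax (Or.inr hu') hsp
    have heq : u' = m := (hsp.antisymm h2).eq
    rw [← hm', ← hu', heq]
  · have hm' : π m = x' := hm
    obtain ⟨u', hu', hsp⟩ := lift x' x hxx'.symm m hm'
    have h2 : m ⤳ u' := hmax (Or.inl hu') hsp
    have heq : u' = m := (hsp.antisymm h2).eq
    rw [← hm', ← hu', heq]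

end Groth.Agent.S7551
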