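import Groth.Statements.S7557
import Mathlib.Tactic
import Mathlib.Topology.Category.TopCommRingCat
import Mathlib.Topology.Category.TopCat.Limits.Basic
import Mathlib.Algebra.Category.Ring.Limits

set_option autoImplicit false
universe u
open CategoryTheory CategoryTheory.Limits
open PtTop

namespace Groth.Agent.S7557

section
variable {J : Type u} [SmallCategory J] (F : J ⥤ TopCommRingCat.{u})

/-- sections subring -/
def secs : Subring (∀ j, F.obj j) where
  carrier := {x | ∀ {i j : J} (f : i ⟶ j), (F.map f).1 (x i) = x j}
  mul_mem' := by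
    intro a b ha hb i j f
    simp only [Pi.mul_apply, map_mul, ha f, hb f]
  one_mem' := by
    intro i j f
    simp only [Pi.one_apply, map_one]
  add_mem' := by
    intro a b ha hb i j f
    simp only [Pi.add_apply, map_add, ha f, hb f]
  zero_mem' := by
    intro i j f
    simp only [Pi.zero_apply, map_zero]
  neg_mem' := by
    intro a ha i j f
    simp only [Pi.neg_apply, map_neg, ha f]

/-- the projections -/
def proj (j : J) : secs F →+* F.obj j := (Pi.evalRingHom _ j).comp (secs F).subtype

lemma proj_apply (j : J) (x : secs F) : proj F j x = x.1 j := rfl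

lemma proj_cont (j : J) : Continuous (proj F j) :=
  (continuous_apply j).comp continuous_subtype_val

/-- the limit cone -/
def lcone : Cone F where
  pt := TopCommRingCat.of (secs F)
  π := { app := fun j => ⟨proj F j, proj_cont F j⟩
         naturality := by
           intro i j f
           refine Eq.trans (Category.id_comp _) ?_
           apply Subtype.ext
           apply RingHom.ext
           intro x
           exact (x.2 f).symm }

/-- general lift into sections -/
def lft {R : Type u} [CommRing R] (g : ∀ j, R →+* F.obj j)
    (hg : ∀ {i j : J} (f : i ⟶ j), (F.map f).1.comp (g i) = g j) : R →+* secs F :=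
  RingHom.codRestrict (RingHom.pi g) (secs F) (by
    intro x i j f
    exact congrArg (fun h : R →+* F.obj j => h x) (hg f))

lemma lft_apply {R : Type u} [CommRing R] (g : ∀ j, R →+* F.obj j)
    (hg : ∀ {i j : J} (f : i ⟶ j), (F.map f).1.comp (g i) = g j) (x : R) (j : J) :
    (lft F g hg x).1 j = g j x := rfl

lemma lft_cont {R : Type u} [CommRing R] [TopologicalSpace R] (g : ∀ j, R →+* F.obj j)
    (hg : ∀ {i j : J} (f : i ⟶ j), (F.map f).1.comp (g i) = g j)
    (hc : ∀ j, Continuous (g j)) : Continuous (lft F g hg) :=
  Continuous.subtype_mk (continuous_pi hc) _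


lemma cone_w (s : Cone F) {i j : J} (f : i ⟶ j) :
    (F.map f).1.comp (s.π.app i).1 = (s.π.app j).1 :=
  congrArg Subtype.val (s.w f)

/-- the limit property -/
def lisLimit : IsLimit (lcone F) where
  lift s := ⟨lft F (fun j => (s.π.app j).1) (fun f => cone_w F s f),
    lft_cont F _ _ (fun j => (s.π.app j).2)⟩
  fac s j := by
    apply Subtype.ext
    apply RingHom.ext
    intro x
    rfl
  uniq s m hm := by
    apply Subtype.ext
    apply RingHom.ext
    intro x
    apply Subtype.ext
    funext j
    exact congrArg (fun g : s.pt ⟶ F.obj j => g.1 x) (hm j)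

/-- limit property of the underlying cone of rings -/
def lisLimitRing : IsLimit ((forget₂ TopCommRingCat.{u} CommRingCat.{u}).mapCone (lcone F)) where
  lift t := CommRingCat.ofHom (lft F (fun j => (t.π.app j).hom) (fun f => by
    have := congrArg CommRingCat.Hom.hom (t.w f)
    exact this))
  fac t j := by
    ext x
    rfl
  uniq t m hm := by
    ext x
    apply Subtype.ext
    funext j
    have := congrArg (fun g : t.pt ⟶ (F ⋙ forget₂ TopCommRingCat.{u} CommRingCat.{u}).obj j => g.hom x) (hm j)
    exact this

lemma tcone_w (t : Cone (F ⋙ forget₂ TopCommRingCat.{u} TopCat.{u})) {i j : J} (f : i ⟶ j)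
    (x : t.pt) : (F.map f).1 ((t.π.app i).hom x) = (t.π.app j).hom x :=
  congrArg (fun g : t.pt ⟶ (F ⋙ forget₂ TopCommRingCat.{u} TopCat.{u}).obj j => g.hom x) (t.w f)

/-- the lift of a cone of spaces, as a function -/
def tlft (t : Cone (F ⋙ forget₂ TopCommRingCat.{u} TopCat.{u})) (x : t.pt) : secs F :=
  ⟨fun j => (t.π.app j).hom x, fun f => tcone_w F t f x⟩

lemma tlft_cont (t : Cone (F ⋙ forget₂ TopCommRingCat.{u} TopCat.{u})) :
    Continuous (tlft F t) :=
  Continuous.subtype_mk (continuous_pi fun j => (t.π.app j).hom.continuous) _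

/-- limit property of the underlying cone of spaces -/
def lisLimitTop : IsLimit ((forget₂ TopCommRingCat.{u} TopCat.{u}).mapCone (lcone F)) where
  lift t := TopCat.ofHom ⟨tlft F t, tlft_cont F t⟩
  fac t j := by
    ext x
    rfl
  uniq t m hm := by
    ext x
    apply Subtype.ext
    funext j
    have := congrArg (fun g : t.pt ⟶ (F ⋙ forget₂ TopCommRingCat.{u} TopCat.{u}).obj j => g.hom x) (hm j)
    exact this

end


/-- The category of topological rings (commutative, with continuous ring homomorphisms) has limits, and
limits commute with the forgetful functors to topological spaces and to rings. -/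
theorem result :
    HasLimits TopCommRingCat.{u} ∧
    PreservesLimits (forget₂ TopCommRingCat.{u} TopCat.{u}) ∧
    PreservesLimits (forget₂ TopCommRingCat.{u} CommRingCat.{u}) := by
  have h1 : HasLimits TopCommRingCat.{u} :=
    ⟨fun J _ => ⟨fun F => HasLimit.mk ⟨lcone F, lisLimit F⟩⟩⟩
  refine ⟨h1, ⟨fun {J} _ => ⟨fun {F} => ?_⟩⟩, ⟨fun {J} _ => ⟨fun {F} => ?_⟩⟩⟩
  · exact preservesLimit_of_preserves_limit_cone (lisLimit F) (lisLimitTop F)
  · exact preservesLimit_of_preserves_limit_cone (lisLimit F) (lisLimitRing F)

end Groth.Agent.S7557
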