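import Groth.Statements.S7558
import Mathlib.Tactic
import Mathlib.Topology.Category.TopCommRingCat
import Mathlib.Algebra.Category.Ring.Colimits

set_option autoImplicit false
universe u
open CategoryTheory CategoryTheory.Limits
open PtTop

namespace Groth.Agent.S7558

section
variable {J : Type u} [SmallCategory J] (F : J ⥤ TopCommRingCat.{u})

/-- underlying diagram of rings -/
abbrev G : J ⥤ CommRingCat.{u} := F ⋙ forget₂ TopCommRingCat.{u} CommRingCat.{u}

/-- the colimit ring -/
abbrev C : Type u := (colimit (G F) : CommRingCat.{u})

/-- the structure maps as ring homs -/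
noncomputable def inc (j : J) : (F.obj j) →+* C F := (colimit.ι (G F) j).hom

/-- admissible topologies -/
def adm : Set (TopologicalSpace (C F)) :=
  {t | @IsTopologicalRing (C F) t _ ∧ ∀ j, @Continuous _ _ _ t (inc F j)}

/-- the colimit topology -/
def ctop : TopologicalSpace (C F) := sInf (adm F)

lemma ctop_ring : @IsTopologicalRing (C F) (ctop F) _ :=
  letI := ctop F
  { toContinuousAdd := continuousAdd_sInf fun t ht =>
      letI := t; haveI := ht.1; inferInstance
    toContinuousMul := continuousMul_sInf fun t ht =>
      letI := t; haveI := ht.1; inferInstance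
    toContinuousNeg := continuousNeg_sInf fun t ht =>
      letI := t; haveI := ht.1; inferInstance }

lemma inc_cont (j : J) : @Continuous _ _ _ (ctop F) (inc F j) :=
  continuous_sInf_rng.2 fun _ ht => ht.2 j


/-- the colimit object -/
noncomputable def cpt : TopCommRingCat.{u} :=
  @TopCommRingCat.of (C F) _ (ctop F) (ctop_ring F)

/-- the colimit cocone -/
noncomputable def ccocone : Cocone F where
  pt := cpt F
  ι := { app := fun j => ⟨inc F j, inc_cont F j⟩
         naturality := by
           intro i j f
           refine Eq.trans ?_ (Category.comp_id _).symm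
           apply Subtype.ext
           exact congrArg CommRingCat.Hom.hom (colimit.w (G F) f) }

/-- the induced ring map out of the colimit -/
noncomputable def dsc (s : Cocone F) : C F →+* s.pt :=
  (colimit.desc (G F) ((forget₂ TopCommRingCat.{u} CommRingCat.{u}).mapCocone s)).hom

lemma dsc_inc (s : Cocone F) (j : J) : (dsc F s).comp (inc F j) = (s.ι.app j).1 :=
  congrArg CommRingCat.Hom.hom
    (colimit.ι_desc ((forget₂ TopCommRingCat.{u} CommRingCat.{u}).mapCocone s) j)

lemma dsc_cont (s : Cocone F) : @Continuous _ _ (ctop F) _ (dsc F s) := by
  rw [continuous_iff_le_induced]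
  apply sInf_le
  refine ⟨?_, fun j => ?_⟩
  · letI := TopologicalSpace.induced (dsc F s) s.pt.isTopologicalSpace
    exact { toContinuousAdd := continuousAdd_induced (dsc F s)
            toContinuousMul := continuousMul_induced (dsc F s)
            toContinuousNeg := ContinuousNeg.induced (dsc F s) }
  · rw [continuous_induced_rng]
    have : (dsc F s) ∘ (inc F j) = (s.ι.app j).1 := by
      rw [← dsc_inc F s j]; rfl
    rw [this]
    exact (s.ι.app j).2

/-- the colimit property -/
noncomputable def cisColimit : IsColimit (ccocone F) where
  desc s := ⟨dsc F s, dsc_cont F s⟩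
  fac s j := by
    apply Subtype.ext
    exact dsc_inc F s j
  uniq s m hm := by
    apply Subtype.ext
    have : (CommRingCat.ofHom (show C F →+* s.pt from m.1) : colimit (G F) ⟶ CommRingCat.of s.pt) =
        colimit.desc (G F) ((forget₂ TopCommRingCat.{u} CommRingCat.{u}).mapCocone s) := by
      apply colimit.hom_ext
      intro j
      refine Eq.trans ?_ (colimit.ι_desc ((forget₂ TopCommRingCat.{u} CommRingCat.{u}).mapCocone s) j).symm
      ext x
      exact congrArg (fun g : F.obj j ⟶ s.pt => g.1 x) (hm j)
    exact congrArg CommRingCat.Hom.hom this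

end


/-- The category of topological rings (commutative, with continuous ring homomorphisms) has colimits,
and colimits commute with the forgetful functor to rings. -/
theorem result :
    HasColimits TopCommRingCat.{u} ∧
    PreservesColimits (forget₂ TopCommRingCat.{u} CommRingCat.{u}) := by
  have h1 : HasColimits TopCommRingCat.{u} :=
    ⟨fun J _ => ⟨fun F => HasColimit.mk ⟨ccocone F, cisColimit F⟩⟩⟩
  refine ⟨h1, ⟨fun {J} _ => ⟨fun {F} => ?_⟩⟩⟩
  apply preservesColimit_of_preserves_colimit_cocone (cisColimit F)
  refine IsColimit.ofIsoColimit (colimit.isColimit (G F)) (Cocones.ext (Iso.refl _) ?_)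
  intro j
  exact Category.comp_id _

end Groth.Agent.S7558
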