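import Groth.Statements.S7564
import Mathlib.Topology.Irreducible
import Mathlib.Data.Set.Card

set_option autoImplicit false
universe u
open PtTop

namespace Groth.Agent.S7564

/-- For a continuous surjection f : X → Y, if X has finitely many irreducible components, say n of them,
then Y has at most n irreducible components. -/
theorem result {X Y : Type u} [TopologicalSpace X] [TopologicalSpace Y]
    (f : X → Y) (hf : Continuous f) (hs : Function.Surjective f) (hfin : (irreducibleComponents X).Finite) :
    (irreducibleComponents Y).Finite ∧ (irreducibleComponents Y).ncard ≤ (irreducibleComponents X).ncard := by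
  classical
  let g : Set X → Set Y := fun C => closure (f '' C)
  have hsub : irreducibleComponents Y ⊆ g '' irreducibleComponents X := by
    intro W hW
    have hfin' := hfin.toFinset
    have := isIrreducible_iff_sUnion_isClosed.mp hW.1 (hfin.toFinset.image g)
      (by
        intro z hz
        obtain ⟨C, -, rfl⟩ := Finset.mem_image.mp hz
        exact isClosed_closure)
      (by
        intro y _
        obtain ⟨x, rfl⟩ := hs y
        have hx : x ∈ ⋃₀ irreducibleComponents X := sUnion_irreducibleComponents (X := X) ▸ Set.mem_univ x
        obtain ⟨C, hC, hxC⟩ := hx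
        refine ⟨g C, ?_, subset_closure ⟨x, hxC, rfl⟩⟩
        simp only [Finset.coe_image, Set.Finite.coe_toFinset]
        exact ⟨C, hC, rfl⟩)
    obtain ⟨z, hz, hWz⟩ := this
    obtain ⟨C, hC, rfl⟩ := Finset.mem_image.mp hz
    have hC' : C ∈ irreducibleComponents X := hfin.mem_toFinset.mp hC
    have hirr : IsIrreducible (g C) :=
      (hC'.1.image f hf.continuousOn).closure
    exact ⟨C, hC', (subset_antisymm (hW.2 hirr hWz) hWz)⟩
  have hfinY : (g '' irreducibleComponents X).Finite := hfin.image g
  refine ⟨hfinY.subset hsub, ?_⟩
  calc (irreducibleComponents Y).ncard ≤ (g '' irreducibleComponents X).ncard :=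
        Set.ncard_le_ncard hsub hfinY
    _ ≤ (irreducibleComponents X).ncard := Set.ncard_image_le hfin

end Groth.Agent.S7564
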