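import Groth.Statements.S7567
import Groth.Agent.S7566
import Mathlib
-- import your own Groth.Agent.* helpers here

set_option autoImplicit false
universe u
open PtTop

namespace Groth.Agent.S7567

/-- Let X be a quasi-compact topological space whose quasi-compact opens form a basis, any two of them
meeting in a quasi-compact set. For a subset T ⊆ X these two conditions are equivalent: (a) T can be
written as an intersection of clopen subsets of X; (b) T is closed and is a union of connected
components of X. -/
theorem result {X : Type u} [TopologicalSpace X]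
    [CompactSpace X] [PrespectralSpace X] [QuasiSeparatedSpace X] (T : Set X) :
    (∃ S : Set (Set X), (∀ Z ∈ S, IsClopen Z) ∧ T = ⋂₀ S) ↔
      (IsClosed T ∧ ∀ x ∈ T, connectedComponent x ⊆ T) := by
  classical
  constructor
  · rintro ⟨S, hS, rfl⟩
    refine ⟨isClosed_sInter fun Z hZ => (hS Z hZ).isClosed, ?_⟩
    intro x hx y hy Z hZ
    exact (hS Z hZ).connectedComponent_subset (hx Z hZ) hy
  · rintro ⟨hTc, hT⟩
    refine ⟨{Z | IsClopen Z ∧ T ⊆ Z}, fun Z hZ => hZ.1, ?_⟩
    apply Set.Subset.antisymm
    · intro x hx Z hZ
      exact hZ.2 hx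
    · intro y hy
      by_contra hyT
      -- for each `x ∈ T` pick a clopen containing `x` but not `y`
      have hex : ∀ x : T, ∃ Z : Set X, IsClopen Z ∧ (x : X) ∈ Z ∧ y ∉ Z := by
        intro x
        have hyx : y ∉ connectedComponent (x : X) := by
          intro hyc
          have : connectedComponent y = connectedComponent (x : X) :=
            connectedComponent_eq hyc |>.symm
          exact hyT (hT x x.2 hyc)
        rw [Groth.Agent.S7566.result (x : X)] at hyx
        simp only [Set.mem_sInter, Set.mem_setOf_eq, not_forall] at hyx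
        obtain ⟨Z, hZ, hyZ⟩ := hyx
        exact ⟨Z, hZ.1, hZ.2, hyZ⟩
      choose Z hZclopen hxZ hyZ using hex
      have hcover : T ⊆ ⋃ x : T, Z x := fun x hx => Set.mem_iUnion.2 ⟨⟨x, hx⟩, hxZ ⟨x, hx⟩⟩
      obtain ⟨F, hF⟩ := hTc.isCompact.elim_finite_subcover Z (fun x => (hZclopen x).isOpen) hcover
      have hclopen : IsClopen (⋃ x ∈ F, Z x) := by
        refine ⟨?_, isOpen_biUnion fun x _ => (hZclopen x).isOpen⟩
        exact F.finite_toSet.isClosed_biUnion fun x _ => (hZclopen x).isClosed
      have hymem := hy (⋃ x ∈ F, Z x) ⟨hclopen, hF⟩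
      simp only [Set.mem_iUnion] at hymem
      obtain ⟨x, _, hyx⟩ := hymem
      exact hyZ x hyx

end Groth.Agent.S7567
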