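import Groth.Statements.S7568
import Mathlib

set_option autoImplicit false
universe u
open PtTop

namespace Groth.Agent.S7568

/-- Let X be a Hausdorff quasi-compact space, X = ⋃ U_i an open covering, p ≥ 0 an integer, and for
every (p+1)-tuple (i_0, …, i_p) an open covering of U_{i_0} ∩ … ∩ U_{i_p} by opens W_{i_0…i_p,k}.
Then there are an open covering X = ⋃_{j ∈ J} V_j and a map α : J → I with closure(V_j) ⊆ U_{α(j)}
such that each V_{j_0} ∩ … ∩ V_{j_p} is contained in W_{α(j_0)…α(j_p),k} for some k. The published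
statement allows a covering of an empty intersection to have no members; this row requires every
covering W_{i_0…i_p} to have at least one member (possibly empty), without which the conclusion
fails. -/
theorem result {X : Type u} [TopologicalSpace X] [CompactSpace X] [T2Space X]
    {ι : Type u} (U : ι → Set X) (hU : ∀ i, IsOpen (U i)) (hcov : ⋃ i, U i = Set.univ) (p : ℕ)
    (W : (Fin (p + 1) → ι) → Set (Set X)) (hWo : ∀ t, ∀ w ∈ W t, IsOpen w)
    (hWc : ∀ t, ⋃₀ W t = ⋂ l, U (t l)) (hWne : ∀ t, (W t).Nonempty) :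
    ∃ (J : Type u) (V : J → Set X) (α : J → ι), (∀ j, IsOpen (V j)) ∧ (⋃ j, V j = Set.univ) ∧
      (∀ j, closure (V j) ⊆ U (α j)) ∧
      (∀ t : Fin (p + 1) → J, ∃ w ∈ W (α ∘ t), (⋂ l, V (t l)) ⊆ w) := by
  classical
  -- finite subcover
  obtain ⟨F, hF⟩ := isCompact_univ.elim_finite_subcover U hU (hcov ▸ subset_rfl)
  -- shrink
  obtain ⟨v, hvcov, hvo, hvcl⟩ :=
    exists_iUnion_eq_closure_subset (X := X) (u := fun i : F => U i.1) (fun i => hU i.1)
      (fun x => Set.toFinite _) (by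
        rw [Set.eq_univ_iff_forall]
        intro x
        obtain ⟨i, hi, hxi⟩ := Set.mem_iUnion₂.mp (hF (Set.mem_univ x))
        exact Set.mem_iUnion.mpr ⟨⟨i, hi⟩, hxi⟩)
  let C : (Fin (p + 1) → F) → Set X := fun t => ⋂ l, closure (v (t l))
  have hCclosed : ∀ t, IsClosed (C t) := fun t => isClosed_iInter fun l => isClosed_closure
  have hN : ∀ (x : X) (t : Fin (p + 1) → F), ∃ n : Set X, IsOpen n ∧ x ∈ n ∧
      (x ∈ C t → n ∈ W (fun l => (t l).1)) ∧ (x ∉ C t → n = (C t)ᶜ) := by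
    intro x t
    by_cases hx : x ∈ C t
    · have hxU : x ∈ ⋂ l, U (t l).1 :=
        Set.mem_iInter.mpr fun l => hvcl (t l) (Set.mem_iInter.mp hx l)
      rw [← hWc (fun l => (t l).1)] at hxU
      obtain ⟨w, hw, hxw⟩ := Set.mem_sUnion.mp hxU
      exact ⟨w, hWo _ w hw, hxw, fun _ => hw, fun h => absurd hx h⟩
    · exact ⟨(C t)ᶜ, (hCclosed t).isOpen_compl, hx, fun h => absurd h hx, fun _ => rfl⟩
  choose Nn hNo hxN hNW hNC using hN
  let N : X → Set X := fun x => ⋂ t, Nn x t
  have hNopen : ∀ x, IsOpen (N x) := fun x => isOpen_iInter_of_finite fun t => hNo x t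
  have hxNx : ∀ x, x ∈ N x := fun x => Set.mem_iInter.mpr fun t => hxN x t
  refine ⟨X × F, fun j => N j.1 ∩ v j.2, fun j => j.2.1, fun j => (hNopen j.1).inter (hvo j.2), ?_,
    fun j => ?_, fun t => ?_⟩
  · rw [Set.eq_univ_iff_forall]
    intro y
    have hy : y ∈ ⋃ i, v i := hvcov ▸ Set.mem_univ y
    obtain ⟨i, hi⟩ := Set.mem_iUnion.mp hy
    exact Set.mem_iUnion.mpr ⟨(y, i), hxNx y, hi⟩
  · exact (closure_mono Set.inter_subset_right).trans (hvcl j.2)
  · let t' : Fin (p + 1) → F := fun l => (t l).2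
    have hα : ((fun j : X × F => j.2.1) ∘ t) = fun l => (t' l).1 := rfl
    rw [hα]
    by_cases hne : (⋂ l, (fun j : X × F => N j.1 ∩ v j.2) (t l)).Nonempty
    · obtain ⟨y, hy⟩ := hne
      have hy' : ∀ l, y ∈ N (t l).1 ∧ y ∈ v (t l).2 := fun l => Set.mem_iInter.mp hy l
      have hyC : y ∈ C t' := Set.mem_iInter.mpr fun l => subset_closure (hy' l).2
      have hyN : y ∈ Nn (t 0).1 t' := Set.mem_iInter.mp (hy' 0).1 t'
      have hx0 : (t 0).1 ∈ C t' := by
        by_contra h
        rw [hNC _ _ h] at hyN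
        exact hyN hyC
      refine ⟨Nn (t 0).1 t', hNW _ _ hx0, ?_⟩
      intro z hz
      have hz' : z ∈ N (t 0).1 ∩ v (t 0).2 := Set.mem_iInter.mp hz 0
      exact Set.mem_iInter.mp hz'.1 t'
    · obtain ⟨w, hw⟩ := hWne (fun l => (t' l).1)
      refine ⟨w, hw, ?_⟩
      rw [Set.not_nonempty_iff_eq_empty] at hne
      rw [hne]
      exact Set.empty_subset _

end Groth.Agent.S7568
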