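import Groth.Statements.S7569
import Groth.Agent.Lib.helper11.CechRefine

set_option autoImplicit false
universe u
open PtTop

namespace Groth.Agent.S7569

/-- Let X be a Hausdorff, locally quasi-compact space and Z ⊆ X a quasi-compact subset. Let p ≥ 0, let
U_i ⊆ X be opens with Z ⊆ ⋃ U_i, and for every (p+1)-tuple (i_0, …, i_p) let W_{i_0…i_p} ⊆ U_{i_0} ∩
… ∩ U_{i_p} be an open with W_{i_0…i_p} ∩ Z = U_{i_0} ∩ … ∩ U_{i_p} ∩ Z. Then there are opens V_i ⊆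
X with Z ⊆ ⋃ V_i, closure(V_i) ⊆ U_i for all i, and V_{i_0} ∩ … ∩ V_{i_p} ⊆ W_{i_0…i_p} for all
(p+1)-tuples. -/
theorem result {X : Type u} [TopologicalSpace X]
    [T2Space X] [LocallyCompactSpace X] (Z : Set X) (hZ : IsCompact Z)
    {ι : Type u} (U : ι → Set X) (hU : ∀ i, IsOpen (U i)) (hcov : Z ⊆ ⋃ i, U i) (p : ℕ)
    (W : (Fin (p + 1) → ι) → Set X) (hWo : ∀ t, IsOpen (W t)) (hWU : ∀ t, W t ⊆ ⋂ l, U (t l))
    (hWZ : ∀ t, W t ∩ Z = (⋂ l, U (t l)) ∩ Z) :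
    ∃ V : ι → Set X, (∀ i, IsOpen (V i)) ∧ (Z ⊆ ⋃ i, V i) ∧ (∀ i, closure (V i) ⊆ U i) ∧
      (∀ t : Fin (p + 1) → ι, (⋂ l, V (t l)) ⊆ W t) := by
  classical
  obtain ⟨V, hVo, hVcov, hVU, -, hVW, -⟩ :=
    Groth.Agent.Lib.helper11.CechRefine.exists_opens_lifting_cover Z hZ
      (fun z _ z' _ hne => by
        obtain ⟨A, B, hA, hB, hzA, hzB, hAB⟩ := t2_separation hne
        exact ⟨A, B, hA, hB, hzA, hzB, hAB⟩) U hU hcov p W hWo hWZ
  -- for each point of Z choose an index and a small nbhd with closure in V i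
  have hchoice : ∀ z : Z, ∃ (i : ι) (N : Set X),
      IsOpen N ∧ (z : X) ∈ N ∧ closure N ⊆ V i := by
    rintro ⟨z, hz⟩
    obtain ⟨i, hi⟩ := Set.mem_iUnion.mp (hVcov hz)
    obtain ⟨N, hNo, hzN, hNV, -⟩ :=
      exists_open_between_and_isCompact_closure (isCompact_singleton (x := z)) (hVo i)
        (Set.singleton_subset_iff.mpr hi)
    exact ⟨i, N, hNo, Set.singleton_subset_iff.mp hzN, hNV⟩
  choose idx N hNo hzN hNcl using hchoice
  obtain ⟨T, hT⟩ := hZ.elim_finite_subcover (fun z : Z => N z) hNo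
    (fun z hz => Set.mem_iUnion.mpr ⟨⟨z, hz⟩, hzN _⟩)
  let V' : ι → Set X := fun i => ⋃ z ∈ T.filter (fun z => idx z = i), N z
  have hV'cl : ∀ i, closure (V' i) ⊆ V i := by
    intro i
    have : closure (V' i) = ⋃ z ∈ T.filter (fun z => idx z = i), closure (N z) :=
      (T.filter (fun z => idx z = i)).finite_toSet.closure_biUnion _
    rw [this]
    intro x hx
    obtain ⟨z, hz, hxz⟩ := Set.mem_iUnion₂.mp hx
    have := (Finset.mem_filter.mp hz).2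
    exact this ▸ hNcl z hxz
  refine ⟨V', fun i => isOpen_biUnion (fun z _ => hNo z), ?_, fun i => (hV'cl i).trans (hVU i),
    fun t => ?_⟩
  · intro x hx
    obtain ⟨z, hz⟩ := Set.mem_iUnion.mp (hT hx)
    obtain ⟨hzT, hxz⟩ := Set.mem_iUnion.mp hz
    refine Set.mem_iUnion.mpr ⟨idx z, Set.mem_iUnion₂.mpr ⟨z, ?_, hxz⟩⟩
    exact Finset.mem_filter.mpr ⟨hzT, rfl⟩
  · refine (Set.iInter_mono fun l => ?_).trans (hVW t)
    exact subset_closure.trans (hV'cl (t l))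

end Groth.Agent.S7569
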