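import Groth.Statements.S7571
import Mathlib.Topology.Category.TopCat.Limits.Cofiltered

set_option autoImplicit false
universe u
open CategoryTheory CategoryTheory.Limits
open PtTop

namespace Groth.Agent.S7571

/-- Let j ↦ X_j be a diagram of topological spaces over a cofiltered category with limit X and
projections f_j. (1) Every open of X is a union of subsets of the form f_j⁻¹(U_j) with U_j ⊆ X_j
open. (2) Every quasi-compact open of X equals f_i⁻¹(U_i) for some i and some open U_i ⊆ X_i. -/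
theorem result {J : Type u} [SmallCategory J] [IsCofiltered J]
    (F : J ⥤ TopCat.{u}) (c : Cone F) (hc : IsLimit c) :
    (∀ W : Set c.pt, IsOpen W →
      ∃ S : Set (Σ j, Set (F.obj j)), (∀ s ∈ S, IsOpen s.2) ∧ W = ⋃ s ∈ S, c.π.app s.1 ⁻¹' s.2) ∧
    (∀ W : Set c.pt, IsOpen W → IsCompact W →
      ∃ (i : J) (Ui : Set (F.obj i)), IsOpen Ui ∧ W = c.π.app i ⁻¹' Ui) := by
  classical
  have hB := TopCat.isTopologicalBasis_cofiltered_limit.{u, u, u} F c hc
    (fun j => {U | IsOpen U}) (fun j => TopologicalSpace.isTopologicalBasis_opens)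
    (fun i => isOpen_univ) (fun i U1 U2 h1 h2 => h1.inter h2)
    (fun i j f V hV => hV.preimage (F.map f).hom.continuous)
  have key : ∀ W : Set c.pt, IsOpen W → ∀ x ∈ W, ∃ (j : J) (V : Set (F.obj j)), IsOpen V ∧
      x ∈ c.π.app j ⁻¹' V ∧ c.π.app j ⁻¹' V ⊆ W := by
    intro W hW x hx
    obtain ⟨U, ⟨j, V, hV, rfl⟩, hxU, hUW⟩ := hB.exists_subset_of_mem_open hx hW
    exact ⟨j, V, hV, hxU, hUW⟩
  constructor
  · intro W hW
    refine ⟨{s | IsOpen s.2 ∧ c.π.app s.1 ⁻¹' s.2 ⊆ W}, fun s hs => hs.1, ?_⟩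
    apply subset_antisymm
    · intro x hx
      obtain ⟨j, V, hV, hxV, hVW⟩ := key W hW x hx
      exact Set.mem_biUnion (show (⟨j, V⟩ : Σ j, Set (F.obj j)) ∈ _ from ⟨hV, hVW⟩) hxV
    · exact Set.iUnion₂_subset fun s hs => hs.2
  · intro W hW hWc
    let ι := {s : Σ j, Set (F.obj j) // IsOpen s.2 ∧ c.π.app s.1 ⁻¹' s.2 ⊆ W}
    let U : ι → Set c.pt := fun i => c.π.app i.1.1 ⁻¹' i.1.2
    have hUo : ∀ i, IsOpen (U i) := fun i => i.2.1.preimage (c.π.app i.1.1).hom.continuous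
    have hcov : W ⊆ ⋃ i, U i := by
      intro x hx
      obtain ⟨j, V, hV, hxV, hVW⟩ := key W hW x hx
      exact Set.mem_iUnion.mpr ⟨⟨⟨j, V⟩, hV, hVW⟩, hxV⟩
    obtain ⟨t, ht⟩ := hWc.elim_finite_subcover U hUo hcov
    obtain ⟨i₀, hi₀⟩ := IsCofiltered.inf_objs_exists (t.image fun i => i.1.1)
    have m : ∀ k : ι, k ∈ t → (i₀ ⟶ k.1.1) := fun k hk =>
      (hi₀ (Finset.mem_image_of_mem _ hk)).some
    refine ⟨i₀, ⋃ k : {k // k ∈ t}, (F.map (m k.1 k.2)) ⁻¹' k.1.1.2, ?_, ?_⟩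
    · exact isOpen_iUnion fun k => k.1.2.1.preimage (F.map (m k.1 k.2)).hom.continuous
    · have hpre : ∀ k : {k // k ∈ t}, c.π.app i₀ ⁻¹' ((F.map (m k.1 k.2)) ⁻¹' k.1.1.2) = U k.1 := by
        intro k
        have := c.w (m k.1 k.2)
        ext x
        simp only [Set.mem_preimage, U]
        rw [← this]
        rfl
      rw [Set.preimage_iUnion]
      simp_rw [hpre]
      apply subset_antisymm
      · intro x hx
        obtain ⟨k, hk, hxk⟩ := Set.mem_iUnion₂.mp (ht hx)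
        exact Set.mem_iUnion.mpr ⟨⟨k, hk⟩, hxk⟩
      · exact Set.iUnion_subset fun k => k.1.2.2

end Groth.Agent.S7571
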