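import Groth.Statements.S7574
import Groth.Agent.Lib.Helper1.SubtermUnit
import Mathlib.Topology.Sheaves.Over
import Mathlib.Topology.Sheaves.Stalks

set_option autoImplicit false
universe u
open CategoryTheory TopologicalSpace
open ShSp

namespace Groth.Agent.S7574

section Helpers
open Opposite CategoryTheory.Limits

variable {X : TopCat.{u}} (U : Opens X)

/-- the reference left adjoint -/
noncomputable def L₁ : (TopCat.of U).Sheaf (Type u) ⥤ X.Sheaf (Type u) :=
  (U.sheafEquivOver (A := Type u)).inverse ⋙
    (Over.forget U).sheafPullback (Type u) ((Opens.grothendieckTopology X).over U)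
      (Opens.grothendieckTopology X)

/-- the reference adjunction -/
noncomputable def adj₁ : L₁ U ⊣ U.sheafRestrict (C := Type u) :=
  (U.sheafEquivOver (A := Type u)).symm.toAdjunction.comp
    ((Over.forget U).sheafAdjunctionContinuous (Type u)
      ((Opens.grothendieckTopology X).over U) (Opens.grothendieckTopology X))

instance : IsIso (adj₁ U).unit := by
  haveI : ∀ F, IsIso ((adj₁ U).unit.app F) := by
    intro F
    unfold adj₁
    rw [Adjunction.comp_unit_app]
    haveI := Groth.Agent.Lib.Helper1.SubtermUnit.isIso_unit (Opens.grothendieckTopology X) U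
      (Type u) (fun V => ⟨fun f g => Subsingleton.elim f g⟩)
      ((U.sheafEquivOver (A := Type u)).symm.functor.obj F)
    haveI h2 : IsIso ((U.sheafEquivOver (A := Type u)).symm.toAdjunction.unit.app F) :=
      inferInstanceAs (IsIso ((U.sheafEquivOver (A := Type u)).symm.unit.app F))
    haveI h3 := Functor.map_isIso (U.sheafEquivOver (A := Type u)).symm.inverse
      (((Over.forget U).sheafAdjunctionContinuous (Type u) ((Opens.grothendieckTopology ↑X).over U)
              (Opens.grothendieckTopology ↑X)).unit.app
        ((U.sheafEquivOver (A := Type u)).symm.functor.obj F))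
    exact @IsIso.comp_isIso _ _ _ _ _ _ _ h2 h3
  exact NatIso.isIso_of_isIso_app _

/-- the subterminal sheaf attached to `U` -/
def TU : X.Sheaf (Type u) := ⟨yoneda.obj U, by
  rw [isSheaf_iff_isSheaf_of_type]
  intro V S hS x hx
  have hVU : V ≤ U := by
    intro y hy
    obtain ⟨W, f, hf, hyW⟩ := hS y hy
    exact (leOfHom (x f hf)) hyW
  exact ⟨homOfLE hVU, fun W f hf => Subsingleton.elim (α := W ⟶ U) _ _,
    fun t _ => Subsingleton.elim (α := V ⟶ U) _ _⟩⟩

lemma image_le (W : Opens ↥U) : U.isOpenEmbedding.isOpenMap.functor.obj W ≤ U := by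
  rintro x ⟨y, _, rfl⟩
  exact y.2

variable {U} (L : (TopCat.of U).Sheaf (Type u) ⥤ X.Sheaf (Type u))
  (adj : L ⊣ U.sheafRestrict (C := Type u))

include adj

lemma L_ff : L.Full ∧ L.Faithful := by
  let e : L₁ U ≅ L := (adj₁ U).leftAdjointUniq adj
  have ff := (adj₁ U).fullyFaithfulLOfIsIsoUnit
  haveI : (L₁ U).Full := ff.full
  haveI : (L₁ U).Faithful := ff.faithful
  exact ⟨Functor.Full.of_iso e, Functor.Faithful.of_iso e⟩

lemma isEmpty_L (F : (TopCat.of U).Sheaf (Type u)) (V : Opens X) (hV : ¬ V ≤ U) :
    IsEmpty ((L.obj F).obj.obj (op V)) := by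
  let t : F ⟶ (U.sheafRestrict (C := Type u)).obj (TU U) :=
    ObjectProperty.homMk
      { app := fun W => TypeCat.ofHom (fun _ => homOfLE (image_le U W.unop))
        naturality := by
          intro W₁ W₂ f
          ext a
          exact Subsingleton.elim
            (α := (U.isOpenEmbedding.isOpenMap.functor.obj W₂.unop ⟶ U)) _ _ }
  let φ := (adj.homEquiv _ _).symm t
  exact ⟨fun s => hV (leOfHom (φ.hom.app (op V) s))⟩

omit adj in
lemma stalk_empty_of_sections_empty (G : X.Sheaf (Type u))
    (hG : ∀ V : Opens X, ¬ V ≤ U → IsEmpty (G.obj.obj (op V))) (x : X) (hx : x ∉ U) :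
    IsEmpty (G.presheaf.stalk x) := by
  constructor
  intro s
  obtain ⟨V, hxV, t, -⟩ := G.presheaf.exists_germ_eq s
  exact (hG V (fun h => hx (h hxV))).false t

omit adj in
lemma sections_empty_of_stalk_empty (G : X.Sheaf (Type u))
    (hG : ∀ x : X, x ∉ U → IsEmpty (G.presheaf.stalk x)) (V : Opens X) (hV : ¬ V ≤ U) :
    IsEmpty (G.obj.obj (op V)) := by
  constructor
  intro t
  obtain ⟨x, hxV, hxU⟩ := Set.not_subset.1 hV
  exact (hG x hxU).false (G.presheaf.germ V x hxV t)

lemma essImage_iff (G : X.Sheaf (Type u)) :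
    L.essImage G ↔ ∀ x : X, x ∉ U → IsEmpty (G.presheaf.stalk x) := by
  constructor
  · rintro ⟨F, ⟨e⟩⟩
    apply stalk_empty_of_sections_empty
    intro V hV
    haveI := isEmpty_L L adj F V hV
    exact ⟨fun s => IsEmpty.false (e.inv.hom.app (op V) s)⟩
  · intro hG
    have hGe := sections_empty_of_stalk_empty G hG
    obtain ⟨hfull, hfaith⟩ := L_ff L adj
    haveI : IsIso adj.unit := inferInstance
    let ε := adj.counit.app G
    haveI hRε : IsIso ((U.sheafRestrict (C := Type u)).map ε) := by
      have h := adj.right_triangle_components G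
      haveI : IsIso (adj.unit.app ((U.sheafRestrict (C := Type u)).obj G) ≫
          (U.sheafRestrict (C := Type u)).map ε) := by
        rw [h]
        exact IsIso.id _
      exact IsIso.of_isIso_comp_left (adj.unit.app ((U.sheafRestrict (C := Type u)).obj G)) _
    have hW : ∀ W : Opens ↥U,
        IsIso (ε.hom.app (op (U.isOpenEmbedding.isOpenMap.functor.obj W))) := by
      intro W
      haveI : IsIso ((sheafToPresheaf _ _).map ((U.sheafRestrict (C := Type u)).map ε)) :=
        Functor.map_isIso _ _
      exact NatIso.isIso_app_of_isIso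
        ((sheafToPresheaf _ _).map ((U.sheafRestrict (C := Type u)).map ε)) (op W)
    haveI : ∀ V : (Opens X)ᵒᵖ, IsIso (ε.hom.app V) := by
      intro V
      by_cases hV : V.unop ≤ U
      · have hVeq : V = op (U.isOpenEmbedding.isOpenMap.functor.obj
            ((Opens.map (U.inclusion')).obj V.unop)) := by
          rw [← op_unop V]
          congr 1
          ext x
          constructor
          · intro hx
            exact ⟨⟨x, hV hx⟩, hx, rfl⟩
          · rintro ⟨y, hy, rfl⟩
            exact hy
        rw [hVeq]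
        exact hW _
      · have h1 := hGe V.unop hV
        have h2 := isEmpty_L L adj ((U.sheafRestrict (C := Type u)).obj G) V.unop hV
        rw [isIso_iff_bijective]
        exact ⟨fun a => (h2.false a).elim, fun b => (h1.false b).elim⟩
    haveI : IsIso ε.hom := NatIso.isIso_of_isIso_app _
    haveI : IsIso ε := by
      haveI : IsIso ((sheafToPresheaf (Opens.grothendieckTopology X) (Type u)).map ε) :=
        ‹IsIso ε.hom›
      exact (fullyFaithfulSheafToPresheaf (Opens.grothendieckTopology X)
        (Type u)).isIso_of_isIso_map ε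
    exact ⟨_, ⟨asIso ε⟩⟩

end Helpers

/-- Let X be a topological space, U ⊆ X open and j_! : Sh(U) → Sh(X) a left adjoint of restriction of
sheaves of sets to U. Then j_! is fully faithful, and a sheaf G on X lies in its essential image if
and only if G_x = ∅ for all x ∈ X not in U. -/
theorem result {X : TopCat.{u}} (U : Opens X)
    (L : (TopCat.of U).Sheaf (Type u) ⥤ X.Sheaf (Type u)) (adj : L ⊣ U.sheafRestrict (C := Type u)) :
    L.Full ∧ L.Faithful ∧
    ∀ G : X.Sheaf (Type u), L.essImage G ↔ ∀ x : X, x ∉ U → IsEmpty (G.presheaf.stalk x) := by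
  exact ⟨(L_ff L adj).1, (L_ff L adj).2, essImage_iff L adj⟩

end Groth.Agent.S7574
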