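import Groth.Statements.S7575
import Mathlib.Tactic
import Mathlib.CategoryTheory.Sites.LocallyInjective
import Mathlib.CategoryTheory.Sites.LocallySurjective
import Mathlib.CategoryTheory.Sites.Limits
import Mathlib.CategoryTheory.Limits.Types.Filtered
import Mathlib.Topology.Sheaves.SheafCondition.UniqueGluing

set_option autoImplicit false
universe u
open CategoryTheory CategoryTheory.Limits TopologicalSpace Opposite
open ShSp

namespace Groth.Agent.S7575

section
variable {X : TopCat.{u}} {J : Type u} [Preorder J] [Nonempty J] [IsDirected J (· ≤ ·)]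
  (F : J ⥤ X.Sheaf (Type u)) (c : Cocone F) (hc : IsColimit c)

/-- the presheaf colimit -/
noncomputable abbrev E : Cocone (F ⋙ sheafToPresheaf (Opens.grothendieckTopology X) (Type u)) :=
  colimit.cocone _

/-- comparison iso between the sheafified presheaf colimit and the given colimit -/
noncomputable def φ : (Sheaf.sheafifyCocone (E F)).pt ≅ c.pt :=
  IsColimit.coconePointUniqueUpToIso (Sheaf.isColimitSheafifyCocone (E F) (colimit.isColimit _)) hc

lemma ι_eq (i : J) (V : Opens X) (s : (F.obj i).obj.obj (op V)) :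
    (c.ι.app i).hom.app (op V) s =
      (φ F c hc).hom.hom.app (op V)
        ((toSheafify (Opens.grothendieckTopology X) (E F).pt).app (op V)
          (((E F).ι.app i).app (op V) s)) := by
  have h1 : (Sheaf.sheafifyCocone (E F)).ι.app i ≫ (φ F c hc).hom = c.ι.app i :=
    IsColimit.comp_coconePointUniqueUpToIso_hom _ hc i
  have h2 := Sheaf.sheafifyCocone_ι_app_val (E F) i
  rw [← h1]
  have h3 : ((Sheaf.sheafifyCocone (E F)).ι.app i ≫ (φ F c hc).hom).hom =
      ((E F).ι.app i ≫ toSheafify (Opens.grothendieckTopology X) (E F).pt) ≫ (φ F c hc).hom.hom := by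
    rw [← h2]
    rfl
  rw [h3]
  rfl


/-- evaluation of the presheaf colimit -/
noncomputable def hEV (V : Opens X) :
    IsColimit (((evaluation _ (Type u)).obj (op V)).mapCocone (E F)) :=
  isColimitOfPreserves _ (colimit.isColimit _)

include hc in
/-- local surjectivity -/
lemma K2 (U : Opens X) (σ : c.pt.obj.obj (op U)) (x : X) (hx : x ∈ U) :
    ∃ (V : Opens X) (hVU : V ≤ U) (_ : x ∈ V) (i : J) (s : (F.obj i).obj.obj (op V)),
      (c.ι.app i).hom.app (op V) s = c.pt.obj.map (homOfLE hVU).op σ := by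
  let σ' := (φ F c hc).inv.hom.app (op U) σ
  have hmem := Presheaf.imageSieve_mem (Opens.grothendieckTopology X)
    (toSheafify (Opens.grothendieckTopology X) (E F).pt) (U := op U) σ'
  obtain ⟨V, f, ⟨e, he⟩, hxV⟩ := hmem x hx
  obtain ⟨i, s, hs⟩ := Types.jointly_surjective_of_isColimit (hEV F V) e
  refine ⟨V, leOfHom f, hxV, i, s, ?_⟩
  rw [ι_eq F c hc]
  have hs' : ((E F).ι.app i).app (op V) s = e := hs
  rw [hs', he]
  have hn := ConcreteCategory.congr_hom ((φ F c hc).hom.hom.naturality f.op) σ'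
  refine hn.trans ?_
  have : (φ F c hc).hom.hom.app (op U) σ' = σ := by
    have h := ConcreteCategory.congr_hom
      (NatTrans.congr_app (congrArg (fun (m : c.pt ⟶ c.pt) => m.hom) (φ F c hc).inv_hom_id) (op U)) σ
    exact h
  change c.pt.obj.map f.op ((φ F c hc).hom.hom.app (op U) σ') = _
  rw [this]
  rfl


include hc in
/-- local injectivity -/
lemma K1 (V : Opens X) (i : J) (s t : (F.obj i).obj.obj (op V))
    (h : (c.ι.app i).hom.app (op V) s = (c.ι.app i).hom.app (op V) t) (x : X) (hx : x ∈ V) :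
    ∃ (W : Opens X) (hWV : W ≤ V) (_ : x ∈ W) (j : J) (hij : i ≤ j),
      (F.map (homOfLE hij)).hom.app (op W) ((F.obj i).obj.map (homOfLE hWV).op s) =
        (F.map (homOfLE hij)).hom.app (op W) ((F.obj i).obj.map (homOfLE hWV).op t) := by
  rw [ι_eq F c hc, ι_eq F c hc] at h
  have hinj : Function.Injective ((φ F c hc).hom.hom.app (op V)) := by
    intro a b hab
    have ha := ConcreteCategory.congr_hom
      (NatTrans.congr_app (congrArg (fun (m : (Sheaf.sheafifyCocone (E F)).pt ⟶ _) => m.hom)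
        (φ F c hc).hom_inv_id) (op V)) a
    have hb := ConcreteCategory.congr_hom
      (NatTrans.congr_app (congrArg (fun (m : (Sheaf.sheafifyCocone (E F)).pt ⟶ _) => m.hom)
        (φ F c hc).hom_inv_id) (op V)) b
    have : (φ F c hc).inv.hom.app (op V) ((φ F c hc).hom.hom.app (op V) a) =
        (φ F c hc).inv.hom.app (op V) ((φ F c hc).hom.hom.app (op V) b) := by rw [hab]
    exact ha.symm.trans (this.trans hb)
  have h' := hinj h
  have hmem := Presheaf.equalizerSieve_mem (Opens.grothendieckTopology X)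
    (toSheafify (Opens.grothendieckTopology X) (E F).pt) (X := op V) _ _ h'
  obtain ⟨W, f, hf, hxW⟩ := hmem x hx
  have hf' : (E F).pt.map f.op (((E F).ι.app i).app (op V) s) =
      (E F).pt.map f.op (((E F).ι.app i).app (op V) t) := hf
  have n1 := ConcreteCategory.congr_hom (((E F).ι.app i).naturality f.op) s
  have n2 := ConcreteCategory.congr_hom (((E F).ι.app i).naturality f.op) t
  have h3 : ((E F).ι.app i).app (op W) ((F.obj i).obj.map f.op s) =
      ((E F).ι.app i).app (op W) ((F.obj i).obj.map f.op t) :=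
    n1.trans (hf'.trans n2.symm)
  obtain ⟨k, a, b, hab⟩ := (Types.FilteredColimit.isColimit_eq_iff _ (hEV F W)).1 h3
  refine ⟨W, leOfHom f, hxW, k, leOfHom a, ?_⟩
  have : a = b := Subsingleton.elim _ _
  subst this
  exact hab


/-- sections -/
abbrev Sec (i : J) (V : Opens X) : Type u := (F.obj i).obj.obj (op V)

/-- restriction -/
abbrev res (i : J) {V W : Opens X} (h : W ≤ V) : Sec F i V → Sec F i W :=
  (F.obj i).obj.map (homOfLE h).op

/-- transition -/
abbrev tr {i j : J} (h : i ≤ j) (V : Opens X) : Sec F i V → Sec F j V :=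
  (F.map (homOfLE h)).hom.app (op V)

/-- cocone leg -/
abbrev cι (i : J) (V : Opens X) : Sec F i V → c.pt.obj.obj (op V) :=
  (c.ι.app i).hom.app (op V)

/-- restriction in the colimit sheaf -/
abbrev cres {V W : Opens X} (h : W ≤ V) : c.pt.obj.obj (op V) → c.pt.obj.obj (op W) :=
  c.pt.obj.map (homOfLE h).op

omit [Nonempty J] [IsDirected J (· ≤ ·)] in
lemma tr_res {i j : J} (h : i ≤ j) {V W : Opens X} (hW : W ≤ V) (s : Sec F i V) :
    tr F h W (res F i hW s) = res F j hW (tr F h V s) :=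
  ConcreteCategory.congr_hom ((F.map (homOfLE h)).hom.naturality (homOfLE hW).op) s

omit [Nonempty J] [IsDirected J (· ≤ ·)] in
lemma cι_res (i : J) {V W : Opens X} (hW : W ≤ V) (s : Sec F i V) :
    cι F c i W (res F i hW s) = cres F c hW (cι F c i V s) :=
  ConcreteCategory.congr_hom ((c.ι.app i).hom.naturality (homOfLE hW).op) s

omit [Nonempty J] [IsDirected J (· ≤ ·)] in
lemma cι_tr {i j : J} (h : i ≤ j) (V : Opens X) (s : Sec F i V) :
    cι F c j V (tr F h V s) = cι F c i V s := by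
  have := c.w (homOfLE h)
  exact ConcreteCategory.congr_hom
    (NatTrans.congr_app (congrArg (fun (m : F.obj i ⟶ c.pt) => m.hom) this) (op V)) s

omit [Nonempty J] [IsDirected J (· ≤ ·)] in
lemma tr_tr {i j k : J} (h : i ≤ j) (h' : j ≤ k) (V : Opens X) (s : Sec F i V) :
    tr F h' V (tr F h V s) = tr F (h.trans h') V s := by
  have : F.map (homOfLE (h.trans h')) = F.map (homOfLE h) ≫ F.map (homOfLE h') := by
    rw [← F.map_comp]; rfl
  unfold tr
  rw [this]
  rfl

omit [Nonempty J] [IsDirected J (· ≤ ·)] in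
lemma res_res (i : J) {V W W' : Opens X} (h : W ≤ V) (h' : W' ≤ W) (s : Sec F i V) :
    res F i h' (res F i h s) = res F i (h'.trans h) s := by
  unfold res
  rw [← ConcreteCategory.comp_apply, ← (F.obj i).obj.map_comp]
  rfl

omit [Nonempty J] [IsDirected J (· ≤ ·)] in
lemma cres_cres {V W W' : Opens X} (h : W ≤ V) (h' : W' ≤ W) (s : c.pt.obj.obj (op V)) :
    cres F c h' (cres F c h s) = cres F c (h'.trans h) s := by
  unfold cres
  rw [← ConcreteCategory.comp_apply, ← c.pt.obj.map_comp]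
  rfl

/-- separatedness of a sheaf: sections that agree locally agree -/
lemma sheaf_sep (G : X.Sheaf (Type u)) (V : Opens X) (s t : G.obj.obj (op V))
    (h : ∀ x ∈ V, ∃ (W : Opens X) (hW : W ≤ V), x ∈ W ∧
      G.obj.map (homOfLE hW).op s = G.obj.map (homOfLE hW).op t) : s = t := by
  choose W hW hx hst using h
  refine TopCat.Sheaf.eq_of_locally_eq' G (fun x : V => W x.1 x.2) V
    (fun x => homOfLE (hW x.1 x.2)) ?_ s t (fun x => hst x.1 x.2)
  intro x hxV
  exact Opens.mem_iSup.2 ⟨⟨x, hxV⟩, hx x hxV⟩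


include hc in
/-- injective transitions: the cocone legs are injective -/
lemma L4 (hinj : ∀ (i j : J) (h : i ⟶ j) (V : Opens X), Function.Injective ((F.map h).1.app (op V)))
    (V : Opens X) (k : J) (s t : Sec F k V) (h : cι F c k V s = cι F c k V t) : s = t := by
  apply sheaf_sep (F.obj k) V s t
  intro x hx
  obtain ⟨W, hWV, hxW, j, hkj, e⟩ := K1 F c hc V k s t h x hx
  exact ⟨W, hWV, hxW, hinj k j (homOfLE hkj) W e⟩

include hc in
/-- quasi-compact opens: sections identified in the colimit are identified at a finite stage -/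
lemma L3 (V : Opens X) (hV : IsCompact (V : Set X)) (k : J) (s t : Sec F k V)
    (h : cι F c k V s = cι F c k V t) : ∃ (j : J) (hkj : k ≤ j), tr F hkj V s = tr F hkj V t := by
  classical
  have hK := fun (x : V) => K1 F c hc V k s t h x.1 x.2
  choose W hWV hxW j hkj e using hK
  obtain ⟨T, hT⟩ := hV.elim_finite_subcover (fun x : V => (W x : Set X)) (fun x => (W x).isOpen)
    (fun x hx => Set.mem_iUnion.2 ⟨⟨x, hx⟩, hxW ⟨x, hx⟩⟩)
  obtain ⟨j₀, hj₀⟩ := Finset.exists_le (insert k (T.image j))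
  have hk0 : k ≤ j₀ := hj₀ k (Finset.mem_insert_self _ _)
  refine ⟨j₀, hk0, ?_⟩
  apply sheaf_sep (F.obj j₀) V
  intro x hx
  obtain ⟨y, hy⟩ := Set.mem_iUnion.1 (hT hx)
  obtain ⟨hyT, hxy⟩ := Set.mem_iUnion.1 hy
  have hyj : j y ≤ j₀ := hj₀ _ (Finset.mem_insert_of_mem (Finset.mem_image_of_mem j hyT))
  refine ⟨W y, hWV y, hxy, ?_⟩
  have e' := congrArg (tr F hyj (W y)) (e y)
  rw [tr_tr, tr_tr, tr_res, tr_res] at e'
  exact e'

/-- gluing sections at a fixed stage -/
lemma glue {ι : Type*} (U : Opens X) (W : ι → Opens X) (hWU : ∀ a, W a ≤ U) (hcov : U ≤ iSup W)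
    (i : J) (s : ∀ a, Sec F i (W a))
    (hcompat : ∀ a b, res F i (inf_le_left : W a ⊓ W b ≤ W a) (s a) =
      res F i (inf_le_right : W a ⊓ W b ≤ W b) (s b))
    (σ : c.pt.obj.obj (op U)) (hσ : ∀ a, cι F c i (W a) (s a) = cres F c (hWU a) σ) :
    ∃ s₀ : Sec F i U, cι F c i U s₀ = σ := by
  obtain ⟨s₀, hs₀, -⟩ := TopCat.Sheaf.existsUnique_gluing' (F.obj i) W U (fun a => homOfLE (hWU a))
    hcov s (fun a b => hcompat a b)
  refine ⟨s₀, ?_⟩
  refine TopCat.Sheaf.eq_of_locally_eq' c.pt W U (fun a => homOfLE (hWU a)) hcov _ _ (fun a => ?_)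
  have h1 := cι_res F c i (hWU a) s₀
  have h2 : res F i (hWU a) s₀ = s a := hs₀ a
  rw [h2, hσ a] at h1
  exact h1.symm


/-- evaluation functor -/
noncomputable abbrev ev (U : Opens X) : X.Sheaf (Type u) ⥤ Type u :=
  TopCat.Sheaf.forget (Type u) X ⋙ (evaluation (Opens X)ᵒᵖ (Type u)).obj (op U)

/-- the comparison map -/
noncomputable abbrev Ψ (U : Opens X) : colimit (F ⋙ ev U) → (ev U).obj c.pt :=
  colimit.desc (F ⋙ ev U) ((ev U).mapCocone c)

omit [Nonempty J] [IsDirected J (· ≤ ·)] in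
lemma Ψ_ι (U : Opens X) (i : J) (s : Sec F i U) :
    Ψ F c U (colimit.ι (F ⋙ ev U) i s) = cι F c i U s :=
  ConcreteCategory.congr_hom (colimit.ι_desc ((ev U).mapCocone c) i) s

omit [Nonempty J] [IsDirected J (· ≤ ·)] in
lemma ι_tr (U : Opens X) {i j : J} (h : i ≤ j) (s : Sec F i U) :
    colimit.ι (F ⋙ ev U) j (tr F h U s) = colimit.ι (F ⋙ ev U) i s :=
  ConcreteCategory.congr_hom (colimit.w (F ⋙ ev U) (homOfLE h)) s

lemma Ψ_injective (U : Opens X)
    (hI : ∀ (k : J) (s t : Sec F k U), cι F c k U s = cι F c k U t →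
      ∃ (j : J) (hkj : k ≤ j), tr F hkj U s = tr F hkj U t) :
    Function.Injective (Ψ F c U) := by
  intro a b hab
  obtain ⟨i, s, rfl⟩ := Types.jointly_surjective' a
  obtain ⟨j, t, rfl⟩ := Types.jointly_surjective' b
  obtain ⟨k, hik, hjk⟩ := exists_ge_ge i j
  rw [← ι_tr F U hik s, ← ι_tr F U hjk t] at hab ⊢
  rw [Ψ_ι, Ψ_ι] at hab
  obtain ⟨l, hkl, e⟩ := hI k _ _ hab
  rw [← ι_tr F U hkl, ← ι_tr F U hkl (tr F hjk U t), e]

omit [Nonempty J] [IsDirected J (· ≤ ·)] in
lemma Ψ_surjective (U : Opens X)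
    (hS : ∀ σ : c.pt.obj.obj (op U), ∃ (i : J) (s : Sec F i U), cι F c i U s = σ) :
    Function.Surjective (Ψ F c U) := by
  intro σ
  obtain ⟨i, s, hs⟩ := hS σ
  exact ⟨colimit.ι (F ⋙ ev U) i s, (Ψ_ι F c U i s).trans hs⟩


include hc in
lemma surj3 (U : Opens X) (hU : IsCompact (U : Set X))
    (hinj : ∀ (i j : J) (h : i ⟶ j) (V : Opens X), Function.Injective ((F.map h).1.app (op V)))
    (σ : c.pt.obj.obj (op U)) : ∃ (i : J) (s : Sec F i U), cι F c i U s = σ := by
  classical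
  have hK := fun (x : U) => K2 F c hc U σ x.1 x.2
  choose V hVU hxV i s hs using hK
  obtain ⟨T, hT⟩ := hU.elim_finite_subcover (fun x : U => (V x : Set X)) (fun x => (V x).isOpen)
    (fun x hx => Set.mem_iUnion.2 ⟨⟨x, hx⟩, hxV ⟨x, hx⟩⟩)
  obtain ⟨i₀, hi₀⟩ := Finset.exists_le (T.image i)
  have hle : ∀ a : T, i a.1 ≤ i₀ := fun a => hi₀ _ (Finset.mem_image_of_mem i a.2)
  have hσ : ∀ a : T, cι F c i₀ (V a.1) (tr F (hle a) (V a.1) (s a.1)) = cres F c (hVU a.1) σ := by
    intro a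
    rw [cι_tr]
    exact hs a.1
  refine ⟨i₀, glue F c U (fun a : T => V a.1) (fun a => hVU a.1) ?_ i₀
    (fun a => tr F (hle a) (V a.1) (s a.1)) ?_ σ hσ⟩
  · intro x hx
    obtain ⟨y, hy⟩ := Set.mem_iUnion.1 (hT hx)
    obtain ⟨hyT, hxy⟩ := Set.mem_iUnion.1 hy
    exact Opens.mem_iSup.2 ⟨⟨y, hyT⟩, hxy⟩
  · intro a b
    apply L4 F c hc hinj
    rw [cι_res, cι_res, hσ a, hσ b, cres_cres, cres_cres]

include hc in
lemma compact_of_href (U : Opens X)
    (href : ∀ 𝒱 : Set (Opens X), (⨆ V ∈ 𝒱, V) = U →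
      ∃ (m : ℕ) (W : Fin m → Opens X), (∀ j, ∃ V ∈ 𝒱, W j ≤ V) ∧ (⨆ j, W j) = U ∧
        ∀ j j', IsCompact ((W j ⊓ W j' : Opens X) : Set X)) :
    IsCompact (U : Set X) := by
  obtain ⟨m, W, -, hWU, hWc⟩ := href {U} (by simp)
  rw [← hWU, Opens.coe_iSup]
  apply isCompact_iUnion
  intro j
  have := hWc j j
  rwa [inf_idem] at this

include hc in
lemma surj4 (U : Opens X)
    (href : ∀ 𝒱 : Set (Opens X), (⨆ V ∈ 𝒱, V) = U →
      ∃ (m : ℕ) (W : Fin m → Opens X), (∀ j, ∃ V ∈ 𝒱, W j ≤ V) ∧ (⨆ j, W j) = U ∧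
        ∀ j j', IsCompact ((W j ⊓ W j' : Opens X) : Set X))
    (σ : c.pt.obj.obj (op U)) : ∃ (i : J) (s : Sec F i U), cι F c i U s = σ := by
  classical
  have hK := fun (x : U) => K2 F c hc U σ x.1 x.2
  choose V hVU hxV i s hs using hK
  have hcov : (⨆ V' ∈ Set.range V, V') = U := by
    apply le_antisymm
    · refine iSup₂_le ?_
      rintro _ ⟨x, rfl⟩
      exact hVU x
    · intro x hx
      refine Opens.mem_iSup.2 ⟨V ⟨x, hx⟩, Opens.mem_iSup.2 ⟨⟨⟨x, hx⟩, rfl⟩, hxV ⟨x, hx⟩⟩⟩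
  obtain ⟨m, W, hWV, hWU, hWc⟩ := href (Set.range V) hcov
  choose Vj hVj hWVj using hWV
  choose x hx using hVj
  have hWx : ∀ j, W j ≤ V (x j) := fun j => (hx j) ▸ hWVj j
  have hWU' : ∀ j, W j ≤ U := fun j => hWU ▸ le_iSup W j
  obtain ⟨i₀, hi₀⟩ := Finset.exists_le (Finset.univ.image (fun j => i (x j)))
  have hle : ∀ j, i (x j) ≤ i₀ := fun j => hi₀ _ (Finset.mem_image_of_mem _ (Finset.mem_univ j))
  obtain ⟨s', hs'def⟩ : ∃ s' : ∀ j, Sec F i₀ (W j),
      s' = fun j => tr F (hle j) (W j) (res F _ (hWx j) (s (x j))) := ⟨_, rfl⟩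
  have hs' : ∀ j, cι F c i₀ (W j) (s' j) = cres F c (hWU' j) σ := by
    intro j
    have hsx : cι F c (i (x j)) (V (x j)) (s (x j)) = cres F c (hVU (x j)) σ := hs (x j)
    rw [hs'def]
    change cι F c i₀ (W j) (tr F (hle j) (W j) (res F _ (hWx j) (s (x j)))) = _
    rw [cι_tr, cι_res, hsx, cres_cres]
  have hov : ∀ j l, ∃ (k : J) (hk : i₀ ≤ k),
      tr F hk _ (res F i₀ (inf_le_left : W j ⊓ W l ≤ W j) (s' j)) =
        tr F hk _ (res F i₀ (inf_le_right : W j ⊓ W l ≤ W l) (s' l)) := fun j l =>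
    L3 F c hc (W j ⊓ W l) (hWc j l) i₀ _ _ (by
      rw [cι_res, cι_res, hs', hs', cres_cres, cres_cres])
  choose k hk ek using hov
  obtain ⟨i₁, hi₁⟩ := Finset.exists_le
    (insert i₀ (Finset.univ.image (fun p : Fin m × Fin m => k p.1 p.2)))
  have h01 : i₀ ≤ i₁ := hi₁ _ (Finset.mem_insert_self _ _)
  have hk1 : ∀ j l, k j l ≤ i₁ := fun j l =>
    hi₁ _ (Finset.mem_insert_of_mem (Finset.mem_image_of_mem (fun p : Fin m × Fin m => k p.1 p.2)
      (Finset.mem_univ (j, l))))
  refine ⟨i₁, glue F c U W hWU' (le_of_eq hWU.symm) i₁ (fun j => tr F h01 (W j) (s' j)) ?_ σ ?_⟩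
  · intro j l
    rw [← tr_res, ← tr_res, ← tr_tr F (hk j l) (hk1 j l), ← tr_tr F (hk j l) (hk1 j l), ek j l]
  · intro j
    rw [cι_tr]
    exact hs' j

end


/-- Let X be a topological space, I a directed set, (F_i) a system of sheaves of sets on X over I with
colimit F (in sheaves), U ⊆ X open, and Ψ : colim_i F_i(U) → F(U) the canonical map. (1) If all
transition maps F_i → F_{i'} are injective (on all sections) then Ψ is injective. (2)
Quasi-compactness of U alone already makes Ψ injective. (3) When U is quasi-compact and every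
transition map is injective, Ψ is bijective. (4) If every open covering of U can be refined by a
finite open covering U = U_1 ∪ … ∪ U_m with all U_j ∩ U_{j'} quasi-compact, then Ψ is bijective. -/
theorem result {X : TopCat.{u}} {J : Type u} [Preorder J] [Nonempty J] [IsDirected J (· ≤ ·)]
    (F : J ⥤ X.Sheaf (Type u)) (c : Cocone F) (hc : IsColimit c) (U : Opens X) :
    let ev := TopCat.Sheaf.forget (Type u) X ⋙ (evaluation (Opens X)ᵒᵖ (Type u)).obj (op U)
    let Ψ : colimit (F ⋙ ev) → ev.obj c.pt := colimit.desc (F ⋙ ev) (ev.mapCocone c)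
    ((∀ (i j : J) (h : i ⟶ j) (V : Opens X), Function.Injective ((F.map h).1.app (op V))) → Function.Injective Ψ) ∧
    (IsCompact (U : Set X) → Function.Injective Ψ) ∧
    (IsCompact (U : Set X) → (∀ (i j : J) (h : i ⟶ j) (V : Opens X), Function.Injective ((F.map h).1.app (op V))) →
      Function.Bijective Ψ) ∧
    ((∀ 𝒱 : Set (Opens X), (⨆ V ∈ 𝒱, V) = U →
        ∃ (m : ℕ) (W : Fin m → Opens X), (∀ j, ∃ V ∈ 𝒱, W j ≤ V) ∧ (⨆ j, W j) = U ∧
          ∀ j j', IsCompact ((W j ⊓ W j' : Opens X) : Set X)) →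
      Function.Bijective Ψ) := by
  intro ev Ψ
  refine ⟨fun hinj => Ψ_injective F c U (fun k s t h => ⟨k, le_rfl, by rw [L4 F c hc hinj U k s t h]⟩),
    fun hU => Ψ_injective F c U (L3 F c hc U hU),
    fun hU hinj => ⟨Ψ_injective F c U (L3 F c hc U hU), Ψ_surjective F c U (surj3 F c hc U hU hinj)⟩,
    fun href => ⟨Ψ_injective F c U (L3 F c hc U (compact_of_href F c hc U href)),
      Ψ_surjective F c U (surj4 F c hc U href)⟩⟩

end Groth.Agent.S7575
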