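import Groth.Statements.S7578
-- import your own Groth.Agent.* helpers here
import Groth.Agent.S7577

set_option autoImplicit false
universe u
open PtTop

namespace Groth.Agent.S7578

/-- Let X be a topological space which is locally Noetherian (every point has a Noetherian
neighbourhood) and sober, and let δ, δ' be two dimension functions on X. Then δ − δ' is locally
constant. -/
theorem result {X : Type u} [TopologicalSpace X] [QuasiSober X] [T0Space X]
    (hX : ∀ x : X, ∃ E ∈ nhds x, TopologicalSpace.NoetherianSpace E)
    (δ δ' : X → ℤ) (hδ : PtTop.IsDimensionFunction δ) (hδ' : PtTop.IsDimensionFunction δ') :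
    IsLocallyConstant (fun x => δ x - δ' x) := by
  classical
  have hg : ∀ x y : X, x ⤳ y → δ x - δ' x = δ y - δ' y := by
    intro x y hxy
    have h1 := (Groth.Agent.S7577.result δ hδ).2 x y hxy
    have h2 := (Groth.Agent.S7577.result δ' hδ').2 x y hxy
    rw [h1] at h2
    have h3 : (δ x - δ y).toNat = (δ' x - δ' y).toNat := by exact_mod_cast h2
    have h4 : δ y ≤ δ x := by
      by_cases h : x = y
      · rw [h]
      · exact (hδ.1 x y hxy h).le
    have h5 : δ' y ≤ δ' x := by
      by_cases h : x = y
      · rw [h]
      · exact (hδ'.1 x y hxy h).le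
    omega
  rw [IsLocallyConstant.iff_exists_open]
  intro x
  obtain ⟨E, hE, hEN⟩ := hX x
  set U : Set X := interior E with hU
  have hUo : IsOpen U := isOpen_interior
  have hxU : x ∈ U := mem_interior_iff_mem_nhds.2 hE
  haveI : TopologicalSpace.NoetherianSpace U := by
    rw [TopologicalSpace.noetherianSpace_set_iff] at hEN ⊢
    exact fun t ht => hEN t (ht.trans interior_subset)
  let x' : U := ⟨x, hxU⟩
  let T : Set U := ⋃ Z ∈ {Z : Set U | Z ∈ irreducibleComponents U ∧ x' ∉ Z}, Z
  have hTc : IsClosed T := by
    apply Set.Finite.isClosed_biUnion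
    · exact TopologicalSpace.NoetherianSpace.finite_irreducibleComponents.subset
        (fun Z hZ => hZ.1)
    · intro Z hZ
      exact isClosed_of_mem_irreducibleComponents Z hZ.1
  refine ⟨Subtype.val '' Tᶜ, hUo.isOpenMap_subtype_val _ hTc.isOpen_compl, ⟨x', ?_, rfl⟩, ?_⟩
  · intro hx
    simp only [T, Set.mem_iUnion, Set.mem_setOf_eq] at hx
    obtain ⟨Z, ⟨_, hxZ⟩, hx⟩ := hx
    exact hxZ hx
  · rintro _ ⟨y', hy', rfl⟩
    have hxZ : x' ∈ irreducibleComponent y' := by
      by_contra h
      apply hy'
      simp only [T, Set.mem_iUnion, Set.mem_setOf_eq]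
      exact ⟨_, ⟨irreducibleComponent_mem_irreducibleComponents y', h⟩, mem_irreducibleComponent⟩
    have hirr : IsIrreducible (Subtype.val '' irreducibleComponent y' : Set X) :=
      isIrreducible_irreducibleComponent.image _ continuous_subtype_val.continuousOn
    let ξ := hirr.closure.genericPoint
    have hξ : closure {ξ} = closure (Subtype.val '' irreducibleComponent y') :=
      hirr.closure.closure_genericPoint isClosed_closure
    have h1 : ξ ⤳ x := by
      rw [specializes_iff_mem_closure, hξ]
      exact subset_closure ⟨x', hxZ, rfl⟩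
    have h2 : ξ ⤳ (y' : X) := by
      rw [specializes_iff_mem_closure, hξ]
      exact subset_closure ⟨y', mem_irreducibleComponent, rfl⟩
    show δ (y' : X) - δ' (y' : X) = δ x - δ' x
    rw [← hg ξ _ h2, hg ξ x h1]

end Groth.Agent.S7578
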