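import Groth.Statements.S7579
-- import your own Groth.Agent.* helpers here

set_option autoImplicit false
universe u
open SpecSp

namespace Groth.Agent.S7579

theorem isClopen_preimage_of_compact_open {X : Type u} [TopologicalSpace X] {K : Set X}
    (hKo : IsOpen K) (hKc : IsCompact K) :
    IsClopen (WithTopology.ofTopology ⁻¹' K : Set (WithConstructibleTopology X)) := by
  constructor
  · rw [← isOpen_compl_iff, WithConstructibleTopology.isOpen_iff]
    exact IsCompact.isOpen_constructibleTopology_of_isClosed (s := Kᶜ) (by simpa using hKc)
      hKo.isClosed_compl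
  · rw [WithConstructibleTopology.isOpen_iff]
    exact hKc.isOpen_constructibleTopology_of_isOpen hKo

theorem exists_clopen_sep (X : Type u) [TopologicalSpace X] [SpectralSpace X]
    (x y : WithConstructibleTopology X) (hxy : x ≠ y) :
    ∃ U : Set (WithConstructibleTopology X), IsClopen U ∧ x ∈ U ∧ y ∉ U := by
  have hne : WithTopology.ofTopology x ≠ WithTopology.ofTopology y := fun h =>
    hxy (WithTopology.ofTopology_injective _ h)
  obtain ⟨U, hU, hx⟩ := exists_isOpen_xor_mem hne
  rcases hx with ⟨hxU, hyU⟩ | ⟨hyU, hxU⟩
  · obtain ⟨K, ⟨hKo, hKc⟩, hxK, hKU⟩ :=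
      PrespectralSpace.isTopologicalBasis.exists_subset_of_mem_open hxU hU
    exact ⟨WithTopology.ofTopology ⁻¹' K, isClopen_preimage_of_compact_open hKo hKc, hxK,
      fun h => hyU (hKU h)⟩
  · obtain ⟨K, ⟨hKo, hKc⟩, hyK, hKU⟩ :=
      PrespectralSpace.isTopologicalBasis.exists_subset_of_mem_open hyU hU
    exact ⟨(WithTopology.ofTopology ⁻¹' K)ᶜ, (isClopen_preimage_of_compact_open hKo hKc).compl,
      fun h => hxU (hKU h), fun h => h hyK⟩

/-- Let X be a spectral space. Then X with its constructible topology is Hausdorff and totally
disconnected. The published statement also asserts that the constructible topology is quasi-compact;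
this row states the Hausdorff and totally disconnected parts. -/
theorem result (X : Type u) [TopologicalSpace X] [SpectralSpace X] :
    T2Space (WithConstructibleTopology X) ∧ TotallyDisconnectedSpace (WithConstructibleTopology X) := by
  constructor
  · rw [t2Space_iff]
    intro x y hxy
    obtain ⟨U, hU, hxU, hyU⟩ := exists_clopen_sep X x y hxy
    exact ⟨U, Uᶜ, hU.isOpen, hU.compl.isOpen, hxU, hyU, disjoint_compl_right⟩
  · have : TotallySeparatedSpace (WithConstructibleTopology X) :=
      totallySeparatedSpace_iff_exists_isClopen.2 fun x y hxy => exists_clopen_sep X x y hxy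
    infer_instance

end Groth.Agent.S7579
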