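import Groth.Statements.S7590
import Mathlib
import Groth.Agent.Lib.Helper22.SchGeomConn14
-- import your own Groth.Agent.* helpers here

set_option autoImplicit false
universe u
open CategoryTheory CategoryTheory.Limits AlgebraicGeometry
open Variety

namespace Groth.Agent.S7590

/-- Let k be a separably closed field, K any extension field of k and X a scheme over k. Then the
projection X_K → X induces a bijection between the sets of connected components. -/
theorem result (k : Type u) [Field k] [IsSepClosed k] (X : Scheme.{u}) [X.Over (Spec (CommRingCat.of k))]
    (K : Type u) [Field K] [Algebra k K] :
    Function.Bijective (Continuous.connectedComponentsMap (Curv2.bcFst k X K).continuous) := by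
  exact Groth.Agent.Lib.Helper22.SchGeomConn.bijective_connectedComponentsMap_bcπ
    (X ↘ Spec (CommRingCat.of k)) K

end Groth.Agent.S7590
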