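import Groth.Statements.S7593
import Groth.Agent.Lib.Helper18.GalFibreGeom
open Groth.Agent.Lib.Helper18.GalFibre

set_option autoImplicit false
universe u
open CategoryTheory CategoryTheory.Limits AlgebraicGeometry
open Variety

namespace Groth.Agent.S7593

/-- Let k̄ be a separable algebraic closure of a field k, X a scheme over k and t a point of X_{k̄} with
image x in X. The connected component of t is mapped onto itself by the action of every
k-automorphism of k̄ if and only if it equals the full inverse image of the connected component T of
x in X and T is geometrically connected over k (the inverse image of T in X_K is connected for every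
extension field K of k). -/
theorem result (k : Type u) [Field k] (X : Scheme.{u}) [X.Over (Spec (CommRingCat.of k))] (t : ↥(Curv2.bc k X (SeparableClosure k))) :
    (∀ σ : SeparableClosure k ≃ₐ[k] SeparableClosure k,
        (Curv2.galAct k X (SeparableClosure k) σ).base '' connectedComponent t = connectedComponent t) ↔
      ((Curv2.bcFst k X (SeparableClosure k)).base ⁻¹' connectedComponent (Curv2.bcFst k X (SeparableClosure k) t) = connectedComponent t ∧
        ∀ (K : Type u) [Field K] [Algebra k K],
          _root_.IsConnected ((Curv2.bcFst k X K).base ⁻¹' connectedComponent (Curv2.bcFst k X (SeparableClosure k) t))) := by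
  let f := X ↘ Spec (CommRingCat.of k)
  constructor
  · intro hinv
    set C' := connectedComponent t with hC'
    set C := connectedComponent ((Curv2.bcFst k X (SeparableClosure k)).base t) with hC
    have hpre := preimage_image_eq_of_invariant (K := SeparableClosure k) f C' hinv
    have hDC : (Curv2.bcFst k X (SeparableClosure k)).base '' C' ⊆ C :=
      (isPreconnected_connectedComponent.image _
        (Curv2.bcFst k X (SeparableClosure k)).continuous.continuousOn).subset_connectedComponent
        ⟨t, mem_connectedComponent, rfl⟩
    have hconn : _root_.IsConnected ((pullback.fst f (sK k (SeparableClosure k))).base ⁻¹' C) := by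
      refine Groth.Agent.Lib.Helper22.SchGeomConn.isConnected_preimage_of_isAlgebraic f C
        ((Curv2.bcFst k X (SeparableClosure k)).base '' C') isPreconnected_connectedComponent hDC
        ⟨_, t, mem_connectedComponent, rfl⟩ (SeparableClosure k) ?_
      change _root_.IsPreconnected ((pullback.fst f (sK k (SeparableClosure k))).base ⁻¹'
        ((pullback.fst f (sK k (SeparableClosure k))).base '' C'))
      rw [hpre]
      exact isPreconnected_connectedComponent
    have h1 : (pullback.fst f (sK k (SeparableClosure k))).base ⁻¹' C ⊆ C' :=
      hconn.isPreconnected.subset_connectedComponent
        (show (pullback.fst f (sK k (SeparableClosure k))).base t ∈ C from mem_connectedComponent)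
    have h2 : C' ⊆ (pullback.fst f (sK k (SeparableClosure k))).base ⁻¹' C := by
      rw [← hpre]
      exact Set.preimage_mono hDC
    refine ⟨Set.Subset.antisymm h1 h2, ?_⟩
    intro K _ _
    exact isConnected_preimage_of_sepClosure f C isClosed_connectedComponent hconn K
  · rintro ⟨h, -⟩ σ
    rw [← h]
    exact actOf_image_preimage f σ _

end Groth.Agent.S7593
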