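import Groth.Statements.S7594
import Groth.Agent.Lib.Helper18.GeomIrrGen
import Groth.Agent.Lib.Helper18.GeomIrrAlg
open Groth.Agent.Lib.Helper18

set_option autoImplicit false
universe u
open CategoryTheory CategoryTheory.Limits AlgebraicGeometry
open Variety

namespace Groth.Agent.S7594

/-- A scheme X over a field k is geometrically irreducible over k precisely when the fibre product X ×_k
X of X with itself is an irreducible scheme. -/
theorem result (k : Type u) [Field k] (X : Scheme.{u}) [X.Over (Spec (CommRingCat.of k))] :
    GeometricallyIrreducible (X ↘ (Spec (CommRingCat.of k))) ↔ IrreducibleSpace ↥(pullback (X ↘ (Spec (CommRingCat.of k))) (X ↘ (Spec (CommRingCat.of k)))) := by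
  set f := X ↘ (Spec (CommRingCat.of k)) with hf
  constructor
  · intro h
    haveI : IrreducibleSpace X :=
      GeometricallyIrreducible.irreducibleSpace_of_subsingleton (f := f)
    infer_instance
  · intro hP
    haveI : Nonempty X := ⟨(pullback.fst f f) (Nonempty.some inferInstance)⟩
    haveI : IrreducibleSpace X := by
      rw [irreducibleSpace_def]
      show IsIrreducible (Set.univ : Set X)
      rw [← Set.range_eq_univ.mpr (GeomIrrGen.surjective_fst f f), ← Set.image_univ]
      exact (IrreducibleSpace.isIrreducible_univ _).image _
        (pullback.fst f f).continuous.continuousOn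
    letI : Algebra k (X.residueField (genericPoint X)) :=
      (GeomIrrGen.resMap f (genericPoint X)).toAlgebra
    have hsep : ∀ α : X.residueField (genericPoint X), IsSeparable k α →
        α ∈ Set.range (algebraMap k (X.residueField (genericPoint X))) := by
      intro α hα
      let g := X.fromSpecResidueField (genericPoint X)
      haveI h1 : IrreducibleSpace ↥(pullback g (pullback.fst f f)) :=
        GeomIrrGen.irreducibleSpace_pullback_generic _ (GeomIrrGen.surjective_fst f f)
      let i1 : pullback g (pullback.fst f f) ≅ pullback (g ≫ f) f :=
        pullbackRightPullbackFstIso f f g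
      let i2 : pullback (g ≫ f) f ≅ pullback f (g ≫ f) := pullbackSymmetry _ _
      let i3 : pullback f (g ≫ f) ≅ pullback f (Spec.map (CommRingCat.ofHom
          (algebraMap k (X.residueField (genericPoint X))))) :=
        pullback.congrHom rfl (GeomIrrGen.fromSpecResidueField_comp f (genericPoint X))
      haveI : IrreducibleSpace ↥(pullback f (Spec.map (CommRingCat.ofHom
          (algebraMap k (X.residueField (genericPoint X)))))) :=
        Curve.irreducibleSpace_of_homeomorph (Scheme.homeoOfIso (i1 ≪≫ i2 ≪≫ i3))
      have hKK := GeomIrrGen.irreducibleSpace_tensor_of_bc f (X.residueField (genericPoint X))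
      exact GeomIrrAlg.mem_range_of_irreducible_tensor α hα (GeomIrrAlg.adjoinRootToField α) hKK
    refine GeomIrrGen.geometricallyIrreducible_of_generic f ?_
    exact Groth.Agent.Lib.Helper22.SchGeomConn.geometricallyIrreducible_specMap_of_sepClosedIn
      (k := k) (F := X.residueField (genericPoint X)) hsep

end Groth.Agent.S7594
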