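import Groth.Statements.S7596
import Mathlib
import Groth.Agent.Lib.Helper22.NoPIPoints
-- import your own Groth.Agent.* helpers here

set_option autoImplicit false
universe u
open CategoryTheory CategoryTheory.Limits AlgebraicGeometry
open Variety

namespace Groth.Agent.S7596

/-- Let X be an irreducible scheme over a field k whose k-rational points (points x at which k → κ(x) is
onto) form a dense subset. Then X is geometrically irreducible over k. -/
theorem result (k : Type u) [Field k] (X : Scheme.{u}) [X.Over (Spec (CommRingCat.of k))] [IrreducibleSpace ↥X]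
    (hd : Dense {x : ↥X | Function.Surjective (Curv2.resMap k X x)}) :
    GeometricallyIrreducible (X ↘ (Spec (CommRingCat.of k))) := by
  by_contra h
  obtain ⟨V, hξV, hV⟩ := Groth.Agent.Lib.Helper22.NoPIPoints.exists_open_no_purelyInseparable
    (X ↘ (Spec (CommRingCat.of k))) h
  obtain ⟨x, hxV, hx⟩ := hd.inter_open_nonempty (V : Set X) V.isOpen ⟨_, hξV⟩
  apply hV x hxV
  letI : Algebra k (X.residueField x) :=
    (Groth.Agent.Lib.Helper18.GeomIrrGen.resMap (X ↘ (Spec (CommRingCat.of k))) x).toAlgebra
  have hsurj : Function.Surjective (algebraMap k (X.residueField x)) := hx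
  exact isPurelyInseparable_iff.mpr (fun y => by
    obtain ⟨c, rfl⟩ := hsurj y
    exact ⟨isIntegral_algebraMap, fun _ => ⟨c, rfl⟩⟩)

end Groth.Agent.S7596
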