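import Groth.Statements.S7597
import Groth.Agent.Lib.Helper18.GalFibreGeom
open Groth.Agent.Lib.Helper18.GalFibre

set_option autoImplicit false
universe u
open CategoryTheory CategoryTheory.Limits AlgebraicGeometry
open Variety

namespace Groth.Agent.S7597

/-- Let k̄ be a separable algebraic closure of a field k, X a scheme over k and Z an irreducible
component of X_{k̄}. Then Z is mapped onto itself by the action of every k-automorphism of k̄ if and
only if Z is the full inverse image of some irreducible component T of X which is geometrically
irreducible over k (the inverse image of T in X_K is irreducible for every extension field K of k). -/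
theorem result (k : Type u) [Field k] (X : Scheme.{u}) [X.Over (Spec (CommRingCat.of k))]
    (Z : Set ↥(Curv2.bc k X (SeparableClosure k))) (hZ : Z ∈ irreducibleComponents ↥(Curv2.bc k X (SeparableClosure k))) :
    (∀ σ : SeparableClosure k ≃ₐ[k] SeparableClosure k, (Curv2.galAct k X (SeparableClosure k) σ).base '' Z = Z) ↔
      ∃ T ∈ irreducibleComponents ↥X, (Curv2.bcFst k X (SeparableClosure k)).base ⁻¹' T = Z ∧
        ∀ (K : Type u) [Field K] [Algebra k K], IsIrreducible ((Curv2.bcFst k X K).base ⁻¹' T) := by
  let f := X ↘ Spec (CommRingCat.of k)
  constructor
  · intro hinv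
    have hZcl : IsClosed Z := isClosed_of_mem_irreducibleComponents _ hZ
    haveI : IsIntegralHom (sK k (SeparableClosure k)) := by
      rw [IsIntegralHom.SpecMap_iff]
      exact algebraMap_isIntegral_iff.mpr inferInstance
    have hclosed : IsClosedMap (pullback.fst f (sK k (SeparableClosure k))).base :=
      (pullback.fst f (sK k (SeparableClosure k))).isClosedMap
    have hpre := preimage_image_eq_of_invariant (K := SeparableClosure k) f Z hinv
    refine ⟨(Curv2.bcFst k X (SeparableClosure k)).base '' Z,
      image_mem_irreducibleComponents_of_component (K := SeparableClosure k) f hZ, hpre, ?_⟩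
    intro K _ _
    refine isIrreducible_preimage_of_sepClosure f _ (hclosed _ hZcl) ?_ K
    rw [hpre]
    exact hZ.1
  · rintro ⟨T, _, rfl, -⟩ σ
    exact actOf_image_preimage f σ T

end Groth.Agent.S7597
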