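import Groth.Statements.S7598
import Groth.Agent.Lib.Helper18.GalFibre
open Groth.Agent.Lib.Helper18.GalFibre

set_option autoImplicit false
universe u
open CategoryTheory CategoryTheory.Limits AlgebraicGeometry
open Variety

namespace Groth.Agent.S7598

/-- Let k̄ be a separable algebraic closure of a field k and X a scheme over k. Two irreducible
components Z', Z'' of X_{k̄} have the same image in X if and only if Z'' is the image of Z' under
the action of some k-automorphism of k̄ on X_{k̄} (the fibres of the map on irreducible components
are the Galois orbits). -/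
theorem result (k : Type u) [Field k] (X : Scheme.{u}) [X.Over (Spec (CommRingCat.of k))]
    (Z' Z'' : Set ↥(Curv2.bc k X (SeparableClosure k))) (hZ' : Z' ∈ irreducibleComponents ↥(Curv2.bc k X (SeparableClosure k)))
    (hZ'' : Z'' ∈ irreducibleComponents ↥(Curv2.bc k X (SeparableClosure k))) :
    (Curv2.bcFst k X (SeparableClosure k)).base '' Z' = (Curv2.bcFst k X (SeparableClosure k)).base '' Z'' ↔
      ∃ σ : SeparableClosure k ≃ₐ[k] SeparableClosure k, (Curv2.galAct k X (SeparableClosure k) σ).base '' Z' = Z'' := by
  let f := X ↘ Spec (CommRingCat.of k)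
  constructor
  · intro h
    refine exists_actOf_image_eq (K := SeparableClosure k) f hZ' hZ'' ?_
    intro ξ hξ
    have hmem : (Curv2.bcFst k X (SeparableClosure k)).base ξ ∈
        (Curv2.bcFst k X (SeparableClosure k)).base '' Z'' := ⟨ξ, hξ.mem, rfl⟩
    rw [← h] at hmem
    obtain ⟨z, hz, hzξ⟩ := hmem
    exact ⟨z, hz, hzξ⟩
  · rintro ⟨σ, rfl⟩
    rw [Set.image_image]
    apply Set.image_congr
    intro t _
    exact (fst_actOf_apply f σ t).symm

end Groth.Agent.S7598
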