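import Groth.Statements.S7603
import Mathlib
import Groth.Agent.Lib.Helper22.NormalConnIrr
-- import your own Groth.Agent.* helpers here

set_option autoImplicit false
universe u
open CategoryTheory CategoryTheory.Limits AlgebraicGeometry
open Variety

namespace Groth.Agent.S7603

/-- (2) ⇔ (3): let X be a proper scheme over a field k which is geometrically normal (X_K is a normal
scheme for every extension field K of k). Then X is geometrically connected over k exactly when it
is geometrically irreducible over k. (The published statement lists geometric integrality as a
further equivalent condition; given geometric normality it is equivalent to geometric irreducibility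
by a direct argument, so this row omits it.) -/
theorem result (k : Type u) [Field k] (X : Scheme.{u}) [X.Over (Spec (CommRingCat.of k))] [IsProper (X ↘ (Spec (CommRingCat.of k)))]
    (hX : ∀ (K : Type u) [Field K] [Algebra k K], Pi1.IsNormalScheme (Curv2.bc k X K)) :
    GeometricallyConnected (X ↘ (Spec (CommRingCat.of k))) ↔ GeometricallyIrreducible (X ↘ (Spec (CommRingCat.of k))) := by
  constructor
  · intro hconn
    refine ⟨geometrically_iff_of_isClosedUnderIsomorphisms.mpr fun K _ y ↦ ?_⟩
    obtain ⟨φ, rfl⟩ := Spec.map_surjective y
    algebraize [φ.hom]
    have hn : Pi1.IsNormalScheme (Curv2.bc k X K) := hX K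
    haveI hc : ConnectedSpace ↥(Curv2.bc k X K) :=
      pullback_of_geometrically
        (GeometricallyConnected.geometrically_connectedSpace
          (f := X ↘ (Spec (CommRingCat.of k)))) K _
    haveI : IsProper (pullback.snd (X ↘ (Spec (CommRingCat.of k)))
        (Spec.map (CommRingCat.ofHom (algebraMap k K)))) := inferInstance
    haveI : IsLocallyNoetherian (Curv2.bc k X K) :=
      LocallyOfFiniteType.isLocallyNoetherian (pullback.snd (X ↘ (Spec (CommRingCat.of k)))
        (Spec.map (CommRingCat.ofHom (algebraMap k K))))
    haveI : CompactSpace ↥(Curv2.bc k X K) :=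
      QuasiCompact.compactSpace_of_compactSpace (pullback.snd (X ↘ (Spec (CommRingCat.of k)))
        (Spec.map (CommRingCat.ofHom (algebraMap k K))))
    haveI : IsNoetherian (Curv2.bc k X K) := ⟨⟩
    exact Groth.Agent.Lib.Helper22.NormalConnIrr.irreducibleSpace_of_connected_of_isDomain_stalk
      (Curv2.bc k X K) (fun x => (hn x).1)
  · intro hirr
    refine ⟨geometrically_iff_of_isClosedUnderIsomorphisms.mpr fun K _ y ↦ ?_⟩
    haveI : IrreducibleSpace ↥(pullback (X ↘ (Spec (CommRingCat.of k))) y) :=
      pullback_of_geometrically
        (GeometricallyIrreducible.geometrically_irreducibleSpace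
          (f := X ↘ (Spec (CommRingCat.of k)))) K y
    infer_instance

end Groth.Agent.S7603
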