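import Groth.Statements.S7608
import Mathlib
import Groth.Agent.Lib.Helper21.FibreBC
import Groth.Agent.Lib.Helper5.StalkBCE
-- import your own Groth.Agent.* helpers here

set_option autoImplicit false
universe u
open CategoryTheory CategoryTheory.Limits AlgebraicGeometry
open Variety

namespace Groth.Agent.S7608

/-- Let X be a locally Noetherian scheme over a field k, k' a finitely generated field extension of k
and x' a point of X_{k'} with image x in X. Then the local ring O_{X, x} is Cohen-Macaulay if and
only if O_{X_{k'}, x'} is Cohen-Macaulay. -/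
theorem result (k : Type u) [Field k] (X : Scheme.{u}) [X.Over (Spec (CommRingCat.of k))] [IsLocallyNoetherian X] (k' : Type u) [Field k'] [Algebra k k']
    (hfg : (⊤ : IntermediateField k k').FG) (x' : ↥(Curv2.bc k X k')) :
    LocCoh.IsCohenMacaulayLocalRing ↥(X.presheaf.stalk (Curv2.bcFst k X k' x')) ↔
      LocCoh.IsCohenMacaulayLocalRing ↥((Curv2.bc k X k').presheaf.stalk x') := by
  letI := Curv2.stalkAlgebra k X (Curv2.bcFst k X k' x')
  obtain ⟨Q, hQ, hQm, ⟨e⟩⟩ := Groth.Agent.Lib.Helper5.StalkBC.exists_equiv_of_point' k X k'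
    (Curv2.bcFst k X k' x') x' rfl
  haveI : Algebra.EssFiniteType k k' := IntermediateField.fg_top_iff.mp hfg
  have h := Groth.Agent.Lib.Helper21.FibreBCAlg.cm_loc_tensor_iff k
    (X.presheaf.stalk (Curv2.bcFst k X k' x')) k' (Or.inr inferInstance) Q hQm
  constructor
  · intro h'
    exact Groth.Agent.Lib.Helper21.FibreBCAlg.isCMLocal_of_ringEquiv e.symm (h.2 h')
  · intro h'
    exact h.1 (Groth.Agent.Lib.Helper21.FibreBCAlg.isCMLocal_of_ringEquiv e h')

end Groth.Agent.S7608
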