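import Groth.Statements.S7609
import Mathlib
import Groth.Agent.Lib.Helper21.FibreBC
import Groth.Agent.Lib.Helper5.StalkBCE
import Groth.Agent.Lib.helper19.SepHyp2
-- import your own Groth.Agent.* helpers here

set_option autoImplicit false
universe u
open CategoryTheory CategoryTheory.Limits AlgebraicGeometry
open Variety

namespace Groth.Agent.S7609

/-- Let X be a scheme locally of finite type over a field k, k' any extension field of k and x' a point
of X_{k'} with image x in X. Then the local ring O_{X, x} is Cohen-Macaulay if and only if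
O_{X_{k'}, x'} is Cohen-Macaulay. -/
theorem result (k : Type u) [Field k] (X : Scheme.{u}) [X.Over (Spec (CommRingCat.of k))] [LocallyOfFiniteType (X ↘ (Spec (CommRingCat.of k)))]
    (k' : Type u) [Field k'] [Algebra k k'] (x' : ↥(Curv2.bc k X k')) :
    LocCoh.IsCohenMacaulayLocalRing ↥(X.presheaf.stalk (Curv2.bcFst k X k' x')) ↔
      LocCoh.IsCohenMacaulayLocalRing ↥((Curv2.bc k X k').presheaf.stalk x') := by
  letI := Curv2.stalkAlgebra k X (Curv2.bcFst k X k' x')
  obtain ⟨Q, hQ, hQm, ⟨e⟩⟩ := Groth.Agent.Lib.Helper5.StalkBC.exists_equiv_of_point' k X k'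
    (Curv2.bcFst k X k' x') x' rfl
  haveI : Algebra.EssFiniteType k (X.presheaf.stalk (Curv2.bcFst k X k' x')) :=
    Groth.Agent.Lib.Helper19.SepHyp2.essFiniteType_stalk k X _
  haveI : IsNoetherianRing (X.presheaf.stalk (Curv2.bcFst k X k' x')) :=
    Algebra.EssFiniteType.isNoetherianRing k _
  have h := Groth.Agent.Lib.Helper21.FibreBCAlg.cm_loc_tensor_iff k
    (X.presheaf.stalk (Curv2.bcFst k X k' x')) k' (Or.inl inferInstance) Q hQm
  constructor
  · intro h'
    exact Groth.Agent.Lib.Helper21.FibreBCAlg.isCMLocal_of_ringEquiv e.symm (h.2 h')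
  · intro h'
    exact h.1 (Groth.Agent.Lib.Helper21.FibreBCAlg.isCMLocal_of_ringEquiv e h')

end Groth.Agent.S7609
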