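import Groth.Statements.S7612
import Mathlib
-- import your own Groth.Agent.* helpers here

set_option autoImplicit false
universe u
open CategoryTheory CategoryTheory.Limits AlgebraicGeometry
open Variety

namespace Groth.Agent.S7612

section H
namespace W28
set_option backward.isDefEq.respectTransparency.types false

theorem isOpenMap_fiber {X Y S Z : Scheme.{u}} [IsIntegral S] [Subsingleton S]
    {p : Z ⟶ X} {q : Z ⟶ Y} {f : X ⟶ S} {g : Y ⟶ S} (hsq : IsPullback p q f g) (b : Y) :
    IsOpenMap (q.fiberι b ≫ p) := by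
  have hfib : IsPullback (q.fiberι b) (q.fiberToSpecResidueField b) q (Y.fromSpecResidueField b) :=
    IsPullback.of_hasPullback _ _
  have hbig := hfib.paste_horiz hsq
  have hu : UniversallyOpen (Y.fromSpecResidueField b ≫ g) := inferInstance
  have : UniversallyOpen (q.fiberι b ≫ p) :=
    MorphismProperty.of_isPullback (P := @UniversallyOpen) hbig.flip hu
  exact (q.fiberι b ≫ p).isOpenMap

theorem step {X Y S Z : Scheme.{u}} [IsIntegral S] [Subsingleton S]
    {p : Z ⟶ X} {q : Z ⟶ Y} {f : X ⟶ S} {g : Y ⟶ S} (hsq : IsPullback p q f g)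
    (A : Set X) (B : Set Y) :
    p ⁻¹' closure A ∩ q ⁻¹' B ⊆ closure (p ⁻¹' A ∩ q ⁻¹' B) := by
  rintro w ⟨hwA, hwB⟩
  rw [mem_closure_iff]
  intro o ho hwo
  have hw : w ∈ Set.range (q.fiberι (q w)) := by
    rw [Scheme.Hom.range_fiberι]; rfl
  obtain ⟨v, hv⟩ := hw
  let O' : Set (q.fiber (q w)) := (q.fiberι (q w)) ⁻¹' o
  have hO' : IsOpen O' := ho.preimage (q.fiberι (q w)).continuous
  have hN : IsOpen ((q.fiberι (q w) ≫ p) '' O') := isOpenMap_fiber hsq (q w) _ hO'
  have hpw : p w ∈ (q.fiberι (q w) ≫ p) '' O' := by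
    refine ⟨v, ?_, ?_⟩
    · show q.fiberι (q w) v ∈ o
      rw [hv]; exact hwo
    · rw [Scheme.Hom.comp_apply, hv]
  obtain ⟨a, ⟨v', hv'O, hv'a⟩, haA⟩ := mem_closure_iff.mp hwA _ hN hpw
  refine ⟨q.fiberι (q w) v', hv'O, ?_, ?_⟩
  · show p (q.fiberι (q w) v') ∈ A
    rw [Scheme.Hom.comp_apply] at hv'a
    rw [hv'a]; exact haA
  · have h1 : q.fiberι (q w) v' ∈ Set.range (q.fiberι (q w)) := ⟨v', rfl⟩
    rw [Scheme.Hom.range_fiberι] at h1
    show q (q.fiberι (q w) v') ∈ B
    rw [h1]; exact hwB

theorem main (k : Type u) [Field k] (X Y : Scheme.{u}) (f : X ⟶ Spec (CommRingCat.of k))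
    (g : Y ⟶ Spec (CommRingCat.of k)) (A : Set ↥X) (B : Set ↥Y) :
    closure ((pullback.fst f g).base ⁻¹' A ∩ (pullback.snd f g).base ⁻¹' B) =
      (pullback.fst f g).base ⁻¹' closure A ∩ (pullback.snd f g).base ⁻¹' closure B := by
  have hsq := IsPullback.of_hasPullback f g
  apply le_antisymm
  · apply closure_minimal
    · exact Set.inter_subset_inter (Set.preimage_mono subset_closure) (Set.preimage_mono subset_closure)
    · exact (isClosed_closure.preimage (pullback.fst f g).continuous).inter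
        (isClosed_closure.preimage (pullback.snd f g).continuous)
  · have h1 := step hsq.flip B (closure A)
    have h2 := step hsq A B
    intro w hw
    have hw' : w ∈ closure ((pullback.snd f g) ⁻¹' B ∩ (pullback.fst f g) ⁻¹' closure A) :=
      h1 ⟨hw.2, hw.1⟩
    rw [Set.inter_comm] at hw'
    have := closure_mono h2 hw'
    rw [closure_closure] at this
    exact this

end W28
end H


/-- Let X and Y be schemes over a field k and A ⊆ X, B ⊆ Y subsets. Inside X ×_k Y, the closure of the
set of points projecting into A and into B equals the set of points projecting into the closure of A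
and into the closure of B. -/
theorem result (k : Type u) [Field k] (X : Scheme.{u}) [X.Over (Spec (CommRingCat.of k))] (Y : Scheme.{u}) [Y.Over (Spec (CommRingCat.of k))] (A : Set ↥X) (B : Set ↥Y) :
    closure ((pullback.fst (X ↘ (Spec (CommRingCat.of k))) (Y ↘ (Spec (CommRingCat.of k)))).base ⁻¹' A ∩ (pullback.snd (X ↘ (Spec (CommRingCat.of k))) (Y ↘ (Spec (CommRingCat.of k)))).base ⁻¹' B) =
      (pullback.fst (X ↘ (Spec (CommRingCat.of k))) (Y ↘ (Spec (CommRingCat.of k)))).base ⁻¹' closure A ∩ (pullback.snd (X ↘ (Spec (CommRingCat.of k))) (Y ↘ (Spec (CommRingCat.of k)))).base ⁻¹' closure B := by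
  exact W28.main k X Y _ _ A B

end Groth.Agent.S7612
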