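import Groth.Statements.S7613
import Mathlib
import Groth.Agent.Lib.Helper22.SmoothRat
import Groth.Agent.S1540
import Groth.Agent.S1549
-- import your own Groth.Agent.* helpers here

set_option autoImplicit false
universe u
open CategoryTheory CategoryTheory.Limits AlgebraicGeometry
open Variety

namespace Groth.Agent.S7613

/-- Let X be a variety over a field k (integral, separated and of finite type over k) with a k-rational
point x (k → κ(x) onto) such that X → Spec k is smooth at x. Then every base change of X to an
extension field of k is an integral scheme (X is geometrically integral over k). -/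
theorem result (k : Type u) [Field k] (X : Scheme.{u}) [X.Over (Spec (CommRingCat.of k))] [IsIntegral X] [IsSeparated (X ↘ (Spec (CommRingCat.of k)))]
    [LocallyOfFiniteType (X ↘ (Spec (CommRingCat.of k)))] [QuasiCompact (X ↘ (Spec (CommRingCat.of k)))]
    (x : ↥X) (hx : Function.Surjective (Curv2.resMap k X x)) (hsm : x ∈ (X ↘ (Spec (CommRingCat.of k))).smoothLocus) :
    GeometricallyIntegral (X ↘ (Spec (CommRingCat.of k))) := by
  haveI : IsLocallyNoetherian X :=
    LocallyOfFiniteType.isLocallyNoetherian (X ↘ (Spec (CommRingCat.of k)))
  haveI : LocallyOfFinitePresentation (X ↘ (Spec (CommRingCat.of k))) := inferInstance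
  -- geometrically reduced
  haveI hred : GeometricallyReduced (X ↘ (Spec (CommRingCat.of k))) := by
    rw [Groth.Agent.S1549.result k X]
    refine ⟨(X ↘ (Spec (CommRingCat.of k))).smoothLocus, ?_, ?_⟩
    · exact (X ↘ (Spec (CommRingCat.of k))).smoothLocus.2.dense ⟨x, hsm⟩
    · rw [← Scheme.Hom.smoothLocus_eq_top_iff, ← Scheme.Hom.preimage_smoothLocus_eq]
      ext y
      simp
  -- geometrically irreducible
  haveI hirr : GeometricallyIrreducible (X ↘ (Spec (CommRingCat.of k))) := by
    rw [Groth.Agent.S1540.result k X]
    intro a ha
    letI := Curv2.resAlgebra k X (genericPoint X)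
    obtain ⟨h1, h2⟩ := Groth.Agent.Lib.Helper22.SmoothRat.isIntegrallyClosed_stalk_of_mem_smoothLocus
      k (X ↘ (Spec (CommRingCat.of k))) x hsm
    exact Groth.Agent.Lib.Helper22.SmoothRat.mem_range_of_isIntegral k X x hx h2 a ha.isIntegral
  exact GeometricallyIntegral.of_geometricallyReduced_of_geometricallyIrreducible _

end Groth.Agent.S7613
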