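import Groth.Statements.S7614
import Groth.Agent.Lib.Helper9.QAff1

set_option backward.isDefEq.respectTransparency false
set_option maxHeartbeats 800000

set_option autoImplicit false
universe u
open CategoryTheory CategoryTheory.Limits AlgebraicGeometry
open Variety

namespace Groth.Agent.S7614

open Groth.Agent.Lib.Helper9.QAff

theorem qs_of_surj {W X : Scheme.{u}} (f : W ⟶ X) [Surjective f] [QuasiCompact f]
    [QuasiSeparatedSpace W] : QuasiSeparatedSpace X := by
  refine ⟨fun U V hU hUc hV hVc => ?_⟩
  have h1 : IsCompact (f.base ⁻¹' U) := QuasiCompact.isCompact_preimage (f := f) U hU hUc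
  have h2 : IsCompact (f.base ⁻¹' V) := QuasiCompact.isCompact_preimage (f := f) V hV hVc
  have h3 := QuasiSeparatedSpace.inter_isCompact _ _ (hU.preimage f.continuous) h1
    (hV.preimage f.continuous) h2
  have h4 : f.base '' (f.base ⁻¹' U ∩ f.base ⁻¹' V) = U ∩ V := by
    rw [← Set.preimage_inter, Set.image_preimage_eq _ f.surjective]
  rw [← h4]
  exact h3.image f.continuous

theorem compact_of_surj {W X : Scheme.{u}} (f : W ⟶ X) [Surjective f] [CompactSpace W] :
    CompactSpace X := by
  refine ⟨?_⟩
  have : f.base '' Set.univ = Set.univ := Set.image_univ_of_surjective f.surjective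
  rw [← this]
  exact isCompact_univ.image f.continuous

theorem main (k : Type u) [Field k] (X : Scheme.{u}) (a : X ⟶ Spec (CommRingCat.of k))
    (K : Type u) [Field K] [Algebra k K]
    [(pullback a (Spec.map (CommRingCat.ofHom (algebraMap k K)))).IsQuasiAffine] :
    X.IsQuasiAffine := by
  set p : Spec (CommRingCat.of K) ⟶ Spec (CommRingCat.of k) :=
    Spec.map (CommRingCat.ofHom (algebraMap k K)) with hp
  have H : IsPullback (pullback.fst a p) (pullback.snd a p) a p := IsPullback.of_hasPullback a p
  haveI : Flat p := by
    rw [hp, HasRingHomProperty.Spec_iff (P := @Flat)]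
    rw [CommRingCat.hom_ofHom, RingHom.flat_algebraMap_iff]
    infer_instance
  haveI : Surjective p := by
    refine ⟨fun x => ?_⟩
    haveI : Nonempty (Spec (CommRingCat.of K)) := inferInstance
    obtain ⟨y⟩ := this
    refine ⟨y, Subsingleton.elim _ _⟩
  haveI : CompactSpace X := compact_of_surj (pullback.fst a p)
  haveI : QuasiSeparatedSpace X := qs_of_surj (pullback.fst a p)
  have H1 := isPullback_aff a p (pullback.fst a p) (pullback.snd a p) H
  have H2 : IsPullback (pullback a p).toSpecΓ (pullback.fst a p) (affm (pullback.fst a p))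
      X.toSpecΓ := by
    refine IsPullback.of_right ?_ (η_affm _) H1.flip
    rw [η_affMap, η_affMap]
    exact H.flip
  have hQ : (@Surjective ⊓ @Flat ⊓ @QuasiCompact : MorphismProperty Scheme.{u})
      (affm (pullback.fst a p)) := by
    refine MorphismProperty.of_isPullback H1.flip ?_
    exact ⟨⟨inferInstance, inferInstance⟩, inferInstance⟩
  haveI : IsOpenImmersion X.toSpecΓ :=
    MorphismProperty.of_isPullback_of_descendsAlong (P := @IsOpenImmersion)
      (Q := @Surjective ⊓ @Flat ⊓ @QuasiCompact) H2 hQ inferInstance
  exact { }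


/-- Let X be a scheme over a field k and K an extension field of k. If X_K is quasi-affine, then X is
quasi-affine. -/
theorem result (k : Type u) [Field k] (X : Scheme.{u}) [X.Over (Spec (CommRingCat.of k))] (K : Type u) [Field K] [Algebra k K]
    [(Curv2.bc k X K).IsQuasiAffine] : X.IsQuasiAffine := by
  exact main k X (X ↘ Spec (CommRingCat.of k)) K

end Groth.Agent.S7614
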