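import Groth.Statements.S7617
import Mathlib
import Groth.Agent.Lib.Helper22.GeomRegNorm
-- import your own Groth.Agent.* helpers here

set_option autoImplicit false
universe u
open CategoryTheory CategoryTheory.Limits AlgebraicGeometry
open Variety

namespace Groth.Agent.S7617

/-- Let X be an integral scheme locally of finite type over a field k, ν : X^ν → X its normalization,
and x a point of X with dim O_{X, x} = 1 such that for every point x' of X^ν over x the residue
field κ(x') is separable over k (Spec κ(x') → Spec k geometrically reduced). Then X is geometrically
reduced at x, and at every point of X^ν over x the normalization is geometrically regular. (The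
published statement covers every scheme locally of finite type over k with reduced local ring at x,
using the normalization of a possibly non-integral scheme; this row takes X integral.) -/
theorem result (k : Type u) [Field k] (X : Scheme.{u}) [X.Over (Spec (CommRingCat.of k))] [IsIntegral X] [LocallyOfFiniteType (X ↘ (Spec (CommRingCat.of k)))]
    [QuasiCompact (X.fromSpecStalk (genericPoint X))] [QuasiSeparated (X.fromSpecStalk (genericPoint X))]
    (x : ↥X) (hdim : ringKrullDim ↥(X.presheaf.stalk x) = 1)
    (hsep : letI : (Curv2.normalization X).Over (Spec (CommRingCat.of k)) := ⟨Curv2.normalizationι X ≫ (X ↘ (Spec (CommRingCat.of k)))⟩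
      ∀ x' : ↥(Curv2.normalization X), Curv2.normalizationι X x' = x →
        GeometricallyReduced (Spec.map (CommRingCat.ofHom (Curv2.resMap k (Curv2.normalization X) x')))) :
    Curv2.IsGeomReducedAt k X x ∧
      letI : (Curv2.normalization X).Over (Spec (CommRingCat.of k)) := ⟨Curv2.normalizationι X ≫ (X ↘ (Spec (CommRingCat.of k)))⟩
      ∀ x' : ↥(Curv2.normalization X), Curv2.normalizationι X x' = x → Curv2.IsGeomRegularAt k (Curv2.normalization X) x' := by
  open Groth.Agent.Lib.Helper13.BranchGeom in
  refine ⟨?_, ?_⟩
  · -- a point of the normalization over `x`
    haveI : Nontrivial (integralClosure (X.presheaf.stalk x) X.functionField) := inferInstance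
    obtain ⟨M, hM⟩ := Ideal.exists_maximal (integralClosure (X.presheaf.stalk x) X.functionField)
    obtain ⟨x', hx', -⟩ := Groth.Agent.Lib.Helper22.DeltaInv.exists_point_of_maximal k X x ⟨M, hM⟩
    have hx'' : Curv2.normalizationι X x' = x := hx'
    subst hx''
    exact Groth.Agent.Lib.Helper22.GeomRegNorm.isGeomReducedAt k X x' hdim (hsep x' rfl)
  · intro x' hx'
    subst hx'
    exact Groth.Agent.Lib.Helper22.GeomRegNorm.isGeomRegularAt k X x' hdim (hsep x' rfl)

end Groth.Agent.S7617
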