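import Groth.Statements.S7618
import Mathlib
-- import your own Groth.Agent.* helpers here

set_option autoImplicit false
universe u
open CategoryTheory CategoryTheory.Limits AlgebraicGeometry
open Variety

namespace Groth.Agent.S7618

theorem idem_trivial (X : Scheme.{u}) [ConnectedSpace ↥X] [IsReduced X] (e : Γ(X, ⊤))
    (he : e * e = e) : e = 0 ∨ e = 1 := by
  have h1 : X.basicOpen e ⊓ X.basicOpen (1 - e) = ⊥ := by
    rw [← Scheme.basicOpen_mul, mul_sub, mul_one, he, sub_self, Scheme.basicOpen_zero]
  have h2 : X.basicOpen e ⊔ X.basicOpen (1 - e) = ⊤ := by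
    apply top_unique
    have := Scheme.basicOpen_add_le (X := X) e (1 - e)
    rwa [add_sub_cancel, Scheme.basicOpen_one] at this
  have hcl : IsClopen (X.basicOpen e : Set X) := by
    refine ⟨?_, (X.basicOpen e).isOpen⟩
    have : ((X.basicOpen e : Set X))ᶜ = (X.basicOpen (1 - e) : Set X) := by
      have h1' := congrArg (fun U : X.Opens => (U : Set X)) h1
      have h2' := congrArg (fun U : X.Opens => (U : Set X)) h2
      simp only [TopologicalSpace.Opens.coe_inf, TopologicalSpace.Opens.coe_bot,
        TopologicalSpace.Opens.coe_sup, TopologicalSpace.Opens.coe_top] at h1' h2'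
      ext x
      constructor
      · intro hx
        have : x ∈ (X.basicOpen e : Set X) ∪ (X.basicOpen (1 - e) : Set X) := by
          rw [h2']; trivial
        rcases this with h | h
        · exact absurd h hx
        · exact h
      · intro hx hx'
        have : x ∈ (X.basicOpen e : Set X) ∩ (X.basicOpen (1 - e) : Set X) := ⟨hx', hx⟩
        rw [h1'] at this
        exact this
    rw [← isOpen_compl_iff, this]
    exact (X.basicOpen (1 - e)).isOpen
  rcases isClopen_iff.mp hcl with h | h
  · left
    have : X.basicOpen e = ⊥ := by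
      ext1; simpa using h
    exact (AlgebraicGeometry.basicOpen_eq_bot_iff e).mp this
  · right
    have h3 : X.basicOpen e = ⊤ := by
      ext1; simpa using h
    rw [h3, top_inf_eq] at h1
    have := (AlgebraicGeometry.basicOpen_eq_bot_iff (1 - e)).mp h1
    exact (sub_eq_zero.mp this).symm

theorem isField_integralClosure (k : Type u) [Field k] (R : Type u) [CommRing R] [Algebra k R]
    [Nontrivial R] [IsReduced R] (hid : ∀ e : R, e * e = e → e = 0 ∨ e = 1) :
    IsField (integralClosure k R) := by
  refine ⟨⟨0, 1, zero_ne_one⟩, mul_comm, ?_⟩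
  rintro ⟨f, hf⟩ hne
  have hf0 : f ≠ 0 := fun h => hne (Subtype.ext h)
  -- B = k[f]
  let B := Algebra.adjoin k {f}
  have hfB : f ∈ B := Algebra.subset_adjoin (Set.mem_singleton f)
  have : Module.Finite k B := Algebra.finite_adjoin_simple_of_isIntegral hf
  have : IsArtinianRing B := IsArtinianRing.of_finite k B
  obtain ⟨n, y, hy⟩ := IsArtinian.exists_pow_succ_smul_dvd (⟨f, hfB⟩ : B) (1 : B)
  have hy' : f ^ (n + 1) * (y : R) = f ^ n := by
    have := congrArg (fun b : B => (b : R)) hy
    simpa using this
  have hBint : ∀ b : B, IsIntegral k (b : R) := fun b =>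
    (adjoin_le_integralClosure hf) b.2
  -- f^n = f^(n+j) y^j
  have hpow : ∀ j : ℕ, f ^ (n + j) * (y : R) ^ j = f ^ n := by
    intro j
    induction j with
    | zero => simp
    | succ j ih =>
      calc f ^ (n + (j + 1)) * (y : R) ^ (j + 1)
          = (f ^ (n + 1) * (y : R)) * (f ^ j * (y : R) ^ j) := by ring
        _ = f ^ n * (f ^ j * (y : R) ^ j) := by rw [hy']
        _ = f ^ (n + j) * (y : R) ^ j := by ring
        _ = f ^ n := ih
  set e : R := f ^ n * (y : R) ^ n with he
  have hee : e * e = e := by
    calc e * e = (f ^ (n + n) * (y : R) ^ n) * (y : R) ^ n := by rw [he]; ring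
      _ = f ^ n * (y : R) ^ n := by rw [hpow n]
  rcases hid e hee with h0 | h1
  · exfalso
    have : f ^ n = 0 := by
      calc f ^ n = f ^ (n + n) * (y : R) ^ n := (hpow n).symm
        _ = f ^ n * e := by rw [he]; ring
        _ = 0 := by rw [h0, mul_zero]
    exact hf0 (IsReduced.eq_zero _ ⟨n, this⟩)
  · -- f is a unit with inverse in B
    by_cases hn : n = 0
    · subst hn
      refine ⟨⟨(y : R), hBint y⟩, Subtype.ext ?_⟩
      simpa using hy'
    · obtain ⟨m, rfl⟩ := Nat.exists_eq_add_one_of_ne_zero hn
      refine ⟨⟨f ^ m * (y : R) ^ (m + 1), ?_⟩, Subtype.ext ?_⟩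
      · exact (hf.pow m).mul ((hBint y).pow (m + 1))
      · change f * (f ^ m * (y : R) ^ (m + 1)) = 1
        rw [← h1, he]; ring

/-- Let X be a connected reduced scheme over a field k. Then the global functions on X that are integral
over k form a field. -/
theorem result (k : Type u) [Field k] (X : Scheme.{u}) [X.Over (Spec (CommRingCat.of k))] [ConnectedSpace ↥X] [IsReduced X] :
    letI := ((X ↘ (Spec (CommRingCat.of k))).appTop.hom.comp (Scheme.ΓSpecIso (CommRingCat.of k)).inv.hom : k →+* Γ(X, ⊤)).toAlgebra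
    IsField ↥(integralClosure k ↑Γ(X, ⊤)) := by
  letI := ((X ↘ (Spec (CommRingCat.of k))).appTop.hom.comp (Scheme.ΓSpecIso (CommRingCat.of k)).inv.hom : k →+* Γ(X, ⊤)).toAlgebra
  haveI : Nonempty (⊤ : X.Opens) := ⟨⟨Classical.arbitrary X, trivial⟩⟩
  exact isField_integralClosure k Γ(X, ⊤) (idem_trivial X)

end Groth.Agent.S7618
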