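import Groth.Statements.S7619
import Mathlib
-- import your own Groth.Agent.* helpers here

set_option autoImplicit false
universe u
open CategoryTheory CategoryTheory.Limits AlgebraicGeometry
open scoped TensorProduct
open Variety

namespace Groth.Agent.S7619

theorem span_tmul_D (A B : Type u) [CommRing A] [CommRing B] [Algebra A B]
    (κ : Type u) [Field κ] [Algebra B κ] :
    Submodule.span κ (Set.range (fun b : B => (1 : κ) ⊗ₜ[B] KaehlerDifferential.D A B b)) = ⊤ := by
  rw [eq_top_iff]
  rintro x -
  induction x using TensorProduct.induction_on with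
  | zero => exact Submodule.zero_mem _
  | add x y hx hy => exact Submodule.add_mem _ hx hy
  | tmul c ω =>
    have h1 : c ⊗ₜ[B] ω = c • ((1 : κ) ⊗ₜ[B] ω) := by
      rw [TensorProduct.smul_tmul', smul_eq_mul, mul_one]
    rw [h1]
    clear h1
    apply Submodule.smul_mem
    have hω : ω ∈ Submodule.span B (Set.range (KaehlerDifferential.D A B)) := by
      rw [KaehlerDifferential.span_range_derivation]; trivial
    induction hω using Submodule.span_induction with
    | mem x hx =>
      obtain ⟨b, rfl⟩ := hx
      exact Submodule.subset_span ⟨b, rfl⟩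
    | zero => rw [TensorProduct.tmul_zero]; exact Submodule.zero_mem _
    | add x y _ _ hx hy => rw [TensorProduct.tmul_add]; exact Submodule.add_mem _ hx hy
    | smul b x _ hx =>
      rw [TensorProduct.tmul_smul, ← algebraMap_smul κ b]
      exact Submodule.smul_mem _ _ hx

theorem unram (A B R : Type u) [CommRing A] [CommRing B] [CommRing R] [Algebra A B] [Algebra A R]
    [Algebra R B] [IsScalarTower A R B] [Algebra.FiniteType A B]
    (q : Ideal B) [q.IsPrime] {ι : Type*} (b : ι → B) (hb : ∀ i, b i ∈ Set.range (algebraMap R B))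
    (hspan : Submodule.span q.ResidueField
      (Set.range (fun i : ι => (1 : q.ResidueField) ⊗ₜ[B] KaehlerDifferential.D A B (b i))) = ⊤) :
    Algebra.IsUnramifiedAt R q := by
  have hft : Algebra.FiniteType R B := Algebra.FiniteType.of_restrictScalars_finiteType A R B
  have hmem : (⟨q, inferInstance⟩ : PrimeSpectrum B) ∈ Algebra.unramifiedLocus R B := by
    rw [Algebra.unramifiedLocus_eq_compl_support, Set.mem_compl_iff,
      Module.mem_support_iff_nontrivial_residueField_tensorProduct, not_nontrivial_iff_subsingleton]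
    change Subsingleton (q.ResidueField ⊗[B] Ω[B⁄R])
    let g : Ω[B⁄A] →ₗ[B] Ω[B⁄R] := KaehlerDifferential.map A R B B
    have hg : Function.Surjective g := KaehlerDifferential.map_surjective A R B
    let G : q.ResidueField ⊗[B] Ω[B⁄A] →ₗ[q.ResidueField] q.ResidueField ⊗[B] Ω[B⁄R] :=
      g.baseChange q.ResidueField
    have hG : Function.Surjective G := by
      have : (G : q.ResidueField ⊗[B] Ω[B⁄A] → q.ResidueField ⊗[B] Ω[B⁄R]) =
          g.lTensor q.ResidueField := by
        ext x; rfl
      rw [this]
      exact LinearMap.lTensor_surjective _ hg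
    have hker : LinearMap.ker G = ⊤ := by
      rw [eq_top_iff, ← hspan, Submodule.span_le]
      rintro _ ⟨i, rfl⟩
      obtain ⟨x, hx⟩ := hb i
      simp only [SetLike.mem_coe, LinearMap.mem_ker, G, LinearMap.baseChange_tmul, g,
        KaehlerDifferential.map_D, ← hx]
      simp
    refine ⟨fun x y => ?_⟩
    obtain ⟨x', rfl⟩ := hG x
    obtain ⟨y', rfl⟩ := hG y
    have hx' : x' ∈ LinearMap.ker G := hker ▸ Submodule.mem_top
    have hy' : y' ∈ LinearMap.ker G := hker ▸ Submodule.mem_top
    rw [LinearMap.mem_ker.mp hx', LinearMap.mem_ker.mp hy']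
  exact hmem

/-- Let A → B be a finite type ring map (a finite type morphism of affine schemes), q a prime of B and r
= dim_{κ(q)} Ω_{B/A} ⊗_B κ(q). Then there is an A-algebra homomorphism A[x_1, …, x_r] → B for which
B is unramified over A[x_1, …, x_r] at q. -/
theorem result (A B : Type u) [CommRing A] [CommRing B] [Algebra A B] [Algebra.FiniteType A B]
    (q : Ideal B) [q.IsPrime] (r : ℕ) (hr : Module.finrank q.ResidueField (q.ResidueField ⊗[B] Ω[B⁄A]) = r) :
    ∃ φ : MvPolynomial (Fin r) A →ₐ[A] B,
      letI := φ.toRingHom.toAlgebra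
      Algebra.IsUnramifiedAt (MvPolynomial (Fin r) A) q := by
  let κ := q.ResidueField
  have hS := span_tmul_D A B κ
  set S := Set.range (fun b : B => (1 : κ) ⊗ₜ[B] KaehlerDifferential.D A B b) with hSdef
  obtain ⟨f, hfS, hfspan, -⟩ := Submodule.exists_fun_fin_finrank_span_eq κ S
  have e : Module.finrank κ (Submodule.span κ S) = r := by
    rw [hS, finrank_top]; exact hr
  -- choose b
  have hb : ∀ i : Fin r, ∃ b : B, (1 : κ) ⊗ₜ[B] KaehlerDifferential.D A B b = f (Fin.cast e.symm i) :=
    fun i => hfS _
  choose b hb using hb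
  refine ⟨MvPolynomial.aeval b, ?_⟩
  letI := (MvPolynomial.aeval b : MvPolynomial (Fin r) A →ₐ[A] B).toRingHom.toAlgebra
  haveI : IsScalarTower A (MvPolynomial (Fin r) A) B :=
    IsScalarTower.of_algebraMap_eq fun a =>
      ((MvPolynomial.aeval b : MvPolynomial (Fin r) A →ₐ[A] B).commutes a).symm
  refine unram A B (MvPolynomial (Fin r) A) q b (fun i => ⟨MvPolynomial.X i, ?_⟩) ?_
  · change (MvPolynomial.aeval b) (MvPolynomial.X i) = b i
    simp
  · rw [eq_top_iff, ← hS, ← hfspan, Submodule.span_le]
    rintro _ ⟨j, rfl⟩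
    apply Submodule.subset_span
    refine ⟨Fin.cast e j, ?_⟩
    simp only [hb]
    congr 1

end Groth.Agent.S7619
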