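import Groth.Statements.S7621
import Mathlib
import Groth.Statements.S7621
import Groth.Agent.Lib.Helper13.QcOpenData

set_option autoImplicit false
universe u
open CategoryTheory CategoryTheory.Limits AlgebraicGeometry
open Variety

namespace Groth.Agent.S7621

section helpers
set_option linter.unusedSectionVars false
set_option linter.unusedVariables false
set_option linter.style.haveILetI false
open CategoryTheory CategoryTheory.Limits AlgebraicGeometry TopologicalSpace
open Variety


open Groth.Agent.Lib.Helper13.QcOpenData Groth.Agent.Lib.Helper13.LfpNhd2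

theorem galAct_fst (k : Type u) [Field k] (K : Type u) [Field K] [Algebra k K]
    (X : Scheme.{u}) [X.Over (Spec (CommRingCat.of k))] (σ : K ≃ₐ[k] K) :
    Curv2.galAct k X K σ ≫ pullback.fst _ _ = pullback.fst _ _ := by
  unfold Curv2.galAct
  rw [map_fst, Category.comp_id]

theorem galAct_snd (k : Type u) [Field k] (K : Type u) [Field K] [Algebra k K]
    (X : Scheme.{u}) [X.Over (Spec (CommRingCat.of k))] (σ : K ≃ₐ[k] K) :
    Curv2.galAct k X K σ ≫ pullback.snd _ _ = pullback.snd _ _ ≫
      Spec.map (CommRingCat.ofHom (σ : K →ₐ[k] K).toRingHom) := by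
  unfold Curv2.galAct
  rw [map_snd]

theorem galAct_comp_symm (k : Type u) [Field k] (K : Type u) [Field K] [Algebra k K]
    (X : Scheme.{u}) [X.Over (Spec (CommRingCat.of k))] (σ : K ≃ₐ[k] K) :
    Curv2.galAct k X K σ.symm ≫ Curv2.galAct k X K σ = 𝟙 _ := by
  apply pullback.hom_ext
  · rw [Category.assoc, galAct_fst, galAct_fst, Category.id_comp]
  · rw [Category.assoc, galAct_snd, ← Category.assoc, galAct_snd, Category.assoc, ← Spec.map_comp,
      Category.id_comp]
    have : (CommRingCat.ofHom (σ : K →ₐ[k] K).toRingHom) ≫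
        (CommRingCat.ofHom (σ.symm : K →ₐ[k] K).toRingHom) = 𝟙 _ := by
      ext x
      exact σ.symm_apply_apply x
    rw [this, Spec.map_id, Category.comp_id]

theorem preimage_eq (k : Type u) [Field k] (K : Type u) [Field K] [Algebra k K]
    (X : Scheme.{u}) [X.Over (Spec (CommRingCat.of k))] (t : Finset (Datum X (CommRingCat.of K)))
    (σ : K ≃ₐ[k] K) (hσ : ∀ i ∈ t, ∀ l, σ (i.a l) = i.a l) :
    (Curv2.galAct k X K σ).base ⁻¹' (⋃ i ∈ t, piece (X ↘ (Spec (CommRingCat.of k)))
        (CommRingCat.ofHom (algebraMap k K)) i) =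
      ⋃ i ∈ t, piece (X ↘ (Spec (CommRingCat.of k))) (CommRingCat.ofHom (algebraMap k K)) i := by
  let p := X ↘ (Spec (CommRingCat.of k))
  let ψ : CommRingCat.of k ⟶ CommRingCat.of K := CommRingCat.ofHom (algebraMap k K)
  let θ : CommRingCat.of K ⟶ CommRingCat.of K := CommRingCat.ofHom (σ : K →ₐ[k] K).toRingHom
  have hθ : ψ ≫ θ = ψ := by
    ext x
    exact σ.commutes x
  rw [Set.preimage_iUnion₂]
  refine Set.iUnion₂_congr fun i hi => ?_
  rw [preimage_piece p ψ ψ θ hθ (Curv2.galAct k X K σ) (galAct_fst k K X σ) (galAct_snd k K X σ) i]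
  congr 1
  obtain ⟨U, hU, N, c, a⟩ := i
  show Datum.mk U hU N c _ = Datum.mk U hU N c a
  congr 1
  funext l
  exact hσ _ hi l

theorem main (k : Type u) [Field k] (K : Type u) [Field K] [Algebra k K] [IsGalois k K]
    (X : Scheme.{u}) [X.Over (Spec (CommRingCat.of k))] (V : Set ↥(Curv2.bc k X K)) (hV : IsOpen V) (hVc : IsCompact V) :
    ∃ E : IntermediateField k K, FiniteDimensional k ↥E ∧
      ∀ σ : K ≃ₐ[k] K, (∀ a : K, a ∈ E → σ a = a) → (Curv2.galAct k X K σ).base '' V = V := by
  classical
  let p := X ↘ (Spec (CommRingCat.of k))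
  let ψ : CommRingCat.of k ⟶ CommRingCat.of K := CommRingCat.ofHom (algebraMap k K)
  obtain ⟨t, ht⟩ := exists_finset_eq_iUnion_piece p ψ V hV hVc
  let Sf : Finset K := t.biUnion (fun i => Finset.univ.image i.a)
  let E : IntermediateField k K := IntermediateField.adjoin k (Sf : Set K)
  have hmem : ∀ i ∈ t, ∀ l, i.a l ∈ E := by
    intro i hi l
    apply IntermediateField.subset_adjoin
    exact Finset.mem_coe.mpr (Finset.mem_biUnion.mpr ⟨i, hi, Finset.mem_image_of_mem _ (Finset.mem_univ l)⟩)
  refine ⟨E, ?_, ?_⟩
  · exact IntermediateField.finiteDimensional_adjoin (fun x _ => (Algebra.IsIntegral.isIntegral x))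
  · intro σ hσ
    have h1 : (Curv2.galAct k X K σ).base ⁻¹' V = V := by
      rw [ht]
      exact preimage_eq k K X t σ (fun i hi l => hσ _ (hmem i hi l))
    have h2 : (Curv2.galAct k X K σ.symm).base ⁻¹' V = V := by
      rw [ht]
      refine preimage_eq k K X t σ.symm (fun i hi l => ?_)
      have := hσ _ (hmem i hi l)
      conv_lhs => rw [← this]
      exact σ.symm_apply_apply _
    have h3 : ∀ x, (Curv2.galAct k X K σ).base ((Curv2.galAct k X K σ.symm).base x) = x := by
      intro x
      have := congrArg (fun f => f.base x) (galAct_comp_symm k K X σ)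
      simpa using this
    apply Set.Subset.antisymm
    · rintro _ ⟨x, hx, rfl⟩
      rw [← h1] at hx
      exact hx
    · intro x hx
      refine ⟨(Curv2.galAct k X K σ.symm).base x, ?_, h3 x⟩
      rw [← h2] at hx
      exact hx


end helpers

/-- Let K be a (possibly infinite) Galois extension of a field k, X a scheme over k and V a
quasi-compact open subset of X_K. Then there is a subextension k'/k of K, finite over k, such that
every k-automorphism of K fixing k' pointwise maps V onto itself under its action on X_K (an open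
subgroup of the Galois group stabilises V). -/
theorem result (k : Type u) [Field k] (K : Type u) [Field K] [Algebra k K] [IsGalois k K]
    (X : Scheme.{u}) [X.Over (Spec (CommRingCat.of k))] (V : Set ↥(Curv2.bc k X K)) (hV : IsOpen V) (hVc : IsCompact V) :
    ∃ E : IntermediateField k K, FiniteDimensional k ↥E ∧
      ∀ σ : K ≃ₐ[k] K, (∀ a : K, a ∈ E → σ a = a) → (Curv2.galAct k X K σ).base '' V = V := by
  exact main k K X V hV hVc

end Groth.Agent.S7621
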