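import Groth.Statements.S7622
import Groth.Agent.Lib.Helper5.AdicRegD
import Groth.Agent.S2452

set_option autoImplicit false
universe u
open CategoryTheory CategoryTheory.Limits AlgebraicGeometry
open Variety

namespace Groth.Agent.S7622

/-- Let A be a Noetherian local algebra over a field k (such as the local ring of a locally Noetherian
k-scheme at a point) whose residue field κ is a separable extension of k, meaning geometrically
reduced over k; κ need not be algebraic over k. Then there are n ≥ 0, an ideal I of κ[[x_1, …, x_n]]
and a k-algebra isomorphism e from κ[[x_1, …, x_n]]/I onto the completion A^∧ of A at its maximal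
ideal which induces the identity on residue fields: for every a in A, the value of e on the constant
power series whose value is the residue class of a is congruent to the image of a modulo the
extended maximal ideal of A^∧. -/
theorem result (k A : Type u) [Field k] [CommRing A] [Algebra k A]
    [IsNoetherianRing A] [IsLocalRing A] [Algebra.IsGeometricallyReduced k (IsLocalRing.ResidueField A)] :
    ∃ (n : ℕ) (I : Ideal (MvPowerSeries (Fin n) (IsLocalRing.ResidueField A)))
      (e : (MvPowerSeries (Fin n) (IsLocalRing.ResidueField A) ⧸ I) ≃ₐ[k]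
        AdicCompletion (IsLocalRing.maximalIdeal A) A),
      ∀ a : A, e (Ideal.Quotient.mk I (MvPowerSeries.C (IsLocalRing.residue A a))) -
          algebraMap A (AdicCompletion (IsLocalRing.maximalIdeal A) A) a ∈
        (IsLocalRing.maximalIdeal A).map (algebraMap A (AdicCompletion (IsLocalRing.maximalIdeal A) A)) := by
  classical
  have hgr : Algebra.IsGeometricallyReduced k
      (IsLocalRing.ResidueField (AdicCompletion (IsLocalRing.maximalIdeal A) A)) :=
    Groth.Agent.Lib.Helper5.AdicReg.geomReduced_residue_completion (k := k) (A := A)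
  obtain ⟨σ, hσ⟩ := Groth.Agent.S2452.result (k := k)
    (A := AdicCompletion (IsLocalRing.maximalIdeal A) A)
  obtain ⟨s, hs⟩ := (IsNoetherian.noetherian (IsLocalRing.maximalIdeal A) :
    (IsLocalRing.maximalIdeal A).FG)
  let a : Fin s.card → AdicCompletion (IsLocalRing.maximalIdeal A) A :=
    fun i => algebraMap A _ (s.equivFin.symm i : A)
  have hrange : Set.range (fun i : Fin s.card => (s.equivFin.symm i : A)) = (s : Set A) := by
    ext y
    constructor
    · rintro ⟨i, rfl⟩
      exact (s.equivFin.symm i).2
    · intro hy
      exact ⟨s.equivFin ⟨y, hy⟩, by simp⟩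
  have ha : Ideal.span (Set.range a) =
      IsLocalRing.maximalIdeal (AdicCompletion (IsLocalRing.maximalIdeal A) A) := by
    rw [AdicCompletion.maximalIdeal_eq_map]
    have h2 : Ideal.map (algebraMap A (AdicCompletion (IsLocalRing.maximalIdeal A) A))
        (IsLocalRing.maximalIdeal A) =
        Ideal.map (algebraMap A (AdicCompletion (IsLocalRing.maximalIdeal A) A))
          (Ideal.span (s : Set A)) := congrArg _ hs.symm
    rw [h2, Ideal.map_span, ← hrange, ← Set.range_comp]
    rfl
  obtain ⟨Φ, hΦs, -, hΦC⟩ := Groth.Agent.Lib.Helper5.AdicReg.exists_surjective'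
    (AdicCompletion (IsLocalRing.maximalIdeal A) A) σ.toRingHom hσ a ha
  let ρ := Groth.Agent.Lib.Helper19.ComplUnram.eRes A
  let Ψr : MvPowerSeries (Fin s.card) (IsLocalRing.ResidueField A) →+*
      AdicCompletion (IsLocalRing.maximalIdeal A) A :=
    Φ.comp (MvPowerSeries.map (ρ : IsLocalRing.ResidueField A →+* _))
  have hΨC : ∀ c, Ψr (MvPowerSeries.C c) = σ (ρ c) := by
    intro c
    change Φ (MvPowerSeries.map (ρ : IsLocalRing.ResidueField A →+* _) (MvPowerSeries.C c)) = _
    rw [MvPowerSeries.map_C, hΦC]
    rfl
  let Ψ : MvPowerSeries (Fin s.card) (IsLocalRing.ResidueField A) →ₐ[k]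
      AdicCompletion (IsLocalRing.maximalIdeal A) A :=
    { Ψr with
      commutes' := fun c => by
        change Ψr (algebraMap k (MvPowerSeries (Fin s.card) (IsLocalRing.ResidueField A)) c) = _
        rw [IsScalarTower.algebraMap_apply k (IsLocalRing.ResidueField A)
          (MvPowerSeries (Fin s.card) (IsLocalRing.ResidueField A)),
          MvPowerSeries.algebraMap_apply, Algebra.algebraMap_self, RingHom.id_apply, hΨC,
          Groth.Agent.Lib.Helper5.AdicReg.eRes_algebraMap, AlgHom.commutes] }
  have hΨs : Function.Surjective Ψ := by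
    change Function.Surjective (Φ ∘ (Groth.Agent.Lib.Helper5.AdicReg.psMapEquiv s.card ρ))
    exact hΦs.comp (Groth.Agent.Lib.Helper5.AdicReg.psMapEquiv s.card ρ).surjective
  refine ⟨s.card, RingHom.ker Ψ, Ideal.quotientKerAlgEquivOfSurjective hΨs, ?_⟩
  intro x
  rw [← AdicCompletion.maximalIdeal_eq_map, ← IsLocalRing.residue_eq_zero_iff, map_sub, sub_eq_zero]
  have h1 : (Ideal.quotientKerAlgEquivOfSurjective hΨs)
      (Ideal.Quotient.mk (RingHom.ker Ψ) (MvPowerSeries.C (IsLocalRing.residue A x))) =
      Ψ (MvPowerSeries.C (IsLocalRing.residue A x)) := rfl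
  rw [h1]
  change IsLocalRing.residue _ (Ψr (MvPowerSeries.C (IsLocalRing.residue A x))) = _
  rw [hΨC, hσ]
  rfl

end Groth.Agent.S7622
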