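import Groth.Statements.S7623
import Groth.Agent.Lib.Helper5.JacLocE

set_option autoImplicit false
universe u
open CategoryTheory CategoryTheory.Limits AlgebraicGeometry
open Variety

namespace Groth.Agent.S7623

/-- Let k be a perfect field and A a reduced finite type k-algebra such that Ω_{A/k} is a projective
A-module (locally free, as it is finitely presented). Then A is smooth over k. The scheme statement,
X reduced and locally of finite type over k with Ω_{X/k} locally free is smooth over k, is this
assertion on affine opens. -/
theorem result (k A : Type u) [Field k] [PerfectField k] [CommRing A] [Algebra k A]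
    [Algebra.FiniteType k A] [_root_.IsReduced A] [Module.Projective A Ω[A⁄k]] : Algebra.Smooth k A := by
  apply Groth.Agent.Lib.Helper5.JacLoc.smooth_of_projective_kaehler k A
  intro p hp hpmin
  have hdim : Ring.KrullDimLE 0 (Localization.AtPrime p) :=
    Ring.KrullDimLE.of_isLocalization p hpmin _
  have hF : IsField (Localization.AtPrime p) := Ring.KrullDimLE.isField_of_isReduced
  let _ : Field (Localization.AtPrime p) := hF.toField
  have hess1 : Algebra.EssFiniteType A (Localization.AtPrime p) :=
    Algebra.EssFiniteType.of_isLocalization _ p.primeCompl
  have hess : Algebra.EssFiniteType k (Localization.AtPrime p) :=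
    Algebra.EssFiniteType.comp k A (Localization.AtPrime p)
  exact Algebra.FormallySmooth.of_perfectField

end Groth.Agent.S7623
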