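import Groth.Statements.S7628
import Mathlib
import Groth.Agent.Lib.Helper13.QcOpenData

set_option autoImplicit false
universe u
open CategoryTheory CategoryTheory.Limits AlgebraicGeometry
open Variety

namespace Groth.Agent.S7628

section helpers
set_option linter.unusedSectionVars false
set_option linter.unusedVariables false
set_option linter.style.haveILetI false
open CategoryTheory CategoryTheory.Limits AlgebraicGeometry TopologicalSpace


open Groth.Agent.Lib.Helper13.QcOpenData

theorem main (k : Type u) [Field k] (X : Scheme.{u}) [X.Over (Spec (CommRingCat.of k))] (A : Type u) [CommRing A] [Algebra k A]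
    (V : Set ↥(pullback (X ↘ (Spec (CommRingCat.of k))) (Spec.map (CommRingCat.ofHom (algebraMap k A))))) (hV : IsOpen V) (hVc : IsCompact V) :
    ∃ (A' : Subalgebra k A), A'.FG ∧
      ∃ (V' : Set ↥(pullback (X ↘ (Spec (CommRingCat.of k))) (Spec.map (CommRingCat.ofHom (algebraMap k ↥A'))))), IsOpen V' ∧ IsCompact V' ∧
        ∀ π : pullback (X ↘ (Spec (CommRingCat.of k))) (Spec.map (CommRingCat.ofHom (algebraMap k A))) ⟶
            pullback (X ↘ (Spec (CommRingCat.of k))) (Spec.map (CommRingCat.ofHom (algebraMap k ↥A'))),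
          π ≫ pullback.fst _ _ = pullback.fst _ _ →
          π ≫ pullback.snd _ _ = pullback.snd _ _ ≫ Spec.map (CommRingCat.ofHom A'.val.toRingHom) →
            π.base ⁻¹' V' = V := by
  classical
  let p := X ↘ (Spec (CommRingCat.of k))
  let ψ : CommRingCat.of k ⟶ CommRingCat.of A := CommRingCat.ofHom (algebraMap k A)
  obtain ⟨t, ht⟩ := exists_finset_eq_iUnion_piece p ψ V hV hVc
  let Sf : Finset A := t.biUnion (fun i => Finset.univ.image i.a)
  let A' : Subalgebra k A := Algebra.adjoin k (Sf : Set A)
  have hmem : ∀ i ∈ t, ∀ l, i.a l ∈ A' := by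
    intro i hi l
    apply Algebra.subset_adjoin
    exact Finset.mem_coe.mpr (Finset.mem_biUnion.mpr ⟨i, hi, Finset.mem_image_of_mem _ (Finset.mem_univ l)⟩)
  let ψ' : CommRingCat.of k ⟶ CommRingCat.of ↥A' := CommRingCat.ofHom (algebraMap k ↥A')
  let θ : CommRingCat.of ↥A' ⟶ CommRingCat.of A := CommRingCat.ofHom A'.val.toRingHom
  have hθ : ψ' ≫ θ = ψ := by
    ext x; rfl
  let lift : Datum X (CommRingCat.of A) → Datum X (CommRingCat.of ↥A') := fun i =>
    if h : ∀ l, i.a l ∈ A' then ⟨i.U, i.hU, i.N, i.c, fun l => ⟨i.a l, h l⟩⟩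
    else ⟨i.U, i.hU, i.N, i.c, fun _ => 0⟩
  have hlift : ∀ i ∈ t, (lift i).map θ = i := by
    intro i hi
    show Datum.map θ (if h : ∀ l, i.a l ∈ A' then _ else _) = i
    rw [dif_pos (hmem i hi)]
    rfl
  refine ⟨A', Subalgebra.fg_adjoin_finset Sf, ⋃ i ∈ t, piece p ψ' (lift i), ?_, ?_, ?_⟩
  · exact isOpen_biUnion fun i _ => isOpen_piece p ψ' (lift i)
  · exact t.isCompact_biUnion fun i _ => isCompact_piece p ψ' (lift i)
  · intro π h1 h2
    rw [Set.preimage_iUnion₂, ht]
    refine Set.iUnion₂_congr fun i hi => ?_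
    rw [preimage_piece p ψ ψ' θ hθ π h1 h2 (lift i), hlift i hi]


end helpers

/-- Let X be a scheme over a field k, A a k-algebra and V ⊆ X_A = X ×_k Spec A a quasi-compact open
subset. Then there are a finitely generated k-subalgebra A' ⊆ A and a quasi-compact open subset V' ⊆
X_{A'} such that V is the inverse image of V' under the transition morphism X_A → X_{A'} (any
morphism compatible with the projections to X and with Spec A → Spec A'; it is unique). -/
theorem result (k : Type u) [Field k] (X : Scheme.{u}) [X.Over (Spec (CommRingCat.of k))] (A : Type u) [CommRing A] [Algebra k A]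
    (V : Set ↥(pullback (X ↘ (Spec (CommRingCat.of k))) (Spec.map (CommRingCat.ofHom (algebraMap k A))))) (hV : IsOpen V) (hVc : IsCompact V) :
    ∃ (A' : Subalgebra k A), A'.FG ∧
      ∃ (V' : Set ↥(pullback (X ↘ (Spec (CommRingCat.of k))) (Spec.map (CommRingCat.ofHom (algebraMap k ↥A'))))), IsOpen V' ∧ IsCompact V' ∧
        ∀ π : pullback (X ↘ (Spec (CommRingCat.of k))) (Spec.map (CommRingCat.ofHom (algebraMap k A))) ⟶
            pullback (X ↘ (Spec (CommRingCat.of k))) (Spec.map (CommRingCat.ofHom (algebraMap k ↥A'))),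
          π ≫ pullback.fst _ _ = pullback.fst _ _ →
          π ≫ pullback.snd _ _ = pullback.snd _ _ ≫ Spec.map (CommRingCat.ofHom A'.val.toRingHom) →
            π.base ⁻¹' V' = V := by
  exact main k X A V hV hVc

end Groth.Agent.S7628
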