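import Groth.Statements.S7629
import Groth.Agent.Lib.Helper13.BiratOverFP

set_option autoImplicit false
universe u
open CategoryTheory CategoryTheory.Limits AlgebraicGeometry
open Variety

namespace Groth.Agent.S7629

/-- (2) ⇒ (3): let X and Y be varieties over a field k (integral, separated, of finite type) and suppose
the function fields k(X) and k(Y) are isomorphic as k-algebras. Then there are nonempty open
subschemes U ⊆ X and V ⊆ Y which are isomorphic as schemes over k. -/
theorem result (k : Type u) [Field k] (X : Scheme.{u}) [X.Over (Spec (CommRingCat.of k))] [IsIntegral X] [IsSeparated (X ↘ (Spec (CommRingCat.of k)))] [LocallyOfFiniteType (X ↘ (Spec (CommRingCat.of k)))] [QuasiCompact (X ↘ (Spec (CommRingCat.of k)))]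
    (Y : Scheme.{u}) [Y.Over (Spec (CommRingCat.of k))] [IsIntegral Y] [IsSeparated (Y ↘ (Spec (CommRingCat.of k)))] [LocallyOfFiniteType (Y ↘ (Spec (CommRingCat.of k)))] [QuasiCompact (Y ↘ (Spec (CommRingCat.of k)))]
    (e : X.functionField ≅ Y.functionField)
    (he : e.hom.hom.comp (Curv2.stalkMap k X (genericPoint X)) = Curv2.stalkMap k Y (genericPoint Y)) :
    ∃ (U : X.Opens) (V : Y.Opens), (U : Set ↥X).Nonempty ∧
      ∃ φ : (U : Scheme.{u}) ≅ (V : Scheme.{u}), φ.hom ≫ V.ι ≫ (Y ↘ (Spec (CommRingCat.of k))) = U.ι ≫ (X ↘ (Spec (CommRingCat.of k))) := by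
  set sX := (X ↘ (Spec (CommRingCat.of k))) with hsX
  set sY := (Y ↘ (Spec (CommRingCat.of k))) with hsY
  haveI : LocallyOfFinitePresentation sX := inferInstance
  haveI : LocallyOfFinitePresentation sY := inferInstance
  have hs : sX (genericPoint X) = sY (genericPoint Y) := Subsingleton.elim _ _
  -- every element of a stalk of `Spec k` is the germ of a global section
  have hgerm : ∀ (p : Spec (CommRingCat.of k)) (t : (Spec (CommRingCat.of k)).presheaf.stalk p),
      ∃ a : Γ(Spec (CommRingCat.of k), ⊤),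
        (Spec (CommRingCat.of k)).presheaf.germ ⊤ p trivial a = t := by
    intro p t
    obtain ⟨U, hpU, a, rfl⟩ := (Spec (CommRingCat.of k)).presheaf.germ_exist (x := p) t
    have hU : U = ⊤ := by
      ext q
      simp only [TopologicalSpace.Opens.coe_top, Set.mem_univ, iff_true]
      rw [Subsingleton.elim q p]
      exact hpU
    subst hU
    exact ⟨a, rfl⟩
  have he' : sX.stalkMap (genericPoint X) ≫ e.hom =
      eqToHom (congrArg (Spec (CommRingCat.of k)).presheaf.stalk hs) ≫
        sY.stalkMap (genericPoint Y) := by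
    ext t
    obtain ⟨a, rfl⟩ := hgerm _ t
    obtain ⟨c, rfl⟩ : ∃ c : k, (Scheme.ΓSpecIso (CommRingCat.of k)).inv.hom c = a :=
      ⟨(Scheme.ΓSpecIso (CommRingCat.of k)).hom.hom a, by
        change ((Scheme.ΓSpecIso (CommRingCat.of k)).hom ≫
          (Scheme.ΓSpecIso (CommRingCat.of k)).inv).hom a = a
        rw [Iso.hom_inv_id]; rfl⟩
    have h1 := congrArg (fun φ : k →+* Y.functionField => φ c) he
    simp only [RingHom.comp_apply] at h1
    have hL : (sX.stalkMap (genericPoint X) ≫ e.hom).hom
        ((Spec (CommRingCat.of k)).presheaf.germ ⊤ (sX (genericPoint X)) trivial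
          ((Scheme.ΓSpecIso (CommRingCat.of k)).inv.hom c)) =
        e.hom.hom (Curv2.stalkMap k X (genericPoint X) c) := by
      rw [CommRingCat.comp_apply]
      congr 1
      exact Scheme.Hom.germ_stalkMap_apply sX ⊤ (genericPoint X) trivial _
    have hR : (eqToHom (congrArg (Spec (CommRingCat.of k)).presheaf.stalk hs) ≫
          sY.stalkMap (genericPoint Y)).hom
        ((Spec (CommRingCat.of k)).presheaf.germ ⊤ (sX (genericPoint X)) trivial
          ((Scheme.ΓSpecIso (CommRingCat.of k)).inv.hom c)) =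
        Curv2.stalkMap k Y (genericPoint Y) c := by
      rw [CommRingCat.comp_apply]
      have h2 : (eqToHom (congrArg (Spec (CommRingCat.of k)).presheaf.stalk hs)).hom
          ((Spec (CommRingCat.of k)).presheaf.germ ⊤ (sX (genericPoint X)) trivial
            ((Scheme.ΓSpecIso (CommRingCat.of k)).inv.hom c)) =
          (Spec (CommRingCat.of k)).presheaf.germ ⊤ (sY (genericPoint Y)) trivial
            ((Scheme.ΓSpecIso (CommRingCat.of k)).inv.hom c) := by
        rw [Groth.Agent.Lib.Helper13.BiratOverFP.stalk_eqToHom hs]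
        exact TopCat.Presheaf.germ_stalkSpecializes_apply _ _ _ _
      rw [h2]
      exact Scheme.Hom.germ_stalkMap_apply sY ⊤ (genericPoint Y) trivial _
    rw [hL, hR]
    exact h1
  obtain ⟨W, j, g, hj, hg, hW, hjg⟩ :=
    Groth.Agent.Lib.Helper13.BiratOverFP.exists_openImmersions_of_stalk_iso sX sY
      (genericPoint X) (genericPoint Y) hs e he'
  obtain ⟨w⟩ := hW
  refine ⟨j.opensRange, g.opensRange, ⟨j w, ⟨w, rfl⟩⟩, j.isoOpensRange.symm ≪≫ g.isoOpensRange, ?_⟩
  rw [Iso.trans_hom, Iso.symm_hom, Category.assoc, ← Category.assoc g.isoOpensRange.hom,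
    Scheme.Hom.isoOpensRange_hom_ι, ← hjg, ← Category.assoc, Scheme.Hom.isoOpensRange_inv_comp]

end Groth.Agent.S7629
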