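import Groth.Statements.S7641
import Groth.Agent.Lib.Helper8.CompSec

set_option autoImplicit false
universe u
open CategoryTheory CategoryTheory.Limits AlgebraicGeometry
open Variety

namespace Groth.Agent.S7641

/-- Let X be proper over a field k, reduced and connected, with every irreducible component of dimension
one, and let L be an invertible module whose restriction to each irreducible component C, with its
reduced induced structure, has degree at most zero. Then H^0(X, L) = 0 or L is isomorphic to O_X. -/
theorem result (k : Type u) [Field k] (X : Scheme.{u}) [X.Over (Spec (CommRingCat.of k))] [IsProper (X ↘ (Spec (CommRingCat.of k)))]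
    [IsReduced X] [ConnectedSpace X] [IsNoetherian X]
    (hdim : ∀ (C : Set X), C ∈ irreducibleComponents (X : Type u) → topologicalKrullDim C = 1)
    (L : X.Modules) (hL : PicF.IsInvertible L)
    (hdeg : ∀ (C : Set X) (hC : C ∈ irreducibleComponents (X : Type u)), @Curv2.deg k _ (X.irreducibleComponentIdeal C hC).radical.subscheme ⟨(X.irreducibleComponentIdeal C hC).radical.subschemeι ≫ (X ↘ (Spec (CommRingCat.of k)))⟩ ((Scheme.Modules.pullback (X.irreducibleComponentIdeal C hC).radical.subschemeι).obj L) 1 ≤ 0) :
    Subsingleton (Coh.HH X L 0) ∨ Nonempty (L ≅ Coh.structureModule X) := by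
  rw [or_iff_not_imp_left]
  intro hns
  obtain ⟨q, hq⟩ : ∃ q : Coh.HH X L 0, q ≠ 0 := by
    by_contra h
    push Not at h
    exact hns ⟨fun a b => (h a).trans (h b).symm⟩
  obtain ⟨s, hs⟩ := Groth.Agent.Lib.Helper8.KillA.exists_hom_of_H0 L q
  have hs0 : s ≠ 0 := by
    rintro rfl
    exact hq (hs.symm.trans (Groth.Agent.Lib.Helper8.KillA.HHmap_zero_unitH L))
  set A := CohB1.genLocus L s with hA
  have hdich : ∀ (C : Set X) (hC : C ∈ irreducibleComponents (X : Type u)),
      C ⊆ (A : Set X) ∨ Disjoint C (A : Set X) := fun C hC =>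
    Groth.Agent.Lib.Helper8.CompSec.subset_or_disjoint_genLocus k X
      ⟨C, isClosed_of_mem_irreducibleComponents C hC⟩ hC.1 (hdim C hC) _
      (Groth.Agent.Lib.Helper8.AmpleCurveComp.radical_eq_vanishingIdeal X C hC) L hL (hdeg C hC) s
  have hAcl : IsClosed (A : Set X) := by
    have hAeq : (A : Set X) = ⋃₀ {C | C ∈ irreducibleComponents (X : Type u) ∧ C ⊆ (A : Set X)} := by
      ext x
      constructor
      · intro hx
        have hC := irreducibleComponent_mem_irreducibleComponents x
        rcases hdich _ hC with h | h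
        · exact ⟨_, ⟨hC, h⟩, mem_irreducibleComponent⟩
        · exact absurd hx (Set.disjoint_left.1 h mem_irreducibleComponent)
      · rintro ⟨C, ⟨-, hCA⟩, hxC⟩
        exact hCA hxC
    rw [hAeq, Set.sUnion_eq_biUnion]
    refine Set.Finite.isClosed_biUnion ?_ ?_
    · exact (TopologicalSpace.NoetherianSpace.finite_irreducibleComponents (α := X)).subset
        (fun C hC => hC.1)
    · rintro C ⟨hC, -⟩
      exact isClosed_of_mem_irreducibleComponents C hC
  have hclopen : IsClopen (A : Set X) := ⟨hAcl, A.isOpen⟩
  rcases isClopen_iff.1 hclopen with h | h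
  · exact absurd (Groth.Agent.Lib.Helper8.CompSec.eq_zero_of_genLocus_eq_bot hL s
      (TopologicalSpace.Opens.ext h)) hs0
  · haveI := Groth.Agent.Lib.Helper8.P1Core.isIso_of_genLocus_eq_top X s (TopologicalSpace.Opens.ext h)
    exact ⟨(asIso s).symm⟩

end Groth.Agent.S7641
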