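import Groth.Statements.S7643
import Groth.Agent.Lib.Helper8.RankAdd

set_option autoImplicit false
universe u
open CategoryTheory CategoryTheory.Limits AlgebraicGeometry
open Variety

namespace Groth.Agent.S7643
open Groth.Agent.Lib.Helper8.EulerK Groth.Agent.Lib.Helper8.CurveTensor

/-- Let X be proper of dimension at most one over a field k and let 0 → E₁ → E₂ → E₃ → 0 be a short
exact sequence of finite locally free modules of constant ranks n₁, n₂, n₃. Then deg(E₂) = deg(E₁) +
deg(E₃). -/
theorem result (k : Type u) [Field k] (X : Scheme.{u}) [X.Over (Spec (CommRingCat.of k))] [IsProper (X ↘ (Spec (CommRingCat.of k)))]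
    (hdim : topologicalKrullDim X ≤ 1) (S : ShortComplex X.Modules) (hS : S.ShortExact)
    (n₁ n₂ n₃ : ℕ) (h₁ : FlatMod.IsFinLocFreeOfRank n₁ S.X₁) (h₂ : FlatMod.IsFinLocFreeOfRank n₂ S.X₂)
    (h₃ : FlatMod.IsFinLocFreeOfRank n₃ S.X₃) :
    Curv2.deg k X S.X₂ n₂ = Curv2.deg k X S.X₁ n₁ + Curv2.deg k X S.X₃ n₃ := by
  have he := euler_add k X S hS (isCoh_of_isFinLocFreeOfRank _ h₁) (isCoh_of_isFinLocFreeOfRank _ h₂)
    (isCoh_of_isFinLocFreeOfRank _ h₃)
  unfold Curv2.deg
  by_cases hX : Nonempty X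
  · have hn := Groth.Agent.Lib.Helper8.RankAdd.rank_add S hS n₁ n₂ n₃ h₁ h₂ h₃
    rw [he, hn]
    push_cast
    ring
  · have hz : IsZero (Coh.structureModule X) :=
      Groth.Agent.Lib.Helper6.DevCore.isZero_of_support_eq_empty _ (by
        ext x
        exact (hX ⟨x⟩).elim)
    have h0 : Curv2.euler k X (Coh.structureModule X) = 0 :=
      Groth.Agent.Lib.Helper6.K0Filt.additive_isZero (Curv2.euler k X)
        (fun T hT a b c => euler_add k X T hT a b c) _ hz
    rw [he, h0]
    ring


end Groth.Agent.S7643
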