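import Groth.Statements.S7648
import Groth.Agent.Lib.Helper2.IntNum9

set_option autoImplicit false
universe u
open CategoryTheory CategoryTheory.Limits AlgebraicGeometry
open Variety

namespace Groth.Agent.S7648

/-- Let X be proper over a field k of dimension e + 1, let D ⊆ X be an effective Cartier divisor and let
L_0, L_1, …, L_e be invertible modules with L_0 ≅ O_X(D), i.e. L_0 ⊗ I_D ≅ O_X. Then (L_0 ⋯ L_e · X)
= (L_1 ⋯ L_e · D): the coefficient of n_0⋯n_e in the polynomial computing χ(X, ⊗_j L_j^{⊗n_j})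
equals the coefficient of n_1⋯n_e in the polynomial computing χ(X, O_D ⊗ L_1^{⊗n_1} ⊗ ⋯ ⊗
L_e^{⊗n_e}). (The published statement has a closed subscheme Z ⊆ X of dimension d with D ⊆ Z and
L_1|_Z ≅ O_Z(D); this row is its case Z = X.) -/
theorem result (k : Type u) [Field k] (X : Scheme.{u}) [X.Over (Spec (CommRingCat.of k))] [IsProper (X ↘ (Spec (CommRingCat.of k)))]
    (e : ℕ) (hX : topologicalKrullDim X = e + 1) (D : X.IdealSheafData) (hD : FGA.IsEffCartier D)
    (L : Fin (e + 1) → X.Modules) (hL : ∀ j, PicF.IsInvertible (L j))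
    (hLD : ClSub.IsInverseOf (L 0) (ClSub.idealMod D))
    (P : MvPolynomial (Fin (e + 1)) ℚ) (Q : MvPolynomial (Fin e) ℚ)
    (hP : ∀ n : Fin (e + 1) → ℕ, (Curv2.euler k X (Curv2.tensorPows (Coh.structureModule X) (e + 1) L n) : ℚ) = MvPolynomial.eval (fun i => (n i : ℚ)) P)
    (hQ : ∀ n : Fin e → ℕ, (Curv2.euler k X (Curv2.tensorPows (ClSub.quotMod D) e (fun j => L j.succ) n) : ℚ) = MvPolynomial.eval (fun i => (n i : ℚ)) Q) :
    MvPolynomial.coeff (Finsupp.equivFunOnFinite.symm fun _ : Fin (e + 1) => 1) P = MvPolynomial.coeff (Finsupp.equivFunOnFinite.symm fun _ : Fin e => 1) Q := by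
  have hX' : topologicalKrullDim X = ((e + 1 : ℕ) : WithBot ℕ∞) := by rw [hX]; push_cast; rfl
  have hO : Coh.IsCoh (Coh.structureModule X) := Groth.Agent.Lib.Helper6.DevRed.isCoh_structureModule
  have hQc : Coh.IsCoh (ClSub.quotMod D) := Groth.Agent.Lib.Helper6.DevRed.isCoh_quotMod D
  have hsO : topologicalKrullDim (CohB1.support (Coh.structureModule X)) ≤ ((e + 1 : ℕ) : WithBot ℕ∞) := by
    rw [← hX']; exact topologicalKrullDim_subspace_le X _
  have hsQ : topologicalKrullDim (CohB1.support (ClSub.quotMod D)) ≤ ((e : ℕ) : WithBot ℕ∞) := by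
    rw [Groth.Agent.Lib.Helper6.DevRed.support_quotMod]
    exact Groth.Agent.Lib.Helper2.EffDim.dim_support_le D hD e hX'
  rw [Groth.Agent.Lib.Helper4.Snapper.coeff_one_eq_inter k _ hO (e + 1) hsO L hL P hP,
    Groth.Agent.Lib.Helper4.Snapper.coeff_one_eq_inter k _ hQc e hsQ (fun j => L j.succ) (fun j => hL j.succ) Q hQ,
    Groth.Agent.Lib.Helper2.IntNum8.inter_eq k X L hL, Groth.Agent.Lib.Helper2.IntNum8.inter_eq k X _ (fun j => hL j.succ),
    Groth.Agent.Lib.Helper2.IntNum9.Psi_cls_structure_eq k X e hX' D hD L hL hLD]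
  congr 1
  rw [map_neg, pow_succ]
  show _ = (-1 : ℤ) ^ e * _
  change (-1 : ℤ) ^ e * -1 * -(Groth.Agent.Lib.Helper2.IntNum1.chi k X
    ((Groth.Agent.Lib.Helper2.IntNum1.Psi (Fin.tail L)) (Groth.Agent.Lib.Helper6.K0Len.cls (ClSub.quotMod D)))) =
    (-1 : ℤ) ^ e * Groth.Agent.Lib.Helper2.IntNum1.chi k X
    ((Groth.Agent.Lib.Helper2.IntNum1.Psi (Fin.tail L)) (Groth.Agent.Lib.Helper6.K0Len.cls (ClSub.quotMod D)))
  ring

end Groth.Agent.S7648
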