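import Groth.Statements.S7653
import Mathlib.RingTheory.Ideal.Height
import Mathlib.RingTheory.Ideal.MinimalPrime.Noetherian
import Mathlib.RingTheory.DiscreteValuationRing.TFAE
import Mathlib.RingTheory.Length
import Mathlib.RingTheory.IntegralClosure.IntegrallyClosed

set_option autoImplicit false
universe u
open CategoryTheory CategoryTheory.Limits AlgebraicGeometry
open Variety

namespace Groth.Agent.S7653

/-- in a local ring of dimension one every prime is minimal or maximal -/
lemma prime_eq_max_of_lt (A : Type u) [CommRing A] [IsLocalRing A] (hdim : ringKrullDim A = 1)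
    (p q : Ideal A) [p.IsPrime] [q.IsPrime] (hpq : p < q) : q = IsLocalRing.maximalIdeal A := by
  by_contra hne
  have hq : q < IsLocalRing.maximalIdeal A :=
    lt_of_le_of_ne (IsLocalRing.le_maximalIdeal (Ideal.IsPrime.ne_top inferInstance)) hne
  have h1 := Ideal.height_add_one_le_of_lt_of_isPrime hpq
  have h2 := Ideal.height_add_one_le_of_lt_of_isPrime hq
  have h3 : (IsLocalRing.maximalIdeal A).height ≤ ringKrullDim A :=
    Ideal.height_le_ringKrullDim_of_isPrime
  rw [hdim] at h3
  have h4 : (IsLocalRing.maximalIdeal A).height ≤ 1 := by exact_mod_cast h3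
  have h5 : (2 : ℕ∞) ≤ (IsLocalRing.maximalIdeal A).height := by
    calc (2 : ℕ∞) = 0 + 1 + 1 := by norm_num
      _ ≤ p.height + 1 + 1 := by gcongr; exact zero_le
      _ ≤ q.height + 1 := by gcongr
      _ ≤ _ := h2
  have := le_trans h5 h4
  norm_num at this

/-- idempotents of a local ring are trivial -/
lemma idem_local {A : Type u} [CommRing A] [IsLocalRing A] (e : A) (he : e * e = e) :
    e = 0 ∨ e = 1 := by
  have h : e * (1 - e) = 0 := by rw [mul_sub, mul_one, he, sub_self]
  rcases IsLocalRing.isUnit_or_isUnit_one_sub_self e with hu | hu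
  · right
    have := hu.mul_right_eq_zero.mp h
    exact (sub_eq_zero.mp this).symm
  · left
    exact hu.mul_left_eq_zero.mp h

/-- A reduced noetherian local ring in which every integral element of the total ring of
fractions comes from the ring has a unique minimal prime. -/
lemma minimalPrimes_subsingleton (A : Type u) [CommRing A] [IsLocalRing A] [IsReduced A]
    [IsNoetherianRing A]
    (hsurj : ∀ x : FractionRing A, IsIntegral A x → ∃ y : A, algebraMap A (FractionRing A) y = x)
    (p₁ p₂ : Ideal A) (h₁ : p₁ ∈ minimalPrimes A) (h₂ : p₂ ∈ minimalPrimes A) : p₁ = p₂ := by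
  classical
  by_contra hne
  have hfin : (minimalPrimes A).Finite := minimalPrimes.finite_of_isNoetherianRing A
  set T : Finset (Ideal A) := hfin.toFinset.erase p₁ with hT
  have hTmem : ∀ q, q ∈ T ↔ q ∈ minimalPrimes A ∧ q ≠ p₁ := by
    intro q
    rw [hT, Finset.mem_erase, Set.Finite.mem_toFinset, and_comm]
  haveI hp₁ : p₁.IsPrime := h₁.1.1
  -- a ∈ p₁ outside all other minimal primes
  have hA : ∃ a ∈ p₁, ∀ q ∈ T, a ∉ q := by
    by_contra hcon
    push Not at hcon
    have hsub : (p₁ : Set A) ⊆ ⋃ q ∈ (T : Set (Ideal A)), (q : Set A) := by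
      intro a ha
      obtain ⟨q, hq, haq⟩ := hcon a ha
      exact Set.mem_biUnion (Finset.mem_coe.mpr hq) haq
    obtain ⟨q, hq, hle⟩ := (Ideal.subset_union_prime (s := T) (f := fun q => q) p₁ p₁
      (fun q hq _ _ => ((hTmem q).mp hq).1.1.1)).mp hsub
    have hq' := (hTmem q).mp hq
    have : q ≤ p₁ := hq'.1.2 ⟨hp₁, bot_le⟩ hle
    exact hq'.2 (le_antisymm this hle)
  -- b in all other minimal primes, outside p₁
  have hB : ∃ b, (∀ q ∈ T, b ∈ q) ∧ b ∉ p₁ := by
    by_contra hcon
    push Not at hcon
    have hle : T.inf (fun q => q) ≤ p₁ := by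
      intro b hb
      apply hcon b
      intro q hq
      exact (Finset.inf_le hq : T.inf (fun q => q) ≤ q) hb
    obtain ⟨q, hq, hqle⟩ := (Ideal.IsPrime.inf_le' hp₁).mp hle
    have hq' := (hTmem q).mp hq
    have : p₁ ≤ q := h₁.2 ⟨hq'.1.1.1, bot_le⟩ hqle
    exact hq'.2 (le_antisymm hqle this)
  obtain ⟨a, hap, haT⟩ := hA
  obtain ⟨b, hbT, hbp⟩ := hB
  have hzero : ∀ c : A, (∀ q ∈ minimalPrimes A, c ∈ q) → c = 0 := by
    intro c hc
    have : c ∈ sInf (minimalPrimes A) := by
      rw [Ideal.mem_sInf]
      intro q hq
      exact hc q hq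
    rw [minimalPrimes, Ideal.sInf_minimalPrimes] at this
    have hn : IsNilpotent c := by
      rwa [← mem_nilradical, nilradical]
    exact hn.eq_zero
  have hab : a * b = 0 := by
    apply hzero
    intro q hq
    by_cases hqp : q = p₁
    · rw [hqp]; exact p₁.mul_mem_right _ hap
    · exact q.mul_mem_left _ (hbT q ((hTmem q).mpr ⟨hq, hqp⟩))
  have hs : a + b ∈ nonZeroDivisors A := by
    rw [mem_nonZeroDivisors_iff_right]
    intro c hc
    apply hzero
    intro q hq
    haveI : q.IsPrime := hq.1.1
    have hmem : c * (a + b) ∈ q := by rw [hc]; exact q.zero_mem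
    rcases Ideal.IsPrime.mem_or_mem inferInstance hmem with h | h
    · exact h
    · exfalso
      by_cases hqp : q = p₁
      · subst hqp
        exact hbp ((Ideal.add_mem_iff_right _ hap).mp h)
      · have hqT := (hTmem q).mpr ⟨hq, hqp⟩
        exact haT q hqT ((Ideal.add_mem_iff_left _ (hbT q hqT)).mp h)
  set e : FractionRing A := IsLocalization.mk' (FractionRing A) a ⟨a + b, hs⟩ with he
  have hes : e * algebraMap A (FractionRing A) (a + b) = algebraMap A (FractionRing A) a := by
    rw [he]
    exact IsLocalization.mk'_spec (FractionRing A) a ⟨a + b, hs⟩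
  have hsu : IsUnit (algebraMap A (FractionRing A) (a + b)) :=
    IsLocalization.map_units (FractionRing A) (⟨a + b, hs⟩ : nonZeroDivisors A)
  have hee : e * e = e := by
    apply (hsu.mul hsu).mul_left_injective
    dsimp only
    calc e * e * (algebraMap A (FractionRing A) (a + b) * algebraMap A (FractionRing A) (a + b))
        = (e * algebraMap A (FractionRing A) (a + b)) *
            (e * algebraMap A (FractionRing A) (a + b)) := by ring
      _ = algebraMap A (FractionRing A) (a * (a + b)) := by
          rw [hes, ← map_mul, mul_add, hab, add_zero]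
      _ = (e * algebraMap A (FractionRing A) (a + b)) * algebraMap A (FractionRing A) (a + b) := by
          rw [hes, map_mul]
      _ = e * (algebraMap A (FractionRing A) (a + b) * algebraMap A (FractionRing A) (a + b)) := by
          ring
  have hint : IsIntegral A e := by
    refine ⟨Polynomial.X ^ 2 - Polynomial.X, Polynomial.monic_X_pow_sub
      (by rw [Polynomial.degree_X]; norm_num), ?_⟩
    simp [pow_two, hee]
  obtain ⟨e', he'⟩ := hsurj e hint
  have hinj : Function.Injective (algebraMap A (FractionRing A)) :=
    IsLocalization.injective (FractionRing A) le_rfl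
  have he's : e' * (a + b) = a := by
    apply hinj
    rw [map_mul, he', hes]
  have he'e' : e' * e' = e' := by
    apply hinj
    rw [map_mul, he', hee]
  have hp₂T : p₂ ∈ T := (hTmem p₂).mpr ⟨h₂, fun h => hne h.symm⟩
  rcases idem_local e' he'e' with h0 | h1
  · rw [h0, zero_mul] at he's
    apply haT p₂ hp₂T
    rw [← he's]
    exact p₂.zero_mem
  · rw [h1, one_mul] at he's
    apply hbp
    have : b = 0 := by
      have := congrArg (fun t => t - a) he's
      simpa using this
    rw [this]
    exact p₁.zero_mem


/-- For a reduced local Nagata ring A of Krull dimension one, the δ-invariant of A is zero exactly when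
A is a DVR (in particular a domain). -/
theorem result (A : Type u) [CommRing A] [IsLocalRing A]
    [IsReduced A] (hN : CAlg.IsNagata A) (hdim : ringKrullDim A = 1) :
    Curv2.deltaInv A = 0 ↔ ∃ _ : IsDomain A, IsDiscreteValuationRing A := by
  haveI : IsNoetherianRing A := hN.1
  unfold Curv2.deltaInv
  rw [Module.length_eq_zero_iff, Submodule.Quotient.subsingleton_iff]
  constructor
  · intro htop
    have hsurj : ∀ x : FractionRing A, IsIntegral A x →
        ∃ y : A, algebraMap A (FractionRing A) y = x := by
      intro x hx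
      have hmem : (⟨x, hx⟩ : integralClosure A (FractionRing A)) ∈
          LinearMap.range (Algebra.linearMap A (integralClosure A (FractionRing A))) := by
        rw [htop]; trivial
      obtain ⟨y, hy⟩ := hmem
      exact ⟨y, congrArg Subtype.val hy⟩
    obtain ⟨⟨p, hp⟩⟩ := Ideal.nonempty_minimalPrimes (I := (⊥ : Ideal A)) bot_ne_top
    have huniq := minimalPrimes_subsingleton A hsurj
    have hbot : p = ⊥ := by
      rw [eq_bot_iff]
      intro c hc
      have : c ∈ sInf (minimalPrimes A) := by
        rw [Ideal.mem_sInf]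
        intro q hq
        rw [huniq q p hq hp]
        exact hc
      rw [minimalPrimes, Ideal.sInf_minimalPrimes] at this
      have hn : IsNilpotent c := by
        rwa [← mem_nilradical, nilradical]
      rw [hn.eq_zero]
      exact Ideal.zero_mem _
    haveI : (⊥ : Ideal A).IsPrime := hbot ▸ hp.1.1
    haveI hdom : IsDomain A := IsDomain.of_bot_isPrime A
    refine ⟨hdom, ?_⟩
    have hnf : ¬ IsField A := by
      intro hf
      have := ringKrullDim_eq_zero_of_isField hf
      rw [hdim] at this
      norm_num at this
    have hmne : IsLocalRing.maximalIdeal A ≠ ⊥ := IsLocalRing.isField_iff_maximalIdeal_eq.not.mp hnf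
    apply ((IsDiscreteValuationRing.TFAE A hnf).out 0 3).mpr
    refine ⟨?_, IsLocalRing.maximalIdeal A, ⟨hmne, inferInstance⟩, ?_⟩
    · exact (isIntegrallyClosed_iff (FractionRing A)).mpr (fun {x} hx => hsurj x hx)
    · rintro P ⟨hP0, hPp⟩
      haveI := hPp
      exact prime_eq_max_of_lt A hdim ⊥ P (bot_lt_iff_ne_bot.mpr hP0)
  · rintro ⟨hdom, hdvr⟩
    rw [eq_top_iff]
    rintro ⟨x, hx⟩ -
    obtain ⟨y, hy⟩ := IsIntegrallyClosed.isIntegral_iff.mp hx
    exact ⟨y, Subtype.ext hy⟩

end Groth.Agent.S7653
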