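import Groth.Statements.S7656
import Mathlib
import Groth.Agent.Lib.Helper13.SHBranchC
import Groth.Agent.Lib.Helper5.StalkBCD

set_option autoImplicit false
universe u
open CategoryTheory CategoryTheory.Limits AlgebraicGeometry
open Variety

namespace Groth.Agent.S7656

section helpers
set_option linter.style.haveILetI false
open CategoryTheory CategoryTheory.Limits AlgebraicGeometry


open IsLocalRing TensorProduct
open Groth.Agent.Lib.Helper13.SHBranchA Groth.Agent.Lib.Helper13.SHBranchC

attribute [local instance] Curv2.stalkAlgebra

theorem main (k : Type u) [Field k] (X : Scheme.{u}) [X.Over (Spec (CommRingCat.of k))]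
    (K : Type u) [Field K] [Algebra k K]
    (y : ↥(Curv2.bc k X K)) :
    Brnch.numGeomBranchesAt X ((Curv2.bcFst k X K).base y) =
      Brnch.numGeomBranchesAt (Curv2.bc k X K) y := by
  obtain ⟨Q, hQprime, hQ, ⟨e⟩⟩ := Groth.Agent.Lib.Helper5.StalkBC.exists_equiv_of_point k X K y
  haveI := hQprime
  unfold Brnch.numGeomBranchesAt
  set A := X.presheaf.stalk ((Curv2.bcFst k X K).base y) with hA
  have hQ' : Q.comap (algebraMap A (A ⊗[k] K)) = maximalIdeal A := by
    rw [← hQ]
    congr 1
  have h1 := numGeomBranches_tensor k A K Q (maximalIdeal A) hQ'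
  have e0 : A ≃+* Localization.AtPrime (maximalIdeal A) :=
    (IsLocalization.atUnits A (maximalIdeal A).primeCompl (fun x hx => by
      by_contra h
      exact hx ((mem_maximalIdeal x).mpr h))).toRingEquiv
  rw [numGeomBranches_congr e0, h1, ← numGeomBranches_congr e]


end helpers

/-- For X locally of finite type over a field k, a field extension K/k and a point y of X_K over x ∈ X,
the local rings of X at x and of X_K at y have the same number of geometric branches. -/
theorem result (k : Type u) [Field k] (X : Scheme.{u}) [X.Over (Spec (CommRingCat.of k))]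
    [LocallyOfFiniteType (X ↘ (Spec (CommRingCat.of k)))] (K : Type u) [Field K] [Algebra k K]
    (y : ↥(Curv2.bc k X K)) :
    Brnch.numGeomBranchesAt X ((Curv2.bcFst k X K).base y) =
      Brnch.numGeomBranchesAt (Curv2.bc k X K) y := by
  exact main k X K y

end Groth.Agent.S7656
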