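import Groth.Statements.S7658
import Mathlib

set_option autoImplicit false
universe u
open CategoryTheory CategoryTheory.Limits AlgebraicGeometry
open Variety

namespace Groth.Agent.S7658

section

/-- two morphisms into a separated `Y`-scheme which agree on an open subscheme agree pointwise on
its closure -/
theorem apply_eq_of_mem_closure {X Y T : Scheme.{u}} (f : X ⟶ Y) [IsSeparated f] (a b : T ⟶ X)
    (hab : a ≫ f = b ≫ f) (T₀ : T.Opens) (h₀ : T₀.ι ≫ a = T₀.ι ≫ b) (t : T)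
    (ht : t ∈ closure (T₀ : Set T)) : a.base t = b.base t := by
  let X' : Over Y := Over.mk f
  let T' : Over Y := Over.mk (a ≫ f)
  let T₀' : Over Y := Over.mk (T₀.ι ≫ a ≫ f)
  let a' : T' ⟶ X' := Over.homMk a
  let b' : T' ⟶ X' := Over.homMk b (by simpa [T', X'] using hab.symm)
  let ι₀ : T₀' ⟶ T' := Over.homMk T₀.ι
  haveI : IsSeparated X'.hom := ‹_›
  have hcl : IsClosed (Set.range (equalizer.ι a' b').left.base) :=
    (equalizer.ι a' b').left.isClosedEmbedding.isClosed_range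
  have hsub : (T₀ : Set T) ⊆ Set.range (equalizer.ι a' b').left.base := by
    intro z hz
    have hι : ι₀ ≫ a' = ι₀ ≫ b' := by
      ext1
      exact h₀
    refine ⟨(equalizer.lift ι₀ hι).left.base ⟨z, hz⟩, ?_⟩
    rw [← Scheme.Hom.comp_apply, ← Over.comp_left, equalizer.lift_ι]
    rfl
  obtain ⟨e, rfl⟩ := closure_minimal hsub hcl ht
  have hc : (equalizer.ι a' b').left ≫ a = (equalizer.ι a' b').left ≫ b :=
    congrArg CommaMorphism.left (equalizer.condition a' b')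
  rw [← Scheme.Hom.comp_apply, ← Scheme.Hom.comp_apply, hc]

/-- every point is a specialization of a generic point of an irreducible component -/
theorem exists_generic_specializes (Y : Scheme.{u}) (y : Y) :
    ∃ ξ : Y, closure ({ξ} : Set Y) ∈ irreducibleComponents (Y : Type u) ∧ ξ ⤳ y := by
  have hC := irreducibleComponent_mem_irreducibleComponents y
  have hg := genericPoints.isGenericPoint_ofComponent ⟨irreducibleComponent y, hC⟩
  refine ⟨(genericPoints.ofComponent ⟨irreducibleComponent y, hC⟩).1, ?_, ?_⟩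
  · exact (genericPoints.ofComponent ⟨irreducibleComponent y, hC⟩).2
  · rw [specializes_iff_mem_closure, hg.def]
    exact mem_irreducibleComponent

/-- the lifted generic point is a generic point of an irreducible component -/
theorem mem_irreducibleComponents_of_local_openImmersion {X Y : Scheme.{u}} (f : X ⟶ Y)
    (U : X.Opens) [IsOpenImmersion (U.ι ≫ f)] (ξ : X) (hξU : ξ ∈ U)
    (hξ : closure ({f.base ξ} : Set Y) ∈ irreducibleComponents (Y : Type u)) :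
    closure ({ξ} : Set X) ∈ irreducibleComponents (X : Type u) := by
  refine ⟨isIrreducible_singleton.closure, ?_⟩
  intro Z hZ hξZ
  obtain ⟨ζ, hζ⟩ := QuasiSober.sober hZ.closure isClosed_closure
  have hζξ : ζ ⤳ ξ := by
    rw [specializes_iff_mem_closure, hζ.def]
    exact subset_closure (hξZ (subset_closure rfl))
  have hζU : ζ ∈ U := hζξ.mem_open U.isOpen hξU
  have h1 : f.base ζ ⤳ f.base ξ := hζξ.map f.base.hom.continuous
  have h2 : closure ({f.base ξ} : Set Y) ⊆ closure ({f.base ζ} : Set Y) :=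
    (isClosed_closure.closure_subset_iff).mpr
      (Set.singleton_subset_iff.mpr (specializes_iff_mem_closure.mp h1))
  have h3 : closure ({f.base ζ} : Set Y) ⊆ closure ({f.base ξ} : Set Y) :=
    hξ.2 isIrreducible_singleton.closure h2
  have h4 : f.base ζ = f.base ξ :=
    (show IsGenericPoint (f.base ζ) (closure {f.base ζ}) from rfl).eq
      (show IsGenericPoint (f.base ξ) (closure {f.base ζ}) from (h2.antisymm h3))
  have h5 : (⟨ζ, hζU⟩ : U) = ⟨ξ, hξU⟩ := by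
    apply (U.ι ≫ f).isOpenEmbedding.injective
    rw [Scheme.Hom.comp_apply, Scheme.Hom.comp_apply]
    exact h4
  have h6 : ζ = ξ := congrArg Subtype.val h5
  intro z hz
  have : z ∈ closure Z := subset_closure hz
  rw [← hζ.def, h6] at this
  exact this

end

/-- A separated morphism of schemes f : X → Y such that X has an open covering on whose members f
restricts to open immersions, and such that no two distinct generic points of irreducible components
of X have the same image under f, is an open immersion. -/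
theorem result {X Y : Scheme.{u}}
    (f : X ⟶ Y) [IsSeparated f]
    (hloc : ∀ x : X, ∃ U : X.Opens, x ∈ U ∧ IsOpenImmersion (U.ι ≫ f))
    (hinj : ∀ ξ ξ' : X, closure ({ξ} : Set X) ∈ irreducibleComponents (X : Type u) → closure ({ξ'} : Set X) ∈ irreducibleComponents (X : Type u) →
      f.base ξ = f.base ξ' → ξ = ξ') :
    IsOpenImmersion f := by
  -- injectivity
  have hinjf : Function.Injective f.base := by
    intro x₁ x₂ h12
    obtain ⟨U₁, hx₁, hj₁⟩ := hloc x₁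
    obtain ⟨U₂, hx₂, hj₂⟩ := hloc x₂
    obtain ⟨W, hWdef⟩ : ∃ W : Y.Opens, W = (U₁.ι ≫ f).opensRange ⊓ (U₂.ι ≫ f).opensRange :=
      ⟨_, rfl⟩
    have hW₁ : Set.range W.ι.base ⊆ Set.range (U₁.ι ≫ f).base := by
      rw [Scheme.Opens.range_ι, hWdef]
      exact fun z hz => hz.1
    have hW₂ : Set.range W.ι.base ⊆ Set.range (U₂.ι ≫ f).base := by
      rw [Scheme.Opens.range_ι, hWdef]
      exact fun z hz => hz.2
    obtain ⟨ℓ₁, hℓ₁⟩ : ∃ ℓ₁ : (W : Scheme.{u}) ⟶ (U₁ : Scheme.{u}), ℓ₁ ≫ U₁.ι ≫ f = W.ι :=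
      ⟨IsOpenImmersion.lift (U₁.ι ≫ f) W.ι hW₁, IsOpenImmersion.lift_fac _ _ _⟩
    obtain ⟨ℓ₂, hℓ₂⟩ : ∃ ℓ₂ : (W : Scheme.{u}) ⟶ (U₂ : Scheme.{u}), ℓ₂ ≫ U₂.ι ≫ f = W.ι :=
      ⟨IsOpenImmersion.lift (U₂.ι ≫ f) W.ι hW₂, IsOpenImmersion.lift_fac _ _ _⟩
    obtain ⟨s₁, hs₁def⟩ : ∃ s₁ : (W : Scheme.{u}) ⟶ X, s₁ = ℓ₁ ≫ U₁.ι := ⟨_, rfl⟩
    obtain ⟨s₂, hs₂def⟩ : ∃ s₂ : (W : Scheme.{u}) ⟶ X, s₂ = ℓ₂ ≫ U₂.ι := ⟨_, rfl⟩
    have hs₁U : ∀ w, s₁.base w ∈ U₁ := fun w => by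
      rw [hs₁def, Scheme.Hom.comp_apply]; exact (ℓ₁.base w).2
    have hs₂U : ∀ w, s₂.base w ∈ U₂ := fun w => by
      rw [hs₂def, Scheme.Hom.comp_apply]; exact (ℓ₂.base w).2
    have hs₁ : s₁ ≫ f = W.ι := by rw [hs₁def, Category.assoc, hℓ₁]
    have hs₂ : s₂ ≫ f = W.ι := by rw [hs₂def, Category.assoc, hℓ₂]
    have hfs₁ : ∀ w : (W : Scheme.{u}), f.base (s₁.base w) = W.ι.base w := fun w => by
      rw [← Scheme.Hom.comp_apply, hs₁]
    have hfs₂ : ∀ w : (W : Scheme.{u}), f.base (s₂.base w) = W.ι.base w := fun w => by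
      rw [← Scheme.Hom.comp_apply, hs₂]
    have hinj₁ : ∀ p p' : X, p ∈ U₁ → p' ∈ U₁ → f.base p = f.base p' → p = p' := by
      intro p p' hp hp' h
      have : (⟨p, hp⟩ : U₁) = ⟨p', hp'⟩ := by
        apply (U₁.ι ≫ f).isOpenEmbedding.injective
        rw [Scheme.Hom.comp_apply, Scheme.Hom.comp_apply]
        exact h
      exact congrArg Subtype.val this
    have hinj₂ : ∀ p p' : X, p ∈ U₂ → p' ∈ U₂ → f.base p = f.base p' → p = p' := by
      intro p p' hp hp' h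
      have : (⟨p, hp⟩ : U₂) = ⟨p', hp'⟩ := by
        apply (U₂.ι ≫ f).isOpenEmbedding.injective
        rw [Scheme.Hom.comp_apply, Scheme.Hom.comp_apply]
        exact h
      exact congrArg Subtype.val this
    have hyW : f.base x₁ ∈ W := by
      rw [hWdef]
      exact ⟨⟨⟨x₁, hx₁⟩, rfl⟩, ⟨⟨x₂, hx₂⟩, h12.symm⟩⟩
    obtain ⟨y', hy'⟩ : ∃ y' : (W : Scheme.{u}), W.ι.base y' = f.base x₁ :=
      ⟨⟨f.base x₁, hyW⟩, rfl⟩
    have hsx₁ : s₁.base y' = x₁ := hinj₁ _ _ (hs₁U _) hx₁ ((hfs₁ _).trans hy')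
    have hsx₂ : s₂.base y' = x₂ := hinj₂ _ _ (hs₂U _) hx₂ (((hfs₂ _).trans hy').trans h12)
    -- the open where the two sections agree
    haveI : IsOpenImmersion ((U₁ ⊓ U₂).ι ≫ f) := by
      have : (U₁ ⊓ U₂).ι ≫ f = X.homOfLE inf_le_left ≫ U₁.ι ≫ f := by
        rw [← Category.assoc, Scheme.homOfLE_ι]
      rw [this]
      infer_instance
    obtain ⟨T₀, hT₀⟩ : ∃ T₀ : (W : Scheme.{u}).Opens,
        T₀ = W.ι ⁻¹ᵁ ((U₁ ⊓ U₂).ι ≫ f).opensRange := ⟨_, rfl⟩
    have hT₀mem : ∀ w : (W : Scheme.{u}),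
        w ∈ T₀ ↔ W.ι.base w ∈ Set.range ((U₁ ⊓ U₂).ι ≫ f).base := by
      intro w
      rw [hT₀]
      rfl
    have hT₀r : Set.range (T₀.ι ≫ W.ι).base ⊆ Set.range ((U₁ ⊓ U₂).ι ≫ f).base := by
      rintro _ ⟨t, rfl⟩
      rw [Scheme.Hom.comp_apply]
      exact (hT₀mem (T₀.ι.base t)).mp t.2
    have h₀ : T₀.ι ≫ s₁ = T₀.ι ≫ s₂ := by
      obtain ⟨ℓ, hℓ⟩ : ∃ ℓ : (T₀ : Scheme.{u}) ⟶ ((U₁ ⊓ U₂ : X.Opens) : Scheme.{u}),
          ℓ ≫ (U₁ ⊓ U₂).ι ≫ f = T₀.ι ≫ W.ι :=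
        ⟨IsOpenImmersion.lift ((U₁ ⊓ U₂).ι ≫ f) (T₀.ι ≫ W.ι) hT₀r,
          IsOpenImmersion.lift_fac _ _ _⟩
      have e₁ : T₀.ι ≫ ℓ₁ = ℓ ≫ X.homOfLE inf_le_left := by
        rw [← cancel_mono (U₁.ι ≫ f), Category.assoc, hℓ₁, Category.assoc,
          ← Category.assoc (X.homOfLE _), Scheme.homOfLE_ι, hℓ]
      have e₂ : T₀.ι ≫ ℓ₂ = ℓ ≫ X.homOfLE inf_le_right := by
        rw [← cancel_mono (U₂.ι ≫ f), Category.assoc, hℓ₂, Category.assoc,
          ← Category.assoc (X.homOfLE _), Scheme.homOfLE_ι, hℓ]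
      rw [hs₁def, hs₂def, ← Category.assoc, e₁, ← Category.assoc, e₂, Category.assoc,
        Category.assoc, Scheme.homOfLE_ι, Scheme.homOfLE_ι]
    have hcl : y' ∈ closure (T₀ : Set (W : Scheme.{u})) := by
      rw [mem_closure_iff]
      intro N hN hyN
      obtain ⟨ξ, hξ, hξy⟩ := exists_generic_specializes Y (f.base x₁)
      have hξW : ξ ∈ W := hξy.mem_open W.isOpen hyW
      obtain ⟨ξ', hξ'⟩ : ∃ ξ' : (W : Scheme.{u}), W.ι.base ξ' = ξ := ⟨⟨ξ, hξW⟩, rfl⟩
      have hsp : ξ' ⤳ y' := by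
        rw [← W.ι.isOpenEmbedding.isInducing.specializes_iff, hξ', hy']
        exact hξy
      have hξN : ξ' ∈ N := hsp.mem_open hN hyN
      refine ⟨ξ', hξN, ?_⟩
      change ξ' ∈ T₀
      rw [hT₀mem]
      have hc₁ : closure ({s₁.base ξ'} : Set X) ∈ irreducibleComponents (X : Type u) := by
        haveI := hj₁
        refine mem_irreducibleComponents_of_local_openImmersion f U₁ _ (hs₁U _) ?_
        rw [hfs₁, hξ']
        exact hξ
      have hc₂ : closure ({s₂.base ξ'} : Set X) ∈ irreducibleComponents (X : Type u) := by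
        haveI := hj₂
        refine mem_irreducibleComponents_of_local_openImmersion f U₂ _ (hs₂U _) ?_
        rw [hfs₂, hξ']
        exact hξ
      have heq : s₁.base ξ' = s₂.base ξ' :=
        hinj _ _ hc₁ hc₂ ((hfs₁ _).trans (hfs₂ _).symm)
      refine ⟨⟨s₁.base ξ', hs₁U _, heq ▸ hs₂U _⟩, ?_⟩
      rw [Scheme.Hom.comp_apply]
      exact hfs₁ _
    have := apply_eq_of_mem_closure f s₁ s₂ (hs₁.trans hs₂.symm) T₀ h₀ _ hcl
    rw [hsx₁, hsx₂] at this
    exact this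
  -- open map
  have hopen : IsOpenMap f.base := by
    intro O hO
    rw [isOpen_iff_forall_mem_open]
    rintro _ ⟨x, hxO, rfl⟩
    obtain ⟨U, hxU, hj⟩ := hloc x
    refine ⟨(U.ι ≫ f).base '' (U.ι.base ⁻¹' O), ?_, ?_, ?_⟩
    · rintro _ ⟨p, hp, rfl⟩
      exact ⟨U.ι.base p, hp, by rw [Scheme.Hom.comp_apply]⟩
    · exact (U.ι ≫ f).isOpenEmbedding.isOpenMap _ (hO.preimage U.ι.base.hom.continuous)
    · exact ⟨⟨x, hxU⟩, hxO, by rw [Scheme.Hom.comp_apply]; rfl⟩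
  have hemb : Topology.IsOpenEmbedding f.base :=
    Topology.IsOpenEmbedding.of_continuous_injective_isOpenMap f.base.hom.continuous hinjf hopen
  haveI : ∀ x, IsIso (f.stalkMap x) := by
    intro x
    obtain ⟨U, hxU, hj⟩ := hloc x
    obtain ⟨p, rfl⟩ : ∃ p : (U : Scheme.{u}), U.ι.base p = x := ⟨⟨x, hxU⟩, rfl⟩
    have h1 : IsIso ((U.ι ≫ f).stalkMap p) := inferInstance
    have h3 : (U.ι ≫ f).stalkMap p = f.stalkMap (U.ι.base p) ≫ U.ι.stalkMap p :=
      Scheme.Hom.stalkMap_comp U.ι f p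
    rw [h3] at h1
    exact @IsIso.of_isIso_comp_right _ _ _ _ _ (f.stalkMap (U.ι.base p)) (U.ι.stalkMap p)
      inferInstance h1
  exact IsOpenImmersion.of_isIso_stalkMap f hemb

end Groth.Agent.S7658
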