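import Groth.Statements.S7663
import Groth.Agent.Lib.Helper13.KrullAkizuki

set_option autoImplicit false
universe u
open CategoryTheory CategoryTheory.Limits AlgebraicGeometry
open Variety

namespace Groth.Agent.S7663

/-- Let K be a field and A, B ⊆ K subrings with fraction field K, with A Noetherian of dimension one.
Then A ⊗ B → K is not surjective (equivalently, the subring generated by A and B is not K) if and
only if some discrete valuation ring O ⊆ K with fraction field K contains both A and B. -/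
theorem result (K : Type u) [Field K]
    (A : Subring K) [IsFractionRing A K] (B : Subring K) [IsFractionRing B K] [IsNoetherianRing A] (hdim : ringKrullDim A = 1) :
    A ⊔ B ≠ ⊤ ↔ ∃ O : ValuationSubring K, IsDiscreteValuationRing O ∧ A ≤ O.toSubring ∧ B ≤ O.toSubring := by
  have hK1 : Ring.KrullDimLE 1 A := Ring.krullDimLE_iff.mpr (by rw [hdim]; exact le_rfl)
  constructor
  · intro hne
    have hAC : A ≤ A ⊔ B := le_sup_left
    have hCf : IsFractionRing ↥(A ⊔ B) K :=
      Groth.Agent.Lib.Helper13.KA.isFractionRing_of_le A (A ⊔ B) hAC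
    obtain ⟨hCN, hCD⟩ := Groth.Agent.Lib.Helper13.KA.krullAkizuki A (A ⊔ B) hAC
    have hDed := Groth.Agent.Lib.Helper13.KA.isDedekindDomain_icl (A ⊔ B)
    have hCC' := Groth.Agent.Lib.Helper13.KA.le_icl (A ⊔ B)
    -- the integral closure is not a field
    have hnf : ¬ IsField ↥(Groth.Agent.Lib.Helper13.KA.icl (A ⊔ B)) := by
      intro hf
      apply hne
      rw [eq_top_iff]
      intro z _
      by_cases hz0 : z = 0
      · rw [hz0]; exact Subring.zero_mem _
      obtain ⟨p, q, hq, rfl⟩ := IsFractionRing.div_surjective (A := A) z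
      have hq0 : (q : K) ≠ 0 := fun h => nonZeroDivisors.ne_zero hq (Subtype.ext h)
      have hCfield : IsField ↥(A ⊔ B) := by
        let _ : Algebra ↥(A ⊔ B) ↥(Groth.Agent.Lib.Helper13.KA.icl (A ⊔ B)) :=
          (Subring.inclusion hCC').toAlgebra
        have hint := Groth.Agent.Lib.Helper13.KA.isIntegral_icl (A ⊔ B)
        exact isField_of_isIntegral_of_isField (R := ↥(A ⊔ B))
          (S := ↥(Groth.Agent.Lib.Helper13.KA.icl (A ⊔ B)))
          (Subring.inclusion_injective hCC') hf
      obtain ⟨w, hw⟩ := hCfield.mul_inv_cancel (a := ⟨(q : K), hAC q.2⟩)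
        (fun h => hq0 (congrArg Subtype.val h))
      have hwK : (q : K) * (w : K) = 1 := by
        have := congrArg Subtype.val hw
        simpa using this
      have hwinv : (w : K) = ((q : K))⁻¹ := eq_inv_of_mul_eq_one_right hwK
      have : ((q : K))⁻¹ ∈ (A ⊔ B) := by rw [← hwinv]; exact w.2
      rw [div_eq_mul_inv]
      exact Subring.mul_mem _ (hAC p.2) this
    obtain ⟨m, hm⟩ := Ideal.exists_maximal ↥(Groth.Agent.Lib.Helper13.KA.icl (A ⊔ B))
    have hm0 : m ≠ ⊥ := Ring.ne_bot_of_isMaximal_of_not_isField hm hnf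
    obtain ⟨v, -⟩ : ∃ v : IsDedekindDomain.HeightOneSpectrum
        ↥(Groth.Agent.Lib.Helper13.KA.icl (A ⊔ B)), True := ⟨⟨m, hm.isPrime, hm0⟩, trivial⟩
    refine ⟨IsDedekindDomain.HeightOneSpectrum.valuationSubringAtPrime K v, ?_, ?_, ?_⟩
    · exact IsLocalization.AtPrime.isDiscreteValuationRing_of_dedekind_domain
        ↥(Groth.Agent.Lib.Helper13.KA.icl (A ⊔ B)) (P := v.asIdeal) v.ne_bot _
    · intro x hx
      rw [IsDedekindDomain.HeightOneSpectrum.valuationSubringAtPrime_eq_valuationSubring]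
      exact v.valuation_le_one (K := K) ⟨x, hCC' (hAC hx)⟩
    · intro x hx
      rw [IsDedekindDomain.HeightOneSpectrum.valuationSubringAtPrime_eq_valuationSubring]
      exact v.valuation_le_one (K := K) ⟨x, hCC' ((le_sup_right : B ≤ A ⊔ B) hx)⟩
  · rintro ⟨O, hO, hA, hB⟩ htop
    obtain ⟨ϖ, hϖ⟩ := IsDiscreteValuationRing.exists_irreducible O
    have hϖ0 : (ϖ : K) ≠ 0 := fun h => hϖ.ne_zero (Subtype.ext h)
    have hle : A ⊔ B ≤ O.toSubring := sup_le hA hB
    rw [htop] at hle
    have hmem : ((ϖ : K))⁻¹ ∈ O.toSubring := hle trivial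
    apply hϖ.not_isUnit
    exact IsUnit.of_mul_eq_one ⟨((ϖ : K))⁻¹, hmem⟩ (Subtype.ext (by simp [hϖ0]))

end Groth.Agent.S7663
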