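import Groth.Statements.S7664
import Groth.Agent.Lib.Helper13.GlueDimOne

set_option autoImplicit false
universe u
open CategoryTheory CategoryTheory.Limits AlgebraicGeometry
open Variety

namespace Groth.Agent.S7664

section helpers
open Groth.Agent.Lib.Helper13.Glue

variable {K : Type u} [Field K]

theorem inv_mem_of_isUnit (A : Subring K) (u : A) (hu : IsUnit u) : ((u : K))⁻¹ ∈ A := by
  obtain ⟨w, hw⟩ := hu.exists_right_inv
  have hw' : (u : K) * (w : K) = 1 := by
    have := congrArg Subtype.val hw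
    simpa using this
  have : ((u : K))⁻¹ = (w : K) := by
    rw [inv_eq_iff_eq_inv]
    exact (eq_inv_of_mul_eq_one_left hw')
  rw [this]; exact w.2

theorem isUnit_of_inv_mem (A : Subring K) (x : K) (hx : x ∈ A) (hxi : x⁻¹ ∈ A) (hx0 : x ≠ 0) :
    IsUnit (⟨x, hx⟩ : A) :=
  IsUnit.of_mul_eq_one ⟨x⁻¹, hxi⟩ (Subtype.ext (by simp [hx0]))

/-- nonunits of a local subring are in the Jacobson radical -/
theorem mem_jacobson_of_inv_notMem (B : Subring K) [IsLocalRing B] (x : K) (hx : x ∈ B)
    (hx0 : x ≠ 0) (hxi : x⁻¹ ∉ B) : (⟨x, hx⟩ : B) ∈ Ideal.jacobson (⊥ : Ideal B) := by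
  rw [IsLocalRing.jacobson_eq_maximalIdeal ⊥ bot_ne_top, IsLocalRing.mem_maximalIdeal,
    mem_nonunits_iff]
  intro hu
  apply hxi
  have := inv_mem_of_isUnit B ⟨x, hx⟩ hu
  exact this

end helpers

/-- Let K be a field, A ⊆ K a Noetherian semi-local domain of dimension one and B ⊆ K a discrete
valuation ring, both with fraction field K, and R = A ∩ B. (a) If some unit of A does not lie in R,
then Spec A and Spec B each map to Spec R by an open immersion, Spec R is the union of the two
images, and the natural map A ⊗_R B → K is an isomorphism. (b) If every unit of A lies in R, then B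
dominates the local ring of A at one of its maximal ideals (A ⊆ B and the maximal ideal of B
contracts to a maximal ideal of A) and A ⊗ B → K is not surjective. -/
theorem result (K : Type u) [Field K]
    (A : Subring K) [IsFractionRing A K] [IsNoetherianRing A] (hdim : ringKrullDim A = 1) (hsl : Finite (MaximalSpectrum A))
    (B : ValuationSubring K) [IsDiscreteValuationRing B] :
    ((∃ u : A, IsUnit u ∧ (u : K) ∉ B) →
      IsOpenImmersion (Spec.map (CommRingCat.ofHom (Subring.inclusion (inf_le_left : A ⊓ B.toSubring ≤ A)))) ∧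
      IsOpenImmersion (Spec.map (CommRingCat.ofHom (Subring.inclusion (inf_le_right : A ⊓ B.toSubring ≤ B.toSubring)))) ∧
      Set.range (Spec.map (CommRingCat.ofHom (Subring.inclusion (inf_le_left : A ⊓ B.toSubring ≤ A)))).base ∪
        Set.range (Spec.map (CommRingCat.ofHom (Subring.inclusion (inf_le_right : A ⊓ B.toSubring ≤ B.toSubring)))).base = Set.univ ∧
      IsPushout (CommRingCat.ofHom (Subring.inclusion (inf_le_left : A ⊓ B.toSubring ≤ A)))
        (CommRingCat.ofHom (Subring.inclusion (inf_le_right : A ⊓ B.toSubring ≤ B.toSubring)))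
        (CommRingCat.ofHom A.subtype) (CommRingCat.ofHom B.toSubring.subtype)) ∧
    ((∀ u : A, IsUnit u → (u : K) ∈ B) →
      (∃ h : A ≤ B.toSubring,
        (Ideal.comap (Subring.inclusion h) (IsLocalRing.maximalIdeal B)).IsMaximal) ∧ A ⊔ B.toSubring ≠ ⊤) := by
  have hK1 : Ring.KrullDimLE 1 A := Ring.krullDimLE_iff.mpr (by rw [hdim]; exact le_rfl)
  have hnf : ¬ IsField A := fun h => by
    have := ringKrullDim_eq_zero_of_isField h
    rw [hdim] at this
    exact one_ne_zero this
  obtain ⟨a, ha0, haJ⟩ := Groth.Agent.Lib.Helper13.Glue.exists_ne_zero_mem_jacobson A hnf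
  have hBf : IsFractionRing B.toSubring K := inferInstanceAs (IsFractionRing B K)
  have hBd : Ring.KrullDimLE 1 B.toSubring := inferInstanceAs (Ring.KrullDimLE 1 B)
  have hBl : IsLocalRing B.toSubring := inferInstanceAs (IsLocalRing B)
  have haK : (a : K) ≠ 0 := fun h => ha0 (Subtype.ext h)
  constructor
  · rintro ⟨u, hu, huB⟩
    have hu0 : (u : K) ≠ 0 := by
      intro h
      exact huB (by rw [h]; exact B.zero_mem)
    have hxB : ((u : K))⁻¹ ∈ B.toSubring := (B.mem_or_inv_mem (u : K)).resolve_left huB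
    have hxJ := mem_jacobson_of_inv_notMem B.toSubring ((u : K))⁻¹ hxB (inv_ne_zero hu0)
      (by rw [inv_inv]; exact huB)
    obtain ⟨y, hy⟩ := Groth.Agent.Lib.Helper13.Glue.exists_glueData A B.toSubring a haJ ha0
      ((u : K))⁻¹ (inv_ne_zero hu0) (inv_mem_of_isUnit A u hu) (by rw [inv_inv]; exact u.2) hxB hxJ
    exact hy.main
  · intro hall
    have hAB : A ≤ B.toSubring := by
      intro α hα
      by_contra hαB
      have hα0 : α ≠ 0 := by
        intro h; exact hαB (by rw [h]; exact B.toSubring.zero_mem)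
      have hαiB : α⁻¹ ∈ B.toSubring := (B.mem_or_inv_mem α).resolve_left hαB
      have hαJ := mem_jacobson_of_inv_notMem B.toSubring α⁻¹ hαiB (inv_ne_zero hα0)
        (by rw [inv_inv]; exact hαB)
      obtain ⟨n, hn⟩ := Groth.Agent.Lib.Helper13.Glue.exists_pow_mul_mem B.toSubring
        ⟨α⁻¹, hαiB⟩ hαJ ((a : K))⁻¹
      have hwA : (a : K) * α ^ (n + 1) ∈ A := A.mul_mem a.2 (A.pow_mem hα _)
      have hw0 : (a : K) * α ^ (n + 1) ≠ 0 := mul_ne_zero haK (pow_ne_zero _ hα0)
      have hwJ : (⟨(a : K) * α ^ (n + 1), hwA⟩ : A) ∈ Ideal.jacobson (⊥ : Ideal A) := by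
        have : (⟨(a : K) * α ^ (n + 1), hwA⟩ : A) = a * (⟨α, hα⟩ : A) ^ (n + 1) :=
          Subtype.ext (by simp)
        rw [this]
        exact Ideal.mul_mem_right _ _ haJ
      have hwi_eq : ((a : K) * α ^ (n + 1))⁻¹ = α⁻¹ * (α⁻¹ ^ n * ((a : K))⁻¹) := by
        rw [mul_inv, ← inv_pow, pow_succ]; ring
      have hwiB : ((a : K) * α ^ (n + 1))⁻¹ ∈ B.toSubring := by
        rw [hwi_eq]; exact B.toSubring.mul_mem hαiB hn
      have hwiJ : (⟨((a : K) * α ^ (n + 1))⁻¹, hwiB⟩ : B.toSubring) ∈
          Ideal.jacobson (⊥ : Ideal B.toSubring) := by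
        have : (⟨((a : K) * α ^ (n + 1))⁻¹, hwiB⟩ : B.toSubring) =
            (⟨α⁻¹, hαiB⟩ : B.toSubring) * ⟨α⁻¹ ^ n * ((a : K))⁻¹, hn⟩ :=
          Subtype.ext (by simp only [Subring.coe_mul]; exact hwi_eq)
        rw [this]
        exact Ideal.mul_mem_right _ _ hαJ
      obtain ⟨h1w0, h1wA⟩ := Groth.Agent.Lib.Helper13.Glue.unit_add_jacobson A 1 (by simp)
        one_ne_zero _ hwA hwJ
      obtain ⟨h1wi0, h1wiB⟩ := Groth.Agent.Lib.Helper13.Glue.unit_add_jacobson B.toSubring 1
        (by simp) one_ne_zero _ hwiB hwiJ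
      have h1wA' : 1 + (a : K) * α ^ (n + 1) ∈ A := A.add_mem A.one_mem hwA
      have h1wB : 1 + (a : K) * α ^ (n + 1) ∈ B.toSubring :=
        hall ⟨_, h1wA'⟩ (isUnit_of_inv_mem A _ h1wA' h1wA h1w0)
      have hwB : (a : K) * α ^ (n + 1) ∈ B.toSubring := by
        have : (a : K) * α ^ (n + 1) =
            (1 + (a : K) * α ^ (n + 1)) * (1 + ((a : K) * α ^ (n + 1))⁻¹)⁻¹ := by
          have h3 : (a : K) * α ^ (n + 1) + 1 ≠ 0 := by rwa [add_comm]
          field_simp
          ring
        rw [this]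
        exact B.toSubring.mul_mem h1wB h1wiB
      have := Ideal.mem_jacobson_bot.mp hwiJ ⟨-((a : K) * α ^ (n + 1)), B.toSubring.neg_mem hwB⟩
      have h0 : (⟨((a : K) * α ^ (n + 1))⁻¹, hwiB⟩ : B.toSubring) *
          ⟨-((a : K) * α ^ (n + 1)), B.toSubring.neg_mem hwB⟩ + 1 = 0 := by
        apply Subtype.ext
        simp only [Subring.coe_add, Subring.coe_mul, Subring.coe_one, Subring.coe_zero]
        field_simp
        ring
      rw [h0] at this
      exact not_isUnit_zero this
    obtain ⟨ϖ, hϖ⟩ := IsDiscreteValuationRing.exists_irreducible B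
    have hϖ0 : (ϖ : K) ≠ 0 := fun h => hϖ.ne_zero (Subtype.ext h)
    refine ⟨⟨hAB, ?_⟩, ?_⟩
    · have hprime : (Ideal.comap (Subring.inclusion hAB) (IsLocalRing.maximalIdeal B)).IsPrime :=
        Ideal.comap_isPrime _ _
      refine hprime.isMaximal_of_ne_bot ?_
      obtain ⟨p, q, hq, hpq⟩ := IsFractionRing.div_surjective (A := A) (ϖ : K)
      have hq0 : (q : K) ≠ 0 := fun h => nonZeroDivisors.ne_zero hq (Subtype.ext h)
      have hpq' : (p : K) = (ϖ : K) * (q : K) := by
        have : (p : K) / (q : K) = (ϖ : K) := hpq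
        rw [← this]; field_simp
      have hp0 : p ≠ 0 := by
        intro h
        rw [h] at hpq'
        exact mul_ne_zero hϖ0 hq0 hpq'.symm
      intro hbot
      have hmem : p ∈ Ideal.comap (Subring.inclusion hAB) (IsLocalRing.maximalIdeal B) := by
        rw [Ideal.mem_comap]
        have : (Subring.inclusion hAB p : B) = ϖ * (Subring.inclusion hAB q : B) :=
          Subtype.ext hpq'
        rw [this]
        exact Ideal.mul_mem_right _ _ hϖ.not_isUnit
      rw [hbot] at hmem
      exact hp0 (by simpa using hmem)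
    · rw [sup_eq_right.mpr hAB]
      intro htop
      have : ((ϖ : K))⁻¹ ∈ B.toSubring := by rw [htop]; trivial
      exact hϖ.not_isUnit (isUnit_of_inv_mem B.toSubring _ ϖ.2 this hϖ0)

end Groth.Agent.S7664
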