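import Groth.Statements.S7668
import Mathlib.RingTheory.Localization.Ideal
import Mathlib.RingTheory.Ideal.Operations

set_option autoImplicit false
universe u
open CategoryTheory CategoryTheory.Limits AlgebraicGeometry
open Variety

namespace Groth.Agent.S7668

section

variable {A : Type u} [CommRing A] {r : ℕ} (p : Fin r → PrimeSpectrum A)

/-- the multiplicative set -/
abbrev Sm : Submonoid A := ⨅ i, (p i).asIdeal.primeCompl

local notation "S" => Sm p
local notation "L" => Localization (Sm p)

lemma mem_S (x : A) : x ∈ S ↔ ∀ i, x ∉ (p i).asIdeal := by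
  rw [Submonoid.mem_iInf]
  exact Iff.rfl

lemma disjoint_p (i : Fin r) : Disjoint (S : Set A) ((p i).asIdeal : Set A) := by
  rw [Set.disjoint_left]
  intro x hx hxi
  exact (mem_S p x).mp hx i hxi

lemma le_of_disjoint (q : Ideal A) (hq : Disjoint (S : Set A) (q : Set A)) :
    ∃ i, q ≤ (p i).asIdeal := by
  have hsub : (q : Set A) ⊆ ⋃ i ∈ ((Finset.univ : Finset (Fin r)) : Set (Fin r)), ((p i).asIdeal : Set A) := by
    intro x hx
    have hxS : x ∉ S := fun h => Set.disjoint_left.mp hq h hx
    rw [mem_S] at hxS
    push Not at hxS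
    obtain ⟨i, hi⟩ := hxS
    exact Set.mem_biUnion (Finset.mem_coe.mpr (Finset.mem_univ i)) hi
  by_cases hr : r = 0
  · subst hr
    exfalso
    have := hsub q.zero_mem
    simp at this
  · have i0 : Fin r := ⟨0, Nat.pos_of_ne_zero hr⟩
    obtain ⟨i, -, hi⟩ := (Ideal.subset_union_prime (s := Finset.univ)
      (f := fun i => (p i).asIdeal) i0 i0 (fun i _ _ _ => (p i).isPrime)).mp hsub
    exact ⟨i, hi⟩

/-- the comap of a maximal ideal is one of the `p i`, maximal among them. -/
lemma comap_maximal (m : Ideal L) (hm : m.IsMaximal) :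
    ∃ i, m.comap (algebraMap A L) = (p i).asIdeal ∧
      ∀ j, (p i).asIdeal ≤ (p j).asIdeal → (p i).asIdeal = (p j).asIdeal := by
  have hprime := (IsLocalization.isPrime_iff_isPrime_disjoint S L m).mp hm.isPrime
  obtain ⟨i, hi⟩ := le_of_disjoint p _ hprime.2
  have key : ∀ j, m.comap (algebraMap A L) ≤ (p j).asIdeal →
      m.comap (algebraMap A L) = (p j).asIdeal := by
    intro j hj
    have hjprime : ((p j).asIdeal.map (algebraMap A L)).IsPrime :=
      IsLocalization.isPrime_of_isPrime_disjoint S L _ (p j).isPrime (disjoint_p p j)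
    have hle : m ≤ (p j).asIdeal.map (algebraMap A L) := by
      rw [← IsLocalization.map_under S L m]
      exact Ideal.map_mono hj
    have heq : m = (p j).asIdeal.map (algebraMap A L) := hm.eq_of_le hjprime.ne_top hle
    rw [heq]
    exact IsLocalization.under_map_of_isPrime_disjoint S L (p j).isPrime (disjoint_p p j)
  refine ⟨i, key i hi, ?_⟩
  intro j hij
  rw [← key i hi] at hij ⊢
  exact key j hij

end


/-- Let A be a ring, p_1, …, p_r primes of A and S = A ∖ ⋃ p_i. Then S is a multiplicative subset, S⁻¹A
is semi-local, and contraction to A is a bijection from the maximal ideals of S⁻¹A onto the maximal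
elements of {p_1, …, p_r}. -/
theorem result (A : Type u) [CommRing A]
    (r : ℕ) (p : Fin r → PrimeSpectrum A) :
    Finite (MaximalSpectrum (Localization (⨅ i, (p i).asIdeal.primeCompl))) ∧
      Set.BijOn (fun m : Ideal (Localization (⨅ i, (p i).asIdeal.primeCompl)) =>
          m.comap (algebraMap A (Localization (⨅ i, (p i).asIdeal.primeCompl))))
        {m | m.IsMaximal}
        {q | q ∈ Set.range (fun i => (p i).asIdeal) ∧
          ∀ j, q ≤ (p j).asIdeal → q = (p j).asIdeal} := by
  have hinj : Function.Injective (fun m : Ideal (Localization (⨅ i, (p i).asIdeal.primeCompl)) =>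
      m.comap (algebraMap A (Localization (⨅ i, (p i).asIdeal.primeCompl)))) :=
    Function.LeftInverse.injective (IsLocalization.map_under (⨅ i, (p i).asIdeal.primeCompl) _)
  refine ⟨?_, ?_, hinj.injOn, ?_⟩
  · -- finiteness
    choose f hf using fun m : MaximalSpectrum (Localization (⨅ i, (p i).asIdeal.primeCompl)) =>
      comap_maximal p m.asIdeal m.isMaximal
    apply Finite.of_injective f
    intro m m' hmm'
    apply MaximalSpectrum.ext
    apply hinj
    have e1 : Ideal.comap (algebraMap A (Localization (⨅ i, (p i).asIdeal.primeCompl))) m.asIdeal =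
      (p (f m)).asIdeal := (hf m).1
    have e2 : Ideal.comap (algebraMap A (Localization (⨅ i, (p i).asIdeal.primeCompl))) m'.asIdeal =
      (p (f m')).asIdeal := (hf m').1
    dsimp only
    rw [e1, e2, hmm']
  · -- maps to
    intro m hm
    obtain ⟨i, hi, hmax⟩ := comap_maximal p m hm
    have hi' : Ideal.comap (algebraMap A (Localization (⨅ i, (p i).asIdeal.primeCompl))) m =
      (p i).asIdeal := hi
    refine ⟨⟨i, hi'.symm⟩, ?_⟩
    intro j hj
    dsimp only at hj ⊢
    rw [hi'] at hj ⊢
    exact hmax j hj
  · -- surj on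
    rintro q ⟨⟨i, rfl⟩, hq⟩
    have hprime : ((p i).asIdeal.map (algebraMap A (Localization (⨅ i, (p i).asIdeal.primeCompl)))).IsPrime :=
      IsLocalization.isPrime_of_isPrime_disjoint _ _ _ (p i).isPrime (disjoint_p p i)
    obtain ⟨M, hM, hle⟩ := Ideal.exists_le_maximal _ hprime.ne_top
    obtain ⟨j, hj', -⟩ := comap_maximal p M hM
    have hj : Ideal.comap (algebraMap A (Localization (⨅ i, (p i).asIdeal.primeCompl))) M =
      (p j).asIdeal := hj'
    have h1 : (p i).asIdeal ≤ (p j).asIdeal := by
      rw [← hj, ← IsLocalization.under_map_of_isPrime_disjoint (⨅ i, (p i).asIdeal.primeCompl)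
        (Localization (⨅ i, (p i).asIdeal.primeCompl)) (p i).isPrime (disjoint_p p i)]
      exact Ideal.comap_mono hle
    have h2 := hq j h1
    refine ⟨M, hM, ?_⟩
    show M.comap _ = _
    dsimp only at h2
    rw [hj, ← h2]

end Groth.Agent.S7668
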