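import Groth.Statements.S7671
import Groth.Agent.Lib.Helper17.FlatBCUnit
import Groth.Agent.Lib.Helper17.InvDescLoc
import Groth.Agent.Lib.Helper28.GenIso
import Groth.Agent.Lib.Helper28.TensorPowGen
import Groth.Agent.S19022
import Groth.Agent.S0232
import Mathlib
set_option backward.isDefEq.respectTransparency.types false

set_option autoImplicit false
universe u
open CategoryTheory CategoryTheory.Limits AlgebraicGeometry
open Variety

namespace Groth.Agent.S7671

open TopologicalSpace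
open Groth.Agent.Lib.Helper28 Groth.Agent.Lib.Helper28.QCohLoc Groth.Agent.Lib.Helper28.GenLocus
open Groth.Agent.Lib.Helper17 Groth.Agent.Lib.Helper17.InvDescLoc


/-- Let A → B be faithfully flat and X a quasi-compact and quasi-separated scheme over A such that
H^0(X, O_X) is a semi-local ring. Then Pic(X) → Pic(X_B) is injective: an invertible module on X
which becomes trivial on X_B is trivial. -/
theorem result (A B : Type u) [CommRing A]
    [CommRing B] [Algebra A B] [Module.FaithfullyFlat A B]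
    (X : Scheme.{u}) (f : X ⟶ Spec (CommRingCat.of A)) [CompactSpace X] [QuasiSeparatedSpace X]
    (hsl : Finite (MaximalSpectrum Γ(X, ⊤))) (L : X.Modules) (hL : PicF.IsInvertible L)
    (htriv : Nonempty ((Scheme.Modules.pullback
        (pullback.fst f (Spec.map (CommRingCat.ofHom (algebraMap A B))))).obj L ≅
      Coh.structureModule (pullback f (Spec.map (CommRingCat.ofHom (algebraMap A B)))))) :
    Nonempty (L ≅ Coh.structureModule X) := by
  classical
  obtain ⟨e'⟩ := htriv
  let c : X ⟶ Spec Γ(X, ⊤) := X.toSpecΓ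
  let pY : Spec Γ(X, ⊤) ⟶ Spec (CommRingCat.of A) :=
    Spec.map f.appTop ≫ Spec.map (Scheme.ΓSpecIso (CommRingCat.of A)).inv
  have hfp : c ≫ pY = f := by
    show X.toSpecΓ ≫ Spec.map f.appTop ≫ Spec.map (Scheme.ΓSpecIso (CommRingCat.of A)).inv = f
    rw [← Scheme.toSpecΓ_naturality_assoc, toSpecΓ_SpecMap_ΓSpecIso_inv, Category.comp_id]
  let y : Spec (CommRingCat.of B) ⟶ Spec (CommRingCat.of A) := Spec.map (CommRingCat.ofHom (algebraMap A B))
  let g : pullback f y ⟶ X := pullback.fst f y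
  let gY : pullback pY y ⟶ Spec Γ(X, ⊤) := pullback.fst pY y
  let f' : pullback f y ⟶ pullback pY y := pullback.lift (g ≫ c) (pullback.snd f y)
    (by rw [Category.assoc, hfp]; exact pullback.condition)
  have h : IsPullback g f' c gY := by
    refine IsPullback.of_bot ?_ (pullback.lift_fst _ _ _).symm (IsPullback.of_hasPullback pY y)
    rw [pullback.lift_snd, hfp]
    exact IsPullback.of_hasPullback f y
  have hFF : (CommRingCat.ofHom (algebraMap A B)).hom.FaithfullyFlat := by
    show (algebraMap A B).FaithfullyFlat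
    rw [RingHom.faithfullyFlat_algebraMap_iff]
    infer_instance
  obtain ⟨hflat, hsurj⟩ := (flat_and_surjective_SpecMap_iff (CommRingCat.ofHom (algebraMap A B))).mpr hFF
  haveI : Flat y := hflat
  haveI : Surjective y := hsurj
  haveI : QuasiCompact y := inferInstance
  haveI : Flat gY := inferInstance
  haveI : Surjective gY := inferInstance
  haveI : QuasiCompact gY := inferInstance
  have hf : ∀ V : (Spec Γ(X, ⊤)).Opens, Function.Bijective (c.app V) := FlatBCUnit.bijective_toSpecΓ_app X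
  have hf' : ∀ W' : (pullback pY y).Opens, Function.Bijective (f'.app W') :=
    FlatBCUnit.bijective_app_baseChange c gY g f' h hf
  have hloc : ∀ y' : ↥(pullback pY y), ∃ (W' : (pullback pY y).Opens)
      (l : Γ((Scheme.Modules.pullback g).obj L, f' ⁻¹ᵁ W')), y' ∈ W' ∧
      IsGen ((Scheme.Modules.pullback g).obj L) (f' ⁻¹ᵁ W') l := by
    intro y'
    refine ⟨⊤, e'.inv.app ⊤ (oneSec (pullback f y) ⊤), trivial, ?_⟩
    exact Groth.Agent.S0232.isGen_of_iso e'.symm (isGen_oneSec (X := pullback f y) ⊤)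
  have hex := fun y₀ : ↥(Spec Γ(X, ⊤)) => InvDescLoc.exists_common_gen c gY g f' h hf hf' L hL hloc y₀
  let N : (Spec Γ(X, ⊤)).Modules := (Scheme.Modules.pushforward c).obj L
  have hN : PicF.IsInvertible N := InvDescLoc.isInvertible_pushforward c gY g f' h hf hf' L hL hloc
  -- closed points
  haveI : Fintype (MaximalSpectrum Γ(X, ⊤)) := Fintype.ofFinite _
  let T : Finset ↥(Spec Γ(X, ⊤)) :=
    Finset.univ.image (fun m : MaximalSpectrum Γ(X, ⊤) => (m.toPrimeSpectrum : PrimeSpectrum Γ(X, ⊤)))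
  have hTclosed : ∀ x ∈ T, IsClosed ({x} : Set ↥(Spec Γ(X, ⊤))) := by
    intro x hx
    obtain ⟨m, -, rfl⟩ := Finset.mem_image.mp hx
    exact (PrimeSpectrum.isClosed_singleton_iff_isMaximal _).mpr m.isMaximal
  obtain ⟨U, hUaff, hTU, ⟨eU⟩⟩ := Groth.Agent.S19022.result (Spec Γ(X, ⊤)) N hN T hTclosed
    ⟨⊤, isAffineOpen_top _, fun _ _ => trivial⟩
  have hUtop : U = ⊤ := by
    rw [eq_top_iff]
    intro p _
    obtain ⟨m, hm, hpm⟩ := Ideal.exists_le_maximal (p : PrimeSpectrum Γ(X, ⊤)).asIdeal (p : PrimeSpectrum Γ(X, ⊤)).isPrime.ne_top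
    let mm : MaximalSpectrum Γ(X, ⊤) := ⟨m, hm⟩
    have hmT : (mm.toPrimeSpectrum : PrimeSpectrum Γ(X, ⊤)) ∈ T := Finset.mem_image.mpr ⟨mm, Finset.mem_univ _, rfl⟩
    have hmU := hTU _ hmT
    have hspec : (p : PrimeSpectrum Γ(X, ⊤)) ⤳ mm.toPrimeSpectrum :=
      (PrimeSpectrum.le_iff_specializes _ _).mp hpm
    exact Specializes.mem_open (X := PrimeSpectrum Γ(X, ⊤)) hspec U.2 hmU
  obtain ⟨g0, hg0⟩ := exists_isGen_of_iso N U eU
  have hle : (⊤ : (Spec Γ(X, ⊤)).Opens) ≤ U.ι ''ᵁ ⊤ := by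
    rw [Scheme.Opens.ι_image_top, hUtop]
  let z : Γ(N, ⊤) := res N hle g0
  have hz : IsGen N ⊤ z := hg0.res hle
  let z' : Γ(L, ⊤) := z
  have hz' : IsGen L ⊤ z' := by
    refine isGen_of_locally z' fun p _ => ?_
    obtain ⟨D, x, hyD, hx, hx'⟩ := hex (c p)
    refine ⟨c ⁻¹ᵁ D, le_top, hyD, ?_⟩
    have hzD : IsGen N D (res N le_top z) := hz.res le_top
    set u := hx'.coef le_rfl (res N le_top z) with hu
    have h1 := hx'.coef_smul le_rfl (res N le_top z)
    rw [res_self] at h1
    have hunit : IsUnit u := by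
      refine isUnit_of_isGen_smul hx' u ?_
      rw [h1]
      exact hzD
    have h2 : IsGen L (c ⁻¹ᵁ D) (((c.app D).hom u) • x : Γ(L, c ⁻¹ᵁ D)) :=
      IsGen.smul_unit hx _ (hunit.map _)
    have h3 : (((c.app D).hom u) • x : Γ(L, c ⁻¹ᵁ D)) = res L le_top z' := h1
    rw [← h3]
    exact h2
  obtain ⟨ψ, -⟩ := exists_iso_of_cocycle_gen (M := L) (N := Coh.structureModule X)
    (fun _ : Unit => (⊤ : X.Opens)) (fun _ => z') (fun _ => oneSec X ⊤)
    (fun _ => hz') (fun _ => isGen_oneSec ⊤)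
    (fun z => ⟨(), trivial⟩)
    (fun _ _ => ⟨1, by rw [one_smul], by rw [one_smul]⟩)
  exact ⟨ψ⟩

end Groth.Agent.S7671
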