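import Groth.Statements.S7678
import Groth.Agent.Lib.Helper5.FrobRedSch

set_option autoImplicit false
universe u
open CategoryTheory CategoryTheory.Limits AlgebraicGeometry
open Variety

namespace Groth.Agent.S7678

/-- For a field k of positive characteristic p and a k-scheme X, the base change of X along the p-th
power map of k is a reduced scheme exactly when X is geometrically reduced over k. -/
theorem result (k : Type u) [Field k] (X : Scheme.{u}) [X.Over (Spec (CommRingCat.of k))]
    (p : ℕ) [Fact p.Prime] [CharP k p] :
    GeometricallyReduced (X ↘ (Spec (CommRingCat.of k))) ↔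
      IsReduced ↑(pullback (X ↘ (Spec (CommRingCat.of k))) (Spec.map (CommRingCat.ofHom (frobenius k p)))) := by
  rw [GeometricallyReduced.eq_geometrically,
    geometrically_iff_of_commRing_of_isClosedUnderIsomorphisms]
  constructor
  · intro h
    exact h (Groth.Agent.Lib.Helper5.FrobRed.FrobK k p)
  · intro h K _ _
    have h' : AlgebraicGeometry.IsReduced
        (Curv2.bc k X (Groth.Agent.Lib.Helper5.FrobRed.FrobK k p)) := h
    exact Groth.Agent.Lib.Helper5.FrobRed.isReduced_bc_of_forall_geomReducedAt k X
      (fun x => Groth.Agent.Lib.Helper5.FrobRed.geomReducedAt_of_isReduced_frob k p X h' x) K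

end Groth.Agent.S7678
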