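import Groth.Statements.S7683
import Mathlib
import Groth.Agent.Lib.Helper22.DeltaInvG
-- import your own Groth.Agent.* helpers here

set_option autoImplicit false
universe u
open CategoryTheory CategoryTheory.Limits AlgebraicGeometry
open Variety

namespace Groth.Agent.S7683

/-- Let X be locally of finite type over a field k with normalization ν : X^ν → X, K/k a field
extension, y ∈ X_K a point with image x ∈ X. Assume O_{X,x} is reduced of dimension one, κ(x')/k is
separable for every x' ∈ X^ν over x, and dim O_{X_K,y} = 1. Then the δ-invariant of X at x equals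
the δ-invariant of X_K at y. (The published statement needs only O_{X,x} reduced; this row takes X
integral so that X^ν is the normalization of an integral scheme.) -/
theorem result (k : Type u) [Field k] (X : Scheme.{u}) [X.Over (Spec (CommRingCat.of k))]
    [IsIntegral X] [LocallyOfFiniteType (X ↘ (Spec (CommRingCat.of k)))]
    [QuasiCompact (X.fromSpecStalk (genericPoint X))] [QuasiSeparated (X.fromSpecStalk (genericPoint X))]
    (K : Type u) [Field K] [Algebra k K] (y : ↥(Curv2.bc k X K))
    (hdx : ringKrullDim (X.presheaf.stalk ((Curv2.bcFst k X K).base y)) = 1)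
    (hsep : letI : (Curv2.normalization X).Over (Spec (CommRingCat.of k)) :=
        ⟨Curv2.normalizationι X ≫ (X ↘ (Spec (CommRingCat.of k)))⟩
      ∀ x' : ↥(Curv2.normalization X), (Curv2.normalizationι X).base x' = (Curv2.bcFst k X K).base y →
        GeometricallyReduced (Spec.map (CommRingCat.ofHom (Curv2.resMap k (Curv2.normalization X) x'))))
    (hdy : ringKrullDim ((Curv2.bc k X K).presheaf.stalk y) = 1) :
    Curv2.deltaInv (X.presheaf.stalk ((Curv2.bcFst k X K).base y)) =
      Curv2.deltaInv ((Curv2.bc k X K).presheaf.stalk y) := by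
  letI := Curv2.stalkAlgebra k X ((Curv2.bcFst k X K).base y)
  have hNag := Groth.Agent.Lib.Helper22.CurveStalk.isNagata_stalk k X ((Curv2.bcFst k X K).base y)
  haveI : IsNoetherianRing (X.presheaf.stalk ((Curv2.bcFst k X K).base y)) := hNag.1
  have hfin := Groth.Agent.Lib.Helper12.AnUnram.finite_integralClosure_fractionRing_of_isNagata
    (X.presheaf.stalk ((Curv2.bcFst k X K).base y)) hNag
  obtain ⟨Q, hQ, hQm, ⟨ε⟩⟩ := Groth.Agent.Lib.Helper5.StalkBC.exists_equiv_of_point' k X K
    ((Curv2.bcFst k X K).base y) y rfl
  haveI : IsNoetherianRing ((Curv2.bc k X K).presheaf.stalk y) :=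
    (Groth.Agent.Lib.Helper22.CurveStalk.isNagata_stalk_bc k X K y).1
  haveI : IsNoetherianRing (Localization.AtPrime Q) := isNoetherianRing_of_ringEquiv _ ε
  have hT : ringKrullDim (Localization.AtPrime Q) = 1 := by
    rw [← ringKrullDim_eq_of_ringEquiv ε]
    exact hdy
  rw [Groth.Agent.Lib.Helper22.DeltaInv.deltaInv_eq_of_ringEquiv ε]
  symm
  exact Groth.Agent.Lib.Helper22.DeltaInv.deltaInv_localization_tensor k K
    (X.presheaf.stalk ((Curv2.bcFst k X K).base y)) Q hQm hdx hT hfin
    (fun F _ _ _ _ g hg => Groth.Agent.Lib.Helper22.DeltaInv.isReduced_tensor_of_hsep k X K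
      ((Curv2.bcFst k X K).base y) (fun x' hx' => hsep x' hx') F g hg)

end Groth.Agent.S7683
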