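import Groth.Statements.S7687
import Groth.Agent.Lib.Helper13.GlueSemiLocal

set_option autoImplicit false
universe u
open CategoryTheory CategoryTheory.Limits AlgebraicGeometry
open Variety

namespace Groth.Agent.S7687

/-- Let K be a field and A, B ⊆ K Noetherian semi-local domains of dimension one with fraction field K
such that A ⊗ B → K is surjective, and R = A ∩ B. Then Spec A and Spec B each map to Spec R by an
open immersion, Spec R is the union of the two images, and the natural map A ⊗_R B → K is an
isomorphism. -/
theorem result (K : Type u) [Field K]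
    (A : Subring K) [IsFractionRing A K] (B : Subring K) [IsFractionRing B K] [IsNoetherianRing A] [IsNoetherianRing B]
    (hdimA : ringKrullDim A = 1) (hdimB : ringKrullDim B = 1)
    (hslA : Finite (MaximalSpectrum A)) (hslB : Finite (MaximalSpectrum B)) (hgen : A ⊔ B = ⊤) :
    IsOpenImmersion (Spec.map (CommRingCat.ofHom (Subring.inclusion (inf_le_left : A ⊓ B ≤ A)))) ∧
      IsOpenImmersion (Spec.map (CommRingCat.ofHom (Subring.inclusion (inf_le_right : A ⊓ B ≤ B)))) ∧
      Set.range (Spec.map (CommRingCat.ofHom (Subring.inclusion (inf_le_left : A ⊓ B ≤ A)))).base ∪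
        Set.range (Spec.map (CommRingCat.ofHom (Subring.inclusion (inf_le_right : A ⊓ B ≤ B)))).base = Set.univ ∧
      IsPushout (CommRingCat.ofHom (Subring.inclusion (inf_le_left : A ⊓ B ≤ A)))
        (CommRingCat.ofHom (Subring.inclusion (inf_le_right : A ⊓ B ≤ B)))
        (CommRingCat.ofHom A.subtype) (CommRingCat.ofHom B.subtype) := by
  have hA1 : Ring.KrullDimLE 1 A := Ring.krullDimLE_iff.mpr (by rw [hdimA]; exact le_rfl)
  have hB1 : Ring.KrullDimLE 1 B := Ring.krullDimLE_iff.mpr (by rw [hdimB]; exact le_rfl)
  have hfA : ¬ IsField A := fun h => by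
    have := ringKrullDim_eq_zero_of_isField h
    rw [hdimA] at this
    exact one_ne_zero this
  have hfB : ¬ IsField B := fun h => by
    have := ringKrullDim_eq_zero_of_isField h
    rw [hdimB] at this
    exact one_ne_zero this
  obtain ⟨x, y, h⟩ :=
    Groth.Agent.Lib.Helper13.Glue.exists_glueData_of_sup_eq_top A B hfA hfB hgen
  exact h.main

end Groth.Agent.S7687
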