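import Groth.Statements.S8260
-- import your own Groth.Agent.* helpers here
import Mathlib
import Groth.Agent.S8259

set_option autoImplicit false
universe u
open CategoryTheory CategoryTheory.Limits AlgebraicGeometry Opposite TopologicalSpace
open scoped HomogeneousIdeal
open EGA2

namespace Groth.Agent.S8260

/-- pure algebra: for an ℕ-graded ring `A` and a ring hom `φ : R → A` landing in degree 0 which is of
finite type, the induced `R → A₀` is of finite type and `A` is of finite type over `A₀`. -/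
theorem alg {R A : Type u} [CommRing R] [CommRing A] (𝒜 : ℕ → AddSubgroup A) [GradedRing 𝒜]
    (φ : R →+* A) (hφ : φ.FiniteType) (φ0 : R →+* 𝒜 0) (h0 : ∀ r, (φ0 r : A) = φ r) :
    φ0.FiniteType ∧ Algebra.FiniteType (𝒜 0) A := by
  constructor
  · have hcomp : φ0 = (GradedRing.projZeroRingHom' 𝒜).comp φ := by
      ext r
      rw [RingHom.comp_apply, ← h0 r, GradedRing.projZeroRingHom'_apply_coe]
    rw [hcomp]
    exact RingHom.FiniteType.comp
      (RingHom.FiniteType.of_surjective _ (GradedRing.projZeroRingHom'_surjective 𝒜)) hφ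
  · have hcomp : φ = (algebraMap (𝒜 0) A).comp φ0 := by
      ext r
      rw [RingHom.comp_apply, ← h0 r]
      rfl
    have : ((algebraMap (𝒜 0) A).comp φ0).FiniteType := hcomp ▸ hφ
    have := RingHom.FiniteType.of_comp_finiteType this
    exact this


set_option backward.isDefEq.respectTransparency false in
theorem main {Y P : Scheme.{u}} (𝒮 : RelProj.QCGrAlg Y)
    (hft : ∀ (U : Y.Opens) (hU : IsAffineOpen U), (𝒮.str.app (op U)).hom.FiniteType)
    (p : P ⟶ Y)
    (chart : ∀ (U : Y.Opens) (hU : IsAffineOpen U), (((p ⁻¹ᵁ U : P.Opens) : Scheme.{u}) ≅ Proj (𝒮.deg U hU)))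
    (hP : RelProj.IsRelProj 𝒮 p chart) : LocallyOfFiniteType p ∧ QuasiCompact p := by
  have key : ∀ U : Y.affineOpens, LocallyOfFiniteType (p ∣_ U.1) ∧ QuasiCompact (p ∣_ U.1) := by
    intro U
    rw [Groth.Agent.S8259.restrict_eq 𝒮 p chart hP U.1 U.2]
    haveI := 𝒮.gradedRing U.1 U.2
    obtain ⟨h1, h2⟩ := alg (𝒮.deg U.1 U.2) (𝒮.str.app (op U.1)).hom (hft U.1 U.2)
      (𝒮.strZero U.1 U.2).hom (fun r => rfl)
    have : LocallyOfFiniteType (Spec.map (𝒮.strZero U.1 U.2)) := by
      rw [HasRingHomProperty.Spec_iff (P := @LocallyOfFiniteType)]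
      exact h1
    constructor <;> infer_instance
  constructor
  · rw [IsZariskiLocalAtTarget.iff_of_iSup_eq_top (P := @LocallyOfFiniteType)
      (fun U : Y.affineOpens => U.1) (iSup_affineOpens_eq_top Y)]
    exact fun U => (key U).1
  · rw [IsZariskiLocalAtTarget.iff_of_iSup_eq_top (P := @QuasiCompact)
      (fun U : Y.affineOpens => U.1) (iSup_affineOpens_eq_top Y)]
    exact fun U => (key U).2

/-- If the quasi-coherent positively graded O_Y-algebra 𝒮 is of finite type (over every affine open U of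
Y the ring 𝒮(U) is a finitely generated O_Y(U)-algebra), then its relative homogeneous spectrum
Proj(𝒮) is of finite type over Y. -/
theorem result {Y P : Scheme.{u}} (𝒮 : RelProj.QCGrAlg Y)
    (hft : ∀ (U : Y.Opens) (hU : IsAffineOpen U), (𝒮.str.app (op U)).hom.FiniteType)
    (p : P ⟶ Y)
    (chart : ∀ (U : Y.Opens) (hU : IsAffineOpen U), (((p ⁻¹ᵁ U : P.Opens) : Scheme.{u}) ≅ Proj (𝒮.deg U hU)))
    (hP : RelProj.IsRelProj 𝒮 p chart) : LocallyOfFiniteType p ∧ QuasiCompact p := by
  exact main 𝒮 hft p chart hP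

end Groth.Agent.S8260
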