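import Groth.Statements.S8261
-- import your own Groth.Agent.* helpers here
import Mathlib
import Groth.Agent.S8259

set_option autoImplicit false
universe u
open CategoryTheory CategoryTheory.Limits AlgebraicGeometry Opposite TopologicalSpace
open scoped HomogeneousIdeal
open EGA2

namespace Groth.Agent.S8261

open HomogeneousLocalization

section Alg

variable {R A : Type u} [CommRing R] [CommRing A] (𝒜 : ℕ → AddSubgroup A) [GradedRing 𝒜]

/-- (i) `A` is generated over `𝒜 0` by `T`. -/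
theorem adjoin_eq_top (ψ : R →+* 𝒜 0) (T : Finset A)
    (hspan : ∀ x ∈ 𝒜 1, ∃ c : A → R, x = ∑ t ∈ T, (ψ (c t) : A) * t)
    (hgen : Subring.closure ((𝒜 0 : Set A) ∪ (𝒜 1 : Set A)) = ⊤) :
    Algebra.adjoin (𝒜 0) (T : Set A) = ⊤ := by
  rw [eq_top_iff]
  intro x _
  have hx : x ∈ Subring.closure ((𝒜 0 : Set A) ∪ (𝒜 1 : Set A)) := by rw [hgen]; trivial
  have hle : Subring.closure ((𝒜 0 : Set A) ∪ (𝒜 1 : Set A)) ≤
      (Algebra.adjoin (𝒜 0) (T : Set A)).toSubring := by
    rw [Subring.closure_le]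
    rintro y (hy | hy)
    · exact (Algebra.adjoin (𝒜 0) (T : Set A)).algebraMap_mem ⟨y, hy⟩
    · obtain ⟨c, rfl⟩ := hspan y hy
      refine Subalgebra.sum_mem _ (fun t ht => ?_)
      exact Subalgebra.mul_mem _ ((Algebra.adjoin (𝒜 0) (T : Set A)).algebraMap_mem (ψ (c t)))
        (Algebra.subset_adjoin ht)
  exact hle hx

end Alg
section Alg2

variable {R A : Type u} [CommRing R] [CommRing A] (𝒜 : ℕ → AddSubgroup A) [GradedRing 𝒜]

/-- the fraction `s / f` for `s, f` of degree one -/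
noncomputable def frac {f : A} (hf : f ∈ 𝒜 1) (s : A) (hs : s ∈ 𝒜 1) : Away 𝒜 f :=
  Away.mk 𝒜 hf 1 s (by simpa using hs)

theorem u_mul_frac {f : A} (hf : f ∈ 𝒜 1) (s : A) (hs : s ∈ 𝒜 1) :
    algebraMap A (Localization.Away f) f * (frac 𝒜 hf s hs).val =
      algebraMap A (Localization.Away f) s := by
  unfold frac
  rw [Away.val_mk, Localization.mk_eq_mk']
  have := IsLocalization.mk'_spec' (M := Submonoid.powers f) (Localization.Away f) s
    ⟨f ^ 1, 1, rfl⟩
  simpa using this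

theorem u_pow_mul_mk {f : A} (hf : f ∈ 𝒜 1) (a : ℕ) (x : A) (hx : x ∈ 𝒜 (a • 1)) :
    algebraMap A (Localization.Away f) f ^ a * (Away.mk 𝒜 hf a x hx).val =
      algebraMap A (Localization.Away f) x := by
  rw [Away.val_mk, Localization.mk_eq_mk']
  have := IsLocalization.mk'_spec' (M := Submonoid.powers f) (Localization.Away f) x
    ⟨f ^ a, a, rfl⟩
  simpa using this

theorem isUnit_u (f : A) : IsUnit (algebraMap A (Localization.Away f) f) :=
  IsLocalization.map_units (M := Submonoid.powers f) (Localization.Away f)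
    ⟨f, Submonoid.mem_powers f⟩

theorem val_fromZero (f : A) (x0 : 𝒜 0) :
    (fromZeroRingHom 𝒜 (Submonoid.powers f) x0).val = algebraMap A (Localization.Away f) x0 := by
  change Localization.mk (x0 : A) 1 = _
  exact Localization.mk_one_eq_algebraMap _


theorem away_finiteType (ψ : R →+* 𝒜 0) (T : Finset A) (hT : ∀ t ∈ T, t ∈ 𝒜 1)
    (hspan : ∀ x ∈ 𝒜 1, ∃ c : A → R, x = ∑ t ∈ T, (ψ (c t) : A) * t)
    (hx : Algebra.adjoin (𝒜 0) (T : Set A) = ⊤)
    (f : A) (hf : f ∈ 𝒜 1) :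
    ((fromZeroRingHom 𝒜 (Submonoid.powers f)).comp ψ).FiniteType := by
  classical
  set φ := (fromZeroRingHom 𝒜 (Submonoid.powers f)).comp ψ with hφ
  letI := φ.toAlgebra
  let g : T → Away 𝒜 f := fun i => frac 𝒜 hf i.1 (hT i.1 i.2)
  set u := algebraMap A (Localization.Away f) f with hu
  have hunit : IsUnit u := isUnit_u f
  -- elements of degree zero lie in the subalgebra
  have h0 : ∀ x0 : 𝒜 0, fromZeroRingHom 𝒜 (Submonoid.powers f) x0 ∈
      Algebra.adjoin R (Set.range g) := by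
    intro x0
    have hmem : (x0 : A) * f ∈ 𝒜 1 := by
      have := SetLike.mul_mem_graded (A := 𝒜) x0.2 hf
      simpa using this
    obtain ⟨c, hc⟩ := hspan _ hmem
    have heq : fromZeroRingHom 𝒜 (Submonoid.powers f) x0 = ∑ i : T, c i.1 • g i := by
      apply HomogeneousLocalization.val_injective
      apply hunit.mul_left_cancel
      rw [val_fromZero, ← map_mul, mul_comm f, hc]
      have hval : (∑ i : T, c i.1 • g i).val = ∑ i : T, (c i.1 • g i).val := by
        rw [← HomogeneousLocalization.algebraMap_apply, map_sum]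
        rfl
      rw [hval, Finset.mul_sum, map_sum, ← Finset.sum_coe_sort T]
      refine Finset.sum_congr rfl (fun i _ => ?_)
      have hsmul : c i.1 • g i = φ (c i.1) * g i := Algebra.smul_def _ _
      rw [hsmul, val_mul, hφ, RingHom.comp_apply, val_fromZero, ← mul_assoc, mul_comm u, mul_assoc,
        u_mul_frac, ← map_mul]
    rw [heq]
    exact Subalgebra.sum_mem _ (fun i _ => Subalgebra.smul_mem _ (Algebra.subset_adjoin (Set.mem_range_self i)) _)
  have key : Algebra.adjoin R (Set.range g) = ⊤ := by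
    rw [eq_top_iff]
    intro z hz'
    clear hz'
    have htop := Away.adjoin_mk_prod_pow_eq_top (𝒜 := 𝒜) hf T (fun i : T => i.1)
      (by rw [Subtype.range_coe_subtype]; exact hx) (fun _ => 1) (fun i => hT i.1 i.2)
    have hz : z ∈ Algebra.adjoin (𝒜 0) { Away.mk 𝒜 hf a (∏ i : T, i.1 ^ ai i)
      (hai ▸ SetLike.prod_pow_mem_graded _ _ _ _ fun i _ ↦ hT i.1 i.2) |
        (a : ℕ) (ai : T → ℕ) (hai : ∑ i, ai i • 1 = a • 1) (_ : ∀ i, ai i ≤ 1) } := by
      rw [htop]; trivial
    induction hz using Algebra.adjoin_induction with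
    | mem z hz =>
      obtain ⟨a, ai, hai, _, rfl⟩ := hz
      have heq : Away.mk 𝒜 hf a (∏ i : T, i.1 ^ ai i)
          (hai ▸ SetLike.prod_pow_mem_graded _ _ _ _ fun i _ ↦ hT i.1 i.2) = ∏ i : T, g i ^ ai i := by
        apply HomogeneousLocalization.val_injective
        apply (hunit.pow a).mul_left_cancel
        rw [u_pow_mul_mk]
        have hval : (∏ i : T, g i ^ ai i).val = ∏ i : T, (g i).val ^ ai i := by
          rw [← HomogeneousLocalization.algebraMap_apply, map_prod]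
          refine Finset.prod_congr rfl (fun i _ => ?_)
          rw [map_pow]; rfl
        have ha : a = ∑ i : T, ai i := by simpa using hai.symm
        rw [hval, ha, ← Finset.prod_pow_eq_pow_sum, ← Finset.prod_mul_distrib, map_prod]
        refine Finset.prod_congr rfl (fun i _ => ?_)
        rw [← mul_pow, u_mul_frac, map_pow]
      rw [heq]
      exact Subalgebra.prod_mem _ (fun i _ => Subalgebra.pow_mem _ (Algebra.subset_adjoin (Set.mem_range_self i)) _)
    | algebraMap r => exact h0 r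
    | add _ _ _ _ h1 h2 => exact Subalgebra.add_mem _ h1 h2
    | mul _ _ _ _ h1 h2 => exact Subalgebra.mul_mem _ h1 h2
  refine ⟨⟨Finset.univ.image g, ?_⟩⟩
  rw [Finset.coe_image, Finset.coe_univ, Set.image_univ]
  exact key

end Alg2

set_option backward.isDefEq.respectTransparency false in
/-- the local statement over one graded ring -/
theorem local_ft {R : CommRingCat.{u}} {A : Type u} [CommRing A] (𝒜 : ℕ → AddSubgroup A) [GradedRing 𝒜]
    (ψ : R ⟶ CommRingCat.of (𝒜 0)) (T : Finset A) (hT : ∀ t ∈ T, t ∈ 𝒜 1)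
    (hspan : ∀ x ∈ 𝒜 1, ∃ c : A → R, x = ∑ t ∈ T, (ψ.hom (c t) : A) * t)
    (hgen : Subring.closure ((𝒜 0 : Set A) ∪ (𝒜 1 : Set A)) = ⊤) :
    LocallyOfFiniteType (Proj.toSpecZero 𝒜 ≫ Spec.map ψ) ∧
      QuasiCompact (Proj.toSpecZero 𝒜 ≫ Spec.map ψ) := by
  have hx : Algebra.adjoin (𝒜 0) (T : Set A) = ⊤ := adjoin_eq_top 𝒜 ψ.hom T hspan hgen
  have hft : Algebra.FiniteType (𝒜 0) A := ⟨⟨T, hx⟩⟩
  constructor
  · rw [IsZariskiLocalAtSource.iff_of_iSup_eq_top (P := @LocallyOfFiniteType) _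
      (Proj.iSup_basicOpen_eq_top' 𝒜 (ι := T) (↑) (fun i ↦ ⟨1, hT _ i.2⟩)
        (by rw [Subtype.range_coe_subtype]; exact hx))]
    intro i
    rw [← MorphismProperty.cancel_left_of_respectsIso (P := @LocallyOfFiniteType)
      (Proj.basicOpenIsoSpec 𝒜 (i : A) (hT _ i.2) Nat.one_pos).inv, ← Category.assoc,
      ← Category.assoc, ← Proj.awayι, Proj.awayι_toSpecZero, ← Spec.map_comp,
      HasRingHomProperty.Spec_iff (P := @LocallyOfFiniteType)]
    exact away_finiteType 𝒜 ψ.hom T hT hspan hx i.1 (hT _ i.2)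
  · infer_instance

set_option backward.isDefEq.respectTransparency false in
theorem main {Y P : Scheme.{u}} (𝒮 : RelProj.QCGrAlg Y)
    (hgen : 𝒮.IsGenDegOne) (hft : 𝒮.IsFTDeg 1) (p : P ⟶ Y)
    (chart : ∀ (U : Y.Opens) (hU : IsAffineOpen U), (((p ⁻¹ᵁ U : P.Opens) : Scheme.{u}) ≅ Proj (𝒮.deg U hU)))
    (hP : RelProj.IsRelProj 𝒮 p chart) : LocallyOfFiniteType p ∧ QuasiCompact p := by
  have key : ∀ U : Y.affineOpens, LocallyOfFiniteType (p ∣_ U.1) ∧ QuasiCompact (p ∣_ U.1) := by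
    intro U
    rw [Groth.Agent.S8259.restrict_eq 𝒮 p chart hP U.1 U.2]
    obtain ⟨T, hT, hspan⟩ := hft U.1 U.2
    obtain ⟨h1, h2⟩ := @local_ft _ _ _ (𝒮.deg U.1 U.2) (𝒮.gradedRing U.1 U.2) (𝒮.strZero U.1 U.2) T
      (fun t ht => hT ht) (fun x hx => hspan x hx) (hgen U.1 U.2)
    constructor
    · have : LocallyOfFiniteType ((chart U.1 U.2).hom ≫ (Proj.toSpecZero (𝒮.deg U.1 U.2) ≫
          Spec.map (𝒮.strZero U.1 U.2)) ≫ U.2.isoSpec.inv) := inferInstance
      simpa only [Category.assoc] using this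
    · have : QuasiCompact ((chart U.1 U.2).hom ≫ (Proj.toSpecZero (𝒮.deg U.1 U.2) ≫
          Spec.map (𝒮.strZero U.1 U.2)) ≫ U.2.isoSpec.inv) := inferInstance
      simpa only [Category.assoc] using this
  constructor
  · rw [IsZariskiLocalAtTarget.iff_of_iSup_eq_top (P := @LocallyOfFiniteType)
      (fun U : Y.affineOpens => U.1) (iSup_affineOpens_eq_top Y)]
    exact fun U => (key U).1
  · rw [IsZariskiLocalAtTarget.iff_of_iSup_eq_top (P := @QuasiCompact)
      (fun U : Y.affineOpens => U.1) (iSup_affineOpens_eq_top Y)]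
    exact fun U => (key U).2

/-- Let 𝒮 be a quasi-coherent positively graded O_Y-algebra generated by 𝒮_1 with 𝒮_1 of finite type
over O_Y. Then Proj(𝒮) is of finite type over Y. -/
theorem result {Y P : Scheme.{u}} (𝒮 : RelProj.QCGrAlg Y)
    (hgen : 𝒮.IsGenDegOne) (hft : 𝒮.IsFTDeg 1) (p : P ⟶ Y)
    (chart : ∀ (U : Y.Opens) (hU : IsAffineOpen U), (((p ⁻¹ᵁ U : P.Opens) : Scheme.{u}) ≅ Proj (𝒮.deg U hU)))
    (hP : RelProj.IsRelProj 𝒮 p chart) : LocallyOfFiniteType p ∧ QuasiCompact p := by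
  exact main 𝒮 hgen hft p chart hP

end Groth.Agent.S8261
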