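import Groth.Statements.S8266
-- import your own Groth.Agent.* helpers here
import Mathlib

set_option autoImplicit false
universe u
open CategoryTheory CategoryTheory.Limits AlgebraicGeometry Opposite TopologicalSpace
open scoped HomogeneousIdeal
open EGA2

namespace Groth.Agent.S8266

/-- A homogeneous localization at a relevant prime of an "essentially reduced" graded ring is
reduced. -/
theorem redAtPrime {A : Type u} [CommRing A] (𝒜 : ℕ → AddSubgroup A) [GradedRing 𝒜]
    (hred : ∀ x : A, x ∈ 𝒜₊ → IsNilpotent x → x = 0)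
    (𝔭 : Ideal A) [𝔭.IsPrime] (hrel : ¬ 𝒜₊.toIdeal ≤ 𝔭) :
    IsReduced (HomogeneousLocalization.AtPrime 𝒜 𝔭) := by
  -- an element of the irrelevant ideal outside 𝔭
  obtain ⟨f, hf, hf𝔭⟩ := SetLike.not_le_iff_exists.1 hrel
  constructor
  intro z hz
  obtain ⟨m, hm⟩ := hz
  rw [HomogeneousLocalization.ext_iff_val, HomogeneousLocalization.val_zero]
  have hv : z.val ^ m = 0 := by
    rw [← HomogeneousLocalization.val_pow, hm, HomogeneousLocalization.val_zero]
  rw [HomogeneousLocalization.eq_num_div_den] at hv ⊢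
  rw [Localization.mk_pow, Localization.mk_eq_mk', IsLocalization.mk'_eq_zero_iff] at hv
  obtain ⟨t, ht⟩ := hv
  rw [Localization.mk_eq_mk', IsLocalization.mk'_eq_zero_iff]
  have hnil : IsNilpotent (t.1 * f * z.num) := by
    refine ⟨m + 1, ?_⟩
    have : (t.1 * f * z.num) ^ (m + 1) = (t.1 * z.num ^ m) * (t.1 ^ m * f ^ (m + 1) * z.num) := by ring
    rw [this, ht, zero_mul]
  have hmem : t.1 * f * z.num ∈ 𝒜₊ := by
    have : t.1 * f * z.num = (t.1 * z.num) * f := by ring
    rw [this]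
    exact Ideal.mul_mem_left _ _ hf
  have h0 := hred _ hmem hnil
  refine ⟨⟨t.1 * f, ?_⟩, h0⟩
  exact Submonoid.mul_mem _ t.2 hf𝔭


set_option backward.isDefEq.respectTransparency false in
theorem projRed {A : Type u} [CommRing A] (𝒜 : ℕ → AddSubgroup A) [GradedRing 𝒜]
    (hred : ∀ x : A, x ∈ 𝒜₊ → IsNilpotent x → x = 0) : IsReduced (Proj 𝒜) := by
  have : ∀ x : Proj 𝒜, _root_.IsReduced ((Proj 𝒜).presheaf.stalk x) := by
    intro x
    have h1 : _root_.IsReduced (HomogeneousLocalization.AtPrime 𝒜 x.asHomogeneousIdeal.toIdeal) :=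
      redAtPrime 𝒜 hred _ (fun h => x.not_irrelevant_le h)
    have e := (Proj.stalkIso 𝒜 x).commRingCatIsoToRingEquiv
    exact isReduced_of_injective e.toRingHom e.injective
  exact isReduced_of_isReduced_stalk _

set_option backward.isDefEq.respectTransparency false in
theorem main {Y P : Scheme.{u}} (𝒮 : RelProj.QCGrAlg Y)
    (hred : ∀ (U : Y.Opens) (hU : IsAffineOpen U) (x : 𝒮.presheaf.obj (op U)),
      x ∈ (𝒮.deg U hU)₊ → IsNilpotent x → x = 0)
    (p : P ⟶ Y)
    (chart : ∀ (U : Y.Opens) (hU : IsAffineOpen U), (((p ⁻¹ᵁ U : P.Opens) : Scheme.{u}) ≅ Proj (𝒮.deg U hU))) :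
    IsReduced P := by
  have hcov : IsOpenCover (fun U : Y.affineOpens => p ⁻¹ᵁ U.1) := by
    rw [IsOpenCover, eq_top_iff]
    intro x _
    have hx : p x ∈ (⊤ : Y.Opens) := trivial
    rw [← iSup_affineOpens_eq_top Y] at hx
    obtain ⟨U, hxU⟩ := Opens.mem_iSup.1 hx
    exact Opens.mem_iSup.2 ⟨U, hxU⟩
  let 𝒰 := P.openCoverOfIsOpenCover _ hcov
  have : ∀ i, IsReduced (𝒰.X i) := by
    intro U
    have h1 : IsReduced (Proj (𝒮.deg U.1 U.2)) := projRed _ (hred U.1 U.2)
    exact isReduced_of_isOpenImmersion (chart U.1 U.2).hom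
  exact IsReduced.of_openCover _ 𝒰

/-- If the quasi-coherent positively graded O_Y-algebra 𝒮 is essentially reduced (affine-locally, no
nonzero nilpotent element in the irrelevant ideal), then Proj(𝒮) is reduced. -/
theorem result {Y P : Scheme.{u}} (𝒮 : RelProj.QCGrAlg Y)
    (hred : ∀ (U : Y.Opens) (hU : IsAffineOpen U) (x : 𝒮.presheaf.obj (op U)),
      x ∈ (𝒮.deg U hU)₊ → IsNilpotent x → x = 0)
    (p : P ⟶ Y)
    (chart : ∀ (U : Y.Opens) (hU : IsAffineOpen U), (((p ⁻¹ᵁ U : P.Opens) : Scheme.{u}) ≅ Proj (𝒮.deg U hU)))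
    (hP : RelProj.IsRelProj 𝒮 p chart) : IsReduced P := by
  exact main 𝒮 hred p chart

end Groth.Agent.S8266
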