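import Groth.Statements.S8264
import Groth.Agent.S8266
import Mathlib

set_option autoImplicit false
universe u
open CategoryTheory CategoryTheory.Limits AlgebraicGeometry Opposite TopologicalSpace
open scoped HomogeneousIdeal
open EGA2

namespace Groth.Agent.S8264

section ProjIntegral
variable {A : Type u} [CommRing A] (𝒜 : ℕ → AddSubgroup A) [GradedRing 𝒜]

/-- the generic point of Proj of a graded domain with nonzero irrelevant ideal -/
def genericPt [IsDomain A] (hne : 𝒜₊.toIdeal ≠ ⊥) : ProjectiveSpectrum 𝒜 :=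
  ⟨⊥, by change (⊥ : Ideal A).IsPrime; exact Ideal.isPrime_bot, fun h => hne (le_bot_iff.1 h)⟩

theorem closure_genericPt [IsDomain A] (hne : 𝒜₊.toIdeal ≠ ⊥) :
    closure {genericPt 𝒜 hne} = (Set.univ : Set (ProjectiveSpectrum 𝒜)) := by
  rw [← ProjectiveSpectrum.zeroLocus_vanishingIdeal_eq_closure, ProjectiveSpectrum.vanishingIdeal_singleton]
  exact ProjectiveSpectrum.zeroLocus_bot 𝒜

theorem irreducibleSpace_projectiveSpectrum [IsDomain A] (hne : 𝒜₊.toIdeal ≠ ⊥) :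
    IrreducibleSpace (ProjectiveSpectrum 𝒜) := by
  rw [irreducibleSpace_def]
  have := (isIrreducible_singleton (x := genericPt 𝒜 hne)).closure
  rwa [closure_genericPt] at this

theorem irreducibleSpace_proj [IsDomain A] (hne : 𝒜₊.toIdeal ≠ ⊥) : IrreducibleSpace (Proj 𝒜) :=
  irreducibleSpace_projectiveSpectrum 𝒜 hne

end ProjIntegral

/-- A space covered by a directed family of irreducible opens is irreducible. -/
theorem irreducibleSpace_of_cover {X : Type*} [TopologicalSpace X] {ι : Type*} [Nonempty ι]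
    (W : ι → Set X) (hW : ∀ i, IsOpen (W i)) (hirr : ∀ i, IsIrreducible (W i))
    (hcov : ∀ x : X, ∃ i, x ∈ W i) (hdir : ∀ i j, ∃ k, W k ⊆ W i ∩ W j) : IrreducibleSpace X := by
  have : PreirreducibleSpace X := by
    refine PreirreducibleSpace.of_forall_nonempty_inter fun U V hU hV hUn hVn => ?_
    obtain ⟨a, ha⟩ := hUn
    obtain ⟨b, hb⟩ := hVn
    obtain ⟨i, hi⟩ := hcov a
    obtain ⟨j, hj⟩ := hcov b
    obtain ⟨k, hk⟩ := hdir i j
    obtain ⟨c, hc⟩ := (hirr k).nonempty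
    have h1 : (W i ∩ (U ∩ W k)).Nonempty :=
      (hirr i).2 U (W k) hU (hW k) ⟨a, hi, ha⟩ ⟨c, (hk hc).1, hc⟩
    have h2 : (W j ∩ (V ∩ W k)).Nonempty :=
      (hirr j).2 V (W k) hV (hW k) ⟨b, hj, hb⟩ ⟨c, (hk hc).2, hc⟩
    obtain ⟨a', -, ha'U, ha'k⟩ := h1
    obtain ⟨b', -, hb'V, hb'k⟩ := h2
    obtain ⟨d, -, hd⟩ := (hirr k).2 U V hU hV ⟨a', ha'k, ha'U⟩ ⟨b', hb'k, hb'V⟩
    exact ⟨d, hd⟩
  obtain ⟨i⟩ := ‹Nonempty ι›
  obtain ⟨c, -⟩ := (hirr i).nonempty
  exact { toNonempty := ⟨c⟩ }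

set_option backward.isDefEq.respectTransparency false in
theorem main {Y P : Scheme.{u}} [IsIntegral Y] (𝒮 : RelProj.QCGrAlg Y)
    (hint : ∀ (U : Y.Opens) (hU : IsAffineOpen U), (U : Set Y).Nonempty →
      IsDomain (𝒮.presheaf.obj (op U)) ∧ ((𝒮.deg U hU)₊).toIdeal ≠ ⊥)
    (p : P ⟶ Y)
    (chart : ∀ (U : Y.Opens) (hU : IsAffineOpen U), (((p ⁻¹ᵁ U : P.Opens) : Scheme.{u}) ≅ Proj (𝒮.deg U hU))) :
    IsIntegral P ∧ DenseRange p.base := by
  -- index type: nonempty affine opens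
  let ι := {U : Y.affineOpens // (U.1 : Set Y).Nonempty}
  -- every nonempty open contains a nonempty affine open
  have hsub : ∀ W : Y.Opens, (W : Set Y).Nonempty → ∃ i : ι, i.1.1 ≤ W := by
    intro W ⟨y, hy⟩
    obtain ⟨V, hV, hyV, hVW⟩ := Opens.isBasis_iff_nbhd.1 Y.isBasis_affineOpens hy
    exact ⟨⟨⟨V, hV⟩, ⟨y, hyV⟩⟩, hVW⟩
  -- the charts are irreducible and nonempty
  have hirrU : ∀ i : ι, IrreducibleSpace ((p ⁻¹ᵁ i.1.1 : P.Opens) : Scheme.{u}) := by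
    intro i
    have : IsDomain (𝒮.presheaf.obj (op i.1.1)) := (hint i.1.1 i.1.2 i.2).1
    have := irreducibleSpace_proj (𝒮.deg i.1.1 i.1.2) (hint i.1.1 i.1.2 i.2).2
    exact Function.Surjective.irreducibleSpace (f := (chart i.1.1 i.1.2).inv)
      (chart i.1.1 i.1.2).inv.continuous (chart i.1.1 i.1.2).inv.surjective
  have hirrS : ∀ i : ι, IsIrreducible ((p ⁻¹ᵁ i.1.1 : P.Opens) : Set P) := by
    intro i
    have := hirrU i
    have := (IrreducibleSpace.isIrreducible_univ ((p ⁻¹ᵁ i.1.1 : P.Opens) : Scheme.{u})).image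
      (p ⁻¹ᵁ i.1.1).ι (p ⁻¹ᵁ i.1.1).ι.continuous.continuousOn
    rwa [Set.image_univ, Scheme.Opens.range_ι] at this
  have : Nonempty Y := inferInstance
  have : Nonempty ι := by
    obtain ⟨y⟩ := ‹Nonempty Y›
    obtain ⟨i, -⟩ := hsub ⊤ ⟨y, trivial⟩
    exact ⟨i⟩
  have hcovP : ∀ x : P, ∃ i : ι, x ∈ ((p ⁻¹ᵁ i.1.1 : P.Opens) : Set P) := by
    intro x
    have hx : p x ∈ (⊤ : Y.Opens) := trivial
    rw [← iSup_affineOpens_eq_top Y] at hx
    obtain ⟨U, hxU⟩ := Opens.mem_iSup.1 hx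
    exact ⟨⟨U, ⟨p x, hxU⟩⟩, hxU⟩
  have hdir : ∀ i j : ι, ∃ k : ι, ((p ⁻¹ᵁ k.1.1 : P.Opens) : Set P) ⊆
      ((p ⁻¹ᵁ i.1.1 : P.Opens) : Set P) ∩ ((p ⁻¹ᵁ j.1.1 : P.Opens) : Set P) := by
    intro i j
    have hne : ((i.1.1 ⊓ j.1.1 : Y.Opens) : Set Y).Nonempty :=
      nonempty_preirreducible_inter i.1.1.2 j.1.1.2 i.2 j.2
    obtain ⟨k, hk⟩ := hsub _ hne
    exact ⟨k, fun x hx => ⟨(hk hx).1, (hk hx).2⟩⟩
  have : IrreducibleSpace P :=
    irreducibleSpace_of_cover (fun i : ι => ((p ⁻¹ᵁ i.1.1 : P.Opens) : Set P))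
      (fun i => (p ⁻¹ᵁ i.1.1).2) hirrS hcovP hdir
  -- reducedness
  have : IsReduced P := by
    have hcov : IsOpenCover (fun i : ι => p ⁻¹ᵁ i.1.1) := by
      rw [IsOpenCover, eq_top_iff]
      intro x _
      obtain ⟨i, hi⟩ := hcovP x
      exact Opens.mem_iSup.2 ⟨i, hi⟩
    let 𝒰 := P.openCoverOfIsOpenCover _ hcov
    have : ∀ i, IsReduced (𝒰.X i) := by
      intro (i : ι)
      have : IsDomain (𝒮.presheaf.obj (op i.1.1)) := (hint i.1.1 i.1.2 i.2).1
      have h1 : IsReduced (Proj (𝒮.deg i.1.1 i.1.2)) :=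
        Groth.Agent.S8266.projRed _ (fun x _ hx => hx.eq_zero)
      exact isReduced_of_isOpenImmersion (chart i.1.1 i.1.2).hom
    exact IsReduced.of_openCover _ 𝒰
  refine ⟨isIntegral_of_irreducibleSpace_of_isReduced _, ?_⟩
  -- dominance
  rw [DenseRange, dense_iff_inter_open]
  intro W hW hWne
  obtain ⟨k, hk⟩ := hsub ⟨W, hW⟩ hWne
  have := hirrU k
  obtain ⟨z⟩ : Nonempty ((p ⁻¹ᵁ k.1.1 : P.Opens) : Scheme.{u}) := inferInstance
  exact ⟨p z.1, hk z.2, z.1, rfl⟩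


/-- Let Y be an integral scheme and 𝒮 a quasi-coherent positively graded O_Y-algebra with 𝒮_0 = O_Y
which is integral, stated here affine-locally: over every nonempty affine open U the ring 𝒮(U) is an
integral domain whose irrelevant ideal is nonzero (for Y integral this is equivalent to the
stalkwise condition of the published text: every stalk 𝒮_y an integral domain with (𝒮_y)_+ ≠ 0).
Then Proj(𝒮) is integral and its structure morphism to Y is dominant. -/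
theorem result {Y P : Scheme.{u}} [IsIntegral Y] (𝒮 : RelProj.QCGrAlg Y)
    (h0 : ∀ (U : Y.Opens) (hU : IsAffineOpen U), Function.Bijective (𝒮.strZero U hU).hom)
    (hint : ∀ (U : Y.Opens) (hU : IsAffineOpen U), (U : Set Y).Nonempty →
      IsDomain (𝒮.presheaf.obj (op U)) ∧ ((𝒮.deg U hU)₊).toIdeal ≠ ⊥)
    (p : P ⟶ Y)
    (chart : ∀ (U : Y.Opens) (hU : IsAffineOpen U), (((p ⁻¹ᵁ U : P.Opens) : Scheme.{u}) ≅ Proj (𝒮.deg U hU)))
    (hP : RelProj.IsRelProj 𝒮 p chart) : IsIntegral P ∧ DenseRange p.base := by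
  exact main 𝒮 hint p chart

end Groth.Agent.S8264
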