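import Groth.Statements.S8265
import Groth.Agent.Lib.Helper28.RelProj
import Mathlib

set_option autoImplicit false
universe u
open CategoryTheory CategoryTheory.Limits AlgebraicGeometry Opposite TopologicalSpace
open scoped HomogeneousIdeal
open EGA2

namespace Groth.Agent.S8265

section Alg
variable {A : Type u} [CommRing A] (𝒜 : ℕ → AddSubgroup A) [GradedRing 𝒜]

/-- an element of the irrelevant ideal whose basic open is empty is nilpotent -/
theorem isNilpotent_of_basicOpen_eq_bot {a : A} (ha : a ∈ 𝒜₊)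
    (h : ProjectiveSpectrum.basicOpen 𝒜 a = ⊥) : IsNilpotent a := by
  rw [← mem_nilradical, nilradical, Ideal.zero_eq_bot, (Ideal.IsHomogeneous.bot 𝒜).radical_eq]
  rw [Ideal.mem_sInf]
  rintro J ⟨hJh, -, hJp⟩
  by_cases hirr : 𝒜₊.toIdeal ≤ J
  · exact hirr ha
  · let x : ProjectiveSpectrum 𝒜 := ⟨⟨J, hJh⟩, hJp, hirr⟩
    by_contra hxa
    have : x ∈ ProjectiveSpectrum.basicOpen 𝒜 a := hxa
    rw [h] at this
    exact this

/-- `a/1 = 0` in `A_(b)` when `a b = 0` -/
theorem fromZero_eq_zero {a : A} (ha : a ∈ 𝒜 0) {b : A} (hab : a * b = 0) :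
    HomogeneousLocalization.fromZeroRingHom 𝒜 (Submonoid.powers b) ⟨a, ha⟩ = 0 := by
  rw [HomogeneousLocalization.ext_iff_val, HomogeneousLocalization.val_zero]
  change Localization.mk a 1 = 0
  rw [Localization.mk_eq_mk', IsLocalization.mk'_eq_zero_iff]
  exact ⟨⟨b, Submonoid.mem_powers b⟩, by rw [mul_comm]; exact hab⟩

theorem domain_of_proj (hred : ∀ x : A, x ∈ 𝒜₊ → IsNilpotent x → x = 0)
    [IrreducibleSpace (ProjectiveSpectrum 𝒜)]
    (H3 : ∀ a ∈ 𝒜 0, ∀ n > 0, ∀ b ∈ 𝒜 n, a * b = 0 → b ≠ 0 → a = 0)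
    (H4 : ∀ a ∈ 𝒜 0, ∀ b ∈ 𝒜 0, a * b = 0 → a = 0 ∨ b = 0) :
    IsDomain A ∧ 𝒜₊.toIdeal ≠ ⊥ := by
  obtain ⟨x⟩ : Nonempty (ProjectiveSpectrum 𝒜) := inferInstance
  have hne : 𝒜₊.toIdeal ≠ ⊥ := fun h => x.not_irrelevant_le (by
    change 𝒜₊.toIdeal ≤ x.asHomogeneousIdeal.toIdeal
    rw [h]; exact bot_le)
  refine ⟨?_, hne⟩
  have hbot : (⊥ : Ideal A).IsPrime := by
    refine (Ideal.IsHomogeneous.bot 𝒜).isPrime_of_homogeneous_mem_or_mem ?_ ?_
    · intro h
      exact x.isPrime.ne_top (top_le_iff.1 (h ▸ bot_le))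
    · rintro a b ⟨m, ha⟩ ⟨n, hb⟩ hab
      rw [Ideal.mem_bot] at hab ⊢
      rw [Ideal.mem_bot]
      rcases Nat.eq_zero_or_pos m with rfl | hm
      · rcases Nat.eq_zero_or_pos n with rfl | hn
        · exact H4 a ha b hb hab
        · by_contra hcon
          push Not at hcon
          exact hcon.1 (H3 a ha n hn b hb hab hcon.2)
      · rcases Nat.eq_zero_or_pos n with rfl | hn
        · by_contra hcon
          push Not at hcon
          exact hcon.2 (H3 b hb m hm a ha (by rw [mul_comm]; exact hab) hcon.1)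
        · -- both positive
          have ha' : a ∈ 𝒜₊ := HomogeneousIdeal.mem_irrelevant_of_mem _ hm ha
          have hb' : b ∈ 𝒜₊ := HomogeneousIdeal.mem_irrelevant_of_mem _ hn hb
          have hinter : ProjectiveSpectrum.basicOpen 𝒜 a ⊓ ProjectiveSpectrum.basicOpen 𝒜 b = ⊥ := by
            rw [← ProjectiveSpectrum.basicOpen_mul, hab, ProjectiveSpectrum.basicOpen_zero]
          by_contra hcon
          push Not at hcon
          have hane : ((ProjectiveSpectrum.basicOpen 𝒜 a : Opens _) : Set (ProjectiveSpectrum 𝒜)).Nonempty := by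
            by_contra hemp
            rw [Set.not_nonempty_iff_eq_empty] at hemp
            have : ProjectiveSpectrum.basicOpen 𝒜 a = ⊥ := Opens.ext hemp
            exact hcon.1 (hred a ha' (isNilpotent_of_basicOpen_eq_bot 𝒜 ha' this))
          have hbne : ((ProjectiveSpectrum.basicOpen 𝒜 b : Opens _) : Set (ProjectiveSpectrum 𝒜)).Nonempty := by
            by_contra hemp
            rw [Set.not_nonempty_iff_eq_empty] at hemp
            have : ProjectiveSpectrum.basicOpen 𝒜 b = ⊥ := Opens.ext hemp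
            exact hcon.2 (hred b hb' (isNilpotent_of_basicOpen_eq_bot 𝒜 hb' this))
          obtain ⟨z, hz⟩ := nonempty_preirreducible_inter (ProjectiveSpectrum.basicOpen 𝒜 a).2
            (ProjectiveSpectrum.basicOpen 𝒜 b).2 hane hbne
          have : z ∈ ProjectiveSpectrum.basicOpen 𝒜 a ⊓ ProjectiveSpectrum.basicOpen 𝒜 b := hz
          rw [hinter] at this
          exact this
  exact IsDomain.of_bot_isPrime A


end Alg

theorem denseRange_of_comp {X Y Z : Type*} [TopologicalSpace X] [TopologicalSpace Y] [TopologicalSpace Z]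
    (e : X → Y) (f : Y → Z) (hf : Topology.IsInducing f) (h : DenseRange (f ∘ e)) : DenseRange e := by
  intro y
  rw [hf.closure_eq_preimage_closure_image, ← Set.range_comp]
  exact h (f y)

set_option backward.isDefEq.respectTransparency false in
/-- the mixed-degree case, from dominance -/
theorem mixed {Y P : Scheme.{u}} [IsIntegral Y] (𝒮 : RelProj.QCGrAlg Y)
    (h0 : ∀ (U : Y.Opens) (hU : IsAffineOpen U), Function.Bijective (𝒮.strZero U hU).hom)
    (hred : ∀ (U : Y.Opens) (hU : IsAffineOpen U) (x : 𝒮.presheaf.obj (op U)),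
      x ∈ (𝒮.deg U hU)₊ → IsNilpotent x → x = 0)
    (p : P ⟶ Y)
    (chart : ∀ (U : Y.Opens) (hU : IsAffineOpen U), (((p ⁻¹ᵁ U : P.Opens) : Scheme.{u}) ≅ Proj (𝒮.deg U hU)))
    (hP : RelProj.IsRelProj 𝒮 p chart) [IsIntegral P] (hdom : DenseRange p.base)
    (U : Y.Opens) (hU : IsAffineOpen U) (hne : (U : Set Y).Nonempty)
    (a : 𝒮.presheaf.obj (op U)) (ha : a ∈ 𝒮.deg U hU 0) (n : ℕ) (hn : 0 < n)
    (b : 𝒮.presheaf.obj (op U)) (hb : b ∈ 𝒮.deg U hU n) (hab : a * b = 0) (hb0 : b ≠ 0) : a = 0 := by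
  have : Nonempty U := hne.to_subtype
  -- `b` is not nilpotent, so `D₊(b)` is nonempty
  have hb' : b ∈ (𝒮.deg U hU)₊ := HomogeneousIdeal.mem_irrelevant_of_mem _ hn hb
  have hbo : Proj.basicOpen (𝒮.deg U hU) b ≠ ⊥ := fun h =>
    hb0 (hred U hU b hb' (isNilpotent_of_basicOpen_eq_bot _ hb' h))
  have hnonempty : Nonempty (Spec (.of <| HomogeneousLocalization.Away (𝒮.deg U hU) b)) := by
    by_contra hemp
    rw [not_nonempty_iff] at hemp
    apply hbo
    rw [← Proj.opensRange_awayι (𝒮.deg U hU) b hb hn]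
    ext x
    simp only [Scheme.Hom.coe_opensRange, Set.mem_range, IsEmpty.exists_iff, Opens.coe_bot,
      Set.mem_empty_iff_false]
  -- the morphism `g`
  let g : Spec (.of <| HomogeneousLocalization.Away (𝒮.deg U hU) b) ⟶ P :=
    Proj.awayι (𝒮.deg U hU) b hb hn ≫ (chart U hU).inv ≫ (p ⁻¹ᵁ U).ι
  have hgd : DenseRange g.base :=
    (g.isOpenEmbedding.isOpen_range.dense (Set.range_nonempty _))
  let φ : Γ(Y, U) ⟶ .of (HomogeneousLocalization.Away (𝒮.deg U hU) b) :=
    𝒮.strZero U hU ≫ CommRingCat.ofHom (HomogeneousLocalization.fromZeroRingHom (𝒮.deg U hU) _)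
  have hcomp : g ≫ p = Spec.map φ ≫ hU.fromSpec := by
    simp only [g, φ, Category.assoc]
    rw [Groth.Agent.Lib.Helper28.RelProj.ι_comp 𝒮 p chart hP U hU, Iso.inv_hom_id_assoc,
      Proj.awayι_toSpecZero_assoc, Spec.map_comp, Category.assoc]
  have hd1 : DenseRange (g ≫ p).base := by
    have := hdom.comp hgd p.continuous
    exact this
  rw [hcomp] at hd1
  have hd2 : DenseRange (Spec.map φ).base :=
    denseRange_of_comp _ _ hU.fromSpec.isOpenEmbedding.isInducing hd1
  have hker : RingHom.ker φ.hom ≤ nilradical Γ(Y, U) :=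
    (PrimeSpectrum.denseRange_comap_iff_ker_le_nilRadical φ.hom).1 hd2
  obtain ⟨r, hr⟩ := (h0 U hU).2 ⟨a, ha⟩
  have hrker : r ∈ RingHom.ker φ.hom := by
    rw [RingHom.mem_ker]
    change HomogeneousLocalization.fromZeroRingHom (𝒮.deg U hU) _ ((𝒮.strZero U hU).hom r) = 0
    rw [hr]
    exact fromZero_eq_zero _ ha hab
  have hr0 : r = 0 := by
    have := hker hrker
    rw [mem_nilradical] at this
    exact this.eq_zero
  have := congrArg Subtype.val hr
  rw [hr0, map_zero] at this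
  exact this.symm

set_option backward.isDefEq.respectTransparency false in
theorem main {Y P : Scheme.{u}} [IsIntegral Y] (𝒮 : RelProj.QCGrAlg Y)
    (h0 : ∀ (U : Y.Opens) (hU : IsAffineOpen U), Function.Bijective (𝒮.strZero U hU).hom)
    (hred : ∀ (U : Y.Opens) (hU : IsAffineOpen U) (x : 𝒮.presheaf.obj (op U)),
      x ∈ (𝒮.deg U hU)₊ → IsNilpotent x → x = 0)
    (p : P ⟶ Y)
    (chart : ∀ (U : Y.Opens) (hU : IsAffineOpen U), (((p ⁻¹ᵁ U : P.Opens) : Scheme.{u}) ≅ Proj (𝒮.deg U hU)))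
    (hP : RelProj.IsRelProj 𝒮 p chart) [IsIntegral P] (hdom : DenseRange p.base)
    (U : Y.Opens) (hU : IsAffineOpen U) (hne : (U : Set Y).Nonempty) :
    IsDomain (𝒮.presheaf.obj (op U)) ∧ ((𝒮.deg U hU)₊).toIdeal ≠ ⊥ := by
  have : Nonempty U := hne.to_subtype
  -- `p⁻¹U` is nonempty and integral
  obtain ⟨z, hz⟩ := hdom.exists_mem_open U.2 hne
  have : Nonempty ((p ⁻¹ᵁ U : P.Opens) : Scheme.{u}) := ⟨⟨z, hz⟩⟩
  have : IsIntegral ((p ⁻¹ᵁ U : P.Opens) : Scheme.{u}) := isIntegral_of_isOpenImmersion (p ⁻¹ᵁ U).ι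
  have hirr : IrreducibleSpace (ProjectiveSpectrum (𝒮.deg U hU)) :=
    Function.Surjective.irreducibleSpace (f := (chart U hU).hom)
      (chart U hU).hom.continuous (chart U hU).hom.surjective
  refine domain_of_proj (𝒮.deg U hU) (hred U hU)
    (fun a ha n hn b hb hab hb0 => mixed 𝒮 h0 hred p chart hP hdom U hU hne a ha n hn b hb hab hb0) ?_
  intro a ha b hb hab
  obtain ⟨r, hr⟩ := (h0 U hU).2 ⟨a, ha⟩
  obtain ⟨s, hs⟩ := (h0 U hU).2 ⟨b, hb⟩
  have hrs : (𝒮.strZero U hU).hom (r * s) = 0 := by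
    rw [map_mul, hr, hs]
    exact Subtype.ext hab
  have : r * s = 0 := (h0 U hU).1 (hrs.trans (map_zero _).symm)
  rcases mul_eq_zero.1 this with h | h
  · left
    have := congrArg Subtype.val hr
    rw [h, map_zero] at this
    exact this.symm
  · right
    have := congrArg Subtype.val hs
    rw [h, map_zero] at this
    exact this.symm


/-- Let Y be an integral scheme and 𝒮 a quasi-coherent positively graded O_Y-algebra with 𝒮_0 = O_Y
which is essentially reduced (affine-locally, every nilpotent element of the irrelevant ideal of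
𝒮(U) vanishes). If Proj(𝒮) is integral and dominant over Y, then 𝒮 is integral: over every nonempty
affine open U, 𝒮(U) is an integral domain with nonzero irrelevant ideal (for Y integral, the
affine-local form of the stalkwise condition of the text). -/
theorem result {Y P : Scheme.{u}} [IsIntegral Y] (𝒮 : RelProj.QCGrAlg Y)
    (h0 : ∀ (U : Y.Opens) (hU : IsAffineOpen U), Function.Bijective (𝒮.strZero U hU).hom)
    (hred : ∀ (U : Y.Opens) (hU : IsAffineOpen U) (x : 𝒮.presheaf.obj (op U)),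
      x ∈ (𝒮.deg U hU)₊ → IsNilpotent x → x = 0)
    (p : P ⟶ Y)
    (chart : ∀ (U : Y.Opens) (hU : IsAffineOpen U), (((p ⁻¹ᵁ U : P.Opens) : Scheme.{u}) ≅ Proj (𝒮.deg U hU)))
    (hP : RelProj.IsRelProj 𝒮 p chart) [IsIntegral P] (hdom : DenseRange p.base)
    (U : Y.Opens) (hU : IsAffineOpen U) (hne : (U : Set Y).Nonempty) :
    IsDomain (𝒮.presheaf.obj (op U)) ∧ ((𝒮.deg U hU)₊).toIdeal ≠ ⊥ := by
  exact main 𝒮 h0 hred p chart hP hdom U hU hne

end Groth.Agent.S8265
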