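import Groth.Statements.S8272
import Mathlib

set_option autoImplicit false
universe u
open CategoryTheory CategoryTheory.Limits AlgebraicGeometry Opposite TopologicalSpace
open EGA2

namespace Groth.Agent.S8272

open CategoryTheory AlgebraicGeometry HomogeneousLocalization TopologicalSpace

variable {A : Type u} [CommRing A] {σ : Type u} [SetLike σ A] [AddSubgroupClass σ A]
  (𝒜 : ℕ → σ) [GradedRing 𝒜]

/-- `A_(f) → A_(fg)` is injective when `g` is a non-zero-divisor -/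
theorem awayMap_injective {m d : ℕ} {f g : A} (hf : f ∈ 𝒜 m) (hg : g ∈ 𝒜 d)
    (hnz : g ∈ nonZeroDivisors A) {x : A} (hx : x = f * g) :
    Function.Injective (awayMap 𝒜 hg hx) := by
  rw [injective_iff_map_eq_zero]
  intro z hz
  obtain ⟨n, a, ha, rfl⟩ := Away.mk_surjective 𝒜 hf z
  rw [awayMap_mk, HomogeneousLocalization.ext_iff_val, val_zero, Away.val_mk,
    Localization.mk_eq_mk', IsLocalization.mk'_eq_zero_iff] at hz
  obtain ⟨⟨_, k, rfl⟩, hk⟩ := hz
  rw [HomogeneousLocalization.ext_iff_val, val_zero, Away.val_mk,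
    Localization.mk_eq_mk', IsLocalization.mk'_eq_zero_iff]
  refine ⟨⟨_, k, rfl⟩, ?_⟩
  change x ^ k * (a * g ^ n) = 0 at hk
  change f ^ k * a = 0
  have h1 : f ^ k * a * g ^ (k + n) = 0 := by
    rw [← hk, hx]; ring
  exact (nonZeroDivisors A).pow_mem hnz (k + n) |>.2 _ h1 |> fun h => h

set_option backward.isDefEq.respectTransparency false in
/-- restriction `Γ(D₊(f)) → Γ(D₊(fg))` is injective when `g` is a non-zero-divisor -/
theorem res_injective {m d : ℕ} (hm : 0 < m) (hd : 0 < d) {f g : A} (hf : f ∈ 𝒜 m) (hg : g ∈ 𝒜 d)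
    (hnz : g ∈ nonZeroDivisors A) {x : A} (hx : x = f * g) :
    Function.Injective ((Proj 𝒜).presheaf.map
      (homOfLE (Proj.basicOpen_mono _ _ _ ⟨_, hx⟩ : Proj.basicOpen 𝒜 x ≤ Proj.basicOpen 𝒜 f)).op).hom := by
  have h1 := Proj.awayMap_awayToSection 𝒜 (f := f) hg hx
  have hx' : x ∈ 𝒜 (m + d) := hx ▸ SetLike.mul_mem_graded hf hg
  have hisof : IsIso (Proj.awayToSection 𝒜 f) := (Proj.basicOpenIsoAway 𝒜 f hf hm).isIso_hom
  have hisox : IsIso (Proj.awayToSection 𝒜 x) :=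
    (Proj.basicOpenIsoAway 𝒜 x hx' (by omega)).isIso_hom
  have h2 : (Proj 𝒜).presheaf.map
      (homOfLE (Proj.basicOpen_mono _ _ _ ⟨_, hx⟩ : Proj.basicOpen 𝒜 x ≤ Proj.basicOpen 𝒜 f)).op =
      inv (Proj.awayToSection 𝒜 f) ≫ CommRingCat.ofHom (awayMap 𝒜 hg hx) ≫ Proj.awayToSection 𝒜 x := by
    rw [h1, IsIso.inv_hom_id_assoc]
  rw [h2]
  simp only [CommRingCat.hom_comp, RingHom.coe_comp]
  refine Function.Injective.comp (Function.Injective.comp ?_ (awayMap_injective 𝒜 hf hg hnz hx)) ?_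
  · exact (ConcreteCategory.bijective_of_isIso (Proj.awayToSection 𝒜 x)).1
  · exact (ConcreteCategory.bijective_of_isIso (inv (Proj.awayToSection 𝒜 f))).1

set_option backward.isDefEq.respectTransparency false in
theorem main {d : ℕ} (hd : 0 < d) (g : A) (hg : g ∈ 𝒜 d) (hnz : g ∈ nonZeroDivisors A) :
    (Proj.basicOpen 𝒜 g).ι.ker = ⊥ := by
  rw [← le_bot_iff]
  let U : (Σ i : ℕ+, 𝒜 i) → (Proj 𝒜).affineOpens := fun s =>
    ⟨Proj.basicOpen 𝒜 s.2.1, Proj.isAffineOpen_basicOpen 𝒜 s.2.1 s.2.2 s.1.2⟩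
  have hU : ⨆ s, (U s).1 = ⊤ := by
    rw [eq_top_iff]
    intro x _
    obtain ⟨z, hz⟩ := (Proj.affineOpenCover 𝒜).covers x
    have hx : x ∈ (Proj.awayι 𝒜 ((Proj.affineOpenCover 𝒜).idx x).2.1
        ((Proj.affineOpenCover 𝒜).idx x).2.2 ((Proj.affineOpenCover 𝒜).idx x).1.2).opensRange :=
      ⟨z, hz⟩
    rw [Proj.opensRange_awayι] at hx
    exact Opens.mem_iSup.2 ⟨(Proj.affineOpenCover 𝒜).idx x, hx⟩
  refine Scheme.IdealSheafData.le_of_iSup_eq_top U hU fun s => ?_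
  refine ((Proj.basicOpen 𝒜 g).ι.ideal_ker_le (U s)).trans ?_
  rw [Scheme.IdealSheafData.ideal_bot, Pi.bot_apply, le_bot_iff, ← RingHom.injective_iff_ker_eq_bot]
  -- injectivity of restriction to `D₊(f) ∩ D₊(g)`
  have hle : Proj.basicOpen 𝒜 (s.2.1 * g) ≤
      (Proj.basicOpen 𝒜 g).ι ''ᵁ (Proj.basicOpen 𝒜 g).ι ⁻¹ᵁ (U s).1 := by
    rw [Scheme.Hom.image_preimage_eq_opensRange_inf, Scheme.Opens.opensRange_ι, Proj.basicOpen_mul]
    exact le_of_eq (inf_comm _ _)
  have hinj := res_injective 𝒜 s.1.2 hd s.2.2 hg hnz (x := s.2.1 * g) rfl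
  intro a b hab
  apply hinj
  rw [Scheme.Opens.ι_app] at hab
  have := congrArg ((Proj 𝒜).presheaf.map (homOfLE hle).op).hom hab
  change ((Proj 𝒜).presheaf.map _ ≫ (Proj 𝒜).presheaf.map (homOfLE hle).op).hom a =
    ((Proj 𝒜).presheaf.map _ ≫ (Proj 𝒜).presheaf.map (homOfLE hle).op).hom b at this
  rw [← Functor.map_comp] at this
  exact this


/-- Let T be a positively graded ring, Z = Proj T and g ∈ T_d (d > 0) a homogeneous element that is not
a zero divisor in T. Then Z is the smallest closed subscheme of Z containing the open D_+(g);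
equivalently the kernel (ideal sheaf) of the open immersion D_+(g) → Z vanishes. -/
theorem result {R A : Type u} [CommRing R] [CommRing A] [Algebra R A]
    (𝒜 : ℕ → Submodule R A) [GradedAlgebra 𝒜] {d : ℕ} (hd : 0 < d) (g : A) (hg : g ∈ 𝒜 d)
    (hnz : g ∈ nonZeroDivisors A) :
    (Proj.basicOpen 𝒜 g).ι.ker = ⊥ := by
  exact main 𝒜 hd g hg hnz

end Groth.Agent.S8272
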