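import Groth.Statements.S8273
import Groth.Agent.Lib.Helper28.RelProjGlue

set_option autoImplicit false
universe u
open CategoryTheory CategoryTheory.Limits AlgebraicGeometry Opposite TopologicalSpace
open scoped HomogeneousIdeal
open EGA2

namespace Groth.Agent.S8273

open Groth.Agent.Lib.Helper28

theorem isGradedHom_id {Y : Scheme.{u}} (𝒮 : RelProj.QCGrAlg Y) :
    RelProj.IsGradedHom (𝟙 𝒮.toQCAlg) := fun _ _ _ _ hx => hx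

theorem gradedHomAt_id {Y : Scheme.{u}} (𝒮 : RelProj.QCGrAlg Y) (U : Y.Opens) (hU : IsAffineOpen U) :
    RelProj.gradedHomAt (𝟙 𝒮.toQCAlg) (isGradedHom_id 𝒮) U hU = GradedRingHom.id (𝒮.deg U hU) := by
  ext x
  rfl

theorem hirr_id {Y : Scheme.{u}} (𝒮 : RelProj.QCGrAlg Y) (U : Y.Opens) (hU : IsAffineOpen U) :
    (𝒮.deg U hU)₊ ≤ ((𝒮.deg U hU)₊).map (RelProj.gradedHomAt (𝟙 𝒮.toQCAlg) (isGradedHom_id 𝒮) U hU) := by
  rw [gradedHomAt_id]; simp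

theorem projMap_eq_id {A : Type*} [CommRing A] (𝒜 : ℕ → AddSubgroup A) [GradedRing 𝒜]
    (f : 𝒜 →+*ᵍ 𝒜) (hf : 𝒜₊ ≤ (𝒜₊).map f) (e : f = GradedRingHom.id 𝒜) : Proj.map f hf = 𝟙 _ := by
  subst e
  exact Proj.map_id

theorem projMap_id {Y : Scheme.{u}} (𝒮 : RelProj.QCGrAlg Y) (U : Y.Opens) (hU : IsAffineOpen U) :
    Proj.map (RelProj.gradedHomAt (𝟙 𝒮.toQCAlg) (isGradedHom_id 𝒮) U hU) (hirr_id 𝒮 U hU) = 𝟙 _ :=
  projMap_eq_id _ _ _ (gradedHomAt_id 𝒮 U hU)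

theorem cond_iff {Y P P' : Scheme.{u}} (𝒮 : RelProj.QCGrAlg Y) (p : P ⟶ Y)
    (chart : ∀ (U : Y.Opens) (hU : IsAffineOpen U), (((p ⁻¹ᵁ U : P.Opens) : Scheme.{u}) ≅ Proj (𝒮.deg U hU)))
    (p' : P' ⟶ Y)
    (chart' : ∀ (U : Y.Opens) (hU : IsAffineOpen U), (((p' ⁻¹ᵁ U : P'.Opens) : Scheme.{u}) ≅ Proj (𝒮.deg U hU)))
    (e : P ⟶ P') :
    (∀ (U : Y.Opens) (hU : IsAffineOpen U),
        (p ⁻¹ᵁ U).ι ≫ e = (chart U hU).hom ≫ (chart' U hU).inv ≫ (p' ⁻¹ᵁ U).ι) ↔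
    RelProj.IsRelProjMap (𝟙 𝒮.toQCAlg) (isGradedHom_id 𝒮) (hirr_id 𝒮) chart' chart e := by
  unfold RelProj.IsRelProjMap
  refine forall_congr' fun U => forall_congr' fun hU => ?_
  rw [projMap_id, Category.id_comp]

set_option backward.isDefEq.respectTransparency false in
theorem main {Y P P' : Scheme.{u}} (𝒮 : RelProj.QCGrAlg Y) (p : P ⟶ Y)
    (chart : ∀ (U : Y.Opens) (hU : IsAffineOpen U), (((p ⁻¹ᵁ U : P.Opens) : Scheme.{u}) ≅ Proj (𝒮.deg U hU)))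
    (hP : RelProj.IsRelProj 𝒮 p chart) (p' : P' ⟶ Y)
    (chart' : ∀ (U : Y.Opens) (hU : IsAffineOpen U), (((p' ⁻¹ᵁ U : P'.Opens) : Scheme.{u}) ≅ Proj (𝒮.deg U hU)))
    (hP' : RelProj.IsRelProj 𝒮 p' chart') :
    (∃! e : P ⟶ P', ∀ (U : Y.Opens) (hU : IsAffineOpen U),
        (p ⁻¹ᵁ U).ι ≫ e = (chart U hU).hom ≫ (chart' U hU).inv ≫ (p' ⁻¹ᵁ U).ι) ∧
      ∀ e : P ⟶ P', (∀ (U : Y.Opens) (hU : IsAffineOpen U),
        (p ⁻¹ᵁ U).ι ≫ e = (chart U hU).hom ≫ (chart' U hU).inv ≫ (p' ⁻¹ᵁ U).ι) → IsIso e ∧ e ≫ p' = p := by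
  simp only [cond_iff]
  refine ⟨?_, fun e he => ⟨?_, RelProj.comp_eq _ _ _ chart' chart hP' hP e he⟩⟩
  · obtain ⟨h, hh⟩ := RelProjGlue.exists_isRelProjMap (𝟙 𝒮.toQCAlg) (isGradedHom_id 𝒮) (hirr_id 𝒮)
      chart' chart hP' hP
    exact ⟨h, hh, fun h' hh' => RelProjGlue.isRelProjMap_unique _ _ _ chart' chart h' h hh' hh⟩
  · exact RelProj.of_chartwise _ _ _ chart' chart hP' hP e he (MorphismProperty.isomorphisms Scheme)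
      (fun U hU => by rw [projMap_id]; exact inferInstanceAs (IsIso (𝟙 _)))


/-- Uniqueness of the relative homogeneous spectrum: two schemes over Y equipped with the chart data of
Proj(𝒮) are related by a unique morphism compatible with the charts (chartwise the identity of Proj
𝒮(U)), and that morphism is a Y-isomorphism. -/
theorem result {Y P P' : Scheme.{u}} (𝒮 : RelProj.QCGrAlg Y) (p : P ⟶ Y)
    (chart : ∀ (U : Y.Opens) (hU : IsAffineOpen U), (((p ⁻¹ᵁ U : P.Opens) : Scheme.{u}) ≅ Proj (𝒮.deg U hU)))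
    (hP : RelProj.IsRelProj 𝒮 p chart) (p' : P' ⟶ Y)
    (chart' : ∀ (U : Y.Opens) (hU : IsAffineOpen U), (((p' ⁻¹ᵁ U : P'.Opens) : Scheme.{u}) ≅ Proj (𝒮.deg U hU)))
    (hP' : RelProj.IsRelProj 𝒮 p' chart') :
    (∃! e : P ⟶ P', ∀ (U : Y.Opens) (hU : IsAffineOpen U),
        (p ⁻¹ᵁ U).ι ≫ e = (chart U hU).hom ≫ (chart' U hU).inv ≫ (p' ⁻¹ᵁ U).ι) ∧
      ∀ e : P ⟶ P', (∀ (U : Y.Opens) (hU : IsAffineOpen U),
        (p ⁻¹ᵁ U).ι ≫ e = (chart U hU).hom ≫ (chart' U hU).inv ≫ (p' ⁻¹ᵁ U).ι) → IsIso e ∧ e ≫ p' = p := by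
  exact main 𝒮 p chart hP p' chart' hP'

end Groth.Agent.S8273
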