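import Groth.Statements.S8274
import Groth.Agent.Lib.Helper28.RelProj
import Mathlib

set_option autoImplicit false
universe u
open CategoryTheory CategoryTheory.Limits AlgebraicGeometry Opposite TopologicalSpace
open scoped HomogeneousIdeal
open EGA2

namespace Groth.Agent.S8274

section
variable {Y P : Scheme.{u}} (𝒮 : RelProj.QCGrAlg Y) (p : P ⟶ Y)
    (chart : ∀ (U : Y.Opens) (hU : IsAffineOpen U), (((p ⁻¹ᵁ U : P.Opens) : Scheme.{u}) ≅ Proj (𝒮.deg U hU)))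
    (hP : RelProj.IsRelProj 𝒮 p chart) (f : 𝒮.presheaf.obj (op ⊤))

/-- the local pieces of `X_f` -/
noncomputable def W (U : Y.Opens) (hU : IsAffineOpen U) : P.Opens :=
  (p ⁻¹ᵁ U).ι ''ᵁ ((chart U hU).hom ⁻¹ᵁ
    Proj.basicOpen (𝒮.deg U hU) ((𝒮.presheaf.map (homOfLE le_top).op).hom f))

theorem W_le (U : Y.Opens) (hU : IsAffineOpen U) : W 𝒮 p chart f U hU ≤ p ⁻¹ᵁ U := by
  rintro _ ⟨x, -, rfl⟩
  exact x.2

theorem mem_W_iff (U : Y.Opens) (hU : IsAffineOpen U) (x : P) (hx : x ∈ p ⁻¹ᵁ U) :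
    x ∈ W 𝒮 p chart f U hU ↔ (chart U hU).hom ⟨x, hx⟩ ∈
      Proj.basicOpen (𝒮.deg U hU) ((𝒮.presheaf.map (homOfLE le_top).op).hom f) := by
  constructor
  · rintro ⟨x', hx', rfl⟩
    exact hx'
  · intro h
    exact ⟨⟨x, hx⟩, h, rfl⟩

include hP in
set_option backward.isDefEq.respectTransparency false in
theorem mem_W_basicOpen (U : Y.Opens) (hU : IsAffineOpen U) (r : Γ(Y, U)) (x : P)
    (hx : x ∈ p ⁻¹ᵁ (Y.basicOpen r)) :
    x ∈ W 𝒮 p chart f U hU ↔ x ∈ W 𝒮 p chart f (Y.basicOpen r) (hU.basicOpen r) := by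
  have hxU : x ∈ p ⁻¹ᵁ U := p.preimage_mono (Y.basicOpen_le r) hx
  rw [mem_W_iff 𝒮 p chart f U hU x hxU, mem_W_iff 𝒮 p chart f _ (hU.basicOpen r) x hx]
  have h1 : (chart U hU).hom ⟨x, hxU⟩ =
      (P.homOfLE (p.preimage_mono (Y.basicOpen_le r)) ≫ (chart U hU).hom) ⟨x, hx⟩ := by
    rw [Scheme.Hom.comp_apply, Scheme.homOfLE_apply']
  rw [h1, hP.chart_res U hU r, Scheme.Hom.comp_apply]
  change (chart _ (hU.basicOpen r)).hom ⟨x, hx⟩ ∈ Proj.map _ _ ⁻¹ᵁ Proj.basicOpen _ _ ↔ _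
  rw [Proj.map_preimage_basicOpen]
  have h2 : (𝒮.res hU (hU.basicOpen r) (Y.basicOpen_le r))
      ((𝒮.presheaf.map (homOfLE (le_top : U ≤ ⊤)).op).hom f) =
      (𝒮.presheaf.map (homOfLE (le_top : Y.basicOpen r ≤ ⊤)).op).hom f := by
    rw [RelProj.QCGrAlg.res_apply, ← CommRingCat.comp_apply, ← Functor.map_comp]
    rfl
  rw [h2]

include hP in
/-- variant with an arbitrary affine open equal to a basic open -/
theorem mem_W_of_eq_basicOpen (U : Y.Opens) (hU : IsAffineOpen U) (r : Γ(Y, U))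
    (V : Y.Opens) (hV : IsAffineOpen V) (e : V = Y.basicOpen r) (x : P) (hx : x ∈ p ⁻¹ᵁ V) :
    x ∈ W 𝒮 p chart f U hU ↔ x ∈ W 𝒮 p chart f V hV := by
  subst e
  exact mem_W_basicOpen 𝒮 p chart hP f U hU r x hx

include hP in
theorem mem_W_compat (U U' : Y.Opens) (hU : IsAffineOpen U) (hU' : IsAffineOpen U') (x : P)
    (hx : x ∈ p ⁻¹ᵁ U) (hx' : x ∈ p ⁻¹ᵁ U') :
    x ∈ W 𝒮 p chart f U hU ↔ x ∈ W 𝒮 p chart f U' hU' := by
  obtain ⟨g, g', e, hxg⟩ := exists_basicOpen_le_affine_inter hU hU' (p x) ⟨hx, hx'⟩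
  rw [mem_W_of_eq_basicOpen 𝒮 p chart hP f U hU g _ (hU.basicOpen g) rfl x hxg,
    mem_W_of_eq_basicOpen 𝒮 p chart hP f U' hU' g' _ (hU.basicOpen g) e x hxg]

include hP in
set_option backward.isDefEq.respectTransparency false in
theorem main {d : ℕ} (hd : 0 < d)
    (hf : ∀ (U : Y.Opens) (hU : IsAffineOpen U), (𝒮.presheaf.map (homOfLE le_top).op).hom f ∈ 𝒮.deg U hU d) :
    ∃ Xf : P.Opens,
      (∀ (U : Y.Opens) (hU : IsAffineOpen U),
        Xf ⊓ p ⁻¹ᵁ U =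
          (p ⁻¹ᵁ U).ι ''ᵁ ((chart U hU).hom ⁻¹ᵁ
            Proj.basicOpen (𝒮.deg U hU) ((𝒮.presheaf.map (homOfLE le_top).op).hom f))) ∧
      IsAffineHom (Xf.ι ≫ p) := by
  let Xf : P.Opens := ⨆ U : Y.affineOpens, W 𝒮 p chart f U.1 U.2
  have key : ∀ (U : Y.Opens) (hU : IsAffineOpen U), Xf ⊓ p ⁻¹ᵁ U = W 𝒮 p chart f U hU := by
    intro U hU
    apply le_antisymm
    · rintro x ⟨hx1, hx2⟩
      obtain ⟨U', hU'⟩ := Opens.mem_iSup.1 hx1
      exact (mem_W_compat 𝒮 p chart hP f U'.1 U U'.2 hU x (W_le 𝒮 p chart f _ _ hU') hx2).1 hU'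
    · intro x hx
      exact ⟨Opens.mem_iSup.2 ⟨⟨U, hU⟩, hx⟩, W_le 𝒮 p chart f U hU hx⟩
  refine ⟨Xf, key, ⟨fun U hU => ?_⟩⟩
  rw [← Xf.ι.isAffineOpen_iff_of_isOpenImmersion, Scheme.Hom.comp_preimage,
    Scheme.Hom.image_preimage_eq_opensRange_inf, Scheme.Opens.opensRange_ι, key U hU]
  have h1 : IsAffineOpen (Proj.basicOpen (𝒮.deg U hU) ((𝒮.presheaf.map (homOfLE le_top).op).hom f)) :=
    Proj.isAffineOpen_basicOpen _ _ (hf U hU) hd
  exact (h1.preimage_of_isIso (chart U hU).hom).image_of_isOpenImmersion _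

end


/-- Let 𝒮 be a quasi-coherent positively graded O_Y-algebra, P = Proj(𝒮) with structure morphism p and
charts, and f a global section of 𝒮 homogeneous of degree d > 0. There is an open subset X_f of P
such that for every affine open U of Y, X_f ∩ p⁻¹(U) is the open D_+(f|U) of Proj 𝒮(U) transported
by the chart; moreover X_f is affine over Y. (The identification of X_f with the spectrum of a
quotient of the d-th Veronese algebra is not stated here.) -/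
theorem result {Y P : Scheme.{u}} (𝒮 : RelProj.QCGrAlg Y) (p : P ⟶ Y)
    (chart : ∀ (U : Y.Opens) (hU : IsAffineOpen U), (((p ⁻¹ᵁ U : P.Opens) : Scheme.{u}) ≅ Proj (𝒮.deg U hU)))
    (hP : RelProj.IsRelProj 𝒮 p chart) {d : ℕ} (hd : 0 < d) (f : 𝒮.presheaf.obj (op ⊤))
    (hf : ∀ (U : Y.Opens) (hU : IsAffineOpen U), (𝒮.presheaf.map (homOfLE le_top).op).hom f ∈ 𝒮.deg U hU d) :
    ∃ Xf : P.Opens,
      (∀ (U : Y.Opens) (hU : IsAffineOpen U),
        Xf ⊓ p ⁻¹ᵁ U =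
          (p ⁻¹ᵁ U).ι ''ᵁ ((chart U hU).hom ⁻¹ᵁ
            Proj.basicOpen (𝒮.deg U hU) ((𝒮.presheaf.map (homOfLE le_top).op).hom f))) ∧
      IsAffineHom (Xf.ι ≫ p) := by
  exact main 𝒮 p chart hP f hd hf

end Groth.Agent.S8274
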