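import Groth.Statements.S8276
import Groth.Agent.Lib.Helper28.Natural2

set_option autoImplicit false
universe u
open EGA2

namespace Groth.Agent.S8276

/-- For a positively graded ring S and the graded ring S♮ with S♮_n = S_{≥ n} = ⊕_{m ≥ n} S_m (presented
here as a graded ring S' with an injective algebra homomorphism φ : S' → S[X] carrying S'_n onto
S_{≥ n}·X^n for every n, so that S'_0 is identified with S): S♮ is Noetherian if and only if S is. -/
theorem result {R A B : Type u} [CommRing R] [CommRing A] [Algebra R A]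
    (𝒜 : ℕ → Submodule R A) [GradedAlgebra 𝒜] [CommRing B] [Algebra R B] (ℬ : ℕ → Submodule R B) [GradedAlgebra ℬ]
    (φ : B →ₐ[R] Polynomial A) (hφ : Function.Injective φ)
    (hdeg : ∀ n : ℕ, Submodule.map φ.toLinearMap (ℬ n) =
      Submodule.map ((Polynomial.monomial n : A →ₗ[A] Polynomial A).restrictScalars R) (⨆ (m : ℕ) (_ : n ≤ m), 𝒜 m)) :
    IsNoetherianRing B ↔ IsNoetherianRing A := by
  constructor
  · intro h
    exact isNoetherianRing_of_surjective B A (Groth.Agent.Lib.Helper28.Natural2.θ (R := R) φ)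
      (Groth.Agent.Lib.Helper28.Natural2.θ_surjective 𝒜 ℬ φ hdeg)
  · intro h
    have h1 : Algebra.FiniteType (𝒜 0) A :=
      (Groth.Agent.S4390.result 𝒜).1 ((isNoetherianRing_iff_ideal_fg A).1 h _)
    have h2 : Algebra.FiniteType (ℬ 0) B :=
      Groth.Agent.Lib.Helper28.Natural2.finiteType_B_of_A 𝒜 ℬ φ hφ hdeg
    have h3 : IsNoetherianRing (ℬ 0) :=
      isNoetherianRing_of_ringEquiv A (RingEquiv.ofBijective _
        (Groth.Agent.Lib.Helper28.Natural2.ψ_bijective 𝒜 ℬ φ hφ hdeg)).symm
    exact Algebra.FiniteType.isNoetherianRing (ℬ 0) B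

end Groth.Agent.S8276
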