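import Groth.Statements.S8281
import Groth.Agent.Lib.Helper28.RelProjGlue
import Mathlib

set_option autoImplicit false
universe u
open CategoryTheory CategoryTheory.Limits AlgebraicGeometry Opposite TopologicalSpace
open EGA2

namespace Groth.Agent.S8281

open Groth.Agent.Lib.Helper28.RelProjGlue

variable {S S' : Scheme.{u}} (q : S' ⟶ S) (B : RelSpec.QCAlg S) (B' : RelSpec.QCAlg S')
  (u : B.presheaf ⟶ q.base _* B'.presheaf)

/-- the index type of the cover -/
structure Idx where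
  U : S.Opens
  hU : IsAffineOpen U
  U' : S'.Opens
  hU' : IsAffineOpen U'
  hle : U' ≤ q ⁻¹ᵁ U

/-- the ring map of a piece -/
noncomputable def pieceRing (t : Idx q) : B.presheaf.obj (op t.U) ⟶ B'.presheaf.obj (op t.U') :=
  (u.app (op t.U) : B.presheaf.obj (op t.U) ⟶ B'.presheaf.obj (op (q ⁻¹ᵁ t.U))) ≫
    B'.presheaf.map (homOfLE t.hle).op

/-- the pieces -/
noncomputable def piece (t : Idx q) : Spec (B'.presheaf.obj (op t.U')) ⟶ B.spec :=
  Spec.map (pieceRing q B B' u t) ≫ B.ι t.U t.hU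

/-- the cover of `Spec(B')` -/
noncomputable def cov : B'.spec.OpenCover where
  I₀ := Idx q
  X t := Spec (B'.presheaf.obj (op t.U'))
  f t := B'.ι t.U' t.hU'
  mem₀ := by
    rw [Scheme.presieve₀_mem_precoverage_iff]
    refine ⟨fun x => ?_, inferInstance⟩
    obtain ⟨U, hU, hxU, -⟩ := Opens.isBasis_iff_nbhd.1 S.isBasis_affineOpens
      (show q (B'.π x) ∈ (⊤ : S.Opens) from trivial)
    obtain ⟨U', hU', hxU', hle⟩ := Opens.isBasis_iff_nbhd.1 S'.isBasis_affineOpens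
      (show B'.π x ∈ q ⁻¹ᵁ U from hxU)
    refine ⟨⟨U, hU, U', hU', hle⟩, ?_⟩
    have : x ∈ B'.π ⁻¹ᵁ U' := hxU'
    rw [B'.π_preimage U' hU'] at this
    exact this

/-- an affine open as an object of the small affine Zariski site -/
def mkSite {X : Scheme.{u}} (U : X.Opens) (hU : IsAffineOpen U) : X.AffineZariskiSite := ⟨U, hU⟩

theorem le_of_site {X : Scheme.{u}} {V U : X.Opens} {hV : IsAffineOpen V} {hU : IsAffineOpen U}
    (h : mkSite V hV ≤ mkSite U hU) : V ≤ U :=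
  Scheme.AffineZariskiSite.toOpens_mono h

set_option backward.isDefEq.respectTransparency false in
/-- restriction of a piece to smaller affine opens (basic in the larger ones) -/
theorem piece_restrict (t w : Idx q)
    (h : mkSite w.U w.hU ≤ mkSite t.U t.hU)
    (h' : mkSite w.U' w.hU' ≤ mkSite t.U' t.hU') :
    Spec.map (B'.presheaf.map
        (homOfLE (le_of_site h')).op) ≫
      piece q B B' u t = piece q B B' u w := by
  have hWU : w.U ≤ t.U := le_of_site h
  have hW'U' : w.U' ≤ t.U' := le_of_site h'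
  have hnat := u.naturality (homOfLE hWU).op
  have hring : pieceRing q B B' u t ≫ B'.presheaf.map (homOfLE hW'U').op =
      B.presheaf.map (homOfLE hWU).op ≫ pieceRing q B B' u w := by
    unfold pieceRing
    rw [← Category.assoc (B.presheaf.map _), hnat, Category.assoc, Category.assoc]
    congr 1
    change B'.presheaf.map _ ≫ B'.presheaf.map _ = B'.presheaf.map _ ≫ B'.presheaf.map _
    rw [← Functor.map_comp, ← Functor.map_comp]
    rfl
  unfold piece
  rw [← Spec.map_comp_assoc, hring, Spec.map_comp_assoc]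
  congr 1
  exact B.ι_res (U := mkSite t.U t.hU) (V := mkSite w.U w.hU) (homOfLE h)

omit B B' u in
/-- common refinement of two indices around a point -/
theorem exists_refine (t₁ t₂ : Idx q) (y : S') (hy₁ : y ∈ t₁.U') (hy₂ : y ∈ t₂.U') :
    ∃ w : Idx q, y ∈ w.U' ∧ mkSite w.U w.hU ≤ mkSite t₁.U t₁.hU ∧ mkSite w.U w.hU ≤ mkSite t₂.U t₂.hU ∧
      mkSite w.U' w.hU' ≤ mkSite t₁.U' t₁.hU' ∧ mkSite w.U' w.hU' ≤ mkSite t₂.U' t₂.hU' := by
  obtain ⟨r₁, r₂, e, hW⟩ := exists_basicOpen_le_affine_inter t₁.hU t₂.hU (q y)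
    ⟨t₁.hle hy₁, t₂.hle hy₂⟩
  obtain ⟨f₁, f₂, e', hV'⟩ := exists_basicOpen_le_affine_inter t₁.hU' t₂.hU' y ⟨hy₁, hy₂⟩
  have hV'aff : IsAffineOpen (S'.basicOpen f₁) := t₁.hU'.basicOpen f₁
  obtain ⟨h, hle, hyh⟩ := hV'aff.exists_basicOpen_le (V := q ⁻¹ᵁ S.basicOpen r₁) ⟨y, hW⟩ hV'
  refine ⟨⟨S.basicOpen r₁, t₁.hU.basicOpen r₁, S'.basicOpen h, hV'aff.basicOpen h, hle⟩, hyh,
    ⟨r₁, rfl⟩, ⟨r₂, e.symm⟩, ?_, ?_⟩
  · exact le_trans (b := mkSite (S'.basicOpen f₁) hV'aff) ⟨h, rfl⟩ ⟨f₁, rfl⟩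
  · exact le_trans (b := mkSite (S'.basicOpen f₁) hV'aff) ⟨h, rfl⟩ ⟨f₂, e'.symm⟩

set_option backward.isDefEq.respectTransparency false in
/-- the pieces agree on overlaps -/
theorem piece_compat (t₁ t₂ : Idx q) :
    pullback.fst (B'.ι t₁.U' t₁.hU') (B'.ι t₂.U' t₂.hU') ≫ piece q B B' u t₁ =
      pullback.snd (B'.ι t₁.U' t₁.hU') (B'.ι t₂.U' t₂.hU') ≫ piece q B B' u t₂ := by
  refine hom_ext_of_local _ _ fun x => ?_
  set k := pullback.fst (B'.ι t₁.U' t₁.hU') (B'.ι t₂.U' t₂.hU') ≫ B'.ι t₁.U' t₁.hU' with hk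
  set z : B'.spec := k x with hz
  have hz₁ : B'.π z ∈ t₁.U' := by
    have : z ∈ (B'.ι t₁.U' t₁.hU').opensRange := ⟨_, rfl⟩
    rw [← B'.π_preimage t₁.U' t₁.hU'] at this
    exact this
  have hz₂ : B'.π z ∈ t₂.U' := by
    have : z ∈ (B'.ι t₂.U' t₂.hU').opensRange := by
      rw [hz, hk, pullback.condition]
      exact ⟨_, rfl⟩
    rw [← B'.π_preimage t₂.U' t₂.hU'] at this
    exact this
  obtain ⟨w, hyw, h1, h2, h1', h2'⟩ := exists_refine q t₁ t₂ (B'.π z) hz₁ hz₂
  let j : Spec (B'.presheaf.obj (op w.U')) ⟶ pullback (B'.ι t₁.U' t₁.hU') (B'.ι t₂.U' t₂.hU') :=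
    pullback.lift (Spec.map (B'.presheaf.map (homOfLE (le_of_site h1')).op))
      (Spec.map (B'.presheaf.map (homOfLE (le_of_site h2')).op))
      ((B'.ι_res (U := mkSite t₁.U' t₁.hU') (V := mkSite w.U' w.hU') (homOfLE h1')).trans
        (B'.ι_res (U := mkSite t₂.U' t₂.hU') (V := mkSite w.U' w.hU') (homOfLE h2')).symm)
  have hj1 : j ≫ pullback.fst _ _ = Spec.map (B'.presheaf.map (homOfLE (le_of_site h1')).op) :=
    pullback.lift_fst _ _ _
  have hj2 : j ≫ pullback.snd _ _ = Spec.map (B'.presheaf.map (homOfLE (le_of_site h2')).op) :=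
    pullback.lift_snd _ _ _
  have hjι : j ≫ k = B'.ι w.U' w.hU' := by
    rw [hk, reassoc_of% hj1]
    exact B'.ι_res (U := mkSite t₁.U' t₁.hU') (V := mkSite w.U' w.hU') (homOfLE h1')
  have hjo : IsOpenImmersion j := by
    have : IsOpenImmersion (j ≫ k) := by rw [hjι]; infer_instance
    exact IsOpenImmersion.of_comp j k
  refine ⟨_, j, hjo, ?_, ?_⟩
  · have hzw : z ∈ (B'.ι w.U' w.hU').opensRange := by
      rw [← B'.π_preimage w.U' w.hU']
      exact hyw
    obtain ⟨a, ha⟩ := hzw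
    refine ⟨a, ?_⟩
    apply k.isOpenEmbedding.injective
    rw [← Scheme.Hom.comp_apply, hjι]
    exact ha
  · rw [reassoc_of% hj1, reassoc_of% hj2, piece_restrict q B B' u t₁ w h1 h1',
      piece_restrict q B B' u t₂ w h2 h2']

set_option backward.isDefEq.respectTransparency false in
/-- a morphism chartwise given by the pieces lies over `q` -/
theorem comp_π (hu : B.str ≫ u = q.c ≫ (TopCat.Presheaf.pushforward CommRingCat.{u} q.base).map B'.str)
    (v : B'.spec ⟶ B.spec) (hv : ∀ t : Idx q, B'.ι t.U' t.hU' ≫ v = piece q B B' u t) :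
    v ≫ B.π = B'.π ≫ q := by
  refine (cov q B').hom_ext _ _ fun (t : Idx q) => ?_
  change B'.ι t.U' t.hU' ≫ v ≫ B.π = B'.ι t.U' t.hU' ≫ B'.π ≫ q
  rw [reassoc_of% (hv t), reassoc_of% (B'.ι_π t.U' t.hU')]
  unfold piece
  rw [Category.assoc, B.ι_π, ← Spec.map_comp_assoc]
  have h1 : B.str.app (op t.U) ≫ pieceRing q B B' u t =
      q.appLE t.U t.U' t.hle ≫ B'.str.app (op t.U') := by
    unfold pieceRing
    have := congrArg (fun α => α.app (op t.U)) hu
    replace this : B.str.app (op t.U) ≫ u.app (op t.U) =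
      q.app t.U ≫ B'.str.app (op (q ⁻¹ᵁ t.U)) := this
    rw [← Category.assoc, this, Scheme.Hom.appLE, Category.assoc, Category.assoc]
    congr 1
    exact (B'.str.naturality (homOfLE t.hle).op).symm
  rw [h1, Spec.map_comp_assoc, IsAffineOpen.SpecMap_appLE_fromSpec q t.hU t.hU' t.hle]

set_option backward.isDefEq.respectTransparency false in
theorem main (hu : B.str ≫ u = q.c ≫ (TopCat.Presheaf.pushforward CommRingCat.{u} q.base).map B'.str) :
    (∃! v : B'.spec ⟶ B.spec,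
        ∀ (U : S.Opens) (hU : IsAffineOpen U) (U' : S'.Opens) (hU' : IsAffineOpen U') (hle : U' ≤ q ⁻¹ᵁ U),
          B'.ι U' hU' ≫ v =
            Spec.map ((u.app (op U) : B.presheaf.obj (op U) ⟶ B'.presheaf.obj (op (q ⁻¹ᵁ U))) ≫
              B'.presheaf.map (homOfLE hle).op) ≫ B.ι U hU) ∧
      ∀ v : B'.spec ⟶ B.spec,
        (∀ (U : S.Opens) (hU : IsAffineOpen U) (U' : S'.Opens) (hU' : IsAffineOpen U') (hle : U' ≤ q ⁻¹ᵁ U),
          B'.ι U' hU' ≫ v =
            Spec.map ((u.app (op U) : B.presheaf.obj (op U) ⟶ B'.presheaf.obj (op (q ⁻¹ᵁ U))) ≫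
              B'.presheaf.map (homOfLE hle).op) ≫ B.ι U hU) →
        v ≫ B.π = B'.π ≫ q := by
  refine ⟨?_, fun v hv => comp_π q B B' u hu v fun t => hv t.U t.hU t.U' t.hU' t.hle⟩
  let v : B'.spec ⟶ B.spec := (cov q B').glueMorphisms (fun t => piece q B B' u t)
    (fun t₁ t₂ => piece_compat q B B' u t₁ t₂)
  have hv : ∀ t : Idx q, B'.ι t.U' t.hU' ≫ v = piece q B B' u t :=
    fun t => (cov q B').ι_glueMorphisms _ _ t
  refine ⟨v, fun U hU U' hU' hle => hv ⟨U, hU, U', hU', hle⟩, fun v' hv' => ?_⟩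
  refine (cov q B').hom_ext _ _ fun (t : Idx q) => ?_
  change B'.ι t.U' t.hU' ≫ v' = B'.ι t.U' t.hU' ≫ v
  rw [hv t]
  exact hv' t.U t.hU t.U' t.hU' t.hle


/-- Let q : S' → S be a morphism, B and B' quasi-coherent algebras over O_S and O_{S'}, and u : B →
q_*B' a q-morphism (compatible with the structure maps). Then u induces a unique morphism v =
Spec(u) : Spec(B') → Spec(B) which on the charts over affine opens U ⊆ S, U' ⊆ q⁻¹(U) is Spec of the
ring map B(U) → B'(U') given by u and restriction; it lies over q. -/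
theorem result {S S' : Scheme.{u}} (q : S' ⟶ S) (B : RelSpec.QCAlg S)
    (B' : RelSpec.QCAlg S') (u : B.presheaf ⟶ q.base _* B'.presheaf)
    (hu : B.str ≫ u = q.c ≫ (TopCat.Presheaf.pushforward CommRingCat.{u} q.base).map B'.str) :
    (∃! v : B'.spec ⟶ B.spec,
        ∀ (U : S.Opens) (hU : IsAffineOpen U) (U' : S'.Opens) (hU' : IsAffineOpen U') (hle : U' ≤ q ⁻¹ᵁ U),
          B'.ι U' hU' ≫ v =
            Spec.map ((u.app (op U) : B.presheaf.obj (op U) ⟶ B'.presheaf.obj (op (q ⁻¹ᵁ U))) ≫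
              B'.presheaf.map (homOfLE hle).op) ≫ B.ι U hU) ∧
      ∀ v : B'.spec ⟶ B.spec,
        (∀ (U : S.Opens) (hU : IsAffineOpen U) (U' : S'.Opens) (hU' : IsAffineOpen U') (hle : U' ≤ q ⁻¹ᵁ U),
          B'.ι U' hU' ≫ v =
            Spec.map ((u.app (op U) : B.presheaf.obj (op U) ⟶ B'.presheaf.obj (op (q ⁻¹ᵁ U))) ≫
              B'.presheaf.map (homOfLE hle).op) ≫ B.ι U hU) →
        v ≫ B.π = B'.π ≫ q := by
  exact main q B B' u hu

end Groth.Agent.S8281
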