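import Groth.Statements.S8285
import Groth.Agent.Lib.Helper28.RelProjQC

set_option autoImplicit false
universe u
open CategoryTheory CategoryTheory.Limits AlgebraicGeometry Opposite TopologicalSpace
open scoped HomogeneousIdeal
noncomputable section
open EGA2

open Groth.Agent.Lib.Helper28

namespace Groth.Agent.S8285

/-- The twisting sheaf O_P(n) on the relative homogeneous spectrum P = Proj(𝒮), given through its
chartwise identifications with the O(n) of the Proj 𝒮(U), is a quasi-coherent O_P-module. -/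
theorem result {Y P : Scheme.{u}} (𝒮 : RelProj.QCGrAlg Y) (p : P ⟶ Y)
    (chart : ∀ (U : Y.Opens) (hU : IsAffineOpen U), (((p ⁻¹ᵁ U : P.Opens) : Scheme.{u}) ≅ Proj (𝒮.deg U hU)))
    (hP : RelProj.IsRelProj 𝒮 p chart) (n : ℤ) (L : P.Modules)
    (lam : ∀ (U : Y.Opens) (hU : IsAffineOpen U),
      L ⟶ (Scheme.Modules.pushforward (RelProj.emb p chart U hU)).obj (GrTwist.twist (𝒮.deg U hU) n))
    (hL : RelProj.IsRelTwist 𝒮 p chart n L lam) : Coh.IsQCoh L := by
  haveI : ∀ i : Y.affineOpens, (GrTwist.twist (𝒮.deg i.1 i.2) n).IsQuasicoherent :=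
    fun i => GrTwistQC.isQuasicoherent_twist (𝒮.deg i.1 i.2) n
  exact QCohLoc.isQuasicoherent_of_charts L (fun i : Y.affineOpens => Proj (𝒮.deg i.1 i.2))
    (fun i => RelProj.emb p chart i.1 i.2) (fun i => GrTwist.twist (𝒮.deg i.1 i.2) n)
    (fun i => lam i.1 i.2)
    (fun i W hW => hL.bijective i.1 i.2 W (hW.trans (RelProjQC.opensRange_emb p chart i.1 i.2).le))
    (RelProjQC.exists_mem_opensRange_emb p chart)

end Groth.Agent.S8285
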