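import Groth.Statements.S8287
import Groth.Agent.Lib.Helper28.RelTwistMap
import Groth.Agent.Lib.Helper28.GenIso

set_option autoImplicit false
universe u
open CategoryTheory CategoryTheory.Limits AlgebraicGeometry Opposite TopologicalSpace
open scoped HomogeneousIdeal
noncomputable section
open EGA2

open Groth.Agent.Lib.Helper28 Groth.Agent.Lib.Helper28.QCohLoc

namespace Groth.Agent.S8287

/-- Let φ : 𝒜 → ℬ be a surjective graded homomorphism of quasi-coherent positively graded O_Y-algebras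
with 𝒜 generated by 𝒜_1, and h : Proj(ℬ) → Proj(𝒜) the closed immersion it induces. Then for every
integer n the inverse image h^*(O_{Proj(𝒜)}(n)) is isomorphic to O_{Proj(ℬ)}(n) (existence of an
isomorphism only; the published identification is canonical, and allows φ merely eventually
surjective). -/
theorem result {Y PA PB : Scheme.{u}} {𝒜 ℬ : RelProj.QCGrAlg Y}
    (φ : 𝒜.toQCAlg ⟶ ℬ.toQCAlg) (hφ : RelProj.IsGradedHom φ) (hgen : 𝒜.IsGenDegOne)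
    (hsurj : ∀ (U : Y.Opens) (hU : IsAffineOpen U), Function.Surjective (φ.hom.app (op U)).hom)
    (hirr : ∀ (U : Y.Opens) (hU : IsAffineOpen U),
      (ℬ.deg U hU)₊ ≤ ((𝒜.deg U hU)₊).map (RelProj.gradedHomAt φ hφ U hU))
    (pA : PA ⟶ Y) (pB : PB ⟶ Y)
    (chartA : ∀ (U : Y.Opens) (hU : IsAffineOpen U), (((pA ⁻¹ᵁ U : PA.Opens) : Scheme.{u}) ≅ Proj (𝒜.deg U hU)))
    (chartB : ∀ (U : Y.Opens) (hU : IsAffineOpen U), (((pB ⁻¹ᵁ U : PB.Opens) : Scheme.{u}) ≅ Proj (ℬ.deg U hU)))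
    (hA : RelProj.IsRelProj 𝒜 pA chartA) (hB : RelProj.IsRelProj ℬ pB chartB)
    (h : PB ⟶ PA) (hh : RelProj.IsRelProjMap φ hφ hirr chartA chartB h) (n : ℤ)
    (LA : PA.Modules)
    (lamA : ∀ (U : Y.Opens) (hU : IsAffineOpen U),
      LA ⟶ (Scheme.Modules.pushforward (RelProj.emb pA chartA U hU)).obj (GrTwist.twist (𝒜.deg U hU) n))
    (hLA : RelProj.IsRelTwist 𝒜 pA chartA n LA lamA)
    (LB : PB.Modules)
    (lamB : ∀ (U : Y.Opens) (hU : IsAffineOpen U),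
      LB ⟶ (Scheme.Modules.pushforward (RelProj.emb pB chartB U hU)).obj (GrTwist.twist (ℬ.deg U hU) n))
    (hLB : RelProj.IsRelTwist ℬ pB chartB n LB lamB) :
    Nonempty ((Scheme.Modules.pullback h).obj LA ≅ LB) := by
  classical
  let ι := Σ V : Y.affineOpens, {F : 𝒜.presheaf.obj (op V.1) // F ∈ 𝒜.deg V.1 V.2 1}
  let U : ι → PA.Opens := fun i =>
    RelProj.emb pA chartA i.1.1 i.1.2 ''ᵁ Proj.basicOpen (𝒜.deg i.1.1 i.1.2) i.2.1
  have hUle : ∀ i : ι, U i ≤ pA ⁻¹ᵁ i.1.1 := fun i =>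
    (Scheme.Hom.image_le_opensRange _ _).trans (RelProjQC.opensRange_emb pA chartA i.1.1 i.1.2).le
  have hcovA : ∀ x : PA, ∃ i : ι, x ∈ U i := by
    intro x
    obtain ⟨V, y, hy⟩ := RelProjQC.exists_mem_opensRange_emb pA chartA x
    obtain ⟨F, hF, hyF⟩ := RelTwistLocal.cover_of_closure (𝒜.deg V.1 V.2) (hgen V.1 V.2) y
    exact ⟨⟨V, F, hF⟩, y, hyF, hy⟩
  have hcov : ∀ x : PB, ∃ i : ι, x ∈ h ⁻¹ᵁ U i := fun x => hcovA (h.base x)
  have hAg : ∀ i : ι, ∃ a : Γ(LA, U i), GenLocus.IsGen LA (U i) a ∧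
      RelTwistVal.Reads lamA i.1.2 a i.2.1 n :=
    fun i => RelTwistVal.exists_gen_reads hLA i.1.2 i.2.2 Nat.one_pos n (by simp)
  have hBg : ∀ i : ι, ∃ b : Γ(LB, h ⁻¹ᵁ U i), GenLocus.IsGen LB (h ⁻¹ᵁ U i) b ∧
      RelTwistVal.Reads lamB i.1.2 b (RelProj.gradedHomAt φ hφ i.1.1 i.1.2 i.2.1) n :=
    fun i => RelTwistVal.exists_gen_reads' hLB i.1.2 (hφ i.1.1 i.1.2 1 _ i.2.2) Nat.one_pos n (by simp) _
      (RelTwistMap.preimage_image_basicOpen φ hφ hirr chartA chartB h hh hA hB i.1.1 i.1.2 i.2.1)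
  choose a ha hra using hAg
  choose b hb hrb using hBg
  suffices hcoc : ∀ i j : ι, ∃ u : Γ(PB, h ⁻¹ᵁ U i ⊓ h ⁻¹ᵁ U j),
      res ((Scheme.Modules.pullback h).obj LA) inf_le_left (PullbackInv.pbs h LA (U i) (a i)) =
        (u • res ((Scheme.Modules.pullback h).obj LA) inf_le_right (PullbackInv.pbs h LA (U j) (a j)) :
          Γ((Scheme.Modules.pullback h).obj LA, h ⁻¹ᵁ U i ⊓ h ⁻¹ᵁ U j)) ∧
      res LB inf_le_left (b i) = (u • res LB inf_le_right (b j) : Γ(LB, h ⁻¹ᵁ U i ⊓ h ⁻¹ᵁ U j)) by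
    obtain ⟨ψ, -⟩ := GenLocus.exists_iso_of_cocycle_gen (fun i => h ⁻¹ᵁ U i)
      (fun i => PullbackInv.pbs h LA (U i) (a i)) b
      (fun i => PullbackInv.isGen_pbs (ha i)) hb hcov hcoc
    exact ⟨ψ⟩
  intro i j
  obtain ⟨u, hu⟩ := ((ha j) (U i ⊓ U j) inf_le_right).2 (res LA inf_le_left (a i))
  refine ⟨h.app (U i ⊓ U j) u, ?_, ?_⟩
  · have h1 := PullbackInv.pbs_res h LA (inf_le_left : U i ⊓ U j ≤ U i) (a i)
    have h2 := PullbackInv.pbs_res h LA (inf_le_right : U i ⊓ U j ≤ U j) (a j)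
    have h3 := PullbackInv.pbs_smul h LA (U i ⊓ U j) u (res LA inf_le_right (a j))
    rw [h2] at h3
    have hu' : (u • res LA inf_le_right (a j) : Γ(LA, U i ⊓ U j)) = res LA inf_le_left (a i) := hu
    rw [hu', h1] at h3
    exact h3
  · exact RelTwistMap.cocycle_transfer φ hφ hirr chartA chartB h hh hA hB hLA hLB i.1.2 j.1.2
      (inf_le_left.trans (hUle i)) (inf_le_right.trans (hUle j)) i.2.1 j.2.1
      (res LA inf_le_left (a i)) (res LA inf_le_right (a j)) ((hra i).res _) ((hra j).res _) u hu.symm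
      (res LB (inf_le_left : h ⁻¹ᵁ U i ⊓ h ⁻¹ᵁ U j ≤ h ⁻¹ᵁ U i) (b i))
      (res LB (inf_le_right : h ⁻¹ᵁ U i ⊓ h ⁻¹ᵁ U j ≤ h ⁻¹ᵁ U j) (b j))
      ((hrb i).res _) ((hrb j).res _)

end Groth.Agent.S8287
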