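import Groth.Statements.S8288
import Groth.Agent.Lib.Helper28.RelTwistVal

set_option autoImplicit false
universe u
open CategoryTheory CategoryTheory.Limits AlgebraicGeometry Opposite TopologicalSpace
open scoped HomogeneousIdeal
noncomputable section
open EGA2

open Groth.Agent.Lib.Helper28 Groth.Agent.Lib.Helper28.QCohLoc

namespace Groth.Agent.S8288

/-- For a global section f of 𝒮 of degree d > 0 and the open X_f of P = Proj(𝒮) it defines, the twisting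
sheaf O_P(nd) restricted to X_f is isomorphic to the structure sheaf of X_f, for every integer n
(existence of an isomorphism; the published identification is canonical). -/
theorem result {Y P : Scheme.{u}} (𝒮 : RelProj.QCGrAlg Y) (p : P ⟶ Y)
    (chart : ∀ (U : Y.Opens) (hU : IsAffineOpen U), (((p ⁻¹ᵁ U : P.Opens) : Scheme.{u}) ≅ Proj (𝒮.deg U hU)))
    (hP : RelProj.IsRelProj 𝒮 p chart) {d : ℕ} (hd : 0 < d) (f : 𝒮.presheaf.obj (op ⊤))
    (hf : ∀ (U : Y.Opens) (hU : IsAffineOpen U), (𝒮.presheaf.map (homOfLE le_top).op).hom f ∈ 𝒮.deg U hU d)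
    (Xf : P.Opens)
    (hXf : ∀ (U : Y.Opens) (hU : IsAffineOpen U),
      Xf ⊓ p ⁻¹ᵁ U =
        (p ⁻¹ᵁ U).ι ''ᵁ ((chart U hU).hom ⁻¹ᵁ
          Proj.basicOpen (𝒮.deg U hU) ((𝒮.presheaf.map (homOfLE le_top).op).hom f)))
    (n : ℤ) (L : P.Modules)
    (lam : ∀ (U : Y.Opens) (hU : IsAffineOpen U),
      L ⟶ (Scheme.Modules.pushforward (RelProj.emb p chart U hU)).obj (GrTwist.twist (𝒮.deg U hU) (n * (d : ℤ))))
    (hL : RelProj.IsRelTwist 𝒮 p chart (n * (d : ℤ)) L lam) :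
    Nonempty (L.restrict Xf.ι ≅ Coh.structureModule (Xf : Scheme.{u})) := by
  classical
  -- the restriction of `f` to an affine open
  set fV : ∀ (U : Y.Opens) (_ : IsAffineOpen U), 𝒮.presheaf.obj (op U) :=
    fun U _ => (𝒮.presheaf.map (homOfLE le_top).op).hom f with hfV
  have hres : ∀ (V W : Y.Opens) (hV : IsAffineOpen V) (hW : IsAffineOpen W) (hle : W ≤ V),
      𝒮.res hV hW hle (fV V hV) = fV W hW := by
    intro V W hV hW hle
    show (𝒮.presheaf.map (homOfLE hle).op).hom ((𝒮.presheaf.map (homOfLE le_top).op).hom f) =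
      (𝒮.presheaf.map (homOfLE le_top).op).hom f
    rw [← CommRingCat.comp_apply, ← Functor.map_comp]
    rfl
  -- the opens
  have hUeq : ∀ (V : Y.Opens) (hV : IsAffineOpen V),
      Xf ⊓ p ⁻¹ᵁ V = RelProj.emb p chart V hV ''ᵁ Proj.basicOpen (𝒮.deg V hV) (fV V hV) := by
    intro V hV
    rw [hXf V hV]
    ext x
    constructor
    · rintro ⟨w, hw, rfl⟩
      refine ⟨(chart V hV).hom.base w, hw, ?_⟩
      show (p ⁻¹ᵁ V).ι.base ((chart V hV).inv.base ((chart V hV).hom.base w)) = _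
      rw [← Scheme.Hom.comp_apply (chart V hV).hom, Iso.hom_inv_id]
      rfl
    · rintro ⟨z, hz, rfl⟩
      refine ⟨(chart V hV).inv.base z, ?_, rfl⟩
      show (chart V hV).hom.base ((chart V hV).inv.base z) ∈ Proj.basicOpen (𝒮.deg V hV) (fV V hV)
      rw [← Scheme.Hom.comp_apply, Iso.inv_hom_id]
      exact hz
  -- the local generators
  have hgen : ∀ i : Y.affineOpens, ∃ g : Γ(L, Xf ⊓ p ⁻¹ᵁ i.1),
      GenLocus.IsGen L (Xf ⊓ p ⁻¹ᵁ i.1) g ∧ RelTwistVal.Reads lam i.2 g (fV i.1 i.2) n :=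
    fun i => RelTwistVal.exists_gen_reads' hL i.2 (hf i.1 i.2) hd n rfl _ (hUeq i.1 i.2)
  choose g hg hr using hgen
  have hcov : Xf ≤ ⨆ i : Y.affineOpens, Xf ⊓ p ⁻¹ᵁ i.1 := by
    intro x hx
    have hy : p.base x ∈ (⨆ V : Y.affineOpens, V.1 : Y.Opens) := by
      rw [iSup_affineOpens_eq_top]; trivial
    obtain ⟨i, hi⟩ := Opens.mem_iSup.mp hy
    exact Opens.mem_iSup.2 ⟨i, hx, hi⟩
  have hcompat : ∀ i j : Y.affineOpens,
      res L (inf_le_left : (Xf ⊓ p ⁻¹ᵁ i.1) ⊓ (Xf ⊓ p ⁻¹ᵁ j.1) ≤ Xf ⊓ p ⁻¹ᵁ i.1) (g i) =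
        res L (inf_le_right : (Xf ⊓ p ⁻¹ᵁ i.1) ⊓ (Xf ⊓ p ⁻¹ᵁ j.1) ≤ Xf ⊓ p ⁻¹ᵁ j.1) (g j) := by
    intro i j
    refine RelTwistVal.eq_of_basic_cover hL i.2 j.2 (inf_le_left.trans inf_le_right)
      (inf_le_right.trans inf_le_right) _ _ ?_
    intro W hW r r' e e' y hy
    have hle : W ≤ i.1 := e ▸ Y.basicOpen_le r
    have hle' : W ≤ j.1 := e' ▸ Y.basicOpen_le r'
    obtain ⟨h1, hv1⟩ := (((hr i).res inf_le_left).basic hP hL hW r e hle) y hy
    obtain ⟨h2, hv2⟩ := (((hr j).res inf_le_right).basic hP hL hW r' e' hle') y hy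
    rw [hv1, hv2]
    have key : ∀ (F F' : 𝒮.presheaf.obj (op W)) (_ : F = F') (h : F ∉ y.asHomogeneousIdeal)
        (h' : F' ∉ y.asHomogeneousIdeal),
        GrTwistGenVal.pw (𝒮.deg W hW) y F h n = GrTwistGenVal.pw (𝒮.deg W hW) y F' h' n := by
      intro F F' hFF h h'
      subst hFF
      rfl
    exact key _ _ ((hres _ _ i.2 hW hle).trans (hres _ _ j.2 hW hle').symm) _ _
  obtain ⟨σ, hσ, -⟩ := RelTwistVal.exists_glued_generator L Xf (fun i : Y.affineOpens => Xf ⊓ p ⁻¹ᵁ i.1)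
    (fun i => inf_le_left) hcov g hg hcompat
  exact RelTwistVal.nonempty_restrict_iso_of_isGen L Xf σ hσ

end Groth.Agent.S8288
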