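import Groth.Statements.S8290
import Groth.Agent.Lib.Helper28.RelTwistLocal

set_option autoImplicit false
universe u
open CategoryTheory CategoryTheory.Limits AlgebraicGeometry Opposite TopologicalSpace
open scoped HomogeneousIdeal
noncomputable section
open EGA2

open Groth.Agent.Lib.Helper28

namespace Groth.Agent.S8290

/-- Let 𝒮 be a quasi-coherent positively graded O_Y-algebra, X = Proj(𝒮), and U a quasi-compact open
subset of X. There is an integer d > 0 such that for every n divisible by d the twisting sheaf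
O_X(n) restricted to U is invertible. (The published statement adds that its inverse is O_X(-n)|U.) -/
theorem result {Y X : Scheme.{u}} (𝒮 : RelProj.QCGrAlg Y) (q : X ⟶ Y)
    (chart : ∀ (U : Y.Opens) (hU : IsAffineOpen U), (((q ⁻¹ᵁ U : X.Opens) : Scheme.{u}) ≅ Proj (𝒮.deg U hU)))
    (hX : RelProj.IsRelProj 𝒮 q chart) (U : X.Opens) (hU : IsCompact (U : Set X)) :
    ∃ d : ℕ, 0 < d ∧ ∀ (n : ℤ), (d : ℤ) ∣ n →
      ∀ (L : X.Modules)
        (lam : ∀ (V : Y.Opens) (hV : IsAffineOpen V),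
          L ⟶ (Scheme.Modules.pushforward (RelProj.emb q chart V hV)).obj (GrTwist.twist (𝒮.deg V hV) n)),
        RelProj.IsRelTwist 𝒮 q chart n L lam → PicF.IsInvertible (L.restrict U.ι) := by
  classical
  have hex : ∀ x : U, ∃ (i : Y.affineOpens) (e : ℕ) (f : 𝒮.presheaf.obj (op i.1)),
      0 < e ∧ f ∈ 𝒮.deg i.1 i.2 e ∧
      x.1 ∈ RelProj.emb q chart i.1 i.2 ''ᵁ Proj.basicOpen (𝒮.deg i.1 i.2) f ∧
      RelProj.emb q chart i.1 i.2 ''ᵁ Proj.basicOpen (𝒮.deg i.1 i.2) f ≤ U := by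
    intro x
    obtain ⟨i, y, hy⟩ := RelProjQC.exists_mem_opensRange_emb q chart x.1
    have hyU : y ∈ RelProj.emb q chart i.1 i.2 ⁻¹ᵁ U := by
      show (RelProj.emb q chart i.1 i.2) y ∈ U
      rw [hy]; exact x.2
    obtain ⟨e, f, he, hf, hfy, hfU⟩ := GrSectComap.exists_pos_basicOpen (𝒮.deg i.1 i.2) _ y hyU
    refine ⟨i, e, f, he, hf, ⟨y, (Proj.mem_basicOpen _ f y).2 hfy, hy⟩, ?_⟩
    rintro _ ⟨y', hy', rfl⟩
    exact hfU y' ((Proj.mem_basicOpen _ f y').1 hy')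
  choose i e f he hf hxT hTU using hex
  obtain ⟨t, ht⟩ := hU.elim_finite_subcover
    (fun x : U => ((RelProj.emb q chart (i x).1 (i x).2 ''ᵁ Proj.basicOpen (𝒮.deg (i x).1 (i x).2) (f x) :
      X.Opens) : Set X))
    (fun x => (RelProj.emb q chart (i x).1 (i x).2 ''ᵁ
      Proj.basicOpen (𝒮.deg (i x).1 (i x).2) (f x)).isOpen)
    (fun x hx => Set.mem_iUnion.2 ⟨⟨x, hx⟩, hxT _⟩)
  refine ⟨∏ x ∈ t, e x, Finset.prod_pos fun x _ => he x, fun n hn L lam hL => ?_⟩
  refine RelTwistLocal.isInvertible_restrict_of_isGen L U fun z hz => ?_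
  have hz' := ht hz
  simp only [Set.mem_iUnion] at hz'
  obtain ⟨x, hxt, y', hy', rfl⟩ := hz'
  have hdvd : ((e x : ℕ) : ℤ) ∣ n := (Int.natCast_dvd_natCast.2 (Finset.dvd_prod_of_mem e hxt)).trans hn
  obtain ⟨γ, hγ⟩ := RelTwistLocal.exists_isGen_grTwist (𝒮.deg (i x).1 (i x).2) (hf x) (he x) n hdvd
  obtain ⟨W₀, g, hzW, -, -, hg⟩ := RelTwistLocal.exists_isGen_of_chart
    (RelProj.emb q chart (i x).1 (i x).2) L (GrTwist.twist (𝒮.deg (i x).1 (i x).2) n)
    (lam (i x).1 (i x).2)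
    (fun W hW => hL.bijective _ _ W (hW.trans (RelProjQC.opensRange_emb q chart (i x).1 (i x).2).le))
    y' _ hy' γ hγ
  exact ⟨W₀, g, hzW, hg⟩

end Groth.Agent.S8290
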