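import Groth.Statements.S8298
import Groth.Agent.Lib.Helper28.ConeImm

set_option autoImplicit false
universe u
open CategoryTheory CategoryTheory.Limits AlgebraicGeometry Opposite TopologicalSpace
open scoped HomogeneousIdeal
noncomputable section
open EGA2

namespace Groth.Agent.S8298

open Groth.Agent.Lib.Helper28.ConeImm Groth.Agent.Lib.Helper28.ProjQCone
open Groth.Agent.Lib.Helper28.RelProjQ (mem_range_emb)

section
variable {Y : Scheme.{u}} (𝒮 : RelProj.QCGrAlg Y) (h0 : RelCone.StrZeroBij 𝒮)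
  (aug : 𝒮.toQCAlg ⟶ RelSpec.QCAlg.unit Y) (haug : RelCone.IsAugmentation 𝒮 aug)

theorem aug_str (U : Y.Opens) (r : Γ(Y, U)) :
    (aug.hom.app (op U)).hom ((𝒮.str.app (op U)).hom r) = r :=
  congrArg (fun t => (t.app (op U)).hom r) aug.comm

include haug in
/-- the augmentation kills the irrelevant ideal -/
theorem aug_irrelevant (U : Y.Opens) (hU : IsAffineOpen U) (a : 𝒮.presheaf.obj (op U))
    (ha : a ∈ (𝒮.deg U hU)₊) : (aug.hom.app (op U)).hom a = 0 := by
  classical
  rw [← DirectSum.sum_support_decompose (𝒮.deg U hU) a, map_sum]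
  refine Finset.sum_eq_zero fun k _ => ?_
  rcases Nat.eq_zero_or_pos k with rfl | hk
  · have h1 : (DirectSum.decompose (𝒮.deg U hU) a 0 : 𝒮.presheaf.obj (op U)) = 0 := by
      have := (HomogeneousIdeal.mem_irrelevant_iff _ a).1 ha
      simpa [GradedRing.proj_apply] using this
    rw [h1, map_zero]
  · obtain ⟨d, rfl⟩ := Nat.exists_eq_succ_of_ne_zero hk.ne'
    exact haug U hU d _ (SetLike.coe_mem _)

include h0 haug in
/-- the kernel of the augmentation is the irrelevant ideal -/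
theorem sub_mem_irrelevant (U : Y.Opens) (hU : IsAffineOpen U) (a : 𝒮.presheaf.obj (op U)) :
    a - (𝒮.str.app (op U)).hom ((aug.hom.app (op U)).hom a) ∈ (𝒮.deg U hU)₊ := by
  classical
  set a' := a - (𝒮.str.app (op U)).hom ((aug.hom.app (op U)).hom a) with ha'
  have hk : (aug.hom.app (op U)).hom a' = 0 := by
    rw [ha', map_sub]
    exact sub_eq_zero.2 (aug_str 𝒮 aug U _).symm
  rw [HomogeneousIdeal.mem_irrelevant_iff, GradedRing.proj_apply]
  obtain ⟨s, hs⟩ := (h0 U hU).2 (DirectSum.decompose (𝒮.deg U hU) a' 0)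
  have hs' : (𝒮.str.app (op U)).hom s = (DirectSum.decompose (𝒮.deg U hU) a' 0 : 𝒮.presheaf.obj (op U)) :=
    congrArg Subtype.val hs
  have h2 : a' - (DirectSum.decompose (𝒮.deg U hU) a' 0 : 𝒮.presheaf.obj (op U)) ∈ (𝒮.deg U hU)₊ := by
    rw [HomogeneousIdeal.mem_irrelevant_iff, GradedRing.proj_apply, DirectSum.decompose_sub,
      DirectSum.sub_apply, DirectSum.decompose_coe, DirectSum.of_eq_same, sub_self]
    rfl
  have h3 := aug_irrelevant 𝒮 aug haug U hU _ h2
  rw [map_sub, hk, zero_sub, neg_eq_zero, ← hs'] at h3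
  have h4 : s = 0 := (aug_str 𝒮 aug U s).symm.trans h3
  rw [← hs', h4]
  exact map_zero _

include h0 haug in
set_option backward.isDefEq.respectTransparency false in
/-- a point of the vertex locus of a chart comes from the base -/
theorem vertex_point (U : Y.Opens) (hU : IsAffineOpen U) (x : Spec (𝒮.presheaf.obj (op U)))
    (hx : x ∉ RelCone.vertexCompl (𝒮.deg U hU)) :
    Spec.map (aug.hom.app (op U)) (Spec.map (𝒮.str.app (op U)) x) = x := by
  rw [mem_vertexCompl_def, not_not] at hx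
  apply PrimeSpectrum.ext
  ext a
  change (𝒮.str.app (op U)).hom ((aug.hom.app (op U)).hom a) ∈ x.asIdeal ↔ a ∈ x.asIdeal
  have h1 : a - (𝒮.str.app (op U)).hom ((aug.hom.app (op U)).hom a) ∈ x.asIdeal :=
    hx (sub_mem_irrelevant 𝒮 h0 aug haug U hU a)
  constructor
  · intro h
    have := Ideal.add_mem _ h1 h
    rwa [sub_add_cancel] at this
  · intro h
    have := Ideal.sub_mem _ h h1
    rwa [sub_sub_cancel] at this

end


/-- The pointed projective cone: let 𝒮 be a quasi-coherent positively graded O_Y-algebra with 𝒮_0 = O_Y,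
aug its augmentation and ε : Y → C = Spec(𝒮) the vertex section; let Ŝ = 𝒮[z] (given through a
graded homomorphism ι : 𝒮 → Ŝ and a degree-one global section z, polynomial over every affine open),
Ĉ = Proj(Ŝ) its relative homogeneous spectrum with charts, and i : C → Ĉ the canonical open
immersion. Then the open subset of Ĉ which is the union, over the affine opens U of Y, of the chart
images of the opens of Proj Ŝ(U) where the morphism induced by ι(U) : 𝒮(U) → Ŝ(U) is defined (the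
complement of V_+ of the ideal generated by ι(𝒮(U)_+)) has underlying set exactly the complement of
i(ε(Y)): the pointed projective cone Ê is Ĉ minus its vertex section. -/
theorem result {Y PC : Scheme.{u}} (𝒮 𝒮h : RelProj.QCGrAlg Y) (h0 : RelCone.StrZeroBij 𝒮)
    (ι : 𝒮.toQCAlg ⟶ 𝒮h.toQCAlg) (z : 𝒮h.presheaf.obj (op ⊤)) (hz : RelCone.IsPolyOver 𝒮 𝒮h ι z)
    (pC : PC ⟶ Y)
    (chartC : ∀ (U : Y.Opens) (hU : IsAffineOpen U), (((pC ⁻¹ᵁ U : PC.Opens) : Scheme.{u}) ≅ Proj (𝒮h.deg U hU)))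
    (hPC : RelProj.IsRelProj 𝒮h pC chartC)
    (aug : 𝒮.toQCAlg ⟶ RelSpec.QCAlg.unit Y) (haug : RelCone.IsAugmentation 𝒮 aug)
    (ε : Y ⟶ 𝒮.toQCAlg.spec) (hε : RelCone.IsVertex 𝒮 aug ε)
    (i : 𝒮.toQCAlg.spec ⟶ PC) (hi : RelCone.IsConeImm 𝒮 hz pC chartC i) :
    ((RelCone.pointedProjCone 𝒮 hz pC chartC : PC.Opens) : Set PC) = (Set.range (ε ≫ i).base)ᶜ := by
  ext w
  rw [Set.mem_compl_iff]
  constructor
  · rintro hw ⟨y, hy⟩
    obtain ⟨U, (hU : IsAffineOpen U), hyU, -⟩ := Opens.isBasis_iff_nbhd.1 Y.isBasis_affineOpens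
      (show y ∈ (⊤ : Y.Opens) from trivial)
    have hyr : y ∈ Set.range hU.fromSpec := by rw [hU.range_fromSpec]; exact hyU
    obtain ⟨y', rfl⟩ := hyr
    have e1 : (ε ≫ i) (hU.fromSpec y') =
        i (𝒮.toQCAlg.ι U hU (Spec.map (aug.hom.app (op U)) y')) := by
      rw [Scheme.Hom.comp_apply, ← Scheme.Hom.comp_apply hU.fromSpec ε, hε.chart U hU]
      rfl
    have h2 : 𝒮.toQCAlg.ι U hU (Spec.map (aug.hom.app (op U)) y') ∈ RelCone.pointedCone 𝒮 := by
      rw [← preimage_pointedProjCone hz pC chartC hPC i hi]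
      change i _ ∈ RelCone.pointedProjCone 𝒮 hz pC chartC
      rw [← e1, hy]
      exact hw
    rw [ι_mem_pointedCone_iff] at h2
    obtain ⟨d, hd, f, hf, hfx⟩ := (Groth.Agent.Lib.Helper28.ConeRing.mem_vertexCompl_iff _).1 h2
    apply hfx
    change (aug.hom.app (op U)).hom f ∈ y'.asIdeal
    rw [aug_irrelevant 𝒮 aug haug U hU f (HomogeneousIdeal.mem_irrelevant_of_mem _ hd hf)]
    exact zero_mem _
  · intro hw
    by_contra hwE
    apply hw
    obtain ⟨U, (hU : IsAffineOpen U), hwU, -⟩ := Opens.isBasis_iff_nbhd.1 Y.isBasis_affineOpens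
      (show pC w ∈ (⊤ : Y.Opens) from trivial)
    obtain ⟨w', rfl⟩ := (mem_range_emb pC chartC U hU w).2 hwU
    have hwE' : w' ∉ RelCone.domOpen (χ hz U hU) := fun h =>
      hwE ((emb_mem_pointedProjCone_iff hz pC chartC hPC U hU w').2 h)
    obtain ⟨x, hx, hxw⟩ := Groth.Agent.Lib.Helper28.ConeRing.exists_pt (χ hz U hU) _ (hz.deg_z U hU) _
      (ha0 hz U hU) (bij_ev hz U hU) w' hwE'
    refine ⟨hU.fromSpec (Spec.map (𝒮.str.app (op U)) x), ?_⟩
    have e1 : (ε ≫ i) (hU.fromSpec (Spec.map (𝒮.str.app (op U)) x)) =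
        i (𝒮.toQCAlg.ι U hU (Spec.map (aug.hom.app (op U)) (Spec.map (𝒮.str.app (op U)) x))) := by
      rw [Scheme.Hom.comp_apply, ← Scheme.Hom.comp_apply hU.fromSpec ε, hε.chart U hU]
      rfl
    rw [e1, vertex_point 𝒮 h0 aug haug U hU x hx, i_ι_apply hz pC chartC i hi]
    exact congrArg _ hxw

end Groth.Agent.S8298
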