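import Groth.Statements.S8300
import Groth.Agent.Lib.Helper28.ConeImm

set_option autoImplicit false
universe u
open CategoryTheory CategoryTheory.Limits AlgebraicGeometry Opposite TopologicalSpace
open scoped HomogeneousIdeal
noncomputable section
open EGA2

namespace Groth.Agent.S8300

open Groth.Agent.Lib.Helper28.ConeImm Groth.Agent.Lib.Helper28.ConeRing
open Groth.Agent.Lib.Helper28.ProjQ (mem_dom_iff)

section ring
variable {A : Type u} [CommRing A] {𝒜 : ℕ → AddSubgroup A} [GradedRing 𝒜]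

/-- the homogeneous core of a prime of the pointed cone is a point of `Proj` -/
def corePt (x : Spec (CommRingCat.of A))
    (hx : x ∈ RelCone.vertexCompl (R := CommRingCat.of A) 𝒜) : Proj 𝒜 where
  asHomogeneousIdeal := x.asIdeal.homogeneousCore 𝒜
  isPrime := Ideal.IsPrime.homogeneousCore x.isPrime
  not_irrelevant_le := by
    intro h
    apply hx
    intro f hf
    exact Ideal.toIdeal_homogeneousCore_le 𝒜 _ (h hf)

theorem mem_corePt_iff (x : Spec (CommRingCat.of A))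
    (hx : x ∈ RelCone.vertexCompl (R := CommRingCat.of A) 𝒜) {d : ℕ} {f : A} (hf : f ∈ 𝒜 d) :
    f ∈ (corePt x hx).asHomogeneousIdeal ↔ f ∈ x.asIdeal := by
  constructor
  · intro h
    exact Ideal.toIdeal_homogeneousCore_le 𝒜 _ h
  · intro h
    exact Ideal.mem_homogeneousCore_of_homogeneous_of_mem ⟨d, hf⟩ h

/-- the prime of the pointed cone attached to a point of `Proj` -/
def primePt (w : Proj 𝒜) : Spec (CommRingCat.of A) :=
  ⟨w.asHomogeneousIdeal.toIdeal, w.isPrime⟩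

theorem primePt_mem (w : Proj 𝒜) : primePt w ∈ RelCone.vertexCompl (R := CommRingCat.of A) 𝒜 := by
  intro h
  exact w.not_irrelevant_le h

end ring

/-- Let q : Y' → Y be a morphism of schemes, 𝒮 and 𝒮' quasi-coherent positively graded algebras over O_Y
and O_{Y'} with 𝒮_0 = O_Y and 𝒮'_0 = O_{Y'}, and φ : 𝒮 → q_*𝒮' a graded q-morphism (a map of sheaves
of rings compatible with the structure maps through q^♯, whose components 𝒮(U) → 𝒮'(U') for affine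
opens U' ⊆ q⁻¹(U) preserve degrees, recorded as graded ring homomorphisms); let C = Spec(𝒮), C' =
Spec(𝒮') be the affine cones and Φ : C' → C the morphism Spec(φ), i.e. the morphism which on the
charts over affine opens U' ⊆ q⁻¹(U) is Spec of 𝒮(U) → 𝒮'(U'); let E ⊆ C and E' ⊆ C' be the pointed
affine cones (defined chart by chart as the complements of V(𝒮(U)_+), resp. V(𝒮'(U')_+)). Then
Proj(φ) is everywhere defined, which here means that for all affine opens U' ⊆ q⁻¹(U) the open of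
Proj 𝒮'(U') where the morphism induced by 𝒮(U) → 𝒮'(U') is defined (the complement of V_+ of the
ideal generated by the image of the irrelevant ideal of 𝒮(U)) is the whole of Proj 𝒮'(U'), if and
only if the inverse image of E under Φ equals E'. -/
theorem result {Y Y' : Scheme.{u}} (q : Y' ⟶ Y) (𝒮 : RelProj.QCGrAlg Y) (𝒮' : RelProj.QCGrAlg Y')
    (h0 : RelCone.StrZeroBij 𝒮) (h0' : RelCone.StrZeroBij 𝒮')
    (u : 𝒮.presheaf ⟶ q.base _* 𝒮'.presheaf)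
    (hu : 𝒮.str ≫ u = q.c ≫ (TopCat.Presheaf.pushforward CommRingCat.{u} q.base).map 𝒮'.str)
    (φ : ∀ (U : Y.Opens) (hU : IsAffineOpen U) (U' : Y'.Opens) (hU' : IsAffineOpen U') (_ : U' ≤ q ⁻¹ᵁ U),
      𝒮.deg U hU →+*ᵍ 𝒮'.deg U' hU')
    (hφ : ∀ (U : Y.Opens) (hU : IsAffineOpen U) (U' : Y'.Opens) (hU' : IsAffineOpen U') (hle : U' ≤ q ⁻¹ᵁ U),
      (φ U hU U' hU' hle).toRingHom =
        ((u.app (op U) : 𝒮.presheaf.obj (op U) ⟶ 𝒮'.presheaf.obj (op (q ⁻¹ᵁ U))) ≫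
          𝒮'.presheaf.map (homOfLE hle).op).hom)
    (Φ : 𝒮'.toQCAlg.spec ⟶ 𝒮.toQCAlg.spec)
    (hΦ : ∀ (U : Y.Opens) (hU : IsAffineOpen U) (U' : Y'.Opens) (hU' : IsAffineOpen U') (hle : U' ≤ q ⁻¹ᵁ U),
      𝒮'.toQCAlg.ι U' hU' ≫ Φ =
        Spec.map ((u.app (op U) : 𝒮.presheaf.obj (op U) ⟶ 𝒮'.presheaf.obj (op (q ⁻¹ᵁ U))) ≫
          𝒮'.presheaf.map (homOfLE hle).op) ≫ 𝒮.toQCAlg.ι U hU) :
    (∀ (U : Y.Opens) (hU : IsAffineOpen U) (U' : Y'.Opens) (hU' : IsAffineOpen U') (hle : U' ≤ q ⁻¹ᵁ U),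
        RelCone.domOpen (φ U hU U' hU' hle) = ⊤) ↔
      Φ ⁻¹ᵁ RelCone.pointedCone 𝒮 = RelCone.pointedCone 𝒮' := by
  -- pointwise description of `Φ` on a chart
  have hΦpt : ∀ (U : Y.Opens) (hU : IsAffineOpen U) (U' : Y'.Opens) (hU' : IsAffineOpen U')
      (hle : U' ≤ q ⁻¹ᵁ U) (x' : Spec (𝒮'.presheaf.obj (op U'))),
      Φ (𝒮'.toQCAlg.ι U' hU' x') = 𝒮.toQCAlg.ι U hU
        (Spec.map ((u.app (op U) : 𝒮.presheaf.obj (op U) ⟶ 𝒮'.presheaf.obj (op (q ⁻¹ᵁ U))) ≫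
          𝒮'.presheaf.map (homOfLE hle).op) x') := by
    intro U hU U' hU' hle x'
    rw [← Scheme.Hom.comp_apply, hΦ U hU U' hU' hle]
    rfl
  have hmem : ∀ (U : Y.Opens) (hU : IsAffineOpen U) (U' : Y'.Opens) (hU' : IsAffineOpen U')
      (hle : U' ≤ q ⁻¹ᵁ U) (x' : Spec (𝒮'.presheaf.obj (op U'))) (f : 𝒮.presheaf.obj (op U)),
      f ∈ (Spec.map ((u.app (op U) : 𝒮.presheaf.obj (op U) ⟶ 𝒮'.presheaf.obj (op (q ⁻¹ᵁ U))) ≫
          𝒮'.presheaf.map (homOfLE hle).op) x').asIdeal ↔ φ U hU U' hU' hle f ∈ x'.asIdeal := by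
    intro U hU U' hU' hle x' f
    have e : φ U hU U' hU' hle f =
        ((u.app (op U) : 𝒮.presheaf.obj (op U) ⟶ 𝒮'.presheaf.obj (op (q ⁻¹ᵁ U))) ≫
          𝒮'.presheaf.map (homOfLE hle).op).hom f :=
      congrArg (fun k => k f) (hφ U hU U' hU' hle)
    rw [e]
    rfl
  -- the key equivalence on a chart
  have key : ∀ (U : Y.Opens) (hU : IsAffineOpen U) (U' : Y'.Opens) (hU' : IsAffineOpen U')
      (hle : U' ≤ q ⁻¹ᵁ U) (x' : Spec (𝒮'.presheaf.obj (op U'))),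
      Φ (𝒮'.toQCAlg.ι U' hU' x') ∈ RelCone.pointedCone 𝒮 ↔
        ∃ d : ℕ, 0 < d ∧ ∃ f ∈ 𝒮.deg U hU d, φ U hU U' hU' hle f ∉ x'.asIdeal := by
    intro U hU U' hU' hle x'
    rw [hΦpt U hU U' hU' hle x', ι_mem_pointedCone_iff]
    refine (mem_vertexCompl_iff _).trans ?_
    constructor
    · rintro ⟨d, hd, f, hf, hfx⟩
      exact ⟨d, hd, f, hf, fun h => hfx ((hmem U hU U' hU' hle x' f).2 h)⟩
    · rintro ⟨d, hd, f, hf, hfx⟩
      exact ⟨d, hd, f, hf, fun h => hfx ((hmem U hU U' hU' hle x' f).1 h)⟩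
  constructor
  · intro H
    ext c'
    obtain ⟨U, (hU : IsAffineOpen U), hcU, -⟩ := Opens.isBasis_iff_nbhd.1 Y.isBasis_affineOpens
      (show q (𝒮'.toQCAlg.π c') ∈ (⊤ : Y.Opens) from trivial)
    obtain ⟨U', (hU' : IsAffineOpen U'), hcU', hle⟩ :=
      Opens.isBasis_iff_nbhd.1 Y'.isBasis_affineOpens
        (show 𝒮'.toQCAlg.π c' ∈ q ⁻¹ᵁ U from hcU)
    obtain ⟨x', rfl⟩ := (mem_range_ι_iff 𝒮' hU' c').2 hcU'
    change Φ (𝒮'.toQCAlg.ι U' hU' x') ∈ RelCone.pointedCone 𝒮 ↔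
      𝒮'.toQCAlg.ι U' hU' x' ∈ RelCone.pointedCone 𝒮'
    rw [key U hU U' hU' hle x', ι_mem_pointedCone_iff]
    constructor
    · rintro ⟨d, hd, f, hf, hfx⟩
      exact (mem_vertexCompl_iff _).2 ⟨d, hd, _, (φ U hU U' hU' hle).2 hf, hfx⟩
    · intro hx'
      have hw : corePt x' hx' ∈ RelCone.domOpen (φ U hU U' hU' hle) := by
        rw [H U hU U' hU' hle]; trivial
      obtain ⟨d, hd, f, hf, hfw⟩ := (mem_dom_iff _ _).1 hw
      exact ⟨d, hd, f, hf, fun h => hfw ((mem_corePt_iff x' hx' ((φ U hU U' hU' hle).2 hf)).2 h)⟩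
  · intro H U hU U' hU' hle
    rw [eq_top_iff]
    intro w _
    have h1 : 𝒮'.toQCAlg.ι U' hU' (primePt w) ∈ RelCone.pointedCone 𝒮' :=
      (ι_mem_pointedCone_iff 𝒮' hU' _).2 (primePt_mem w)
    rw [← H] at h1
    have h2 : Φ (𝒮'.toQCAlg.ι U' hU' (primePt w)) ∈ RelCone.pointedCone 𝒮 := h1
    rw [key U hU U' hU' hle] at h2
    obtain ⟨d, hd, f, hf, hfw⟩ := h2
    exact (mem_dom_iff _ _).2 ⟨d, hd, f, hf, hfw⟩

end Groth.Agent.S8300
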