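import Groth.Statements.S8316
import Groth.Agent.Lib.Helper29.FilColimSecAff

set_option autoImplicit false
universe u
open CategoryTheory CategoryTheory.Limits AlgebraicGeometry Opposite TopologicalSpace
noncomputable section
open EGA2

namespace Groth.Agent.S8316



open Groth.Agent.Lib.Helper29.FilColimSec Groth.Agent.Lib.Helper27.ExtFilt in
theorem aux {X S : Scheme.{u}} (f : X ⟶ S) [IsAffineHom f]
    {J : Type u} [SmallCategory J] [IsFiltered J]
    (D : J ⥤ X.Modules) :
    IsIso (colimit.desc (D ⋙ AMod.dirImg f) ((AMod.dirImg f).mapCocone (colimit.cocone D))) := by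
  set R := AMod.ringSheaf (RelSpec.QCAlg.directImage f) with hR
  set φ := colimit.desc (D ⋙ AMod.dirImg f) ((AMod.dirImg f).mapCocone (colimit.cocone D)) with hφ
  haveI : (SheafOfModules.toSheaf.{u} R).ReflectsIsomorphisms := inferInstance
  suffices h : IsIso ((SheafOfModules.toSheaf.{u} R).map φ) from
    isIso_of_reflects_iso φ (SheafOfModules.toSheaf.{u} R)
  have hB : Opens.IsBasis (Set.range (fun V : S.affineOpens => (V : S.Opens))) := by
    rw [Subtype.range_coe]; exact S.isBasis_affineOpens
  refine TopCat.Sheaf.isIso_iff_isIso_basis (B := fun V : S.affineOpens => (V : S.Opens)) hB (fun V => ?_)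
  rw [ConcreteCategory.isIso_iff_bijective]
  have hVa : IsAffineOpen (f ⁻¹ᵁ (V : S.Opens)) := V.2.preimage f
  -- the colimit cocone of abelian sheaves on `S`
  have h2 : PreservesColimit (D ⋙ AMod.dirImg f) (SheafOfModules.toSheaf.{u} R) :=
    (Groth.Agent.Lib.lead.SheafModRestrict.toSheaf_preservesColimitsOfShape R J).preservesColimit
  have hc' := @isColimitOfPreserves _ _ _ _ _ _ _ (SheafOfModules.toSheaf.{u} R) _
    (colimit.isColimit (D ⋙ AMod.dirImg f)) h2
  have hφι : ∀ j, colimit.ι (D ⋙ AMod.dirImg f) j ≫ φ = (AMod.dirImg f).map (colimit.ι D j) := fun j => by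
    rw [hφ, colimit.ι_desc]; rfl
  have hφι' : ∀ j (s : ((SheafOfModules.toSheaf.{u} R).obj ((D ⋙ AMod.dirImg f).obj j)).obj.obj (op (V : S.Opens))),
      ((SheafOfModules.toSheaf.{u} R).map φ).hom.app (op (V : S.Opens))
        (((SheafOfModules.toSheaf.{u} R).map (colimit.ι (D ⋙ AMod.dirImg f) j)).hom.app (op (V : S.Opens)) s) =
      ((SheafOfModules.toSheaf.{u} R).map ((AMod.dirImg f).map (colimit.ι D j))).hom.app (op (V : S.Opens)) s := fun j s => by
    have := congrArg (fun ψ : (D ⋙ AMod.dirImg f).obj j ⟶ (AMod.dirImg f).obj (colimit D) =>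
      ((SheafOfModules.toSheaf.{u} R).map ψ).hom.app (op (V : S.Opens)) s) (hφι j)
    exact this
  constructor
  · rw [injective_iff_map_eq_zero]
    intro x hx
    obtain ⟨j, s, hs⟩ := sections_surj (F := (D ⋙ AMod.dirImg f) ⋙ SheafOfModules.toSheaf.{u} R) hc'
      (isQCQSSite_of_isAffineOpen V.2) x
    have hs' : ((SheafOfModules.toSheaf.{u} R).map (colimit.ι (D ⋙ AMod.dirImg f) j)).hom.app (op (V : S.Opens)) s = x := hs
    rw [← hs', hφι' j s] at hx
    obtain ⟨k, w, hw⟩ := sec_inj (colimit.isColimit D) (f ⁻¹ᵁ (V : S.Opens)) hVa.isCompact j s hx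
    rw [← hs']
    have hww : (D ⋙ AMod.dirImg f).map w ≫ colimit.ι (D ⋙ AMod.dirImg f) k = colimit.ι (D ⋙ AMod.dirImg f) j :=
      colimit.w (D ⋙ AMod.dirImg f) w
    have := congrArg (fun ψ : (D ⋙ AMod.dirImg f).obj j ⟶ colimit (D ⋙ AMod.dirImg f) =>
      ((SheafOfModules.toSheaf.{u} R).map ψ).hom.app (op (V : S.Opens)) s) hww
    refine this.symm.trans ?_
    change ((SheafOfModules.toSheaf.{u} R).map (colimit.ι (D ⋙ AMod.dirImg f) k)).hom.app (op (V : S.Opens))
      ((D.map w).app (f ⁻¹ᵁ (V : S.Opens)) s) = 0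
    rw [hw]
    exact map_zero _
  · intro t
    obtain ⟨j, s, hs⟩ := sec_surj_affine (colimit.isColimit D) hVa t
    exact ⟨((SheafOfModules.toSheaf.{u} R).map (colimit.ι (D ⋙ AMod.dirImg f) j)).hom.app (op (V : S.Opens)) s,
      (hφι' j s).trans hs⟩

/-- Commutation with inductive limits: in the form it takes for the direct image: let f : X → S be an
affine morphism and (F_j)_{j ∈ J} an inductive system of quasi-coherent O_X-modules indexed by a
nonempty directed preordered set J. Then the canonical morphism from the inductive limit of the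
f_*F_j to f_*(lim→ F_j), in the category of modules over the direct-image algebra f_*O_X, is an
isomorphism. (The published statement says that the module on X attached to a quasi-coherent
f_*O_X-module commutes with inductive limits; through the equivalence on quasi-coherent modules this
is the direct image commuting with inductive limits of quasi-coherent modules.) -/
theorem result {X S : Scheme.{u}} (f : X ⟶ S) [IsAffineHom f]
    {J : Type u} [Preorder J] [Nonempty J] [IsDirected J (fun a b => a ≤ b)]
    (D : J ⥤ X.Modules) (hD : ∀ j, Coh.IsQCoh (D.obj j)) :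
    IsIso (colimit.desc (D ⋙ AMod.dirImg f) ((AMod.dirImg f).mapCocone (colimit.cocone D))) := by
  exact aux f D



end Groth.Agent.S8316
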