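import Groth.Statements.S8317
import Groth.Agent.Lib.Helper28.ConeNormalC

set_option autoImplicit false
universe u
open CategoryTheory CategoryTheory.Limits AlgebraicGeometry Opposite TopologicalSpace
open scoped HomogeneousIdeal
noncomputable section
open EGA2

namespace Groth.Agent.S8317

/-- Let f : X → Y be a separated quasi-compact morphism such that f^♯ : O_Y → f_*O_X is an isomorphism,
L an invertible O_X-module, V = V(L) = Spec(Sym L) its line bundle with projection π : V → X, and C
= Spec((f∘π)_*O_V) the relative spectrum over Y of the direct-image algebra of f∘π. (The published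
statement takes C to be the affine cone Spec(O_Y ⊕ ⊕_{n≥1} f_*(L^{⊗n})); when f^♯ is an isomorphism
that cone is this relative spectrum.) Then: if X is integral, C is integral; and if X is locally
integral (every point has an integral open neighbourhood) and normal (all local rings integrally
closed domains), then C is normal. -/
theorem result {X Y : Scheme.{u}} (f : X ⟶ Y) [IsSeparated f] [QuasiCompact f]
    (hlam : IsIso f.c) (L : X.Modules) (hL : PicF.IsInvertible L) (hLq : Coh.IsQCoh L)
    (𝒜 : RelSpec.QCAlg X) (jL : L ⟶ 𝒜.toModule) (hA : RelSpec.IsSymAlg L 𝒜 jL) :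
    (IsIntegral X → IsIntegral (RelSpec.QCAlg.directImage (𝒜.π ≫ f)).spec) ∧
      ((∀ x : X, ∃ U : X.Opens, x ∈ U ∧ IsIntegral (U : Scheme.{u})) → Pi1.IsNormalScheme X →
        Pi1.IsNormalScheme (RelSpec.QCAlg.directImage (𝒜.π ≫ f)).spec) := by
  classical
  haveI : L.IsQuasicoherent := hLq
  refine ⟨fun hX => ?_, fun hLI hX => ?_⟩
  · haveI := hX
    haveI := Groth.Agent.Lib.Helper28.ConeNormal.isIntegral_spec' hA hL
    exact Groth.Agent.Lib.Helper28.ConeNormal.isIntegral_spec_directImage (𝒜.π ≫ f)
  · exact Groth.Agent.Lib.Helper28.ConeNormal.isNormalScheme_spec_directImage (𝒜.π ≫ f)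
      (Groth.Agent.Lib.Helper28.ConeNormal.locInt_spec hA hL hLI)
      (Groth.Agent.Lib.Helper28.ConeNormal.isNormalScheme_spec hA hL hLI hX)

end Groth.Agent.S8317
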