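import Groth.Statements.S8325
import Groth.Agent.Lib.Helper28.RelTildeFin

set_option autoImplicit false
universe u
open CategoryTheory CategoryTheory.Limits AlgebraicGeometry Opposite TopologicalSpace
open scoped HomogeneousIdeal
noncomputable section
open EGA2

open Groth.Agent.Lib.Helper28

namespace Groth.Agent.S8325

/-- Let 𝒮 be a quasi-coherent positively graded O_Y-algebra generated by 𝒮_1, with 𝒮_1 of finite type,
and ℳ a quasi-coherent graded 𝒮-module satisfying (TF). Then the module ℳ~ on P = Proj(𝒮) (given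
through its chartwise identifications) is of finite type. -/
theorem result {Y P : Scheme.{u}} (𝒮 : RelProj.QCGrAlg Y) (p : P ⟶ Y)
    (chart : ∀ (U : Y.Opens) (hU : IsAffineOpen U), (((p ⁻¹ᵁ U : P.Opens) : Scheme.{u}) ≅ Proj (𝒮.deg U hU)))
    (hP : RelProj.IsRelProj 𝒮 p chart) (hgen : 𝒮.IsGenDegOne) (hft : 𝒮.IsFTDeg 1)
    (ℳ : RelProj.GrModule 𝒮) (hℳ : Coh.IsQCoh ((AMod.toOS 𝒮.toQCAlg).obj ℳ.mod)) (hTF : ℳ.IsTF) (F : P.Modules)
    (lam : ∀ (U : Y.Opens) (hU : IsAffineOpen U),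
      F ⟶ (Scheme.Modules.pushforward (RelProj.emb p chart U hU)).obj (GrMod.tilde (𝒮.deg U hU) (ℳ.deg U hU) 0))
    (hF : RelProj.IsRelTilde 𝒮 p chart ℳ 0 F lam) : CohB1.IsFT F := by
  haveI : ∀ i : Y.affineOpens, (GrMod.tilde (𝒮.deg i.1 i.2) (ℳ.deg i.1 i.2) 0).IsQuasicoherent :=
    fun i => GrModQC.isQuasicoherent_tilde (𝒮.deg i.1 i.2) (ℳ.deg i.1 i.2) 0
  haveI : F.IsQuasicoherent :=
    QCohLoc.isQuasicoherent_of_charts F (fun i : Y.affineOpens => Proj (𝒮.deg i.1 i.2))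
      (fun i => RelProj.emb p chart i.1 i.2) (fun i => GrMod.tilde (𝒮.deg i.1 i.2) (ℳ.deg i.1 i.2) 0)
      (fun i => lam i.1 i.2)
      (fun i W hW => hF.bijective i.1 i.2 W (hW.trans (RelProjQC.opensRange_emb p chart i.1 i.2).le))
      (RelProjQC.exists_mem_opensRange_emb p chart)
  obtain ⟨n, hn⟩ := hTF
  refine QCohLoc.isFiniteType_of_charts F (fun i : Y.affineOpens => Proj (𝒮.deg i.1 i.2))
    (fun i => RelProj.emb p chart i.1 i.2) (fun i => GrMod.tilde (𝒮.deg i.1 i.2) (ℳ.deg i.1 i.2) 0)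
    (fun i => lam i.1 i.2)
    (fun i W hW => hF.bijective i.1 i.2 W (hW.trans (RelProjQC.opensRange_emb p chart i.1 i.2).le))
    (κ := fun i => {f : 𝒮.presheaf.obj (op i.1) // f ∈ 𝒮.deg i.1 i.2 1})
    (fun i f => Proj.basicOpen (𝒮.deg i.1 i.2) f.1)
    (fun i f => Proj.isAffineOpen_basicOpen _ f.1 f.2 one_pos)
    ?_ (fun i f => GrModFin.finite_basicOpen_of_fg _ _ f.2 n (hn i.1 i.2))
  intro x
  obtain ⟨i, y, rfl⟩ := RelProjQC.exists_mem_opensRange_emb p chart x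
  obtain ⟨f, hf, hy⟩ := GrModFin.exists_deg_one_mem_basicOpen (𝒮.deg i.1 i.2) (hgen i.1 i.2) y
  exact ⟨i, ⟨f, hf⟩, ⟨y, hy, rfl⟩⟩

end Groth.Agent.S8325
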