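import Groth.Statements.S8333
import Groth.Agent.Lib.Helper28.RelTwistPow
import Groth.Agent.Lib.Helper28.RelProjGen1
import Groth.Agent.Lib.Helper28.CounitSerre

set_option autoImplicit false
universe u
open CategoryTheory CategoryTheory.Limits AlgebraicGeometry Opposite TopologicalSpace
open scoped HomogeneousIdeal
noncomputable section
open EGA2

open Groth.Agent.Lib.Helper28

namespace Groth.Agent.S8333

/-- Let Y be a scheme with quasi-compact underlying space, 𝒮 a quasi-coherent positively graded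
O_Y-algebra generated by 𝒮_1 with 𝒮_1 of finite type, p : P = Proj(𝒮) → Y, and F a quasi-coherent
O_P-module of finite type. Then there is n₀ such that for all n ≥ n₀ the canonical morphism
p^*(p_*(F(n))) → F(n) is an epimorphism, where F(n) = F ⊗ O_P(n) with O_P(n) given through its
chartwise identifications. -/
theorem result {Y P : Scheme.{u}} (𝒮 : RelProj.QCGrAlg Y) (p : P ⟶ Y)
    (chart : ∀ (U : Y.Opens) (hU : IsAffineOpen U), (((p ⁻¹ᵁ U : P.Opens) : Scheme.{u}) ≅ Proj (𝒮.deg U hU)))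
    (hP : RelProj.IsRelProj 𝒮 p chart) [CompactSpace Y] (hgen : 𝒮.IsGenDegOne)
    (hft : 𝒮.IsFTDeg 1) (F : P.Modules) (hFq : Coh.IsQCoh F) (hFt : CohB1.IsFT F) :
    ∃ n₀ : ℤ, ∀ (n : ℤ), n₀ ≤ n → ∀ (L : P.Modules)
      (lam : ∀ (U : Y.Opens) (hU : IsAffineOpen U),
      L ⟶ (Scheme.Modules.pushforward (RelProj.emb p chart U hU)).obj (GrTwist.twist (𝒮.deg U hU) n)),
      RelProj.IsRelTwist 𝒮 p chart n L lam →
        Epi ((Scheme.Modules.pullbackPushforwardAdjunction p).counit.app (CohB1.tensorMod F L)) := by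
  classical
  obtain ⟨hinv, hamp⟩ := RelProjGen1.isInvertible_and_isRelAmple hgen hft (RelTwistEx.isRelTwist hP 1)
  haveI : QuasiCompact p := RelProjGen1.quasiCompact hgen hft chart
  obtain ⟨N, hN⟩ := CounitSerre.exists_forall_epi_counit p (RelTwistEx.L 𝒮 p chart hP 1) hamp F ⟨hFq, hFt⟩
  refine ⟨(N : ℤ), fun n hn L lam hL => ?_⟩
  obtain ⟨k, rfl⟩ : ∃ k : ℕ, n = k := Int.eq_ofNat_of_zero_le (le_trans (Int.natCast_nonneg N) hn)
  have hk : N ≤ k := by exact_mod_cast hn
  obtain ⟨e⟩ := RelTwistPow.nonempty_tensorPow_iso hP hgen (RelTwistEx.isRelTwist hP 1) k L lam hL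
  have hepi := hN k hk
  have nat := (Scheme.Modules.pullbackPushforwardAdjunction p).counit.naturality
    (PicGrp.tensorModIso (Iso.refl F) e).hom
  have h2 : Epi ((Scheme.Modules.pullbackPushforwardAdjunction p).counit.app
      (CohB1.tensorMod F (CohB1.tensorPow (RelTwistEx.L 𝒮 p chart hP 1) k)) ≫
      (𝟭 P.Modules).map (PicGrp.tensorModIso (Iso.refl F) e).hom) := by
    haveI : Epi ((𝟭 P.Modules).map (PicGrp.tensorModIso (Iso.refl F) e).hom) := by
      show Epi (PicGrp.tensorModIso (Iso.refl F) e).hom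
      infer_instance
    exact epi_comp _ _
  rw [← nat] at h2
  exact @epi_of_epi _ _ _ _ _ _ _ h2

end Groth.Agent.S8333
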