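import Groth.Statements.S8336
import Groth.Agent.Lib.Helper28.RelTwistVal
import Groth.Agent.Lib.Helper28.GenIso
import Groth.Agent.Lib.Helper28.InvTensor

set_option autoImplicit false
universe u
open CategoryTheory CategoryTheory.Limits AlgebraicGeometry Opposite TopologicalSpace
open scoped HomogeneousIdeal
noncomputable section
open EGA2

open Groth.Agent.Lib.Helper28 Groth.Agent.Lib.Helper28.QCohLoc

namespace Groth.Agent.S8336

/-- If the quasi-coherent positively graded O_Y-algebra 𝒮 is generated by 𝒮_1, then on P = Proj(𝒮) the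
tensor product O_P(m) ⊗ O_P(n) is isomorphic to O_P(m + n) for all integers m, n, the twisting
sheaves being given through their chartwise identifications (existence of an isomorphism only; the
published isomorphism is the canonical multiplication map). -/
theorem result {Y P : Scheme.{u}} (𝒮 : RelProj.QCGrAlg Y) (p : P ⟶ Y)
    (chart : ∀ (U : Y.Opens) (hU : IsAffineOpen U), (((p ⁻¹ᵁ U : P.Opens) : Scheme.{u}) ≅ Proj (𝒮.deg U hU)))
    (hP : RelProj.IsRelProj 𝒮 p chart) (hgen : 𝒮.IsGenDegOne) (m n : ℤ)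
    (L : P.Modules)
    (lam : ∀ (U : Y.Opens) (hU : IsAffineOpen U),
      L ⟶ (Scheme.Modules.pushforward (RelProj.emb p chart U hU)).obj (GrTwist.twist (𝒮.deg U hU) m))
    (hL : RelProj.IsRelTwist 𝒮 p chart m L lam) (L' : P.Modules)
    (lam' : ∀ (U : Y.Opens) (hU : IsAffineOpen U),
      L' ⟶ (Scheme.Modules.pushforward (RelProj.emb p chart U hU)).obj (GrTwist.twist (𝒮.deg U hU) n))
    (hL' : RelProj.IsRelTwist 𝒮 p chart n L' lam') (L'' : P.Modules)
    (lam'' : ∀ (U : Y.Opens) (hU : IsAffineOpen U),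
      L'' ⟶ (Scheme.Modules.pushforward (RelProj.emb p chart U hU)).obj (GrTwist.twist (𝒮.deg U hU) (m + n)))
    (hL'' : RelProj.IsRelTwist 𝒮 p chart (m + n) L'' lam'') :
    Nonempty (CohB1.tensorMod L L' ≅ L'') := by
  classical
  -- index: an affine open and a section of degree one
  let ι := Σ V : Y.affineOpens, {F : 𝒮.presheaf.obj (op V.1) // F ∈ 𝒮.deg V.1 V.2 1}
  let U : ι → P.Opens := fun i =>
    RelProj.emb p chart i.1.1 i.1.2 ''ᵁ Proj.basicOpen (𝒮.deg i.1.1 i.1.2) i.2.1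
  have hUle : ∀ i : ι, U i ≤ p ⁻¹ᵁ i.1.1 := fun i =>
    (Scheme.Hom.image_le_opensRange _ _).trans (RelProjQC.opensRange_emb p chart i.1.1 i.1.2).le
  have hcov : ∀ x : P, ∃ i : ι, x ∈ U i := by
    intro x
    obtain ⟨V, y, hy⟩ := RelProjQC.exists_mem_opensRange_emb p chart x
    obtain ⟨F, hF, hyF⟩ := RelTwistLocal.cover_of_closure (𝒮.deg V.1 V.2) (hgen V.1 V.2) y
    exact ⟨⟨V, F, hF⟩, y, hyF, hy⟩
  have hA : ∀ i : ι, ∃ a : Γ(L, U i), GenLocus.IsGen L (U i) a ∧ RelTwistVal.Reads lam i.1.2 a i.2.1 m :=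
    fun i => RelTwistVal.exists_gen_reads hL i.1.2 i.2.2 Nat.one_pos m (by simp)
  have hB : ∀ i : ι, ∃ b : Γ(L', U i), GenLocus.IsGen L' (U i) b ∧ RelTwistVal.Reads lam' i.1.2 b i.2.1 n :=
    fun i => RelTwistVal.exists_gen_reads hL' i.1.2 i.2.2 Nat.one_pos n (by simp)
  have hC : ∀ i : ι, ∃ c : Γ(L'', U i), GenLocus.IsGen L'' (U i) c ∧
      RelTwistVal.Reads lam'' i.1.2 c i.2.1 (m + n) :=
    fun i => RelTwistVal.exists_gen_reads hL'' i.1.2 i.2.2 Nat.one_pos (m + n) (by simp)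
  choose a ha hra using hA
  choose b hb hrb using hB
  choose c hc hrc using hC
  suffices hcoc : ∀ i j : ι, ∃ u : Γ(P, U i ⊓ U j),
      res (CohB1.tensorMod L L') inf_le_left (TensorGen.tmulSec L L' (a i) (b i)) =
        (u • res (CohB1.tensorMod L L') inf_le_right (TensorGen.tmulSec L L' (a j) (b j)) :
          Γ(CohB1.tensorMod L L', U i ⊓ U j)) ∧
      res L'' inf_le_left (c i) = (u • res L'' inf_le_right (c j) : Γ(L'', U i ⊓ U j)) by
    obtain ⟨ψ, -⟩ := GenLocus.exists_iso_of_cocycle_gen U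
      (fun i => TensorGen.tmulSec L L' (a i) (b i)) c
      (fun i => InvTensor.isGen_tmulSec L L' (ha i) (hb i)) hc hcov hcoc
    exact ⟨ψ⟩
  intro i j
  obtain ⟨u₁, hu₁⟩ := ((ha j) (U i ⊓ U j) inf_le_right).2 (res L inf_le_left (a i))
  obtain ⟨u₂, hu₂⟩ := ((hb j) (U i ⊓ U j) inf_le_right).2 (res L' inf_le_left (b i))
  refine ⟨u₁ * u₂, ?_, ?_⟩
  · rw [TensorGen.tmulSec_res, TensorGen.tmulSec_res, ← hu₁, ← hu₂, TensorGen.tmulSec_smul_left,
      TensorGen.tmulSec_smul_right, mul_smul]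
  · refine RelTwistVal.eq_of_basic_cover hL'' i.1.2 j.1.2 (inf_le_left.trans (hUle i))
      (inf_le_right.trans (hUle j)) _ _ ?_
    intro W hW r r' e e' y hy
    have hle : W ≤ i.1.1 := e ▸ Y.basicOpen_le r
    have hle' : W ≤ j.1.1 := e' ▸ Y.basicOpen_le r'
    obtain ⟨h1, hv1⟩ := (((hrc i).res inf_le_left).basic hP hL'' hW r e hle) y hy
    obtain ⟨h2, hv2⟩ := (((hrc j).res inf_le_right).basic hP hL'' hW r' e' hle') y hy
    obtain ⟨_, hv3⟩ := (((hra i).res inf_le_left).basic hP hL hW r e hle) y hy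
    obtain ⟨_, hv4⟩ := (((hra j).res inf_le_right).basic hP hL hW r' e' hle') y hy
    obtain ⟨_, hv5⟩ := (((hrb i).res inf_le_left).basic hP hL' hW r e hle) y hy
    obtain ⟨_, hv6⟩ := (((hrb j).res inf_le_right).basic hP hL' hW r' e' hle') y hy
    have e1 := congrArg (fun s => RelTwistVal.cv lam hW s y hy) hu₁
    have e2 := congrArg (fun s => RelTwistVal.cv lam' hW s y hy) hu₂
    simp only [RelTwistVal.cv_smul] at e1 e2
    rw [hv3, hv4] at e1
    rw [hv5, hv6] at e2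
    rw [RelTwistVal.cv_smul, RelTwistVal.cvO_mul, hv1, hv2, GrTwistGenVal.pw_add, GrTwistGenVal.pw_add,
      ← e1, ← e2]
    ring

end Groth.Agent.S8336
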