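import Groth.Statements.S8334
import Groth.Agent.Lib.Helper28.RelSerre2
import Groth.Agent.Lib.Helper28.RelProjGen1
import Groth.Agent.Lib.Helper28.RelTwistPow
import Groth.Agent.S8336

set_option autoImplicit false
universe u
open CategoryTheory CategoryTheory.Limits AlgebraicGeometry Opposite TopologicalSpace
open scoped HomogeneousIdeal
noncomputable section
open EGA2

namespace Groth.Agent.S8334

/-- Let Y be a quasi-compact separated scheme, or a scheme with Noetherian underlying space, 𝒮 a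
quasi-coherent positively graded O_Y-algebra generated by 𝒮_1 with 𝒮_1 of finite type, p : P =
Proj(𝒮) → Y, and F a quasi-coherent O_P-module of finite type. Then there is n₀ such that for every
n ≥ n₀, F is a quotient of (p^*G)(−n) = p^*(G) ⊗ O_P(−n) for some quasi-coherent O_Y-module G of
finite type (which may vary with n), O_P(−n) being given through its chartwise identifications. -/
theorem result {Y P : Scheme.{u}} (𝒮 : RelProj.QCGrAlg Y) (p : P ⟶ Y)
    (chart : ∀ (U : Y.Opens) (hU : IsAffineOpen U), (((p ⁻¹ᵁ U : P.Opens) : Scheme.{u}) ≅ Proj (𝒮.deg U hU)))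
    (hP : RelProj.IsRelProj 𝒮 p chart)
    (hY : (CompactSpace Y ∧ Y.IsSeparated) ∨ NoetherianSpace Y) (hgen : 𝒮.IsGenDegOne)
    (hft : 𝒮.IsFTDeg 1) (F : P.Modules) (hFq : Coh.IsQCoh F) (hFt : CohB1.IsFT F) :
    ∃ n₀ : ℤ, ∀ (n : ℤ), n₀ ≤ n → ∀ (L : P.Modules)
      (lam : ∀ (U : Y.Opens) (hU : IsAffineOpen U),
      L ⟶ (Scheme.Modules.pushforward (RelProj.emb p chart U hU)).obj (GrTwist.twist (𝒮.deg U hU) (-n))),
      RelProj.IsRelTwist 𝒮 p chart (-n) L lam →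
        ∃ (G : Y.Modules) (π : CohB1.tensorMod ((Scheme.Modules.pullback p).obj G) L ⟶ F),
          Coh.IsQCoh G ∧ CohB1.IsFT G ∧ Epi π := by
  classical
  obtain ⟨hc, hqs⟩ := Groth.Agent.Lib.Helper28.FTApprox.qcqs_of_base hY
  have : F.IsQuasicoherent := hFq
  have : SheafOfModules.IsFiniteType.{u} (R := P.ringCatSheaf) F := hFt
  obtain ⟨hinv, hamp⟩ := Groth.Agent.Lib.Helper28.RelProjGen1.isInvertible_and_isRelAmple hgen hft
    (Groth.Agent.Lib.Helper28.RelTwistEx.isRelTwist hP 1)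
  have : QuasiCompact p := Groth.Agent.Lib.Helper28.RelProjGen1.quasiCompact hgen hft chart
  obtain ⟨m₀, hm₀⟩ := Groth.Agent.Lib.Helper28.RelSerre.exists_forall_epi_of_isRelAmple p
    (Groth.Agent.Lib.Helper28.RelTwistEx.L 𝒮 p chart hP 1) hinv hamp F
  refine ⟨(m₀ : ℤ), fun n hn L lam hL => ?_⟩
  obtain ⟨m, rfl⟩ : ∃ m : ℕ, n = m := Int.eq_ofNat_of_zero_le (le_trans (Int.natCast_nonneg m₀) hn)
  have hm : m₀ ≤ m := by exact_mod_cast hn
  obtain ⟨G, φ, hGq, hGf, hφ⟩ := hm₀ m hm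
  -- `O(1)^m ⊗ O(-m) ≅ O`
  obtain ⟨e1⟩ := Groth.Agent.Lib.Helper28.RelTwistPow.nonempty_tensorPow_iso hP hgen
    (Groth.Agent.Lib.Helper28.RelTwistEx.isRelTwist hP 1) m _ _
    (Groth.Agent.Lib.Helper28.RelTwistEx.isRelTwist hP (m : ℤ))
  obtain ⟨e2⟩ := Groth.Agent.S8336.result 𝒮 p chart hP hgen (m : ℤ) (-(m : ℤ)) _ _
    (Groth.Agent.Lib.Helper28.RelTwistEx.isRelTwist hP (m : ℤ)) L lam hL _ _
    (Groth.Agent.Lib.Helper28.RelTwistEx.isRelTwist hP ((m : ℤ) + -(m : ℤ)))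
  have key : ∀ k : ℤ, k = 0 → Nonempty (Coh.structureModule P ≅
      Groth.Agent.Lib.Helper28.RelTwistEx.L 𝒮 p chart hP k) := by
    rintro k rfl
    exact Groth.Agent.Lib.Helper28.RelTwistPow.nonempty_unit_iso_of_isRelTwist_zero hP hgen
      (Groth.Agent.Lib.Helper28.RelTwistEx.isRelTwist hP 0)
  obtain ⟨e3⟩ := key ((m : ℤ) + -(m : ℤ)) (add_neg_cancel _)
  obtain ⟨e4⟩ := Groth.Agent.Lib.Helper28.RelSerre.nonempty_tensor_cancel_iso F
    (CohB1.tensorPow (Groth.Agent.Lib.Helper28.RelTwistEx.L 𝒮 p chart hP 1) m) L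
    (PicGrp.tensorModIso e1 (Iso.refl L) ≪≫ e2 ≪≫ e3.symm)
  have hepi : Epi (LimSh.tensorModMap φ L) := Groth.Agent.Lib.Helper28.RelSerre.epi_tensorModMap φ L
  exact ⟨G, LimSh.tensorModMap φ L ≫ e4.hom, hGq, hGf, epi_comp _ _⟩

end Groth.Agent.S8334
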