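import Groth.Statements.S8338
import Groth.Agent.Lib.Helper28.GrSectMod

set_option autoImplicit false
universe u
open CategoryTheory CategoryTheory.Limits AlgebraicGeometry Opposite TopologicalSpace
noncomputable section
open EGA2

namespace Groth.Agent.S8338

open Groth.Agent.Lib.Helper28.GrSect Groth.Agent.Lib.Helper28.GrSectMod

section aux
variable {A σ : Type u} [CommRing A] [SetLike σ A] [AddSubgroupClass σ A] {𝒜 : ℕ → σ} [GradedRing 𝒜]
variable {M₁ τ₁ : Type u} [AddCommGroup M₁] [Module A M₁] [SetLike τ₁ M₁] [AddSubgroupClass τ₁ M₁]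
    (ℳ₁ : ℕ → τ₁) [DirectSum.Decomposition ℳ₁]
    {M₂ τ₂ : Type u} [AddCommGroup M₂] [Module A M₂] [SetLike τ₂ M₂] [AddSubgroupClass τ₂ M₂]
    (ℳ₂ : ℕ → τ₂) [DirectSum.Decomposition ℳ₂]

open DirectSum in
/-- a degree-preserving linear map commutes with the projections to the graded pieces -/
theorem decompose_map (u : M₁ →ₗ[A] M₂) (hu : ∀ (i : ℕ) (m : M₁), m ∈ ℳ₁ i → u m ∈ ℳ₂ i) (m : M₁) (j : ℕ) :
    (decompose ℳ₂ (u m) j : M₂) = u (decompose ℳ₁ m j : M₁) := by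
  classical
  conv_lhs => rw [← DirectSum.sum_support_decompose ℳ₁ m, map_sum, decompose_sum,
    DFinsupp.finsetSum_apply, AddSubmonoidClass.coe_finsetSum]
  by_cases hj : j ∈ (decompose ℳ₁ m).support
  · rw [Finset.sum_eq_single j]
    · rw [decompose_of_mem_same ℳ₂ (hu j _ (SetLike.coe_mem _))]
    · intro k _ hkj
      rw [decompose_of_mem_ne ℳ₂ (hu k _ (SetLike.coe_mem _)) hkj]
    · intro h
      exact absurd hj h
  · rw [Finset.sum_eq_zero]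
    · rw [DFinsupp.notMem_support_iff] at hj
      rw [hj]
      simp
    · intro k hk
      have hkj : k ≠ j := fun h => hj (h ▸ hk)
      rw [decompose_of_mem_ne ℳ₂ (hu k _ (SetLike.coe_mem _)) hkj]

end aux

theorem locMap_mk_pow {A σ : Type u} [CommRing A] [SetLike σ A] [AddSubgroupClass σ A] {𝒜 : ℕ → σ}
    [GradedRing 𝒜] {M₁ M₂ : Type u} [AddCommGroup M₁] [Module A M₁] [AddCommGroup M₂] [Module A M₂]
    (u : M₁ →ₗ[A] M₂) {f : A} {N k : ℕ} {m₁ : M₁} {m₂ : M₂} (hum₁ : u m₁ = f ^ N • m₂)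
    (y : ProjectiveSpectrum 𝒜) (hN : f ^ N ∉ y.asHomogeneousIdeal) (hk : f ^ k ∉ y.asHomogeneousIdeal)
    (hNk : f ^ (N + k) ∉ y.asHomogeneousIdeal) :
    GrMod.locMap u y (LocalizedModule.mk m₁ ⟨f ^ (N + k), hNk⟩) =
      (LocalizedModule.mk m₂ ⟨f ^ k, hk⟩ : GrMod.LocMod 𝒜 (M := M₂) y) := by
  rw [GrMod.locMap_mk, hum₁]
  have := LocalizedModule.mk_cancel_common_left
    (⟨f ^ N, hN⟩ : y.asHomogeneousIdeal.toIdeal.primeCompl) ⟨f ^ k, hk⟩ m₂
  rw [← this]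
  congr 1
  exact Subtype.ext (pow_add f N k)

theorem locMap_comp_eq_zero {A σ : Type u} [CommRing A] [SetLike σ A] [AddSubgroupClass σ A] {𝒜 : ℕ → σ}
    [GradedRing 𝒜] {M₁ M₂ M₃ : Type u} [AddCommGroup M₁] [Module A M₁] [AddCommGroup M₂] [Module A M₂]
    [AddCommGroup M₃] [Module A M₃] (u : M₁ →ₗ[A] M₂) (v : M₂ →ₗ[A] M₃) (hex : Function.Exact u v)
    (y : ProjectiveSpectrum 𝒜) (q : GrMod.LocMod 𝒜 (M := M₁) y) :
    GrMod.locMap v y (GrMod.locMap u y q) = 0 := by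
  induction q using LocalizedModule.induction_on with
  | h m s =>
    rw [GrMod.locMap_mk, GrMod.locMap_mk, hex.apply_apply_eq_zero, LocalizedModule.zero_mk]


/-- For an exact sequence M₁ → M₂ → M₃ of graded S-modules with degree-preserving maps u, v and every
integer n, the induced morphisms M₁(n)~ → M₂(n)~ → M₃(n)~ of modules on X = Proj S give an exact
sequence of sections over every basic open D_+(f), f homogeneous of positive degree (these opens are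
affine and cover X, so the sequence of modules is exact). Gradings by additive subgroups, modules
graded in non-negative degrees. -/
theorem result {A σ : Type u} [CommRing A] [SetLike σ A] [AddSubgroupClass σ A] (𝒜 : ℕ → σ)
    [GradedRing 𝒜] {M₁ τ₁ : Type u} [AddCommGroup M₁] [Module A M₁] [SetLike τ₁ M₁] [AddSubgroupClass τ₁ M₁]
    (ℳ₁ : ℕ → τ₁) [SetLike.GradedSMul 𝒜 ℳ₁] [DirectSum.Decomposition ℳ₁]
    {M₂ τ₂ : Type u} [AddCommGroup M₂] [Module A M₂] [SetLike τ₂ M₂] [AddSubgroupClass τ₂ M₂]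
    (ℳ₂ : ℕ → τ₂) [SetLike.GradedSMul 𝒜 ℳ₂] [DirectSum.Decomposition ℳ₂]
    {M₃ τ₃ : Type u} [AddCommGroup M₃] [Module A M₃] [SetLike τ₃ M₃] [AddSubgroupClass τ₃ M₃]
    (ℳ₃ : ℕ → τ₃) [SetLike.GradedSMul 𝒜 ℳ₃] [DirectSum.Decomposition ℳ₃]
    (u : M₁ →ₗ[A] M₂) (hu : ∀ (i : ℕ) (m : M₁), m ∈ ℳ₁ i → u m ∈ ℳ₂ i)
    (v : M₂ →ₗ[A] M₃) (hv : ∀ (i : ℕ) (m : M₂), m ∈ ℳ₂ i → v m ∈ ℳ₃ i)
    (hex : Function.Exact u v) (n : ℤ) {d : ℕ} (hd : 0 < d) (f : A) (hf : f ∈ 𝒜 d) :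
    Function.Exact ((GrMod.map 𝒜 u hu n).app (Proj.basicOpen 𝒜 f))
      ((GrMod.map 𝒜 v hv n).app (Proj.basicOpen 𝒜 f)) := by
  intro t
  constructor
  · intro ht
    obtain ⟨k, i, m₂, hm₂, hi, hval⟩ := Groth.Agent.Lib.Helper28.GrSectMod.exists_frac 𝒜 ℳ₂ hf hd n t
    -- `v m₂ / f^k = 0` at all points of `D₊(f)`
    have h0 : ∀ x : ProjectiveSpectrum 𝒜, f ∉ x.asHomogeneousIdeal →
        (LocalizedModule.mk (v m₂) 1 : LocalizedModule x.asHomogeneousIdeal.toIdeal.primeCompl M₃) = 0 := by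
      intro x hx
      have hxU : x ∈ Proj.basicOpen 𝒜 f := (ProjectiveSpectrum.mem_basicOpen 𝒜 f x).2 hx
      have h1 : GrMod.val ((GrMod.map 𝒜 v hv n).app (Proj.basicOpen 𝒜 f) t) ⟨x, hxU⟩ = 0 := by
        rw [ht]
        rfl
      rw [GrMod.map_app_val, hval ⟨x, hxU⟩, GrMod.locMap_mk] at h1
      rw [← LocalizedModule.zero_mk (1 : x.asHomogeneousIdeal.toIdeal.primeCompl), LocalizedModule.mk_eq] at h1 ⊢
      obtain ⟨w, hw⟩ := h1
      refine ⟨w, ?_⟩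
      simp only [one_smul, smul_zero] at hw ⊢
      exact hw
    obtain ⟨N, hN⟩ := pow_smul_eq_zero 𝒜 ℳ₃ hd hf (v m₂) (hv i m₂ hm₂) h0
    have hN' : v (f ^ N • m₂) = 0 := by rw [map_smul, hN]
    obtain ⟨m₁', hm₁'⟩ := (hex (f ^ N • m₂)).1 hN'
    have hdeg : f ^ N • m₂ ∈ ℳ₂ (N * d + i) :=
      SetLike.GradedSMul.smul_mem (SetLike.pow_mem_graded N hf) hm₂
    set m₁ : M₁ := (DirectSum.decompose ℳ₁ m₁' (N * d + i) : M₁) with hm₁
    have hum₁ : u m₁ = f ^ N • m₂ := by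
      rw [hm₁, ← decompose_map ℳ₁ ℳ₂ u hu, hm₁', DirectSum.decompose_of_mem_same ℳ₂ hdeg]
    have hi' : ((N * d + i : ℕ) : ℤ) = ((N + k : ℕ) : ℤ) * d + n := by
      push_cast
      rw [hi]
      ring
    refine ⟨mkSect 𝒜 ℳ₁ hf n (N + k) (N * d + i) m₁ (SetLike.coe_mem _) hi', ?_⟩
    refine ext_val 𝒜 ℳ₂ _ _ fun x => ?_
    exact (locMap_mk_pow u hum₁ x.1 (pow_nin 𝒜 N x) (pow_nin 𝒜 k x) (pow_nin 𝒜 (N + k) x)).trans
      (hval x).symm
  · rintro ⟨s, rfl⟩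
    refine ext_val 𝒜 ℳ₃ _ _ fun x => ?_
    rw [GrMod.map_app_val, GrMod.map_app_val]
    exact locMap_comp_eq_zero u v hex x.1 _

end Groth.Agent.S8338
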