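import Groth.Statements.S8340
import Groth.Agent.Lib.Helper28.RelTwistVal
import Groth.Agent.Lib.Helper28.GenIso
import Groth.Agent.Lib.Helper28.InvTensor
import Groth.Agent.Lib.Helper28.RestrictGen

set_option autoImplicit false
universe u
open CategoryTheory CategoryTheory.Limits AlgebraicGeometry Opposite TopologicalSpace
open scoped HomogeneousIdeal
noncomputable section
open EGA2

open Groth.Agent.Lib.Helper28 Groth.Agent.Lib.Helper28.QCohLoc

namespace Groth.Agent.S8340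

/-- For a quasi-compact open U of X = Proj(𝒮), 𝒮 any quasi-coherent positively graded O_Y-algebra, there
is d > 0 such that for every n divisible by d the module O_X(−n)|U is an inverse of O_X(n)|U: the
tensor product O_X(n)|U ⊗ O_X(−n)|U is isomorphic to O_U (existence of an isomorphism; the twisting
sheaves are given through their chartwise identifications). -/
theorem result {Y X : Scheme.{u}} (𝒮 : RelProj.QCGrAlg Y) (q : X ⟶ Y)
    (chart : ∀ (U : Y.Opens) (hU : IsAffineOpen U), (((q ⁻¹ᵁ U : X.Opens) : Scheme.{u}) ≅ Proj (𝒮.deg U hU)))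
    (hX : RelProj.IsRelProj 𝒮 q chart) (U : X.Opens) (hU : IsCompact (U : Set X)) :
    ∃ d : ℕ, 0 < d ∧ ∀ (n : ℤ), (d : ℤ) ∣ n →
      ∀ (L : X.Modules)
        (lam : ∀ (V : Y.Opens) (hV : IsAffineOpen V),
          L ⟶ (Scheme.Modules.pushforward (RelProj.emb q chart V hV)).obj (GrTwist.twist (𝒮.deg V hV) n)),
        RelProj.IsRelTwist 𝒮 q chart n L lam →
      ∀ (L' : X.Modules)
        (lam' : ∀ (V : Y.Opens) (hV : IsAffineOpen V),
          L' ⟶ (Scheme.Modules.pushforward (RelProj.emb q chart V hV)).obj (GrTwist.twist (𝒮.deg V hV) (-n))),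
        RelProj.IsRelTwist 𝒮 q chart (-n) L' lam' →
          Nonempty (CohB1.tensorMod (L.restrict U.ι) (L'.restrict U.ι) ≅ Coh.structureModule (U : Scheme.{u})) := by
  classical
  have hex : ∀ x : U, ∃ (i : Y.affineOpens) (e : ℕ) (f : 𝒮.presheaf.obj (op i.1)),
      0 < e ∧ f ∈ 𝒮.deg i.1 i.2 e ∧
      x.1 ∈ RelProj.emb q chart i.1 i.2 ''ᵁ Proj.basicOpen (𝒮.deg i.1 i.2) f ∧
      RelProj.emb q chart i.1 i.2 ''ᵁ Proj.basicOpen (𝒮.deg i.1 i.2) f ≤ U := by
    intro x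
    obtain ⟨i, y, hy⟩ := RelProjQC.exists_mem_opensRange_emb q chart x.1
    have hyU : y ∈ RelProj.emb q chart i.1 i.2 ⁻¹ᵁ U := by
      show (RelProj.emb q chart i.1 i.2) y ∈ U
      rw [hy]; exact x.2
    obtain ⟨e, f, he, hf, hfy, hfU⟩ := GrSectComap.exists_pos_basicOpen (𝒮.deg i.1 i.2) _ y hyU
    refine ⟨i, e, f, he, hf, ⟨y, (Proj.mem_basicOpen _ f y).2 hfy, hy⟩, ?_⟩
    rintro _ ⟨y', hy', rfl⟩
    exact hfU y' ((Proj.mem_basicOpen _ f y').1 hy')
  choose i e f he hf hxT hTU using hex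
  obtain ⟨t, ht⟩ := hU.elim_finite_subcover
    (fun x : U => ((RelProj.emb q chart (i x).1 (i x).2 ''ᵁ Proj.basicOpen (𝒮.deg (i x).1 (i x).2) (f x) :
      X.Opens) : Set X))
    (fun x => (RelProj.emb q chart (i x).1 (i x).2 ''ᵁ
      Proj.basicOpen (𝒮.deg (i x).1 (i x).2) (f x)).isOpen)
    (fun x hx => Set.mem_iUnion.2 ⟨⟨x, hx⟩, hxT _⟩)
  refine ⟨∏ x ∈ t, e x, Finset.prod_pos fun x _ => he x, fun n hn L lam hL L' lam' hL' => ?_⟩
  -- the opens of the finite cover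
  let T : t → X.Opens := fun x =>
    RelProj.emb q chart (i x.1).1 (i x.1).2 ''ᵁ Proj.basicOpen (𝒮.deg (i x.1).1 (i x.1).2) (f x.1)
  have hTle : ∀ x : t, T x ≤ q ⁻¹ᵁ (i x.1).1 := fun x =>
    (Scheme.Hom.image_le_opensRange _ _).trans (RelProjQC.opensRange_emb q chart (i x.1).1 (i x.1).2).le
  have hTU' : ∀ x : t, T x ≤ U := fun x => hTU x.1
  have hcov : U ≤ iSup T := by
    intro z hz
    have hz' := ht hz
    simp only [Set.mem_iUnion] at hz'
    obtain ⟨x, hxt, hzx⟩ := hz'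
    exact Opens.mem_iSup.2 ⟨⟨x, hxt⟩, hzx⟩
  have hk : ∀ x : t, ∃ k : ℤ, n = k * (e x.1 : ℤ) := by
    intro x
    have hdvd : ((e x.1 : ℕ) : ℤ) ∣ n :=
      (Int.natCast_dvd_natCast.2 (Finset.dvd_prod_of_mem e x.2)).trans hn
    obtain ⟨k, hk⟩ := hdvd
    exact ⟨k, by rw [hk, mul_comm]⟩
  choose k hk using hk
  have hA : ∀ x : t, ∃ a : Γ(L, T x), GenLocus.IsGen L (T x) a ∧
      RelTwistVal.Reads lam (i x.1).2 a (f x.1) (k x) :=
    fun x => RelTwistVal.exists_gen_reads hL (i x.1).2 (hf x.1) (he x.1) (k x) (hk x)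
  have hB : ∀ x : t, ∃ b : Γ(L', T x), GenLocus.IsGen L' (T x) b ∧
      RelTwistVal.Reads lam' (i x.1).2 b (f x.1) (-(k x)) :=
    fun x => RelTwistVal.exists_gen_reads hL' (i x.1).2 (hf x.1) (he x.1) (-(k x))
      (by rw [hk x]; ring)
  choose a ha hra using hA
  choose b hb hrb using hB
  -- the local generators of the tensor product agree on the overlaps
  have hcompat : ∀ x y : t,
      res (CohB1.tensorMod L L') (inf_le_left : T x ⊓ T y ≤ T x) (TensorGen.tmulSec L L' (a x) (b x)) =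
        res (CohB1.tensorMod L L') (inf_le_right : T x ⊓ T y ≤ T y) (TensorGen.tmulSec L L' (a y) (b y)) := by
    intro x y
    obtain ⟨u₁, hu₁⟩ := ((ha y) (T x ⊓ T y) inf_le_right).2 (res L inf_le_left (a x))
    obtain ⟨u₂, hu₂⟩ := ((hb y) (T x ⊓ T y) inf_le_right).2 (res L' inf_le_left (b x))
    have hu : u₁ * u₂ = 1 := by
      refine RelTwistVal.eq_of_basic_cover_fn (𝒮 := 𝒮) (chart := chart) (i x.1).2 (i y.1).2
        (inf_le_left.trans (hTle x)) (inf_le_right.trans (hTle y)) _ _ ?_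
      intro W hW r r' e₁ e₂ z hz
      have hle : W ≤ (i x.1).1 := e₁ ▸ Y.basicOpen_le r
      have hle' : W ≤ (i y.1).1 := e₂ ▸ Y.basicOpen_le r'
      obtain ⟨h3, hv3⟩ := (((hra x).res inf_le_left).basic hX hL hW r e₁ hle) z hz
      obtain ⟨h4, hv4⟩ := (((hra y).res inf_le_right).basic hX hL hW r' e₂ hle') z hz
      obtain ⟨_, hv5⟩ := (((hrb x).res inf_le_left).basic hX hL' hW r e₁ hle) z hz
      obtain ⟨_, hv6⟩ := (((hrb y).res inf_le_right).basic hX hL' hW r' e₂ hle') z hz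
      have e1 := congrArg (fun s => RelTwistVal.cv lam hW s z hz) hu₁
      have e2 := congrArg (fun s => RelTwistVal.cv lam' hW s z hz) hu₂
      simp only [RelTwistVal.cv_smul] at e1 e2
      rw [hv3, hv4] at e1
      rw [hv5, hv6] at e2
      rw [RelTwistVal.cvO_mul, RelTwistVal.cvO_one]
      have e3 := GrTwistGenVal.pw_mul_neg (𝒮.deg W hW) z _ h3 (k x)
      have e4 := GrTwistGenVal.pw_mul_neg (𝒮.deg W hW) z _ h4 (k y)
      calc RelTwistVal.cvO q chart hW u₁ z hz * RelTwistVal.cvO q chart hW u₂ z hz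
          = (RelTwistVal.cvO q chart hW u₁ z hz * RelTwistVal.cvO q chart hW u₂ z hz) *
              (GrTwistGenVal.pw (𝒮.deg W hW) z _ h4 (k y) *
                GrTwistGenVal.pw (𝒮.deg W hW) z _ h4 (-(k y))) := by rw [e4, mul_one]
        _ = (RelTwistVal.cvO q chart hW u₁ z hz * GrTwistGenVal.pw (𝒮.deg W hW) z _ h4 (k y)) *
              (RelTwistVal.cvO q chart hW u₂ z hz * GrTwistGenVal.pw (𝒮.deg W hW) z _ h4 (-(k y))) := by
            ring
        _ = 1 := by rw [e1, e2, e3]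
    rw [TensorGen.tmulSec_res, TensorGen.tmulSec_res, ← hu₁, ← hu₂, TensorGen.tmulSec_smul_left,
      TensorGen.tmulSec_smul_right, ← mul_smul, hu, one_smul]
  obtain ⟨σ, hσ, -⟩ := RelTwistVal.exists_glued_generator (CohB1.tensorMod L L') U T hTU' hcov
    (fun x => TensorGen.tmulSec L L' (a x) (b x))
    (fun x => InvTensor.isGen_tmulSec L L' (ha x) (hb x)) hcompat
  obtain ⟨ψ₁⟩ := RelTwistVal.nonempty_restrict_iso_of_isGen (CohB1.tensorMod L L') U σ hσ
  have hinvL : PicF.IsInvertible (L.restrict U.ι) := by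
    refine RelTwistLocal.isInvertible_restrict_of_isGen L U fun z hz => ?_
    obtain ⟨x, hx⟩ := Opens.mem_iSup.1 (hcov hz)
    exact ⟨T x, a x, hx, ha x⟩
  have hinvL' : PicF.IsInvertible (L'.restrict U.ι) := by
    refine RelTwistLocal.isInvertible_restrict_of_isGen L' U fun z hz => ?_
    obtain ⟨x, hx⟩ := Opens.mem_iSup.1 (hcov hz)
    exact ⟨T x, b x, hx, hb x⟩
  obtain ⟨ψ₂⟩ := GenLocus.exists_restrict_tensorMod_iso L L' U hinvL hinvL'
  exact ⟨ψ₂.symm ≪≫ ψ₁⟩

end Groth.Agent.S8340
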