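import Groth.Statements.S8342
import Groth.Agent.Lib.Helper28.RelTwistVal

set_option autoImplicit false
universe u
open CategoryTheory CategoryTheory.Limits AlgebraicGeometry Opposite TopologicalSpace
open scoped HomogeneousIdeal
noncomputable section
open EGA2

open Groth.Agent.Lib.Helper28 Groth.Agent.Lib.Helper28.QCohLoc

namespace Groth.Agent.S8342

/-- Let 𝒮 be a quasi-coherent positively graded O_Y-algebra generated by 𝒮_1, P = Proj(𝒮), and f a
global section of 𝒮 of degree d > 0. Then the open X_f (chartwise D_+(f|U)) is the set of points of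
P where the global section α_d(f) of the invertible module O_P(d) does not vanish — here: X_f equals
the largest open over which the module map O_P → O_P(d) defined by α_d(f) is an isomorphism; O_P(d)
is given through its chartwise identifications and α_d(f) is pinned as the section reading f|U / 1
on every chart. -/
theorem result {Y P : Scheme.{u}} (𝒮 : RelProj.QCGrAlg Y) (p : P ⟶ Y)
    (chart : ∀ (U : Y.Opens) (hU : IsAffineOpen U), (((p ⁻¹ᵁ U : P.Opens) : Scheme.{u}) ≅ Proj (𝒮.deg U hU)))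
    (hP : RelProj.IsRelProj 𝒮 p chart) (hgen : 𝒮.IsGenDegOne) {d : ℕ} (hd : 0 < d)
    (f : 𝒮.presheaf.obj (op ⊤))
    (hf : ∀ (U : Y.Opens) (hU : IsAffineOpen U), (𝒮.presheaf.map (homOfLE le_top).op).hom f ∈ 𝒮.deg U hU d)
    (Xf : P.Opens)
    (hXf : ∀ (U : Y.Opens) (hU : IsAffineOpen U),
      Xf ⊓ p ⁻¹ᵁ U =
        (p ⁻¹ᵁ U).ι ''ᵁ ((chart U hU).hom ⁻¹ᵁ
          Proj.basicOpen (𝒮.deg U hU) ((𝒮.presheaf.map (homOfLE le_top).op).hom f)))
    (L : P.Modules)
    (lam : ∀ (U : Y.Opens) (hU : IsAffineOpen U),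
      L ⟶ (Scheme.Modules.pushforward (RelProj.emb p chart U hU)).obj (GrTwist.twist (𝒮.deg U hU) (d : ℤ)))
    (hL : RelProj.IsRelTwist 𝒮 p chart (d : ℤ) L lam) (s : Coh.structureModule P ⟶ L)
    (hs : ∀ (U : Y.Opens) (hU : IsAffineOpen U) (y : Proj (𝒮.deg U hU)),
      GrTwist.val (V := RelProj.emb p chart U hU ⁻¹ᵁ ⊤)
        ((lam U hU).app ⊤ (s.app ⊤ (show Γ(Coh.structureModule P, ⊤) from (1 : Γ(P, ⊤))))) ⟨y, Set.mem_univ _⟩ =
        Localization.mk ((𝒮.presheaf.map (homOfLE le_top).op).hom f) 1) :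
    Xf = CohB1.genLocus L s := by
  classical
  -- the restriction of `f` to an affine open
  set fV : ∀ (U : Y.Opens) (_ : IsAffineOpen U), 𝒮.presheaf.obj (op U) :=
    fun U _ => (𝒮.presheaf.map (homOfLE le_top).op).hom f with hfV
  have hUeq : ∀ (V : Y.Opens) (hV : IsAffineOpen V),
      Xf ⊓ p ⁻¹ᵁ V = RelProj.emb p chart V hV ''ᵁ Proj.basicOpen (𝒮.deg V hV) (fV V hV) := by
    intro V hV
    rw [hXf V hV]
    ext x
    constructor
    · rintro ⟨w, hw, rfl⟩
      refine ⟨(chart V hV).hom.base w, hw, ?_⟩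
      show (p ⁻¹ᵁ V).ι.base ((chart V hV).inv.base ((chart V hV).hom.base w)) = _
      rw [← Scheme.Hom.comp_apply (chart V hV).hom, Iso.hom_inv_id]
      rfl
    · rintro ⟨z, hz, rfl⟩
      refine ⟨(chart V hV).inv.base z, ?_, rfl⟩
      show (chart V hV).hom.base ((chart V hV).inv.base z) ∈ Proj.basicOpen (𝒮.deg V hV) (fV V hV)
      rw [← Scheme.Hom.comp_apply, Iso.inv_hom_id]
      exact hz
  ext x
  obtain ⟨V, z, hz⟩ := RelProjQC.exists_mem_opensRange_emb p chart x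
  obtain ⟨F, hF, hzF⟩ := RelTwistLocal.cover_of_closure (𝒮.deg V.1 V.2) (hgen V.1 V.2) z
  obtain ⟨U, hUdef⟩ : ∃ U : P.Opens,
      U = RelProj.emb p chart V.1 V.2 ''ᵁ Proj.basicOpen (𝒮.deg V.1 V.2) F := ⟨_, rfl⟩
  obtain ⟨g, hg, hrg⟩ := RelTwistVal.exists_gen_reads' hL V.2 hF Nat.one_pos (d : ℤ) (by simp) U hUdef
  have hUle : U ≤ p ⁻¹ᵁ V.1 := by
    rw [hUdef]
    exact (Scheme.Hom.image_le_opensRange _ _).trans (RelProjQC.opensRange_emb p chart V.1 V.2).le
  have hzU : (RelProj.emb p chart V.1 V.2).base z ∈ U := by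
    rw [hUdef]; exact ⟨z, hzF, rfl⟩
  have hxU : x ∈ U := hz ▸ hzU
  obtain ⟨r, hr⟩ := (hg U le_rfl).2 (s.app U (show Γ(Coh.structureModule P, U) from (1 : Γ(P, U))))
  have hr' : s.app U (show Γ(Coh.structureModule P, U) from (1 : Γ(P, U))) = (r • g : Γ(L, U)) := by
    rw [← hr]
    show (r • res L le_rfl g : Γ(L, U)) = (r • g : Γ(L, U))
    rw [res_self]
  have h1 := GenLocus.genLocus_inf_eq_basicOpen s U g hg r hr'
  -- the value of `r`
  have h2 : (RelProj.emb p chart V.1 V.2).base z ∈ P.basicOpen r ↔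
      fV V.1 V.2 ∉ z.asHomogeneousIdeal := by
    rw [RelTwistVal.mem_basicOpen_iff_isUnit_cvO V.2 r z hzU]
    obtain ⟨hFz, hval⟩ := hrg z hzU
    have e1 : RelTwistVal.cv lam V.2
        (s.app U (show Γ(Coh.structureModule P, U) from (1 : Γ(P, U)))) z hzU =
          Localization.mk (fV V.1 V.2) 1 := by
      rw [GenLocus.hom_app_eq_smul s U 1, one_smul, RelTwistVal.cv_res]
      exact hs V.1 V.2 z
    rw [hr', RelTwistVal.cv_smul, hval] at e1
    have hu := GrTwistGenVal.isUnit_pw (𝒮.deg V.1 V.2) z F hFz (d : ℤ)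
    rw [← GrModQC.isUnit_mk_iff (𝒮.deg V.1 V.2) z (fV V.1 V.2) 1, ← e1, IsUnit.mul_iff]
    exact ⟨fun h => ⟨h, hu⟩, fun h => h.1⟩
  rw [hz] at h2
  constructor
  · intro hx
    have h3 : x ∈ Xf ⊓ p ⁻¹ᵁ V.1 := ⟨hx, hUle hxU⟩
    rw [hUeq V.1 V.2] at h3
    obtain ⟨z', hz', hzz'⟩ := h3
    have hzz : z' = z := (RelProj.emb p chart V.1 V.2).isOpenEmbedding.injective (hzz'.trans hz.symm)
    rw [hzz] at hz'
    have h4 : x ∈ P.basicOpen r := h2.2 ((Proj.mem_basicOpen _ _ z).1 hz')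
    rw [← h1] at h4
    exact h4.1
  · intro hx
    have h4 : x ∈ P.basicOpen r := by rw [← h1]; exact ⟨hx, hxU⟩
    have h5 := h2.1 h4
    have h3 : x ∈ Xf ⊓ p ⁻¹ᵁ V.1 := by
      rw [hUeq V.1 V.2]
      exact ⟨z, (Proj.mem_basicOpen _ _ z).2 h5, hz⟩
    exact h3.1

end Groth.Agent.S8342
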