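import Groth.Statements.S8347
import Groth.Agent.Lib.Helper2.SSCollapse

set_option autoImplicit false
universe v u
open CategoryTheory CategoryTheory.Limits
open SpSeq

namespace Groth.Agent.S8347

open Groth.Agent.Lib.Helper2.SSCollapse

variable {C : Type u} [Category.{v} C] [Abelian C] {r₀ : ℤ}

/-- a stationary position does not change -/
lemma nonempty_page_iso_of_stationary (E : CohomologicalSpectralSequence C r₀) (pq : ℤ × ℤ) (s : ℤ)
    (hs : SpSeq.StationaryAt E pq s) (k : ℤ) (hk : s ≤ k) :
    Nonempty ((E.page k (hs.1.trans hk)).X pq ≅ (E.page s hs.1).X pq) := by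
  induction k, hk using Int.leInduction with
  | base => exact ⟨Iso.refl _⟩
  | succ k hk ih =>
    obtain ⟨e⟩ := ih
    obtain ⟨e'⟩ := nonempty_page_succ_iso E pq k (hs.1.trans hk) (hs.2 k (hs.1.trans hk) hk).1
      (hs.2 k (hs.1.trans hk) hk).2
    exact ⟨e' ≪≫ e⟩


/-- Let E be a spectral sequence in an abelian category with abutment data (H^m), and suppose that for
some page r and every total degree m there is an integer q(m) such that E_r^{m-q,q} = 0 for every q
other than q(m). Let n be a total degree such that the filtration of H^n is discrete (some step is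
zero) and exhaustive (H^n is the supremum of the steps), and such that the position (n - q(n), q(n))
is stationary from page r on. Then H^n is isomorphic to E_r^{n-q(n), q(n)}. (The published statement
asserts this without any condition on the differentials at the surviving positions; that version
fails when a differential d_r links the surviving terms of two consecutive total degrees, for
instance a spectral sequence whose only nonzero page-2 terms are E_2^{0,1} and E_2^{2,0} with d_2 an
isomorphism between them and zero abutment. The stationarity assumed here is automatic when q(m)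
does not depend on m and r ≥ 2.) -/
theorem result {C : Type u} [Category.{v} C] [Abelian C] {r₀ : ℤ}
    (E : CohomologicalSpectralSequence C r₀) {H : ℤ → C} (a : SpSeq.Abutment E H)
    (r : ℤ) (hr : r₀ ≤ r) (q : ℤ → ℤ)
    (hdeg : ∀ m q' : ℤ, q' ≠ q m → IsZero ((E.page r hr).X (m - q', q')))
    (n : ℤ) (hdisc : (a.filObj n).IsDiscrete) (hexh : a.IsExhaustive n)
    (hst : SpSeq.StationaryAt E (n - q n, q n) r) :
    Nonempty (H n ≅ (E.page r hr).X (n - q n, q n)) := by
  set p₀ := n - q n with hp₀
  -- graded pieces off `p₀` vanish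
  have hgr : ∀ p : ℤ, p ≠ p₀ → IsZero (SpSeq.grPiece (a.fil n) (a.anti n) p) := by
    intro p hp
    have h1 : IsZero ((E.page r hr).X (p, n - p)) := by
      have := hdeg n (n - p) (by omega)
      rwa [sub_sub_cancel] at this
    have := (Groth.Agent.S8355.result E r hr (p, n - p) h1).2 H a
    exact isZero_grPiece_of_eq a p _ _ (by simp) this
  -- the filtration is constant below `p₀`
  have hconst : ∀ p : ℤ, p ≤ p₀ → a.fil n p = a.fil n p₀ := by
    intro p hp
    obtain ⟨k, hk⟩ := Int.eq_ofNat_of_zero_le (sub_nonneg.mpr hp)
    have := const_of_isZero_grPiece (a.fil n) (a.anti n) p k (fun p' h1 h2 => hgr p' (by omega))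
    have e : p + (k : ℤ) = p₀ := by omega
    rw [e] at this
    exact this.symm
  have htop : a.fil n p₀ = ⊤ := by
    apply top_le_iff.1
    apply hexh.2
    rintro _ ⟨p, rfl⟩
    show a.fil n p ≤ a.fil n p₀
    by_cases hp : p ≤ p₀
    · exact (hconst p hp).le
    · exact a.anti n (by omega)
  obtain ⟨e1⟩ := nonempty_iso_grPiece (a.fil n) (a.anti n) p₀ ⟨p₀, htop⟩ hdisc hgr
  -- the limit term
  have hn : p₀ + q n = n := by omega
  have e2 : SpSeq.grPiece (a.fil n) (a.anti n) p₀ ≅
      (E.page (a.rk (p₀, q n)) (a.stat (p₀, q n)).1).X (p₀, q n) := by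
    have := (a.β (p₀, q n)).symm
    simp only at this
    rw [hn] at this
    exact this
  -- comparison of the pages `rk` and `r`
  have e3 : Nonempty ((E.page (a.rk (p₀, q n)) (a.stat (p₀, q n)).1).X (p₀, q n) ≅
      (E.page r hr).X (p₀, q n)) := by
    by_cases hle : a.rk (p₀, q n) ≤ r
    · obtain ⟨e⟩ := nonempty_page_iso_of_stationary E (p₀, q n) _ (a.stat (p₀, q n)) r hle
      exact ⟨e.symm⟩
    · exact nonempty_page_iso_of_stationary E (p₀, q n) r hst _ (by omega)
  obtain ⟨e3⟩ := e3
  exact ⟨e1 ≪≫ e2 ≪≫ e3⟩

end Groth.Agent.S8347
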