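import Groth.Statements.S8357
import Mathlib
import Groth.Agent.Lib.Helper25.LieTangent
-- import your own Groth.Agent.* helpers here

set_option autoImplicit false
set_option linter.unusedSectionVars false
set_option linter.style.haveILetI false
set_option linter.unusedVariables false
set_option linter.deprecated false
universe u
open CategoryTheory MonObj AlgebraicGeometry
open LieS

namespace Groth.Agent.S8357

open Groth.Agent.Lib.Helper25.SpecEpi Groth.Agent.Lib.Helper25.LieTangent

section
variable {S : Scheme.{u}} (G : Over S) [GrpObj G] (B : Type u) [CommRing B]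
    (f : Spec (CommRingCat.of B) ⟶ S)

theorem add_smul' (v : LieS.Lie G B f) (a b : B) : (a + b) • v = a • v * b • v := by
  apply Subtype.ext
  change scale B f (a + b) ≫ v.1 = (scale B f a ≫ v.1) * (scale B f b ≫ v.1)
  exact add_scale B f v.1 ((mem_Lie_iff G B f v.1).1 v.2) a b

theorem one_smul' (v : LieS.Lie G B f) : (1 : B) • v = v := by
  apply Subtype.ext
  change scale B f 1 ≫ v.1 = v.1
  rw [scale_one, Category.id_comp]

theorem zero_smul' (v : LieS.Lie G B f) : (0 : B) • v = 1 := by
  apply Subtype.ext
  change scale B f 0 ≫ v.1 = 1
  exact scale_zero_comp B f v.1 ((mem_Lie_iff G B f v.1).1 v.2)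

theorem natCast_smul (v : LieS.Lie G B f) (n : ℕ) : ((n : B) • v) = v ^ n := by
  induction n with
  | zero => rw [Nat.cast_zero, zero_smul', pow_zero]
  | succ k ih => rw [Nat.cast_succ, add_smul', ih, one_smul', pow_succ]

end

/-- For a group scheme G over a scheme S and an affine S-scheme T = Spec B, the map induced on
Lie(G/S)(T) by the n-th power map of G is multiplication by n; that is, for v in Lie(G/S)(T) and an
integer n, the n-th power of v in the group law inherited from G is the rescaling of v by the image
of n in B. -/
theorem result (S : Scheme.{u}) (G : Over S) [GrpObj G] (B : Type u) [CommRing B]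
    (f : Spec (CommRingCat.of B) ⟶ S) (v : LieS.Lie G B f) (n : ℤ) :
    v ^ n = ((n : B) • v : LieS.Lie G B f) := by
  cases n with
  | ofNat k =>
    rw [Int.ofNat_eq_natCast, zpow_natCast, Int.cast_natCast, natCast_smul]
  | negSucc k =>
    rw [zpow_negSucc, Int.cast_negSucc]
    have h := add_smul' G B f v (-((k + 1 : ℕ) : B)) ((k + 1 : ℕ) : B)
    rw [neg_add_cancel, zero_smul', natCast_smul] at h
    exact (eq_inv_of_mul_eq_one_left h.symm).symm

end Groth.Agent.S8357
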