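import Groth.Statements.S8358
import Mathlib
-- import your own Groth.Agent.* helpers here

set_option autoImplicit false
set_option linter.unusedSectionVars false
set_option linter.style.haveILetI false
set_option linter.unusedVariables false
set_option linter.deprecated false
universe u
open CategoryTheory MonObj AlgebraicGeometry
open LieS

namespace Groth.Agent.S8358

variable (R : Type u) [CommRing R] (M : Type) [AddCommGroup M]
    (B : Type u) [CommRing B] [Algebra R B]

/-- The algebra hom attached to a dual-number point. -/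
noncomputable def Psi (u : dpt B (Spec.map (CommRingCat.ofHom (algebraMap R B))) ⟶ Red.diag R M) :
    MonoidAlgebra R (Multiplicative M) →ₐ[R] DualNumber B :=
  (Spec.mapMulEquiv.symm ((LieS.dptIso B).inv ≫ u)).ofConv

theorem psi_spec (u : dpt B (Spec.map (CommRingCat.ofHom (algebraMap R B))) ⟶ Red.diag R M) :
    Spec.map (CommRingCat.ofHom (Psi R M B u).toRingHom) = u.left := by
  have h1 : (Psi R M B u).toRingHom = (Spec.preimage ((LieS.dptIso B).inv ≫ u).left).hom := rfl
  rw [h1]
  have h2 : ((LieS.dptIso B).inv ≫ u).left = u.left := by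
    change (LieS.dptIso B).inv.left ≫ u.left = u.left
    exact Category.id_comp u.left
  rw [h2]
  exact Spec.map_preimage _

theorem one_left :
    (1 : pt B (Spec.map (CommRingCat.ofHom (algebraMap R B))) ⟶ Red.diag R M).left =
      Spec.map (CommRingCat.ofHom
        ((algebraMap R B).comp (Bialgebra.counitAlgHom R (MonoidAlgebra R (Multiplicative M))).toRingHom)) := by
  rw [Hom.one_def]
  change (CartesianMonoidalCategory.toUnit (pt B (Spec.map (CommRingCat.ofHom (algebraMap R B))))).left ≫
    η[Red.diag R M].left = _
  rw [Over.toUnit_left, one_spec_asOver_spec_left]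
  exact specMap_comp _ _


theorem counit_single (m : Multiplicative M) :
    Bialgebra.counitAlgHom R (MonoidAlgebra R (Multiplicative M)) (MonoidAlgebra.single m 1) = 1 := by
  simp

theorem zero_comp_left (v : dpt B (Spec.map (CommRingCat.ofHom (algebraMap R B))) ⟶ Red.diag R M) :
    (zeroSec B (Spec.map (CommRingCat.ofHom (algebraMap R B))) ≫ v).left =
      Spec.map (CommRingCat.ofHom
        ((TrivSqZeroExt.fstHom B B B).toRingHom.comp (Psi R M B v).toRingHom)) := by
  have h2 : (zeroSec B (Spec.map (CommRingCat.ofHom (algebraMap R B))) ≫ v).left =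
      Spec.map (CommRingCat.ofHom (TrivSqZeroExt.fstHom B B B).toRingHom) ≫ v.left := rfl
  rw [h2, ← psi_spec]
  exact specMap_comp _ _

theorem mem_iff (v : dpt B (Spec.map (CommRingCat.ofHom (algebraMap R B))) ⟶ Red.diag R M) :
    v ∈ LieS.LieR (Red.diag R M) B ↔
      ∀ m : Multiplicative M, (Psi R M B v (MonoidAlgebra.single m 1)).fst = 1 := by
  rw [mem_Lie_iff]
  constructor
  · intro h m
    have h1 : (zeroSec B (Spec.map (CommRingCat.ofHom (algebraMap R B))) ≫ v).left =
        (1 : pt B (Spec.map (CommRingCat.ofHom (algebraMap R B))) ⟶ Red.diag R M).left := by rw [h]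
    rw [zero_comp_left, one_left] at h1
    have h3 : (TrivSqZeroExt.fstHom B B B).toRingHom.comp (Psi R M B v).toRingHom =
        (algebraMap R B).comp (Bialgebra.counitAlgHom R (MonoidAlgebra R (Multiplicative M))).toRingHom :=
      congrArg CommRingCat.Hom.hom (Spec.map_injective h1)
    have h4 := congrArg (fun g => g (MonoidAlgebra.single m 1)) h3
    simp only [RingHom.comp_apply] at h4
    have h5 := counit_single R M m
    have h6 : (Bialgebra.counitAlgHom R (MonoidAlgebra R (Multiplicative M))).toRingHom
        (MonoidAlgebra.single m 1) = 1 := h5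
    rw [h6, map_one] at h4
    exact h4
  · intro h
    apply Over.OverMorphism.ext
    rw [zero_comp_left, one_left]
    congr 2
    have key : (TrivSqZeroExt.fstHom R B B).comp (Psi R M B v) =
        (Algebra.ofId R B).comp (Bialgebra.counitAlgHom R (MonoidAlgebra R (Multiplicative M))) := by
      refine MonoidAlgebra.algHom_ext ?_ (Subsingleton.elim _ _)
      intro m
      have := h m
      simp only [AlgHom.comp_apply]
      rw [counit_single, map_one]
      exact this
    exact congrArg (fun a : MonoidAlgebra R (Multiplicative M) →ₐ[R] B => a.toRingHom) key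


theorem convMul_single (f g : WithConv (MonoidAlgebra R (Multiplicative M) →ₐ[R] DualNumber B))
    (m : Multiplicative M) :
    (f * g).ofConv (MonoidAlgebra.single m 1) =
      f.ofConv (MonoidAlgebra.single m 1) * g.ofConv (MonoidAlgebra.single m 1) := by
  have h := AlgHom.convMul_apply f g (MonoidAlgebra.single m (1 : R))
  rw [h, MonoidAlgebra.comul_single]
  simp


theorem psi_mul_single (v w : dpt B (Spec.map (CommRingCat.ofHom (algebraMap R B))) ⟶ Red.diag R M)
    (m : Multiplicative M) :
    Psi R M B (v * w) (MonoidAlgebra.single m 1) =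
      Psi R M B v (MonoidAlgebra.single m 1) * Psi R M B w (MonoidAlgebra.single m 1) := by
  unfold Psi
  rw [MonObj.comp_mul, map_mul]
  exact convMul_single R M B _ _ m


theorem single_add (m m' : M) :
    (MonoidAlgebra.single (Multiplicative.ofAdd (m + m')) (1 : R) : MonoidAlgebra R (Multiplicative M)) =
      MonoidAlgebra.single (Multiplicative.ofAdd m) 1 * MonoidAlgebra.single (Multiplicative.ofAdd m') 1 := by
  rw [MonoidAlgebra.single_mul_single, _root_.one_mul, ofAdd_add]

/-- the additive character attached to a Lie point -/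
noncomputable def chi (v : LieS.LieR (Red.diag R M) B) : M →+ B where
  toFun m := TrivSqZeroExt.snd (Psi R M B v.1 (MonoidAlgebra.single (Multiplicative.ofAdd m) 1))
  map_zero' := by
    have : (MonoidAlgebra.single (Multiplicative.ofAdd (0 : M)) (1 : R) :
        MonoidAlgebra R (Multiplicative M)) = 1 := rfl
    rw [this, map_one]
    rfl
  map_add' m m' := by
    have h1 := (mem_iff R M B v.1).1 v.2 (Multiplicative.ofAdd m)
    have h2 := (mem_iff R M B v.1).1 v.2 (Multiplicative.ofAdd m')
    rw [single_add, _root_.map_mul, DualNumber.snd_mul, h1, h2]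
    ring

theorem chi_apply (v : LieS.LieR (Red.diag R M) B) (m : M) :
    chi R M B v m =
      TrivSqZeroExt.snd (Psi R M B v.1 (MonoidAlgebra.single (Multiplicative.ofAdd m) 1)) := rfl

theorem chi_mul (v w : LieS.LieR (Red.diag R M) B) : chi R M B (v * w) = chi R M B v + chi R M B w := by
  ext m
  rw [AddMonoidHom.add_apply, chi_apply, chi_apply, chi_apply]
  have h1 := (mem_iff R M B v.1).1 v.2 (Multiplicative.ofAdd m)
  have h2 := (mem_iff R M B w.1).1 w.2 (Multiplicative.ofAdd m)
  have h3 : (v * w).1 = v.1 * w.1 := rfl
  rw [h3, psi_mul_single, DualNumber.snd_mul, h1, h2]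
  ring

theorem chi_injective : Function.Injective (chi R M B) := by
  intro v w h
  apply Subtype.ext
  apply Over.OverMorphism.ext
  rw [← psi_spec, ← psi_spec]
  congr 3
  refine MonoidAlgebra.algHom_ext ?_ (Subsingleton.elim _ _)
  intro m
  have h1 := (mem_iff R M B v.1).1 v.2 m
  have h2 := (mem_iff R M B w.1).1 w.2 m
  have h3 := DFunLike.congr_fun h (Multiplicative.toAdd m)
  rw [chi_apply, chi_apply] at h3
  exact TrivSqZeroExt.ext (h1.trans h2.symm) h3


/-- the monoid hom `m ↦ 1 + χ(m) ε` -/
noncomputable def phiOf (χ : M →+ B) : Multiplicative M →* DualNumber B where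
  toFun m := 1 + TrivSqZeroExt.inr (χ (Multiplicative.toAdd m))
  map_one' := by simp
  map_mul' a b := by
    rw [toAdd_mul, map_add, TrivSqZeroExt.inr_add]
    have : (TrivSqZeroExt.inr (χ (Multiplicative.toAdd a)) : DualNumber B) *
        TrivSqZeroExt.inr (χ (Multiplicative.toAdd b)) = 0 := TrivSqZeroExt.inr_mul_inr _ _ _
    linear_combination (-1 : DualNumber B) * this

noncomputable def psiOf (χ : M →+ B) : MonoidAlgebra R (Multiplicative M) →ₐ[R] DualNumber B :=
  MonoidAlgebra.lift R (DualNumber B) (Multiplicative M) (phiOf M B χ)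

theorem psiOf_single (χ : M →+ B) (m : Multiplicative M) :
    psiOf R M B χ (MonoidAlgebra.single m 1) = 1 + TrivSqZeroExt.inr (χ (Multiplicative.toAdd m)) := by
  unfold psiOf
  rw [MonoidAlgebra.lift_single, one_smul]
  rfl

noncomputable def vOf (χ : M →+ B) :
    dpt B (Spec.map (CommRingCat.ofHom (algebraMap R B))) ⟶ Red.diag R M :=
  (LieS.dptIso B).hom ≫ Spec.mapMulEquiv (WithConv.toConv (psiOf R M B χ))

theorem psi_vOf (χ : M →+ B) : Psi R M B (vOf R M B χ) = psiOf R M B χ := by
  unfold Psi vOf
  rw [Iso.inv_hom_id_assoc, MulEquiv.symm_apply_apply]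

theorem vOf_mem (χ : M →+ B) : vOf R M B χ ∈ LieS.LieR (Red.diag R M) B := by
  rw [mem_iff]
  intro m
  rw [psi_vOf, psiOf_single]
  simp

theorem chi_surjective : Function.Surjective (chi R M B) := by
  intro χ
  refine ⟨⟨vOf R M B χ, vOf_mem R M B χ⟩, ?_⟩
  ext m
  rw [chi_apply]
  change TrivSqZeroExt.snd (Psi R M B (vOf R M B χ) _) = _
  rw [psi_vOf, psiOf_single]
  simp


theorem snd_scaleHom (b : B) (x : DualNumber B) :
    TrivSqZeroExt.snd (scaleHom b x) = b * TrivSqZeroExt.snd x := by
  unfold scaleHom
  rw [dualHom_apply]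
  simp only [TrivSqZeroExt.algebraMap_eq_inl', TrivSqZeroExt.snd_add, TrivSqZeroExt.snd_inl,
    DualNumber.snd_mul, TrivSqZeroExt.fst_inl, DualNumber.eps, TrivSqZeroExt.fst_mul,
    TrivSqZeroExt.fst_inr, TrivSqZeroExt.snd_inr, Algebra.algebraMap_self, RingHom.id_apply]
  ring

theorem psi_scale (b : B) (v : dpt B (Spec.map (CommRingCat.ofHom (algebraMap R B))) ⟶ Red.diag R M) :
    (Psi R M B (scale B (Spec.map (CommRingCat.ofHom (algebraMap R B))) b ≫ v)).toRingHom =
      (scaleHom b).comp (Psi R M B v).toRingHom := by
  have h1 := psi_spec R M B (scale B (Spec.map (CommRingCat.ofHom (algebraMap R B))) b ≫ v)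
  have h2 : (scale B (Spec.map (CommRingCat.ofHom (algebraMap R B))) b ≫ v).left =
      Spec.map (CommRingCat.ofHom (scaleHom b)) ≫ v.left := rfl
  rw [h2, ← psi_spec R M B v] at h1
  have h3 : Spec.map (CommRingCat.ofHom (scaleHom b)) ≫
      Spec.map (CommRingCat.ofHom (Psi R M B v).toRingHom) =
      Spec.map (CommRingCat.ofHom ((scaleHom b).comp (Psi R M B v).toRingHom)) := specMap_comp _ _
  exact congrArg CommRingCat.Hom.hom (Spec.map_injective (h1.trans h3))

theorem chi_smul (b : B) (v : LieS.LieR (Red.diag R M) B) : chi R M B (b • v) = b • chi R M B v := by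
  ext m
  rw [AddMonoidHom.smul_apply, chi_apply, chi_apply, smul_val]
  have h := psi_scale R M B b v.1
  have h2 := congrArg (fun g : MonoidAlgebra R (Multiplicative M) →+* DualNumber B =>
    g (MonoidAlgebra.single (Multiplicative.ofAdd m) 1)) h
  simp only [RingHom.comp_apply] at h2
  change TrivSqZeroExt.snd ((Psi R M B _).toRingHom _) = _
  rw [h2, snd_scaleHom]
  rfl


/-- the multiplicative hom -/
noncomputable def eHom : LieS.LieR (Red.diag R M) B →* Multiplicative (M →+ B) where
  toFun := fun v => Multiplicative.ofAdd (chi R M B v)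
  map_one' := by
    have h := chi_mul R M B 1 1
    rw [_root_.one_mul] at h
    have h0 : chi R M B 1 = 0 := by
      have := congrArg (fun t => t - chi R M B 1) h
      simpa using this.symm
    rw [h0]; rfl
  map_mul' := fun v w => by rw [chi_mul]; rfl

theorem eHom_bijective : Function.Bijective (eHom R M B) :=
  ⟨fun v w h => chi_injective R M B (Multiplicative.ofAdd.injective h),
   fun χ => by
    obtain ⟨v, hv⟩ := chi_surjective R M B (Multiplicative.toAdd χ)
    exact ⟨v, by change Multiplicative.ofAdd (chi R M B v) = χ; rw [hv]; rfl⟩⟩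

/-- the multiplicative equivalence -/
noncomputable def eEquiv : LieS.LieR (Red.diag R M) B ≃* Multiplicative (M →+ B) :=
  MulEquiv.ofBijective (eHom R M B) (eHom_bijective R M B)

/-- First isomorphism: over an affine base: for a commutative ring R, a commutative group M, the
diagonalisable group D(M) = Spec R[M] over Spec R and a commutative R-algebra B, the group
Lie(D(M))(Spec B) is identified with the additive group Hom(M, B) of group homomorphisms: there is a
multiplicative isomorphism which sends a point v of D(M) with values in B[ε], read as an R-algebra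
homomorphism from R[M] to B[ε], to the homomorphism m ↦ (ε-coefficient of the image of m), and which
carries the rescaling action of b in B to multiplication of homomorphisms by b. -/
theorem result (R : Type u) [CommRing R] (M : Type) [AddCommGroup M]
    (B : Type u) [CommRing B] [Algebra R B] :
    ∃ e : LieS.LieR (Red.diag R M) B ≃* Multiplicative (M →+ B),
      (∀ (v : LieS.LieR (Red.diag R M) B) (m : M),
        Multiplicative.toAdd (e v) m =
          TrivSqZeroExt.snd (((Spec.mapMulEquiv.symm ((LieS.dptIso B).inv ≫ v.1)).ofConv :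
            MonoidAlgebra R (Multiplicative M) →ₐ[R] DualNumber B)
            (MonoidAlgebra.single (Multiplicative.ofAdd m) 1))) ∧
      ∀ (b : B) (v : LieS.LieR (Red.diag R M) B),
        e (b • v) = Multiplicative.ofAdd (b • Multiplicative.toAdd (e v)) := by
  refine ⟨eEquiv R M B, fun v m => rfl, fun b v => ?_⟩
  change Multiplicative.ofAdd (chi R M B (b • v)) = Multiplicative.ofAdd (b • chi R M B v)
  rw [chi_smul]

end Groth.Agent.S8358
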