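import Groth.Statements.S8359
import Groth.Agent.Lib.Helper14.MTActMain
import Groth.Agent.Lib.Helper14.MTCentral

set_option autoImplicit false
universe u
open CategoryTheory MonObj AlgebraicGeometry
open Red

namespace Groth.Agent.S8359

open Groth.Agent.Lib.Helper14
open MonoidalCategory CartesianMonoidalCategory

open scoped Obj in
/-- a point over the closed subscheme is killed by a homomorphism trivial over it -/
theorem comp_eq_one_of_bc_eq_one {S S₀ : Scheme.{u}} (i₀ : S₀ ⟶ S) {D X : Over S} [GrpObj D]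
    [GrpObj X] (f : D ⟶ X) (h : (Over.pullback i₀).map f = 1)
    (Y : Over S) (p : Y ⟶ Over.mk i₀) (d : Y ⟶ D) : d ≫ f = 1 := by
  let Y₀ : Over S₀ := Over.mk p.left
  let e : (Over.map i₀).obj Y₀ ≅ Y := Over.isoMk (Iso.refl _) (by
    simp only [Iso.refl_hom, Category.id_comp]
    exact (Over.w p).symm)
  have key : ∀ d' : (Over.map i₀).obj Y₀ ⟶ D, d' ≫ f = 1 := by
    intro d'
    obtain ⟨v, rfl⟩ : ∃ v, d' = MTTransport.ψ (Over.mapPullbackAdj i₀) v :=
      ⟨(Over.mapPullbackAdj i₀).homEquiv _ _ d', ((Over.mapPullbackAdj i₀).homEquiv _ _).symm_apply_apply d' |>.symm⟩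
    rw [← MTTransport.ψ_comp_map, h, MonObj.comp_one, MTTransport.ψ_one]
  have h1 := key (e.hom ≫ d)
  have h2 : d ≫ f = e.inv ≫ (e.hom ≫ d) ≫ f := by simp
  rw [h2, h1, MonObj.comp_one]


/-- Over an affine base S = Spec R with S₀ = Spec (R/I) for a nilpotent ideal I: for a commutative group
M, the diagonalisable group D(M) = Spec R[M] over S, a group scheme X locally of finite presentation
over S and a homomorphism f from D(M) to X, if the base change of f to S₀ is the unit homomorphism
then f is the unit homomorphism. (The published statement is over an arbitrary base scheme with S₀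
defined by a nilpotent quasi-coherent ideal; this row is its case of an affine base.) -/
theorem result (R : Type u) [CommRing R] (I : Ideal R) (hI : IsNilpotent I)
    (M : Type) [AddCommGroup M] (X : Over (Spec (CommRingCat.of R))) [GrpObj X]
    [LocallyOfFinitePresentation X.hom] (f : Red.diag R M ⟶ X) [IsMonHom f]
    (h : (Over.pullback (Spec.map (CommRingCat.ofHom (Ideal.Quotient.mk I)))).map f = 1) :
    f = 1 := by
  let i₀ : Spec (CommRingCat.of (R ⧸ I)) ⟶ Spec (CommRingCat.of R) := Spec.map (CommRingCat.ofHom (Ideal.Quotient.mk I))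
  haveI : IsClosedImmersion i₀ :=
    IsClosedImmersion.spec_of_surjective _ Ideal.Quotient.mk_surjective
  let D : Over (Spec (CommRingCat.of R)) := Red.diag R M
  -- the translation action
  let act : D ⊗ X ⟶ X := (fst D X ≫ f) * snd D X
  have hact : ∀ (Y : Over (Spec (CommRingCat.of R))) (d : Y ⟶ D) (x : Y ⟶ X), lift d x ≫ act = (d ≫ f) * x := by
    intro Y d x
    rw [MonObj.comp_mul, lift_fst_assoc, lift_snd]
  let a : AlgGrp.Action D X := MTCentral.actionOfPts act
    (fun Y x => by rw [hact, MonObj.one_comp, _root_.one_mul])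
    (fun Y g h x => by rw [hact, hact, hact, MonObj.mul_comp, _root_.mul_assoc])
  have h0 : ∀ (Y : Over (Spec (CommRingCat.of R))) (p : Y ⟶ Over.mk i₀) (g : Y ⟶ D) (x : Y ⟶ X),
      lift g x ≫ a.act = x := by
    intro Y p g x
    change lift g x ≫ act = x
    rw [hact, comp_eq_one_of_bc_eq_one i₀ f h Y p g, _root_.one_mul]
  -- nilpotency of the ideal
  have hnil : IsNilpotent (i₀.ker.ideal ⟨⊤, isAffineOpen_top (Spec (CommRingCat.of R))⟩) := by
    obtain ⟨n, hn⟩ := hI
    refine ⟨n, ?_⟩
    rw [Ideal.zero_eq_bot] at hn ⊢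
    rw [eq_bot_iff]
    have hle : i₀.ker.ideal ⟨⊤, isAffineOpen_top (Spec (CommRingCat.of R))⟩ ≤
        Ideal.comap (Scheme.ΓSpecIso (CommRingCat.of R)).hom.hom I := by
      intro z hz
      rw [Scheme.Hom.ker_apply, RingHom.mem_ker] at hz
      have h2 := congrArg (fun l => l.hom z)
        (Scheme.ΓSpecIso_naturality (CommRingCat.ofHom (Ideal.Quotient.mk I)))
      simp only [CommRingCat.hom_comp, RingHom.comp_apply] at h2
      have h3 : (Ideal.Quotient.mk I) ((Scheme.ΓSpecIso (CommRingCat.of R)).hom.hom z) = 0 := by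
        refine h2.symm.trans ?_
        have : (i₀.appTop).hom z = 0 := hz
        rw [show (Spec.map (CommRingCat.ofHom (Ideal.Quotient.mk I))).appTop = i₀.appTop from rfl,
          this, map_zero]
      show (Scheme.ΓSpecIso (CommRingCat.of R)).hom.hom z ∈ I
      exact Ideal.Quotient.eq_zero_iff_mem.mp h3
    refine (Ideal.pow_right_mono hle n).trans ?_
    refine (Ideal.le_comap_pow _ n).trans ?_
    rw [hn]
    intro z hz
    have hz' : (Scheme.ΓSpecIso (CommRingCat.of R)).hom.hom z = 0 := hz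
    have hinj : Function.Injective (Scheme.ΓSpecIso (CommRingCat.of R)).hom.hom :=
      (ConcreteCategory.bijective_of_isIso (Scheme.ΓSpecIso (CommRingCat.of R)).hom).1
    exact hinj (hz'.trans (map_zero _).symm)
  -- the trivialisation
  obtain ⟨ε, hε⟩ : ∃ ε : Red.bc (𝟙 (Spec (CommRingCat.of R))) D ≅
      Red.bc (Spec.map (CommRingCat.ofHom (algebraMap R R))) (Red.diag R M),
      IsMonHom ε.hom := by
    have ht : Spec.map (CommRingCat.ofHom (algebraMap R R)) = 𝟙 (Spec (CommRingCat.of R)) := Spec.map_id _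
    suffices H : ∀ t : Spec (CommRingCat.of R) ⟶ Spec (CommRingCat.of R), t = 𝟙 (Spec (CommRingCat.of R)) → ∃ ε : Red.bc (𝟙 (Spec (CommRingCat.of R))) D ≅ Red.bc t (Red.diag R M),
        IsMonHom ε.hom from H _ ht
    rintro t rfl
    exact ⟨Iso.refl _, by dsimp only [Iso.refl_hom]; infer_instance⟩
  have key := MTActMain.local_case i₀ D X a h0 ⟨⊤, isAffineOpen_top (Spec (CommRingCat.of R))⟩ hnil R R (𝟙 (Spec (CommRingCat.of R)))
    (Scheme.topIso (Spec (CommRingCat.of R))).inv (Scheme.toIso_inv_ι _) M ε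
  have hact_eq : a.act = snd D X := MTDescent.hom_ext_of_flat_surj (𝟙 (Spec (CommRingCat.of R))) _ _ key
  have h1 : lift (𝟙 D) (1 : D ⟶ X) ≫ act = f * 1 := by rw [hact, Category.id_comp]
  have h2 : lift (𝟙 D) (1 : D ⟶ X) ≫ act = 1 := by
    change lift (𝟙 D) (1 : D ⟶ X) ≫ a.act = 1
    rw [hact_eq, lift_snd]
  rw [← _root_.mul_one f, ← h1, h2]

end Groth.Agent.S8359
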