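import Groth.Statements.S8361
import Mathlib
import Groth.Agent.Lib.Helper25.LieTangent
-- import your own Groth.Agent.* helpers here

set_option autoImplicit false
set_option linter.unusedSectionVars false
set_option linter.style.haveILetI false
set_option linter.unusedVariables false
set_option linter.deprecated false
universe u
open CategoryTheory MonObj AlgebraicGeometry
open LieS

namespace Groth.Agent.S8361

open Groth.Agent.Lib.Helper25.SpecEpi Groth.Agent.Lib.Helper25.LieTangent

theorem mulMap_left {S : Scheme.{u}} (B : Type u) [CommRing B]
    (f : Spec (CommRingCat.of B) ⟶ S) :
    (mulMap B f).left = Spec.map (mulHomC B) := rfl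

theorem left_ext {S : Scheme.{u}} (G : Over S) (B : Type u) [CommRing B]
    (f : Spec (CommRingCat.of B) ⟶ S) (p q : dpt B f ⟶ G)
    (h : (mulMap B f).left ≫ p.left = (mulMap B f).left ≫ q.left) : p = q := by
  apply Over.OverMorphism.ext
  rw [mulMap_left] at h
  exact mulHomC_epi B p.left q.left h

/-- Uniqueness of the bracket: for a group scheme G over a scheme S and an affine S-scheme T = Spec B:
an element of Lie(G/S)(T) is determined by its pull-back along the coordinate-multiplying map from
the iterated dual numbers over T to the dual numbers over T; in particular the bracket of x and y,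
the element whose pull-back is the commutator of x read in the second dual coordinate with y read in
the first, is unique when it exists. -/
theorem result (S : Scheme.{u}) (G : Over S) [GrpObj G] (B : Type u) [CommRing B]
    (f : Spec (CommRingCat.of B) ⟶ S) (x y z z' : LieS.Lie G B f)
    (h : LieS.IsBracket G B f x y z) (h' : LieS.IsBracket G B f x y z') : z = z' := by
  have e : mulMap B f ≫ z.1 = mulMap B f ≫ z'.1 := h.trans h'.symm
  have e1 : (mulMap B f ≫ z.1).left = (mulMap B f ≫ z'.1).left := by rw [e]
  rw [Over.comp_left, Over.comp_left] at e1
  exact Subtype.ext (left_ext G B f _ _ e1)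

end Groth.Agent.S8361
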