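import Groth.Statements.S8362
import Groth.Agent.Lib.Helper28.SqZeroSch

set_option autoImplicit false
universe u
open CategoryTheory AlgebraicGeometry
open SGA3

open CategoryTheory.Limits Groth.Agent.Lib.Helper28

namespace Groth.Agent.S8362

/-- Over an affine base S = Spec R with S₀ = Spec (R/J) for an ideal J of square zero: for an arbitrary
S-scheme X, every S-endomorphism of X inducing the identity on X ×_S S₀ is an automorphism. (The
published statement is over an arbitrary base scheme with a quasi-coherent ideal of square zero;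
this row is its case of an affine base, to which it reduces since being an isomorphism is local on
the base.) -/
theorem result (R : Type u) [CommRing R] (J : Ideal R) (hJ : J * J = ⊥)
    (X : Over (Spec (CommRingCat.of R))) (u : X ⟶ X)
    (h : (Over.pullback (Spec.map (CommRingCat.ofHom (Ideal.Quotient.mk J)))).map u = 𝟙 _) :
    IsIso u := by
  classical
  set j := Spec.map (CommRingCat.ofHom (Ideal.Quotient.mk J)) with hj
  -- step 1
  have h1 : pullback.fst X.hom j ≫ u.left = pullback.fst X.hom j := by
    have := congr($(h).left ≫ pullback.fst X.hom j)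
    simpa only [CategoryTheory.Over.pullback_map_left, pullback.lift_fst, Over.id_left,
      Category.id_comp] using this
  -- step 2
  haveI : Surjective j := by
    refine ⟨fun P => ?_⟩
    have hJP : J ≤ P.asIdeal := by
      intro a ha
      have : a * a ∈ P.asIdeal := by
        have : a * a ∈ J * J := Ideal.mul_mem_mul ha ha
        rw [hJ, Ideal.mem_bot] at this
        rw [this]; exact P.asIdeal.zero_mem
      exact (P.isPrime.mem_or_mem this).elim id id
    have hmem : P ∈ Set.range (PrimeSpectrum.comap (Ideal.Quotient.mk J)) := by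
      rw [range_comap_of_surjective _ _ Ideal.Quotient.mk_surjective, Ideal.mk_ker]
      exact hJP
    exact hmem
  have hbase : ∀ x : X.left, u.left x = x := by
    intro x
    obtain ⟨x₀, rfl⟩ := (pullback.fst X.hom j).surjective x
    rw [← Scheme.Hom.comp_apply, h1]
  have hpre : ∀ U : X.left.Opens, u.left ⁻¹ᵁ U = U := by
    intro U
    ext x
    change u.left x ∈ U ↔ x ∈ U
    rw [hbase]
  suffices hiso : IsIso u.left by
    haveI : IsIso ((Over.forget (Spec (CommRingCat.of R))).map u) := hiso
    exact isIso_of_reflects_iso u (Over.forget _)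
  change MorphismProperty.isomorphisms Scheme.{u} u.left
  rw [IsZariskiLocalAtTarget.iff_of_iSup_eq_top (P := MorphismProperty.isomorphisms Scheme.{u})
    (fun U : X.left.affineOpens => U.1) (iSup_affineOpens_eq_top _)]
  intro U
  haveI : IsAffine (U.1 : Scheme.{u}) := U.2
  let v : (U.1 : Scheme.{u}) ⟶ (U.1 : Scheme.{u}) := IsOpenImmersion.lift U.1.ι (U.1.ι ≫ u.left) (by
    rintro _ ⟨x, rfl⟩
    rw [Scheme.Hom.comp_apply, hbase]
    exact ⟨x, rfl⟩)
  have hv : v ≫ U.1.ι = U.1.ι ≫ u.left := IsOpenImmersion.lift_fac _ _ _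
  have hv1 : v ≫ (U.1.ι ≫ X.hom) = U.1.ι ≫ X.hom := by
    rw [← Category.assoc, hv, Category.assoc, CategoryTheory.Over.w]
  have hv2 : pullback.fst (U.1.ι ≫ X.hom) j ≫ v = pullback.fst (U.1.ι ≫ X.hom) j := by
    rw [← cancel_mono U.1.ι, Category.assoc, hv]
    have hm : pullback.map (U.1.ι ≫ X.hom) j X.hom j U.1.ι (𝟙 _) (𝟙 _) (by simp) (by simp) ≫
        pullback.fst X.hom j = pullback.fst (U.1.ι ≫ X.hom) j ≫ U.1.ι := pullback.lift_fst _ _ _
    rw [← Category.assoc, ← hm, Category.assoc, h1]
  haveI : IsIso v := SqZero.isIso_of_isAffine R J hJ (U.1.ι ≫ X.hom) v hv1 hv2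
  have e : u.left ∣_ U.1 = (X.left.isoOfEq (hpre U.1)).hom ≫ v := by
    rw [← cancel_mono U.1.ι, morphismRestrict_ι, Category.assoc, hv, ← Category.assoc,
      Scheme.isoOfEq_hom_ι]
  rw [e]
  exact (inferInstance : IsIso ((X.left.isoOfEq (hpre U.1)).hom ≫ v))

end Groth.Agent.S8362
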