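import Groth.Statements.S8364
-- import your own Groth.Agent.* helpers here

set_option autoImplicit false
universe u
open SGA3

namespace Groth.Agent.S8364

/-- For a commutative ring R, an ideal J of R of square zero, a smooth R-algebra A and the extended
ideal I = J·A, every R-algebra automorphism of A/I lifts to an R-algebra automorphism of A. (The
published statement concerns the automorphism functor of a smooth affine S-scheme E and affine test
schemes Y; this row is the case Y = S = Spec R, E = Spec A, which gives the general one after
replacing R by the ring of Y.) -/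
theorem result (R A : Type u) [CommRing R] [CommRing A] [Algebra R A]
    [Algebra.Smooth R A] (J : Ideal R) (hJ : J * J = ⊥)
    (φ₀ : (A ⧸ Ideal.map (algebraMap R A) J) ≃ₐ[R] (A ⧸ Ideal.map (algebraMap R A) J)) :
    ∃ φ : A ≃ₐ[R] A,
      (Ideal.Quotient.mkₐ R (Ideal.map (algebraMap R A) J)).comp φ.toAlgHom =
        φ₀.toAlgHom.comp (Ideal.Quotient.mkₐ R (Ideal.map (algebraMap R A) J)) := by
  classical
  have hI2 : Ideal.map (algebraMap R A) J * Ideal.map (algebraMap R A) J = ⊥ := by
    rw [← Ideal.map_mul, hJ, Ideal.map_bot]
  have hnil : IsNilpotent (Ideal.map (algebraMap R A) J) := ⟨2, by rw [pow_two, hI2]; rfl⟩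
  -- key: an endomorphism congruent to the identity mod I is bijective
  have key : ∀ h : A →ₐ[R] A, (∀ a, h a - a ∈ Ideal.map (algebraMap R A) J) →
      Function.Bijective h := by
    intro h hh
    have hfix : ∀ x ∈ Ideal.map (algebraMap R A) J, h x = x := by
      intro x hx
      unfold Ideal.map at hx
      induction hx using Submodule.span_induction with
      | mem x hx =>
        obtain ⟨j, -, rfl⟩ := hx
        exact h.commutes j
      | zero => exact map_zero h
      | add x y _ _ hx hy => rw [map_add, hx, hy]
      | smul a x hx ih =>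
        rw [smul_eq_mul, map_mul, ih]
        have h1 : (h a - a) * x ∈ Ideal.map (algebraMap R A) J * Ideal.map (algebraMap R A) J :=
          Ideal.mul_mem_mul (hh a) hx
        rw [hI2, Ideal.mem_bot] at h1
        have : h a * x = a * x + (h a - a) * x := by ring
        rw [this, h1, add_zero]
    constructor
    · intro a b hab
      have h1 : h (a - b) = 0 := by rw [map_sub, hab, sub_self]
      have h2 : a - b ∈ Ideal.map (algebraMap R A) J := by
        have := hh (a - b)
        rw [h1, zero_sub] at this
        simpa using (Ideal.neg_mem_iff _).mpr this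
      have h3 := hfix _ h2
      rw [h1] at h3
      exact sub_eq_zero.mp h3.symm
    · intro b
      refine ⟨b - (h b - b), ?_⟩
      rw [map_sub, hfix _ (hh b)]
      ring
  set f := Algebra.FormallySmooth.lift (R := R) (A := A) _ hnil
    (φ₀.toAlgHom.comp (Ideal.Quotient.mkₐ R (Ideal.map (algebraMap R A) J))) with hf
  set g := Algebra.FormallySmooth.lift (R := R) (A := A) _ hnil
    (φ₀.symm.toAlgHom.comp (Ideal.Quotient.mkₐ R (Ideal.map (algebraMap R A) J))) with hg
  have hfm : ∀ a, Ideal.Quotient.mk (Ideal.map (algebraMap R A) J) (f a) =
      φ₀ (Ideal.Quotient.mk _ a) := fun a => Algebra.FormallySmooth.mk_lift _ hnil _ a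
  have hgm : ∀ a, Ideal.Quotient.mk (Ideal.map (algebraMap R A) J) (g a) =
      φ₀.symm (Ideal.Quotient.mk _ a) := fun a => Algebra.FormallySmooth.mk_lift _ hnil _ a
  have hfg : Function.Bijective (f.comp g) := by
    apply key
    intro a
    rw [← Ideal.Quotient.eq]
    show Ideal.Quotient.mk _ (f (g a)) = _
    rw [hfm, hgm, AlgEquiv.apply_symm_apply]
  have hgf : Function.Bijective (g.comp f) := by
    apply key
    intro a
    rw [← Ideal.Quotient.eq]
    show Ideal.Quotient.mk _ (g (f a)) = _
    rw [hgm, hfm, AlgEquiv.symm_apply_apply]
  have hfb : Function.Bijective f := by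
    constructor
    · exact Function.Injective.of_comp (f := g) hgf.1
    · exact Function.Surjective.of_comp (g := g) hfg.2
  refine ⟨AlgEquiv.ofBijective f hfb, ?_⟩
  apply AlgHom.ext
  intro a
  exact hfm a

end Groth.Agent.S8364
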