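import Groth.Statements.S8365
import Mathlib
import Groth.Agent.Lib.Helper25.LieTangent
-- import your own Groth.Agent.* helpers here

set_option autoImplicit false
set_option linter.unusedSectionVars false
set_option linter.style.haveILetI false
set_option linter.unusedVariables false
set_option linter.deprecated false
universe u
open CategoryTheory MonObj AlgebraicGeometry
open LieS

namespace Groth.Agent.S8365

open Groth.Agent.Lib.Helper25.SpecEpi Groth.Agent.Lib.Helper25.LieTangent

section
variable {S : Scheme.{u}} (X : Over S) [MonObj X] (B : Type u) [CommRing B]
    (f : Spec (CommRingCat.of B) ⟶ S)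

/-- precomposition as a monoid hom -/
def preHom {Y Z : Over S} (g : Y ⟶ Z) : (Z ⟶ X) →* (Y ⟶ X) where
  toFun t := g ≫ t
  map_one' := MonObj.comp_one g
  map_mul' a b := MonObj.comp_mul g a b

theorem isUnit_of_restrict_one (v : dpt B f ⟶ X) (hv : zeroSec B f ≫ v = 1) : IsUnit v := by
  have h1 : v * (scale B f (-1) ≫ v) = 1 := by
    have := add_scale B f v hv 1 (-1)
    rw [add_neg_cancel, scale_zero_comp B f v hv, scale_one, Category.id_comp] at this
    exact this.symm
  have h2 : (scale B f (-1) ≫ v) * v = 1 := by
    have := add_scale B f v hv (-1) 1
    rw [neg_add_cancel, scale_zero_comp B f v hv, scale_one, Category.id_comp] at this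
    exact this.symm
  exact ⟨⟨v, scale B f (-1) ≫ v, h1, h2⟩, rfl⟩

end

/-- For a monoid scheme X over a scheme S (an associative unital monoid object in S-schemes) and an
affine S-scheme T = Spec B, a point of X with values in the dual numbers over T is invertible if and
only if its restriction along the zero section ε = 0 is invertible in X(T); in particular every such
point restricting to the unit section is invertible. (The published statement is for monoid-valued
functors satisfying a tangent-space exactness condition, which every representable functor
satisfies, and its special case where the restriction is the unit section allows unital composition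
laws that need not be associative; this row treats monoid schemes only.) -/
theorem result (S : Scheme.{u}) (X : Over S) [MonObj X] (B : Type u) [CommRing B]
    (f : Spec (CommRingCat.of B) ⟶ S) (v : LieS.dpt B f ⟶ X) :
    IsUnit v ↔ IsUnit (LieS.zeroSec B f ≫ v) := by
  constructor
  · intro h
    exact h.map (preHom X (zeroSec B f))
  · intro h
    obtain ⟨⟨v₀, w₀, h1, h2⟩, hv₀⟩ := h
    simp only at hv₀
    have hw : IsUnit (proj B f ≫ v₀) :=
      (show IsUnit v₀ from ⟨⟨v₀, w₀, h1, h2⟩, rfl⟩).map (preHom X (proj B f))
    have hv' : zeroSec B f ≫ (v * (proj B f ≫ w₀)) = 1 := by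
      rw [MonObj.comp_mul, ← Category.assoc (zeroSec B f), zeroSec_proj, Category.id_comp, ← hv₀, h1]
    have hu := isUnit_of_restrict_one X B f _ hv'
    have hprod : v * (proj B f ≫ w₀) * (proj B f ≫ v₀) = v := by
      rw [_root_.mul_assoc, ← MonObj.comp_mul, h2, MonObj.comp_one, _root_.mul_one]
    rw [← hprod]
    exact hu.mul hw

end Groth.Agent.S8365
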