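import Groth.Statements.S8369
import Mathlib.RingTheory.Flat.Basic
import Mathlib.LinearAlgebra.TensorProduct.RightExactness

set_option autoImplicit false
universe u v
open SGA3

namespace Groth.Agent.S8369

open TensorProduct

section key

variable {A : Type u} [CommRing A] (J : Ideal A) {M : Type v} [AddCommGroup M] [Module A M]

/-- multiplication map `J ⊗ M → M` -/
noncomputable def mu (M : Type v) [AddCommGroup M] [Module A M] : J ⊗[A] M →ₗ[A] M :=
  (TensorProduct.lid A M).toLinearMap ∘ₗ (J.subtype.rTensor M)

@[simp] lemma mu_tmul (j : J) (m : M) : mu J M (j ⊗ₜ m) = (j : A) • m := by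
  simp [mu]

lemma mu_mem (t : J ⊗[A] M) : mu J M t ∈ J • (⊤ : Submodule A M) := by
  induction t using TensorProduct.induction_on with
  | zero => simp
  | tmul j m => rw [mu_tmul]; exact Submodule.smul_mem_smul j.2 Submodule.mem_top
  | add x y hx hy => rw [map_add]; exact Submodule.add_mem _ hx hy

lemma exists_mu (x : M) (hx : x ∈ J • (⊤ : Submodule A M)) : ∃ t : J ⊗[A] M, mu J M t = x := by
  refine Submodule.smul_induction_on hx ?_ ?_
  · intro j hj m _
    exact ⟨(⟨j, hj⟩ : J) ⊗ₜ m, by simp⟩
  · rintro x y ⟨t1, h1⟩ ⟨t2, h2⟩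
    exact ⟨t1 + t2, by rw [map_add, h1, h2]⟩

lemma mu_nat {M' : Type*} [AddCommGroup M'] [Module A M'] (g : M →ₗ[A] M') (t : J ⊗[A] M) :
    mu J M' (g.lTensor J t) = g (mu J M t) := by
  induction t using TensorProduct.induction_on with
  | zero => simp
  | tmul j m => simp
  | add x y hx hy => simp only [map_add, hx, hy]

theorem inter_eq (N : Submodule A M) [Module.Flat A (M ⧸ N)] (x : M) (hxN : x ∈ N)
    (hxJ : x ∈ J • (⊤ : Submodule A M)) : x ∈ J • N := by
  obtain ⟨t, ht⟩ := exists_mu J x hxJ
  have hinj : Function.Injective (mu J (M ⧸ N)) := by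
    unfold mu
    rw [LinearMap.coe_comp, LinearEquiv.coe_coe, (TensorProduct.lid A (M ⧸ N)).injective.of_comp_iff]
    exact Module.Flat.rTensor_preserves_injective_linearMap _ Subtype.val_injective
  have h0 : (N.mkQ).lTensor J t = 0 := by
    apply hinj
    rw [mu_nat, ht, map_zero]
    exact (Submodule.Quotient.mk_eq_zero N).mpr hxN
  have hex : Function.Exact (N.subtype.lTensor J) (N.mkQ.lTensor J) :=
    lTensor_exact J (LinearMap.exact_subtype_mkQ N) (Submodule.mkQ_surjective N)
  obtain ⟨u, hu⟩ := (hex t).mp h0
  have : x = N.subtype (mu J N u) := by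
    rw [← mu_nat, hu, ht]
  rw [this]
  have h1 := mu_mem J u
  have h2 := Submodule.mem_map_of_mem (f := N.subtype) h1
  rw [Submodule.map_smul'', Submodule.map_top, Submodule.range_subtype] at h2
  exact h2

end key


/-- Let A be a commutative ring, J a nilpotent ideal, N ⊆ M A-modules with M/N flat over A. If elements
of N have images generating the image of N in M/JM, then they generate N. (The published statement
takes finitely many elements; this row allows an arbitrary set, which the same argument permits.) -/
theorem result (A : Type u) [CommRing A] (J : Ideal A) (hJ : IsNilpotent J)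
    (M : Type v) [AddCommGroup M] [Module A M] (N : Submodule A M) [Module.Flat A (M ⧸ N)] (s : Set M)
    (hs : s ⊆ N)
    (hgen : (Submodule.span A s).map (J • (⊤ : Submodule A M)).mkQ = N.map (J • (⊤ : Submodule A M)).mkQ) :
    Submodule.span A s = N := by
  have hSN : Submodule.span A s ≤ N := Submodule.span_le.mpr hs
  apply le_antisymm hSN
  -- N ≤ S + J N
  have h1 : N ≤ Submodule.span A s ⊔ J • N := by
    intro n hn
    have : (J • (⊤ : Submodule A M)).mkQ n ∈ N.map (J • (⊤ : Submodule A M)).mkQ := Submodule.mem_map_of_mem hn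
    rw [← hgen] at this
    obtain ⟨s0, hs0, hs0n⟩ := this
    have hx : n - s0 ∈ J • (⊤ : Submodule A M) := by
      rw [← Submodule.Quotient.mk_eq_zero, Submodule.Quotient.mk_sub, sub_eq_zero]
      exact hs0n.symm
    have hxN : n - s0 ∈ N := N.sub_mem hn (hSN hs0)
    have := inter_eq J N (n - s0) hxN hx
    have h3 : n = s0 + (n - s0) := by abel
    rw [h3]
    exact Submodule.add_mem_sup hs0 this
  have h2 : ∀ k : ℕ, N ≤ Submodule.span A s ⊔ J ^ k • N := by
    intro k
    induction k with
    | zero => rw [pow_zero, Ideal.one_eq_top, Submodule.top_smul]; exact le_sup_right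
    | succ k ih =>
      calc N ≤ Submodule.span A s ⊔ J • N := h1
        _ ≤ Submodule.span A s ⊔ J • (Submodule.span A s ⊔ J ^ k • N) :=
          sup_le_sup_left (Submodule.smul_mono le_rfl ih) _
        _ = Submodule.span A s ⊔ (J • Submodule.span A s ⊔ J • J ^ k • N) := by rw [Submodule.smul_sup]
        _ ≤ Submodule.span A s ⊔ J ^ (k + 1) • N := by
          rw [← Submodule.mul_smul, ← pow_succ']
          refine sup_le le_sup_left (sup_le ?_ le_sup_right)
          exact le_trans Submodule.smul_le_right le_sup_left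
  obtain ⟨k, hk⟩ := hJ
  have := h2 k
  rw [hk, Ideal.zero_eq_bot, Submodule.bot_smul, sup_bot_eq] at this
  exact this

end Groth.Agent.S8369
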