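import Groth.Statements.S8370
import Mathlib
-- import your own Groth.Agent.* helpers here

set_option autoImplicit false
set_option linter.unusedSectionVars false
set_option linter.style.haveILetI false
set_option linter.unusedVariables false
set_option linter.deprecated false
universe u
open CategoryTheory MonObj AlgebraicGeometry
open LieS

namespace Groth.Agent.S8370

open MonoidalCategory CartesianMonoidalCategory GrpObj Opposite

section Ring

variable {B C : Type u} [CommRing B] [CommRing C]

lemma dualNumber_decomp (x : DualNumber B) :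
    x = algebraMap B (DualNumber B) x.fst + algebraMap B (DualNumber B) x.snd * DualNumber.eps := by
  apply TrivSqZeroExt.ext <;> simp [TrivSqZeroExt.algebraMap_eq_inl']

/-- every ring hom out of the dual numbers is a `dualHom`. -/
lemma eq_dualHom (φ : DualNumber B →+* C) :
    φ = dualHom (φ.comp (algebraMap B (DualNumber B))) (φ DualNumber.eps)
      (by rw [← map_mul, eps_sq, map_zero]) := by
  refine RingHom.ext fun x => ?_
  conv_lhs => rw [dualNumber_decomp x]
  simp

lemma dualHom_id_comp_bcHom (h : B →+* C) (c : C) (hc : c * c = 0) :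
    (dualHom (RingHom.id C) c hc).comp (bcHom h) = dualHom h c hc := by
  refine RingHom.ext fun x => ?_
  simp [bcHom, TrivSqZeroExt.algebraMap_eq_inl']

end Ring

section Sch

variable {S : Scheme.{u}}

/-- the section of `proj` given by `ε ↦ c`. -/
noncomputable def sec (C : Type u) [CommRing C] (g : Spec (CommRingCat.of C) ⟶ S) (c : C) (hc : c * c = 0) :
    pt C g ⟶ dpt C g :=
  Over.homMk (Spec.map (CommRingCat.ofHom (dualHom (RingHom.id C) c hc))) (by
    change Spec.map _ ≫ Spec.map _ ≫ g = g
    rw [← Category.assoc, specMap_comp, dualHom_comp_algebraMap, CommRingCat.ofHom_id]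
    erw [Spec.map_id]; exact Category.id_comp g)

lemma sec_proj (C : Type u) [CommRing C] (g : Spec (CommRingCat.of C) ⟶ S) (c : C) (hc : c * c = 0) :
    sec C g c hc ≫ proj C g = 𝟙 _ := by
  ext; change Spec.map _ ≫ Spec.map _ = 𝟙 _
  rw [specMap_comp, dualHom_comp_algebraMap, CommRingCat.ofHom_id]; erw [Spec.map_id]

lemma sec_dptMap_left {B : Type u} [CommRing B] (f : Spec (CommRingCat.of B) ⟶ S)
    (C : Type u) [CommRing C] (h : B →+* C) (c : C) (hc : c * c = 0) :
    (sec C (Spec.map (CommRingCat.ofHom h) ≫ f) c hc ≫ dptMap f h).left =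
      Spec.map (CommRingCat.ofHom (dualHom h c hc)) := by
  change Spec.map _ ≫ Spec.map _ = _
  rw [specMap_comp, dualHom_id_comp_bcHom]

variable (G K : Over S) [GrpObj G] [GrpObj K] (i : K ⟶ G)

lemma affine_piece (B : Type u) [CommRing B] (f : Spec (CommRingCat.of B) ⟶ S) (x : LieS.Lie G B f)
    (hyp : ∀ (B' : Type u) [CommRing B'] (h : B →+* B')
      (k : LieS.pt B' (Spec.map (CommRingCat.ofHom h) ≫ f) ⟶ K),
      LieS.Ad G B' (Spec.map (CommRingCat.ofHom h) ≫ f) (k ≫ i) (LieS.pull G f h x) = LieS.pull G f h x)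
    (X' : Over S) (y : X' ⟶ LieS.dpt B f) (hK : X' ⟶ K)
    (C : Type u) [CommRing C] (jm : Spec (CommRingCat.of C) ⟶ X'.left) :
    jm ≫ ((y ≫ x.1) * (hK ≫ i)).left = jm ≫ ((hK ≫ i) * (y ≫ x.1)).left := by
  let yl : Spec (CommRingCat.of C) ⟶ Spec (CommRingCat.of (DualNumber B)) := jm ≫ y.left
  let φ : DualNumber B →+* C := (Spec.preimage yl).hom
  have hφ : Spec.map (CommRingCat.ofHom φ) = yl := Spec.map_preimage yl
  let h₀ : B →+* C := φ.comp (algebraMap B (DualNumber B))
  let c : C := φ DualNumber.eps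
  have hc : c * c = 0 := by
    change φ DualNumber.eps * φ DualNumber.eps = 0
    rw [← map_mul, eps_sq, map_zero]
  let g : Spec (CommRingCat.of C) ⟶ S := Spec.map (CommRingCat.ofHom h₀) ≫ f
  have hg : jm ≫ X'.hom = g := by
    have hw : y.left ≫ (LieS.dpt B f).hom = X'.hom := Over.w y
    rw [← hw, ← Category.assoc]
    change yl ≫ (Spec.map (CommRingCat.ofHom (algebraMap B (DualNumber B))) ≫ f) = g
    rw [← hφ, ← Category.assoc, specMap_comp]
  let jm' : pt C g ⟶ X' := Over.homMk jm hg
  let σ : pt C g ⟶ dpt C g := sec C g c hc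
  have hσy : σ ≫ dptMap f h₀ = jm' ≫ y := by
    apply Over.OverMorphism.ext
    rw [sec_dptMap_left]
    change _ = yl
    rw [← hφ]
    congr 2
    exact (eq_dualHom φ).symm
  let k : pt C g ⟶ K := jm' ≫ hK
  have h1 := congrArg Subtype.val (hyp C h₀ k)
  have h2 : (proj C g ≫ (k ≫ i)) * (dptMap f h₀ ≫ x.1) * (proj C g ≫ (k ≫ i))⁻¹ =
      dptMap f h₀ ≫ x.1 := h1
  have h3 := congrArg (fun m => σ ≫ m) h2
  simp only [MonObj.comp_mul, GrpObj.comp_inv] at h3
  rw [← Category.assoc σ (proj C g), sec_proj, Category.id_comp, ← Category.assoc σ (dptMap f h₀),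
    hσy, Category.assoc] at h3
  have h4 : (k ≫ i) * (jm' ≫ y ≫ x.1) = (jm' ≫ y ≫ x.1) * (k ≫ i) :=
    mul_inv_eq_iff_eq_mul.mp h3
  have e1 : jm ≫ ((y ≫ x.1) * (hK ≫ i)).left = (jm' ≫ ((y ≫ x.1) * (hK ≫ i))).left := rfl
  have e2 : jm ≫ ((hK ≫ i) * (y ≫ x.1)).left = (jm' ≫ ((hK ≫ i) * (y ≫ x.1))).left := rfl
  rw [e1, e2, MonObj.comp_mul, MonObj.comp_mul]
  exact congrArg (fun m => m.left) h4.symm

end Sch

/-- For a group scheme G over a scheme S (the group law of the Lie algebra functor of a group scheme is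
commutative, which the published statement assumes), a sub-group-scheme K of G given by a
monomorphic homomorphism i, and an affine S-scheme T = Spec B: an element x of Lie(G/S)(T) belongs
to the Lie algebra of the centraliser of K, i.e. the point x of G with values in the dual numbers
I_T commutes with every point of K with values in any scheme over I_T, if and only if x is fixed by
the adjoint action of every point of K with values in an affine scheme T' = Spec B' over T (acting
on the restriction of x to T'). -/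
theorem result (S : Scheme.{u}) (G K : Over S) [GrpObj G] [GrpObj K] (i : K ⟶ G)
    [IsMonHom i] [Mono i] (B : Type u) [CommRing B] (f : Spec (CommRingCat.of B) ⟶ S) (x : LieS.Lie G B f) :
    (∀ (X' : Over S) (y : X' ⟶ LieS.dpt B f) (h : X' ⟶ K), (y ≫ x.1) * (h ≫ i) = (h ≫ i) * (y ≫ x.1)) ↔
    (∀ (B' : Type u) [CommRing B'] (h : B →+* B')
      (k : LieS.pt B' (Spec.map (CommRingCat.ofHom h) ≫ f) ⟶ K),
      LieS.Ad G B' (Spec.map (CommRingCat.ofHom h) ≫ f) (k ≫ i) (LieS.pull G f h x) = LieS.pull G f h x) := by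
  constructor
  · intro hyp B' _ h k
    apply Subtype.ext
    change (proj B' _ ≫ (k ≫ i)) * (dptMap f h ≫ x.1) * (proj B' _ ≫ (k ≫ i))⁻¹ = dptMap f h ≫ x.1
    have := hyp (dpt B' (Spec.map (CommRingCat.ofHom h) ≫ f)) (dptMap f h) (proj B' _ ≫ k)
    rw [Category.assoc] at this
    rw [← this, mul_inv_cancel_right]
  · intro hyp X' y hK
    apply Over.OverMorphism.ext
    apply Scheme.Cover.hom_ext X'.left.affineCover
    intro j
    exact affine_piece G K i B f x hyp X' y hK _ (X'.left.affineCover.f j)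

end Groth.Agent.S8370
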