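import Groth.Statements.S8384
import Mathlib.RingTheory.AdicCompletion.RingHom

set_option autoImplicit false
universe u
open CategoryTheory MonoidalCategory CartesianMonoidalCategory MonObj GrpObj AlgebraicGeometry
open SGA3x

namespace Groth.Agent.S8384

section
open IsLocalRing

/-- a morphism from an affine scheme landing in an affine open factors through it -/
theorem exists_factor {X : Scheme.{u}} {U : X.Opens} (hU : IsAffineOpen U) (C : CommRingCat.{u})
    (g : Spec C ⟶ X) (hg : ∀ p, g.base p ∈ U) :
    ∃ φ : Γ(X, U) ⟶ C, g = Spec.map φ ≫ hU.fromSpec := by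
  have hrange : Set.range g.base ⊆ Set.range hU.fromSpec.base := by
    rw [hU.range_fromSpec]
    rintro _ ⟨p, rfl⟩
    exact hg p
  refine ⟨Spec.preimage (IsOpenImmersion.lift hU.fromSpec g hrange), ?_⟩
  rw [Spec.map_preimage, IsOpenImmersion.lift_fac]

theorem factor_unique {X : Scheme.{u}} {U : X.Opens} (hU : IsAffineOpen U) (C : CommRingCat.{u})
    (φ ψ : Γ(X, U) ⟶ C) (h : Spec.map φ ≫ hU.fromSpec = Spec.map ψ ≫ hU.fromSpec) : φ = ψ := by
  rw [cancel_mono] at h
  exact Spec.map_injective h

variable (A : Type u) [CommRing A] [IsLocalRing A]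

/-- every point of `Spec (A/mⁿ)`, `n ≥ 1`, lies over the closed point -/
theorem specMap_mk_eq_closedPoint (n : ℕ) (hn : 1 ≤ n)
    (p : Spec (CommRingCat.of (A ⧸ (maximalIdeal A) ^ n))) :
    (Spec.map (CommRingCat.ofHom (Ideal.Quotient.mk ((maximalIdeal A) ^ n)))).base p =
      closedPoint A := by
  apply PrimeSpectrum.ext
  change Ideal.comap (Ideal.Quotient.mk ((maximalIdeal A) ^ n)) p.asIdeal = maximalIdeal A
  have hprime : (Ideal.comap (Ideal.Quotient.mk ((maximalIdeal A) ^ n)) p.asIdeal).IsPrime :=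
    Ideal.comap_isPrime _ _
  have hle : (maximalIdeal A) ^ n ≤
      Ideal.comap (Ideal.Quotient.mk ((maximalIdeal A) ^ n)) p.asIdeal := by
    intro a ha
    rw [Ideal.mem_comap, Ideal.Quotient.eq_zero_iff_mem.mpr ha]
    exact zero_mem _
  have hle' : maximalIdeal A ≤
      Ideal.comap (Ideal.Quotient.mk ((maximalIdeal A) ^ n)) p.asIdeal :=
    hprime.le_of_pow_le hle
  exact ((maximalIdeal.isMaximal A).eq_of_le hprime.ne_top hle').symm

theorem subsingleton_spec_quot (n : ℕ) (hn : 1 ≤ n) :
    Subsingleton (Spec (CommRingCat.of (A ⧸ (maximalIdeal A) ^ n))) := by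
  constructor
  intro p q
  have hp := specMap_mk_eq_closedPoint A n hn p
  have hq := specMap_mk_eq_closedPoint A n hn q
  have h := congrArg PrimeSpectrum.asIdeal (hp.trans hq.symm)
  change Ideal.comap (Ideal.Quotient.mk ((maximalIdeal A) ^ n)) p.asIdeal =
    Ideal.comap (Ideal.Quotient.mk ((maximalIdeal A) ^ n)) q.asIdeal at h
  apply PrimeSpectrum.ext
  exact Ideal.comap_injective_of_surjective _ Ideal.Quotient.mk_surjective h

theorem nonempty_spec_quot (n : ℕ) (hn : 1 ≤ n) :
    Nonempty (Spec (CommRingCat.of (A ⧸ (maximalIdeal A) ^ n))) := by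
  have hne : (maximalIdeal A) ^ n ≠ ⊤ := by
    intro h
    have h1 : (maximalIdeal A) ^ n ≤ maximalIdeal A := Ideal.pow_le_self (by omega)
    rw [h] at h1
    exact (maximalIdeal.isMaximal A).ne_top (top_le_iff.mp h1)
  have : Nontrivial (A ⧸ (maximalIdeal A) ^ n) := Ideal.Quotient.nontrivial_iff.mpr hne
  exact inferInstanceAs (Nonempty (PrimeSpectrum (A ⧸ (maximalIdeal A) ^ n)))

end

/-- Let A be a local ring, separated and complete for the topology defined by its maximal ideal m, S =
Spec A and Sₙ = Spec(A/mⁿ). Then for every scheme X the canonical map Hom(S, X) → lim Hom(Sₙ, X) is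
bijective: two morphisms S → X that agree on every Sₙ are equal, and every family of morphisms Sₙ →
X compatible with the closed immersions Sₙ → Sₙ₊₁ is induced by a morphism S → X. -/
theorem result (A : Type u) [CommRing A] [IsLocalRing A]
    [IsAdicComplete (IsLocalRing.maximalIdeal A) A] (X : Scheme.{u}) :
    (∀ f g : (Spec (CommRingCat.of A)) ⟶ X,
      (∀ n : ℕ, (Spec.map (CommRingCat.ofHom (Ideal.Quotient.mk ((IsLocalRing.maximalIdeal A) ^ n)))) ≫ f = (Spec.map (CommRingCat.ofHom (Ideal.Quotient.mk ((IsLocalRing.maximalIdeal A) ^ n)))) ≫ g) → f = g) ∧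
    (∀ u : (n : ℕ) → (Spec (CommRingCat.of (A ⧸ (IsLocalRing.maximalIdeal A) ^ n)) ⟶ X),
      (∀ n : ℕ, (Spec.map (CommRingCat.ofHom (Ideal.Quotient.factor
          (Ideal.pow_le_pow_right (I := (IsLocalRing.maximalIdeal A)) (Nat.le_succ n))))) ≫ u (n + 1) = u n) →
      ∃ f : (Spec (CommRingCat.of A)) ⟶ X, ∀ n : ℕ, (Spec.map (CommRingCat.ofHom (Ideal.Quotient.mk ((IsLocalRing.maximalIdeal A) ^ n)))) ≫ f = u n) := by
  constructor
  · intro f g h
    obtain ⟨p₁⟩ := nonempty_spec_quot A 1 le_rfl
    have hcp := specMap_mk_eq_closedPoint A 1 le_rfl p₁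
    have hfg : f.base (IsLocalRing.closedPoint A) = g.base (IsLocalRing.closedPoint A) := by
      rw [← hcp, ← Scheme.Hom.comp_apply, ← Scheme.Hom.comp_apply, h 1]
    obtain ⟨U, hU, hxU, -⟩ := exists_isAffineOpen_mem_and_subset (U := ⊤)
      (x := f.base (IsLocalRing.closedPoint A)) (by simp)
    have hfU : ∀ p, f.base p ∈ U := fun p =>
      ((IsLocalRing.specializes_closedPoint p).map f.continuous).mem_open U.isOpen hxU
    have hgU : ∀ p, g.base p ∈ U := fun p =>
      ((IsLocalRing.specializes_closedPoint p).map g.continuous).mem_open U.isOpen (hfg ▸ hxU)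
    obtain ⟨φ, rfl⟩ := exists_factor hU (.of A) f hfU
    obtain ⟨ψ, rfl⟩ := exists_factor hU (.of A) g hgU
    have hn : ∀ n, φ ≫ CommRingCat.ofHom (Ideal.Quotient.mk ((IsLocalRing.maximalIdeal A) ^ n)) =
        ψ ≫ CommRingCat.ofHom (Ideal.Quotient.mk ((IsLocalRing.maximalIdeal A) ^ n)) := by
      intro n
      apply factor_unique hU
      rw [Spec.map_comp, Spec.map_comp, Category.assoc, Category.assoc]
      exact h n
    have hfun : (φ.hom : Γ(X, U) → A) = ψ.hom :=
      IsHausdorff.funext' (IsLocalRing.maximalIdeal A)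
        (fun n r => congrArg (fun θ : Γ(X, U) ⟶ CommRingCat.of
          (A ⧸ (IsLocalRing.maximalIdeal A) ^ n) => θ.hom r) (hn n))
    have : φ = ψ := by
      ext b
      exact congrFun hfun b
    rw [this]
  · intro u hu
    obtain ⟨p₁⟩ := nonempty_spec_quot A 1 le_rfl
    obtain ⟨U, hU, hxU, -⟩ := exists_isAffineOpen_mem_and_subset (U := ⊤)
      (x := (u 1).base p₁) (by simp)
    have hpt : ∀ n, 1 ≤ n → ∀ p, (u n).base p = (u 1).base p₁ := by
      intro n hn
      induction n, hn using Nat.le_induction with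
      | base =>
        intro p
        have := subsingleton_spec_quot A 1 le_rfl
        rw [Subsingleton.elim p p₁]
      | succ n hn ih =>
        intro p
        obtain ⟨p'⟩ := nonempty_spec_quot A n hn
        have := subsingleton_spec_quot A (n + 1) (by omega)
        have hp : p = (Spec.map (CommRingCat.ofHom (Ideal.Quotient.factor
          (Ideal.pow_le_pow_right (I := (IsLocalRing.maximalIdeal A)) (Nat.le_succ n))))).base p' :=
          Subsingleton.elim _ _
        rw [hp, ← Scheme.Hom.comp_apply, hu n, ih p']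
    have hU' : ∀ n p, (u n).base p ∈ U := by
      intro n p
      rcases Nat.eq_zero_or_pos n with rfl | hn
      · exfalso
        have hsub : Subsingleton (A ⧸ (IsLocalRing.maximalIdeal A) ^ 0) := by
          rw [pow_zero, Ideal.one_eq_top]
          exact Ideal.Quotient.subsingleton_iff.mpr rfl
        have hempty : IsEmpty (PrimeSpectrum (A ⧸ (IsLocalRing.maximalIdeal A) ^ 0)) :=
          inferInstance
        exact hempty.false p
      · rw [hpt n hn p]; exact hxU
    choose φ hφ using fun n => exists_factor hU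
      (.of (A ⧸ (IsLocalRing.maximalIdeal A) ^ n)) (u n) (hU' n)
    have hcompat : ∀ n, φ (n + 1) ≫ CommRingCat.ofHom (Ideal.Quotient.factor
          (Ideal.pow_le_pow_right (I := (IsLocalRing.maximalIdeal A)) (Nat.le_succ n))) = φ n := by
      intro n
      apply factor_unique hU
      rw [Spec.map_comp, Category.assoc, ← hφ (n + 1), hu n, hφ n]
    have hf : ∀ {m n : ℕ} (hle : m ≤ n),
        (Ideal.Quotient.factorPow (IsLocalRing.maximalIdeal A) hle).comp (φ n).hom = (φ m).hom := by
      intro m n hle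
      induction n, hle using Nat.le_induction with
      | base =>
        ext b
        simp
      | succ n hmn ih =>
        rw [← ih, ← hcompat n]
        ext b
        simp
    refine ⟨Spec.map (CommRingCat.ofHom (IsAdicComplete.liftRingHom (IsLocalRing.maximalIdeal A)
      (fun n => (φ n).hom) hf)) ≫ hU.fromSpec, fun n => ?_⟩
    rw [← Category.assoc, ← Spec.map_comp, hφ n]
    congr 2
    ext b
    exact IsAdicComplete.mk_liftRingHom (IsLocalRing.maximalIdeal A) (fun n => (φ n).hom) hf n b

end Groth.Agent.S8384
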