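import Groth.Statements.S8431
import Groth.Agent.Lib.Helper14.CommTorus
import Groth.Agent.Lib.Helper14.CommQuot
import Groth.Agent.Lib.Helper14.TorConn
import Groth.Agent.Lib.Helper14.MTQuot
import Groth.Agent.Lib.Helper14.MTGlueB
import Groth.Agent.Lib.Helper4.GrpFieldSep

set_option autoImplicit false
universe u
open CategoryTheory MonoidalCategory CartesianMonoidalCategory MonObj GrpObj AlgebraicGeometry
open SGA3x

namespace Groth.Agent.S8431

open Groth.Agent.Lib.Helper14 Groth.Agent.Lib.Helper4.QuotGrp Groth.Agent.Lib.Helper4.FpqcCov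

theorem isCov_of_quasiCompact {Z Y : Scheme.{u}} (q : Z ⟶ Y) [Surjective q] [Flat q]
    [QuasiCompact q] : IsCov q :=
  ⟨inferInstance, inferInstance, fun V hV => ⟨q ⁻¹ᵁ V,
    QuasiCompact.isCompact_preimage (f := q) _ V.2 hV.isCompact,
    Set.image_preimage_eq _ q.surjective⟩⟩


/-- Let G be an algebraic group over a field k and Z a central algebraic subgroup such that G′ = G/Z is
a torus. Then G is commutative. Here q : G → G′ is a homomorphism representing the fppf quotient of
G by Z, and G′ is a k-torus. -/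
theorem result (k : Type u) [Field k]
    (G : Over (Spec (CommRingCat.of k))) [GrpObj G] [QuasiCompact G.hom] [LocallyOfFiniteType G.hom]
    (Z : Over (Spec (CommRingCat.of k))) [GrpObj Z] (z : Z ⟶ G) [IsMonHom z] [Mono z]
    (hz : ∀ (X : Over (Spec (CommRingCat.of k))) (x : X ⟶ Z) (g : X ⟶ G), (x ≫ z) * g = g * (x ≫ z))
    (G' : Over (Spec (CommRingCat.of k))) [GrpObj G'] (q : G ⟶ G') [IsMonHom q] (hq : RedSub.IsQuotient z q) (hT : Red.IsTorus G') :
    ∀ (X : Over (Spec (CommRingCat.of k))) (g h : X ⟶ G), g * h = h * g := by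
  have hMT : SGA3x.IsMultTypeFT G' := TorConn.isMultTypeFT_of_isTorus G' hT
  have hG' : ∀ (X : Over (Spec (CommRingCat.of k))) (a b : X ⟶ G'), a * b = b * a :=
    MTQuot.comm_of_multType G' hMT
  haveI : IsAffineHom G'.hom := MTGlueB.isAffineHom_of_locTriv G' (fun M _ => AddGroup.FG M) hMT
  haveI : Surjective q.left := hq.1
  haveI : Flat q.left := hq.2.1
  haveI : QuasiCompact (q.left ≫ G'.hom) := by
    rw [Over.w q]
    infer_instance
  haveI : QuasiCompact q.left := QuasiCompact.of_comp q.left G'.hom
  have hdom : Dom q := dom_of_cov q (𝟙 _) (by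
    rw [Category.id_comp]
    exact isCov_of_quasiCompact q.left)
  obtain ⟨c', hc'⟩ := CommQuot.exists_pairing z hz q hq hdom hG'
  haveI : IsSeparated G.hom := Groth.Agent.Lib.Helper4.GrpFieldSep.isSeparated_of_field k G
  haveI : LocallyOfFinitePresentation G.hom := inferInstance
  haveI : ConnectedSpace G'.left := TorConn.connectedSpace_of_isTorus k G' hT
  haveI : Nonempty ↥(Spec (CommRingCat.of k)) := inferInstanceAs (Nonempty (PrimeSpectrum k))
  have htriv : ∀ (T : Over (Spec (CommRingCat.of k))) (a b : T ⟶ G'), lift a b ≫ c' = 1 :=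
    CommTorus.pairing_trivial c'
      (fun T a b b' => CommQuot.pairing_mul z hz q hq hdom hG' c' hc' a b b')
      (fun T b => CommQuot.pairing_one_left q hdom c' hc' b)
      (fun T a => CommQuot.pairing_one_right z hz q hq hdom hG' c' hc' a) hMT
  have hc1 : c' = 1 := by
    have h := htriv (G' ⊗ G') (fst G' G') (snd G' G')
    rwa [lift_fst_snd, Category.id_comp] at h
  intro X g h
  exact CommQuot.comm_of_pairing_eq_one q c' hc' hc1 g h

end Groth.Agent.S8431
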