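import Groth.Statements.S8439
import Groth.Agent.Lib.Helper9.RC8

set_option backward.isDefEq.respectTransparency false
set_option maxHeartbeats 800000
set_option synthInstance.maxHeartbeats 400000

set_option autoImplicit false
universe u
open CategoryTheory MonoidalCategory CartesianMonoidalCategory MonObj GrpObj AlgebraicGeometry
open SGA3x

namespace Groth.Agent.S8439

/-- Let G be an S-group scheme of finite presentation over S with affine fibres. If G admits a reductive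
centre locally for the faithfully flat quasi-compact topology — after some flat surjective base
change S′ → S which is an fpqc covering — then G admits a reductive centre. -/
theorem result (S : Scheme.{u}) (G : Over S) [GrpObj G]
    [QuasiCompact G.hom] [QuasiSeparated G.hom] [LocallyOfFinitePresentation G.hom]
    (haff : ∀ s : S, IsAffine (Limits.pullback G.hom (S.fromSpecResidueField s)))
    (h : (∃ (S' : Scheme.{u}) (f : S' ⟶ S), Flat f ∧ Surjective f ∧
      (∀ V : S.Opens, IsAffineOpen V → ∃ W : S'.Opens, IsCompact (W : Set ↥S') ∧ f.base '' (W : Set ↥S') = (V : Set ↥S)) ∧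
      ∃ (Z' : Over S') (_ : GrpObj Z') (z' : Z' ⟶ Red.bc f G), (IsMonHom z' ∧ Mono z' ∧ SGA3x.IsMultTypeFT Z' ∧
      (∀ (X : Over S') (x : X ⟶ Z') (g : X ⟶ (Red.bc f G)), (x ≫ z') * g = g * (x ≫ z')) ∧
      ∀ (S'' : Scheme.{u}) (f' : S'' ⟶ S') (H : Over S'') [GrpObj H] (v : H ⟶ Red.bc f' (Red.bc f G)) [IsMonHom v],
        SGA3x.IsMultTypeFT H →
        (∀ (X : Over S'') (x : X ⟶ H) (g : X ⟶ Red.bc f' (Red.bc f G)), (x ≫ v) * g = g * (x ≫ v)) →
        ∃ w : H ⟶ Red.bc f' Z', w ≫ (Over.pullback f').map z' = v))) :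
    ∃ (Z : Over S) (_ : GrpObj Z) (z : Z ⟶ G), (IsMonHom z ∧ Mono z ∧ SGA3x.IsMultTypeFT Z ∧
      (∀ (X : Over S) (x : X ⟶ Z) (g : X ⟶ G), (x ≫ z) * g = g * (x ≫ z)) ∧
      ∀ (S' : Scheme.{u}) (f : S' ⟶ S) (H : Over S') [GrpObj H] (v : H ⟶ Red.bc f G) [IsMonHom v],
        SGA3x.IsMultTypeFT H →
        (∀ (X : Over S') (x : X ⟶ H) (g : X ⟶ Red.bc f G), (x ≫ v) * g = g * (x ≫ v)) →
        ∃ w : H ⟶ Red.bc f Z, w ≫ (Over.pullback f).map z = v) := by
  obtain ⟨S', f, hfl, hsj, hcov, Z', iZ', z', hmon', hmono', hMT, hc, hU⟩ := h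
  haveI := hfl
  haveI := hsj
  haveI := hmon'
  haveI := hmono'
  obtain ⟨Z₀, z, e, he⟩ := Groth.Agent.Lib.Helper9.RC.exists_descent f hcov G Z' z' hMT hc hU
  have hf := Groth.Agent.Lib.Helper9.RC.mem_fpqc_of_cov f hcov
  haveI hmz : Mono z := Groth.Agent.Lib.Helper9.RC.mono_z f G Z' z' Z₀ z e he
  have hmul := Groth.Agent.Lib.Helper9.RC.hmul f G Z' z' Z₀ z e he hf
  have hone := Groth.Agent.Lib.Helper9.RC.hone f G Z' z' Z₀ z e he hf
  have hinv := Groth.Agent.Lib.Helper9.RC.hinv f G Z' z' Z₀ z e he hf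
  letI iZ₀ : GrpObj Z₀ := Groth.Agent.Lib.Helper9.RC.grpObj z hmul hone hinv
  haveI hmz' : IsMonHom z := Groth.Agent.Lib.Helper9.RC.isMonHom_z z hmul hone hinv
  refine ⟨Z₀, iZ₀, z, hmz', hmz, ?_, ?_, ?_⟩
  · exact Groth.Agent.Lib.Helper9.RC.multType_Z₀ f hcov G Z' z' Z₀ z e he hMT
  · exact Groth.Agent.Lib.Helper9.RC.central_z f G Z' z' Z₀ z e he hc
  · intro S₁ f₁ H _ v _ hH hcv
    exact Groth.Agent.Lib.Helper9.RC.univ_z f hcov G Z' z' Z₀ z e he hU f₁ H v hH hcv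

end Groth.Agent.S8439
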