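import Groth.Statements.S8524
-- import your own Groth.Agent.* helpers here
import Groth.Agent.Lib.Helper23.EtGlue2
import Mathlib.AlgebraicGeometry.Morphisms.UniversallyOpen

set_option autoImplicit false
universe u
open CategoryTheory CategoryTheory.Limits AlgebraicGeometry Opposite
open EtAcyc

namespace Groth.Agent.S8524

open CategoryTheory AlgebraicGeometry Opposite Limits GrothendieckTopology
open Groth.Agent.Lib.Helper23.EtSite Groth.Agent.Lib.Helper23.EtGlue


/-- For the small etale site of a scheme and abelian sheaves: let L be a set of primes, F an abelian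
L-torsion sheaf on the small etale site of a scheme X, and U an etale X-scheme with quasi-compact
underlying space. Then every section of F over U is killed by some positive integer all of whose
prime factors lie in L. -/
theorem result {X : Scheme.{u}} (L : Set ℕ) (F : EtCoh.Ab X)
    (hF : EtAcyc.IsLTorsion L F) (U : X.Etale) [CompactSpace U.left] (s : EtCoh.sect F U) :
    ∃ m : ℕ, EtAcyc.PrimesIn L m ∧ m • s = 0 := by
  classical
  choose V g m hv hm h0 using hF U s
  have hopen : ∀ x : U.left, IsOpen (Set.range (g x).left) := fun x =>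
    (Scheme.Hom.isOpenMap (g x).left).isOpen_range
  have hcov : (Set.univ : Set U.left) ⊆ ⋃ x, Set.range (g x).left := by
    intro x _
    obtain ⟨v, hv'⟩ := hv x
    exact Set.mem_iUnion.2 ⟨x, v, hv'⟩
  obtain ⟨t, ht⟩ := isCompact_univ.elim_finite_subcover _ hopen hcov
  refine ⟨∏ x ∈ t, m x, ⟨Finset.prod_pos fun x _ => (hm x).1, ?_⟩, ?_⟩
  · intro p hp hdvd
    obtain ⟨x, hx, hpx⟩ := (Prime.dvd_finset_prod_iff (Nat.Prime.prime hp) _).1 hdvd
    exact (hm x).2 p hp hpx
  · let F' : EtDesc.Sh X := (sheafCompose _ (forget AddCommGrpCat.{u+1})).obj F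
    let R : Sieve U :=
      { arrows := fun W k => F.obj.map k.op ((∏ x ∈ t, m x) • s) = 0
        downward_closed := by
          intro W W' k hk a
          rw [op_comp, Functor.map_comp]
          simp only [ConcreteCategory.comp_apply]
          rw [hk, map_zero] }
    have hR : R ∈ X.smallEtaleTopology U := by
      apply sieve_mem_of_forall_point
      intro u
      have hu := ht (Set.mem_univ u)
      obtain ⟨x, hx, hux⟩ := Set.mem_iUnion₂.1 hu
      refine ⟨V x, g x, ?_, hux⟩
      change F.obj.map (g x).op ((∏ x ∈ t, m x) • s) = 0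
      obtain ⟨c, hc⟩ := Finset.dvd_prod_of_mem m hx
      rw [map_nsmul, hc, mul_nsmul, h0 x, nsmul_zero]
    have hsep := ((isSheaf_iff_isSheaf_of_type _ _).1 F'.2).isSeparated _ hR
    apply hsep.ext
    intro W k hk
    have h1 : F.obj.map k.op ((∏ x ∈ t, m x) • s) = 0 := hk
    have h2 : F.obj.map k.op (0 : F.obj.obj (op U)) = 0 := map_zero _
    exact h1.trans h2.symm

end Groth.Agent.S8524
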