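import Groth.Statements.S8525
-- import your own Groth.Agent.* helpers here
import Groth.Agent.S0671

set_option autoImplicit false
universe u
open CategoryTheory CategoryTheory.Limits AlgebraicGeometry Opposite
open EtAcyc

namespace Groth.Agent.S8525

open CategoryTheory AlgebraicGeometry Opposite Limits GrothendieckTopology
open Groth.Agent.S0622

set_option backward.isDefEq.respectTransparency.types false in
set_option backward.isDefEq.respectTransparency false in
lemma forward {X : Scheme.{u}} (L : Set ℕ) (F : EtCoh.Ab X) (hF : EtAcyc.IsLTorsion L F)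
    (Ω : Type u) [Field Ω] [IsSepClosed Ω] (ξ : Spec (CommRingCat.of Ω) ⟶ X)
    (t : (EtCoh.stalk ξ).obj F) : ∃ m : ℕ, EtAcyc.PrimesIn L m ∧ m • t = 0 := by
  let Φ := Scheme.pointSmallEtale ξ
  obtain ⟨U, u, σ, rfl⟩ := Φ.toPresheafFiber_jointly_surjective (P := F.obj) t
  let ul : Spec (CommRingCat.of Ω) ⟶ U.left := u.left
  have hul : ul ≫ U.hom = ξ := Over.w u
  obtain ⟨V, g, m, ⟨v, hv⟩, hm, h0⟩ := hF U σ (ul (default : Spec (CommRingCat.of Ω)))
  refine ⟨m, hm, ?_⟩
  obtain ⟨l, hl, _⟩ := Scheme.exists_fac_of_etale_of_isSepClosed g.left ul v hv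
  have hgw : g.left ≫ U.hom = V.hom := Over.w g.hom
  let y : Φ.fiber.obj V := Over.homMk l (by
    change l ≫ V.hom = ξ
    rw [← hgw, ← Category.assoc, hl, hul])
  have hy : Φ.fiber.map g y = u := by
    apply Over.OverMorphism.ext
    exact hl
  have h1 : m • (Φ.toPresheafFiber U u F.obj σ) = Φ.toPresheafFiber U u F.obj (m • σ) :=
    (map_nsmul _ _ _).symm
  rw [h1, Groth.Agent.S0671.germ_eq_zero_iff]
  refine ⟨V, g, y, hy, ?_⟩
  rw [map_nsmul]
  exact h0

set_option backward.isDefEq.respectTransparency.types false in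
set_option backward.isDefEq.respectTransparency false in
lemma backward {X : Scheme.{u}} (L : Set ℕ) (F : EtCoh.Ab X)
    (h : ∀ (Ω : Type u) [Field Ω] [IsSepClosed Ω] (ξ : Spec (CommRingCat.of Ω) ⟶ X)
        (t : (EtCoh.stalk ξ).obj F), ∃ m : ℕ, EtAcyc.PrimesIn L m ∧ m • t = 0) :
    EtAcyc.IsLTorsion L F := by
  intro U s x
  let Ω := SeparableClosure (U.left.residueField x)
  let ul : Spec (CommRingCat.of Ω) ⟶ U.left :=
    Spec.map (CommRingCat.ofHom (algebraMap (U.left.residueField x) Ω)) ≫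
      U.left.fromSpecResidueField x
  have hul : ∀ z, ul z = x := fun z => by
    change (U.left.fromSpecResidueField x) _ = x
    exact Scheme.fromSpecResidueField_apply x _
  let ξ : Spec (CommRingCat.of Ω) ⟶ X := ul ≫ U.hom
  let Φ := Scheme.pointSmallEtale ξ
  let u : Φ.fiber.obj U := Over.homMk ul rfl
  obtain ⟨m, hm, h0⟩ := h Ω ξ (Φ.toPresheafFiber U u F.obj s)
  have h1 : m • (Φ.toPresheafFiber U u F.obj s) = Φ.toPresheafFiber U u F.obj (m • s) :=
    (map_nsmul _ _ _).symm
  rw [h1, Groth.Agent.S0671.germ_eq_zero_iff] at h0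
  obtain ⟨W, g, y, hy, hz⟩ := h0
  let yl : Spec (CommRingCat.of Ω) ⟶ W.left := y.left
  refine ⟨W, g, m, ⟨yl (default : Spec (CommRingCat.of Ω)), ?_⟩, hm, ?_⟩
  · have h2 : yl ≫ g.left = ul := congrArg (fun φ => φ.left) hy
    have h3 := congrArg (fun φ : Spec (CommRingCat.of Ω) ⟶ U.left =>
      φ (default : Spec (CommRingCat.of Ω))) h2
    simp only [Scheme.Hom.comp_apply] at h3
    exact h3.trans (hul _)
  · rw [map_nsmul] at hz
    exact hz


/-- Let L be a set of primes and F an abelian sheaf on the small etale site of a scheme X. Then F is an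
L-torsion sheaf if and only if for every geometric point ξ of X every element of the stalk F_ξ is
killed by a positive integer all of whose prime factors lie in L. -/
theorem result {X : Scheme.{u}} (L : Set ℕ) (F : EtCoh.Ab X) :
    EtAcyc.IsLTorsion L F ↔
      ∀ (Ω : Type u) [Field Ω] [IsSepClosed Ω] (ξ : Spec (CommRingCat.of Ω) ⟶ X)
        (t : (EtCoh.stalk ξ).obj F), ∃ m : ℕ, EtAcyc.PrimesIn L m ∧ m • t = 0 := by
  exact ⟨fun hF Ω _ _ ξ t => forward L F hF Ω ξ t, backward L F⟩

end Groth.Agent.S8525
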