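import Groth.Statements.S8530
-- import your own Groth.Agent.* helpers here
import Groth.Agent.Lib.Helper23.SpecIso2

set_option autoImplicit false
universe u
open CategoryTheory CategoryTheory.Limits AlgebraicGeometry Opposite
open EtPBC

namespace Groth.Agent.S8530

open Groth.Agent.Lib.Helper23 Groth.Agent.Lib.Helper23.FlcLoc in
set_option backward.isDefEq.respectTransparency.types false in
set_option backward.isDefEq.respectTransparency false in
lemma forward {X : Scheme.{u}} (F : EtCoh.Ab X) (x : X) {Ω : Type u} [Field Ω] [IsSepClosed Ω]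
    (ξ : Spec (CommRingCat.of Ω) ⟶ X) (hξ : ξ default = x)
    (U : X.Opens) (hxU : x ∈ U)
    (hflc : EtCoh.IsFiniteLocallyConstant ((EtCoh.pull U.ι).obj F))
    (Ω' : Type u) [Field Ω'] [IsSepClosed Ω'] (ξ' : Spec (CommRingCat.of Ω') ⟶ X)
    (φ : Scheme.pointSmallEtale ξ' ⟶ Scheme.pointSmallEtale ξ) :
    IsIso ((GrothendieckTopology.Point.Hom.sheafFiber (A := AddCommGrpCat.{u + 1}) φ).app F) := by
  have hxr : x ∈ Set.range U.ι := by rw [Scheme.Opens.range_ι]; exact hxU
  obtain ⟨xU, hxU'⟩ := hxr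
  obtain ⟨U₁, u₁, hu₁, hT⟩ := (flc_iff_locTriv _).1 hflc xU
  have hUe : EtCoh.etaleMP U.ι := (inferInstance : Etale U.ι)
  let UE : X.Etale := MorphismProperty.Over.mk ⊤ U.ι hUe
  obtain ⟨U', u', hu', hU'⟩ := exists_of_trans UE U₁ u₁
  have h1 : U'.hom u' = ξ default := by
    rw [hu', hξ, ← hxU']
    change U.ι (U₁.hom u₁) = U.ι xU
    rw [hu₁]
  obtain ⟨y⟩ := SpecIso2.exists_fiber_of_mem ξ U' u' h1
  exact SpecIso2.isIso_sp_of_triv F U' (hU' F hT) ξ ξ' φ y


/-- Let F be a constructible abelian sheaf on the small etale site of a scheme X, x a point of X and ξ a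
geometric point of X located at x. Then F is finite locally constant on some open neighbourhood of x
if and only if, for every geometric point ξ' of X and every morphism of points of the etale site
from ξ' to ξ (a specialization arrow, ξ' a generization of ξ), the induced specialization map F_ξ →
F_ξ' is an isomorphism. -/
theorem result {X : Scheme.{u}} (F : EtCoh.Ab X)
    (hF : EtPBC.IsConstructible F) (x : X) {Ω : Type u} [Field Ω] [IsSepClosed Ω]
    (ξ : Spec (CommRingCat.of Ω) ⟶ X) (hξ : Set.range ξ.base = {x}) :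
    (∃ U : X.Opens, x ∈ U ∧ EtCoh.IsFiniteLocallyConstant ((EtCoh.pull U.ι).obj F)) ↔
      ∀ (Ω' : Type u) [Field Ω'] [IsSepClosed Ω'] (ξ' : Spec (CommRingCat.of Ω') ⟶ X)
        (φ : Scheme.pointSmallEtale ξ' ⟶ Scheme.pointSmallEtale ξ),
        IsIso ((GrothendieckTopology.Point.Hom.sheafFiber (A := AddCommGrpCat.{u + 1}) φ).app F) := by
  have hξ' : ξ default = x := by
    have : ξ default ∈ Set.range ξ.base := ⟨default, rfl⟩
    rw [hξ] at this
    exact this
  constructor
  · rintro ⟨U, hxU, hflc⟩ Ω' _ _ ξ' φ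
    exact forward F x ξ hξ' U hxU hflc Ω' ξ' φ
  · intro hiso
    have hfin := Groth.Agent.Lib.Helper23.SpecIso2.finite_stalk_of_constructible F hF ξ
    obtain ⟨U', u', hu', hT⟩ :=
      Groth.Agent.Lib.Helper23.SpecIso.exists_triv_of_sp_iso F hF ξ hfin hiso
    haveI : Etale U'.hom := U'.prop
    let T' : X.Opens := ⟨Set.range U'.hom, U'.hom.isOpenMap.isOpen_range⟩
    refine ⟨T', ⟨u', hu'.trans hξ'⟩, ?_⟩
    exact Groth.Agent.Lib.Helper23.SpecIso2.flc_on_range_of_triv F U' hT T' rfl

end Groth.Agent.S8530
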