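import Groth.Statements.S8535
import Groth.Agent.Lib.Helper8.DeltaF
import Mathlib.CategoryTheory.Abelian.Refinements
import Mathlib.CategoryTheory.Limits.FunctorCategory.EpiMono

set_option autoImplicit false
universe v v' u u'
open CategoryTheory CategoryTheory.Limits
open DeltaF

namespace Groth.Agent.S8535

section Aux

open Groth.Agent.Lib.Helper8.DeltaFLib

variable {A : Type u} [Category.{v} A] [Abelian A]
    {B : Type u'} [Category.{v'} B] [Abelian B] (T T' : DeltaF.CohDeltaFunctor A B ℕ)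
    (φ : T ⟶ T')

/-- Lemma M. -/
lemma lemmaM (hT : T.IsEffaceable) (i : ℕ) (hE : ∀ X, Epi ((φ.app i).app X))
    (hM : ∀ X, Mono ((φ.app i).app X)) (X : A) : Mono ((φ.app (i + 1)).app X) := by
  obtain ⟨Y, u, hu, hu0⟩ := hT i X
  let S := sesOfMono u
  have hS : S.ShortExact := sesOfMono_shortExact u
  haveI := epi_δ T i S hS hu0
  have hcomm := φ.comm S hS i (i + 1) rfl
  apply Preadditive.mono_of_cancel_zero
  intro K k hk
  obtain ⟨K₁, π₁, hπ₁, z, hz⟩ := surjective_up_to_refinements_of_epi (T.δ S hS i (i + 1) rfl) k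
  have h1 : (z ≫ (φ.app i).app S.X₃) ≫ T'.δ S hS i (i + 1) rfl = 0 := by
    rw [Category.assoc, ← hcomm, ← Category.assoc, ← hz, Category.assoc]
    change π₁ ≫ k ≫ (φ.app (i + 1)).app X = 0
    rw [hk, comp_zero]
  obtain ⟨K₂, π₂, hπ₂, y', hy'⟩ := (T'.exact₃ S hS i (i + 1) rfl).exact_up_to_refinements _ h1
  change π₂ ≫ z ≫ (φ.app i).app S.X₃ = y' ≫ (T'.F i).map S.g at hy'
  haveI := hE S.X₂
  obtain ⟨K₃, π₃, hπ₃, y, hy⟩ := surjective_up_to_refinements_of_epi ((φ.app i).app S.X₂) y'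
  haveI := hM S.X₃
  have h2 : π₃ ≫ π₂ ≫ z = y ≫ (T.F i).map S.g := by
    rw [← cancel_mono ((φ.app i).app S.X₃)]
    simp only [Category.assoc]
    rw [hy', reassoc_of% hy, (φ.app i).naturality]
  have h3 : (π₃ ≫ π₂ ≫ π₁) ≫ k = 0 := by
    simp only [Category.assoc]
    rw [hz, reassoc_of% h2, T.comp_δ, comp_zero]
  haveI : Epi (π₃ ≫ π₂ ≫ π₁) := epi_comp' hπ₃ (epi_comp' hπ₂ hπ₁)
  rw [← cancel_epi (π₃ ≫ π₂ ≫ π₁), h3, comp_zero]

/-- Lemma E. -/
lemma lemmaE (i : ℕ) (hE : ∀ X, Epi ((φ.app i).app X)) (X : A)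
    (heff : ∃ (Y : A) (u : X ⟶ Y), Mono u ∧ (T'.F (i + 1)).map u = 0) :
    Epi ((φ.app (i + 1)).app X) := by
  obtain ⟨Y, u, hu, hu0⟩ := heff
  let S := sesOfMono u
  have hS : S.ShortExact := sesOfMono_shortExact u
  haveI := epi_δ T' i S hS hu0
  have hcomm := φ.comm S hS i (i + 1) rfl
  haveI := hE S.X₃
  haveI : Epi (T.δ S hS i (i + 1) rfl ≫ (φ.app (i + 1)).app S.X₁) := by
    rw [hcomm]
    exact epi_comp _ _
  exact epi_of_epi (T.δ S hS i (i + 1) rfl) ((φ.app (i + 1)).app S.X₁)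

lemma iso_iff (i : ℕ) : IsIso (φ.app i) ↔ ∀ X, IsIso ((φ.app i).app X) :=
  NatTrans.isIso_iff_isIso_app _

lemma mono_iff (i : ℕ) : Mono (φ.app i) ↔ ∀ X, Mono ((φ.app i).app X) :=
  NatTrans.mono_iff_mono_app _

lemma epi_iff (i : ℕ) : Epi (φ.app i) ↔ ∀ X, Epi ((φ.app i).app X) :=
  NatTrans.epi_iff_epi_app _

theorem aux (hT : T.IsEffaceable) (n : ℕ) :
    ((∀ i : ℕ, i ≤ n → IsIso (φ.app i)) ∧ Mono (φ.app (n + 1)) ↔
      (Mono (φ.app 0) ∧ ∀ i : ℕ, i ≤ n → Epi (φ.app i))) ∧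
    ((∀ i : ℕ, i ≤ n → IsIso (φ.app i)) ∧ Mono (φ.app (n + 1)) ↔
      (IsIso (φ.app 0) ∧ ∀ i : ℕ, 0 < i → i ≤ n → ∀ X : A, ∃ (Y : A) (u : X ⟶ Y), Mono u ∧ (T'.F i).map u = 0)) := by
  simp only [iso_iff, mono_iff, epi_iff]
  refine ⟨⟨?_, ?_⟩, ⟨?_, ?_⟩⟩
  · rintro ⟨hI, _⟩
    refine ⟨fun X => ?_, fun i hi X => ?_⟩
    · haveI := hI 0 (Nat.zero_le n) X
      infer_instance
    · haveI := hI i hi X
      infer_instance
  · rintro ⟨hM0, hE⟩
    have hM : ∀ i, i ≤ n + 1 → ∀ X, Mono ((φ.app i).app X) := by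
      intro i
      induction i with
      | zero => intro _; exact hM0
      | succ i ih =>
        intro hi X
        exact lemmaM T T' φ hT i (hE i (by omega)) (ih (by omega)) X
    refine ⟨fun i hi X => ?_, hM (n + 1) le_rfl⟩
    haveI := hM i (by omega) X
    haveI := hE i hi X
    exact isIso_of_mono_of_epi _
  · rintro ⟨hI, _⟩
    refine ⟨hI 0 (Nat.zero_le n), fun i hi0 hin X => ?_⟩
    obtain ⟨j, rfl⟩ : ∃ j, i = j + 1 := ⟨i - 1, by omega⟩
    obtain ⟨Y, u, hu, hu0⟩ := hT j X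
    refine ⟨Y, u, hu, ?_⟩
    haveI := hI (j + 1) hin X
    rw [← cancel_epi ((φ.app (j + 1)).app X), ← (φ.app (j + 1)).naturality, hu0, zero_comp,
      comp_zero]
  · rintro ⟨hI0, heff⟩
    have hI : ∀ i, i ≤ n → (∀ X, Mono ((φ.app i).app X)) ∧ (∀ X, Epi ((φ.app i).app X)) := by
      intro i
      induction i with
      | zero =>
        intro _
        exact ⟨fun X => by haveI := hI0 X; infer_instance, fun X => by haveI := hI0 X; infer_instance⟩
      | succ i ih =>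
        intro hi
        obtain ⟨hMi, hEi⟩ := ih (by omega)
        exact ⟨fun X => lemmaM T T' φ hT i hEi hMi X,
          fun X => lemmaE T T' φ i hEi X (heff (i + 1) (by omega) hi X)⟩
    refine ⟨fun i hi X => ?_, ?_⟩
    · haveI := (hI i hi).1 X
      haveI := (hI i hi).2 X
      exact isIso_of_mono_of_epi _
    · exact lemmaM T T' φ hT n (hI n le_rfl).2 (hI n le_rfl).1

end Aux

/-- Let A and B be abelian categories, T and T' cohomological delta-functors from A to B in degrees ≥ 0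
whose degree-0 components are left exact (they vanish in negative degrees), such that T^i is
effaceable for every i > 0, and let φ : T → T' be a morphism of delta-functors and n a natural
number. Then the following are equivalent: (a) φ^i is an isomorphism for i ≤ n and a monomorphism
for i = n + 1; (b) φ^0 is a monomorphism and φ^i is an epimorphism for every i ≤ n; (c) φ^0 is an
isomorphism and, for 0 < i ≤ n, T'^i is effaceable (every object X admits a monomorphism X → Y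
killed by T'^i). -/
theorem result {A : Type u} [Category.{v} A] [Abelian A]
    {B : Type u'} [Category.{v'} B] [Abelian B] (T T' : DeltaF.CohDeltaFunctor A B ℕ)
    (h0 : T.ZeroMono) (h0' : T'.ZeroMono) (hT : T.IsEffaceable) (φ : T ⟶ T') (n : ℕ) :
    ((∀ i : ℕ, i ≤ n → IsIso (φ.app i)) ∧ Mono (φ.app (n + 1)) ↔
      (Mono (φ.app 0) ∧ ∀ i : ℕ, i ≤ n → Epi (φ.app i))) ∧
    ((∀ i : ℕ, i ≤ n → IsIso (φ.app i)) ∧ Mono (φ.app (n + 1)) ↔
      (IsIso (φ.app 0) ∧ ∀ i : ℕ, 0 < i → i ≤ n → ∀ X : A, ∃ (Y : A) (u : X ⟶ Y), Mono u ∧ (T'.F i).map u = 0)) := by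
  exact aux T T' φ hT n

end Groth.Agent.S8535
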