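import Groth.Statements.S8558
-- import your own Groth.Agent.* helpers here

set_option autoImplicit false
universe u
open CategoryTheory CategoryTheory.Limits AlgebraicGeometry Opposite
open NonAbH1

namespace Groth.Agent.S8558

section General
universe w₀ v₀ u₀

variable {C : Type u₀} [Category.{v₀} C] {J : GrothendieckTopology C}
  [J.HasSheafCompose (forget GrpCat.{w₀})] {F : Sheaf J GrpCat.{w₀}}

/-- class is trivial iff isomorphic to the trivial torsor -/
theorem cl_eq_one_iff (T : Torsor F) :
    T.cl = 1 ↔ Nonempty (T.toGSheaf ≅ GSheaf.trivial F) := by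
  constructor
  · intro h
    have h' : Relation.EqvGen (fun P Q : Torsor F => Nonempty (P.toGSheaf ≅ Q.toGSheaf)) T
        (trivialTorsor F) := Quot.eqvGen_exact h
    have key : ∀ P Q : Torsor F,
        Relation.EqvGen (fun P Q : Torsor F => Nonempty (P.toGSheaf ≅ Q.toGSheaf)) P Q →
          Nonempty (P.toGSheaf ≅ Q.toGSheaf) := by
      intro P Q hPQ
      induction hPQ with
      | rel _ _ h => exact h
      | refl _ => exact ⟨Iso.refl _⟩
      | symm _ _ _ ih => exact ⟨ih.some.symm⟩
      | trans _ _ _ _ _ ih1 ih2 => exact ⟨ih1.some ≪≫ ih2.some⟩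
    exact key _ _ h'
  · rintro ⟨e⟩
    exact Quot.sound ⟨e⟩

/-- a global section of a pseudo-torsor gives a trivialisation -/
theorem nonempty_iso_of_section (T : GSheaf F) (hT : T.IsPseudoTorsor) (t : T.P.obj.sections) :
    Nonempty (T ≅ GSheaf.trivial F) := by
  -- forward map: trivial F ⟶ T, f ↦ f • t
  let fwd : (GSheaf.uSh F).obj ⟶ T.P.obj :=
    { app := fun U => TypeCat.ofHom (fun f => T.smul (GSheaf.toGrp f) (t.1 U))
      naturality := by
        intro U V a
        ext f
        change T.smul (F.obj.map a (GSheaf.toGrp f)) (t.1 V) =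
          T.P.obj.map a (T.smul (GSheaf.toGrp f) (t.1 U))
        rw [T.map_smul, t.2 a] }
  have hbij : ∀ U, Function.Bijective (fwd.app U) := by
    intro U
    constructor
    · intro f f' hff'
      obtain ⟨g, hg, huniq⟩ := hT U (t.1 U) (T.smul (GSheaf.toGrp f) (t.1 U))
      have h1 : GSheaf.toGrp f = g := huniq _ rfl
      have h2 : GSheaf.toGrp f' = g := huniq _ hff'.symm
      exact h1.trans h2.symm
    · intro q
      obtain ⟨g, hg, -⟩ := hT U (t.1 U) q
      exact ⟨GSheaf.ofGrp g, hg⟩
  have hiso : IsIso fwd := by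
    rw [NatTrans.isIso_iff_isIso_app]
    intro U
    exact (isIso_iff_bijective _).mpr (hbij U)
  let fwdS : GSheaf.uSh F ⟶ T.P := ⟨fwd⟩
  have hisoS : IsIso fwdS := by
    have : IsIso ((sheafToPresheaf J _).map fwdS) := hiso
    exact isIso_of_reflects_iso fwdS (sheafToPresheaf J _)
  let fwdG : GSheaf.trivial F ⟶ T :=
    { hom := fwdS
      map_smul := by
        intro U g p
        change T.smul (g * GSheaf.toGrp p) (t.1 U) = T.smul g (T.smul (GSheaf.toGrp p) (t.1 U))
        rw [T.mul_smul] }
  let invS : T.P ⟶ GSheaf.uSh F := inv fwdS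
  let invG : T ⟶ GSheaf.trivial F :=
    { hom := invS
      map_smul := by
        intro U g p
        obtain ⟨f, rfl⟩ := (hbij U).2 p
        have h1 : invS.hom.app U (fwd.app U f) = f := by
          have := congrArg (fun (m : GSheaf.uSh F ⟶ GSheaf.uSh F) => m.hom.app U f)
            (IsIso.hom_inv_id fwdS)
          exact this
        have h2 : T.smul g (fwd.app U f) = fwd.app U ((GSheaf.trivial F).smul g f) :=
          (fwdG.map_smul g f).symm
        rw [h2]
        have h3 : invS.hom.app U (fwd.app U ((GSheaf.trivial F).smul g f))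
            = (GSheaf.trivial F).smul g f := by
          have := congrArg (fun (m : GSheaf.uSh F ⟶ GSheaf.uSh F) =>
            m.hom.app U ((GSheaf.trivial F).smul g f)) (IsIso.hom_inv_id fwdS)
          exact this
        exact h3.trans (congrArg ((GSheaf.trivial F).smul g) h1.symm) }
  refine ⟨⟨invG, fwdG, ?_, ?_⟩⟩
  · apply GSheaf.hom_ext
    exact IsIso.inv_hom_id fwdS
  · apply GSheaf.hom_ext
    exact IsIso.hom_inv_id fwdS

/-- a trivialisation gives a global section -/
theorem section_of_iso (T : GSheaf F) (e : T ≅ GSheaf.trivial F) :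
    Nonempty T.P.obj.sections := by
  refine ⟨⟨fun U => e.inv.hom.hom.app U (GSheaf.ofGrp (1 : F.obj.obj U)), ?_⟩⟩
  intro U V a
  have h := NatTrans.naturality_apply e.inv.hom.hom a (GSheaf.ofGrp (1 : F.obj.obj U))
  rw [← h]
  congr 1
  change F.obj.map a (1 : F.obj.obj U) = 1
  exact map_one _

end General

/-- Exactness of the non-abelian cohomology sequence at the global sections of the quotient: let u : F ⟶
G be a morphism of sheaves of groups on the small etale site of a scheme X that is injective on
sections over every object, and let the G-sheaf Q with its equivariant map π from G (acting on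
itself by left translation) be the quotient G/F (π identifies two sections of G exactly when they
differ by right multiplication by a section of F, and is locally surjective). If the F-torsor T is
the sheaf of local liftings of a global section c of Q to G (F acting by f · g = g u(f)⁻¹), then the
class of T in H¹(X, F) is the base point, ∂c = 1, if and only if c is the image under π of a global
section of G. -/
theorem result {X : Scheme.{u}} {F G : Sheaf X.smallEtaleTopology GrpCat.{u + 1}}
    (u : F ⟶ G) (hu : ∀ U : X.Etaleᵒᵖ, Function.Injective (u.hom.app U))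
    {Q : NonAbH1.GSheaf G} (π : NonAbH1.GSheaf.trivial.{u + 1, u, u + 1} G ⟶ Q) (hQ : NonAbH1.GSheaf.IsQuotientBy.{u + 1, u, u + 1} u π)
    (c : Q.P.obj.sections) (T : NonAbH1.Torsor F) (hT : NonAbH1.GSheaf.IsFibreOver.{u + 1, u, u + 1} u π c T.toGSheaf) :
    T.cl = 1 ↔
      ∃ g : (NonAbH1.GSheaf.uSh.{u + 1, u, u + 1} G).obj.sections, ∀ U : X.Etaleᵒᵖ, π.hom.hom.app U (g.1 U) = c.1 U := by
  obtain ⟨ι, hinj, hiff, hequiv⟩ := hT
  refine (cl_eq_one_iff T).trans ?_
  constructor
  · rintro ⟨e⟩
    obtain ⟨t⟩ := section_of_iso T.toGSheaf e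
    refine ⟨⟨fun U => ι.hom.app U (t.1 U), ?_⟩, ?_⟩
    · intro U V a
      have h := NatTrans.naturality_apply ι.hom a (t.1 U)
      rw [← h, t.2 a]
    · intro U
      exact (hiff U _).mp ⟨t.1 U, rfl⟩
  · rintro ⟨g, hg⟩
    have hex : ∀ U, ∃ tU, GSheaf.toGrp (ι.hom.app U tU) = g.1 U :=
      fun U => (hiff U (g.1 U)).mpr (hg U)
    choose tU htU using hex
    refine nonempty_iso_of_section T.toGSheaf T.isTorsor.1 ⟨tU, ?_⟩
    intro U V a
    apply hinj V
    have h := NatTrans.naturality_apply ι.hom a (tU U)
    rw [h]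
    have h1 : ι.hom.app U (tU U) = g.1 U := htU U
    have h2 : ι.hom.app V (tU V) = g.1 V := htU V
    rw [h1, h2]
    exact g.2 a

end Groth.Agent.S8558
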