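import Groth.Statements.S8561
-- import your own Groth.Agent.* helpers here
import Groth.Agent.Lib.Helper23.ExtFilt

set_option autoImplicit false
universe u
open CategoryTheory CategoryTheory.Limits AlgebraicGeometry Opposite
open EtPBC

namespace Groth.Agent.S8561

/-- Let X be a quasi-compact and quasi-separated scheme and F a constructible abelian sheaf on the small
etale site of X (every affine open has a finite partition into constructible locally closed strata
along which F is finite locally constant). Then F has a finite filtration whose successive quotients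
are extensions by zero of finite locally constant sheaves on constructible locally closed
subschemes: there are abelian sheaves 0 = E₀, E₁, …, E_n with E_n ≅ F and short exact sequences 0 →
E_k → E_{k+1} → j_!(c_* G) → 0, where j : U ⟶ X is an open immersion, c : W ⟶ U a closed immersion
with the image of c ≫ j constructible in X, and G a finite locally constant abelian sheaf on W. (The
refinement with irreducible strata for X Noetherian is not stated.) -/
theorem result {X : Scheme.{u}} [CompactSpace X]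
    [QuasiSeparatedSpace X] (F : EtCoh.Ab X) (hF : EtPBC.IsConstructible F) :
    ∃ (n : ℕ) (E : Fin (n + 1) → EtCoh.Ab X) (ι : ∀ k : Fin n, E k.castSucc ⟶ E k.succ),
      IsZero (E 0) ∧ Nonempty (E (Fin.last n) ≅ F) ∧
      ∀ k : Fin n, ∃ (U W : Scheme.{u}) (j : U ⟶ X) (_ : IsOpenImmersion j) (c : W ⟶ U)
        (_ : IsClosedImmersion c) (G : EtCoh.Ab W)
        (π : E k.succ ⟶ (EtShriek.extZero j).obj ((EtCoh.push c).obj G)) (hz : ι k ≫ π = 0),
        Topology.IsConstructible (Set.range (c ≫ j)) ∧ EtCoh.IsFiniteLocallyConstant G ∧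
        (ShortComplex.mk (ι k) π hz).ShortExact := by
  open Groth.Agent.Lib.Helper23 Groth.Agent.Lib.Helper23.ExtFilt
    Groth.Agent.Lib.Helper23.CountStrat in
  obtain ⟨ι₀, hι₀, T, g, h1, h2, h3, h4, h5⟩ :=
    (Strata.adaptedStrata_iff F ⊤).1 ((Groth.Agent.S0128.result X F).1 hF)
  have hcons : ∀ i, Topology.IsConstructible (Set.range (g i)) := fun i =>
    (Strata.isConstructible_top_preimage_iff _).1 (h2 i)
  obtain ⟨𝒰, h𝒰, hsat⟩ := exists_sat_family (fun i => Set.range (g i)) hcons
  have h𝒰o : ∀ U ∈ 𝒰, IsOpen U := fun U hU => (h𝒰 U hU).1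
  let O : ℕ → X.Opens := fun r => ⟨{x | r ≤ cnt 𝒰 x}, isOpen_le_cnt 𝒰 h𝒰o r⟩
  let n := 𝒰.card + 1
  have h4' : (⋃ i, Set.range (g i)) = Set.univ := by
    rw [h4]; rfl
  have hdiff : ∀ r, ((O r : X.Opens) : Set X) \ ((O (r + 1) : X.Opens) : Set X) =
      {x | cnt 𝒰 x = r} := by
    intro r
    ext x
    change (r ≤ cnt 𝒰 x ∧ ¬ (r + 1 ≤ cnt 𝒰 x)) ↔ cnt 𝒰 x = r
    omega
  have hstep : ∀ r, Step (EE F (O (r + 1))) (EE F (O r)) := by
    intro r
    refine step F (O r) (O (r + 1)) (fun x hx => Nat.le_of_succ_le hx) ?_ ?_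
    · rw [hdiff]
      exact isConstructible_cnt_eq 𝒰 h𝒰 r
    · intro W q hq hW hr
      haveI := hW
      exact flcAlong_of_cnt_eq F T g h1 h4' h5 𝒰 h𝒰o hsat r W q (by rw [hr, hdiff])
  let E : Fin (n + 1) → EtCoh.Ab X := fun k => EE F (O (n - (k : ℕ)))
  have hk : ∀ k : Fin n, Step (E k.castSucc) (E k.succ) := by
    intro k
    have e1 : n - ((k.castSucc : Fin (n + 1)) : ℕ) = (n - ((k.succ : Fin (n + 1)) : ℕ)) + 1 := by
      have := k.2
      simp only [Fin.val_castSucc, Fin.val_succ]
      omega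
    change Step (EE F (O (n - ((k.castSucc : Fin (n + 1)) : ℕ))))
      (EE F (O (n - ((k.succ : Fin (n + 1)) : ℕ))))
    rw [e1]
    exact hstep _
  have hk' : ∀ k : Fin n, ∃ (ι : E k.castSucc ⟶ E k.succ) (U W : Scheme.{u}) (j : U ⟶ X)
      (_ : IsOpenImmersion j) (c : W ⟶ U) (_ : IsClosedImmersion c) (G : EtCoh.Ab W)
      (π : E k.succ ⟶ (EtShriek.extZero j).obj ((EtCoh.push c).obj G)) (hz : ι ≫ π = 0),
      Topology.IsConstructible (Set.range (c ≫ j)) ∧ EtCoh.IsFiniteLocallyConstant G ∧
      (ShortComplex.mk ι π hz).ShortExact := hk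
  choose ι hι using hk'
  refine ⟨n, E, ι, ?_, ?_, hι⟩
  · apply isZero_EE_of_empty
    ext x
    simp only [Set.mem_empty_iff_false, iff_false]
    intro hx
    have h1 : n - ((0 : Fin (n + 1)) : ℕ) ≤ cnt 𝒰 x := hx
    have h2 := cnt_le_card 𝒰 x
    simp only [Fin.val_zero, Nat.sub_zero] at h1
    omega
  · have hO : O (n - ((Fin.last n : Fin (n + 1)) : ℕ)) = ⊤ := by
      ext x
      simp only [Fin.val_last, Nat.sub_self]
      change 0 ≤ cnt 𝒰 x ↔ x ∈ (⊤ : X.Opens)
      simp
    change Nonempty (EE F (O (n - ((Fin.last n : Fin (n + 1)) : ℕ))) ≅ F)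
    rw [hO]
    exact nonempty_EE_top_iso F

end Groth.Agent.S8561
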