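import Groth.Statements.S8562
-- import your own Groth.Agent.* helpers here

set_option autoImplicit false
universe u
open CategoryTheory CategoryTheory.Limits AlgebraicGeometry Opposite
open NonAbH1

namespace Groth.Agent.S8562

set_option backward.isDefEq.respectTransparency.types false in
theorem mem_small_iff {X : Scheme.{u}} (W : X.Etale) (R : Sieve W) :
    R ∈ X.smallEtaleTopology W ↔
      ∀ x : W.left, ∃ (Y : X.Etale) (f : Y ⟶ W) (y : Y.left), R f ∧ f.left y = x := by
  have e1 : X.smallEtaleTopology =
      (Scheme.smallPretopology (S := X) (P := @Etale) (Q := @Etale)).toGrothendieck :=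
    Scheme.smallGrothendieckTopology_eq_toGrothendieck_smallPretopology X le_rfl
  have e2 := Scheme.mem_toGrothendieck_smallPretopology (S := X) (P := @Etale) (Q := @Etale) W R
  have e3 : R ∈ X.smallEtaleTopology W ↔
      R ∈ (Scheme.smallPretopology (S := X) (P := @Etale) (Q := @Etale)).toGrothendieck W :=
    (congrArg (fun J : GrothendieckTopology X.Etale => R ∈ J W) e1).to_iff
  refine e3.trans (e2.trans ?_)
  constructor
  · intro h x
    obtain ⟨Y, f, y, h1, -, h2⟩ := h x
    exact ⟨Y, f, y, h1, h2⟩
  · intro h x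
    obtain ⟨Y, f, y, h1, h2⟩ := h x
    exact ⟨Y, f, y, h1, inferInstance, h2⟩

/-- Exactness of the sequence 0 → H¹(Y, f_*F) → H¹(X, F) → H⁰(Y, R¹f_*F) at its middle term, in terms of
torsors: let f : X ⟶ Y be a morphism of schemes, F a sheaf of groups on the small etale site of X,
f_*F its direct image on Y (sections over an etale Y-scheme V are the sections of F over X ×_Y V),
and Q an F-torsor. Then Q is the image of a class in H¹(Y, f_*F), in the sense that there are an
f_*F-torsor P on Y and a morphism of sheaves of sets from P to the direct image of the sheaf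
underlying Q which is equivariant for the actions of f_*F, if and only if the class of Q is locally
trivial over Y: there is a jointly surjective family of etale Y-schemes Y_i such that Q has a
section over every X ×_Y Y_i. -/
theorem result {X Y : Scheme.{u}} (f : X ⟶ Y)
    [EtCoh.BCCont f] (F : Sheaf X.smallEtaleTopology GrpCat.{u + 1}) (Q : NonAbH1.Torsor F) :
    (∃ (P : NonAbH1.Torsor (((EtCoh.bc f).sheafPushforwardContinuous GrpCat.{u + 1}
        Y.smallEtaleTopology X.smallEtaleTopology).obj F))
      (φ : P.P ⟶ ((EtCoh.bc f).sheafPushforwardContinuous (Type (u + 1))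
        Y.smallEtaleTopology X.smallEtaleTopology).obj Q.P),
      ∀ (V : Y.Etaleᵒᵖ) (g : F.obj.obj (op ((EtCoh.bc f).obj V.unop))) (s : P.P.obj.obj V),
        φ.hom.app V (P.smul g s) = Q.smul g (φ.hom.app V s)) ↔
    ∃ (ι : Type u) (V : ι → Y.Etale), EtCoh.Covers V ∧
      ∀ i, Nonempty (Q.P.obj.obj (op ((EtCoh.bc f).obj (V i)))) := by
  constructor
  · rintro ⟨P, φ, -⟩
    obtain ⟨S, hS, hne⟩ := P.isTorsor.2 (EtCoh.top Y)
    rw [mem_small_iff] at hS
    choose V' a y hSa hy using hS
    refine ⟨↥Y, fun x => V' x, ?_, ?_⟩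
    · intro x
      refine ⟨x, y x, ?_⟩
      have hw : (a x).left ≫ (EtCoh.top Y).hom = (V' x).hom := MorphismProperty.Over.w (a x)
      have hw' : (V' x).hom = (a x).left := by
        rw [← hw]; exact Category.comp_id _
      rw [hw']
      exact hy x
    · intro i
      obtain ⟨p⟩ := hne (a i) (hSa i)
      exact ⟨φ.hom.app (op (V' i)) p⟩
  · rintro ⟨ι, V, hcov, hne⟩
    let PG : NonAbH1.GSheaf (((EtCoh.bc f).sheafPushforwardContinuous GrpCat.{u + 1}
        Y.smallEtaleTopology X.smallEtaleTopology).obj F) :=
      { P := ((EtCoh.bc f).sheafPushforwardContinuous (Type (u + 1))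
          Y.smallEtaleTopology X.smallEtaleTopology).obj Q.P
        smul := fun {U} g p => Q.smul (U := op ((EtCoh.bc f).obj U.unop)) g p
        one_smul := fun p => Q.one_smul p
        mul_smul := fun g h p => Q.mul_smul g h p
        map_smul := fun a g p => Q.map_smul ((EtCoh.bc f).op.map a) g p }
    have hpseudo : PG.IsPseudoTorsor := fun U p q => Q.isTorsor.1 _ p q
    have hloc : PG.LocallyNonempty := by
      intro U
      let S : Sieve U :=
        { arrows := fun V' _ => Nonempty (Q.P.obj.obj (op ((EtCoh.bc f).obj V')))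
          downward_closed := by
            rintro V1 V2 a ⟨q⟩ b
            exact ⟨Q.P.obj.map ((EtCoh.bc f).map b).op q⟩ }
      refine ⟨S, ?_, fun V' a hSa => hSa⟩
      rw [mem_small_iff]
      intro x
      obtain ⟨i, v, hv⟩ := hcov (U.hom x)
      obtain ⟨z, hz1, hz2⟩ := Scheme.Pullback.exists_preimage_pullback (f := U.hom)
        (g := (V i).hom) x v hv.symm
      let V' : Y.Etale := Scheme.Etale.mk (pullback.fst U.hom (V i).hom ≫ U.hom)
      let a : V' ⟶ U := MorphismProperty.Over.homMk (pullback.fst U.hom (V i).hom) rfl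
      let b : V' ⟶ V i := MorphismProperty.Over.homMk (pullback.snd U.hom (V i).hom)
        pullback.condition.symm
      refine ⟨V', a, z, ?_, hz1⟩
      obtain ⟨q⟩ := hne i
      exact ⟨Q.P.obj.map ((EtCoh.bc f).map b).op q⟩
    refine ⟨⟨PG, hpseudo, hloc⟩, 𝟙 _, ?_⟩
    intro V' g s
    rfl

end Groth.Agent.S8562
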