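import Groth.Statements.S8596
import Mathlib
import Groth.Agent.Lib.Helper21.TorSeq
import Groth.Agent.S3525

set_option autoImplicit false
set_option backward.isDefEq.respectTransparency false
set_option backward.defeqAttrib.useBackward true
universe u
open CategoryTheory CategoryTheory.Limits
open CAlg

namespace Groth.Agent.S8596

open Groth.Agent.Lib.Helper21.TorLES Groth.Agent.Lib.Helper21.TorSeq

set_option backward.isDefEq.respectTransparency false
set_option backward.defeqAttrib.useBackward true

section Abstract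

universe v' u'

variable {A : Type u'} [Category.{v'} A] [Abelian A]
  {D : Type*} [Category D] [Abelian D]
  {F₁ F₂ F₃ : A ⥤ D} [F₁.Additive] [F₂.Additive] [F₃.Additive]
  (α : F₁ ⟶ F₂) (β : F₂ ⟶ F₃) (w : α ≫ β = 0)
  {X : A} (P : ProjectiveResolution X)
  (h : ∀ (Q : A) [Projective Q],
    (ShortComplex.mk (α.app Q) (β.app Q) (by rw [← NatTrans.comp_app, w]; rfl)).ShortExact)

include h in
lemma mono_homologyMap_of_isZero (n : ℕ) (h3 : IsZero (H P F₃ (n + 1))) :
    Mono (HomologicalComplex.homologyMap
      ((NatTrans.mapHomologicalComplex α (ComplexShape.down ℕ)).app P.complex) n) := by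
  have hex := (sc_shortExact α β w P h).homology_exact₁ (n + 1) n (by simp)
  exact hex.mono_g (h3.eq_of_src _ _)

end Abstract

section TorFirst

open MonoidalCategory Groth.Agent.Lib.Helper21.TorShift

variable {R : Type u} [CommRing R]
variable {M₁ M₂ M₃ : ModuleCat.{u} R} (f : M₁ ⟶ M₂) (g : M₂ ⟶ M₃) (w : f ≫ g = 0)
  (hS : (ShortComplex.mk f g w).ShortExact) (N : ModuleCat.{u} R)

include hS in
/-- `Tor_{n+1}(M₃, N) = 0` implies `Tor_n(M₁, N) → Tor_n(M₂, N)` is mono. -/
lemma mono_tor_map_of_isZero (n : ℕ)
    (h3 : IsZero (((Tor (ModuleCat.{u} R) (n + 1)).obj M₃).obj N)) :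
    Mono (((Tor (ModuleCat.{u} R) n).map f).app N) := by
  let P := ProjectiveResolution.of N
  have hm := mono_homologyMap_of_isZero _ _ (map_comp_zero f g w) P
    (fun Q _ => shortExact_app f g w hS Q) n (IsZero.of_iso h3
      (P.isoLeftDerivedObj ((tensoringLeft (ModuleCat.{u} R)).obj M₃) (n + 1)).symm)
  have heq : ((Tor (ModuleCat.{u} R) n).map f).app N =
      (P.isoLeftDerivedObj ((tensoringLeft (ModuleCat.{u} R)).obj M₁) n).hom ≫
        HomologicalComplex.homologyMap
        ((NatTrans.mapHomologicalComplex ((tensoringLeft (ModuleCat.{u} R)).map f)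
          (ComplexShape.down ℕ)).app P.complex) n ≫
        (P.isoLeftDerivedObj ((tensoringLeft (ModuleCat.{u} R)).obj M₂) n).inv :=
    ProjectiveResolution.leftDerived_app_eq ((tensoringLeft (ModuleCat.{u} R)).map f) P n
  rw [heq]
  infer_instance

end TorFirst

section Colim

variable {A : Type u} [CommRing A] (K : Type u) [AddCommGroup K] [Module A K]
  (G : ModuleCat.{u} A ⥤ ModuleCat.{u} A)

open Classical in
theorem exists_fg_map_eq_zero
    (hG : ∀ (J : Type u) [SmallCategory J] [IsFiltered J], PreservesColimitsOfShape J G)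
    (hK : IsZero (G.obj (ModuleCat.of A K)))
    (N₀ : Submodule A K) (hN₀ : N₀.FG) (t : G.obj (ModuleCat.of A N₀)) :
    ∃ (N₁ : Submodule A K) (_ : N₁.FG) (h01 : N₀ ≤ N₁),
      (G.map (ModuleCat.ofHom (Submodule.inclusion h01))).hom t = 0 := by
  let ι₀ := {N : Submodule A K // N.FG}
  let D := ModuleCat.directLimitDiagram (R := A) (fun i : ι₀ => ↥i.1) (Module.fgSystem A K)
  let c := ModuleCat.directLimitCocone (R := A) (fun i : ι₀ => ↥i.1) (Module.fgSystem A K)
  have hc : IsColimit c :=
    ModuleCat.directLimitIsColimit (R := A) (fun i : ι₀ => ↥i.1) (Module.fgSystem A K)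
  haveI : Nonempty ι₀ := ⟨⟨⊥, Submodule.fg_bot⟩⟩
  haveI := hG ι₀
  have hGc : IsColimit (G.mapCocone c) := isColimitOfPreserves G hc
  have hpt : IsZero (G.obj c.pt) := by
    refine IsZero.of_iso hK (G.mapIso ?_)
    exact (Module.fgSystem.equiv A K).toModuleIso
  let i₀ : ι₀ := ⟨N₀, hN₀⟩
  have heq : (G.mapCocone c).ι.app i₀ t = (G.mapCocone c).ι.app i₀ (0 : (D ⋙ G).obj i₀) := by
    have hsub : ∀ x y : (G.obj c.pt), x = y := fun x y =>
      (ModuleCat.subsingleton_of_isZero hpt).elim x y
    exact hsub _ _
  obtain ⟨k, f, g, hfg⟩ := Concrete.isColimit_exists_of_rep_eq (D ⋙ G) (i := i₀) (j := i₀) hGc t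
    (0 : (D ⋙ G).obj i₀) heq
  refine ⟨k.1, k.2, leOfHom f, ?_⟩
  have h2 : ((D ⋙ G).map g) (0 : (D ⋙ G).obj i₀) = 0 := map_zero _
  rw [h2] at hfg
  exact hfg

end Colim

section Main

open MonoidalCategory Groth.Agent.Lib.Helper21.TorShift

variable (A : Type u) [CommRing A] (M : ModuleCat.{u} A) (n : ℕ)

/-- the vanishing property -/
def T (N : Type u) [AddCommGroup N] [Module A N] : Prop :=
  ∀ i : ℕ, n < i → IsZero (((Tor (ModuleCat.{u} A) i).obj (ModuleCat.of A N)).obj M)

variable {A M n}

theorem T_of_equiv {N N' : Type u} [AddCommGroup N] [Module A N] [AddCommGroup N'] [Module A N']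
    (e : N ≃ₗ[A] N') (h : T A M n N) : T A M n N' := by
  intro i hi
  exact IsZero.of_iso (h i hi) (((Tor (ModuleCat.{u} A) i).mapIso e.symm.toModuleIso).app M)

theorem T_of_subsingleton (N : Type u) [AddCommGroup N] [Module A N] [Subsingleton N] :
    T A M n N := by
  intro i hi
  obtain ⟨k, rfl⟩ : ∃ k, i = k + 1 := ⟨i - 1, by omega⟩
  let P := ProjectiveResolution.of M
  haveI : Module.Flat A (ModuleCat.of A N) := inferInstanceAs (Module.Flat A N)
  exact IsZero.of_iso (isZero_H_succ_of_flat (ModuleCat.of A N) P k)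
    (P.isoLeftDerivedObj ((tensoringLeft (ModuleCat.{u} A)).obj (ModuleCat.of A N)) (k + 1))

theorem T_mid {N₁ N₂ N₃ : Type u} [AddCommGroup N₁] [Module A N₁] [AddCommGroup N₂] [Module A N₂]
    [AddCommGroup N₃] [Module A N₃] (f : N₁ →ₗ[A] N₂) (g : N₂ →ₗ[A] N₃)
    (hf : Function.Injective f) (hg : Function.Surjective g) (hfg : Function.Exact f g)
    (h1 : T A M n N₁) (h3 : T A M n N₃) : T A M n N₂ := by
  intro i hi
  have w : ModuleCat.ofHom f ≫ ModuleCat.ofHom g = 0 := by
    ext x
    exact hfg.apply_apply_eq_zero x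
  have hS : (ShortComplex.mk (ModuleCat.ofHom f) (ModuleCat.ofHom g) w).ShortExact :=
    ModuleCat.shortComplex_shortExact _ hfg hf hg
  exact isZero_tor_mid (ModuleCat.ofHom f) (ModuleCat.ofHom g) w hS M i (h1 i hi) (h3 i hi)

end Main

section Prime

variable {A : Type u} [CommRing A] (p : Ideal A) [p.IsPrime]

/-- every element of the residue field is a fraction -/
theorem exists_smul_mem_range (x : p.ResidueField) :
    ∃ s : A, s ∉ p ∧ ∃ a : A, s • x = algebraMap A p.ResidueField a := by
  obtain ⟨⟨a, s⟩, h⟩ := IsLocalization.surj (nonZeroDivisors (A ⧸ p)) x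
  obtain ⟨a0, rfl⟩ := Ideal.Quotient.mk_surjective a
  obtain ⟨s0, hs0⟩ := Ideal.Quotient.mk_surjective s.1
  refine ⟨s0, ?_, a0, ?_⟩
  · intro hmem
    have h0 : (s : A ⧸ p) = 0 := by
      rw [← hs0]
      exact Ideal.Quotient.eq_zero_iff_mem.2 hmem
    exact nonZeroDivisors.coe_ne_zero s h0
  · dsimp only at h
    rw [← hs0] at h
    rw [Algebra.smul_def, mul_comm]
    exact h

variable (M : ModuleCat.{u} A) (n : ℕ)

theorem T_quot_prime
    (hκ : ∀ i : ℕ, n < i → IsZero (((Tor (ModuleCat.{u} A) i).obj
      (ModuleCat.of A p.ResidueField)).obj M))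
    (IH : ∀ J : Ideal A, p < J → ∀ (N : Type u) [AddCommGroup N] [Module A N] [Module.Finite A N],
      J ≤ Module.annihilator A N → T A M n N) : T A M n (A ⧸ p) := by
  classical
  intro i hi
  set K := p.ResidueField with hKdef
  let G : ModuleCat.{u} A ⥤ ModuleCat.{u} A := (Tor (ModuleCat.{u} A) i).flip.obj M
  have hG : ∀ (J : Type u) [SmallCategory J] [IsFiltered J], PreservesColimitsOfShape J G :=
    fun J _ _ => Groth.Agent.S3525.result A i M J
  let φ : A ⧸ p →ₗ[A] K := (IsScalarTower.toAlgHom A (A ⧸ p) K).toLinearMap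
  have hφ : Function.Injective φ := p.injective_algebraMap_quotient_residueField
  let N₀ : Submodule A K := LinearMap.range φ
  have hN₀ : N₀.FG := by
    show (LinearMap.range φ).FG
    rw [LinearMap.range_eq_map]
    exact Submodule.FG.map _ (Module.Finite.fg_top)
  let e₀ : (A ⧸ p) ≃ₗ[A] N₀ := LinearEquiv.ofInjective φ hφ
  suffices hz : IsZero (G.obj (ModuleCat.of A N₀)) from
    IsZero.of_iso hz (G.mapIso e₀.toModuleIso)
  suffices hall : ∀ t : G.obj (ModuleCat.of A N₀), t = 0 by
    haveI : Subsingleton (G.obj (ModuleCat.of A N₀)) :=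
      ⟨fun a b => by rw [hall a, hall b]⟩
    exact ModuleCat.isZero_of_subsingleton _
  intro t
  obtain ⟨N₁, hN₁, h01, ht⟩ := exists_fg_map_eq_zero K G hG (hκ i hi) N₀ hN₀ t
  -- the quotient N₁ / N₀
  let f : N₀ →ₗ[A] N₁ := Submodule.inclusion h01
  have hf : Function.Injective f := Submodule.inclusion_injective h01
  let Q := N₁ ⧸ LinearMap.range f
  let g : N₁ →ₗ[A] Q := (LinearMap.range f).mkQ
  have hg : Function.Surjective g := Submodule.mkQ_surjective _
  have hfg : Function.Exact f g := LinearMap.exact_map_mkQ_range f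
  haveI : Module.Finite A N₁ := Module.Finite.iff_fg.2 hN₁
  -- a common denominator
  have hden : ∃ s : A, s ∉ p ∧ ∀ y ∈ N₁, s • y ∈ N₀ := by
    obtain ⟨S, hS⟩ := hN₁
    have key : ∀ S : Finset K, ∃ s : A, s ∉ p ∧ ∀ y ∈ Submodule.span A (S : Set K), s • y ∈ N₀ := by
      intro S
      induction S using Finset.induction_on with
      | empty =>
        refine ⟨1, (p.ne_top_iff_one).1 ‹p.IsPrime›.ne_top, ?_⟩
        intro y hy
        simp only [Finset.coe_empty, Submodule.span_empty, Submodule.mem_bot] at hy
        rw [hy, smul_zero]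
        exact zero_mem _
      | insert x S hx ih =>
        obtain ⟨s1, hs1, h1⟩ := ih
        obtain ⟨s2, hs2, a, h2⟩ := exists_smul_mem_range p x
        refine ⟨s1 * s2, ‹p.IsPrime›.mul_notMem hs1 hs2, ?_⟩
        intro y hy
        rw [Finset.coe_insert, Submodule.mem_span_insert] at hy
        obtain ⟨c, z, hz, rfl⟩ := hy
        rw [smul_add]
        refine Submodule.add_mem _ ?_ ?_
        · have : (s1 * s2) • c • x = (s1 * c) • (s2 • x) := by
            rw [smul_smul, smul_smul]
            ring_nf
          rw [this, h2]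
          refine Submodule.smul_mem _ _ ⟨Ideal.Quotient.mk p a, ?_⟩
          rfl
        · have : (s1 * s2) • z = s2 • (s1 • z) := by
            rw [smul_smul, mul_comm]
          rw [this]
          exact Submodule.smul_mem _ _ (h1 z hz)
    obtain ⟨s, hs, h⟩ := key S
    exact ⟨s, hs, fun y hy => h y (by rw [hS]; exact hy)⟩
  obtain ⟨s, hs, hsN⟩ := hden
  have hTQ : T A M n Q := by
    apply IH (p ⊔ Ideal.span {s}) _ Q
    · refine sup_le ?_ ?_
      · intro a ha
        rw [Module.mem_annihilator]
        intro q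
        obtain ⟨y, rfl⟩ := hg q
        have : a • y = 0 := by
          apply Subtype.ext
          show a • (y : K) = 0
          rw [Algebra.smul_def, Ideal.algebraMap_residueField_eq_zero.2 ha, zero_mul]
        rw [← map_smul, this, map_zero]
      · rw [Ideal.span_le, Set.singleton_subset_iff]
        show s ∈ Module.annihilator A Q
        rw [Module.mem_annihilator]
        intro q
        obtain ⟨y, rfl⟩ := hg q
        rw [← map_smul]
        show Submodule.Quotient.mk (s • y) = 0
        rw [Submodule.Quotient.mk_eq_zero]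
        exact ⟨⟨s • (y : K), hsN y.1 y.2⟩, rfl⟩
    · refine lt_of_le_of_ne le_sup_left ?_
      intro heq
      apply hs
      rw [heq]
      exact Ideal.mem_sup_right (Ideal.subset_span rfl)
  have w : ModuleCat.ofHom f ≫ ModuleCat.ofHom g = 0 := by
    ext x
    exact hfg.apply_apply_eq_zero x
  have hS : (ShortComplex.mk (ModuleCat.ofHom f) (ModuleCat.ofHom g) w).ShortExact :=
    ModuleCat.shortComplex_shortExact _ hfg hf hg
  have hmono : Mono (G.map (ModuleCat.ofHom f)) :=
    mono_tor_map_of_isZero (ModuleCat.ofHom f) (ModuleCat.ofHom g) w hS M i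
      (hTQ (i + 1) (by omega))
  have hinj : Function.Injective (G.map (ModuleCat.ofHom f)).hom :=
    (ModuleCat.mono_iff_injective _).1 hmono
  apply hinj
  rw [map_zero]
  exact ht

end Prime

section Final

variable {A : Type u} [CommRing A] [IsNoetherianRing A] (M : ModuleCat.{u} A) (n : ℕ)

theorem key
    (h : ∀ (x : Ideal A) [x.IsPrime] (i : ℕ), n < i →
      IsZero (((Tor (ModuleCat.{u} A) i).obj (ModuleCat.of A x.ResidueField)).obj M)) :
    ∀ (J : Ideal A) (N : Type u) [AddCommGroup N] [Module A N] [Module.Finite A N],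
      J ≤ Module.annihilator A N → T A M n N := by
  intro J
  induction J using IsNoetherian.induction with
  | hgt J IH =>
    intro N _ _ hfin
    induction hfin using IsNoetherianRing.induction_on_isQuotientEquivQuotientPrime A with
    | subsingleton N => intro _; exact T_of_subsingleton N
    | quotient N p e =>
      intro hJ
      have hann : Module.annihilator A N = p.asIdeal := by
        rw [e.annihilator_eq, Ideal.annihilator_quotient]
      rw [hann] at hJ
      rcases hJ.lt_or_eq with hlt | heq
      · exact IH p.asIdeal hlt N (by rw [hann])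
      · apply T_of_equiv e.symm
        haveI := p.2
        apply T_quot_prime p.asIdeal M n (fun i hi => h p.asIdeal i hi)
        intro J' hJ' N' _ _ _ hN'
        exact IH J' (heq ▸ hJ') N' hN'
    | exact N₁ N₂ N₃ f g hf hg hfg h1 h3 =>
      intro hJ
      exact T_mid f g hf hg hfg
        (h1 (hJ.trans (LinearMap.annihilator_le_of_injective f hf)))
        (h3 (hJ.trans (LinearMap.annihilator_le_of_surjective g hg)))

end Final


/-- Case of a complex reduced to a single module in degree 0: let A be a commutative Noetherian ring, M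
an A-module (not necessarily finitely generated) and n ≥ 0. Then M has tor-dimension at most n —
Tor_i^A(N, M) = 0 for every A-module N and every i > n, the Tor being the left derived functors of N
⊗ - evaluated at M — if and only if Tor_i^A(k(x), M) = 0 for every prime ideal x of A, with residue
field k(x), and every i > n. (The published statement gives the equivalence for bounded-above
complexes K and the derived tensor product K ⊗^L k(x); this is the case K = M[0].) -/
theorem result (A : Type u) [CommRing A] [IsNoetherianRing A]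
    (M : ModuleCat.{u} A) (n : ℕ) :
    (∀ (N : ModuleCat.{u} A) (i : ℕ), n < i → IsZero (((Tor (ModuleCat.{u} A) i).obj N).obj M)) ↔
    (∀ (x : Ideal A) [x.IsPrime] (i : ℕ), n < i →
      IsZero (((Tor (ModuleCat.{u} A) i).obj (ModuleCat.of A x.ResidueField)).obj M)) := by
  classical
  constructor
  · intro h x _ i hi
    exact h _ i hi
  · intro h N i hi
    -- every module is a filtered colimit of finitely generated submodules
    let G : ModuleCat.{u} A ⥤ ModuleCat.{u} A := (Tor (ModuleCat.{u} A) i).flip.obj M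
    have hG : ∀ (J : Type u) [SmallCategory J] [IsFiltered J], PreservesColimitsOfShape J G :=
      fun J _ _ => Groth.Agent.S3525.result A i M J
    let ι₀ := {N' : Submodule A N // N'.FG}
    let D := ModuleCat.directLimitDiagram (R := A) (fun j : ι₀ => ↥j.1) (Module.fgSystem A N)
    let c := ModuleCat.directLimitCocone (R := A) (fun j : ι₀ => ↥j.1) (Module.fgSystem A N)
    have hc : IsColimit c :=
      ModuleCat.directLimitIsColimit (R := A) (fun j : ι₀ => ↥j.1) (Module.fgSystem A N)
    haveI : Nonempty ι₀ := ⟨⟨⊥, Submodule.fg_bot⟩⟩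
    haveI := hG ι₀
    have hGc : IsColimit (G.mapCocone c) := isColimitOfPreserves G hc
    have hzero : ∀ j : ι₀, IsZero ((D ⋙ G).obj j) := by
      intro j
      haveI : Module.Finite A j.1 := Module.Finite.iff_fg.2 j.2
      exact key M n h ⊥ j.1 bot_le i hi
    have hpt : IsZero (G.obj c.pt) := by
      rw [IsZero.iff_id_eq_zero]
      apply hGc.hom_ext
      intro j
      exact (hzero j).eq_of_src _ _
    have e : c.pt ≅ N := (Module.fgSystem.equiv A N).toModuleIso
    exact IsZero.of_iso hpt (G.mapIso e.symm)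

end Groth.Agent.S8596
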