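import Groth.Statements.S8597
import Mathlib
import Groth.Agent.Lib.Helper21.TorIsoClass

set_option autoImplicit false
universe u
open CategoryTheory CategoryTheory.Limits
open CAlg

namespace Groth.Agent.S8597

open Groth.Agent.Lib.Helper21 Groth.Agent.Lib.Helper21.TorIsoClass Groth.Agent.Lib.Helper21.TorShift
open MonoidalCategory

section Aux

variable {A : Type u} [CommRing A] {M N : ModuleCat.{u} A} (u : M ⟶ N)

lemma isZero_tor_of_subsingleton_left (X : Type u) [AddCommGroup X] [Module A X] [Subsingleton X]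
    (Y : ModuleCat.{u} A) (i : ℕ) :
    IsZero (((Tor (ModuleCat.{u} A) i).obj (ModuleCat.of A X)).obj Y) := by
  let P := ProjectiveResolution.of Y
  refine IsZero.of_iso ?_
    (P.isoLeftDerivedObj ((tensoringLeft (ModuleCat.{u} A)).obj (ModuleCat.of A X)) i)
  apply ShortComplex.isZero_homology_of_isZero_X₂
  rw [ModuleCat.isZero_iff_subsingleton]
  change Subsingleton (TensorProduct A X (P.complex.X i))
  refine ⟨fun a b => ?_⟩
  have h0 : ∀ z : TensorProduct A X (P.complex.X i), z = 0 := by
    intro z
    induction z using TensorProduct.induction_on with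
    | zero => rfl
    | tmul x y => rw [Subsingleton.elim x 0, TensorProduct.zero_tmul]
    | add x y hx hy => rw [hx, hy, add_zero]
  rw [h0 a, h0 b]

lemma isoClass_of_subsingleton (X : Type u) [AddCommGroup X] [Module A X] [Subsingleton X] :
    IsoClass u (ModuleCat.of A X) := by
  intro i
  have h1 := isZero_tor_of_subsingleton_left X M i
  have h2 := isZero_tor_of_subsingleton_left X N i
  exact ⟨⟨0, h1.eq_of_src _ _, h2.eq_of_src _ _⟩⟩

variable [IsNoetherianRing A]

/-- finite modules, given the class contains the relevant `A/q` -/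
lemma isoClass_of_finite (Pr : Ideal A → Prop)
    (hq : ∀ q : Ideal A, q.IsPrime → Pr q → IsoClass u (ModuleCat.of A (A ⧸ q)))
    (T : Type u) [AddCommGroup T] [Module A T] [hT : Module.Finite A T]
    (hann : ∀ q : Ideal A, q.IsPrime → Module.annihilator A T ≤ q → Pr q) :
    IsoClass u (ModuleCat.of A T) := by
  induction hT using IsNoetherianRing.induction_on_isQuotientEquivQuotientPrime A with
  | subsingleton T' => exact isoClass_of_subsingleton u T'
  | quotient T' q e =>
    refine isoClass_of_iso u e.symm.toModuleIso (hq q.1 q.2 (hann q.1 q.2 ?_))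
    rw [e.annihilator_eq, Ideal.annihilator_quotient]
  | exact N₁ N₂ N₃ f g hf hg hfg ih₁ ih₃ =>
    have hS := shortExact_of f g hf hfg hg
    refine isoClass_X₂ u _ _ _ hS (ih₁ ?_) (ih₃ ?_)
    · intro q hqp hle
      refine hann q hqp (le_trans ?_ hle)
      intro a ha
      rw [Module.mem_annihilator] at ha ⊢
      intro n
      apply hf
      rw [map_smul, ha, map_zero]
    · intro q hqp hle
      refine hann q hqp (le_trans ?_ hle)
      intro a ha
      rw [Module.mem_annihilator] at ha ⊢
      intro n
      obtain ⟨m, rfl⟩ := hg n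
      rw [← map_smul, ha, map_zero]

/-- arbitrary modules killed by `J`, given the class contains `A/q` for `q ⊇ J` -/
lemma isoClass_of_killed (J : Ideal A)
    (hq : ∀ q : Ideal A, q.IsPrime → J ≤ q → IsoClass u (ModuleCat.of A (A ⧸ q)))
    (T : Type u) [AddCommGroup T] [Module A T] (hJ : ∀ a ∈ J, ∀ t : T, a • t = 0) :
    IsoClass u (ModuleCat.of A T) := by
  let ι := {S : Submodule A T // S.FG}
  haveI : Nonempty ι := ⟨⟨⊥, Submodule.fg_bot⟩⟩
  haveI : IsDirected ι (· ≤ ·) :=
    ⟨fun S₁ S₂ => ⟨⟨S₁.1 ⊔ S₂.1, S₁.2.sup S₂.2⟩, le_sup_left, le_sup_right⟩⟩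
  refine isoClass_of_directed_union u (fun i : ι => i.1) (fun i₁ i₂ h => h)
    (fun x => ⟨⟨Submodule.span A {x}, Submodule.fg_span_singleton x⟩,
      Submodule.subset_span rfl⟩) ?_
  intro i
  haveI : Module.Finite A i.1 := Module.Finite.iff_fg.2 i.2
  refine isoClass_of_finite u (fun q => J ≤ q) hq i.1 (fun q _ hle => le_trans ?_ hle)
  intro a ha
  rw [Module.mem_annihilator]
  intro t
  exact Subtype.ext (hJ a ha t.1)

end Aux


/-- Case of modules placed in degree 0: let A be a commutative Noetherian ring and u : M -> N a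
homomorphism of A-modules such that for every prime ideal x of A, with residue field k(x), and every
i ≥ 0, the induced map Tor_i^A(k(x), M) -> Tor_i^A(k(x), N) (left derived functors of k(x) ⊗ -) is
an isomorphism. Then u is an isomorphism. (The published statement is for a morphism of
bounded-above complexes and the derived tensor products with k(x); this is the case of two modules.) -/
theorem result (A : Type u) [CommRing A] [IsNoetherianRing A]
    {M N : ModuleCat.{u} A} (u : M ⟶ N)
    (h : ∀ (x : Ideal A) [x.IsPrime] (i : ℕ),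
      IsIso (((Tor (ModuleCat.{u} A) i).obj (ModuleCat.of A x.ResidueField)).map u)) :
    IsIso u := by
  classical
  have hκ : ∀ (p : Ideal A) [p.IsPrime], IsoClass u (ModuleCat.of A p.ResidueField) :=
    fun p _ i => h p i
  have key : ∀ p : Ideal A, p.IsPrime → IsoClass u (ModuleCat.of A (A ⧸ p)) := by
    intro p
    induction p using WellFoundedGT.induction with
    | ind p ih =>
      intro hp
      let ι' : (A ⧸ p) →ₗ[A] p.ResidueField :=
        (IsScalarTower.toAlgHom A (A ⧸ p) p.ResidueField).toLinearMap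
      have hι : Function.Injective ι' := p.injective_algebraMap_quotient_residueField
      have hS := shortExact_of ι' (LinearMap.range ι').mkQ hι (LinearMap.exact_map_mkQ_range ι')
        (Submodule.mkQ_surjective _)
      refine isoClass_X₁ u _ _ _ hS (hκ p) ?_
      have hpQ : ∀ a ∈ p, ∀ y : p.ResidueField ⧸ LinearMap.range ι', a • y = 0 := by
        intro a ha y
        obtain ⟨x, rfl⟩ := Submodule.Quotient.mk_surjective _ y
        rw [← Submodule.Quotient.mk_smul, Algebra.smul_def,
          Ideal.algebraMap_residueField_eq_zero.2 ha, zero_mul, Submodule.Quotient.mk_zero]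
      let ιQ := {T : Submodule A (p.ResidueField ⧸ LinearMap.range ι') //
        ∃ s : A, s ∉ p ∧ ∀ t ∈ T, s • t = 0}
      haveI : Nonempty ιQ := ⟨⟨⊥, 1, by
        rw [← Ideal.ne_top_iff_one]; exact hp.ne_top, by
        intro t ht; rw [(Submodule.mem_bot A).1 ht, smul_zero]⟩⟩
      haveI : IsDirected ιQ (· ≤ ·) := ⟨fun T₁ T₂ => by
        obtain ⟨s₁, hs₁, h₁⟩ := T₁.2
        obtain ⟨s₂, hs₂, h₂⟩ := T₂.2
        refine ⟨⟨T₁.1 ⊔ T₂.1, s₁ * s₂, fun hmem => (hp.mem_or_mem hmem).elim hs₁ hs₂, ?_⟩,
          (le_sup_left : T₁.1 ≤ T₁.1 ⊔ T₂.1), (le_sup_right : T₂.1 ≤ T₁.1 ⊔ T₂.1)⟩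
        intro t ht
        obtain ⟨a, ha, b, hb, rfl⟩ := Submodule.mem_sup.1 ht
        have e1 : (s₁ * s₂) • a = 0 := by rw [mul_comm, mul_smul, h₁ a ha, smul_zero]
        have e2 : (s₁ * s₂) • b = 0 := by rw [mul_smul, h₂ b hb, smul_zero]
        rw [smul_add, e1, e2, add_zero]⟩
      refine isoClass_of_directed_union u (fun i : ιQ => i.1) (fun _ _ h => h) ?_ ?_
      · intro y
        obtain ⟨x, rfl⟩ := Submodule.Quotient.mk_surjective _ y
        obtain ⟨⟨c, b⟩, hcb⟩ := IsLocalization.surj (nonZeroDivisors (A ⧸ p)) x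
        obtain ⟨s, hs⟩ := Ideal.Quotient.mk_surjective b.1
        have hsp : s ∉ p := by
          intro hmem
          have : (b : A ⧸ p) = 0 := by rw [← hs]; exact Ideal.Quotient.eq_zero_iff_mem.2 hmem
          exact nonZeroDivisors.ne_zero b.2 this
        refine ⟨⟨Submodule.torsionBy A _ s, s, hsp, fun t ht =>
          (Submodule.mem_torsionBy_iff _ _).1 ht⟩, ?_⟩
        change _ ∈ Submodule.torsionBy A _ s
        rw [Submodule.mem_torsionBy_iff, ← Submodule.Quotient.mk_smul,
          Submodule.Quotient.mk_eq_zero]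
        refine ⟨c, ?_⟩
        change algebraMap (A ⧸ p) p.ResidueField c = s • x
        rw [Algebra.smul_def, ← Ideal.algebraMap_quotient_residueField_mk, hs, mul_comm]
        exact hcb.symm
      · intro i
        obtain ⟨s, hsp, hs⟩ := i.2
        refine isoClass_of_killed u (p ⊔ Ideal.span {s}) ?_ i.1 ?_
        · intro q hq hle
          have hpq : p < q := by
            refine lt_of_le_of_ne (le_trans le_sup_left hle) ?_
            rintro rfl
            exact hsp (hle (Ideal.mem_sup_right (Ideal.mem_span_singleton_self s)))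
          exact ih q hpq hq
        · intro a ha t
          obtain ⟨a₁, ha₁, a₂, ha₂, rfl⟩ := Submodule.mem_sup.1 ha
          obtain ⟨c, rfl⟩ := Ideal.mem_span_singleton'.1 ha₂
          apply Subtype.ext
          rw [Submodule.coe_smul, Submodule.coe_zero, add_smul, hpQ a₁ ha₁, zero_add, mul_smul,
            hs t.1 t.2, smul_zero]
  have hA : IsoClass u (ModuleCat.of A A) :=
    isoClass_of_finite u (fun _ => True) (fun q hq _ => key q hq) A (fun _ _ _ => trivial)
  have h0 := hA 0
  let e : (Tor (ModuleCat.{u} A) 0).obj (ModuleCat.of A A) ≅ 𝟭 (ModuleCat.{u} A) :=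
    Functor.leftDerivedZeroIsoSelf ((tensoringLeft (ModuleCat.{u} A)).obj (ModuleCat.of A A)) ≪≫
      leftUnitorNatIso (ModuleCat.{u} A)
  exact (NatIso.isIso_map_iff e u).1 h0

end Groth.Agent.S8597
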