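import Groth.Statements.S8598
-- import your own Groth.Agent.* helpers here
import Groth.Agent.Lib.Helper23.EtSite

set_option autoImplicit false
universe u
open CategoryTheory CategoryTheory.Limits AlgebraicGeometry Opposite
open EtDl

namespace Groth.Agent.S8598

open CategoryTheory AlgebraicGeometry Opposite Limits GrothendieckTopology
open Groth.Agent.Lib.Helper23.EtSite

set_option backward.isDefEq.respectTransparency.types false in
set_option backward.isDefEq.respectTransparency false in
lemma restr_faithful {X Y : Scheme.{u}} (u : X ⟶ Y) [Etale u] [Surjective u]
    [EtShriek.JCont u] : (EtShriek.restrAlong u).Faithful := by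
  constructor
  intro F G a b hab
  apply Sheaf.hom_ext
  ext W s
  -- the covering W ×_Y X → W
  let W' : X.Etale := (EtCoh.bc u).obj W.unop
  let T : Y.Etale := (EtShriek.compEtale u).obj W'
  let k : T ⟶ W.unop := MorphismProperty.Over.homMk (pullback.fst W.unop.hom u)
    (pullback.condition) trivial
  have hk : Function.Surjective k.left := by
    have : Surjective (pullback.fst W.unop.hom u) := inferInstance
    exact (pullback.fst W.unop.hom u).surjective
  let F' : EtDesc.Sh Y := (sheafCompose _ (forget AddCommGrpCat.{u+1})).obj F
  let G' : EtDesc.Sh Y := (sheafCompose _ (forget AddCommGrpCat.{u+1})).obj G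
  apply eq_of_restrict_eq G' k hk
  have h1 : a.hom.app (op T) = b.hom.app (op T) :=
    congrArg (fun φ => φ.hom.app (op W')) hab
  have ha := congrArg (fun φ => φ s) (a.hom.naturality k.op)
  have hb := congrArg (fun φ => φ s) (b.hom.naturality k.op)
  simp only [ConcreteCategory.comp_apply] at ha hb
  change G.obj.map k.op (a.hom.app W s) = G.obj.map k.op (b.hom.app W s)
  rw [← ha, ← hb, h1]


/-- Let u : X -> Y be an etale, separated morphism of finite type that is surjective, and F an abelian
sheaf on Y_et. The sheaves F_n = (u_n)_! u_n^* F built from the iterated fibre powers of X over Y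
form a left resolution of F; in particular (the part stated here) the augmentation u_! u^* F -> F,
which is the counit of the adjunction between extension by zero u_! and restriction u^*, is an
epimorphism. (The continuity of V ↦ (V -> X -> Y) between the small etale sites is carried as an
instance hypothesis, the prelude's convention for extension by zero along an etale morphism.) -/
theorem result {X Y : Scheme.{u}} (u : X ⟶ Y) [Etale u] [IsSeparated u]
    [LocallyOfFiniteType u] [QuasiCompact u] [Surjective u] [EtShriek.JCont u] (F : EtCoh.Ab Y) :
    Epi ((EtShriek.extZeroAdj u).counit.app F) := by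
  haveI := restr_faithful u
  exact Adjunction.counit_epi_of_R_faithful (EtShriek.extZeroAdj u) F

end Groth.Agent.S8598
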