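import Groth.Statements.S8609
import Mathlib

set_option autoImplicit false
universe u
open CategoryTheory
open SGA4h

namespace Groth.Agent.S8609

section Aux
open PiTensorProduct
open scoped TensorProduct

/-! ### types of maps `Fin n → ι` (after helper20's `PLFree`) -/
section Orbit

variable {K : Type*} {d : ℕ}

/-- the type of a map `Fin d → K` -/
noncomputable def typK (c : Fin d → K) : K →₀ ℕ := ∑ i, Finsupp.single (c i) 1

theorem typK_apply [DecidableEq K] (c : Fin d → K) (k : K) :
    typK c k = (Finset.univ.filter (fun i => c i = k)).card := by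
  unfold typK
  rw [Finsupp.finsetSum_apply, Finset.card_filter]
  refine Finset.sum_congr rfl (fun i _ => ?_)
  rw [Finsupp.single_apply]

theorem typK_comp_perm (c : Fin d → K) (σ : Equiv.Perm (Fin d)) :
    typK (fun i => c (σ i)) = typK c := by
  unfold typK
  exact Equiv.sum_comp σ (fun i => Finsupp.single (c i) 1)

/-- two maps with the same type differ by a permutation -/
theorem exists_perm_of_typK_eq (c c' : Fin d → K) (h : typK c = typK c') :
    ∃ σ : Equiv.Perm (Fin d), ∀ i, c' i = c (σ i) := by
  classical
  have hcard : ∀ k : K, Fintype.card {i // c' i = k} = Fintype.card {i // c i = k} := by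
    intro k
    have := DFunLike.congr_fun h k
    rw [typK_apply, typK_apply] at this
    rw [Fintype.card_subtype, Fintype.card_subtype]
    exact this.symm
  let σ : Fin d ≃ Fin d := Equiv.ofFiberEquiv (f := c') (g := c)
    (fun k => Fintype.equivOfCardEq (hcard k))
  exact ⟨σ, fun i => (Equiv.ofFiberEquiv_map _ i).symm⟩

end Orbit

/-! ### the basis of the tensor power -/
section Coord

variable {A : Type*} [CommRing A] {M : Type*} [AddCommGroup M] [Module A M]
  {ι : Type*} (e : Module.Basis ι A M) (n : ℕ)

noncomputable def bT : Module.Basis (Fin n → ι) A (⨂[A] _ : Fin n, M) :=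
  Basis.piTensorProduct (fun _ : Fin n => e)

theorem bT_apply (c : Fin n → ι) :
    bT e n c = PiTensorProduct.tprod A (fun i => e (c i)) := by
  unfold bT
  rw [Basis.piTensorProduct_apply]

theorem reindex_bT (σ : Equiv.Perm (Fin n)) (c : Fin n → ι) :
    PiTensorProduct.reindex A (fun _ : Fin n => M) σ (bT e n c) =
      bT e n (fun i => c (σ.symm i)) := by
  rw [bT_apply, bT_apply, PiTensorProduct.reindex_tprod]

theorem repr_reindex (σ : Equiv.Perm (Fin n)) (y : ⨂[A] _ : Fin n, M) (c : Fin n → ι) :
    (bT e n).repr (PiTensorProduct.reindex A (fun _ : Fin n => M) σ y) c =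
      (bT e n).repr y (fun i => c (σ i)) := by
  classical
  have h : (Finsupp.lapply c ∘ₗ (bT e n).repr.toLinearMap) ∘ₗ
      (PiTensorProduct.reindex A (fun _ : Fin n => M) σ).toLinearMap =
      Finsupp.lapply (fun i => c (σ i)) ∘ₗ (bT e n).repr.toLinearMap := by
    apply (bT e n).ext
    intro c'
    simp only [LinearMap.comp_apply, LinearEquiv.coe_coe, Finsupp.lapply_apply]
    rw [reindex_bT, Module.Basis.repr_self, Module.Basis.repr_self, Finsupp.single_apply,
      Finsupp.single_apply]
    congr 1
    apply propext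
    constructor
    · intro h
      rw [← h]
      funext i
      simp
    · intro h
      rw [h]
      funext i
      simp
  exact DFunLike.congr_fun h y

theorem repr_tprod (f : Fin n → M) (c : Fin n → ι) :
    (bT e n).repr (PiTensorProduct.tprod A f) c = ∏ s, e.repr (f s) (c s) := by
  unfold bT
  rw [Basis.piTensorProduct_repr_tprod_apply]

end Coord

/-! ### symmetric tensors of a free module -/
section Gam

variable {A : Type*} [CommRing A] {M : Type*} [AddCommGroup M] [Module A M]
  {ι : Type*} [Fintype ι] [DecidableEq ι] (e : Module.Basis ι A M) (n : ℕ)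

variable (A M) in
/-- the submodule of symmetric tensors -/
noncomputable def G : Submodule A (⨂[A] _ : Fin n, M) :=
  ⨅ σ : Equiv.Perm (Fin n),
    LinearMap.eqLocus ((PiTensorProduct.reindex A (fun _ : Fin n => M) σ).toLinearMap) LinearMap.id

theorem mem_G {x : ⨂[A] _ : Fin n, M} :
    x ∈ G A M n ↔ ∀ σ : Equiv.Perm (Fin n),
      PiTensorProduct.reindex A (fun _ : Fin n => M) σ x = x := by
  unfold G
  rw [Submodule.mem_iInf]
  exact Iff.rfl

variable (ι) in
/-- the index set: types of maps `Fin n → ι` -/
abbrev I : Type _ := {β : ι →₀ ℕ // β ∈ (Finset.univ : Finset (Fin n → ι)).image typK}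

variable (ι) in
noncomputable def cls (c : Fin n → ι) : I ι n :=
  ⟨typK c, Finset.mem_image_of_mem _ (Finset.mem_univ c)⟩

variable (ι) in
noncomputable def rep (β : I ι n) : Fin n → ι := (Finset.mem_image.1 β.2).choose

theorem typK_rep (β : I ι n) : typK (rep ι n β) = β.1 :=
  (Finset.mem_image.1 β.2).choose_spec.2

theorem cls_rep (β : I ι n) : cls ι n (rep ι n β) = β := Subtype.ext (typK_rep n β)

theorem cls_comp_perm (c : Fin n → ι) (σ : Equiv.Perm (Fin n)) :
    cls ι n (fun i => c (σ i)) = cls ι n c := Subtype.ext (typK_comp_perm c σ)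

theorem repr_eq_of_cls_eq {x : ⨂[A] _ : Fin n, M} (hx : x ∈ G A M n) (c c' : Fin n → ι)
    (h : cls ι n c = cls ι n c') : (bT e n).repr x c' = (bT e n).repr x c := by
  obtain ⟨σ, hσ⟩ := exists_perm_of_typK_eq c c' (congrArg Subtype.val h)
  have : c' = fun i => c (σ i) := funext hσ
  rw [this, ← repr_reindex, (mem_G n).1 hx σ]

/-- the symmetric tensor with prescribed coefficients on types -/
noncomputable def symOf (f : I ι n → A) : ⨂[A] _ : Fin n, M :=
  ∑ c : Fin n → ι, f (cls ι n c) • bT e n c

theorem symOf_mem (f : I ι n → A) : symOf e n f ∈ G A M n := by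
  rw [mem_G]
  intro σ
  unfold symOf
  rw [map_sum]
  simp_rw [map_smul, reindex_bT]
  refine Fintype.sum_equiv (Equiv.arrowCongr σ (Equiv.refl ι)) _ _ (fun c => ?_)
  have h1 : (Equiv.arrowCongr σ (Equiv.refl ι)) c = fun i => c (σ.symm i) := by
    funext i; simp [Equiv.arrowCongr]
  rw [h1]
  congr 1
  rw [cls_comp_perm]

theorem repr_symOf (f : I ι n → A) (c : Fin n → ι) :
    (bT e n).repr (symOf e n f) c = f (cls ι n c) := by
  unfold symOf
  rw [map_sum, Finsupp.finsetSum_apply]
  simp_rw [map_smul, Module.Basis.repr_self, Finsupp.smul_apply, Finsupp.single_apply]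
  simp

/-- coordinates on symmetric tensors -/
noncomputable def Φ : G A M n ≃ₗ[A] (I ι n → A) where
  toFun x := fun β => (bT e n).repr x.1 (rep ι n β)
  map_add' x y := by funext β; simp
  map_smul' a x := by funext β; simp
  invFun f := ⟨symOf e n f, symOf_mem e n f⟩
  left_inv x := by
    apply Subtype.ext
    change symOf e n (fun β => (bT e n).repr x.1 (rep ι n β)) = x.1
    unfold symOf
    conv_rhs => rw [← (bT e n).sum_repr x.1]
    refine Finset.sum_congr rfl (fun c _ => ?_)
    congr 1
    exact repr_eq_of_cls_eq e n x.2 c _ (cls_rep n (cls ι n c)).symm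
  right_inv f := by
    funext β
    change (bT e n).repr (symOf e n f) (rep ι n β) = f β
    rw [repr_symOf, cls_rep]

/-- the universal polynomial computing the trace on symmetric tensors -/
noncomputable def P (U : Matrix ι ι A) : A :=
  ∑ β : I ι n, ∑ c : Fin n → ι,
    if cls ι n c = β then ∏ s, U (rep ι n β s) (c s) else 0

theorem trace_gam (u : M →ₗ[A] M) (γ : G A M n →ₗ[A] G A M n)
    (hγ : ∀ x : G A M n, ((γ x : G A M n) : ⨂[A] _ : Fin n, M) =
      PiTensorProduct.map (fun _ : Fin n => u) (x : ⨂[A] _ : Fin n, M)) :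
    LinearMap.trace A _ γ = P n (LinearMap.toMatrix e e u) := by
  classical
  set bG : Module.Basis (I ι n) A (G A M n) := Module.Basis.ofEquivFun (Φ e n) with hbG
  rw [LinearMap.trace_eq_matrix_trace A bG γ, Matrix.trace]
  unfold P
  refine Finset.sum_congr rfl (fun β _ => ?_)
  rw [Matrix.diag_apply, LinearMap.toMatrix_apply, hbG, Module.Basis.ofEquivFun_repr_apply,
    Module.Basis.coe_ofEquivFun]
  change (bT e n).repr ((γ ((Φ e n).symm (Pi.single β 1)) : G A M n) : ⨂[A] _ : Fin n, M)
    (rep ι n β) = _
  rw [hγ]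
  change (bT e n).repr (PiTensorProduct.map (fun _ : Fin n => u) (symOf e n (Pi.single β 1)))
    (rep ι n β) = _
  unfold symOf
  rw [map_sum, map_sum, Finsupp.finsetSum_apply]
  refine Finset.sum_congr rfl (fun c _ => ?_)
  rw [map_smul, map_smul, Finsupp.smul_apply, bT_apply, PiTensorProduct.map_tprod, repr_tprod]
  by_cases h : cls ι n c = β
  · rw [if_pos h, h, Pi.single_eq_same, one_smul]
    refine Finset.prod_congr rfl (fun s _ => ?_)
    rw [LinearMap.toMatrix_apply]
  · rw [if_neg h, Pi.single_eq_of_ne h, zero_smul]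

end Gam

/-! ### the determinant side -/
section Det
open Polynomial

variable {A : Type u} [CommRing A] {M : Type u} [AddCommGroup M] [Module A M]
  {ι : Type*} [Fintype ι] [DecidableEq ι] (e : Module.Basis ι A M)

theorem detOneSub_eq (u : M →ₗ[A] M) :
    SGA4h.detOneSub (ModuleCat.of A M) (ModuleCat.ofHom u) =
      (LinearMap.toMatrix e e u).charpolyRev := by
  unfold SGA4h.detOneSub Matrix.charpolyRev
  rw [ModuleCat.hom_ofHom]
  rw [← LinearMap.det_toMatrix (Algebra.TensorProduct.basis A[X] e)]
  congr 1
  have h1 : LinearMap.toMatrix (Algebra.TensorProduct.basis A[X] e)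
      (Algebra.TensorProduct.basis A[X] e) (LinearMap.id - (X : A[X]) • u.baseChange A[X]) =
      LinearMap.toMatrix (Algebra.TensorProduct.basis A[X] e)
        (Algebra.TensorProduct.basis A[X] e) LinearMap.id -
      (X : A[X]) • LinearMap.toMatrix (Algebra.TensorProduct.basis A[X] e)
        (Algebra.TensorProduct.basis A[X] e) (u.baseChange A[X]) := by
    have ha := (LinearMap.toMatrix (Algebra.TensorProduct.basis A[X] e)
      (Algebra.TensorProduct.basis A[X] e)).toLinearMap.map_sub LinearMap.id
        ((X : A[X]) • u.baseChange A[X])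
    have hb := (LinearMap.toMatrix (Algebra.TensorProduct.basis A[X] e)
      (Algebra.TensorProduct.basis A[X] e)).toLinearMap.map_smul (X : A[X]) (u.baseChange A[X])
    simp only [LinearEquiv.coe_coe] at ha hb
    rw [ha, hb]
  refine h1.trans ?_
  rw [LinearMap.toMatrix_baseChange, LinearMap.toMatrix_id]
  rfl

end Det

/-! ### the triangular case -/
section Tri
open Polynomial

variable {ι : Type*} [Fintype ι] [DecidableEq ι]

theorem exists_typK_eq (n : ℕ) : ∀ l : ι →₀ ℕ, (∑ i, l i) = n → ∃ c : Fin n → ι, typK c = l := by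
  induction n with
  | zero =>
    intro l hl
    refine ⟨Fin.elim0, ?_⟩
    have : l = 0 := by
      ext i
      have := (Finset.sum_eq_zero_iff.1 hl) i (Finset.mem_univ i)
      simpa using this
    rw [this]
    simp [typK]
  | succ n ih =>
    intro l hl
    have : ∃ i, l i ≠ 0 := by
      by_contra h
      push Not at h
      have : (∑ i, l i) = 0 := Finset.sum_eq_zero (fun i _ => h i)
      omega
    obtain ⟨i, hi⟩ := this
    set l' : ι →₀ ℕ := l - Finsupp.single i 1 with hl'def
    have hl' : l = Finsupp.single i 1 + l' := by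
      ext j
      by_cases hj : j = i
      · subst hj
        simp only [hl'def, Finsupp.coe_add, Finsupp.coe_tsub, Pi.add_apply, Pi.sub_apply,
          Finsupp.single_eq_same]
        omega
      · simp [hl'def, Finsupp.single_eq_of_ne hj]
    have hsum : (∑ j, l' j) = n := by
      have h1 : (∑ j, l j) = (∑ j, (Finsupp.single i 1 : ι →₀ ℕ) j) + ∑ j, l' j := by
        rw [← Finset.sum_add_distrib]
        refine Finset.sum_congr rfl (fun j _ => ?_)
        conv_lhs => rw [hl']
        rfl
      have h2 : (∑ j, (Finsupp.single i 1 : ι →₀ ℕ) j) = 1 := by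
        simp [Finsupp.single_apply]
      omega
    obtain ⟨c', hc'⟩ := ih l' hsum
    refine ⟨Fin.cons i c', ?_⟩
    rw [hl']
    unfold typK at hc' ⊢
    rw [Fin.sum_univ_succ, ← hc']
    simp

theorem image_typK (n : ℕ) :
    (Finset.univ : Finset (Fin n → ι)).image typK = Finset.finsuppAntidiag Finset.univ n := by
  ext l
  rw [Finset.mem_image, Finset.mem_finsuppAntidiag]
  constructor
  · rintro ⟨c, -, rfl⟩
    refine ⟨?_, Finset.subset_univ _⟩
    unfold typK
    simp_rw [Finsupp.finsetSum_apply]
    rw [Finset.sum_comm]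
    simp [Finsupp.single_apply]
  · rintro ⟨h, -⟩
    obtain ⟨c, hc⟩ := exists_typK_eq n l h
    exact ⟨c, Finset.mem_univ _, hc⟩

theorem prod_comp_eq {A : Type*} [CommRing A] {n : ℕ} (g : ι → A) (c : Fin n → ι) :
    ∏ s, g (c s) = ∏ i, g i ^ (typK c i) := by
  have h1 : ∏ s, g (c s) = (typK c).prod (fun i k => g i ^ k) := by
    unfold typK
    rw [← Finsupp.prod_finsetSum_index (fun _ => pow_zero _) (fun _ _ _ => pow_add _ _ _)]
    refine Finset.prod_congr rfl (fun s _ => ?_)
    rw [Finsupp.prod_single_index (h := fun x e => g x ^ e) (pow_zero _), pow_one]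
  rw [h1, Finsupp.prod_fintype _ _ (fun _ => pow_zero _)]

theorem exists_lt_of_typK_eq {d n : ℕ} (r c : Fin n → Fin d) (h : typK r = typK c) (hne : c ≠ r) :
    ∃ s, r s < c s := by
  by_contra hcon
  push Not at hcon
  obtain ⟨σ, hσ⟩ := exists_perm_of_typK_eq r c h
  have hsum : ∑ s, ((c s : Fin d) : ℕ) = ∑ s, ((r s : Fin d) : ℕ) := by
    simp_rw [hσ]
    exact Equiv.sum_comp σ (fun s => ((r s : Fin d) : ℕ))
  have hle : ∀ s ∈ (Finset.univ : Finset (Fin n)), ((c s : Fin d) : ℕ) ≤ ((r s : Fin d) : ℕ) :=
    fun s _ => hcon s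
  have := (Finset.sum_eq_sum_iff_of_le hle).1 hsum
  exact hne (funext fun s => Fin.ext (this s (Finset.mem_univ s)))

theorem P_tri {A : Type*} [CommRing A] {d : ℕ} (U : Matrix (Fin d) (Fin d) A)
    (hU : U.IsLowerTriangular) (n : ℕ) :
    P n U = ∑ l ∈ Finset.finsuppAntidiag Finset.univ n, ∏ i, U i i ^ (l i) := by
  unfold P
  have h1 : ∀ β : I (Fin d) n, (∑ c : Fin n → Fin d,
      if cls (Fin d) n c = β then ∏ s, U (rep (Fin d) n β s) (c s) else 0) =
      ∏ i, U i i ^ (β.1 i) := by
    intro β
    rw [Finset.sum_eq_single (rep (Fin d) n β)]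
    · rw [if_pos (cls_rep n β), prod_comp_eq (fun i => U i i) (rep (Fin d) n β), typK_rep]
    · intro c _ hc
      split_ifs with hcls
      · have htyp : typK (rep (Fin d) n β) = typK c := by
          rw [typK_rep]; exact (congrArg Subtype.val hcls).symm
        obtain ⟨s, hs⟩ := exists_lt_of_typK_eq _ c htyp hc
        exact Finset.prod_eq_zero (Finset.mem_univ s) (hU hs)
      · rfl
    · intro h; exact absurd (Finset.mem_univ _) h
  simp_rw [h1]
  rw [← image_typK]
  exact Finset.sum_coe_sort ((Finset.univ : Finset (Fin n → Fin d)).image typK)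
    (fun l => ∏ i, U i i ^ (l i))

end Tri

/-! ### triangular bases over algebraically closed fields -/
section TriBasis

universe v
variable {K : Type*} [Field K] [IsAlgClosed K]

theorem exists_tri_basis : ∀ (d : ℕ) (V : Type v) [AddCommGroup V] [Module K V]
    [FiniteDimensional K V] (_ : Module.finrank K V = d) (u : V →ₗ[K] V),
    ∃ b : Module.Basis (Fin d) K V, (LinearMap.toMatrix b b u).IsLowerTriangular := by
  intro d
  induction d with
  | zero =>
    intro V _ _ _ hd u
    exact ⟨Module.finBasisOfFinrankEq K V hd, fun i => i.elim0⟩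
  | succ d ih =>
    intro V _ _ _ hd u
    classical
    have hnt : Nontrivial V := Module.nontrivial_of_finrank_pos (R := K) (by omega)
    -- an eigenvector of the dual map
    have hntD : Nontrivial (Module.Dual K V) := by
      apply Module.nontrivial_of_finrank_pos (R := K)
      rw [Subspace.dual_finrank_eq]; omega
    obtain ⟨c, hc⟩ := Module.End.exists_eigenvalue (LinearMap.dualMap u)
    obtain ⟨φ, hφ⟩ := hc.exists_hasEigenvector
    have hφ0 : φ ≠ 0 := hφ.2
    have hφu : ∀ x, φ (u x) = c * φ x := by
      intro x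
      have := hφ.apply_eq_smul
      have h2 := congrArg (fun ψ : Module.Dual K V => ψ x) this
      simpa using h2
    have hdH0 : Module.finrank K (LinearMap.ker φ) = d := by
      have := Module.Dual.finrank_ker_add_one_of_ne_zero hφ0
      omega
    set H := LinearMap.ker φ with hH
    have hinv : ∀ x ∈ H, u x ∈ H := by
      intro x hx
      rw [hH, LinearMap.mem_ker] at hx ⊢
      rw [hφu, hx, mul_zero]
    have hdH : Module.finrank K H = d := hdH0
    obtain ⟨bH, hbH⟩ := ih H hdH (u.restrict hinv)
    obtain ⟨y, hy⟩ : ∃ y, φ y ≠ 0 := by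
      by_contra hcon
      push Not at hcon
      exact hφ0 (LinearMap.ext hcon)
    have hli : ∀ (a : K), ∀ x ∈ H, a • y + x = 0 → a = 0 := by
      intro a x hx h
      rw [hH, LinearMap.mem_ker] at hx
      have := congrArg φ h
      rw [map_add, map_smul, hx, add_zero, map_zero, smul_eq_mul] at this
      exact (mul_eq_zero.1 this).resolve_right hy
    have hsp : ∀ z : V, ∃ a : K, z + a • y ∈ H := by
      intro z
      refine ⟨-(φ z / φ y), ?_⟩
      rw [hH, LinearMap.mem_ker, map_add, map_smul, smul_eq_mul]
      field_simp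
      ring
    set b := Module.Basis.mkFinCons y bH hli hsp with hb
    have hb0 : b 0 = y := by rw [hb, Module.Basis.coe_mkFinCons]; rfl
    have hbs : ∀ k : Fin d, b k.succ = (bH k : V) := by
      intro k; rw [hb, Module.Basis.coe_mkFinCons]; rfl
    refine ⟨b, ?_⟩
    intro i j hij
    change i < j at hij
    rw [LinearMap.toMatrix_apply]
    obtain ⟨j', rfl⟩ : ∃ j', Fin.succ j' = j := by
      refine Fin.exists_succ_eq.2 ?_
      intro h; subst h; exact absurd hij (Fin.not_lt_zero _)
    rw [hbs]
    set w : H := u.restrict hinv (bH j') with hw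
    have hwV : u (bH j' : V) = (w : V) := rfl
    rw [hwV]
    have hexp : (w : V) = ∑ k : Fin (d + 1), (Fin.cons 0 (⇑(bH.repr w)) : Fin (d + 1) → K) k • b k := by
      rw [Fin.sum_univ_succ]
      simp only [Fin.cons_zero, zero_smul, zero_add, Fin.cons_succ, hbs]
      have h3 := congrArg Subtype.val (bH.sum_repr w)
      rw [Submodule.coe_sum] at h3
      simp only [Submodule.coe_smul] at h3
      exact h3.symm
    rw [hexp, Module.Basis.repr_sum_self]
    revert hij
    refine Fin.cases ?_ (fun i' => ?_) i
    · intro _; rfl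
    · intro hi'
      rw [Fin.cons_succ]
      have := hbH (show (OrderDual.toDual j') < OrderDual.toDual i' from Fin.succ_lt_succ_iff.1 hi')
      rwa [LinearMap.toMatrix_apply] at this

end TriBasis

/-! ### the universal identity and its naturality -/
section Univ
open Polynomial

universe w
variable {ι : Type w} [Fintype ι] [DecidableEq ι]

/-- the identity to be proved, for a matrix -/
def Claim {A : Type*} [CommRing A] (U : Matrix ι ι A) : Prop :=
  ((U.charpolyRev : A[X]) : PowerSeries A) * PowerSeries.mk (fun n => P n U) = 1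

theorem P_map {A A' : Type*} [CommRing A] [CommRing A'] (φ : A →+* A') (U : Matrix ι ι A)
    (n : ℕ) : P n (U.map φ) = φ (P n U) := by
  unfold P
  rw [map_sum]
  refine Finset.sum_congr rfl (fun β _ => ?_)
  rw [map_sum]
  refine Finset.sum_congr rfl (fun c _ => ?_)
  split_ifs
  · rw [map_prod]; rfl
  · rw [map_zero]

theorem charpolyRev_map {A A' : Type*} [CommRing A] [CommRing A'] (φ : A →+* A')
    (U : Matrix ι ι A) : (U.map φ).charpolyRev = U.charpolyRev.map φ := by
  unfold Matrix.charpolyRev
  rw [← Polynomial.coe_mapRingHom, RingHom.map_det]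
  congr 1
  ext i j
  simp [Matrix.one_apply, apply_ite]

theorem claim_map_iff {A A' : Type*} [CommRing A] [CommRing A'] (φ : A →+* A')
    (hφ : Function.Injective φ) (U : Matrix ι ι A) : Claim (U.map φ) → Claim U := by
  intro h
  unfold Claim at h ⊢
  have hinj : Function.Injective (PowerSeries.map φ) := by
    intro a b hab
    ext n
    have := congrArg (PowerSeries.coeff n) hab
    rw [PowerSeries.coeff_map, PowerSeries.coeff_map] at this
    exact hφ this
  apply hinj
  rw [map_mul, map_one, ← h, charpolyRev_map, Polynomial.polynomial_map_coe]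
  congr 1
  ext n
  rw [PowerSeries.coeff_map, PowerSeries.coeff_mk, PowerSeries.coeff_mk, P_map]

theorem claim_map {A A' : Type*} [CommRing A] [CommRing A'] (φ : A →+* A')
    (U : Matrix ι ι A) : Claim U → Claim (U.map φ) := by
  intro h
  unfold Claim at h ⊢
  have := congrArg (PowerSeries.map φ) h
  rw [map_mul, map_one] at this
  rw [← this, charpolyRev_map, Polynomial.polynomial_map_coe]
  congr 1
  ext n
  rw [PowerSeries.coeff_map, PowerSeries.coeff_mk, PowerSeries.coeff_mk, P_map]

/-- reduction to algebraically closed fields -/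
theorem claim_of_field
    (H : ∀ (K : Type w) [Field K] [IsAlgClosed K] (V : Matrix ι ι K), Claim V)
    {A : Type*} [CommRing A] (U : Matrix ι ι A) : Claim U := by
  -- the universal matrix
  let R := MvPolynomial (ι × ι) ℤ
  let X : Matrix ι ι R := Matrix.mvPolynomialX ι ι ℤ
  have hX : Claim X := by
    let K := AlgebraicClosure (FractionRing R)
    let φ : R →+* K := (algebraMap (FractionRing R) K).comp (algebraMap R (FractionRing R))
    have hφ : Function.Injective φ :=
      (algebraMap (FractionRing R) K).injective.comp (IsFractionRing.injective R (FractionRing R))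
    exact claim_map_iff φ hφ X (H K (X.map φ))
  have hU : X.map (MvPolynomial.eval₂Hom (Int.castRingHom A) fun p : ι × ι => U p.1 p.2) = U :=
    Matrix.mvPolynomialX_map_eval₂ (Int.castRingHom A) U
  rw [← hU]
  exact claim_map _ X hX

theorem geom_inv {A : Type*} [CommRing A] (a : A) :
    ((1 - (X : A[X]) * C a : A[X]) : PowerSeries A) * PowerSeries.mk (fun k => a ^ k) = 1 := by
  ext n
  rw [Polynomial.coe_sub, Polynomial.coe_one, Polynomial.coe_mul, Polynomial.coe_X,
    Polynomial.coe_C, sub_mul, one_mul, map_sub, PowerSeries.coeff_mk, mul_assoc]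
  cases n with
  | zero => simp
  | succ n =>
    rw [PowerSeries.coeff_succ_X_mul, PowerSeries.coeff_C_mul, PowerSeries.coeff_mk,
      PowerSeries.coeff_one, if_neg (Nat.succ_ne_zero n), pow_succ']
    ring

theorem claim_tri {A : Type*} [CommRing A] {d : ℕ} (U : Matrix (Fin d) (Fin d) A)
    (hU : U.IsLowerTriangular) : Claim U := by
  unfold Claim
  have hdet : U.charpolyRev = ∏ i, (1 - (X : A[X]) * C (U i i)) := by
    unfold Matrix.charpolyRev
    rw [Matrix.det_of_isLowerTriangular]
    · refine Finset.prod_congr rfl (fun i _ => ?_)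
      simp
    · intro i j hij
      have h0 : U i j = 0 := hU hij
      have hne : i ≠ j := by
        intro h; subst h; exact lt_irrefl _ hij
      simp [hne, h0]
  have hP : PowerSeries.mk (fun n => P n U) =
      ∏ i, PowerSeries.mk (fun k => (U i i) ^ k) := by
    ext n
    rw [PowerSeries.coeff_mk, PowerSeries.coeff_prod, P_tri U hU]
    refine Finset.sum_congr rfl (fun l _ => ?_)
    refine Finset.prod_congr rfl (fun i _ => ?_)
    rw [PowerSeries.coeff_mk]
  have hcoe : ((∏ i, (1 - (X : A[X]) * C (U i i)) : A[X]) : PowerSeries A) =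
      ∏ i, ((1 - (X : A[X]) * C (U i i) : A[X]) : PowerSeries A) :=
    map_prod (Polynomial.coeToPowerSeries.ringHom (R := A))
      (fun i => (1 - (X : A[X]) * C (U i i) : A[X])) Finset.univ
  rw [hdet, hP, hcoe, ← Finset.prod_mul_distrib]
  exact Finset.prod_eq_one (fun i _ => geom_inv (U i i))

end Univ

/-! ### the field case and the final assembly -/
section Final
open Polynomial

/-- the endomorphism of symmetric tensors induced by `u` -/
noncomputable def gam {A : Type*} [CommRing A] {M : Type*} [AddCommGroup M] [Module A M]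
    (u : M →ₗ[A] M) (n : ℕ) : G A M n →ₗ[A] G A M n :=
  (PiTensorProduct.map (fun _ : Fin n => u)).restrict (by
    intro x hx
    rw [mem_G] at hx ⊢
    intro σ
    rw [← PiTensorProduct.map_reindex (fun _ : Fin n => u) σ x, hx σ])

theorem claim_field (K : Type) [Field K] [IsAlgClosed K] {d : ℕ}
    (V : Matrix (Fin d) (Fin d) K) : Claim V := by
  set u : (Fin d → K) →ₗ[K] (Fin d → K) := Matrix.toLin' V with hu
  set std := Pi.basisFun K (Fin d) with hstd'
  have hstd : LinearMap.toMatrix std std u = V := by
    rw [LinearMap.toMatrix_eq_toMatrix', LinearMap.toMatrix'_toLin']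
  obtain ⟨b, hb⟩ := exists_tri_basis (Module.finrank K (Fin d → K)) (Fin d → K) rfl u
  have h1 := claim_tri _ hb
  unfold Claim at h1 ⊢
  have hdet : V.charpolyRev = (LinearMap.toMatrix b b u).charpolyRev := by
    rw [← hstd, ← detOneSub_eq std u, detOneSub_eq b u]
  have hP : ∀ n, P n V = P n (LinearMap.toMatrix b b u) := by
    intro n
    rw [← hstd, ← trace_gam std n u (gam u n) (fun x => rfl),
      trace_gam b n u (gam u n) (fun x => rfl)]
  rw [hdet]
  simp_rw [hP]
  exact h1

open TensorProduct PiTensorProduct Polynomial in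
theorem main {A : Type u} [CommRing A] (M : Type u) [AddCommGroup M]
    [Module A M] [Module.Free A M] [Module.Finite A M] (u : M →ₗ[A] M)
    (γ : ∀ n : ℕ, ↥(⨅ σ : Equiv.Perm (Fin n),
        LinearMap.eqLocus ((PiTensorProduct.reindex A (fun _ : Fin n => M) σ).toLinearMap) LinearMap.id) →ₗ[A]
      ↥(⨅ σ : Equiv.Perm (Fin n),
        LinearMap.eqLocus ((PiTensorProduct.reindex A (fun _ : Fin n => M) σ).toLinearMap) LinearMap.id))
    (hγ : ∀ (n : ℕ) (x : ↥(⨅ σ : Equiv.Perm (Fin n),
        LinearMap.eqLocus ((PiTensorProduct.reindex A (fun _ : Fin n => M) σ).toLinearMap) LinearMap.id)),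
      (↑(γ n x) : ⨂[A] _i : Fin n, M) = PiTensorProduct.map (fun _ : Fin n => u) (↑x : ⨂[A] _i : Fin n, M)) :
    (↑(SGA4h.detOneSub (ModuleCat.of A M) (ModuleCat.ofHom u)) : PowerSeries A) *
      PowerSeries.mk (fun n => LinearMap.trace A _ (γ n)) = 1 := by
  classical
  set e : Module.Basis (Fin (Fintype.card (Module.Free.ChooseBasisIndex A M))) A M :=
    (Module.Free.chooseBasis A M).reindex (Fintype.equivFin _) with he
  have hclaim : Claim (LinearMap.toMatrix e e u) :=
    claim_of_field (fun K _ _ V => claim_field K V) _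
  unfold Claim at hclaim
  rw [detOneSub_eq e u]
  have hP : ∀ n, LinearMap.trace A _ (γ n) = P n (LinearMap.toMatrix e e u) :=
    fun n => trace_gam e n u (γ n) (hγ n)
  simp_rw [hP]
  exact hclaim

end Final

end Aux

open TensorProduct PiTensorProduct Polynomial in
/-- The case of a module placed in degree 0: let A be a commutative ring, M a finite free A-module and u
an endomorphism of M. For each n let Γ^n M be the submodule of the n-fold tensor power of M fixed by
all permutations of the factors (symmetric tensors) and γ_n the endomorphism of Γ^n M induced by the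
n-fold tensor power of u. Then the power series Σ_n Tr(γ_n) t^n is the inverse of the polynomial
det(1 - u t, M): their product is 1 in A[[t]]. (The published statement allows M projective of
finite type; this row takes M free, where the trace of Γ^n M is the usual one.) -/
theorem result {A : Type u} [CommRing A] (M : Type u) [AddCommGroup M]
    [Module A M] [Module.Free A M] [Module.Finite A M] (u : M →ₗ[A] M)
    (γ : ∀ n : ℕ, ↥(⨅ σ : Equiv.Perm (Fin n),
        LinearMap.eqLocus ((PiTensorProduct.reindex A (fun _ : Fin n => M) σ).toLinearMap) LinearMap.id) →ₗ[A]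
      ↥(⨅ σ : Equiv.Perm (Fin n),
        LinearMap.eqLocus ((PiTensorProduct.reindex A (fun _ : Fin n => M) σ).toLinearMap) LinearMap.id))
    (hγ : ∀ (n : ℕ) (x : ↥(⨅ σ : Equiv.Perm (Fin n),
        LinearMap.eqLocus ((PiTensorProduct.reindex A (fun _ : Fin n => M) σ).toLinearMap) LinearMap.id)),
      (↑(γ n x) : ⨂[A] _i : Fin n, M) = PiTensorProduct.map (fun _ : Fin n => u) (↑x : ⨂[A] _i : Fin n, M)) :
    (↑(SGA4h.detOneSub (ModuleCat.of A M) (ModuleCat.ofHom u)) : PowerSeries A) *
      PowerSeries.mk (fun n => LinearMap.trace A _ (γ n)) = 1 := by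
  exact main M u γ hγ

end Groth.Agent.S8609
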