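import Groth.Statements.S8611
import Mathlib.Algebra.Homology.ShortComplex.Ab
import Mathlib.Algebra.Homology.ShortComplex.Exact

set_option autoImplicit false
universe w v u
open CategoryTheory CategoryTheory.Limits
open SGA4h

namespace Groth.Agent.S8611

variable {C : Type u} [Category.{v} C] [Abelian C]

/-- the short exact sequence of a monomorphism -/
noncomputable abbrev sesOf {A M : C} (i : A ⟶ M) : ShortComplex C :=
  ShortComplex.mk i (cokernel.π i) (cokernel.condition i)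

lemma sesOf_shortExact {A M : C} (i : A ⟶ M) [Mono i] : (sesOf i).ShortExact where
  exact := ShortComplex.exact_of_g_is_cokernel _ (cokernelIsCokernel i)
  mono_f := inferInstanceAs (Mono i)
  epi_g := inferInstanceAs (Epi (cokernel.π i))

section Elem

variable (T : DeltaF.CohDeltaFunctor C AddCommGrpCat.{w} ℕ) (S : ShortComplex C) (hS : S.ShortExact)

include hS in
lemma ex2 (n : ℕ) (x : (T.F n).obj S.X₂) (hx : (T.F n).map S.g x = 0) :
    ∃ y : (T.F n).obj S.X₁, (T.F n).map S.f y = x :=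
  (ShortComplex.ab_exact_iff _).1 (T.exact₂ S hS n) x hx

lemma ex3 (n : ℕ) (x : (T.F n).obj S.X₃) (hx : T.δ S hS n (n + 1) rfl x = 0) :
    ∃ y : (T.F n).obj S.X₂, (T.F n).map S.g y = x :=
  (ShortComplex.ab_exact_iff _).1 (T.exact₃ S hS n (n + 1) rfl) x hx

lemma ex1 (n : ℕ) (x : (T.F (n + 1)).obj S.X₁) (hx : (T.F (n + 1)).map S.f x = 0) :
    ∃ y : (T.F n).obj S.X₃, T.δ S hS n (n + 1) rfl y = x :=
  (ShortComplex.ab_exact_iff _).1 (T.exact₁ S hS n (n + 1) rfl) x hx

lemma comp_δ_apply (n : ℕ) (y : (T.F n).obj S.X₂) :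
    T.δ S hS n (n + 1) rfl ((T.F n).map S.g y) = 0 := by
  have := ConcreteCategory.congr_hom (T.comp_δ S hS n (n + 1) rfl) y
  simpa using this

end Elem

section Phi

variable {T T' : DeltaF.CohDeltaFunctor C AddCommGrpCat.{w} ℕ} (φ : T ⟶ T')

lemma φ_nat (n : ℕ) {X Y : C} (f : X ⟶ Y) (x : (T.F n).obj X) :
    (φ.app n).app Y ((T.F n).map f x) = (T'.F n).map f ((φ.app n).app X x) := by
  have := ConcreteCategory.congr_hom ((φ.app n).naturality f) x
  simpa using this

lemma φ_comm (S : ShortComplex C) (hS : S.ShortExact) (n : ℕ) (x : (T.F n).obj S.X₃) :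
    (φ.app (n + 1)).app S.X₁ (T.δ S hS n (n + 1) rfl x) =
      T'.δ S hS n (n + 1) rfl ((φ.app n).app S.X₃ x) := by
  have := ConcreteCategory.congr_hom (φ.comm S hS n (n + 1) rfl) x
  simpa using this

/-- injectivity step -/
lemma inj_step (q : ℕ)
    (hT : ∀ (A : C) (α : (T.F (q + 1)).obj A),
      ∃ (M : C) (u : A ⟶ M), Mono u ∧ (T.F (q + 1)).map u α = 0)
    (hbij : ∀ A : C, Function.Bijective ((φ.app q).app A)) (A : C) :
    Function.Injective ((φ.app (q + 1)).app A) := by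
  rw [injective_iff_map_eq_zero]
  intro α hα
  obtain ⟨M, u, hu, huα⟩ := hT A α
  have hS := sesOf_shortExact u
  obtain ⟨β, hβ⟩ := ex1 T (sesOf u) hS q α huα
  have h1 : T'.δ (sesOf u) hS q (q + 1) rfl ((φ.app q).app (sesOf u).X₃ β) = 0 := by
    rw [← φ_comm φ (sesOf u) hS q β, hβ]
    exact hα
  obtain ⟨γ', hγ'⟩ := ex3 T' (sesOf u) hS q _ h1
  obtain ⟨γ, hγ⟩ := (hbij (sesOf u).X₂).2 γ'
  have h2 : β = (T.F q).map (sesOf u).g γ := by
    apply (hbij (sesOf u).X₃).1
    rw [φ_nat φ q (sesOf u).g γ, hγ, hγ']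
  rw [← hβ, h2]
  exact comp_δ_apply T (sesOf u) hS q γ

/-- surjectivity step, effaceable version -/
lemma surj_step_eff (q : ℕ)
    (hT' : ∀ (A : C) (α : (T'.F (q + 1)).obj A),
      ∃ (M : C) (u : A ⟶ M), Mono u ∧ (T'.F (q + 1)).map u α = 0)
    (hsurj : ∀ A : C, Function.Surjective ((φ.app q).app A)) (A : C) :
    Function.Surjective ((φ.app (q + 1)).app A) := by
  intro α'
  obtain ⟨M, u, hu, huα⟩ := hT' A α'
  have hS := sesOf_shortExact u
  obtain ⟨β', hβ'⟩ := ex1 T' (sesOf u) hS q α' huα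
  obtain ⟨β, hβ⟩ := hsurj (sesOf u).X₃ β'
  exact ⟨T.δ (sesOf u) hS q (q + 1) rfl β, by rw [φ_comm φ (sesOf u) hS q β, hβ, hβ']⟩

/-- surjectivity step, version with the class `E` -/
lemma surj_step_E (q : ℕ) (E : ObjectProperty C)
    (hE : ∀ A : C, ∃ (M : C) (i : A ⟶ M), Mono i ∧ E M)
    (hbij : ∀ A : C, Function.Bijective ((φ.app q).app A))
    (hinj : ∀ A : C, Function.Injective ((φ.app (q + 1)).app A))
    (hsurjE : ∀ M : C, E M → Function.Surjective ((φ.app (q + 1)).app M)) (A : C) :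
    Function.Surjective ((φ.app (q + 1)).app A) := by
  intro α'
  obtain ⟨M, i, hi, hM⟩ := hE A
  have hS := sesOf_shortExact i
  obtain ⟨μ, hμ⟩ := hsurjE M hM ((T'.F (q + 1)).map i α')
  have h1 : (T.F (q + 1)).map (sesOf i).g μ = 0 := by
    apply hinj
    rw [φ_nat φ (q + 1) (sesOf i).g μ, map_zero, hμ]
    have := ConcreteCategory.congr_hom
      (((T'.F (q + 1)).map_comp (sesOf i).f (sesOf i).g).symm.trans
        (by rw [(sesOf i).zero, Functor.map_zero])) α'
    simpa using this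
  obtain ⟨α₁, hα₁⟩ := ex2 T (sesOf i) hS (q + 1) μ h1
  have h2 : (T'.F (q + 1)).map (sesOf i).f (α' - (φ.app (q + 1)).app A α₁) = 0 := by
    rw [map_sub, ← φ_nat φ (q + 1) (sesOf i).f α₁, hα₁, hμ]
    exact sub_self _
  obtain ⟨β', hβ'⟩ := ex1 T' (sesOf i) hS q _ h2
  obtain ⟨β, hβ⟩ := (hbij (sesOf i).X₃).2 β'
  refine ⟨α₁ + T.δ (sesOf i) hS q (q + 1) rfl β, ?_⟩
  rw [map_add, φ_comm φ (sesOf i) hS q β, hβ, hβ']
  abel

/-- degree zero -/
lemma zero_step (hT0 : T.ZeroMono) (hT'0 : T'.ZeroMono) (E : ObjectProperty C)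
    (hE : ∀ A : C, ∃ (M : C) (i : A ⟶ M), Mono i ∧ E M)
    (hE0 : ∀ M : C, E M → Function.Bijective ((φ.app 0).app M)) (A : C) :
    Function.Bijective ((φ.app 0).app A) := by
  have hinj : ∀ A : C, Function.Injective ((φ.app 0).app A) := by
    intro A
    obtain ⟨M, i, hi, hM⟩ := hE A
    have hS := sesOf_shortExact i
    have hm : Function.Injective ((T.F 0).map (sesOf i).f) :=
      (AddCommGrpCat.mono_iff_injective _).1 (hT0 _ hS)
    rw [injective_iff_map_eq_zero]
    intro x hx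
    apply hm
    rw [map_zero]
    apply (hE0 M hM).1
    rw [φ_nat φ 0 (sesOf i).f x, hx, map_zero, map_zero]
  refine ⟨hinj A, ?_⟩
  intro y
  obtain ⟨M, i, hi, hM⟩ := hE A
  have hS := sesOf_shortExact i
  have hm' : Function.Injective ((T'.F 0).map (sesOf i).f) :=
    (AddCommGrpCat.mono_iff_injective _).1 (hT'0 _ hS)
  obtain ⟨m, hm⟩ := (hE0 M hM).2 ((T'.F 0).map (sesOf i).f y)
  have h1 : (T.F 0).map (sesOf i).g m = 0 := by
    apply hinj
    rw [φ_nat φ 0 (sesOf i).g m, map_zero, hm]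
    have := ConcreteCategory.congr_hom
      (((T'.F 0).map_comp (sesOf i).f (sesOf i).g).symm.trans
        (by rw [(sesOf i).zero, Functor.map_zero])) y
    simpa using this
  obtain ⟨x, hx⟩ := ex2 T (sesOf i) hS 0 m h1
  refine ⟨x, hm' ?_⟩
  rw [← φ_nat φ 0 (sesOf i).f x, hx, hm]

end Phi


/-- Let C be an abelian category, T and T' cohomological delta-functors on C in degrees ≥ 0 with values
in abelian groups, both left exact in degree 0, with T effaceable in every degree q > 0 (every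
element of T^q(A) is killed by T^q(u) for some monomorphism u : A → M, depending on the element),
and φ : T → T' a morphism of delta-functors. Let E be a class of objects such that every object
admits a monomorphism into a member of E. Then the following are equivalent: (i) φ^q(A) is bijective
for all q and all A; (ii) φ^0(M) is bijective and φ^q(M) is surjective for q > 0, for all M in E;
(iii) φ^0(A) is bijective for all A and T' is effaceable in every degree > 0 (in the same
element-wise sense). Stated as (i) ⇔ (ii) together with (i) ⇔ (iii). -/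
theorem result {C : Type u} [Category.{v} C] [Abelian C]
    (T T' : DeltaF.CohDeltaFunctor C AddCommGrpCat.{w} ℕ) (hT0 : T.ZeroMono) (hT'0 : T'.ZeroMono)
    (hT : ∀ (q : ℕ) (A : C) (α : (T.F (q + 1)).obj A),
      ∃ (M : C) (u : A ⟶ M), Mono u ∧ (T.F (q + 1)).map u α = 0)
    (φ : T ⟶ T') (E : ObjectProperty C)
    (hE : ∀ A : C, ∃ (M : C) (i : A ⟶ M), Mono i ∧ E M) :
    ((∀ (q : ℕ) (A : C), IsIso ((φ.app q).app A)) ↔
      ((∀ M : C, E M → IsIso ((φ.app 0).app M)) ∧
        ∀ (q : ℕ) (M : C), E M → Epi ((φ.app (q + 1)).app M))) ∧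
    ((∀ (q : ℕ) (A : C), IsIso ((φ.app q).app A)) ↔
      ((∀ A : C, IsIso ((φ.app 0).app A)) ∧
        ∀ (q : ℕ) (A : C) (α : (T'.F (q + 1)).obj A),
          ∃ (M : C) (u : A ⟶ M), Mono u ∧ (T'.F (q + 1)).map u α = 0)) := by
  have iso_iff : ∀ (q : ℕ) (A : C), IsIso ((φ.app q).app A) ↔
      Function.Bijective ((φ.app q).app A) := fun q A =>
    ConcreteCategory.isIso_iff_bijective _
  have epi_iff : ∀ (q : ℕ) (A : C), Epi ((φ.app q).app A) ↔
      Function.Surjective ((φ.app q).app A) := fun q A =>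
    AddCommGrpCat.epi_iff_surjective _
  simp only [iso_iff, epi_iff]
  refine ⟨⟨fun h => ⟨fun M _ => h 0 M, fun q M _ => (h (q + 1) M).2⟩, fun h => ?_⟩,
    ⟨fun h => ⟨fun A => h 0 A, fun q A α' => ?_⟩, fun h => ?_⟩⟩
  · intro q
    induction q with
    | zero => exact zero_step φ hT0 hT'0 E hE h.1
    | succ q ih =>
      have hinj := inj_step φ q (hT q) ih
      exact fun A => ⟨hinj A, surj_step_E φ q E hE ih hinj (h.2 q) A⟩
  · obtain ⟨α, hα⟩ := (h (q + 1) A).2 α'
    obtain ⟨M, u, hu, huα⟩ := hT q A α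
    refine ⟨M, u, hu, ?_⟩
    rw [← hα, ← φ_nat φ (q + 1) u α, huα, map_zero]
  · intro q
    induction q with
    | zero => exact h.1
    | succ q ih =>
      exact fun A => ⟨inj_step φ q (hT q) ih A, surj_step_eff φ q (h.2 q) (fun A => (ih A).2) A⟩

end Groth.Agent.S8611
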