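import Groth.Statements.S8612
import Mathlib.Algebra.Homology.ShortComplex.Ab
import Mathlib.Algebra.Homology.ShortComplex.Exact
import Mathlib.Algebra.Category.Grp.Ulift
import Mathlib.Algebra.Category.Grp.FilteredColimits
import Mathlib.CategoryTheory.Limits.Preserves.Filtered
import Mathlib.CategoryTheory.Limits.ConcreteCategory.Basic

set_option autoImplicit false
universe w v u
open CategoryTheory CategoryTheory.Limits
open SGA4h

namespace Groth.Agent.S8612

section Colim

variable {J : Type v} [SmallCategory J] [IsFiltered J] (G : J ⥤ AddCommGrpCat.{w}) (c : Cocone G)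
  (hc : IsColimit c)

include hc in
lemma colim_rep (y : c.pt) : ∃ (j : J) (x : G.obj j), c.ι.app j x = y := by
  have hc' : IsColimit (AddCommGrpCat.uliftFunctor.{v, w}.mapCocone c) :=
    isColimitOfPreserves AddCommGrpCat.uliftFunctor.{v, w} hc
  have : PreservesFilteredColimitsOfSize.{v, v} (forget AddCommGrpCat.{max w v}) :=
    preservesFilteredColimitsOfSize_shrink.{v, w, v, w} _
  obtain ⟨j, x', hx'⟩ := Concrete.isColimit_exists_rep (G ⋙ AddCommGrpCat.uliftFunctor.{v, w}) hc'
    (ULift.up y)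
  refine ⟨j, x'.down, ?_⟩
  exact congrArg ULift.down hx'

include hc in
lemma colim_zero (j : J) (x : G.obj j) (hx : c.ι.app j x = 0) :
    ∃ (k : J) (f : j ⟶ k), G.map f x = 0 := by
  have hc' : IsColimit (AddCommGrpCat.uliftFunctor.{v, w}.mapCocone c) :=
    isColimitOfPreserves AddCommGrpCat.uliftFunctor.{v, w} hc
  have : PreservesFilteredColimitsOfSize.{v, v} (forget AddCommGrpCat.{max w v}) :=
    preservesFilteredColimitsOfSize_shrink.{v, w, v, w} _
  obtain ⟨k, f, g, hfg⟩ := Concrete.isColimit_exists_of_rep_eq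
    (G ⋙ AddCommGrpCat.uliftFunctor.{v, w}) hc' (i := j) (j := j) (ULift.up x) (ULift.up 0) (by
      show ULift.up (c.ι.app j x) = ULift.up (c.ι.app j 0)
      rw [hx, map_zero])
  refine ⟨k, f, ?_⟩
  have h2 : G.map f x = G.map g 0 := congrArg ULift.down hfg
  rw [h2, map_zero]

end Colim

variable {C : Type u} [Category.{v} C] [Abelian C]

lemma η_nat {F F' : C ⥤ AddCommGrpCat.{w}} (η : F ⟶ F') {X Y : C} (f : X ⟶ Y) (x : F.obj X) :
    η.app Y (F.map f x) = F'.map f (η.app X x) := by
  have := ConcreteCategory.congr_hom (η.naturality f) x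
  simpa using this

section NatColim

variable {F F' : C ⥤ AddCommGrpCat.{w}} [PreservesFilteredColimitsOfSize.{v, v} F]
  [PreservesFilteredColimitsOfSize.{v, v} F'] (η : F ⟶ F')
  {J : Type v} [SmallCategory J] [IsFiltered J] (K : J ⥤ C) (c : Cocone K) (hc : IsColimit c)

include hc in
lemma inj_colim (h : ∀ j, Function.Injective (η.app (K.obj j))) :
    Function.Injective (η.app c.pt) := by
  rw [injective_iff_map_eq_zero]
  intro x hx
  obtain ⟨j, xj, rfl⟩ := colim_rep (K ⋙ F) (F.mapCocone c) (isColimitOfPreserves F hc) x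
  have h1 : (F'.mapCocone c).ι.app j (η.app (K.obj j) xj) = 0 := by
    rw [← hx]
    exact (η_nat η (c.ι.app j) xj).symm
  obtain ⟨k, f, hk⟩ := colim_zero (K ⋙ F') (F'.mapCocone c) (isColimitOfPreserves F' hc) j _ h1
  have h2 : F.map (K.map f) xj = 0 := by
    apply h k
    rw [map_zero, η_nat η (K.map f) xj]
    exact hk
  have h3 : (F.mapCocone c).ι.app j xj = (F.mapCocone c).ι.app k (F.map (K.map f) xj) := by
    have := ConcreteCategory.congr_hom ((F.mapCocone c).w f) xj
    exact this.symm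
  rw [h3, h2, map_zero]

include hc in
lemma surj_colim (h : ∀ j, Function.Surjective (η.app (K.obj j))) :
    Function.Surjective (η.app c.pt) := by
  intro y
  obtain ⟨j, yj, rfl⟩ := colim_rep (K ⋙ F') (F'.mapCocone c) (isColimitOfPreserves F' hc) y
  obtain ⟨xj, rfl⟩ := h j yj
  exact ⟨F.map (c.ι.app j) xj, η_nat η (c.ι.app j) xj⟩

lemma inj_of_iso {A B : C} (e : A ≅ B) (h : Function.Injective (η.app A)) :
    Function.Injective (η.app B) := by
  intro x y hxy
  have hmap : ∀ z : F.obj B, F.map e.hom (F.map e.inv z) = z := fun z => by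
    rw [← ConcreteCategory.comp_apply, ← F.map_comp, e.inv_hom_id, F.map_id]
    rfl
  have hx := hmap x
  have hy := hmap y
  rw [← hx, ← hy]
  congr 1
  apply h
  rw [η_nat η e.inv x, η_nat η e.inv y, hxy]

lemma surj_of_iso {A B : C} (e : A ≅ B) (h : Function.Surjective (η.app A)) :
    Function.Surjective (η.app B) := by
  intro y
  obtain ⟨x, hx⟩ := h (F'.map e.inv y)
  refine ⟨F.map e.hom x, ?_⟩
  rw [η_nat η e.hom x, hx, ← ConcreteCategory.comp_apply, ← F'.map_comp, e.inv_hom_id, F'.map_id]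
  rfl

end NatColim

/-- the short exact sequence of a monomorphism -/
noncomputable abbrev sesOf {A M : C} (i : A ⟶ M) : ShortComplex C :=
  ShortComplex.mk i (cokernel.π i) (cokernel.condition i)

lemma sesOf_shortExact {A M : C} (i : A ⟶ M) [Mono i] : (sesOf i).ShortExact where
  exact := ShortComplex.exact_of_g_is_cokernel _ (cokernelIsCokernel i)
  mono_f := inferInstanceAs (Mono i)
  epi_g := inferInstanceAs (Epi (cokernel.π i))

section Elem

variable (T : DeltaF.CohDeltaFunctor C AddCommGrpCat.{w} ℕ) (S : ShortComplex C) (hS : S.ShortExact)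

include hS in
lemma ex2 (n : ℕ) (x : (T.F n).obj S.X₂) (hx : (T.F n).map S.g x = 0) :
    ∃ y : (T.F n).obj S.X₁, (T.F n).map S.f y = x :=
  (ShortComplex.ab_exact_iff _).1 (T.exact₂ S hS n) x hx

lemma ex3 (n : ℕ) (x : (T.F n).obj S.X₃) (hx : T.δ S hS n (n + 1) rfl x = 0) :
    ∃ y : (T.F n).obj S.X₂, (T.F n).map S.g y = x :=
  (ShortComplex.ab_exact_iff _).1 (T.exact₃ S hS n (n + 1) rfl) x hx

lemma ex1 (n : ℕ) (x : (T.F (n + 1)).obj S.X₁) (hx : (T.F (n + 1)).map S.f x = 0) :
    ∃ y : (T.F n).obj S.X₃, T.δ S hS n (n + 1) rfl y = x :=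
  (ShortComplex.ab_exact_iff _).1 (T.exact₁ S hS n (n + 1) rfl) x hx

lemma comp_δ_apply (n : ℕ) (y : (T.F n).obj S.X₂) :
    T.δ S hS n (n + 1) rfl ((T.F n).map S.g y) = 0 := by
  have := ConcreteCategory.congr_hom (T.comp_δ S hS n (n + 1) rfl) y
  simpa using this

lemma map_fg_apply (n : ℕ) (y : (T.F n).obj S.X₁) : (T.F n).map S.g ((T.F n).map S.f y) = 0 := by
  have := ConcreteCategory.congr_hom
    (((T.F n).map_comp S.f S.g).symm.trans (by rw [S.zero, Functor.map_zero])) y
  simpa using this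

end Elem

section Phi

variable {T T' : DeltaF.CohDeltaFunctor C AddCommGrpCat.{w} ℕ} (φ : T ⟶ T')

lemma φ_nat (n : ℕ) {X Y : C} (f : X ⟶ Y) (x : (T.F n).obj X) :
    (φ.app n).app Y ((T.F n).map f x) = (T'.F n).map f ((φ.app n).app X x) :=
  η_nat (φ.app n) f x

lemma φ_comm (S : ShortComplex C) (hS : S.ShortExact) (n : ℕ) (x : (T.F n).obj S.X₃) :
    (φ.app (n + 1)).app S.X₁ (T.δ S hS n (n + 1) rfl x) =
      T'.δ S hS n (n + 1) rfl ((φ.app n).app S.X₃ x) := by
  have := ConcreteCategory.congr_hom (φ.comm S hS n (n + 1) rfl) x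
  simpa using this

/-- injectivity step -/
lemma inj_core (q : ℕ) (hbij : ∀ A : C, Function.Bijective ((φ.app q).app A)) {A M : C}
    (u : A ⟶ M) [Mono u] (hM : Function.Injective ((φ.app (q + 1)).app M)) :
    Function.Injective ((φ.app (q + 1)).app A) := by
  rw [injective_iff_map_eq_zero]
  intro α hα
  have huα : (T.F (q + 1)).map u α = 0 := by
    apply hM
    rw [φ_nat φ (q + 1) u α, hα, map_zero, map_zero]
  have hS := sesOf_shortExact u
  obtain ⟨β, hβ⟩ := ex1 T (sesOf u) hS q α huα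
  have h1 : T'.δ (sesOf u) hS q (q + 1) rfl ((φ.app q).app (sesOf u).X₃ β) = 0 := by
    rw [← φ_comm φ (sesOf u) hS q β, hβ]
    exact hα
  obtain ⟨γ', hγ'⟩ := ex3 T' (sesOf u) hS q _ h1
  obtain ⟨γ, hγ⟩ := (hbij (sesOf u).X₂).2 γ'
  have h2 : β = (T.F q).map (sesOf u).g γ := by
    apply (hbij (sesOf u).X₃).1
    rw [φ_nat φ q (sesOf u).g γ, hγ, hγ']
  rw [← hβ, h2]
  exact comp_δ_apply T (sesOf u) hS q γ

/-- surjectivity step -/
lemma surj_core (q : ℕ) (hbij : ∀ A : C, Function.Bijective ((φ.app q).app A))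
    (hinj : ∀ A : C, Function.Injective ((φ.app (q + 1)).app A)) {A M : C}
    (i : A ⟶ M) [Mono i] (hM : Function.Surjective ((φ.app (q + 1)).app M)) :
    Function.Surjective ((φ.app (q + 1)).app A) := by
  intro α'
  have hS := sesOf_shortExact i
  obtain ⟨μ, hμ⟩ := hM ((T'.F (q + 1)).map i α')
  have h1 : (T.F (q + 1)).map (sesOf i).g μ = 0 := by
    apply hinj
    rw [φ_nat φ (q + 1) (sesOf i).g μ, map_zero, hμ]
    exact map_fg_apply T' (sesOf i) (q + 1) α'
  obtain ⟨α₁, hα₁⟩ := ex2 T (sesOf i) hS (q + 1) μ h1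
  have h2 : (T'.F (q + 1)).map (sesOf i).f (α' - (φ.app (q + 1)).app A α₁) = 0 := by
    rw [map_sub, ← φ_nat φ (q + 1) (sesOf i).f α₁, hα₁, hμ]
    exact sub_self _
  obtain ⟨β', hβ'⟩ := ex1 T' (sesOf i) hS q _ h2
  obtain ⟨β, hβ⟩ := (hbij (sesOf i).X₃).2 β'
  refine ⟨α₁ + T.δ (sesOf i) hS q (q + 1) rfl β, ?_⟩
  rw [map_add, φ_comm φ (sesOf i) hS q β, hβ, hβ']
  abel

/-- degree zero, injectivity -/
lemma zero_inj_core (hT0 : T.ZeroMono) {A M : C} (i : A ⟶ M) [Mono i]
    (hM : Function.Injective ((φ.app 0).app M)) : Function.Injective ((φ.app 0).app A) := by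
  have hS := sesOf_shortExact i
  have hm : Function.Injective ((T.F 0).map (sesOf i).f) :=
    (AddCommGrpCat.mono_iff_injective _).1 (hT0 _ hS)
  rw [injective_iff_map_eq_zero]
  intro x hx
  apply hm
  rw [map_zero]
  apply hM
  rw [φ_nat φ 0 (sesOf i).f x, hx, map_zero, map_zero]

/-- degree zero, surjectivity -/
lemma zero_surj_core (hT'0 : T'.ZeroMono) (hinj : ∀ A : C, Function.Injective ((φ.app 0).app A))
    {A M : C} (i : A ⟶ M) [Mono i] (hM : Function.Surjective ((φ.app 0).app M)) :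
    Function.Surjective ((φ.app 0).app A) := by
  intro y
  have hS := sesOf_shortExact i
  have hm' : Function.Injective ((T'.F 0).map (sesOf i).f) :=
    (AddCommGrpCat.mono_iff_injective _).1 (hT'0 _ hS)
  obtain ⟨m, hm⟩ := hM ((T'.F 0).map (sesOf i).f y)
  have h1 : (T.F 0).map (sesOf i).g m = 0 := by
    apply hinj
    rw [φ_nat φ 0 (sesOf i).g m, map_zero, hm]
    exact map_fg_apply T' (sesOf i) 0 y
  obtain ⟨x, hx⟩ := ex2 T (sesOf i) hS 0 m h1
  refine ⟨x, hm' ?_⟩
  rw [← φ_nat φ 0 (sesOf i).f x, hx, hm]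

end Phi


/-- Let C be an abelian category with filtered colimits, T and T' cohomological delta-functors on C in
degrees ≥ 0 with values in abelian groups, both left exact in degree 0 and commuting with filtered
colimits in every degree, and φ : T → T' a morphism of delta-functors. Let D and E be classes of
objects such that (a) every object of C is a filtered colimit of objects of D and (b) every object
of D admits a monomorphism into a member of E. Then φ^q(A) is bijective for all q and all A if and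
only if φ^q(M) is bijective for all q and all M in E. -/
theorem result {C : Type u} [Category.{v} C] [Abelian C]
    [HasFilteredColimitsOfSize.{v, v} C]
    (T T' : DeltaF.CohDeltaFunctor C AddCommGrpCat.{w} ℕ) (hT0 : T.ZeroMono) (hT'0 : T'.ZeroMono)
    [∀ n, PreservesFilteredColimitsOfSize.{v, v} (T.F n)] [∀ n, PreservesFilteredColimitsOfSize.{v, v} (T'.F n)]
    (φ : T ⟶ T') (D E : ObjectProperty C)
    (hD : ∀ A : C, ∃ (J : Type v) (_ : SmallCategory J) (_ : IsFiltered J) (K : J ⥤ C) (c : Cocone K)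
      (_ : IsColimit c), (∀ j, D (K.obj j)) ∧ Nonempty (c.pt ≅ A))
    (hE : ∀ A : C, D A → ∃ (M : C) (i : A ⟶ M), Mono i ∧ E M) :
    (∀ (q : ℕ) (A : C), IsIso ((φ.app q).app A)) ↔
      ∀ (q : ℕ) (M : C), E M → IsIso ((φ.app q).app M) := by
  have iso_iff : ∀ (q : ℕ) (A : C), IsIso ((φ.app q).app A) ↔
      Function.Bijective ((φ.app q).app A) := fun q A =>
    ConcreteCategory.isIso_iff_bijective _
  simp only [iso_iff]
  refine ⟨fun h q M _ => h q M, fun h => ?_⟩
  -- passage to filtered colimits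
  have inj_all : ∀ q : ℕ, (∀ A : C, D A → Function.Injective ((φ.app q).app A)) →
      ∀ A : C, Function.Injective ((φ.app q).app A) := by
    intro q hq A
    obtain ⟨J, _, _, K, c, hc, hK, ⟨e⟩⟩ := hD A
    exact inj_of_iso (φ.app q) e (inj_colim (φ.app q) K c hc (fun j => hq _ (hK j)))
  have surj_all : ∀ q : ℕ, (∀ A : C, D A → Function.Surjective ((φ.app q).app A)) →
      ∀ A : C, Function.Surjective ((φ.app q).app A) := by
    intro q hq A
    obtain ⟨J, _, _, K, c, hc, hK, ⟨e⟩⟩ := hD A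
    exact surj_of_iso (φ.app q) e (surj_colim (φ.app q) K c hc (fun j => hq _ (hK j)))
  intro q
  induction q with
  | zero =>
    have hinj : ∀ A : C, Function.Injective ((φ.app 0).app A) := inj_all 0 (fun A hA => by
      obtain ⟨M, i, hi, hM⟩ := hE A hA
      exact zero_inj_core φ hT0 i (h 0 M hM).1)
    have hsurj : ∀ A : C, Function.Surjective ((φ.app 0).app A) := surj_all 0 (fun A hA => by
      obtain ⟨M, i, hi, hM⟩ := hE A hA
      exact zero_surj_core φ hT'0 hinj i (h 0 M hM).2)
    exact fun A => ⟨hinj A, hsurj A⟩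
  | succ q ih =>
    have hinj : ∀ A : C, Function.Injective ((φ.app (q + 1)).app A) :=
      inj_all (q + 1) (fun A hA => by
        obtain ⟨M, i, hi, hM⟩ := hE A hA
        exact inj_core φ q ih i (h (q + 1) M hM).1)
    have hsurj : ∀ A : C, Function.Surjective ((φ.app (q + 1)).app A) :=
      surj_all (q + 1) (fun A hA => by
        obtain ⟨M, i, hi, hM⟩ := hE A hA
        exact surj_core φ q ih hinj i (h (q + 1) M hM).2)
    exact fun A => ⟨hinj A, hsurj A⟩

end Groth.Agent.S8612
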