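import Groth.Statements.S8625
import Mathlib.Tactic.Group

set_option autoImplicit false
universe u
open SGA4h

namespace Groth.Agent.S8625

/-- Let G be a group with an endomorphism F, and assume the Lang map g ↦ F(g)g⁻¹ is surjective (for
instance the geometric points of a connected algebraic group over F_q with its Frobenius, where the
surjectivity is the classical result of Lang; the other Lang map g ↦ g⁻¹F(g) is then surjective too,
by g ↦ g⁻¹). Let G^F be the subgroup of fixed points of F. (i) If F(g)g⁻¹ is fixed by F then so is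
g⁻¹F(g). (ii), (iii) There is a bijection of the set of conjugacy classes of G^F with itself
sending, for every g with F(g)g⁻¹ ∈ G^F, the class of F(g)g⁻¹ to the class of g⁻¹F(g) (in particular
the latter class depends only on the former). -/
theorem result {G : Type u} [Group G] (F : G →* G)
    (hL : Function.Surjective fun g : G => F g * g⁻¹) :
    (∀ g : G, F (F g * g⁻¹) = F g * g⁻¹ → F (g⁻¹ * F g) = g⁻¹ * F g) ∧
    ∃ φ : ConjClasses ↥(F.eqLocus (MonoidHom.id G)) → ConjClasses ↥(F.eqLocus (MonoidHom.id G)),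
      Function.Bijective φ ∧
      ∀ (g : G) (h : F (F g * g⁻¹) = F g * g⁻¹) (h' : F (g⁻¹ * F g) = g⁻¹ * F g),
        φ (ConjClasses.mk (⟨F g * g⁻¹, h⟩ : ↥(F.eqLocus (MonoidHom.id G)))) =
          ConjClasses.mk (⟨g⁻¹ * F g, h'⟩ : ↥(F.eqLocus (MonoidHom.id G))) := by
  classical
  have i1 : ∀ g : G, F (F g * g⁻¹) = F g * g⁻¹ → F (g⁻¹ * F g) = g⁻¹ * F g := by
    intro g h
    have h2 : F (F g) = F g * g⁻¹ * F g := by
      rw [map_mul, map_inv] at h
      calc F (F g) = (F (F g) * (F g)⁻¹) * F g := by group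
        _ = _ := by rw [h]
    rw [map_mul, map_inv, h2]; group
  have i1' : ∀ g : G, F (g⁻¹ * F g) = g⁻¹ * F g → F (F g * g⁻¹) = F g * g⁻¹ := by
    intro g h
    have h2 : F (F g) = F g * g⁻¹ * F g := by
      rw [map_mul, map_inv] at h
      calc F (F g) = F g * ((F g)⁻¹ * F (F g)) := by group
        _ = _ := by rw [h]; group
    rw [map_mul, map_inv, h2]; group
  have hL' : ∀ x : G, ∃ g : G, g⁻¹ * F g = x := by
    intro x
    obtain ⟨g, hg⟩ := hL x⁻¹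
    refine ⟨g⁻¹, ?_⟩
    simp only at hg
    rw [inv_inv, map_inv, ← inv_inj, mul_inv_rev, inv_inv, hg]
  refine ⟨i1, ?_⟩
  choose γ hγ using hL
  have hγ' : ∀ x, F (γ x) * (γ x)⁻¹ = x := hγ
  -- conjugacy in the fixed subgroup
  have conjH : ∀ x y : ↥(F.eqLocus (MonoidHom.id G)),
      IsConj x y ↔ ∃ c : G, F c = c ∧ c * (x : G) * c⁻¹ = (y : G) := by
    intro x y
    rw [isConj_iff]
    constructor
    · rintro ⟨c, hc⟩
      exact ⟨c.1, c.2, by simpa using congrArg Subtype.val hc⟩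
    · rintro ⟨c, hc, h⟩
      exact ⟨⟨c, hc⟩, Subtype.ext (by simpa using h)⟩
  have main : ∀ g g' : G, (∃ c, F c = c ∧ c * (F g * g⁻¹) * c⁻¹ = F g' * g'⁻¹) ↔
      (∃ v, F v = v ∧ v * (g⁻¹ * F g) * v⁻¹ = g'⁻¹ * F g') := by
    intro g g'
    constructor
    · rintro ⟨c, hc, h⟩
      have hFg' : F g' = c * (F g * g⁻¹) * c⁻¹ * g' := by rw [h]; group
      refine ⟨(g⁻¹ * c⁻¹ * g')⁻¹, ?_, ?_⟩
      · rw [map_inv, map_mul, map_mul, map_inv, map_inv, hc, hFg']; group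
      · rw [hFg']; group
    · rintro ⟨v, hv, h⟩
      have hFg' : F g' = g' * (v * (g⁻¹ * F g) * v⁻¹) := by rw [h]; group
      refine ⟨g' * v * g⁻¹, ?_, ?_⟩
      · rw [map_mul, map_mul, map_inv, hv, hFg']; group
      · rw [hFg']; group
  have hmem : ∀ a : ↥(F.eqLocus (MonoidHom.id G)),
      F (F (γ a) * (γ a)⁻¹) = F (γ a) * (γ a)⁻¹ := by
    intro a
    rw [hγ']
    exact a.2
  have key : ∀ (a b : ↥(F.eqLocus (MonoidHom.id G))) (g g' : G)
      (hg : F g * g⁻¹ = a) (hg' : F g' * g'⁻¹ = b)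
      (h1 : F (g⁻¹ * F g) = g⁻¹ * F g) (h2 : F (g'⁻¹ * F g') = g'⁻¹ * F g'),
      IsConj a b ↔ IsConj (⟨g⁻¹ * F g, h1⟩ : ↥(F.eqLocus (MonoidHom.id G)))
        ⟨g'⁻¹ * F g', h2⟩ := by
    intro a b g g' hg hg' h1 h2
    rw [conjH, conjH, ← hg, ← hg']
    exact main g g'
  let ψ : ↥(F.eqLocus (MonoidHom.id G)) → ConjClasses ↥(F.eqLocus (MonoidHom.id G)) :=
    fun a => ConjClasses.mk ⟨(γ a)⁻¹ * F (γ a), i1 _ (hmem a)⟩
  have hψ : ∀ a b : ↥(F.eqLocus (MonoidHom.id G)), IsConj a b → ψ a = ψ b := by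
    intro a b hab
    show ConjClasses.mk _ = ConjClasses.mk _
    rw [ConjClasses.mk_eq_mk_iff_isConj]
    exact (key a b (γ a) (γ b) (hγ' a) (hγ' b) _ _).mp hab
  let φ : ConjClasses ↥(F.eqLocus (MonoidHom.id G)) → ConjClasses ↥(F.eqLocus (MonoidHom.id G)) :=
    Quotient.lift ψ hψ
  have hφ : ∀ a, φ (ConjClasses.mk a) = ψ a := fun a => rfl
  refine ⟨φ, ⟨?_, ?_⟩, ?_⟩
  · intro x y
    obtain ⟨a, rfl⟩ := ConjClasses.mk_surjective x
    obtain ⟨b, rfl⟩ := ConjClasses.mk_surjective y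
    intro h
    rw [hφ, hφ] at h
    rw [ConjClasses.mk_eq_mk_iff_isConj] at h ⊢
    exact (key a b (γ a) (γ b) (hγ' a) (hγ' b) _ _).mpr h
  · intro y
    obtain ⟨b, rfl⟩ := ConjClasses.mk_surjective y
    obtain ⟨g, hg⟩ := hL' b
    have h' : F (g⁻¹ * F g) = g⁻¹ * F g := by rw [hg]; exact b.2
    have h := i1' g h'
    refine ⟨ConjClasses.mk ⟨F g * g⁻¹, h⟩, ?_⟩
    rw [hφ]
    show ConjClasses.mk _ = ConjClasses.mk _
    rw [ConjClasses.mk_eq_mk_iff_isConj]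
    have := (key ⟨F g * g⁻¹, h⟩ ⟨F g * g⁻¹, h⟩ (γ (F g * g⁻¹)) g (hγ' _) rfl
      (i1 _ (hmem ⟨F g * g⁻¹, h⟩)) h').mp (IsConj.refl _)
    have hb : b = ⟨g⁻¹ * F g, h'⟩ := Subtype.ext hg.symm
    rw [hb]
    exact this
  · intro g h h'
    rw [hφ]
    show ConjClasses.mk _ = ConjClasses.mk _
    rw [ConjClasses.mk_eq_mk_iff_isConj]
    exact (key ⟨F g * g⁻¹, h⟩ ⟨F g * g⁻¹, h⟩ (γ (F g * g⁻¹)) g (hγ' _) rfl
      (i1 _ (hmem ⟨F g * g⁻¹, h⟩)) h').mp (IsConj.refl _)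

end Groth.Agent.S8625
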