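import Groth.Statements.S8649
import Groth.Agent.Lib.Helper16.LambdaBasic
-- import your own Groth.Agent.* helpers here

set_option autoImplicit false
universe u
open Finset
open LambdaRing

open Finset Groth.Agent.Lib.Helper16.LambdaBasic

namespace Groth.Agent.S8649

/-- Let K be a pre-λ-ring (λ^0 = 1, λ^1 = id, λ^n(x + y) = Σ λ^p(x) λ^q(y)) in which λ^k(1) = 0 for all
k ≥ 2, so that λ_t(1) = 1 + t. Then the γ-operations, defined as the coefficients of λ_{t/(1−t)}(x)
(γ^0 = 1 and γ^n(x) = Σ_{j=1}^{n} C(n−1, j−1) λ^j(x) for n ≥ 1), satisfy γ^n(x) = λ^n(x + n − 1) for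
all x and n. (The published statement is for a λ-ring, where λ_t also respects products and
composition; its proof uses only additivity and λ_t(1) = 1 + t, which are the hypotheses taken
here.) -/
theorem result (K : Type u) [CommRing K] [LambdaRing.LambdaOps K]
    (h1 : ∀ k : ℕ, 2 ≤ k → LambdaRing.LambdaOps.lam k (1 : K) = 0) (n : ℕ) (x : K) :
    LambdaRing.gamma n x = LambdaRing.LambdaOps.lam n (x + (n : K) - 1) := by
  cases n with
  | zero => simp [LambdaRing.gamma, LambdaOps.lam_zero]
  | succ n =>
    have hx : x + ((n + 1 : ℕ) : K) - 1 = x + (n : K) := by push_cast; ring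
    rw [hx, lam_add_natCast h1 n (n + 1) x]
    simp only [LambdaRing.gamma, Nat.add_eq_zero_iff, one_ne_zero, and_false, if_false,
      Nat.add_sub_cancel]
    apply Finset.sum_congr rfl
    intro j hj
    rw [Finset.mem_range] at hj
    by_cases hj0 : j = 0
    · subst hj0
      simp [Nat.choose_eq_zero_of_lt]
    · rw [if_neg hj0, mul_comm]
      congr 2
      have : n + 1 - j = n - (j - 1) := by omega
      rw [this, Nat.choose_symm (by omega)]

end Groth.Agent.S8649
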