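import Groth.Statements.S8663
import Mathlib
import Groth.Prelude.Def_RegImm
import Groth.Prelude.Def_MoreMor
import Groth.Agent.Lib.Helper15.RelPC19
-- import your own Groth.Agent.* helpers here

set_option autoImplicit false
universe u
open CategoryTheory CategoryTheory.Limits AlgebraicGeometry
open Synt

namespace Groth.Agent.S8663

section H
namespace W1
open Groth.Agent.Lib.Helper15.RelPC9 Groth.Agent.Lib.Helper15.RelPC11
  Groth.Agent.Lib.Helper15.RelPC19

attribute [local instance] HasDerivedCategory.standard

theorem main {X Y : Scheme.{u}} (f : X ⟶ Y) (hf : ∀ x : X, Synt.IsKoszulAt f x) :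
    MoreMor.IsPerfectMor f := by
  choose U P i π hxU hlft hi hπ hcomp using hf
  rw [isPerfectMor_iff]
  refine IsZariskiLocalAtSource.of_iSup_eq_top (P := affineLocally @PerfH) U ?_ (fun x => ?_)
  · exact top_le_iff.1 (fun x _ => TopologicalSpace.Opens.mem_iSup.2 ⟨x, hxU x⟩)
  · rw [← isPerfectMor_iff, ← hcomp x]
    haveI := hπ x
    exact isPerfectMor_comp _ _ (isPerfectMor_of_koszulImmersion _ (hi x))
      (isPerfectMor_of_smooth (π x))

end W1
end H


/-- Let f : X ⟶ Y be a local complete intersection morphism in the factorisation sense (around each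
point of X, f is locally of finite type and factors as a Koszul-regular immersion followed by a
smooth morphism). Then f is a perfect morphism: for all affine opens U ⊆ f⁻¹(V), the ring map O_Y(V)
→ O_X(U) is pseudo-coherent and of finite tor-dimension. -/
theorem result {X Y : Scheme.{u}} (f : X ⟶ Y) (hf : ∀ x : X, Synt.IsKoszulAt f x) :
    MoreMor.IsPerfectMor f := by
  exact W1.main f hf

end Groth.Agent.S8663
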