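import Groth.Statements.S8674
import Groth.Agent.Lib.Helper17.SemiLocalTriv
import Groth.Agent.Lib.Helper28.AmpleFinite
import Groth.Agent.Lib.Helper28.SecExtend2
import Groth.Agent.Lib.Helper28.AmpleGG
import Groth.Prelude.Def_PicGrp
import Mathlib
set_option backward.isDefEq.respectTransparency.types false

set_option autoImplicit false
universe v u
open CategoryTheory CategoryTheory.Limits AlgebraicGeometry
attribute [local instance] HasDerivedCategory.standard
open KRR

namespace Groth.Agent.S8674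
open Groth.Agent.Lib.Helper28 Groth.Agent.Lib.Helper28.QCohLoc Groth.Agent.Lib.Helper28.GenLocus
open Groth.Agent.Lib.Helper28.TensorGen Groth.Agent.Lib.Helper28.InvTensor Groth.Agent.Lib.Helper28.AmpleUnit
open Groth.Agent.Lib.Helper17


/-- Let X be a Noetherian scheme with an ample invertible O_X-module L, E an invertible O_X-module and
x_1, …, x_k finitely many points of X. Then there is an integer n such that for every k ≥ 1 there is
a global section s : O_X ⟶ E ⊗ L^{⊗ kn} which is a basis of E ⊗ L^{⊗ kn} at every x_i (each x_i lies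
in the largest open over which s is an isomorphism). -/
theorem result (X : Scheme.{u}) [IsNoetherian X] (L : X.Modules) (hL : CohB1.IsAmple L)
    (E : X.Modules) (hE : PicF.IsInvertible E) (ι : Type) [Finite ι] (x : ι → ↥X) :
    ∃ n : ℕ, ∀ k : ℕ, 1 ≤ k → ∃ s : Coh.structureModule X ⟶ CohB1.tensorMod E (CohB1.tensorPow L (k * n)),
      ∀ i : ι, x i ∈ CohB1.genLocus (CohB1.tensorMod E (CohB1.tensorPow L (k * n))) s := by
  classical
  have hLi : PicF.IsInvertible L := hL.1
  haveI : CompactSpace X := hL.2.1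
  have hZ : (Set.range x).Finite := Set.finite_range x
  obtain ⟨n0, s0, hZ0, -, hA0⟩ := exists_affine_genLocus_of_finite hL (Set.range x) hZ ⊤ (fun _ _ => trivial)
  obtain ⟨U', e, hZU', -, he⟩ := SemiLocalTriv.exists_isGen_of_finite X E hE hA0 (Set.range x) hZ hZ0
  obtain ⟨a, s, hZs, hsU', -⟩ := exists_affine_genLocus_of_finite hL (Set.range x) hZ U' hZU'
  have hM : PicF.IsInvertible (CohB1.tensorPow L (a + 1)) := isInvertible_tensorPow hLi (a + 1)
  have hsU'' : CohB1.genLocus (CohB1.tensorPow L (a + 1)) s ≤ U' := hsU'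
  obtain ⟨k₀, hk₀⟩ := exists_extension_tmul hE hM s (res E hsU'' e)
  refine ⟨(a + 1) * (k₀ + 1), fun k hk => ?_⟩
  have hK : k₀ ≤ k * (k₀ + 1) := by nlinarith
  obtain ⟨T, hT⟩ := hk₀ (k * (k₀ + 1)) hK
  obtain ⟨ψ, -⟩ := exists_tensorPow_tensorPow_iso hLi (a + 1) (k * (k₀ + 1)) (k * ((a + 1) * (k₀ + 1))) (by ring)
  let Ψ : CohB1.tensorMod E (CohB1.tensorPow (CohB1.tensorPow L (a + 1)) (k * (k₀ + 1))) ≅
      CohB1.tensorMod E (CohB1.tensorPow L (k * ((a + 1) * (k₀ + 1)))) := PicGrp.tensorModIso (Iso.refl E) ψ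
  refine ⟨T ≫ Ψ.hom, fun i => ?_⟩
  rw [genLocus_comp_iso T Ψ]
  have hgen : IsGen (CohB1.tensorMod E (CohB1.tensorPow (CohB1.tensorPow L (a + 1)) (k * (k₀ + 1))))
      (CohB1.genLocus (CohB1.tensorPow L (a + 1)) s) (res _ le_top (secOf T)) := by
    rw [hT]
    exact isGen_tmulSec _ _ (he.res hsU'') (isGen_gpow (isGen_genLocus s) _)
  exact le_genLocus_of_isGen_res T _ hgen (hZs ⟨i, rfl⟩)

end Groth.Agent.S8674
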