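import Groth.Statements.S8678
import Groth.Agent.Lib.Helper20.LambdaRing
-- import your own Groth.Agent.* helpers here

set_option autoImplicit false
universe u
open Finset
open LambdaRing

namespace Groth.Agent.S8678

/-- As the identity it proves in the pre-λ-ring K(Y') of the exceptional divisor: let K be a pre-λ-ring
(λ^0 = 1, λ^1 = id, additive formula) with λ^k(1) = 0 for all k ≥ 2, let d ≥ 2, and let F, L, N' ∈ K
satisfy λ^j(L) = 0 for j ≥ 2 (L is the class of an invertible module), λ^i(N') = 0 for i ≥ d − 1 (N'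
is the class of a bundle of rank d − 2) and F + L = N' + 2 (for the blowing up of a regular
immersion of codimension d: on the exceptional divisor the pulled-back conormal class is F + L, and
N = N' + 2). Then 1 − L divides λ_{−1}(F) = Σ_{i<d} (−1)^i λ^i(F). (The published proof uses only
additivity of λ_t and λ_t(1) = 1 + t, the hypotheses taken here.) -/
theorem result (K : Type u) [CommRing K] [LambdaRing.LambdaOps K]
    (h1 : ∀ k : ℕ, 2 ≤ k → LambdaRing.LambdaOps.lam k (1 : K) = 0) (d : ℕ) (hd : 2 ≤ d) (F L N' : K)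
    (hL : ∀ j : ℕ, 2 ≤ j → LambdaRing.LambdaOps.lam j L = 0) (hN' : ∀ i : ℕ, d - 1 ≤ i → LambdaRing.LambdaOps.lam i N' = 0)
    (hrel : F + L = N' + 2) :
    (1 - L) ∣ ∑ i ∈ range d, (-1 : K) ^ i * LambdaRing.LambdaOps.lam i F := by
  open Groth.Agent.Lib.Helper20.LR PowerSeries in
  classical
  -- the series
  have hline : ∀ y : K, (∀ j : ℕ, 2 ≤ j → LambdaOps.lam j y = 0) →
      lamSeries y = 1 + PowerSeries.C y * PowerSeries.X := by
    intro y hy
    refine PowerSeries.ext fun n => ?_
    rw [coeff_lamSeries]
    rcases n with _ | _ | n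
    · simp [LambdaOps.lam_zero]
    · simp [LambdaOps.lam_one]
    · rw [hy (n + 2) (by omega)]
      simp [PowerSeries.coeff_one, PowerSeries.coeff_X]
  set f := lamSeries F with hf
  set g := lamSeries N' with hg
  have h2 : lamSeries (2 : K) = (1 + PowerSeries.X) ^ 2 := by
    have : (2 : K) = 1 + 1 := by norm_num
    rw [this, lamSeries_add, hline 1 h1, map_one, one_mul, sq]
  have hmain : f * (1 + PowerSeries.C L * PowerSeries.X) = g * (1 + PowerSeries.X) ^ 2 := by
    rw [hf, hg, ← hline L hL, ← lamSeries_add, hrel, lamSeries_add, h2]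
  -- the inverse of 1 + L X
  have hu : IsUnit (1 + PowerSeries.C L * PowerSeries.X : PowerSeries K) := by
    rw [PowerSeries.isUnit_iff_constantCoeff]
    simp
  obtain ⟨v, hv⟩ := hu.exists_right_inv
  let w : PowerSeries K := PowerSeries.X * g * (1 + PowerSeries.X) * v
  have hh : f - g * (1 + PowerSeries.X) = PowerSeries.C (1 - L) * w := by
    apply hu.mul_left_injective
    change (f - g * (1 + PowerSeries.X)) * (1 + PowerSeries.C L * PowerSeries.X) =
      PowerSeries.C (1 - L) * w * (1 + PowerSeries.C L * PowerSeries.X)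
    have hw : w * (1 + PowerSeries.C L * PowerSeries.X) =
        PowerSeries.X * g * (1 + PowerSeries.X) := by
      simp only [w]
      rw [mul_assoc, mul_comm v, hv, mul_one]
    rw [sub_mul, hmain, mul_assoc (PowerSeries.C (1 - L)), hw, map_sub, map_one]
    ring
  -- telescoping for g (1 + X)
  have htel : ∀ m : ℕ, ∑ i ∈ range (m + 1), (-1 : K) ^ i * PowerSeries.coeff i (g * (1 + PowerSeries.X)) =
      (-1) ^ m * PowerSeries.coeff m g := by
    intro m
    induction m with
    | zero => simp [mul_add]
    | succ m ih =>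
      rw [Finset.sum_range_succ, ih, mul_add, mul_one, map_add, PowerSeries.coeff_succ_mul_X]
      ring
  have hdm : ∃ m, d = m + 1 := ⟨d - 1, by omega⟩
  obtain ⟨m, rfl⟩ := hdm
  have hgm : PowerSeries.coeff m g = 0 := by
    rw [hg, coeff_lamSeries]
    exact hN' m (by omega)
  have hsum : ∑ i ∈ range (m + 1), (-1 : K) ^ i * LambdaOps.lam i F =
      (1 - L) * ∑ i ∈ range (m + 1), (-1 : K) ^ i * PowerSeries.coeff i w := by
    have e1 : ∀ i, LambdaOps.lam i F =
        (1 - L) * PowerSeries.coeff i w + PowerSeries.coeff i (g * (1 + PowerSeries.X)) := by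
      intro i
      have := congrArg (PowerSeries.coeff i) hh
      rw [map_sub, PowerSeries.coeff_C_mul, hf, coeff_lamSeries] at this
      rw [← this]; ring
    calc ∑ i ∈ range (m + 1), (-1 : K) ^ i * LambdaOps.lam i F
        = ∑ i ∈ range (m + 1), ((1 - L) * ((-1 : K) ^ i * PowerSeries.coeff i w) +
            (-1 : K) ^ i * PowerSeries.coeff i (g * (1 + PowerSeries.X))) := by
          apply Finset.sum_congr rfl
          intro i _
          rw [e1 i]; ring
      _ = _ := by
          rw [Finset.sum_add_distrib, htel m, hgm, mul_zero, add_zero, Finset.mul_sum]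
  rw [hsum]
  exact Dvd.intro _ rfl

end Groth.Agent.S8678
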