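import Groth.Statements.S8679
import Groth.Agent.S5974
import Groth.Agent.Lib.Helper29.H1Mono
import Groth.Agent.Lib.Helper5.KosH1C

set_option autoImplicit false
universe u
open CategoryTheory CategoryTheory.Limits AlgebraicGeometry
open RegImm

namespace Groth.Agent.S8679

open CategoryTheory CategoryTheory.Limits AlgebraicGeometry TopologicalSpace Opposite
open Groth.Agent.Lib.Helper29.H1Mono

theorem h1_of_koszul {Z X : Scheme.{u}} (i : Z ⟶ X) (h : RegImm.IsRegularImmersion .koszul i) :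
    RegImm.IsRegularImmersion .h1 i := by
  refine ⟨h.1, fun z => ?_⟩
  obtain ⟨U, hzU, hcl, rs, hrs, hker⟩ := h.2 z
  refine ⟨U, hzU, hcl, rs, ?_, hker⟩
  change CAlgX.IsH1Regular rs.get
  rw [Groth.Agent.Lib.Helper5.KosH1.isH1Regular_iff_isZero]
  exact hrs (-1) (by norm_num)


/-- Let i : Y ⟶ X and j : Z ⟶ Y be Koszul-regular closed immersions and let φ₁ : j^* N_{Y/X} ⟶ N_{Z/X},
φ₂ : N_{Z/X} ⟶ N_{Z/Y} be the canonical maps between conormal sheaves (pinned by their values on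
classes of local sections of the ideals). Then the composite is zero and 0 → j^* N_{Y/X} → N_{Z/X} →
N_{Z/Y} → 0 is short exact. (The published statement allows arbitrary immersions; this row takes
closed immersions.) -/
theorem result {X Y Z : Scheme.{u}}
    (i : Y ⟶ X) [IsClosedImmersion i] (j : Z ⟶ Y) [IsClosedImmersion j]
    (hi : RegImm.IsRegularImmersion .koszul i) (hj : RegImm.IsRegularImmersion .koszul j)
    (φ₁ : (Scheme.Modules.pullback j).obj (Omega.conormal i) ⟶ Omega.conormal (j ≫ i))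
    (hφ₁ : OmegaSh.IsConormalMap (j ≫ i) i (𝟙 X) j φ₁)
    (φ₂ : (Scheme.Modules.pullback (𝟙 Z)).obj (Omega.conormal (j ≫ i)) ⟶ Omega.conormal j)
    (hφ₂ : OmegaSh.IsConormalMap j (j ≫ i) i (𝟙 Z) φ₂) :
    ∃ w : φ₁ ≫ ((Scheme.Modules.pullbackId Z).inv.app (Omega.conormal (j ≫ i)) ≫ φ₂) = 0,
      (ShortComplex.mk φ₁ ((Scheme.Modules.pullbackId Z).inv.app (Omega.conormal (j ≫ i)) ≫ φ₂) w).ShortExact := by
  obtain ⟨hepi, him⟩ := Groth.Agent.S5974.result i j φ₁ hφ₁ φ₂ hφ₂
  set g₂ := (Scheme.Modules.pullbackId Z).inv.app (Omega.conormal (j ≫ i)) ≫ φ₂ with hg₂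
  have w : φ₁ ≫ g₂ = 0 := by
    have h1 : imageSubobject φ₁ ≤ kernelSubobject g₂ := le_of_eq him
    rw [← imageSubobject_arrow_comp φ₁, Category.assoc]
    have h2 : (imageSubobject φ₁).arrow = Subobject.ofLE _ _ h1 ≫ (kernelSubobject g₂).arrow :=
      (Subobject.ofLE_arrow h1).symm
    rw [h2, Category.assoc, kernelSubobject_arrow_comp, comp_zero, comp_zero]
  haveI : Mono φ₁ := mono_of_h1 j i (h1_of_koszul j hj) φ₁ hφ₁
  haveI : Epi g₂ := epi_comp _ _
  exact ⟨w, { exact := (ShortComplex.exact_iff_image_eq_kernel _).2 him }⟩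



end Groth.Agent.S8679
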