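import Groth.Statements.S8697
import Groth.Agent.Lib.Helper20.GammaKey
-- import your own Groth.Agent.* helpers here

set_option autoImplicit false
universe u v
open Finset
open LambdaRing

namespace Groth.Agent.S8697

/-- Let K be a binomial ring with its binomial λ-structure and B a λ-ring in the strict sense which is
an augmented K-λ-algebra with augmentation ε. Let x ∈ B satisfy ε(x) = 0 and γ^k(x) = 0 for every k
> n, and assume that γ^1(x), …, γ^n(x) are algebraically independent over K and generate B as a
K-algebra — so B is the K-λ-algebra generated by one element subject to the relations γ^k = 0 for k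
> n, a polynomial ring K[γ^1 x, …, γ^n x]. Then for every k, the k-th ideal Fil^k B of the
γ-filtration (generated by the products of γ^{i}(z), ε(z) = 0, of total weight ≥ k) is the ideal
generated by the monomials ∏_j (γ^j x)^{e_j} with Σ_j j·e_j ≥ k: the λ-ring filtration is the
filtration by the weight in the γ^j x. (With λ in place of γ — relations λ^k x = 0 for k > n and
weights in the λ^j x — the assertion fails already for n = 1, where γ^i(x) = x for all i ≥ 1 puts x
in every Fil^k while x is not in the ideal (x²); the form with γ stated here is the one the proof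
establishes.) The hypotheses hP and hQ, existence of the universal polynomials, are true statements
carried so that the identities of B can be used at every index. -/
theorem result
    (K : Type u) [CommRing K] [LambdaRing.LambdaOps K] [BinomialRing K] (hKb : LambdaRing.IsBinomial K)
    (hK : LambdaRing.IsSpecial K)
    (B : Type v) [CommRing B] [LambdaRing.LambdaOps B] [Algebra K B] (hB : LambdaRing.IsSpecial B)
    (hP : ∀ n : ℕ, ∃ P : MvPolynomial (Fin n ⊕ Fin n) ℤ, LambdaRing.IsMulPoly n P)
    (hQ : ∀ i j : ℕ, ∃ Q : MvPolynomial (Fin (i * j)) ℤ, LambdaRing.IsCompPoly i j Q)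
    (ε : B →ₐ[K] K) (hε : LambdaRing.IsAugLambdaAlg K B ε)
    (n : ℕ) (x : B) (hx : ε x = 0) (hγ : ∀ k : ℕ, n < k → LambdaRing.gamma k x = 0)
    (hind : AlgebraicIndependent K (fun j : Fin n => LambdaRing.gamma ((j : ℕ) + 1) x))
    (hgen : Algebra.adjoin K (Set.range fun j : Fin n => LambdaRing.gamma ((j : ℕ) + 1) x) = ⊤)
    (k : ℕ) :
    LambdaRing.gammaFil (ε : B →+* K) k =
      Ideal.span {m : B | ∃ e : Fin n → ℕ, k ≤ ∑ j : Fin n, ((j : ℕ) + 1) * e j ∧
        m = ∏ j : Fin n, LambdaRing.gamma ((j : ℕ) + 1) x ^ e j} := by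
  classical
  -- the weight filtration
  set W : ℕ → Ideal B := fun k => Ideal.span {m : B | ∃ e : Fin n → ℕ,
    k ≤ ∑ j : Fin n, ((j : ℕ) + 1) * e j ∧
      m = ∏ j : Fin n, LambdaRing.gamma ((j : ℕ) + 1) x ^ e j} with hW
  change LambdaRing.gammaFil (ε : B →+* K) k = W k
  have hW0 : W 0 = ⊤ := by
    rw [Ideal.eq_top_iff_one]
    apply Ideal.subset_span
    exact ⟨fun _ => 0, Nat.zero_le _, by simp⟩
  have hWanti : ∀ a b, a ≤ b → W b ≤ W a := by
    intro a b hab
    apply Ideal.span_mono
    rintro m ⟨e, he, rfl⟩
    exact ⟨e, le_trans hab he, rfl⟩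
  have hWmul : ∀ a b (u v : B), u ∈ W a → v ∈ W b → u * v ∈ W (a + b) := by
    intro a b u v hu hv
    have hle : W a * W b ≤ W (a + b) := by
      simp only [hW]
      rw [Ideal.span_mul_span']
      apply Ideal.span_le.mpr
      rintro _ ⟨m, ⟨e, he, rfl⟩, m', ⟨e', he', rfl⟩, rfl⟩
      apply Ideal.subset_span
      refine ⟨e + e', ?_, ?_⟩
      · simp only [Pi.add_apply, mul_add, Finset.sum_add_distrib]
        omega
      · simp only [Pi.add_apply, pow_add]
        rw [Finset.prod_mul_distrib]
    exact hle (Ideal.mul_mem_mul hu hv)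
  have hxW : ∀ j : ℕ, LambdaRing.gamma (j + 1) x ∈ W (j + 1) := by
    intro j
    by_cases hj : j < n
    · apply Ideal.subset_span
      refine ⟨Pi.single ⟨j, hj⟩ 1, ?_, ?_⟩
      · rw [Finset.sum_eq_single (⟨j, hj⟩ : Fin n)]
        · simp
        · intro b _ hb
          rw [Pi.single_eq_of_ne hb, mul_zero]
        · intro h
          exact absurd (Finset.mem_univ _) h
      · rw [Finset.prod_eq_single (⟨j, hj⟩ : Fin n)]
        · simp
        · intro b _ hb
          rw [Pi.single_eq_of_ne hb, pow_zero]
        · intro h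
          exact absurd (Finset.mem_univ _) h
    · rw [hγ (j + 1) (by omega)]
      exact Ideal.zero_mem _
  have hAdj : ∀ z : B, z ∈ Groth.Agent.Lib.Helper20.DL.Adj K (fun _ : Unit => x) := by
    intro z
    have hz : z ∈ Algebra.adjoin K
        (Set.range fun j : Fin n => LambdaRing.gamma ((j : ℕ) + 1) x) := by
      rw [hgen]
      trivial
    rw [Groth.Agent.Lib.Helper20.DL.Adj_eq_Adjγ]
    unfold Groth.Agent.Lib.Helper20.DL.Adjγ
    refine Algebra.adjoin_mono ?_ hz
    rintro _ ⟨j, rfl⟩
    exact ⟨((), (j : ℕ)), rfl⟩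
  apply le_antisymm
  · unfold LambdaRing.gammaFil
    rw [Ideal.span_le]
    rintro _ ⟨l, hl0, hlk, rfl⟩
    have hprod : ∀ l : List (ℕ × B), (∀ p ∈ l, ε p.2 = 0) →
        (l.map fun p => LambdaRing.gamma p.1 p.2).prod ∈ W (l.map Prod.fst).sum := by
      intro l
      induction l with
      | nil =>
        intro _
        simp only [List.map_nil, List.prod_nil, List.sum_nil]
        rw [hW0]
        trivial
      | cons p l ih =>
        intro h
        simp only [List.map_cons, List.prod_cons, List.sum_cons]
        apply hWmul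
        · exact Groth.Agent.Lib.Helper20.GK.key hKb hB hP hQ ε hε (fun _ : Unit => x)
            (fun _ => hx) W hW0 hWanti hWmul (fun _ j => hxW j) p.2 (hAdj _)
            (h p List.mem_cons_self) p.1
        · exact ih (fun q hq => h q (List.mem_cons_of_mem _ hq))
    exact hWanti _ _ hlk (hprod l hl0)
  · apply Ideal.span_le.mpr
    rintro _ ⟨e, he, rfl⟩
    have hmem : ∏ j : Fin n, LambdaRing.gamma ((j : ℕ) + 1) x ^ e j ∈
        LambdaRing.gammaFil (ε : B →+* K) (∑ j : Fin n, e j * ((j : ℕ) + 1)) := by
      apply Groth.Agent.Lib.Helper20.GD.fil_prod_mem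
      intro j _
      exact Groth.Agent.Lib.Helper20.GD.fil_pow_mem _
        (Groth.Agent.Lib.Helper20.GF.gamma_mem_gammaFil _ hx _) _
    refine Groth.Agent.Lib.Helper20.GF.gammaFil_anti _ ?_ hmem
    refine le_trans he (le_of_eq ?_)
    apply Finset.sum_congr rfl
    intro j _
    rw [mul_comm]

end Groth.Agent.S8697
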