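import Groth.Statements.S8698
import Groth.Agent.Lib.Helper20.GammaKey
-- import your own Groth.Agent.* helpers here

set_option autoImplicit false
universe u v w
open Finset
open LambdaRing

namespace Groth.Agent.S8698

/-- Let K be a binomial ring with its binomial λ-structure, A a λ-ring in the strict sense which is an
augmented K-λ-algebra with augmentation ε_A, and B a λ-ring in the strict sense which is at once an
augmented K-λ-algebra with augmentation ε_B and an A-algebra compatibly with the K-structures, the
structure map A → B commuting with the λ^n and ε_B restricting to ε_A on A. Let x ∈ B with ε_B(x) =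
0, and assume that the family (γ^{j+1} x)_{j ∈ ℕ} is algebraically independent over A and generates
B as an A-algebra: B is the free λ-ring A[X, γ^2 X, γ^3 X, …] on one generator over A, augmented by
X ↦ 0. Then for every k the k-th ideal Fil^k B of the γ-filtration of B is the ideal generated by
the products a · m where m = ∏_j (γ^{j+1} x)^{e_j} is a monomial of weight i = Σ_j (j+1) e_j and a
lies in (the image of) Fil^{k−i} A, with Fil^s A = A for s ≤ 0; that is, Fil^k B = Fil^k A +
Fil^{k−1} A·M_1 + ⋯ + Fil^0 A·M_k + (monomials of weight > k), M_i denoting the monomials of weight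
i. The hypotheses hP and hQ, existence of the universal polynomials, are true statements carried so
that the identities of A and B can be used at every index. -/
theorem result
    (K : Type u) [CommRing K] [LambdaRing.LambdaOps K] [BinomialRing K] (hKb : LambdaRing.IsBinomial K)
    (hK : LambdaRing.IsSpecial K)
    (A : Type v) [CommRing A] [LambdaRing.LambdaOps A] [Algebra K A] (hA : LambdaRing.IsSpecial A)
    (εA : A →ₐ[K] K) (hεA : LambdaRing.IsAugLambdaAlg K A εA)
    (B : Type w) [CommRing B] [LambdaRing.LambdaOps B] [Algebra K B] [Algebra A B] [IsScalarTower K A B]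
    (hB : LambdaRing.IsSpecial B) (hAB : LambdaRing.IsLambdaAlg A B)
    (εB : B →ₐ[K] K) (hεB : LambdaRing.IsAugLambdaAlg K B εB) (hεAB : ∀ a : A, εB (algebraMap A B a) = εA a)
    (hP : ∀ n : ℕ, ∃ P : MvPolynomial (Fin n ⊕ Fin n) ℤ, LambdaRing.IsMulPoly n P)
    (hQ : ∀ i j : ℕ, ∃ Q : MvPolynomial (Fin (i * j)) ℤ, LambdaRing.IsCompPoly i j Q)
    (x : B) (hx : εB x = 0)
    (hind : AlgebraicIndependent A (fun j : ℕ => LambdaRing.gamma (j + 1) x))
    (hgen : Algebra.adjoin A (Set.range fun j : ℕ => LambdaRing.gamma (j + 1) x) = ⊤)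
    (k : ℕ) :
    LambdaRing.gammaFil (εB : B →+* K) k =
      Ideal.span {b : B | ∃ (e : ℕ →₀ ℕ) (a : A),
        a ∈ LambdaRing.gammaFil (εA : A →+* K) (k - e.sum fun j n => (j + 1) * n) ∧
        b = algebraMap A B a * e.prod fun j n => LambdaRing.gamma (j + 1) x ^ n} := by
  classical
  set I : ℕ → Ideal B := fun k => Ideal.span {b : B | ∃ (e : ℕ →₀ ℕ) (a : A),
        a ∈ LambdaRing.gammaFil (εA : A →+* K) (k - e.sum fun j n => (j + 1) * n) ∧
        b = algebraMap A B a * e.prod fun j n => LambdaRing.gamma (j + 1) x ^ n} with hI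
  change LambdaRing.gammaFil (εB : B →+* K) k = I k
  have hwt_add : ∀ e e' : ℕ →₀ ℕ, ((e + e').sum fun j n => (j + 1) * n) =
      (e.sum fun j n => (j + 1) * n) + (e'.sum fun j n => (j + 1) * n) := by
    intro e e'
    apply Finsupp.sum_add_index'
    · intro j
      simp
    · intro j m n
      ring
  have hprod_add : ∀ e e' : ℕ →₀ ℕ,
      ((e + e').prod fun j n => LambdaRing.gamma (j + 1) x ^ n) =
        (e.prod fun j n => LambdaRing.gamma (j + 1) x ^ n) *
          (e'.prod fun j n => LambdaRing.gamma (j + 1) x ^ n) := by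
    intro e e'
    apply Finsupp.prod_add_index'
    · intro j
      simp
    · intro j m n
      rw [pow_add]
  have hI0 : I 0 = ⊤ := by
    rw [Ideal.eq_top_iff_one]
    apply Ideal.subset_span
    refine ⟨0, 1, ?_, ?_⟩
    · rw [Nat.zero_sub, Groth.Agent.Lib.Helper20.GF.gammaFil_zero]
      trivial
    · simp
  have hIanti : ∀ a b, a ≤ b → I b ≤ I a := by
    intro a b hab
    apply Ideal.span_mono
    rintro m ⟨e, c, hc, rfl⟩
    exact ⟨e, c, Groth.Agent.Lib.Helper20.GF.gammaFil_anti _ (Nat.sub_le_sub_right hab _) hc, rfl⟩
  have hImul : ∀ a b (u v : B), u ∈ I a → v ∈ I b → u * v ∈ I (a + b) := by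
    intro a b u v hu hv
    have hle : I a * I b ≤ I (a + b) := by
      simp only [hI]
      rw [Ideal.span_mul_span']
      apply Ideal.span_le.mpr
      rintro _ ⟨m, ⟨e, c, hc, rfl⟩, m', ⟨e', c', hc', rfl⟩, rfl⟩
      apply Ideal.subset_span
      refine ⟨e + e', c * c', ?_, ?_⟩
      · rw [hwt_add]
        exact Groth.Agent.Lib.Helper20.GF.gammaFil_anti _ (by omega)
          (Groth.Agent.Lib.Helper20.GF.gammaFil_mul _ hc hc')
      · rw [hprod_add, map_mul]
        ring
    exact hle (Ideal.mul_mem_mul hu hv)
  have hKey : ∀ z : B, εB z = 0 → ∀ i, LambdaRing.gamma i z ∈ I i := by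
    intro z hz i
    have hzmem : z ∈ Algebra.adjoin A (Set.range fun j : ℕ => LambdaRing.gamma (j + 1) x) := by
      rw [hgen]
      trivial
    rw [Algebra.adjoin_range_eq_range_aeval] at hzmem
    obtain ⟨F, hF'⟩ := hzmem
    have hF : MvPolynomial.aeval (fun j : ℕ => LambdaRing.gamma (j + 1) x) F = z := hF'
    let a' : (ℕ →₀ ℕ) → A := fun d => F.coeff d - algebraMap K A (εA (F.coeff d))
    have ha' : ∀ d, εA (a' d) = 0 := by
      intro d
      simp only [a']
      rw [map_sub, AlgHom.commutes]
      simp
    let y : Option F.support → B := fun s => match s with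
      | none => x
      | some d => algebraMap A B (a' d.1)
    have hy : ∀ s, εB (y s) = 0 := by
      rintro (_ | d)
      · exact hx
      · change εB (algebraMap A B (a' d.1)) = 0
        rw [hεAB, ha']
    have hyI : ∀ s j, LambdaRing.gamma (j + 1) (y s) ∈ I (j + 1) := by
      rintro (_ | d) j
      · change LambdaRing.gamma (j + 1) x ∈ I (j + 1)
        apply Ideal.subset_span
        refine ⟨Finsupp.single j 1, 1, ?_, ?_⟩
        · rw [Finsupp.sum_single_index (by simp), mul_one, Nat.sub_self,
            Groth.Agent.Lib.Helper20.GF.gammaFil_zero]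
          trivial
        · rw [Finsupp.prod_single_index (by simp), map_one, one_mul, pow_one]
      · change LambdaRing.gamma (j + 1) (algebraMap A B (a' d.1)) ∈ I (j + 1)
        rw [← Groth.Agent.Lib.Helper20.GK.map_gamma' (algebraMap A B) (fun n a => hAB n a)]
        apply Ideal.subset_span
        refine ⟨0, LambdaRing.gamma (j + 1) (a' d.1), ?_, ?_⟩
        · rw [Finsupp.sum_zero_index, Nat.sub_zero]
          exact Groth.Agent.Lib.Helper20.GF.gamma_mem_gammaFil _ (ha' d.1) _
        · rw [Finsupp.prod_zero_index, mul_one]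
    have hzAdj : z ∈ Groth.Agent.Lib.Helper20.DL.Adj K y := by
      have hz_eq : z = ∑ d ∈ F.support,
          MvPolynomial.aeval (fun j : ℕ => LambdaRing.gamma (j + 1) x)
            (MvPolynomial.monomial d (F.coeff d)) := by
        rw [← hF]
        conv_lhs => rw [F.as_sum, map_sum]
      rw [hz_eq]
      apply Subalgebra.sum_mem
      intro d hd
      rw [MvPolynomial.aeval_monomial]
      apply Subalgebra.mul_mem
      · have e1 : algebraMap A B (F.coeff d) =
            algebraMap K B (εA (F.coeff d)) + y (some ⟨d, hd⟩) := by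
          change _ = _ + algebraMap A B (a' d)
          simp only [a']
          rw [map_sub, ← IsScalarTower.algebraMap_apply K A B]
          ring
        rw [e1]
        exact Subalgebra.add_mem _ (Subalgebra.algebraMap_mem _ _)
          (Groth.Agent.Lib.Helper20.DL.gen_mem y (some ⟨d, hd⟩))
      · rw [Finsupp.prod]
        apply Subalgebra.prod_mem
        intro j _
        apply Subalgebra.pow_mem
        exact Groth.Agent.Lib.Helper20.DL.gamma_mem_Adj y hB hεB.isLambdaAlg hP hQ _
          (Groth.Agent.Lib.Helper20.DL.gen_mem y none) _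
    exact Groth.Agent.Lib.Helper20.GK.key hKb hB hP hQ εB hεB y hy I hI0 hIanti hImul hyI z
      hzAdj hz i
  -- the structure map respects the filtrations
  have hmap : ∀ (m : ℕ) (a : A), a ∈ LambdaRing.gammaFil (εA : A →+* K) m →
      algebraMap A B a ∈ LambdaRing.gammaFil (εB : B →+* K) m := by
    intro m
    have hle : LambdaRing.gammaFil (εA : A →+* K) m ≤
        Ideal.comap (algebraMap A B) (LambdaRing.gammaFil (εB : B →+* K) m) := by
      unfold LambdaRing.gammaFil
      rw [Ideal.span_le]
      rintro _ ⟨l, hl0, hlm, rfl⟩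
      rw [SetLike.mem_coe, Ideal.mem_comap]
      apply Ideal.subset_span
      refine ⟨l.map (fun p => (p.1, algebraMap A B p.2)), ?_, ?_, ?_⟩
      · intro p hp
        obtain ⟨q, hq, rfl⟩ := List.mem_map.mp hp
        change εB (algebraMap A B q.2) = 0
        rw [hεAB]
        exact hl0 q hq
      · rw [List.map_map]
        exact hlm
      · rw [map_list_prod, List.map_map, List.map_map]
        congr 1
        apply List.map_congr_left
        intro p _
        simp only [Function.comp_apply]
        rw [Groth.Agent.Lib.Helper20.GK.map_gamma' (algebraMap A B) (fun n a => hAB n a)]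
    exact fun a ha => hle ha
  apply le_antisymm
  · unfold LambdaRing.gammaFil
    rw [Ideal.span_le]
    rintro _ ⟨l, hl0, hlk, rfl⟩
    have hprod : ∀ l : List (ℕ × B), (∀ p ∈ l, εB p.2 = 0) →
        (l.map fun p => LambdaRing.gamma p.1 p.2).prod ∈ I (l.map Prod.fst).sum := by
      intro l
      induction l with
      | nil =>
        intro _
        simp only [List.map_nil, List.prod_nil, List.sum_nil]
        rw [hI0]
        trivial
      | cons p l ih =>
        intro h
        simp only [List.map_cons, List.prod_cons, List.sum_cons]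
        apply hImul
        · exact hKey p.2 (h p List.mem_cons_self) p.1
        · exact ih (fun q hq => h q (List.mem_cons_of_mem _ hq))
    exact hIanti _ _ hlk (hprod l hl0)
  · apply Ideal.span_le.mpr
    rintro _ ⟨e, a, ha, rfl⟩
    have h1 := hmap _ a ha
    have h2 : (e.prod fun j n => LambdaRing.gamma (j + 1) x ^ n) ∈
        LambdaRing.gammaFil (εB : B →+* K) (e.sum fun j n => (j + 1) * n) := by
      rw [Finsupp.prod, Finsupp.sum]
      have := Groth.Agent.Lib.Helper20.GD.fil_prod_mem (εB : B →+* K) e.support
        (fun j => LambdaRing.gamma (j + 1) x ^ e j) (fun j => e j * (j + 1)) (by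
          intro j _
          exact Groth.Agent.Lib.Helper20.GD.fil_pow_mem _
            (Groth.Agent.Lib.Helper20.GF.gamma_mem_gammaFil _ hx _) _)
      refine Groth.Agent.Lib.Helper20.GF.gammaFil_anti _ (le_of_eq ?_) this
      apply Finset.sum_congr rfl
      intro j _
      rw [mul_comm]
    exact Groth.Agent.Lib.Helper20.GF.gammaFil_anti _ (by omega)
      (Groth.Agent.Lib.Helper20.GF.gammaFil_mul _ h1 h2)

end Groth.Agent.S8698
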