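import Groth.Statements.S8699
import Groth.Agent.Lib.Helper20.SymSpecial
import Groth.Agent.S8684
import Groth.Agent.S8685
-- import your own Groth.Agent.* helpers here

set_option autoImplicit false
universe u
open LambdaRing

namespace Groth.Agent.S8699

open Groth.Agent.Lib.Helper20.Sym Groth.Agent.Lib.Helper20 in
lemma adamsOp_eq_self (K : Type u) [CommRing K] [LambdaRing.LambdaOps K] [BinomialRing K]
    (hKb : LambdaRing.IsBinomial K) (k : ℕ) (x : K) : adamsOp (k + 1) x = x := by
  classical
  -- (n+1) C(x, n+1) = C(x, n) (x - n)
  have hbin : ∀ n : ℕ, ((n + 1 : ℕ) : K) * Ring.choose x (n + 1) = Ring.choose x n * (x - n) := by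
    intro n
    have := Ring.choose_smul_choose x (Nat.le_succ n)
    rw [Nat.choose_succ_self_right, Nat.succ_sub (le_refl n), Nat.sub_self, Ring.choose_one_right,
      nsmul_eq_mul] at this
    exact this
  let D : PowerSeries K := PowerSeries.mk fun j => (-1) ^ j * x
  have hD : (1 + PowerSeries.X) * D = PowerSeries.C x := by
    refine PowerSeries.ext fun n => ?_
    rw [add_mul, one_mul, map_add]
    cases n with
    | zero =>
      simp [D]
    | succ n =>
      rw [PowerSeries.coeff_succ_X_mul, PowerSeries.coeff_mk, PowerSeries.coeff_mk,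
        PowerSeries.coeff_C, if_neg (Nat.succ_ne_zero n)]
      ring
  have hf : PowerSeries.derivative K (lamSeries x) * (1 + PowerSeries.X) =
      PowerSeries.C x * lamSeries x := by
    refine PowerSeries.ext fun n => ?_
    rw [mul_add, mul_one, map_add, PowerSeries.coeff_C_mul, LR.coeff_lamSeries]
    cases n with
    | zero =>
      rw [PowerSeries.coeff_derivative, LR.coeff_lamSeries, LambdaOps.lam_one,
        LambdaOps.lam_zero]
      simp
    | succ n =>
      rw [PowerSeries.coeff_succ_mul_X, PowerSeries.coeff_derivative, PowerSeries.coeff_derivative,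
        LR.coeff_lamSeries, LR.coeff_lamSeries, hKb, hKb]
      have := hbin (n + 1)
      push_cast at this ⊢
      linear_combination this
  have hu : IsUnit (1 + PowerSeries.X : PowerSeries K) := by
    rw [PowerSeries.isUnit_iff_constantCoeff]
    simp
  have hld : ld (lamSeries x) = D := by
    apply ld_eq_of_mul (LR.constantCoeff_lamSeries x)
    apply hu.mul_left_injective
    change PowerSeries.derivative K (lamSeries x) * (1 + PowerSeries.X) =
      lamSeries x * D * (1 + PowerSeries.X)
    rw [hf, mul_assoc, mul_comm D, hD, mul_comm]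
  rw [adamsOp_succ_eq_newt]
  unfold newt
  rw [hld, PowerSeries.coeff_mk, ← mul_assoc, ← mul_pow]
  simp

/-- A binomial ring K (no additive torsion and all binomial coefficients C(x, n) defined) with its
binomial λ-structure λ^n(x) = C(x, n), i.e. λ_t(x) = (1 + t)^x, is a λ-ring in the strict sense:
λ_t(1) = 1 + t, λ^n(xy) = P_n(λ^1 x, …; λ^1 y, …) and λ^j(λ^i x) = Q_{i,j}(λ^1 x, …) for the
universal polynomials. In particular the integers with λ^n(m) = C(m, n) form a λ-ring. -/
theorem result (K : Type u) [CommRing K] [LambdaRing.LambdaOps K] [BinomialRing K]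
    (hKb : LambdaRing.IsBinomial K) : LambdaRing.IsSpecial K := by
  classical
  apply Groth.Agent.Lib.Helper20.Sym.isSpecial_of_adams
  · intro n hn a ha
    haveI := BinomialRing.toIsAddTorsionFree (R := K)
    have h0 : n • a = n • (0 : K) := by rw [ha, smul_zero]
    exact nsmul_right_injective hn h0
  · exact Groth.Agent.S8684.result
  · exact Groth.Agent.S8685.result
  · intro k
    exact adamsOp_eq_self K hKb k 1
  · intro k x y
    rw [adamsOp_eq_self K hKb, adamsOp_eq_self K hKb, adamsOp_eq_self K hKb]
  · intro k k' x
    rw [adamsOp_eq_self K hKb, adamsOp_eq_self K hKb, adamsOp_eq_self K hKb]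

end Groth.Agent.S8699
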