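import Groth.Statements.S8702
import Groth.Agent.Lib.Helper20.LamODE
-- import your own Groth.Agent.* helpers here

set_option autoImplicit false
universe u
open LambdaRing

namespace Groth.Agent.S8702

lemma lambdaOps_ext {K : Type u} [CommRing K] (L L' : LambdaOps K)
    (h : ∀ n x, L.lam n x = L'.lam n x) : L = L' := by
  cases L; cases L'; congr; funext n x; exact h n x

/-- Let K be a commutative ring which is an algebra over the rationals, and let ψ^k : K → K, k ≥ 1, be
additive maps with ψ^1 the identity. Then there is one and only one pre-λ-structure on K whose Adams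
operations (defined through the logarithmic derivative of λ_t) are the ψ^k for every k ≥ 1, namely
λ_t(x) = exp(Σ_{k ≥ 1} (−1)^{k−1} ψ^k(x) t^k / k): in characteristic zero, pre-λ-structures and
families of additive operations ψ^k with ψ^1 = id determine each other. (The value of the family at
k = 0 is ignored.) -/
theorem result (K : Type u) [CommRing K] [Algebra ℚ K]
    (ψ : ℕ → K →+ K) (hψ : ψ 1 = AddMonoidHom.id K) :
    ∃! L : LambdaRing.LambdaOps K, ∀ k : ℕ, 1 ≤ k → ∀ x : K, @LambdaRing.adamsOp K _ L k x = ψ k x := by
  open Groth.Agent.Lib.Helper20.LR Groth.Agent.Lib.Helper20.ODE in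
  classical
  let D : K → PowerSeries K := fun x => PowerSeries.mk fun j => (-1) ^ j * ψ (j + 1) x
  have hDadd : ∀ x y, D (x + y) = D x + D y := by
    intro x y; ext j
    simp only [D, PowerSeries.coeff_mk, map_add, mul_add]
  let L : LambdaOps K :=
    { lam := fun n x => PowerSeries.coeff n (sol (D x))
      lam_zero := fun x => by
        rw [PowerSeries.coeff_zero_eq_constantCoeff_apply, constantCoeff_sol]
      lam_one := fun x => by
        have h := congrArg (PowerSeries.coeff 0) (derivative_sol (D x))
        rw [PowerSeries.coeff_derivative, PowerSeries.coeff_mul] at h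
        rw [Finset.Nat.antidiagonal_zero, Finset.sum_singleton] at h
        simp only [Nat.cast_zero, zero_add, mul_one] at h
        rw [h]
        change PowerSeries.coeff 0 (sol (D x)) * PowerSeries.coeff 0 (D x) = x
        rw [PowerSeries.coeff_zero_eq_constantCoeff_apply, constantCoeff_sol, one_mul]
        simp only [D, PowerSeries.coeff_mk, pow_zero, one_mul, zero_add, hψ, AddMonoidHom.id_apply]
      lam_add := fun k x y => by
        rw [hDadd, sol_add, PowerSeries.coeff_mul,
          Finset.Nat.sum_antidiagonal_eq_sum_range_succ_mk] }
  have hLser : ∀ x, @lamSeries K _ L x = sol (D x) := by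
    intro x; ext n
    rw [@coeff_lamSeries K _ L]
    rfl
  have hLD : ∀ x, @logDerivSeries K _ L x = D x := by
    intro x
    apply @logDerivSeries_eq_of_mul K _ L
    rw [hLser]; exact derivative_sol _
  refine ⟨L, ?_, ?_⟩
  · intro k hk x
    obtain ⟨k, rfl⟩ := Nat.exists_eq_succ_of_ne_zero (by omega : k ≠ 0)
    rw [@adamsOp_succ K _ L, hLD]
    simp only [D, PowerSeries.coeff_mk]
    rw [← mul_assoc, ← mul_pow]
    simp
  · intro L' hL'
    apply lambdaOps_ext
    intro n x
    have hD' : @logDerivSeries K _ L' x = D x := by
      ext k
      rw [@coeff_logDerivSeries K _ L', hL' (k + 1) (by omega)]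
      simp only [D, PowerSeries.coeff_mk]
    have h1 : @lamSeries K _ L' x = sol (D x) := by
      rw [@lamSeries_eq_sol K _ _ L', hD']
    have := congrArg (PowerSeries.coeff n) h1
    rw [@coeff_lamSeries K _ L'] at this
    exact this

end Groth.Agent.S8702
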