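import Groth.Statements.S8703
import Groth.Agent.Lib.Helper20.LamODE
-- import your own Groth.Agent.* helpers here

set_option autoImplicit false
universe u
open LambdaRing

namespace Groth.Agent.S8703

/-- The Adams operations commute with λ-homomorphisms, and conversely, if K and K' are pre-λ-rings which
are algebras over the rationals, a ring homomorphism f : K → K' commuting with the ψ^k for all k ≥ 1
is a λ-homomorphism (commutes with all λ^i), the λ^i being expressible through the ψ^k in
characteristic zero. -/
theorem result (K K' : Type u) [CommRing K] [CommRing K']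
    [LambdaRing.LambdaOps K] [LambdaRing.LambdaOps K'] [Algebra ℚ K] [Algebra ℚ K'] (f : K →+* K') :
    LambdaRing.IsLambdaHom f ↔
      ∀ k : ℕ, 1 ≤ k → ∀ x : K, f (LambdaRing.adamsOp k x) = LambdaRing.adamsOp k (f x) := by
  open Groth.Agent.Lib.Helper20.LR Groth.Agent.Lib.Helper20.ODE in
  constructor
  · intro hf k hk x
    obtain ⟨k, rfl⟩ := Nat.exists_eq_succ_of_ne_zero (by omega : k ≠ 0)
    have hD : PowerSeries.map f (logDerivSeries x) = logDerivSeries (f x) := by
      symm
      apply logDerivSeries_eq_of_mul
      rw [← map_lamSeries f hf, ← map_derivative, derivative_lamSeries, map_mul]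
    rw [adamsOp_succ, adamsOp_succ, ← hD, PowerSeries.coeff_map, map_mul, map_pow, map_neg,
      map_one]
  · intro h i x
    have hD : PowerSeries.map f (logDerivSeries x) = logDerivSeries (f x) := by
      ext k
      rw [PowerSeries.coeff_map, coeff_logDerivSeries, coeff_logDerivSeries, map_mul, map_pow,
        map_neg, map_one, h (k + 1) (by omega)]
    have key : PowerSeries.map f (lamSeries x) = lamSeries (f x) := by
      apply ode_unique (logDerivSeries (f x))
      · rw [← map_derivative, derivative_lamSeries, map_mul, hD]
      · exact derivative_lamSeries _
      · rw [constantCoeff_lamSeries, ← PowerSeries.coeff_zero_eq_constantCoeff_apply,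
          PowerSeries.coeff_map, PowerSeries.coeff_zero_eq_constantCoeff_apply,
          constantCoeff_lamSeries, map_one]
    have := congrArg (PowerSeries.coeff i) key
    rw [PowerSeries.coeff_map, coeff_lamSeries, coeff_lamSeries] at this
    exact this

end Groth.Agent.S8703
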