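import Groth.Statements.S8704
import Groth.Agent.Lib.Helper20.GammaFil
-- import your own Groth.Agent.* helpers here

set_option autoImplicit false
universe u v
open LambdaRing

namespace Groth.Agent.S8704

/-- Let K and A be λ-rings in the strict sense, A an augmented K-λ-algebra with augmentation ε : A → K,
and Fil^n A its γ-filtration, the ideal generated by the products γ^{i_1}(x_1) ⋯ γ^{i_k}(x_k) with
i_1 + ⋯ + i_k ≥ n and all ε(x_r) = 0. If a subset S generates A as an abelian group, then Fil^n A,
as a K-submodule of A, is generated over K by the products γ^{i_1}(s_1 − ε(s_1)) ⋯ γ^{i_k}(s_k −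
ε(s_k)) with s_r ∈ S and i_1 + ⋯ + i_k ≥ n. -/
theorem result
    (K : Type u) [CommRing K] [LambdaRing.LambdaOps K] (hK : LambdaRing.IsSpecial K)
    (A : Type v) [CommRing A] [LambdaRing.LambdaOps A] [Algebra K A] (hA : LambdaRing.IsSpecial A)
    (ε : A →ₐ[K] K) (hε : LambdaRing.IsAugLambdaAlg K A ε)
    (S : Set A) (hS : AddSubgroup.closure S = ⊤) (n : ℕ) :
    (LambdaRing.gammaFil (ε : A →+* K) n).restrictScalars K =
      Submodule.span K {y : A | ∃ l : List (ℕ × A), (∀ p ∈ l, p.2 ∈ S) ∧ n ≤ (l.map Prod.fst).sum ∧
        y = (l.map fun p => LambdaRing.gamma p.1 (p.2 - algebraMap K A (ε p.2))).prod} := by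
  open Groth.Agent.Lib.Helper20.GF Groth.Agent.Lib.Helper20.LR in
  classical
  let θ : A →+ A :=
    { toFun := fun x => x - algebraMap K A (ε x)
      map_zero' := by simp
      map_add' := fun x y => by simp only [map_add]; ring }
  have hθ : ∀ x, θ x = x - algebraMap K A (ε x) := fun x => rfl
  have hεθ : ∀ x, (ε : A →+* K) (θ x) = 0 := by
    intro x
    change ε (x - algebraMap K A (ε x)) = 0
    rw [map_sub, AlgHom.commutes]; simp
  let T : ℕ → Set A := fun n => {y : A | ∃ l : List (ℕ × A), (∀ p ∈ l, p.2 ∈ S) ∧
    n ≤ (l.map Prod.fst).sum ∧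
    y = (l.map fun p => gamma p.1 (p.2 - algebraMap K A (ε p.2))).prod}
  let M : ℕ → Submodule K A := fun n => Submodule.span K (T n)
  change (gammaFil (ε : A →+* K) n).restrictScalars K = M n
  have hT_mul : ∀ {a b : ℕ} {x y : A}, x ∈ T a → y ∈ T b → x * y ∈ T (a + b) := by
    rintro a b x y ⟨l, h1, h2, rfl⟩ ⟨l', h1', h2', rfl⟩
    refine ⟨l ++ l', ?_, ?_, ?_⟩
    · intro p hp
      rcases List.mem_append.mp hp with h | h
      · exact h1 p h
      · exact h1' p h
    · rw [List.map_append, List.sum_append]; omega
    · rw [List.map_append, List.prod_append]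
  have hM_mul : ∀ {a b : ℕ} {x y : A}, x ∈ M a → y ∈ M b → x * y ∈ M (a + b) := by
    intro a b x y hx hy
    have : M a * M b ≤ M (a + b) := by
      change Submodule.span K (T a) * Submodule.span K (T b) ≤ _
      rw [Submodule.span_mul_span]
      apply Submodule.span_mono
      rintro _ ⟨x, hx, y, hy, rfl⟩
      exact hT_mul hx hy
    exact this (Submodule.mul_mem_mul hx hy)
  have hM_anti : ∀ {a b : ℕ}, a ≤ b → M b ≤ M a := by
    intro a b hab
    apply Submodule.span_mono
    rintro y ⟨l, h1, h2, rfl⟩
    exact ⟨l, h1, hab.trans h2, rfl⟩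
  have hone : (1 : A) ∈ M 0 := by
    apply Submodule.subset_span
    exact ⟨[], by simp, by simp, by simp⟩
  have hθS : ∀ s ∈ S, ∀ i, gamma i (θ s) ∈ M i := by
    intro s hs i
    apply Submodule.subset_span
    refine ⟨[(i, s)], ?_, ?_, ?_⟩
    · intro p hp
      rw [List.mem_singleton] at hp
      rw [hp]; exact hs
    · simp
    · simp [hθ]
  -- the subgroup of elements all of whose γ^i lie in M i
  let Ip : AddSubgroup A :=
    { carrier := {x | ∀ i, gamma i x ∈ M i}
      zero_mem' := by
        intro i
        rcases Nat.eq_zero_or_pos i with h | h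
        · rw [h, gamma_zero_left]; exact hone
        · rw [gamma_zero_right h]; exact Submodule.zero_mem _
      add_mem' := by
        intro x y hx hy i
        rw [gamma_add]
        apply Submodule.sum_mem
        intro j hj
        have hj' : j ≤ i := by have := Finset.mem_range.mp hj; omega
        have := hM_mul (hx j) (hy (i - j))
        rwa [Nat.add_sub_cancel' hj'] at this
      neg_mem' := by
        intro x hx i
        induction i using Nat.strong_induction_on with
        | _ i ih =>
          rcases Nat.eq_zero_or_pos i with h | h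
          · rw [h, gamma_zero_left]; exact hone
          · rw [gamma_neg_rec x h]
            apply Submodule.neg_mem
            apply Submodule.sum_mem
            intro j hj
            have hj' : j < i := Finset.mem_range.mp hj
            have := hM_mul (hx (i - j)) (ih j hj')
            rwa [Nat.sub_add_cancel hj'.le] at this }
  have hall : ∀ x : A, θ x ∈ Ip := by
    intro x
    have hle : AddSubgroup.closure S ≤ Ip.comap θ := by
      rw [AddSubgroup.closure_le]
      intro s hs
      exact hθS s hs
    have : x ∈ AddSubgroup.closure S := by rw [hS]; trivial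
    exact hle this
  have hγ : ∀ x : A, (ε : A →+* K) x = 0 → ∀ i, gamma i x ∈ M i := by
    intro x hx i
    have h1 : θ x = x := by
      rw [hθ]
      have : ε x = 0 := hx
      rw [this, map_zero, sub_zero]
    have := hall x
    rw [h1] at this
    exact this i
  have hM0 : ∀ a : A, a ∈ M 0 := by
    intro a
    have h1 : a = gamma 1 (θ a) + (ε a) • (1 : A) := by
      rw [gamma_one_left, hθ, Algebra.smul_def, mul_one]; ring
    rw [h1]
    apply Submodule.add_mem
    · exact hM_anti (Nat.zero_le 1) (hall a 1)
    · exact Submodule.smul_mem _ _ hone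
  have hgen : ∀ l : List (ℕ × A), (∀ p ∈ l, (ε : A →+* K) p.2 = 0) →
      (l.map fun p => gamma p.1 p.2).prod ∈ M (l.map Prod.fst).sum := by
    intro l
    induction l with
    | nil => intro _; simpa using hone
    | cons p l ih =>
      intro h
      rw [List.map_cons, List.map_cons, List.prod_cons, List.sum_cons]
      apply hM_mul
      · exact hγ p.2 (h p (List.mem_cons_self)) p.1
      · exact ih (fun q hq => h q (List.mem_cons_of_mem _ hq))
  apply le_antisymm
  · intro y hy
    change y ∈ Ideal.span _ at hy
    induction hy using Submodule.span_induction with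
    | mem y hy =>
      obtain ⟨l, h1, h2, rfl⟩ := hy
      exact hM_anti h2 (hgen l h1)
    | zero => exact Submodule.zero_mem _
    | add x y _ _ hx hy => exact Submodule.add_mem _ hx hy
    | smul a x _ hx =>
      have := hM_mul (hM0 a) hx
      rwa [zero_add] at this
  · apply Submodule.span_le.mpr
    rintro y ⟨l, h1, h2, rfl⟩
    change _ ∈ gammaFil (ε : A →+* K) n
    apply Ideal.subset_span
    refine ⟨l.map fun p => (p.1, θ p.2), ?_, ?_, ?_⟩
    · intro p hp
      obtain ⟨q, _, rfl⟩ := List.mem_map.mp hp
      exact hεθ q.2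
    · rw [List.map_map]
      exact h2
    · rw [List.map_map]
      rfl

end Groth.Agent.S8704
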