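import Groth.Statements.S8710
import Groth.Agent.Lib.Helper21.TorLES
-- import your own Groth.Agent.* helpers here

set_option autoImplicit false
universe u
open CategoryTheory CategoryTheory.Limits
open SGA7

namespace Groth.Agent.S8710

set_option backward.isDefEq.respectTransparency false
set_option backward.defeqAttrib.useBackward true
open MonoidalCategory Groth.Agent.Lib.Helper21.TorLES Groth.Agent.Lib.Helper21.TorShift

section
variable {R : Type u} [CommRing R] {M₁ M₂ M₃ : ModuleCat.{u} R} (f : M₁ ⟶ M₂) (g : M₂ ⟶ M₃)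
  (w : f ≫ g = 0) (hS : (ShortComplex.mk f g w).ShortExact) (N : ModuleCat.{u} R)

include hS in
lemma isZero_tor_left (n : ℕ) (h3 : IsZero (((Tor (ModuleCat.{u} R) (n + 1)).obj M₃).obj N))
    (h2 : IsZero (((Tor (ModuleCat.{u} R) n).obj M₂).obj N)) :
    IsZero (((Tor (ModuleCat.{u} R) n).obj M₁).obj N) := by
  let P := ProjectiveResolution.of N
  have e := fun (M : ModuleCat.{u} R) (k : ℕ) =>
    P.isoLeftDerivedObj ((tensoringLeft (ModuleCat.{u} R)).obj M) k
  refine IsZero.of_iso ?_ (e M₁ n)
  have hSS := sc_shortExact _ _ (map_comp_zero f g w) P (fun Q _ => shortExact_app f g w hS Q)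
  exact (hSS.homology_exact₁ (n + 1) n (by simp)).isZero_of_both_isZero
    (IsZero.of_iso h3 (e M₃ (n + 1)).symm) (IsZero.of_iso h2 (e M₂ n).symm)

lemma isZero_tor_succ_of_flat_left (M : ModuleCat.{u} R) [Module.Flat R M] (n : ℕ) :
    IsZero (((Tor (ModuleCat.{u} R) (n + 1)).obj M).obj N) := by
  let P := ProjectiveResolution.of N
  exact IsZero.of_iso (isZero_H_succ_of_flat M P n)
    (P.isoLeftDerivedObj ((tensoringLeft (ModuleCat.{u} R)).obj M) (n + 1))

end


/-- Let f : B' → B be a surjective map of R-algebras with B' flat over R, g : C → B a map of R-algebras,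
P = B' ×_B C their fibre product (the equalizer of f ∘ pr₁ and g ∘ pr₂ in B' × C), S an R-algebra
and n a natural number. If Tor_i^R(C, S) = 0 for 0 < i < n and Tor_i^R(B, S) = 0 for 0 < i ≤ n, then
Tor_i^R(P, S) = 0 for 0 < i < n. Here Tor_i^R(M, S) is the i-th left derived functor of M ⊗_R − on
R-modules, evaluated at S. (The published statement asks the vanishing for B only in degrees 0 < i <
n; the published proof and the corollary following it use it in degrees 0 < i ≤ n, which this row
assumes.) -/
theorem result (R B' B C S : Type u) [CommRing R] [CommRing B'] [CommRing B]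
    [CommRing C] [CommRing S] [Algebra R B'] [Algebra R B] [Algebra R C] [Algebra R S]
    (f : B' →ₐ[R] B) (hf : Function.Surjective f) (g : C →ₐ[R] B) [Module.Flat R B'] (n : ℕ)
    (hC : ∀ i : ℕ, 0 < i → i < n →
      IsZero (((Tor (ModuleCat.{u} R) i).obj (ModuleCat.of R C)).obj (ModuleCat.of R S)))
    (hB : ∀ i : ℕ, 0 < i → i ≤ n →
      IsZero (((Tor (ModuleCat.{u} R) i).obj (ModuleCat.of R B)).obj (ModuleCat.of R S))) :
    letI P := AlgHom.equalizer (f.comp (AlgHom.fst R B' C)) (g.comp (AlgHom.snd R B' C))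
    ∀ i : ℕ, 0 < i → i < n →
      IsZero (((Tor (ModuleCat.{u} R) i).obj (ModuleCat.of R ↥P)).obj (ModuleCat.of R S)) := by
  intro i hi1 hi2
  let P := AlgHom.equalizer (f.comp (AlgHom.fst R B' C)) (g.comp (AlgHom.snd R B' C))
  -- Tor of the product
  have hprod : IsZero (((Tor (ModuleCat.{u} R) i).obj (ModuleCat.of R (B' × C))).obj
      (ModuleCat.of R S)) := by
    let a : ModuleCat.of R B' ⟶ ModuleCat.of R (B' × C) := ModuleCat.ofHom (LinearMap.inl R B' C)
    let b : ModuleCat.of R (B' × C) ⟶ ModuleCat.of R C := ModuleCat.ofHom (LinearMap.snd R B' C)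
    have w : a ≫ b = 0 := by
      ext x
      rfl
    have hS : (ShortComplex.mk a b w).ShortExact := by
      have : Mono (ShortComplex.mk a b w).f :=
        (ModuleCat.mono_iff_injective _).mpr LinearMap.inl_injective
      have : Epi (ShortComplex.mk a b w).g :=
        (ModuleCat.epi_iff_surjective _).mpr LinearMap.snd_surjective
      refine ShortComplex.ShortExact.mk
        ((ShortComplex.ShortExact.moduleCat_exact_iff_function_exact _).mpr ?_)
      intro x
      constructor
      · intro hx
        refine ⟨x.1, ?_⟩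
        have hx' : x.2 = 0 := hx
        ext
        · rfl
        · exact hx'.symm
      · rintro ⟨y, rfl⟩
        rfl
    have h1 : IsZero (((Tor (ModuleCat.{u} R) i).obj (ModuleCat.of R B')).obj (ModuleCat.of R S)) := by
      obtain ⟨j, rfl⟩ : ∃ j, i = j + 1 := ⟨i - 1, by omega⟩
      exact isZero_tor_succ_of_flat_left (ModuleCat.of R S) (ModuleCat.of R B') j
    exact isZero_tor_mid a b w hS (ModuleCat.of R S) i h1 (hC i hi1 hi2)
  -- the fibre product sequence
  let a : ModuleCat.of R ↥P ⟶ ModuleCat.of R (B' × C) := ModuleCat.ofHom P.val.toLinearMap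
  let b : ModuleCat.of R (B' × C) ⟶ ModuleCat.of R B :=
    ModuleCat.ofHom (f.toLinearMap ∘ₗ LinearMap.fst R B' C - g.toLinearMap ∘ₗ LinearMap.snd R B' C)
  have w : a ≫ b = 0 := by
    ext x
    have hx : f x.1.1 = g x.1.2 := x.2
    change f x.1.1 - g x.1.2 = 0
    rw [hx, sub_self]
  have hS : (ShortComplex.mk a b w).ShortExact := by
    have : Mono (ShortComplex.mk a b w).f :=
      (ModuleCat.mono_iff_injective _).mpr Subtype.val_injective
    have : Epi (ShortComplex.mk a b w).g := by
      refine (ModuleCat.epi_iff_surjective _).mpr ?_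
      intro y
      obtain ⟨x, hx⟩ := hf y
      refine ⟨(x, 0), ?_⟩
      change f x - g 0 = y
      rw [map_zero, sub_zero, hx]
    refine ShortComplex.ShortExact.mk
      ((ShortComplex.ShortExact.moduleCat_exact_iff_function_exact _).mpr ?_)
    intro x
    constructor
    · intro hx
      have hx' : f x.1 - g x.2 = 0 := hx
      exact ⟨⟨x, sub_eq_zero.mp hx'⟩, rfl⟩
    · rintro ⟨y, rfl⟩
      have hy : f y.1.1 = g y.1.2 := y.2
      change f y.1.1 - g y.1.2 = 0
      rw [hy, sub_self]
  exact isZero_tor_left a b w hS (ModuleCat.of R S) i (hB (i + 1) (by omega) (by omega)) hprod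

end Groth.Agent.S8710
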