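import Groth.Statements.S8736
import Groth.Agent.Lib.helper10.HodgeSF

set_option autoImplicit false
open LefPen

namespace Groth.Agent.S8736

/-- For the generating series of a multidegree: let a_1, ..., a_d (d >= 1) be degrees, H_i and H = sum
h^{p,q} y^p z^q the series built from them as follows — H_i is determined by (1 - sum_{u, v >= 1, u
+ v <= a_i} C(a_i, u+v) y^u z^v) H_i = sum_{u, v >= 0, u + v + 1 <= a_i - 1} C(a_i - 1, u+v+1) y^u
z^v and H = sum over nonempty P ⊆ {1..d} of ((1+y)(1+z))^(|P|-1) prod_{i in P} H_i — let i₀ be an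
index with a_{i₀} = max_i a_i, and let 0 <= l < n be integers with l ≡ n mod 2. Then the Hodge level
of degree n is at most l, i.e. h^{p,q} = 0 for all p <= q with p + q = n and q - p > l, if and only
if 2 · sum_{i ≠ i₀} (a_i - 1) + (a_{i₀} - 2)(n - l) <= 2 (l + 1). -/
theorem result (d : ℕ) (hd : 1 ≤ d) (a : Fin d → ℕ) (ha : ∀ i, 1 ≤ a i)
    (i₀ : Fin d) (hi₀ : ∀ i, a i ≤ a i₀)
    (Hs : Fin d → MvPowerSeries (Fin 2) ℤ) (n l : ℕ) (hl : l < n) (hpar : l % 2 = n % 2) :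
    let y : MvPowerSeries (Fin 2) ℤ := MvPowerSeries.X 0
    let z : MvPowerSeries (Fin 2) ℤ := MvPowerSeries.X 1
    let Pser : ℕ → MvPowerSeries (Fin 2) ℤ := fun b => ∑ u ∈ Finset.range (b + 1), ∑ v ∈ Finset.range (b + 1),
      if 1 ≤ u ∧ 1 ≤ v ∧ u + v ≤ b then (b.choose (u + v) : MvPowerSeries (Fin 2) ℤ) * y ^ u * z ^ v else 0
    let Nser : ℕ → MvPowerSeries (Fin 2) ℤ := fun b => ∑ u ∈ Finset.range b, ∑ v ∈ Finset.range b,
      if u + v + 1 ≤ b - 1 then ((b - 1).choose (u + v + 1) : MvPowerSeries (Fin 2) ℤ) * y ^ u * z ^ v else 0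
    (∀ i, (1 - Pser (a i)) * Hs i = Nser (a i)) →
    let H : MvPowerSeries (Fin 2) ℤ := ∑ P ∈ (Finset.univ : Finset (Fin d)).powerset with P.Nonempty,
      ((1 + y) * (1 + z)) ^ (P.card - 1) * ∏ i ∈ P, Hs i
    (∀ p q : ℕ, p + q = n → p ≤ q → l < q - p →
        MvPowerSeries.coeff (Finsupp.single 0 p + Finsupp.single 1 q) H = 0) ↔
      2 * (∑ i ∈ Finset.univ.erase i₀, ((a i : ℤ) - 1)) + ((a i₀ : ℤ) - 2) * ((n : ℤ) - l) ≤ 2 * ((l : ℤ) + 1) := by
  intro y z Pser Nser hH H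
  have hHs : ∀ i, (1 - Groth.Agent.Lib.helper10.HodgeS.Pser (a i)) * Hs i =
      Groth.Agent.Lib.helper10.HodgeS.Nser (a i) := hH
  have hHdef : H = Groth.Agent.Lib.helper10.HodgeS.Hsum Hs := rfl
  rw [hHdef]
  have hsup : Finset.univ.sup a = a i₀ :=
    le_antisymm (Finset.sup_le fun i _ => hi₀ i) (Finset.le_sup (Finset.mem_univ i₀))
  obtain ⟨c', hc'⟩ : ∃ c', n = l + 2 * (c' + 1) := ⟨(n - l) / 2 - 1, by omega⟩
  -- the sum over the other indices
  have hsumZ : ((a i₀ : ℤ) - 1) + ∑ i ∈ Finset.univ.erase i₀, ((a i : ℤ) - 1) =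
      (∑ i, (a i : ℤ)) - d := by
    rw [Finset.add_sum_erase Finset.univ (fun i => (a i : ℤ) - 1) (Finset.mem_univ i₀),
      Finset.sum_sub_distrib, Finset.sum_const, Finset.card_univ, Fintype.card_fin, nsmul_eq_mul,
      mul_one]
  have hcast : ((∑ i, a i : ℕ) : ℤ) = ∑ i, (a i : ℤ) := by push_cast; rfl
  -- both sides are equivalent to `c' * A + Σ a ≤ n + d`
  have key : (2 * (∑ i ∈ Finset.univ.erase i₀, ((a i : ℤ) - 1)) + ((a i₀ : ℤ) - 2) * ((n : ℤ) - l)
      ≤ 2 * ((l : ℤ) + 1)) ↔ c' * a i₀ + ∑ i, a i ≤ n + d := by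
    have hn : (n : ℤ) = l + 2 * (c' + 1) := by exact_mod_cast hc'
    constructor
    · intro h
      have : ((c' : ℤ) * a i₀ + ∑ i, (a i : ℤ)) ≤ (n : ℤ) + d := by
        rw [hn] at h ⊢
        nlinarith [hsumZ]
      rw [← hcast] at this
      exact_mod_cast this
    · intro h
      have h' : ((c' : ℤ) * a i₀ + ∑ i, (a i : ℤ)) ≤ (n : ℤ) + d := by
        rw [← hcast]; exact_mod_cast h
      rw [hn] at h' ⊢
      nlinarith [hsumZ]
  rw [key]
  constructor
  · intro h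
    have h1 := h c' (n - c') (by omega) (by omega) (by omega)
    by_contra hcon
    have h2 := Groth.Agent.Lib.helper10.HodgeS.backward a Hs ha hHs c' (n - c') (by omega) (by
      rw [hsup]; omega)
    exact absurd h1 (ne_of_gt h2)
  · intro h p q hpq hle hlt
    by_contra hne
    have h1 := Groth.Agent.Lib.helper10.HodgeS.forward a Hs ha hHs p q hne
    rw [hsup] at h1
    have hp : p ≤ c' := by omega
    have h2 : p * a i₀ ≤ c' * a i₀ := Nat.mul_le_mul_right _ hp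
    omega

end Groth.Agent.S8736
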