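import Groth.Statements.S8741
import Groth.Agent.Lib.Helper14.AdeqPres

set_option autoImplicit false
universe u
open CategoryTheory Limits
open Adeq

namespace Groth.Agent.S8741

open Groth.Agent.Lib.Helper14.AdeqPres Groth.Agent.Lib.Helper14.AdeqGroth


/-- An adequate functor `F` on `A`-algebras admits a surjection `L → F` from a direct sum `L` of
linearly adequate functors: there are linearly adequate `L_i`, a coproduct cocone of the family
which is a colimit, and an epimorphism from its point onto `F`. -/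
theorem result (A : Type u) [CommRing A] (F : Adeq.MVF A) (hF : Adeq.adequate A F) :
    ∃ (ι : Type (u + 1)) (L : ι → Adeq.MVF A), (∀ i, Adeq.linAdequate A (L i)) ∧
      ∃ (c : Cofan L) (_ : IsColimit c) (π : c.pt ⟶ F), Epi π := by
  obtain ⟨M, N, α, ⟨e⟩⟩ := hF
  let K := kernel ((Adeq.underline A).map α)
  let ι : Type (u + 1) := Σ B : Adeq.Alg A, K.obj (Adeq.pt B)
  have H : ∀ i : ι, ∃ (P P' : ModuleCat.{u + 1} A) (φ₀ : P ⟶ P') (_ : Module.Finite A P)
      (_ : Module.Free A P) (_ : Module.Finite A P') (_ : Module.Free A P')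
      (π : kernel ((Adeq.underline A).map φ₀) ⟶ K)
      (w : (kernel ((Adeq.underline A).map φ₀)).obj (Adeq.pt i.1)), π.app (Adeq.pt i.1) w = i.2 :=
    fun i => exists_linAdequate_hit α i.1 i.2
  choose P P' φ₀ h1 h2 h3 h4 π w hw using H
  let L : ι → Adeq.MVF A := fun i => kernel ((Adeq.underline A).map (φ₀ i))
  refine ⟨ι, L, fun i => ⟨P i, P' i, φ₀ i, h1 i, h2 i, h3 i, h4 i, ⟨Iso.refl _⟩⟩, ?_⟩
  refine ⟨Cofan.mk (∐ L) (Sigma.ι L), coproductIsCoproduct L,
    Sigma.desc (fun i => π i ≫ e.inv), ?_⟩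
  apply PresheafOfModules.epi_of_surjective
  intro X ξ'
  let B : Adeq.Alg A := X.unop.unop
  let ξ : K.obj (Adeq.pt B) := e.hom.app (Adeq.pt B) ξ'
  let i : ι := ⟨B, ξ⟩
  refine ⟨(Sigma.ι L i).app (Adeq.pt B) (w i), ?_⟩
  have e1 : Sigma.ι L i ≫ Sigma.desc (fun i => π i ≫ e.inv) = π i ≫ e.inv := Sigma.ι_desc _ _
  have e2 := ConcreteCategory.congr_hom (congrArg (fun t => t.app (Adeq.pt B)) e1) (w i)
  simp only [PresheafOfModules.comp_app, ConcreteCategory.comp_apply] at e2
  refine e2.trans ?_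
  rw [hw i]
  have e3 : e.hom ≫ e.inv = 𝟙 F := e.hom_inv_id
  have e4 := ConcreteCategory.congr_hom (congrArg (fun t => t.app (Adeq.pt B)) e3) ξ'
  simp only [PresheafOfModules.comp_app, ConcreteCategory.comp_apply] at e4
  exact e4

end Groth.Agent.S8741
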