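import Groth.Statements.S8746
import Groth.Agent.Lib.Helper14.AdeqBC
import Mathlib.RingTheory.AdjoinRoot
import Mathlib.RingTheory.Flat.FaithfullyFlat.Algebra
import Mathlib.RingTheory.RingHom.FaithfullyFlat

set_option autoImplicit false
universe u
open CategoryTheory Limits
open Adeq

namespace Groth.Agent.S8746

open Polynomial TensorProduct Groth.Agent.Lib.Helper14.AdeqBC

section Aux

variable {B : Type u} [CommRing B] (b : B)

/-- the polynomial `X² + bX - 1` -/
noncomputable def pol : B[X] := X ^ 2 + (C b * X - 1)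

lemma pol_monic : (pol b).Monic := by
  unfold pol
  nontriviality B
  apply Polynomial.monic_X_pow_add
  refine lt_of_le_of_lt (Polynomial.degree_sub_le _ _) ?_
  rw [max_lt_iff]
  constructor
  · refine lt_of_le_of_lt (Polynomial.degree_C_mul_X_le b) ?_
    norm_num
  · rw [Polynomial.degree_one]
    norm_num

lemma root_mul : AdjoinRoot.root (pol b) * (AdjoinRoot.root (pol b) + AdjoinRoot.of (pol b) b) = 1 := by
  have h : AdjoinRoot.mk (pol b) (X ^ 2 + (C b * X - 1)) = 0 := AdjoinRoot.mk_self
  rw [map_add, map_sub, map_mul, map_pow, AdjoinRoot.mk_X, AdjoinRoot.mk_C, map_one] at h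
  linear_combination h

lemma pol_natDegree [Nontrivial B] : (pol b).natDegree = 2 := by
  unfold pol
  rw [Polynomial.natDegree_add_eq_left_of_degree_lt, Polynomial.natDegree_X_pow]
  rw [Polynomial.degree_X_pow]
  refine lt_of_le_of_lt (Polynomial.degree_sub_le _ _) ?_
  rw [max_lt_iff]
  constructor
  · refine lt_of_le_of_lt (Polynomial.degree_C_mul_X_le b) ?_
    norm_num
  · rw [Polynomial.degree_one]
    norm_num

lemma adjoin_nontrivial [Nontrivial B] : Nontrivial (AdjoinRoot (pol b)) := by
  refine ⟨⟨1, 0, fun h => ?_⟩⟩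
  have h1 : AdjoinRoot.mk (pol b) 1 = 0 := by rw [map_one]; exact h
  rw [AdjoinRoot.mk_eq_zero] at h1
  have h2 := (pol_monic b).eq_one_of_isUnit (isUnit_of_dvd_one h1)
  have h3 := pol_natDegree b
  rw [h2, Polynomial.natDegree_one] at h3
  exact absurd h3 (by norm_num)

instance : Module.Free B (AdjoinRoot (pol b)) :=
  Module.Free.of_basis (AdjoinRoot.powerBasis' (pol_monic b)).basis

end Aux

section Inj

open ChangeOfRings

variable {A : Type u} [CommRing A] {B B' : Adeq.Alg A} (f : B ⟶ B')

set_option backward.isDefEq.respectTransparency false in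
lemma mk_injective (hff : f.hom.toRingHom.FaithfullyFlat) (X : ModuleCat.{u + 1} B) (y : X)
    (h : ((1 : B') ⊗ₜ[B, f.hom.toRingHom] y) = 0) : y = 0 := by
  let _ := f.hom.toRingHom.toAlgebra
  have : Module.FaithfullyFlat B B' := hff
  apply Module.FaithfullyFlat.tensorProduct_mk_injective (A := B) (B := B') X
  rw [map_zero]
  exact h

lemma map_injective (G : Adeq.MVF A) (hff : f.hom.toRingHom.FaithfullyFlat) (hiso : IsIso (G.bc f))
    (y : G.obj (Adeq.pt B)) (hy : G.map (Adeq.ptHom f) y = 0) : y = 0 := by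
  apply mk_injective f hff
  have h2 : Function.Injective (G.bc f) := (ModuleCat.mono_iff_injective _).1 inferInstance
  apply h2
  refine Eq.trans ?_ (map_zero _).symm
  refine (bc_tmul f G 1 y).trans ?_
  rw [one_smul]
  exact hy

end Inj


/-- Let `F`, `G` be module-valued functors on `A`-algebras and `φ` a transformation of the underlying
set-valued functors which is additive and satisfies `φ(uξ) = uφ(ξ)` for units `u`. If `B' ⊗_B G(B) →
G(B')` is an isomorphism for every flat `B → B'`, then `φ` is `B`-linear for every `B`, i.e. a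
morphism of module-valued functors. -/
theorem result (A : Type u) [CommRing A] (F G : Adeq.MVF A)
    (φ : ∀ B : Adeq.Alg A, F.obj (Adeq.pt B) → G.obj (Adeq.pt B))
    (hnat : ∀ ⦃B B' : Adeq.Alg A⦄ (f : B ⟶ B') (x : F.obj (Adeq.pt B)),
      φ B' (F.map (Adeq.ptHom f) x) = G.map (Adeq.ptHom f) (φ B x))
    (hadd : ∀ (B : Adeq.Alg A) (x y : F.obj (Adeq.pt B)), φ B (x + y) = φ B x + φ B y)
    (hunit : ∀ (B : Adeq.Alg A) (v : (B : Type u)ˣ) (x : F.obj (Adeq.pt B)), φ B ((v : B) • x) = (v : B) • φ B x)
    (hG : ∀ ⦃B B' : Adeq.Alg A⦄ (f : B ⟶ B'), f.hom.toRingHom.Flat → IsIso (G.bc f))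
    (B : Adeq.Alg A) (b : B) (x : F.obj (Adeq.pt B)) : φ B (b • x) = b • φ B x := by
  by_cases hB : Subsingleton B
  · have h0 : ∀ y : G.obj (Adeq.pt B), y = 0 := fun y => by
      have h1 : (1 : B) = 0 := Subsingleton.elim _ _
      rw [← one_smul B y, h1, zero_smul]
    rw [h0 (φ B (b • x)), h0 (φ B x), smul_zero]
  · have hnt : Nontrivial B := not_subsingleton_iff_nontrivial.1 hB
    have hnt' := adjoin_nontrivial b
    let R' : Adeq.Alg A := Adeq.algOf A (AdjoinRoot (pol b))
    let f : B ⟶ R' := CommAlgCat.ofHom (IsScalarTower.toAlgHom A B (AdjoinRoot (pol b)))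
    have hf : f.hom.toRingHom = algebraMap B (AdjoinRoot (pol b)) := rfl
    have hflat : f.hom.toRingHom.Flat := by
      rw [hf, RingHom.flat_algebraMap_iff]
      infer_instance
    have hff : f.hom.toRingHom.FaithfullyFlat := by
      rw [hf, RingHom.faithfullyFlat_algebraMap_iff]
      infer_instance
    have hiso := hG f hflat
    have key : G.map (Adeq.ptHom f) (φ B (b • x) - b • φ B x) = 0 := by
      let t : AdjoinRoot (pol b) := AdjoinRoot.root (pol b)
      let b' : AdjoinRoot (pol b) := AdjoinRoot.of (pol b) b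
      have hb' : f.hom b = b' := rfl
      let u₁ : ((R' : Type u))ˣ := Units.mkOfMulEqOne (t + b') t (by rw [mul_comm]; exact root_mul b)
      let u₂ : ((R' : Type u))ˣ := Units.mkOfMulEqOne t (t + b') (root_mul b)
      have hu : b' = (u₁ : R') + ((-u₂ : ((R' : Type u))ˣ) : R') := by
        change b' = (t + b') + -t
        ring
      let x' : F.obj (Adeq.pt R') := F.map (Adeq.ptHom f) x
      have e1 : F.map (Adeq.ptHom f) (b • x) = b' • x' :=
        PresheafOfModules.map_smul F (Adeq.ptHom f) b x
      have e2 : G.map (Adeq.ptHom f) (b • φ B x) = b' • G.map (Adeq.ptHom f) (φ B x) :=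
        PresheafOfModules.map_smul G (Adeq.ptHom f) b (φ B x)
      have e3 : φ R' (b' • x') = b' • φ R' x' := by
        rw [hu, add_smul, hadd, hunit R' u₁ x', hunit R' (-u₂) x', add_smul]
      have key' : G.map (Adeq.ptHom f) (φ B (b • x)) = G.map (Adeq.ptHom f) (b • φ B x) := by
        refine (hnat f _).symm.trans ?_
        refine (congrArg (φ R') e1).trans ?_
        refine e3.trans ?_
        refine Eq.trans ?_ e2.symm
        exact congrArg (fun z : G.obj (Adeq.pt R') => b' • z) (hnat f x)
      rw [map_sub]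
      exact sub_eq_zero.2 key'
    have h4 := map_injective f G hff hiso _ key
    exact sub_eq_zero.1 h4

end Groth.Agent.S8746
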