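import Groth.Statements.S8747
import Groth.Agent.Lib.Helper14.AdeqSplit
import Groth.Agent.Lib.Helper14.AdeqSum

set_option autoImplicit false
universe u
open CategoryTheory Limits
open Adeq

namespace Groth.Agent.S8747

open Groth.Agent.Lib.Helper14.AdeqSplit Groth.Agent.Lib.Helper14.AdeqTan Groth.Agent.Lib.Helper14.AdeqKer
  Groth.Agent.Lib.Helper14.AdeqSum

lemma adequate_underline {A : Type u} [CommRing A] (M : ModuleCat.{u + 1} A) :
    Adeq.adequate A ((Adeq.underline A).obj M) := by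
  refine ⟨M, M, 0, ⟨?_⟩⟩
  have h : (Adeq.underline A).map (0 : M ⟶ M) = 0 := (Adeq.underline A).map_zero _ _
  exact (kernelZeroIsoSource (X := (Adeq.underline A).obj M) (Y := (Adeq.underline A).obj M)).symm ≪≫
    kernelIsoOfEq h.symm

lemma adequate_of_linAdequate {A : Type u} [CommRing A] {F : Adeq.MVF A} (h : Adeq.linAdequate A F) :
    Adeq.adequate A F := by
  obtain ⟨M, N, φ, _, _, _, _, i⟩ := h
  exact ⟨M, N, φ, i⟩

lemma adequate_biprod {A : Type u} [CommRing A] {F G : Adeq.MVF A} (hF : Adeq.adequate A F)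
    (hG : Adeq.adequate A G) : Adeq.adequate A (F ⊞ G) := by
  let D : ULift.{u + 1} WalkingPair → Adeq.MVF A := fun j => WalkingPair.casesOn j.down F G
  have hD : ∀ j, Adeq.adequate A (D j) := by
    rintro ⟨j⟩
    cases j
    · exact hF
    · exact hG
  have h := adequate_coproduct D hD
  let e1 : F ⊞ G ≅ F ⨿ G := biprod.isoCoprod F G
  let e2 : (∐ D) ≅ ∐ (fun j : WalkingPair => WalkingPair.casesOn j F G : WalkingPair → Adeq.MVF A) :=
    Sigma.whiskerEquiv (Equiv.ulift) (fun j => Iso.refl _)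
  exact (Adeq.adequate A).prop_of_iso (e2 ≪≫ e1.symm) h


/-- A short exact sequence `0 → underline(M) → G → L → 0` of module-valued functors on `A`-algebras with
`L` linearly adequate splits, and `G` is adequate. -/
theorem result (A : Type u) [CommRing A]
    (S : ShortComplex (Adeq.MVF A)) (hS : S.ShortExact) (M : ModuleCat.{u + 1} A)
    (e : S.X₁ ≅ (Adeq.underline A).obj M) (hL : Adeq.linAdequate A S.X₃) :
    Nonempty S.Splitting ∧ Adeq.adequate A S.X₂ := by
  obtain ⟨P, P', φ₀, hP1, hP2, hP1', hP2', ⟨iL⟩⟩ := hL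
  let b := (Module.Free.chooseBasis A P).reindex
    (Fintype.equivFin (Module.Free.ChooseBasisIndex A P))
  let b' := (Module.Free.chooseBasis A P').reindex
    (Fintype.equivFin (Module.Free.ChooseBasisIndex A P'))
  have t1 : Tan S.X₁ := Tan.of_iso e (tan_underline M)
  have t3 : Tan S.X₃ := Tan.of_iso iL (tan_kernel φ₀)
  have t2 : Tan S.X₂ := Tan.of_ext S hS t1 t3
  have hπ : ∀ R : Adeq.Alg A, Function.Surjective ((S.g ≫ iL.hom).app (Adeq.pt R)) := by
    intro R w
    obtain ⟨y, hy⟩ := g_surjective S hS R (iL.inv.app (Adeq.pt R) w)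
    refine ⟨y, ?_⟩
    rw [comp_app_apply, hy]
    exact (comp_app_apply iL.inv iL.hom R w).symm.trans (eq_app_apply iL.inv_hom_id R w)
  obtain ⟨s', hs'⟩ := exists_section b b' φ₀ S.X₂ t2 (S.g ≫ iL.hom) hπ
  have hs : (iL.hom ≫ s') ≫ S.g = 𝟙 S.X₃ := by
    rw [← cancel_mono iL.hom]
    simp only [Category.assoc, Category.id_comp]
    rw [hs', Category.comp_id]
  have hmono := hS.mono_f
  let spl : S.Splitting := ShortComplex.Splitting.ofExactOfSection S hS.exact (iL.hom ≫ s') hs hmono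
  refine ⟨⟨spl⟩, ?_⟩
  have h1 : Adeq.adequate A S.X₁ := (Adeq.adequate A).prop_of_iso e.symm (adequate_underline M)
  have h3 : Adeq.adequate A S.X₃ :=
    (Adeq.adequate A).prop_of_iso iL.symm ⟨P, P', φ₀, ⟨Iso.refl _⟩⟩
  exact (Adeq.adequate A).prop_of_iso spl.isoBinaryBiproduct.symm (adequate_biprod h1 h3)

end Groth.Agent.S8747
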