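import Groth.Statements.S8753
import Groth.Agent.Lib.Helper14.AdeqAdj

set_option autoImplicit false
universe u
open CategoryTheory Limits
open Adeq

namespace Groth.Agent.S8753




/-- The category of adequate functors on `A`-algebras has enough injectives. -/
theorem result (A : Type u) [CommRing A] : EnoughInjectives (Adeq.Adequate A) := by
  have h0 : (Adeq.adequate A).ι.IsLeftAdjoint := Groth.Agent.Lib.Helper14.AdeqAdj.isLeftAdjoint_ι
  have h1 : (Adeq.adequate A).ι.PreservesMonomorphisms :=
    (Adeq.adequate A).preservesMonomorphisms_ι_of_isNormalEpiCategory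
  have h2 : EnoughInjectives (Adeq.MVF A) := Groth.Agent.Lib.Helper14.AdeqGroth.enoughInjectives A
  exact EnoughInjectives.of_adjunction (Adjunction.ofIsLeftAdjoint (Adeq.adequate A).ι)

end Groth.Agent.S8753
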