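import Groth.Statements.S8757
import Groth.Agent.S8755
import Groth.Agent.Lib.Helper14.Adeq2Pull

set_option autoImplicit false
universe u
open CategoryTheory Limits AlgebraicGeometry
open Adeq

namespace Groth.Agent.S8757




/-- The pullback `f^* M` of an adequate `O`-module `M` on the big fppf site of `S` along a morphism of
schemes `f : T → S` is an adequate `O`-module on the big fppf site of `T`. -/
theorem result {S T : Scheme.{u}} (f : T ⟶ S) (M : BigSite.Mod Scheme.fppfPrecoverage S)
    (hM : Adeq.adequateMod Scheme.fppfPrecoverage S M) :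
    Adeq.adequateMod Scheme.fppfPrecoverage T ((BigSite.pullMod Scheme.fppfPrecoverage f).obj M) := by
  refine ⟨T.affineOpenCover.I₀, T.affineOpenCover.X, T.affineOpenCover.f, ?_, fun i => ?_⟩
  · exact Scheme.zariskiPrecoverage_le_fppfPrecoverage _ T.affineOpenCover.openCover.mem₀
  · exact (Adeq.adequate _).prop_of_iso
      (Groth.Agent.Lib.Helper14.Adeq2Pull.pullIso Scheme.fppfPrecoverage f (T.affineOpenCover.f i) M).symm
      (Groth.Agent.S8755.result S M hM _ (T.affineOpenCover.f i ≫ f))

end Groth.Agent.S8757
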