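import Groth.Statements.S8759
import Groth.Agent.Lib.Helper14.BigFppf5
import Groth.Agent.Lib.Helper14.CartanOne

set_option autoImplicit false
universe u
open CategoryTheory Limits AlgebraicGeometry
open Adeq

namespace Groth.Agent.S8759

open Groth.Agent.Lib.Helper14.BigFppf Groth.Agent.Lib.Helper6 in
/-- Čech acyclicity of an adequate module on the small model, for the families `CovA` -/
theorem cechAcyc {T S : Scheme.{u}} (f : T ⟶ S) (M : BigSite.Mod Scheme.fppfPrecoverage S)
    (hM : Adeq.adequateMod Scheme.fppfPrecoverage S M) :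
    CechFamCartan.CechAcyc (KB T) (CovA T)
      ((ΦB T).obj ((BigSite.pullBig Scheme.fppfPrecoverage f AddCommGrpCat.{u + 1}).obj
        ((BigSite.toAbMod Scheme.fppfPrecoverage S).obj M))) := by
  intro U₁ ι Y' h p
  obtain ⟨rfl, hU, hY, hfl, hfp, hs⟩ := h
  have hfun : Y' = fun _ => Y' PUnit.unit := funext (fun _ => rfl)
  have hs' : ∀ x : sch U₁, x ∈ Set.range (schMap (Y' PUnit.unit).hom) := fun x => by
    obtain ⟨i, hi⟩ := hs x
    exact hi
  have hex := cech_exactAt f M hM U₁ hU (Y' PUnit.unit) (hY PUnit.unit) (hfl PUnit.unit) hs' p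
  rw [hfun]
  exact (HomologicalComplex.exactAt_iff_isZero_homology _ _).1 hex


/-- For an adequate `O`-module `M` on the big fppf site of `S` and an affine scheme `U` over `S`,
`H^q(U, M) = 0` for all `q > 0`. -/
theorem result (S : Scheme.{u}) (M : BigSite.Mod Scheme.fppfPrecoverage S)
    (hM : Adeq.adequateMod Scheme.fppfPrecoverage S M) (U : Over S) [IsAffine U.left] (q : ℕ) (hq : 0 < q) :
    Subsingleton (BigSite.HU Scheme.fppfPrecoverage ((BigSite.toAbMod Scheme.fppfPrecoverage S).obj M) q U) := by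
  obtain ⟨n, rfl⟩ : ∃ n, q = n + 1 := ⟨q - 1, by omega⟩
  open Groth.Agent.Lib.Helper14.BigFppf in
  refine subsingleton_H_of_ext_zfree U.left _ (n + 1) (fun x => ?_)
  open Groth.Agent.Lib.Helper14.BigFppf in
  exact Groth.Agent.Lib.Helper14.CartanOne.cartan (KB U.left) (BA U.left) (CovA U.left)
    covA_h1 covA_h2 n _ (cechAcyc U.hom M hM) (TB U.left) (inferInstanceAs (IsAffine U.left)) x

end Groth.Agent.S8759
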