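import Groth.Statements.S8760
import Groth.Agent.Lib.Helper14.Adeq2Shfy

set_option autoImplicit false
universe u
open CategoryTheory Limits AlgebraicGeometry
open Adeq

namespace Groth.Agent.S8760




/-- Let `P` be a presheaf of `O`-modules on the big fppf site of `S`. If for every affine scheme `Spec
R` over `S` the module-valued functor `B ↦ P(Spec B)` on `R`-algebras is adequate, then the
sheafification of `P` is an adequate `O`-module. -/
theorem result (S : Scheme.{u})
    (P : PresheafOfModules.{u + 1} (BigSite.ORing Scheme.fppfPrecoverage S).obj)
    (h : ∀ (R : CommRingCat.{u}) (a : Spec R ⟶ S), Adeq.adequate R ((Adeq.toMVFPre Scheme.fppfPrecoverage a).obj P)) :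
    Adeq.adequateMod Scheme.fppfPrecoverage S
      ((PresheafOfModules.sheafification (𝟙 (BigSite.ORing Scheme.fppfPrecoverage S).obj)).obj P) := by
  have h1 : MorphismProperty.IsStableUnderBaseChange
      (Min.min (α := MorphismProperty Scheme.{u}) @Flat @LocallyOfFinitePresentation) :=
    MorphismProperty.IsStableUnderBaseChange.inf
  have h2 : MorphismProperty.RespectsLeft
      (Min.min (α := MorphismProperty Scheme.{u}) @Flat @LocallyOfFinitePresentation)
      @IsOpenImmersion :=
    ⟨fun i hi f hf => by
      have : IsOpenImmersion i := hi
      have : Flat f := hf.1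
      have : LocallyOfFinitePresentation f := hf.2
      exact ⟨inferInstance, inferInstance⟩⟩
  have h3 : MorphismProperty.IsMultiplicative
      (Min.min (α := MorphismProperty Scheme.{u}) @Flat @LocallyOfFinitePresentation) :=
    { id_mem := fun X => ⟨inferInstance, inferInstance⟩
      comp_mem := fun f g hf hg => by
        have : Flat f := hf.1
        have : LocallyOfFinitePresentation f := hf.2
        have : Flat g := hg.1
        have : LocallyOfFinitePresentation g := hg.2
        exact ⟨inferInstance, inferInstance⟩ }
  let η : P ⟶ ((PresheafOfModules.sheafification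
      (𝟙 (BigSite.ORing Scheme.fppfPrecoverage S).obj)).obj P).val :=
    (PresheafOfModules.sheafificationAdjunction
      (𝟙 (BigSite.ORing Scheme.fppfPrecoverage S).obj)).unit.app P
  have e : (PresheafOfModules.toPresheaf _).map η =
      CategoryTheory.toSheafify (QuotSh.J Scheme.fppfPrecoverage S) P.presheaf := rfl
  have hi : Presheaf.IsLocallyInjective (QuotSh.J Scheme.fppfPrecoverage S)
      ((PresheafOfModules.toPresheaf _).map η) := by
    rw [e]
    exact ((QuotSh.J Scheme.fppfPrecoverage S).W_toSheafify P.presheaf).isLocallyInjective
  have hs : Presheaf.IsLocallySurjective (QuotSh.J Scheme.fppfPrecoverage S)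
      ((PresheafOfModules.toPresheaf _).map η) := by
    rw [e]
    exact ((QuotSh.J Scheme.fppfPrecoverage S).W_toSheafify P.presheaf).isLocallySurjective
  refine Groth.Agent.Lib.Helper14.Adeq2Shfy.adequateMod_of_locallyBijective
    (Min.min (α := MorphismProperty Scheme.{u}) @Flat @LocallyOfFinitePresentation) ?_ ?_
    Scheme.fppfPrecoverage rfl P _ η h
  · intro X Y f hf
    have : Flat f := hf.1
    have : LocallyOfFinitePresentation f := hf.2
    exact f.isOpenMap
  · intro X Y f hf
    exact hf.1

end Groth.Agent.S8760
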