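import Groth.Statements.S8761
import Groth.Agent.S8755
import Groth.Agent.Lib.Helper14.Adeq2Exact
import Groth.Agent.Lib.Helper14.AdeqKer

set_option autoImplicit false
universe u
open CategoryTheory Limits AlgebraicGeometry
open Adeq

namespace Groth.Agent.S8761




/-- The kernel, in the category of all `O`-modules on the big fppf site of `S`, of a morphism between
adequate `O`-modules is adequate. -/
theorem result (S : Scheme.{u}) {M N : BigSite.Mod Scheme.fppfPrecoverage S} (φ : M ⟶ N)
    (hM : Adeq.adequateMod Scheme.fppfPrecoverage S M) (hN : Adeq.adequateMod Scheme.fppfPrecoverage S N) :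
    Adeq.adequateMod Scheme.fppfPrecoverage S (kernel φ) := by
  refine ⟨S.affineOpenCover.I₀, S.affineOpenCover.X, S.affineOpenCover.f, ?_, fun i => ?_⟩
  · exact Scheme.zariskiPrecoverage_le_fppfPrecoverage _ S.affineOpenCover.openCover.mem₀
  · have : PreservesFiniteLimits (Adeq.toMVF Scheme.fppfPrecoverage (S.affineOpenCover.f i)) :=
      Groth.Agent.Lib.Helper14.Adeq2Exact.preservesFiniteLimits _ _
    exact (Adeq.adequate _).prop_of_iso
      (PreservesKernel.iso (Adeq.toMVF Scheme.fppfPrecoverage (S.affineOpenCover.f i)) φ).symm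
      (Groth.Agent.Lib.Helper14.AdeqKer.adequate_kernel _
        (Groth.Agent.S8755.result S M hM _ _) (Groth.Agent.S8755.result S N hN _ _))

end Groth.Agent.S8761
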