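import Groth.Statements.S8762
import Groth.Agent.S8755
import Groth.Agent.S8760
import Groth.Agent.Lib.Helper14.Adeq2Exact
import Groth.Agent.Lib.Helper14.AdeqCoker

set_option autoImplicit false
universe u
open CategoryTheory Limits AlgebraicGeometry
open Adeq

namespace Groth.Agent.S8762




/-- The cokernel, in the category of all `O`-modules on the big fppf site of `S`, of a morphism between
adequate `O`-modules is adequate. -/
theorem result (S : Scheme.{u}) {M N : BigSite.Mod Scheme.fppfPrecoverage S} (φ : M ⟶ N)
    (hM : Adeq.adequateMod Scheme.fppfPrecoverage S M) (hN : Adeq.adequateMod Scheme.fppfPrecoverage S N) :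
    Adeq.adequateMod Scheme.fppfPrecoverage S (cokernel φ) := by
  obtain ⟨L, hL⟩ : ∃ L, L = PresheafOfModules.sheafification
    (𝟙 (BigSite.ORing Scheme.fppfPrecoverage S).obj) := ⟨_, rfl⟩
  let adj := PresheafOfModules.sheafificationAdjunction
    (𝟙 (BigSite.ORing Scheme.fppfPrecoverage S).obj)
  let Rr := SheafOfModules.forget (BigSite.ORing Scheme.fppfPrecoverage S) ⋙
    PresheafOfModules.restrictScalars (𝟙 (BigSite.ORing Scheme.fppfPrecoverage S).obj)
  have e1 : (PresheafOfModules.sheafification
      (𝟙 (BigSite.ORing Scheme.fppfPrecoverage S).obj)).obj (cokernel (Rr.map φ)) ≅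
      cokernel ((PresheafOfModules.sheafification
        (𝟙 (BigSite.ORing Scheme.fppfPrecoverage S).obj)).map (Rr.map φ)) :=
    PreservesCokernel.iso _ _
  have e2 : cokernel ((PresheafOfModules.sheafification
        (𝟙 (BigSite.ORing Scheme.fppfPrecoverage S).obj)).map (Rr.map φ)) ≅ cokernel φ :=
    cokernel.mapIso _ _ (asIso (adj.counit.app M)) (asIso (adj.counit.app N))
      (adj.counit.naturality φ)
  refine (Adeq.adequateMod Scheme.fppfPrecoverage S).prop_of_iso (e1 ≪≫ e2)
    (Groth.Agent.S8760.result S (cokernel (Rr.map φ)) (fun R a => ?_))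
  have : PreservesFiniteColimits (Adeq.toMVFPre Scheme.fppfPrecoverage a) :=
    Groth.Agent.Lib.Helper14.Adeq2Exact.preservesFiniteColimits_pre _ _
  exact (Adeq.adequate R).prop_of_iso
    (PreservesCokernel.iso (Adeq.toMVFPre Scheme.fppfPrecoverage a) (Rr.map φ)).symm
    (Groth.Agent.Lib.Helper14.AdeqCoker.adequate_cokernel _
      (Groth.Agent.S8755.result S M hM R a) (Groth.Agent.S8755.result S N hN R a))

end Groth.Agent.S8762
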