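import Groth.Statements.S8763
import Groth.Agent.S8755
import Groth.Agent.Lib.Helper14.Adeq2Ext

set_option autoImplicit false
universe u
open CategoryTheory Limits AlgebraicGeometry
open Adeq

namespace Groth.Agent.S8763




/-- If `0 → M₁ → M₂ → M₃ → 0` is a short exact sequence of `O`-modules on the big fppf site of `S` with
`M₁` and `M₃` adequate, then `M₂` is adequate. -/
theorem result (S : Scheme.{u}) (C : ShortComplex (BigSite.Mod Scheme.fppfPrecoverage S))
    (hC : C.ShortExact) (h₁ : Adeq.adequateMod Scheme.fppfPrecoverage S C.X₁) (h₃ : Adeq.adequateMod Scheme.fppfPrecoverage S C.X₃) :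
    Adeq.adequateMod Scheme.fppfPrecoverage S C.X₂ := by
  have i1 : MorphismProperty.IsStableUnderBaseChange
      (Min.min (α := MorphismProperty Scheme.{u}) @Flat @LocallyOfFinitePresentation) :=
    MorphismProperty.IsStableUnderBaseChange.inf
  have i2 : MorphismProperty.RespectsLeft
      (Min.min (α := MorphismProperty Scheme.{u}) @Flat @LocallyOfFinitePresentation)
      @IsOpenImmersion :=
    ⟨fun i hi f hf => by
      have : IsOpenImmersion i := hi
      have : Flat f := hf.1
      have : LocallyOfFinitePresentation f := hf.2
      exact ⟨inferInstance, inferInstance⟩⟩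
  have i3 : MorphismProperty.IsMultiplicative
      (Min.min (α := MorphismProperty Scheme.{u}) @Flat @LocallyOfFinitePresentation) :=
    { id_mem := fun X => ⟨inferInstance, inferInstance⟩
      comp_mem := fun f g hf hg => by
        have : Flat f := hf.1
        have : LocallyOfFinitePresentation f := hf.2
        have : Flat g := hg.1
        have : LocallyOfFinitePresentation g := hg.2
        exact ⟨inferInstance, inferInstance⟩ }
  refine ⟨S.affineOpenCover.I₀, S.affineOpenCover.X, S.affineOpenCover.f, ?_, fun i => ?_⟩
  · exact Scheme.zariskiPrecoverage_le_fppfPrecoverage _ S.affineOpenCover.openCover.mem₀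
  · refine Groth.Agent.Lib.Helper14.Adeq2Ext.adequate_mid
      (Min.min (α := MorphismProperty Scheme.{u}) @Flat @LocallyOfFinitePresentation) ?_ ?_
      Scheme.fppfPrecoverage rfl Scheme.zariskiPrecoverage_le_fppfPrecoverage C hC
      (fun R a => Groth.Agent.S8755.result S C.X₁ h₁ R a)
      (fun R a => Groth.Agent.S8755.result S C.X₃ h₃ R a) _ _
    · intro X Y f hf
      have : Flat f := hf.1
      have : LocallyOfFinitePresentation f := hf.2
      exact f.isOpenMap
    · intro X Y f hf
      exact hf.1

end Groth.Agent.S8763
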