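import Groth.Statements.S8764
import Groth.Agent.S8755
import Groth.Agent.S8760
import Groth.Agent.Lib.Helper14.Adeq2Exact
import Groth.Agent.Lib.Helper14.AdeqSum

set_option autoImplicit false
universe u
open CategoryTheory Limits AlgebraicGeometry
open Adeq

namespace Groth.Agent.S8764




/-- The category of adequate `O`-modules on the big fppf site of `S` has colimits and they agree with
colimits of `O`-modules: the colimit, in all `O`-modules, of a diagram of adequate modules is
adequate. -/
theorem result (S : Scheme.{u}) {J : Type (u + 1)} [SmallCategory J]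
    (D : J ⥤ BigSite.Mod Scheme.fppfPrecoverage S) (hD : ∀ j, Adeq.adequateMod Scheme.fppfPrecoverage S (D.obj j)) :
    Adeq.adequateMod Scheme.fppfPrecoverage S (colimit D) := by
  let adj := PresheafOfModules.sheafificationAdjunction
    (𝟙 (BigSite.ORing Scheme.fppfPrecoverage S).obj)
  let Rr := SheafOfModules.forget (BigSite.ORing Scheme.fppfPrecoverage S) ⋙
    PresheafOfModules.restrictScalars (𝟙 (BigSite.ORing Scheme.fppfPrecoverage S).obj)
  have e1 : (PresheafOfModules.sheafification
      (𝟙 (BigSite.ORing Scheme.fppfPrecoverage S).obj)).obj (colimit (D ⋙ Rr)) ≅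
      colimit ((D ⋙ Rr) ⋙ PresheafOfModules.sheafification
        (𝟙 (BigSite.ORing Scheme.fppfPrecoverage S).obj)) :=
    preservesColimitIso _ _
  have e2 : colimit ((D ⋙ Rr) ⋙ PresheafOfModules.sheafification
        (𝟙 (BigSite.ORing Scheme.fppfPrecoverage S).obj)) ≅ colimit D :=
    HasColimit.isoOfNatIso ((Functor.associator _ _ _) ≪≫
      Functor.isoWhiskerLeft D (asIso adj.counit) ≪≫ Functor.rightUnitor D)
  refine (Adeq.adequateMod Scheme.fppfPrecoverage S).prop_of_iso (e1 ≪≫ e2)
    (Groth.Agent.S8760.result S (colimit (D ⋙ Rr)) (fun R a => ?_))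
  have : PreservesColimitsOfShape J (Adeq.toMVFPre Scheme.fppfPrecoverage a) :=
    Groth.Agent.Lib.Helper14.Adeq2Exact.preservesColimitsOfShape_pre _ _ J
  exact (Adeq.adequate R).prop_of_iso
    (preservesColimitIso (Adeq.toMVFPre Scheme.fppfPrecoverage a) (D ⋙ Rr)).symm
    (Groth.Agent.Lib.Helper14.AdeqSum.adequate_colimit _
      (fun j => Groth.Agent.S8755.result S (D.obj j) (hD j) R a))

end Groth.Agent.S8764
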