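import Groth.Statements.S8765
import Groth.Agent.S8755
import Groth.Agent.Lib.Helper14.Adeq2Push2

set_option autoImplicit false
universe u
open CategoryTheory Limits AlgebraicGeometry
open Adeq

namespace Groth.Agent.S8765




/-- For a quasi-compact and quasi-separated morphism `f : T → S` and an adequate `O`-module `M` on the
big fppf site of `T`, the pushforward `f_* M` is an adequate `O`-module on the big fppf site of `S`. -/
theorem result {S T : Scheme.{u}} (f : T ⟶ S) [QuasiCompact f] [QuasiSeparated f]
    (M : BigSite.Mod Scheme.fppfPrecoverage T) (hM : Adeq.adequateMod Scheme.fppfPrecoverage T M) :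
    Adeq.adequateMod Scheme.fppfPrecoverage S ((BigSite.pushMod Scheme.fppfPrecoverage f).obj M) := by
  exact Groth.Agent.Lib.Helper14.Adeq2Push.adequateMod_pushMod f Scheme.fppfPrecoverage
    Scheme.zariskiPrecoverage_le_fppfPrecoverage M (fun A c => Groth.Agent.S8755.result T M hM A c)

end Groth.Agent.S8765
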