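import Groth.Statements.S8767
import Groth.Agent.S8755
import Groth.Agent.Lib.Helper14.Adeq2Par

set_option autoImplicit false
universe u
open CategoryTheory Limits AlgebraicGeometry
open Adeq

namespace Groth.Agent.S8767




/-- For an adequate `O`-module `M` on the big fppf site of `S` the following are equivalent: `M` is
parasitic; `M` is parasitic for the fppf topology; `M(U) = 0` for every open `U ⊂ S`; `M(U_i) = 0`
for the members of some affine open covering `S = ⋃ U_i`. (The published statement has a fifth
equivalent condition, the vanishing of the quasi-coherent module obtained by restriction to the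
small Zariski site; it is not included here.) -/
theorem result (S : Scheme.{u}) (M : BigSite.Mod Scheme.fppfPrecoverage S)
    (hM : Adeq.adequateMod Scheme.fppfPrecoverage S M) :
    List.TFAE [Adeq.parasitic Scheme.fppfPrecoverage S M, Adeq.parasiticFor Scheme.fppfPrecoverage S M,
      ∀ U : S.Opens, Subsingleton (BigSite.sectMod Scheme.fppfPrecoverage M ((BigSite.zarIncl S).obj U)),
      ∃ (ι : Type u) (U : ι → S.Opens), (∀ i, IsAffineOpen (U i)) ∧ (⨆ i, U i) = ⊤ ∧
        ∀ i, Subsingleton (BigSite.sectMod Scheme.fppfPrecoverage M ((BigSite.zarIncl S).obj (U i)))] := by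
  tfae_have 1 → 2 := by
    intro h1 P hP V g hg
    apply h1 (Over.mk g)
    have h := hP.2 hg
    exact h.1
  tfae_have 2 → 3 := by
    intro h2 U
    let X : Bool → Scheme.{u} := fun b => cond b (U : Scheme.{u}) S
    let f : ∀ b, X b ⟶ S := fun b => match b with
      | true => U.ι
      | false => 𝟙 S
    have hP : Presieve.ofArrows X f ∈ Scheme.fppfPrecoverage.coverings S := by
      refine (Scheme.ofArrows_mem_precoverage_iff _).2 ⟨fun x => ⟨false, x, rfl⟩, fun b => ?_⟩
      cases b
      · exact ⟨inferInstanceAs (Flat (𝟙 S)), inferInstanceAs (LocallyOfFinitePresentation (𝟙 S))⟩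
      · exact ⟨inferInstanceAs (Flat U.ι), inferInstanceAs (LocallyOfFinitePresentation U.ι)⟩
    exact h2 hP U.ι (Presieve.ofArrows.mk (f := f) true)
  tfae_have 3 → 4 := by
    intro h3
    refine ⟨S.affineOpenCover.I₀, fun i => (S.affineOpenCover.f i).opensRange,
      fun i => isAffineOpen_opensRange _, S.affineOpenCover.openCover.iSup_opensRange,
      fun i => h3 _⟩
  tfae_have 4 → 1 := by
    rintro ⟨ι, U, hU, hcov, h0⟩
    exact Groth.Agent.Lib.Helper14.Adeq2Par.parasitic_of_affine_cover Scheme.fppfPrecoverage M
      Scheme.zariskiPrecoverage_le_fppfPrecoverage (fun R a => Groth.Agent.S8755.result S M hM R a)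
      U hU hcov h0
  tfae_finish

end Groth.Agent.S8767
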