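import Groth.Statements.S8780
import Groth.Agent.Lib.Helper14.AdeqFree

set_option autoImplicit false
universe u
open CategoryTheory Limits
open AdeqTF

namespace Groth.Agent.S8780

open Groth.Agent.Lib.Helper14.AdeqTan Groth.Agent.Lib.Helper14.AdeqFree

lemma map_surj {A : Type u} [CommRing A] (B : Adeq.Alg A) {N N' : ModuleCat.{u} B} (g : N ⟶ N')
    (hg : Function.Surjective g) : Function.Surjective (AdeqTF.map B g) := by
  intro y
  obtain ⟨n, hn⟩ := hg (TrivSqZeroExt.snd y)
  refine ⟨(TrivSqZeroExt.inl (TrivSqZeroExt.fst y) + TrivSqZeroExt.inr n :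
    TrivSqZeroExt (B : Type u) N), ?_⟩
  apply TrivSqZeroExt.ext
  · change TrivSqZeroExt.fst (TrivSqZeroExt.map g.hom _) = _
    rw [TrivSqZeroExt.fst_map]
    simp
  · change TrivSqZeroExt.snd (TrivSqZeroExt.map g.hom _) = _
    rw [TrivSqZeroExt.snd_map]
    simp [hn]


/-- Take `I` injective in the category of module-valued functors on `A`-algebras. For every `A`-algebra
`B` and every short exact sequence `0 → N₁ → N → N₂ → 0` of `B`-modules, the induced map of tangent
modules `TI(B, N) → TI(B, N₂)` is surjective (`TI(B, N)` is the kernel of `I(B[N]) → I(B)`, `B[N]`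
the trivial square-zero extension). (The published statement asserts that `TI(B, N₁) → TI(B, N) →
TI(B, N₂) → 0` is exact; exactness at the middle term is false: for `A = B = ℚ`, the split sequence
`0 → ℚ → ℚ² → ℚ → 0` and the injective functor `D ↦ Map(Hom(D, ℚ[ε]/(ε²)), E)` with `E` an injective
hull of `ℚ[ε]/(ε²)`, the indicator function of the first coordinate form lies in the kernel of
`TI(B, ℚ²) → TI(B, ℚ)` and not in the image of `TI(B, ℚ) → TI(B, ℚ²)`. This row keeps the
surjectivity, which the published argument does establish.) -/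
theorem result (A : Type u) [CommRing A] (I : Adeq.MVF A) [Injective I]
    (B : Adeq.Alg A) (S : ShortComplex (ModuleCat.{u} B)) (hS : S.ShortExact) :
    Function.Surjective (AdeqTF.tangentMap B I S.g) := by
  have hg : Function.Surjective S.g := (ModuleCat.epi_iff_surjective _).1 hS.epi_g
  have hφ : Function.Surjective (AdeqTF.map B S.g) := map_surj B S.g hg
  have : Epi (AdeqTF.map B S.g) := ConcreteCategory.epi_of_surjective _ hφ
  intro x₂
  obtain ⟨x, hx⟩ := map_surjective_of_injective (AdeqTF.map B S.g) I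
    (x₂ : I.obj (Adeq.pt (ext B S.X₃)))
  let g0 : I.obj (Adeq.pt B) := I.map (Adeq.ptHom (fst B S.X₂)) x
  let r : I.obj (Adeq.pt (ext B S.X₂)) := I.map (Adeq.ptHom (inl B S.X₂)) g0
  have hr : I.map (Adeq.ptHom (fst B S.X₂)) r = g0 := by
    have e : Adeq.ptHom (inl B S.X₂) ≫ Adeq.ptHom (fst B S.X₂) = 𝟙 (Adeq.pt B) := by
      change (inl B S.X₂ ≫ fst B S.X₂).op.op = _
      rw [inl_fst]
      rfl
    refine (PresheafOfModules.map_comp_apply I (Adeq.ptHom (inl B S.X₂))
      (Adeq.ptHom (fst B S.X₂)) g0).symm.trans ?_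
    refine (PresheafOfModules.congr_map_apply I e g0).trans ?_
    exact ConcreteCategory.congr_hom (I.map_id (Adeq.pt B)) g0
  have hmem : x - r ∈ tangent B S.X₂ I := by
    rw [mem_tangent]
    refine (map_sub (ConcreteCategory.hom (I.map (Adeq.ptHom (fst B S.X₂)))) x r).trans ?_
    exact sub_eq_zero.2 hr.symm
  refine ⟨⟨x - r, hmem⟩, Subtype.ext ?_⟩
  simp only [tangentMap_coe]
  -- I(map g) r = 0
  have h0 : I.map (Adeq.ptHom (map B S.g)) r = 0 := by
    -- g0 = I(fst) x = I(fst') (I(map g) x) = I(fst') x₂ = 0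
    have h2 : I.map (Adeq.ptHom (fst B S.X₃)) (x₂ : I.obj (Adeq.pt (ext B S.X₃))) = 0 := x₂.2
    have e1 : Adeq.ptHom (map B S.g) ≫ Adeq.ptHom (fst B S.X₃) = Adeq.ptHom (fst B S.X₂) :=
      congrArg Adeq.ptHom (map_fst B S.g)
    have h3 : g0 = 0 := by
      refine (PresheafOfModules.congr_map_apply I e1 x).symm.trans ?_
      refine (PresheafOfModules.map_comp_apply I (Adeq.ptHom (map B S.g))
        (Adeq.ptHom (fst B S.X₃)) x).trans ?_
      exact (congrArg (fun z => I.map (Adeq.ptHom (fst B S.X₃)) z) hx).trans h2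
    have h4 : r = 0 := by
      change I.map (Adeq.ptHom (inl B S.X₂)) g0 = 0
      rw [h3]
      exact map_zero _
    rw [h4]
    exact map_zero _
  refine (map_sub (ConcreteCategory.hom (I.map (Adeq.ptHom (map B S.g)))) x r).trans ?_
  rw [h0, sub_zero]
  exact hx

end Groth.Agent.S8780
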