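import Groth.Statements.S8783
import Groth.Agent.Lib.Helper14.AdeqTan

set_option autoImplicit false
universe u
open CategoryTheory Limits
open AdeqTF

namespace Groth.Agent.S8783

open Groth.Agent.Lib.Helper14.AdeqTan in


/-- Let `F` be a module-valued functor on `A`-algebras with right exact tangent functors (for every
`A`-algebra `B` and short exact `0 → N₁ → N → N₂ → 0` of `B`-modules, `TF(B, N₁) → TF(B, N) → TF(B,
N₂) → 0` is exact). Then `TF(B, N₁ ⊕ N₂) = TF(B, N₁) ⊕ TF(B, N₂)`: the map from the product induced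
by the two inclusions is bijective. -/
theorem result (A : Type u) [CommRing A] (F : Adeq.MVF A)
    (hF : (∀ (B : Adeq.Alg A) (S : ShortComplex (ModuleCat.{u} B)), S.ShortExact →
        Function.Surjective (AdeqTF.tangentMap B F S.g) ∧
          (AdeqTF.tangentMap B F S.g).ker = (AdeqTF.tangentMap B F S.f).range))
    (B : Adeq.Alg A) (N₁ N₂ : ModuleCat.{u} B) :
    Function.Bijective ((AdeqTF.tangentMap B F (biprod.inl : N₁ ⟶ N₁ ⊞ N₂)).coprod
      (AdeqTF.tangentMap B F (biprod.inr : N₂ ⟶ N₁ ⊞ N₂))) := by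
  have h11 : ∀ a, tangentMap B F (biprod.fst : N₁ ⊞ N₂ ⟶ N₁)
      (tangentMap B F (biprod.inl : N₁ ⟶ N₁ ⊞ N₂) a) = a := fun a => by
    rw [← tangentMap_comp, biprod.inl_fst, tangentMap_id]
  have h12 : ∀ a, tangentMap B F (biprod.snd : N₁ ⊞ N₂ ⟶ N₂)
      (tangentMap B F (biprod.inl : N₁ ⟶ N₁ ⊞ N₂) a) = 0 := fun a => by
    rw [← tangentMap_comp, biprod.inl_snd, tangentMap_zero]
  have h21 : ∀ b, tangentMap B F (biprod.fst : N₁ ⊞ N₂ ⟶ N₁)
      (tangentMap B F (biprod.inr : N₂ ⟶ N₁ ⊞ N₂) b) = 0 := fun b => by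
    rw [← tangentMap_comp, biprod.inr_fst, tangentMap_zero]
  have h22 : ∀ b, tangentMap B F (biprod.snd : N₁ ⊞ N₂ ⟶ N₂)
      (tangentMap B F (biprod.inr : N₂ ⟶ N₁ ⊞ N₂) b) = b := fun b => by
    rw [← tangentMap_comp, biprod.inr_snd, tangentMap_id]
  constructor
  · rw [injective_iff_map_eq_zero]
    rintro ⟨a, b⟩ hab
    rw [AddMonoidHom.coprod_apply] at hab
    have hb : b = 0 := by
      have := congrArg (tangentMap B F (biprod.snd : N₁ ⊞ N₂ ⟶ N₂)) hab
      rw [map_add, h12, h22, zero_add, map_zero] at this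
      exact this
    have ha : a = 0 := by
      have := congrArg (tangentMap B F (biprod.fst : N₁ ⊞ N₂ ⟶ N₁)) hab
      rw [map_add, h11, h21, add_zero, map_zero] at this
      exact this
    rw [ha, hb]
    rfl
  · intro x
    let S : ShortComplex (ModuleCat.{u} B) :=
      ShortComplex.mk (biprod.inl : N₁ ⟶ N₁ ⊞ N₂) (biprod.snd : N₁ ⊞ N₂ ⟶ N₂) (by simp)
    have hS : S.ShortExact := (ShortComplex.Splitting.ofHasBinaryBiproduct N₁ N₂).shortExact
    have hk := (hF B S hS).2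
    let b := tangentMap B F (biprod.snd : N₁ ⊞ N₂ ⟶ N₂) x
    have hx : x - tangentMap B F (biprod.inr : N₂ ⟶ N₁ ⊞ N₂) b ∈
        (tangentMap B F (biprod.inl : N₁ ⟶ N₁ ⊞ N₂)).range := by
      have : x - tangentMap B F (biprod.inr : N₂ ⟶ N₁ ⊞ N₂) b ∈ (tangentMap B F S.g).ker := by
        rw [AddMonoidHom.mem_ker, map_sub]
        change tangentMap B F (biprod.snd : N₁ ⊞ N₂ ⟶ N₂) x -
          tangentMap B F (biprod.snd : N₁ ⊞ N₂ ⟶ N₂) (tangentMap B F biprod.inr b) = 0
        rw [h22, sub_self]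
      rw [hk] at this
      exact this
    obtain ⟨a, ha⟩ := hx
    refine ⟨(a, b), ?_⟩
    rw [AddMonoidHom.coprod_apply, ha]
    abel

end Groth.Agent.S8783
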