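import Groth.Statements.S8784
import Groth.Agent.Lib.Helper14.Adeq2Epi
import Groth.Agent.Lib.Helper14.Adeq2Shfy

set_option autoImplicit false
universe u
open CategoryTheory Limits AlgebraicGeometry
open Adeq

namespace Groth.Agent.S8784




/-- The parasitic adequate `O`-modules form a Serre subcategory of the category of adequate `O`-modules
on the big fppf site of a scheme `S`; concretely, if `M₁ → M₂ → M₃` is a complex of adequate
`O`-modules, exact at `M₂` (exactness taken in the category of all `O`-modules, which agrees with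
exactness among adequate modules), and `M₁`, `M₃` are parasitic, then `M₂` is parasitic. (The
published statement also identifies the quotient by this Serre subcategory with the category of
quasi-coherent modules on `S`; that part is not included here.) -/
theorem result (S : Scheme.{u}) (C : ShortComplex (BigSite.Mod Scheme.fppfPrecoverage S))
    (hC : C.Exact) (h₁ : Adeq.adequateMod Scheme.fppfPrecoverage S C.X₁) (h₂ : Adeq.adequateMod Scheme.fppfPrecoverage S C.X₂)
    (h₃ : Adeq.adequateMod Scheme.fppfPrecoverage S C.X₃) (p₁ : Adeq.parasitic Scheme.fppfPrecoverage S C.X₁)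
    (p₃ : Adeq.parasitic Scheme.fppfPrecoverage S C.X₃) :
    Adeq.parasitic Scheme.fppfPrecoverage S C.X₂ := by
  have i1 : MorphismProperty.IsStableUnderBaseChange
      (Min.min (α := MorphismProperty Scheme.{u}) @Flat @LocallyOfFinitePresentation) :=
    MorphismProperty.IsStableUnderBaseChange.inf
  have i3 : MorphismProperty.IsMultiplicative
      (Min.min (α := MorphismProperty Scheme.{u}) @Flat @LocallyOfFinitePresentation) :=
    { id_mem := fun X => ⟨inferInstance, inferInstance⟩
      comp_mem := fun f g hf hg => by
        have : Flat f := hf.1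
        have : LocallyOfFinitePresentation f := hf.2
        have : Flat g := hg.1
        have : LocallyOfFinitePresentation g := hg.2
        exact ⟨inferInstance, inferInstance⟩ }
  intro U hU
  have hzero : ∀ x : C.X₂.val.obj (Opposite.op U), x = 0 := by
    intro x
    have hx : C.g.val.app (Opposite.op U) x = 0 := (p₃ U hU).elim _ _
    obtain ⟨T, hT, hl⟩ := Groth.Agent.Lib.Helper14.Adeq2Epi.locally_in_image C hC U x hx
    rw [GrothendieckTopology.mem_over_iff] at hT
    obtain ⟨𝒰, h𝒰⟩ := (Scheme.mem_grothendieckTopology_iff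
      (P := Min.min (α := MorphismProperty Scheme.{u}) @Flat @LocallyOfFinitePresentation)).1 hT
    have hcov : Sieve.ofArrows (fun i => Over.mk (𝒰.f i ≫ U.hom))
        (fun i => (Over.homMk (𝒰.f i) rfl : Over.mk (𝒰.f i ≫ U.hom) ⟶ U)) ∈
        (QuotSh.J Scheme.fppfPrecoverage S) U := by
      rw [GrothendieckTopology.mem_over_iff, Sieve.overEquiv_ofArrows]
      exact Precoverage.generate_mem_toGrothendieck 𝒰.mem₀
    apply Groth.Agent.Lib.Helper14.SheafFam.sep (QuotSh.J Scheme.fppfPrecoverage S)
      C.X₂.val.presheaf C.X₂.isSheaf _ _ hcov x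
    intro i
    have hmem : T (Over.homMk (𝒰.f i) rfl : Over.mk (𝒰.f i ≫ U.hom) ⟶ U) :=
      Groth.Agent.Lib.Helper14.Adeq2Shfy.mem_of_overEquiv T _ (h𝒰 _ _ (Presieve.ofArrows.mk i))
    obtain ⟨y, hy⟩ := hl _ hmem
    have hflat : Flat (Over.mk (𝒰.f i ≫ U.hom)).hom := by
      have hf : Flat (𝒰.f i) := (Scheme.Cover.map_prop 𝒰 i).1
      have : Flat U.hom := hU
      change Flat (𝒰.f i ≫ U.hom)
      infer_instance
    have hy0 : y = 0 := (p₁ _ hflat).elim _ _
    rw [hy0] at hy
    exact hy.symm.trans (map_zero _)
  exact ⟨fun x y => (hzero x).trans (hzero y).symm⟩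

end Groth.Agent.S8784
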