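import Groth.Statements.S8806
import Groth.Agent.Lib.Helper24.JacExt.Chain

set_option autoImplicit false
universe u
open CategoryTheory
attribute [local instance] HasDerivedCategory.standard
open LCI

namespace Groth.Agent.S8806

/-- Let A be a ring, m ≤ n, f_1, …, f_m ∈ A[x_1, …, x_n], B = A[x_1, …, x_n]/(f_1, …, f_m), and g ∈ B
the image of the determinant of the m × m matrix of partial derivatives ∂f_j/∂x_i with i, j ≤ m (the
first m variables). Then: (1) for every B-module N, g annihilates Ext^1_B(NL_{B/A}, N), i.e. every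
morphism NL_{B/A} → N[1] in D(B) is killed by g; (2) if n = m then multiplication by g on NL_{B/A}
is the zero endomorphism in D(B). -/
theorem result (A : Type u) [CommRing A] (n m : ℕ) (hmn : m ≤ n) (f : Fin m → MvPolynomial (Fin n) A) : (∀ (N : Type u) [AddCommGroup N] [Module (MvPolynomial (Fin n) A ⧸ Ideal.span (Set.range f)) N] (φ : LCI.NL A (MvPolynomial (Fin n) A ⧸ Ideal.span (Set.range f)) ⟶ (Dual.inD (MvPolynomial (Fin n) A ⧸ Ideal.span (Set.range f)) N)⟦(1 : ℤ)⟧), (Ideal.Quotient.mk (Ideal.span (Set.range f)) (Matrix.det (Matrix.of (fun i j : Fin m => MvPolynomial.pderiv (Fin.castLE hmn i) (f j))))) • φ = 0) ∧ (n = m → (Ideal.Quotient.mk (Ideal.span (Set.range f)) (Matrix.det (Matrix.of (fun i j : Fin m => MvPolynomial.pderiv (Fin.castLE hmn i) (f j))))) • 𝟙 (LCI.NL A (MvPolynomial (Fin n) A ⧸ Ideal.span (Set.range f))) = 0) := by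
  open Groth.Agent.Lib.Helper24.JacExt Groth.Agent.Lib.Helper5.NLHtpy in
  obtain ⟨e⟩ := nonempty_toD_iso_NL A (Bq A f) (gens A f)
  have hg : Ideal.Quotient.mk (Ideal.span (Set.range f)) (Matrix.det (Matrix.of
      (fun i j : Fin m => MvPolynomial.pderiv (Fin.castLE hmn i) (f j)))) = (Mbar A hmn f).det :=
    (det_Mbar A hmn f).symm
  have h4 := (DerivedCategory.Q (C := ModuleCat.{u} (Bq A f))).map_smul
    (Mbar A hmn f).det (𝟙 (CC A f))
  have h5 : (Mbar A hmn f).det • DerivedCategory.Q.map (𝟙 (CC A f)) =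
      DerivedCategory.Q.map (uu A hmn f) :=
    h4.symm.trans (DerivedCategory.Q_map_eq_of_homotopy _ (htpy A hmn f))
  rw [CategoryTheory.Functor.map_id] at h5
  constructor
  · intro N _ _ φ
    rw [hg, ← cancel_epi e.hom, Limits.comp_zero, Linear.comp_smul]
    have h1 : (Mbar A hmn f).det • (e.hom ≫ φ) =
        ((Mbar A hmn f).det • 𝟙 (DerivedCategory.Q.obj (CC A f))) ≫ (e.hom ≫ φ) := by
      rw [Linear.smul_comp, Category.id_comp]
    rw [h1, h5]
    exact Q_map_comp_eq_zero' (isZero_CC_X A f) (uu A hmn f) (uu_f_neg_one A hmn f) N _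
  · intro hnm
    subst hnm
    rw [hg]
    have h2 : (Mbar A hmn f).det • 𝟙 (DRing.toD (CC A f)) = 0 := by
      rw [h5, uu_eq_zero, CategoryTheory.Functor.map_zero]
    have h3 : (Mbar A hmn f).det • 𝟙 (LCI.NL A (Bq A f)) =
        e.inv ≫ ((Mbar A hmn f).det • 𝟙 (DRing.toD (CC A f))) ≫ e.hom := by
      rw [Linear.smul_comp, Linear.comp_smul, Category.id_comp, Iso.inv_hom_id]
    rw [h3, h2, Limits.zero_comp, Limits.comp_zero]

end Groth.Agent.S8806
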