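import Groth.Statements.S8812
import Groth.Agent.Lib.Helper23.DeltaZ2

set_option autoImplicit false
universe u
open CategoryTheory AlgebraicGeometry
open Algz

namespace Groth.Agent.S8812

/-- Let Y be a Noetherian scheme and Z ⊆ Y a closed subset. If y specializes to y' then δ_Z(y') ≤
δ_Z(y); equivalently each set {y | δ_Z(y) ≤ k} is stable under specialization. -/
theorem result (Y : Scheme.{u}) [IsNoetherian Y] (Z : Set Y) (hZ : IsClosed Z) (y y' : Y) (h : y ⤳ y') : Algz.deltaZ Z y' ≤ Algz.deltaZ Z y := by
  by_cases hne : y' ⤳ y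
  · have : y = y' := (h.antisymm hne).eq
    rw [this]
  · exact Groth.Agent.Lib.Helper23.DeltaZ.deltaZ_le_of_specializes hZ h hne

end Groth.Agent.S8812
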