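import Groth.Statements.S8813
-- import your own Groth.Agent.* helpers here

set_option autoImplicit false
universe u
open CategoryTheory AlgebraicGeometry
open Algz

namespace Groth.Agent.S8813

/-- The one-step system `V_0 = closure of z ⊆ W_0 = closure of y`. -/
def sys0 {Y : Type u} [TopologicalSpace Y] (Z : Set Y) (y z : Y) (h : y ⤳ z) (hz : z ∈ Z) :
    Algz.DSystem Z y 0 where
  v := fun _ => z
  w := fun _ => y
  spec := fun _ => h
  spec_succ := fun i => i.elim0
  start_mem := hz
  last_eq := rfl

theorem sys0_delta {Y : Type u} [TopologicalSpace Y] (Z : Set Y) (y z : Y) (h : y ⤳ z) (hz : z ∈ Z) :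
    (sys0 Z y z h hz).delta = Algz.codimPt y z h := by
  unfold Algz.DSystem.delta
  simp [Algz.DSystem.c, sys0]

theorem deltaZ_le_codimPt {Y : Type u} [TopologicalSpace Y] (Z : Set Y) (y z : Y) (h : y ⤳ z)
    (hz : z ∈ Z) : Algz.deltaZ Z y ≤ Algz.codimPt y z h := by
  rw [← sys0_delta Z y z h hz]
  exact iInf_le_of_le 0 (iInf_le _ _)


theorem codimPt_le_coheight (Y : Scheme.{u}) (y z : Y) (h : y ⤳ z)
    (P : PrimeSpectrum (Y.presheaf.stalk z)) (hP : (Y.fromSpecStalk z).base P = y) :
    Algz.codimPt y z h ≤ Order.coheight P := by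
  classical
  have hrange : ∀ x : Set.Ici (Specialization.toEquiv z),
      ∃ Q : PrimeSpectrum (Y.presheaf.stalk z),
        (Y.fromSpecStalk z).base Q = Specialization.ofEquiv x.1 := by
    intro x
    have hx : Specialization.ofEquiv x.1 ⤳ z := x.2
    have : Specialization.ofEquiv x.1 ∈ Set.range (Y.fromSpecStalk z) := by
      rw [Scheme.range_fromSpecStalk]; exact hx
    exact this
  choose g hg using hrange
  have hemb : Topology.IsEmbedding (Y.fromSpecStalk z).base :=
    (Y.fromSpecStalk z).isEmbedding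
  have hspec : ∀ a b : Set.Ici (Specialization.toEquiv z), a ≤ b ↔ g b ≤ g a := by
    intro a b
    rw [PrimeSpectrum.le_iff_specializes]
    refine Iff.trans ?_ (hemb.isInducing.specializes_iff (x := g b) (y := g a))
    rw [hg, hg]
    exact Iff.rfl
  let g' : Set.Ici (Specialization.toEquiv z) → (PrimeSpectrum (Y.presheaf.stalk z))ᵒᵈ :=
    fun x => OrderDual.toDual (g x)
  have hmono : StrictMono g' := by
    intro a b hab
    rw [lt_iff_le_not_ge] at hab ⊢
    exact ⟨(hspec a b).mp hab.1, fun hba => hab.2 ((hspec b a).mpr hba)⟩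
  have hgy : g ⟨Specialization.toEquiv y, Specialization.toEquiv_le_toEquiv.mpr h⟩ = P := by
    apply hemb.injective
    rw [hg, hP]
    rfl
  unfold Algz.codimPt
  refine (Order.height_le_height_apply_of_strictMono g' hmono _).trans ?_
  change Order.height (OrderDual.toDual (g _)) ≤ _
  rw [hgy]
  rfl

theorem coheight_eq_ringKrullDim_quotient {R : Type u} [CommRing R] (P : PrimeSpectrum R) :
    ((Order.coheight P : ℕ∞) : WithBot ℕ∞) = ringKrullDim (R ⧸ P.asIdeal) := by
  rw [ringKrullDim_quotient, Order.coheight_eq_krullDim_Ici]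
  have : PrimeSpectrum.zeroLocus (P.asIdeal : Set R) = Set.Ici P := by
    ext Q
    rw [PrimeSpectrum.mem_zeroLocus, Set.mem_Ici]
    exact Iff.rfl
  rw [this]


/-- Let Y be a Noetherian scheme, Z ⊆ Y a closed subset, y a point of Y and z a point of Z lying in the
closure of y. Then δ_Z(y) is at most the dimension of the local ring at z of the closure of y with
its reduced structure, that is, the Krull dimension of O_{Y,z}/𝔭 where 𝔭 is the prime ideal of the
local ring O_{Y,z} given by the point of Spec O_{Y,z} that maps to y. -/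
theorem result (Y : Scheme.{u}) [IsNoetherian Y] (Z : Set Y) (hZ : IsClosed Z) (y z : Y) (h : y ⤳ z) (hz : z ∈ Z) (P : PrimeSpectrum (Y.presheaf.stalk z)) (hP : (Y.fromSpecStalk z).base P = y) : ((Algz.deltaZ Z y : ℕ∞) : WithBot ℕ∞) ≤ ringKrullDim (↥(Y.presheaf.stalk z) ⧸ P.asIdeal) := by
  rw [← coheight_eq_ringKrullDim_quotient]
  exact WithBot.coe_le_coe.mpr ((deltaZ_le_codimPt Z y z h hz).trans
    (codimPt_le_coheight Y y z h P hP))

end Groth.Agent.S8813
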