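import Groth.Statements.S8814
import Groth.Agent.Lib.Helper23.CatOrder
import Groth.Agent.Lib.Helper23.DeltaZ2
import Mathlib.RingTheory.Ideal.KrullsHeightTheorem
import Mathlib.Data.ENat.BigOperators
import Mathlib.AlgebraicGeometry.Noetherian

set_option autoImplicit false
universe u
open CategoryTheory AlgebraicGeometry
open Algz

namespace Groth.Agent.S8814

theorem exists_strictMono (Y : Scheme.{u}) (z : Y) :
    ∃ g : Set.Ici (Specialization.toEquiv z) → (PrimeSpectrum (Y.presheaf.stalk z))ᵒᵈ,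
      StrictMono g := by
  classical
  have hrange : ∀ x : Set.Ici (Specialization.toEquiv z),
      ∃ Q : PrimeSpectrum (Y.presheaf.stalk z),
        (Y.fromSpecStalk z).base Q = Specialization.ofEquiv x.1 := by
    intro x
    have hx : Specialization.ofEquiv x.1 ⤳ z := x.2
    have : Specialization.ofEquiv x.1 ∈ Set.range (Y.fromSpecStalk z) := by
      rw [Scheme.range_fromSpecStalk]; exact hx
    exact this
  choose g hg using hrange
  have hemb : Topology.IsEmbedding (Y.fromSpecStalk z).base :=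
    (Y.fromSpecStalk z).isEmbedding
  have hspec : ∀ a b : Set.Ici (Specialization.toEquiv z), a ≤ b ↔ g b ≤ g a := by
    intro a b
    rw [PrimeSpectrum.le_iff_specializes]
    refine Iff.trans ?_ (hemb.isInducing.specializes_iff (x := g b) (y := g a))
    rw [hg, hg]
    exact Iff.rfl
  refine ⟨fun x => OrderDual.toDual (g x), ?_⟩
  intro a b hab
  rw [lt_iff_le_not_ge] at hab ⊢
  exact ⟨(hspec a b).mp hab.1, fun hba => hab.2 ((hspec b a).mpr hba)⟩

theorem finDim (Y : Scheme.{u}) [IsNoetherian Y] (z : Y) :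
    FiniteDimensionalOrder (Set.Ici (Specialization.toEquiv z)) := by
  obtain ⟨g, hg⟩ := exists_strictMono Y z
  rw [Order.finiteDimensionalOrder_iff_krullDim_ne_bot_and_top]
  constructor
  · rw [Order.krullDim_ne_bot_iff]; exact ⟨⟨_, Set.mem_Ici.mpr le_rfl⟩⟩
  · have h1 := Order.krullDim_le_of_strictMono g hg
    rw [Order.krullDim_orderDual] at h1
    have h2 : Order.krullDim (PrimeSpectrum (Y.presheaf.stalk z)) ≠ ⊤ :=
      ringKrullDim_ne_top (R := Y.presheaf.stalk z)
    exact ne_top_of_le_ne_top h2 h1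

open Groth.Agent.Lib.Helper23.CatOrder in
theorem height_eq_N {X : Type*} [PartialOrder X] {b : X} (hb : ∀ x, b ≤ x) (x : X) :
    Order.height x = N b x := by
  apply le_antisymm
  · rw [Order.height_eq_iSup_last_eq]
    refine iSup₂_le fun s hs => ?_
    by_cases hl : s.head = b
    · exact le_N ⟨s, hl, hs⟩
    · have hlt : b < s.head := lt_of_le_of_ne (hb _) (Ne.symm hl)
      refine le_trans ?_ (le_N ⟨s.cons b hlt, by simp, by simp [hs]⟩)
      simp
  · refine iSup_le fun s => ?_
    have := Order.length_le_height_last (p := s.1)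
    rw [s.2.2] at this
    exact this

theorem tele {M : Type*} [AddCommMonoid M] : ∀ (k : ℕ) (Dv Dw c : Fin (k + 1) → M) (b : Fin k → M)
    (_ : ∀ i, Dw i = c i + Dv i) (_ : ∀ j : Fin k, Dw j.castSucc = b j + Dv j.succ),
    Dw (Fin.last k) + ∑ j, b j = ∑ j, c j + Dv 0 := by
  intro k
  induction k with
  | zero =>
    intro Dv Dw c b h1 _
    have e : ∑ j : Fin (0 + 1), c j = c 0 := Fin.sum_univ_one c
    rw [e, Finset.univ_eq_empty, Finset.sum_empty, add_zero]
    exact h1 0
  | succ k ih =>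
    intro Dv Dw c b h1 h2
    have IH := ih (fun i => Dv i.castSucc) (fun i => Dw i.castSucc) (fun i => c i.castSucc)
      (fun j => b j.castSucc) (fun i => h1 i.castSucc) (fun j => h2 j.castSucc)
    rw [Fin.sum_univ_castSucc (f := b), Fin.sum_univ_castSucc (f := c)]
    have e1 := h1 (Fin.last (k + 1))
    have e2 := h2 (Fin.last k)
    rw [Fin.succ_last] at e2
    have IH' : Dw (Fin.last k).castSucc + ∑ j : Fin k, b j.castSucc =
      ∑ j : Fin (k + 1), c j.castSucc + Dv 0 := IH
    calc Dw (Fin.last (k + 1)) + (∑ j : Fin k, b j.castSucc + b (Fin.last k))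
        = c (Fin.last (k + 1)) + (b (Fin.last k) + Dv (Fin.last (k + 1)))
            + ∑ j : Fin k, b j.castSucc := by rw [e1]; abel
      _ = c (Fin.last (k + 1)) + (Dw (Fin.last k).castSucc + ∑ j : Fin k, b j.castSucc) := by
            rw [← e2]; abel
      _ = ∑ j : Fin (k + 1), c j.castSucc + c (Fin.last (k + 1)) + Dv 0 := by rw [IH']; abel


open Groth.Agent.Lib.Helper23.CatOrder in
theorem dimFun_codim (Y : Scheme.{u}) [IsNoetherian Y] (δ : Y → ℤ) (hδ : Cyc.IsDimFun Y δ)
    (w v : Y) (h : w ⤳ v) : ∃ n : ℕ, Algz.codimPt w v h = n ∧ δ w = δ v + n := by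
  have := finDim Y v
  let P := Set.Ici (Specialization.toEquiv v)
  let bot : P := ⟨Specialization.toEquiv v, Set.mem_Ici.mpr le_rfl⟩
  let wP : P := ⟨Specialization.toEquiv w, Specialization.toEquiv_le_toEquiv.mpr h⟩
  have hb : ∀ x : P, bot ≤ x := fun x => x.2
  obtain ⟨s, hsat, hlen⟩ := exists_sat (hb wP)
  refine ⟨s.1.length, ?_, ?_⟩
  · unfold Algz.codimPt
    change Order.height wP = _
    rw [height_eq_N hb, ← hlen]
  · let pt : P → Y := fun a => Specialization.ofEquiv a.1
    have hstep : ∀ i : Fin s.1.length, δ (pt (s.1 i.succ)) = δ (pt (s.1 i.castSucc)) + 1 := by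
      intro i
      have hcov := hsat i
      set a := s.1 i.castSucc with ha
      set b := s.1 i.succ with hb'
      have hab : pt b ⤳ pt a := hcov.lt.le
      have hne : pt b ≠ pt a := by
        intro he
        have : b = a := Subtype.ext (Specialization.ofEquiv.injective he)
        exact hcov.lt.ne' this
      refine ((hδ (pt b) (pt a) hab hne).2 ?_)
      intro z hz1 hz2
      let c : P := ⟨Specialization.toEquiv z, Specialization.toEquiv_le_toEquiv.mpr
        (hz2.trans a.2)⟩
      have hac : a ≤ c := hz2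
      have hcb : c ≤ b := hz1
      by_contra hcon
      push Not at hcon
      have hca : a ≠ c := fun e => hcon.2 (by rw [e]; rfl)
      have hcb' : c ≠ b := fun e => hcon.1 (by rw [← e]; rfl)
      exact hcov.2 (lt_of_le_of_ne hac hca) (lt_of_le_of_ne hcb hcb')
    have hind : ∀ (n : ℕ) (hn : n < s.1.length + 1),
        δ (pt (s.1 ⟨n, hn⟩)) = δ (pt (s.1 0)) + n := by
      intro n
      induction n with
      | zero => intro hn; simp
      | succ n ih =>
        intro hn
        have h1 := hstep ⟨n, by omega⟩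
        have h2 := ih (by omega)
        have e1 : (⟨n, by omega⟩ : Fin s.1.length).succ = ⟨n + 1, hn⟩ := rfl
        have e2 : (⟨n, by omega⟩ : Fin s.1.length).castSucc = ⟨n, by omega⟩ := rfl
        rw [e1, e2, h2] at h1
        rw [h1]; push_cast; ring
    have hfin := hind s.1.length (by omega)
    have e0 : pt (s.1 0) = v := by
      have : s.1 0 = bot := s.2.1
      rw [this]; rfl
    have el : pt (s.1 ⟨s.1.length, by omega⟩) = w := by
      have : s.1 ⟨s.1.length, by omega⟩ = wP := s.2.2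
      rw [this]; rfl
    rw [e0, el] at hfin
    exact hfin


/-- Let Y be a Noetherian scheme, Z ⊆ Y a closed subset and δ a dimension function on Y. If δ_Z(y) is a
natural number n, then δ(y) ≤ n + δ(z) for some z ∈ Z; in other words δ(y) ≤ δ_Z(y) + δ_max with
δ_max the maximum of δ on Z. -/
theorem result (Y : Scheme.{u}) [IsNoetherian Y] (Z : Set Y) (hZ : IsClosed Z) (δ : Y → ℤ) (hδ : Cyc.IsDimFun Y δ) (y : Y) (n : ℕ) (hn : Algz.deltaZ Z y = n) : ∃ z ∈ Z, δ y ≤ n + δ z := by
  have hex : ∃ (k : ℕ) (S : Algz.DSystem Z y k), S.delta ≤ n := by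
    by_contra hcon
    push Not at hcon
    have h1 : (n : ℕ∞) + 1 ≤ Algz.deltaZ Z y :=
      le_iInf fun k => le_iInf fun S => Order.add_one_le_of_lt (hcon k S)
    rw [hn] at h1
    have h2 : n + 1 ≤ n := by exact_mod_cast h1
    omega
  obtain ⟨k, S, hS⟩ := hex
  refine ⟨S.v 0, S.start_mem, ?_⟩
  choose cn hcn1 hcn2 using fun i => dimFun_codim Y δ hδ (S.w i) (S.v i) (S.spec i)
  choose bn hbn1 hbn2 using fun j : Fin k =>
    dimFun_codim Y δ hδ (S.w j.castSucc) (S.v j.succ) (S.spec_succ j)
  have key := tele k (fun i => δ (S.v i)) (fun i => δ (S.w i)) (fun i => (cn i : ℤ))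
    (fun j => (bn j : ℤ)) (fun i => by rw [hcn2 i]; ring) (fun j => by rw [hbn2 j]; ring)
  have key' : δ y + ∑ j, (bn j : ℤ) = ∑ j, (cn j : ℤ) + δ (S.v 0) := by
    have e : δ (S.w (Fin.last k)) = δ y := congrArg δ S.last_eq
    rw [← e]; exact key
  have hT : ((∑ j, cn j - ∑ j, bn j : ℕ) : ℕ∞) ≤ n := by
    refine le_trans ?_ hS
    unfold Algz.DSystem.delta
    refine le_trans ?_ le_add_self
    refine le_trans ?_ (Finset.le_sup (Finset.mem_univ (0 : Fin (k + 1))))
    have e1 : Finset.univ.filter (fun j : Fin (k + 1) => (0 : Fin (k + 1)) ≤ j) = Finset.univ := by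
      ext j; simp
    have e2 : Finset.univ.filter (fun j : Fin k => (0 : Fin (k + 1)).val ≤ j.val) = Finset.univ := by
      ext j; simp
    have e3 : ∑ j, S.c j = ((∑ j, cn j : ℕ) : ℕ∞) := by
      push_cast
      exact Finset.sum_congr rfl (fun j _ => hcn1 j)
    have e4 : ∑ j, S.b j = ((∑ j, bn j : ℕ) : ℕ∞) := by
      push_cast
      exact Finset.sum_congr rfl (fun j _ => hbn1 j)
    rw [e1, e2, e3, e4, ← ENat.coe_sub]
  have h3 : (∑ j, cn j : ℕ) - ∑ j, bn j ≤ n := by exact_mod_cast hT
  have h4 : (∑ j, (cn j : ℤ)) - ∑ j, (bn j : ℤ) ≤ n := by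
    have e5 : (∑ j, (cn j : ℤ)) = ((∑ j, cn j : ℕ) : ℤ) := by push_cast; rfl
    have e6 : (∑ j, (bn j : ℤ)) = ((∑ j, bn j : ℕ) : ℤ) := by push_cast; rfl
    rw [e5, e6]
    omega
  linarith

end Groth.Agent.S8814
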