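import Groth.Statements.S8815
import Groth.Agent.Lib.Helper23.CatOrder
import Groth.Agent.Lib.Helper23.DeltaZ2
import Groth.Agent.S8813
import Mathlib.RingTheory.Ideal.KrullsHeightTheorem
import Mathlib.Algebra.BigOperators.WithTop
import Mathlib.Data.ENat.BigOperators

set_option autoImplicit false
universe u
open CategoryTheory AlgebraicGeometry
open Algz

namespace Groth.Agent.S8815

open Groth.Agent.Lib.Helper23.CatOrder in
theorem N_self {X : Type*} [PartialOrder X] (x : X) : N x x = 0 := by
  unfold N
  rw [ENat.iSup_eq_zero]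
  intro s
  by_contra hne
  have hpos : 0 < s.1.length := by
    rcases Nat.eq_zero_or_pos s.1.length with h0 | h0
    · exact absurd (by rw [h0]; rfl) hne
    · exact h0
  have : s.1.head < s.1.last := by
    apply s.1.strictMono
    change (0 : Fin (s.1.length + 1)) < Fin.last _
    rw [Fin.lt_def]; simpa using hpos
  rw [s.2.1, s.2.2] at this
  exact lt_irrefl _ this

theorem tele : ∀ (k : ℕ) (Dv Dw c : Fin (k + 1) → ℕ∞) (b : Fin k → ℕ∞)
    (_ : ∀ i, Dw i = c i + Dv i) (_ : ∀ j : Fin k, Dw j.castSucc = b j + Dv j.succ)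
    (_ : Dv 0 = 0), Dw (Fin.last k) + ∑ j, b j = ∑ j, c j := by
  intro k
  induction k with
  | zero =>
    intro Dv Dw c b h1 _ h0
    have := h1 0
    rw [h0, add_zero] at this
    have e : ∑ j : Fin (0 + 1), c j = c 0 := Fin.sum_univ_one c
    rw [e, Finset.univ_eq_empty, Finset.sum_empty, add_zero]
    exact this
  | succ k ih =>
    intro Dv Dw c b h1 h2 h0
    have IH := ih (fun i => Dv i.castSucc) (fun i => Dw i.castSucc) (fun i => c i.castSucc)
      (fun j => b j.castSucc) (fun i => h1 i.castSucc) (fun j => h2 j.castSucc) h0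
    rw [Fin.sum_univ_castSucc (f := b), Fin.sum_univ_castSucc (f := c), ← IH]
    have e1 := h1 (Fin.last (k + 1))
    have e2 := h2 (Fin.last k)
    rw [Fin.succ_last] at e2
    change Dw (Fin.last (k + 1)) + (∑ j : Fin k, b j.castSucc + b (Fin.last k)) =
      (Dw (Fin.last k).castSucc + ∑ j : Fin k, b j.castSucc) + c (Fin.last (k + 1))
    rw [e1, e2]
    ring


/-- view a point of `Spec A` as a prime -/
def toPS (A : Type u) [CommRing A] (w : Spec (CommRingCat.of A)) : PrimeSpectrum A := w

open Groth.Agent.Lib.Helper23.CatOrder in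
theorem codimPt_eq_N (A : Type u) [CommRing A] (w v : Spec (CommRingCat.of A)) (h : w ⤳ v) :
    Algz.codimPt w v h = N (toPS A w) (toPS A v) := by
  have hle : toPS A w ≤ toPS A v := (PrimeSpectrum.le_iff_specializes _ _).mpr h
  rw [← coheight_Iic_eq_N hle]
  unfold Algz.codimPt
  let e : Set.Ici (Specialization.toEquiv v) ≃o (Set.Iic (toPS A v))ᵒᵈ :=
    { toFun := fun x => OrderDual.toDual ⟨toPS A (Specialization.ofEquiv x.1),
        (PrimeSpectrum.le_iff_specializes _ _).mpr x.2⟩
      invFun := fun z => ⟨Specialization.toEquiv (OrderDual.ofDual z).1,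
        Specialization.toEquiv_le_toEquiv.mpr
          ((PrimeSpectrum.le_iff_specializes _ _).mp (OrderDual.ofDual z).2)⟩
      left_inv := fun x => rfl
      right_inv := fun z => rfl
      map_rel_iff' := by
        intro a b
        change toPS A (Specialization.ofEquiv b.1) ≤ toPS A (Specialization.ofEquiv a.1) ↔ a.1 ≤ b.1
        rw [PrimeSpectrum.le_iff_specializes]
        exact Iff.rfl }
  rw [← Order.height_orderIso e]
  rfl

open Groth.Agent.Lib.Helper23.CatOrder in
theorem N_le_delta (A : Type u) [CommRing A] [IsNoetherianRing A] [IsLocalRing A]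
    (hA : CAlg.IsCatenary A) (y : Spec (CommRingCat.of A)) (k : ℕ)
    (S : Algz.DSystem ({IsLocalRing.closedPoint A} : Set (Spec (CommRingCat.of A))) y k) :
    N (toPS A y) (IsLocalRing.closedPoint A) ≤ S.delta := by
  have hcat : Cat (PrimeSpectrum A) := hA.2
  have hm : ∀ x : PrimeSpectrum A, x ≤ IsLocalRing.closedPoint A := fun x =>
    (PrimeSpectrum.le_iff_specializes _ _).mpr (IsLocalRing.specializes_closedPoint x)
  let D : Spec (CommRingCat.of A) → ℕ∞ := fun x => N (toPS A x) (IsLocalRing.closedPoint A)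
  have hD : ∀ (w v : Spec (CommRingCat.of A)) (h : w ⤳ v), D w = Algz.codimPt w v h + D v := by
    intro w v h
    rw [codimPt_eq_N]
    exact N_add hcat ((PrimeSpectrum.le_iff_specializes _ _).mpr h) (hm _)
  have h0 : D (S.v 0) = 0 := by
    have hv : S.v 0 = IsLocalRing.closedPoint A := S.start_mem
    change N (toPS A (S.v 0)) (IsLocalRing.closedPoint A) = 0
    rw [hv]; exact N_self _
  have key := tele k (fun i => D (S.v i)) (fun i => D (S.w i)) S.c S.b
    (fun i => hD _ _ (S.spec i)) (fun j => hD _ _ (S.spec_succ j)) h0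
  have key' : D y + ∑ j, S.b j = ∑ j, S.c j := by
    have : D (S.w (Fin.last k)) + ∑ j, S.b j = ∑ j, S.c j := key
    rw [S.last_eq] at this
    exact this
  have hbfin : ∑ j, S.b j ≠ ⊤ := by
    rw [ENat.sum_ne_top]
    intro j _
    have : S.b j = N (toPS A (S.w j.castSucc)) (toPS A (S.v j.succ)) := codimPt_eq_N A _ _ _
    rw [this]
    exact (N_lt_top _ _).ne
  have h1 : D y ≤ (∑ j, S.c j) - ∑ j, S.b j :=
    ENat.le_sub_of_add_le_right hbfin key'.le
  refine h1.trans ?_
  unfold Algz.DSystem.delta
  refine le_trans ?_ le_add_self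
  refine le_trans ?_ (Finset.le_sup (Finset.mem_univ (0 : Fin (k + 1))))
  have e1 : Finset.univ.filter (fun j : Fin (k + 1) => (0 : Fin (k + 1)) ≤ j) = Finset.univ := by
    ext j; simp
  have e2 : Finset.univ.filter (fun j : Fin k => (0 : Fin (k + 1)).val ≤ j.val) = Finset.univ := by
    ext j; simp
  rw [e1, e2]


/-- Let A be a catenary Noetherian local ring, Y = Spec A and Z the closed point. Then δ_Z(y) equals the
dimension of the closure of y, i.e. dim(A/p_y), for every point y. -/
theorem result (A : Type u) [CommRing A] [IsNoetherianRing A] [IsLocalRing A] (hA : CAlg.IsCatenary A) (y : Spec (CommRingCat.of A)) : ((Algz.deltaZ ({IsLocalRing.closedPoint A} : Set (Spec (CommRingCat.of A))) y : ℕ∞) : WithBot ℕ∞) = ringKrullDim (A ⧸ y.asIdeal) := by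
  have e := Groth.Agent.S8813.coheight_eq_ringKrullDim_quotient (toPS A y)
  refine Eq.trans ?_ e
  congr 1
  have hm : ∀ x : PrimeSpectrum A, x ≤ IsLocalRing.closedPoint A := fun x =>
    (PrimeSpectrum.le_iff_specializes _ _).mpr (IsLocalRing.specializes_closedPoint x)
  rw [Groth.Agent.Lib.Helper23.CatOrder.coheight_eq_N hm]
  apply le_antisymm
  · have h : y ⤳ (IsLocalRing.closedPoint A : Spec (CommRingCat.of A)) :=
      IsLocalRing.specializes_closedPoint (toPS A y)
    refine (Groth.Agent.S8813.deltaZ_le_codimPt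
      ({IsLocalRing.closedPoint A} : Set (Spec (CommRingCat.of A))) y _ h
      (Set.mem_singleton _)).trans ?_
    exact (codimPt_eq_N A _ _ h).le
  · unfold Algz.deltaZ
    exact le_iInf fun k => le_iInf fun S => N_le_delta A hA y k S

end Groth.Agent.S8815
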