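import Groth.Statements.S8816
import Groth.Agent.Lib.Helper23.DeltaZ

set_option autoImplicit false
universe u
open CategoryTheory AlgebraicGeometry
open Algz

namespace Groth.Agent.S8816

open Groth.Agent.Lib.Helper23.DeltaZ in
theorem delta_le_of_bounds {Y : Type u} [TopologicalSpace Y] {Z : Set Y} {y : Y} {k : ℕ}
    (S : Algz.DSystem Z y k) (hc : ∀ j : Fin k, S.c j.castSucc ≤ 1) (hcl : S.c (Fin.last k) = 0)
    (hb : ∀ j : Fin k, 1 ≤ S.b j) : S.delta ≤ k := by
  unfold Algz.DSystem.delta
  have hsup : (Finset.univ.sup fun i : Fin (k + 1) =>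
      (∑ j ∈ Finset.univ.filter (fun j : Fin (k + 1) => i ≤ j), S.c j) -
        ∑ j ∈ Finset.univ.filter (fun j : Fin k => i.val ≤ j.val), S.b j) = 0 := by
    rw [← bot_eq_zero, Finset.sup_eq_bot_iff]
    intro i _
    rw [bot_eq_zero, tsub_eq_zero_iff_le]
    rw [Finset.sum_filter, Finset.sum_filter, Fin.sum_univ_castSucc]
    have hlast : (if i ≤ Fin.last k then S.c (Fin.last k) else 0) = 0 := by
      rw [hcl]; simp
    rw [hlast, add_zero]
    apply Finset.sum_le_sum
    intro j _
    have hiff : (i ≤ j.castSucc) ↔ (i.val ≤ j.val) := by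
      rw [Fin.le_def]; rfl
    by_cases hij : i.val ≤ j.val
    · rw [if_pos (hiff.mpr hij), if_pos hij]
      exact (hc j).trans (hb j)
    · rw [if_neg (fun h => hij (hiff.mp h)), if_neg hij]
  rw [hsup, add_zero]


/-- Let Y be a Noetherian scheme and Z ⊆ Y closed. Given points y_0, …, y_k and y'_0, …, y'_{k-1} of Y
with y_0 ∈ Z such that each y'_i specializes to y_{i+1} with y'_i ≠ y_{i+1}, and each y'_i ⤳ y_i is
an immediate specialization (y'_i ≠ y_i and no point strictly between), one has δ_Z(y_k) ≤ k. (The
published statement also allows y'_i = y_{i+1}. In that generality the bound needs catenarity: for a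
Noetherian local domain of dimension 3 having a saturated chain of primes (0) ⊂ 𝔭 ⊂ 𝔪 of length 2,
with Z the closed point and the pattern y_0 = 𝔪, y'_0 = y_1 = 𝔭, y'_1 = y_2 = (0), one has k = 2 but
δ_Z((0)) = 3. The published proof handles nontrivial specializations y'_i ⤳ y_{i+1}, for which the
closures of the y_i and y'_i form a system of value k, and reduces to that case by shortening the
chain, which does not preserve immediacy; this row states the case the proof establishes.) -/
theorem result (Y : Scheme.{u}) [IsNoetherian Y] (Z : Set Y) (hZ : IsClosed Z) (k : ℕ) (y : Fin (k + 1) → Y) (y' : Fin k → Y) (h0 : y 0 ∈ Z) (hdown : ∀ i : Fin k, y' i ⤳ y i.castSucc ∧ y' i ≠ y i.castSucc ∧ ∀ z : Y, y' i ⤳ z → z ⤳ y i.castSucc → z = y' i ∨ z = y i.castSucc) (hup : ∀ i : Fin k, y' i ⤳ y i.succ ∧ y' i ≠ y i.succ) : Algz.deltaZ Z (y (Fin.last k)) ≤ k := by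
  classical
  let w : Fin (k + 1) → Y := Fin.snoc (α := fun _ => ↥Y) y' (y (Fin.last k))
  have hw1 : ∀ j : Fin k, w j.castSucc = y' j := fun j => Fin.snoc_castSucc (α := fun _ => ↥Y) _ _ _
  have hw2 : w (Fin.last k) = y (Fin.last k) := Fin.snoc_last (α := fun _ => ↥Y) _ _
  let S : Algz.DSystem Z (y (Fin.last k)) k :=
    { v := y
      w := w
      spec := by
        intro i
        refine Fin.lastCases ?_ (fun j => ?_) i
        · rw [hw2]
        · rw [hw1]; exact (hdown j).1
      spec_succ := by
        intro j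
        rw [hw1]; exact (hup j).1
      start_mem := h0
      last_eq := hw2 }
  have hS : S.delta ≤ k := by
    apply delta_le_of_bounds
    · intro j
      have e : S.c j.castSucc = Algz.codimPt (y' j) (y j.castSucc) (hdown j).1 := by
        change Algz.codimPt (w j.castSucc) (y j.castSucc) _ = _
        exact Groth.Agent.Lib.Helper23.DeltaZ.codimPt_congr _ (hw1 j) rfl _
      rw [e]
      apply Groth.Agent.Lib.Helper23.DeltaZ.codimPt_le_one
      intro z hz1 hz2
      rcases (hdown j).2.2 z hz1 hz2 with h | h
      · left; rw [h]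
      · right; rw [h]
    · have e : S.c (Fin.last k) = Algz.codimPt (y (Fin.last k)) (y (Fin.last k)) specializes_rfl := by
        change Algz.codimPt (w (Fin.last k)) (y (Fin.last k)) _ = _
        exact Groth.Agent.Lib.Helper23.DeltaZ.codimPt_congr _ hw2 rfl _
      rw [e]
      exact Groth.Agent.Lib.Helper23.DeltaZ.codimPt_self _ _
    · intro j
      have e : S.b j = Algz.codimPt (y' j) (y j.succ) (hup j).1 := by
        change Algz.codimPt (w j.castSucc) (y j.succ) _ = _
        exact Groth.Agent.Lib.Helper23.DeltaZ.codimPt_congr _ (hw1 j) rfl _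
      rw [e]
      apply Groth.Agent.Lib.Helper23.DeltaZ.one_le_codimPt
      intro hback
      exact (hup j).2 ((hup j).1.antisymm hback).eq
  exact (iInf_le_of_le k (iInf_le _ S)).trans hS

end Groth.Agent.S8816
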