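import Groth.Statements.S8817
-- import your own Groth.Agent.* helpers here

set_option autoImplicit false
universe u
open CategoryTheory AlgebraicGeometry
open Algz

namespace Groth.Agent.S8817

theorem codimPt_openEmbedding {X Y : Type u} [TopologicalSpace X] [TopologicalSpace Y]
    (f : X → Y) (hf : Topology.IsOpenEmbedding f) (w v : X) (h : w ⤳ v) (h' : f w ⤳ f v) :
    Algz.codimPt (f w) (f v) h' = Algz.codimPt w v h := by
  unfold Algz.codimPt
  let F : Set.Ici (Specialization.toEquiv v) → Set.Ici (Specialization.toEquiv (f v)) :=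
    fun x => ⟨Specialization.toEquiv (f (Specialization.ofEquiv x.1)),
      Specialization.toEquiv_le_toEquiv.mpr (Specializes.map x.2 hf.continuous)⟩
  have hle : ∀ a b : Set.Ici (Specialization.toEquiv v), F a ≤ F b ↔ a ≤ b := by
    intro a b
    change f (Specialization.ofEquiv b.1) ⤳ f (Specialization.ofEquiv a.1) ↔
      Specialization.ofEquiv b.1 ⤳ Specialization.ofEquiv a.1
    exact hf.isInducing.specializes_iff
  have hmono : StrictMono F := by
    intro a b hab
    rw [lt_iff_le_not_ge] at hab ⊢
    exact ⟨(hle a b).mpr hab.1, fun hba => hab.2 ((hle b a).mp hba)⟩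
  have key := Order.height_eq_of_strictMono F hmono (by
    intro a b hb
    have hbv : Specialization.ofEquiv b.1 ⤳ f v := b.2
    have hmem : Specialization.ofEquiv b.1 ∈ Set.range f :=
      hbv.mem_open hf.isOpen_range ⟨v, rfl⟩
    obtain ⟨x, hx⟩ := hmem
    have hxv : x ⤳ v := by
      rw [← hf.isInducing.specializes_iff, hx]; exact hbv
    let a' : Set.Ici (Specialization.toEquiv v) :=
      ⟨Specialization.toEquiv x, Specialization.toEquiv_le_toEquiv.mpr hxv⟩
    have ha' : F a' = b := by
      apply Subtype.ext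
      change Specialization.toEquiv (f x) = b.1
      rw [hx]; rfl
    refine ⟨a', ?_, ha'⟩
    rw [← ha'] at hb
    rw [lt_iff_le_not_ge] at hb ⊢
    exact ⟨(hle _ _).mp hb.1, fun hba => hb.2 ((hle _ _).mpr hba)⟩)
    ⟨Specialization.toEquiv w, Specialization.toEquiv_le_toEquiv.mpr h⟩
  exact key.symm

/-- Push a system forward along an open embedding. -/
def pushSys {X Y : Type u} [TopologicalSpace X] [TopologicalSpace Y]
    (f : X → Y) (hf : Continuous f) (Z : Set Y) (y : X) (k : ℕ)
    (S : Algz.DSystem (f ⁻¹' Z) y k) : Algz.DSystem Z (f y) k where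
  v := fun i => f (S.v i)
  w := fun i => f (S.w i)
  spec := fun i => (S.spec i).map hf
  spec_succ := fun i => (S.spec_succ i).map hf
  start_mem := S.start_mem
  last_eq := congrArg f S.last_eq

theorem pushSys_delta {X Y : Type u} [TopologicalSpace X] [TopologicalSpace Y]
    (f : X → Y) (hf : Topology.IsOpenEmbedding f) (Z : Set Y) (y : X) (k : ℕ)
    (S : Algz.DSystem (f ⁻¹' Z) y k) :
    (pushSys f hf.continuous Z y k S).delta = S.delta := by
  unfold Algz.DSystem.delta
  have hc : ∀ j, (pushSys f hf.continuous Z y k S).c j = S.c j := fun j =>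
    codimPt_openEmbedding f hf _ _ _ _
  have hb : ∀ j, (pushSys f hf.continuous Z y k S).b j = S.b j := fun j =>
    codimPt_openEmbedding f hf _ _ _ _
  simp only [hc, hb]

theorem deltaZ_le_of_openEmbedding {X Y : Type u} [TopologicalSpace X] [TopologicalSpace Y]
    (f : X → Y) (hf : Topology.IsOpenEmbedding f) (Z : Set Y) (y : X) :
    Algz.deltaZ Z (f y) ≤ Algz.deltaZ (f ⁻¹' Z) y := by
  unfold Algz.deltaZ
  refine le_iInf fun k => le_iInf fun S => ?_
  rw [← pushSys_delta f hf Z y k S]
  exact iInf_le_of_le k (iInf_le _ _)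


/-- Let Y be a Noetherian scheme, Z ⊆ Y a closed subset and Y' ⊆ Y an open subscheme. For a point y' of
Y' the distance function of Y' relative to Y' ∩ Z at y' is at least the distance function of Y
relative to Z at y'. -/
theorem result (Y : Scheme.{u}) [IsNoetherian Y] (Z : Set Y) (hZ : IsClosed Z) (Y' : Y.Opens) (y' : (↑Y' : Scheme.{u})) : Algz.deltaZ Z (Y'.ι.base y') ≤ Algz.deltaZ ((fun x : (↑Y' : Scheme.{u}) => Y'.ι.base x) ⁻¹' Z) y' := by
  exact deltaZ_le_of_openEmbedding (fun x : (↑Y' : Scheme.{u}) => Y'.ι.base x)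
    Y'.ι.isOpenEmbedding Z y'

end Groth.Agent.S8817
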