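import Groth.Statements.S8819
import Mathlib

set_option autoImplicit false
universe u
open scoped BigOperators
open LocCoh

namespace Groth.Agent.S8819

section Helpers

open Classical

variable {A : Type u} [CommRing A] {r : ℕ} (I : Ideal A) (c : ℕ) (φ : Fin r → (↥(I ^ c) →ₗ[A] A))

/-- total extension of `φ_j` by zero. -/
noncomputable def ψ (j : Fin r) (x : A) : A := if h : x ∈ I ^ c then φ j ⟨x, h⟩ else 0

theorem ψ_of_mem (j : Fin r) {x : A} (h : x ∈ I ^ c) : ψ I c φ j x = φ j ⟨x, h⟩ := dif_pos h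

theorem ψ_add (j : Fin r) {x y : A} (hx : x ∈ I ^ c) (hy : y ∈ I ^ c) :
    ψ I c φ j (x + y) = ψ I c φ j x + ψ I c φ j y := by
  rw [ψ_of_mem I c φ j hx, ψ_of_mem I c φ j hy, ψ_of_mem I c φ j (Ideal.add_mem _ hx hy),
    ← map_add]
  rfl

theorem ψ_mul (j : Fin r) (a : A) {x : A} (hx : x ∈ I ^ c) :
    ψ I c φ j (a * x) = a * ψ I c φ j x := by
  rw [ψ_of_mem I c φ j hx, ψ_of_mem I c φ j (Ideal.mul_mem_left _ a hx), ← smul_eq_mul a (φ j _),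
    ← map_smul]
  rfl

theorem ψ_mem (j : Fin r) {m : ℕ} {x : A} (hx : x ∈ I ^ (m + c)) :
    ψ I c φ j x ∈ I ^ m ∧ x ∈ I ^ c := by
  rw [pow_add] at hx
  refine Submodule.mul_induction_on hx ?_ ?_
  · intro a ha b hb
    refine ⟨?_, Ideal.mul_mem_left _ a hb⟩
    rw [ψ_mul I c φ j a hb]
    exact Ideal.mul_mem_right _ _ ha
  · rintro x y ⟨hx1, hx2⟩ ⟨hy1, hy2⟩
    refine ⟨?_, Ideal.add_mem _ hx2 hy2⟩
    rw [ψ_add I c φ j hx2 hy2]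
    exact Ideal.add_mem _ hx1 hy1

theorem ψ_mem' (j : Fin r) {n : ℕ} {x : A} (hx : x ∈ I ^ ((n + 1) * c)) :
    ψ I c φ j x ∈ I ^ (n * c) ∧ x ∈ I ^ c := by
  rw [Nat.succ_mul] at hx
  exact ψ_mem I c φ j hx

/-- the graded map, defined recursively. -/
noncomputable def Φ : ℕ → A → MvPolynomial (Fin r) A
  | 0, g => MvPolynomial.C g
  | n + 1, g => ∑ j, Φ n (ψ I c φ j g) * MvPolynomial.X j

theorem Φ_zero (g : A) : Φ I c φ 0 g = MvPolynomial.C g := rfl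

theorem Φ_succ (n : ℕ) (g : A) :
    Φ I c φ (n + 1) g = ∑ j, Φ I c φ n (ψ I c φ j g) * MvPolynomial.X j := rfl

theorem Φ_add : ∀ n : ℕ, ∀ g ∈ I ^ (n * c), ∀ h ∈ I ^ (n * c),
    Φ I c φ n (g + h) = Φ I c φ n g + Φ I c φ n h := by
  intro n
  induction n with
  | zero =>
    intro g _ h _
    rw [Φ_zero, Φ_zero, Φ_zero, map_add]
  | succ n ih =>
    intro g hg h hh
    rw [Φ_succ, Φ_succ, Φ_succ, ← Finset.sum_add_distrib]
    refine Finset.sum_congr rfl (fun j _ => ?_)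
    obtain ⟨hg1, hg2⟩ := ψ_mem' I c φ j hg
    obtain ⟨hh1, hh2⟩ := ψ_mem' I c φ j hh
    rw [ψ_add I c φ j hg2 hh2, ih _ hg1 _ hh1, add_mul]

theorem Φ_smul : ∀ (n : ℕ) (a : A), ∀ g ∈ I ^ (n * c),
    Φ I c φ n (a * g) = a • Φ I c φ n g := by
  intro n
  induction n with
  | zero =>
    intro a g _
    rw [Φ_zero, Φ_zero, map_mul, MvPolynomial.smul_eq_C_mul]
  | succ n ih =>
    intro a g hg
    rw [Φ_succ, Φ_succ, Finset.smul_sum]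
    refine Finset.sum_congr rfl (fun j _ => ?_)
    obtain ⟨hg1, hg2⟩ := ψ_mem' I c φ j hg
    rw [ψ_mul I c φ j a hg2, ih a _ hg1, smul_mul_assoc]

theorem Φ_homog : ∀ (n : ℕ) (g : A), (Φ I c φ n g).IsHomogeneous n := by
  intro n
  induction n with
  | zero =>
    intro g
    exact MvPolynomial.isHomogeneous_C _ _
  | succ n ih =>
    intro g
    rw [Φ_succ]
    refine MvPolynomial.IsHomogeneous.sum _ _ _ (fun j _ => ?_)
    exact (ih _).mul (MvPolynomial.isHomogeneous_X _ _)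

theorem Φ_mul : ∀ (m n : ℕ), ∀ g ∈ I ^ (n * c), ∀ h ∈ I ^ (m * c),
    Φ I c φ (n + m) (g * h) = Φ I c φ n g * Φ I c φ m h := by
  intro m
  induction m with
  | zero =>
    intro n g hg h _
    rw [Nat.add_zero, Φ_zero, mul_comm g h, Φ_smul I c φ n h g hg, MvPolynomial.smul_eq_C_mul,
      mul_comm]
  | succ m ih =>
    intro n g hg h hh
    change Φ I c φ ((n + m) + 1) (g * h) = _
    rw [Φ_succ, Φ_succ, Finset.mul_sum]
    refine Finset.sum_congr rfl (fun j _ => ?_)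
    obtain ⟨hh1, hh2⟩ := ψ_mem' I c φ j hh
    rw [ψ_mul I c φ j g hh2, ih n g hg _ hh1, mul_assoc]

theorem Φ_one (g : A) (hg : g ∈ I ^ c) :
    Φ I c φ 1 g = ∑ j, MvPolynomial.C (φ j ⟨g, hg⟩) * MvPolynomial.X j := by
  change Φ I c φ (0 + 1) g = _
  rw [Φ_succ]
  refine Finset.sum_congr rfl (fun j _ => ?_)
  rw [Φ_zero, ψ_of_mem I c φ j hg]

theorem Φ_aeval (f : Fin r → A) (hφ : ∀ x : ↥(I ^ c), (x : A) = ∑ j, f j * φ j x) :
    ∀ n : ℕ, ∀ g ∈ I ^ (n * c), MvPolynomial.aeval f (Φ I c φ n g) = g := by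
  intro n
  induction n with
  | zero =>
    intro g _
    rw [Φ_zero, MvPolynomial.aeval_C]
    rfl
  | succ n ih =>
    intro g hg
    rw [Φ_succ, map_sum]
    have hgc : g ∈ I ^ c :=
      Ideal.pow_le_pow_right (Nat.le_mul_of_pos_left c (Nat.succ_pos n)) hg
    have h1 : ∀ j : Fin r, MvPolynomial.aeval f (Φ I c φ n (ψ I c φ j g) * MvPolynomial.X j) =
        f j * φ j ⟨g, hgc⟩ := by
      intro j
      rw [map_mul, MvPolynomial.aeval_X, ih _ (ψ_mem' I c φ j hg).1, ψ_of_mem I c φ j hgc, mul_comm]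
    rw [Finset.sum_congr rfl (fun j _ => h1 j)]
    exact (hφ ⟨g, hgc⟩).symm

theorem Φ_uniq (Ψ : ℕ → A → MvPolynomial (Fin r) A)
    (hadd : ∀ n : ℕ, ∀ g ∈ I ^ (n * c), ∀ h ∈ I ^ (n * c), Ψ n (g + h) = Ψ n g + Ψ n h)
    (hmul : ∀ n m : ℕ, ∀ g ∈ I ^ (n * c), ∀ h ∈ I ^ (m * c), Ψ (n + m) (g * h) = Ψ n g * Ψ m h)
    (hzero : ∀ a : A, Ψ 0 a = MvPolynomial.C a)
    (hone : ∀ (g : A) (hg : g ∈ I ^ c),
      Ψ 1 g = ∑ j, MvPolynomial.C (φ j ⟨g, hg⟩) * MvPolynomial.X j) :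
    ∀ n : ℕ, ∀ g ∈ I ^ (n * c), Ψ n g = Φ I c φ n g := by
  intro n
  induction n with
  | zero =>
    intro g _
    rw [hzero, Φ_zero]
  | succ n ih =>
    intro g hg
    have hg' : g ∈ I ^ (n * c) * I ^ c := by
      rw [← pow_add, ← Nat.succ_mul]
      exact hg
    have key : g ∈ I ^ ((n + 1) * c) ∧ Ψ (n + 1) g = Φ I c φ (n + 1) g := by
      refine Submodule.mul_induction_on hg' ?_ ?_
      · intro a ha b hb
        have hb1 : b ∈ I ^ (1 * c) := by rwa [one_mul]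
        have hab : a * b ∈ I ^ ((n + 1) * c) := by
          rw [Nat.succ_mul, pow_add]
          exact Ideal.mul_mem_mul ha hb
        refine ⟨hab, ?_⟩
        rw [hmul n 1 a ha b hb1, Φ_mul I c φ 1 n a ha b hb1, ih a ha, hone b hb, Φ_one I c φ b hb]
      · rintro x y ⟨hx1, hx2⟩ ⟨hy1, hy2⟩
        refine ⟨Ideal.add_mem _ hx1 hy1, ?_⟩
        rw [hadd _ x hx1 y hy1, Φ_add I c φ _ x hx1 y hy1, hx2, hy2]
    exact key.2

end Helpers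

/-- Let A be a Noetherian ring, f_1, …, f_r ∈ A and I = (f_1, …, f_r) with cd(A, I) = 1; let c ≥ 1 and
let φ_j : I^c → A be A-linear maps with x = Σ_j f_j φ_j(x) for all x ∈ I^c. Under these assumptions,
exactly one homomorphism of graded A-algebras, from ⊕_{n ≥ 0} I^{nc} into the polynomial ring A[T_1,
…, T_r], exists that sends each g ∈ I^c to Σ_j φ_j(g) T_j; call it Φ. Here Φ is encoded by functions
Φ_n : A → A[T_1, …, T_r] whose values on I^{nc} are A-linear, homogeneous of degree n,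
multiplicative (Φ_{n+m}(gh) = Φ_n(g)Φ_m(h)), with Φ_0 the structure map and Φ_1 as prescribed;
uniqueness is asserted for the values on the I^{nc}. Moreover substituting T_j ↦ f_j in Φ_n(g) gives
back g for every g ∈ I^{nc}. -/
theorem result (A : Type u) [CommRing A] [IsNoetherianRing A] (r : ℕ) (f : Fin r → A) (I : Ideal A) (hI : I = Ideal.span (Set.range f)) (h1 : LocCoh.CdLE A I 1) (h0 : ¬ LocCoh.CdLE A I 0) (c : ℕ) (hc : 1 ≤ c) (φ : Fin r → (↥(I ^ c) →ₗ[A] A)) (hφ : ∀ x : ↥(I ^ c), (x : A) = ∑ j, f j * φ j x) : ∃ Φ : ℕ → A → MvPolynomial (Fin r) A, (((∀ n : ℕ, ∀ g ∈ I ^ (n * c), ∀ h ∈ I ^ (n * c), Φ n (g + h) = Φ n g + Φ n h) ∧ (∀ (n : ℕ) (a : A), ∀ g ∈ I ^ (n * c), Φ n (a * g) = a • Φ n g) ∧ (∀ n : ℕ, ∀ g ∈ I ^ (n * c), (Φ n g).IsHomogeneous n) ∧ (∀ n m : ℕ, ∀ g ∈ I ^ (n * c), ∀ h ∈ I ^ (m * c), Φ (n + m) (g * h) = Φ n g * Φ m h) ∧ (∀ a : A, Φ 0 a =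 MvPolynomial.C a) ∧ (∀ (g : A) (hg : g ∈ I ^ c), Φ 1 g = ∑ j, MvPolynomial.C (φ j ⟨g, hg⟩) * MvPolynomial.X j)) ∧ ∀ n : ℕ, ∀ g ∈ I ^ (n * c), MvPolynomial.aeval f (Φ n g) = g) ∧ ∀ Ψ : ℕ → A → MvPolynomial (Fin r) A, ((∀ n : ℕ, ∀ g ∈ I ^ (n * c), ∀ h ∈ I ^ (n * c), Ψ n (g + h) = Ψ n g + Ψ n h) ∧ (∀ (n : ℕ) (a : A), ∀ g ∈ I ^ (n * c), Ψ n (a * g) = a • Ψ n g) ∧ (∀ n : ℕ, ∀ g ∈ I ^ (n * c), (Ψ n g).IsHomogeneous n) ∧ (∀ n m : ℕ, ∀ g ∈ I ^ (n * c), ∀ h ∈ I ^ (m * c), Ψ (n + m) (g * h) = Ψ n g * Ψ m h) ∧ (∀ a : A, Ψ 0 a = MvPolynomial.C a) ∧ (∀ (g : A) (hg : g ∈ I ^ c), Ψ 1 g = ∑ j, MvPolynomial.C (φ j ⟨g, hg⟩) * MvPolynomial.X j)) → ∀ n : ℕ, ∀ g ∈ I ^ (n * c), Ψ n g = Φ n g := by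
  refine ⟨Φ I c φ, ⟨⟨Φ_add I c φ, Φ_smul I c φ, fun n g _ => Φ_homog I c φ n g,
    fun n m g hg h hh => Φ_mul I c φ m n g hg h hh, Φ_zero I c φ, Φ_one I c φ⟩,
    Φ_aeval I c φ f hφ⟩, ?_⟩
  rintro Ψ ⟨hadd, -, -, hmul, hzero, hone⟩
  exact Φ_uniq I c φ Ψ hadd hmul hzero hone

end Groth.Agent.S8819
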