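import Groth.Statements.S8821
import Mathlib
import Groth.Prelude.Def_KLin
import Groth.Prelude.Def_ega3

set_option autoImplicit false
universe u
open CategoryTheory AlgebraicGeometry
open Formal2

namespace Groth.Agent.S8821

section helpers
open CategoryTheory CategoryTheory.Limits AlgebraicGeometry

variable {A : Type u} [CommRing A] {X : Scheme.{u}} [X.Over (Spec (CommRingCat.of A))]

lemma smulMod_naturality {M N : X.Modules} (h : M ⟶ N) (a : A) :
    Formal.smulMod A M a ≫ h = h ≫ Formal.smulMod A N a := by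
  unfold Formal.smulMod
  exact (KLin.comp_smulModΓ h _).symm

lemma ι_smulFamily (J : Ideal A) (F : X.Modules) (a : J) :
    Sigma.ι (fun _ : J => F) a ≫ Formal.smulFamily J F = Formal.smulMod A F (a : A) := by
  simp [Formal.smulFamily]

lemma smulFamily_comp_eq_zero_iff (f : A) (n : ℕ) (F N : X.Modules) (h : F ⟶ N) :
    Formal.smulFamily (Ideal.span ({f} : Set A) ^ n) F ≫ h = 0 ↔
      Formal.smulMod A F (f ^ n) ≫ h = 0 := by
  constructor
  · intro H
    have hmem : f ^ n ∈ Ideal.span ({f} : Set A) ^ n :=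
      Ideal.pow_mem_pow (Ideal.mem_span_singleton_self f) n
    rw [← ι_smulFamily (Ideal.span ({f} : Set A) ^ n) F ⟨f ^ n, hmem⟩, Category.assoc, H, comp_zero]
  · intro H
    apply Sigma.hom_ext
    intro a
    rw [comp_zero, ← Category.assoc, ι_smulFamily]
    obtain ⟨r, hr⟩ : ∃ r, (a : A) = f ^ n * r := by
      have h' : (a : A) ∈ Ideal.span ({f ^ n} : Set A) := by
        rw [← Ideal.span_singleton_pow]; exact a.2
      obtain ⟨r, hr⟩ := Ideal.mem_span_singleton'.1 h'
      exact ⟨r, by rw [← hr, mul_comm]⟩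
    rw [hr, CohIII.smulMod_mul, Category.assoc, H, comp_zero]

lemma smulMod_pow_comp_modPowπ (f : A) (n : ℕ) (F : X.Modules) :
    Formal.smulMod A F (f ^ n) ≫ Formal.modPowπ (Ideal.span ({f} : Set A)) n F = 0 :=
  (smulFamily_comp_eq_zero_iff f n F _ _).1 (cokernel.condition _)

instance (I : Ideal A) (n : ℕ) (F : X.Modules) : Epi (Formal.modPowπ I n F) := by
  unfold Formal.modPowπ; exact coequalizer.π_epi

noncomputable def isColimitModPowπ (f : A) (n : ℕ) (F : X.Modules) :
    IsColimit (CokernelCofork.ofπ (Formal.modPowπ (Ideal.span ({f} : Set A)) n F)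
      (smulMod_pow_comp_modPowπ f n F)) :=
  CokernelCofork.IsColimit.ofπ' _ _ fun k hk =>
    ⟨cokernel.desc _ k ((smulFamily_comp_eq_zero_iff f n F _ k).2 hk), cokernel.π_desc _ _ _⟩

lemma refine_modPowπ (f : A) (n : ℕ) (F : X.Modules) {T : X.Modules} (y : T ⟶ F)
    (hy : y ≫ Formal.modPowπ (Ideal.span ({f} : Set A)) n F = 0) :
    ∃ (T' : X.Modules) (ρ : T' ⟶ T) (_ : Epi ρ) (z : T' ⟶ F),
      ρ ≫ y = z ≫ Formal.smulMod A F (f ^ n) :=
  (CokernelCofork.IsColimit.comp_π_eq_zero_iff_up_to_refinements (isColimitModPowπ f n F) y).1 hy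

lemma smulMod_pow_succ (f : A) (n : ℕ) (F : X.Modules) :
    Formal.smulMod A F (f ^ (n + 1)) = Formal.smulMod A F f ≫ Formal.smulMod A F (f ^ n) := by
  rw [pow_succ, CohIII.smulMod_mul]

lemma mono_smulMod_pow (f : A) (F : X.Modules) (hF : Mono (Formal.smulMod A F f)) (n : ℕ) :
    Mono (Formal.smulMod A F (f ^ (n + 1))) := by
  induction n with
  | zero => rw [zero_add, pow_one]; exact hF
  | succ k ih =>
    rw [smulMod_pow_succ]
    exact mono_comp _ _

end helpers


/-- Implication (4) ⇒ (2), for an O_X-module over a base ring A and f ∈ A. Let X be a scheme over Spec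
A, f ∈ A and F an O_X-module on which multiplication by f is a monomorphism. Then for every n ≥ 1
there is a monomorphism i : F/fF → F/f^{n+1}F through which multiplication by f^n on F/f^{n+1}F
factors (projection to F/fF followed by i), and F/fF → F/f^{n+1}F → F/f^nF, with second map the
transition map, is a short exact sequence. (Stated for schemes; the published statement is for
ringed spaces.) -/
theorem result (A : Type u) [CommRing A] (X : Scheme.{u}) [X.Over (Spec (CommRingCat.of A))] (f : A) (F : X.Modules) (hF : Mono (Formal.smulMod A F f)) (n : ℕ) (hn : 1 ≤ n) : ∃ i : Formal.modPow (Ideal.span ({f} : Set A)) 1 F ⟶ Formal.modPow (Ideal.span ({f} : Set A)) (n + 1) F, Mono i ∧ Formal2.modPowLE (Ideal.span ({f} : Set A)) (Nat.le_add_left 1 n) F ≫ i = Formal.smulMod A (Formal.modPow (Ideal.span ({f} : Set A)) (n + 1) F) (f ^ n) ∧ ∃ w : i ≫ Formal.modPowTrans (Ideal.span ({f} : Set A)) n F = 0, (ShortComplex.mk i (Formal.modPowTrans (Ideal.span ({f} : Set A)) n F) w).ShortExact := by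
  classical
  have hq1 : Formal.smulMod A F f ≫ Formal.modPowπ (Ideal.span ({f} : Set A)) 1 F = 0 := by
    have := smulMod_pow_comp_modPowπ f 1 F
    rwa [pow_one] at this
  have hi0 : Formal.smulFamily (Ideal.span ({f} : Set A) ^ 1) F ≫
      (Formal.smulMod A F (f ^ n) ≫ Formal.modPowπ (Ideal.span ({f} : Set A)) (n + 1) F) = 0 := by
    rw [smulFamily_comp_eq_zero_iff, pow_one, ← Category.assoc, ← smulMod_pow_succ]
    exact smulMod_pow_comp_modPowπ f (n + 1) F
  let i : Formal.modPow (Ideal.span ({f} : Set A)) 1 F ⟶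
      Formal.modPow (Ideal.span ({f} : Set A)) (n + 1) F :=
    Limits.cokernel.desc (Formal.smulFamily (Ideal.span ({f} : Set A) ^ 1) F)
      (Formal.smulMod A F (f ^ n) ≫ Formal.modPowπ (Ideal.span ({f} : Set A)) (n + 1) F) hi0
  have hi : Formal.modPowπ (Ideal.span ({f} : Set A)) 1 F ≫ i =
      Formal.smulMod A F (f ^ n) ≫ Formal.modPowπ (Ideal.span ({f} : Set A)) (n + 1) F :=
    Limits.cokernel.π_desc _ _ _
  obtain ⟨m, rfl⟩ : ∃ m, n = m + 1 := ⟨n - 1, by omega⟩
  haveI hmonoμ : Mono (Formal.smulMod A F (f ^ (m + 1))) := mono_smulMod_pow f F hF m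
  have hmono : Mono i := by
    rw [Preadditive.mono_iff_cancel_zero]
    intro T x hx
    obtain ⟨T', ρ, hρ, y, hy⟩ :=
      surjective_up_to_refinements_of_epi (Formal.modPowπ (Ideal.span ({f} : Set A)) 1 F) x
    have h1 : (y ≫ Formal.smulMod A F (f ^ (m + 1))) ≫
        Formal.modPowπ (Ideal.span ({f} : Set A)) (m + 1 + 1) F = 0 := by
      rw [Category.assoc, ← hi, ← Category.assoc, ← hy, Category.assoc, hx, Limits.comp_zero]
    obtain ⟨T'', ρ', hρ', z, hz⟩ := refine_modPowπ f (m + 1 + 1) F _ h1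
    rw [smulMod_pow_succ f (m + 1), ← Category.assoc, ← Category.assoc,
      cancel_mono (Formal.smulMod A F (f ^ (m + 1)))] at hz
    rw [← cancel_epi ρ, ← cancel_epi ρ', Limits.comp_zero, Limits.comp_zero, hy, ← Category.assoc, hz,
      Category.assoc, hq1, Limits.comp_zero]
  refine ⟨i, hmono, ?_, ?_⟩
  · rw [← cancel_epi (Formal.modPowπ (Ideal.span ({f} : Set A)) (m + 1 + 1) F),
      ← Category.assoc, Formal2.modPowπ_modPowLE, hi, smulMod_naturality]
  · have w : i ≫ Formal.modPowTrans (Ideal.span ({f} : Set A)) (m + 1) F = 0 := by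
      rw [← cancel_epi (Formal.modPowπ (Ideal.span ({f} : Set A)) 1 F), ← Category.assoc, hi,
        Category.assoc, Formal.modPowπ_trans, Limits.comp_zero]
      exact smulMod_pow_comp_modPowπ f (m + 1) F
    refine ⟨w, ?_⟩
    have hepi : Epi (Formal.modPowTrans (Ideal.span ({f} : Set A)) (m + 1) F) := by
      haveI : Epi (Formal.modPowπ (Ideal.span ({f} : Set A)) (m + 1 + 1) F ≫
          Formal.modPowTrans (Ideal.span ({f} : Set A)) (m + 1) F) := by
        rw [Formal.modPowπ_trans]; infer_instance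
      exact epi_of_epi (Formal.modPowπ (Ideal.span ({f} : Set A)) (m + 1 + 1) F) _
    have hex : (ShortComplex.mk i (Formal.modPowTrans (Ideal.span ({f} : Set A)) (m + 1) F)
        w).Exact := by
      rw [ShortComplex.exact_iff_exact_up_to_refinements]
      intro T x hx
      dsimp at x hx ⊢
      obtain ⟨T', ρ, hρ, y, hy⟩ := surjective_up_to_refinements_of_epi
        (Formal.modPowπ (Ideal.span ({f} : Set A)) (m + 1 + 1) F) x
      have h1 : y ≫ Formal.modPowπ (Ideal.span ({f} : Set A)) (m + 1) F = 0 := by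
        rw [← Formal.modPowπ_trans, ← Category.assoc, ← hy, Category.assoc, hx, Limits.comp_zero]
      obtain ⟨T'', ρ', hρ', z, hz⟩ := refine_modPowπ f (m + 1) F _ h1
      refine ⟨T'', ρ' ≫ ρ, epi_comp _ _,
        z ≫ Formal.modPowπ (Ideal.span ({f} : Set A)) 1 F, ?_⟩
      rw [Category.assoc, hy, ← Category.assoc, hz, Category.assoc, Category.assoc, hi]
    exact { exact := hex, mono_f := hmono, epi_g := hepi }

end Groth.Agent.S8821
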