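import Groth.Statements.S8833
import Groth.Agent.S8819
import Groth.Agent.Lib.Helper2.SpanLift

set_option autoImplicit false
universe u
open scoped BigOperators TensorProduct
open LocCoh

namespace Groth.Agent.S8833

section Helpers

open Classical TensorProduct Groth.Agent.Lib.Helper2.SpanLift

variable {A : Type u} [CommRing A] {r : ℕ} (I : Ideal A) (c : ℕ) (φ : Fin r → (↥(I ^ c) →ₗ[A] A))

/-- restriction of `φ_j` to `I^c'`. -/
noncomputable def φ' (c' : ℕ) (hcc' : c ≤ c') (j : Fin r) : ↥(I ^ c') →ₗ[A] A :=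
  φ j ∘ₗ Submodule.inclusion (Ideal.pow_le_pow_right hcc')

theorem ψ'_eq (c' : ℕ) (hcc' : c ≤ c') (j : Fin r) {x : A} (hx : x ∈ I ^ c') :
    Groth.Agent.S8819.ψ I c' (φ' I c φ c' hcc') j x = Groth.Agent.S8819.ψ I c φ j x := by
  rw [Groth.Agent.S8819.ψ_of_mem _ _ _ _ hx,
    Groth.Agent.S8819.ψ_of_mem _ _ _ _ (Ideal.pow_le_pow_right hcc' hx)]
  rfl

/-- coefficient estimate for the canonical graded map. -/
theorem coeff_mem (c' : ℕ) (hcc' : c ≤ c') : ∀ (n e : ℕ) (g : A), g ∈ I ^ (n * c' + e) →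
    ∀ α : Fin r →₀ ℕ, MvPolynomial.coeff α (Groth.Agent.S8819.Φ I c' (φ' I c φ c' hcc') n g) ∈
      I ^ (n * (c' - c) + e) := by
  intro n
  induction n with
  | zero =>
    intro e g hg α
    rw [Groth.Agent.S8819.Φ_zero, MvPolynomial.coeff_C]
    rw [Nat.zero_mul, zero_add] at hg ⊢
    split_ifs
    · exact hg
    · exact Ideal.zero_mem _
  | succ n ih =>
    intro e g hg α
    rw [Groth.Agent.S8819.Φ_succ, MvPolynomial.coeff_sum]
    refine Ideal.sum_mem _ (fun j _ => ?_)
    rw [MvPolynomial.coeff_mul_X']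
    split_ifs
    · have harith : (n + 1) * c' + e = (n * c' + ((c' - c) + e)) + c := by
        rw [Nat.succ_mul]
        omega
      have hg' : g ∈ I ^ ((n * c' + ((c' - c) + e)) + c) := harith ▸ hg
      have hgc' : g ∈ I ^ c' :=
        Ideal.pow_le_pow_right (by rw [Nat.succ_mul]; omega) hg
      have h1 := (Groth.Agent.S8819.ψ_mem I c φ j hg').1
      rw [← ψ'_eq I c φ c' hcc' j hgc'] at h1
      have h2 := ih ((c' - c) + e) _ h1 (α - Finsupp.single j 1)
      have harith2 : n * (c' - c) + ((c' - c) + e) = (n + 1) * (c' - c) + e := by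
        rw [Nat.succ_mul]
        omega
      exact harith2 ▸ h2
    · exact Ideal.zero_mem _

variable {B : Type u} [CommRing B] [Algebra A B] {N : Type u} [AddCommGroup N] [Module B N]

/-- the generators of `P N`. -/
abbrev G (P : Ideal A) (N : Type u) := {p : A × N // p.1 ∈ P}

theorem key (P : Ideal A) (Φn : A → MvPolynomial (Fin r) A)
    (hsmul : ∀ (a : A), ∀ g ∈ P, Φn (a * g) = a • Φn g)
    (m : ℕ) (hcoeff : ∀ g ∈ P, ∀ α, MvPolynomial.coeff α (Φn g) ∈ I ^ m)
    (hvanish : ∀ y ∈ ((I.map (algebraMap A B)) ^ m • ⊤ : Submodule B N),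
      (∀ h ∈ P, algebraMap A B h • y = 0) → y = 0)
    (v : G P N →₀ B)
    (hv : Finsupp.linearCombination B (fun p : G P N => algebraMap A B p.1.1 • p.1.2) v = 0) :
    Finsupp.linearCombination B
      (fun p : G P N => MvPolynomial.map (algebraMap A B) (Φn p.1.1) ⊗ₜ[B] p.1.2) v = 0 := by
  let κ := TensorProduct.equivFinsuppOfBasisLeft (N := N) (MvPolynomial.basisMonomials (Fin r) B)
  let μ : (G P N →₀ B) →ₗ[B] N :=
    Finsupp.linearCombination B (fun p : G P N => algebraMap A B p.1.1 • p.1.2)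
  let ν : (G P N →₀ B) →ₗ[B] (MvPolynomial (Fin r) B ⊗[B] N) := Finsupp.linearCombination B
      (fun p : G P N => MvPolynomial.map (algebraMap A B) (Φn p.1.1) ⊗ₜ[B] p.1.2)
  apply κ.injective
  rw [map_zero]
  apply Finsupp.ext
  intro α
  let ρ : (G P N →₀ B) →ₗ[B] N := Finsupp.linearCombination B
    (fun p : G P N => algebraMap A B (MvPolynomial.coeff α (Φn p.1.1)) • p.1.2)
  have h1 : (κ (ν v)) α = ρ v := by
    have : (Finsupp.lapply α ∘ₗ κ.toLinearMap ∘ₗ ν) = ρ := by
      apply Finsupp.lhom_ext'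
      intro p
      apply LinearMap.ext_ring
      change (κ (ν (Finsupp.single p 1))) α = ρ (Finsupp.single p 1)
      have e1 : ν (Finsupp.single p 1) =
          MvPolynomial.map (algebraMap A B) (Φn p.1.1) ⊗ₜ[B] p.1.2 := by
        change Finsupp.linearCombination B _ (Finsupp.single p 1) = _
        rw [Finsupp.linearCombination_single, one_smul]
      have e2 : ρ (Finsupp.single p 1) =
          algebraMap A B (MvPolynomial.coeff α (Φn p.1.1)) • p.1.2 := by
        change Finsupp.linearCombination B _ (Finsupp.single p 1) = _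
        rw [Finsupp.linearCombination_single, one_smul]
      rw [e1, e2, TensorProduct.equivFinsuppOfBasisLeft_apply_tmul_apply, ← MvPolynomial.coeff_map]
      rfl
    exact LinearMap.congr_fun this v
  change (κ (ν v)) α = 0
  rw [h1]
  apply hvanish
  · have hr : LinearMap.range ρ ≤ ((I.map (algebraMap A B)) ^ m • ⊤ : Submodule B N) := by
      rw [Finsupp.range_linearCombination, Submodule.span_le]
      rintro _ ⟨p, rfl⟩
      refine Submodule.smul_mem_smul ?_ trivial
      rw [← Ideal.map_pow]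
      exact Ideal.mem_map_of_mem _ (hcoeff p.1.1 p.2 α)
    exact hr ⟨v, rfl⟩
  · intro h hh
    have : (algebraMap A B h) • ρ = (algebraMap A B (MvPolynomial.coeff α (Φn h))) • μ := by
      apply Finsupp.lhom_ext'
      intro p
      apply LinearMap.ext_ring
      change algebraMap A B h • ρ (Finsupp.single p 1) =
        algebraMap A B (MvPolynomial.coeff α (Φn h)) • μ (Finsupp.single p 1)
      have e2 : ρ (Finsupp.single p 1) =
          algebraMap A B (MvPolynomial.coeff α (Φn p.1.1)) • p.1.2 := by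
        change Finsupp.linearCombination B _ (Finsupp.single p 1) = _
        rw [Finsupp.linearCombination_single, one_smul]
      have e3 : μ (Finsupp.single p 1) = algebraMap A B p.1.1 • p.1.2 := by
        change Finsupp.linearCombination B _ (Finsupp.single p 1) = _
        rw [Finsupp.linearCombination_single, one_smul]
      rw [e2, e3, smul_smul, smul_smul, ← map_mul, ← map_mul]
      congr 2
      have e4 : MvPolynomial.coeff α (Φn (h * p.1.1)) = h * MvPolynomial.coeff α (Φn p.1.1) := by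
        rw [hsmul h p.1.1 p.2, MvPolynomial.coeff_smul, smul_eq_mul]
      have e5 : MvPolynomial.coeff α (Φn (p.1.1 * h)) = p.1.1 * MvPolynomial.coeff α (Φn h) := by
        rw [hsmul p.1.1 h hh, MvPolynomial.coeff_smul, smul_eq_mul]
      rw [← e4, mul_comm h p.1.1, e5, mul_comm]
    have h2 := LinearMap.congr_fun this v
    rw [LinearMap.smul_apply, LinearMap.smul_apply] at h2
    rw [h2]
    change _ • Finsupp.linearCombination B _ v = 0
    rw [hv, smul_zero]

end Helpers

section Main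

open Classical TensorProduct Groth.Agent.Lib.Helper2.SpanLift

variable {A : Type u} [CommRing A] {r : ℕ} (I : Ideal A)
variable {B : Type u} [CommRing B] [Algebra A B] {N : Type u} [AddCommGroup N] [Module B N]

theorem aeval_map_eq (f : Fin r → A) (p : MvPolynomial (Fin r) A) :
    MvPolynomial.aeval (fun j => algebraMap A B (f j)) (MvPolynomial.map (algebraMap A B) p) =
      algebraMap A B (MvPolynomial.aeval f p) := by
  induction p using MvPolynomial.induction_on with
  | C a => simp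
  | add p q hp hq => simp only [map_add, hp, hq]
  | mul_X p j hp => simp only [map_mul, hp, MvPolynomial.map_X, MvPolynomial.aeval_X]

/-- torsion vanishing from the Artin–Rees constant. -/
theorem vanish_of_AR (K : ℕ)
    (hK : ∀ y ∈ ((I.map (algebraMap A B)) ^ K • ⊤ : Submodule B N),
      (∃ t : ℕ, ∀ b ∈ (I.map (algebraMap A B)) ^ t, b • y = 0) → y = 0)
    (n t : ℕ) (y : N) (hy : y ∈ ((I.map (algebraMap A B)) ^ (n * K) • ⊤ : Submodule B N))
    (hkill : ∀ h ∈ I ^ (n * t), algebraMap A B h • y = 0) : y = 0 := by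
  rcases Nat.eq_zero_or_pos n with hn | hn
  · subst hn
    have := hkill 1 (by rw [Nat.zero_mul, pow_zero, Ideal.one_eq_top]; exact Submodule.mem_top)
    rwa [map_one, one_smul] at this
  · apply hK y
    · have hle : (I.map (algebraMap A B)) ^ (n * K) ≤ (I.map (algebraMap A B)) ^ K :=
        Ideal.pow_le_pow_right (Nat.le_mul_of_pos_left K hn)
      exact Submodule.smul_mono_left hle hy
    · refine ⟨n * t, fun b hb => ?_⟩
      rw [← Ideal.map_pow] at hb
      refine Submodule.span_induction (p := fun b _ => b • y = 0) ?_ ?_ ?_ ?_ hb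
      · rintro _ ⟨h, hh, rfl⟩
        exact hkill h hh
      · exact zero_smul _ _
      · intro b₁ b₂ _ _ e₁ e₂
        rw [add_smul, e₁, e₂, add_zero]
      · intro b₁ b₂ _ e₂
        rw [smul_eq_mul, mul_smul, e₂, smul_zero]

end Main

/-- Let A be a Noetherian ring, f_1, …, f_r ∈ A and I = (f_1, …, f_r) with cd(A, I) = 1; let c ≥ 1 and
φ_j : I^c → A be A-linear maps with x = Σ_j f_j φ_j(x) for all x ∈ I^c. Let B be a Noetherian
A-algebra and N a finite B-module. Then there is c' ≥ c with the following property. Write φ_j again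
for the restrictions of the φ_j to I^{c'} and let Φ be a graded A-algebra homomorphism from ⊕_{n ≥
0} I^{nc'} to A[T_1, …, T_r] with Φ(g) = Σ_j φ_j(g) T_j for g ∈ I^{c'} (there is exactly one; it is
encoded by functions Φ_n : A → A[T_1, …, T_r] whose values on I^{nc'} are additive, A-homogeneous,
homogeneous of degree n and multiplicative across degrees, with Φ_0 the structure map and Φ_1 as
prescribed). Then for every n there is a unique B-linear map Ψ_n from the submodule I^{nc'}N of N to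
N[T_1, …, T_r] = B[T_1, …, T_r] ⊗_B N with Ψ_n(g x) = Φ_n(g) ⊗ x for g ∈ I^{nc'} and x ∈ N; that is,
the Ψ_n form the unique graded B-module map from ⊕_n I^{nc'}N to N[T_1, …, T_r] with this property.
Moreover substituting T_j ↦ f_j after Ψ_n gives back the inclusion of I^{nc'}N into N. -/
theorem result (A : Type u) [CommRing A] [IsNoetherianRing A] (r : ℕ) (f : Fin r → A) (I : Ideal A) (hI : I = Ideal.span (Set.range f)) (h1 : LocCoh.CdLE A I 1) (h0 : ¬ LocCoh.CdLE A I 0) (c : ℕ) (hc : 1 ≤ c) (φ : Fin r → (↥(I ^ c) →ₗ[A] A)) (hφ : ∀ x : ↥(I ^ c), (x : A) = ∑ j, f j * φ j x) (B : Type u) [CommRing B] [Algebra A B] [IsNoetherianRing B] (N : Type u) [AddCommGroup N] [Module B N] [Module.Finite B N] : ∃ c' : ℕ, ∃ hcc' : c ≤ c', ∀ Φ : ℕ → A → MvPolynomial (Fin r) A, ((∀ n : ℕ, ∀ g ∈ I ^ (n * c'), ∀ h ∈ I ^ (n * c'), Φ n (g + h) = Φ n g + Φ n h) ∧ (∀ (n : ℕ) (a : A), ∀ g ∈ I ^ (n * c'), Φ n (a * g) = a • Φ n g) ∧ (∀ n : ℕ, ∀ g ∈ I ^ (n * c'), (Φ n g).IsHomogeneous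 n) ∧ (∀ n m : ℕ, ∀ g ∈ I ^ (n * c'), ∀ h ∈ I ^ (m * c'), Φ (n + m) (g * h) = Φ n g * Φ m h) ∧ (∀ a : A, Φ 0 a = MvPolynomial.C a) ∧ (∀ (g : A) (hg : g ∈ I ^ c'), Φ 1 g = ∑ j, MvPolynomial.C (φ j ⟨g, Ideal.pow_le_pow_right hcc' hg⟩) * MvPolynomial.X j)) → ∀ n : ℕ, ∃ Ψ : ↥(Submodule.span B {y : N | ∃ g ∈ I ^ (n * c'), ∃ x : N, y = algebraMap A B g • x}) →ₗ[B] (MvPolynomial (Fin r) B ⊗[B] N), (∀ (g : A) (hg : g ∈ I ^ (n * c')) (x : N), Ψ ⟨algebraMap A B g • x, Submodule.subset_span ⟨g, hg, x, rfl⟩⟩ = MvPolynomial.map (algebraMap A B) (Φ n g) ⊗ₜ[B] x) ∧ (∀ y : ↥(Submodule.span B {y : N | ∃ g ∈ I ^ (n * c'), ∃ x : N, y = algebraMap A B g • x}), TensorProduct.lift ((LinearMap.lsmul B N).comp (MvPolynomial.aeval (fun j ↦ algebraMap A B (f j))).toLinearMap) (Ψ y) = (y : N)) ∧ (∀ Ψ' : ↥(Submodule.span B {y : N | ∃ g ∈ I ^ (n * c'), ∃ x : N, y = algebraMap A B g • x}) →ₗ[B] (MvPolynomial (Fin r) B ⊗[B] N), (∀ (g : A) (hg : g ∈ I ^ (n * c')) (x : N), Ψ' ⟨algebraMap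 A B g • x, Submodule.subset_span ⟨g, hg, x, rfl⟩⟩ = MvPolynomial.map (algebraMap A B) (Φ n g) ⊗ₜ[B] x) → Ψ' = Ψ) := by
  classical
  obtain ⟨K, hK⟩ := Groth.Agent.Lib.Helper2.SpanLift.exists_pow_smul_top_disjoint_tors
    (I.map (algebraMap A B)) N
  refine ⟨c + K, Nat.le_add_right c K, ?_⟩
  rintro Φ ⟨hadd, hsmul, -, hmul, hzero, hone⟩ n
  have hcc' : c ≤ c + K := Nat.le_add_right c K
  have hφ' : ∀ x : ↥(I ^ (c + K)), (x : A) = ∑ j, f j * φ' I c φ (c + K) hcc' j x := fun x =>
    hφ ⟨x.1, Ideal.pow_le_pow_right hcc' x.2⟩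
  have huniq := Groth.Agent.S8819.Φ_uniq I (c + K) (φ' I c φ (c + K) hcc') Φ hadd hmul hzero hone
  have hcoeff : ∀ g ∈ I ^ (n * (c + K)), ∀ α, MvPolynomial.coeff α (Φ n g) ∈ I ^ (n * K) := by
    intro g hg α
    rw [huniq n g hg]
    have := coeff_mem I c φ (c + K) hcc' n 0 g (by rwa [add_zero]) α
    rwa [add_zero, Nat.add_sub_cancel_left] at this
  have haev : ∀ g ∈ I ^ (n * (c + K)), MvPolynomial.aeval f (Φ n g) = g := by
    intro g hg
    rw [huniq n g hg]
    exact Groth.Agent.S8819.Φ_aeval I (c + K) (φ' I c φ (c + K) hcc') f hφ' n g hg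
  have hvanish : ∀ y ∈ ((I.map (algebraMap A B)) ^ (n * K) • ⊤ : Submodule B N),
      (∀ h ∈ I ^ (n * (c + K)), algebraMap A B h • y = 0) → y = 0 :=
    fun y hy hkill => vanish_of_AR I K hK n (c + K) y hy hkill
  let gen : G (I ^ (n * (c + K))) N → N := fun p => algebraMap A B p.1.1 • p.1.2
  let val : G (I ^ (n * (c + K))) N → MvPolynomial (Fin r) B ⊗[B] N :=
    fun p => MvPolynomial.map (algebraMap A B) (Φ n p.1.1) ⊗ₜ[B] p.1.2
  have hS : {y : N | ∃ g ∈ I ^ (n * (c + K)), ∃ x : N, y = algebraMap A B g • x} =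
      Set.range gen := by
    ext y
    constructor
    · rintro ⟨g, hg, x, rfl⟩
      exact ⟨⟨(g, x), hg⟩, rfl⟩
    · rintro ⟨p, rfl⟩
      exact ⟨p.1.1, p.2, p.1.2, rfl⟩
  obtain ⟨Ψ, hΨ⟩ := Groth.Agent.Lib.Helper2.SpanLift.exists_linearMap_on_span (B := B) _ gen hS val
    (fun v hv => key I (I ^ (n * (c + K))) (Φ n) (fun a g hg => hsmul n a g hg) (n * K) hcoeff
      hvanish v hv)
  have hΨ' : ∀ (g : A) (hg : g ∈ I ^ (n * (c + K))) (x : N),
      Ψ ⟨algebraMap A B g • x, Submodule.subset_span ⟨g, hg, x, rfl⟩⟩ =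
        MvPolynomial.map (algebraMap A B) (Φ n g) ⊗ₜ[B] x := fun g hg x =>
    hΨ ⟨(g, x), hg⟩ ⟨g, hg, x, rfl⟩
  refine ⟨Ψ, hΨ', ?_, ?_⟩
  · intro y
    have := Groth.Agent.Lib.Helper2.SpanLift.ext_span
      ((TensorProduct.lift ((LinearMap.lsmul B N).comp
        (MvPolynomial.aeval (fun j ↦ algebraMap A B (f j))).toLinearMap)) ∘ₗ Ψ)
      (Submodule.subtype _) (by
        rintro _ ⟨g, hg, x, rfl⟩
        change TensorProduct.lift _ (Ψ ⟨algebraMap A B g • x, _⟩) = algebraMap A B g • x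
        rw [hΨ' g hg x, TensorProduct.lift.tmul]
        change MvPolynomial.aeval (fun j ↦ algebraMap A B (f j))
          (MvPolynomial.map (algebraMap A B) (Φ n g)) • x = _
        rw [aeval_map_eq, haev g hg])
    exact LinearMap.congr_fun this y
  · intro Ψ' hΨ''
    apply Groth.Agent.Lib.Helper2.SpanLift.ext_span
    rintro _ ⟨g, hg, x, rfl⟩
    rw [hΨ'' g hg x, hΨ' g hg x]

end Groth.Agent.S8833
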