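import Groth.Statements.S8835
import Groth.Agent.Lib.Helper16.RigCl1
import Groth.Agent.S8829

set_option autoImplicit false
universe u
open AdicRing

namespace Groth.Agent.S8835

lemma finite_of_jacobson {A : Type u} [CommRing A] (I : Ideal A)
    {B : Type u} [CommRing B] [Algebra A B]
    (hft : Algebra.FiniteType A (B ⧸ (I.map (algebraMap A B))))
    (hJ : IsJacobsonRing (A ⧸ I)) (m : Ideal B) (hm : m.IsMaximal)
    (hIm : I.map (algebraMap A B) ≤ m) : Module.Finite A (B ⧸ m) := by
  have hft' : Algebra.FiniteType A (B ⧸ m) :=
    Algebra.FiniteType.of_surjective (Ideal.Quotient.factorₐ A hIm)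
      (Ideal.Quotient.factor_surjective hIm)
  have hIm' : I ≤ m.comap (algebraMap A B) := Ideal.map_le_iff_le_comap.mp hIm
  let f : A ⧸ I →+* B ⧸ m := Ideal.quotientMap m (algebraMap A B) hIm'
  have hcomp : f.comp (Ideal.Quotient.mk I) = algebraMap A (B ⧸ m) := by
    ext a
    rfl
  have hfFT : f.FiniteType := by
    apply RingHom.FiniteType.of_comp_finiteType (f := Ideal.Quotient.mk I)
    rw [hcomp]
    exact RingHom.finiteType_algebraMap.mpr hft'
  letI : Field (B ⧸ m) := Ideal.Quotient.field m
  have hfin : f.Finite := RingHom.finite_iff_finiteType_of_isJacobsonRing.mpr hfFT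
  have : (algebraMap A (B ⧸ m)).Finite := by
    rw [← hcomp]
    exact hfin.comp (RingHom.Finite.of_surjective _ Ideal.Quotient.mk_surjective)
  exact RingHom.finite_algebraMap.mp this

/-- Let A be a Noetherian ring complete for the adic topology of an ideal I, and B a Noetherian
A-algebra complete for the IB-adic topology with B/IB of finite type over A (an adic morphism,
topologically of finite type, of adic Noetherian topological rings). Let q be a prime of B which is
rig-closed (IB ⊄ q and q maximal among the primes not containing IB). If A/I is a Jacobson ring,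
then the inverse image p of q in A is rig-closed: I ⊄ p and p is maximal among the primes of A not
containing I. -/
theorem result (A : Type u) [CommRing A] [IsNoetherianRing A] (I : Ideal A) [IsAdicComplete I A] (B : Type u) [CommRing B] [Algebra A B] [IsNoetherianRing B] [IsAdicComplete (I.map (algebraMap A B)) B] (hft : Algebra.FiniteType A (B ⧸ (I.map (algebraMap A B)))) (q : PrimeSpectrum B) (hq : (¬ (I.map (algebraMap A B)) ≤ q.asIdeal ∧ ∀ y : PrimeSpectrum B, q ≤ y → ¬ (I.map (algebraMap A B)) ≤ y.asIdeal → y = q)) (hJ : IsJacobsonRing (A ⧸ I)) : (¬ I ≤ (PrimeSpectrum.comap (algebraMap A B) q).asIdeal ∧ ∀ y : PrimeSpectrum A, (PrimeSpectrum.comap (algebraMap A B) q) ≤ y → ¬ I ≤ y.asIdeal → y = (PrimeSpectrum.comap (algebraMap A B) q)) := by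
  have h := (Groth.Agent.S8829.result A I B hft q hq).out 0 1
  refine h.mp ?_
  intro m hm _
  exact finite_of_jacobson I hft hJ m hm
    (Groth.Agent.Lib.Helper16.RigCl.le_of_isMaximal (I.map (algebraMap A B)) m)

end Groth.Agent.S8835
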