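import Groth.Statements.S8836
import Groth.Agent.Lib.Helper16.RigCl1

set_option autoImplicit false
universe u
open AdicRing

namespace Groth.Agent.S8836

/-- Let A be a Noetherian ring complete for the adic topology of an ideal I, and B a Noetherian
A-algebra complete for the IB-adic topology, flat over A, with B/IB of finite type over A (a flat
adic morphism, topologically of finite type, of adic Noetherian topological rings). Let p be a prime
of A which is rig-closed (I ⊄ p and p maximal among the primes not containing I). The following are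
equivalent: (1) the maximal ideal of the local ring A/p lies in the image of Spec(B/√(IB)) →
Spec(A/√I), stated as: some prime Q of B containing IB lies over a maximal ideal of A containing p;
(2) there is a rig-closed prime q of B (IB ⊄ q, q maximal among the primes not containing IB) whose
inverse image in A is p. (The published statement adds that, when these hold, A/p ⊆ B/q is a finite
extension of rings and the residue field of the local ring B/q is finite over A/√I; this is not
restated here.) -/
theorem result (A : Type u) [CommRing A] [IsNoetherianRing A] (I : Ideal A) [IsAdicComplete I A] (B : Type u) [CommRing B] [Algebra A B] [IsNoetherianRing B] [IsAdicComplete (I.map (algebraMap A B)) B] (hft : Algebra.FiniteType A (B ⧸ (I.map (algebraMap A B)))) [Module.Flat A B] (p : PrimeSpectrum A) (hp : (¬ I ≤ p.asIdeal ∧ ∀ y : PrimeSpectrum A, p ≤ y → ¬ I ≤ y.asIdeal → y = p)) : (∃ Q : PrimeSpectrum B, (I.map (algebraMap A B)) ≤ Q.asIdeal ∧ p.asIdeal ≤ (PrimeSpectrum.comap (algebraMap A B) Q).asIdeal ∧ (PrimeSpectrum.comap (algebraMap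 A B) Q).asIdeal.IsMaximal) ↔ (∃ q : PrimeSpectrum B, (¬ (I.map (algebraMap A B)) ≤ q.asIdeal ∧ ∀ y : PrimeSpectrum B, q ≤ y → ¬ (I.map (algebraMap A B)) ≤ y.asIdeal → y = q) ∧ PrimeSpectrum.comap (algebraMap A B) q = p) := by
  have hp : Groth.Agent.Lib.Helper16.RigCl.RC I p := hp
  open Groth.Agent.Lib.Helper16.RigCl in
  change _ ↔ (∃ q : PrimeSpectrum B, RC (I.map (algebraMap A B)) q ∧ PrimeSpectrum.comap (algebraMap A B) q = p)
  constructor
  · rintro ⟨Q, hIQ, hpQ, hQmax⟩
    haveI : Q.asIdeal.LiesOver (PrimeSpectrum.comap (algebraMap A B) Q).asIdeal := ⟨rfl⟩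
    obtain ⟨P, hPQ, hPprime, hPp⟩ := Ideal.exists_ideal_le_liesOver_of_le
      (p := p.asIdeal) (q := (PrimeSpectrum.comap (algebraMap A B) Q).asIdeal) Q.asIdeal hpQ
    have hPp' : P.comap (algebraMap A B) = p.asIdeal := (hPp.over).symm
    let S : Set (Ideal B) := {P' | P'.IsPrime ∧ P ≤ P' ∧ ¬ I.map (algebraMap A B) ≤ P'}
    have hS : S.Nonempty := by
      refine ⟨P, hPprime, le_refl _, ?_⟩
      intro h
      apply hp.1
      rw [← hPp']
      exact Ideal.map_le_iff_le_comap.mp h
    obtain ⟨q, ⟨hqprime, hPq, hIq⟩, hqmax⟩ :=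
      (wellFounded_gt (α := Ideal B)).has_min S hS
    refine ⟨⟨q, hqprime⟩, ⟨hIq, ?_⟩, ?_⟩
    · intro y hy hIy
      have hyS : y.asIdeal ∈ S := ⟨y.isPrime, le_trans hPq hy, hIy⟩
      have := hqmax y.asIdeal hyS
      apply PrimeSpectrum.ext
      by_contra hne
      exact this (lt_of_le_of_ne hy (fun h => hne h.symm))
    · have hle : p ≤ PrimeSpectrum.comap (algebraMap A B) ⟨q, hqprime⟩ := by
        change p.asIdeal ≤ q.comap (algebraMap A B)
        rw [← hPp']
        exact Ideal.comap_mono hPq
      have hI : ¬ I ≤ (PrimeSpectrum.comap (algebraMap A B) ⟨q, hqprime⟩).asIdeal := by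
        intro h
        exact hIq (Ideal.map_le_iff_le_comap.mpr h)
      exact hp.2 _ hle hI
  · rintro ⟨q, hq, rfl⟩
    obtain ⟨m, hm, hqm⟩ := Ideal.exists_le_maximal q.asIdeal q.isPrime.ne_top
    have hIm : I.map (algebraMap A B) ≤ m := le_of_isMaximal (I.map (algebraMap A B)) m
    refine ⟨⟨m, hm.isPrime⟩, hIm, Ideal.comap_mono hqm, ?_⟩
    haveI : (m.comap (algebraMap A B)).IsPrime := Ideal.comap_isPrime _ _
    refine isMaximal_of_lt I hp _ (lt_of_le_of_ne (Ideal.comap_mono hqm) ?_)
    intro h
    apply hp.1
    change I ≤ q.asIdeal.comap (algebraMap A B)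
    have h' : q.asIdeal.comap (algebraMap A B) = m.comap (algebraMap A B) := h
    rw [h']
    exact Ideal.map_le_iff_le_comap.mp hIm

end Groth.Agent.S8836
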