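import Groth.Statements.S8849
import Groth.Agent.Lib.Helper29.RelEffCart
import Groth.Agent.Lib.Helper29.EffCart3

set_option autoImplicit false
universe u
open CategoryTheory CategoryTheory.Limits AlgebraicGeometry TopologicalSpace
open SDiv

namespace Groth.Agent.S8849

open Groth.Agent.Lib.Helper29.EffCart Groth.Agent.Lib.Helper29.FlatExt


/-- Let f : X ⟶ S be a morphism of schemes and 𝓘 the ideal sheaf of an effective Cartier divisor D ⊆ X
with D flat over S (a relative effective Cartier divisor). If f is flat at every point of X not in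
D, then f is flat. -/
theorem result {X S : Scheme.{u}} (f : X ⟶ S) (𝓘 : X.IdealSheafData)
    (hD : BlowUp.IsEffCartierIdeal 𝓘 ∧ Flat (𝓘.subschemeι ≫ f))
    (hflat : ∀ x : ↥X, x ∉ 𝓘.support → (f.stalkMap x).hom.Flat) : Flat f := by
  rw [HasRingHomProperty.iff_exists_appLE (P := @Flat)
    (RingHom.Flat.stableUnderComposition.stableUnderCompositionWithLocalizationAway
      RingHom.Flat.holdsForLocalizationAway).1]
  intro x
  obtain ⟨_, ⟨V, hV, rfl⟩, hfxV, -⟩ :=
    S.isBasis_affineOpens.exists_subset_of_mem_open (Set.mem_univ (f x)) isOpen_univ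
  obtain ⟨W, hxW, hle, t, ht, hI⟩ := exists_affine_principal_nzd_le 𝓘 hD.1 x (f ⁻¹ᵁ V) hfxV
  refine ⟨⟨V, hV⟩, W, hxW, hle, ?_⟩
  have hle' : X.basicOpen t ≤ f ⁻¹ᵁ V := (X.basicOpen_le t).trans hle
  -- flatness on the complement of the divisor
  have hopen : (f.appLE V (X.basicOpen t) hle').hom.Flat := by
    refine flat_appLE_of_forall_stalkMap f ⟨V, hV⟩ (X.affineBasicOpen t) hle' fun y hy => ?_
    apply hflat
    have hyW : y ∈ W.1 := X.basicOpen_le t hy
    obtain ⟨q, rfl⟩ := exists_fromSpec_eq W hyW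
    intro hmem
    have h1 := (fromSpec_mem_support_iff 𝓘 W q).1 hmem
    rw [hI, Ideal.span_singleton_le_iff_mem] at h1
    exact (fromSpec_mem_basicOpen_iff W q t).1 hy h1
  letI := (f.appLE V W.1 hle).hom.toAlgebra
  have e₁ := flat_quotient_of_flat_subschemeι_comp f 𝓘 hD.2 ⟨V, hV⟩ W hle
  rw [hI] at e₁
  letI : Algebra Γ(S, V) Γ(X, X.basicOpen t) := (f.appLE V (X.basicOpen t) hle').hom.toAlgebra
  have inst := W.2.isLocalization_basicOpen t
  have : IsScalarTower Γ(S, V) Γ(X, W.1) Γ(X, X.basicOpen t) := by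
    refine IsScalarTower.of_algebraMap_eq' ?_
    exact (congrArg CommRingCat.Hom.hom
      (f.appLE_map hle (homOfLE (X.basicOpen_le t)).op)).symm
  have : Module.Flat Γ(S, V) Γ(X, X.basicOpen t) := hopen
  change Module.Flat Γ(S, V) Γ(X, W.1)
  exact flat_of_flat_quotient_of_flat_away t ht Γ(X, X.basicOpen t)

end Groth.Agent.S8849
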