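import Groth.Statements.S8854
import Mathlib

set_option autoImplicit false
universe u
open SDiv

namespace Groth.Agent.S8854

/-- Let R be a Noetherian unique factorisation domain and I ⊆ R an ideal such that every associated
prime of R/I is minimal over I (R/I has no embedded primes) and every prime minimal over I has
height 1. Then I is principal: it is generated by one element. -/
theorem result (R : Type u) [CommRing R] [IsDomain R] [IsNoetherianRing R]
    [UniqueFactorizationMonoid R] (I : Ideal R)
    (h1 : ∀ p : Ideal R, p ∈ associatedPrimes R (R ⧸ I) → p ∈ I.minimalPrimes)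
    (h2 : ∀ p : Ideal R, p ∈ I.minimalPrimes → p.height = 1) :
    ∃ f : R, I = Ideal.span {f} := by
  classical
  by_cases hI0 : I = ⊥
  · exact ⟨0, by rw [hI0]; simp⟩
  letI : StrongNormalizationMonoid R := UniqueFactorizationMonoid.strongNormalizationMonoid
  letI : NormalizedGCDMonoid R := UniqueFactorizationMonoid.toNormalizedGCDMonoid R
  obtain ⟨s, hs⟩ := (isNoetherianRing_iff_ideal_fg R).mp inferInstance I
  set g : R := s.gcd id with hg
  have hgdvd : ∀ a ∈ s, g ∣ a := fun a ha => Finset.gcd_dvd (f := id) ha
  have hg0 : g ≠ 0 := by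
    intro h0
    apply hI0
    rw [← hs, Ideal.span_eq_bot]
    intro a ha
    exact (Finset.gcd_eq_zero_iff.mp h0) a ha
  have hIle : I ≤ Ideal.span {g} := by
    rw [← hs, Ideal.span_le]
    intro a ha
    exact Ideal.mem_span_singleton.mpr (hgdvd a ha)
  -- the ideal `J = {x | g x ∈ I}`
  set J : Ideal R := Submodule.comap (LinearMap.mulLeft R g) I with hJ
  have hJmem : ∀ x, x ∈ J ↔ g * x ∈ I := fun x => Iff.rfl
  have hJtop : J = ⊤ := by
    by_contra hne
    obtain ⟨⟨P, hP⟩⟩ := Ideal.nonempty_minimalPrimes hne
    haveI hPprime : P.IsPrime := hP.1.1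
    -- P is associated to R/J
    have hPass : P ∈ associatedPrimes R (R ⧸ J) := by
      apply Module.associatedPrimes.minimalPrimes_annihilator_subset_associatedPrimes
      rw [Ideal.annihilator_quotient]
      exact hP
    -- R/J embeds into R/I
    let φ : (R ⧸ J) →ₗ[R] (R ⧸ I) := Submodule.mapQ J I (LinearMap.mulLeft R g) le_rfl
    have hφ : Function.Injective φ := by
      rw [injective_iff_map_eq_zero]
      intro x hx
      obtain ⟨x, rfl⟩ := Submodule.Quotient.mk_surjective _ x
      rw [Submodule.mapQ_apply, Submodule.Quotient.mk_eq_zero] at hx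
      rw [Submodule.Quotient.mk_eq_zero]
      exact hx
    have hPassI : P ∈ associatedPrimes R (R ⧸ I) := associatedPrimes.subset_of_injective hφ hPass
    have hht := h2 P (h1 P hPassI)
    obtain ⟨π, hπ⟩ := UniqueFactorizationMonoid.isPrincipal_of_height_eq_one hht
    have hπdvd : ∀ x ∈ J, π ∣ x := by
      intro x hx
      have : x ∈ P := hP.1.2 hx
      rw [hπ] at this
      exact Ideal.mem_span_singleton.mp this
    -- g * π divides every generator
    have hdvd : g * π ∣ g := by
      apply Finset.dvd_gcd
      intro a ha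
      obtain ⟨b, hb⟩ := hgdvd a ha
      have hbJ : b ∈ J := by
        rw [hJmem, ← hb, ← hs]
        exact Ideal.subset_span ha
      obtain ⟨c, hc⟩ := hπdvd b hbJ
      exact ⟨c, by rw [id, hb, hc]; ring⟩
    obtain ⟨c, hc⟩ := hdvd
    have hunit : π * c = 1 := by
      have : g * (π * c) = g * 1 := by rw [mul_one]; nth_rw 2 [hc]; ring
      exact mul_left_cancel₀ hg0 this
    apply hPprime.ne_top
    rw [hπ, Ideal.eq_top_iff_one]
    exact Ideal.mem_span_singleton.mpr ⟨c, hunit.symm⟩
  refine ⟨g, le_antisymm hIle ?_⟩
  rw [Ideal.span_singleton_le_iff_mem]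
  have : (1 : R) ∈ J := hJtop ▸ Submodule.mem_top
  rw [hJmem, mul_one] at this
  exact this

end Groth.Agent.S8854
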