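import Groth.Statements.S8855
import Groth.Agent.Lib.Helper5.RegSchImm

set_option autoImplicit false
universe u
open CategoryTheory CategoryTheory.Limits AlgebraicGeometry TopologicalSpace
open SDiv

namespace Groth.Agent.S8855

/-- Let i : Z ⟶ X be an immersion of schemes with Z and X regular (locally Noetherian, all local rings
regular local rings). Then i is a regular immersion. -/
theorem result {Z X : Scheme.{u}} (i : Z ⟶ X) [IsImmersion i]
    [IsLocallyNoetherian X] [IsLocallyNoetherian Z]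
    (hX : ∀ x : ↥X, IsRegularLocalRing ↑(X.presheaf.stalk x)) (hZ : ∀ z : ↥Z, IsRegularLocalRing ↑(Z.presheaf.stalk z)) :
    RegImm.IsRegularImmersion RegImm.Kind.regular i := by
  refine ⟨inferInstance, fun z => ?_⟩
  obtain ⟨_, ⟨U, hU, rfl⟩, hzU, hUle⟩ :=
    X.isBasis_affineOpens.exists_subset_of_mem_open
      (show i z ∈ (i.coborderRange : Set X) from subset_coborder ⟨z, rfl⟩) i.coborderRange.2
  have hc : IsClosedImmersion (i ∣_ U) :=
    Groth.Agent.Lib.Helper5.RegSchImm.isClosedImmersion_restrict_of_le_coborderRange i hUle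
  have := hX (i z)
  have := hZ z
  obtain ⟨l, hl, hker⟩ := Groth.Agent.Lib.Helper5.RegSchImm.exists_regular_of_surjective
    (i.stalkMap z).hom (i.stalkMap_surjective z)
  obtain ⟨U', hU', -, hzU', hc', xs, hxs, hk⟩ :=
    Groth.Agent.Lib.Helper5.RegSpreadSch.exists_regular_nhd i hU z hzU l hl.toIsWeaklyRegular hker
  refine ⟨⟨U', hU'⟩, hzU', hc', xs, ?_, hk⟩
  refine Groth.Agent.Lib.Helper5.RegComp.isRegular_of_weaklyRegular_of_ne_top hxs ?_
  rw [← hk]
  intro htop
  have h1 : (1 : Γ(X, U')) ∈ RingHom.ker (i.app U').hom := by rw [htop]; trivial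
  rw [RingHom.mem_ker, map_one] at h1
  have : Nontrivial Γ(Z, i ⁻¹ᵁ U') := by
    have : Nonempty ↥(i ⁻¹ᵁ U') := ⟨⟨z, hzU'⟩⟩
    infer_instance
  exact one_ne_zero h1

end Groth.Agent.S8855
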