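import Groth.Statements.S8860
import Groth.Agent.Lib.Helper17.NormFLFD
import Groth.Agent.Lib.Helper17.NormInt
import Groth.Agent.S8880
import Mathlib
set_option backward.isDefEq.respectTransparency.types false

set_option autoImplicit false
universe u
open CategoryTheory CategoryTheory.Limits AlgebraicGeometry TopologicalSpace
open SDiv

namespace Groth.Agent.S8860

open Scheme.IdealSheafData in
theorem isReduced_subscheme_vanishingIdeal {X : Scheme.{u}} (Z : Closeds X) :
    IsReduced (vanishingIdeal Z).subscheme := by
  let I := vanishingIdeal Z
  have : ∀ U, IsReduced (I.subschemeCover.openCover.X U) := by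
    intro U
    change IsReduced (Spec (CommRingCat.of (Γ(X, U.1) ⧸ I.ideal U)))
    rw [affine_isReduced_iff]
    change _root_.IsReduced (Γ(X, U.1) ⧸ I.ideal U)
    rw [← Ideal.isRadical_iff_quotient_reduced]
    change ((vanishingIdeal Z).ideal U).IsRadical
    rw [vanishingIdeal_ideal]
    exact PrimeSpectrum.isRadical_vanishingIdeal _
  exact IsReduced.of_openCover _ I.subschemeCover.openCover

open Scheme.IdealSheafData in
theorem isIntegral_subscheme_vanishingIdeal {X : Scheme.{u}} (Z : Closeds X)
    (hirr : IsIrreducible (Z : Set X)) : IsIntegral (vanishingIdeal Z).subscheme := by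
  haveI := isReduced_subscheme_vanishingIdeal Z
  haveI : IrreducibleSpace (vanishingIdeal Z).subscheme :=
    Subtype.irreducibleSpace (by rw [coe_support_vanishingIdeal]; exact hirr)
  exact isIntegral_of_irreducibleSpace_of_isReduced _

theorem normal_case {X Y : Scheme.{u}} (π : X ⟶ Y) [IsFinite π] [Surjective π]
    (hX : X.IsQuasiAffine) [IsIntegral Y] (hY : Pi1.IsNormalScheme Y) : Y.IsQuasiAffine := by
  obtain ⟨x, hx⟩ := π.surjective (genericPoint Y)
  let Z : Closeds X := ⟨closure {x}, isClosed_closure⟩
  have hirr : IsIrreducible (Z : Set X) := isIrreducible_singleton.closure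
  let I := Scheme.IdealSheafData.vanishingIdeal Z
  haveI : IsIntegral I.subscheme := isIntegral_subscheme_vanishingIdeal Z hirr
  let π' : I.subscheme ⟶ Y := I.subschemeι ≫ π
  haveI : IsFinite π' := inferInstance
  haveI : Surjective π' := by
    constructor
    have hcl : IsClosed (Set.range π') := π'.isClosedMap.isClosed_range
    have hmem : genericPoint Y ∈ Set.range π' := by
      have hxZ : x ∈ Set.range I.subschemeι := by
        rw [Scheme.IdealSheafData.range_subschemeι, Scheme.IdealSheafData.coe_support_vanishingIdeal]
        exact subset_closure rfl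
      obtain ⟨z, hz⟩ := hxZ
      refine ⟨z, ?_⟩
      change π (I.subschemeι z) = _
      rw [hz, hx]
    have h1 : closure {genericPoint Y} ⊆ Set.range π' :=
      hcl.closure_subset_iff.2 (Set.singleton_subset_iff.2 hmem)
    rw [genericPoint_closure] at h1
    intro y
    exact h1 (Set.mem_univ y)
  haveI : I.subscheme.IsQuasiAffine := Scheme.IsQuasiAffine.of_isAffineHom I.subschemeι
  exact Groth.Agent.S8880.result π' _
    (Groth.Agent.Lib.Helper17.NormInt.hasNorm π' (fun y => (hY y).2)) inferInstance


/-- Let π : X ⟶ Y be a finite surjective morphism of schemes with X quasi-affine. If either π is finite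
locally free (finite, flat and locally of finite presentation), or Y is integral with all local
rings integrally closed domains (normal), then Y is quasi-affine. -/
theorem result {X Y : Scheme.{u}} (π : X ⟶ Y) [IsFinite π] [Surjective π]
    (hX : X.IsQuasiAffine) (h : Mor2.IsFinLocFree π ∨ (IsIntegral Y ∧ Pi1.IsNormalScheme Y)) :
    Y.IsQuasiAffine := by
  rcases h with h | ⟨h1, h2⟩
  · obtain ⟨_, h2, h3⟩ := h
    haveI : CompactSpace Y := by
      constructor
      have h := (isCompact_univ (X := X)).image π.continuous
      rwa [Set.image_univ, π.surjective.range_eq] at h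
    obtain ⟨D, hD⟩ := Groth.Agent.Lib.Helper17.NormFLFD.exists_hasNorm π
    exact Groth.Agent.S8880.result π D hD hX
  · exact normal_case π hX h2

end Groth.Agent.S8860
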