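import Groth.Statements.S8862
import Groth.Agent.Lib.Helper29.EffCart3
import Groth.Agent.Lib.Helper29.IdealComap

set_option autoImplicit false
universe u
open CategoryTheory CategoryTheory.Limits AlgebraicGeometry TopologicalSpace
open SDiv

namespace Groth.Agent.S8862



lemma mem_nonZeroDivisors_of_forall_not_mem_minimalPrimes {A : Type*} [CommRing A] [IsReduced A]
    (a : A) (h : ∀ q ∈ minimalPrimes A, a ∉ q) : a ∈ nonZeroDivisors A := by
  rw [mem_nonZeroDivisors_iff_right]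
  intro b hb
  have : b ∈ nilradical A := by
    rw [nilradical, ← Ideal.sInf_minimalPrimes, Ideal.mem_sInf]
    intro q hq
    have hq' : q ∈ minimalPrimes A := hq
    have hprime : q.IsPrime := hq.1.1
    have : b * a ∈ q := by rw [hb]; exact q.zero_mem
    exact (hprime.mem_or_mem this).resolve_right (h q hq')
  rwa [nilradical_eq_zero, Ideal.zero_eq_bot, Ideal.mem_bot] at this

open Groth.Agent.Lib.Helper29.EffCart in
lemma fromSpec_comp_apply {X Y : Scheme.{u}} (f : X ⟶ Y) (V : Y.affineOpens) (U : X.affineOpens)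
    (e : U.1 ≤ f ⁻¹ᵁ V.1) (q : PrimeSpectrum Γ(X, U.1)) :
    f (U.2.fromSpec q) = V.2.fromSpec (Spec.map (f.appLE V.1 U.1 e) q) := by
  have := IsAffineOpen.SpecMap_appLE_fromSpec f V.2 U.2 e
  calc f (U.2.fromSpec q) = (U.2.fromSpec ≫ f) q := rfl
    _ = (Spec.map (f.appLE V.1 U.1 e) ≫ V.2.fromSpec) q := by rw [this]
    _ = _ := rfl

/-- Let f : X ⟶ Y be a morphism of schemes with X reduced and 𝓘 the ideal sheaf of an effective Cartier
divisor D ⊆ Y. If f ξ ∉ D for every generic point ξ of an irreducible component of X (every point of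
X with no proper generization), then the inverse image ideal sheaf of 𝓘 on X is the ideal of an
effective Cartier divisor. -/
theorem result {X Y : Scheme.{u}} [IsReduced X] (f : X ⟶ Y) (𝓘 : Y.IdealSheafData)
    (hD : BlowUp.IsEffCartierIdeal 𝓘)
    (h : ∀ ξ : ↥X, (∀ y : ↥X, y ⤳ ξ → y = ξ) → f ξ ∉ 𝓘.support) :
    BlowUp.IsEffCartierIdeal (𝓘.comap f) := by
  open Groth.Agent.Lib.Helper29.EffCart in
  intro x
  obtain ⟨V, hyV, g, hgnzd, hg⟩ := hD (f x)
  obtain ⟨_, ⟨U, hU, rfl⟩, hxU, hUV⟩ :=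
    X.isBasis_affineOpens.exists_subset_of_mem_open (show x ∈ f ⁻¹ᵁ V.1 from hyV) (f ⁻¹ᵁ V.1).2
  have e : U ≤ f ⁻¹ᵁ V.1 := hUV
  refine ⟨⟨U, hU⟩, hxU, (f.appLE V.1 U e).hom g, ?_, ?_⟩
  · haveI : IsReduced Γ(X, U) := inferInstance
    apply mem_nonZeroDivisors_of_forall_not_mem_minimalPrimes
    intro q hq hgq
    have hqprime : q.IsPrime := hq.1.1
    let q' : PrimeSpectrum Γ(X, U) := ⟨q, hqprime⟩
    have hmax : ∀ y : X, y ⤳ hU.fromSpec q' → y = hU.fromSpec q' := by
      intro y hy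
      have hyU : y ∈ U := mem_of_specializes hy (fromSpec_mem ⟨U, hU⟩ q')
      obtain ⟨p, rfl⟩ := exists_fromSpec_eq ⟨U, hU⟩ hyU
      rw [fromSpec_specializes_iff ⟨U, hU⟩] at hy
      congr 1
      apply PrimeSpectrum.ext
      exact le_antisymm hy (hq.2 ⟨p.2, bot_le⟩ hy)
    have hns := h _ hmax
    rw [fromSpec_comp_apply f V ⟨U, hU⟩ e q'] at hns
    have hns' := (fromSpec_mem_support_iff 𝓘 V _).not.1 hns
    rw [hg, Ideal.span_singleton_le_iff_mem] at hns'
    exact hns' hgq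
  · rw [ideal_comap_eq_map 𝓘 f V ⟨U, hU⟩ e, hg, Ideal.map_span, Set.image_singleton]

end Groth.Agent.S8862
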