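import Groth.Statements.S8864
import Groth.Agent.Lib.Helper29.MeroLoc2

set_option autoImplicit false
universe u
open CategoryTheory CategoryTheory.Limits AlgebraicGeometry TopologicalSpace
open SDiv

namespace Groth.Agent.S8864




/-- Let X be a locally Noetherian scheme and U an affine open of X. Then K_X(U), viewed as an
O_X(U)-algebra through the canonical map r ↦ r/1, is the total ring of fractions of O_X(U): it is a
localization of O_X(U) at the monoid of nonzerodivisors. -/
theorem result (X : Scheme.{u}) [IsLocallyNoetherian X] (U : X.affineOpens) :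
    @IsLocalization Γ(X, U.1) _ (nonZeroDivisors Γ(X, U.1)) Γ(Mero.kmod X, U.1) _ (Mero.toK X U.1).toAlgebra := by
  letI : Algebra Γ(X, U.1) Γ(Mero.kmod X, U.1) := (Mero.toK X U.1).toAlgebra
  rw [isLocalization_iff]
  refine ⟨fun y => ?_, fun z => ?_, fun {a a'} h => ?_⟩
  · have hy : (y : Γ(X, U.1)) ∈ Mero.regSub X U.1 := by
      rw [Groth.Agent.S12513.result X U.1 U.2]; exact y.2
    exact (Groth.Agent.Lib.Helper29.MeroDiv.regUnit ⟨y.1, hy⟩).isUnit
  · obtain ⟨b, a, hb, hba⟩ := Groth.Agent.Lib.Helper29.MeroDiv.exists_nzd_denominator U.2 z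
    refine ⟨(a, ⟨b, hb⟩), ?_⟩
    rw [mul_comm]
    exact hba
  · exact ⟨1, by rw [Groth.Agent.Lib.Helper29.MeroDiv.toK_injective U.1 h]⟩



end Groth.Agent.S8864
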