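import Groth.Statements.S8872
import Groth.Agent.Lib.Helper5.FittSheafC

set_option autoImplicit false
universe u
open CategoryTheory CategoryTheory.Limits AlgebraicGeometry TopologicalSpace
open SDiv

namespace Groth.Agent.S8872

/-- Let f : T ⟶ S be a morphism of schemes and F a quasi-coherent O_S-module of finite type. Then for
every i the inverse image ideal sheaf on T of the i-th Fitting ideal of F is the i-th Fitting ideal
of f^*F. -/
theorem result {T S : Scheme.{u}} (f : T ⟶ S) (F : S.Modules) (hF : Coh.IsQCoh F) (hft : CohB1.IsFT F)
    (i : ℕ) : (Fitt.sheafIdeal F i).comap f = Fitt.sheafIdeal ((Scheme.Modules.pullback f).obj F) i := by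
  have : F.IsQuasicoherent := hF
  have : SheafOfModules.IsFiniteType.{u} (R := S.ringCatSheaf) F := hft
  exact Groth.Agent.Lib.Helper5.FittSheaf.sheafIdeal_comap f F i

end Groth.Agent.S8872
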