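import Groth.Statements.S8874
import Groth.Agent.Lib.Helper5.FittSheafF

set_option autoImplicit false
universe u
open CategoryTheory CategoryTheory.Limits AlgebraicGeometry TopologicalSpace
open SDiv

namespace Groth.Agent.S8874

/-- Let S be a scheme, F a quasi-coherent O_S-module of finite type, s a point of S and r a natural
number. Then F can be generated by r sections over some open neighbourhood of s if and only if the
r-th Fitting ideal of F is the unit ideal at s, i.e. s does not lie in the closed subset cut out by
Fit_r(F). -/
theorem result (S : Scheme.{u}) (F : S.Modules) (hF : Coh.IsQCoh F) (hft : CohB1.IsFT F)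
    (s : ↥S) (r : ℕ) :
    (∃ U : S.Opens, s ∈ U ∧ ∃ π : FlatMod.freeMod (↑U) r ⟶ F.restrict U.ι, Epi π) ↔
      s ∉ (Fitt.sheafIdeal F r).support := by
  have : F.IsQuasicoherent := hF
  have : SheafOfModules.IsFiniteType.{u} (R := S.ringCatSheaf) F := hft
  constructor
  · rintro ⟨U, hsU, π, hπ⟩
    exact Groth.Agent.Lib.Helper5.FittSheaf.not_mem_support_of_epi F r s U hsU π
  · intro h
    exact Groth.Agent.Lib.Helper5.FittSheaf.exists_epi_of_not_mem_support F r s h

end Groth.Agent.S8874
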