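import Groth.Statements.S8876
import Groth.Agent.Lib.Helper5.FittSheafB
import Groth.Agent.S9373

set_option autoImplicit false
universe u
open CategoryTheory CategoryTheory.Limits AlgebraicGeometry TopologicalSpace
open SDiv

namespace Groth.Agent.S8876

/-- Let S be a scheme and F a quasi-coherent O_S-module of finite type. Then the closed subset of S cut
out by Fit_0(F) equals the support of F (the scheme-theoretic support and the Fit_0 subscheme have
the same underlying set). -/
theorem result (S : Scheme.{u}) (F : S.Modules) (hF : Coh.IsQCoh F) (hft : CohB1.IsFT F) :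
    ((Fitt.sheafIdeal F 0).support : Set ↥S) = CohB1.support F := by
  have : F.IsQuasicoherent := hF
  have : SheafOfModules.IsFiniteType.{u} (R := S.ringCatSheaf) F := hft
  ext x
  obtain ⟨U, hU, hxU, -⟩ := exists_isAffineOpen_mem_and_subset (x := x) (U := ⊤) trivial
  have := Groth.Agent.Lib.Helper28.FinType.finite_of_isAffineOpen F hU
  rw [← Groth.Agent.S9373.mem_support_iff S F hU x hxU, ← Helper23.Fit.zeroLocus_ideal_zero,
    PrimeSpectrum.mem_zeroLocus, SetLike.mem_coe]
  have h := Groth.Agent.Lib.Helper5.FittSheaf.not_mem_support_iff F 0 hU x hxU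
  rw [not_iff_not] at h
  exact h

end Groth.Agent.S8876
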