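import Groth.Statements.S8882
import Groth.Agent.Lib.Helper17.NormGlue
import Mathlib
set_option backward.isDefEq.respectTransparency.types false

set_option autoImplicit false
universe u
open CategoryTheory CategoryTheory.Limits AlgebraicGeometry TopologicalSpace
open SDiv

namespace Groth.Agent.S8882
open Groth.Agent.Lib.Helper17.NormGlue

/-- in a localization of a ring with `nilradical ^ k = 0`, nilpotents have vanishing `k`-th power -/
theorem pow_eq_zero_of_isLocalization {R S : Type*} [CommRing R] [CommRing S] [Algebra R S]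
    (M : Submonoid R) [IsLocalization M S] (k : ℕ) (hk : nilradical R ^ k = ⊥) (m : S)
    (hm : IsNilpotent m) : m ^ k = 0 := by
  obtain ⟨a, s, rfl⟩ := IsLocalization.exists_mk'_eq M m
  obtain ⟨j, hj⟩ := hm
  rw [← IsLocalization.mk'_pow, IsLocalization.mk'_eq_zero_iff] at hj
  obtain ⟨t, ht⟩ := hj
  have hta : (t : R) * a ∈ nilradical R := by
    refine ⟨j + 1, ?_⟩
    calc ((t : R) * a) ^ (j + 1) = (t : R) ^ j * a * ((t : R) * a ^ j) := by ring
      _ = 0 := by rw [ht, mul_zero]
  have h0 : ((t : R) * a) ^ k = 0 := by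
    have := Ideal.pow_mem_pow hta k
    rw [hk] at this
    exact this
  rw [← IsLocalization.mk'_pow, IsLocalization.mk'_eq_zero_iff]
  refine ⟨t ^ k, ?_⟩
  rw [SubmonoidClass.coe_pow, ← mul_pow]
  exact h0

theorem exists_bound (X : Scheme.{u}) [IsNoetherian X] :
    ∃ k : ℕ, ∀ (U : X.Opens) (n : Γ(X, U)), IsNilpotent n → n ^ k = 0 := by
  have h1 : ∀ x : X, ∃ W : X.affineOpens, x ∈ W.1 := by
    intro x
    obtain ⟨_, ⟨W, hW, rfl⟩, hx, -⟩ := (X.isBasis_affineOpens).exists_subset_of_mem_open (Set.mem_univ x) isOpen_univ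
    exact ⟨⟨W, hW⟩, hx⟩
  choose W hW using h1
  have h2 : ∀ x : X, ∃ k : ℕ, nilradical Γ(X, (W x).1) ^ k = ⊥ := by
    intro x
    haveI : IsNoetherianRing Γ(X, (W x).1) := IsLocallyNoetherian.component_noetherian (W x)
    exact IsNoetherianRing.isNilpotent_nilradical _
  choose k hk using h2
  obtain ⟨t, -, ht⟩ := isCompact_univ.elim_nhds_subcover (fun x => ((W x).1 : Set X))
    (fun x _ => (W x).1.isOpen.mem_nhds (hW x))
  refine ⟨t.sup k, ?_⟩
  intro U n hn
  refine TopCat.Presheaf.section_ext X.sheaf U _ _ ?_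
  intro y hy
  change X.presheaf.germ U y hy (n ^ t.sup k) = X.presheaf.germ U y hy 0
  rw [map_pow, map_zero]
  obtain ⟨x, hxt, hyx⟩ : ∃ x ∈ t, y ∈ (W x).1 := by
    have := ht (Set.mem_univ y)
    simpa using this
  letI : Algebra Γ(X, (W x).1) (X.presheaf.stalk y) := TopCat.Presheaf.algebra_section_stalk X.presheaf ⟨y, hyx⟩
  have hloc : IsLocalization.AtPrime (X.presheaf.stalk y) ((W x).2.primeIdealOf ⟨y, hyx⟩).asIdeal :=
    (W x).2.isLocalization_stalk ⟨y, hyx⟩
  have hm : IsNilpotent (X.presheaf.germ U y hy n) := hn.map _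
  have h3 := pow_eq_zero_of_isLocalization ((W x).2.primeIdealOf ⟨y, hyx⟩).asIdeal.primeCompl (k x) (hk x) _ hm
  have hle : k x ≤ t.sup k := Finset.le_sup hxt
  obtain ⟨c, hc⟩ := Nat.exists_eq_add_of_le hle
  rw [hc, pow_add, h3, zero_mul]

theorem pow_eq_of_sub_nilpotent {R : Type*} [CommRing R] (p : ℕ) (hp : p.Prime) (hpR : (p : R) = 0)
    (e : ℕ) (a b : R) (h : (a - b) ^ (p ^ e) = 0) : a ^ (p ^ e) = b ^ (p ^ e) := by
  have := add_pow_prime_pow_eq hp b (a - b) e
  rw [add_sub_cancel, h, hpR] at this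
  simpa using this

section
variable (X : Scheme.{u}) (p : ℕ) (hp : p.Prime) (e : ℕ)

theorem surj (W : X.Opens) (hW : IsAffineOpen W) :
    Function.Surjective (X.nilradical.subschemeι.app W) :=
  X.nilradical.subschemeι_app_surjective ⟨W, hW⟩

theorem nilp_of_app_eq (W : X.Opens) (hW : IsAffineOpen W) (a b : Γ(X, W))
    (h : X.nilradical.subschemeι.app W a = X.nilradical.subschemeι.app W b) : IsNilpotent (a - b) := by
  have h1 : a - b ∈ RingHom.ker (X.nilradical.subschemeι.app W).hom := by
    rw [RingHom.mem_ker, map_sub]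
    exact sub_eq_zero.2 h
  have h2 := X.nilradical.ker_subschemeι_app ⟨W, hW⟩
  rw [h2] at h1
  unfold Scheme.nilradical at h1
  rw [Scheme.IdealSheafData.radical_ideal, Scheme.IdealSheafData.ideal_bot] at h1
  exact h1

end

/-- the hypotheses packaged -/
structure Hyp (X : Scheme.{u}) (q : ℕ) : Prop where
  one_le : 1 ≤ q
  wd : ∀ (W : X.Opens) (_ : IsAffineOpen W) (a b : Γ(X, W)),
    X.nilradical.subschemeι.app W a = X.nilradical.subschemeι.app W b → a ^ q = b ^ q

section
variable {X : Scheme.{u}} {q : ℕ} (H : Hyp X q)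
include H

/-- the local norm -/
noncomputable def nrm (W : X.Opens) (hW : IsAffineOpen W) :
    Γ(X.nilradical.subscheme, X.nilradical.subschemeι ⁻¹ᵁ W) →* Γ(X, W) where
  toFun t := (Function.surjInv (surj X W hW) t) ^ q
  map_one' := by
    have h := H.wd W hW (Function.surjInv (surj X W hW) 1) 1
      (by rw [Function.surjInv_eq (surj X W hW), map_one])
    rw [one_pow] at h
    exact h
  map_mul' s t := by
    rw [← mul_pow]
    apply H.wd W hW
    rw [Function.surjInv_eq (surj X W hW), map_mul, Function.surjInv_eq (surj X W hW),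
      Function.surjInv_eq (surj X W hW)]

theorem nrm_eq (W : X.Opens) (hW : IsAffineOpen W) (a : Γ(X, W)) :
    nrm H W hW (X.nilradical.subschemeι.app W a) = a ^ q := by
  change (Function.surjInv (surj X W hW) _) ^ q = _
  apply H.wd W hW
  rw [Function.surjInv_eq (surj X W hW)]

noncomputable def localNormData : LocalNormData X.nilradical.subschemeι q where
  good := {W | IsAffineOpen W}
  aff W hW := hW
  basic W hW f := hW.basicOpen f
  cov y := by
    obtain ⟨_, ⟨W, hW, rfl⟩, hx, -⟩ :=
      (X.isBasis_affineOpens).exists_subset_of_mem_open (Set.mem_univ y) isOpen_univ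
    exact ⟨W, hW, hx⟩
  nrm W hW := nrm H W hW
  compat W hW f t := by
    obtain ⟨a, rfl⟩ := surj X W hW t
    have h1 : resPre X.nilradical.subschemeι (X.basicOpen_le f) (X.nilradical.subschemeι.app W a) =
        X.nilradical.subschemeι.app (X.basicOpen f)
          (X.presheaf.map (homOfLE (X.basicOpen_le f)).op a) :=
      (ConcreteCategory.congr_hom (X.nilradical.subschemeι.naturality (homOfLE (X.basicOpen_le f)).op) a).symm
    rw [h1, nrm_eq, nrm_eq, map_pow]
  nrm_app W hW g := nrm_eq H W hW g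
  nrm_mem W hW t x hx ht := by
    obtain ⟨a, rfl⟩ := surj X W hW t
    rw [nrm_eq, map_pow]
    refine Ideal.pow_mem_of_mem _ ?_ _ H.one_le
    rw [IsLocalRing.mem_maximalIdeal, mem_nonunits_iff] at ht ⊢
    intro hu
    apply ht
    rw [← Scheme.Hom.germ_stalkMap_apply]
    exact hu.map _

end


/-- Let X be a Noetherian scheme on which a prime number p is zero (p·O_X = 0). Then the closed
immersion X_red ⟶ X cut out by the nilradical carries a norm whose degree is p^e for some e > 0. -/
theorem result (X : Scheme.{u}) [IsNoetherian X] (p : ℕ) (hp : p.Prime)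
    (hpX : (p : Γ(X, ⊤)) = 0) : ∃ e : ℕ, 0 < e ∧ Nrm.HasNorm X.nilradical.subschemeι (p ^ e) := by
  obtain ⟨k, hk⟩ := exists_bound X
  have hq : k ≤ p ^ (k + 1) := by
    have := Nat.lt_pow_self hp.one_lt (n := k + 1)
    omega
  have H : Hyp X (p ^ (k + 1)) := by
    refine ⟨Nat.one_le_pow _ _ hp.pos, ?_⟩
    intro W hW a b hab
    have hn := nilp_of_app_eq X W hW a b hab
    have h0 : (a - b) ^ (p ^ (k + 1)) = 0 := by
      obtain ⟨c, hc⟩ := Nat.exists_eq_add_of_le hq
      rw [hc, pow_add, hk W _ hn, zero_mul]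
    have hpW : (p : Γ(X, W)) = 0 := by
      have := congrArg (X.presheaf.map (homOfLE (le_top : W ≤ ⊤)).op) hpX
      rwa [map_natCast, map_zero] at this
    exact pow_eq_of_sub_nilpotent p hp hpW (k + 1) a b h0
  exact ⟨k + 1, Nat.succ_pos k, ⟨(localNormData H).toNormOfDegree H.one_le⟩⟩

end Groth.Agent.S8882
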