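import Groth.Statements.S8888
import Groth.Agent.Lib.Helper17.ModStalk
import Mathlib
set_option backward.isDefEq.respectTransparency.types false

set_option autoImplicit false
universe u
open CategoryTheory CategoryTheory.Limits AlgebraicGeometry TopologicalSpace
open SDiv

namespace Groth.Agent.S8888
open Groth.Agent.Lib.Helper17.ModStalk TensorProduct

theorem map_genericPoint {X Y : Scheme.{u}} [IsIntegral X] [IsIntegral Y] (f : X ⟶ Y) [IsDominant f] :
    f (genericPoint X) = genericPoint Y := by
  have h1 : IsGenericPoint (f (genericPoint X)) (closure (f '' Set.univ)) :=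
    (genericPoint_spec X).image f.continuous
  rw [Set.image_univ, f.denseRange.closure_range] at h1
  exact h1.eq (genericPoint_spec Y)


/-- Let f : X ⟶ Y be a dominant morphism of integral schemes and G a quasi-coherent O_Y-module. Then the
rank of f^*G on X, the dimension of its stalk at the generic point of X over the function field of
X, equals the rank of G on Y. -/
theorem result {X Y : Scheme.{u}} [IsIntegral X] [IsIntegral Y] (f : X ⟶ Y) [IsDominant f]
    (G : Y.Modules) (hG : Coh.IsQCoh G) :
    Module.rank ↑(X.presheaf.stalk (genericPoint ↥X)) ↑(((Scheme.Modules.pullback f).obj G).presheaf.stalk (genericPoint ↥X)) =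
      Module.rank ↑(Y.presheaf.stalk (genericPoint ↥Y)) ↑(G.presheaf.stalk (genericPoint ↥Y)) := by
  haveI : G.IsQuasicoherent := hG
  have key : ∀ (y : Y) (hy : f (genericPoint X) = y)
      (hfree : Module.Free (Y.presheaf.stalk y) (G.presheaf.stalk y)),
      Module.rank ↑(X.presheaf.stalk (genericPoint ↥X))
        ↑(((Scheme.Modules.pullback f).obj G).presheaf.stalk (genericPoint ↥X)) =
      Module.rank ↑(Y.presheaf.stalk y) ↑(G.presheaf.stalk y) := by
    rintro _ rfl hfree
    obtain ⟨e⟩ := nonempty_linearEquiv_stalk_pullback f G (genericPoint X)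
    letI := (f.stalkMap (genericPoint X)).hom.toAlgebra
    rw [e.rank_eq]
    rw [Module.rank_baseChange, Cardinal.lift_id]
  refine key _ (map_genericPoint f) ?_
  letI : Field (Y.presheaf.stalk (genericPoint Y)) := inferInstanceAs (Field Y.functionField)
  exact Module.Free.of_divisionRing _ _

end Groth.Agent.S8888
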