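import Groth.Statements.S8891
import Groth.Agent.Lib.Helper7.IsoDepthTwoScheme

set_option autoImplicit false
universe u
open CategoryTheory CategoryTheory.Limits AlgebraicGeometry TopologicalSpace
open SDiv

namespace Groth.Agent.S8891

theorem eq_genericPoint_of_maximalIdeal_eq_bot (X : Scheme.{u}) [IsIntegral X] (x : X)
    (hx : IsLocalRing.maximalIdeal (X.presheaf.stalk x) = ⊥) : x = genericPoint X := by
  have h1 : genericPoint X ∈ Set.range (X.fromSpecStalk x) := by
    rw [Scheme.range_fromSpecStalk]
    exact genericPoint_specializes x
  obtain ⟨q, hq⟩ := h1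
  have hq' : q = IsLocalRing.closedPoint (X.presheaf.stalk x) := by
    apply PrimeSpectrum.ext
    show q.asIdeal = IsLocalRing.maximalIdeal (X.presheaf.stalk x)
    rw [hx]
    exact le_bot_iff.1 (hx ▸ IsLocalRing.le_maximalIdeal q.2.ne_top)
  rw [← hq, hq']
  exact (Scheme.fromSpecStalk_closedPoint (X := X) (x := x)).symm


/-- Let X be an integral locally Noetherian scheme and φ : F ⟶ G a morphism of quasi-coherent
O_X-modules with F coherent and G torsion free. Assume that for every point x either the stalk map
F_x → G_x is an isomorphism, or depth(F_x) ≥ 2 and x is not the generic point of X. Then φ is an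
isomorphism. (The published statement allows the second alternative at the generic point as well;
since the zero module has infinite depth, F = 0 and G = O_X then satisfy every hypothesis while 0 →
O_X is not an isomorphism. The general criterion this is a special case of requires x not to be
associated to G, which for torsion-free G ≠ 0 fails exactly at the generic point; so the generic
point is excluded from the second alternative here.) -/
theorem result (X : Scheme.{u}) [IsIntegral X] [IsLocallyNoetherian X] {F G : X.Modules}
    (φ : F ⟶ G) (hF : Coh.IsCoh F) (hG : Coh.IsQCoh G)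
    (htf : ∀ x : ↥X, NoZeroSMulDivisors ↑(X.presheaf.stalk x) ↑(G.presheaf.stalk x))
    (h : ∀ x : ↥X, Function.Bijective ((TopCat.Presheaf.stalkFunctor AddCommGrpCat.{u} x).map (Scheme.Modules.Hom.mapPresheaf φ)) ∨
      ((2 : ℕ∞) ≤ LocCoh.depth (X.presheaf.stalk x) (F.presheaf.stalk x) ∧ x ≠ genericPoint ↥X)) :
    IsIso φ := by
  haveI : F.IsQuasicoherent := hF.1
  haveI : SheafOfModules.IsFiniteType.{u} (R := X.ringCatSheaf) F := hF.2
  haveI : G.IsQuasicoherent := hG
  apply Groth.Agent.Lib.Helper7.IsoDepthTwo.isIso_of_stalk_bijective_or_depth φ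
  intro x
  rcases h x with h1 | ⟨h2, h3⟩
  · left
    exact h1
  · right
    refine ⟨h2, ?_⟩
    rintro ⟨hprime, g, hg⟩
    haveI := htf x
    apply h3
    apply eq_genericPoint_of_maximalIdeal_eq_bot X x
    by_cases hg0 : g = 0
    · exfalso
      apply hprime.ne_top
      rw [hg, hg0]
      have : (⊥ : Submodule (X.presheaf.stalk x) (G.presheaf.stalk x)).colon {0} = ⊤ := by
        rw [Ideal.eq_top_iff_one, Submodule.mem_colon_singleton, smul_zero]
        exact Submodule.zero_mem _
      rw [this, Ideal.radical_top]
    · have hcolon : (⊥ : Submodule (X.presheaf.stalk x) (G.presheaf.stalk x)).colon {g} = ⊥ := by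
        rw [eq_bot_iff]
        intro r hr
        rw [Submodule.mem_colon_singleton, Submodule.mem_bot] at hr
        rcases smul_eq_zero.1 hr with h0 | h0
        · exact (Submodule.mem_bot _).2 h0
        · exact absurd h0 hg0
      rw [hg, hcolon]
      exact Ideal.IsPrime.radical (Ideal.isPrime_bot (α := X.presheaf.stalk x))

end Groth.Agent.S8891
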