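import Groth.Statements.S8893
import Groth.Agent.Lib.Helper5.FlatRegA
import Groth.Agent.Lib.Helper5.StalkKer
import Groth.Agent.Lib.Helper5.RegDescA
import Groth.Agent.S5803

set_option autoImplicit false
universe u
open CategoryTheory CategoryTheory.Limits AlgebraicGeometry TopologicalSpace
open SDiv

namespace Groth.Agent.S8893

/-- Let f : X ⟶ S be a morphism of schemes and i : Z ⟶ X a relative quasi-regular immersion (a
quasi-regular immersion with Z flat over S). If z is a point of Z such that O_{X, i z} is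
Noetherian, then f is flat at i z. -/
theorem result {Z X S : Scheme.{u}} (f : X ⟶ S) (i : Z ⟶ X)
    (hi : RegImm.IsRelRegularImmersion RegImm.Kind.quasi f i) (z : ↥Z) [IsNoetherianRing ↑(X.presheaf.stalk (i z))] :
    (f.stalkMap (i z)).hom.Flat := by
  obtain ⟨⟨himm, hreg⟩, hflat⟩ := hi
  obtain ⟨U, hzU, hUc, rs, hrs, hker⟩ := hreg z
  have : IsClosedImmersion (i ∣_ U.1) := hUc
  let g : Γ(X, U.1) →+* X.presheaf.stalk (i z) := (X.presheaf.germ U.1 (i z) hzU).hom
  have hgflat : g.Flat := by
    let _ : Algebra Γ(X, U.1) (X.presheaf.stalk (i z)) := g.toAlgebra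
    have := U.2.isLocalization_stalk ⟨i z, hzU⟩
    have hfl : Module.Flat Γ(X, U.1) (X.presheaf.stalk (i z)) :=
      IsLocalization.flat _ (U.2.primeIdealOf ⟨i z, hzU⟩).asIdeal.primeCompl
    exact (RingHom.flat_algebraMap_iff).2 hfl
  have hq : RegImm.Kind.quasi.Seq (X.presheaf.stalk (i z)) (rs.map g) :=
    Groth.Agent.Lib.Helper5.RegDesc.kind_seq_map_of_flat' _ (by decide) g hgflat rs hrs
  have hkerB : RingHom.ker (i.stalkMap z).hom = Ideal.ofList (rs.map g) := by
    rw [Groth.Agent.Lib.Helper5.StalkKer.ker_stalkMap_eq_map i U.2 z hzU, hker, Ideal.map_ofList]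
  have hmem : ∀ r ∈ rs.map g, r ∈ (⊥ : Ideal (X.presheaf.stalk (i z))).jacobson := by
    intro r hr
    rw [IsLocalRing.jacobson_eq_maximalIdeal ⊥ bot_ne_top]
    have hrk : r ∈ RingHom.ker (i.stalkMap z).hom := by
      rw [hkerB]
      exact Ideal.subset_span hr
    rw [IsLocalRing.mem_maximalIdeal, mem_nonunits_iff]
    intro hu
    have h0 := hu.map (i.stalkMap z).hom
    rw [RingHom.mem_ker.1 hrk] at h0
    exact not_isUnit_zero h0
  have hwr : RingTheory.Sequence.IsWeaklyRegular (X.presheaf.stalk (i z)) (rs.map g) := by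
    have h := Groth.Agent.S5803.result (X.presheaf.stalk (i z)) (rs.map g).length (rs.map g).get
      (fun j => by
        have := hmem _ (List.get_mem (rs.map g) j)
        rwa [Ideal.jacobson_bot] at this) hq
    rwa [List.ofFn_get] at h
  let _ : Algebra (S.presheaf.stalk (f (i z))) (X.presheaf.stalk (i z)) :=
    (f.stalkMap (i z)).hom.toAlgebra
  change Module.Flat (S.presheaf.stalk (f (i z))) (X.presheaf.stalk (i z))
  apply Groth.Agent.Lib.Helper5.FlatReg.flat_of_isWeaklyRegular (rs.map g)
    (X.presheaf.stalk (i z)) hmem hwr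
  let _ : Algebra (S.presheaf.stalk (f (i z))) (Z.presheaf.stalk z) :=
    ((i.stalkMap z).hom.comp (f.stalkMap (i z)).hom).toAlgebra
  have hflatZ : Module.Flat (S.presheaf.stalk (f (i z))) (Z.presheaf.stalk z) := by
    have h := Flat.stalkMap (i ≫ f) z
    rw [Scheme.Hom.stalkMap_comp] at h
    exact h
  let ψ : X.presheaf.stalk (i z) →ₐ[S.presheaf.stalk (f (i z))] Z.presheaf.stalk z :=
    { (i.stalkMap z).hom with commutes' := fun a => rfl }
  have hsurj : Function.Surjective ψ := i.stalkMap_surjective z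
  let e : (X.presheaf.stalk (i z) ⧸ RingHom.ker ψ) ≃ₐ[S.presheaf.stalk (f (i z))]
      Z.presheaf.stalk z := Ideal.quotientKerAlgEquivOfSurjective hsurj
  have hI : (Ideal.ofList (rs.map g) • ⊤ : Submodule (X.presheaf.stalk (i z))
      (X.presheaf.stalk (i z))) = RingHom.ker ψ := by
    rw [smul_eq_mul, Ideal.mul_top]
    exact hkerB.symm
  exact Module.Flat.of_linearEquiv
    (((Submodule.quotEquivOfEq _ _ hI).restrictScalars (S.presheaf.stalk (f (i z)))).trans
      e.toLinearEquiv)

end Groth.Agent.S8893
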