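import Groth.Statements.S8895
import Groth.Agent.Lib.Helper5.KLJ

set_option autoImplicit false
universe u
open CategoryTheory CategoryTheory.Limits AlgebraicGeometry TopologicalSpace
open SDiv

namespace Groth.Agent.S8895

/-- Let f : X ⟶ S be locally of finite presentation and i : Z ⟶ X a relative H_1-regular immersion. Then
(1) there is an open subscheme U ⊆ X containing the image of Z such that U ⟶ S is flat, and (2) i is
a regular immersion and remains one after any base change S' ⟶ S. -/
theorem result {Z X S : Scheme.{u}} (f : X ⟶ S) [LocallyOfFinitePresentation f] (i : Z ⟶ X)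
    (hi : RegImm.IsRelRegularImmersion RegImm.Kind.h1 f i) :
    (∃ U : X.Opens, Set.range (fun z : ↥Z => i z) ⊆ (U : Set ↥X) ∧ Flat (U.ι ≫ f)) ∧
      RegImm.IsRegularImmersion RegImm.Kind.regular i ∧
      ∀ (S' : Scheme.{u}) (g : S' ⟶ S), RegImm.IsRegularImmersion RegImm.Kind.regular (pullback.snd i (pullback.fst f g)) := by
  obtain ⟨⟨himm, hreg⟩, hfl⟩ := hi
  have htr : ∀ z : Z, RegImm.IsTransRegularImmersionAt f i z := fun z =>
    Groth.Agent.Lib.Helper5.KL.isTransRegularImmersionAt_of_h1 f i hfl z (hreg z)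
  refine ⟨⟨Groth.Agent.Lib.Helper5.KL.flatLocus f, ?_,
    Groth.Agent.Lib.Helper5.KL.flat_flatLocus f⟩, ⟨himm, fun z =>
      Groth.Agent.Lib.Helper5.TransNbhd.isRegularImmersionAt_of_trans f i z (htr z)⟩, ?_⟩
  · rintro _ ⟨z, rfl⟩
    exact Groth.Agent.Lib.Helper5.KL.flat_stalkMap_of_isTransRegularImmersionAt f i z (htr z)
  · intro S' g
    have H2 : IsPullback (pullback.fst f g) (pullback.snd f g) f g := IsPullback.of_hasPullback f g
    have H1 : IsPullback (pullback.fst i (pullback.fst f g)) (pullback.snd i (pullback.fst f g)) i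
        (pullback.fst f g) := IsPullback.of_hasPullback _ _
    have : IsImmersion i := himm
    refine ⟨inferInstance, fun z' => ?_⟩
    exact Groth.Agent.Lib.Helper5.TransNbhd.isRegularImmersionAt_of_trans (pullback.snd f g) _ z'
      (Groth.Agent.Lib.Helper5.TransNbhd.isTransRegularImmersionAt_baseChange f i g _ _ H2 _ _ H1
        z' (htr _))

end Groth.Agent.S8895
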