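import Groth.Statements.S8898
import Groth.Agent.Lib.Helper29.BlowUpUP2

set_option autoImplicit false
universe u
open CategoryTheory CategoryTheory.Limits AlgebraicGeometry TopologicalSpace
open SDiv

namespace Groth.Agent.S8898

open Groth.Agent.Lib.Helper29.EffCart Groth.Agent.Lib.Helper29.FlatExt

/-- Nonzerodivisors on an affine open of the base pull back to nonzerodivisors on affine opens of
a blow-up on which the exceptional ideal is generated by a nonzerodivisor. -/
lemma appLE_mem_nonZeroDivisors {X X' : Scheme.{u}} {𝓘 : X.IdealSheafData} {b : X' ⟶ X}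
    (hb : BlowUp.IsBlowUp b 𝓘) (U : X.affineOpens) (W : X'.affineOpens) (hle : W.1 ≤ b ⁻¹ᵁ U.1)
    (e : Γ(X', W.1)) (he : e ∈ nonZeroDivisors Γ(X', W.1))
    (hE : (𝓘.comap b).ideal W = Ideal.span {e})
    (d : Γ(X, U.1)) (hd : d ∈ nonZeroDivisors Γ(X, U.1)) :
    (b.appLE U.1 W.1 hle).hom d ∈ nonZeroDivisors Γ(X', W.1) := by
  have hO := basicOpen_le_preimage_compl_support b 𝓘 W e hE
  have hle' : X'.basicOpen e ≤ b ⁻¹ᵁ U.1 := (X'.basicOpen_le e).trans hle
  have hflat : (b.appLE U.1 (X'.basicOpen e) hle').hom.Flat :=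
    flat_appLE_of_forall_stalkMap b U (X'.affineBasicOpen e) hle'
      fun y hy => IsBlowUp.flat_stalkMap hb y (hO hy)
  have hnzd := map_mem_nonZeroDivisors_of_flat _ hflat d hd
  rw [mem_nonZeroDivisors_iff_right]
  intro s hs
  apply eq_zero_of_res_basicOpen_eq_zero W e he
  apply (mem_nonZeroDivisors_iff_right.1 hnzd)
  have hcomp : (b.appLE U.1 (X'.basicOpen e) hle').hom d =
      (X'.presheaf.map (homOfLE (X'.basicOpen_le e)).op).hom ((b.appLE U.1 W.1 hle).hom d) := by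
    have := congrArg CommRingCat.Hom.hom (b.appLE_map hle (homOfLE (X'.basicOpen_le e)).op)
    exact (DFunLike.congr_fun this d).symm
  rw [hcomp, ← map_mul, hs, map_zero]

/-- Let X be a scheme, 𝓘 a quasi-coherent ideal sheaf and b : X' ⟶ X a blowing up of X in 𝓘. Then the
pullback b⁻¹D is defined for every effective Cartier divisor D ⊆ X (the inverse image ideal of the
ideal of D is again the ideal of an effective Cartier divisor), and pullbacks of meromorphic
functions are defined for b (b carries regular sections of O_X, i.e. sections whose germs are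
nonzerodivisors, to regular sections of O_{X'}). -/
theorem result {X X' : Scheme.{u}} (𝓘 : X.IdealSheafData) (b : X' ⟶ X) (hb : BlowUp.IsBlowUp b 𝓘) :
    (∀ 𝓓 : X.IdealSheafData, BlowUp.IsEffCartierIdeal 𝓓 → BlowUp.IsEffCartierIdeal (𝓓.comap b)) ∧
      ∀ (U : X.Opens) (s : Γ(X, U)), s ∈ Mero.regSub X U → b.app U s ∈ Mero.regSub X' (b ⁻¹ᵁ U) := by
  refine ⟨fun 𝓓 h𝓓 => IsBlowUp.isEffCartierIdeal_comap hb 𝓓 h𝓓, ?_⟩
  intro U s hs y
  obtain ⟨_, ⟨U₀, hU₀, rfl⟩, hyU₀, hU₀U⟩ := X.isBasis_affineOpens.exists_subset_of_mem_open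
    (show b y.1 ∈ U from y.2) U.2
  obtain ⟨W, hyW, hle, e, he, hE⟩ :=
    exists_affine_principal_nzd_le (𝓘.comap b) hb.1 y.1 (b ⁻¹ᵁ U₀) hyU₀
  set s₀ := (X.presheaf.map (homOfLE hU₀U).op).hom s with hs₀def
  have hs₀ : s₀ ∈ nonZeroDivisors Γ(X, U₀) := by
    rw [mem_nonZeroDivisors_iff_right]
    intro t ht
    refine TopCat.Presheaf.section_ext X.sheaf U₀ t 0 ?_
    intro x hx
    have h1 := hs ⟨x, hU₀U hx⟩
    have h2 : X.presheaf.germ U₀ x hx s₀ = X.presheaf.germ U x (hU₀U hx) s :=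
      X.presheaf.germ_res_apply (homOfLE hU₀U) x hx s
    have h3 : X.presheaf.germ U₀ x hx t * X.presheaf.germ U₀ x hx s₀ = 0 := by
      rw [← map_mul, ht, map_zero]
    rw [h2] at h3
    rw [map_zero]
    exact (mem_nonZeroDivisors_iff_right.1 h1) _ h3
  have hnzd := appLE_mem_nonZeroDivisors hb ⟨U₀, hU₀⟩ W hle e he hE s₀ hs₀
  have hg := germ_mem_nonZeroDivisors W.2 y.1 hyW _ hnzd
  have hle2 : W.1 ≤ b ⁻¹ᵁ U := hle.trans (fun z hz => hU₀U hz)
  have e1 : (b.appLE U₀ W.1 hle).hom s₀ = (b.appLE U W.1 hle2).hom s := by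
    have := congrArg CommRingCat.Hom.hom (b.map_appLE hle (homOfLE hU₀U).op)
    exact DFunLike.congr_fun this s
  have e2 : (b.appLE U W.1 hle2).hom s =
      (X'.presheaf.map (homOfLE hle2).op).hom ((b.app U).hom s) := rfl
  have e3 : X'.presheaf.germ W.1 y.1 hyW ((b.appLE U₀ W.1 hle).hom s₀) =
      X'.presheaf.germ (b ⁻¹ᵁ U) y.1 y.2 ((b.app U).hom s) := by
    rw [e1, e2]
    exact X'.presheaf.germ_res_apply (homOfLE hle2) y.1 hyW _
  rw [e3] at hg
  exact hg

end Groth.Agent.S8898
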