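import Groth.Statements.S8899
import Groth.Agent.Lib.Helper29.QCohStalk
import Groth.Agent.Lib.Helper17.ModStalk

set_option autoImplicit false
universe u
open CategoryTheory CategoryTheory.Limits AlgebraicGeometry TopologicalSpace
open SDiv

namespace Groth.Agent.S8899

open CategoryTheory CategoryTheory.Limits AlgebraicGeometry TopologicalSpace TensorProduct
open Groth.Agent.Lib.Helper29.QCohStalk Groth.Agent.Lib.Helper28.QCohLoc

/-- flat local homomorphism: the element `1 ⊗ ν` is nonzero when `ann ν` is a proper ideal -/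
theorem one_tmul_ne_zero {A B N : Type*} [CommRing A] [CommRing B] [IsLocalRing A] [IsLocalRing B]
    [Algebra A B] [Module.Flat A B] [AddCommGroup N] [Module A N]
    (hloc : ∀ a ∈ IsLocalRing.maximalIdeal A, algebraMap A B a ∈ IsLocalRing.maximalIdeal B)
    (ν : N) (hν : ann (R := A) ν ≤ IsLocalRing.maximalIdeal A) : (1 : B) ⊗ₜ[A] ν ≠ 0 := by
  intro h0
  have hex := Module.Flat.lTensor_exact B (LinearMap.exact_subtype_ker_map (LinearMap.toSpanSingleton A N ν))
  obtain ⟨z, hz⟩ := (hex ((1 : B) ⊗ₜ[A] (1 : A))).1 (by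
    rw [LinearMap.lTensor_tmul, LinearMap.toSpanSingleton_apply, one_smul]
    exact h0)
  have key : ∀ z : B ⊗[A] (LinearMap.ker (LinearMap.toSpanSingleton A N ν)),
      TensorProduct.rid A B (((LinearMap.ker (LinearMap.toSpanSingleton A N ν)).subtype.lTensor B) z) ∈
        IsLocalRing.maximalIdeal B := by
    intro z
    induction z using TensorProduct.induction_on with
    | zero => simp
    | tmul b i =>
      rw [LinearMap.lTensor_tmul, TensorProduct.rid_tmul, Submodule.subtype_apply, Algebra.smul_def]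
      exact Ideal.mul_mem_right _ _ (hloc _ (hν i.2))
    | add y z hy hz =>
      rw [map_add, map_add]
      exact add_mem hy hz
  have h1 := key z
  rw [hz, TensorProduct.rid_tmul, one_smul] at h1
  exact (IsLocalRing.maximalIdeal.isMaximal B).ne_top ((Ideal.eq_top_iff_one _).2 h1)

/-- flat local homomorphism `A → B` such that `m_B` is the only prime over `m_A`: if `rad (ann ν) = m_A` then
`rad (ann (1 ⊗ ν)) = m_B`. -/
theorem radical_ann_one_tmul {A B N : Type*} [CommRing A] [CommRing B] [IsLocalRing A] [IsLocalRing B]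
    [Algebra A B] [Module.Flat A B] [AddCommGroup N] [Module A N]
    (hloc : ∀ a ∈ IsLocalRing.maximalIdeal A, algebraMap A B a ∈ IsLocalRing.maximalIdeal B)
    (H : ∀ q : Ideal B, q.IsPrime → q.comap (algebraMap A B) = IsLocalRing.maximalIdeal A →
      q = IsLocalRing.maximalIdeal B)
    (ν : N) (hν : (ann (R := A) ν).radical = IsLocalRing.maximalIdeal A) :
    (ann (R := B) ((1 : B) ⊗ₜ[A] ν)).radical = IsLocalRing.maximalIdeal B := by
  apply le_antisymm
  · have hne : ann (R := B) ((1 : B) ⊗ₜ[A] ν) ≠ ⊤ :=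
      ann_ne_top _ (one_tmul_ne_zero hloc ν (hν ▸ Ideal.le_radical))
    have hle := IsLocalRing.le_maximalIdeal hne
    calc (ann (R := B) ((1 : B) ⊗ₜ[A] ν)).radical ≤ (IsLocalRing.maximalIdeal B).radical := Ideal.radical_mono hle
      _ = IsLocalRing.maximalIdeal B := (IsLocalRing.maximalIdeal.isMaximal B).isPrime.radical
  · rw [Ideal.radical_eq_sInf]
    refine le_sInf ?_
    rintro q ⟨hle, hq⟩
    have hI : ann (R := A) ν ≤ q.comap (algebraMap A B) := by
      intro a ha
      rw [Ideal.mem_comap]
      apply hle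
      rw [mem_ann, Algebra.algebraMap_eq_smul_one, TensorProduct.smul_tmul', smul_assoc, one_smul,
        TensorProduct.smul_tmul, (mem_ann ν a).1 ha, TensorProduct.tmul_zero]
    haveI := hq
    have hrad : IsLocalRing.maximalIdeal A ≤ q.comap (algebraMap A B) := by
      rw [← hν]
      exact (Ideal.IsPrime.radical_le_iff (Ideal.comap_isPrime _ q)).2 hI
    have heq : q.comap (algebraMap A B) = IsLocalRing.maximalIdeal A :=
      ((IsLocalRing.maximalIdeal.isMaximal A).eq_of_le (Ideal.comap_ne_top _ hq.ne_top) hrad).symm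
    rw [H q hq heq]

/-- Let f : X ⟶ S be a morphism of schemes, G a quasi-coherent O_S-module and x a point of X over s = f
x such that f is flat at x, no point of f⁻¹(s) other than x specialises to x (x is the generic point
of some irreducible component of the fibre X_s), and s is weakly associated to G. Then x is weakly
associated to f^*G. -/
theorem result {X S : Scheme.{u}} (f : X ⟶ S) (G : S.Modules) (hG : Coh.IsQCoh G)
    (x : ↥X) (hfl : (f.stalkMap x).hom.Flat) (hgen : ∀ y : ↥X, f y = f x → y ⤳ x → y = x)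
    (hs : Curv2.IsWeakAssPoint G (f x)) : Curv2.IsWeakAssPoint ((Scheme.Modules.pullback f).obj G) x := by
  haveI : G.IsQuasicoherent := hG
  letI alg : Algebra (S.presheaf.stalk (f x)) (X.presheaf.stalk x) := (f.stalkMap x).hom.toAlgebra
  haveI : Module.Flat (S.presheaf.stalk (f x)) (X.presheaf.stalk x) := hfl
  obtain ⟨e⟩ := Groth.Agent.Lib.Helper17.ModStalk.nonempty_linearEquiv_stalk_pullback f G x
  obtain ⟨ν, hν⟩ := hs
  have hloc : ∀ a ∈ IsLocalRing.maximalIdeal (S.presheaf.stalk (f x)),
      algebraMap (S.presheaf.stalk (f x)) (X.presheaf.stalk x) a ∈ IsLocalRing.maximalIdeal (X.presheaf.stalk x) := by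
    intro a ha
    rw [IsLocalRing.mem_maximalIdeal, mem_nonunits_iff] at ha ⊢
    intro hu
    exact ha (isUnit_of_map_unit (f.stalkMap x).hom a hu)
  have H : ∀ q : Ideal (X.presheaf.stalk x), q.IsPrime →
      q.comap (algebraMap (S.presheaf.stalk (f x)) (X.presheaf.stalk x)) =
        IsLocalRing.maximalIdeal (S.presheaf.stalk (f x)) →
      q = IsLocalRing.maximalIdeal (X.presheaf.stalk x) := by
    intro q hq hcomap
    let q' : PrimeSpectrum (X.presheaf.stalk x) := ⟨q, hq⟩
    let y : X := (X.fromSpecStalk x) q'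
    have hyx : y ⤳ x := by
      have : y ∈ Set.range (X.fromSpecStalk x) := ⟨q', rfl⟩
      rw [Scheme.range_fromSpecStalk] at this
      exact this
    have hfy : f y = f x := by
      have h1 : (X.fromSpecStalk x ≫ f) q' = (Spec.map (f.stalkMap x) ≫ S.fromSpecStalk (f x)) q' := by
        rw [Scheme.SpecMap_stalkMap_fromSpecStalk]
      have h2 : (Spec.map (f.stalkMap x)) q' = IsLocalRing.closedPoint (S.presheaf.stalk (f x)) := by
        apply PrimeSpectrum.ext
        exact hcomap
      have h3 : (Spec.map (f.stalkMap x) ≫ S.fromSpecStalk (f x)) q' =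
          S.fromSpecStalk (f x) ((Spec.map (f.stalkMap x)) q') := rfl
      rw [h3, h2, Scheme.fromSpecStalk_closedPoint] at h1
      exact h1
    have hy := hgen y hfy hyx
    have h4 : (X.fromSpecStalk x) q' = (X.fromSpecStalk x) (IsLocalRing.closedPoint (X.presheaf.stalk x)) := by
      rw [Scheme.fromSpecStalk_closedPoint]; exact hy
    have h5 := (X.fromSpecStalk x).isEmbedding.injective h4
    exact congrArg PrimeSpectrum.asIdeal h5
  have hrad := radical_ann_one_tmul hloc H ν hν
  refine ⟨e.symm ((1 : X.presheaf.stalk x) ⊗ₜ[S.presheaf.stalk (f x)] ν), ?_⟩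
  have hann : ann (R := X.presheaf.stalk x) (e.symm ((1 : X.presheaf.stalk x) ⊗ₜ[S.presheaf.stalk (f x)] ν)) =
      ann (R := X.presheaf.stalk x) ((1 : X.presheaf.stalk x) ⊗ₜ[S.presheaf.stalk (f x)] ν) := by
    ext r
    rw [mem_ann, mem_ann, ← map_smul, LinearEquiv.map_eq_zero_iff]
  change (ann (R := X.presheaf.stalk x) _).radical = _
  rw [hann, hrad]

end Groth.Agent.S8899
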