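import Groth.Statements.S8904
import Groth.Agent.Lib.Helper29.MeroWeak

set_option autoImplicit false
universe u
open CategoryTheory CategoryTheory.Limits AlgebraicGeometry TopologicalSpace
open SDiv

namespace Groth.Agent.S8904




/-- Let X be a scheme such that (a) each weakly associated point of X (of O_X) has no proper
generization, i.e. is the generic point of some irreducible component, and (b) every quasi-compact
open of X has finitely many irreducible components. Then for every point x the monoid S_x of germs
of regular sections is the set of all nonzerodivisors of O_{X,x} (so K_{X,x} is the total ring of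
fractions of O_{X,x}), and for every affine open U the ring K_X(U) is the total ring of fractions of
O_X(U). -/
theorem result (X : Scheme.{u})
    (ha : ∀ x : ↥X, Curv2.IsWeakAssPoint (Coh.structureModule X) x → ∀ y : ↥X, y ⤳ x → y = x)
    (hb : ∀ U : X.Opens, IsCompact (U : Set ↥X) → (irreducibleComponents ↥(U : Scheme.{u})).Finite) :
    (∀ x : ↥X, Mero.regStalk X x = nonZeroDivisors ↑(X.presheaf.stalk x)) ∧
      ∀ U : X.affineOpens,
        @IsLocalization Γ(X, U.1) _ (nonZeroDivisors Γ(X, U.1)) Γ(Mero.kmod X, U.1) _ (Mero.toK X U.1).toAlgebra := by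
  refine ⟨fun x => Groth.Agent.Lib.Helper29.MeroDiv.regStalk_eq_of_weakAss ha hb x, fun U => ?_⟩
  letI : Algebra Γ(X, U.1) Γ(Mero.kmod X, U.1) := (Mero.toK X U.1).toAlgebra
  rw [isLocalization_iff]
  refine ⟨fun y => ?_, fun z => ?_, fun {a a'} h => ?_⟩
  · have hy : (y : Γ(X, U.1)) ∈ Mero.regSub X U.1 := by
      rw [Groth.Agent.S12513.result X U.1 U.2]; exact y.2
    exact (Groth.Agent.Lib.Helper29.MeroDiv.regUnit ⟨y.1, hy⟩).isUnit
  · obtain ⟨b, a, hb', hba⟩ :=
      Groth.Agent.Lib.Helper29.MeroDiv.exists_nzd_denominator_of_weakAss ha hb U.2 z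
    refine ⟨(a, ⟨b, hb'⟩), ?_⟩
    rw [mul_comm]
    exact hba
  · exact ⟨1, by rw [Groth.Agent.Lib.Helper29.MeroDiv.toK_injective U.1 h]⟩



end Groth.Agent.S8904
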