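import Groth.Statements.S8906
import Groth.Agent.Lib.Helper5.FlatKind

set_option autoImplicit false
universe u
open CategoryTheory CategoryTheory.Limits AlgebraicGeometry TopologicalSpace
open SDiv

namespace Groth.Agent.S8906

/-- Let i : Z ⟶ X be an immersion which is regular of one of the four kinds (regular, Koszul-regular,
H_1-regular or quasi-regular) and g : X' ⟶ X a flat morphism. Then the base change Z ×_X X' ⟶ X' of
i is a regular immersion of the same kind. -/
theorem result {Z X X' : Scheme.{u}} (i : Z ⟶ X) (k : RegImm.Kind)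
    (hi : RegImm.IsRegularImmersion k i) (g : X' ⟶ X) [Flat g] :
    RegImm.IsRegularImmersion k (pullback.snd i g) := by
  obtain ⟨him, hreg⟩ := hi
  have : IsImmersion i := him
  have hsq : IsPullback (pullback.fst i g) (pullback.snd i g) i g := IsPullback.of_hasPullback i g
  refine ⟨inferInstance, fun z' => ?_⟩
  obtain ⟨U, hzU, hUc, rs, hrs, hker⟩ := hreg (pullback.fst i g z')
  have hcond : i (pullback.fst i g z') = g (pullback.snd i g z') := by
    rw [← Scheme.Hom.comp_apply, ← Scheme.Hom.comp_apply, hsq.w]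
  obtain ⟨_, ⟨U', hU', rfl⟩, hzU', hU'le⟩ :=
    X'.isBasis_affineOpens.exists_subset_of_mem_open
      (show pullback.snd i g z' ∈ (g ⁻¹ᵁ U.1 : X'.Opens) from by
        change g (pullback.snd i g z') ∈ U.1
        rw [← hcond]; exact hzU) (g ⁻¹ᵁ U.1).2
  have : IsClosedImmersion (i ∣_ U.1) := hUc
  obtain ⟨hci', hk⟩ := Groth.Agent.Lib.Helper5.RegBC.ker_app_of_isPullback i g
    (pullback.snd i g) (pullback.fst i g) hsq U.2 hU' hU'le
  have hk' : RingHom.ker ((pullback.snd i g).app U').hom =
      Ideal.ofList (rs.map (g.appLE U.1 U' hU'le).hom) := by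
    rw [hk, hker, Ideal.map_ofList]
  refine ⟨⟨U', hU'⟩, hzU', hci', rs.map (g.appLE U.1 U' hU'le).hom, ?_, hk'⟩
  refine Groth.Agent.Lib.Helper5.FlatKind.kind_seq_map_of_flat k _
    (Flat.flat_appLE g U.2 hU' hU'le) rs hrs ?_
  rw [← hk']
  intro htop
  have h1 : (1 : Γ(X', U')) ∈ RingHom.ker ((pullback.snd i g).app U').hom := by
    rw [htop]; trivial
  rw [RingHom.mem_ker, map_one] at h1
  have : Nontrivial Γ(pullback i g, pullback.snd i g ⁻¹ᵁ U') := by
    have : Nonempty ↥(pullback.snd i g ⁻¹ᵁ U') := ⟨⟨z', hzU'⟩⟩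
    infer_instance
  exact one_ne_zero h1

end Groth.Agent.S8906
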