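import Groth.Statements.S8909
import Groth.Agent.S4362
import Groth.Agent.S3861
import Groth.Agent.S19618
import Groth.Agent.Lib.Helper29.ColonSheaf

set_option autoImplicit false
universe u
open CategoryTheory CategoryTheory.Limits AlgebraicGeometry TopologicalSpace
open SDiv

namespace Groth.Agent.S8909

open Groth.Agent.Lib.Helper29.EffCart Groth.Agent.Lib.Helper29.Colon

/-- Generisation does not increase the dimension of the local ring. -/
lemma ringKrullDim_stalk_le_of_specializes {X : Scheme.{u}} {y z : X} (h : y ⤳ z) :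
    ringKrullDim (X.presheaf.stalk y) ≤ ringKrullDim (X.presheaf.stalk z) := by
  obtain ⟨_, ⟨U, hU, rfl⟩, hzU, -⟩ :=
    X.isBasis_affineOpens.exists_subset_of_mem_open (Set.mem_univ z) isOpen_univ
  have hyU : y ∈ U := mem_of_specializes h hzU
  obtain ⟨p, rfl⟩ := exists_fromSpec_eq ⟨U, hU⟩ hyU
  obtain ⟨q, rfl⟩ := exists_fromSpec_eq ⟨U, hU⟩ hzU
  rw [ringKrullDim_stalk_fromSpec, ringKrullDim_stalk_fromSpec]
  have hpq : p ≤ q := (fromSpec_specializes_iff ⟨U, hU⟩ p q).1 h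
  exact_mod_cast Ideal.height_mono hpq

/-- A strict generisation strictly decreases the dimension of the local ring. -/
lemma ringKrullDim_stalk_add_one_le_of_specializes {X : Scheme.{u}} [IsLocallyNoetherian X]
    {y z : X} (h : y ⤳ z) (hne : y ≠ z) :
    ringKrullDim (X.presheaf.stalk y) + 1 ≤ ringKrullDim (X.presheaf.stalk z) := by
  obtain ⟨_, ⟨U, hU, rfl⟩, hzU, -⟩ :=
    X.isBasis_affineOpens.exists_subset_of_mem_open (Set.mem_univ z) isOpen_univ
  have hyU : y ∈ U := mem_of_specializes h hzU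
  obtain ⟨p, rfl⟩ := exists_fromSpec_eq ⟨U, hU⟩ hyU
  obtain ⟨q, rfl⟩ := exists_fromSpec_eq ⟨U, hU⟩ hzU
  haveI : IsNoetherianRing Γ(X, U) := IsLocallyNoetherian.component_noetherian ⟨U, hU⟩
  rw [ringKrullDim_stalk_fromSpec, ringKrullDim_stalk_fromSpec]
  have hpq : p ≤ q := (fromSpec_specializes_iff ⟨U, hU⟩ p q).1 h
  have hlt : p.asIdeal < q.asIdeal := by
    refine lt_of_le_of_ne hpq fun heq => hne ?_
    rw [PrimeSpectrum.ext heq]
  have := Ideal.height_strict_mono_of_isPrime_of_isPrime hlt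
  have h2 : p.asIdeal.height + 1 ≤ q.asIdeal.height := Order.add_one_le_of_lt this
  exact_mod_cast h2

/-- Every point of a closed subset has a generisation in the subset which is maximal there. -/
lemma exists_maximal_generization {X : Scheme.{u}} [IsLocallyNoetherian X] (Z' : Set X)
    (hZ' : IsClosed Z') (z : X) (hz : z ∈ Z') :
    ∃ y ∈ Z', y ⤳ z ∧ ∀ y' ∈ Z', y' ⤳ y → y' = y := by
  set 𝓥 := Scheme.IdealSheafData.vanishingIdeal ⟨Z', hZ'⟩ with h𝓥
  have hsupp : ∀ x : X, x ∈ 𝓥.support ↔ x ∈ Z' := by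
    intro x
    rw [← SetLike.mem_coe, h𝓥, Scheme.IdealSheafData.coe_support_vanishingIdeal]
    rfl
  obtain ⟨_, ⟨U, hU, rfl⟩, hzU, -⟩ :=
    X.isBasis_affineOpens.exists_subset_of_mem_open (Set.mem_univ z) isOpen_univ
  obtain ⟨q, rfl⟩ := exists_fromSpec_eq ⟨U, hU⟩ hzU
  have hq : 𝓥.ideal ⟨U, hU⟩ ≤ q.asIdeal :=
    (fromSpec_mem_support_iff 𝓥 ⟨U, hU⟩ q).1 ((hsupp _).2 hz)
  obtain ⟨p, hpmin, hpq⟩ := Ideal.exists_minimalPrimes_le hq
  have hpprime : p.IsPrime := hpmin.1.1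
  refine ⟨hU.fromSpec ⟨p, hpprime⟩, ?_, ?_, ?_⟩
  · exact (hsupp _).1 ((fromSpec_mem_support_iff 𝓥 ⟨U, hU⟩ ⟨p, hpprime⟩).2 hpmin.1.2)
  · exact (fromSpec_specializes_iff ⟨U, hU⟩ ⟨p, hpprime⟩ q).2 hpq
  · intro y' hy' hsp
    have hy'U : y' ∈ U := mem_of_specializes hsp (fromSpec_mem ⟨U, hU⟩ _)
    obtain ⟨p', rfl⟩ := exists_fromSpec_eq ⟨U, hU⟩ hy'U
    have hle : p' ≤ ⟨p, hpprime⟩ := (fromSpec_specializes_iff ⟨U, hU⟩ p' ⟨p, hpprime⟩).1 hsp
    have hp' : 𝓥.ideal ⟨U, hU⟩ ≤ p'.asIdeal :=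
      (fromSpec_mem_support_iff 𝓥 ⟨U, hU⟩ p').1 ((hsupp _).2 hy')
    have : p ≤ p'.asIdeal := hpmin.2 ⟨p'.2, hp'⟩ hle
    congr 1
    exact PrimeSpectrum.ext (le_antisymm hle this)

/-- The ideal sheaf of a reduced closed subscheme is radical. -/
lemma radical_eq_self_of_isReduced {X : Scheme.{u}} (𝓓 : X.IdealSheafData)
    [IsReduced 𝓓.subscheme] : 𝓓.radical = 𝓓 := by
  refine le_antisymm ?_ 𝓓.le_radical
  intro U x hx
  change x ∈ (𝓓.ideal U).radical at hx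
  obtain ⟨n, hn⟩ := hx
  rw [← 𝓓.ker_subschemeι_app U, RingHom.mem_ker] at hn ⊢
  rw [map_pow] at hn
  exact IsReduced.eq_zero _ ⟨n, hn⟩

/-- If the generic point of an integral closed subscheme `V(𝓓)` lies in the support of `𝓡`, then
`𝓡 ≤ 𝓓`. -/
lemma le_of_genericPoint_mem_support {X : Scheme.{u}} (𝓓 𝓡 : X.IdealSheafData)
    [IsIntegral 𝓓.subscheme]
    (h : 𝓓.subschemeι (genericPoint 𝓓.subscheme) ∈ 𝓡.support) : 𝓡 ≤ 𝓓 := by
  have hsub : 𝓓.support ≤ 𝓡.support := by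
    intro x hx
    have hx' : x ∈ Set.range 𝓓.subschemeι := by rw [𝓓.range_subschemeι]; exact hx
    obtain ⟨x', rfl⟩ := hx'
    have hsp : genericPoint 𝓓.subscheme ⤳ x' := genericPoint_specializes x'
    exact (hsp.map 𝓓.subschemeι.continuous).mem_closed 𝓡.support.isClosed h
  have h1 : 𝓡 ≤ Scheme.IdealSheafData.vanishingIdeal 𝓓.support :=
    Scheme.IdealSheafData.le_support_iff_le_vanishingIdeal.1 hsub
  rwa [Scheme.IdealSheafData.vanishingIdeal_support, radical_eq_self_of_isReduced] at h1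

/-- The generic point of an integral closed subscheme specialises to every point of the support. -/
lemma genericPoint_specializes_of_mem_support {X : Scheme.{u}} (𝓓 : X.IdealSheafData)
    [IsIntegral 𝓓.subscheme] {z : X} (hz : z ∈ 𝓓.support) :
    𝓓.subschemeι (genericPoint 𝓓.subscheme) ⤳ z := by
  have hz' : z ∈ Set.range 𝓓.subschemeι := by rw [𝓓.range_subschemeι]; exact hz
  obtain ⟨z', rfl⟩ := hz'
  exact (genericPoint_specializes z').map 𝓓.subschemeι.continuous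

lemma genericPoint_mem_support {X : Scheme.{u}} (𝓓 : X.IdealSheafData)
    [IsIntegral 𝓓.subscheme] : 𝓓.subschemeι (genericPoint 𝓓.subscheme) ∈ 𝓓.support := by
  have : 𝓓.subschemeι (genericPoint 𝓓.subscheme) ∈ Set.range 𝓓.subschemeι := ⟨_, rfl⟩
  rw [𝓓.range_subschemeι] at this
  exact this

/-- No point with zero-dimensional local ring lies in `Z' ∪ ⋃ D_i`. -/
lemma not_mem_of_dim_zero {X : Scheme.{u}} [IsLocallyNoetherian X]
    {I : Type u} (𝓓 : I → X.IdealSheafData) (hD : ∀ i, BlowUp.IsEffCartierIdeal (𝓓 i))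
    (Z' : Set ↥X) (hZ' : IsClosed Z')
    (hcodim : ∀ z ∈ Z', (∀ y ∈ Z', y ⤳ z → y = z) →
      (2 : WithBot ℕ∞) ≤ ringKrullDim ↑(X.presheaf.stalk z))
    (η : X) (hη : ringKrullDim (X.presheaf.stalk η) = 0) :
    η ∉ Z' ∪ ⋃ i, ((𝓓 i).support : Set ↥X) := by
  rintro (h | h)
  · obtain ⟨y, hy, hsp, hmax⟩ := exists_maximal_generization Z' hZ' η h
    have h2 := hcodim y hy hmax
    have h3 := ringKrullDim_stalk_le_of_specializes hsp
    rw [hη] at h3
    have : (2 : WithBot ℕ∞) ≤ 0 := h2.trans h3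
    exact absurd this (by decide)
  · obtain ⟨_, ⟨j, rfl⟩, hj⟩ := h
    have h1 := Groth.Agent.S19618.one_le_ringKrullDim_stalk_of_mem_support (𝓓 j) (hD j) η hj
    rw [hη] at h1
    exact absurd h1 (by decide)

/-- Strictness of division: `𝓩 * 𝓓 i = 𝓩` is impossible when `𝓩 ≤ 𝓓 i`. -/
lemma mul_ne_self {X : Scheme.{u}} [IsLocallyNoetherian X] (𝓩 : X.IdealSheafData)
    {I : Type u} (𝓓 : I → X.IdealSheafData) (hD : ∀ i, BlowUp.IsEffCartierIdeal (𝓓 i))
    (hDint : ∀ i, IsIntegral (𝓓 i).subscheme)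
    (Z' : Set ↥X) (hZ' : IsClosed Z')
    (hcodim : ∀ z ∈ Z', (∀ y ∈ Z', y ⤳ z → y = z) →
      (2 : WithBot ℕ∞) ≤ ringKrullDim ↑(X.presheaf.stalk z))
    (hcover : (𝓩.support : Set ↥X) ⊆ Z' ∪ ⋃ i, ((𝓓 i).support : Set ↥X))
    (i : I) (heq : 𝓩 * 𝓓 i = 𝓩) : False := by
  haveI := hDint i
  set ξ := (𝓓 i).subschemeι (genericPoint (𝓓 i).subscheme) with hξ
  have hξD : ξ ∈ (𝓓 i).support := genericPoint_mem_support (𝓓 i)
  obtain ⟨U, hξU, t, ht, hI⟩ := hD i ξ
  obtain ⟨p, hp⟩ := exists_fromSpec_eq U hξU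
  haveI : IsNoetherianRing Γ(X, U.1) := IsLocallyNoetherian.component_noetherian U
  have htp : t ∈ p.asIdeal := by
    have h1 : (𝓓 i).ideal U ≤ p.asIdeal := (fromSpec_mem_support_iff (𝓓 i) U p).1 (hp ▸ hξD)
    exact h1 (hI ▸ Ideal.mem_span_singleton_self t)
  have hZeq : 𝓩.ideal U * Ideal.span {t} = 𝓩.ideal U := by
    have := congrArg (fun J : X.IdealSheafData => J.ideal U) heq
    simpa [hI] using this
  obtain ⟨r, hr1, hr0⟩ := Submodule.exists_sub_one_mem_and_smul_eq_zero_of_fg_of_le_smul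
    (Ideal.span {t}) (𝓩.ideal U) (IsNoetherian.noetherian _)
    (by rw [Ideal.smul_eq_mul, mul_comm, hZeq])
  have hrp : r ∉ p.asIdeal := by
    intro hr
    have h1 : r - 1 ∈ p.asIdeal := ((Ideal.span_singleton_le_iff_mem _).2 htp) hr1
    have : (1 : Γ(X, U.1)) ∈ p.asIdeal := by
      have := p.asIdeal.sub_mem hr h1
      simpa using this
    exact p.2.ne_top ((Ideal.eq_top_iff_one _).2 this)
  obtain ⟨q, hqmin, hqp⟩ := Ideal.exists_minimalPrimes_le (bot_le : (⊥ : Ideal Γ(X, U.1)) ≤ p.asIdeal)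
  have hqprime : q.IsPrime := hqmin.1.1
  have hZq : 𝓩.ideal U ≤ q := by
    intro z hz
    have h0 : r * z = 0 := hr0 z hz
    have : r * z ∈ q := h0 ▸ q.zero_mem
    exact (hqprime.mem_or_mem this).resolve_left fun hrq => hrp (hqp hrq)
  set η := U.2.fromSpec ⟨q, hqprime⟩ with hη
  have hηZ : η ∈ 𝓩.support := (fromSpec_mem_support_iff 𝓩 U ⟨q, hqprime⟩).2 hZq
  have hdim : ringKrullDim (X.presheaf.stalk η) = 0 := by
    rw [hη, ringKrullDim_stalk_fromSpec]
    have : q.height = 0 := Ideal.height_eq_zero_iff.2 hqmin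
    change ((q.height : ℕ∞) : WithBot ℕ∞) = 0
    rw [this]; rfl
  exact not_mem_of_dim_zero 𝓓 hD Z' hZ' hcodim η hdim (hcover hηZ)

/-- Factor out all divisors `D_i` through which `𝓩` passes. -/
lemma exists_factorization {X : Scheme.{u}} [IsNoetherian X]
    {I : Type u} (𝓓 : I → X.IdealSheafData) (hD : ∀ i, BlowUp.IsEffCartierIdeal (𝓓 i))
    (hDint : ∀ i, IsIntegral (𝓓 i).subscheme)
    (Z' : Set ↥X) (hZ' : IsClosed Z')
    (hcodim : ∀ z ∈ Z', (∀ y ∈ Z', y ⤳ z → y = z) →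
      (2 : WithBot ℕ∞) ≤ ringKrullDim ↑(X.presheaf.stalk z)) (𝓩 : X.IdealSheafData) :
    (𝓩.support : Set ↥X) ⊆ Z' ∪ ⋃ i, ((𝓓 i).support : Set ↥X) →
      ∃ (a : I →₀ ℕ) (𝓡 : X.IdealSheafData),
        𝓩 = 𝓡 * a.prod (fun i n => 𝓓 i ^ n) ∧ ∀ i, ¬ 𝓡 ≤ 𝓓 i := by
  classical
  haveI : WellFoundedGT X.IdealSheafData := Groth.Agent.S4362.result X
  refine WellFoundedGT.induction (motive := fun 𝓩 : X.IdealSheafData =>
    (𝓩.support : Set ↥X) ⊆ Z' ∪ ⋃ i, ((𝓓 i).support : Set ↥X) →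
      ∃ (a : I →₀ ℕ) (𝓡 : X.IdealSheafData),
        𝓩 = 𝓡 * a.prod (fun i n => 𝓓 i ^ n) ∧ ∀ i, ¬ 𝓡 ≤ 𝓓 i) 𝓩 ?_
  intro 𝓩 ih hcover
  by_cases hex : ∃ i, 𝓩 ≤ 𝓓 i
  · obtain ⟨i, hle⟩ := hex
    have hmul : colonSheaf 𝓩 (𝓓 i) * 𝓓 i = 𝓩 := colonSheaf_mul_eq 𝓩 (𝓓 i) (hD i) hle
    have hle' : 𝓩 ≤ colonSheaf 𝓩 (𝓓 i) := le_colonSheaf 𝓩 (𝓓 i)
    have hne : 𝓩 ≠ colonSheaf 𝓩 (𝓓 i) := by
      intro h
      rw [← h] at hmul
      exact mul_ne_self 𝓩 𝓓 hD hDint Z' hZ' hcodim hcover i hmul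
    have hlt : 𝓩 < colonSheaf 𝓩 (𝓓 i) := lt_of_le_of_ne hle' hne
    have hcover' : ((colonSheaf 𝓩 (𝓓 i)).support : Set ↥X) ⊆
        Z' ∪ ⋃ i, ((𝓓 i).support : Set ↥X) :=
      (SetLike.coe_subset_coe.2 (Scheme.IdealSheafData.support_antitone hle')).trans hcover
    obtain ⟨a, 𝓡, ha, hR⟩ := ih _ hlt hcover'
    refine ⟨a + Finsupp.single i 1, 𝓡, ?_, hR⟩
    have e1 : (Finsupp.single i 1).prod (fun i n => 𝓓 i ^ n) = 𝓓 i :=
      (Finsupp.prod_single_index (a := i) (b := 1) (h := fun i n => 𝓓 i ^ n) (pow_zero _)).trans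
        (pow_one _)
    rw [Finsupp.prod_add_index' (fun _ => pow_zero _) (fun _ _ _ => pow_add _ _ _),
      e1, ← mul_assoc, ← ha, hmul]
  · exact ⟨0, 𝓩, by simp, fun i h => hex ⟨i, h⟩⟩

/-- Let X be a Noetherian scheme and Z ⊆ X a closed subscheme with ideal sheaf 𝓩. Suppose given a family
of integral effective Cartier divisors D_i ⊆ X (ideal sheaves 𝓓_i, i ∈ I) and a closed subset Z' ⊆ X
whose irreducible components all have codimension at least 2 in X (the local ring of X at each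
maximal point of Z' has dimension ≥ 2), such that Z ⊆ Z' ∪ ⋃ D_i set-theoretically. Then there are
integers a_i ≥ 0, almost all zero, such that the effective Cartier divisor D = Σ a_i D_i (with ideal
sheaf the product of the 𝓓_i^{a_i}) is contained in Z as a closed subscheme and the inclusion D → Z
is an isomorphism outside codimension 2: for some open U ⊆ X the ideal sheaves of D and Z agree on U
and every irreducible component of Z ∖ U has codimension ≥ 2 in X. The published statement also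
asserts that such D_i and Z' exist when Z is nowhere dense in X and either every local ring of X at
a point of Z is factorial or X is regular; this row does not. -/
theorem result (X : Scheme.{u}) [IsNoetherian X] (𝓩 : X.IdealSheafData)
    {I : Type u} (𝓓 : I → X.IdealSheafData) (hD : ∀ i, BlowUp.IsEffCartierIdeal (𝓓 i)) (hDint : ∀ i, IsIntegral (𝓓 i).subscheme)
    (Z' : Set ↥X) (hZ' : IsClosed Z')
    (hcodim : ∀ z ∈ Z', (∀ y ∈ Z', y ⤳ z → y = z) → (2 : WithBot ℕ∞) ≤ ringKrullDim ↑(X.presheaf.stalk z))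
    (hcover : (𝓩.support : Set ↥X) ⊆ Z' ∪ ⋃ i, ((𝓓 i).support : Set ↥X)) :
    ∃ a : I →₀ ℕ, 𝓩 ≤ a.prod (fun i n => 𝓓 i ^ n) ∧
      ∃ U : X.Opens, (a.prod (fun i n => 𝓓 i ^ n)).comap U.ι = 𝓩.comap U.ι ∧
        ∀ z ∈ (𝓩.support : Set ↥X) \ (U : Set ↥X), (∀ y ∈ (𝓩.support : Set ↥X) \ (U : Set ↥X), y ⤳ z → y = z) →
          (2 : WithBot ℕ∞) ≤ ringKrullDim ↑(X.presheaf.stalk z) := by
  obtain ⟨a, 𝓡, ha, hR⟩ := exists_factorization 𝓓 hD hDint Z' hZ' hcodim 𝓩 hcover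
  refine ⟨a, ?_, 𝓡.support.compl, ?_, ?_⟩
  · rw [ha]
    intro U
    exact (Ideal.mul_le_right : 𝓡.ideal U * (a.prod fun i n => 𝓓 i ^ n).ideal U ≤
      (a.prod fun i n => 𝓓 i ^ n).ideal U)
  · have htop : 𝓡.comap (Scheme.Opens.ι (X := X) 𝓡.support.compl) = ⊤ := by
      rw [← Scheme.IdealSheafData.support_eq_bot_iff, Scheme.IdealSheafData.support_comap]
      ext x
      simp only [TopologicalSpace.Closeds.coe_preimage, Set.mem_preimage, SetLike.mem_coe,
        TopologicalSpace.Closeds.coe_bot, Set.mem_empty_iff_false, iff_false]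
      exact x.2
    conv_rhs => rw [ha, Groth.Agent.S3861.result, htop, Scheme.IdealSheafData.top_mul]
  · rintro z ⟨hzZ, hzU⟩ -
    have hzR : z ∈ 𝓡.support := by
      by_contra h
      exact hzU h
    rcases hcover hzZ with h | h
    · obtain ⟨y, hy, hsp, hmax⟩ := exists_maximal_generization Z' hZ' z h
      exact (hcodim y hy hmax).trans (ringKrullDim_stalk_le_of_specializes hsp)
    · obtain ⟨_, ⟨i, rfl⟩, hi⟩ := h
      haveI := hDint i
      have hsp := genericPoint_specializes_of_mem_support (𝓓 i) hi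
      have hne : (𝓓 i).subschemeι (genericPoint (𝓓 i).subscheme) ≠ z := by
        intro heq
        exact hR i (le_of_genericPoint_mem_support (𝓓 i) 𝓡 (heq ▸ hzR))
      have h1 := ringKrullDim_stalk_add_one_le_of_specializes hsp hne
      have h2 := Groth.Agent.S19618.one_le_ringKrullDim_stalk_of_mem_support (𝓓 i) (hD i) _
        (genericPoint_mem_support (𝓓 i))
      refine le_trans ?_ h1
      have : (2 : WithBot ℕ∞) = 1 + 1 := by norm_num
      rw [this]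
      exact add_le_add_left h2 1

end Groth.Agent.S8909
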