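import Groth.Statements.S8911
import Groth.Agent.Lib.Helper29.StrictTransMod
import Groth.Agent.Lib.Helper5.FittSheafF
import Groth.Agent.Lib.Helper5.FittSheafC
import Groth.Agent.Lib.Helper23.Fitting15

set_option autoImplicit false
universe u
open CategoryTheory CategoryTheory.Limits AlgebraicGeometry TopologicalSpace
open SDiv

namespace Groth.Agent.S8911

open Groth.Agent.Lib.Helper29.StrictTransMod Groth.Agent.Lib.Helper5.FittSheaf
open Groth.Agent.Lib.Helper28.FinType Groth.Agent.Lib.Helper17.CohKer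


/-- the basic facts about the strict transform of `F` along the blow-up of a Fitting ideal -/
theorem strict_facts (S : Scheme.{u}) (F : S.Modules) (hF : Coh.IsQCoh F) (hft : CohB1.IsFT F)
    (k : ℕ) {S' : Scheme.{u}} (b : S' ⟶ S) (hE : BlowUp.IsEffCartierIdeal ((Fitt.sheafIdeal F k).comap b))
    (G : S'.Modules) (π : (Scheme.Modules.pullback b).obj F ⟶ G)
    (hG : BlowUp.IsStrictTransform b (Fitt.sheafIdeal F k) F G π) :
    G.IsQuasicoherent ∧ SheafOfModules.IsFiniteType.{u} (R := S'.ringCatSheaf) G ∧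
      ∀ (V : S'.affineOpens) (t : Γ(S', V.1)), t ∈ nonZeroDivisors Γ(S', V.1) →
        ((Fitt.sheafIdeal F k).comap b).ideal V = Ideal.span {t} →
        Fitt.ideal Γ(S', V.1) Γ(G, V.1) k = ⊤ := by
  haveI : F.IsQuasicoherent := hF
  haveI : SheafOfModules.IsFiniteType.{u} (R := S.ringCatSheaf) F := hft
  haveI : ((Scheme.Modules.pullback b).obj F).IsQuasicoherent := inferInstance
  haveI : SheafOfModules.IsFiniteType.{u} (R := S'.ringCatSheaf) ((Scheme.Modules.pullback b).obj F) :=
    Groth.Agent.Lib.Helper17.TensorSupp.isFiniteType_pullback b F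
  haveI : Epi π := hG.1
  have hπ : KillsTorsion ((Fitt.sheafIdeal F k).comap b) π := hG.2
  haveI hGq : G.IsQuasicoherent := isQuasicoherent_target hE hπ
  refine ⟨hGq, isFiniteType_of_epi π, fun V t ht0 ht => ?_⟩
  obtain ⟨e⟩ := nonempty_sections_equiv hE hπ t ht
  haveI := finite_of_isAffineOpen ((Scheme.Modules.pullback b).obj F) V.2
  rw [← Helper23.Fit.ideal_congr e k]
  apply Helper23.Fit.ideal_quotient_powTorsion_eq_top k t t dvd_rfl ht0
  rw [← sheafIdeal_ideal, ← sheafIdeal_comap, ht]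


/-- Let S be a scheme, F a quasi-coherent O_S-module of finite type, k ≥ 0, b : S' ⟶ S a blowing up of S
in the closed subscheme Z_k cut out by Fit_k(F), and π : b^*F ⟶ G the strict transform of F along b.
Then G can locally be generated by at most k sections. -/
theorem result (S : Scheme.{u}) (F : S.Modules) (hF : Coh.IsQCoh F) (hft : CohB1.IsFT F)
    (k : ℕ) {S' : Scheme.{u}} (b : S' ⟶ S) (hb : BlowUp.IsBlowUp b (Fitt.sheafIdeal F k)) (G : S'.Modules)
    (π : (Scheme.Modules.pullback b).obj F ⟶ G) (hG : BlowUp.IsStrictTransform b (Fitt.sheafIdeal F k) F G π) (s' : ↥S') :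
    ∃ U : S'.Opens, s' ∈ U ∧ ∃ q : FlatMod.freeMod (↑U) k ⟶ G.restrict U.ι, Epi q := by
  obtain ⟨hq, hfin, hfit⟩ := strict_facts S F hF hft k b hb.1 G π hG
  haveI := hq
  haveI := hfin
  apply exists_epi_of_not_mem_support G k s'
  obtain ⟨V, hs'V, t, ht0, ht⟩ := hb.1 s'
  rw [not_mem_support_iff G k V.2 s' hs'V, hfit V t ht0 ht]
  intro hle
  exact (V.2.primeIdealOf ⟨s', hs'V⟩).isPrime.ne_top (top_le_iff.mp hle)



end Groth.Agent.S8911
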