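import Groth.Statements.S8912
import Groth.Agent.S8911

set_option autoImplicit false
universe u
open CategoryTheory CategoryTheory.Limits AlgebraicGeometry TopologicalSpace
open SDiv

namespace Groth.Agent.S8912

open Groth.Agent.Lib.Helper29.StrictTransMod Groth.Agent.Lib.Helper5.FittSheaf
open Groth.Agent.Lib.Helper28.FinType Groth.Agent.Lib.Helper17.CohKer
open Groth.Agent.Lib.Helper7.FPKer


/-- Fitting ideal sheaves only depend on the isomorphism class -/
theorem sheafIdeal_congr {X : Scheme.{u}} {M M' : X.Modules} (e : M ≅ M') (j : ℕ) :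
    Fitt.sheafIdeal M j = Fitt.sheafIdeal M' j := by
  unfold Fitt.sheafIdeal
  congr 1
  funext U
  refine Helper23.Fit.ideal_congr (LinearEquiv.ofLinear (appLinear e.hom U.1) (appLinear e.inv U.1)
    ?_ ?_) j
  · ext m
    have := congrArg (fun ψ : (M' ⟶ M') => ψ.app U.1 m) e.inv_hom_id
    exact this
  · ext m
    have := congrArg (fun ψ : (M ⟶ M) => ψ.app U.1 m) e.hom_inv_id
    exact this

/-- the lower Fitting ideals vanish on the open where `F` is locally free of rank `k` -/
theorem fitt_comap_eq_bot {S : Scheme.{u}} (F : S.Modules) [F.IsQuasicoherent]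
    [SheafOfModules.IsFiniteType.{u} (R := S.ringCatSheaf) F] (k : ℕ) (W : S.Opens)
    (hfree : FlatMod.IsFinLocFreeOfRank k (F.restrict W.ι)) (j : ℕ) (hj : j < k) :
    (Fitt.sheafIdeal F j).comap W.ι = ⊥ := by
  have hlf : FlatMod.IsFinLocFree (F.restrict W.ι) := fun x => by
    obtain ⟨U, hxU, e⟩ := hfree x
    exact ⟨U, k, hxU, e⟩
  haveI := Groth.Agent.Lib.Helper29.FreeIso.isQuasicoherent_of_isFinLocFree _ hlf
  haveI := Groth.Agent.Lib.Helper29.FreeIso.isFiniteType_of_isFinLocFree _ hlf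
  rw [sheafIdeal_comap, ← sheafIdeal_congr ((Scheme.Modules.restrictFunctorIsoPullback W.ι).app F) j]
  exact ((isFinLocFreeOfRank_iff (F.restrict W.ι) k).1 hfree).1 j hj

/-- sections of an ideal sheaf vanishing off `V(I)` are killed by powers of a local generator
of the inverse image of `I` -/
theorem exists_pow_mul_eq_zero_of_comap_eq_bot {S S' : Scheme.{u}} (b : S' ⟶ S)
    (I J : S.IdealSheafData) (W : S.Opens) (hW : ∀ y : S, y ∉ I.support → y ∈ W)
    (hJ : J.comap W.ι = ⊥)
    (V : S'.affineOpens) (t : Γ(S', V.1)) (ht : (I.comap b).ideal V = Ideal.span {t})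
    (z : Γ(S', V.1)) (hz : z ∈ (J.comap b).ideal V) : ∃ m : ℕ, t ^ m * z = 0 := by
  -- the basic open `D(t)` maps into the complement of `V(I)`
  have hrange : Set.range ((S'.basicOpen t).ι ≫ b) ⊆ Set.range W.ι := by
    rintro _ ⟨y, rfl⟩
    rw [Scheme.Opens.range_ι]
    refine hW _ fun hy => ?_
    have hy' : (y.1 : S') ∈ (I.comap b).support := by
      rw [Scheme.IdealSheafData.support_comap]
      exact hy
    have hyV : (y.1 : S') ∈ V.1 := S'.basicOpen_le t y.2
    rw [Scheme.IdealSheafData.mem_support_iff_of_mem (U := V) hyV, ht,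
      Scheme.mem_zeroLocus_iff] at hy'
    exact hy' t (Ideal.subset_span rfl) y.2
  let c : (S'.basicOpen t : Scheme.{u}) ⟶ (W : Scheme.{u}) :=
    IsOpenImmersion.lift W.ι ((S'.basicOpen t).ι ≫ b) hrange
  have hc : c ≫ W.ι = (S'.basicOpen t).ι ≫ b := IsOpenImmersion.lift_fac _ _ _
  have hbot : (J.comap b).comap (S'.basicOpen t).ι = ⊥ := by
    rw [← Scheme.IdealSheafData.comap_comp, ← hc, Scheme.IdealSheafData.comap_comp, hJ,
      Scheme.IdealSheafData.comap_bot]
  -- hence the ideal over `D(t)` vanishes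
  have hD : IsAffineOpen (S'.basicOpen t) := V.2.basicOpen t
  have hDbot : (J.comap b).ideal ⟨S'.basicOpen t, hD⟩ = ⊥ := by
    haveI : IsAffine (S'.basicOpen t : Scheme.{u}) := hD
    have htop : IsAffineOpen (⊤ : (S'.basicOpen t : Scheme.{u}).Opens) := isAffineOpen_top _
    have hle : (⊤ : (S'.basicOpen t : Scheme.{u}).Opens) ≤
        (S'.basicOpen t).ι ⁻¹ᵁ (S'.basicOpen t) := fun y _ => y.2
    have h1 := Groth.Agent.Lib.Helper29.EffCart.ideal_comap_eq_map (J.comap b) (S'.basicOpen t).ι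
      ⟨S'.basicOpen t, hD⟩ ⟨⊤, htop⟩ hle
    rw [hbot, Scheme.IdealSheafData.ideal_bot] at h1
    have hinj : Function.Injective ((S'.basicOpen t).ι.appLE (S'.basicOpen t) ⊤ hle).hom := by
      haveI : IsIso ((S'.basicOpen t).ι.appLE (S'.basicOpen t) ⊤ hle) :=
        inferInstanceAs (IsIso ((S'.basicOpen t).ι.appLE (S'.basicOpen t) ⊤
          (S'.basicOpen t).ι_preimage_self.ge))
      exact (ConcreteCategory.bijective_of_isIso
        ((S'.basicOpen t).ι.appLE (S'.basicOpen t) ⊤ hle)).1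
    exact (Ideal.map_eq_bot_iff_of_injective hinj).1 h1.symm
  -- restrict `z`
  have hzD : (S'.presheaf.map (homOfLE (S'.basicOpen_le t)).op).hom z = 0 := by
    have h2 := (J.comap b).ideal_le_comap_ideal (U := ⟨S'.basicOpen t, hD⟩) (V := V)
      (S'.basicOpen_le t) hz
    rw [Ideal.mem_comap, hDbot, Ideal.mem_bot] at h2
    exact h2
  haveI := V.2.isLocalization_basicOpen t
  obtain ⟨⟨_, m, rfl⟩, hm⟩ := (IsLocalization.map_eq_zero_iff (Submonoid.powers t)
    Γ(S', S'.basicOpen t) z).1 hzD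
  exact ⟨m, hm⟩


/-- Let S be a scheme, F a quasi-coherent O_S-module of finite type and k ≥ 0 such that F is locally
free of rank k on the complement of the closed subscheme Z_k cut out by Fit_k(F). Let b : S' ⟶ S be
a blowing up of S in Z_k and π : b^*F ⟶ G the strict transform of F. Then G is finite locally free
of rank k. -/
theorem result (S : Scheme.{u}) (F : S.Modules) (hF : Coh.IsQCoh F) (hft : CohB1.IsFT F)
    (k : ℕ) (hfree : FlatMod.IsFinLocFreeOfRank k (F.restrict (Scheme.Opens.ι (Fitt.sheafIdeal F k).support.compl)))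
    {S' : Scheme.{u}} (b : S' ⟶ S) (hb : BlowUp.IsBlowUp b (Fitt.sheafIdeal F k)) (G : S'.Modules)
    (π : (Scheme.Modules.pullback b).obj F ⟶ G) (hG : BlowUp.IsStrictTransform b (Fitt.sheafIdeal F k) F G π) :
    FlatMod.IsFinLocFreeOfRank k G := by
  obtain ⟨hq, hfin, hfit⟩ := Groth.Agent.S8911.strict_facts S F hF hft k b hb.1 G π hG
  haveI := hq
  haveI := hfin
  haveI : F.IsQuasicoherent := hF
  haveI : SheafOfModules.IsFiniteType.{u} (R := S.ringCatSheaf) F := hft
  haveI : ((Scheme.Modules.pullback b).obj F).IsQuasicoherent := inferInstance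
  haveI : SheafOfModules.IsFiniteType.{u} (R := S'.ringCatSheaf) ((Scheme.Modules.pullback b).obj F) :=
    Groth.Agent.Lib.Helper17.TensorSupp.isFiniteType_pullback b F
  haveI : Epi π := hG.1
  have hπ : KillsTorsion ((Fitt.sheafIdeal F k).comap b) π := hG.2
  have hE := hb.1
  choose V hxV t ht0 ht using hE
  have hcov : ⨆ x, (V x).1 = ⊤ := eq_top_iff.2 fun x _ => Opens.mem_iSup.2 ⟨x, hxV x⟩
  rw [isFinLocFreeOfRank_iff G k]
  constructor
  · intro j hj
    refine Scheme.IdealSheafData.ext_of_iSup_eq_top V hcov fun x => ?_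
    rw [sheafIdeal_ideal, Scheme.IdealSheafData.ideal_bot]
    obtain ⟨e⟩ := nonempty_sections_equiv hb.1 hπ (t x) (ht x)
    haveI := finite_of_isAffineOpen ((Scheme.Modules.pullback b).obj F) (V x).2
    rw [← Helper23.Fit.ideal_congr e j]
    apply Helper23.Fit.ideal_quotient_powTorsion_eq_bot j (t x) (ht0 x)
    intro z hz
    rw [← sheafIdeal_ideal, ← sheafIdeal_comap] at hz
    exact exists_pow_mul_eq_zero_of_comap_eq_bot b (Fitt.sheafIdeal F k) (Fitt.sheafIdeal F j)
      (Fitt.sheafIdeal F k).support.compl (fun y hy => hy)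
      (fitt_comap_eq_bot F k _ hfree j hj) (V x) (t x) (ht x) z hz
  · intro j hj
    refine Scheme.IdealSheafData.ext_of_iSup_eq_top V hcov fun x => ?_
    rw [sheafIdeal_ideal, Scheme.IdealSheafData.ideal_top]
    haveI := finite_of_isAffineOpen G (V x).2
    exact top_le_iff.1 ((hfit (V x) (t x) (ht0 x) (ht x)) ▸ Helper23.Fit.ideal_mono_index hj)



end Groth.Agent.S8912
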