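import Groth.Statements.S8913
import Groth.Agent.S8912
import Groth.Agent.Lib.Helper29.FPFree
import Groth.Agent.Lib.Helper25.FlatChartGen

set_option autoImplicit false
universe u
open CategoryTheory CategoryTheory.Limits AlgebraicGeometry TopologicalSpace
open SDiv

namespace Groth.Agent.S8913

open Groth.Agent.Lib.Helper29.StrictTransMod Groth.Agent.Lib.Helper5.FittSheaf
open Groth.Agent.Lib.Helper28.FinType Groth.Agent.Lib.Helper17.CohKer
open Groth.Agent.Lib.Helper7.FPKer Groth.Agent.Lib.Helper29.FPDict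


/-- an ideal sheaf whose inverse image on an open `W` vanishes has zero ideal on affine opens in `W` -/
theorem ideal_eq_bot_of_comap_eq_bot {X : Scheme.{u}} (J : X.IdealSheafData) (W : X.Opens)
    (hJ : J.comap W.ι = ⊥) (D : X.affineOpens) (hDW : D.1 ≤ W) : J.ideal D = ⊥ := by
  have hrange : Set.range D.1.ι ⊆ Set.range W.ι := by
    rw [Scheme.Opens.range_ι, Scheme.Opens.range_ι]
    exact hDW
  let c : (D.1 : Scheme.{u}) ⟶ (W : Scheme.{u}) := IsOpenImmersion.lift W.ι D.1.ι hrange
  have hc : c ≫ W.ι = D.1.ι := IsOpenImmersion.lift_fac _ _ _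
  have hbot : J.comap D.1.ι = ⊥ := by
    rw [← hc, Scheme.IdealSheafData.comap_comp, hJ, Scheme.IdealSheafData.comap_bot]
  haveI : IsAffine (D.1 : Scheme.{u}) := D.2
  have htop : IsAffineOpen (⊤ : (D.1 : Scheme.{u}).Opens) := isAffineOpen_top _
  have hle : (⊤ : (D.1 : Scheme.{u}).Opens) ≤ D.1.ι ⁻¹ᵁ D.1 := fun y _ => y.2
  have h1 := Groth.Agent.Lib.Helper29.EffCart.ideal_comap_eq_map J D.1.ι D ⟨⊤, htop⟩ hle
  rw [hbot, Scheme.IdealSheafData.ideal_bot] at h1
  have hinj : Function.Injective (D.1.ι.appLE D.1 ⊤ hle).hom := by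
    haveI : IsIso (D.1.ι.appLE D.1 ⊤ hle) :=
      inferInstanceAs (IsIso (D.1.ι.appLE D.1 ⊤ D.1.ι_preimage_self.ge))
    exact (ConcreteCategory.bijective_of_isIso (D.1.ι.appLE D.1 ⊤ hle)).1
  exact (Ideal.map_eq_bot_iff_of_injective hinj).1 h1.symm

/-- an ideal sheaf vanishing on a schematically dense open is zero -/
theorem eq_bot_of_schematicallyDense {X : Scheme.{u}} (J : X.IdealSheafData) (U : X.Opens)
    (hU : CInt.IsSchematicallyDense U) (hJ : J.comap U.ι = ⊥) : J = ⊥ := by
  rw [← le_bot_iff, Scheme.IdealSheafData.le_def]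
  intro V z hz
  rw [Scheme.IdealSheafData.ideal_bot, Pi.bot_apply, Ideal.mem_bot]
  apply hU V.1
  rw [map_zero]
  -- locally zero on `V ⊓ U`
  have hloc : ∀ x : ↥(V.1 ⊓ U), ∃ D : X.affineOpens, x.1 ∈ D.1 ∧ D.1 ≤ V.1 ⊓ U := by
    intro x
    obtain ⟨_, ⟨D, hD, rfl⟩, hxD, hDle⟩ :=
      X.isBasis_affineOpens.exists_subset_of_mem_open x.2 (V.1 ⊓ U).2
    exact ⟨⟨D, hD⟩, hxD, hDle⟩
  choose D hxD hDle using hloc
  refine TopCat.Sheaf.eq_of_locally_eq' X.sheaf (fun x => (D x).1) (V.1 ⊓ U)
    (fun x => homOfLE (hDle x)) (fun x hx => Opens.mem_iSup.2 ⟨⟨x, hx⟩, hxD ⟨x, hx⟩⟩) _ _ ?_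
  intro x
  change (X.presheaf.map _).hom ((X.presheaf.map _).hom z) = (X.presheaf.map _).hom 0
  rw [map_zero]
  have hDV : (D x).1 ≤ V.1 := (hDle x).trans inf_le_left
  have h2 := J.ideal_le_comap_ideal (U := D x) (V := V) hDV hz
  rw [Ideal.mem_comap, ideal_eq_bot_of_comap_eq_bot J U hJ (D x) ((hDle x).trans inf_le_right),
    Ideal.mem_bot] at h2
  rw [← h2]
  change (X.presheaf.map _ ≫ X.presheaf.map _).hom z = _
  rw [← Functor.map_comp]
  rfl


/-- an ideal sheaf whose support misses an affine open has unit ideal there -/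
theorem ideal_eq_top_of_disjoint {X : Scheme.{u}} (I : X.IdealSheafData) (T : X.affineOpens)
    (h : Disjoint (I.support : Set X) (T.1 : Set X)) : I.ideal T = ⊤ := by
  have h1 := (T.2.fromSpec_image_zeroLocus (I.ideal T : Set Γ(X, T.1))).trans_subset
    (Set.subset_inter (I.zeroLocus_inter_subset_supportSet T) Set.inter_subset_right)
  have h2 : I.supportSet ∩ (T.1 : Set X) = ∅ := Set.disjoint_iff_inter_eq_empty.1 h
  rw [h2, Set.subset_empty_iff] at h1
  have h3 := Set.image_eq_empty.1 h1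
  exact PrimeSpectrum.zeroLocus_empty_iff_eq_top.mp h3

theorem comap_eq_top_of_disjoint {X : Scheme.{u}} (I : X.IdealSheafData) (W : X.Opens)
    (hW : Disjoint (I.support : Set X) (W : Set X)) : I.comap W.ι = ⊤ := by
  rw [← Scheme.IdealSheafData.support_eq_bot_iff, Scheme.IdealSheafData.support_comap]
  ext y
  simp only [Closeds.coe_preimage, Set.mem_preimage, SetLike.mem_coe, Closeds.coe_bot,
    Set.mem_empty_iff_false, iff_false]
  intro hy
  exact Set.disjoint_left.1 hW hy y.2

theorem isFinLocFreeOfRank_of_iso {X : Scheme.{u}} {r : ℕ} {M N : X.Modules} (e : M ≅ N)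
    (hM : FlatMod.IsFinLocFreeOfRank r M) : FlatMod.IsFinLocFreeOfRank r N := by
  intro x
  obtain ⟨V, hx, ⟨i⟩⟩ := hM x
  exact ⟨V, hx, ⟨(Scheme.Modules.restrictFunctor V.ι).mapIso e.symm ≪≫ i⟩⟩

/-- the kernel of the strict transform map has no sections over opens missing the centre -/
theorem kernel_sections_zero {X' : Scheme.{u}} {P G : X'.Modules} (π : P ⟶ G)
    (𝓔 : X'.IdealSheafData)
    (hker : ∀ (V : X'.affineOpens) (m : P.presheaf.obj (Opposite.op V.1)),
      π.app V.1 m = 0 → BlowUp.KilledByPowerNear 𝓔 P V m)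
    (O : X'.Opens) (hO : Disjoint (𝓔.support : Set X') (O : Set X')) (k : Γ(kernel π, O)) :
    k = 0 := by
  have hloc : ∀ x : O, ∃ T : X'.affineOpens, x.1 ∈ T.1 ∧ T.1 ≤ O := by
    intro x
    obtain ⟨_, ⟨D, hD, rfl⟩, hxD, hDle⟩ :=
      X'.isBasis_affineOpens.exists_subset_of_mem_open x.2 O.2
    exact ⟨⟨D, hD⟩, hxD, hDle⟩
  choose T hxT hTO using hloc
  refine Groth.Agent.Lib.Helper28.QCohLoc.eq_of_locally_eq (kernel π) (fun x => (T x).1) O hTO
    (fun x hx => Opens.mem_iSup.2 ⟨⟨x, hx⟩, hxT ⟨x, hx⟩⟩) k 0 fun x => ?_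
  rw [Groth.Agent.Lib.Helper28.QCohLoc.res_zero]
  apply kernel_ι_app_injective π (T x).1
  rw [map_zero]
  have hπm : π.app (T x).1 ((kernel.ι π).app (T x).1
      (Groth.Agent.Lib.Helper28.QCohLoc.res (kernel π) (hTO x) k)) = 0 :=
    app_kernel_ι_app π _ _
  obtain ⟨n, hn⟩ := hker (T x) _ hπm
  have htop : 𝓔.ideal (T x) = ⊤ :=
    ideal_eq_top_of_disjoint 𝓔 (T x) (Set.disjoint_of_subset_right (hTO x) hO)
  have hpow : (𝓔 ^ n).ideal (T x) = ⊤ := by
    rw [Scheme.IdealSheafData.ideal_pow, Pi.pow_apply, htop, Ideal.top_pow]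
  have h1 := hn 1 (hpow ▸ Submodule.mem_top)
  rwa [one_smul] at h1

/-- flatness over the target of an isomorphism means flat stalks -/
theorem isFlatOverAt_iff_of_isIso {X Y : Scheme.{u}} (f : X ⟶ Y) [IsIso f] (M : X.Modules) (x : X) :
    FlatMod.IsFlatOverAt f M x ↔ Module.Flat (X.presheaf.stalk x) (M.presheaf.stalk x) := by
  letI alg : Algebra (Y.presheaf.stalk (f x)) (X.presheaf.stalk x) := (f.stalkMap x).hom.toAlgebra
  letI m : Module (Y.presheaf.stalk (f x)) (M.presheaf.stalk x) := FlatMod.moduleStalkOver f M x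
  haveI : IsScalarTower (Y.presheaf.stalk (f x)) (X.presheaf.stalk x) (M.presheaf.stalk x) :=
    IsScalarTower.of_compHom _ _ _
  have hbij : Function.Bijective (algebraMap (Y.presheaf.stalk (f x)) (X.presheaf.stalk x)) := by
    haveI : IsIso (f.stalkMap x) := inferInstance
    exact (ConcreteCategory.isIso_iff_bijective (f.stalkMap x)).1 inferInstance
  haveI : IsLocalization (⊥ : Submonoid (Y.presheaf.stalk (f x))) (X.presheaf.stalk x) := by
    refine IsLocalization.of_le_isUnit_of_bijective ?_ hbij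
    rintro _ ⟨y, hy, rfl⟩
    rw [Submonoid.mem_bot.1 hy, map_one]
    exact isUnit_one
  exact (Module.flat_iff_of_isLocalization (X.presheaf.stalk x)
    (⊥ : Submonoid (Y.presheaf.stalk (f x))) (M.presheaf.stalk x)).symm


/-- Let X be a scheme, F a finitely presented O_X-module and U ⊆ X an open subscheme which is
scheme-theoretically dense and over which F is locally free of constant finite rank r. Then: (1)
Fit_r(F) is of finite type with support disjoint from U, so a blowing up b : X' ⟶ X of X in Fit_r(F)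
is U-admissible; (2) the strict transform G of F along such b is locally free of rank r; (3) the
kernel of the surjection b^*F ⟶ G is finitely presented and restricts to zero over b⁻¹U. This row
does not assert that b^*F and the kernel are perfect of tor dimension at most one. -/
theorem result (X : Scheme.{u}) (F : X.Modules) (hF : CohB1.IsFP F)
    (U : X.Opens) (hU : CInt.IsSchematicallyDense U) (r : ℕ) (hfree : FlatMod.IsFinLocFreeOfRank r (F.restrict U.ι)) :
    BlowUp.IsAdmissibleFor U (Fitt.sheafIdeal F r) ∧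
      ∀ (X' : Scheme.{u}) (b : X' ⟶ X), BlowUp.IsBlowUp b (Fitt.sheafIdeal F r) →
        ∀ (G : X'.Modules) (π : (Scheme.Modules.pullback b).obj F ⟶ G), BlowUp.IsStrictTransform b (Fitt.sheafIdeal F r) F G π →
          FlatMod.IsFinLocFreeOfRank r G ∧ CohB1.IsFP (kernel π) ∧ IsZero ((kernel π).restrict (b ⁻¹ᵁ U).ι) := by
  haveI : SheafOfModules.IsFinitePresentation.{u} (R := X.ringCatSheaf) F := hF
  haveI hq : F.IsQuasicoherent := isQuasicoherent_of_isFinitePresentation F
  haveI hft : SheafOfModules.IsFiniteType.{u} (R := X.ringCatSheaf) F :=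
    isFiniteType_of_isFinitePresentation F
  -- lower Fitting ideals vanish
  have hlow : ∀ j, j < r → Fitt.sheafIdeal F j = ⊥ := fun j hj =>
    eq_bot_of_schematicallyDense _ U hU (Groth.Agent.S8912.fitt_comap_eq_bot F r U hfree j hj)
  have hlfU : FlatMod.IsFinLocFree (F.restrict U.ι) := fun x => by
    obtain ⟨W, hxW, e⟩ := hfree x
    exact ⟨W, r, hxW, e⟩
  have htopU : (Fitt.sheafIdeal F r).comap U.ι = ⊤ := by
    haveI := Groth.Agent.Lib.Helper29.FreeIso.isQuasicoherent_of_isFinLocFree _ hlfU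
    haveI := Groth.Agent.Lib.Helper29.FreeIso.isFiniteType_of_isFinLocFree _ hlfU
    rw [sheafIdeal_comap,
      ← Groth.Agent.S8912.sheafIdeal_congr ((Scheme.Modules.restrictFunctorIsoPullback U.ι).app F) r]
    exact ((isFinLocFreeOfRank_iff (F.restrict U.ι) r).1 hfree).2 r le_rfl
  have hdisj : Disjoint ((Fitt.sheafIdeal F r).support : Set X) (U : Set X) := by
    rw [Set.disjoint_left]
    intro y hy hyU
    have h1 : (⟨y, hyU⟩ : U) ∈ ((Fitt.sheafIdeal F r).comap U.ι).support := by
      rw [Scheme.IdealSheafData.support_comap]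
      exact hy
    rw [htopU, Scheme.IdealSheafData.support_top] at h1
    exact h1
  refine ⟨⟨fun V => ?_, hdisj⟩, ?_⟩
  · rw [sheafIdeal_ideal]
    haveI : Module.FinitePresentation Γ(X, V.1) Γ(F, V.1) := fp_of_isAffineOpen F V.2
    exact Helper23.Fit.ideal_fg_of_finitePresentation r
  intro X' b hb G π hG
  -- `F` is locally free of rank `r` off the centre
  set W : X.Opens := (Fitt.sheafIdeal F r).support.compl with hW
  have hfreeW : FlatMod.IsFinLocFreeOfRank r (F.restrict W.ι) := by
    refine isFinLocFreeOfRank_of_iso ((Scheme.Modules.restrictFunctorIsoPullback W.ι).app F).symm ?_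
    haveI : SheafOfModules.IsFiniteType.{u} (R := (W : Scheme.{u}).ringCatSheaf)
        ((Scheme.Modules.pullback W.ι).obj F) :=
      Groth.Agent.Lib.Helper17.TensorSupp.isFiniteType_pullback W.ι F
    rw [isFinLocFreeOfRank_iff]
    constructor
    · intro j hj
      rw [← sheafIdeal_comap, hlow j hj, Scheme.IdealSheafData.comap_bot]
    · intro j hj
      rw [← sheafIdeal_comap, ← top_le_iff]
      have h1 : (Fitt.sheafIdeal F r).comap W.ι = ⊤ := by
        apply comap_eq_top_of_disjoint
        rw [Set.disjoint_left]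
        intro y hy hyW
        exact hyW hy
      rw [← h1]
      apply Scheme.IdealSheafData.comap_mono  -- monotone
      rw [Scheme.IdealSheafData.le_def]
      intro V
      rw [sheafIdeal_ideal, sheafIdeal_ideal]
      haveI := finite_of_isAffineOpen F V.2
      exact Helper23.Fit.ideal_mono_index hj
  have hGfree : FlatMod.IsFinLocFreeOfRank r G :=
    Groth.Agent.S8912.result X F hq hft r hfreeW b hb G π hG
  have hGlf : FlatMod.IsFinLocFree G := fun x => by
    obtain ⟨O, hxO, e⟩ := hGfree x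
    exact ⟨O, r, hxO, e⟩
  refine ⟨hGfree, ?_, ?_⟩
  · haveI : SheafOfModules.IsFinitePresentation.{u} (R := X'.ringCatSheaf)
        ((Scheme.Modules.pullback b).obj F) :=
      Groth.Agent.Lib.Helper25.FlatChartGen.isFinitePresentation_pullback b F
    haveI : SheafOfModules.IsFinitePresentation.{u} (R := X'.ringCatSheaf) G :=
      Groth.Agent.Lib.Helper29.FPFree.isFinitePresentation_of_isFinLocFree G hGlf
    haveI : Epi π := hG.1
    have hflat : FlatMod.IsFlatOver (𝟙 X') G := fun x => by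
      rw [isFlatOverAt_iff_of_isIso]
      haveI := Groth.Agent.Lib.Helper29.FPFree.free_stalk_of_isFinLocFree G hGlf x
      infer_instance
    exact isFinitePresentation_kernel_of_flat (𝟙 X') _ G hflat π
  · apply Groth.Agent.Lib.Helper28.QCohLoc.isZero_of_sections_zero
    intro T k
    refine kernel_sections_zero π ((Fitt.sheafIdeal F r).comap b) (fun V m hm => (hG.2 V m).1 hm)
      ((b ⁻¹ᵁ U).ι ''ᵁ T) ?_ k
    rw [Set.disjoint_left]
    intro y hy hyT
    have hyU : y ∈ b ⁻¹ᵁ U := by
      obtain ⟨z, -, rfl⟩ := hyT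
      exact z.2
    rw [Scheme.IdealSheafData.support_comap] at hy
    exact Set.disjoint_left.1 hdisj hy hyU



end Groth.Agent.S8913
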