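import Groth.Statements.S8915
import Groth.Agent.Lib.Helper29.OmegaLoc2
import Groth.Agent.Lib.Helper5.FittSheafE

set_option autoImplicit false
universe u
open CategoryTheory CategoryTheory.Limits AlgebraicGeometry TopologicalSpace
open SDiv

namespace Groth.Agent.S8915




/-- Let f : X ⟶ S be locally of finite type and quasi-separated. Then the closed subset of X defined by
the Fitting ideal Fit_0(Ω_{X/S}) is exactly the set of points at which f is not unramified, i.e.
which have no open neighbourhood on which f is formally unramified. The published statement does not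
assume f quasi-separated; this row does, because the module Ω_{X/S} used here is defined for
quasi-separated f. -/
theorem result {X S : Scheme.{u}} (f : X ⟶ S) [LocallyOfFiniteType f] [QuasiSeparated f]
    (x : ↥X) :
    x ∈ (Fitt.sheafIdeal (Omega.sheaf f) 0).support ↔ ¬ ∃ U : X.Opens, x ∈ U ∧ FormallyUnramified (U.ι ≫ f) := by
  rw [← not_iff_not, not_not]
  obtain ⟨U₀, V₀, hU₀, hV₀, hx₀, hUV₀⟩ := Groth.Agent.Lib.Helper29.OmegaLoc.exists_affine_pair f x
  constructor
  · intro h
    obtain ⟨g, hxg, σ, hσ⟩ := Groth.Agent.Lib.Helper5.FittSheaf.exists_gen_basicOpen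
      (Omega.sheaf f) 0 hU₀ x hx₀ h
    have hsub : Subsingleton Γ(Omega.sheaf f, X.basicOpen g) := by
      have h0 : (Set.range fun j : Fin 0 => Groth.Agent.Lib.Helper28.QCohLoc.res (Omega.sheaf f)
          (X.basicOpen_le g) (σ j)) = ∅ := Set.range_eq_empty _
      rw [h0, Submodule.span_empty] at hσ
      exact (Submodule.subsingleton_iff Γ(X, X.basicOpen g)).1 (subsingleton_of_bot_eq_top hσ)
    refine ⟨X.basicOpen g, hxg, ?_⟩
    have hle : X.basicOpen g ≤ f ⁻¹ᵁ V₀ := (X.basicOpen_le g).trans hUV₀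
    rw [Groth.Agent.Lib.Helper29.OmegaLoc.formallyUnramified_iff f (hU₀.basicOpen g) hV₀ hle,
      ← Groth.Agent.Lib.Helper29.OmegaLoc.subsingleton_iff f (hU₀.basicOpen g) hV₀ hle]
    exact hsub
  · rintro ⟨U, hxU, hfu⟩
    obtain ⟨D, hD, hxD, hDU⟩ : ∃ D : X.Opens, IsAffineOpen D ∧ x ∈ D ∧ D ≤ U ⊓ U₀ :=
      Opens.isBasis_iff_nbhd.mp X.isBasis_affineOpens (show x ∈ U ⊓ U₀ from ⟨hxU, hx₀⟩)
    have hle : D ≤ f ⁻¹ᵁ V₀ := (hDU.trans inf_le_right).trans hUV₀
    have hfuD : FormallyUnramified (D.ι ≫ f) := by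
      have h1 : D.ι ≫ f = X.homOfLE (hDU.trans inf_le_left) ≫ U.ι ≫ f := by
        rw [← Category.assoc, Scheme.homOfLE_ι]
      rw [h1]
      have h2 : FormallyUnramified (X.homOfLE (hDU.trans inf_le_left)) :=
        HasRingHomProperty.of_isOpenImmersion (P := @FormallyUnramified)
          (fun R _ => RingHom.FormallyUnramified.of_surjective Function.surjective_id)
      exact MorphismProperty.comp_mem _ _ _ h2 hfu
    rw [Groth.Agent.Lib.Helper29.OmegaLoc.formallyUnramified_iff f hD hV₀ hle,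
      ← Groth.Agent.Lib.Helper29.OmegaLoc.subsingleton_iff f hD hV₀ hle] at hfuD
    rw [Groth.Agent.Lib.Helper5.FittSheaf.not_mem_support_iff (Omega.sheaf f) 0 hD x hxD]
    have htop : Fitt.ideal Γ(X, D) Γ(Omega.sheaf f, D) 0 = ⊤ := by
      refine Helper23.Fit.ideal_eq_top_of_le (n := 0) (fun i => i.elim0) ?_ le_rfl
      exact Subsingleton.elim _ _
    rw [htop]
    intro hle
    exact (hD.primeIdealOf ⟨x, hxD⟩).isPrime.ne_top (top_le_iff.mp hle)



end Groth.Agent.S8915
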