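import Groth.Statements.S8916
import Groth.Agent.Lib.Helper5.JacP
import Groth.Agent.Lib.Helper5.JacD
import Groth.Agent.Lib.lead.FibreDimBCLocal

set_option autoImplicit false
universe u
open CategoryTheory CategoryTheory.Limits AlgebraicGeometry TopologicalSpace
open SDiv

namespace Groth.Agent.S8916

/-- Let f : X ⟶ S be flat, locally of finite presentation and quasi-separated, and d ≥ 0 such that all
irreducible components of each nonempty fibre of f have dimension d. Then the closed subset of X
defined by the Fitting ideal Fit_d(Ω_{X/S}) is exactly the set of points at which f is not smooth,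
i.e. which have no open neighbourhood on which f is smooth. The published statement does not assume
f quasi-separated; this row does, because the module Ω_{X/S} used here is defined for
quasi-separated f. -/
theorem result {X S : Scheme.{u}} (f : X ⟶ S) [Flat f] [LocallyOfFinitePresentation f] [QuasiSeparated f]
    (d : ℕ) (hdim : ∀ s : ↥S, ∀ T ∈ irreducibleComponents ↥(f.fiber s), topologicalKrullDim ↥T = d) (x : ↥X) :
    x ∈ (Fitt.sheafIdeal (Omega.sheaf f) d).support ↔ ¬ ∃ U : X.Opens, x ∈ U ∧ Smooth (U.ι ≫ f) := by
  rw [Groth.Agent.Lib.Helper5.Jac.exists_smooth_iff_mem_smoothLocus f x]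
  obtain ⟨_, ⟨V, hV, rfl⟩, hxV, -⟩ :=
    S.isBasis_affineOpens.exists_subset_of_mem_open (Set.mem_univ (f x)) isOpen_univ
  obtain ⟨_, ⟨D, hD, rfl⟩, hxD, e⟩ :=
    X.isBasis_affineOpens.exists_subset_of_mem_open hxV (V.2.preimage f.continuous)
  have hd := Groth.Agent.Lib.lead.FibreDimBCLocal.fibreDimAt_eq_of_hasRelDim f d hdim x
  have H := Groth.Agent.Lib.Helper5.Jac.isSmoothAt_iff_finrank_le_of_chart f hD hV e x hxD
    (Flat.stalkMap f x) d hd
  have key := Groth.Agent.Lib.Helper5.Jac.mem_smoothLocus_iff_fitt f d hD hV e x hxD H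
  rw [key]
  exact not_not.symm

end Groth.Agent.S8916
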