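import Groth.Statements.S8917
import Groth.Agent.Lib.Helper29.OmegaLoc2
import Groth.Agent.Lib.Helper5.FittSheafC

set_option autoImplicit false
universe u
open CategoryTheory CategoryTheory.Limits AlgebraicGeometry TopologicalSpace
open SDiv

namespace Groth.Agent.S8917



open TensorProduct

theorem exists_chart {X S S' : Scheme.{u}} (f : X ⟶ S) (g : S' ⟶ S) (x' : (pullback f g : Scheme.{u})) :
    ∃ (U : X.Opens) (V : S.Opens) (V' : S'.Opens) (U' : (pullback f g).Opens),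
      IsAffineOpen U ∧ IsAffineOpen V ∧ IsAffineOpen V' ∧ IsAffineOpen U' ∧ x' ∈ U' ∧
      U ≤ f ⁻¹ᵁ V ∧ V' ≤ g ⁻¹ᵁ V ∧
      U' = (pullback.fst f g) ⁻¹ᵁ U ⊓ (pullback.snd f g) ⁻¹ᵁ V' := by
  have H : IsPullback (pullback.fst f g) (pullback.snd f g) f g := IsPullback.of_hasPullback f g
  obtain ⟨V, hV, hfx, -⟩ := Opens.isBasis_iff_nbhd.mp S.isBasis_affineOpens
    (Opens.mem_top (f (pullback.fst f g x')))
  obtain ⟨U, hU, hx, hUV⟩ := Opens.isBasis_iff_nbhd.mp X.isBasis_affineOpens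
    (show pullback.fst f g x' ∈ f ⁻¹ᵁ V from hfx)
  have hgx : g (pullback.snd f g x') ∈ V := by
    have : g (pullback.snd f g x') = f (pullback.fst f g x') := by
      rw [← Scheme.Hom.comp_apply, ← Scheme.Hom.comp_apply, pullback.condition]
    rw [this]
    exact hfx
  obtain ⟨V', hV', hx', hV'V⟩ := Opens.isBasis_iff_nbhd.mp S'.isBasis_affineOpens
    (show pullback.snd f g x' ∈ g ⁻¹ᵁ V from hgx)
  refine ⟨U, V, V', (pullback.fst f g) ⁻¹ᵁ U ⊓ (pullback.snd f g) ⁻¹ᵁ V', hU, hV, hV', ?_,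
    ⟨hx, hx'⟩, hUV, hV'V, rfl⟩
  have : IsAffine V := hV
  have : IsAffine V' := hV'
  have : IsAffine U := hU
  exact .of_isIso (Scheme.Hom.isPullback_resLE H hV'V hUV rfl).isoPullback.hom

open Groth.Agent.Lib.Helper29.OmegaLoc Groth.Agent.Lib.Helper17.ModPullback in
theorem fitt_chart {X S S' : Scheme.{u}} (f : X ⟶ S) [LocallyOfFiniteType f] [QuasiSeparated f]
    (g : S' ⟶ S) (i : ℕ) {U : X.Opens} {V : S.Opens} {V' : S'.Opens} {U' : (pullback f g).Opens}
    (hU : IsAffineOpen U) (hV : IsAffineOpen V) (hV' : IsAffineOpen V') (hU' : IsAffineOpen U')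
    (hUV : U ≤ f ⁻¹ᵁ V) (hV'V : V' ≤ g ⁻¹ᵁ V)
    (hU'eq : U' = (pullback.fst f g) ⁻¹ᵁ U ⊓ (pullback.snd f g) ⁻¹ᵁ V') :
    Fitt.ideal Γ(pullback f g, U')
      Γ((Scheme.Modules.pullback (pullback.fst f g)).obj (Omega.sheaf f), U') i =
    Fitt.ideal Γ(pullback f g, U') Γ(Omega.sheaf (pullback.snd f g), U') i := by
  have H : IsPullback (pullback.fst f g) (pullback.snd f g) f g := IsPullback.of_hasPullback f g
  have hle1 : U' ≤ (pullback.fst f g) ⁻¹ᵁ U := by rw [hU'eq]; exact inf_le_left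
  have hle2 : U' ≤ (pullback.snd f g) ⁻¹ᵁ V' := by rw [hU'eq]; exact inf_le_right
  -- the pushout square of rings
  have hpo : IsPushout (f.appLE V U hUV) (g.appLE V V' hV'V)
      ((pullback.fst f g).appLE U U' hle1) ((pullback.snd f g).appLE V' U' hle2) :=
    (isIso_pushoutSection_iff H hV'V hUV hU'eq).1
      (isIso_pushoutSection_of_isAffineOpen H hV'V hUV hU'eq hV hV' hU)
  letI aAB : Algebra Γ(S, V) Γ(X, U) := (f.appLE V U hUV).hom.toAlgebra
  letI aAA' : Algebra Γ(S, V) Γ(S', V') := (g.appLE V V' hV'V).hom.toAlgebra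
  letI aBB' : Algebra Γ(X, U) Γ(pullback f g, U') := ((pullback.fst f g).appLE U U' hle1).hom.toAlgebra
  letI aA'B' : Algebra Γ(S', V') Γ(pullback f g, U') :=
    ((pullback.snd f g).appLE V' U' hle2).hom.toAlgebra
  letI aAB' : Algebra Γ(S, V) Γ(pullback f g, U') :=
    ((algebraMap Γ(X, U) Γ(pullback f g, U')).comp (algebraMap Γ(S, V) Γ(X, U))).toAlgebra
  haveI t1 : IsScalarTower Γ(S, V) Γ(X, U) Γ(pullback f g, U') :=
    IsScalarTower.of_algebraMap_eq (fun _ => rfl)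
  haveI t2 : IsScalarTower Γ(S, V) Γ(S', V') Γ(pullback f g, U') := by
    refine IsScalarTower.of_algebraMap_eq (fun a => ?_)
    exact congrArg (fun φ : Γ(S, V) ⟶ Γ(pullback f g, U') => φ.hom a) hpo.w
  haveI hpush : Algebra.IsPushout Γ(S, V) Γ(X, U) Γ(S', V') Γ(pullback f g, U') :=
    CommRingCat.isPushout_iff_isPushout.1 hpo
  haveI hpush' : Algebra.IsPushout Γ(S, V) Γ(S', V') Γ(X, U) Γ(pullback f g, U') := hpush.symm
  -- the four linear equivalences
  obtain ⟨e1⟩ := nonempty_linearEquiv_pullback_sections (pullback.fst f g) (Omega.sheaf f) hU' hU hle1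
  obtain ⟨Φ, hΦ⟩ := exists_sections_equiv f hU hV hUV
  let L : Γ(Omega.sheaf f, U) ≃ₗ[Γ(X, U)] Ω[Γ(X, U)⁄Γ(S, V)] := { Φ with map_smul' := hΦ }
  let e2 : Γ(pullback f g, U') ⊗[Γ(X, U)] Γ(Omega.sheaf f, U) ≃ₗ[Γ(pullback f g, U')]
      Γ(pullback f g, U') ⊗[Γ(X, U)] Ω[Γ(X, U)⁄Γ(S, V)] :=
    TensorProduct.AlgebraTensorModule.congr (LinearEquiv.refl _ _) L
  let e3 : Γ(pullback f g, U') ⊗[Γ(X, U)] Ω[Γ(X, U)⁄Γ(S, V)] ≃ₗ[Γ(pullback f g, U')]
      Ω[Γ(pullback f g, U')⁄Γ(S', V')] :=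
    KaehlerDifferential.tensorKaehlerEquiv Γ(S, V) Γ(S', V') Γ(X, U) Γ(pullback f g, U')
  obtain ⟨Φ', hΦ'⟩ := exists_sections_equiv (pullback.snd f g) hU' hV' hle2
  let L' : Γ(Omega.sheaf (pullback.snd f g), U') ≃ₗ[Γ(pullback f g, U')]
      Ω[Γ(pullback f g, U')⁄Γ(S', V')] := { Φ' with map_smul' := hΦ' }
  exact Helper23.Fit.ideal_congr (e1 ≪≫ₗ e2 ≪≫ₗ e3 ≪≫ₗ L'.symm) i

/-- Let f : X ⟶ S be locally of finite type and quasi-separated and let g : S' ⟶ S be a morphism, X' = X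
×_S S' with projections g' : X' ⟶ X and f' : X' ⟶ S'. Then for every i the inverse image ideal sheaf
under g' of the i-th Fitting ideal of Ω_{X/S} is the i-th Fitting ideal of Ω_{X'/S'}: the Fitting
subschemes of Ω are compatible with base change. The published statement does not assume f
quasi-separated; this row does, because the module Ω_{X/S} used here is defined for quasi-separated
f. -/
theorem result {X S S' : Scheme.{u}} (f : X ⟶ S) [LocallyOfFiniteType f] [QuasiSeparated f] (g : S' ⟶ S)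
    (i : ℕ) :
    (Fitt.sheafIdeal (Omega.sheaf f) i).comap (pullback.fst f g) = Fitt.sheafIdeal (Omega.sheaf (pullback.snd f g)) i := by
  rw [Groth.Agent.Lib.Helper5.FittSheaf.sheafIdeal_comap]
  haveI := Groth.Agent.Lib.Helper17.TensorSupp.isFiniteType_pullback (pullback.fst f g) (Omega.sheaf f)
  choose U V V' U' hU hV hV' hU' hxU' hUV hV'V hU'eq using exists_chart f g
  refine Scheme.IdealSheafData.ext_of_iSup_eq_top (fun x => ⟨U' x, hU' x⟩) ?_ fun x => ?_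
  · exact eq_top_iff.2 fun x _ => Opens.mem_iSup.2 ⟨x, hxU' x⟩
  · rw [Groth.Agent.Lib.Helper5.FittSheaf.sheafIdeal_ideal,
      Groth.Agent.Lib.Helper5.FittSheaf.sheafIdeal_ideal]
    exact fitt_chart f g i (hU x) (hV x) (hV' x) (hU' x) (hUV x) (hV'V x) (hU'eq x)



end Groth.Agent.S8917
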