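import Groth.Statements.S8919
import Groth.Agent.S5974
import Groth.Agent.Lib.Helper29.H1Mono
import Groth.Agent.Lib.Helper29.H1Free

set_option autoImplicit false
universe u
open CategoryTheory CategoryTheory.Limits AlgebraicGeometry TopologicalSpace
open SDiv

namespace Groth.Agent.S8919

open CategoryTheory CategoryTheory.Limits AlgebraicGeometry TopologicalSpace Opposite
open Groth.Agent.Lib.Helper29.H1Mono Groth.Agent.Lib.Helper29.H1Free


/-- Let i : Z ⟶ Y and j : Y ⟶ X be quasi-compact immersions of schemes with i an H_1-regular immersion,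
and let a : i^*C_{Y/X} ⟶ C_{Z/X} and b : C_{Z/X} ⟶ C_{Z/Y} be the canonical maps of conormal
sheaves. Then the canonical sequence 0 → i^*C_{Y/X} → C_{Z/X} → C_{Z/Y} → 0 is exact and locally
split; here local splitting is recorded through C_{Z/Y} being finite locally free. The published
statement allows arbitrary immersions; this row takes both immersions quasi-compact, the case in
which the conormal sheaves used here are those of the immersions. -/
theorem result {Z Y X : Scheme.{u}} (i : Z ⟶ Y) (j : Y ⟶ X) [IsImmersion i] [IsImmersion j]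
    [QuasiCompact i] [QuasiCompact j]
    (a : (Scheme.Modules.pullback i).obj (Omega.conormal j) ⟶ Omega.conormal (i ≫ j))
    (ha : OmegaSh.IsConormalMap (i ≫ j) j (𝟙 X) i a)
    (b : (Scheme.Modules.pullback (𝟙 Z)).obj (Omega.conormal (i ≫ j)) ⟶ Omega.conormal i)
    (hb : OmegaSh.IsConormalMap i (i ≫ j) j (𝟙 Z) b)
    (hi : RegImm.IsRegularImmersion RegImm.Kind.h1 i) :
    a ≫ ((Scheme.Modules.pullbackId Z).inv.app (Omega.conormal (i ≫ j)) ≫ b) = 0 ∧
      (∀ w : a ≫ ((Scheme.Modules.pullbackId Z).inv.app (Omega.conormal (i ≫ j)) ≫ b) = 0, (ShortComplex.mk a ((Scheme.Modules.pullbackId Z).inv.app (Omega.conormal (i ≫ j)) ≫ b) w).ShortExact) ∧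
      FlatMod.IsFinLocFree (Omega.conormal i) := by
  obtain ⟨hepi, him⟩ := Groth.Agent.S5974.result j i a ha b hb
  set g₂ := (Scheme.Modules.pullbackId Z).inv.app (Omega.conormal (i ≫ j)) ≫ b with hg₂
  have w : a ≫ g₂ = 0 := by
    have h1 : imageSubobject a ≤ kernelSubobject g₂ := le_of_eq him
    rw [← imageSubobject_arrow_comp a, Category.assoc]
    have h2 : (imageSubobject a).arrow = Subobject.ofLE _ _ h1 ≫ (kernelSubobject g₂).arrow :=
      (Subobject.ofLE_arrow h1).symm
    rw [h2, Category.assoc, kernelSubobject_arrow_comp, comp_zero, comp_zero]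
  haveI : Mono a := mono_of_h1 i j hi a ha
  haveI : Epi g₂ := epi_comp _ _
  refine ⟨w, fun w' => ?_, isFinLocFree_conormal_of_h1 i j hi⟩
  exact { exact := (ShortComplex.exact_iff_image_eq_kernel _).2 him }



end Groth.Agent.S8919
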