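import Groth.Statements.S8927
-- import your own Groth.Agent.* helpers here

set_option autoImplicit false
universe u
open Disc

namespace Groth.Agent.S8927

/-- For a map A → B of Noetherian rings such that the localization B_q is flat over A for every
associated prime q of B, every nonzerodivisor of A maps to a nonzerodivisor of B. -/
theorem result (A B : Type u) [CommRing A] [CommRing B] [IsNoetherianRing A] [IsNoetherianRing B] [Algebra A B] (h3 : ∀ (q : Ideal B) [q.IsPrime], IsAssociatedPrime q B → Module.Flat A (Localization.AtPrime q)) : nonZeroDivisors A ≤ (nonZeroDivisors B).comap (algebraMap A B) := by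
  intro a ha
  rw [Submonoid.mem_comap, mem_nonZeroDivisors_iff_right]
  intro b hb
  by_contra hb0
  obtain ⟨q, hq, hle⟩ := exists_le_isAssociatedPrime_of_isNoetherianRing B b hb0
  haveI : q.IsPrime := hq.isPrime
  haveI := h3 q hq
  have hreg : IsSMulRegular A a :=
    (isRegular_iff_mem_nonZeroDivisors.mpr ha).left.isSMulRegular
  have hreg' : IsSMulRegular (Localization.AtPrime q)
      (algebraMap A (Localization.AtPrime q) a) := IsSMulRegular.of_flat hreg
  have h1 : algebraMap A (Localization.AtPrime q) a •
      algebraMap B (Localization.AtPrime q) b = 0 := by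
    rw [smul_eq_mul, IsScalarTower.algebraMap_apply A B (Localization.AtPrime q), ← map_mul,
      mul_comm, hb, map_zero]
  have h2 : algebraMap B (Localization.AtPrime q) b = 0 := hreg' (by simp only [h1, smul_zero])
  obtain ⟨⟨s, hs⟩, hsb⟩ := (IsLocalization.map_eq_zero_iff q.primeCompl _ b).mp h2
  apply hs
  apply hle
  rw [Submodule.mem_colon_singleton]
  simpa using hsb

end Groth.Agent.S8927
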