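import Groth.Statements.S8928
import Mathlib.RingTheory.Localization.BaseChange
import Mathlib.RingTheory.Localization.LocalizationLocalization
import Mathlib.RingTheory.Flat.Localization
import Mathlib.RingTheory.Flat.Stability

set_option autoImplicit false
universe u
open scoped TensorProduct
open Disc

namespace Groth.Agent.S8928


attribute [local instance] Algebra.TensorProduct.rightAlgebra in
private lemma key (A B : Type u) [CommRing A] [CommRing B] [Algebra A B] (q : Ideal B) [q.IsPrime]
    (hq : ∀ a ∈ nonZeroDivisors A, algebraMap A B a ∉ q)
    (h2 : Module.Flat (FractionRing A) (FractionRing A ⊗[A] B)) :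
    Module.Flat A (Localization.AtPrime q) := by
  have hle : Algebra.algebraMapSubmonoid B (nonZeroDivisors A) ≤ q.primeCompl := by
    rintro _ ⟨a, ha, rfl⟩
    exact hq a ha
  haveI hloc : IsLocalization (Algebra.algebraMapSubmonoid B (nonZeroDivisors A))
      (FractionRing A ⊗[A] B) := IsLocalization.tensorRight (FractionRing A) (nonZeroDivisors A)
  letI algC : Algebra (FractionRing A ⊗[A] B) (Localization.AtPrime q) :=
    (IsLocalization.lift (M := Algebra.algebraMapSubmonoid B (nonZeroDivisors A))
      (g := algebraMap B (Localization.AtPrime q))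
      (fun y => IsLocalization.map_units (M := q.primeCompl) (Localization.AtPrime q)
        ⟨y.1, hle y.2⟩)).toAlgebra
  haveI : IsScalarTower B (FractionRing A ⊗[A] B) (Localization.AtPrime q) :=
    IsScalarTower.of_algebraMap_eq (fun x => (IsLocalization.lift_eq _ x).symm)
  haveI : IsLocalization ((q.primeCompl).map (algebraMap B (FractionRing A ⊗[A] B)))
      (Localization.AtPrime q) :=
    IsLocalization.isLocalization_of_submonoid_le (FractionRing A ⊗[A] B)
      (Localization.AtPrime q) _ _ hle
  haveI : Module.Flat (FractionRing A ⊗[A] B) (Localization.AtPrime q) :=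
    IsLocalization.flat (Localization.AtPrime q)
      ((q.primeCompl).map (algebraMap B (FractionRing A ⊗[A] B)))
  letI algQ : Algebra (FractionRing A) (Localization.AtPrime q) :=
    ((algebraMap (FractionRing A ⊗[A] B) (Localization.AtPrime q)).comp
      (algebraMap (FractionRing A) (FractionRing A ⊗[A] B))).toAlgebra
  haveI : IsScalarTower (FractionRing A) (FractionRing A ⊗[A] B) (Localization.AtPrime q) := by
    refine ⟨fun x y z => ?_⟩
    have e1 : ∀ w : Localization.AtPrime q, x • w
        = algebraMap (FractionRing A ⊗[A] B) (Localization.AtPrime q)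
          (algebraMap (FractionRing A) (FractionRing A ⊗[A] B) x) * w := fun w => rfl
    have e2 : x • y = algebraMap (FractionRing A) (FractionRing A ⊗[A] B) x * y :=
      Algebra.smul_def x y
    rw [e1, e2, Algebra.smul_def, Algebra.smul_def, map_mul, mul_assoc]
  haveI : Module.Flat (FractionRing A) (Localization.AtPrime q) :=
    Module.Flat.trans (FractionRing A) (FractionRing A ⊗[A] B) (Localization.AtPrime q)
  haveI : IsScalarTower A (FractionRing A) (Localization.AtPrime q) := by
    refine IsScalarTower.of_algebraMap_eq (fun a => ?_)
    show algebraMap A (Localization.AtPrime q) a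
      = algebraMap (FractionRing A ⊗[A] B) (Localization.AtPrime q)
          (algebraMap (FractionRing A) (FractionRing A ⊗[A] B) (algebraMap A (FractionRing A) a))
    rw [← IsScalarTower.algebraMap_apply A (FractionRing A) (FractionRing A ⊗[A] B),
      IsScalarTower.algebraMap_apply A B (FractionRing A ⊗[A] B),
      ← IsScalarTower.algebraMap_apply B (FractionRing A ⊗[A] B) (Localization.AtPrime q),
      ← IsScalarTower.algebraMap_apply A B (Localization.AtPrime q)]
  exact (Module.flat_iff_of_isLocalization (FractionRing A) (nonZeroDivisors A)
    (Localization.AtPrime q)).1 inferInstance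

/-- Let A → B be a map of Noetherian rings such that nonzerodivisors of A map to nonzerodivisors of B
and Q(A) ⊗_A B is flat over the total ring of fractions Q(A). Then B_q is flat over A for every
associated prime q of B and for every prime q of B lying over an associated prime of A. -/
theorem result (A B : Type u) [CommRing A] [CommRing B] [IsNoetherianRing A] [IsNoetherianRing B] [Algebra A B] (h1 : nonZeroDivisors A ≤ (nonZeroDivisors B).comap (algebraMap A B)) (h2 : Module.Flat (FractionRing A) (FractionRing A ⊗[A] B)) : (∀ (q : Ideal B) [q.IsPrime], IsAssociatedPrime q B → Module.Flat A (Localization.AtPrime q)) ∧ (∀ (q : Ideal B) [q.IsPrime], IsAssociatedPrime (q.comap (algebraMap A B)) A → Module.Flat A (Localization.AtPrime q)) := by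
  constructor
  · intro q _ hq
    apply key A B q _ h2
    intro a ha hmem
    obtain ⟨-, b, hb⟩ := hq
    have hb0 : b ≠ 0 := by
      rintro rfl
      have : (1 : B) ∈ q := by
        rw [hb]
        refine Ideal.le_radical ?_
        rw [Submodule.mem_colon_singleton]; simp
      exact (Ideal.ne_top_iff_one q).1 (Ideal.IsPrime.ne_top ‹_›) this
    have h3 : algebraMap A B a ∈ nonZeroDivisors B := h1 ha
    rw [hb] at hmem
    obtain ⟨n, hn⟩ := hmem
    rw [Submodule.mem_colon_singleton] at hn
    have h4 : (algebraMap A B a) ^ n • b = 0 := by simpa using hn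
    rw [smul_eq_mul, mul_comm] at h4
    exact hb0 ((mem_nonZeroDivisors_iff_right.1 (pow_mem h3 n)) b h4)
  · intro q _ hq
    apply key A B q _ h2
    intro a ha hmem
    obtain ⟨-, b, hb⟩ := hq
    have hb0 : b ≠ 0 := by
      rintro rfl
      have : (1 : A) ∈ q.comap (algebraMap A B) := by
        rw [hb]
        refine Ideal.le_radical ?_
        rw [Submodule.mem_colon_singleton]; simp
      exact (Ideal.ne_top_iff_one _).1 (Ideal.IsPrime.ne_top inferInstance) this
    have hmem' : a ∈ q.comap (algebraMap A B) := hmem
    rw [hb] at hmem'
    obtain ⟨n, hn⟩ := hmem'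
    rw [Submodule.mem_colon_singleton] at hn
    have h4 : a ^ n • b = 0 := by simpa using hn
    rw [smul_eq_mul, mul_comm] at h4
    exact hb0 ((mem_nonZeroDivisors_iff_right.1 (pow_mem ha n)) b h4)

end Groth.Agent.S8928
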