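import Groth.Statements.S8929
import Mathlib

set_option autoImplicit false
universe u
open scoped TensorProduct
open Disc

namespace Groth.Agent.S8929

section helpers

open TensorProduct

lemma flat_of_isLocalization_nonZeroDivisors {A B T : Type*} [CommRing A] [CommRing B] [CommRing T]
    [Algebra A B] [Algebra B T] [Algebra A T] [IsScalarTower A B T] [IsNoetherianRing A]
    [Algebra.HasGoingUp A B]
    [IsLocalization (Algebra.algebraMapSubmonoid B (nonZeroDivisors A)) T]
    (h4 : ∀ (q : Ideal B) [q.IsPrime], IsAssociatedPrime (q.comap (algebraMap A B)) A →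
      Module.Flat A (Localization.AtPrime q)) : Module.Flat A T := by
  refine Module.flat_of_isLocalized_maximal T T (fun P _ => Localization.AtPrime P)
    (fun P _ => Algebra.linearMap T (Localization.AtPrime P)) ?_
  intro P hP
  set M := Algebra.algebraMapSubmonoid B (nonZeroDivisors A) with hM
  let q := P.comap (algebraMap B T)
  have hqprime : q.IsPrime := Ideal.comap_isPrime _ _
  have hqP : q.map (algebraMap B T) = P := IsLocalization.map_comap M T P
  have hqM : Disjoint (M : Set B) q :=
    ((IsLocalization.isPrime_iff_isPrime_disjoint M T P).1 hP.isPrime).2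
  let p := q.comap (algebraMap A B)
  have hpS : Disjoint (p : Set A) (nonZeroDivisors A) := by
    rw [Set.disjoint_left]
    intro s hsp hs
    exact Set.disjoint_left.1 hqM ⟨s, hs, rfl⟩ hsp
  obtain ⟨p', hp', hpp'⟩ : ∃ p' ∈ associatedPrimes A A, p ≤ p' :=
    (p.subset_union_prime_finite (associatedPrimes.finite ..) (f := id) 0 0 fun _ h _ _ ↦ h.1).1 <|
    biUnion_associatedPrimes_eq_compl_nonZeroDivisors A ▸ hpS.subset_compl_right
  have : p'.IsPrime := hp'.1
  have : q.LiesOver p := ⟨rfl⟩
  obtain ⟨q', hqq', hq'prime, hq'over⟩ := Ideal.exists_ideal_ge_liesOver_of_le q hpp'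
  have hp'S : Disjoint (p' : Set A) (nonZeroDivisors A) := by
    rw [Set.disjoint_left]
    intro s hsp hs
    have : s ∈ ⋃ p ∈ associatedPrimes A A, (p : Set A) := Set.mem_biUnion hp' hsp
    rw [biUnion_associatedPrimes_eq_compl_nonZeroDivisors] at this
    exact this hs
  have hq'M : Disjoint (M : Set B) q' := by
    rw [Set.disjoint_left]
    rintro _ ⟨s, hs, rfl⟩ hsq
    have : s ∈ p' := by
      rw [hq'over.over]
      exact hsq
    exact Set.disjoint_left.1 hp'S this hs
  have hq'T : (q'.map (algebraMap B T)).IsPrime :=
    IsLocalization.isPrime_of_isPrime_disjoint M T q' hq'prime hq'M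
  have hPle : P ≤ q'.map (algebraMap B T) := hqP ▸ Ideal.map_mono hqq'
  have hPeq : P = q'.map (algebraMap B T) := hP.eq_of_le hq'T.ne_top hPle
  have hqeq : q = q' := by
    show P.comap _ = q'
    rw [hPeq]
    exact IsLocalization.under_map_of_isPrime_disjoint M T hq'prime hq'M
  have hass : IsAssociatedPrime (q.comap (algebraMap A B)) A := by
    have : q.comap (algebraMap A B) = p' := by
      rw [hqeq]; exact hq'over.over.symm
    rw [this]; exact hp'
  have hflat := h4 q hass
  have : IsLocalization.AtPrime (Localization.AtPrime P) q :=
    IsLocalization.isLocalization_isLocalization_atPrime_isLocalization M (Localization.AtPrime P) P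
  have : IsScalarTower A B (Localization.AtPrime P) := by
    refine IsScalarTower.of_algebraMap_eq fun x => ?_
    rw [IsScalarTower.algebraMap_apply A T (Localization.AtPrime P),
      IsScalarTower.algebraMap_apply A B T,
      ← IsScalarTower.algebraMap_apply B T (Localization.AtPrime P)]
  let e : Localization.AtPrime P ≃ₐ[B] Localization.AtPrime q :=
    IsLocalization.algEquiv q.primeCompl _ _
  exact Module.Flat.of_linearEquiv ((e.restrictScalars A).toLinearEquiv)

end helpers


/-- Let A → B be a map of Noetherian rings with the going-up property. If B_q is flat over A for every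
associated prime q of B and for every prime q of B lying over an associated prime of A, then Q(A)
⊗_A B is flat over the total ring of fractions Q(A). -/
theorem result (A B : Type u) [CommRing A] [CommRing B] [IsNoetherianRing A] [IsNoetherianRing B] [Algebra A B] [Algebra.HasGoingUp A B] (h3 : ∀ (q : Ideal B) [q.IsPrime], IsAssociatedPrime q B → Module.Flat A (Localization.AtPrime q)) (h4 : ∀ (q : Ideal B) [q.IsPrime], IsAssociatedPrime (q.comap (algebraMap A B)) A → Module.Flat A (Localization.AtPrime q)) : Module.Flat (FractionRing A) (FractionRing A ⊗[A] B) := by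
  rw [Module.flat_iff_of_isLocalization (FractionRing A) (nonZeroDivisors A)]
  have : Module.Flat A (B ⊗[A] FractionRing A) :=
    flat_of_isLocalization_nonZeroDivisors (A := A) (B := B) (T := B ⊗[A] FractionRing A) h4
  exact Module.Flat.of_linearEquiv (TensorProduct.comm A (FractionRing A) B)

end Groth.Agent.S8929
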