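import Groth.Statements.S8930
import Groth.Agent.Lib.Helper13.ZMTFinSub

set_option autoImplicit false
universe u
open AlgebraicGeometry
open Disc

namespace Groth.Agent.S8930

/-- Given two factorizations A → B' → B and A → B'' → B of a ring map with A → B' and A → B'' finite and
Spec(B) → Spec(B'), Spec(B) → Spec(B'') open immersions, there is an A-subalgebra C of B which is
finite over A, contains the images of B' and B'', and is such that Spec(B) → Spec(C) is an open
immersion. (Such an A → B is quasi-finite; that hypothesis of the published statement is implied by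
the factorizations and is not repeated.) -/
theorem result (A B B' B'' : Type u) [CommRing A] [CommRing B] [CommRing B'] [CommRing B''] [Algebra A B] [Algebra A B'] [Algebra A B''] [Algebra B' B] [Algebra B'' B] [IsScalarTower A B' B] [IsScalarTower A B'' B] [Module.Finite A B'] [Module.Finite A B''] (h' : IsOpenImmersion (Spec.map (CommRingCat.ofHom (algebraMap B' B)))) (h'' : IsOpenImmersion (Spec.map (CommRingCat.ofHom (algebraMap B'' B)))) : ∃ C : Subalgebra A B, Module.Finite A C ∧ Set.range (algebraMap B' B) ⊆ (C : Set B) ∧ Set.range (algebraMap B'' B) ⊆ (C : Set B) ∧ IsOpenImmersion (Spec.map (CommRingCat.ofHom C.val.toRingHom)) := by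
  open Groth.Agent.Lib.Helper13.ZMTFin in
  classical
  let f' : B' →ₐ[A] B := IsScalarTower.toAlgHom A B' B
  let f'' : B'' →ₐ[A] B := IsScalarTower.toAlgHom A B'' B
  let C : Subalgebra A B := f'.range ⊔ f''.range
  have hC' : f'.range ≤ C := le_sup_left
  have hC'' : f''.range ≤ C := le_sup_right
  -- finiteness
  have hfg : C.FG := by
    have h1 : f'.range.FG := by
      rw [← Algebra.map_top]
      exact Subalgebra.FG.map f' (Algebra.FiniteType.out)
    have h2 : f''.range.FG := by
      rw [← Algebra.map_top]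
      exact Subalgebra.FG.map f'' (Algebra.FiniteType.out)
    exact h1.sup h2
  have hint : C ≤ integralClosure A B := by
    refine sup_le ?_ ?_
    · rintro _ ⟨b, rfl⟩
      exact (Algebra.IsIntegral.isIntegral (R := A) b).map f'
    · rintro _ ⟨b, rfl⟩
      exact (Algebra.IsIntegral.isIntegral (R := A) b).map f''
  haveI : Algebra.FiniteType A C := (Subalgebra.fg_iff_finiteType C).mp hfg
  haveI : Algebra.IsIntegral A C :=
    ⟨fun x => (isIntegral_algHom_iff C.val Subtype.val_injective).mp (hint x.2)⟩
  refine ⟨C, Algebra.IsIntegral.finite, ?_, ?_, ?_⟩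
  · rintro _ ⟨b, rfl⟩
    exact hC' ⟨b, rfl⟩
  · rintro _ ⟨b, rfl⟩
    exact hC'' ⟨b, rfl⟩
  -- the open immersion
  let φ' : CommRingCat.of B' ⟶ CommRingCat.of B := CommRingCat.ofHom (algebraMap B' B)
  haveI : IsOpenImmersion (Spec.map φ') := h'
  have hco : IsCompact (Set.range (Spec.map φ')) ∧ IsOpen (Set.range (Spec.map φ')) :=
    ⟨isCompact_range (Spec.map φ').continuous, (Spec.map φ').isOpenEmbedding.isOpen_range⟩
  obtain ⟨t', ht'⟩ := PrimeSpectrum.isCompact_isOpen_iff.mp hco
  have hmem : ∀ p : PrimeSpectrum B', p ∈ Set.range (Spec.map φ') ↔ ∃ a ∈ t', a ∉ p.asIdeal := by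
    intro p
    rw [← ht']
    exact mem_compl_zeroLocus_finset t' p
  let ψ : CommRingCat.of C ⟶ CommRingCat.of B := CommRingCat.ofHom C.val.toRingHom
  let t : Set C := {c | ∃ r ∈ t', (c : B) = algebraMap B' B r}
  refine isOpenImmersion_SpecMap_of_away ψ t ?_ ?_
  · intro p
    obtain ⟨r, hr, hrp⟩ := (hmem (Spec.map φ' p)).mp ⟨p, rfl⟩
    exact ⟨⟨algebraMap B' B r, hC' ⟨r, rfl⟩⟩, ⟨r, hr, rfl⟩, hrp⟩
  · rintro ⟨c, hc⟩ ⟨r, hr, hcr⟩
    have hcr' : c = algebraMap B' B r := hcr
    subst hcr'
    have hD : (PrimeSpectrum.basicOpen r : Set (PrimeSpectrum B')) ⊆ Set.range (Spec.map φ') := by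
      intro p hp
      exact (hmem p).mpr ⟨r, hr, hp⟩
    have hloc := isLocalization_away_of_isOpenImmersion φ' r hD
    -- transfer from `B'` to `C`
    let L := Localization.Away (algebraMap B' B r)
    letI algB' : Algebra B' L := ((algebraMap B L).comp (algebraMap B' B)).toAlgebra
    letI algC : Algebra C L := ((algebraMap B L).comp C.val.toRingHom).toAlgebra
    have hlocB' : IsLocalization.Away r L := hloc
    have hB'L : ∀ b : B', algebraMap B' L b = algebraMap B L (algebraMap B' B b) := fun b => rfl
    have hCL : ∀ x : C, algebraMap C L x = algebraMap B L (x : B) := fun x => rfl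
    change IsLocalization.Away (⟨algebraMap B' B r, hc⟩ : C) L
    refine IsLocalization.Away.mk _ ?_ ?_ ?_
    · rw [hCL]
      exact IsLocalization.Away.algebraMap_isUnit (algebraMap B' B r)
    · intro z
      obtain ⟨n, b, hb⟩ := @IsLocalization.Away.surj B' _ L _ algB' r hlocB' z
      refine ⟨n, ⟨algebraMap B' B b, hC' ⟨b, rfl⟩⟩, ?_⟩
      rw [hCL, hCL]
      rw [hB'L, hB'L] at hb
      exact hb
    · intro x y hxy
      rw [hCL, hCL] at hxy
      obtain ⟨n, hn⟩ := IsLocalization.Away.exists_of_eq (algebraMap B' B r) hxy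
      exact ⟨n, Subtype.ext hn⟩

end Groth.Agent.S8930
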