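import Groth.Statements.S8969
import Groth.Agent.S2210
import Groth.Agent.S2217
import Groth.Agent.S9287
import Groth.Agent.S1830
import Groth.Agent.Lib.Helper5.GorFibreC
import Groth.Agent.Lib.helper10.TateOmega

set_option autoImplicit false
universe u
open Disc

namespace Groth.Agent.S8969

open TensorProduct in
/-- a finite free syntomic algebra over a Noetherian ring has an invertible dualizing module -/
theorem invertible_of_isSyntomic {A B : Type u} [CommRing A] [CommRing B] [Algebra A B]
    [IsNoetherianRing A] [Module.Finite A B] [Module.Free A B] (hsynt : Synt.IsSyntomic A B) :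
    Module.Invertible B (Disc.Omega A B) := by
  rw [← Groth.Agent.S2217.result]
  intro p _
  haveI : Module.Flat A B := hsynt.1
  have hlci := ((Groth.Agent.S9287.result A B).mp hsynt).2
  have := Groth.Agent.S1830.result A B hlci ⟨p, inferInstance⟩
  exact Groth.Agent.Lib.Helper5.GorFibre.isGorensteinRing_of_ringEquiv
    (Algebra.TensorProduct.comm A B p.ResidueField).toRingEquiv this

/-- the general form (no condition on `n`) -/
theorem omega_equiv {A : Type u} [CommRing A] [IsNoetherianRing A] {n : ℕ}
    (f : Fin n → MvPolynomial (Fin n) A)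
    [Module.Finite A (MvPolynomial (Fin n) A ⧸ Ideal.span (Set.range f))]
    [Module.Free A (MvPolynomial (Fin n) A ⧸ Ideal.span (Set.range f))] :
    ∃ e : (MvPolynomial (Fin n) A ⧸ Ideal.span (Set.range f)) ≃ₗ[MvPolynomial (Fin n) A ⧸ Ideal.span (Set.range f)] Disc.Omega A (MvPolynomial (Fin n) A ⧸ Ideal.span (Set.range f)), e (Ideal.Quotient.mk (Ideal.span (Set.range f)) (Matrix.det (Matrix.of fun i j : Fin n => MvPolynomial.pderiv j (f i)))) = Disc.Omega.trace A (MvPolynomial (Fin n) A ⧸ Ideal.span (Set.range f)) := by
  classical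
  have hgci := Groth.Agent.S2210.relGCI_of_quasiFinite f
  have hsynt := Groth.Agent.S9147.result A n n f hgci
  haveI hflat : Module.Flat A (MvPolynomial (Fin n) A ⧸ Ideal.span (Set.range f)) := hsynt.1
  have hkos := Groth.Agent.S9254.result A n n f hgci
  obtain ⟨Δ, h1, h2⟩ := Groth.Agent.S2210.ann_eq f hkos
  haveI : Module.Invertible (MvPolynomial (Fin n) A ⧸ Ideal.span (Set.range f))
      (Disc.Omega A (MvPolynomial (Fin n) A ⧸ Ideal.span (Set.range f))) :=
    invertible_of_isSyntomic hsynt
  obtain ⟨e, he⟩ := Groth.Agent.Lib.helper10.TateOmega.exists_equiv Δ h1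
  exact ⟨e, by rw [← h2]; exact he⟩

/-- Case h = 1 with B finite free. Suppose A is a Noetherian ring, fix n ≥ 1 and polynomials f_1, …, f_n
∈ A[x_1, …, x_n], and assume that the quotient B = A[x_1, …, x_n]/(f_1, …, f_n) is finite free over
A. Then one can find a B-linear isomorphism B → ω_{B/A} = Hom_A(B, A), where B acts on Hom_A(B, A)
via the argument, carrying the class of the Jacobian determinant det(∂f_i/∂x_j) to the trace element
Trace_{B/A}. (In the published version B is allowed to be A[x_1, …, x_n, 1/h]/(f_1, …, f_n)
quasi-finite over A, using the relative dualizing module together with its trace element; when h = 1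
and B is finite free these reduce to Hom_A(B, A) and Trace_{B/A}, which is the situation treated
here.) -/
theorem result (A : Type u) [CommRing A] [IsNoetherianRing A] (n : ℕ) (hn : 1 ≤ n) (f : Fin n → MvPolynomial (Fin n) A) [Module.Finite A (MvPolynomial (Fin n) A ⧸ Ideal.span (Set.range f))] [Module.Free A (MvPolynomial (Fin n) A ⧸ Ideal.span (Set.range f))] : ∃ e : (MvPolynomial (Fin n) A ⧸ Ideal.span (Set.range f)) ≃ₗ[MvPolynomial (Fin n) A ⧸ Ideal.span (Set.range f)] Disc.Omega A (MvPolynomial (Fin n) A ⧸ Ideal.span (Set.range f)), e (Ideal.Quotient.mk (Ideal.span (Set.range f)) (Matrix.det (Matrix.of fun i j : Fin n => MvPolynomial.pderiv j (f i)))) = Disc.Omega.trace A (MvPolynomial (Fin n) A ⧸ Ideal.span (Set.range f)) := by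
  exact omega_equiv f

end Groth.Agent.S8969
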