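import Groth.Statements.S8936
-- import your own Groth.Agent.* helpers here

set_option autoImplicit false
universe u v
open InjHull

namespace Groth.Agent.S8936

/-- For a directed system (E_i) of R-modules over a nonempty directed preorder and a compatible family
of essential injections M → E_i, the induced map from M to the direct limit of the E_i is an
essential injection. -/
theorem result (R : Type u) [CommRing R] (ι : Type v) [Preorder ι] [IsDirectedOrder ι] [DecidableEq ι] (i₀ : ι) (E : ι → Type v) [∀ i, AddCommGroup (E i)] [∀ i, Module R (E i)] (f : ∀ i j, i ≤ j → E i →ₗ[R] E j) [DirectedSystem E fun i j h => f i j h] (M : Type v) [AddCommGroup M] [Module R M] (g : ∀ i, M →ₗ[R] E i) (hg : ∀ i j (h : i ≤ j), f i j h ∘ₗ g i = g j) (he : ∀ i, InjHull.IsEssentialInj (g i)) : InjHull.IsEssentialInj (Module.DirectLimit.of R ι E f i₀ ∘ₗ g i₀) := by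
  have : Nonempty ι := ⟨i₀⟩
  have hcompat : ∀ i (m : M), Module.DirectLimit.of R ι E f i (g i m) =
      Module.DirectLimit.of R ι E f i₀ (g i₀ m) := by
    intro i m
    obtain ⟨k, hik, hi₀k⟩ := exists_ge_ge i i₀
    have e1 : f i k hik (g i m) = g k m := LinearMap.congr_fun (hg i k hik) m
    have e2 : f i₀ k hi₀k (g i₀ m) = g k m := LinearMap.congr_fun (hg i₀ k hi₀k) m
    rw [← Module.DirectLimit.of_f (hij := hik), e1, ← e2, Module.DirectLimit.of_f]
  have hzero : ∀ i (m : M), Module.DirectLimit.of R ι E f i (g i m) = 0 → m = 0 := by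
    intro i m h0
    obtain ⟨j, hij, hj⟩ := Module.DirectLimit.of.zero_exact h0
    have e1 : f i j hij (g i m) = g j m := LinearMap.congr_fun (hg i j hij) m
    rw [e1] at hj
    exact (he j).injective (by rw [hj, map_zero])
  refine ⟨?_, ?_⟩
  · rw [← LinearMap.ker_eq_bot, LinearMap.ker_eq_bot']
    intro m hm
    exact hzero i₀ m hm
  · intro N hN
    obtain ⟨x, hxN, hx0⟩ := (Submodule.ne_bot_iff _).1 hN
    obtain ⟨i, e, rfl⟩ := Module.DirectLimit.exists_of x
    have he0 : e ≠ 0 := by
      rintro rfl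
      exact hx0 (map_zero _)
    have hspan : Submodule.span R {e} ≠ ⊥ := by
      intro hbot
      exact he0 (Submodule.span_singleton_eq_bot.1 hbot)
    obtain ⟨y, hy, hy0⟩ := (Submodule.ne_bot_iff _).1 ((he i).essential _ hspan)
    obtain ⟨hy1, hy2⟩ := Submodule.mem_inf.1 hy
    obtain ⟨r, rfl⟩ := Submodule.mem_span_singleton.1 hy1
    obtain ⟨m, hm⟩ := hy2
    refine (Submodule.ne_bot_iff _).2 ⟨r • Module.DirectLimit.of R ι E f i e, ?_, ?_⟩
    · refine Submodule.mem_inf.2 ⟨N.smul_mem r hxN, ?_⟩
      refine ⟨m, ?_⟩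
      rw [LinearMap.comp_apply, ← hcompat i m, hm, map_smul]
    · rw [← map_smul, ← hm]
      intro h0
      have hm0 := hzero i m h0
      rw [hm0, map_zero] at hm
      exact hy0 hm.symm

end Groth.Agent.S8936
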