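import Groth.Statements.S8944
import Groth.Agent.Lib.helper10.QFLocal
import Groth.Agent.Lib.helper10.QFOpen
import Groth.Agent.Lib.helper10.QFDescent
import Groth.Agent.Lib.helper10.QFOmegaFlat

set_option autoImplicit false
universe u
open AlgebraicGeometry
open scoped TensorProduct
open Disc

namespace Groth.Agent.S8944

/-- Let A → B be a flat homomorphism of Noetherian rings, and suppose it factors through a ring B′ as A
→ B′ → B, where B′ is finite over A and the induced map of spectra Spec(B) → Spec(B′) is an open
immersion, so that the relative dualizing module is ω_{B/A} = Hom_A(B′, A) ⊗_{B′} B (B′ acting on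
Hom_A(B′, A) through the argument). Then ω_{B/A} is a flat A-module. -/
theorem result (A B B' : Type u) [CommRing A] [CommRing B] [CommRing B'] [IsNoetherianRing A] [IsNoetherianRing B] [Algebra A B] [Module.Flat A B] [Algebra A B'] [Algebra B' B] [IsScalarTower A B' B] [Module.Finite A B'] (hopen : IsOpenImmersion (Spec.map (CommRingCat.ofHom (algebraMap B' B)))) : Module.Flat A (B ⊗[B'] Disc.Omega A B') := by
  haveI := Groth.Agent.Lib.helper10.QFOpen.flat_of_isOpenImmersion hopen
  have hepi := Groth.Agent.Lib.helper10.QFOpen.ringEpi_of_isOpenImmersion hopen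
  haveI : Algebra.FiniteType B' B := Groth.Agent.Lib.helper10.QFOpen.finiteType_of_isOpenImmersion hopen
  haveI : Algebra.FiniteType A B :=
    Algebra.FiniteType.trans (inferInstance : Algebra.FiniteType A B') inferInstance
  haveI : Algebra.QuasiFinite B' B :=
    Groth.Agent.Lib.helper10.QFOpen.quasiFinite_of_isOpenImmersion hopen
  haveI : Algebra.QuasiFinite A B := Algebra.QuasiFinite.trans A B' B
  apply Groth.Agent.Lib.helper10.QFDescent.flat_of_locally (A := A) (B := B)
    (M := B ⊗[B'] Disc.Omega A B')
  intro q hq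
  haveI := hq.isPrime
  obtain ⟨A₁, L, _, _, _, _, _, _, _, _, _, _, hN, hfl, hfin, hfree, hflB, hQ, ⟨e⟩, -⟩ :=
    Groth.Agent.Lib.helper10.QFLocal.exists_local_model (A := A) (B' := B') (B := B) hepi q
  refine ⟨L, inferInstance, inferInstance, inferInstance, inferInstance, hflB, hQ, ?_⟩
  letI mA : Module A (Disc.Omega A₁ L) := Module.compHom _ (algebraMap A L)
  haveI : IsScalarTower A L (Disc.Omega A₁ L) :=
    IsScalarTower.of_algebraMap_smul (fun r x => rfl)
  haveI := Groth.Agent.Lib.helper10.QFOmegaFlat.flat_omega (A := A) (A₁ := A₁) (L := L)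
  let e0 : L ⊗[B] (B ⊗[B'] Disc.Omega A B') ≃ₗ[L] Disc.Omega A₁ L :=
    (TensorProduct.AlgebraTensorModule.cancelBaseChange B' B L L (Disc.Omega A B')).trans e
  exact Module.Flat.of_linearEquiv (e0.restrictScalars A)

end Groth.Agent.S8944
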