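import Groth.Statements.S8948
import Groth.Agent.Lib.Helper5.GorFibreF

set_option autoImplicit false
universe u
open scoped TensorProduct
open Goren

namespace Groth.Agent.S8948

/-- Base change of the Gorenstein property along finitely generated field extensions. If R is a
(Noetherian) Gorenstein algebra over a field k and K/k is a finitely generated field extension, then
K ⊗_k R is a Gorenstein ring. -/
theorem result (k K R : Type u) [Field k] [Field K] [Algebra k K] (hK : ∃ s : Finset K, IntermediateField.adjoin k (s : Set K) = ⊤) [CommRing R] [Algebra k R] [LocCoh.IsGorensteinRing R] : LocCoh.IsGorensteinRing (K ⊗[k] R) := by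
  have hR : LocCoh.IsGorensteinRing R := inferInstance
  have hNR : IsNoetherianRing R := inferInstance
  have hess : Algebra.EssFiniteType k K := IntermediateField.fg_top_iff.1 hK
  have hNT : IsNoetherianRing (R ⊗[k] K) := by
    have : Algebra.EssFiniteType R (R ⊗[k] K) := inferInstance
    exact Algebra.EssFiniteType.isNoetherianRing R _
  have hflat : Module.Flat R (R ⊗[k] K) := inferInstance
  have hT : LocCoh.IsGorensteinRing (R ⊗[k] K) := by
    refine { isGorensteinLocalRing_localization := fun n _ => ?_ }
    have hp : (n.under R).IsPrime := Ideal.IsPrime.under R n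
    have hfib : LocCoh.IsGorensteinRing ((n.under R).Fiber (R ⊗[k] K)) :=
      Groth.Agent.Lib.Helper5.GorFibre.isGorensteinRing_of_ringEquiv
        (Groth.Agent.Lib.Helper5.GorFibre.fiberTensorEquiv k R K _).symm
        (Groth.Agent.Lib.Helper5.GorFibre.isGorensteinRing_tensor_of_fg k K hK _)
    exact (Groth.Agent.Lib.Helper5.GorFibre.gorenstein_localization_iff R (R ⊗[k] K)
      (n.under R) n hfib).1 (hR.isGorensteinLocalRing_localization _)
  exact Groth.Agent.Lib.Helper5.GorFibre.isGorensteinRing_of_ringEquiv
    (Algebra.TensorProduct.comm k R K).toRingEquiv hT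

end Groth.Agent.S8948
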