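import Groth.Statements.S8949
import Groth.Agent.Lib.Helper5.GorFibreB

set_option autoImplicit false
universe u
open scoped TensorProduct
open Goren

namespace Groth.Agent.S8949

/-- Gorenstein fibres are preserved by composing with a regular map. For flat maps A → B → C of
Noetherian rings, if the fibres of A → B are Gorenstein rings and B → C is regular, then the fibres
of A → C are Gorenstein rings. -/
theorem result (A B C : Type u) [CommRing A] [CommRing B] [CommRing C] [IsNoetherianRing A] [IsNoetherianRing B] [IsNoetherianRing C] [Algebra A B] [Algebra B C] [Algebra A C] [IsScalarTower A B C] [Module.Flat A B] [Module.Flat B C] (hAB : ∀ (q : Ideal A) [q.IsPrime], LocCoh.IsGorensteinRing (q.Fiber B)) (hBC : CAlg.IsRegularHom B C) : ∀ (q : Ideal A) [q.IsPrime], LocCoh.IsGorensteinRing (q.Fiber C) := by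
  intro q _
  have hN : IsNoetherianRing (q.Fiber C) :=
    Groth.Agent.Lib.Helper5.GorFibre.isNoetherianRing_fiber A C q
  have hGB := hAB q
  refine { isGorensteinLocalRing_localization := fun n' _ => ?_ }
  have hover := Groth.Agent.Lib.Helper5.GorFibre.comap_includeRight_liesOver A C q n'
  have hprime : (n'.comap (Algebra.TensorProduct.includeRight : C →ₐ[A] q.Fiber C)).IsPrime :=
    Ideal.comap_isPrime _ _
  apply Groth.Agent.Lib.Helper5.GorFibre.localization_fiber_of_quotient A C q
    (fun R _ => LocCoh.IsGorensteinLocalRing R)
    (fun R S _ _ e h => by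
      have := h
      exact Groth.Agent.Lib.Helper5.GorIso.isGorensteinLocalRing_of_ringEquiv e)
  have hpq : ((n'.comap (Algebra.TensorProduct.includeRight : C →ₐ[A] q.Fiber C)).under B).LiesOver q :=
    Ideal.under_liesOver_of_liesOver B _ q
  apply Groth.Agent.Lib.Helper5.GorFibre.gorenstein_quotient_of_regular A B C hBC q
  exact Groth.Agent.Lib.Helper5.GorFibre.quotient_localization_of_fiber A B q
    (fun R _ => LocCoh.IsGorensteinLocalRing R)
    (fun R S _ _ e h => by
      have := h
      exact Groth.Agent.Lib.Helper5.GorIso.isGorensteinLocalRing_of_ringEquiv e)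
    (fun q' _ => hGB.isGorensteinLocalRing_localization q') _

end Groth.Agent.S8949
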