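import Groth.Statements.S8957
import Groth.Agent.S8969
import Groth.Agent.S2221
import Groth.Agent.S9169
import Groth.Agent.Lib.Helper23.Fitting25
import Groth.Agent.Lib.Helper25.SyntLocal
import Groth.Agent.Lib.helper10.DiffLocal

set_option autoImplicit false
universe u
open Disc

namespace Groth.Agent.S8957

open TensorProduct in
/-- the local computation on a relative global complete intersection chart -/
theorem local_eq {A B : Type u} [CommRing A] [CommRing B] [Algebra A B] [Algebra.FiniteType A B]
    (g : B) (n : ℕ) (F : Fin n → MvPolynomial (Fin n) A) (hF : Synt.IsRelGCI A n n F)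
    (e : Localization.Away g ≃ₐ[A] Synt.RelGCIRing A n n F) :
    (Disc.noetherDifferent A B).map (algebraMap B (Localization.Away g)) =
      (Fitt.ideal B (Ω[B⁄A]) 0).map (algebraMap B (Localization.Away g)) := by
  rw [← Groth.Agent.Lib.helper10.DiffLocal.noether_map_away (A := A) g,
    ← Groth.Agent.Lib.helper10.DiffLocal.fitt_omega_map_away (A := A) g]
  letI : Algebra (Synt.RelGCIRing A n n F) (Localization.Away g) :=
    e.symm.toAlgHom.toRingHom.toAlgebra
  haveI : IsScalarTower A (Synt.RelGCIRing A n n F) (Localization.Away g) :=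
    ⟨fun a b c => by
      show e.symm (a • b) * c = a • (e.symm b * c)
      rw [map_smul, smul_mul_assoc]⟩
  have hb : Function.Bijective (algebraMap (Synt.RelGCIRing A n n F) (Localization.Away g)) :=
    e.symm.bijective
  have hsynt := Groth.Agent.S9147.result A n n F hF
  haveI hflat : Module.Flat A (MvPolynomial (Fin n) A ⧸ Ideal.span (Set.range F)) := hsynt.1
  have hkos := Groth.Agent.S9254.result A n n F hF
  rw [Groth.Agent.Lib.helper10.DiffLocal.noether_map_bij (A := A) hb,
    Groth.Agent.Lib.helper10.DiffLocal.fitt_omega_map_bij (A := A) hb,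
    Groth.Agent.S2210.key F hkos, Helper23.Fit.ideal_omega_zero' A n F]

/-- Affine case of a finite free syntomic morphism. Let A be a Noetherian ring and B a finite free
A-algebra with A → B syntomic. Then the different of B over A (the elements b with b · Hom_A(B, A) ⊆
B · Trace_{B/A}) coincides, as a subset of B, with the Kähler different Fit_0(Ω_{B/A}). (The
published statement is for a flat quasi-finite local complete intersection morphism of Noetherian
schemes and the different as an ideal sheaf; this row is its affine finite free case, where the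
relative dualizing module is Hom_A(B, A) and the trace element is the trace.) -/
theorem result (A B : Type u) [CommRing A] [CommRing B] [Algebra A B] [IsNoetherianRing A] [Module.Finite A B] [Module.Free A B] (h : Synt.IsSyntomic A B) : Disc.differentSet A B = (Fitt.ideal B (KaehlerDifferential A B) 0 : Set B) := by
  haveI := Groth.Agent.S8969.invertible_of_isSyntomic h
  rw [Groth.Agent.S2221.result]
  congr 1
  apply Groth.Agent.Lib.helper10.DiffLocal.eq_of_locally
  intro q hq
  haveI := hq
  -- a prime of the fibre over `q`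
  obtain ⟨Q, hQp, hQ⟩ : ∃ (Q : Ideal ((q.under A).Fiber B)) (_ : Q.IsPrime),
      Q.comap (Algebra.TensorProduct.includeRight.toRingHom) = q := by
    let P : PrimeSpectrum A := ⟨q.under A, inferInstance⟩
    let x : (PrimeSpectrum.comap (algebraMap A B)) ⁻¹' {P} := ⟨⟨q, hq⟩, rfl⟩
    let Q := PrimeSpectrum.preimageEquivFiber A B P x
    refine ⟨Q.asIdeal, Q.isPrime, ?_⟩
    have h1 := (PrimeSpectrum.preimageEquivFiber A B P).left_inv x
    exact congrArg (fun y => y.1.asIdeal) h1
  haveI := hQp
  have h1 := (Groth.Agent.S9169.result A B (q.under A) q Q hQ).1.mp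
    ⟨1, fun h1 => hq.ne_top ((Ideal.eq_top_iff_one q).mpr h1),
      Groth.Agent.Lib.Helper25.SyntLocal.isSyntomic_away h 1 (Localization.Away (1 : B))⟩
  obtain ⟨g, hg, n, c, F, hF, ⟨e⟩⟩ := h1
  refine ⟨g, hg, ?_⟩
  -- `B_g` is nontrivial and quasi-finite, hence `c = n`
  have hcn : c = n := by
    haveI : Nontrivial (Localization.Away g) := by
      have hdisj : Disjoint (Submonoid.powers g : Set B) (q : Set B) := by
        rw [Set.disjoint_left]
        rintro _ ⟨m, rfl⟩ hm
        exact hg (hq.mem_of_pow_mem m hm)
      have hqTp : (q.map (algebraMap B (Localization.Away g))).IsPrime :=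
        IsLocalization.isPrime_of_isPrime_disjoint (Submonoid.powers g) _ q hq hdisj
      exact ⟨⟨0, 1, fun h01 => hqTp.ne_top ((Ideal.eq_top_iff_one _).mpr (h01 ▸ Ideal.zero_mem _))⟩⟩
    haveI : Nontrivial (Synt.RelGCIRing A n c F) := e.injective.nontrivial
    haveI : Algebra.QuasiFinite A (Synt.RelGCIRing A n c F) :=
      Algebra.QuasiFinite.of_surjective_algHom e.toAlgHom e.surjective
    obtain ⟨q', hq'⟩ := Ideal.exists_maximal (Synt.RelGCIRing A n c F)
    haveI := hq'.isPrime
    let P : PrimeSpectrum A := ⟨q'.under A, inferInstance⟩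
    let x : (PrimeSpectrum.comap (algebraMap A (Synt.RelGCIRing A n c F))) ⁻¹' {P} :=
      ⟨⟨q', hq'.isPrime⟩, rfl⟩
    have hnt : Nontrivial (P.asIdeal.Fiber (Synt.RelGCIRing A n c F)) :=
      PrimeSpectrum.nonempty_iff_nontrivial.mp
        ⟨PrimeSpectrum.preimageEquivFiber A (Synt.RelGCIRing A n c F) P x⟩
    obtain ⟨hle, hdim⟩ := hF P hnt
    haveI : IsArtinianRing (P.asIdeal.Fiber (Synt.RelGCIRing A n c F)) := inferInstance
    haveI : Ring.KrullDimLE 0 (P.asIdeal.Fiber (Synt.RelGCIRing A n c F)) :=
      ((isArtinianRing_iff_isNoetherianRing_krullDimLE_zero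
        (R := P.asIdeal.Fiber (Synt.RelGCIRing A n c F))).mp inferInstance).2
    have h0 : ringKrullDim (P.asIdeal.Fiber (Synt.RelGCIRing A n c F)) = 0 :=
      ringKrullDimZero_iff_ringKrullDim_eq_zero.mp inferInstance
    rw [h0] at hdim
    have h3 : n - c = 0 := by
      have : ((0 : ℕ) : WithBot ℕ∞) = ((n - c : ℕ) : WithBot ℕ∞) := by simpa using hdim
      exact_mod_cast this.symm
    omega
  subst hcn
  exact local_eq g c F hF e

end Groth.Agent.S8957
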