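import Groth.Statements.S8961
import Mathlib

set_option autoImplicit false
universe u
open QFDual

namespace Groth.Agent.S8961

open TensorProduct Polynomial

/-- the trace of an integral element of a finite algebra over a field is integral -/
theorem isIntegral_trace_of_field {R F S : Type*} [CommRing R] [Field F] [CommRing S]
    [Algebra R F] [Algebra F S] [Algebra R S] [IsScalarTower R F S] [Module.Finite F S]
    {x : S} (hx : IsIntegral R x) : IsIntegral R (Algebra.trace F S x) := by
  classical
  let Ω := AlgebraicClosure F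
  rw [← isIntegral_algebraMap_iff (algebraMap F Ω).injective]
  let y : Ω ⊗[F] S := 1 ⊗ₜ x
  obtain ⟨P, hPm, hP⟩ := hx
  let Q : Polynomial F := P.map (algebraMap R F)
  have hQ : aeval x Q = 0 := by
    rw [aeval_def, eval₂_map, ← IsScalarTower.algebraMap_eq]
    exact hP
  let QΩ : Polynomial Ω := Q.map (algebraMap F Ω)
  have hQy : aeval y QΩ = 0 := by
    rw [aeval_map_algebraMap]
    have : y = (Algebra.TensorProduct.includeRight : S →ₐ[F] Ω ⊗[F] S) x := rfl
    rw [this, aeval_algHom_apply, hQ, map_zero]
  have htr : algebraMap F Ω (Algebra.trace F S x) =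
      LinearMap.trace Ω (Ω ⊗[F] S) (Algebra.lmul Ω (Ω ⊗[F] S) y) := by
    rw [Algebra.trace_apply, ← LinearMap.trace_baseChange, Algebra.baseChange_lmul]
  rw [htr, Module.End.trace_eq_sum_roots_charpoly_of_splits (IsAlgClosed.splits _)]
  refine IsIntegral.multiset_sum ?_
  intro μ hμ
  rw [Polynomial.mem_roots (LinearMap.charpoly_monic _).ne_zero] at hμ
  have hev := (Module.End.hasEigenvalue_iff_isRoot_charpoly _ μ).2 hμ
  obtain ⟨v, hv⟩ := hev.exists_hasEigenvector
  have h1 := Module.End.aeval_apply_of_hasEigenvector hv (p := QΩ)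
  rw [aeval_algHom_apply, hQy, map_zero, LinearMap.zero_apply] at h1
  have h2 : QΩ.eval μ = 0 := by
    rcases smul_eq_zero.1 h1.symm with h | h
    · exact h
    · exact absurd h hv.2
  refine ⟨P, hPm, ?_⟩
  rw [← eval_map]
  have : P.map (algebraMap R Ω) = QΩ := by
    simp only [QΩ, Q, Polynomial.map_map]
    rw [← IsScalarTower.algebraMap_eq]
  rw [this]; exact h2

/-- core: an element of `K = Frac A` (total fractions) whose image in every `Frac (A_p)` lies in
`A_p` belongs to `A`. -/
theorem mem_range_of_local {A K : Type u} [CommRing A] [CommRing K] [Algebra A K]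
    [IsFractionRing A K] (x : K)
    (hloc : ∀ (p : Ideal A) [p.IsMaximal], ∃ (a : A) (s t : A), s ∉ p ∧ t ∉ p ∧
      algebraMap A K (t * s) * x = algebraMap A K (t * a)) :
    x ∈ (algebraMap A K).range := by
  let D : Ideal A := (LinearMap.range (Algebra.linearMap A K)).comap
    (LinearMap.toSpanSingleton A K x)
  have hD : ∀ a : A, a ∈ D ↔ ∃ c : A, algebraMap A K c = algebraMap A K a * x := by
    intro a
    simp only [D, Submodule.mem_comap, LinearMap.toSpanSingleton_apply, LinearMap.mem_range,
      Algebra.linearMap_apply, Algebra.smul_def]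
  suffices h1 : (1 : A) ∈ D by
    obtain ⟨c, hc⟩ := (hD 1).1 h1
    exact ⟨c, by rw [hc, map_one, one_mul]⟩
  by_contra h1
  have hne : D ≠ ⊤ := fun h => h1 (h ▸ Submodule.mem_top)
  obtain ⟨p, hp, hDp⟩ := Ideal.exists_le_maximal D hne
  obtain ⟨a, s, t, hs, ht, he⟩ := hloc p
  have hmem : t * s ∈ D := (hD _).2 ⟨t * a, he.symm⟩
  have := hDp hmem
  rcases hp.isPrime.mem_or_mem this with h | h
  · exact ht h
  · exact hs h


/-- Suppose the Dedekind different of A → B is defined: A is Noetherian, B is a finite A-algebra,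
nonzerodivisors of A are nonzerodivisors on B, and with K = Q(A) and L = B ⊗_A K the map K → L is
étale (here with L finite free over K). If A is a normal ring, i.e. every localization A_p at a
prime is an integrally closed domain, then Trace_{L/K}(b) lies in A for every b ∈ B; equivalently 1
∈ 𝓛_{B/A}. -/
theorem result (A K B L : Type u) [CommRing A] [CommRing K] [CommRing B] [CommRing L] [Algebra A K] [Algebra A B] [Algebra B L] [Algebra K L] [Algebra A L] [IsScalarTower A K L] [IsScalarTower A B L] (h : QFDual.IsDedekindDefined A K B L) (hA : EGA4.IsNormalRing A) : (1 : L) ∈ QFDual.complementary A K B L := by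
  classical
  haveI := h.isFractionRing
  haveI := h.isNoetherianRing
  haveI := h.finite
  haveI := h.free
  haveI := h.finiteKL
  intro b
  rw [one_mul]
  set l : L := algebraMap B L b with hl
  have hlint : IsIntegral A l := (Algebra.IsIntegral.isIntegral (R := A) b).algebraMap
  apply mem_range_of_local
  intro p hp
  haveI : p.IsPrime := hp.isPrime
  obtain ⟨hdom, hic⟩ := hA p
  let Ap := Localization.AtPrime p
  let Fp := FractionRing Ap
  -- the map K → Fp
  have hunit : ∀ s : nonZeroDivisors A, IsUnit ((algebraMap A Fp) s) := by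
    intro s
    have h1 : algebraMap A Ap s ∈ nonZeroDivisors Ap :=
      IsLocalization.map_nonZeroDivisors_le p.primeCompl Ap (Submonoid.mem_map_of_mem _ s.2)
    have h2 : algebraMap A Ap s ≠ 0 := nonZeroDivisors.ne_zero h1
    have h3 : algebraMap Ap Fp (algebraMap A Ap s) ≠ 0 := by
      intro h0
      exact h2 ((IsFractionRing.injective Ap Fp) (by rw [h0, map_zero]))
    rw [IsScalarTower.algebraMap_apply A Ap Fp]
    exact isUnit_iff_ne_zero.2 h3
  let ψ : K →+* Fp := IsLocalization.lift (M := nonZeroDivisors A) (g := algebraMap A Fp) hunit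
  have hψ : ∀ a : A, ψ (algebraMap A K a) = algebraMap A Fp a := fun a =>
    IsLocalization.lift_eq _ _
  letI : Algebra K Fp := ψ.toAlgebra
  haveI : IsScalarTower A K Fp := IsScalarTower.of_algebraMap_eq (fun a => (hψ a).symm)
  let V := Fp ⊗[K] L
  haveI : IsScalarTower Ap Fp V := inferInstance
  let y : V := 1 ⊗ₜ l
  let φ : L →+* V := (Algebra.TensorProduct.includeRight : L →ₐ[K] Fp ⊗[K] L).toRingHom
  have hφA : ∀ a : A, algebraMap Ap V (algebraMap A Ap a) = φ (algebraMap A L a) := by
    intro a
    have key : ∀ k : K, (algebraMap K Fp k) ⊗ₜ[K] (1 : L) = (1 : Fp) ⊗ₜ[K] (algebraMap K L k) := by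
      intro k
      rw [Algebra.algebraMap_eq_smul_one, TensorProduct.smul_tmul, ← Algebra.algebraMap_eq_smul_one]
    rw [IsScalarTower.algebraMap_apply Ap Fp V]
    change algebraMap Fp V (algebraMap Ap Fp (algebraMap A Ap a)) = (1 : Fp) ⊗ₜ[K] (algebraMap A L a)
    rw [← IsScalarTower.algebraMap_apply A Ap Fp, IsScalarTower.algebraMap_apply A K Fp,
      Algebra.TensorProduct.algebraMap_apply, IsScalarTower.algebraMap_apply A K L, ← key]
    simp
  have hyint : IsIntegral Ap y := by
    obtain ⟨P, hPm, hP⟩ := hlint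
    refine ⟨P.map (algebraMap A Ap), hPm.map _, ?_⟩
    rw [eval₂_map]
    have hcomp : (algebraMap Ap V).comp (algebraMap A Ap) = φ.comp (algebraMap A L) :=
      RingHom.ext hφA
    rw [hcomp]
    have : y = φ l := rfl
    rw [this, ← Polynomial.hom_eval₂, hP, map_zero]
  have htrint := isIntegral_trace_of_field (R := Ap) (F := Fp) (S := V) hyint
  have htr : Algebra.trace Fp V y = ψ (Algebra.trace K L l) := by
    rw [Algebra.trace_apply, Algebra.trace_apply]
    change _ = algebraMap K Fp _
    rw [← LinearMap.trace_baseChange, Algebra.baseChange_lmul]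
  rw [htr] at htrint
  obtain ⟨α, hα⟩ := IsIntegrallyClosed.isIntegral_iff.1 htrint
  -- write things as fractions
  obtain ⟨⟨c, d⟩, hcd⟩ := IsLocalization.mk'_surjective (nonZeroDivisors A) (Algebra.trace K L l)
  obtain ⟨⟨a, s⟩, has⟩ := IsLocalization.mk'_surjective p.primeCompl α
  have h1 : Algebra.trace K L l * algebraMap A K d = algebraMap A K c := by
    rw [← hcd]; exact IsLocalization.mk'_spec _ _ _
  have h2 : α * algebraMap A Ap s = algebraMap A Ap a := by
    rw [← has]; exact IsLocalization.mk'_spec _ _ _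
  have h3 : algebraMap Ap Fp (α * algebraMap A Ap d) = algebraMap Ap Fp (algebraMap A Ap c) := by
    rw [map_mul, hα, ← IsScalarTower.algebraMap_apply A Ap Fp, ← IsScalarTower.algebraMap_apply A Ap Fp,
      ← hψ, ← hψ, ← map_mul, h1]
  have h4 : α * algebraMap A Ap d = algebraMap A Ap c := IsFractionRing.injective Ap Fp h3
  have h5 : algebraMap A Ap (a * d) = algebraMap A Ap (c * s) := by
    rw [map_mul, map_mul, ← h2, ← h4]; ring
  obtain ⟨t, ht⟩ := (IsLocalization.eq_iff_exists p.primeCompl Ap).1 h5
  refine ⟨a, s, t, s.2, t.2, ?_⟩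
  have hdu : IsUnit (algebraMap A K d) := IsLocalization.map_units K d
  apply hdu.mul_right_cancel
  calc algebraMap A K (t * s) * Algebra.trace K L l * algebraMap A K d
      = algebraMap A K (t * s) * (Algebra.trace K L l * algebraMap A K d) := by ring
    _ = algebraMap A K (t * (c * s)) := by rw [h1, ← map_mul]; congr 1; ring
    _ = algebraMap A K (t * (a * d)) := by rw [ht]
    _ = algebraMap A K (t * a) * algebraMap A K d := by rw [← map_mul]; congr 1; ring

end Groth.Agent.S8961
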