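import Groth.Statements.S8964
import Groth.Agent.S8969
import Groth.Agent.S9169
import Groth.Agent.Lib.Helper25.SyntLocal
import Groth.Agent.Lib.Helper25.FiniteSyntomic
import Groth.Agent.Lib.helper10.QFLocal
import Groth.Agent.Lib.helper10.QFOpen
import Groth.Agent.Lib.helper10.QFOmegaFlat
import Groth.Agent.Lib.helper10.QFInvDescent

set_option autoImplicit false
universe u
open TensorProduct
open QFDual

namespace Groth.Agent.S8964

open Groth.Agent.Lib.helper10.QFEpi Groth.Agent.Lib.Helper25.QuietSynt

/-- a relative global complete intersection ring with as many equations as variables has a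
square presentation -/
theorem hasSqPres_relGCIRing (A : Type u) [CommRing A] (n : ℕ)
    (F : Fin n → MvPolynomial (Fin n) A) : HasSqPres A (Synt.RelGCIRing A n n F) := by
  refine ⟨Fin n, Fin n, inferInstance, inferInstance, rfl,
    ⟨Groth.Agent.Lib.Helper25.GlobalCI.presOfSurj
      (Ideal.Quotient.mkₐ A (Ideal.span (Set.range F))) Ideal.Quotient.mk_surjective F ?_⟩⟩
  exact Ideal.mk_ker

/-- `ω_{B'/A}` is a finite `B'`-module when `B'` is finite over Noetherian `A`. -/
theorem finite_omega (A B' : Type u) [CommRing A] [CommRing B'] [IsNoetherianRing A]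
    [Algebra A B'] [Module.Finite A B'] : Module.Finite B' (Disc.Omega A B') := by
  letI mA : Module A (Disc.Omega A B') := Module.compHom _ (algebraMap A B')
  haveI : IsScalarTower A B' (Disc.Omega A B') :=
    IsScalarTower.of_algebraMap_smul (fun r x => rfl)
  haveI : Module.Finite A (B' →ₗ[A] A) := inferInstance
  haveI : Module.Finite A (Disc.Omega A B') :=
    Module.Finite.equiv (Groth.Agent.Lib.helper10.QFOmegaFlat.tau (A₁ := A) (L := B')).symm
  exact Module.Finite.of_restrictScalars_finite A B' (Disc.Omega A B')

/-- the local statement -/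
theorem local_model {A B' B : Type u} [CommRing A] [CommRing B'] [CommRing B]
    [IsNoetherianRing A] [Algebra A B'] [Algebra B' B] [Algebra A B] [IsScalarTower A B' B]
    [Module.Finite A B'] [Module.Flat B' B] (hepi : RingEpi (algebraMap B' B))
    [Algebra.FiniteType A B] [Module.Flat A B] [Algebra.QuasiFinite A B]
    (hs : Synt.IsSyntomic A B) (q : Ideal B) (hq : q.IsMaximal) :
    ∃ (L : Type u) (_ : CommRing L) (_ : Algebra B L),
      Module.Flat B L ∧ (∃ Q : Ideal L, Q.IsPrime ∧ Q.comap (algebraMap B L) = q) ∧
      Module.Invertible L (L ⊗[B] (B ⊗[B'] Disc.Omega A B')) := by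
  haveI hqp := hq.isPrime
  -- a prime of the fibre over `q`
  obtain ⟨Q, hQp, hQ⟩ : ∃ (Q : Ideal ((q.under A).Fiber B)) (_ : Q.IsPrime),
      Q.comap (Algebra.TensorProduct.includeRight.toRingHom) = q := by
    let P : PrimeSpectrum A := ⟨q.under A, inferInstance⟩
    let x : (PrimeSpectrum.comap (algebraMap A B)) ⁻¹' {P} := ⟨⟨q, hqp⟩, rfl⟩
    let Q := PrimeSpectrum.preimageEquivFiber A B P x
    refine ⟨Q.asIdeal, Q.isPrime, ?_⟩
    have h1 := (PrimeSpectrum.preimageEquivFiber A B P).left_inv x
    exact congrArg (fun y => y.1.asIdeal) h1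
  haveI := hQp
  have h1 := (Groth.Agent.S9169.result A B (q.under A) q Q hQ).1.mp
    ⟨1, fun h1 => hqp.ne_top ((Ideal.eq_top_iff_one q).mpr h1),
      Groth.Agent.Lib.Helper25.SyntLocal.isSyntomic_away hs 1 (Localization.Away (1 : B))⟩
  obtain ⟨g, hg, n, c, F, hF, ⟨e⟩⟩ := h1
  have hdisj : Disjoint (Submonoid.powers g : Set B) (q : Set B) := by
    rw [Set.disjoint_left]
    rintro _ ⟨m, rfl⟩ hm
    exact hg (hqp.mem_of_pow_mem m hm)
  have hqTp : (q.map (algebraMap B (Localization.Away g))).IsPrime :=
    IsLocalization.isPrime_of_isPrime_disjoint (Submonoid.powers g) _ q hqp hdisj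
  have hqTc : (q.map (algebraMap B (Localization.Away g))).comap
      (algebraMap B (Localization.Away g)) = q :=
    IsLocalization.comap_map_of_isPrime_disjoint (Submonoid.powers g) _ hqp hdisj
  -- `B_g` is nontrivial and quasi-finite, hence `c = n`
  have hcn : c = n := by
    haveI : Nontrivial (Localization.Away g) :=
      ⟨⟨0, 1, fun h01 => hqTp.ne_top ((Ideal.eq_top_iff_one _).mpr (h01 ▸ Ideal.zero_mem _))⟩⟩
    haveI : Nontrivial (Synt.RelGCIRing A n c F) := e.injective.nontrivial
    haveI : Algebra.QuasiFinite A (Synt.RelGCIRing A n c F) :=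
      Algebra.QuasiFinite.of_surjective_algHom e.toAlgHom e.surjective
    obtain ⟨q', hq'⟩ := Ideal.exists_maximal (Synt.RelGCIRing A n c F)
    haveI := hq'.isPrime
    let P : PrimeSpectrum A := ⟨q'.under A, inferInstance⟩
    let x : (PrimeSpectrum.comap (algebraMap A (Synt.RelGCIRing A n c F))) ⁻¹' {P} :=
      ⟨⟨q', hq'.isPrime⟩, rfl⟩
    have hnt : Nontrivial (P.asIdeal.Fiber (Synt.RelGCIRing A n c F)) :=
      PrimeSpectrum.nonempty_iff_nontrivial.mp
        ⟨PrimeSpectrum.preimageEquivFiber A (Synt.RelGCIRing A n c F) P x⟩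
    obtain ⟨hle, hdim⟩ := hF P hnt
    haveI : IsArtinianRing (P.asIdeal.Fiber (Synt.RelGCIRing A n c F)) := inferInstance
    haveI : Ring.KrullDimLE 0 (P.asIdeal.Fiber (Synt.RelGCIRing A n c F)) :=
      ((isArtinianRing_iff_isNoetherianRing_krullDimLE_zero
        (R := P.asIdeal.Fiber (Synt.RelGCIRing A n c F))).mp inferInstance).2
    have h0 : ringKrullDim (P.asIdeal.Fiber (Synt.RelGCIRing A n c F)) = 0 :=
      ringKrullDimZero_iff_ringKrullDim_eq_zero.mp inferInstance
    rw [h0] at hdim
    have h3 : n - c = 0 := by
      have : ((0 : ℕ) : WithBot ℕ∞) = ((n - c : ℕ) : WithBot ℕ∞) := by simpa using hdim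
      exact_mod_cast this.symm
    omega
  subst hcn
  have hsq : HasSqPres A (Localization.Away g) :=
    (hasSqPres_relGCIRing A c F).of_algEquiv e.symm
  -- apply the local model to `B' → B_g`
  haveI : Module.Flat B (Localization.Away g) := IsLocalization.flat _ (Submonoid.powers g)
  haveI : Module.Flat B' (Localization.Away g) := Module.Flat.trans B' B _
  haveI : Module.Flat A (Localization.Away g) := Module.Flat.trans A B _
  haveI : Algebra.FiniteType B (Localization.Away g) :=
    IsLocalization.finiteType_of_monoid_fg (Submonoid.powers g) _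
  haveI : Algebra.FiniteType A (Localization.Away g) :=
    Algebra.FiniteType.trans (inferInstance : Algebra.FiniteType A B) inferInstance
  haveI : Algebra.QuasiFinite A (Localization.Away g) :=
    Algebra.QuasiFinite.trans A B (Localization.Away g)
  have hepi' : RingEpi (algebraMap B' (Localization.Away g)) := by
    have := hepi.comp (ringEpi_of_isLocalization (R := B) (S := Localization.Away g)
      (Submonoid.powers g))
    rwa [← IsScalarTower.algebraMap_eq] at this
  haveI := hqTp
  obtain ⟨A₁, L, _, _, _, _, algBgL, algB'L, towB'BgL, _, _, _, hN, hfl, hfin, hfree, hflB,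
      ⟨QL, hQL, hQLq⟩, ⟨e2⟩, hsq2⟩ :=
    Groth.Agent.Lib.helper10.QFLocal.exists_local_model (A := A) (B' := B')
      (B := Localization.Away g) hepi' (q.map (algebraMap B (Localization.Away g)))
  letI algBL : Algebra B L :=
    ((algebraMap (Localization.Away g) L).comp (algebraMap B (Localization.Away g))).toAlgebra
  haveI towBBgL : IsScalarTower B (Localization.Away g) L :=
    IsScalarTower.of_algebraMap_eq (fun _ => rfl)
  haveI towB'BL : IsScalarTower B' B L := IsScalarTower.of_algebraMap_eq (fun x => by
    rw [IsScalarTower.algebraMap_apply B' (Localization.Away g) L,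
      IsScalarTower.algebraMap_apply B' B (Localization.Away g),
      ← IsScalarTower.algebraMap_apply B (Localization.Away g) L])
  refine ⟨L, inferInstance, algBL, Module.Flat.trans B (Localization.Away g) L, ⟨QL, hQL, ?_⟩, ?_⟩
  · rw [IsScalarTower.algebraMap_eq B (Localization.Away g) L, ← Ideal.comap_comap, hQLq, hqTc]
  · obtain ⟨ι, σ, _, _, hcard, ⟨P⟩⟩ := hsq2 hsq
    haveI := hN
    haveI := hfin
    haveI := hfree
    have hsyn : Synt.IsSyntomic A₁ L :=
      Groth.Agent.Lib.Helper25.FiniteSyntomic.isSyntomic_of_finite_flat A₁ L hcard P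
    haveI : Module.Invertible L (Disc.Omega A₁ L) :=
      Groth.Agent.S8969.invertible_of_isSyntomic hsyn
    let e0 : L ⊗[B] (B ⊗[B'] Disc.Omega A B') ≃ₗ[L] Disc.Omega A₁ L :=
      (TensorProduct.AlgebraTensorModule.cancelBaseChange B' B L L (Disc.Omega A B')).trans e2
    exact Module.Invertible.congr e0.symm

/-- A quasi-finite syntomic map has an invertible relative dualizing module. Let A be a Noetherian ring
and A → B a syntomic ring map (flat, of finite presentation, with fibres local complete
intersections), and suppose it factors through an intermediate ring B', with A → B' a finite map and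
the induced morphism Spec B → Spec B' an open immersion, so that A → B is quasi-finite and ω_{B/A} =
B ⊗_{B'} Hom_A(B', A). Then ω_{B/A} is an invertible B-module. (The published statement is for a
locally quasi-finite syntomic morphism of locally Noetherian schemes and the sheaf ω_{Y/X}; this row
is its form over a pair of affine opens.) -/
theorem result (A B' B : Type u) [CommRing A] [CommRing B'] [CommRing B] [IsNoetherianRing A] [Algebra A B'] [Algebra B' B] [Algebra A B] [IsScalarTower A B' B] (hf : QFDual.IsQFFactor A B' B) (hs : Synt.IsSyntomic A B) : Module.Invertible B (QFDual.omega A B' B) := by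
  haveI : Module.Finite A B' := hf.finite
  have hopen := hf.isOpenImmersion
  haveI := Groth.Agent.Lib.helper10.QFOpen.flat_of_isOpenImmersion hopen
  have hepi := Groth.Agent.Lib.helper10.QFOpen.ringEpi_of_isOpenImmersion hopen
  haveI : Algebra.FiniteType B' B := Groth.Agent.Lib.helper10.QFOpen.finiteType_of_isOpenImmersion hopen
  haveI : Algebra.FiniteType A B :=
    Algebra.FiniteType.trans (inferInstance : Algebra.FiniteType A B') inferInstance
  haveI : Algebra.QuasiFinite B' B :=
    Groth.Agent.Lib.helper10.QFOpen.quasiFinite_of_isOpenImmersion hopen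
  haveI : Algebra.QuasiFinite A B := Algebra.QuasiFinite.trans A B' B
  haveI : Module.Flat A B := hs.1
  haveI := finite_omega A B'
  haveI : Module.Finite B (B ⊗[B'] Disc.Omega A B') := inferInstance
  exact Groth.Agent.Lib.helper10.QFInvDescent.invertible_of_locally
    (fun q hq => local_model hepi hs q hq)

end Groth.Agent.S8964
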