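import Groth.Statements.S8967
import Groth.Agent.S6283
import Groth.Agent.Lib.Helper7.DifferentBC

set_option autoImplicit false
universe u
open QFDual

namespace Groth.Agent.S8967

open TensorProduct Groth.Agent.Lib.Helper7.DiffBC

section Aux

variable {A B A' B' : Type u} [CommRing A] [CommRing B] [CommRing A'] [CommRing B']
  [Algebra A B] [Module.Finite A B] [Module.Free A B]
  [Algebra A A'] [Algebra B B'] [Algebra A' B'] [Algebra A B']
  [IsScalarTower A A' B'] [IsScalarTower A B B']
  [Module.Finite A' B'] [Module.Free A' B']

theorem flat_of_isPushout (hB : Algebra.IsPushout A A' B B') [Module.Flat A A'] :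
    Module.Flat B B' := by
  have h' : Algebra.IsPushout A B A' B' := hB.symm
  exact Module.Flat.of_linearEquiv (Algebra.IsPushout.equiv A B A' B').symm.toLinearEquiv

theorem different_eq_annihilator :
    QFDual.different B (Disc.Omega.trace A B) =
      Module.annihilator B (Disc.Omega A B ⧸ Submodule.span B {Disc.Omega.trace A B}) := by
  rw [Submodule.annihilator_quotient]
  rfl

theorem main (hB : Algebra.IsPushout A A' B B') [Module.Flat A A'] :
    Ideal.map (algebraMap B B') (QFDual.different B (Disc.Omega.trace A B)) =
      QFDual.different B' (Disc.Omega.trace A' B') := by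
  refine le_antisymm (map_different_le hB) ?_
  have : Module.Flat B B' := flat_of_isPushout hB
  rw [different_eq_annihilator (A := A) (B := B)]
  set τ := Disc.Omega.trace A B with hτ
  set P : Submodule B (Disc.Omega A B) := Submodule.span B {τ} with hP
  rw [(Groth.Agent.S6283.result (R := B) (S := B') (Disc.Omega A B ⧸ P)).2 inferInstance]
  intro d' hd'
  rw [Module.mem_annihilator]
  -- the map ψ
  let ψ : Disc.Omega A B →ₗ[B] B' ⊗[B] (Disc.Omega A B ⧸ P) :=
    (TensorProduct.mk B B' (Disc.Omega A B ⧸ P) 1) ∘ₗ P.mkQ
  obtain ⟨ψ', hψ'⟩ := exists_lift hB ψ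
  have hψτ : ψ τ = 0 := by
    change (1 : B') ⊗ₜ[B] P.mkQ τ = 0
    rw [Submodule.mkQ_apply, (Submodule.Quotient.mk_eq_zero P).2
      (Submodule.mem_span_singleton_self τ), tmul_zero]
  have key : ∀ ω : Disc.Omega A B, d' • ψ ω = 0 := by
    intro ω
    obtain ⟨c', hc'⟩ := (QFDual.mem_different_iff B' _ d').1 hd' (QFDual.bcFin hB ω)
    have h1 := congrArg ψ' hc'
    rw [map_smul, map_smul, ← bcFin_trace hB, hψ', hψ', hψτ, smul_zero] at h1
    exact h1.symm
  intro w
  induction w using TensorProduct.induction_on with
  | zero => simp
  | tmul b' m =>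
    obtain ⟨n, rfl⟩ := P.mkQ_surjective m
    have : b' ⊗ₜ[B] P.mkQ n = b' • ψ n := by
      change _ = b' • ((1 : B') ⊗ₜ[B] P.mkQ n)
      rw [smul_tmul', smul_eq_mul, mul_one]
    rw [this, smul_comm, key, smul_zero]
  | add x y hx hy => rw [smul_add, hx, hy, add_zero]


end Aux

/-- Flat base change, affine finite free case. Let A and A' be Noetherian rings, B an A-algebra which is
finite free as an A-module, A → A' a ring map and B' a ring making A → A', B → B' cocartesian (B' =
B ⊗_A A', again finite free over A'). Write 𝔇 ⊆ B and 𝔇' ⊆ B' for the differents: the ideals of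
elements b with b · Hom_A(B, A) ⊆ B · Trace_{B/A}, respectively b' · Hom_{A'}(B', A') ⊆ B' ·
Trace_{B'/A'}. If A → A' is flat, then 𝔇B' = 𝔇'. (The published statement is for the different of a
flat quasi-finite morphism of Noetherian schemes under base change, phrased with the closed
subschemes the differents cut out; this row is the affine finite free case, where the relative
dualizing module is Hom_A(B, A) and the trace element is the trace.) -/
theorem result (A B A' B' : Type u) [CommRing A] [CommRing B] [CommRing A'] [CommRing B'] [IsNoetherianRing A] [IsNoetherianRing A'] [Algebra A B] [Module.Finite A B] [Module.Free A B] [Algebra A A'] [Algebra B B'] [Algebra A' B'] [Algebra A B'] [IsScalarTower A A' B'] [IsScalarTower A B B'] (hB : Algebra.IsPushout A A' B B') [Module.Finite A' B'] [Module.Free A' B'] [Module.Flat A A'] : Ideal.map (algebraMap B B') (QFDual.different B (Disc.Omega.trace A B)) = QFDual.different B' (Disc.Omega.trace A' B') := by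
  exact main hB

end Groth.Agent.S8967
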