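import Groth.Statements.S8972
import Mathlib
-- import your own Groth.Agent.* helpers here

set_option autoImplicit false
set_option linter.unusedSectionVars false
set_option linter.style.haveILetI false
set_option linter.unusedVariables false
open Synt

namespace Groth.Agent.S8972

open MvPolynomial Synt

section
variable (n d : ℕ)

/-- the zero exponent index -/
def E0 : UnivIdx n d := ⟨fun _ => 0, by simp⟩

lemma E0_exponent : (E0 n d).exponent = 0 := by
  ext i
  simp [UnivIdx.exponent, E0]

/-- nonzero exponent indices -/
abbrev U' : Type := {E : UnivIdx n d // E ≠ E0 n d}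

/-- index type of the target polynomial ring -/
abbrev Tau : Type := (Fin n × U' n d) ⊕ Fin n

/-- target ring -/
abbrev TT : Type := MvPolynomial (Tau n d) ℤ

/-- the monomial in the `x` variables -/
noncomputable def xm (e : Fin n →₀ ℕ) : TT n d := e.prod fun j k => X (Sum.inr j) ^ k

/-- images of the coefficient variables -/
noncomputable def gA : Fin n × UnivIdx n d → TT n d := fun p =>
  if h : p.2 = E0 n d then
    - ∑ E' : U' n d, X (Sum.inl (p.1, E')) * xm n d E'.1.exponent
  else X (Sum.inl (p.1, ⟨p.2, h⟩))

noncomputable def phiA : UnivBase n d →+* TT n d := (aeval (gA n d) : UnivBase n d →ₐ[ℤ] TT n d)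

noncomputable def phi : MvPolynomial (Fin n) (UnivBase n d) →+* TT n d :=
  eval₂Hom (phiA n d) (fun j => X (Sum.inr j))

lemma phi_univPoly (i : Fin n) : phi n d (univPoly n d i) = 0 := by
  classical
  unfold univPoly
  rw [map_sum]
  have h1 : ∀ E : UnivIdx n d, phi n d (monomial E.exponent (X (i, E))) =
      gA n d (i, E) * xm n d E.exponent := by
    intro E
    rw [phi, eval₂Hom_monomial]
    congr 1
    simp [phiA]
  simp only [h1]
  rw [Fintype.sum_eq_add_sum_subtype_ne _ (E0 n d)]
  have h2 : gA n d (i, E0 n d) = - ∑ E' : U' n d, X (Sum.inl (i, E')) * xm n d E'.1.exponent := by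
    simp [gA]
  have h3 : ∀ E' : U' n d, gA n d (i, E'.1) = X (Sum.inl (i, E')) := by
    intro E'
    simp [gA, E'.2]
  rw [h2, E0_exponent]
  simp only [h3]
  simp [xm]

lemma univIdeal_le_ker : univIdeal n d ≤ RingHom.ker (phi n d) := by
  rw [univIdeal, Ideal.span_le]
  rintro _ ⟨i, rfl⟩
  exact phi_univPoly n d i

/-- quotient map as a ring hom -/
noncomputable def mkB : MvPolynomial (Fin n) (UnivBase n d) →+* UnivAlg n d :=
  (UnivAlg.mk n d : MvPolynomial (Fin n) (UnivBase n d) →ₐ[UnivBase n d] UnivAlg n d)

lemma mkB_surjective : Function.Surjective (mkB n d) := by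
  unfold mkB UnivAlg.mk
  exact Ideal.Quotient.mk_surjective

lemma mkB_eq_zero {s : MvPolynomial (Fin n) (UnivBase n d)} (hs : s ∈ univIdeal n d) :
    mkB n d s = 0 := by
  unfold mkB UnivAlg.mk
  exact Ideal.Quotient.eq_zero_iff_mem.2 hs

/-- the descended map -/
noncomputable def phiBar : UnivAlg n d →+* TT n d :=
  Ideal.Quotient.lift (univIdeal n d) (phi n d) (fun a ha => univIdeal_le_ker n d ha)

lemma phiBar_mkB (s : MvPolynomial (Fin n) (UnivBase n d)) :
    phiBar n d (mkB n d s) = phi n d s := by
  unfold phiBar mkB UnivAlg.mk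
  exact Ideal.Quotient.lift_mk _ _ _

/-- the inverse -/
noncomputable def psi : TT n d →ₐ[ℤ] UnivAlg n d :=
  aeval (Sum.elim (fun q : Fin n × U' n d => mkB n d (C (X (q.1, q.2.1))))
    (fun j => mkB n d (X j)))

lemma psi_xm (e : Fin n →₀ ℕ) : psi n d (xm n d e) = mkB n d (monomial e 1) := by
  rw [xm, monomial_eq, map_one, one_mul, Finsupp.prod, Finsupp.prod, map_prod, map_prod]
  refine Finset.prod_congr rfl fun j _ => ?_
  rw [map_pow, map_pow]
  congr 1
  simp [psi]

lemma mkB_C_X_E0 (i : Fin n) : mkB n d (C (X (i, E0 n d))) =
    - ∑ E' : U' n d, mkB n d (C (X (i, E'.1))) * mkB n d (monomial E'.1.exponent 1) := by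
  classical
  have h := mkB_eq_zero n d (Ideal.subset_span ⟨i, rfl⟩ : univPoly n d i ∈ univIdeal n d)
  unfold univPoly at h
  rw [Fintype.sum_eq_add_sum_subtype_ne _ (E0 n d), E0_exponent, map_add, map_sum] at h
  have h1 : ∀ E' : U' n d, mkB n d (monomial E'.1.exponent (X (i, E'.1))) =
      mkB n d (C (X (i, E'.1))) * mkB n d (monomial E'.1.exponent 1) := by
    intro E'
    rw [← map_mul, C_mul_monomial, mul_one]
  simp only [h1] at h
  rw [← C_apply] at h
  exact eq_neg_of_add_eq_zero_left h

lemma psi_phi (s : MvPolynomial (Fin n) (UnivBase n d)) :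
    psi n d (phi n d s) = mkB n d s := by
  classical
  have : ((psi n d : TT n d →+* UnivAlg n d).comp (phi n d)) = mkB n d := by
    apply MvPolynomial.ringHom_ext
    · intro a
      have : ((psi n d : TT n d →+* UnivAlg n d).comp (phi n d)).comp C = (mkB n d).comp C := by
        apply MvPolynomial.ringHom_ext
        · intro z
          simp only [RingHom.comp_apply]
          have hz : (C (C z) : MvPolynomial (Fin n) (UnivBase n d)) = (z : MvPolynomial (Fin n) (UnivBase n d)) :=
            eq_intCast ((C : UnivBase n d →+* MvPolynomial (Fin n) (UnivBase n d)).comp C) z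
          rw [hz, map_intCast, map_intCast]
          exact (map_intCast (mkB n d) z).symm
        · rintro ⟨i, E⟩
          simp only [RingHom.comp_apply, phi, eval₂Hom_C, phiA, RingHom.coe_coe, aeval_X]
          by_cases h : E = E0 n d
          · subst h
            rw [gA, dif_pos rfl, map_neg, map_sum, mkB_C_X_E0]
            congr 1
            refine Finset.sum_congr rfl fun E' _ => ?_
            rw [map_mul, psi_xm]
            congr 1
            simp [psi]
          · rw [gA, dif_neg h]
            simp [psi]
      exact RingHom.congr_fun this a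
    · intro j
      simp [phi, psi]
  exact RingHom.congr_fun this s

lemma psi_phiBar (b : UnivAlg n d) : psi n d (phiBar n d b) = b := by
  obtain ⟨s, rfl⟩ := mkB_surjective n d b
  rw [phiBar_mkB, psi_phi]

lemma phiBar_psi (t : TT n d) : phiBar n d (psi n d t) = t := by
  have : ((phiBar n d).comp (psi n d : TT n d →+* UnivAlg n d)) = RingHom.id _ := by
    apply MvPolynomial.ringHom_ext
    · intro z
      simp
    · rintro (⟨i, E'⟩ | j)
      · simp only [RingHom.comp_apply, RingHom.coe_coe, psi, aeval_X, Sum.elim_inl, phiBar_mkB,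
          RingHom.id_apply]
        simp only [phi, eval₂Hom_C, phiA, RingHom.coe_coe, aeval_X]
        rw [gA, dif_neg E'.2]
      · simp only [RingHom.comp_apply, RingHom.coe_coe, psi, aeval_X, Sum.elim_inr, phiBar_mkB,
          RingHom.id_apply]
        simp [phi]
  exact RingHom.congr_fun this t

/-- the universal algebra is a polynomial ring over `ℤ`. -/
noncomputable def equivTT : UnivAlg n d ≃+* TT n d :=
  RingEquiv.ofRingHom (phiBar n d) (psi n d : TT n d →+* UnivAlg n d)
    (RingHom.ext fun t => phiBar_psi n d t) (RingHom.ext fun b => psi_phiBar n d b)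

end

/-- Let n, d ≥ 1 and let B = A[x_1, …, x_n]/(f_1, …, f_n) be the universal algebra over A = ℤ[a_{i,E}],
f_i = Σ_E a_{i,E} x^E summed over exponent vectors E with |E| ≤ d. Then B is an integral domain and
every localization of B at a prime ideal is a regular local ring. (The published statement says that
X_{n,d} = Spec A and the quasi-finite locus Y_{n,d} ⊆ Spec B are regular and irreducible; for A, a
polynomial ring over ℤ, this is standard, and for the open Y_{n,d} it follows from the assertion
about all of Spec B made here, which is what the printed argument shows. The published statement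
also asserts that Y_{n,d} → X_{n,d} is locally quasi-finite and syntomic, an instance of the general
characterisation of quasi-finite syntomic maps; that clause is not part of this row.) -/
theorem result (n d : ℕ) (hn : 1 ≤ n) (hd : 1 ≤ d) : IsDomain (Synt.UnivAlg n d) ∧ ∀ q : PrimeSpectrum (Synt.UnivAlg n d), IsRegularLocalRing (Localization.AtPrime q.asIdeal) := by
  have hreg : IsRegularRing (TT n d) := inferInstance
  have hregB : IsRegularRing (UnivAlg n d) := IsRegularRing.of_ringEquiv (equivTT n d).symm
  refine ⟨(equivTT n d).toMulEquiv.isDomain (TT n d), fun q => ?_⟩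
  exact IsRegularRing.isRegularLocalRing_localization q.asIdeal

end Groth.Agent.S8972
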