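import Groth.Statements.S8973
import Mathlib
-- import your own Groth.Agent.* helpers here

set_option autoImplicit false
set_option linter.unusedSectionVars false
set_option linter.style.haveILetI false
set_option linter.unusedVariables false
open Synt

namespace Groth.Agent.S8973

open MvPolynomial Synt

section
variable (n d : ℕ)

/-- the literal quotient -/
abbrev B' : Type := UnivAlg n d

/-- the naive presentation -/
noncomputable def PP : Algebra.PreSubmersivePresentation (UnivBase n d) (B' n d) (Fin n) (Fin n) :=
  Algebra.PreSubmersivePresentation.naive (v := univPoly n d) id Function.injective_id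

/-- the Jacobian -/
noncomputable def JJ : B' n d := (PP n d).jacobian

/-- the submersive presentation of the localization -/
noncomputable def QQ : Algebra.SubmersivePresentation (UnivBase n d) (Localization.Away (JJ n d))
    (Unit ⊕ Fin n) (Unit ⊕ Fin n) where
  __ := (Algebra.PreSubmersivePresentation.localizationAway (Localization.Away (JJ n d)) (JJ n d)).comp
      (PP n d)
  jacobian_isUnit := by
    rw [Algebra.PreSubmersivePresentation.comp_jacobian_eq_jacobian_smul_jacobian,
      Algebra.PreSubmersivePresentation.localizationAway_jacobian (S := Localization.Away (JJ n d))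
        (r := JJ n d), Algebra.smul_def,
      IsUnit.mul_iff]
    exact ⟨IsLocalization.Away.algebraMap_isUnit (JJ n d),
      IsLocalization.Away.algebraMap_isUnit (JJ n d)⟩

lemma stdSmooth : Algebra.IsStandardSmoothOfRelativeDimension 0 (UnivBase n d)
    (Localization.Away (JJ n d)) := by
  refine (QQ n d).isStandardSmoothOfRelativeDimension ?_
  simp [Algebra.Presentation.dimension]

section chi
variable (hd : 1 ≤ d)
include hd

/-- unit exponent index -/
def ee (j : Fin n) : UnivIdx n d :=
  ⟨fun l => if l = j then ⟨1, by omega⟩ else ⟨0, by omega⟩, by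
    have : ∀ l : Fin n, (((if l = j then (⟨1, by omega⟩ : Fin (d + 1)) else ⟨0, by omega⟩) :
        Fin (d + 1)) : ℕ) = if l = j then 1 else 0 := by
      intro l; split_ifs <;> rfl
    simp only [this, Finset.sum_ite_eq', Finset.mem_univ, if_true]
    exact hd⟩

lemma ee_exponent (j : Fin n) : (ee n d hd j).exponent = Finsupp.single j 1 := by
  ext l
  rw [Finsupp.single_apply]
  change (((if l = j then (⟨1, by omega⟩ : Fin (d + 1)) else ⟨0, by omega⟩) : Fin (d + 1)) : ℕ) = _
  by_cases h : l = j
  · rw [if_pos h, if_pos h.symm]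
  · rw [if_neg h, if_neg (Ne.symm h)]

/-- the specialization of coefficients -/
noncomputable def chiA : UnivBase n d →+* ℤ :=
  (aeval (fun p : Fin n × UnivIdx n d => if p.2 = ee n d hd p.1 then (1 : ℤ) else 0) :
    UnivBase n d →ₐ[ℤ] ℤ)

lemma chiA_X (p : Fin n × UnivIdx n d) :
    chiA n d hd (X p) = if p.2 = ee n d hd p.1 then (1 : ℤ) else 0 := by
  simp [chiA]

/-- the specialization -/
noncomputable def chi0 : MvPolynomial (Fin n) (UnivBase n d) →+* ℤ :=
  eval₂Hom (chiA n d hd) (fun _ => (0 : ℤ))

omit hd in
lemma zprod (s : Fin n →₀ ℕ) : (s.prod fun _ k => (0 : ℤ) ^ k) = if s = 0 then 1 else 0 := by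
  by_cases h : s = 0
  · subst h; simp
  · rw [if_neg h]
    obtain ⟨l, hl⟩ : ∃ l, s l ≠ 0 := by
      by_contra hcon
      push Not at hcon
      exact h (Finsupp.ext hcon)
    rw [Finsupp.prod]
    exact Finset.prod_eq_zero (Finsupp.mem_support_iff.2 hl) (zero_pow hl)

lemma chi0_monomial (s : Fin n →₀ ℕ) (a : UnivBase n d) :
    chi0 n d hd (monomial s a) = chiA n d hd a * if s = 0 then 1 else 0 := by
  rw [chi0, eval₂Hom_monomial, zprod]

lemma chi0_univPoly (j : Fin n) : chi0 n d hd (univPoly n d j) = 0 := by
  classical
  unfold univPoly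
  rw [map_sum]
  refine Finset.sum_eq_zero fun E _ => ?_
  rw [chi0_monomial, chiA_X]
  by_cases h : E = ee n d hd j
  · subst h
    rw [if_pos rfl, one_mul, ee_exponent, if_neg]
    intro h0
    have := DFunLike.congr_fun h0 j
    simp at this
  · rw [if_neg h, zero_mul]

lemma chi0_pderiv (i j : Fin n) :
    chi0 n d hd (pderiv i (univPoly n d j)) = if i = j then 1 else 0 := by
  classical
  unfold univPoly
  rw [map_sum, map_sum]
  simp only [pderiv_monomial, chi0_monomial, map_mul, chiA_X, map_natCast]
  rw [Finset.sum_eq_single (ee n d hd j)]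
  · rw [if_pos rfl, ee_exponent, one_mul]
    by_cases h : i = j
    · subst h
      simp
    · rw [if_neg h, Finsupp.single_apply, if_neg (Ne.symm h)]
      simp
  · intro E _ hE
    rw [if_neg hE, zero_mul, zero_mul]
  · intro h
    exact absurd (Finset.mem_univ _) h

lemma univIdeal_le_ker_chi0 : univIdeal n d ≤ RingHom.ker (chi0 n d hd) := by
  rw [univIdeal, Ideal.span_le]
  rintro _ ⟨i, rfl⟩
  exact chi0_univPoly n d hd i

/-- the point -/
noncomputable def chi : B' n d →+* ℤ :=
  Ideal.Quotient.lift (univIdeal n d) (chi0 n d hd) (fun a ha => univIdeal_le_ker_chi0 n d hd ha)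

lemma chi_JJ : chi n d hd (JJ n d) = 1 := by
  classical
  rw [JJ, Algebra.PreSubmersivePresentation.jacobian_eq_jacobiMatrix_det]
  have h1 : ∀ x : (PP n d).Ring, chi n d hd (algebraMap (PP n d).Ring (B' n d) x) =
      chi0 n d hd x := by
    intro x
    exact Ideal.Quotient.lift_mk _ _ _
  refine (h1 _).trans ?_
  rw [RingHom.map_det]
  have h2 : (chi0 n d hd).mapMatrix (PP n d).jacobiMatrix = 1 := by
    ext i j
    have hent : (PP n d).jacobiMatrix i j = pderiv i (univPoly n d j) :=
      Algebra.PreSubmersivePresentation.jacobiMatrix_apply _ i j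
    rw [RingHom.mapMatrix_apply, Matrix.map_apply, hent, chi0_pderiv, Matrix.one_apply]
  rw [h2, Matrix.det_one]

end chi

end

/-- Let n, d ≥ 1 and let B = A[x_1, …, x_n]/(f_1, …, f_n) be the universal algebra over A = ℤ[a_{i,E}],
f_i = Σ_E a_{i,E} x^E summed over exponent vectors E with |E| ≤ d. Then there is a prime q of B at
which B is quasi-finite over A and étale over A (that is, B_q is quasi-finite and formally étale
over A). (The published statement asserts a dense open V of the quasi-finite locus Y_{n,d} ⊆ Spec B
that is étale over Spec A; as Spec B is irreducible and the étale locus is open, that amounts to the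
existence of one such point, which is what is stated here and what the printed argument exhibits.) -/
theorem result (n d : ℕ) (hn : 1 ≤ n) (hd : 1 ≤ d) : ∃ q : PrimeSpectrum (Synt.UnivAlg n d), Algebra.QuasiFiniteAt (Synt.UnivBase n d) q.asIdeal ∧ Algebra.IsEtaleAt (Synt.UnivBase n d) q.asIdeal := by
  have key : ∃ q : PrimeSpectrum (B' n d), Algebra.QuasiFiniteAt (UnivBase n d) q.asIdeal ∧
      Algebra.IsEtaleAt (UnivBase n d) q.asIdeal := by
    obtain ⟨q, hqdef⟩ : ∃ q : PrimeSpectrum (B' n d), q.asIdeal = RingHom.ker (chi n d hd) :=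
      ⟨⟨RingHom.ker (chi n d hd), RingHom.ker_isPrime _⟩, rfl⟩
    have hJ : JJ n d ∉ q.asIdeal := by
      intro h
      rw [hqdef, RingHom.mem_ker, chi_JJ] at h
      exact one_ne_zero h
    haveI := stdSmooth n d
    have hE : Algebra.FormallyEtale (UnivBase n d) (Localization.Away (JJ n d)) := inferInstance
    have hsub := (Algebra.basicOpen_subset_etaleLocus_iff (R := UnivBase n d) (A := B' n d)
      (f := JJ n d)).2 hE
    have hq : q ∈ Algebra.etaleLocus (UnivBase n d) (B' n d) := hsub hJ
    have het : Algebra.IsEtaleAt (UnivBase n d) q.asIdeal := hq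
    refine ⟨q, ?_, het⟩
    haveI : Algebra.FormallyEtale (UnivBase n d) (Localization.AtPrime q.asIdeal) := het
    haveI : Algebra.FiniteType (UnivBase n d) (B' n d) := (PP n d).toGenerators.finiteType
    haveI : Algebra.EssFiniteType (B' n d) (Localization.AtPrime q.asIdeal) :=
      .of_isLocalization _ q.asIdeal.primeCompl
    haveI : Algebra.EssFiniteType (UnivBase n d) (Localization.AtPrime q.asIdeal) :=
      .comp _ (B' n d) _
    show Algebra.QuasiFinite (UnivBase n d) (Localization.AtPrime q.asIdeal)
    infer_instance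
  exact key

end Groth.Agent.S8973
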