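import Groth.Statements.S8992
import Mathlib

set_option autoImplicit false
universe u
open HTop

namespace Groth.Agent.S8992

/-- An algebra over the prime field with p elements is absolutely weakly normal if and only if its p-th
power map is bijective (the algebra is perfect). -/
theorem result (p : ℕ) [Fact p.Prime] (A : Type u) [CommRing A] [Algebra (ZMod p) A] : HTop.IsAWNRing A ↔ PerfectRing A p := by
  have hp : p.Prime := Fact.out
  have hp2 : 2 ≤ p := hp.two_le
  have hpA : (p : A) = 0 := by
    have : (p : A) = algebraMap (ZMod p) A (p : ZMod p) := by rw [map_natCast]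
    rw [this, ZMod.natCast_self, map_zero]
  constructor
  · rintro ⟨-, h2⟩
    refine ⟨⟨fun a b hab => ?_, fun x => ?_⟩⟩
    · have hab' : a ^ p = b ^ p := hab
      have hx : (p : A) ^ p * (a ^ p) = (0 : A) ^ p := by
        rw [hpA, zero_pow (by omega), zero_mul]
      obtain ⟨c, -, hc⟩ := h2 p hp (a ^ p) 0 hx
      have h1 := hc a ⟨rfl, by rw [hpA, zero_mul]⟩
      have h2' := hc b ⟨hab', by rw [hpA, zero_mul]⟩
      rw [h1, h2']
    · have hx : (p : A) ^ p * x = (0 : A) ^ p := by
        rw [hpA, zero_pow (by omega), zero_mul]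
      obtain ⟨c, ⟨hc, -⟩, -⟩ := h2 p hp x 0 hx
      exact ⟨c, hc.symm⟩
  · rintro ⟨⟨hinj, hsurj⟩⟩
    have hinj' : ∀ a b : A, a ^ p = b ^ p → a = b := fun a b h => hinj h
    refine ⟨?_, ?_⟩
    · intro x y hxy
      obtain ⟨α, β, hαβ⟩ : ∃ α β : ℕ, 3 * α + 2 * β = p := by
        rcases Nat.even_or_odd' p with ⟨k, hk | hk⟩
        · exact ⟨0, k, by omega⟩
        · exact ⟨1, k - 1, by omega⟩
      obtain ⟨a, ha⟩ := hsurj (y ^ α * x ^ β)
      have ha' : a ^ p = y ^ α * x ^ β := ha
      have h1 : a ^ 2 = x := by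
        apply hinj'
        calc (a ^ 2) ^ p = (a ^ p) ^ 2 := by ring
          _ = (y ^ α * x ^ β) ^ 2 := by rw [ha']
          _ = (y ^ 2) ^ α * x ^ (2 * β) := by ring
          _ = (x ^ 3) ^ α * x ^ (2 * β) := by rw [hxy]
          _ = x ^ (3 * α + 2 * β) := by ring
          _ = x ^ p := by rw [hαβ]
      have h2 : a ^ 3 = y := by
        apply hinj'
        calc (a ^ 3) ^ p = (a ^ p) ^ 3 := by ring
          _ = (y ^ α * x ^ β) ^ 3 := by rw [ha']
          _ = y ^ (3 * α) * (x ^ 3) ^ β := by ring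
          _ = y ^ (3 * α) * (y ^ 2) ^ β := by rw [hxy]
          _ = y ^ (3 * α + 2 * β) := by ring
          _ = y ^ p := by rw [hαβ]
      refine ⟨a, ⟨h1.symm, h2.symm⟩, fun b hb => ?_⟩
      apply hinj'
      calc b ^ p = b ^ (3 * α + 2 * β) := by rw [hαβ]
        _ = (b ^ 3) ^ α * (b ^ 2) ^ β := by ring
        _ = y ^ α * x ^ β := by rw [← hb.1, ← hb.2]
        _ = a ^ p := ha'.symm
    · intro l hl x y hxy
      by_cases hlp : l = p
      · subst hlp
        rw [hpA, zero_pow (by omega), zero_mul] at hxy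
        have hy : y = 0 := by
          apply hinj'
          rw [← hxy, zero_pow (by omega)]
        obtain ⟨a, ha⟩ := hsurj x
        have ha' : a ^ l = x := ha
        refine ⟨a, ⟨ha'.symm, by rw [hy, hpA, zero_mul]⟩, fun b hb => ?_⟩
        apply hinj'
        rw [ha', ← hb.1]
      · have hunit : IsUnit ((l : ZMod p)) := by
          rw [isUnit_iff_ne_zero]
          intro h0
          rw [ZMod.natCast_eq_zero_iff] at h0
          exact hlp ((Nat.prime_dvd_prime_iff_eq hp hl).mp h0).symm
        have hunitA : IsUnit (l : A) := by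
          have : (l : A) = algebraMap (ZMod p) A (l : ZMod p) := by rw [map_natCast]
          rw [this]
          exact hunit.map _
        obtain ⟨v, hv⟩ := hunitA.exists_left_inv
        refine ⟨v * y, ⟨?_, ?_⟩, fun b hb => ?_⟩
        · rw [mul_pow, ← hxy, ← mul_assoc, ← mul_pow, hv, one_pow, one_mul]
        · rw [← mul_assoc, mul_comm _ v, hv, one_mul]
        · rw [hb.2, ← mul_assoc, hv, one_mul]

end Groth.Agent.S8992
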