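import Groth.Statements.S8993
import Groth.Agent.Lib.Helper9.PerfClosure
import Mathlib.FieldTheory.PerfectClosure

set_option autoImplicit false
universe u
open HTop

namespace Groth.Agent.S8993

/-- For a ring A of prime characteristic p, the map from A to the direct limit of A along Frobenius (the
perfect closure) is an absolute weak normalization of A. (The published statement also identifies,
over a base of characteristic p, the h sheafification of the structure sheaf on quasi-compact
quasi-separated objects with this colimit; that part is not stated here.) -/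
theorem result (p : ℕ) [Fact p.Prime] (A : Type u) [CommRing A] [CharP A p] : HTop.IsRingAWN (PerfectClosure.of A p) := by
  have hp : p.Prime := Fact.out
  refine ⟨?_, ?_⟩
  · rw [Groth.Agent.Lib.Helper9.PRad.isUnivHomeo_iff_of_charP p]
    refine ⟨fun a ha => ?_, fun b => ?_⟩
    · exact pNilradical_le_nilradical (IsPRadical.ker_le (PerfectClosure.of A p) p ha)
    · exact IsPRadical.pow_mem (PerfectClosure.of A p) p b
  · intro C _ ψ hψ
    obtain ⟨hker, hpow⟩ := (Groth.Agent.Lib.Helper9.PRad.isUnivHomeo_iff_of_charP p ψ).mp hψ
    obtain ⟨-, hsurj, -⟩ :=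
      (Groth.Agent.Lib.Helper9.UnivHomeoRing.isUnivHomeo_SpecMap_iff' ψ).mp hψ
    haveI : Nontrivial A := CharP.nontrivial_of_char_ne_one (R := A) (v := p) hp.ne_one
    haveI : Nontrivial C := by
      obtain ⟨M, hM⟩ := Ideal.exists_maximal A
      obtain ⟨Q, -⟩ := hsurj ⟨M, hM.isPrime⟩
      exact ⟨⟨0, 1, fun h01 => Q.isPrime.ne_top ((Ideal.eq_top_iff_one _).mpr
        (h01 ▸ Q.asIdeal.zero_mem))⟩⟩
    have hpC : (p : C) = 0 := by
      rw [← map_natCast ψ, CharP.cast_eq_zero A p, map_zero]
    haveI : CharP C p := (CharP.charP_iff_prime_eq_zero hp).mpr hpC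
    haveI : IsPRadical ψ p :=
      { pow_mem' := fun c => hpow c
        ker_le' := fun a ha => by
          rw [pNilradical_prime hp, mem_nilradical]
          exact hker a ha }
    refine ⟨PerfectRing.lift ψ (PerfectClosure.of A p) p, PerfectRing.lift_comp _ _ _, ?_⟩
    intro χ hχ
    apply IsPRadical.injective_comp_of_perfect (M := PerfectClosure A p) ψ p
    change χ.comp ψ = (PerfectRing.lift ψ (PerfectClosure.of A p) p).comp ψ
    rw [hχ, PerfectRing.lift_comp]

end Groth.Agent.S8993
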