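import Groth.Statements.S9008
import Mathlib

set_option autoImplicit false
universe u
open FlatMor

namespace Groth.Agent.S9008

/-- For Spec B → Spec A affine of finite type: a finite B-module is universally pure along the fibre
over a prime p of A exactly when every base change of it along a ring map A → A' is pure along the
fibre over every prime of A' above p. -/
theorem result {A B : Type u} [CommRing A] [CommRing B] [Algebra A B] [Algebra.FiniteType A B] (N : Type u) [AddCommGroup N] [Module B N] [Module.Finite B N] (p : Ideal A) [p.IsPrime] : FlatCA.IsUnivPureAlong A B N p ↔ ∀ (A' B' N' : Type u) [CommRing A'] [CommRing B'] [Algebra A A'] [Algebra B B'] [Algebra A' B'] [Algebra A B'] [IsScalarTower A B B'] [IsScalarTower A A' B'] [Algebra.IsPushout A B A' B'] [AddCommGroup N'] [Module B' N'] [Module B N'] [IsScalarTower B B' N'] (g : N →ₗ[B] N'), IsBaseChange B' g → ∀ (p' : Ideal A') [p'.IsPrime], p'.LiesOver p → FlatCA.IsPureAlong A' B' N' p' := by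
  constructor
  · intro H A' B' N' _ _ _ _ _ _ _ _ hpo _ _ _ _ g hg p' _ hp'
    intro A2 B2 N2 _ _ _ _ _ _ _ _ _ _ _ _ _ _ f' t' t _ _ P _ _ himp
    obtain ⟨hpo2, hbc2, hle, hover, hP, hass, hcl⟩ := himp
    letI iAA2 : Algebra A A2 := ((algebraMap A' A2).comp (algebraMap A A')).toAlgebra
    haveI tAA'A2 : IsScalarTower A A' A2 := IsScalarTower.of_algebraMap_eq' rfl
    letI iBB2 : Algebra B B2 := ((algebraMap B' B2).comp (algebraMap B B')).toAlgebra
    haveI tBB'B2 : IsScalarTower B B' B2 := IsScalarTower.of_algebraMap_eq' rfl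
    letI iAB2 : Algebra A B2 := ((algebraMap A' B2).comp (algebraMap A A')).toAlgebra
    haveI tAA'B2 : IsScalarTower A A' B2 := IsScalarTower.of_algebraMap_eq' rfl
    haveI tAA2B2 : IsScalarTower A A2 B2 := IsScalarTower.of_algebraMap_eq fun a => by
      change algebraMap A' B2 (algebraMap A A' a) = algebraMap A2 B2 (algebraMap A' A2 (algebraMap A A' a))
      rw [← IsScalarTower.algebraMap_apply A' A2 B2]
    haveI tAB'B2 : IsScalarTower A B' B2 := IsScalarTower.of_algebraMap_eq fun a => by
      change algebraMap A' B2 (algebraMap A A' a) = algebraMap B' B2 (algebraMap A B' a)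
      rw [IsScalarTower.algebraMap_apply A A' B', ← IsScalarTower.algebraMap_apply A' B' B2]
    haveI tABB2 : IsScalarTower A B B2 := IsScalarTower.of_algebraMap_eq fun a => by
      change algebraMap A' B2 (algebraMap A A' a) = algebraMap B' B2 (algebraMap B B' (algebraMap A B a))
      rw [← IsScalarTower.algebraMap_apply A B B', IsScalarTower.algebraMap_apply A A' B',
        ← IsScalarTower.algebraMap_apply A' B' B2]
    letI mBN2 : Module B N2 := Module.compHom N2 (algebraMap B B')
    haveI tBB'N2 : IsScalarTower B B' N2 := ⟨fun b b' n => by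
      change (b • b') • n = algebraMap B B' b • (b' • n)
      rw [Algebra.smul_def, mul_smul]⟩
    haveI tBB2N2 : IsScalarTower B B2 N2 := ⟨fun b b2 n => by
      change (b • b2) • n = algebraMap B B' b • (b2 • n)
      rw [Algebra.smul_def, mul_smul]
      change algebraMap B' B2 (algebraMap B B' b) • (b2 • n) = _
      rw [algebraMap_smul]⟩
    refine H A2 B2 N2 ((f'.restrictScalars B).comp g) t' t P ⟨?_, ?_, hle, ?_, hP, hass, hcl⟩
    · haveI h1 : Algebra.IsPushout A A' B B' := hpo.symm
      haveI h2 : Algebra.IsPushout A' A2 B' B2 := hpo2.symm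
      have := (Algebra.IsPushout.comp_iff A A' B B' (T := A2) (T' := B2)).mpr h2
      exact this.symm
    · exact IsBaseChange.comp hg hbc2
    · haveI := hover
      exact Ideal.LiesOver.trans t p' p
  · intro H A' B' N' _ _ _ _ _ _ _ _ _ _ _ _ _ _ f t' t _ _ P _ himp
    obtain ⟨hpo, hbc, hle, hover, hP, hass, hcl⟩ := himp
    have hpure := H A' B' N' f hbc t hover
    refine hpure A' B' N' LinearMap.id t' t P ⟨inferInstance, ⟨⟨by simp [Ideal.under]⟩, ?_⟩⟩
      ⟨inferInstance, ?_, hle, ⟨by simp [Ideal.under]⟩, hP, hass, hcl⟩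
    · exact (RingHom.surjectiveOnStalks_of_surjective
        (f := (Algebra.ofId A' A').toRingHom) (fun x => ⟨x, rfl⟩)).residueFieldMap_bijective t t _
    · exact IsBaseChange.of_equiv (TensorProduct.lid B' N') (fun x => by simp)

end Groth.Agent.S9008
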