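import Groth.Statements.S9013
import Groth.Agent.S4849
import Groth.Agent.Lib.Helper25.LimPresGen
-- import your own Groth.Agent.* helpers here

set_option autoImplicit false
set_option linter.style.haveILetI false
set_option linter.unusedVariables false
universe u
open FlatMor

namespace Groth.Agent.S9013

section Helpers

open CategoryTheory CategoryTheory.Limits AlgebraicGeometry Opposite
  Groth.Agent.Lib.Helper7.FlatChart Groth.Agent.Lib.Helper17.FibreStalk
  Groth.Agent.Lib.Helper13.LimDescend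

variable {X S : Scheme.{u}} (f : X ⟶ S)

theorem XTmap_snd {T T' : Over S} (k : T' ⟶ T) :
    PicF.XTmap f k ≫ PicF.XTproj f T = PicF.XTproj f T' ≫ k.left := by
  simp only [PicF.XTmap, pullback.map, pullback.lift_snd]

/-- the flatness condition is stable under base change -/
theorem flat_stable (F : X.Modules) [F.IsQuasicoherent] ⦃T T₀ : Over S⦄ (k : T ⟶ T₀)
    (h : FlatMod.IsFlatOver (PicF.XTproj f T₀) (FGA.ET f F T₀)) :
    FlatMod.IsFlatOver (PicF.XTproj f T) (FGA.ET f F T) := by
  intro x
  exact Groth.Agent.S4849.backward f F (PicF.XTproj f T) T.hom (pullback.fst f T.hom)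
    (IsPullback.of_hasPullback f T.hom) x (PicF.XTproj f T₀) T₀.hom (pullback.fst f T₀.hom)
    k.left (PicF.XTmap f k) (IsPullback.of_hasPullback f T₀.hom) (Over.w k) (FGA.XTmap_fst f k)
    (XTmap_snd f k) (h _)

theorem isPullback_XTmap {T T' : Over S} (k : T' ⟶ T) :
    IsPullback (PicF.XTmap f k) (PicF.XTproj f T') (PicF.XTproj f T) k.left := by
  refine IsPullback.of_right ?_ (XTmap_snd f k) (IsPullback.of_hasPullback f T.hom)
  rw [FGA.XTmap_fst, Over.w k]
  exact IsPullback.of_hasPullback f T'.hom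

end Helpers

open CategoryTheory CategoryTheory.Limits AlgebraicGeometry Opposite in
/-- For f : X → S quasi-compact and locally of finite presentation and F a quasi-coherent O_X-module of
finite presentation, the functor F_flat on schemes over S (one point on T when F_T is flat over T,
empty otherwise; the subfunctor of the final functor generated by that condition) is limit
preserving: its value on a directed limit of affine schemes over S is the colimit of its values. -/
theorem result {X S : Scheme.{u}} (f : X ⟶ S) [QuasiCompact f] [LocallyOfFinitePresentation f]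
    (F : X.Modules) [Coh.IsQCoh F] (hF : CohB1.IsFP F) :
    AlgSp.IsLimitPreserving
      (FlatFun.genPSp S (fun T => FlatMod.IsFlatOver (PicF.XTproj f T) (FGA.ET f F T))) := by
  haveI : F.IsQuasicoherent := ‹Coh.IsQCoh F›
  haveI : SheafOfModules.IsFinitePresentation.{u} (R := X.ringCatSheaf) F := hF
  refine Groth.Agent.Lib.Helper25.LimPresGen.isLimitPreserving_genPSp _
    (fun T T₀ k h => flat_stable f F k h) ?_
  intro I _ _ D c hc hD hT hflat
  haveI : ∀ (i j : I) (φ : i ⟶ j), IsAffineHom ((D ⋙ Over.forget S).map φ) := fun i j φ => by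
    haveI : IsAffine ((D ⋙ Over.forget S).obj i) := hD i
    haveI : IsAffine ((D ⋙ Over.forget S).obj j) := hD j
    exact isAffineHom_of_isAffine _
  obtain ⟨i₀⟩ := IsCofiltered.nonempty (C := I)
  -- the data at the stage `i₀`
  haveI := hD i₀
  haveI : LocallyOfFinitePresentation (PicF.XTproj f (D.obj i₀)) :=
    MorphismProperty.pullback_snd _ _ inferInstance
  haveI : QuasiCompact (PicF.XTproj f (D.obj i₀)) :=
    MorphismProperty.pullback_snd _ _ inferInstance
  haveI : CompactSpace ↥(PicF.XT f (D.obj i₀)) :=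
    QuasiCompact.compactSpace_of_compactSpace (PicF.XTproj f (D.obj i₀))
  haveI : SheafOfModules.IsFinitePresentation.{u} (R := (PicF.XT f (D.obj i₀)).ringCatSheaf)
      (FGA.ET f F (D.obj i₀)) :=
    Groth.Agent.Lib.Helper25.FlatChartGen.isFinitePresentation_pullback _ F
  have hY : IsPullback (c.π.app i₀).left (𝟙 c.pt.left) (𝟙 (D.obj i₀).left)
      (((Over.forget S).mapCone c).π.app i₀) :=
    haveI : IsIso (𝟙 c.pt.left) := IsIso.id _
    haveI : IsIso (𝟙 (D.obj i₀).left) := IsIso.id _
    IsPullback.of_vert_isIso ⟨by simp⟩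
  have hX := isPullback_XTmap f (c.π.app i₀)
  have hfl : FlatMod.IsFlatOver (PicF.XTproj f c.pt)
      ((Scheme.Modules.pullback (PicF.XTmap f (c.π.app i₀))).obj (FGA.ET f F (D.obj i₀))) := by
    intro x
    exact Groth.Agent.Lib.Helper7.FlatChart.isFlatOverAt_of_iso _
      (FGA.ETiso f F (c.π.app i₀)).symm x (hflat x)
  obtain ⟨i, φ, Xi, Yi, fi, gi, pY, pX, h1, h2, hfli⟩ :=
    Groth.Agent.S4849.forward (D ⋙ Over.forget S) ((Over.forget S).mapCone c) hc i₀
      (PicF.XTproj f (D.obj i₀)) (𝟙 _) (FGA.ET f F (D.obj i₀)) (PicF.XTproj f c.pt) (𝟙 _)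
      (c.π.app i₀).left (PicF.XTmap f (c.π.app i₀)) hY hX hfl
  refine ⟨i, fun x => ?_⟩
  have hw : (D.map φ).left ≫ 𝟙 (D.obj i₀).left = 𝟙 (D.obj i).left ≫ (D ⋙ Over.forget S).map φ := by
    simp
  have e1 : h1.lift (D.map φ).left (𝟙 _) hw ≫ pY = (D.map φ).left := h1.lift_fst _ _ _
  have hw2 : PicF.XTmap f (D.map φ) ≫ PicF.XTproj f (D.obj i₀) =
      (PicF.XTproj f (D.obj i) ≫ h1.lift (D.map φ).left (𝟙 _) hw) ≫ pY := by
    rw [Category.assoc, e1, XTmap_snd]
  have key := Groth.Agent.S4849.backward (PicF.XTproj f (D.obj i₀)) (FGA.ET f F (D.obj i₀))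
    (PicF.XTproj f (D.obj i)) (D.map φ).left (PicF.XTmap f (D.map φ))
    (isPullback_XTmap f (D.map φ)) x fi pY pX (h1.lift (D.map φ).left (𝟙 _) hw)
    (h2.lift (PicF.XTmap f (D.map φ)) (PicF.XTproj f (D.obj i) ≫ h1.lift (D.map φ).left (𝟙 _) hw)
      hw2) h2 e1 (h2.lift_fst _ _ _) (h2.lift_snd _ _ _) (hfli _)
  exact Groth.Agent.Lib.Helper7.FlatChart.isFlatOverAt_of_iso _ (FGA.ETiso f F (D.map φ)) x key

end Groth.Agent.S9013
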