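import Groth.Statements.S9012
import Groth.Agent.S9013
import Groth.Agent.Lib.Helper7.FlatBCComp
import Groth.Agent.Lib.Helper25.FlatDescPt
import Groth.Agent.Lib.Helper25.FpqcGenPSp

set_option autoImplicit false
universe u
open FlatMor

namespace Groth.Agent.S9012

open CategoryTheory CategoryTheory.Limits AlgebraicGeometry Opposite in
/-- For f : X → S and a quasi-coherent O_X-module F, the functor F_flat on schemes over S (one point on
T when the base change F_T on X_T = X ×_S T is flat over T, empty otherwise; written as the
subfunctor of the final functor generated by that condition, which agrees with it because flatness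
is preserved by base change) satisfies the sheaf condition for the fpqc topology. -/
theorem result {X S : Scheme.{u}} (f : X ⟶ S) (F : X.Modules) [Coh.IsQCoh F] :
    Presheaf.IsSheaf (QuotSh.J Scheme.fpqcPrecoverage S)
      (FlatFun.genPSp S (fun T => FlatMod.IsFlatOver (PicF.XTproj f T) (FGA.ET f F T))) := by
  haveI : F.IsQuasicoherent := ‹Coh.IsQCoh F›
  refine Groth.Agent.Lib.Helper25.GenPSpSheaf.isSheaf_genPSp_fpqc _
    (fun T T₀ k h => Groth.Agent.S9013.flat_stable f F k h) ?_
  intro T ι Ti g hsurj hflat hP x
  obtain ⟨i, x', rfl⟩ := Groth.Agent.Lib.Helper25.FpqcGenPSp.surj_XTmap f Ti g hsurj x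
  haveI := hflat i
  refine Groth.Agent.Lib.Helper25.FlatDescPt.isFlatOverAt_of_baseChange (PicF.XTproj f T)
    (PicF.XTproj f (Ti i)) (PicF.XTmap f (g i)) (g i).left
    (Groth.Agent.Lib.Helper25.XTTower.isPullback_XTmap f (g i)) (FGA.ET f F T) x' ?_
  exact Groth.Agent.Lib.Helper7.FlatChart.isFlatOverAt_of_iso _ (FGA.ETiso f F (g i)).symm x' (hP i x')

end Groth.Agent.S9012
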