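import Groth.Statements.S9015
import Groth.Agent.Lib.Helper25.FpqcGenPSp
import Groth.Agent.Lib.Helper25.StalkDescent
import Groth.Agent.Lib.Helper25.ModMapLocal
-- import your own Groth.Agent.* helpers here

set_option autoImplicit false
set_option linter.style.haveILetI false
universe u
open FlatMor

namespace Groth.Agent.S9015

open CategoryTheory CategoryTheory.Limits AlgebraicGeometry Opposite in
/-- For f : X → S and a homomorphism u : F → G of quasi-coherent O_X-modules, the functor on schemes
over S with one point on T when the base change u_T on X_T = X ×_S T is surjective (an epimorphism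
in the abelian category of O-modules) and empty otherwise, written as the subfunctor of the final
functor generated by that condition, satisfies the sheaf condition for the fpqc topology. -/
theorem result {X S : Scheme.{u}} (f : X ⟶ S) {F G : X.Modules} [Coh.IsQCoh F] [Coh.IsQCoh G] (u : F ⟶ G) :
    Presheaf.IsSheaf (QuotSh.J Scheme.fpqcPrecoverage S)
      (FlatFun.genPSp S (fun T => Epi ((Scheme.Modules.pullback (pullback.fst f T.hom)).map u))) := by
  refine Groth.Agent.Lib.Helper25.FpqcGenPSp.isSheaf_fpqc_pullback_fst f
    (fun Y g => Epi ((Scheme.Modules.pullback g).map u)) ?_ ?_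
  · intro Y Y' h g hg
    exact Groth.Agent.Lib.Helper25.ModMapLocal.epi_map_of_comp h g (h ≫ g) rfl u hg
  · intro Y g ι Y' h hflat hsurj hQ
    haveI := hflat
    haveI : ∀ i, Epi ((Scheme.Modules.pullback (h i)).map ((Scheme.Modules.pullback g).map u)) :=
      fun i => (Groth.Agent.Lib.Helper25.ModMapLocal.epi_map_comp_iff (h i) g _ rfl u).1 (hQ i)
    exact (Groth.Agent.Lib.Helper25.StalkDescent.pullback_jointlyReflectEpimorphisms Y' h hsurj).epi
      ((Scheme.Modules.pullback g).map u)

end Groth.Agent.S9015
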