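import Groth.Statements.S9016
import Groth.Agent.Lib.Helper25.FpqcGenPSp
import Groth.Agent.Lib.Helper25.StalkDescent
import Groth.Agent.Lib.Helper25.ModMapLocal
-- import your own Groth.Agent.* helpers here

set_option autoImplicit false
set_option linter.style.haveILetI false
universe u
open FlatMor

namespace Groth.Agent.S9016

open CategoryTheory CategoryTheory.Limits AlgebraicGeometry Opposite in
/-- For f : X → S and a homomorphism u : F → G of quasi-coherent O_X-modules, the functor on schemes
over S with one point on T when the base change u_T on X_T = X ×_S T is zero and empty otherwise,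
written as the subfunctor of the final functor generated by that condition, satisfies the sheaf
condition for the fpqc topology. -/
theorem result {X S : Scheme.{u}} (f : X ⟶ S) {F G : X.Modules} [Coh.IsQCoh F] [Coh.IsQCoh G] (u : F ⟶ G) :
    Presheaf.IsSheaf (QuotSh.J Scheme.fpqcPrecoverage S)
      (FlatFun.genPSp S (fun T => ((Scheme.Modules.pullback (pullback.fst f T.hom)).map u) = 0)) := by
  have hz : ∀ {Y : Scheme.{u}} (g : Y ⟶ X), (Scheme.Modules.pullback g).map u = 0 ↔
      (Scheme.Modules.pullback g).map u = (Scheme.Modules.pullback g).map (0 : F ⟶ G) := by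
    intro Y g
    rw [Functor.map_zero]
  refine Groth.Agent.Lib.Helper25.FpqcGenPSp.isSheaf_fpqc_pullback_fst f
    (fun Y g => (Scheme.Modules.pullback g).map u = 0) ?_ ?_
  · intro Y Y' h g hg
    rw [hz] at hg ⊢
    exact Groth.Agent.Lib.Helper25.ModMapLocal.map_eq_of_comp h g (h ≫ g) rfl u 0 hg
  · intro Y g ι Y' h hflat hsurj hQ
    haveI := hflat
    rw [hz]
    refine (Groth.Agent.Lib.Helper25.StalkDescent.pullback_jointlyFaithful Y' h hsurj).map_injective
      (fun i => ?_)
    have := hQ i
    rw [hz] at this
    exact (Groth.Agent.Lib.Helper25.ModMapLocal.map_comp_eq_iff (h i) g _ rfl u 0).1 this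

end Groth.Agent.S9016
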