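import Groth.Statements.S9017
import Groth.Agent.Lib.Helper25.FpqcGenPSp
import Groth.Agent.Lib.Helper25.StalkDescent
import Groth.Agent.Lib.Helper25.ModMapLocal
-- import your own Groth.Agent.* helpers here

set_option autoImplicit false
set_option linter.style.haveILetI false
universe u
open FlatMor

namespace Groth.Agent.S9017

open CategoryTheory CategoryTheory.Limits AlgebraicGeometry Opposite in
/-- For f : X → S, a homomorphism u : F → G of quasi-coherent O_X-modules, a scheme T over S and an fpqc
covering family of S-morphisms T_i → T, the base change u_T on X_T = X ×_S T is injective (a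
monomorphism in the abelian category of O-modules) if and only if u_{T_i} is injective for every i.
(Injectivity of u_T is not preserved by arbitrary base change, so this variant is a sheaf condition
on coverings rather than a subfunctor of the final functor.) -/
theorem result {X S : Scheme.{u}} (f : X ⟶ S) {F G : X.Modules} [Coh.IsQCoh F] [Coh.IsQCoh G] (u : F ⟶ G)
    (T : Over S) {ι : Type u} (Ti : ι → Over S) (g : ∀ i, Ti i ⟶ T)
    (hcov : Presieve.ofArrows (fun i => (Ti i).left) (fun i => (g i).left) ∈ Scheme.fpqcPrecoverage T.left) :
    Mono ((Scheme.Modules.pullback (pullback.fst f T.hom)).map u) ↔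
      ∀ i, Mono ((Scheme.Modules.pullback (pullback.fst f (Ti i).hom)).map u) := by
  have hR2 := (Scheme.ofArrows_mem_precoverage_iff (P := @Flat)).1 hcov.2
  haveI : ∀ i, Flat (g i).left := hR2.2
  haveI : ∀ i, Flat (PicF.XTmap f (g i)) := fun i =>
    Groth.Agent.Lib.Helper25.FpqcGenPSp.flat_XTmap f (g i)
  have hsurj := Groth.Agent.Lib.Helper25.FpqcGenPSp.surj_XTmap f Ti g hR2.1
  have key : ∀ i, Mono ((Scheme.Modules.pullback (pullback.fst f (Ti i).hom)).map u) ↔
      Mono ((Scheme.Modules.pullback (PicF.XTmap f (g i))).map
        ((Scheme.Modules.pullback (pullback.fst f T.hom)).map u)) := fun i =>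
    Groth.Agent.Lib.Helper25.ModMapLocal.mono_map_comp_iff (PicF.XTmap f (g i))
      (pullback.fst f T.hom) (pullback.fst f (Ti i).hom) (FGA.XTmap_fst f (g i)) u
  constructor
  · intro hm i
    haveI := hm
    rw [key i]
    infer_instance
  · intro hm
    haveI : ∀ i, Mono ((Scheme.Modules.pullback (PicF.XTmap f (g i))).map
        ((Scheme.Modules.pullback (pullback.fst f T.hom)).map u)) := fun i => (key i).1 (hm i)
    exact (Groth.Agent.Lib.Helper25.StalkDescent.pullback_jointlyReflectMonomorphisms
      (fun i => PicF.XT f (Ti i)) (fun i => PicF.XTmap f (g i)) hsurj).mono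
      ((Scheme.Modules.pullback (pullback.fst f T.hom)).map u)

end Groth.Agent.S9017
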