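import Groth.Statements.S9019
import Groth.Agent.Lib.Helper25.LimModMap
import Groth.Agent.Lib.Helper25.XTTower
import Groth.Agent.Lib.Helper17.FinTypePushPull
import Groth.Agent.Lib.Helper25.FlatChartGen
-- import your own Groth.Agent.* helpers here

set_option autoImplicit false
set_option linter.style.haveILetI false
universe u
open FlatMor

namespace Groth.Agent.S9019

open CategoryTheory CategoryTheory.Limits AlgebraicGeometry Opposite in
/-- For f : X → S quasi-compact and a homomorphism u : F → G of quasi-coherent O_X-modules with F of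
finite type, the functor F_zero (one point on T when the base change u_T on X ×_S T is zero, empty
otherwise; the subfunctor of the final functor generated by that condition) is limit preserving. -/
theorem result {X S : Scheme.{u}} (f : X ⟶ S) [QuasiCompact f] {F G : X.Modules} [Coh.IsQCoh F] [Coh.IsQCoh G]
    (hF : CohB1.IsFT F) (u : F ⟶ G) :
    AlgSp.IsLimitPreserving (FlatFun.genPSp S (fun T => ((Scheme.Modules.pullback (pullback.fst f T.hom)).map u) = 0)) := by
  haveI : F.IsQuasicoherent := ‹Coh.IsQCoh F›
  haveI : G.IsQuasicoherent := ‹Coh.IsQCoh G›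
  haveI : SheafOfModules.IsFiniteType.{u} (R := X.ringCatSheaf) F := hF
  have hz : ∀ {Y : Scheme.{u}} (g : Y ⟶ X), (Scheme.Modules.pullback g).map u = 0 ↔
      (Scheme.Modules.pullback g).map u = (Scheme.Modules.pullback g).map (0 : F ⟶ G) := by
    intro Y g
    rw [Functor.map_zero]
  refine Groth.Agent.Lib.Helper25.XTTower.isLimitPreserving_pullback_fst f
    (fun Y g => (Scheme.Modules.pullback g).map u = 0) ?_ ?_
  · intro Y Y' h g hg
    rw [hz] at hg ⊢
    exact Groth.Agent.Lib.Helper25.ModMapLocal.map_eq_of_comp h g (h ≫ g) rfl u 0 hg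
  · intro J _ _ E e he hE j₀ hcpt g₀ h
    haveI := hE
    haveI := hcpt
    haveI := Groth.Agent.Lib.Helper17.FinTypePushPull.isFiniteType_pullback g₀ F
    rw [hz] at h
    have h1 := (Groth.Agent.Lib.Helper25.ModMapLocal.map_comp_eq_iff (e.π.app j₀) g₀ _ rfl u 0).1 h
    obtain ⟨j, φ, hj⟩ := (Groth.Agent.Lib.Helper25.LimModMap.pullback_map_eq_iff_eventually E he
      ((Scheme.Modules.pullback g₀).map u) ((Scheme.Modules.pullback g₀).map 0)).1 h1
    refine ⟨j, φ, ?_⟩
    rw [hz]
    exact (Groth.Agent.Lib.Helper25.ModMapLocal.map_comp_eq_iff (E.map φ) g₀ _ rfl u 0).2 hj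

end Groth.Agent.S9019
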