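import Groth.Statements.S9036
import Groth.Agent.S9035
import Groth.Agent.S6152
import Groth.Agent.Lib.Helper8.SheafModGroth
import Groth.Agent.Lib.Helper1.CoprodSections3

set_option autoImplicit false
universe u
open CategoryTheory CategoryTheory.Limits Opposite
open ModSite

namespace Groth.Agent.S9036

open Groth.Agent.Lib.Helper1

/-- Let (C, O) be a ringed site in which every object has a covering by quasi-compact objects (an object
U is called quasi-compact here when the sheaf h_U^# is a quasi-compact object of the topos, which is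
equivalent to the site-level definition). Then every compact object of D(O) is a retract in D(O) of
the image of a bounded complex whose terms are finite direct sums of modules of the form j_{U!} O_U
with U quasi-compact. The derived category of O-modules, direct sums in it and finite biproducts of
O-modules (automatic) are instance hypotheses. -/
theorem result
    {C : Type u} [SmallCategory C] {J : GrothendieckTopology C} (O : Sheaf J CommRingCat.{u})
    [HasFiniteBiproducts (ModSite.Mod O)]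
    [HasDerivedCategory.{u} (ModSite.Mod O)] [HasCoproducts.{u} (DerivedCategory (ModSite.Mod O))]
    (hC : ∀ V : C, ∃ R ∈ J V, ∀ ⦃W : C⦄ (g : W ⟶ V), R g →
      ∃ (U : C) (a : W ⟶ U) (b : U ⟶ V), CohCx.IsQcObject ((presheafToSheaf J (Type u)).obj (yoneda.obj U)) ∧ a ≫ b = g)
    (K : DerivedCategory (ModSite.Mod O)) (hK : CohDer.IsCompactObject K) :
    ∃ (L : CochainComplex (ModSite.Mod O) ℤ) (a b : ℤ),
      (∀ i : ℤ, i < a ∨ b < i → IsZero (L.X i)) ∧
      (∀ i : ℤ, ∃ (n : ℕ) (U : Fin n → C),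
        (∀ j, CohCx.IsQcObject ((presheafToSheaf J (Type u)).obj (yoneda.obj (U j)))) ∧
        Nonempty (L.X i ≅ ⨁ fun j => ModSite.freeOn O (U j))) ∧
      Nonempty (Retract K (DerivedCategory.Q.obj L)) := by
  haveI : IsGrothendieckAbelian.{u} (ModSite.Mod O) :=
    Groth.Agent.Lib.Helper8.SheafModGroth.main J (ModSite.ringSh O)
  let G : Set C := {U | CohCx.IsQcObject ((presheafToSheaf J (Type u)).obj (yoneda.obj U))}
  have hG : ∀ X : C, ∃ (ι : Type u) (Y : ι → C) (f : ∀ i, Y i ⟶ X),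
      Sieve.ofArrows Y f ∈ J X ∧ ∀ i, Y i ∈ G := by
    intro V
    obtain ⟨R, hR, hfac⟩ := hC V
    refine ⟨Σ U : G, (U.1 ⟶ V), fun p => p.1.1, fun p => p.2, ?_, fun p => p.1.2⟩
    refine J.superset_covering ?_ hR
    intro W g hg
    obtain ⟨U, a, b, hU, rfl⟩ := hfac g hg
    exact ⟨U, a, b, ⟨(⟨⟨U, hU⟩, b⟩ : Σ U : G, (U.1 ⟶ V))⟩, rfl⟩
  have hsep := (Groth.Agent.S6152.result O G hG).2
  let S : Set (ModSite.Mod O) := {M | ∃ U : C, U ∈ G ∧ M = ModSite.freeOn O U}
  have h1 : ∀ X : ModSite.Mod O, ∃ (ι : Type u) (E : ι → ModSite.Mod O) (π : ∐ E ⟶ X),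
      (∀ i, E i ∈ S) ∧ Epi π := by
    intro X
    refine ⟨Σ U : G, (ModSite.freeOn O U.1 ⟶ X), fun p => ModSite.freeOn O p.1.1,
      Sigma.desc (fun p => p.2), fun p => ⟨p.1.1, p.1.2, rfl⟩, ⟨fun {Z} u v huv => ?_⟩⟩
    refine hsep u v ?_
    intro F hF h
    obtain ⟨U⟩ := hF
    have := Sigma.ι (fun p : (Σ U : G, (ModSite.freeOn O U.1 ⟶ X)) => ModSite.freeOn O p.1.1)
      ⟨U, h⟩ ≫= huv
    simpa using this
  have h2 : ∀ E ∈ S, ∀ ι : Type u,
      PreservesColimitsOfShape (Discrete ι) (preadditiveCoyoneda.obj (op E)) := by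
    rintro E ⟨U, hU, rfl⟩ ι
    exact CoprodSections.preservesCoproducts_hom_freeOn O
      (CoprodSections.siteQc_of_isQcObject hU) ι
  obtain ⟨L, a, b, hz, hF, hr⟩ := Groth.Agent.S9035.result S h1 h2 K hK
  refine ⟨L, a, b, hz, fun i => ?_, hr⟩
  obtain ⟨n, E, hE, ⟨e⟩⟩ := hF i
  choose U hU hEU using hE
  obtain rfl : E = fun j => ModSite.freeOn O (U j) := funext hEU
  exact ⟨n, U, hU, ⟨e⟩⟩

end Groth.Agent.S9036
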