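import Groth.Statements.S9037
import Groth.Agent.Lib.Helper1.DCompactSingle
import Groth.Agent.Lib.Helper1.CoprodSections3
import Groth.Agent.Lib.Helper1.FreeOnMap
import Groth.Agent.Lib.Helper16.SMod1

set_option autoImplicit false
universe u
open CategoryTheory CategoryTheory.Limits Opposite
open ModSite

namespace Groth.Agent.S9037

open Groth.Agent.Lib.Helper1 Groth.Agent.Lib.Helper1.RestrExact

/-- sections over a weakly contractible object lift along epimorphisms of modules -/
lemma surjective_sections_of_epi
    {C : Type u} [SmallCategory C] {J : GrothendieckTopology C} (O : Sheaf J CommRingCat.{u})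
    (U : C) (hwc : CohSite.IsWeaklyContractible J U) {M N : ModSite.Mod O} (π : M ⟶ N) [Epi π] :
    Function.Surjective (π.val.app (op U)) := by
  haveI : Epi ((SheafOfModules.toSheaf.{u} (ModSite.ringSh O)).map π) := inferInstance
  have hls : Sheaf.IsLocallySurjective ((SheafOfModules.toSheaf.{u} (ModSite.ringSh O)).map π) :=
    (Sheaf.isLocallySurjective_iff_epi' _ _).2 inferInstance
  haveI : Sheaf.IsLocallySurjective ((sheafCompose J (forget AddCommGrpCat.{u})).map
      ((SheafOfModules.toSheaf.{u} (ModSite.ringSh O)).map π)) := inferInstance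
  have hepi : Epi ((sheafCompose J (forget AddCommGrpCat.{u})).map
      ((SheafOfModules.toSheaf.{u} (ModSite.ringSh O)).map π)) := inferInstance
  exact hwc _ _ _ hepi

/-- `freeOn O U` is projective for `U` weakly contractible -/
lemma projective_freeOn
    {C : Type u} [SmallCategory C] {J : GrothendieckTopology C} (O : Sheaf J CommRingCat.{u})
    (U : C) (hwc : CohSite.IsWeaklyContractible J U) : Projective (ModSite.freeOn O U) := by
  constructor
  intro E X f e he
  obtain ⟨t, ht⟩ := surjective_sections_of_epi O U hwc e (ModSiteFree.homEquiv O U X f)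
  refine ⟨(ModSiteFree.homEquiv O U E).symm t, ?_⟩
  apply (ModSiteFree.homEquiv O U X).injective
  rw [ModSiteFree.homEquiv_comp, Equiv.apply_symm_apply, ht]

/-- On a ringed site (C, O), if U is a quasi-compact object (h_U^# is a quasi-compact object of the
topos, which is equivalent to the site-level notion) which is weakly contractible, then j_{U!} O_U,
placed in degree zero, is a compact object of the derived category D(O). The derived category of
O-modules and direct sums in it are instance hypotheses. -/
theorem result
    {C : Type u} [SmallCategory C] {J : GrothendieckTopology C} (O : Sheaf J CommRingCat.{u})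
    [HasDerivedCategory.{u} (ModSite.Mod O)] [HasCoproducts.{u} (DerivedCategory (ModSite.Mod O))]
    (U : C) (hqc : CohCx.IsQcObject ((presheafToSheaf J (Type u)).obj (yoneda.obj U)))
    (hwc : CohSite.IsWeaklyContractible J U) :
    CohDer.IsCompactObject ((DerivedCategory.singleFunctor (ModSite.Mod O) 0).obj (ModSite.freeOn O U)) := by
  have := projective_freeOn O U hwc
  haveI : ∀ κ : Type u, HasExactColimitsOfShape (Discrete κ) (ModSite.Mod O) :=
    fun κ => Groth.Agent.Lib.Helper16.SMod.ab4 O κ
  have hW := CoprodSections.siteQc_of_isQcObject hqc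
  refine DCompactSingle.isCompactObject_of_projective (ModSite.freeOn O U) ?_
  intro κ Y c hc b
  obtain ⟨T, hT⟩ := CoprodSections.exists_finset_sum_proj O hc hW
    (ModSiteFree.homEquiv O U c.pt b)
  refine ⟨T, fun i => b ≫ CoprodSections.proj O hc i, ?_⟩
  have he : b ≫ (∑ i ∈ T, CoprodSections.proj O hc i ≫ c.inj i) = b := by
    apply (ModSiteFree.homEquiv O U c.pt).injective
    rw [ModSiteFree.homEquiv_comp, CoprodSections.sum_val_app_apply]
    exact hT.symm
  conv_lhs => rw [← he]
  rw [Preadditive.comp_sum]
  refine Finset.sum_congr rfl (fun i _ => ?_)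
  rw [Category.assoc]

end Groth.Agent.S9037
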