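import Groth.Statements.S9038
-- import your own Groth.Agent.* helpers here

set_option autoImplicit false
universe u
open Topology
open CohTop

namespace Groth.Agent.S9038

/-- In the category of Hausdorff locally quasi-compact spaces, call a family of continuous maps f_i :
X_i → X a qc covering when every point of X has a neighbourhood of the form ⋃_{i ∈ t} f_i(E_i) with
t a finite set of indices and E_i ⊆ X_i quasi-compact. If (f_i : X_i → X) is a qc covering and for
each i the family (g_{ij} : X_{ij} → X_i)_j is a qc covering, then the family of composites X_{ij} →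
X, indexed by the pairs (i, j), is a qc covering. -/
theorem result
    {B : Type u} [TopologicalSpace B] [T2Space B] [LocallyCompactSpace B]
    {ι : Type u} {X : ι → Type u} [∀ i, TopologicalSpace (X i)] [∀ i, T2Space (X i)]
    [∀ i, LocallyCompactSpace (X i)]
    (f : ∀ i, X i → B) (hf : ∀ i, Continuous (f i))
    (hcov : ∀ x : B, ∃ (t : Finset ι) (E : ∀ i, Set (X i)),
      (∀ i ∈ t, IsCompact (E i)) ∧ (⋃ i ∈ t, f i '' E i) ∈ 𝓝 x)
    {κ : ι → Type u} {Y : ∀ i, κ i → Type u} [∀ i j, TopologicalSpace (Y i j)] [∀ i j, T2Space (Y i j)]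
    [∀ i j, LocallyCompactSpace (Y i j)]
    (g : ∀ i j, Y i j → X i) (hg : ∀ i j, Continuous (g i j))
    (hcov' : ∀ (i : ι) (x : X i), ∃ (t : Finset (κ i)) (E : ∀ j, Set (Y i j)),
      (∀ j ∈ t, IsCompact (E j)) ∧ (⋃ j ∈ t, g i j '' E j) ∈ 𝓝 x) :
    ∀ x : B, ∃ (t : Finset (Σ i, κ i)) (E : ∀ p : (Σ i, κ i), Set (Y p.1 p.2)),
      (∀ p ∈ t, IsCompact (E p)) ∧ (⋃ p ∈ t, f p.1 '' (g p.1 p.2 '' E p)) ∈ 𝓝 x := by
  classical
  intro x
  obtain ⟨t₀, E₀, hE₀, hnhds⟩ := hcov x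
  have stepA : ∀ i, ∃ (ti : Finset (κ i)) (Ei : ∀ j, Set (Y i j)),
      (∀ j ∈ ti, IsCompact (Ei j)) ∧ (i ∈ t₀ → E₀ i ⊆ ⋃ j ∈ ti, g i j '' Ei j) := by
    intro i
    by_cases hi : i ∈ t₀
    · choose tz Ez hEz hnz using hcov' i
      obtain ⟨T, hTK, hKT⟩ := (hE₀ i hi).elim_nhds_subcover
        (fun z => ⋃ j ∈ tz z, g i j '' Ez z j) (fun z _ => hnz z)
      refine ⟨T.biUnion tz, fun j => ⋃ z ∈ T.filter (fun z => j ∈ tz z), Ez z j, ?_, ?_⟩
      · intro j _
        apply Finset.isCompact_biUnion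
        intro z hz
        exact hEz z j (Finset.mem_filter.1 hz).2
      · intro _ y hy
        have := hKT hy
        simp only [Set.mem_iUnion, Set.mem_image] at this
        obtain ⟨z, hzT, j, hj, w, hw, rfl⟩ := this
        simp only [Set.mem_iUnion, Set.mem_image, Finset.mem_biUnion, Finset.mem_filter]
        exact ⟨j, ⟨z, hzT, hj⟩, w, ⟨z, ⟨hzT, hj⟩, hw⟩, rfl⟩
    · exact ⟨∅, fun _ => ∅, by simp, fun h => absurd h hi⟩
  choose T' E' hE' hsub using stepA
  refine ⟨t₀.sigma T', fun p => E' p.1 p.2, ?_, ?_⟩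
  · intro p hp
    exact hE' p.1 p.2 (Finset.mem_sigma.1 hp).2
  · refine Filter.mem_of_superset hnhds ?_
    intro b hb
    simp only [Set.mem_iUnion, Set.mem_image] at hb
    obtain ⟨i, hi, y, hy, rfl⟩ := hb
    have := hsub i hi hy
    simp only [Set.mem_iUnion, Set.mem_image] at this
    obtain ⟨j, hj, w, hw, rfl⟩ := this
    simp only [Set.mem_iUnion, Set.mem_image]
    exact ⟨⟨i, j⟩, Finset.mem_sigma.2 ⟨hi, hj⟩, g i j w, ⟨w, hw, rfl⟩, rfl⟩

end Groth.Agent.S9038
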