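import Groth.Statements.S9057
import Groth.Agent.Lib.Helper16.BiCx3
import Groth.Agent.Lib.Helper1.FlatSES

set_option autoImplicit false
universe u
open CategoryTheory CategoryTheory.Limits Opposite
attribute [local instance] HasDerivedCategory.standard
open ModSite

namespace Groth.Agent.S9057

open Groth.Agent.Lib.Helper16.BiCx Groth.Agent.Lib.Helper1.ModFlat Groth.Agent.Lib.Helper1.FlatSES

/-- tensoring (on the left) a short exact sequence with flat cokernel stays short exact -/
theorem shortExact_map_tensL {C : Type u} [SmallCategory C] {J : GrothendieckTopology C}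
    (O : Sheaf J CommRingCat.{u}) (S : ShortComplex (ModSite.Mod O)) (hS : S.ShortExact)
    (hF : ModSite.IsFlat S.X₃) (G : ModSite.Mod O) : (S.map (tensL O G)).ShortExact :=
  ShortComplex.shortExact_of_iso (S.mapNatIso (tensLIso O G)).symm (shortExact_map_tens O S hS hF G)

theorem shortExact_funR_of_flat {C : Type u} [SmallCategory C] {J : GrothendieckTopology C}
    (O : Sheaf J CommRingCat.{u})
    (S : ShortComplex (CochainComplex (ModSite.Mod O) ℤ)) (hS : S.ShortExact)
    (h3 : ∀ n : ℤ, ModSite.IsFlat (S.X₃.X n)) (L : CochainComplex (ModSite.Mod O) ℤ) :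
    (S.map (funR (ModSite.tensorBi O) L)).ShortExact := by
  apply shortExact_funR
  intro p q
  exact shortExact_map_tensL O (S.map (HomologicalComplex.eval _ _ q))
    (hS.map_of_exact (HomologicalComplex.eval _ _ q)) (h3 q) (L.X p)

/-- On a ringed site (C, O), let 0 → K₁ → K₂ → K₃ → 0 be a short exact sequence of complexes of
O-modules whose third complex K₃ has flat terms. If two of K₁, K₂, K₃ are K-flat then so is the
third. -/
theorem result
    {C : Type u} [SmallCategory C] {J : GrothendieckTopology C} (O : Sheaf J CommRingCat.{u})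
    (S : ShortComplex (CochainComplex (ModSite.Mod O) ℤ)) (hS : S.ShortExact)
    (h3 : ∀ n : ℤ, ModSite.IsFlat (S.X₃.X n)) :
    (ModSite.IsKFlat S.X₁ → ModSite.IsKFlat S.X₂ → ModSite.IsKFlat S.X₃) ∧
    (ModSite.IsKFlat S.X₁ → ModSite.IsKFlat S.X₃ → ModSite.IsKFlat S.X₂) ∧
    (ModSite.IsKFlat S.X₂ → ModSite.IsKFlat S.X₃ → ModSite.IsKFlat S.X₁) := by
  have key := fun L => shortExact_funR_of_flat O S hS h3 L
  refine ⟨fun h1 h2 L hL => ?_, fun h1 h3' L hL => ?_, fun h2 h3' L hL => ?_⟩
  · exact acyc_X₃ (key L) (h1 L hL) (h2 L hL)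
  · exact acyc_X₂ (key L) (h1 L hL) (h3' L hL)
  · exact acyc_X₁ (key L) (h2 L hL) (h3' L hL)

end Groth.Agent.S9057
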