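import Groth.Statements.S9061
import Groth.Agent.Lib.Helper1.KFlatSite2
import Groth.Agent.Lib.Helper1.ConeFactor

set_option autoImplicit false
universe u
open CategoryTheory CategoryTheory.Limits Opposite
attribute [local instance] HasDerivedCategory.standard
open ModSite

namespace Groth.Agent.S9061

open Groth.Agent.Lib.Helper16.BiCx Groth.Agent.Lib.Helper1.KFlatSite CochainComplex

/-- On a ringed site (C, O), let a : K → L be a map of complexes of O-modules with K K-flat. Then there
exist a K-flat complex N and maps b : K → N, c : N → L such that c is a quasi-isomorphism and a is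
homotopic to c ∘ b. If the terms of K are flat, then N may moreover be chosen with flat terms. -/
theorem result
    {C : Type u} [SmallCategory C] {J : GrothendieckTopology C} (O : Sheaf J CommRingCat.{u})
    {K L : CochainComplex (ModSite.Mod O) ℤ} (a : K ⟶ L) (hK : ModSite.IsKFlat K) :
    ∃ (N : CochainComplex (ModSite.Mod O) ℤ) (b : K ⟶ N) (c : N ⟶ L), ModSite.IsKFlat N ∧ QuasiIso c ∧
      Nonempty (Homotopy a (b ≫ c)) ∧
      ((∀ n : ℤ, ModSite.IsFlat (K.X n)) → ∀ n : ℤ, ModSite.IsFlat (N.X n)) := by
  obtain ⟨M, r, hM, hMfl, hr, -⟩ := exists_kflat_resolution O (mappingCocone a)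
  haveI := hr
  obtain ⟨c, hc, hh⟩ := Groth.Agent.Lib.Helper1.ConeFactor.exists_factor a r
  exact ⟨mappingCone (r ≫ mappingCocone.fst a), mappingCone.inr _, c,
    (isKFlat_mappingCone_two_out_of_three O _).1 hM hK, hc, hh,
    fun hKfl => isFlat_mappingCone_X O _ hMfl hKfl⟩

end Groth.Agent.S9061
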