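import Groth.Statements.S9078
import Groth.Agent.Lib.Helper1.RelCellSys
import Groth.Agent.Lib.Helper1.EnoughFlat
import Groth.Agent.Lib.Helper16.SMod1

set_option autoImplicit false
universe u
open CategoryTheory CategoryTheory.Limits Opposite
attribute [local instance] HasDerivedCategory.standard
open ModSite

namespace Groth.Agent.S9078

open Groth.Agent.Lib.Helper1 Groth.Agent.Lib.Helper1.EnoughFlat Groth.Agent.Lib.Helper1.CellRes

section

variable {C : Type u} [SmallCategory C] {J : GrothendieckTopology C} (O : Sheaf J CommRingCat.{u})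

/-- a direct sum of modules `j_! O_U` -/
def IsFreeSum (M : ModSite.Mod O) : Prop :=
  ∃ (ι : Type u) (U : ι → C), Nonempty (M ≅ ∐ fun j => ModSite.freeOn O (U j))

lemma isFreeSum_of_iso {M N : ModSite.Mod O} (e : M ≅ N) (h : IsFreeSum O M) : IsFreeSum O N := by
  obtain ⟨ι, U, ⟨e'⟩⟩ := h
  exact ⟨ι, U, ⟨e.symm ≪≫ e'⟩⟩

lemma isFreeSum_of_isZero (M : ModSite.Mod O) (h : IsZero M) : IsFreeSum O M :=
  ⟨PEmpty, PEmpty.elim, ⟨h.iso (SplitSeq.isZero_sigma _ (fun i => i.elim))⟩⟩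

lemma isFreeSum_biprod {M N : ModSite.Mod O} (hM : IsFreeSum O M) (hN : IsFreeSum O N) :
    IsFreeSum O (M ⊞ N) := by
  obtain ⟨ι₁, U₁, ⟨e₁⟩⟩ := hM
  obtain ⟨ι₂, U₂, ⟨e₂⟩⟩ := hN
  refine ⟨ι₁ ⊕ ι₂, Sum.elim U₁ U₂, ⟨?_⟩⟩
  let c : Cofan (fun j : ι₁ ⊕ ι₂ => ModSite.freeOn O (Sum.elim U₁ U₂ j)) :=
    Cofan.mk (M ⊞ N) (fun j => match j with
      | Sum.inl i => Sigma.ι (fun j => ModSite.freeOn O (U₁ j)) i ≫ e₁.inv ≫ biprod.inl
      | Sum.inr i => Sigma.ι (fun j => ModSite.freeOn O (U₂ j)) i ≫ e₂.inv ≫ biprod.inr)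
  have hc : IsColimit c := Cofan.IsColimit.mk c
    (fun s => biprod.desc (e₁.hom ≫ Sigma.desc (fun i => s.inj (Sum.inl i)))
      (e₂.hom ≫ Sigma.desc (fun i => s.inj (Sum.inr i))))
    (fun s j => by
      rcases j with i | i
      · change (Sigma.ι _ i ≫ e₁.inv ≫ biprod.inl) ≫ _ = _
        simp
      · change (Sigma.ι _ i ≫ e₂.inv ≫ biprod.inr) ≫ _ = _
        simp)
    (fun s m hm => by
      apply biprod.hom_ext'
      · rw [biprod.inl_desc, ← cancel_epi e₁.inv, Iso.inv_hom_id_assoc]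
        apply Sigma.hom_ext
        intro i
        rw [Sigma.ι_desc, ← hm (Sum.inl i)]
        change _ = (Sigma.ι _ i ≫ e₁.inv ≫ biprod.inl) ≫ m
        simp
      · rw [biprod.inr_desc, ← cancel_epi e₂.inv, Iso.inv_hom_id_assoc]
        apply Sigma.hom_ext
        intro i
        rw [Sigma.ι_desc, ← hm (Sum.inr i)]
        change _ = (Sigma.ι _ i ≫ e₂.inv ≫ biprod.inr) ≫ m
        simp)
  exact hc.coconePointUniqueUpToIso (coproductIsCoproduct _)

lemma isFreeSum_sigma (X : ℕ → ModSite.Mod O) (h : ∀ k, IsFreeSum O (X k)) : IsFreeSum O (∐ X) := by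
  choose ι U e using h
  refine ⟨Σ k : ℕ, ι k, fun p => U p.1 p.2, ⟨?_⟩⟩
  exact Sigma.mapIso (fun k => (e k).some) ≪≫
    sigmaSigmaIso ι (fun k j => ModSite.freeOn O (U k j))

/-- index type for the cover vanishing on zero objects -/
abbrev CoverIdx0 (F : ModSite.Mod O) : Type u := { _i : CoverIdx O F // ¬ IsZero F }

/-- the cover vanishing on zero objects -/
noncomputable abbrev cover0 (F : ModSite.Mod O) : ModSite.Mod O :=
  ∐ (fun i : CoverIdx0 O F => ModSite.freeOn O i.1.1)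

noncomputable abbrev cover0π (F : ModSite.Mod O) : cover0 O F ⟶ F :=
  Sigma.desc (fun i : CoverIdx0 O F => i.1.2)

lemma epi_cover0π (F : ModSite.Mod O) : Epi (cover0π O F) := by
  by_cases hz : IsZero F
  · exact ⟨fun u v _ => hz.eq_of_src u v⟩
  · constructor
    intro Z u v huv
    refine TensorAdj.isSeparating_freeOn O u v ?_
    intro G hG h
    obtain ⟨X⟩ := hG
    have := Sigma.ι (fun i : CoverIdx0 O F => ModSite.freeOn O i.1.1) ⟨⟨X.1, h⟩, hz⟩ ≫= huv
    simpa using this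

/-- the covers vanishing on zero objects -/
noncomputable def cv0 : Cov (ModSite.Mod O) where
  obj := cover0 O
  π := cover0π O
  epi := epi_cover0π O

lemma isZero_cv0 (X : ModSite.Mod O) (h : IsZero X) : IsZero ((cv0 O).obj X) :=
  SplitSeq.isZero_sigma _ (fun i => (i.2 h).elim)

lemma isFreeSum_cv0 (X : ModSite.Mod O) : IsFreeSum O ((cv0 O).obj X) :=
  ⟨CoverIdx0 O X, fun i => i.1.1, ⟨Iso.refl _⟩⟩

end

/-- Let (C, O) be a ringed site and G a complex of O-modules. There is a commutative diagram of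
complexes K_1 → K_2 → … over τ_{≤1}G → τ_{≤2}G → … such that (1) the vertical maps K_n → τ_{≤n}G are
termwise surjective quasi-isomorphisms, (2) every K_n is bounded above with terms direct sums of
modules of the form j_{U!}O_U, (3) each K_n → K_{n+1} is split injective in every degree, with
cokernel in each degree a direct sum of modules j_{U!}O_U; moreover colim K_n → G is a
quasi-isomorphism. Here the system is indexed by n ≥ 0 with K_n mapping to τ_{≤ n+1}G, commutativity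
of the diagram is expressed after composing with the inclusions τ_{≤ m}G → G, 'direct sum of modules
j_{U!}O_U' means isomorphic to a coproduct of such modules, and the map colim K_n → G is the one
induced by the K_n → τ_{≤ n+1}G → G. -/
theorem result
    {C : Type u} [SmallCategory C] {J : GrothendieckTopology C} (O : Sheaf J CommRingCat.{u})
    (G : CochainComplex (ModSite.Mod O) ℤ) :
    ∃ (Kc : ℕ ⥤ CochainComplex (ModSite.Mod O) ℤ) (π : ∀ n : ℕ, Kc.obj n ⟶ G.truncLE ((n : ℤ) + 1)),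
      (∀ n : ℕ, Kc.map (homOfLE (Nat.le_succ n)) ≫ π (n + 1) ≫ G.ιTruncLE (((n + 1 : ℕ) : ℤ) + 1) =
        π n ≫ G.ιTruncLE ((n : ℤ) + 1)) ∧
      (∀ n : ℕ, QuasiIso (π n) ∧ ∀ i : ℤ, Epi ((π n).f i)) ∧
      (∀ n : ℕ, ∃ b : ℤ, (Kc.obj n).IsStrictlyLE b) ∧
      (∀ (n : ℕ) (i : ℤ), ∃ (ι : Type u) (U : ι → C),
        Nonempty ((Kc.obj n).X i ≅ ∐ fun j => ModSite.freeOn O (U j))) ∧
      (∀ (n : ℕ) (i : ℤ), ∃ r : (Kc.obj (n + 1)).X i ⟶ (Kc.obj n).X i,
        (Kc.map (homOfLE (Nat.le_succ n))).f i ≫ r = 𝟙 _ ∧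
        ∃ (ι : Type u) (U : ι → C),
          Nonempty (cokernel ((Kc.map (homOfLE (Nat.le_succ n))).f i) ≅ ∐ fun j => ModSite.freeOn O (U j))) ∧
      ∃ c : colimit Kc ⟶ G, (∀ n : ℕ, colimit.ι Kc n ≫ c = π n ≫ G.ιTruncLE ((n : ℤ) + 1)) ∧ QuasiIso c := by
  haveI : HasExactColimitsOfShape ℕ (ModSite.Mod O) := Groth.Agent.Lib.Helper16.SMod.ab5Nat O
  exact RelCellSys.exists_system (cv0 O) G (isZero_cv0 O) (IsFreeSum O)
    (fun e h => isFreeSum_of_iso O e h) (isFreeSum_cv0 O) (fun h₁ h₂ => isFreeSum_biprod O h₁ h₂)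
    (isFreeSum_sigma O) (isFreeSum_of_isZero O)

end Groth.Agent.S9078
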