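import Groth.Statements.S9089
-- import your own Groth.Agent.* helpers here

set_option autoImplicit false
universe u
open CategoryTheory Opposite
open ModSite

namespace Groth.Agent.S9089

variable {C : Type u} [SmallCategory C] {J : GrothendieckTopology C} (O : Sheaf J CommRingCat.{u})

/-- restriction map -/
noncomputable abbrev res {U V : C} (g : V ⟶ U) : O.obj.obj (op U) →+* O.obj.obj (op V) :=
  (O.obj.map g.op).hom

theorem res_comp {U V W : C} (g : V ⟶ U) (h : W ⟶ V) (x : O.obj.obj (op U)) :
    res O (h ≫ g) x = res O h (res O g x) := by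
  simp [res]

/-- The sieve of arrows on which some `f i` becomes a unit. -/
def unitSieve {U : C} {n : ℕ} (f : Fin n → O.obj.obj (op U)) : Sieve U where
  arrows V g := ∃ i, IsUnit (res O g (f i))
  downward_closed := by
    rintro V W g ⟨i, hi⟩ h
    refine ⟨i, ?_⟩
    rw [res_comp]
    exact hi.map _

theorem unitSieve_mem (h1 : ∀ (U : C) (f : O.obj.obj (op U)), ∃ S ∈ J U, ∀ ⦃V : C⦄ (g : V ⟶ U), S g →
        IsUnit ((O.obj.map g.op).hom f) ∨ IsUnit ((O.obj.map g.op).hom (1 - f)))
    (n : ℕ) (hn : 1 ≤ n) : ∀ (U : C) (f : Fin n → O.obj.obj (op U)),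
      Ideal.span (Set.range f) = ⊤ → unitSieve O f ∈ J U := by
  induction n, hn using Nat.le_induction with
  | base =>
    intro U f hf
    have hu : IsUnit (f 0) := by
      have : Set.range f = {f 0} := by
        ext x
        constructor
        · rintro ⟨i, rfl⟩
          rw [Subsingleton.elim i 0]; rfl
        · rintro rfl
          exact ⟨0, rfl⟩
      rw [this, Ideal.span_singleton_eq_top] at hf
      exact hf
    have : unitSieve O f = ⊤ := by
      ext V g
      simp only [Sieve.top_apply, iff_true]
      exact ⟨0, hu.map _⟩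
    rw [this]
    exact J.top_mem U
  | succ n hn ih =>
    intro U f hf
    have h1' : (1 : O.obj.obj (op U)) ∈ Ideal.span (Set.range f) := by rw [hf]; trivial
    obtain ⟨a, ha⟩ := (Ideal.mem_span_range_iff_exists_fun).mp h1'
    rw [Fin.sum_univ_castSucc] at ha
    set gg : O.obj.obj (op U) := a (Fin.last n) * f (Fin.last n) with hgg
    have hsum : 1 - gg = ∑ i : Fin n, a i.castSucc * f i.castSucc := by
      rw [← ha]; ring
    obtain ⟨S, hS, hSg⟩ := h1 U gg
    refine J.transitive hS _ ?_
    intro V h hh
    rcases hSg h hh with hu | hu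
    · have : unitSieve O f h := by
        refine ⟨Fin.last n, ?_⟩
        have : IsUnit (res O h (a (Fin.last n)) * res O h (f (Fin.last n))) := by
          rw [← map_mul]; exact hu
        exact isUnit_of_mul_isUnit_right this
      rw [Sieve.pullback_eq_top_of_mem _ this]
      exact J.top_mem V
    · set f' : Fin n → O.obj.obj (op V) := fun i => res O h (f i.castSucc) with hf'
      have hspan : Ideal.span (Set.range f') = ⊤ := by
        apply Ideal.eq_top_of_isUnit_mem _ _ hu
        change res O h (1 - gg) ∈ _
        rw [hsum, map_sum]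
        refine Submodule.sum_mem _ fun i _ => ?_
        rw [map_mul]
        exact Ideal.mul_mem_left _ _ (Ideal.subset_span ⟨i, rfl⟩)
      have := ih V f' hspan
      refine J.superset_covering ?_ this
      rintro W k ⟨i, hi⟩
      refine ⟨i.castSucc, ?_⟩
      rw [res_comp]
      exact hi


/-- Part (1): ⇔ (2), for a ringed site (C, O) with C small and O a sheaf of commutative rings: the
following are equivalent. (1) For every object U and every section f of O over U there is a covering
sieve on U on each of whose arrows either f or 1 - f restricts to a unit. (2) For every object U,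
every n ≥ 1 and all sections f₁, …, fₙ of O over U generating the unit ideal of O(U), there is a
covering sieve on U on each of whose arrows some fᵢ restricts to a unit. -/
theorem result {C : Type u} [SmallCategory C] (J : GrothendieckTopology C)
    (O : Sheaf J CommRingCat.{u}) :
    (∀ (U : C) (f : O.obj.obj (op U)), ∃ S ∈ J U, ∀ ⦃V : C⦄ (g : V ⟶ U), S g →
        IsUnit ((O.obj.map g.op).hom f) ∨ IsUnit ((O.obj.map g.op).hom (1 - f))) ↔
    (∀ (U : C) (n : ℕ) (f : Fin n → O.obj.obj (op U)), 1 ≤ n → Ideal.span (Set.range f) = ⊤ →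
        ∃ S ∈ J U, ∀ ⦃V : C⦄ (g : V ⟶ U), S g → ∃ i, IsUnit ((O.obj.map g.op).hom (f i))) := by
  constructor
  · intro h1 U n f hn hf
    exact ⟨unitSieve O f, unitSieve_mem O h1 n hn U f hf, fun V g hg => hg⟩
  · intro h2 U f
    obtain ⟨S, hS, h⟩ := h2 U 2 ![f, 1 - f] (by norm_num) (by
      rw [Ideal.eq_top_iff_one]
      have e : (1 : O.obj.obj (op U)) = f + (1 - f) := by ring
      have m0 : f ∈ Ideal.span (Set.range ![f, 1 - f]) := Ideal.subset_span ⟨0, rfl⟩
      have m1 : 1 - f ∈ Ideal.span (Set.range ![f, 1 - f]) := Ideal.subset_span ⟨1, rfl⟩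
      have := Ideal.add_mem _ m0 m1
      rwa [← e] at this)
    refine ⟨S, hS, fun V g hg => ?_⟩
    obtain ⟨i, hi⟩ := h g hg
    fin_cases i
    · left; exact hi
    · right; exact hi

end Groth.Agent.S9089
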