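import Groth.Statements.S9091
import Mathlib.Tactic
import Mathlib.CategoryTheory.Sites.Point.Conservative
-- import your own Groth.Agent.* helpers here

set_option autoImplicit false
universe u
open CategoryTheory Opposite
open ModSite

namespace Groth.Agent.S9091

open CategoryTheory CategoryTheory.Limits Opposite

theorem exists_isUnit_of_isUnit_germ {C : Type u} [SmallCategory C] {J : GrothendieckTopology C}
    (O : Sheaf J CommRingCat.{u}) (Φ : GrothendieckTopology.Point.{u} J) (X : C) (x : Φ.fiber.obj X)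
    (z : O.obj.obj (op X)) (hz : IsUnit ((Φ.toPresheafFiber X x O.obj).hom z)) :
    ∃ (Y : C) (g : Y ⟶ X) (y : Φ.fiber.obj Y), Φ.fiber.map g y = x ∧ IsUnit ((O.obj.map g.op).hom z) := by
  obtain ⟨b, hb⟩ := hz.exists_right_inv
  obtain ⟨W, w, b', rfl⟩ := Φ.toPresheafFiber_jointly_surjective (P := O.obj) b
  let V := IsCofiltered.min (Functor.elementsMk Φ.fiber X x) (Functor.elementsMk Φ.fiber W w)
  let gX := IsCofiltered.minToLeft (Functor.elementsMk Φ.fiber X x) (Functor.elementsMk Φ.fiber W w)
  let gW := IsCofiltered.minToRight (Functor.elementsMk Φ.fiber X x) (Functor.elementsMk Φ.fiber W w)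
  have hX : (Φ.toPresheafFiber X x O.obj).hom z =
      (Φ.toPresheafFiber V.1 V.2 O.obj).hom ((O.obj.map gX.1.op).hom z) :=
    ((congrArg (fun t => (Φ.toPresheafFiber X t O.obj).hom z) gX.2).symm).trans
      (Φ.toPresheafFiber_w_apply gX.1 V.2 O.obj z).symm
  have hW : (Φ.toPresheafFiber W w O.obj).hom b' =
      (Φ.toPresheafFiber V.1 V.2 O.obj).hom ((O.obj.map gW.1.op).hom b') :=
    ((congrArg (fun t => (Φ.toPresheafFiber W t O.obj).hom b') gW.2).symm).trans
      (Φ.toPresheafFiber_w_apply gW.1 V.2 O.obj b').symm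
  change (Φ.toPresheafFiber X x O.obj).hom z * (Φ.toPresheafFiber W w O.obj).hom b' = 1 at hb
  rw [hX, hW, ← map_mul] at hb
  have h1 : (Φ.toPresheafFiber V.1 V.2 O.obj).hom (1 : O.obj.obj (op V.1)) = 1 := map_one _
  rw [← h1] at hb
  obtain ⟨Y, g', y, hy, hg'⟩ := (Φ.toPresheafFiber_eq_iff' (P := O.obj) V.1 V.2 _ _).mp hb
  refine ⟨Y, g' ≫ gX.1, y, ?_, ?_⟩
  · rw [Functor.map_comp_apply, hy]
    exact gX.2
  · have h2 : (O.obj.map (g' ≫ gX.1).op).hom z = (O.obj.map g'.op).hom ((O.obj.map gX.1.op).hom z) := by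
      rw [op_comp, Functor.map_comp]
      rfl
    rw [h2]
    have h3 : (O.obj.map g'.op).hom ((O.obj.map gX.1.op).hom z) *
        (O.obj.map g'.op).hom ((O.obj.map gW.1.op).hom b') = 1 := by
      rw [← map_mul]
      have := hg'
      change (O.obj.map g'.op).hom _ = (O.obj.map g'.op).hom 1 at this
      rw [this, map_one]
    exact IsUnit.of_mul_eq_one _ h3



/-- Part (2): ⇒ (1) when the site has enough points, for a ringed site (C, O) with C small and O a sheaf
of commutative rings: if at every point p of the site the stalk O_p is the zero ring or is local,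
then for every object U and every section f of O over U there is a covering sieve on U on each of
whose arrows either f or 1 - f restricts to a unit. -/
theorem result {C : Type u} [SmallCategory C] {J : GrothendieckTopology C}
    (O : Sheaf J CommRingCat.{u}) [GrothendieckTopology.HasEnoughPoints.{u} J]
    (h : ∀ p : GrothendieckTopology.Point.{u} J, Subsingleton (ModSite.stalkRing p O) ∨ IsLocalRing (ModSite.stalkRing p O))
    (U : C) (f : O.obj.obj (op U)) :
    ∃ S ∈ J U, ∀ ⦃V : C⦄ (g : V ⟶ U), S g →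
        IsUnit ((O.obj.map g.op).hom f) ∨ IsUnit ((O.obj.map g.op).hom (1 - f)) := by
  obtain ⟨P, hPsmall, hP⟩ := GrothendieckTopology.HasEnoughPoints.exists_objectProperty J
  let ι : Type u := {a : Σ V : C, (V ⟶ U) //
    IsUnit ((O.obj.map a.2.op).hom f) ∨ IsUnit ((O.obj.map a.2.op).hom (1 - f))}
  let fam : ∀ i : ι, i.1.1 ⟶ U := fun i => i.1.2
  refine ⟨Sieve.ofArrows _ fam, ?_, ?_⟩
  · rw [hP.jointly_reflect_ofArrows_mem_of_small]
    intro Φ x
    have key : IsUnit ((Φ.obj.toPresheafFiber U x O.obj).hom f) ∨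
        IsUnit ((Φ.obj.toPresheafFiber U x O.obj).hom (1 - f)) := by
      rcases h Φ.obj with hs | hl
      · left
        haveI : Subsingleton ↑(Φ.obj.presheafFiber.obj O.obj) := hs
        exact isUnit_of_subsingleton _
      · rw [map_sub, map_one]
        haveI : IsLocalRing ↑(Φ.obj.presheafFiber.obj O.obj) := hl
        exact IsLocalRing.isUnit_or_isUnit_one_sub_self _
    rcases key with hu | hu
    · obtain ⟨Y, g, y, hy, hg⟩ := exists_isUnit_of_isUnit_germ O Φ.obj U x f hu
      exact ⟨⟨⟨Y, g⟩, Or.inl hg⟩, y, hy⟩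
    · obtain ⟨Y, g, y, hy, hg⟩ := exists_isUnit_of_isUnit_germ O Φ.obj U x (1 - f) hu
      exact ⟨⟨⟨Y, g⟩, Or.inr hg⟩, y, hy⟩
  · intro V g hg
    obtain ⟨W, k, _, ⟨i⟩, rfl⟩ := hg
    have hcomp : ∀ r : O.obj.obj (op U), (O.obj.map (k ≫ fam i).op).hom r
        = (O.obj.map k.op).hom ((O.obj.map (fam i).op).hom r) := by
      intro r
      rw [op_comp, Functor.map_comp]
      rfl
    rcases i.2 with hu | hu
    · left
      rw [hcomp]
      exact hu.map _
    · right
      rw [hcomp]
      exact hu.map _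

end Groth.Agent.S9091
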