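import Groth.Statements.S9109
import Mathlib.Algebra.Category.Grp.AB
import Mathlib.Algebra.Homology.ShortComplex.ExactFunctor

set_option autoImplicit false
universe u
open CategoryTheory CategoryTheory.Limits
open CohSite

namespace Groth.Agent.S9109

/-- the power functor `A ↦ A^S` on abelian groups is right exact -/
lemma preservesFiniteColimits_pi (S : Type u)
    (hfl : PreservesFiniteLimits
      ((piFunctor.{u} (C := AddCommGrpCat.{u})).flip.obj (Opposite.op S))) :
    PreservesFiniteColimits ((piFunctor.{u} (C := AddCommGrpCat.{u})).flip.obj (Opposite.op S)) := by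
  let F := (piFunctor.{u} (C := AddCommGrpCat.{u})).flip.obj (Opposite.op S)
  have hfl' : PreservesFiniteLimits F := hfl
  have : F.Additive := Functor.additive_of_preserves_binary_products _
  refine ((Functor.preservesFiniteColimits_tfae F).out 0 3).1 ?_
  intro T hT
  have hle : ∀ (S : ShortComplex AddCommGrpCat.{u}), S.ShortExact →
      (S.map F).Exact ∧ Mono (F.map S.f) :=
    ((Functor.preservesFiniteLimits_tfae F).out 3 0).1 hfl'
  refine ⟨(hle T hT).1, ?_⟩
  have : Epi T.g := hT.epi_g
  have h0 : ∀ X : Discrete S, Epi ((Discrete.natTrans (fun (_ : Discrete S) => T.g) :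
      Discrete.functor (fun _ : S => T.X₂) ⟶ Discrete.functor (fun _ : S => T.X₃)).app X) :=
    fun X => (inferInstance : Epi T.g)
  have h1 : Epi (Discrete.natTrans (fun (_ : Discrete S) => T.g) :
      Discrete.functor (fun _ : S => T.X₂) ⟶ Discrete.functor (fun _ : S => T.X₃)) := by
    apply NatTrans.epi_of_epi_app
  have h2 : Epi ((lim : (Discrete S ⥤ AddCommGrpCat.{u}) ⥤ AddCommGrpCat.{u}).map
      (Discrete.natTrans (fun (_ : Discrete S) => T.g) :
      Discrete.functor (fun _ : S => T.X₂) ⟶ Discrete.functor (fun _ : S => T.X₃))) :=
    inferInstance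
  exact h2


/-- Part (1): on a small site (C, J) with a point p: the skyscraper functor p_* from abelian groups to
abelian sheaves on C (right adjoint to the stalk functor at p; its value on A is the sheaf U ↦ ∏_{x
∈ p⁻¹U} A) is exact. As a right adjoint it preserves limits; the statement here is that it also
preserves finite colimits. -/
theorem result {C : Type u} [SmallCategory C] {J : GrothendieckTopology C}
    (p : GrothendieckTopology.Point.{u} J) :
    PreservesFiniteColimits (p.skyscraperSheafFunctor (A := AddCommGrpCat.{u})) := by
  have h1 : PreservesFiniteColimits (p.skyscraperPresheafFunctor (A := AddCommGrpCat.{u})) := by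
    constructor
    intro K _ _
    apply preservesColimitsOfShape_of_evaluation
    intro X
    have hr : (p.skyscraperPresheafFunctor (A := AddCommGrpCat.{u})).IsRightAdjoint :=
      p.skyscraperPresheafAdjunction.isRightAdjoint
    have hfl : PreservesFiniteLimits (p.skyscraperPresheafFunctor (A := AddCommGrpCat.{u}) ⋙
        (evaluation Cᵒᵖ AddCommGrpCat.{u}).obj X) := inferInstance
    have := preservesFiniteColimits_pi (p.fiber.obj X.unop) hfl
    exact (inferInstance : PreservesColimitsOfShape K
      ((piFunctor.{u} (C := AddCommGrpCat.{u})).flip.obj (Opposite.op (p.fiber.obj X.unop))))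
  have h2 : PreservesFiniteColimits
      (p.skyscraperSheafFunctor (A := AddCommGrpCat.{u}) ⋙ sheafToPresheaf J _) := h1
  constructor
  intro K _ _
  exact preservesColimitsOfShape_of_reflects_of_preserves _ (sheafToPresheaf J AddCommGrpCat.{u})

end Groth.Agent.S9109
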