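import Groth.Statements.S9110
import Mathlib.RingTheory.Flat.CategoryTheory

set_option autoImplicit false
universe u
open CategoryTheory CategoryTheory.Limits
open ModSite

namespace Groth.Agent.S9110

/-- Let C be a small category, O a presheaf of commutative rings on C and F a presheaf of O-modules such
that each F(U) is a flat O(U)-module. Then F is flat as a presheaf of modules, i.e. the functor G ↦
G ⊗_{p,O} F given by the sectionwise tensor product of presheaves of modules is exact (preserves
finite limits and finite colimits). -/
theorem result {C : Type u} [SmallCategory C] (O : Cᵒᵖ ⥤ CommRingCat.{u})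
    (F : PresheafOfModules.{u} (O ⋙ forget₂ CommRingCat.{u} RingCat.{u}))
    (hF : ∀ X : Cᵒᵖ, Module.Flat (O.obj X) (F.obj X)) :
    PreservesFiniteLimits (MonoidalCategory.tensorRight F) ∧ PreservesFiniteColimits (MonoidalCategory.tensorRight F) := by
  constructor
  · refine ⟨fun K _ _ => ⟨fun {D} => ⟨fun {c} hc => ⟨?_⟩⟩⟩⟩
    apply PresheafOfModules.evaluationJointlyReflectsLimits
    intro X
    haveI : CategoryTheory.Limits.PreservesFiniteLimits
        (MonoidalCategory.tensorRight (C := ModuleCat (O.obj X)) (F.obj X)) :=
      (Module.Flat.iff_preservesFiniteLimits_tensorRight (R := O.obj X) (M := F.obj X)).1 (hF X)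
    exact CategoryTheory.Limits.isLimitOfPreserves
      (MonoidalCategory.tensorRight (show ModuleCat (O.obj X) from F.obj X))
      (CategoryTheory.Limits.isLimitOfPreserves (PresheafOfModules.evaluation _ X) hc)
  · haveI : CategoryTheory.Limits.PreservesColimitsOfSize.{0, 0} (MonoidalCategory.tensorRight F) :=
      CategoryTheory.Limits.preservesColimitsOfSize_shrink.{0, u, 0, u} _
    exact CategoryTheory.Limits.PreservesColimitsOfSize.preservesFiniteColimits _

end Groth.Agent.S9110
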