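import Groth.Statements.S9111
import Groth.Agent.Lib.Helper1.PshTensorChase2

set_option autoImplicit false
universe u
open CategoryTheory CategoryTheory.Limits
open ModSite

namespace Groth.Agent.S9111

/-- Let C be a small category and O a presheaf of commutative rings on C. If 0 → F'' → F' → F → 0 is a
short exact sequence of presheaves of O-modules whose right-hand term F is flat (the sectionwise
tensor product functor - ⊗_{p,O} F is exact), then for every presheaf of O-modules G the tensored
sequence 0 → F'' ⊗_{p,O} G → F' ⊗_{p,O} G → F ⊗_{p,O} G → 0 is short exact. The instance binder (the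
functor - ⊗_{p,O} G preserves zero morphisms) always holds and is only needed to form the complex. -/
theorem result {C : Type u} [SmallCategory C] (O : Cᵒᵖ ⥤ CommRingCat.{u})
    (S : ShortComplex (PresheafOfModules.{u} (O ⋙ forget₂ CommRingCat.{u} RingCat.{u}))) (hS : S.ShortExact)
    (hF : PreservesFiniteLimits (MonoidalCategory.tensorRight S.X₃) ∧ PreservesFiniteColimits (MonoidalCategory.tensorRight S.X₃))
    (G : PresheafOfModules.{u} (O ⋙ forget₂ CommRingCat.{u} RingCat.{u})) [(MonoidalCategory.tensorRight G).PreservesZeroMorphisms] :
    (S.map (MonoidalCategory.tensorRight G)).ShortExact := by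
  haveI := hS.mono_f
  haveI := hS.epi_g
  haveI : PreservesColimitsOfSize.{0, 0} (MonoidalCategory.tensorRight G) :=
    preservesColimitsOfSize_shrink.{0, u, 0, u} _
  haveI : PreservesFiniteColimits (MonoidalCategory.tensorRight G) :=
    PreservesColimitsOfSize.preservesFiniteColimits _
  haveI : Mono (S.map (MonoidalCategory.tensorRight G)).f :=
    Groth.Agent.Lib.Helper1.PshTensorChase.mono_whiskerRight O S hS hF.1 G
  haveI : Epi (S.map (MonoidalCategory.tensorRight G)).g :=
    inferInstanceAs (Epi ((MonoidalCategory.tensorRight G).map S.g))
  exact ShortComplex.ShortExact.mk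
    (hS.exact.map_of_epi_of_preservesCokernel _ inferInstance inferInstance)

end Groth.Agent.S9111
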