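import Groth.Statements.S9112
import Groth.Agent.Lib.Helper1.RestrExact

set_option autoImplicit false
universe u
open CategoryTheory
open ModSite

namespace Groth.Agent.S9112

/-- Part (1): on a small ringed site (C, O) with O commutative, for a point p of the site: the stalk
functor F ↦ F_p from O-modules to O_p-modules is exact. Stated on a short exact sequence 0 → F₁ → F₂
→ F₃ → 0 of O-modules: the induced O_p-linear map F₁,p → F₂,p is injective, F₂,p → F₃,p is
surjective, and the range of the first is the kernel of the second. -/
theorem result {C : Type u} [SmallCategory C] {J : GrothendieckTopology C}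
    (O : Sheaf J CommRingCat.{u}) (S : ShortComplex (ModSite.Mod O)) (hS : S.ShortExact)
    (p : GrothendieckTopology.Point.{u} J) :
    Function.Injective (ModSite.stalkMap p S.f).hom ∧ Function.Surjective (ModSite.stalkMap p S.g).hom ∧
      LinearMap.range (ModSite.stalkMap p S.f).hom = LinearMap.ker (ModSite.stalkMap p S.g).hom := by
  haveI : CategoryTheory.Limits.PreservesColimitsOfSize.{u, u}
      (SheafOfModules.toSheaf.{u} (ModSite.ringSh O)) :=
    ⟨fun {K} _ => Groth.Agent.Lib.Helper1.RestrExact.toSheaf_preservesColimitsOfShape _ K⟩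
  haveI : CategoryTheory.Limits.PreservesColimitsOfSize.{0, 0}
      (SheafOfModules.toSheaf.{u} (ModSite.ringSh O)) :=
    CategoryTheory.Limits.preservesColimitsOfSize_shrink.{0, u, 0, u} _
  haveI : CategoryTheory.Limits.PreservesFiniteColimits
      (SheafOfModules.toSheaf.{u} (ModSite.ringSh O)) :=
    CategoryTheory.Limits.PreservesColimitsOfSize.preservesFiniteColimits _
  have h1 : (S.map (SheafOfModules.toSheaf.{u} (ModSite.ringSh O))).ShortExact :=
    hS.map_of_exact _
  have h2 : ((S.map (SheafOfModules.toSheaf.{u} (ModSite.ringSh O))).map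
      (p.sheafFiber (A := AddCommGrpCat.{u}))).ShortExact := h1.map_of_exact _
  have hinj := (AddCommGrpCat.mono_iff_injective _).1 h2.mono_f
  have hsurj := (AddCommGrpCat.epi_iff_surjective _).1 h2.epi_g
  have hex := (ShortComplex.ab_exact_iff_function_exact _).1 h2.exact
  refine ⟨hinj, hsurj, ?_⟩
  ext x
  exact (hex x).symm

end Groth.Agent.S9112
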