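import Groth.Statements.S9121
import Mathlib.Algebra.Homology.ShortComplex.ExactFunctor
import Mathlib.CategoryTheory.Sites.EpiMono
import Mathlib.CategoryTheory.Sites.Pullback

set_option autoImplicit false
universe u
open CategoryTheory CategoryTheory.Limits
open CohSite

namespace Groth.Agent.S9121

/-- Part (1): for the morphism of topoi f : Sh(C) → Sh(D) attached to a continuous functor u : D ⥤ C
between small sites whose induced pullback of sheaves of sets is exact (f_* is restriction along u):
if f_* transforms epimorphisms of sheaves of sets into epimorphisms, then f_* on abelian sheaves is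
exact; being a right adjoint it preserves finite limits, and the statement is that it also preserves
finite colimits. -/
theorem result {C D : Type u} [SmallCategory C] [SmallCategory D]
    (J : GrothendieckTopology C) (K : GrothendieckTopology D) (u : D ⥤ C) [u.IsContinuous K J]
    [PreservesFiniteLimits (u.sheafPullback (Type u) K J)]
    [(u.sheafPushforwardContinuous (Type u) K J).PreservesEpimorphisms] :
    PreservesFiniteColimits (u.sheafPushforwardContinuous AddCommGrpCat.{u} K J) := by
  have hepi : ∀ {F G : Sheaf J AddCommGrpCat.{u}} (φ : F ⟶ G), Epi φ →
      Epi ((u.sheafPushforwardContinuous AddCommGrpCat.{u} K J).map φ) := by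
    intro F G φ hφ
    have h1 : Sheaf.IsLocallySurjective φ := (Sheaf.isLocallySurjective_iff_epi' (φ := φ)).2 hφ
    have h2 : Epi ((sheafCompose J (forget AddCommGrpCat.{u})).map φ) := inferInstance
    have h3 : Epi ((u.sheafPushforwardContinuous (Type u) K J).map
        ((sheafCompose J (forget AddCommGrpCat.{u})).map φ)) := inferInstance
    have h4 : Epi ((sheafCompose K (forget AddCommGrpCat.{u})).map
        ((u.sheafPushforwardContinuous AddCommGrpCat.{u} K J).map φ)) := h3
    exact (sheafCompose K (forget AddCommGrpCat.{u})).epi_of_epi_map h4
  haveI : (u.sheafPushforwardContinuous AddCommGrpCat.{u} K J).Additive :=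
    inferInstanceAs (CohSite.push J K u).Additive
  haveI : PreservesFiniteLimits (u.sheafPushforwardContinuous AddCommGrpCat.{u} K J) := by
    have := (u.sheafAdjunctionContinuous AddCommGrpCat.{u} K J).rightAdjoint_preservesLimits
    exact PreservesLimits.preservesFiniteLimits _
  rw [Functor.preservesFiniteColimits_iff_forall_exact_map_and_epi]
  intro S hS
  have h := (Functor.preservesFiniteLimits_iff_forall_exact_map_and_mono
    (u.sheafPushforwardContinuous AddCommGrpCat.{u} K J)).1 inferInstance S hS
  exact ⟨h.1, hepi S.g hS.epi_g⟩

end Groth.Agent.S9121
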