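import Groth.Statements.S9127
import Groth.Agent.Lib.Helper24.Catenary
import Mathlib.RingTheory.Ideal.MinimalPrime.Basic
-- import your own Groth.Agent.* helpers here

set_option autoImplicit false
universe u
open CAlg

namespace Groth.Agent.S9127

/-- A Noetherian ring is catenary if and only if its quotient by every minimal prime is catenary. -/
theorem result (R : Type u) [CommRing R] [IsNoetherianRing R] :
    CAlg.IsCatenary R ↔ ∀ p ∈ minimalPrimes R, CAlg.IsCatenary (R ⧸ p) := by
  constructor
  · intro hR p _
    exact Groth.Agent.Lib.Helper24.CatOrd.of_orderEmbedding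
      (Groth.Agent.Lib.Helper24.quotOrderEmbedding p)
      (Groth.Agent.Lib.Helper24.ordConnected_range_quotOrderEmbedding p) hR
  · intro h
    apply Groth.Agent.Lib.Helper24.CatOrd.of_cover
    intro p q hpq
    haveI := p.2
    obtain ⟨p₀, hp₀, hp₀p⟩ := Ideal.exists_minimalPrimes_le (I := ⊥) (J := p.asIdeal) bot_le
    refine ⟨PrimeSpectrum (R ⧸ p₀), inferInstance,
      Groth.Agent.Lib.Helper24.quotOrderEmbedding p₀,
      Groth.Agent.Lib.Helper24.ordConnected_range_quotOrderEmbedding p₀, h p₀ hp₀, ?_, ?_⟩
    · rw [Groth.Agent.Lib.Helper24.range_quotOrderEmbedding, PrimeSpectrum.mem_zeroLocus]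
      exact hp₀p
    · rw [Groth.Agent.Lib.Helper24.range_quotOrderEmbedding, PrimeSpectrum.mem_zeroLocus]
      exact hp₀p.trans hpq


end Groth.Agent.S9127
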