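import Groth.Statements.S9128
import Mathlib
import Groth.Agent.Lib.Helper21.CatKit

set_option autoImplicit false
universe u
open CAlg

namespace Groth.Agent.S9128

open Order Groth.Agent.Lib.Helper21.CatKit

theorem coheight_head_eq {α : Type u} [PartialOrder α]
    (hcov : ∀ p q : α, p ⋖ q → coheight p = coheight q + 1) (s : LTSeries α)
    (hs : ∀ i : Fin s.length, s (Fin.castSucc i) ⋖ s (Fin.succ i)) :
    ∀ i : Fin (s.length + 1), coheight (s 0) = coheight (s i) + (i : ℕ) := by
  intro i
  induction i using Fin.induction with
  | zero => simp
  | succ i ih =>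
    rw [ih, hcov _ _ (hs i)]
    simp only [Fin.val_succ, Fin.val_castSucc, Nat.cast_add, Nat.cast_one]
    rw [add_assoc, add_comm 1]


/-- A Noetherian local ring A is catenary if and only if the assignment sending a prime p to the Krull
dimension of A/p is a dimension function on Spec A, i.e. it decreases strictly along strict
inclusions of primes and drops by exactly one along inclusions with no prime strictly in between. -/
theorem result (A : Type u) [CommRing A] [IsNoetherianRing A]
    [IsLocalRing A] :
    CAlg.IsCatenary A ↔
      ∀ p q : PrimeSpectrum A, p < q →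
        ringKrullDim (A ⧸ q.asIdeal) < ringKrullDim (A ⧸ p.asIdeal) ∧
          (p ⋖ q → ringKrullDim (A ⧸ p.asIdeal) = ringKrullDim (A ⧸ q.asIdeal) + 1) := by
  constructor
  · intro hc p q hpq
    refine ⟨?_, fun hcov => ringKrullDim_quotient_of_covBy hc hcov⟩
    rw [ringKrullDim_quotient_eq_coheight, ringKrullDim_quotient_eq_coheight]
    have := coheight_strictAnti hpq (coheight_lt_top q)
    exact_mod_cast this
  · intro h
    have hcov : ∀ p q : PrimeSpectrum A, p ⋖ q → coheight p = coheight q + 1 := by
      intro p q hpq
      have := (h p q hpq.lt).2 hpq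
      rw [ringKrullDim_quotient_eq_coheight, ringKrullDim_quotient_eq_coheight] at this
      exact_mod_cast this
    refine ⟨fun p q _ => ?_, fun s t hh hl hs ht => ?_⟩
    · obtain ⟨n, hn⟩ := ENat.ne_top_iff_exists.1 (coheight_lt_top p).ne
      refine ⟨n, fun s hsp _ => ?_⟩
      have := length_le_coheight_head (p := s)
      rw [hsp, ← hn] at this
      exact_mod_cast this
    · have e1 := coheight_head_eq hcov s hs (Fin.last _)
      have e2 := coheight_head_eq hcov t ht (Fin.last _)
      have hh' : s 0 = t 0 := hh
      have hl' : s (Fin.last _) = t (Fin.last _) := hl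
      rw [hh', e2, hl'] at e1
      obtain ⟨n, hn⟩ := ENat.ne_top_iff_exists.1 (coheight_lt_top (t (Fin.last _))).ne
      rw [← hn] at e1
      simp only [Fin.val_last] at e1
      have : n + t.length = n + s.length := by exact_mod_cast e1
      omega

end Groth.Agent.S9128
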