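import Groth.Statements.S9129
import Mathlib
import Groth.Agent.Lib.Helper21.FlatLocal5

set_option autoImplicit false
universe u
open CAlg

namespace Groth.Agent.S9129

open Groth.Agent.Lib.Helper21 TensorProduct IsLocalRing


/-- Suppose R → S is a flat local homomorphism between Noetherian local rings, with R Cohen–Macaulay.
Assume either that S is finite over R or that the Krull dimension of S is at most that of R. Then
the two rings have equal dimension and S is itself Cohen–Macaulay. -/
theorem result (R S : Type u) [CommRing R] [CommRing S]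
    [LocCoh.IsCohenMacaulayLocalRing R] [IsNoetherianRing S] [IsLocalRing S] [Algebra R S]
    [IsLocalHom (algebraMap R S)] [Module.Flat R S]
    (h : Module.Finite R S ∨ ringKrullDim S ≤ ringKrullDim R) :
    LocCoh.IsCohenMacaulayLocalRing S ∧ ringKrullDim R = ringKrullDim S := by
  have hCM : Module.supportDim R R = ((LocCoh.depth R R : ℕ∞) : WithBot ℕ∞) :=
    LocCoh.IsCohenMacaulayLocalRing.supportDim_eq_depth
  let e : S ⊗[R] R ≃ₗ[S] S := TensorProduct.AlgebraTensorModule.rid R S S
  haveI : Nontrivial (FlatLocal.fibre R S S) := FlatLocal.nontrivial_fibre (R := R) (S := S) S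
  obtain ⟨r, hr⟩ := DepthKit.exists_nat_supportDim (A := R) (M := R)
  obtain ⟨r', hr'⟩ := DepthKit.exists_nat_depth (A := R) (M := R)
  obtain ⟨s, hs⟩ := DepthKit.exists_nat_supportDim (A := S) (M := FlatLocal.fibre R S S)
  obtain ⟨s', hs'⟩ := DepthKit.exists_nat_depth (A := S) (M := FlatLocal.fibre R S S)
  have hrr' : r = r' := by
    rw [hr, hr'] at hCM
    have : ((r : ℕ∞) : WithBot ℕ∞) = ((r' : ℕ∞) : WithBot ℕ∞) := hCM
    exact_mod_cast this
  have h2 : s' ≤ s := by
    have := DepthKit.depth_le_supportDim (A := S) (M := FlatLocal.fibre R S S)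
    rw [hs, hs'] at this
    exact_mod_cast this
  have hdim : Module.supportDim S S = ((r + s : ℕ) : WithBot ℕ∞) := by
    rw [← Module.supportDim_eq_of_equiv e, FlatLocal.supportDim_tensor S R, hr, hs]
    push_cast
    rfl
  have hdep : LocCoh.depth S S = ((r' + s' : ℕ) : ℕ∞) := by
    rw [← DepthKit.depth_congr e, FlatLocal.depth_tensor S R, hr', hs']
    push_cast
    rfl
  have hs0 : s = 0 := by
    rcases h with hfin | hle
    · haveI := hfin
      have hsub : Subsingleton (Module.support S (FlatLocal.fibre R S S)) := by
        have hall : ∀ P ∈ Module.support S (FlatLocal.fibre R S S), P = closedPoint S := by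
          intro P hP
          rw [Module.support_quotient] at hP
          have h1 := hP.2
          rw [PrimeSpectrum.mem_zeroLocus, SetLike.coe_subset_coe, Ideal.map_le_iff_le_comap] at h1
          haveI : (P.asIdeal.comap (algebraMap R S)).IsPrime := Ideal.comap_isPrime _ _
          have h3 : P.asIdeal.comap (algebraMap R S) = maximalIdeal R :=
            ((maximalIdeal.isMaximal R).eq_of_le (Ideal.IsPrime.ne_top inferInstance) h1).symm
          have h4 : P.asIdeal.IsMaximal :=
            Ideal.isMaximal_of_isIntegral_of_isMaximal_comap (R := R) P.asIdeal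
              (by rw [h3]; exact maximalIdeal.isMaximal R)
          exact PrimeSpectrum.ext (IsLocalRing.eq_maximalIdeal h4)
        constructor
        rintro ⟨a, ha⟩ ⟨b, hb⟩
        rw [Subtype.mk.injEq, hall a ha, hall b hb]
      have h5 : Module.supportDim S (FlatLocal.fibre R S S) ≤ 0 :=
        Order.krullDim_nonpos_of_subsingleton
      rw [hs] at h5
      have : (s : WithBot ℕ∞) ≤ ((0 : ℕ) : WithBot ℕ∞) := h5
      have h6 : s ≤ 0 := by exact_mod_cast this
      omega
    · rw [← Module.supportDim_self_eq_ringKrullDim, ← Module.supportDim_self_eq_ringKrullDim,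
        hdim, hr] at hle
      have h6 : r + s ≤ r := by exact_mod_cast hle
      omega
  subst hs0
  have hs'0 : s' = 0 := by omega
  subst hs'0
  refine ⟨⟨?_⟩, ?_⟩
  · rw [hdim, hdep, hrr']
    rfl
  · rw [← Module.supportDim_self_eq_ringKrullDim, ← Module.supportDim_self_eq_ringKrullDim,
      hdim, hr]
    rfl

end Groth.Agent.S9129
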