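import Groth.Statements.S9131
import Mathlib
import Groth.Agent.Lib.Helper2.NilpFree2
import Groth.Agent.Lib.Helper23.NilProj

set_option autoImplicit false
universe u
open CAlg

namespace Groth.Agent.S9131

section A1
variable {R : Type u} [CommRing R] (J : Ideal R)
  {K P M : Type u} [AddCommGroup K] [Module R K] [AddCommGroup P] [Module R P]
  [AddCommGroup M] [Module R M] (f : K →ₗ[R] P) (g : P →ₗ[R] M)

theorem mem_smul_top_of_flat (hf : Function.Injective f) (hg : Function.Surjective g)
    (hfg : Function.Exact f g) [Module.Flat R M] (x : K)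
    (hx : f x ∈ (J • ⊤ : Submodule R P)) : x ∈ (J • ⊤ : Submodule R K) := by
  classical
  have hx' : f x ∈ J • Submodule.span R (Set.range (id : P → P)) := by
    rw [Set.range_id, Submodule.span_univ]; exact hx
  obtain ⟨a, ha, hsum⟩ := (Submodule.mem_ideal_smul_span_iff_exists_sum J (id : P → P) (f x)).mp hx'
  let s := a.support
  have hsum' : ∑ i : s, a i.1 • (i.1 : P) = f x := by
    rw [← hsum]
    exact Finset.sum_coe_sort a.support (fun i => a i • i)
  have hM : ∑ i : s, a i.1 • g (i.1 : P) = 0 := by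
    have := congrArg g hsum'
    rw [map_sum] at this
    simp only [map_smul] at this
    rw [this, hfg.apply_apply_eq_zero]
  obtain ⟨κ, A, y, hxy, hA⟩ := Module.Flat.isTrivialRelation_of_sum_smul_eq_zero hM
  have hxy' : ∀ i : s, g (i.1 : P) = ∑ j, A i j • y j := hxy
  have hA' : ∀ j, ∑ i : s, a i.1 * A i j = 0 := hA
  choose q hq using fun j => hg (y j)
  have hk : ∀ i : s, ∃ k : K, f k = (i.1 : P) - ∑ j, A i j • q j := by
    intro i
    refine (hfg _).mp ?_
    rw [map_sub, map_sum, hxy' i]
    simp only [map_smul, hq, sub_self]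
  choose k hk using hk
  have hfx : f x = f (∑ i : s, a i.1 • k i) := by
    rw [map_sum]
    simp only [map_smul, hk]
    rw [← hsum']
    simp only [smul_sub, Finset.sum_sub_distrib]
    have : ∑ i : s, a i.1 • ∑ j, A i j • q j = 0 := by
      simp only [Finset.smul_sum, smul_smul]
      rw [Finset.sum_comm]
      refine Finset.sum_eq_zero fun j _ => ?_
      rw [← Finset.sum_smul, hA' j, zero_smul]
    rw [this, sub_zero]
  rw [hf hfx]
  exact Submodule.sum_mem _ fun i _ => Submodule.smul_mem_smul (ha i.1) trivial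

end A1

section Compl
variable {R : Type u} [CommRing R] (I : Ideal R)
  {N L : Type u} [AddCommGroup N] [Module R N] [AddCommGroup L] [Module R L]

theorem exists_of_forall_mem_range (f : N →ₗ[R] L)
    (hinj : ∀ n, Function.Injective (f.reduceModIdeal (I ^ n)))
    (y : AdicCompletion I L) (hy : ∀ n, ∃ z, f.reduceModIdeal (I ^ n) z = y.val n) :
    ∃ x, AdicCompletion.map I f x = y := by
  choose z hz using hy
  refine ⟨⟨z, ?_⟩, ?_⟩
  · intro m n hmn
    apply hinj m
    have h1 := LinearMap.congr_fun (AdicCompletion.transitionMap_comp_reduceModIdeal I f hmn) (z n)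
    simp only [LinearMap.coe_comp, Function.comp_apply] at h1
    have h2 : (f.reduceModIdeal (I ^ m)) (AdicCompletion.transitionMap I N hmn (z n)) =
        AdicCompletion.transitionMap I L hmn (f.reduceModIdeal (I ^ n) (z n)) := h1.symm
    rw [h2, hz n, hz m]
    exact y.2 hmn
  · apply AdicCompletion.ext
    intro n
    exact hz n

theorem map_injective_of_forall (f : N →ₗ[R] L)
    (hinj : ∀ n, Function.Injective (f.reduceModIdeal (I ^ n))) :
    Function.Injective (AdicCompletion.map I f) := by
  rw [injective_iff_map_eq_zero]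
  intro x hx
  apply AdicCompletion.ext
  intro n
  apply hinj n
  have := congrArg (fun y => y.val n) hx
  simp only [AdicCompletion.map_val_apply, AdicCompletion.val_zero_apply] at this
  rw [this]
  exact (map_zero _).symm

theorem reduceModIdeal_injective_iff (J : Ideal R) (f : N →ₗ[R] L) :
    Function.Injective (f.reduceModIdeal J) ↔
      ∀ x, f x ∈ (J • ⊤ : Submodule R L) → x ∈ (J • ⊤ : Submodule R N) := by
  rw [injective_iff_map_eq_zero]
  constructor
  · intro h x hx
    have := h (Submodule.Quotient.mk x) (by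
      rw [LinearMap.reduceModIdeal_apply, Submodule.Quotient.mk_eq_zero]; exact hx)
    exact (Submodule.Quotient.mk_eq_zero _).mp this
  · intro h z hz
    obtain ⟨x, rfl⟩ := Submodule.Quotient.mk_surjective _ z
    rw [LinearMap.reduceModIdeal_apply, Submodule.Quotient.mk_eq_zero] at hz
    exact (Submodule.Quotient.mk_eq_zero _).mpr (h x hz)

end Compl

section PartA
variable {R : Type u} [CommRing R] (I : Ideal R)
  {K P M : Type u} [AddCommGroup K] [Module R K] [AddCommGroup P] [Module R P]
  [AddCommGroup M] [Module R M] (f : K →ₗ[R] P) (g : P →ₗ[R] M)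

theorem partA (hf : Function.Injective f) (hg : Function.Surjective g)
    (hfg : Function.Exact f g) [Module.Flat R M] :
    Function.Injective (AdicCompletion.map I f) ∧
      Function.Exact (AdicCompletion.map I f) (AdicCompletion.map I g) := by
  have hinj : ∀ n, Function.Injective (f.reduceModIdeal (I ^ n)) := fun n =>
    (reduceModIdeal_injective_iff (I ^ n) f).mpr
      (fun x hx => mem_smul_top_of_flat (I ^ n) f g hf hg hfg x hx)
  refine ⟨map_injective_of_forall I f hinj, ?_⟩
  intro y
  constructor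
  · intro hy
    refine exists_of_forall_mem_range I f hinj y ?_
    intro n
    have hyn : g.reduceModIdeal (I ^ n) (y.val n) = 0 := by
      have := congrArg (fun w => w.val n) hy
      simpa using this
    obtain ⟨p, hp⟩ := Submodule.Quotient.mk_surjective _ (y.val n)
    rw [← hp, LinearMap.reduceModIdeal_apply, Submodule.Quotient.mk_eq_zero] at hyn
    -- g p ∈ I^n • ⊤ = map g (I^n • ⊤)
    have hmap : (I ^ n • ⊤ : Submodule R M) = Submodule.map g (I ^ n • ⊤ : Submodule R P) := by
      rw [Submodule.map_smul'', Submodule.map_top, LinearMap.range_eq_top.mpr hg]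
    rw [hmap] at hyn
    obtain ⟨p', hp', hgp'⟩ := hyn
    have h0 : g (p - p') = 0 := by rw [map_sub, hgp', sub_self]
    obtain ⟨k, hk⟩ := (hfg _).mp h0
    refine ⟨Submodule.Quotient.mk k, ?_⟩
    rw [LinearMap.reduceModIdeal_apply, hk, ← hp]
    rw [Submodule.Quotient.eq]
    have : p - p' - p = -p' := by abel
    rw [this]
    exact Submodule.neg_mem _ hp'
  · rintro ⟨x, rfl⟩
    rw [AdicCompletion.map_comp_apply]
    have : g ∘ₗ f = 0 := LinearMap.ext fun k => hfg.apply_apply_eq_zero k
    rw [this]
    apply AdicCompletion.ext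
    intro n
    rw [AdicCompletion.map_val_apply]
    obtain ⟨k, hk⟩ := Submodule.Quotient.mk_surjective _ (x.val n)
    rw [← hk, LinearMap.reduceModIdeal_apply]
    rfl

end PartA

section Free
open TensorProduct Groth.Agent.Lib.Helper2
variable {R : Type u} [CommRing R] (I : Ideal R)
  {P M : Type u} [AddCommGroup P] [Module R P] [AddCommGroup M] [Module R M]

theorem pow_smul_top_quot (n : ℕ) : (I ^ n • (⊤ : Submodule R (R ⧸ I ^ n))) = ⊥ := by
  rw [Submodule.eq_bot_iff]
  intro x hx
  refine Submodule.smul_induction_on hx ?_ ?_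
  · intro r hr y _
    obtain ⟨z, rfl⟩ := Ideal.Quotient.mk_surjective y
    have : r • (Ideal.Quotient.mk (I ^ n) z) = Ideal.Quotient.mk (I ^ n) (r * z) := by
      rw [Algebra.smul_def, Ideal.Quotient.algebraMap_eq, map_mul]
    rw [this, Ideal.Quotient.eq_zero_iff_mem]
    exact Ideal.mul_mem_right _ _ hr
  · intro x y hx hy
    rw [hx, hy, add_zero]

theorem sup_pow_eq_top {ι : Type u} (u : (ι →₀ R) →ₗ[R] M)
    (hsup : LinearMap.range u ⊔ I • (⊤ : Submodule R M) = ⊤) (n : ℕ) :
    LinearMap.range u ⊔ I ^ n • (⊤ : Submodule R M) = ⊤ := by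
  induction n with
  | zero => rw [pow_zero, Ideal.one_eq_top, Submodule.top_smul, sup_top_eq]
  | succ n ih =>
    rw [eq_top_iff]
    have h1 : I ^ n • LinearMap.range u ≤ LinearMap.range u := Submodule.smul_le_right
    have h2 : LinearMap.range u ≤ LinearMap.range u ⊔ I ^ (n + 1) • (⊤ : Submodule R M) :=
      le_sup_left
    have h3 : I ^ (n + 1) • (⊤ : Submodule R M) ≤
        LinearMap.range u ⊔ I ^ (n + 1) • (⊤ : Submodule R M) := le_sup_right
    have h4 : I ^ n • (⊤ : Submodule R M) ≤
        LinearMap.range u ⊔ I ^ (n + 1) • (⊤ : Submodule R M) := by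
      conv_lhs => rw [← hsup]
      rw [Submodule.smul_sup, ← Submodule.mul_smul, ← pow_succ]
      exact sup_le (h1.trans h2) h3
    calc (⊤ : Submodule R M) = LinearMap.range u ⊔ I ^ n • (⊤ : Submodule R M) := ih.symm
      _ ≤ _ := sup_le h2 h4

theorem reduce_bijective_of_cover [Module.Flat R M] {ι : Type u} (u : (ι →₀ R) →ₗ[R] M)
    (hbij : Function.Bijective (u.lTensor (R ⧸ I)))
    (hsup : LinearMap.range u ⊔ I • (⊤ : Submodule R M) = ⊤) (n : ℕ) :
    Function.Bijective (u.reduceModIdeal (I ^ n)) := by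
  constructor
  · rw [reduceModIdeal_injective_iff]
    intro x hx
    have H : ∀ (P : Type u) [AddCommGroup P] [Module R P],
        (I • (⊤ : Submodule R P) = ⊥) → Function.Injective (u.lTensor P) := by
      intro P _ _ hP
      have hPm : Module.IsTorsionBySet R P (I : Set R) := by
        intro x a
        have h1 : (a : R) • x ∈ I • (⊤ : Submodule R P) :=
          Submodule.smul_mem_smul a.2 Submodule.mem_top
        rw [hP, Submodule.mem_bot] at h1
        exact h1
      let _ : Module (R ⧸ I) P := hPm.module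
      have : IsScalarTower R (R ⧸ I) P := hPm.isScalarTower
      exact NilpFree2.lTensor_injective_of_bijective (R ⧸ I) P u hbij
    have hinj := NilpFree.lTensor_injective_of_pow_smul_eq_bot I u H n (R ⧸ I ^ n)
      (pow_smul_top_quot I n)
    rw [← FlatCrit.one_tmul_eq_zero_iff] at hx ⊢
    apply hinj
    rw [LinearMap.lTensor_tmul, hx, map_zero]
  · intro z
    obtain ⟨m, rfl⟩ := Submodule.Quotient.mk_surjective _ z
    have hm : m ∈ LinearMap.range u ⊔ I ^ n • (⊤ : Submodule R M) := by
      rw [sup_pow_eq_top I u hsup n]; trivial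
    obtain ⟨_, ⟨φ, rfl⟩, w, hw, rfl⟩ := Submodule.mem_sup.mp hm
    refine ⟨Submodule.Quotient.mk φ, ?_⟩
    rw [LinearMap.reduceModIdeal_apply, Submodule.Quotient.eq]
    have : u φ - (u φ + w) = -w := by abel
    rw [this]
    exact Submodule.neg_mem _ hw

theorem section_of_free [Module.Flat R M] (g : P →ₗ[R] M) (hg : Function.Surjective g)
    (hfree : Module.Free (R ⧸ I) ((R ⧸ I) ⊗[R] M)) :
    ∃ s : AdicCompletion I M →ₗ[AdicCompletion I R] AdicCompletion I P,
        AdicCompletion.map I g ∘ₗ s = LinearMap.id := by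
  obtain ⟨ι, u, hbij, hsup⟩ := NilpFree2.exists_cover_of_free I hfree
  have hb : ∀ n, Function.Bijective (u.reduceModIdeal (I ^ n)) :=
    reduce_bijective_of_cover I u hbij hsup
  have hU : Function.Bijective (AdicCompletion.map I u) :=
    ⟨map_injective_of_forall I u (fun n => (hb n).1),
      fun y => exists_of_forall_mem_range I u (fun n => (hb n).1) y (fun n => (hb n).2 _)⟩
  obtain ⟨t, ht⟩ := Module.projective_lifting_property g u hg
  let e := LinearEquiv.ofBijective (AdicCompletion.map I u) hU
  refine ⟨AdicCompletion.map I t ∘ₗ e.symm.toLinearMap, ?_⟩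
  rw [← LinearMap.comp_assoc, AdicCompletion.map_comp, ht]
  ext y
  simp [e]

end Free

section Wrap
open TensorProduct Groth.Agent.Lib.Helper23
variable {R : Type u} [CommRing R] (I : Ideal R)
  {P M : Type u} [AddCommGroup P] [Module R P] [AddCommGroup M] [Module R M]

theorem partB [Module.Flat R M] [Module.Projective (R ⧸ I) (M ⧸ (I • ⊤ : Submodule R M))]
    (g : P →ₗ[R] M) (hg : Function.Surjective g) :
    ∃ s : AdicCompletion I M →ₗ[AdicCompletion I R] AdicCompletion I P,
        AdicCompletion.map I g ∘ₗ s = LinearMap.id := by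
  classical
  let e0 : (R ⧸ I) ⊗[R] M ≃ₗ[R ⧸ I] M ⧸ (I • ⊤ : Submodule R M) :=
    (quotTensorEquivQuotSMul M I).extendScalarsOfSurjective Ideal.Quotient.mk_surjective
  haveI : Module.Projective (R ⧸ I) ((R ⧸ I) ⊗[R] M) := Module.Projective.of_equiv e0.symm
  obtain ⟨κ, ⟨e⟩⟩ := NilProj.swindle (S := R ⧸ I) ((R ⧸ I) ⊗[R] M)
  haveI : Module.Flat R (M × (κ →₀ R)) := NilProj.flat_prod
  let e' : ((R ⧸ I) ⊗[R] (M × (κ →₀ R))) ≃ₗ[R ⧸ I] (κ →₀ (R ⧸ I)) :=
    (TensorProduct.prodRight R (R ⧸ I) (R ⧸ I) M (κ →₀ R)) ≪≫ₗ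
    (LinearEquiv.prodCongr (LinearEquiv.refl (R ⧸ I) _)
      (TensorProduct.finsuppScalarRight R (R ⧸ I) (R ⧸ I) κ)) ≪≫ₗ e
  have hfree : Module.Free (R ⧸ I) ((R ⧸ I) ⊗[R] (M × (κ →₀ R))) :=
    Module.Free.of_equiv e'.symm
  let g' : (P × (κ →₀ R)) →ₗ[R] (M × (κ →₀ R)) := g.prodMap LinearMap.id
  have hg' : Function.Surjective g' := Function.Surjective.prodMap hg Function.surjective_id
  obtain ⟨s', hs'⟩ := section_of_free I g' hg' hfree
  refine ⟨AdicCompletion.map I (LinearMap.fst R P (κ →₀ R)) ∘ₗ s' ∘ₗ
    AdicCompletion.map I (LinearMap.inl R M (κ →₀ R)), ?_⟩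
  have h1 : g ∘ₗ LinearMap.fst R P (κ →₀ R) = LinearMap.fst R M (κ →₀ R) ∘ₗ g' := by
    ext <;> simp [g']
  have h2 : LinearMap.fst R M (κ →₀ R) ∘ₗ LinearMap.inl R M (κ →₀ R) = LinearMap.id := by
    ext; simp
  rw [← LinearMap.comp_assoc, AdicCompletion.map_comp, h1, ← AdicCompletion.map_comp,
    LinearMap.comp_assoc, ← LinearMap.comp_assoc _ s', hs', LinearMap.id_comp,
    AdicCompletion.map_comp, h2, AdicCompletion.map_id]

end Wrap


/-- Let R be a ring, I an ideal, and 0 → K → P → M → 0 a short exact sequence of R-modules with M flat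
over R and M/IM projective over R/I. Then the induced sequence of I-adic completions is split short
exact: the map on completions of K → P is injective, the sequence is exact in the middle, and the
map on completions of P → M has a section linear over the completion of R (so it is surjective). -/
theorem result (R : Type u) [CommRing R] (I : Ideal R)
    (K P M : Type u) [AddCommGroup K] [Module R K] [AddCommGroup P] [Module R P]
    [AddCommGroup M] [Module R M] (f : K →ₗ[R] P) (g : P →ₗ[R] M)
    (hf : Function.Injective f) (hg : Function.Surjective g) (hfg : Function.Exact f g)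
    [Module.Flat R M] [Module.Projective (R ⧸ I) (M ⧸ (I • ⊤ : Submodule R M))] :
    Function.Injective (AdicCompletion.map I f) ∧
      Function.Exact (AdicCompletion.map I f) (AdicCompletion.map I g) ∧
      ∃ s : AdicCompletion I M →ₗ[AdicCompletion I R] AdicCompletion I P,
        AdicCompletion.map I g ∘ₗ s = LinearMap.id := by
  obtain ⟨h1, h2⟩ := partA I f g hf hg hfg
  exact ⟨h1, h2, partB I g hg⟩

end Groth.Agent.S9131
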